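import Groth.Statements.S1954
import Mathlib
import Groth.Agent.Lib.Helper90.CycOne4
import Groth.Agent.Lib.Helper90.IntMultCM
import Groth.Agent.Lib.Helper30.SmoothRegular
import Groth.Agent.Lib.Helper77.RegularCM

set_option autoImplicit false
universe u
open CategoryTheory CategoryTheory.Limits AlgebraicGeometry
attribute [local instance] HasDerivedCategory.standard
open IntMult

namespace Groth.Agent.S1954

/-- Let Y, Z → X be closed immersions into a nonsingular variety with δ ≤ r on Y and δ ≤ s on Z, such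
that [Y]_r and [Z]_s intersect properly, and let τ be a point of δ-dimension r + s − n lying under Y
and Z (the generic point of a component of the intersection of components of dimension r and s) at
which the scheme-theoretic intersection Y ×_X Z has multiplicity 1 (its local ring there has length
1). Then the coefficient of the closure of τ in [Y]_r · [Z]_s is 1, and the local rings of Y and Z
at the points over τ are regular. (The published statement has further parts, not restated here.)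
Here X is a nonsingular variety over the algebraically closed field K (smooth, separated,
quasi-compact, integral) with dimension function δ (transcendence degree) and n = dim X; cycles are
Mathlib AlgebraicCycles with Cyc.Zk membership, proper intersection is IntMult.IntersectProperly and
α · β is the Tor-formula intersection product on coefficient functions (IntMult.interProd), bundled
where needed as 'any cycle with these coefficients'. -/
theorem result (K : Type u) [Field K] [IsAlgClosed K] (X : Scheme.{u}) (f : X ⟶ Spec (CommRingCat.of K)) [Smooth f] [IsSeparated f] [QuasiCompact f] [IsIntegral X] (δ : X → ℤ) (hX : Cyc.IsSetup X δ) (hδ : Cyc.DeltaCompat f δ (fun _ => 0)) (n : ℤ) (hn : δ (genericPoint X) = n) (Y Z : Scheme.{u}) (ιY : Y ⟶ X) (ιZ : Z ⟶ X) [IsClosedImmersion ιY] [IsClosedImmersion ιZ] (r s : ℤ) (hY : ∀ y : Y, δ (ιY y) ≤ r) (hZ : ∀ z : Z, δ (ιZ z) ≤ s) (hprop : IntMult.IntersectProperly δ n (Cyc.subschemeFun δ r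 ιY) (Cyc.subschemeFun δ s ιZ)) (τ : X) (hτ : δ τ = r + s - n) (hξ : ∃ ξ η : X, Cyc.subschemeFun δ r ιY ξ ≠ 0 ∧ Cyc.subschemeFun δ s ιZ η ≠ 0 ∧ ξ ⤳ τ ∧ η ⤳ τ) (hmult : Cyc.subschemeFun δ (r + s - n) (pullback.fst ιY ιZ ≫ ιY) τ = 1) : IntMult.interProd δ n (Cyc.subschemeFun δ r ιY) (Cyc.subschemeFun δ s ιZ) τ = 1 ∧ (∀ y : Y, ιY y = τ → IsRegularLocalRing (Y.presheaf.stalk y)) ∧ (∀ z : Z, ιZ z = τ → IsRegularLocalRing (Z.presheaf.stalk z)) := by
  classical
  obtain ⟨hLN, hcat, hdimfun⟩ := hX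
  haveI : IsLocallyNoetherian X := hLN
  haveI hregO : IsRegularLocalRing (X.presheaf.stalk τ) :=
    Groth.Agent.Lib.Helper30.SmoothRegular.stalk_regular_of_smooth_field K f τ
  obtain ⟨ξ₀, η₀, hαξ, hβη, hξτ, hητ⟩ := hξ
  obtain ⟨hδξ, hξY⟩ := Groth.Agent.Lib.Helper90.CycOne.facts_of_subschemeFun_ne_zero δ r ιY ξ₀ hαξ
  obtain ⟨hδη, hηZ⟩ := Groth.Agent.Lib.Helper90.CycOne.facts_of_subschemeFun_ne_zero δ s ιZ η₀ hβη
  -- numerical facts
  have hrn : r ≤ n := by
    rw [← hδξ, ← hn]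
    exact Groth.Agent.Lib.Helper73.cyc_le_of_specializes δ hdimfun (genericPoint_specializes ξ₀)
  have hsn : s ≤ n := by
    rw [← hδη, ← hn]
    exact Groth.Agent.Lib.Helper73.cyc_le_of_specializes δ hdimfun (genericPoint_specializes η₀)
  have hdimO : ringKrullDim (X.presheaf.stalk τ) = (((n - δ τ).toNat : ℕ) : WithBot ℕ∞) := by
    rw [← hn]
    exact Groth.Agent.Lib.Helper90.CycOne.ringKrullDim_stalk δ hdimfun τ
  have hdimP := Groth.Agent.Lib.Helper90.CycOne.ringKrullDim_quot_primeOf δ hdimfun hξτ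
  have hdimQ := Groth.Agent.Lib.Helper90.CycOne.ringKrullDim_quot_primeOf δ hdimfun hητ
  rw [hδξ] at hdimP
  rw [hδη] at hdimQ
  have h𝔞le := Groth.Agent.Lib.Helper90.CycOne.stalkIdeal_ker_le_primeOf ιY hξτ hξY
  have h𝔟le := Groth.Agent.Lib.Helper90.CycOne.stalkIdeal_ker_le_primeOf ιZ hητ hηZ
  -- the sum of the two ideals is the maximal ideal
  have hmaxl := Groth.Agent.Lib.Helper90.CycOne.isMaximal_of_subschemeFun_eq_one δ (r + s - n)
    (pullback.fst ιY ιZ ≫ ιY) τ hmult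
  rw [Groth.Agent.Lib.Helper90.CycOne.ker_pullback_fst_comp,
    Groth.Agent.Lib.Helper90.DiagSch.stalkIdeal_sup] at hmaxl
  have hPQ : IntMult.stalkIdeal ιY.ker τ ⊔ IntMult.stalkIdeal ιZ.ker τ =
      IsLocalRing.maximalIdeal (X.presheaf.stalk τ) := IsLocalRing.eq_maximalIdeal hmaxl
  have ha : (((r - δ τ).toNat : ℕ) : WithBot ℕ∞) ≤
      ringKrullDim (X.presheaf.stalk τ ⧸ IntMult.stalkIdeal ιY.ker τ) := by
    rw [← hdimP]
    exact ringKrullDim_le_of_surjective (Ideal.Quotient.factor h𝔞le)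
      (Ideal.Quotient.factor_surjective h𝔞le)
  have hb : (((s - δ τ).toNat : ℕ) : WithBot ℕ∞) ≤
      ringKrullDim (X.presheaf.stalk τ ⧸ IntMult.stalkIdeal ιZ.ker τ) := by
    rw [← hdimQ]
    exact ringKrullDim_le_of_surjective (Ideal.Quotient.factor h𝔟le)
      (Ideal.Quotient.factor_surjective h𝔟le)
  have hNle : (n - δ τ).toNat ≤ (r - δ τ).toNat + (s - δ τ).toNat := by
    rw [hτ]
    omega
  obtain ⟨hregA, hregB, hdA, hdB, c, g, hg, hreg, hc⟩ :=
    Groth.Agent.Lib.Helper90.CycOne.split_regular_of_le (X.presheaf.stalk τ) _ hdimO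
      (IntMult.stalkIdeal ιY.ker τ) (IntMult.stalkIdeal ιZ.ker τ) hPQ _ _ ha hb hNle
  haveI : IsDomain (X.presheaf.stalk τ ⧸ IntMult.stalkIdeal ιY.ker τ) :=
    Groth.Agent.Lib.Helper76.isDomain_of_isRegularLocalRing _
  haveI : IsDomain (X.presheaf.stalk τ ⧸ IntMult.stalkIdeal ιZ.ker τ) :=
    Groth.Agent.Lib.Helper76.isDomain_of_isRegularLocalRing _
  refine ⟨?_, ?_, ?_⟩
  rotate_left
  · intro y hy
    obtain ⟨e⟩ := Groth.Agent.Lib.Helper90.CycOne.nonempty_stalkRingEquiv ιY y τ hy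
    exact IsRegularLocalRing.of_ringEquiv e
  · intro z hz
    obtain ⟨e⟩ := Groth.Agent.Lib.Helper90.CycOne.nonempty_stalkRingEquiv ιZ z τ hz
    exact IsRegularLocalRing.of_ringEquiv e
  -- the intersection product
  have huY : ∀ {ξ : X} (h : ξ ⤳ τ), Cyc.subschemeFun δ r ιY ξ ≠ 0 →
      IntMult.stalkIdeal ιY.ker τ = Groth.Agent.Lib.Helper64.StalkSpec.primeOf h := fun h hα =>
    Groth.Agent.Lib.Helper90.CycOne.stalkIdeal_ker_eq_primeOf δ hdimfun r ιY τ hdA h hα
  have huZ : ∀ {η : X} (h : η ⤳ τ), Cyc.subschemeFun δ s ιZ η ≠ 0 →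
      IntMult.stalkIdeal ιZ.ker τ = Groth.Agent.Lib.Helper64.StalkSpec.primeOf h := fun h hβ =>
    Groth.Agent.Lib.Helper90.CycOne.stalkIdeal_ker_eq_primeOf δ hdimfun s ιZ τ hdB h hβ
  have hα1 : Cyc.subschemeFun δ r ιY ξ₀ = 1 :=
    Groth.Agent.Lib.Helper90.CycOne.subschemeFun_eq_one δ r ιY hξτ (huY hξτ hαξ) hαξ
  have hβ1 : Cyc.subschemeFun δ s ιZ η₀ = 1 :=
    Groth.Agent.Lib.Helper90.CycOne.subschemeFun_eq_one δ s ιZ hητ (huZ hητ hβη) hβη
  have hlen1 : Module.length (X.presheaf.stalk τ)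
      (↑(X.presheaf.stalk τ) ⧸ (IntMult.stalkIdeal ιY.ker τ ⊔ IntMult.stalkIdeal ιZ.ker τ)) = 1 := by
    rw [hPQ]
    exact Groth.Agent.Lib.Helper90.CycOne.length_quotient_maximalIdeal
  have hmult1 : IntMult.mult (IntMult.ptIdeal ξ₀) (IntMult.ptIdeal η₀) τ = 1 := by
    unfold IntMult.mult
    rw [Groth.Agent.Lib.Helper90.CycOne.stalkIdeal_ptIdeal hξτ,
      Groth.Agent.Lib.Helper90.CycOne.stalkIdeal_ptIdeal hητ, ← huY hξτ hαξ, ← huZ hητ hβη]
    have hCM : LocCoh.IsCohenMacaulayLocalRing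
        (↑(X.presheaf.stalk τ) ⧸ IntMult.stalkIdeal ιZ.ker τ) :=
      Groth.Agent.Lib.Helper77.RegularCM.isCohenMacaulayLocalRing _
    have hfl : IsFiniteLength (X.presheaf.stalk τ)
        (↑(X.presheaf.stalk τ) ⧸ (IntMult.stalkIdeal ιZ.ker τ ⊔ Ideal.span (Set.range g))) := by
      rw [← hg, sup_comm, ← Module.length_ne_top_iff, hlen1]
      exact ENat.one_ne_top
    have hc' : (c : WithBot ℕ∞) ≤
        ringKrullDim (↑(X.presheaf.stalk τ) ⧸ IntMult.stalkIdeal ιZ.ker τ) := by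
      rw [hdB, hc]
    have key := Groth.Agent.Lib.Helper90.IntMultCM.chi_eq_length_of_CM
      (IntMult.stalkIdeal ιZ.ker τ) c g hreg hfl hc' hCM
    rw [hg, key, ← hg, sup_comm, hlen1]
    rfl
  have hδsum : δ ξ₀ + δ η₀ - n = δ τ := by rw [hδξ, hδη, hτ]
  unfold IntMult.interProd
  rw [finsum_eq_single _
    (⟨(ξ₀, η₀), hξτ, hητ, hδsum⟩ : {p : X × X // p.1 ⤳ τ ∧ p.2 ⤳ τ ∧ δ p.1 + δ p.2 - n = δ τ})]
  · change Cyc.subschemeFun δ r ιY ξ₀ * Cyc.subschemeFun δ s ιZ η₀ *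
      IntMult.mult (IntMult.ptIdeal ξ₀) (IntMult.ptIdeal η₀) τ = 1
    rw [hα1, hβ1, hmult1]
    norm_num
  · rintro ⟨⟨ξ, η⟩, h1, h2, h3⟩ hne
    by_contra hterm
    have hαβ := left_ne_zero_of_mul hterm
    have hα : Cyc.subschemeFun δ r ιY ξ ≠ 0 := left_ne_zero_of_mul hαβ
    have hβ : Cyc.subschemeFun δ s ιZ η ≠ 0 := right_ne_zero_of_mul hαβ
    have e1 : ξ = ξ₀ := Groth.Agent.Lib.Helper90.CycOne.eq_of_primeOf_eq h1 hξτ
      ((huY h1 hα).symm.trans (huY hξτ hαξ))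
    have e2 : η = η₀ := Groth.Agent.Lib.Helper90.CycOne.eq_of_primeOf_eq h2 hητ
      ((huZ h2 hβ).symm.trans (huZ hητ hβη))
    subst e1 e2
    exact hne rfl

end Groth.Agent.S1954
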