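import Groth.Statements.S19540
import Mathlib

set_option autoImplicit false
open CategoryTheory CategoryTheory.Limits Opposite
universe w v u
open CohSite

namespace Groth.Agent.S19540

section Aux
open CategoryTheory CategoryTheory.Limits Opposite


variable {C : Type u} [Category.{v} C] (J : GrothendieckTopology C) [HasSheafify J AddCommGrpCat.{w}]
    [J.WEqualsLocallyBijective AddCommGrpCat.{w}]

/-- sections functor -/
noncomputable abbrev Γ (U : C) : Sheaf J AddCommGrpCat.{w} ⥤ AddCommGrpCat.{w} :=
  sheafToPresheaf J AddCommGrpCat.{w} ⋙ (evaluation Cᵒᵖ AddCommGrpCat.{w}).obj (op U)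

instance (U : C) : (Γ J U).PreservesZeroMorphisms := by
  dsimp only [Γ]; infer_instance

noncomputable instance (U : C) : PreservesLimits (Γ J U) := by
  haveI : PreservesLimits (sheafToPresheaf J AddCommGrpCat.{w}) :=
    (sheafificationAdjunction J AddCommGrpCat.{w}).rightAdjoint_preservesLimits
  dsimp only [Γ]; infer_instance

variable (S : ShortComplex (Sheaf J AddCommGrpCat.{w}))

/-- the kernel complex -/
noncomputable abbrev T : ShortComplex (Sheaf J AddCommGrpCat.{w}) :=
  ShortComplex.mk (kernel.ι S.g) S.g (kernel.condition _)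

lemma T_exact : (T J S).Exact :=
  ShortComplex.exact_of_f_is_kernel _ (kernelIsKernel S.g)

lemma T_map_exact (U : C) : ((T J S).map (Γ J U)).Exact :=
  (T_exact J S).map_of_mono_of_preservesKernel (Γ J U) (by dsimp; infer_instance) inferInstance

lemma ι_inj (U : C) : Function.Injective ((kernel.ι S.g).hom.app (op U)) := by
  haveI : Mono ((Γ J U).map (kernel.ι S.g)) := inferInstance
  exact (AddCommGrpCat.mono_iff_injective ((Γ J U).map (kernel.ι S.g))).mp inferInstance

theorem main
    (B : C → Prop)
    (hB : ∀ U : C, B U → ∀ (P Q : Sheaf J (Type w)) (ψ : P ⟶ Q), Epi ψ →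
      Function.Surjective (ψ.hom.app (op U)))
    (hcov : ∀ V : C, ∃ S : Sieve V, S ∈ J V ∧ ∀ ⦃W : C⦄ (f : W ⟶ V), S.arrows f →
      ∃ (U : C) (g : W ⟶ U) (h : U ⟶ V), B U ∧ g ≫ h = f) :
    S.Exact ↔ ∀ U : C, B U → (S.map (Γ J U)).Exact := by
  have hkι : kernel.lift S.g S.f S.zero ≫ kernel.ι S.g = S.f := kernel.lift_ι _ _ _
  have hkι' : ∀ (W : C) (x : S.X₁.obj.obj (op W)),
      (kernel.ι S.g).hom.app (op W) ((kernel.lift S.g S.f S.zero).hom.app (op W) x) =
        S.f.hom.app (op W) x := by
    intro W x
    exact congrArg (fun (φ : S.X₁ ⟶ S.X₂) => φ.hom.app (op W) x) hkι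
  rw [S.exact_iff_epi_kernel_lift, ← Sheaf.isLocallySurjective_iff_epi']
  constructor
  · intro hk U hU
    rw [ShortComplex.ab_exact_iff]
    intro x₂ hx₂
    obtain ⟨y, hy⟩ := (ShortComplex.ab_exact_iff _).mp (T_map_exact J S U) x₂ hx₂
    haveI : Sheaf.IsLocallySurjective
        ((sheafCompose J (forget AddCommGrpCat.{w})).map (kernel.lift S.g S.f S.zero)) := by
      change Presheaf.IsLocallySurjective J
        (Functor.whiskerRight (kernel.lift S.g S.f S.zero).hom (forget AddCommGrpCat.{w}))
      infer_instance
    have hepi : Epi ((sheafCompose J (forget AddCommGrpCat.{w})).map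
      (kernel.lift S.g S.f S.zero)) := inferInstance
    obtain ⟨x₁, hx₁⟩ := hB U hU _ _ _ hepi y
    refine ⟨x₁, ?_⟩
    have h1 := hkι' U x₁
    have hx₁' : (kernel.lift S.g S.f S.zero).hom.app (op U) x₁ = y := hx₁
    rw [hx₁'] at h1
    exact h1.symm.trans hy
  · intro h
    constructor
    intro V y
    obtain ⟨R, hR, hfac⟩ := hcov V
    refine J.superset_covering ?_ hR
    intro W f hf
    obtain ⟨U, g, h', hU, hgh⟩ := hfac f hf
    have hex := (ShortComplex.ab_exact_iff _).mp (h U hU)
    have hz : (S.map (Γ J U)).g ((kernel.ι S.g).hom.app (op U) ((kernel S.g).obj.map h'.op y)) = 0 := by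
      have := kernel.condition S.g
      change (kernel.ι S.g ≫ S.g).hom.app (op U) _ = 0
      rw [this]
      rfl
    obtain ⟨x₁, hx₁⟩ := hex _ hz
    have h2 : (kernel.lift S.g S.f S.zero).hom.app (op U) x₁ = (kernel S.g).obj.map h'.op y := by
      apply ι_inj J S U
      rw [hkι' U x₁]
      exact hx₁
    refine ⟨S.X₁.obj.map g.op x₁, ?_⟩
    have h3 := ConcreteCategory.congr_hom ((kernel.lift S.g S.f S.zero).hom.naturality g.op) x₁
    simp only [ConcreteCategory.comp_apply] at h3
    rw [h3, h2, ← hgh]
    simp

end Aux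

/-- Let (C, J) be a site and B a class of objects of C, each weakly contractible (every epimorphism of
sheaves of sets, valued in a fixed universe, is surjective on sections over it), such that every
object V of C has a covering sieve all of whose arrows factor through some object of B. Then a
three-term complex F ⟶ G ⟶ H of abelian sheaves on (C, J) is exact if and only if for every U in B
the sequence of section groups F(U) ⟶ G(U) ⟶ H(U) is exact. (The published statement is for sheaves
of modules over a sheaf of rings O; this row is the case of the constant sheaf of rings ℤ, i.e.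
abelian sheaves, to which exactness questions for O-modules reduce. The universe set-up assumes that
abelian sheafification exists and inverts exactly the locally bijective maps, as on any small site.) -/
theorem result
    {C : Type u} [Category.{v} C] (J : GrothendieckTopology C) [HasSheafify J AddCommGrpCat.{w}]
    [J.WEqualsLocallyBijective AddCommGrpCat.{w}]
    (B : C → Prop)
    (hB : ∀ U : C, B U → ∀ (P Q : Sheaf J (Type w)) (ψ : P ⟶ Q), Epi ψ → Function.Surjective (ψ.hom.app (op U)))
    (hcov : ∀ V : C, ∃ S : Sieve V, S ∈ J V ∧ ∀ ⦃W : C⦄ (f : W ⟶ V), S.arrows f →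
      ∃ (U : C) (g : W ⟶ U) (h : U ⟶ V), B U ∧ g ≫ h = f)
    (S : ShortComplex (Sheaf J AddCommGrpCat.{w})) :
    S.Exact ↔ ∀ U : C, B U →
      (S.map (sheafToPresheaf J AddCommGrpCat.{w} ⋙ (evaluation Cᵒᵖ AddCommGrpCat.{w}).obj (op U))).Exact := by
  exact main J S B hB hcov

end Groth.Agent.S19540
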