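import Groth.Statements.S19548
import Mathlib

set_option autoImplicit false
universe u
open CategoryTheory AlgebraicGeometry
open RedSub

namespace Groth.Agent.S19548

section aux
variable {idx M N : Type} [AddCommGroup M] [AddCommGroup N]

lemma reflectionPerm_conj (P : RootPairing idx ℤ M N) (i j : idx) :
    P.reflectionPerm (P.reflectionPerm j i) =
      P.reflectionPerm j * P.reflectionPerm i * P.reflectionPerm j := by
  ext k
  apply P.root.injective
  simp only [Equiv.Perm.mul_apply, RootPairing.root_reflectionPerm,
    RootPairing.reflection_reflectionPerm, LinearEquiv.mul_apply]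

/-- Elements of the closure of the simple roots are natural combinations. -/
lemma exists_nat_comb (P : RootPairing idx ℤ M N) (b : P.Base) (m : M)
    (hm : m ∈ AddSubmonoid.closure (P.root '' (b.support : Set idx))) :
    ∃ f : idx → ℕ, m = ∑ j ∈ b.support, f j • P.root j := by
  classical
  refine AddSubmonoid.closure_induction ?_ ⟨0, by simp⟩ ?_ hm
  · rintro - ⟨j, hj, rfl⟩
    refine ⟨Pi.single j 1, ?_⟩
    rw [Finset.sum_eq_single_of_mem j hj (by intro k _ hk; simp [Pi.single_apply, hk])]
    simp
  · intro _ _ _ _ ⟨f, hf'⟩ ⟨g, hg'⟩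
    exact ⟨f + g, by simp [hf', hg', add_smul, Finset.sum_add_distrib]⟩

lemma isPos_of_mem_posRoots (P : RootPairing idx ℤ M N) (b : P.Base) (c : idx)
    (hc : c ∈ RedSub.posRoots P b) : b.IsPos c := by
  obtain ⟨f, hf⟩ := exists_nat_comb P b _ hc
  have h : P.root c = ∑ j ∈ b.support, ((fun j => (f j : ℤ)) j) • P.root j := by
    rw [hf]; simp
  rw [RootPairing.Base.isPos_iff', RootPairing.Base.height_eq_sum h]
  exact Finset.sum_nonneg fun j _ => Int.natCast_nonneg _

lemma not_isPos_of_mem_negRoots (P : RootPairing idx ℤ M N) (b : P.Base) (c : idx)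
    (hc : c ∈ RedSub.negRoots P b) : ¬ b.IsPos c := by
  obtain ⟨f, hf⟩ := exists_nat_comb P b _ hc
  have h : P.root c = ∑ j ∈ b.support, ((fun j => -(f j : ℤ)) j) • P.root j := by
    rw [← neg_neg (P.root c), hf]; simp
  rw [RootPairing.Base.isPos_iff, RootPairing.Base.height_eq_sum h, not_lt]
  simp only [Finset.sum_neg_distrib, Left.neg_nonpos_iff]
  exact Finset.sum_nonneg fun j _ => Int.natCast_nonneg _

lemma wordPerm_cons (P : RootPairing idx ℤ M N) (a : idx) (l : List idx) :
    RedSub.wordPerm P (a :: l) = P.reflectionPerm a * RedSub.wordPerm P l := by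
  simp [RedSub.wordPerm]

lemma exchange [Finite idx] (P : RootPairing idx ℤ M N) [P.IsReduced] (b : P.Base) :
    ∀ (l : List idx), (∀ a ∈ l, a ∈ b.support) → ∀ c : idx, b.IsPos c →
      ¬ b.IsPos ((RedSub.wordPerm P l).symm c) →
      ∃ i : ℕ, i < l.length ∧
        P.reflectionPerm c * RedSub.wordPerm P (l.take (i + 1)) = RedSub.wordPerm P (l.take i) := by
  intro l
  induction l with
  | nil =>
    intro _ c hc hneg
    have h1 : RedSub.wordPerm P ([] : List idx) = 1 := by simp [RedSub.wordPerm]
    rw [h1] at hneg
    exact absurd hc hneg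
  | cons a l' ih =>
    intro hl c hc hneg
    have ha : a ∈ b.support := hl a (List.mem_cons_self)
    have hl' : ∀ x ∈ l', x ∈ b.support := fun x hx => hl x (List.mem_cons_of_mem _ hx)
    by_cases hca : c = a
    · subst hca
      refine ⟨0, by simp, ?_⟩
      simp only [zero_add, List.take_succ_cons, List.take_zero]
      rw [wordPerm_cons]
      have : RedSub.wordPerm P ([] : List idx) = 1 := by simp [RedSub.wordPerm]
      rw [this, mul_one, ← sq, P.reflectionPerm_sq]
    · have hc' : b.IsPos (P.reflectionPerm a c) := hc.reflectionPerm ha hca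
      have hneg' : ¬ b.IsPos ((RedSub.wordPerm P l').symm (P.reflectionPerm a c)) := by
        have : (RedSub.wordPerm P (a :: l')).symm c =
            (RedSub.wordPerm P l').symm (P.reflectionPerm a c) := by
          rw [wordPerm_cons]
          change (P.reflectionPerm a * RedSub.wordPerm P l')⁻¹ c = (RedSub.wordPerm P l')⁻¹ _
          rw [mul_inv_rev, Equiv.Perm.mul_apply, P.reflectionPerm_inv]
        rwa [this] at hneg
      obtain ⟨i, hi, hi'⟩ := ih hl' _ hc' hneg'
      refine ⟨i + 1, by simpa using hi, ?_⟩
      simp only [List.take_succ_cons]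
      rw [wordPerm_cons, wordPerm_cons, ← hi', reflectionPerm_conj]
      have hsq : P.reflectionPerm a * P.reflectionPerm a = 1 := by
        rw [← sq, P.reflectionPerm_sq]
      calc P.reflectionPerm c * (P.reflectionPerm a * RedSub.wordPerm P (List.take (i + 1) l'))
          = (P.reflectionPerm a * P.reflectionPerm a) * P.reflectionPerm c * (P.reflectionPerm a *
              RedSub.wordPerm P (List.take (i + 1) l')) := by rw [hsq, one_mul]
        _ = P.reflectionPerm a * (P.reflectionPerm a * P.reflectionPerm c * P.reflectionPerm a *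
              RedSub.wordPerm P (List.take (i + 1) l')) := by simp only [mul_assoc]

end aux

/-- Let Φ be a finite reduced root system (a reduced root pairing over ℤ on a finite index set) with a
base b, let w = σ_{α_1} ⋯ σ_{α_ℓ} be a reduced decomposition of a Weyl group element into simple
reflections (every α_j in the base, and no shorter word in the simple reflections gives the same
permutation of the roots), and let γ be a positive root with w⁻¹(γ) negative. Then for some i with 1
≤ i ≤ ℓ one has σ_γ σ_{α_1} ⋯ σ_{α_i} = σ_{α_1} ⋯ σ_{α_{i-1}}. (Indices are shifted by one below: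
the word is a list and the prefixes are its first i + 1 and first i letters.) -/
theorem result {idx M N : Type}
    [AddCommGroup M] [AddCommGroup N] [Finite idx]
    (P : RootPairing idx ℤ M N) [P.IsReduced] (b : P.Base) (l : List idx)
    (hl : ∀ a ∈ l, a ∈ b.support)
    (hred : ∀ l' : List idx, (∀ a ∈ l', a ∈ b.support) →
      RedSub.wordPerm P l' = RedSub.wordPerm P l → l.length ≤ l'.length)
    (c : idx) (hc : c ∈ RedSub.posRoots P b) (hneg : (RedSub.wordPerm P l).symm c ∈ RedSub.negRoots P b) :
    ∃ i : ℕ, i < l.length ∧
      P.reflectionPerm c * RedSub.wordPerm P (l.take (i + 1)) = RedSub.wordPerm P (l.take i) := by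
  exact exchange P b l hl c (isPos_of_mem_posRoots P b c hc) (not_isPos_of_mem_negRoots P b _ hneg)

end Groth.Agent.S19548
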