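import Mathlib
import Groth.Statements.S19550
-- import your own Groth.Agent.* helpers here

set_option autoImplicit false
universe u
open SchFin SchFin.RSpace

namespace Groth.Agent.S19550

open SchFin

theorem idem_of_connected {R : Type u} [CommRing R] [ConnectedSpace (PrimeSpectrum R)] (e : R)
    (he : IsIdempotentElem e) : e = 0 ∨ e = 1 := by
  have hcl : IsClopen (PrimeSpectrum.basicOpen e : Set (PrimeSpectrum R)) :=
    PrimeSpectrum.isClopen_iff.2 ⟨e, he, rfl⟩
  rcases isClopen_iff.1 hcl with h | h
  · left
    have h1 : PrimeSpectrum.basicOpen e = ⊥ := TopologicalSpace.Opens.ext h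
    have h2 := (PrimeSpectrum.basicOpen_eq_bot_iff e).1 h1
    obtain ⟨n, hn⟩ := h2
    rcases n with _ | n
    · have : (1 : R) = 0 := by simpa using hn
      rw [← mul_one e, this, mul_zero]
    · rwa [he.pow_succ_eq] at hn
  · right
    have h0 : (PrimeSpectrum.basicOpen (1 - e) : Set (PrimeSpectrum R)) = ∅ := by
      have h3 : (PrimeSpectrum.basicOpen e ⊓ PrimeSpectrum.basicOpen (1 - e)) = ⊥ := by
        rw [← PrimeSpectrum.basicOpen_mul, mul_sub, mul_one, he.eq, sub_self,
          PrimeSpectrum.basicOpen_zero]
      have h4 := congrArg (fun U : TopologicalSpace.Opens (PrimeSpectrum R) =>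
        (U : Set (PrimeSpectrum R))) h3
      simp only [TopologicalSpace.Opens.coe_inf, h, Set.univ_inter, TopologicalSpace.Opens.coe_bot]
        at h4
      exact h4
    have h1 : PrimeSpectrum.basicOpen (1 - e) = ⊥ := TopologicalSpace.Opens.ext h0
    obtain ⟨n, hn⟩ := (PrimeSpectrum.basicOpen_eq_bot_iff (1 - e)).1 h1
    have he' : IsIdempotentElem (1 - e) := he.one_sub
    rcases n with _ | n
    · have : (1 : R) = 0 := by simpa using hn
      rw [← mul_one e, this, mul_zero]
    · rw [he'.pow_succ_eq] at hn
      exact (sub_eq_zero.1 hn).symm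


open SchFin in
/-- Let X be a well-connected schematic finite space and f : A → B a morphism of quasi-coherent algebras
between trivial étale covers A ≅ O_X^F and B ≅ O_X^E, F and E finite sets. Then f is induced by a
map of finite sets φ : E → F. Here the trivial algebras are written out: f is a family of
O_p-algebra maps (F → O_p) → (E → O_p), one for each point p, compatible with the restriction maps,
and the conclusion says f_p(g) = g ∘ φ for every p and g. (The published statement names a map F →
E; a map of algebras of functions O^F → O^E is composition with a map E → F, which is what this row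
states.) -/
theorem result (X : RSpace.{u})
    (hX : X.IsSchematic) (hW : X.IsWellConnected) (F E : Type) [Finite F] [Finite E]
    (f : ∀ p : X.pt, (F → X.ring p) →ₐ[X.ring p] (E → X.ring p))
    (hf : ∀ (p q : X.pt) (h : p ≤ q) (g : F → X.ring p) (e : E),
      X.res h (f p g e) = f q (fun i => X.res h (g i)) e) :
    ∃ φ : E → F, ∀ (p : X.pt) (g : F → X.ring p) (e : E), f p g e = g (φ e) := by
  classical
  obtain ⟨hconn, hpw⟩ := hW
  have hconn' : ConnectedSpace (PrimeSpectrum (X.sectRing Set.univ)) := hconn
  have hnt : ∀ p, Nontrivial (X.ring p) := fun p => by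
    have : ConnectedSpace (PrimeSpectrum (X.ring p)) := hpw p
    exact (PrimeSpectrum.nonempty_iff_nontrivial).1 inferInstance
  cases nonempty_fintype F
  have key : ∀ p e, ∃ i : F, ∀ g : F → X.ring p, f p g e = g i := by
    intro p e
    have : ConnectedSpace (PrimeSpectrum (X.ring p)) := hpw p
    have := hnt p
    let h : (F → X.ring p) →ₐ[X.ring p] X.ring p :=
      (Pi.evalAlgHom (X.ring p) (fun _ : E => X.ring p) e).comp (f p)
    have hid : ∀ i, h (Pi.single i 1) = 0 ∨ h (Pi.single i 1) = 1 := fun i =>
      idem_of_connected _ (by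
        show _ * _ = _
        rw [← map_mul, ← Pi.single_mul, mul_one])
    have hsum : ∑ i, h (Pi.single i 1) = 1 := by
      rw [← map_sum, Finset.univ_sum_single]
      exact map_one h
    have hex : ∃ i, h (Pi.single i 1) = 1 := by
      by_contra hne
      push Not at hne
      have h0 : ∀ i, h (Pi.single i 1) = 0 := fun i => (hid i).resolve_right (hne i)
      rw [Finset.sum_eq_zero (fun i _ => h0 i)] at hsum
      exact zero_ne_one hsum
    obtain ⟨i, hi⟩ := hex
    have horth : ∀ j, j ≠ i → h (Pi.single j 1) = 0 := by
      intro j hj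
      have h1 : h (Pi.single j 1) * h (Pi.single i 1) = 0 := by
        rw [← map_mul]
        have : (Pi.single j 1 : F → X.ring p) * Pi.single i 1 = 0 := by
          ext k
          simp only [Pi.mul_apply, Pi.single_apply, Pi.zero_apply]
          split_ifs with h2 h3
          · exact absurd (h2.symm.trans h3) hj
          · simp
          · simp
          · simp
        rw [this, map_zero]
      rwa [hi, mul_one] at h1
    refine ⟨i, fun g => ?_⟩
    show h g = g i
    have hg : g = ∑ j, g j • (Pi.single j 1 : F → X.ring p) := by
      ext k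
      simp [Finset.sum_apply, Pi.single_apply]
    conv_lhs => rw [hg]
    rw [map_sum]
    simp only [map_smul, smul_eq_mul]
    rw [Finset.sum_eq_single i (fun j _ hj => by rw [horth j hj, mul_zero]) (by simp), hi, mul_one]
  choose φ hφ using key
  have hcomp : ∀ p q (_ : p ≤ q) e, φ q e = φ p e := by
    intro p q h e
    by_contra hne
    have := hnt q
    have h1 := hf p q h (Pi.single (φ p e) 1) e
    rw [hφ, hφ] at h1
    simp only [Pi.single_eq_same, map_one, Pi.single_apply, if_neg hne, map_zero] at h1
    exact one_ne_zero h1
  have hne : Nonempty X.pt := by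
    by_contra hemp
    rw [not_nonempty_iff] at hemp
    have : Nontrivial (X.sectRing Set.univ) :=
      (PrimeSpectrum.nonempty_iff_nontrivial).1 hconn'.toNonempty
    obtain ⟨a, b, hab⟩ := this
    apply hab
    ext q
    exact (hemp.false q.1).elim
  obtain ⟨p₀⟩ := hne
  refine ⟨φ p₀, fun p g e => ?_⟩
  rw [hφ]
  congr 1
  let s : (q : ↥(Set.univ : Set X.pt)) → X.ring q.1 := fun q => if φ q.1 e = φ p₀ e then 1 else 0
  have hs : s ∈ X.sectRing Set.univ := by
    intro q q' h
    show X.res h (if φ q.1 e = φ p₀ e then 1 else 0) = if φ q'.1 e = φ p₀ e then 1 else 0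
    rw [hcomp q.1 q'.1 h e]
    split_ifs <;> simp
  have hidem : IsIdempotentElem (⟨s, hs⟩ : X.sectRing Set.univ) := by
    apply Subtype.ext
    funext q
    show s q * s q = s q
    simp only [s]
    split_ifs <;> simp
  have h01 := idem_of_connected _ hidem
  have := hnt p₀
  have := hnt p
  rcases h01 with h0 | h1
  · have := congrArg (fun t : X.sectRing Set.univ => t.1 ⟨p₀, trivial⟩) h0
    simp [s] at this
  · have := congrArg (fun t : X.sectRing Set.univ => t.1 ⟨p, trivial⟩) h1
    by_contra hcon
    simp [s, hcon] at this


end Groth.Agent.S19550
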