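import Groth.Statements.S19551
import Mathlib


namespace Groth.Agent.S19551

open Polynomial Matrix

variable {K : Type*} [Field K]

/-- the polynomial matrix `M0 + X M1` -/
noncomputable def pm {k : ℕ} (M0 M1 : Matrix (Fin k) (Fin k) K) : Matrix (Fin k) (Fin k) K[X] :=
  M0.map C + (X : K[X]) • M1.map C

theorem pm_eval {k : ℕ} (M0 M1 : Matrix (Fin k) (Fin k) K) (t : K) :
    (pm M0 M1).map (Polynomial.eval t) = M0 + t • M1 := by
  ext i j
  simp only [pm, Matrix.map_apply, Matrix.add_apply, Matrix.smul_apply, smul_eq_mul,
    Polynomial.eval_add, Polynomial.eval_mul, Polynomial.eval_X, Polynomial.eval_C]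

theorem det_pm_eval {k : ℕ} (M0 M1 : Matrix (Fin k) (Fin k) K) (t : K) :
    (pm M0 M1).det.eval t = (M0 + t • M1).det := by
  rw [← pm_eval]
  exact RingHom.map_det (Polynomial.evalRingHom t) _

theorem main {V W : Type*} [AddCommGroup V] [Module K V] [FiniteDimensional K V]
    [AddCommGroup W] [Module K W] [FiniteDimensional K W] [Infinite K]
    (f : Fin 2 → (V →ₗ[K] W)) (k : ℕ)
    (hV : Module.finrank K V = k) (hW : Module.finrank K W = k)
    (hf : KronMod.IsSemistable f) :
    ∃ z : Fin 2 → K, Function.Bijective ((∑ j, z j • f j : V →ₗ[K] W) : V → W) := by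
  classical
  have hk : 0 < k := by
    have := hf.1
    omega
  let b : Module.Basis (Fin k) K V := Module.finBasisOfFinrankEq K V hV
  let c : Module.Basis (Fin k) K W := Module.finBasisOfFinrankEq K W hW
  set M0 := LinearMap.toMatrix b c (f 0) with hM0
  set M1 := LinearMap.toMatrix b c (f 1) with hM1
  by_cases hdet : (pm M0 M1).det = 0
  · exfalso
    obtain ⟨v, hv0, hv⟩ := Matrix.exists_mulVec_eq_zero_iff.mpr hdet
    let x : ℕ → V := fun i => b.equivFun.symm (fun m => (v m).coeff i)
    have hrepr : ∀ i, (b.repr (x i) : Fin k → K) = fun m => (v m).coeff i := by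
      intro i
      have := b.equivFun.apply_symm_apply (fun m => (v m).coeff i)
      rw [Module.Basis.equivFun_apply] at this
      exact this
    have hrow : ∀ r, ∑ m, (C (M0 r m) + X * C (M1 r m)) * v m = 0 := by
      intro r
      have := congrFun hv r
      simpa [pm, Matrix.mulVec, dotProduct] using this
    have hrel0 : f 0 (x 0) = 0 := by
      apply c.repr.injective
      rw [map_zero]
      ext r
      have h1 := LinearMap.toMatrix_mulVec_repr b c (f 0) (x 0)
      rw [← h1, hrepr]
      have := congrArg (fun q => Polynomial.coeff q 0) (hrow r)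
      simp only [Polynomial.finset_sum_coeff, add_mul, Polynomial.coeff_add,
        Polynomial.coeff_C_mul, mul_assoc, Polynomial.coeff_X_mul_zero, add_zero,
        Polynomial.coeff_zero] at this
      simpa [Matrix.mulVec, dotProduct] using this
    have hrel : ∀ i, f 0 (x (i + 1)) + f 1 (x i) = 0 := by
      intro i
      apply c.repr.injective
      rw [map_zero, map_add]
      ext r
      have h1 := LinearMap.toMatrix_mulVec_repr b c (f 0) (x (i + 1))
      have h2 := LinearMap.toMatrix_mulVec_repr b c (f 1) (x i)
      rw [Finsupp.coe_add, ← h1, ← h2, hrepr, hrepr]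
      have := congrArg (fun q => Polynomial.coeff q (i + 1)) (hrow r)
      simp only [Polynomial.finset_sum_coeff, add_mul, Polynomial.coeff_add,
        Polynomial.coeff_C_mul, mul_assoc, Polynomial.coeff_X_mul,
        Polynomial.coeff_zero, Finset.sum_add_distrib] at this
      simpa [Matrix.mulVec, dotProduct] using this
    set V' : Submodule K V := Submodule.span K (Set.range x) with hV'
    set W' : Submodule K W := V'.map (f 0) with hW'
    have hxmem : ∀ i, x i ∈ V' := fun i => Submodule.subset_span ⟨i, rfl⟩
    have hsub : KronMod.IsSubrep f V' W' := by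
      intro j
      fin_cases j
      · exact le_refl _
      · show V'.map (f 1) ≤ W'
        rw [hV', Submodule.map_span_le]
        rintro _ ⟨i, rfl⟩
        have : f 1 (x i) = - f 0 (x (i + 1)) := by
          have := hrel i
          exact (neg_eq_of_add_eq_zero_right this).symm
        rw [this]
        exact Submodule.neg_mem _ (Submodule.mem_map_of_mem (hxmem (i + 1)))
    have hex : ∃ j, x j ≠ 0 := by
      by_contra hall
      push Not at hall
      apply hv0
      funext m
      ext i
      have := congrFun (hrepr i) m
      rw [hall i, map_zero] at this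
      simpa using this.symm
    let j₀ := Nat.find hex
    have hj₀ : x j₀ ≠ 0 := Nat.find_spec hex
    have hlt : ∀ i < j₀, x i = 0 := fun i hi => by
      have := Nat.find_min hex hi
      simpa using this
    have hker : f 0 (x j₀) = 0 := by
      rcases Nat.eq_zero_or_pos j₀ with h0 | h0
      · rw [h0]; exact hrel0
      · obtain ⟨i, hi⟩ : ∃ i, j₀ = i + 1 := ⟨j₀ - 1, by omega⟩
        have := hrel i
        rw [hlt i (by omega), map_zero, add_zero, ← hi] at this
        exact this
    have hdim : Module.finrank K W' < Module.finrank K V' := by
      set g := (f 0).domRestrict V' with hg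
      have hrange : LinearMap.range g = W' := LinearMap.range_domRestrict _ _
      have hrn := LinearMap.finrank_range_add_finrank_ker g
      have hkpos : 0 < Module.finrank K (LinearMap.ker g) := by
        rw [Module.finrank_pos_iff_exists_ne_zero]
        refine ⟨⟨⟨x j₀, hxmem j₀⟩, ?_⟩, ?_⟩
        · rw [LinearMap.mem_ker]
          exact hker
        · intro h
          apply hj₀
          have := congrArg (fun y : LinearMap.ker g => ((y : V') : V)) h
          simpa using this
      rw [hrange] at hrn
      omega
    have h1 : ¬ (V' = ⊥ ∧ W' = ⊥) := by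
      rintro ⟨h, -⟩
      apply hj₀
      have := hxmem j₀
      rw [h, Submodule.mem_bot] at this
      exact this
    have h2 : ¬ (V' = ⊤ ∧ W' = ⊤) := by
      rintro ⟨h, h'⟩
      rw [h, h', finrank_top, finrank_top, hV, hW] at hdim
      exact lt_irrefl _ hdim
    have := hf.2 V' W' hsub h1 h2
    rw [hV, hW] at this
    have := Nat.le_of_mul_le_mul_left this hk
    omega
  · obtain ⟨t, ht⟩ : ∃ t : K, (pm M0 M1).det.eval t ≠ 0 := by
      by_contra hall
      push Not at hall
      apply hdet
      apply Polynomial.funext
      intro t
      rw [hall t, Polynomial.eval_zero]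
    rw [det_pm_eval] at ht
    refine ⟨![1, t], ?_⟩
    have hsum : (∑ j, (![1, t] : Fin 2 → K) j • f j) = f 0 + t • f 1 := by
      rw [Fin.sum_univ_two]
      simp
    rw [hsum]
    have hmat : LinearMap.toMatrix b c (f 0 + t • f 1) = M0 + t • M1 := by
      rw [map_add, map_smul]
    have hunit : IsUnit (LinearMap.toMatrix b c (f 0 + t • f 1)).det := by
      rw [hmat]
      exact isUnit_iff_ne_zero.mpr ht
    have hcoe := LinearEquiv.coe_ofIsUnitDet hunit
    have hbij := (LinearEquiv.ofIsUnitDet hunit).bijective
    have : ((LinearEquiv.ofIsUnitDet hunit : V ≃ₗ[K] W) : V → W) = ((f 0 + t • f 1 : V →ₗ[K] W) : V → W) := by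
      funext y
      exact congrArg (fun g : V →ₗ[K] W => g y) hcoe
    rw [← this]
    exact hbij

end Groth.Agent.S19551

set_option autoImplicit false
universe u v w
open KronMod

namespace Groth.Agent.S19551

/-- Case of two arrows. Over an algebraically closed field K, if a Kronecker module f = (f_0, f_1) with
two arrows between spaces V and W of the same finite dimension k is semistable, then some linear
combination z_0 f_0 + z_1 f_1 of its arrows is a linear isomorphism V → W: for two arrows the
semistable locus of dimension vector (k, k) lies in the open set of modules whose generic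
combination is invertible, for every k. (The published statement, over an algebraically closed field
of characteristic zero, also covers the dimension vectors (1, 1) and (2, 2) for any number of
arrows; this row states the two-arrow case for all k, without the characteristic assumption.) -/
theorem result (K : Type u) [Field K] [IsAlgClosed K]
    (V : Type v) (W : Type w)
    [AddCommGroup V] [Module K V] [FiniteDimensional K V]
    [AddCommGroup W] [Module K W] [FiniteDimensional K W]
    (f : Fin 2 → (V →ₗ[K] W)) (k : ℕ)
    (hV : Module.finrank K V = k) (hW : Module.finrank K W = k)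
    (hf : KronMod.IsSemistable f) :
    ∃ z : Fin 2 → K, Function.Bijective ((∑ j, z j • f j : V →ₗ[K] W) : V → W) := by
  exact main f k hV hW hf

end Groth.Agent.S19551
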