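import Groth.Statements.S19554
-- import your own Groth.Agent.* helpers here
import Groth.Agent.Lib.Helper32.FEtSplit.Main

set_option autoImplicit false
universe u
open CategoryTheory AlgebraicGeometry
open CohProp

namespace Groth.Agent.S19554

open CategoryTheory.Limits Opposite

section StepB
variable {S : Scheme.{u}}

theorem overIso_of_locallyBijective (U : S.Etale) (P₁ P₂ : S.Etaleᵒᵖ ⥤ Type (u+1))
    (θ : (Over.forget U).op ⋙ P₂ ⟶ (Over.forget U).op ⋙ P₁)
    [Presheaf.IsLocallyInjective (S.smallEtaleTopology.over U) θ]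
    [Presheaf.IsLocallySurjective (S.smallEtaleTopology.over U) θ] :
    Nonempty (((presheafToSheaf S.smallEtaleTopology (Type (u+1))).obj P₁).over U ≅
      ((presheafToSheaf S.smallEtaleTopology (Type (u+1))).obj P₂).over U) := by
  have hW : (S.smallEtaleTopology.over U).W θ :=
    (S.smallEtaleTopology.over U).W_of_isLocallyBijective θ
  have hiso : IsIso ((presheafToSheaf (S.smallEtaleTopology.over U) (Type (u+1))).map θ) :=
    ((S.smallEtaleTopology.over U).W_iff θ).1 hW
  let c := (Over.forget U).pushforwardContinuousSheafificationCompatibility (Type (u+1))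
    (S.smallEtaleTopology.over U) S.smallEtaleTopology
  exact ⟨(c.app P₁).symm ≪≫
    (asIso ((presheafToSheaf (S.smallEtaleTopology.over U) (Type (u+1))).map θ)).symm ≪≫ c.app P₂⟩

end StepB

section StepA
variable {S X : Scheme.{u}} (f : X ⟶ S) [Etale f] [IsFinite f]

theorem exists_split (s : S) :
    ∃ (U : S.Etale) (n : ℕ) (τ : Fin n → (U ⟶ Scheme.Etale.mk f)),
    (∃ y : U.left, U.hom.base y = s) ∧
    (∀ (V : S.Etale) (g : V ⟶ U) (j j' : Fin n), g ≫ τ j = g ≫ τ j' → j ≠ j' → IsEmpty V.left) ∧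
    (∀ (V : S.Etale) (g : V ⟶ U) (t : V ⟶ Scheme.Etale.mk f) (v : V.left),
      ∃ (j : Fin n) (V' : S.Etale) (i : V' ⟶ V), v ∈ Set.range i.left ∧
        i ≫ t = i ≫ g ≫ τ j) := by
  classical
  have hlc := Scheme.Hom.isLocallyConstant_finrank f
  obtain ⟨n, hn⟩ : ∃ n, f.finrank s = n := ⟨_, rfl⟩
  let O : S.Opens := ⟨{x | f.finrank x = n}, hlc.isOpen_fiber n⟩
  have hsO : s ∈ O := hn
  have hφ : ∀ y, (pullback.snd f O.ι).finrank y = n := fun y => by
    rw [Scheme.Hom.finrank_pullback_snd]
    exact y.2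
  obtain ⟨Y, ψ, hψf, hψe, hψs, σ, hsec, hdisj, hcov⟩ :=
    Groth.Agent.Lib.Helper32.FEtSplit.splits_of_finrank n (pullback.snd f O.ι) hφ
  have := hψf; have := hψe; have := hψs
  have h1 : pullback.fst (pullback.snd f O.ι) ψ ≫ pullback.fst f O.ι ≫ f =
      pullback.snd (pullback.snd f O.ι) ψ ≫ ψ ≫ O.ι := by
    rw [pullback.condition, ← Category.assoc, pullback.condition, Category.assoc]
  have hτw : ∀ j, (σ j ≫ pullback.fst (pullback.snd f O.ι) ψ ≫ pullback.fst f O.ι) ≫ f =
      ψ ≫ O.ι := fun j => by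
    rw [Category.assoc, Category.assoc, h1, ← Category.assoc, hsec, Category.id_comp]
  have A1 : ∀ (VL : Scheme.{u}) (gl : VL ⟶ Y) (j j' : Fin n),
      gl ≫ σ j ≫ pullback.fst (pullback.snd f O.ι) ψ ≫ pullback.fst f O.ι =
        gl ≫ σ j' ≫ pullback.fst (pullback.snd f O.ι) ψ ≫ pullback.fst f O.ι →
      j ≠ j' → IsEmpty VL := by
    intro VL gl j j' hjj' hne
    have hg : gl ≫ σ j = gl ≫ σ j' := by
      apply pullback.hom_ext
      · apply pullback.hom_ext
        · simpa only [Category.assoc] using hjj'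
        · simp only [Category.assoc]
          rw [pullback.condition (f := pullback.snd f O.ι) (g := ψ),
            reassoc_of% (hsec j), reassoc_of% (hsec j')]
      · simp only [Category.assoc]
        rw [hsec, hsec]
    refine ⟨fun v => ?_⟩
    have h2 : (σ j) (gl v) = (σ j') (gl v) := by
      have := congr_arg (fun k : VL ⟶ _ => k v) hg
      simpa only [Scheme.Hom.comp_apply] using this
    exact Set.disjoint_left.mp (hdisj j j' hne) ⟨_, rfl⟩ ⟨_, h2.symm⟩
  have A2 : ∀ (VL : Scheme.{u}) (gl : VL ⟶ Y) (tl : VL ⟶ X), tl ≫ f = gl ≫ ψ ≫ O.ι →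
      ∀ v : VL, ∃ (j : Fin n) (V₀ : VL.Opens), v ∈ V₀ ∧
        V₀.ι ≫ tl =
          V₀.ι ≫ gl ≫ σ j ≫ pullback.fst (pullback.snd f O.ι) ψ ≫ pullback.fst f O.ι := by
    intro VL gl tl htl v
    let t₁ : VL ⟶ pullback f O.ι := pullback.lift tl (gl ≫ ψ) (by rw [htl, Category.assoc])
    have ht₁ : t₁ ≫ pullback.snd f O.ι = gl ≫ ψ := pullback.lift_snd _ _ _
    have ht₁' : t₁ ≫ pullback.fst f O.ι = tl := pullback.lift_fst _ _ _
    let h : VL ⟶ pullback (pullback.snd f O.ι) ψ := pullback.lift t₁ gl ht₁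
    have hh1 : h ≫ pullback.fst (pullback.snd f O.ι) ψ = t₁ := pullback.lift_fst _ _ _
    have hh2 : h ≫ pullback.snd (pullback.snd f O.ι) ψ = gl := pullback.lift_snd _ _ _
    obtain ⟨j, y, hy⟩ := hcov (h v)
    have hσo : IsOpenImmersion (σ j) :=
      Groth.Agent.Lib.Helper32.FEtSplit.isOpenImmersion_of_section
        (pullback.snd (pullback.snd f O.ι) ψ) (σ j) (hsec j)
    let V₀ : VL.Opens := h ⁻¹ᵁ (σ j).opensRange
    refine ⟨j, V₀, ⟨y, hy⟩, ?_⟩
    have hrange : Set.range (V₀.ι ≫ h) ⊆ Set.range (σ j) := by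
      rintro _ ⟨x, rfl⟩
      exact x.2
    have hl := IsOpenImmersion.lift_fac (σ j) (V₀.ι ≫ h) hrange
    have hl2 : IsOpenImmersion.lift (σ j) (V₀.ι ≫ h) hrange = V₀.ι ≫ gl := by
      have := congr_arg (fun k => k ≫ pullback.snd (pullback.snd f O.ι) ψ) hl
      simp only [Category.assoc, hsec, Category.comp_id, hh2] at this
      exact this
    rw [hl2] at hl
    have h3 := congr_arg
      (fun k => k ≫ pullback.fst (pullback.snd f O.ι) ψ ≫ pullback.fst f O.ι) hl
    simp only [Category.assoc] at h3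
    rw [reassoc_of% hh1, ht₁'] at h3
    exact h3.symm
  let U : S.Etale := Scheme.Etale.mk (ψ ≫ O.ι)
  let τ : Fin n → (U ⟶ Scheme.Etale.mk f) := fun j =>
    MorphismProperty.Over.homMk
      (σ j ≫ pullback.fst (pullback.snd f O.ι) ψ ≫ pullback.fst f O.ι) (hτw j) trivial
  refine ⟨U, n, τ, ?_, ?_, ?_⟩
  · obtain ⟨y, hy⟩ := ψ.surjective ⟨s, hsO⟩
    refine ⟨y, ?_⟩
    show (ψ ≫ O.ι) y = s
    rw [Scheme.Hom.comp_apply, hy]
    rfl
  · intro V g j j' hjj' hne
    exact A1 V.left g.left j j' (congr_arg (fun k => k.left) hjj') hne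
  · intro V g t v
    obtain ⟨j, V₀, hv, hV₀⟩ := A2 V.left g.left t.left
      ((MorphismProperty.Over.w t).trans (MorphismProperty.Over.w g).symm) v
    refine ⟨j, Scheme.Etale.mk (V₀.ι ≫ V.hom), MorphismProperty.Over.homMk V₀.ι rfl trivial,
      ⟨⟨v, hv⟩, rfl⟩, ?_⟩
    apply MorphismProperty.Over.Hom.ext
    exact hV₀

end StepA


/-- For any scheme S and any finite étale morphism f : X → S, the sheaf of sets h_X on the small étale
site of S attached to the étale S-scheme X is finite locally constant: S admits a jointly surjective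
family of étale S-schemes over each member of which h_X becomes isomorphic to a constant sheaf with
finite value. (This is the first assertion of the published result, that X ↦ h_X sends finite étale
S-schemes to finite locally constant sheaves of sets; the equivalence it goes on to assert is not
stated here.) -/
theorem result (S X : Scheme.{u}) (f : X ⟶ S) [Etale f] [IsFinite f] :
    CohProp.IsFinLocConstSet (EtDesc.repSh (Scheme.Etale.mk f)) := by
  choose U n τ hcov hinj hsurj using exists_split f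
  refine ⟨S, U, fun s => ⟨s, hcov s⟩, fun s => ⟨ULift.{u+1} (Fin (n s)), inferInstance, ?_⟩⟩
  let P₁ : S.Etaleᵒᵖ ⥤ Type (u+1) := yoneda.obj (Scheme.Etale.mk f) ⋙ uliftFunctor.{u+1, u}
  let P₂ : S.Etaleᵒᵖ ⥤ Type (u+1) := (Functor.const _).obj (ULift.{u+1} (Fin (n s)))
  let θ : (Over.forget (U s)).op ⋙ P₂ ⟶ (Over.forget (U s)).op ⋙ P₁ :=
    { app := fun V => TypeCat.ofHom (fun m => ULift.up (V.unop.hom ≫ τ s m.down))
      naturality := by
        intro V V' a
        refine ConcreteCategory.hom_ext _ _ (fun m => ?_)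
        show ULift.up (V'.unop.hom ≫ τ s m.down) =
          ULift.up (a.unop.left ≫ V.unop.hom ≫ τ s m.down)
        rw [← Category.assoc, Over.w] }
  haveI : Presheaf.IsLocallyInjective (S.smallEtaleTopology.over (U s)) θ := by
    constructor
    intro V x y hxy
    by_cases hjj : x.down = y.down
    · have : x = y := ULift.ext _ _ hjj
      subst this
      rw [Presheaf.equalizerSieve_self_eq_top]
      exact GrothendieckTopology.top_mem _ _
    · have hxy' : V.unop.hom ≫ τ s x.down = V.unop.hom ≫ τ s y.down := by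
        have := congr_arg ULift.down hxy
        exact this
      have hempty := hinj s V.unop.left V.unop.hom x.down y.down hxy' hjj
      rw [GrothendieckTopology.mem_over_iff]
      have hcovE : Sieve.ofArrows (fun i : PEmpty.{1} => (PEmpty.elim i : S.Etale))
          (fun i => (PEmpty.elim i : (PEmpty.elim i : S.Etale) ⟶ V.unop.left)) ∈
          S.smallEtaleTopology V.unop.left := by
        rw [Scheme.ofArrows_mem_smallEtaleTopology_iff]
        ext w
        exact (hempty.false w).elim
      refine GrothendieckTopology.superset_covering _ ?_ hcovE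
      rintro Z a ⟨_, _, _, ⟨i⟩, _⟩
      exact i.elim
  haveI : Presheaf.IsLocallySurjective (S.smallEtaleTopology.over (U s)) θ := by
    constructor
    intro V x
    rw [GrothendieckTopology.mem_over_iff]
    have hs := hsurj s V.left V.hom x.down
    choose j V' i hv hi using hs
    have hcovV : Sieve.ofArrows V' i ∈ S.smallEtaleTopology V.left := by
      rw [Scheme.ofArrows_mem_smallEtaleTopology_iff]
      ext w
      simp only [Set.mem_iUnion, Set.mem_univ, iff_true]
      exact ⟨w, hv w⟩
    refine GrothendieckTopology.superset_covering _ ?_ hcovV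
    rintro Z a ⟨_, b, _, ⟨w⟩, rfl⟩
    apply Sieve.downward_closed
    rw [Sieve.overEquiv_iff]
    refine ⟨ULift.up (j w), ?_⟩
    show ULift.up ((i w ≫ V.hom) ≫ τ s (j w)) = ULift.up (i w ≫ x.down)
    rw [Category.assoc, hi w]
  exact overIso_of_locallyBijective (U s) P₁ P₂ θ

end Groth.Agent.S19554
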