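import Groth.Statements.S19556
import Mathlib
-- import your own Groth.Agent.* helpers here

set_option autoImplicit false
universe u
open CategoryTheory AlgebraicGeometry
open Mor

namespace Groth.Agent.S19556

/-- Let S be a scheme, p : X → S and q : Y → S schemes over S, and π : X → Y a finite surjective
morphism over S (π ≫ q = p). If X is separated over S then Y is separated over S. (The published
statement is about the quotient map X → X/G of a scheme by an action of a finite group scheme,
assumed to exist and then finite and surjective; this row keeps of it only a finite surjective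
S-morphism π, which is all the argument uses.) -/
theorem result {S X Y : Scheme.{u}} (p : X ⟶ S) (q : Y ⟶ S)
    (π : X ⟶ Y) (hπ : π ≫ q = p) [IsFinite π] [Surjective π] [IsSeparated p] :
    IsSeparated q := by
  subst hπ
  let PP : Limits.pullback (π ≫ q) (π ≫ q) ⟶ Limits.pullback q q :=
    Limits.pullback.map (π ≫ q) (π ≫ q) q q π π (𝟙 S) ((Category.comp_id _).trans rfl)
      ((Category.comp_id _).trans rfl)
  have hPP : UniversallyClosed PP :=
    MorphismProperty.pullbackMap (P := @UniversallyClosed) (f := π ≫ q) (g := π ≫ q)
      (f' := q) (g' := q) (i₁ := π) (i₂ := π) inferInstance inferInstance rfl rfl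
  have hcomm : Limits.pullback.diagonal (π ≫ q) ≫ PP = π ≫ Limits.pullback.diagonal q := by
    apply Limits.pullback.hom_ext
    · simp only [PP, Category.assoc]
      rw [Limits.pullback.lift_fst, Limits.pullback.diagonal_fst, ← Category.assoc,
        Limits.pullback.diagonal_fst, Category.id_comp, Category.comp_id]
    · simp only [PP, Category.assoc]
      rw [Limits.pullback.lift_snd, Limits.pullback.diagonal_snd, ← Category.assoc,
        Limits.pullback.diagonal_snd, Category.id_comp, Category.comp_id]
  have hrange : Set.range (Limits.pullback.diagonal q) =
      PP '' Set.range (Limits.pullback.diagonal (π ≫ q)) := by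
    rw [← Set.range_comp]
    have h1 : (PP ∘ (Limits.pullback.diagonal (π ≫ q))) = (Limits.pullback.diagonal q) ∘ π := by
      ext x
      have := congr(($hcomm).base x)
      simpa using this
    rw [h1, Set.range_comp, (Surjective.surj (f := π)).range_eq, Set.image_univ]
  have hclosed : IsClosed (Set.range (Limits.pullback.diagonal q)) := by
    rw [hrange]
    exact PP.isClosedMap _ (Limits.pullback.diagonal (π ≫ q)).isClosedEmbedding.isClosed_range
  exact ⟨IsClosedImmersion.of_isPreimmersion _ hclosed⟩

end Groth.Agent.S19556
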