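import Groth.Statements.S19560
import Mathlib.RingTheory.Polynomial.Wronskian
import Mathlib.Algebra.Polynomial.RingDivision

set_option autoImplicit false
universe u
open W4c1limliniiii

set_option linter.unusedSectionVars false

namespace Groth.Agent.S19560Aux

open Polynomial

variable {k : Type u} [Field k]

/-- key local computation -/
theorem key (p : ℕ) [CharP k p] (s0 s1 : k[X]) (a : k) (h0 : s0.eval a ≠ 0) (h1 : s1.eval a = 0)
    (hW : wronskian s0 s1 ≠ 0) (e : ℕ) (he : (wronskian s0 s1).rootMultiplicity a + 1 = e)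
    (hp : p = 0 ∨ e - 1 < p) :
    s1 ≠ 0 ∧ s1.rootMultiplicity a = e ∧ ¬ p ∣ e := by
  have hs1 : s1 ≠ 0 := by
    rintro rfl
    exact hW (wronskian_zero_right _)
  obtain ⟨u, hu, hudvd⟩ := exists_eq_pow_rootMultiplicity_mul_and_not_dvd s1 hs1 a
  set r := s1.rootMultiplicity a with hr
  have hrpos : 0 < r := (rootMultiplicity_pos hs1).mpr h1
  have hua : u.eval a ≠ 0 := by
    intro h
    exact hudvd (dvd_iff_isRoot.mpr h)
  -- the Wronskian factorization
  set B : k[X] := C (r : k) * s0 * u + (X - C a) * (s0 * derivative u - derivative s0 * u) with hB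
  have hWB : wronskian s0 s1 = (X - C a) ^ (r - 1) * B := by
    have hpow : (X - C a) ^ r = (X - C a) ^ (r - 1) * (X - C a) := by
      rw [← pow_succ]; congr 1; omega
    rw [wronskian, hu, derivative_mul, derivative_X_sub_C_pow, hB, hpow]
    ring
  have hBa : B.eval a = (r : k) * s0.eval a * u.eval a := by
    simp [hB]
  by_cases hrk : (r : k) = 0
  · -- p ∣ r : contradiction
    exfalso
    have hpr : p ∣ r := (CharP.cast_eq_zero_iff k p r).mp hrk
    have hdvd : (X - C a) ^ r ∣ wronskian s0 s1 := by
      rw [hWB, hB, hrk, map_zero, zero_mul, zero_mul, zero_add, ← mul_assoc, ← pow_succ]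
      have : r - 1 + 1 = r := by omega
      rw [this]
      exact dvd_mul_right _ _
    have hle : r ≤ (wronskian s0 s1).rootMultiplicity a := (le_rootMultiplicity_iff hW).mpr hdvd
    rcases hp with hp0 | hp1
    · subst hp0
      have := Nat.eq_zero_of_zero_dvd hpr
      omega
    · have := Nat.le_of_dvd hrpos hpr
      omega
  · have hBa' : B.eval a ≠ 0 := by
      rw [hBa]; exact mul_ne_zero (mul_ne_zero hrk h0) hua
    have hmult : (wronskian s0 s1).rootMultiplicity a = r - 1 := by
      have hne : (X - C a) ^ (r - 1) * B ≠ 0 := by rw [← hWB]; exact hW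
      rw [hWB, rootMultiplicity_mul hne, rootMultiplicity_X_sub_C_pow,
        rootMultiplicity_eq_zero (by exact hBa'), add_zero]
    refine ⟨hs1, by omega, ?_⟩
    have her : e = r := by omega
    rw [her]
    intro hpr
    exact hrk ((CharP.cast_eq_zero_iff k p r).mpr hpr)


theorem rootMult_C_mul (c : k) (hc : c ≠ 0) (s : k[X]) (a : k) :
    (C c * s).rootMultiplicity a = s.rootMultiplicity a := by
  by_cases hs : s = 0
  · subst hs; simp
  · rw [rootMultiplicity_mul (mul_ne_zero (C_ne_zero.mpr hc) hs), rootMultiplicity_C, zero_add]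

theorem finish (V : Submodule k k[X]) (a : k) (e : ℕ) (s1 : k[X]) (hs1V : s1 ∈ V) (hs1 : s1 ≠ 0)
    (hord : s1.rootMultiplicity a = e)
    (hprop : ∀ s ∈ V, s.eval a = 0 → ∃ c d : k, c ≠ 0 ∧ C c * s = C d * s1) :
    W4c1limliniiii.HasRamIdx V a e := by
  refine ⟨⟨s1, hs1V, hs1, hord.ge⟩, fun s hsV hs => ?_⟩
  by_cases hsa : s.eval a = 0
  · obtain ⟨c, d, hc, hcd⟩ := hprop s hsV hsa
    have hd : d ≠ 0 := by
      rintro rfl
      rw [map_zero, zero_mul] at hcd
      rcases mul_eq_zero.mp hcd with h | h
      · exact hc (C_eq_zero.mp h)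
      · exact hs h
    have := congrArg (rootMultiplicity a) hcd
    rw [rootMult_C_mul c hc, rootMult_C_mul d hd, hord] at this
    exact this.le
  · rw [rootMultiplicity_eq_zero hsa]; exact Nat.zero_le _

end Groth.Agent.S19560Aux

namespace Groth.Agent.S19560

open Polynomial in
/-- Let k be an algebraically closed field of characteristic p (a prime or zero) and let F, G be
polynomials spanning a base-point-free pencil V of degree d (a two-dimensional space of polynomials
of degree at most d containing one of degree d and with no common zero in k), so that V encodes a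
degree-d self-map F/G of the projective line up to automorphisms of the target. Suppose the
Wronskian W = F′G − FG′ is non-zero and vanishes at the point a to order exactly e − 1 with e ≥ 1,
and that p = 0 or e − 1 < p. Then the map is tamely ramified at a with index e: the largest order of
vanishing at a of a non-zero member of V is e, and p does not divide e. (The hypothesis W ≠ 0 makes
the order of vanishing meaningful; for W = 0 the map is inseparable.) -/
theorem result
    (k : Type u) [Field k] [IsAlgClosed k] (p : ℕ) [CharP k p]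
    (d : ℕ) (F G : k[X]) (hV : W4c1limliniiii.IsPencil d (Submodule.span k {F, G}))
    (hW : Polynomial.wronskian F G ≠ 0) (a : k) (e : ℕ)
    (he : (Polynomial.wronskian F G).rootMultiplicity a + 1 = e) (hp : p = 0 ∨ e - 1 < p) :
    W4c1limliniiii.HasRamIdx (Submodule.span k {F, G}) a e ∧ ¬ p ∣ e := by
  obtain ⟨s, hsV, hsa⟩ := hV.2.2.2 a
  obtain ⟨α, β, rfl⟩ := Submodule.mem_span_pair.mp hsV
  have hFV : F ∈ Submodule.span k {F, G} := Submodule.subset_span (by simp)
  have hGV : G ∈ Submodule.span k {F, G} := Submodule.subset_span (by simp)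
  set s1 : k[X] := C (G.eval a) * F - C (F.eval a) * G with hs1
  have hs1V : s1 ∈ Submodule.span k {F, G} := by
    rw [hs1, ← smul_eq_C_mul, ← smul_eq_C_mul]
    exact Submodule.sub_mem _ (Submodule.smul_mem _ _ hFV) (Submodule.smul_mem _ _ hGV)
  have hs1a : s1.eval a = 0 := by simp [hs1]; ring
  by_cases hFa : F.eval a = 0
  · have hGa : G.eval a ≠ 0 := by
      intro hGa
      apply hsa
      simp [hFa, hGa]
    -- s0 = G
    have hWeq : wronskian G s1 = C (-(G.eval a)) * wronskian F G := by
      simp only [wronskian, hs1, derivative_sub, derivative_mul, derivative_C, zero_mul, zero_add]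
      simp only [map_neg]
      ring
    have hW' : wronskian G s1 ≠ 0 := by
      rw [hWeq]; exact mul_ne_zero (C_ne_zero.mpr (neg_ne_zero.mpr hGa)) hW
    have he' : (wronskian G s1).rootMultiplicity a + 1 = e := by
      rw [hWeq, S19560Aux.rootMult_C_mul _ (neg_ne_zero.mpr hGa)]; exact he
    obtain ⟨h1, h2, h3⟩ := S19560Aux.key p G s1 a hGa hs1a hW' e he' hp
    refine ⟨S19560Aux.finish _ a e s1 hs1V h1 h2 ?_, h3⟩
    intro t htV hta
    obtain ⟨α', β', rfl⟩ := Submodule.mem_span_pair.mp htV
    refine ⟨G.eval a, α', hGa, ?_⟩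
    simp only [eval_add, eval_smul, smul_eq_mul, hFa, mul_zero, zero_add] at hta
    have hβ' : β' = 0 := by
      rcases mul_eq_zero.mp hta with h | h
      · exact h
      · exact absurd h hGa
    subst hβ'
    rw [hs1, hFa, smul_eq_C_mul]
    simp
    ring
  · -- s0 = F
    have hWeq : wronskian F s1 = C (-(F.eval a)) * wronskian F G := by
      simp only [wronskian, hs1, derivative_sub, derivative_mul, derivative_C, zero_mul, zero_add]
      simp only [map_neg]
      ring
    have hW' : wronskian F s1 ≠ 0 := by
      rw [hWeq]; exact mul_ne_zero (C_ne_zero.mpr (neg_ne_zero.mpr hFa)) hW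
    have he' : (wronskian F s1).rootMultiplicity a + 1 = e := by
      rw [hWeq, S19560Aux.rootMult_C_mul _ (neg_ne_zero.mpr hFa)]; exact he
    obtain ⟨h1, h2, h3⟩ := S19560Aux.key p F s1 a hFa hs1a hW' e he' hp
    refine ⟨S19560Aux.finish _ a e s1 hs1V h1 h2 ?_, h3⟩
    intro t htV hta
    obtain ⟨α', β', rfl⟩ := Submodule.mem_span_pair.mp htV
    refine ⟨F.eval a, -β', hFa, ?_⟩
    simp only [eval_add, eval_smul, smul_eq_mul] at hta
    have hα' : α' * F.eval a = -(β' * G.eval a) := by linear_combination hta
    rw [hs1, smul_eq_C_mul, smul_eq_C_mul]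
    have : C (eval a F) * (C α' * F + C β' * G) =
        C (α' * eval a F) * F + C (β' * eval a F) * G := by
      simp only [map_mul]; ring
    rw [this, hα']
    simp only [map_neg, map_mul]
    ring

end Groth.Agent.S19560
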