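import Groth.Statements.S19561
-- import your own Groth.Agent.* helpers here

set_option autoImplicit false
universe u
open W4c1limliniiii

namespace Groth.Agent.S19561

open Polynomial in
/-- Let k be an algebraically closed field and F, G polynomials over k with deg G < deg F which span a
base-point-free pencil V of degree deg F (a two-dimensional space of polynomials of degree at most
deg F with no common zero in k), encoding the self-map F/G of the projective line. Then the
ramification index of the map at the point at infinity, namely the largest value of deg F − deg s
over the non-zero members s of V (orders of vanishing at infinity of the corresponding binary forms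
of degree deg F), is deg F − deg G. -/
theorem result
    (k : Type u) [Field k] [IsAlgClosed k] (F G : k[X]) (hlt : G.natDegree < F.natDegree)
    (hV : W4c1limliniiii.IsPencil F.natDegree (Submodule.span k {F, G})) :
    W4c1limliniiii.HasRamIdxInf F.natDegree (Submodule.span k {F, G}) (F.natDegree - G.natDegree) := by
  have hG : G ≠ 0 := by
    rintro rfl
    have h2 := hV.2.1
    have hle : Submodule.span k {F, (0 : k[X])} ≤ Submodule.span k {F} := by
      rw [Submodule.span_le]
      rintro x (rfl | hx)
      · exact Submodule.subset_span rfl
      · rw [Set.mem_singleton_iff] at hx
        rw [hx]
        exact Submodule.zero_mem _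
    have h3 : Module.finrank k (Submodule.span k {F, (0 : k[X])}) ≤
        Module.finrank k (Submodule.span k {F}) := Submodule.finrank_mono hle
    have h4 : Module.finrank k (Submodule.span k {F}) ≤ 1 := by
      have := finrank_span_le_card (R := k) ({F} : Set k[X])
      simpa using this
    omega
  refine ⟨⟨G, Submodule.subset_span (by simp), hG, by omega⟩, ?_⟩
  intro s hs hs0
  rw [Submodule.mem_span_pair] at hs
  obtain ⟨α, β, rfl⟩ := hs
  by_cases hα : α = 0
  · subst hα
    have hβ : β ≠ 0 := by
      rintro rfl
      simp at hs0
    simp only [zero_smul, zero_add]
    rw [Polynomial.natDegree_smul G hβ]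
    omega
  · have hdeg : (α • F + β • G).natDegree = F.natDegree := by
      rw [Polynomial.natDegree_add_eq_left_of_natDegree_lt]
      · exact Polynomial.natDegree_smul F hα
      · rw [Polynomial.natDegree_smul F hα]
        exact lt_of_le_of_lt (Polynomial.natDegree_smul_le β G) hlt
    rw [hdeg]
    omega

end Groth.Agent.S19561
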