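import Groth.Statements.S19562
import Mathlib

set_option autoImplicit false
universe u
open W4c1limliniiii

namespace Groth.Agent.S19562

section Aux

open Module LinearMap

theorem finrank_map_add {k W : Type*} [Field k] [AddCommGroup W] [Module k W]
    [FiniteDimensional k W] (F : W →ₗ[k] W) (A : Submodule k W) :
    finrank k ↥(A.map F) + finrank k ↥(ker F ⊓ A) = finrank k A := by
  have h := (F.domRestrict A).finrank_range_add_finrank_ker
  rw [LinearMap.range_domRestrict] at h
  have e : finrank k ↥(ker (F.domRestrict A)) = finrank k ↥(ker F ⊓ A) := by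
    rw [LinearMap.ker_domRestrict, ← Submodule.finrank_map_subtype_eq A,
      Submodule.map_comap_subtype, inf_comm]
  rw [← e]; exact h

theorem abstract {k W : Type*} [Field k] [AddCommGroup W] [Module k W] [FiniteDimensional k W]
    (F G : W →ₗ[k] W) (hFG : F ∘ₗ G = 0) (hGF : G ∘ₗ F = 0) (A B : Submodule k W) (r : ℕ)
    (hA : finrank k A = r) (hB : finrank k B = r) (hFA : A.map F ≤ B) (hGB : B.map G ≤ A) :
    ((ker G ⊓ B ≤ A.map F) ∧ (ker F ⊓ A ≤ B.map G)) ↔
      finrank k ↥(A.map F) + finrank k ↥(B.map G) = r := by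
  have h1 : A.map F ≤ ker G ⊓ B := by
    refine le_inf ?_ hFA
    rintro _ ⟨a, _, rfl⟩
    exact LinearMap.congr_fun hGF a
  have h2 : B.map G ≤ ker F ⊓ A := by
    refine le_inf ?_ hGB
    rintro _ ⟨b, _, rfl⟩
    exact LinearMap.congr_fun hFG b
  have eqA := finrank_map_add F A
  have eqB := finrank_map_add G B
  rw [hA] at eqA
  rw [hB] at eqB
  constructor
  · rintro ⟨e1, e2⟩
    have : ker F ⊓ A = B.map G := le_antisymm e2 h2
    rw [this] at eqA
    exact eqA
  · intro hsum
    have hd1 : finrank k ↥(A.map F) = finrank k ↥(ker G ⊓ B) := by omega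
    have hd2 : finrank k ↥(B.map G) = finrank k ↥(ker F ⊓ A) := by omega
    exact ⟨(Submodule.eq_of_le_of_finrank_eq h1 hd1).ge, (Submodule.eq_of_le_of_finrank_eq h2 hd2).ge⟩


open TensorProduct in
theorem finrank_V (k : Type u) [Field k] (d r : ℕ) (hrd : r < d)
    (V : Module.Grassmannian k (k ⊗[k] (Fin d → k)) (d - r)) :
    finrank k V.toSubmodule = r := by
  have h1 := V.rankAtStalk_eq ⟨⊥, Ideal.isPrime_bot⟩
  rw [Module.rankAtStalk_eq_finrank_of_free] at h1
  have h2 := Submodule.finrank_quotient_add_finrank V.toSubmodule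
  have h3 : finrank k (k ⊗[k] (Fin d → k)) = d := by
    rw [Module.finrank_tensorProduct]; simp
  simp only [Pi.natCast_def, Nat.cast_id] at h1
  omega


end Aux

open TensorProduct in
/-- Let k be a field, 0 < r < d, and f_i, g_i (i < n) linear maps forward and backward between
consecutive ones of n + 1 copies of k^d, forming a linked Grassmannian over Spec k whose scalar s is
zero: every composite f_i ∘ g_i and g_i ∘ f_i vanishes, rank f_i + rank g_i ≥ d, and for consecutive
indices im f_i ∩ ker f_{i+1} = 0 and im g_{i+1} ∩ ker g_i = 0. Let (V_i) be a k-valued point of the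
linked Grassmannian of rank-r sub-bundles (subspaces V_i of k ⊗ k^d with quotient of rank d − r,
with f_i(V_i) ⊆ V_{i+1} and g_i(V_{i+1}) ⊆ V_i). Then (V_i) is exact, meaning ker g_i ∩ V_{i+1} ⊆
f_i(V_i) and ker f_i ∩ V_i ⊆ g_i(V_{i+1}) for all i, if and only if dim f_i(V_i) + dim g_i(V_{i+1})
= r for all i. (The published assertion is for points with values in an arbitrary scheme and also
says that f_i(V_i) and g_i(V_{i+1}) are then sub-bundles; this row is the case of a field, where the
last clause is empty.) -/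
theorem result (k : Type u) [Field k]
    (d r n : ℕ) (hr : 0 < r) (hrd : r < d) (f g : Fin n → ((Fin d → k) →ₗ[k] (Fin d → k)))
    (hI : ∀ i, (f i).comp (g i) = 0 ∧ (g i).comp (f i) = 0)
    (hII : ∀ i, d ≤ Module.finrank k (LinearMap.range (f i)) + Module.finrank k (LinearMap.range (g i)))
    (hIII : ∀ i j : Fin n, i.val + 1 = j.val →
      LinearMap.range (f i) ⊓ LinearMap.ker (f j) = ⊥ ∧
        LinearMap.range (g j) ⊓ LinearMap.ker (g i) = ⊥)
    (V : Fin (n + 1) → Module.Grassmannian k (k ⊗[k] (Fin d → k)) (d - r))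
    (hV : V ∈ W4c1limliniiii.LGPoints k d r n f g k) :
    W4c1limliniiii.IsExact k d r n f g k V ↔
      ∀ i : Fin n,
        Module.finrank k ↥(Submodule.map ((f i).baseChange k) (V i.castSucc).toSubmodule) +
          Module.finrank k ↥(Submodule.map ((g i).baseChange k) (V i.succ).toSubmodule) = r := by
  have hFG : ∀ i, ((f i).baseChange k) ∘ₗ ((g i).baseChange k) = 0 := fun i => by
    rw [← LinearMap.baseChange_comp, (hI i).1, LinearMap.baseChange_zero]
  have hGF : ∀ i, ((g i).baseChange k) ∘ₗ ((f i).baseChange k) = 0 := fun i => by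
    rw [← LinearMap.baseChange_comp, (hI i).2, LinearMap.baseChange_zero]
  unfold W4c1limliniiii.IsExact
  refine forall_congr' fun i => ?_
  exact abstract _ _ (hFG i) (hGF i) _ _ r (finrank_V k d r hrd _) (finrank_V k d r hrd _)
    (hV i).1 (hV i).2

end Groth.Agent.S19562
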