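import Groth.Statements.S19564
import Groth.Agent.Lib.Helper71.QuadricKey

set_option autoImplicit false
universe u
open scoped BigOperators
open FrobAlg

namespace Groth.Agent.S19564

/-- Let k be a perfect field of characteristic p ≥ 3 and n ≥ 3. Then the ordinary double point k[x_1,
y_1, …, x_n, y_n]/(x_1y_1 + ⋯ + x_ny_n), the affine cone over the split quadric in 2n ≥ 6 variables,
admits no flat lifting over W₂(k) compatible with Frobenius (no flat W₂(k)-algebra reducing to it
that carries a ring endomorphism which is σ₂-semilinear and reduces to the p-th power map). (The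
published statement is for any number N ≥ 5 of variables and allows arbitrary terms of degree ≥ 3 to
be added to a non-degenerate quadratic form; this row is the case of the split form in an even
number of variables with nothing added, the case in which the argument is a pure comparison of
homogeneous components.) -/
theorem result
    (p : ℕ) [Fact p.Prime] (hp : 3 ≤ p) (k : Type u) [Field k] [CharP k p] [PerfectRing k p]
    (n : ℕ) (hn : 3 ≤ n) :
    ¬ FrobAlg.IsFLiftable p k
      (MvPolynomial (Fin n × Fin 2) k ⧸ Ideal.span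
        {(∑ i : Fin n, MvPolynomial.X (i, (0 : Fin 2)) * MvPolynomial.X (i, (1 : Fin 2)) : MvPolynomial (Fin n × Fin 2) k)}) := by
  classical
  rintro ⟨B', _, ι, π, Φ, hΦ⟩
  have hL := hΦ.toIsLift
  obtain ⟨ψ, hψC, hπψ, hψsurj, hlift, hker⟩ :=
    Groth.Agent.Lib.Helper71.W2Poly.exists_presentation p k _ ι π hL
  obtain ⟨h, hΦψ⟩ := Groth.Agent.Lib.Helper71.W2Poly.exists_Phit p k _ ι π Φ hΦ ψ hψC hψsurj
  have hμq : MvPolynomial.map (res p k)
      (∑ i : Fin n, MvPolynomial.X (i, (0 : Fin 2)) * MvPolynomial.X (i, (1 : Fin 2)) :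
        MvPolynomial (Fin n × Fin 2) (W2 p k)) =
      ∑ i : Fin n, MvPolynomial.X (i, (0 : Fin 2)) * MvPolynomial.X (i, (1 : Fin 2)) := by
    rw [map_sum]
    refine Finset.sum_congr rfl fun i _ => ?_
    rw [map_mul, MvPolynomial.map_X, MvPolynomial.map_X]
  obtain ⟨Q, hQ1, hQ2⟩ := hlift _ (Ideal.mem_span_singleton_self _)
  have hz1 : ψ (Groth.Agent.Lib.Helper71.W2Poly.Phit p k h Q - Q ^ p) = 0 := by
    rw [map_sub, ← hΦψ, hQ2, map_zero, map_pow, hQ2, zero_pow (Fact.out : p.Prime).ne_zero,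
      sub_zero]
  have hz2 : MvPolynomial.map (res p k)
      (Groth.Agent.Lib.Helper71.W2Poly.Phit p k h Q - Q ^ p) = 0 := by
    rw [map_sub, Groth.Agent.Lib.Helper71.W2Poly.map_res_Phit, map_pow, sub_self]
  obtain ⟨a, hza, haJ⟩ := hker _ hz1 hz2
  obtain ⟨g, hg⟩ := Groth.Agent.Lib.Helper71.W2Poly.ker_map_res_le p k
    (Q - ∑ i : Fin n, MvPolynomial.X (i, (0 : Fin 2)) * MvPolynomial.X (i, (1 : Fin 2)))
    (by rw [map_sub, hQ1, hμq, sub_self])
  have hQ : Q = (∑ i : Fin n, MvPolynomial.X (i, (0 : Fin 2)) * MvPolynomial.X (i, (1 : Fin 2))) +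
      (p : MvPolynomial (Fin n × Fin 2) (W2 p k)) * g := by rw [← hg]; ring
  obtain ⟨c, hc⟩ := Groth.Agent.Lib.Helper71.QuadricKey.exists_c p k n
  have hQp : Q ^ p = (∑ i : Fin n, MvPolynomial.X (i, (0 : Fin 2)) *
      MvPolynomial.X (i, (1 : Fin 2)) : MvPolynomial (Fin n × Fin 2) (W2 p k)) ^ p := by
    rw [hQ, Groth.Agent.Lib.Helper71.W2Poly.add_P_mul_pow]
  have hPP := Groth.Agent.Lib.Helper71.W2Poly.PP p k (σ := Fin n × Fin 2)
  have hFX : ∀ v : Fin n × Fin 2, polyFrob p k (Fin n × Fin 2) (MvPolynomial.X v) =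
      MvPolynomial.X v ^ p := by
    intro v
    unfold polyFrob
    rw [MvPolynomial.coe_eval₂Hom, MvPolynomial.eval₂_X]
  have hFQ : polyFrob p k (Fin n × Fin 2) Q =
      ∑ i : Fin n, (MvPolynomial.X (i, (0 : Fin 2)) * MvPolynomial.X (i, (1 : Fin 2))) ^ p +
      (p : MvPolynomial (Fin n × Fin 2) (W2 p k)) * g ^ p := by
    rw [hQ, map_add, map_mul, map_natCast, Groth.Agent.Lib.Helper71.W2Poly.P_mul_polyFrob, map_sum]
    congr 1
    refine Finset.sum_congr rfl fun i _ => ?_
    rw [map_mul, hFX, hFX, mul_pow]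
  have hder : ∀ v : Fin n × Fin 2, ∃ w : Fin n × Fin 2,
      MvPolynomial.pderiv v (∑ i : Fin n, MvPolynomial.X (i, (0 : Fin 2)) *
        MvPolynomial.X (i, (1 : Fin 2)) : MvPolynomial (Fin n × Fin 2) (W2 p k)) =
        MvPolynomial.X w := by
    rintro ⟨j, ε⟩
    fin_cases ε
    · refine ⟨(j, 1), ?_⟩
      simp [MvPolynomial.pderiv_X, Pi.single_apply, Finset.sum_ite_eq']
    · refine ⟨(j, 0), ?_⟩
      simp [MvPolynomial.pderiv_X, Pi.single_apply, Finset.sum_ite_eq']
  choose w hw using hder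
  have hPder : ∀ v : Fin n × Fin 2, (p : MvPolynomial (Fin n × Fin 2) (W2 p k)) *
      MvPolynomial.pderiv v Q ^ p =
      (p : MvPolynomial (Fin n × Fin 2) (W2 p k)) * MvPolynomial.X (w v) ^ p := by
    intro v
    have h1 : MvPolynomial.pderiv v Q = MvPolynomial.X (w v) +
        (p : MvPolynomial (Fin n × Fin 2) (W2 p k)) * MvPolynomial.pderiv v g := by
      have hPC : (p : MvPolynomial (Fin n × Fin 2) (W2 p k)) = MvPolynomial.C (p : W2 p k) := by
        rw [map_natCast]
      rw [hQ, map_add, hw, hPC, MvPolynomial.pderiv_C_mul]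
    rw [h1, Groth.Agent.Lib.Helper71.W2Poly.P_mul_add_P_mul_pow]
  have hzero : (p : MvPolynomial (Fin n × Fin 2) (W2 p k)) *
      (a + c - g ^ p + ∑ v : Fin n × Fin 2, MvPolynomial.X (w v) ^ p * h v) = 0 := by
    have e1 : (p : MvPolynomial (Fin n × Fin 2) (W2 p k)) *
        ∑ v : Fin n × Fin 2, MvPolynomial.pderiv v Q ^ p * h v =
        (p : MvPolynomial (Fin n × Fin 2) (W2 p k)) *
        ∑ v : Fin n × Fin 2, MvPolynomial.X (w v) ^ p * h v := by
      rw [Finset.mul_sum, Finset.mul_sum]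
      refine Finset.sum_congr rfl fun v _ => ?_
      rw [← mul_assoc, hPder, mul_assoc]
    have e2 := hza
    rw [Groth.Agent.Lib.Helper71.W2Poly.Phit_eq, hFQ, e1, hQp] at e2
    linear_combination (-1 : MvPolynomial (Fin n × Fin 2) (W2 p k)) * e2 + hc
  have hμ := Groth.Agent.Lib.Helper71.W2Poly.map_res_eq_zero_of_P_mul p k _ hzero
  rw [map_add, map_sub, map_add, map_pow, map_sum] at hμ
  have hle : Ideal.span {(∑ i : Fin n, MvPolynomial.X (i, (0 : Fin 2)) *
      MvPolynomial.X (i, (1 : Fin 2)) : MvPolynomial (Fin n × Fin 2) k)} ≤ Ideal.span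
      (insert (∑ i : Fin n, MvPolynomial.X (i, (0 : Fin 2)) * MvPolynomial.X (i, (1 : Fin 2)))
        (Set.range fun v : Fin n × Fin 2 => (MvPolynomial.X v : MvPolynomial (Fin n × Fin 2) k) ^ p)) :=
    Ideal.span_mono (Set.singleton_subset_iff.mpr (Set.mem_insert _ _))
  have hyJ : - MvPolynomial.map (res p k) a -
      ∑ v : Fin n × Fin 2, MvPolynomial.map (res p k) (MvPolynomial.X (w v) ^ p * h v) ∈ Ideal.span
      (insert (∑ i : Fin n, MvPolynomial.X (i, (0 : Fin 2)) * MvPolynomial.X (i, (1 : Fin 2)))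
        (Set.range fun v : Fin n × Fin 2 => (MvPolynomial.X v : MvPolynomial (Fin n × Fin 2) k) ^ p)) := by
    refine Ideal.sub_mem _ (neg_mem (hle haJ)) (Ideal.sum_mem _ fun v _ => ?_)
    rw [map_mul, map_pow, MvPolynomial.map_X]
    exact Ideal.mul_mem_right _ _ (Ideal.subset_span (Set.mem_insert_of_mem _ ⟨w v, rfl⟩))
  have hcdecomp : MvPolynomial.map (res p k) c = MvPolynomial.map (res p k) g ^ p +
      (- MvPolynomial.map (res p k) a -
      ∑ v : Fin n × Fin 2, MvPolynomial.map (res p k) (MvPolynomial.X (w v) ^ p * h v)) := by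
    linear_combination hμ
  have hfinal := Groth.Agent.Lib.Helper71.QuadricKey.key_coeff_ne_zero p k n hn c hc
  rw [hcdecomp, map_add, MvPolynomial.coeff_add,
    Groth.Agent.Lib.Helper71.QuadricKey.coeff_eps_pow_p k p n,
    Groth.Agent.Lib.Helper71.QuadricKey.coeff_eps_of_mem k p n hn _ hyJ, add_zero] at hfinal
  exact hfinal rfl

end Groth.Agent.S19564
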