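import Groth.Statements.S19566
import Groth.Agent.Lib.Helper5.MassLang
import Groth.Agent.Lib.Helper16.MassL1
import Groth.Agent.Lib.Helper33.MassL2

set_option autoImplicit false
universe u
open CategoryTheory CategoryTheory.Limits AlgebraicGeometry
open AlgSt

namespace Groth.Agent.S19566

/-- Let F be a finite field, X a smooth F-scheme of finite type, and G a smooth affine connected F-group
scheme acting on X. Form the quotient stack [X/G] as the category over F-schemes whose objects over
T are fppf G-torsors P → T (as schemes) with a G-equivariant map P → X, and take its fibre category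
over Spec F itself. Then the isomorphism classes of this fibre are finite in number, each of its
objects has a finite automorphism group, and the mass Σ_{[ξ]} 1/#Aut(ξ) over the isomorphism classes
equals #X(F) / #G(F), the number of F-points of X divided by the order of the finite group G(F).
(The published statement allows X to be a smooth Deligne–Mumford stack, with 1/#Aut(x) weights on
the right as well, and G any connected algebraic group; this row is the case of a scheme X and a
smooth affine G, where F-points of X have no automorphisms.) -/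
theorem result
    {F : Type u} [Field F] [Finite F]
    (X G : Over (Spec (CommRingCat.of F))) [GrpObj G] (aX : AlgGrp.Action G X)
    [Smooth X.hom] [QuasiCompact X.hom] [Smooth G.hom] [IsAffineHom G.hom] [ConnectedSpace ↥G.left] :
    Finite (Quotient (isIsomorphicSetoid ((AlgSt.QuotSt Scheme.fppfPrecoverage G aX).p.Fiber (Over.mk (𝟙 (Spec (CommRingCat.of F))))))) ∧
      (∀ ξ : ((AlgSt.QuotSt Scheme.fppfPrecoverage G aX).p.Fiber (Over.mk (𝟙 (Spec (CommRingCat.of F))))), Finite (Aut ξ)) ∧
      ∑ᶠ c : Quotient (isIsomorphicSetoid ((AlgSt.QuotSt Scheme.fppfPrecoverage G aX).p.Fiber (Over.mk (𝟙 (Spec (CommRingCat.of F)))))), ((Nat.card (Aut c.out) : ℚ))⁻¹ =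
        (Nat.card (Over.mk (𝟙 (Spec (CommRingCat.of F))) ⟶ X) : ℚ) /
          (Nat.card (Over.mk (𝟙 (Spec (CommRingCat.of F))) ⟶ G) : ℚ) := by
  haveI : Finite (Over.mk (𝟙 (Spec (CommRingCat.of F))) ⟶ X) :=
    Groth.Agent.Lib.Helper33.MassL2.finite_pts X
  haveI : Finite (Over.mk (𝟙 (Spec (CommRingCat.of F))) ⟶ G) :=
    Groth.Agent.Lib.Helper33.MassL2.finite_pts G
  exact Groth.Agent.Lib.Helper16.MassL1.mass_formula
    (C := (AlgSt.QuotSt Scheme.fppfPrecoverage G aX).p.Fiber (Over.mk (𝟙 (Spec (CommRingCat.of F)))))
    (fun f => Groth.Agent.Lib.Helper5.MassStack.isIso_fiber f)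
    (fun x => Groth.Agent.Lib.Helper5.MassStack.ax Scheme.fppfPrecoverage aX x)
    (fun ξ => Groth.Agent.Lib.Helper5.MassLang.exists_iso_ax_lang X G aX ξ)
    (fun g y => CartesianMonoidalCategory.lift g y ≫ aX.act)
    (fun x y => Groth.Agent.Lib.Helper5.MassStack.homEquiv x y)

end Groth.Agent.S19566
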