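import Groth.Statements.S19567
-- import your own Groth.Agent.* helpers here
import Groth.Agent.Lib.Helper58.PairHensNbhd

set_option autoImplicit false
universe u
open Hensel

namespace Groth.Agent.S19567

open TensorProduct in
/-- Two maps from an unramified algebra which agree modulo `J` agree after multiplying by `1 - ε`
for an idempotent `ε ∈ J`. -/
theorem exists_idem_equalizer {R : Type*} {S : Type*} {C : Type*} [CommRing R] [CommRing S]
    [Algebra R S] [CommRing C] [Algebra R C] [Algebra.EssFiniteType R S]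
    [Algebra.FormallyUnramified R S] (φ ψ : S →ₐ[R] C) (J : Ideal C)
    (h : ∀ s, φ s - ψ s ∈ J) :
    ∃ ε : C, IsIdempotentElem ε ∧ ε ∈ J ∧ ∀ s, (1 - ε) * (φ s - ψ s) = 0 := by
  obtain ⟨e, he, hsp⟩ : ∃ e, IsIdempotentElem e ∧ KaehlerDifferential.ideal R S = S ⊗[R] S ∙ e :=
    (Ideal.isIdempotentElem_iff_of_fg _ (KaehlerDifferential.ideal_fg R S)).mp <|
      (Ideal.cotangent_subsingleton_iff _).mp <| inferInstanceAs <| Subsingleton Ω[S⁄R]
  let Φ : S ⊗[R] S →ₐ[R] C := Algebra.TensorProduct.productMap φ ψ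
  have hΦ : ∀ s : S, Φ ((1 : S) ⊗ₜ[R] s - s ⊗ₜ[R] (1 : S)) = ψ s - φ s := fun s => by
    simp [Φ]
  have hle : (KaehlerDifferential.ideal R S).map Φ.toRingHom ≤ J := by
    rw [← KaehlerDifferential.span_range_eq_ideal, Ideal.map_span, Ideal.span_le]
    rintro _ ⟨_, ⟨s, rfl⟩, rfl⟩
    change Φ _ ∈ J
    rw [hΦ, ← neg_sub]
    exact neg_mem (h s)
  have heJ : Φ e ∈ J := hle (Ideal.mem_map_of_mem _ (by
    rw [hsp]; exact Ideal.mem_span_singleton_self e))
  refine ⟨Φ e, he.map Φ, heJ, fun s => ?_⟩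
  have hmem := KaehlerDifferential.one_smul_sub_smul_one_mem_ideal R s
  rw [hsp, Ideal.mem_span_singleton'] at hmem
  obtain ⟨c, hc⟩ := hmem
  have h1 := hΦ s
  rw [← hc, map_mul] at h1
  have h2 : φ s - ψ s = -(Φ c * Φ e) := by rw [h1]; ring
  have h3 : Φ e * Φ e = Φ e := (he.map Φ).eq
  rw [h2]
  calc (1 - Φ e) * -(Φ c * Φ e) = -(Φ c * (Φ e - Φ e * Φ e)) := by ring
    _ = 0 := by rw [h3, sub_self, mul_zero, neg_zero]

/-- Let A be a ring and I an ideal of A, and consider étale A-algebras A' for which the induced map A/I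
→ A'/IA' is bijective. (1) For any two such algebras A₁ and A₂ there is a third such algebra A₃
admitting A-algebra maps from both. (2) For any two A-algebra maps f, g : A₁ → A₂ between such
algebras there are such an algebra A₃ and an A-algebra map h : A₂ → A₃ with h ∘ f = h ∘ g. (All
algebras are taken in the universe of A. Since A itself is such an algebra, (1) and (2) say that the
category of these algebras and A-algebra maps is filtered.) -/
theorem result (A : Type u) [CommRing A] (I : Ideal A) :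
    (∀ (A₁ A₂ : Type u) [CommRing A₁] [Algebra A A₁] [Algebra.Etale A A₁] [CommRing A₂] [Algebra A A₂]
        [Algebra.Etale A A₂],
        Function.Bijective (Ideal.quotientMap (I.map (algebraMap A A₁)) (algebraMap A A₁) Ideal.le_comap_map) →
        Function.Bijective (Ideal.quotientMap (I.map (algebraMap A A₂)) (algebraMap A A₂) Ideal.le_comap_map) →
          ∃ (A₃ : Type u) (_ : CommRing A₃) (_ : Algebra A A₃) (_ : Algebra.Etale A A₃),
            Function.Bijective (Ideal.quotientMap (I.map (algebraMap A A₃)) (algebraMap A A₃) Ideal.le_comap_map) ∧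
              Nonempty (A₁ →ₐ[A] A₃) ∧ Nonempty (A₂ →ₐ[A] A₃)) ∧
    (∀ (A₁ A₂ : Type u) [CommRing A₁] [Algebra A A₁] [Algebra.Etale A A₁] [CommRing A₂] [Algebra A A₂]
        [Algebra.Etale A A₂],
        Function.Bijective (Ideal.quotientMap (I.map (algebraMap A A₁)) (algebraMap A A₁) Ideal.le_comap_map) →
        Function.Bijective (Ideal.quotientMap (I.map (algebraMap A A₂)) (algebraMap A A₂) Ideal.le_comap_map) →
          ∀ (f g : A₁ →ₐ[A] A₂),
            ∃ (A₃ : Type u) (_ : CommRing A₃) (_ : Algebra A A₃) (_ : Algebra.Etale A A₃),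
              Function.Bijective (Ideal.quotientMap (I.map (algebraMap A A₃)) (algebraMap A A₃) Ideal.le_comap_map) ∧
                ∃ h : A₂ →ₐ[A] A₃, h.comp f = h.comp g) := by
  refine ⟨?_, ?_⟩
  · intro A₁ A₂ _ _ _ _ _ _ hb₁ hb₂
    obtain ⟨σ₁, -⟩ := Groth.Agent.Lib.Helper58.PairHens.exists_pt_of_quotMap_bijective hb₁
    obtain ⟨σ₂, -⟩ := Groth.Agent.Lib.Helper58.PairHens.exists_pt_of_quotMap_bijective hb₂
    have : Algebra.Etale A (TensorProduct A A₁ A₂) := Algebra.Etale.comp A A₁ _
    obtain ⟨E', _, _, _, g, σ', -, -, hker⟩ :=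
      Groth.Agent.Lib.Helper58.PairHens.exists_tight_nbhd
        (Algebra.TensorProduct.productMap σ₁ σ₂) 1 (by rw [map_one]; exact isUnit_one)
    exact ⟨E', inferInstance, inferInstance, inferInstance,
      Groth.Agent.Lib.Helper58.PairHens.quotMap_bijective_of_ker_eq σ' hker,
      ⟨g.comp Algebra.TensorProduct.includeLeft⟩, ⟨g.comp Algebra.TensorProduct.includeRight⟩⟩
  · intro A₁ A₂ _ _ _ _ _ _ hb₁ hb₂ f g
    obtain ⟨σ₂, hσ₂⟩ := Groth.Agent.Lib.Helper58.PairHens.exists_pt_of_quotMap_bijective hb₂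
    have hs := (Groth.Agent.Lib.Helper58.PairHens.quotMap_bijective_iff.1 hb₁).2
    -- `f` and `g` agree modulo `I A₂`
    have hfg : ∀ s, f s - g s ∈ I.map (algebraMap A A₂) := by
      intro w
      obtain ⟨a, ha⟩ := hs w
      have hmap : ∀ φ : A₁ →ₐ[A] A₂, φ (w - algebraMap A A₁ a) ∈ I.map (algebraMap A A₂) := by
        intro φ
        have := Ideal.mem_map_of_mem φ.toRingHom ha
        rw [Ideal.map_map] at this
        have h3 : φ.toRingHom.comp (algebraMap A A₁) = algebraMap A A₂ := by
          ext r; simp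
        rwa [h3] at this
      have h1 := hmap f
      have h2 := hmap g
      rw [map_sub, AlgHom.commutes] at h1 h2
      have : f w - g w = (f w - algebraMap A A₂ a) - (g w - algebraMap A A₂ a) := by ring
      rw [this]
      exact sub_mem h1 h2
    obtain ⟨ε, -, hεJ, hε⟩ := exists_idem_equalizer f g _ hfg
    have hσε : σ₂ (1 - ε) = 1 := by
      have : σ₂ ε = 0 := by
        have : ε ∈ RingHom.ker σ₂ := by rw [hσ₂]; exact hεJ
        exact this
      rw [map_sub, map_one, this, sub_zero]
    obtain ⟨E', _, _, _, g', σ', -, hu, hker⟩ :=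
      Groth.Agent.Lib.Helper58.PairHens.exists_tight_nbhd σ₂ (1 - ε)
        (by rw [hσε]; exact isUnit_one)
    refine ⟨E', inferInstance, inferInstance, inferInstance,
      Groth.Agent.Lib.Helper58.PairHens.quotMap_bijective_of_ker_eq σ' hker, g', ?_⟩
    ext s
    have h1 : g' (1 - ε) * g' (f s - g s) = 0 := by rw [← map_mul, hε, map_zero]
    have h2 := (hu.mul_right_eq_zero).1 h1
    rw [map_sub, sub_eq_zero] at h2
    exact h2

end Groth.Agent.S19567
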