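import Groth.Statements.S19569
import Mathlib
-- import your own Groth.Agent.* helpers here

set_option autoImplicit false
universe u
open CAlg

namespace Groth.Agent.S19569

open TensorProduct
set_option linter.style.haveILetI false
set_option linter.unusedVariables false

/-- Lifting finitely many elements together with all their integral polynomial relations to a
stage of a directed system. -/
theorem exists_lift {ι : Type u} [Preorder ι] [IsDirected ι (· ≤ ·)] [Nonempty ι]
    (G : ι → Type u) [∀ i, CommRing (G i)] (f : ∀ i j, i ≤ j → (G i →+* G j))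
    (A : Type u) [CommRing A] (g : ∀ i, G i →+* A) (hg : ∀ i j (h : i ≤ j), (g j).comp (f i j h) = g i)
    (hsurj : ∀ a : A, ∃ i, ∃ x : G i, g i x = a)
    (hker : ∀ i (x : G i), g i x = 0 → ∃ j, ∃ h : i ≤ j, f i j h x = 0)
    {σ : Type*} [Finite σ] (v : σ → A) :
    ∃ (j : ι) (w : σ → G j), (∀ s, g j (w s) = v s) ∧
      ∀ p : MvPolynomial σ ℤ, MvPolynomial.aeval v p = 0 → MvPolynomial.aeval w p = 0 := by
  classical
  haveI := Fintype.ofFinite σ
  have hcomm : ∀ (j : ι) (w : σ → G j) (p : MvPolynomial σ ℤ),
      g j (MvPolynomial.aeval w p) = MvPolynomial.aeval (fun s => g j (w s)) p := by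
    intro j w p
    have := MvPolynomial.comp_aeval (R := ℤ) (f := w) ((g j).toIntAlgHom)
    exact congrArg (fun φ => φ p) this
  have hcomm' : ∀ (j j' : ι) (h : j ≤ j') (w : σ → G j) (p : MvPolynomial σ ℤ),
      f j j' h (MvPolynomial.aeval w p) = MvPolynomial.aeval (fun s => f j j' h (w s)) p := by
    intro j j' h w p
    have := MvPolynomial.comp_aeval (R := ℤ) (f := w) ((f j j' h).toIntAlgHom)
    exact congrArg (fun φ => φ p) this
  -- the kernel is finitely generated
  have hfg : (RingHom.ker (MvPolynomial.aeval v : MvPolynomial σ ℤ →ₐ[ℤ] A).toRingHom).FG :=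
    IsNoetherian.noetherian _
  obtain ⟨t, ht⟩ := hfg
  -- induction over the finitely many relations
  have key : ∀ t' : Finset (MvPolynomial σ ℤ), (∀ r ∈ t', MvPolynomial.aeval v r = 0) →
      ∃ (j : ι) (w : σ → G j), (∀ s, g j (w s) = v s) ∧ ∀ r ∈ t', MvPolynomial.aeval w r = 0 := by
    intro t'
    induction t' using Finset.induction_on with
    | empty =>
      intro _
      choose i x hx using fun s => hsurj (v s)
      obtain ⟨i₀, hi₀⟩ := Finite.exists_le i
      refine ⟨i₀, fun s => f (i s) i₀ (hi₀ s) (x s), fun s => ?_, by simp⟩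
      have := congrArg (fun φ => φ (x s)) (hg (i s) i₀ (hi₀ s))
      simpa [hx s] using this
    | insert r t' hr ih =>
      intro hrel
      obtain ⟨j, w, hw, hwt⟩ := ih (fun r' hr' => hrel r' (Finset.mem_insert_of_mem hr'))
      have h0 : g j (MvPolynomial.aeval w r) = 0 := by
        rw [hcomm]
        simp only [hw]
        exact hrel r (Finset.mem_insert_self r t')
      obtain ⟨j', hjj', hf0⟩ := hker j _ h0
      refine ⟨j', fun s => f j j' hjj' (w s), fun s => ?_, fun r' hr' => ?_⟩
      · have := congrArg (fun φ => φ (w s)) (hg j j' hjj')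
        simpa [hw s] using this
      · rw [← hcomm']
        rcases Finset.mem_insert.mp hr' with rfl | hr''
        · exact hf0
        · rw [hwt r' hr'', map_zero]
  have htker : ∀ r ∈ t, MvPolynomial.aeval v r = 0 := by
    intro r hr
    have : r ∈ RingHom.ker (MvPolynomial.aeval v : MvPolynomial σ ℤ →ₐ[ℤ] A).toRingHom :=
      ht ▸ Ideal.subset_span hr
    exact this
  obtain ⟨j, w, hw, hwt⟩ := key t htker
  refine ⟨j, w, hw, fun p hp => ?_⟩
  have hp' : p ∈ RingHom.ker (MvPolynomial.aeval v : MvPolynomial σ ℤ →ₐ[ℤ] A).toRingHom := hp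
  rw [← ht] at hp'
  have hle : Ideal.span (t : Set (MvPolynomial σ ℤ)) ≤
      RingHom.ker (MvPolynomial.aeval w : MvPolynomial σ ℤ →ₐ[ℤ] G j).toRingHom := by
    rw [Ideal.span_le]
    intro r hr
    exact hwt r hr
  exact hle hp'


open TensorProduct in
/-- Let A be the colimit of a directed system of rings (A_i), given by compatible ring maps A_i → A
which are jointly surjective and such that an element of some A_i mapping to zero in A already maps
to zero in some later A_j, and let B be an étale A-algebra. Then for some index i there is an étale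
A_i-algebra B_i such that B is isomorphic, as an A-algebra, to the base change A ⊗_{A_i} B_i
(existence of an isomorphism). (Stated for a system indexed by a directed preordered set.) -/
theorem result {ι : Type u} [Preorder ι] [IsDirected ι (· ≤ ·)] [Nonempty ι]
    (G : ι → Type u) [∀ i, CommRing (G i)] (f : ∀ i j, i ≤ j → (G i →+* G j))
    (A : Type u) [CommRing A] (g : ∀ i, G i →+* A) (hg : ∀ i j (h : i ≤ j), (g j).comp (f i j h) = g i)
    (hsurj : ∀ a : A, ∃ i, ∃ x : G i, g i x = a)
    (hker : ∀ i (x : G i), g i x = 0 → ∃ j, ∃ h : i ≤ j, f i j h x = 0)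
    (B : Type u) [CommRing B] [Algebra A B] [Algebra.Etale A B] :
    ∃ (i : ι) (Bi : Type u) (_ : CommRing Bi) (_ : Algebra (G i) Bi), Algebra.Etale (G i) Bi ∧
      letI : Algebra (G i) A := (g i).toAlgebra
      Nonempty (B ≃ₐ[A] A ⊗[G i] Bi) := by
  classical
  obtain ⟨A₀, B₀, _, _, hfg, hEt, ⟨e⟩⟩ := Algebra.Etale.exists_subalgebra_fg ℤ A B
  obtain ⟨s, hs⟩ := hfg
  let v : {x // x ∈ s} → A := fun x => (x : A)
  obtain ⟨j, w, hw, hrel⟩ := exists_lift G f A g hg hsurj hker v
  have hcomm : ∀ p : MvPolynomial {x // x ∈ s} ℤ,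
      g j (MvPolynomial.aeval w p) = MvPolynomial.aeval v p := by
    intro p
    have := MvPolynomial.comp_aeval (R := ℤ) (f := w) ((g j).toIntAlgHom)
    have h2 := congrArg (fun φ => φ p) this
    simp only [AlgHom.comp_apply, RingHom.toIntAlgHom_apply] at h2
    rw [h2]
    have : (fun i => (g j) (w i)) = v := funext hw
    rw [this]
  have hwd : ∀ p q : MvPolynomial {x // x ∈ s} ℤ, MvPolynomial.aeval v p = MvPolynomial.aeval v q →
      MvPolynomial.aeval w p = MvPolynomial.aeval w q := by
    intro p q hpq
    have := hrel (p - q) (by rw [map_sub, hpq, sub_self])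
    rwa [map_sub, sub_eq_zero] at this
  have hA₀ : ∀ x : A₀, ∃ p : MvPolynomial {x // x ∈ s} ℤ, MvPolynomial.aeval v p = (x : A) := by
    intro x
    have hx : (x : A) ∈ Algebra.adjoin ℤ (Set.range v) := by
      have : Set.range v = (s : Set A) := by
        ext a
        constructor
        · rintro ⟨y, rfl⟩; exact y.2
        · intro ha; exact ⟨⟨a, ha⟩, rfl⟩
      rw [this, hs]
      exact x.2
    rw [Algebra.adjoin_range_eq_range_aeval] at hx
    exact hx
  choose P hP using hA₀
  let φ : A₀ →+* G j :=
    { toFun := fun x => MvPolynomial.aeval w (P x)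
      map_one' := by
        have h1 : (1 : G j) = MvPolynomial.aeval w (1 : MvPolynomial {x // x ∈ s} ℤ) := (map_one _).symm
        rw [h1]
        exact hwd _ _ (by rw [hP, map_one]; rfl)
      map_mul' := by
        intro x y
        rw [← map_mul]
        exact hwd _ _ (by rw [hP, map_mul, hP, hP]; rfl)
      map_zero' := by
        have h1 : (0 : G j) = MvPolynomial.aeval w (0 : MvPolynomial {x // x ∈ s} ℤ) := (map_zero _).symm
        rw [h1]
        exact hwd _ _ (by rw [hP, map_zero]; rfl)
      map_add' := by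
        intro x y
        rw [← map_add]
        exact hwd _ _ (by rw [hP, map_add, hP, hP]; rfl) }
  have hφ : ∀ x : A₀, g j (φ x) = (x : A) := by
    intro x
    change g j (MvPolynomial.aeval w (P x)) = _
    rw [hcomm, hP]
  letI : Algebra A₀ (G j) := φ.toAlgebra
  letI : Algebra (G j) A := (g j).toAlgebra
  haveI : IsScalarTower A₀ (G j) A := IsScalarTower.of_algebraMap_eq fun x => (hφ x).symm
  refine ⟨j, G j ⊗[A₀] B₀, inferInstance, inferInstance, inferInstance, ?_⟩
  exact ⟨e.trans (Algebra.TensorProduct.cancelBaseChange A₀ (G j) A A B₀).symm⟩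


end Groth.Agent.S19569
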