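import Groth.Statements.S1957
import Mathlib
import Groth.Agent.Lib.Helper27.EtaleNbhd

set_option autoImplicit false
universe u
open Polynomial
open EtAlg

namespace Groth.Agent.S1957

lemma homEquiv_fst_coe {R : Type*} (S : Type*) [CommRing R] [CommRing S] [Algebra R S] {n : ℕ}
    (m k : ℕ) (hn : n = m + k) (p : MonicDegreeEq R n)
    (f : UniversalCoprimeFactorizationRing m k hn p →ₐ[R] S) :
    ((UniversalCoprimeFactorizationRing.homEquiv S m k hn p f).1.1).1 =
      (UniversalCoprimeFactorizationRing.factor₁ m k hn p).1.map f.toRingHom := by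
  simp [UniversalCoprimeFactorizationRing.homEquiv, UniversalFactorizationRing.homEquiv,
    UniversalCoprimeFactorizationRing.factor₁, MonicDegreeEq.map, Polynomial.map_map]
  rfl

lemma homEquiv_snd_coe {R : Type*} (S : Type*) [CommRing R] [CommRing S] [Algebra R S] {n : ℕ}
    (m k : ℕ) (hn : n = m + k) (p : MonicDegreeEq R n)
    (f : UniversalCoprimeFactorizationRing m k hn p →ₐ[R] S) :
    ((UniversalCoprimeFactorizationRing.homEquiv S m k hn p f).1.2).1 =
      (UniversalCoprimeFactorizationRing.factor₂ m k hn p).1.map f.toRingHom := by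
  simp [UniversalCoprimeFactorizationRing.homEquiv, UniversalFactorizationRing.homEquiv,
    UniversalCoprimeFactorizationRing.factor₂, MonicDegreeEq.map, Polynomial.map_map]
  rfl


/-- Let A be a ring, I an ideal and f a monic polynomial over A. Suppose the image of f in (A/I)[x]
factors as g h where the leading coefficient of g is a unit and g, h generate the unit ideal. Then
there is an etale A-algebra A' such that A/I -> A'/IA' is bijective, together with a factorization f
= g' h' in A'[x] whose reduction modulo IA' is the image of the given one. -/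
theorem result (A : Type u) [CommRing A] (I : Ideal A) (f : A[X]) (hf : f.Monic)
    (g h : (A ⧸ I)[X]) (hgh : f.map (Ideal.Quotient.mk I) = g * h) (hlead : IsUnit g.leadingCoeff)
    (hcop : IsCoprime g h) :
    ∃ (A' : Type u) (_ : CommRing A') (_ : Algebra A A') (_ : Algebra.Etale A A'),
      Function.Bijective (Ideal.quotientMap (I.map (algebraMap A A')) (algebraMap A A') Ideal.le_comap_map) ∧
      ∃ g' h' : A'[X], f.map (algebraMap A A') = g' * h' ∧
        g'.map (Ideal.Quotient.mk (I.map (algebraMap A A'))) =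
          g.map (Ideal.quotientMap (I.map (algebraMap A A')) (algebraMap A A') Ideal.le_comap_map) ∧
        h'.map (Ideal.Quotient.mk (I.map (algebraMap A A'))) =
          h.map (Ideal.quotientMap (I.map (algebraMap A A')) (algebraMap A A') Ideal.le_comap_map) := by
  classical
  rcases subsingleton_or_nontrivial (A ⧸ I) with htriv | hnt
  · have hItop : I = ⊤ := Ideal.Quotient.subsingleton_iff.mp htriv
    have hsub : Subsingleton (A ⧸ I.map (algebraMap A A)) := by
      rw [Ideal.Quotient.subsingleton_iff, hItop, Ideal.map_top]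
    have hsubP : Subsingleton ((A ⧸ I.map (algebraMap A A))[X]) :=
      ⟨fun a b => Polynomial.ext fun n => Subsingleton.elim _ _⟩
    refine ⟨A, inferInstance, inferInstance, inferInstance, ⟨fun a b _ => Subsingleton.elim _ _,
      fun y => ⟨0, Subsingleton.elim _ _⟩⟩, f, 1, by simp, Subsingleton.elim _ _,
      Subsingleton.elim _ _⟩
  · obtain ⟨u, hu⟩ := hlead
    let g₁ : (A ⧸ I)[X] := C (↑u⁻¹ : A ⧸ I) * g
    let h₁ : (A ⧸ I)[X] := C (↑u : A ⧸ I) * h
    have hg₁ : g₁.Monic := Polynomial.monic_C_mul_of_mul_leadingCoeff_eq_one (by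
      rw [← hu]; exact u.inv_mul)
    have hprod : g₁ * h₁ = f.map (Ideal.Quotient.mk I) := by
      rw [hgh]
      calc g₁ * h₁ = C ((↑u⁻¹ : A ⧸ I) * (↑u : A ⧸ I)) * (g * h) := by
            simp only [g₁, h₁, C_mul]; ring
        _ = g * h := by rw [u.inv_mul, C_1, one_mul]
    have hh₁ : h₁.Monic := hg₁.of_mul_monic_left (hprod ▸ hf.map _)
    have hcop₁ : IsCoprime g₁ h₁ := by
      have hu1 : IsUnit (C (↑u⁻¹ : A ⧸ I)) := Polynomial.isUnit_C.mpr (Units.isUnit _)
      have hu2 : IsUnit (C (↑u : A ⧸ I)) := Polynomial.isUnit_C.mpr (Units.isUnit _)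
      exact (isCoprime_mul_unit_left_left hu1 g h₁).mpr
        ((isCoprime_mul_unit_left_right hu2 g h).mpr hcop)
    have hn : f.natDegree = g₁.natDegree + h₁.natDegree := by
      rw [← hg₁.natDegree_mul hh₁, hprod, hf.natDegree_map]
    let p : MonicDegreeEq A f.natDegree := MonicDegreeEq.mk f hf rfl
    let q : { q : MonicDegreeEq (A ⧸ I) g₁.natDegree × MonicDegreeEq (A ⧸ I) h₁.natDegree //
        q.1.1 * q.2.1 = p.1.map (algebraMap A (A ⧸ I)) ∧ IsCoprime q.1.1 q.2.1 } :=
      ⟨(MonicDegreeEq.mk g₁ hg₁ rfl, MonicDegreeEq.mk h₁ hh₁ rfl), hprod, hcop₁⟩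
    let φ := (UniversalCoprimeFactorizationRing.homEquiv (A ⧸ I) g₁.natDegree h₁.natDegree hn
      p).symm q
    have hφq : UniversalCoprimeFactorizationRing.homEquiv (A ⧸ I) g₁.natDegree h₁.natDegree hn
      p φ = q := Equiv.apply_symm_apply _ _
    have hφ1 : (UniversalCoprimeFactorizationRing.factor₁ g₁.natDegree h₁.natDegree hn
        p).1.map φ.toRingHom = g₁ := by
      rw [← homEquiv_fst_coe, hφq]
      rfl
    have hφ2 : (UniversalCoprimeFactorizationRing.factor₂ g₁.natDegree h₁.natDegree hn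
        p).1.map φ.toRingHom = h₁ := by
      rw [← homEquiv_snd_coe, hφq]
      rfl
    obtain ⟨a, ha⟩ := Ideal.Quotient.mk_surjective (u : A ⧸ I)
    have hc : IsUnit (φ (algebraMap A _ a)) := by
      rw [AlgHom.commutes]
      change IsUnit (Ideal.Quotient.mk I a)
      rw [ha]; exact u.isUnit
    obtain ⟨A', _, _, _, χ, ψ, hψχ, hcu, hker⟩ :=
      Groth.Agent.Lib.Helper27.EtaleNbhd.exists_etale_nbhd_of_section I φ _ hc
    obtain ⟨hbij, hcomp⟩ := Groth.Agent.Lib.Helper27.EtaleNbhd.quotientMap_bijective_of_ker I ψ hker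
    rw [AlgHom.commutes] at hcu
    obtain ⟨w, hw⟩ := hcu
    have hψw : ψ (↑w : A') = u := by
      rw [hw, AlgHom.commutes]; exact ha
    have hψwinv : ψ (↑w⁻¹ : A') = (↑u⁻¹ : A ⧸ I) := by
      have h1 : ψ (↑w : A') * ψ (↑w⁻¹ : A') = 1 := by
        rw [← map_mul, w.mul_inv, map_one]
      rw [hψw] at h1
      calc ψ (↑w⁻¹ : A') = (↑u⁻¹ : A ⧸ I) * (↑u * ψ (↑w⁻¹ : A')) := by
            rw [← mul_assoc, u.inv_mul, one_mul]
        _ = _ := by rw [h1, mul_one]
    let F₁ : A'[X] := (UniversalCoprimeFactorizationRing.factor₁ g₁.natDegree h₁.natDegree hn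
        p).1.map χ.toRingHom
    let F₂ : A'[X] := (UniversalCoprimeFactorizationRing.factor₂ g₁.natDegree h₁.natDegree hn
        p).1.map χ.toRingHom
    have hF : F₁ * F₂ = f.map (algebraMap A A') := by
      have := UniversalCoprimeFactorizationRing.factor₁_mul_factor₂ g₁.natDegree h₁.natDegree hn p
      have h2 := congrArg (Polynomial.map χ.toRingHom) this
      rw [Polynomial.map_mul, MonicDegreeEq.map_coe, Polynomial.map_map] at h2
      rw [h2]
      congr 1
      exact χ.comp_algebraMap
    have hF1 : F₁.map ψ.toRingHom = g₁ := by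
      rw [← hφ1, Polynomial.map_map, ← hψχ]
      rfl
    have hF2 : F₂.map ψ.toRingHom = h₁ := by
      rw [← hφ2, Polynomial.map_map, ← hψχ]
      rfl
    refine ⟨A', inferInstance, inferInstance, inferInstance, hbij,
      C (↑w : A') * F₁, C (↑w⁻¹ : A') * F₂, ?_, ?_, ?_⟩
    · rw [← hF]
      calc F₁ * F₂ = C ((↑w : A') * (↑w⁻¹ : A')) * (F₁ * F₂) := by
            rw [w.mul_inv, C_1, one_mul]
        _ = _ := by rw [C_mul]; ring
    · rw [← hcomp, ← Polynomial.map_map, Polynomial.map_mul, Polynomial.map_C, hF1]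
      congr 1
      change C (ψ (↑w : A')) * g₁ = g
      rw [hψw]
      simp only [g₁, ← mul_assoc, ← C_mul, u.mul_inv, C_1, one_mul]
    · rw [← hcomp, ← Polynomial.map_map, Polynomial.map_mul, Polynomial.map_C, hF2]
      congr 1
      change C (ψ (↑w⁻¹ : A')) * h₁ = h
      rw [hψwinv]
      simp only [h₁, ← mul_assoc, ← C_mul, u.inv_mul, C_1, one_mul]

end Groth.Agent.S1957
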