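import Groth.Statements.S19571
import Mathlib
-- import your own Groth.Agent.* helpers here

set_option autoImplicit false
universe u
open CategoryTheory AlgebraicGeometry
open EtaPt

namespace Groth.Agent.S19571

/-- Let f : Y → X be a morphism of schemes which is flat, surjective and locally of finite presentation.
Then every affine open U of X is covered by affine opens V each of which is the image f(W) of some
affine open W of Y; stated pointwise: for every x ∈ U there are an affine open V of X with x ∈ V ≤ U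
and an affine open W of Y with f(W) = V as sets. (For such V and W the induced ring map Γ(V) → Γ(W)
is then faithfully flat.) -/
theorem result
    {X Y : Scheme.{u}} (f : Y ⟶ X) [Flat f] [Surjective f] [LocallyOfFinitePresentation f]
    (U : X.affineOpens) (x : X) (hx : x ∈ (U : X.Opens)) :
    ∃ V : X.affineOpens, x ∈ (V : X.Opens) ∧ (V : X.Opens) ≤ (U : X.Opens) ∧
      ∃ W : Y.affineOpens, f.base '' ((W : Y.Opens) : Set Y) = ((V : X.Opens) : Set X) := by
  obtain ⟨y, rfl⟩ := Surjective.surj (f := f) x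
  have hy : y ∈ f ⁻¹ᵁ (U : X.Opens) := hx
  obtain ⟨_, ⟨W₀, hW₀, rfl⟩, hyW₀, hW₀U⟩ :=
    Y.isBasis_affineOpens.exists_subset_of_mem_open hy (f ⁻¹ᵁ (U : X.Opens)).isOpen
  have hopen : IsOpen (f '' (W₀ : Set Y)) := f.isOpenMap _ W₀.isOpen
  let V₀ : X.Opens := ⟨f '' (W₀ : Set Y), hopen⟩
  have hxV₀ : f y ∈ V₀ := ⟨y, hyW₀, rfl⟩
  obtain ⟨g, hgV₀, hxg⟩ := U.2.exists_basicOpen_le (V := V₀) ⟨f y, hxV₀⟩ hx
  refine ⟨⟨X.basicOpen g, U.2.basicOpen g⟩, hxg, X.basicOpen_le g, ?_⟩
  have hle : W₀ ≤ f ⁻¹ᵁ (U : X.Opens) := hW₀U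
  refine ⟨⟨Y.basicOpen (f.appLE U W₀ hle g), IsAffineOpen.basicOpen hW₀ _⟩, ?_⟩
  simp only [Scheme.basicOpen_appLE]
  rw [TopologicalSpace.Opens.coe_inf, Scheme.Hom.coe_preimage, Set.image_inter_preimage]
  apply Set.inter_eq_right.2
  exact hgV₀

end Groth.Agent.S19571
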