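import Groth.Statements.S19573
import Mathlib
-- import your own Groth.Agent.* helpers here

set_option autoImplicit false
universe u
open LocInt

namespace Groth.Agent.S19573
set_option linter.style.haveILetI false

theorem smul_map_eq_zero {R M N ι : Type*} [CommRing R] [AddCommGroup M] [Module R M]
    [AddCommGroup N] [Module R N] [Fintype ι] [DecidableEq ι]
    (f : M [⋀^ι]→ₗ[R] N) (v : ι → M) (a : ι → R) (h : ∑ j, a j • v j = 0) (i : ι) :
    a i • f v = 0 := by
  have h1 : f (Function.update v i (∑ j, a j • v j)) = 0 := by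
    rw [h]; exact f.map_update_zero v i
  rw [AlternatingMap.map_update_sum] at h1
  rw [Finset.sum_eq_single i] at h1
  · rwa [AlternatingMap.map_update_smul, Function.update_eq_self] at h1
  · intro j _ hji
    rw [AlternatingMap.map_update_smul, f.map_eq_zero_of_eq _ (i := i) (j := j) _ hji.symm,
      smul_zero]
    simp [Function.update_of_ne hji]
  · simp

theorem span_le_annihilator {R : Type u} [CommRing R] {n : ℕ} (a : Fin n → R) :
    Ideal.span (Set.range a) ≤
      (⋀[R]^n ((Fin n → R) ⧸ Submodule.span R {a})).annihilator := by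
  classical
  rw [Ideal.span_le]
  rintro _ ⟨i, rfl⟩
  rw [SetLike.mem_coe, Module.mem_annihilator]
  let F := (Fin n → R) ⧸ Submodule.span R {a}
  let Φ : (Fin n → R) [⋀^Fin n]→ₗ[R] ⋀[R]^n F :=
    (exteriorPower.ιMulti R n).compLinearMap (Submodule.span R {a}).mkQ
  have hΦ : a i • Φ = 0 := by
    refine Module.Basis.ext_alternating (Pi.basisFun R (Fin n)) fun v hv => ?_
    have hbij : Function.Bijective v := Finite.injective_iff_bijective.mp hv
    obtain ⟨k, rfl⟩ := hbij.2 i
    rw [AlternatingMap.smul_apply, AlternatingMap.zero_apply]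
    rw [AlternatingMap.compLinearMap_apply]
    refine smul_map_eq_zero (exteriorPower.ιMulti R n)
      (fun j => (Submodule.span R {a}).mkQ (Pi.basisFun R (Fin n) (v j))) (fun j => a (v j)) ?_ k
    rw [Fintype.sum_bijective v hbij _
      (fun j => a j • (Submodule.span R {a}).mkQ (Pi.basisFun R (Fin n) j)) (fun _ => rfl)]
    simp_rw [← map_smul, ← map_sum]
    have : ∑ j, a j • Pi.basisFun R (Fin n) j = a := by
      funext l
      simp [Pi.basisFun_apply, Finset.sum_apply, Pi.single_apply]
    rw [this]
    exact (Submodule.Quotient.mk_eq_zero _).mpr (Submodule.mem_span_singleton_self a)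
  intro x
  have hx : x ∈ (⊤ : Submodule R (⋀[R]^n F)) := trivial
  rw [← exteriorPower.ιMulti_span R n] at hx
  induction hx using Submodule.span_induction with
  | mem x hx =>
    obtain ⟨w, rfl⟩ := hx
    have : ∀ k, ∃ u : Fin n → R, (Submodule.span R {a}).mkQ u = w k := fun k =>
      Submodule.mkQ_surjective _ (w k)
    choose u hu using this
    have h2 : exteriorPower.ιMulti R n w = Φ u := by
      rw [AlternatingMap.compLinearMap_apply]
      congr 1
      funext k
      exact (hu k).symm
    rw [h2, ← AlternatingMap.smul_apply, hΦ, AlternatingMap.zero_apply]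
  | zero => exact smul_zero _
  | add x y _ _ hx hy => rw [smul_add, hx, hy, add_zero]
  | smul r x _ hx => rw [smul_comm, hx, smul_zero]

theorem annihilator_le_span {R : Type u} [CommRing R] {n : ℕ} (a : Fin n → R) :
    (⋀[R]^n ((Fin n → R) ⧸ Submodule.span R {a})).annihilator ≤ Ideal.span (Set.range a) := by
  classical
  let I : Ideal R := Ideal.span (Set.range a)
  let S := R ⧸ I
  let F := (Fin n → R) ⧸ Submodule.span R {a}
  let ρ₀ : (Fin n → R) →ₗ[R] (Fin n → S) := (Algebra.linearMap R S).compLeft (Fin n)
  have hρ₀ : Submodule.span R {a} ≤ LinearMap.ker ρ₀ := by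
    rw [Submodule.span_le, Set.singleton_subset_iff, SetLike.mem_coe, LinearMap.mem_ker]
    funext j
    exact Ideal.Quotient.eq_zero_iff_mem.mpr (Ideal.subset_span ⟨j, rfl⟩)
  let ρ : F →ₗ[R] (Fin n → S) := (Submodule.span R {a}).liftQ ρ₀ hρ₀
  let ΔS : (Fin n → S) [⋀^Fin n]→ₗ[S] S := Matrix.detRowAlternating
  let Δ : F [⋀^Fin n]→ₗ[R] S :=
    { toMultilinearMap := (ΔS.toMultilinearMap.restrictScalars R).compLinearMap (fun _ => ρ)
      map_eq_zero_of_eq' := fun v i j hv hij => by
        refine ΔS.map_eq_zero_of_eq _ ?_ hij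
        simp only [hv] }
  let G : ⋀[R]^n F →ₗ[R] S := exteriorPower.alternatingMapLinearEquiv Δ
  let m : Fin n → F := fun j => (Submodule.span R {a}).mkQ (Pi.single j 1)
  have hG : G (exteriorPower.ιMulti R n m) = 1 := by
    rw [exteriorPower.alternatingMapLinearEquiv_apply_ιMulti]
    change Matrix.det (Matrix.of fun i => ρ (m i)) = 1
    have : (Matrix.of fun i => ρ (m i)) = (1 : Matrix (Fin n) (Fin n) S) := by
      ext i j
      have h1 : ρ (m i) = ρ₀ (Pi.single i 1) := rfl
      rw [Matrix.of_apply, h1]
      change algebraMap R S ((Pi.single i (1 : R) : Fin n → R) j) = _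
      rw [Matrix.one_apply, Pi.single_apply]
      split_ifs with h1 h2 h2
      · simp
      · exact absurd h1.symm h2
      · exact absurd h2.symm h1
      · simp
    rw [this, Matrix.det_one]
  intro r hr
  have h0 : r • exteriorPower.ιMulti R n m = 0 := Module.mem_annihilator.mp hr _
  have := congrArg G h0
  rw [map_smul, hG, map_zero, Algebra.smul_def, mul_one] at this
  exact Ideal.Quotient.eq_zero_iff_mem.mp this

theorem exists_equiv_of_isUnit {A : Type*} [CommRing A] {n : ℕ} (b : Fin n → A) (i : Fin n)
    (hi : IsUnit (b i)) :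
    Nonempty (((Fin n → A) ⧸ Submodule.span A {b}) ≃ₗ[A] ({j : Fin n // j ≠ i} → A)) := by
  classical
  obtain ⟨u, hu⟩ := hi
  let g : (Fin n → A) →ₗ[A] ({j : Fin n // j ≠ i} → A) :=
    LinearMap.pi fun j => LinearMap.proj j.1 - (↑u⁻¹ * b j.1) • LinearMap.proj i
  have hg : ∀ x j, g x j = x j.1 - (↑u⁻¹ * b j.1) * x i := fun x j => rfl
  have hsurj : Function.Surjective g := by
    intro y
    refine ⟨fun j => if h : j = i then 0 else y ⟨j, h⟩, ?_⟩
    funext j
    rw [hg]
    simp [j.2]
  have hker : LinearMap.ker g = Submodule.span A {b} := by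
    apply le_antisymm
    · intro x hx
      rw [LinearMap.mem_ker] at hx
      rw [Submodule.mem_span_singleton]
      refine ⟨↑u⁻¹ * x i, ?_⟩
      funext j
      by_cases hj : j = i
      · subst hj
        rw [Pi.smul_apply, smul_eq_mul, ← hu, mul_assoc, mul_comm (x j), ← mul_assoc,
          Units.inv_mul, one_mul]
      · have := congrFun hx ⟨j, hj⟩
        rw [hg, Pi.zero_apply, sub_eq_zero] at this
        rw [Pi.smul_apply, smul_eq_mul, this]
        ring
    · rw [Submodule.span_le, Set.singleton_subset_iff, SetLike.mem_coe, LinearMap.mem_ker]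
      funext j
      rw [hg, Pi.zero_apply, sub_eq_zero, ← hu, mul_comm _ (b j.1), mul_assoc, Units.inv_mul,
        mul_one]
  exact ⟨(Submodule.quotEquivOfEq _ _ hker.symm).trans (g.quotKerEquivOfSurjective hsurj)⟩

theorem freeLocus_rank {R : Type u} [CommRing R] {n : ℕ} (a : Fin n → R) (p : PrimeSpectrum R)
    (hp : ¬ Ideal.span (Set.range a) ≤ p.asIdeal) :
    p ∈ Module.freeLocus R ((Fin n → R) ⧸ Submodule.span R {a}) ∧
      Module.rankAtStalk ((Fin n → R) ⧸ Submodule.span R {a}) p = n - 1 := by
  classical
  obtain ⟨i, hi⟩ : ∃ i, a i ∉ p.asIdeal := by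
    by_contra h
    push Not at h
    exact hp (Ideal.span_le.mpr (by rintro _ ⟨i, rfl⟩; exact h i))
  let Rp := Localization.AtPrime p.asIdeal
  let f : (Fin n → R) →ₗ[R] (Fin n → Rp) :=
    LinearMap.pi fun j => Algebra.linearMap R Rp ∘ₗ LinearMap.proj j
  haveI : IsLocalizedModule p.asIdeal.primeCompl f :=
    IsLocalizedModule.pi _ (fun _ => Algebra.linearMap R Rp)
  let M' := Submodule.span R {a}
  let N' : Submodule Rp (Fin n → Rp) := M'.localized' Rp p.asIdeal.primeCompl f
  let g : ((Fin n → R) ⧸ M') →ₗ[R] ((Fin n → Rp) ⧸ N') :=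
    M'.toLocalizedQuotient' Rp p.asIdeal.primeCompl f
  haveI : IsLocalizedModule p.asIdeal.primeCompl g := inferInstance
  have hN' : N' = Submodule.span Rp {f a} := by
    simp only [N', M', Submodule.localized'_span, Set.image_singleton]
  have hunit : IsUnit (f a i) :=
    IsLocalization.map_units Rp (⟨a i, hi⟩ : p.asIdeal.primeCompl)
  obtain ⟨e⟩ := exists_equiv_of_isUnit (f a) i hunit
  let e' : ((Fin n → Rp) ⧸ N') ≃ₗ[Rp] ({j : Fin n // j ≠ i} → Rp) :=
    (Submodule.quotEquivOfEq _ _ hN').trans e
  constructor
  · rw [Module.mem_freeLocus_of_isLocalization p Rp _ g]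
    exact Module.Free.of_equiv e'.symm
  · let e2 : LocalizedModule p.asIdeal.primeCompl ((Fin n → R) ⧸ M') ≃ₗ[Rp] ((Fin n → Rp) ⧸ N') :=
      (IsLocalizedModule.linearEquiv p.asIdeal.primeCompl
        (LocalizedModule.mkLinearMap _ _) g).extendScalarsOfIsLocalization p.asIdeal.primeCompl _
    rw [Module.rankAtStalk, (e2.trans e').finrank_eq, Module.finrank_pi]
    simp


/-- The first sentence of the lemma together with the description of the closed subscheme Z given in its
proof, in the local model. Let R be a commutative ring, n ≥ 1, a ∈ R^n, and F = R^n / R·a the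
cokernel of R → R^n, 1 ↦ a (the zeroth homology of the two-term complex R → R^n). Then the
annihilator ideal of the top exterior power ⋀^n F is the ideal generated by the coordinates a_1, …,
a_n of a, and at every prime p of R off the closed set V(a_1, …, a_n) the module F is free of rank n
− 1 after localization at p. (The published statement is for a complex on a scheme which is locally
quasi-isomorphic to such a two-term complex L → E with L invertible and E locally free of rank n,
and says that H^0 restricted to the complement of the closed subscheme cut out by the annihilator of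
its n-th exterior power is locally free of rank n − 1; this row is the local model.) -/
theorem result (R : Type u) [CommRing R]
    (n : ℕ) (hn : 1 ≤ n) (a : Fin n → R) :
    (⋀[R]^n ((Fin n → R) ⧸ Submodule.span R {a})).annihilator = Ideal.span (Set.range a) ∧
    ∀ p : PrimeSpectrum R, ¬ Ideal.span (Set.range a) ≤ p.asIdeal →
      p ∈ Module.freeLocus R ((Fin n → R) ⧸ Submodule.span R {a}) ∧
      Module.rankAtStalk ((Fin n → R) ⧸ Submodule.span R {a}) p = n - 1 := by
  exact ⟨le_antisymm (annihilator_le_span a) (span_le_annihilator a),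
    fun p hp => freeLocus_rank a p hp⟩


end Groth.Agent.S19573
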