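import Groth.Statements.S19574
import Groth.Agent.S6000
import Mathlib.Algebra.Homology.ShortComplex.ModuleCat
import Mathlib.Algebra.Homology.HomologicalComplex
-- import your own Groth.Agent.* helpers here

set_option autoImplicit false
universe u
open CategoryTheory MonoidalCategory
open Lie3Mod

namespace Groth.Agent.S19574

/-- Let R be a commutative ring and d ≥ 1. Let K be a chain complex of R-modules concentrated in degrees
0, …, d + 1, written … → 0 → P_{d+1} → P_d → … → P_1 → M with M = K_0, which is exact (so 0 →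
P_{d+1} → … → P_1 → M → 0 is an exact sequence), such that P_1, …, P_d are flat R-modules and such
that for every ideal I of R the complex obtained by applying (R/I) ⊗_R − termwise is again exact.
Then M is a flat R-module. (No flatness is assumed for P_{d+1}. The published lemma adds that for R
Noetherian it suffices to test prime ideals I; that refinement is not part of this statement.) -/
theorem result (R : Type u) [CommRing R]
    (d : ℕ) (hd : 1 ≤ d) (K : ChainComplex (ModuleCat.{u} R) ℕ)
    (hzero : ∀ i : ℕ, d + 1 < i → Limits.IsZero (K.X i))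
    (hflat : ∀ i : ℕ, 1 ≤ i → i ≤ d → Module.Flat R (K.X i))
    (hK : K.Acyclic)
    (hbc : ∀ I : Ideal R,
      (((tensorLeft (ModuleCat.of R (R ⧸ I))).mapHomologicalComplex (ComplexShape.down ℕ)).obj K).Acyclic) :
    Module.Flat R (K.X 0) := by
  have h1 : Module.Flat R (K.X 1) := hflat 1 le_rfl hd
  have e0 := (K.exactAt_iff' 1 0 0 (by simp) (by simp)).mp (hK 0)
  have e1 := (K.exactAt_iff' 2 1 0 (by simp) (by simp)).mp (hK 1)
  rw [ShortComplex.moduleCat_exact_iff] at e0 e1
  have hsurj : Function.Surjective (K.d 1 0).hom := by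
    intro y
    obtain ⟨x, hx⟩ := e0 y (by
      have : (K.sc' 1 0 0).g = 0 := K.shape 0 0 (by simp)
      rw [this]; rfl)
    exact ⟨x, hx⟩
  have hdd : ∀ x : K.X 2, (K.d 1 0).hom ((K.d 2 1).hom x) = 0 := by
    intro x
    have := K.d_comp_d 2 1 0
    exact congrArg (fun f => f.hom x) this
  have hdd' : ∀ x : K.X 3, (K.d 2 1).hom ((K.d 3 2).hom x) = 0 := by
    intro x
    have := K.d_comp_d 3 2 1
    exact congrArg (fun f => f.hom x) this
  let q : K.X 2 →ₗ[R] LinearMap.ker (K.d 1 0).hom :=
    (K.d 2 1).hom.codRestrict _ (fun x => by rw [LinearMap.mem_ker]; exact hdd x)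
  have hq : Function.Surjective q := by
    rintro ⟨y, hy⟩
    obtain ⟨x, hx⟩ := e1 y hy
    exact ⟨x, Subtype.ext hx⟩
  have hqd : q ∘ₗ (K.d 3 2).hom = 0 := by
    ext x
    exact hdd' x
  have hsq : (LinearMap.ker (K.d 1 0).hom).subtype ∘ₗ q = (K.d 2 1).hom := by
    ext x
    rfl
  rw [Module.Flat.iff_lTensor_injective']
  intro J
  refine Groth.Agent.S6000.inj_of_torFree J (LinearMap.ker (K.d 1 0).hom) (K.d 1 0).hom hsurj
    (LinearMap.exact_subtype_ker_map _) ?_
  rw [← LinearMap.lTensor_inj_iff_rTensor_inj]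
  have eT := (HomologicalComplex.exactAt_iff' _ 3 2 1 (by simp) (by simp)).mp (hbc J 2)
  rw [ShortComplex.moduleCat_exact_iff] at eT
  rw [injective_iff_map_eq_zero]
  intro z hz
  obtain ⟨w, rfl⟩ := LinearMap.lTensor_surjective (R ⧸ J) hq z
  have hw : (K.d 2 1).hom.lTensor (R ⧸ J) w = 0 := by
    rw [← hsq, LinearMap.lTensor_comp, LinearMap.comp_apply]
    exact hz
  obtain ⟨v, hv⟩ := eT w hw
  have hv' : (K.d 3 2).hom.lTensor (R ⧸ J) v = w := hv
  rw [← hv', ← LinearMap.comp_apply, ← LinearMap.lTensor_comp, hqd, LinearMap.lTensor_zero,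
    LinearMap.zero_apply]

end Groth.Agent.S19574
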