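import Groth.Statements.S19583
import Mathlib

set_option autoImplicit false
universe u
open Cyc

namespace Groth.Agent.S19583

section helpers
open CategoryTheory CategoryTheory.Limits AlgebraicGeometry
open Cyc


/-- the image of any point of `Spec K` in `Spec R` is the generic point. -/
lemma specMap_fractionRing_apply (R : Type u) [CommRing R] [IsDomain R]
    (z : Spec (CommRingCat.of (FractionRing R))) :
    (Spec.map (CommRingCat.ofHom (algebraMap R (FractionRing R)))).base z =
      (⟨⊥, Ideal.isPrime_bot⟩ : PrimeSpectrum R) := by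
  apply PrimeSpectrum.ext
  have hz : z.asIdeal = ⊥ := by
    have := z.isPrime
    exact (Ideal.eq_bot_or_top z.asIdeal).resolve_right this.ne_top
  change Ideal.comap (algebraMap R (FractionRing R)) z.asIdeal = ⊥
  rw [hz]
  rw [← RingHom.ker_eq_comap_bot]
  exact (RingHom.injective_iff_ker_eq_bot _).mp (IsFractionRing.injective R (FractionRing R))

/-- an ideal sheaf on the spectrum of a DVR whose support misses the generic point is effective
Cartier. -/
lemma effCartier_specDVR (R : Type u) [CommRing R] [IsDomain R] [IsDiscreteValuationRing R]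
    (J : (Spec (CommRingCat.of R)).IdealSheafData)
    (hJ : (⟨⊥, Ideal.isPrime_bot⟩ : PrimeSpectrum R) ∉ (J.support : Set (Spec (CommRingCat.of R)))) :
    BlowUp.IsEffCartierIdeal J := by
  intro x
  let e : Γ(Spec (CommRingCat.of R), ⊤) ≃+* R :=
    (Scheme.ΓSpecIso (CommRingCat.of R)).commRingCatIsoToRingEquiv
  haveI : IsDomain Γ(Spec (CommRingCat.of R), ⊤) := e.toMulEquiv.isDomain _
  haveI : IsPrincipalIdealRing Γ(Spec (CommRingCat.of R), ⊤) :=
    IsPrincipalIdealRing.of_surjective e.symm.toRingHom e.symm.surjective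
  have hU : IsAffineOpen (⊤ : (Spec (CommRingCat.of R)).Opens) := isAffineOpen_top _
  refine ⟨⟨⊤, hU⟩, trivial, ?_⟩
  have hprin : (J.ideal ⟨⊤, hU⟩).IsPrincipal := IsPrincipalIdealRing.principal _
  refine ⟨Submodule.IsPrincipal.generator (J.ideal ⟨⊤, hU⟩), ?_,
    (Ideal.span_singleton_generator _).symm⟩
  rw [mem_nonZeroDivisors_iff_ne_zero]
  intro h0
  have hbot : J.ideal ⟨⊤, hU⟩ = ⊥ := by
    rw [← Ideal.span_singleton_generator (J.ideal ⟨⊤, hU⟩), h0]
    simp
  apply hJ
  have := Scheme.IdealSheafData.coe_support_inter J ⟨⊤, hU⟩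
  rw [hbot] at this
  have hy' : (⟨⊥, Ideal.isPrime_bot⟩ : PrimeSpectrum R) ∈
      (J.support : Set (Spec (CommRingCat.of R))) ∩
        ((⊤ : (Spec (CommRingCat.of R)).Opens) : Set _) := by
    rw [this]
    refine ⟨?_, trivial⟩
    simp [Scheme.zeroLocus]
  exact hy'.1

lemma le_ker_of_killed {W Y : Scheme.{u}} (𝓔 𝒥 : W.IdealSheafData)
    (h𝒥 : ∀ (V : W.affineOpens) (a : Γ(W, V.1)), a ∈ 𝒥.ideal V →
      ∃ n : ℕ, ∀ a' : Γ(W, V.1), a' ∈ (𝓔 ^ n).ideal V → a' * a = 0)
    (h : Y ⟶ W) (hh : ∀ y : Y, h.base y ∉ (𝓔.support : Set W)) :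
    𝒥 ≤ h.ker := by
  unfold Scheme.Hom.ker
  rw [Scheme.IdealSheafData.le_ofIdeals_iff]
  intro V a ha
  rw [RingHom.mem_ker]
  obtain ⟨n, hn⟩ := h𝒥 V a ha
  refine Y.IsSheaf.section_ext fun y hy => ?_
  have hyV : h.base y ∈ V.1 := hy
  have h1 : h.base y ∉ W.zeroLocus (U := V.1) (𝓔.ideal V) := by
    intro hz
    have : h.base y ∈ (𝓔.support : Set W) ∩ V.1 := by
      rw [Scheme.IdealSheafData.coe_support_inter]; exact ⟨hz, hyV⟩
    exact hh y this.1
  obtain ⟨s, hs, hys⟩ : ∃ s ∈ 𝓔.ideal V, h.base y ∈ W.basicOpen s := by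
    rw [Scheme.mem_zeroLocus_iff] at h1
    push Not at h1
    obtain ⟨s, hs, hys⟩ := h1
    exact ⟨s, hs, hys⟩
  have hsn : s ^ n ∈ (𝓔 ^ n).ideal V := by
    rw [Scheme.IdealSheafData.ideal_pow]
    exact Ideal.pow_mem_pow hs n
  have hsa : s ^ n * a = 0 := hn _ hsn
  have hle : W.basicOpen s ≤ V.1 := W.basicOpen_le s
  have hle' : h ⁻¹ᵁ (W.basicOpen s) ≤ h ⁻¹ᵁ V.1 := fun z hz => hle hz
  refine ⟨h ⁻¹ᵁ (W.basicOpen s), hle', hys, ?_⟩
  -- a restricted to D(s) is zero
  have ha0 : W.presheaf.map (homOfLE hle).op a = 0 := by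
    have hunit : IsUnit (W.presheaf.map (homOfLE hle).op s) :=
      RingedSpace.isUnit_res_basicOpen W.toRingedSpace s
    have : W.presheaf.map (homOfLE hle).op (s ^ n * a) = 0 := by rw [hsa, map_zero]
    rw [map_mul, map_pow] at this
    exact (hunit.pow n).mul_right_eq_zero.mp this
  have hnat := h.naturality (homOfLE hle).op
  have := congr($hnat a)
  simp only [CommRingCat.comp_apply] at this
  rw [ha0, map_zero] at this
  rw [map_zero]
  exact this.symm


/-- the generic point inclusion `Spec K ⟶ Spec R` is scheme theoretically dominant -/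
lemma isSchemeTheoreticallyDominant_fractionRing (R : Type u) [CommRing R] [IsDomain R] :
    IsSchemeTheoreticallyDominant
      (Spec.map (CommRingCat.ofHom (algebraMap R (FractionRing R)))) := by
  have hinj : Function.Injective
      (Spec.map (CommRingCat.ofHom (algebraMap R (FractionRing R)))).appTop := by
    have h1 := Scheme.ΓSpecIso_naturality (CommRingCat.ofHom (algebraMap R (FractionRing R)))
    have h2 : Function.Injective ((Spec.map (CommRingCat.ofHom (algebraMap R (FractionRing R)))).appTop ≫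
        (Scheme.ΓSpecIso _).hom) := by
      rw [h1]
      simp only [CommRingCat.hom_comp, RingHom.coe_comp]
      exact (IsFractionRing.injective R (FractionRing R)).comp
        (ConcreteCategory.bijective_of_isIso (Scheme.ΓSpecIso _).hom).1
    intro a b hab
    apply h2
    exact congrArg (Scheme.ΓSpecIso _).hom hab
  constructor
  apply Scheme.IdealSheafData.ext_of_isAffine
  rw [Scheme.Hom.ker_apply _ ⟨⊤, isAffineOpen_top _⟩]
  simp only [Scheme.IdealSheafData.ideal_bot, Pi.bot_apply]
  rw [← RingHom.injective_iff_ker_eq_bot]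
  exact hinj

lemma part2 {S Z S' Y Y' : Scheme.{u}} (g : Z ⟶ S) (𝓘 : S.IdealSheafData) (b : S' ⟶ S)
    (𝒥 : (pullback g b).IdealSheafData)
    (h𝒥 : ∀ (V : (pullback g b).affineOpens) (a : Γ(pullback g b, V.1)), a ∈ 𝒥.ideal V →
      ∃ n : ℕ, ∀ a' : Γ(pullback g b, V.1),
        a' ∈ (((𝓘.comap g).comap (pullback.fst g b)) ^ n).ideal V → a' * a = 0)
    [Flat (𝒥.subschemeι ≫ pullback.snd g b)]
    (f : Y ⟶ S) (j : Y' ⟶ Y) [IsSchemeTheoreticallyDominant j] [QuasiCompact j]
    (hf : ∀ z : Y', f.base (j.base z) ∉ (𝓘.support : Set ↥S))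
    (f' : Y ⟶ S') (hf' : f' ≫ b = f)
    (u : pullback g (j ≫ f) ⟶ pullback g f)
    (hu1 : u ≫ pullback.fst g f = pullback.fst _ _)
    (hu2 : u ≫ pullback.snd g f = pullback.snd _ _ ≫ j)
    (v : pullback g f ⟶ pullback g b) (hv1 : v ≫ pullback.fst g b = pullback.fst g f)
    (hv2 : v ≫ pullback.snd g b = pullback.snd g f ≫ f') :
    u.ker = 𝒥.comap v := by
  -- Step 1
  have step1 : (𝒥.comap v).comap u = ⊥ := by
    rw [← Scheme.IdealSheafData.comap_comp, ← le_bot_iff,
      ← Scheme.IdealSheafData.le_map_iff_comap_le, Scheme.IdealSheafData.map_bot]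
    apply le_ker_of_killed _ 𝒥 h𝒥
    intro y
    rw [Scheme.IdealSheafData.support_comap, Scheme.IdealSheafData.support_comap]
    have e : (u ≫ v) ≫ pullback.fst g b ≫ g = pullback.snd g (j ≫ f) ≫ j ≫ f := by
      rw [Category.assoc, reassoc_of% hv1, pullback.condition, reassoc_of% hu2]
    have e2 := congr(($e).base y)
    intro hmem
    apply hf ((pullback.snd g (j ≫ f)).base y)
    have e3 : (pullback.snd g (j ≫ f) ≫ j ≫ f).base y =
        f.base (j.base ((pullback.snd g (j ≫ f)).base y)) := by
      rw [Scheme.Hom.comp_base, Scheme.Hom.comp_base]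
      rfl
    rw [← e3, ← e2]
    exact hmem
  -- the two base-change squares
  have sqK : IsPullback u (pullback.snd g (j ≫ f)) (pullback.snd g f) j := by
    refine IsPullback.of_right ?_ hu2 (IsPullback.of_hasPullback g f)
    rw [hu1]
    exact IsPullback.of_hasPullback g (j ≫ f)
  have sqV : IsPullback v (pullback.snd g f) (pullback.snd g b) f' := by
    refine IsPullback.of_right ?_ hv2 (IsPullback.of_hasPullback g b)
    rw [hv1, hf']
    exact IsPullback.of_hasPullback g f
  -- flatness of `T ⟶ Y`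
  have sqT : IsPullback (pullback.snd v 𝒥.subschemeι)
      (pullback.fst v 𝒥.subschemeι ≫ pullback.snd g f)
      (𝒥.subschemeι ≫ pullback.snd g b) f' :=
    (IsPullback.of_hasPullback v 𝒥.subschemeι).flip.paste_vert sqV
  haveI hflat1 : Flat (pullback.fst v 𝒥.subschemeι ≫ pullback.snd g f) :=
    MorphismProperty.of_isPullback sqT inferInstance
  haveI hflat2 : Flat ((𝒥.comap v).subschemeι ≫ pullback.snd g f) := by
    rw [← Scheme.IdealSheafData.comapIso_hom_fst, Category.assoc]
    infer_instance
  -- `P ⟶ T` is scheme theoretically dominant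
  have sqP : IsPullback (pullback.fst u (𝒥.comap v).subschemeι ≫ pullback.snd g (j ≫ f))
      (pullback.snd u (𝒥.comap v).subschemeι) j
      ((𝒥.comap v).subschemeι ≫ pullback.snd g f) :=
    (IsPullback.of_hasPullback u (𝒥.comap v).subschemeι).paste_horiz sqK.flip
  haveI hdom : IsSchemeTheoreticallyDominant (pullback.snd u (𝒥.comap v).subschemeι) :=
    IsSchemeTheoreticallyDominant.of_isPullback sqP
  -- `P ⟶ Z_K` is an isomorphism
  haveI hiso : IsIso (pullback.fst u (𝒥.comap v).subschemeι) := by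
    rw [IsClosedImmersion.isIso_iff_ker_eq_bot,
      Scheme.IdealSheafData.ker_fst_of_isClosedImmersion,
      Scheme.IdealSheafData.ker_subschemeι, step1]
  have hu : u = inv (pullback.fst u (𝒥.comap v).subschemeι) ≫
      pullback.snd u (𝒥.comap v).subschemeι ≫ (𝒥.comap v).subschemeι := by
    rw [IsIso.eq_inv_comp, pullback.condition]
  rw [hu, Scheme.Hom.ker_comp_of_isIso, ← Scheme.IdealSheafData.map_ker, hdom.ker_eq_bot,
    Scheme.IdealSheafData.map_bot, Scheme.IdealSheafData.ker_subschemeι]

end helpers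

open CategoryTheory CategoryTheory.Limits AlgebraicGeometry in
/-- Let S be a separated Noetherian scheme, p : X → S a morphism from a separated scheme X (no
finiteness condition), ι : Z → X a closed immersion, and b : S' → S a blowing up of S in a
quasi-coherent ideal with support S₀ such that (1) b restricts to a bijection between the generic
points of the irreducible components of S' and of S and (2) the strict transform Z~ of Z — the
closed subscheme of Z ×_S S' whose ideal consists, on each affine open, of the functions annihilated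
by a power of the pulled-back centre — is flat over S'. Let R be a discrete valuation ring with
fraction field K and f : Spec R → S a morphism sending the generic point of Spec R into S ∖ S₀. Then
f factors uniquely through b, and for the factorisation f' : Spec R → S' the flat closure φ_f(Z) ⊆ Z
×_S Spec R (the scheme-theoretic image of Z ×_S Spec K) coincides with Spec R ×_{S'} Z~: its ideal
sheaf equals the inverse image of the ideal of Z~ under the map Z ×_S Spec R → Z ×_S S' induced by
f'. -/
theorem result {X S Z S' : Scheme.{u}} [IsNoetherian S] [S.IsSeparated] [X.IsSeparated]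
    (p : X ⟶ S) (ι : Z ⟶ X) [IsClosedImmersion ι]
    (𝓘 : S.IdealSheafData) (b : S' ⟶ S) (hb : BlowUp.IsBlowUp b 𝓘)
    (hgen : Set.BijOn b.base {s' : ↥S' | closure {s'} ∈ irreducibleComponents ↥S'} {s : ↥S | closure {s} ∈ irreducibleComponents ↥S})
    (𝒥 : (pullback (ι ≫ p) b).IdealSheafData)
    (h𝒥 : ∀ (V : (pullback (ι ≫ p) b).affineOpens) (a : Γ(pullback (ι ≫ p) b, V.1)), a ∈ 𝒥.ideal V ↔
      BlowUp.KilledByPowerNear ((𝓘.comap (ι ≫ p)).comap (pullback.fst (ι ≫ p) b)) (Coh.structureModule (pullback (ι ≫ p) b)) V a)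
    [Flat (𝒥.subschemeι ≫ pullback.snd (ι ≫ p) b)]
    (R : Type u) [CommRing R] [IsDomain R] [IsDiscreteValuationRing R] (f : Spec (CommRingCat.of R) ⟶ S)
    (hf : f.base ⟨⊥, Ideal.isPrime_bot⟩ ∉ (𝓘.support : Set ↥S)) :
    (∃! f' : Spec (CommRingCat.of R) ⟶ S', f' ≫ b = f) ∧
      ∀ (f' : Spec (CommRingCat.of R) ⟶ S') (hf' : f' ≫ b = f),
        (pullback.map (ι ≫ p) (Spec.map (CommRingCat.ofHom (algebraMap R (FractionRing R))) ≫ f) (ι ≫ p) f (𝟙 Z) (Spec.map (CommRingCat.ofHom (algebraMap R (FractionRing R)))) (𝟙 S) ((Category.comp_id _).trans (Category.id_comp _).symm) (Category.comp_id _)).ker = 𝒥.comap (pullback.map (ι ≫ p) f (ι ≫ p) b (𝟙 Z) f' (𝟙 S) ((Category.comp_id _).trans (Category.id_comp _).symm) ((Category.comp_id f).trans hf'.symm)) := by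
  haveI : QuasiCompact (Spec.map (CommRingCat.ofHom (algebraMap R (FractionRing R)))) :=
    inferInstance
  haveI := isSchemeTheoreticallyDominant_fractionRing R
  constructor
  · apply hb.2
    apply effCartier_specDVR
    rw [Scheme.IdealSheafData.support_comap]
    exact hf
  · intro f' hf'
    refine part2 (ι ≫ p) 𝓘 b 𝒥 ?_ f
      (Spec.map (CommRingCat.ofHom (algebraMap R (FractionRing R)))) ?_ f' hf' _ ?_ ?_ _ ?_ ?_
    · intro V a ha
      obtain ⟨n, hn⟩ := (h𝒥 V a).mp ha
      exact ⟨n, fun a' ha' => hn a' ha'⟩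
    · intro z
      rw [specMap_fractionRing_apply]
      exact hf
    · unfold pullback.map
      rw [pullback.lift_fst, Category.comp_id]
    · unfold pullback.map
      rw [pullback.lift_snd]
    · unfold pullback.map
      rw [pullback.lift_fst, Category.comp_id]
    · unfold pullback.map
      rw [pullback.lift_snd]

end Groth.Agent.S19583
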