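import Groth.Statements.S19586
import Mathlib
import Groth.Agent.Lib.Helper65.ExtPowerAnn
-- import your own Groth.Agent.* helpers here

set_option autoImplicit false
universe u
open KaehlerDifferential
open LocInt

namespace Groth.Agent.S19586

open TensorProduct KaehlerDifferential Groth.Agent.Lib.Helper65.ExtPowerAnn
set_option linter.style.haveILetI false


/-- Let A → B be a smooth ring map with Ω_{B/A} of rank n at every prime of B, g ∈ B a nonzerodivisor
and R = B/gB, so that Spec R is a hypersurface of virtual relative dimension n − 1 over Spec A. Let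
J ⊆ R be the annihilator of the n-th exterior power of Ω_{R/A} and Z = V(J) ⊆ Spec R. Then the
underlying set of Z is exactly the set of primes at which R is not smooth over A: for a prime p of
R, J ⊆ p if and only if the localization R_p is not formally smooth over A. -/
theorem result (A B R : Type u) [CommRing A] [CommRing B] [CommRing R]
    [Algebra A B] [Algebra B R] [Algebra A R] [IsScalarTower A B R] [Algebra.Smooth A B] (n : ℕ)
    (hn : ∀ p : PrimeSpectrum B, Module.rankAtStalk (Ω[B⁄A]) p = n)
    (g : B) (hg : IsSMulRegular B g) (hsurj : Function.Surjective (algebraMap B R))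
    (hker : RingHom.ker (algebraMap B R) = Ideal.span {g}) (p : PrimeSpectrum R) :
    (⋀[R]^n (Ω[R⁄A])).annihilator ≤ p.asIdeal ↔ p ∉ Algebra.smoothLocus A R := by
  haveI : Algebra.FiniteType A R :=
    Algebra.FiniteType.of_surjective (IsScalarTower.toAlgHom A B R) hsurj
  have hg0 : algebraMap B R g = 0 := by
    rw [← RingHom.mem_ker, hker]; exact Ideal.mem_span_singleton_self g
  have hV := finrank_fiber_of_rankAtStalk (M := Ω[B⁄A]) n hn p.asIdeal
  have hsm := isSmoothAt_hypersurface_iff A B R g hg hsurj hker p.asIdeal
  change _ ↔ ¬ Algebra.IsSmoothAt A p.asIdeal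
  rw [hsm, not_not]
  constructor
  · intro hle
    by_contra hne
    have hlt := finrank_lt_of_ne_zero A B R g hsurj p.asIdeal n hV hg0 hne
    obtain ⟨a, ha, hap⟩ := exists_notMem_annihilator_exteriorPower p.asIdeal n hlt
    exact hap (hle ha)
  · intro h0
    have hle := le_finrank_of_eq_zero A B R g hsurj hker p.asIdeal n hV h0
    have := annihilator_exteriorPower_le (R := R) (M := Ω[R⁄A]) p.asIdeal.ResidueField n hle
    rwa [Ideal.ker_algebraMap_residueField] at this


end Groth.Agent.S19586
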