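import Groth.Statements.S1959
import Mathlib.RingTheory.IntegralClosure.Algebra.Ideal
-- import your own Groth.Agent.* helpers here

set_option autoImplicit false
universe u
open Polynomial
open EtAlg

namespace Groth.Agent.S1959

/-- Let I be an ideal of a ring A, A -> B an integral ring map and b an element of B whose image in B/IB
is idempotent. Then there are d ≥ 1 and a monic polynomial f over A with f(b) = 0 whose reduction
modulo I is x^d (x - 1)^d. -/
theorem result (A B : Type u) [CommRing A] [CommRing B] [Algebra A B]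
    [Algebra.IsIntegral A B] (I : Ideal A) (b : B)
    (hb : IsIdempotentElem (Ideal.Quotient.mk (I.map (algebraMap A B)) b)) :
    ∃ (f : A[X]) (d : ℕ), f.Monic ∧ 1 ≤ d ∧ aeval b f = 0 ∧
      f.map (Ideal.Quotient.mk I) = X ^ d * (X - 1) ^ d := by
  have hc : b ^ 2 - b ∈ I.map (algebraMap A B) := by
    have h := hb
    unfold IsIdempotentElem at h
    rw [← map_mul, Ideal.Quotient.eq] at h
    convert h using 1
    ring
  obtain ⟨p, hp, hp0, hpI⟩ := Polynomial.exists_monic_aeval_eq_zero_forall_mem_of_mem_map hc
  have hpmap : p.map (Ideal.Quotient.mk I) = X ^ p.natDegree := by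
    ext i
    rw [coeff_map, coeff_X_pow]
    split_ifs with h
    · rw [h, hp.coeff_natDegree, map_one]
    · exact Ideal.Quotient.eq_zero_iff_mem.mpr (hpI i h)
  rcases subsingleton_or_nontrivial A with hA | hA
  · refine ⟨1, 1, monic_one, le_refl _, ?_, ?_⟩
    · have : Subsingleton B := by
        refine ⟨fun x y => ?_⟩
        rw [← one_smul A x, ← one_smul A y, Subsingleton.elim (1 : A) 0, zero_smul, zero_smul]
      exact Subsingleton.elim _ _
    · have : Subsingleton (A ⧸ I) := Function.Surjective.subsingleton Ideal.Quotient.mk_surjective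
      exact Subsingleton.elim _ _
  have hq : (X ^ 2 - X : A[X]).Monic := by
    apply Polynomial.monic_X_pow_sub
    simp
  have hqdeg : (X ^ 2 - X : A[X]).natDegree ≠ 0 := by
    have : (X ^ 2 - X : A[X]).natDegree = 2 := by
      rw [natDegree_sub_eq_left_of_natDegree_lt] <;> simp
    omega
  refine ⟨(X * p).comp (X ^ 2 - X), p.natDegree + 1, ?_, by omega, ?_, ?_⟩
  · exact ((monic_X.mul hp).comp hq hqdeg)
  · rw [aeval_comp, map_mul, aeval_X]
    simp only [map_sub, map_pow, aeval_X]
    rw [hp0, mul_zero]
  · rw [map_comp, Polynomial.map_mul, hpmap, map_X, Polynomial.map_sub, Polynomial.map_pow, map_X]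
    rw [← pow_succ', pow_comp, X_comp, ← mul_pow]
    congr 1
    ring

end Groth.Agent.S1959
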