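import Groth.Statements.S19590
import Mathlib.Algebra.Polynomial.Identities
import Mathlib.Algebra.Polynomial.AlgebraMap
import Mathlib.Data.ZMod.Basic
import Mathlib.Data.Nat.Prime.Int
import Mathlib.GroupTheory.OrderOfElement
import Mathlib.Tactic.Ring
import Mathlib.Tactic.Linarith

set_option autoImplicit false
open BddFin

namespace Groth.Agent.S19590

open Polynomial

section general

variable {A : Type*} [Ring A]

theorem expand_pow (c : ℤ) (N : A) (m : ℕ) :
    ∃ K : A, (1 + c • N) ^ m = 1 + ((m : ℤ) * c) • N + (c * c) • K := by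
  obtain ⟨k, hk⟩ := Polynomial.powAddExpansion (1 : ℤ[X]) (C c * X) m
  have h := congrArg (aeval N) hk
  simp only [map_add, map_mul, map_pow, map_one, aeval_C, aeval_X, map_natCast, one_pow,
    mul_one] at h
  refine ⟨aeval N k * (N * N), ?_⟩
  rw [← Algebra.smul_def] at h
  rw [h]
  have e1 : (m : A) * c • N = ((m : ℤ) * c) • N := by
    rw [mul_smul_comm, ← nsmul_eq_mul, ← natCast_zsmul, smul_smul, mul_comm c]
  have e2 : aeval N k * (c • N) ^ 2 = (c * c) • (aeval N k * (N * N)) := by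
    simp only [pow_two, smul_mul_assoc, mul_smul_comm, smul_smul]
  rw [e1, e2]

theorem expand_cube (c : ℤ) (N : A) :
    (1 + (3 * c) • N) ^ 3 = 1 + (9 * c) • (N + (3 : ℤ) • (c • N ^ 2 + (c * c) • N ^ 3)) := by
  obtain ⟨a, ha⟩ : ∃ a : ℤ, a = 3 * c := ⟨_, rfl⟩
  obtain ⟨b, hb⟩ : ∃ b : ℤ, b = 9 * c := ⟨_, rfl⟩
  obtain ⟨d, hd⟩ : ∃ d : ℤ, d = c * c := ⟨_, rfl⟩
  rw [← ha, ← hb, ← hd]
  have hk : ((1 : ℤ[X]) + C a * X) ^ 3 =
      1 + C b * (X + C 3 * (C c * X ^ 2 + C d * X ^ 3)) := by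
    rw [ha, hb, hd]
    simp only [map_mul, C_ofNat]
    ring
  have h := congrArg (aeval N) hk
  simp only [map_add, map_mul, map_pow, map_one, aeval_C, aeval_X, ← Algebra.smul_def] at h
  exact h

end general

section matrix

variable {n : ℕ}

theorem smul_cancel (z : ℤ) (hz : z ≠ 0) (M : Matrix (Fin n) (Fin n) ℤ) (h : z • M = 0) :
    M = 0 := by
  ext i j
  have h1 := congrFun (congrFun h i) j
  simp only [Matrix.smul_apply, smul_eq_mul, Matrix.zero_apply] at h1
  rcases mul_eq_zero.mp h1 with h2 | h2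
  · exact absurd h2 hz
  · simpa using h2

theorem exists_eq_three_smul (M : Matrix (Fin n) (Fin n) ℤ) (h : ∀ i j, (3 : ℤ) ∣ M i j) :
    ∃ M' : Matrix (Fin n) (Fin n) ℤ, M = (3 : ℤ) • M' := by
  refine ⟨Matrix.of fun i j => M i j / 3, ?_⟩
  ext i j
  simp only [Matrix.smul_apply, Matrix.of_apply, smul_eq_mul]
  exact (Int.mul_ediv_cancel' (h i j)).symm

/-- descent step when `3 ∤ m` -/
theorem descent_coprime (c : ℤ) (hc : c ≠ 0) (N : Matrix (Fin n) (Fin n) ℤ) (m : ℕ)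
    (hm : ¬ (3 : ℤ) ∣ (m : ℤ)) (h : (1 + (3 * c) • N) ^ m = 1) :
    ∃ N' : Matrix (Fin n) (Fin n) ℤ, N = (3 : ℤ) • N' := by
  obtain ⟨K, hK⟩ := expand_pow (3 * c) N m
  rw [h] at hK
  have h1 : (3 * c) • (((m : ℤ)) • N + (3 * c) • K) = 0 := by
    have : (1 : Matrix (Fin n) (Fin n) ℤ) + (((m : ℤ) * (3 * c)) • N + (3 * c * (3 * c)) • K) = 1 + 0 := by
      rw [add_zero, ← add_assoc]; exact hK.symm
    have h2 := add_left_cancel this
    rw [smul_add, smul_smul, smul_smul, mul_comm (3 * c) (m : ℤ)]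
    exact h2
  have h3 := smul_cancel (3 * c) (mul_ne_zero (by norm_num) hc) _ h1
  apply exists_eq_three_smul
  intro i j
  have h4 := congrFun (congrFun h3 i) j
  simp only [Matrix.add_apply, Matrix.smul_apply, smul_eq_mul, Matrix.zero_apply] at h4
  have h5 : (3 : ℤ) ∣ (m : ℤ) * N i j := by
    refine ⟨-(c * K i j), ?_⟩
    linarith
  rcases Int.prime_three.dvd_or_dvd h5 with h6 | h6
  · exact absurd h6 hm
  · exact h6

/-- descent step when `m = 3` -/
theorem descent_three (c : ℤ) (hc : c ≠ 0) (N : Matrix (Fin n) (Fin n) ℤ)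
    (h : (1 + (3 * c) • N) ^ 3 = 1) :
    ∃ N' : Matrix (Fin n) (Fin n) ℤ, N = (3 : ℤ) • N' := by
  have hK := expand_cube c N
  rw [h] at hK
  have h1 : (9 * c) • (N + (3 : ℤ) • (c • N ^ 2 + (c * c) • N ^ 3)) = 0 := by
    have : (1 : Matrix (Fin n) (Fin n) ℤ) + (9 * c) • (N + (3 : ℤ) • (c • N ^ 2 + (c * c) • N ^ 3))
        = 1 + 0 := by
      rw [add_zero]; exact hK.symm
    exact add_left_cancel this
  have h3 := smul_cancel (9 * c) (mul_ne_zero (by norm_num) hc) _ h1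
  refine ⟨-(c • N ^ 2 + (c * c) • N ^ 3), ?_⟩
  rw [smul_neg]
  exact eq_neg_of_add_eq_zero_left h3

theorem eq_one_of_forall_pow (h : Matrix (Fin n) (Fin n) ℤ)
    (hall : ∀ e : ℕ, ∃ N : Matrix (Fin n) (Fin n) ℤ, h = 1 + (3 * 3 ^ e : ℤ) • N) : h = 1 := by
  ext i j
  obtain ⟨N, hN⟩ := hall (h i j - (1 : Matrix (Fin n) (Fin n) ℤ) i j).natAbs
  have key : h i j - (1 : Matrix (Fin n) (Fin n) ℤ) i j = 0 := by
    have hdvd : (3 * 3 ^ (h i j - (1 : Matrix (Fin n) (Fin n) ℤ) i j).natAbs : ℤ) ∣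
        h i j - (1 : Matrix (Fin n) (Fin n) ℤ) i j := by
      refine ⟨N i j, ?_⟩
      have h0 := congrFun (congrFun hN i) j
      simp only [Matrix.add_apply, Matrix.smul_apply, smul_eq_mul] at h0
      linarith
    apply Int.eq_zero_of_abs_lt_dvd hdvd
    generalize h i j - (1 : Matrix (Fin n) (Fin n) ℤ) i j = z
    have h1 : z.natAbs < 3 ^ z.natAbs := Nat.lt_pow_self (by norm_num)
    have h2 : (z.natAbs : ℤ) < 3 ^ z.natAbs := by exact_mod_cast h1
    have h3 : |z| = (z.natAbs : ℤ) := Int.abs_eq_natAbs z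
    have h4 : (0 : ℤ) < 3 ^ z.natAbs := by positivity
    rw [h3]
    linarith
  linarith

/-- if `m = 3` or `3 ∤ m`, a matrix congruent to `1` mod `3` with `h ^ m = 1` is `1`. -/
theorem eq_one_of_pow_eq_one_aux (h : Matrix (Fin n) (Fin n) ℤ) (m : ℕ)
    (hm : m = 3 ∨ ¬ (3 : ℤ) ∣ (m : ℤ)) (hpow : h ^ m = 1)
    (hcong : ∃ N : Matrix (Fin n) (Fin n) ℤ, h = 1 + (3 : ℤ) • N) : h = 1 := by
  apply eq_one_of_forall_pow
  intro e
  induction e with
  | zero => simpa using hcong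
  | succ e ih =>
    obtain ⟨N, hN⟩ := ih
    have hc : (3 ^ e : ℤ) ≠ 0 := by positivity
    have hN' : ∃ N' : Matrix (Fin n) (Fin n) ℤ, N = (3 : ℤ) • N' := by
      rcases hm with hm | hm
      · subst hm
        rw [hN] at hpow
        exact descent_three _ hc N hpow
      · rw [hN] at hpow
        exact descent_coprime _ hc N m hm hpow
    obtain ⟨N', rfl⟩ := hN'
    refine ⟨N', ?_⟩
    rw [hN, smul_smul]
    congr 2
    ring

theorem cong_mul (a b : Matrix (Fin n) (Fin n) ℤ)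
    (ha : ∃ N : Matrix (Fin n) (Fin n) ℤ, a = 1 + (3 : ℤ) • N)
    (hb : ∃ N : Matrix (Fin n) (Fin n) ℤ, b = 1 + (3 : ℤ) • N) :
    ∃ N : Matrix (Fin n) (Fin n) ℤ, a * b = 1 + (3 : ℤ) • N := by
  obtain ⟨Na, rfl⟩ := ha
  obtain ⟨Nb, rfl⟩ := hb
  refine ⟨Na + Nb + (3 : ℤ) • (Na * Nb), ?_⟩
  simp only [add_mul, mul_add, one_mul, mul_one, smul_mul_assoc, mul_smul_comm, smul_add, smul_smul]
  abel

theorem cong_pow (a : Matrix (Fin n) (Fin n) ℤ)
    (ha : ∃ N : Matrix (Fin n) (Fin n) ℤ, a = 1 + (3 : ℤ) • N) (j : ℕ) :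
    ∃ N : Matrix (Fin n) (Fin n) ℤ, a ^ j = 1 + (3 : ℤ) • N := by
  induction j with
  | zero => exact ⟨0, by simp⟩
  | succ j ih =>
    rw [pow_succ]
    exact cong_mul _ _ ih ha

theorem eq_one_of_pow_eq_one (m : ℕ) : ∀ (h : Matrix (Fin n) (Fin n) ℤ), 0 < m → h ^ m = 1 →
    (∃ N : Matrix (Fin n) (Fin n) ℤ, h = 1 + (3 : ℤ) • N) → h = 1 := by
  induction m using Nat.strong_induction_on with
  | _ m ih =>
    intro h hm hpow hcong
    by_cases h3 : (3 : ℤ) ∣ (m : ℤ)
    · have h3' : 3 ∣ m := by exact_mod_cast h3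
      obtain ⟨m', rfl⟩ := h3'
      have hm' : 0 < m' := by omega
      have hlt : m' < 3 * m' := by omega
      have h1 : (h ^ 3) ^ m' = 1 := by rw [← pow_mul]; exact hpow
      have h2 := ih m' hlt (h ^ 3) hm' h1 (cong_pow h hcong 3)
      exact eq_one_of_pow_eq_one_aux h 3 (Or.inl rfl) h2 hcong
    · exact eq_one_of_pow_eq_one_aux h m (Or.inr h3) hpow hcong

end matrix

/-- For every n, the orders of the finite subgroups of GL_n(ℤ) are bounded: there is B such that every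
finite subgroup of GL_n(ℤ) has at most B elements. -/
theorem result (n : ℕ) :
    ∃ B : ℕ, ∀ H : Subgroup (Matrix.GeneralLinearGroup (Fin n) ℤ), Finite H → Nat.card H ≤ B := by
  refine ⟨Nat.card (Matrix.GeneralLinearGroup (Fin n) (ZMod 3)), fun H hH => ?_⟩
  let φ : Matrix.GeneralLinearGroup (Fin n) ℤ →* Matrix.GeneralLinearGroup (Fin n) (ZMod 3) :=
    Matrix.GeneralLinearGroup.map (Int.castRingHom (ZMod 3))
  have hinj : Function.Injective (φ.comp H.subtype) := by
    rw [injective_iff_map_eq_one]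
    intro g hg
    obtain ⟨m, hm, hgm⟩ := (isOfFinOrder_iff_pow_eq_one).mp (isOfFinOrder_of_finite g)
    have hpow : ((g : Matrix.GeneralLinearGroup (Fin n) ℤ) : Matrix (Fin n) (Fin n) ℤ) ^ m = 1 := by
      have h1 : ((g : Matrix.GeneralLinearGroup (Fin n) ℤ)) ^ m = 1 := by
        have := congrArg (Subtype.val) hgm
        simpa using this
      have h2 := congrArg (fun u : Matrix.GeneralLinearGroup (Fin n) ℤ =>
        (u : Matrix (Fin n) (Fin n) ℤ)) h1
      simpa using h2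
    have hcong : ∃ N : Matrix (Fin n) (Fin n) ℤ,
        ((g : Matrix.GeneralLinearGroup (Fin n) ℤ) : Matrix (Fin n) (Fin n) ℤ) = 1 + (3 : ℤ) • N := by
      have hsub : ∃ N : Matrix (Fin n) (Fin n) ℤ,
          ((g : Matrix.GeneralLinearGroup (Fin n) ℤ) : Matrix (Fin n) (Fin n) ℤ) - 1
            = (3 : ℤ) • N := by
        apply exists_eq_three_smul
        intro i j
        have h1 : φ (g : Matrix.GeneralLinearGroup (Fin n) ℤ) i j =
            (1 : Matrix.GeneralLinearGroup (Fin n) (ZMod 3)) i j := by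
          have : φ (g : Matrix.GeneralLinearGroup (Fin n) ℤ) = 1 := hg
          rw [this]
        rw [Matrix.GeneralLinearGroup.map_apply] at h1
        have h2 : (((1 : Matrix.GeneralLinearGroup (Fin n) (ZMod 3)) i j : ZMod 3)) =
            (((1 : Matrix (Fin n) (Fin n) ℤ) i j : ℤ) : ZMod 3) := by
          simp [Matrix.one_apply]
        rw [h2] at h1
        have h3 : ((((g : Matrix.GeneralLinearGroup (Fin n) ℤ) : Matrix (Fin n) (Fin n) ℤ) i j
            - (1 : Matrix (Fin n) (Fin n) ℤ) i j : ℤ) : ZMod 3) = 0 := by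
          push_cast
          rw [sub_eq_zero]
          exact h1
        rw [Matrix.sub_apply]
        exact (ZMod.intCast_zmod_eq_zero_iff_dvd _ 3).mp h3
      obtain ⟨N, hN⟩ := hsub
      exact ⟨N, by rw [← hN]; abel⟩
    have h1 := eq_one_of_pow_eq_one m _ hm hpow hcong
    apply Subtype.ext
    apply Units.ext
    exact h1
  exact Nat.card_le_card_of_injective _ hinj

end Groth.Agent.S19590
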