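import Groth.Statements.S19599
import Groth.Agent.Lib.Helper6.MT6

set_option autoImplicit false
open CategoryTheory MonoidalCategory CartesianMonoidalCategory MonObj GrpObj AlgebraicGeometry
universe u
open SGA3x

namespace Groth.Agent.S19599

/-- Let G be an affine group scheme of finite presentation over a scheme S and H ⊆ G a closed subgroup
scheme of finite presentation over S which is of multiplicative type (of finite type). Then the
centralizer of H in G (points of G commuting with every point of H after any base change) is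
representable by a closed subscheme of G. Here G is not assumed smooth, and smoothness of the
centralizer is not asserted. -/
theorem result {S : Scheme.{u}} (G H : Over S) [GrpObj G] [GrpObj H]
    (hGa : IsAffineHom G.hom) (hGfp : LocallyOfFinitePresentation G.hom)
    (i : H ⟶ G) [IsMonHom i] (hi : IsClosedImmersion i.left) (hHfp : LocallyOfFinitePresentation H.hom)
    (hH : SGA3x.IsMultTypeFT H) :
    ∃ (C : Over S) (c : C ⟶ G), IsClosedImmersion c.left ∧
      ∀ (X : Over S) (g : X ⟶ G), (∃ z : X ⟶ C, z ≫ c = g) ↔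
        ∀ (X' : Over S) (x : X' ⟶ X) (a : X' ⟶ H), (x ≫ g) * (a ≫ i) = (a ≫ i) * (x ≫ g) := by
  haveI := hGa
  let m₁ : H ⊗ G ⟶ G := snd H G * (fst H G ≫ i)
  let m₂ : H ⊗ G ⟶ G := (fst H G ≫ i) * snd H G
  obtain ⟨T, t, htci, ht, -⟩ := Groth.Agent.Lib.Helper6.MultTypeClosed.rep_of_multType H G hH
    (Groth.Agent.Lib.Helper6.MultTypeClosed.eqMap G m₁ m₂)
  refine ⟨Over.mk (t ≫ G.hom), Over.homMk t rfl, htci, ?_⟩
  intro X g
  have key : ∀ (X' : Over S) (x : X' ⟶ X) (a : X' ⟶ H),
      Groth.Agent.Lib.Helper6.EssFreeLocal.Fac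
        (Groth.Agent.Lib.Helper6.MultTypeClosed.eqMap G m₁ m₂) (lift a (x ≫ g)).left ↔
      (x ≫ g) * (a ≫ i) = (a ≫ i) * (x ≫ g) := by
    intro X' x a
    rw [Groth.Agent.Lib.Helper6.MultTypeClosed.fac_eqMap_iff]
    have e1 : lift a (x ≫ g) ≫ m₁ = (x ≫ g) * (a ≫ i) := by
      rw [MonObj.comp_mul, lift_snd, lift_fst_assoc]
    have e2 : lift a (x ≫ g) ≫ m₂ = (a ≫ i) * (x ≫ g) := by
      rw [MonObj.comp_mul, lift_snd, lift_fst_assoc]
    rw [← e1, ← e2]
    constructor
    · intro h
      exact Over.OverMorphism.ext h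
    · intro h
      exact congrArg (fun m => m.left) h
  constructor
  · rintro ⟨z, hz⟩ X' x a
    rw [← key]
    have h1 : Groth.Agent.Lib.Helper6.EssFreeLocal.Fac t g.left :=
      ⟨z.left, congrArg (fun m => m.left) hz⟩
    exact (Groth.Agent.Lib.Helper6.MultTypeClosed.points_iff H G _ X g).mp ((ht _ g.left).mp h1)
      X' x a
  · intro hyp
    have h1 := (ht _ g.left).mpr
      ((Groth.Agent.Lib.Helper6.MultTypeClosed.points_iff H G _ X g).mpr
        (fun X' x a => (key X' x a).mpr (hyp X' x a)))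
    obtain ⟨l, hl⟩ := h1
    refine ⟨Over.homMk l ?_, Over.OverMorphism.ext hl⟩
    change l ≫ t ≫ G.hom = X.hom
    rw [← Category.assoc, hl, Over.w g]

end Groth.Agent.S19599
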