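import Groth.Agent.Lib.Helper22.GITLinear
import Groth.Statements.S19603
-- import your own Groth.Agent.* helpers here

set_option autoImplicit false
universe u
open GIT

namespace Groth.Agent.S19603


/-- For the whole projective space U = P(V), let k be an algebraically closed field of arbitrary
characteristic and G = Spec A a linearly reductive affine algebraic group acting linearly on affine
ι-space, and let v be a vector. Then some invariant homogeneous polynomial of positive degree is
non-zero at v (the point of v is semistable) if and only if the origin is not in the closure of the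
orbit of v. -/
theorem result (k : Type u) [Field k] [IsAlgClosed k]
    (A : Type u) [CommRing A] [HopfAlgebra k A] [Algebra.FiniteType k A] (hG : HopfRep.IsLinearlyReductive k A)
    (ι : Type u) [Fintype ι] [HopfRep.Comod k A (MvPolynomial ι k)] [GLin.IsCoactAlg k A (MvPolynomial ι k)]
    (hlin : GLin.IsLinear k A ι) (v : ι → k) :
    GLin.IsSemistableVec k A v ↔
      ¬ GLin.InOrbitClosure k A (GLin.vecPt k ι v) (GLin.vecPt k ι (fun _ => (0 : k))) := by
  unfold GLin.IsSemistableVec
  rw [not_iff_not]
  constructor
  · intro hnull
    by_contra hnot
    have hex : ¬ ∀ f ∈ GLin.invariants k A (MvPolynomial ι k),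
        GLin.vecPt k ι v f = GLin.vecPt k ι (fun _ => (0 : k)) f := by
      intro hall
      obtain ⟨z, hz1, hz2⟩ := Groth.Agent.Lib.Helper22.GITLib.exists_common_point hG _ _ hall
      rw [Groth.Agent.Lib.Helper22.GITLib.eq_origin_of_inOrbitClosure hlin z hz2] at hz1
      exact hnot hz1
    apply hex
    intro f hf
    have hsum := MvPolynomial.sum_homogeneousComponent f
    have hv : ∀ d ∈ Finset.range (f.totalDegree + 1),
        MvPolynomial.eval v (MvPolynomial.homogeneousComponent d f) =
          if d = 0 then MvPolynomial.coeff 0 f else 0 := by
      intro d _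
      split_ifs with hd
      · subst hd
        simp
      · exact hnull _ (Groth.Agent.Lib.Helper22.GITLib.homogeneousComponent_mem_invariants hlin hf d)
          d (Nat.pos_of_ne_zero hd) (MvPolynomial.homogeneousComponent_isHomogeneous d f)
    have h1 : MvPolynomial.eval v f = MvPolynomial.coeff 0 f := by
      conv_lhs => rw [← hsum]
      rw [map_sum, Finset.sum_congr rfl hv]
      simp
    show MvPolynomial.aeval v f = MvPolynomial.aeval (fun _ => (0 : k)) f
    rw [MvPolynomial.aeval_eq_eval, MvPolynomial.aeval_eq_eval] 
    show MvPolynomial.eval v f = MvPolynomial.eval (fun _ => (0 : k)) f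
    rw [h1, MvPolynomial.eval_zero']
    rfl
  · intro h F hF d hd hhom
    have := Groth.Agent.Lib.Helper22.GITLib.eq_of_inOrbitClosure _ _ h hF
    have h2 : MvPolynomial.aeval v F = MvPolynomial.aeval (fun _ => (0 : k)) F := this.symm
    rw [MvPolynomial.aeval_eq_eval, MvPolynomial.aeval_eq_eval] at h2
    have h3 : MvPolynomial.eval v F = MvPolynomial.eval (fun _ => (0 : k)) F := h2
    rw [h3, MvPolynomial.eval_zero']
    exact hhom.coeff_eq_zero (by simpa using hd.ne)


end Groth.Agent.S19603
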