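import Groth.Statements.S19605
import Groth.Agent.Lib.Helper60.Gg5
import Groth.Agent.S1642
-- import your own Groth.Agent.* helpers here

set_option autoImplicit false
universe u
open CategoryTheory CategoryTheory.Limits AlgebraicGeometry
open Variety

namespace Groth.Agent.S19605

/-- Let F be an m-regular coherent module on projective n-space over a field k. Then for all integers d
≥ m and e ≥ 0 the multiplication map H^0(F(d)) ⊗_k H^0(O(e)) → H^0(F(d+e)) is surjective. The target
is written as the global sections of F(d) ⊗ O(e) and the map as the canonical map from the global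
sections of the sectionwise tensor product presheaf (these are H^0(F(d)) ⊗ H^0(O(e)), the tensor
being over the global functions, a field) to the global sections of its sheafification. -/
theorem result (k : Type u) [Field k] (n : ℕ)
    (F : (CohB1.ProjSpace n k).Modules) (hF : Coh.IsCoh F) (m d : ℤ) (hd : m ≤ d) (h : Curv2.IsMRegular k n F m)
    (e : ℕ) :
    Function.Surjective
      ((toSheafify (Opens.grothendieckTopology (CohB1.ProjSpace n k))
        (CohB1.tensorPre (CohB1.tensorMod F (Twist.twistProjSpace n k d))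
          (Twist.twistProjSpace n k (e : ℤ))).presheaf).app (Opposite.op ⊤)) := by
  -- regularity propagates upwards
  have hregt : ∀ t : ℕ, Curv2.IsMRegular k n F (m + t) := by
    intro t
    induction t with
    | zero => simpa using h
    | succ t ih =>
      have h1 := Groth.Agent.S1642.result k n F hF (m + t) ih
      have e : m + ((t + 1 : ℕ) : ℤ) = m + (t : ℤ) + 1 := by push_cast; ring
      rw [e]
      exact h1
  have hreg0 : ∀ r : ℤ, m ≤ r → ∀ j : ℕ, 1 ≤ j → j ≤ n →
      Subsingleton (Coh.HH (CohB1.ProjSpace n k)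
        (CohB1.tensorMod (CohB1.tensorMod F (Twist.twistProjSpace n k r))
          (Twist.twistProjSpace n k (-(j : ℤ)))) j) := by
    intro r hr j hj1 hjn
    obtain ⟨t, ht⟩ := Int.eq_ofNat_of_zero_le (by omega : 0 ≤ r - m)
    have er : r = m + t := by omega
    subst er
    obtain ⟨e⟩ := Groth.Agent.Lib.Helper97.TwistExact.nonempty_twist_twist_iso k n F (m + t) (-(j : ℤ))
    have h1 := hregt t j hj1 hjn
    have e2 : m + (t : ℤ) - (j : ℤ) = m + (t : ℤ) + -(j : ℤ) := by ring
    rw [e2] at h1
    exact Groth.Agent.Lib.Helper97.TwistExact.subsingleton_HH_of_iso' e.symm j h1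
  have hC : ∀ e : ℕ, Groth.Agent.Lib.Helper60.Koszul.AllDecR
      (CohB1.tensorMod F (Twist.twistProjSpace n k d)) (Twist.twistProjSpace n k (e : ℤ)) := by
    intro e
    induction e with
    | zero =>
      obtain ⟨e0, he0⟩ := Groth.Agent.Lib.Helper60.Koszul.exists_isGen_twist_zero k n
      have e : ((0 : ℕ) : ℤ) = 0 := Nat.cast_zero
      rw [e]
      exact Groth.Agent.Lib.Helper60.Koszul.allDecR_of_isGen _ _ e0 he0
    | succ e ih =>
      obtain ⟨μ⟩ := Groth.Agent.Lib.Helper97.TwistExact.nonempty_twist_mul k n (e : ℤ) 1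
      have ec : ((e + 1 : ℕ) : ℤ) = (e : ℤ) + 1 := by push_cast; ring
      rw [ec]
      refine Groth.Agent.Lib.Helper60.Koszul.allDecR_step _ (Twist.twistProjSpace n k (e : ℤ))
        (Twist.twistProjSpace n k 1) _
        (Groth.Agent.Lib.Lead.Inv.assocOK_of_mid_right
          (Groth.Agent.Lib.Helper60.AutPn.isInvertible_twist k n (e : ℤ))
          (Groth.Agent.Lib.Helper60.AutPn.isInvertible_twist k n 1)) μ ih ?_
      refine Groth.Agent.Lib.Helper60.Koszul.allDecR_one k n _ (fun j hj1 hjn => ?_)
      obtain ⟨ε⟩ := Groth.Agent.Lib.Helper97.TwistExact.nonempty_twist_twist_iso k n F d (e : ℤ)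
      have h1 := hreg0 (d + (e : ℤ)) (by omega) j hj1 hjn
      exact Groth.Agent.Lib.Helper97.TwistExact.subsingleton_HH_of_iso'
        ((Groth.Agent.Lib.Helper97.TwistExact.twistF (Twist.twistProjSpace n k (-(j : ℤ)))).mapIso
          ε.symm) j h1
  intro s
  exact Groth.Agent.Lib.Helper60.Koszul.dec_le_range _ _ s (hC e s)

end Groth.Agent.S19605
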