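import Groth.Statements.S19609

set_option autoImplicit false
universe u
open CartMod

namespace Groth.Agent.S19609

theorem mem_pow_iff {A : Type u} [CommRing A] (p : A) (n : ℕ) (x : A) :
    x ∈ (Ideal.span {p} ^ n • ⊤ : Submodule A A) ↔ ∃ c, x = p ^ n * c := by
  rw [smul_eq_mul, Ideal.mul_top, Ideal.span_singleton_pow, Ideal.mem_span_singleton']
  constructor
  · rintro ⟨c, hc⟩; exact ⟨c, by rw [← hc, mul_comm]⟩
  · rintro ⟨c, hc⟩; exact ⟨c, by rw [hc, mul_comm]⟩

theorem mem_span_iff {A : Type u} [CommRing A] (p : A) (x : A) :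
    x ∈ Ideal.span {p} ↔ ∃ c, x = p * c := by
  rw [Ideal.mem_span_singleton']
  constructor
  · rintro ⟨c, hc⟩; exact ⟨c, by rw [← hc, mul_comm]⟩
  · rintro ⟨c, hc⟩; exact ⟨c, by rw [hc, mul_comm]⟩

/-- Let p be a prime and u : A → B a ring homomorphism between commutative rings which are complete and
separated for the p-adic topology and have no p-torsion (flat over the p-adic base). If u induces a
bijection A/pA → B/pB (injectivity: u a ∈ pB forces a ∈ pA; surjectivity: every b ∈ B is congruent
to some u a modulo pB), then u is bijective. (The published statement is for a morphism of flat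
p-adic formal schemes over the Witt vectors of a perfect field: if its special fibre is an
isomorphism, so is the morphism; this row is its affine, ring-level case.) -/
theorem result (p : ℕ) [Fact p.Prime]
    {A B : Type u} [CommRing A] [CommRing B]
    [IsAdicComplete (Ideal.span {(p : A)}) A] [IsAdicComplete (Ideal.span {(p : B)}) B]
    (hA : IsSMulRegular A (p : A)) (hB : IsSMulRegular B (p : B)) (u : A →+* B)
    (hinj : ∀ a : A, u a ∈ Ideal.span {(p : B)} → a ∈ Ideal.span {(p : A)})
    (hsurj : ∀ b : B, ∃ a : A, b - u a ∈ Ideal.span {(p : B)}) :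
    Function.Bijective u := by
  have hBn : ∀ n : ℕ, IsSMulRegular B ((p : B) ^ n) := fun n => hB.pow n
  constructor
  · rw [injective_iff_map_eq_zero]
    intro a ha
    have hall : ∀ n : ℕ, ∃ c, a = (p : A) ^ n * c := by
      intro n
      induction n with
      | zero => exact ⟨a, by simp⟩
      | succ n ih =>
        obtain ⟨c, hc⟩ := ih
        have h1 : (p : B) ^ n * u c = 0 := by
          rw [← ha, hc, map_mul, map_pow, map_natCast]
        have h2 : u c = 0 := by
          apply hBn n
          simpa using h1
        have h3 : c ∈ Ideal.span {(p : A)} := hinj c (by rw [h2]; exact Submodule.zero_mem _)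
        obtain ⟨c', hc'⟩ := (mem_span_iff _ _).mp h3
        exact ⟨c', by rw [hc, hc', pow_succ, mul_assoc]⟩
    apply IsHausdorff.haus (I := Ideal.span {(p : A)}) inferInstance
    intro n
    rw [SModEq.zero, mem_pow_iff]
    exact hall n
  · intro b
    have hstep : ∀ b' : B, ∃ x : A × B, b' = u x.1 + (p : B) * x.2 := by
      intro b'
      obtain ⟨a', ha'⟩ := hsurj b'
      obtain ⟨c, hc⟩ := (mem_span_iff _ _).mp ha'
      exact ⟨(a', c), by rw [← hc]; ring⟩
    choose st hst using hstep
    let s : ℕ → A × B := fun n => Nat.rec (0, b)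
      (fun n x => (x.1 + (p : A) ^ n * (st x.2).1, (st x.2).2)) n
    have hs0 : s 0 = (0, b) := rfl
    have hsS : ∀ n, s (n + 1) = ((s n).1 + (p : A) ^ n * (st (s n).2).1, (st (s n).2).2) :=
      fun n => rfl
    have hinv : ∀ n, b = u (s n).1 + (p : B) ^ n * (s n).2 := by
      intro n
      induction n with
      | zero => simp [hs0]
      | succ n ih =>
        rw [hsS]
        simp only [map_add, map_mul, map_pow, map_natCast]
        conv_lhs => rw [ih, hst (s n).2]
        ring
    have hcau : ∀ {m n}, m ≤ n →
        (s m).1 ≡ (s n).1 [SMOD (Ideal.span {(p : A)} ^ m • ⊤ : Submodule A A)] := by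
      have hc : AdicCompletion.IsAdicCauchy (Ideal.span {(p : A)}) A (fun n => (s n).1) := by
        rw [AdicCompletion.isAdicCauchy_iff]
        intro n
        rw [SModEq.sub_mem, mem_pow_iff]
        refine ⟨-(st (s n).2).1, ?_⟩
        rw [hsS]; ring
      exact fun {m n} h => hc h
    obtain ⟨L, hL⟩ := IsPrecomplete.prec (I := Ideal.span {(p : A)}) inferInstance hcau
    refine ⟨L, ?_⟩
    have hsub : u L - b = 0 := by
      apply IsHausdorff.haus (I := Ideal.span {(p : B)}) inferInstance
      intro n
      rw [SModEq.zero, mem_pow_iff]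
      have h1 := hL n
      rw [SModEq.sub_mem, mem_pow_iff] at h1
      obtain ⟨c, hc⟩ := h1
      refine ⟨-(u c) - (s n).2, ?_⟩
      have h2 : (s n).1 = L + (p : A) ^ n * c := by rw [← hc]; ring
      conv_lhs => rw [hinv n, h2]
      simp only [map_add, map_mul, map_pow, map_natCast]
      ring
    exact sub_eq_zero.mp hsub

end Groth.Agent.S19609
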