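import Groth.Statements.S19610
import Mathlib.RingTheory.Flat.EquationalCriterion
import Mathlib.RingTheory.Flat.Stability
import Mathlib.LinearAlgebra.TensorProduct.Quotient
import Mathlib.RingTheory.Ideal.Operations
import Mathlib.RingTheory.Ideal.Quotient.Operations

set_option autoImplicit false
universe u
open scoped TensorProduct
open CartMod

namespace Groth.Agent.S19610

section general

variable {A : Type u} [CommRing A] {M : Type u} [AddCommGroup M] [Module A M]

/-- equational criterion of flatness for `M/IM` over `A/I`, phrased over `A`. -/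
def EC (I : Ideal A) (M : Type u) [AddCommGroup M] [Module A M] : Prop :=
  ∀ (ι : Type) [Fintype ι] (f : ι → A) (x : ι → M),
    ∑ i, f i • x i ∈ (I • ⊤ : Submodule A M) →
    ∃ (κ : Type) (_ : Fintype κ) (a : ι → κ → A) (y : κ → M),
      (∀ i, x i - ∑ j, a i j • y j ∈ (I • ⊤ : Submodule A M)) ∧ ∀ j, ∑ i, f i * a i j ∈ I

theorem one_tmul_eq_zero_iff (I : Ideal A) (m : M) :
    (1 : A ⧸ I) ⊗ₜ[A] m = 0 ↔ m ∈ (I • ⊤ : Submodule A M) := by
  rw [← (TensorProduct.quotTensorEquivQuotSMul M I).map_eq_zero_iff,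
    TensorProduct.quotTensorEquivQuotSMul_mk_one_tmul, Submodule.Quotient.mk_eq_zero]

theorem exists_one_tmul (I : Ideal A) (z : (A ⧸ I) ⊗[A] M) : ∃ m : M, z = (1 : A ⧸ I) ⊗ₜ[A] m := by
  obtain ⟨m, hm⟩ := Submodule.Quotient.mk_surjective _ (TensorProduct.quotTensorEquivQuotSMul M I z)
  refine ⟨m, ?_⟩
  apply (TensorProduct.quotTensorEquivQuotSMul M I).injective
  rw [TensorProduct.quotTensorEquivQuotSMul_mk_one_tmul, hm]

theorem mk_smul_one_tmul (I : Ideal A) (a : A) (m : M) :
    (Ideal.Quotient.mk I a) • ((1 : A ⧸ I) ⊗ₜ[A] m) = (1 : A ⧸ I) ⊗ₜ[A] (a • m) := by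
  rw [TensorProduct.smul_tmul', smul_eq_mul, mul_one]
  have : (Ideal.Quotient.mk I a) = a • (1 : A ⧸ I) := by
    rw [Algebra.smul_def, mul_one]; rfl
  rw [this, TensorProduct.smul_tmul]

theorem ec_of_flat (I : Ideal A) (h : Module.Flat (A ⧸ I) ((A ⧸ I) ⊗[A] M)) : EC I M := by
  intro ι _ f x hx
  have h0 : ∑ i, (Ideal.Quotient.mk I (f i)) • ((1 : A ⧸ I) ⊗ₜ[A] x i) = 0 := by
    simp_rw [mk_smul_one_tmul]
    rw [← TensorProduct.tmul_sum, one_tmul_eq_zero_iff]
    exact hx
  obtain ⟨k, a, y, hxy, ha⟩ := Module.Flat.isTrivialRelation_of_sum_smul_eq_zero h0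
  replace hxy : ∀ i, (1 : A ⧸ I) ⊗ₜ[A] x i = ∑ j, a i j • y j := hxy
  replace ha : ∀ j, ∑ i, Ideal.Quotient.mk I (f i) * a i j = 0 := ha
  choose a' ha' using fun i j => Ideal.Quotient.mk_surjective (a i j)
  choose y' hy' using fun j => exists_one_tmul I (y j)
  refine ⟨Fin k, inferInstance, a', y', ?_, ?_⟩
  · intro i
    rw [← one_tmul_eq_zero_iff I, TensorProduct.tmul_sub, TensorProduct.tmul_sum, sub_eq_zero,
      hxy i]
    apply Finset.sum_congr rfl
    intro j _
    rw [← ha', hy' j, mk_smul_one_tmul]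
  · intro j
    rw [← Ideal.Quotient.eq_zero_iff_mem, map_sum]
    simp_rw [map_mul, ha']
    exact ha j

theorem flat_of_ec (I : Ideal A) (h : EC I M) : Module.Flat (A ⧸ I) ((A ⧸ I) ⊗[A] M) := by
  rw [Module.Flat.iff_forall_isTrivialRelation]
  intro l f x hfx
  choose f' hf' using fun i => Ideal.Quotient.mk_surjective (f i)
  choose x' hx' using fun i => exists_one_tmul I (x i)
  have hmem : ∑ i, f' i • x' i ∈ (I • ⊤ : Submodule A M) := by
    rw [← one_tmul_eq_zero_iff I, TensorProduct.tmul_sum]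
    simp_rw [← mk_smul_one_tmul, hf', ← hx']
    exact hfx
  obtain ⟨κ, _, a, y, h1, h2⟩ := h (Fin l) f' x' hmem
  let e := Fintype.equivFin κ
  refine ⟨Fintype.card κ, fun i j => Ideal.Quotient.mk I (a i (e.symm j)),
    fun j => (1 : A ⧸ I) ⊗ₜ[A] y (e.symm j), ?_, ?_⟩
  · intro i
    rw [e.symm.sum_comp (fun j' => Ideal.Quotient.mk I (a i j') • ((1 : A ⧸ I) ⊗ₜ[A] y j'))]
    simp_rw [mk_smul_one_tmul]
    rw [← TensorProduct.tmul_sum, hx' i, ← sub_eq_zero, ← TensorProduct.tmul_sub,
      one_tmul_eq_zero_iff]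
    exact h1 i
  · intro j
    simp_rw [← hf', ← map_mul]
    rw [← map_sum, Ideal.Quotient.eq_zero_iff_mem]
    exact h2 (e.symm j)


theorem mem_span_pow_smul_top (t : A) (k : ℕ) (m : M) :
    m ∈ (Ideal.span {t} ^ k • ⊤ : Submodule A M) ↔ ∃ z : M, m = t ^ k • z := by
  rw [Ideal.span_singleton_pow, Submodule.ideal_span_singleton_smul,
    Submodule.mem_smul_pointwise_iff_exists]
  constructor
  · rintro ⟨b, _, hb⟩; exact ⟨b, hb.symm⟩
  · rintro ⟨z, hz⟩; exact ⟨z, Submodule.mem_top, hz.symm⟩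

theorem mem_span_pow (t : A) (k : ℕ) (a : A) :
    a ∈ Ideal.span {t} ^ k ↔ ∃ b : A, a = t ^ k * b := by
  rw [Ideal.span_singleton_pow, Ideal.mem_span_singleton']
  constructor
  · rintro ⟨c, hc⟩; exact ⟨c, by rw [← hc, mul_comm]⟩
  · rintro ⟨c, hc⟩; exact ⟨c, by rw [hc, mul_comm]⟩

theorem ec_succ (t : A) (k : ℕ) (hk : EC (Ideal.span {t} ^ k) M) (h1 : EC (Ideal.span {t} ^ 1) M)
    (h3 : ∀ m : M, t ^ k • m ∈ (Ideal.span {t} ^ (k + 1) • ⊤ : Submodule A M) →
      m ∈ (Ideal.span {t} ^ 1 • ⊤ : Submodule A M)) :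
    EC (Ideal.span {t} ^ (k + 1)) M := by
  intro ι _ f x hx
  have hx' : ∑ i, f i • x i ∈ (Ideal.span {t} ^ k • ⊤ : Submodule A M) := by
    refine Submodule.smul_mono_left ?_ hx
    exact Ideal.pow_le_pow_right (Nat.le_succ k)
  obtain ⟨κ, _, a, y, h1a, h1b⟩ := hk ι f x hx'
  choose z hz using fun i => (mem_span_pow_smul_top t k _).mp (h1a i)
  choose b hb using fun j => (mem_span_pow t k _).mp (h1b j)
  have hxi : ∀ i, x i = ∑ j, a i j • y j + t ^ k • z i := by
    intro i; rw [← hz i]; abel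
  have hsum : ∑ i, f i • x i = t ^ k • (∑ j, b j • y j + ∑ i, f i • z i) := by
    calc ∑ i, f i • x i = ∑ i, (∑ j, (f i * a i j) • y j + t ^ k • (f i • z i)) := by
          apply Finset.sum_congr rfl
          intro i _
          rw [hxi i, smul_add, Finset.smul_sum, smul_comm (f i) (t ^ k)]
          simp_rw [smul_smul]
      _ = ∑ j, (∑ i, f i * a i j) • y j + t ^ k • ∑ i, f i • z i := by
          rw [Finset.sum_add_distrib, Finset.sum_comm, Finset.smul_sum]
          simp_rw [Finset.sum_smul]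
      _ = t ^ k • (∑ j, b j • y j + ∑ i, f i • z i) := by
          simp_rw [hb, mul_smul]
          rw [← Finset.smul_sum, smul_add]
  have h2 := h3 _ (hsum ▸ hx)
  have h2' : ∑ s : κ ⊕ ι, (Sum.elim b f s) • (Sum.elim y z s) ∈
      (Ideal.span {t} ^ 1 • ⊤ : Submodule A M) := by
    rw [Fintype.sum_sum_type]
    simpa using h2
  obtain ⟨μ, _, cd, u, h3a, h3b⟩ := h1 (κ ⊕ ι) (Sum.elim b f) (Sum.elim y z) h2'
  choose y' hy' using fun j => (mem_span_pow_smul_top t 1 _).mp (h3a (Sum.inl j))
  choose z' hz' using fun i => (mem_span_pow_smul_top t 1 _).mp (h3a (Sum.inr i))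
  choose e he using fun l => (mem_span_pow t 1 _).mp (h3b l)
  simp only [Sum.elim_inl, Sum.elim_inr, pow_one] at hy' hz' he
  have hyj : ∀ j, y j = ∑ l, cd (Sum.inl j) l • u l + t • y' j := by
    intro j; rw [← hy' j]; abel
  have hzi : ∀ i, z i = ∑ l, cd (Sum.inr i) l • u l + t • z' i := by
    intro i; rw [← hz' i]; abel
  refine ⟨μ ⊕ κ, inferInstance,
    fun i => Sum.elim (fun l => ∑ j, a i j * cd (Sum.inl j) l + t ^ k * cd (Sum.inr i) l)
      (fun j => t * a i j), Sum.elim u y', ?_, ?_⟩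
  · intro i
    rw [mem_span_pow_smul_top]
    refine ⟨z' i, ?_⟩
    rw [Fintype.sum_sum_type]
    simp only [Sum.elim_inl, Sum.elim_inr]
    rw [hxi i]
    simp_rw [hyj, hzi i, smul_add, Finset.smul_sum, smul_smul, add_smul, Finset.sum_smul,
      Finset.sum_add_distrib]
    rw [Finset.sum_comm, pow_succ]
    simp_rw [mul_comm t]
    abel
  · intro s
    rw [mem_span_pow]
    rcases s with l | j
    · refine ⟨e l, ?_⟩
      simp only [Sum.elim_inl]
      have hel := he l
      rw [Fintype.sum_sum_type] at hel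
      simp only [Sum.elim_inl, Sum.elim_inr] at hel
      calc ∑ i, f i * (∑ j, a i j * cd (Sum.inl j) l + t ^ k * cd (Sum.inr i) l)
          = ∑ j, (∑ i, f i * a i j) * cd (Sum.inl j) l + t ^ k * ∑ i, f i * cd (Sum.inr i) l := by
            simp_rw [mul_add, Finset.mul_sum, Finset.sum_add_distrib, Finset.sum_mul]
            rw [Finset.sum_comm]
            congr 1
            · apply Finset.sum_congr rfl; intro j _; apply Finset.sum_congr rfl; intro i _; ring
            · apply Finset.sum_congr rfl; intro i _; ring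
        _ = t ^ k * (∑ j, b j * cd (Sum.inl j) l + ∑ i, f i * cd (Sum.inr i) l) := by
            have e1 : ∑ j, (∑ i, f i * a i j) * cd (Sum.inl j) l =
                t ^ k * ∑ j, b j * cd (Sum.inl j) l := by
              rw [Finset.mul_sum]
              apply Finset.sum_congr rfl; intro j _; rw [hb j]; ring
            rw [e1, mul_add]
        _ = t ^ (k + 1) * e l := by rw [hel, pow_succ]; ring
    · refine ⟨b j, ?_⟩
      simp only [Sum.elim_inr]
      calc ∑ i, f i * (t * a i j) = t * ∑ i, f i * a i j := by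
            rw [Finset.mul_sum]; apply Finset.sum_congr rfl; intro i _; ring
        _ = t ^ (k + 1) * b j := by rw [hb j, pow_succ]; ring

end general


/-- Let p be a prime and B a commutative algebra over the commutative ring A, both complete and
separated for the p-adic topology and both without p-torsion (flat over the p-adic base). If B/pB is
flat over A/pA, then B/p^nB is flat over A/p^nA for every n ≥ 1 (the quotients are written as base
changes (A/p^n) ⊗_A B). (The published statement is for a morphism of flat p-adic formal schemes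
over the Witt vectors of a perfect field: if its special fibre is flat, so are the induced morphisms
of schemes modulo every power of p; this row is its affine, ring-level case.) -/
theorem result (p : ℕ) [Fact p.Prime]
    {A B : Type u} [CommRing A] [CommRing B] [Algebra A B]
    [IsAdicComplete (Ideal.span {(p : A)}) A] [IsAdicComplete (Ideal.span {(p : B)}) B]
    (hA : IsSMulRegular A (p : A)) (hB : IsSMulRegular B (p : B))
    (h : Module.Flat (A ⧸ Ideal.span {(p : A)}) ((A ⧸ Ideal.span {(p : A)}) ⊗[A] B))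
    (n : ℕ) (hn : 1 ≤ n) :
    Module.Flat (A ⧸ (Ideal.span {(p : A)} ^ n)) ((A ⧸ (Ideal.span {(p : A)} ^ n)) ⊗[A] B) := by
  have hEC1 : EC (Ideal.span {(p : A)} ^ 1) B := by
    rw [pow_one]
    exact ec_of_flat _ h
  have h3 : ∀ (k : ℕ) (m : B),
      (p : A) ^ k • m ∈ (Ideal.span {(p : A)} ^ (k + 1) • ⊤ : Submodule A B) →
      m ∈ (Ideal.span {(p : A)} ^ 1 • ⊤ : Submodule A B) := by
    intro k m hm
    rw [mem_span_pow_smul_top] at hm ⊢
    obtain ⟨z, hz⟩ := hm
    refine ⟨z, ?_⟩
    have hreg : IsSMulRegular B ((p : B) ^ k) := hB.pow k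
    apply hreg
    simp only [smul_eq_mul]
    have h1 : ∀ (j : ℕ) (w : B), (p : A) ^ j • w = (p : B) ^ j * w := by
      intro j w
      rw [Algebra.smul_def, map_pow, map_natCast]
    rw [h1] at hz
    rw [hz, h1, h1, pow_succ]
    ring
  have hall : ∀ k : ℕ, 1 ≤ k → EC (Ideal.span {(p : A)} ^ k) B := by
    intro k hk
    induction k, hk using Nat.le_induction with
    | base => exact hEC1
    | succ k _ ih => exact ec_succ _ k ih hEC1 (h3 k)
  exact flat_of_ec _ (hall n hn)

end Groth.Agent.S19610
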