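import Groth.Statements.S19611
import Mathlib

set_option autoImplicit false
universe u
open CategoryTheory AlgebraicGeometry
open CartMod

namespace Groth.Agent.S19611

theorem quasiCompact_frob (p : ℕ) [Fact p.Prime] (Y : Scheme.{u}) [FrobSch.IsCharP Y p] :
    QuasiCompact (FrobSch.frob Y p) := by
  constructor
  intro U _ hc
  exact hc


/-- For a prime p and a scheme Y of characteristic p, write Y♭ for the scheme-theoretic image of the
absolute Frobenius F_Y : Y → Y, i.e. the closed subscheme of Y defined by the sections of O_Y whose
p-th power vanishes, and Y → Y♭ for the canonical morphism through which F_Y factors. Then Y → Y♭ is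
an epimorphism of schemes: two morphisms g₁, g₂ from Y♭ to a scheme Z with equal composites Y → Y♭ →
Z are equal. (The published statement is for k-morphisms g₁, g₂ from Y♭ to a k-scheme Z over a
perfect field k of characteristic p, compared after Frobenius twist through Y → (Y♭)'; this row asks
right-cancellation against morphisms to every scheme Z, which is equivalent to it for k-morphisms.) -/
theorem result (p : ℕ) [Fact p.Prime] (Y : Scheme.{u}) [FrobSch.IsCharP Y p] :
    Epi (FrobSch.frob Y p).toImage := by
  haveI : QuasiCompact (FrobSch.frob Y p) := quasiCompact_frob p Y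
  have hinj : Function.Injective (FrobSch.frob Y p).imageι :=
    (FrobSch.frob Y p).imageι.isEmbedding.injective
  have hcomp : ∀ y : Y, (FrobSch.frob Y p).imageι ((FrobSch.frob Y p).toImage y) = y := by
    intro y
    have h := congrArg (fun g : Y ⟶ Y => g y) (FrobSch.frob Y p).toImage_imageι
    exact h
  have hsurj : Function.Surjective (FrobSch.frob Y p).toImage := by
    intro z
    exact ⟨(FrobSch.frob Y p).imageι z, hinj (hcomp _)⟩
  have hind : Topology.IsInducing (FrobSch.frob Y p).toImage := by
    refine Topology.IsInducing.of_comp (FrobSch.frob Y p).toImage.continuous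
      (FrobSch.frob Y p).imageι.continuous ?_
    have : ((FrobSch.frob Y p).imageι : _ → _) ∘ ((FrobSch.frob Y p).toImage : _ → _) = id := by
      funext y
      exact hcomp y
    rw [this]
    exact Topology.IsInducing.id
  apply CategoryTheory.Functor.epi_of_epi_map (Scheme.forgetToLocallyRingedSpace)
  apply CategoryTheory.Functor.epi_of_epi_map (LocallyRingedSpace.forgetToSheafedSpace)
  apply SheafedSpace.epi_of_base_surjective_of_stalk_mono _ hsurj
  intro x
  apply ConcreteCategory.mono_of_injective
  have h1 := (FrobSch.frob Y p).stalkFunctor_toImage_injective ((FrobSch.frob Y p).toImage x)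
  have h2' := TopCat.Presheaf.stalkPushforward.stalkPushforward_iso_of_isInducing CommRingCat
    (f := (FrobSch.frob Y p).toImage.base) hind Y.presheaf x
  have h2 := ((ConcreteCategory.isIso_iff_bijective _).mp h2').1
  exact h2.comp h1

end Groth.Agent.S19611
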