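import Groth.Statements.S19612
import Mathlib.RingTheory.Flat.EquationalCriterion
import Mathlib.RingTheory.Flat.TorsionFree
import Mathlib.RingTheory.Flat.Stability
import Mathlib.RingTheory.WittVector.DiscreteValuationRing
import Mathlib.LinearAlgebra.TensorProduct.Quotient

set_option autoImplicit false
universe u
open scoped TensorProduct
open CartMod

namespace Groth.Agent.S19612

theorem mem_pow_smul_top_of_smul_eq_zero {R : Type u} [CommRing R] (p : R)
    (hp : IsSMulRegular R p) {M : Type u} [AddCommGroup M] [Module R M] (n : ℕ)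
    (hflat : Module.Flat (R ⧸ (Ideal.span {p} ^ (n + 1)))
      ((R ⧸ (Ideal.span {p} ^ (n + 1))) ⊗[R] M))
    (a : M) (ha : p • a = 0) :
    a ∈ (Ideal.span {p} ^ n • ⊤ : Submodule R M) := by
  set J : Ideal R := Ideal.span {p} ^ (n + 1) with hJ
  have hx : ∑ _i : Unit, (Ideal.Quotient.mk J p) • ((1 : R ⧸ J) ⊗ₜ[R] a) = 0 := by
    simp only [Finset.univ_unique, Finset.sum_singleton]
    rw [TensorProduct.smul_tmul', smul_eq_mul, mul_one]
    have : (Ideal.Quotient.mk J p) = p • (1 : R ⧸ J) := by
      rw [Algebra.smul_def, mul_one]; rfl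
    rw [this, TensorProduct.smul_tmul, ha, TensorProduct.tmul_zero]
  obtain ⟨k, c, y, hxy, hc⟩ := Module.Flat.isTrivialRelation_of_sum_smul_eq_zero
    (f := fun _ : Unit => Ideal.Quotient.mk J p)
    (x := fun _ : Unit => ((1 : R ⧸ J) ⊗ₜ[R] a)) hx
  have hcj : ∀ j : Fin k, ∃ s : R, c () j = Ideal.Quotient.mk J (p ^ n) * Ideal.Quotient.mk J s := by
    intro j
    obtain ⟨r, hr⟩ := Ideal.Quotient.mk_surjective (c () j)
    have h1 := hc j
    simp only [Finset.univ_unique, Finset.sum_singleton] at h1
    rw [show (default : Unit) = () from rfl, ← hr, ← map_mul, Ideal.Quotient.eq_zero_iff_mem, hJ,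
      Ideal.span_singleton_pow, Ideal.mem_span_singleton'] at h1
    obtain ⟨s, hs⟩ := h1
    refine ⟨s, ?_⟩
    rw [← hr, ← map_mul]
    congr 1
    apply hp
    simp only [smul_eq_mul]
    rw [← hs]; ring
  choose s hs using hcj
  have hxy' : (1 : R ⧸ J) ⊗ₜ[R] a = ∑ j, c () j • y j := hxy ()
  set e := TensorProduct.quotTensorEquivQuotSMul M J with he
  have hsmul : ∀ (r : R) (z : (R ⧸ J) ⊗[R] M), (Ideal.Quotient.mk J r) • z = r • z := by
    intro r z
    have : (Ideal.Quotient.mk J r) = r • (1 : R ⧸ J) := by
      rw [Algebra.smul_def, mul_one]; rfl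
    rw [this, smul_assoc, one_smul]
  have h2 : (1 : R ⧸ J) ⊗ₜ[R] a = (p ^ n) • ∑ j, (s j) • y j := by
    rw [hxy', Finset.smul_sum]
    apply Finset.sum_congr rfl
    intro j _
    rw [hs j, mul_smul, hsmul, hsmul]
  obtain ⟨m, hm⟩ := Submodule.Quotient.mk_surjective _ (e (∑ j, (s j) • y j))
  have h3 := congrArg e h2
  rw [he, TensorProduct.quotTensorEquivQuotSMul_mk_one_tmul, ← he, map_smul, ← hm,
    ← Submodule.Quotient.mk_smul, Submodule.Quotient.eq] at h3
  have h4 : (J • ⊤ : Submodule R M) ≤ (Ideal.span {p} ^ n • ⊤ : Submodule R M) := by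
    apply Submodule.smul_mono_left
    rw [hJ]
    exact Ideal.pow_le_pow_right (Nat.le_succ n)
  have h5 : p ^ n • m ∈ (Ideal.span {p} ^ n • ⊤ : Submodule R M) := by
    apply Submodule.smul_mem_smul _ Submodule.mem_top
    rw [Ideal.span_singleton_pow]
    exact Ideal.mem_span_singleton_self _
  have h6 := Submodule.add_mem _ (h4 h3) h5
  simpa using h6

/-- Let k be a perfect field of characteristic p, W = W(k) the ring of Witt vectors of k, and A a
commutative W-algebra which is complete and separated for the p-adic topology (an adic W-algebra).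
Then flatness of A over W is equivalent to flatness of A/p^nA = (W/p^nW) ⊗_W A over W/p^nW for every
n ≥ 1. -/
theorem result (p : ℕ) [Fact p.Prime] (k : Type u) [Field k]
    [CharP k p] [PerfectRing k p] (A : Type u) [CommRing A] [Algebra (WittVector p k) A]
    [IsAdicComplete (Ideal.span {(p : WittVector p k)}) A] :
    Module.Flat (WittVector p k) A ↔
      ∀ n : ℕ, 1 ≤ n →
        Module.Flat (WittVector p k ⧸ (Ideal.span {(p : WittVector p k)} ^ n))
          ((WittVector p k ⧸ (Ideal.span {(p : WittVector p k)} ^ n)) ⊗[WittVector p k] A) := by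
  constructor
  · intro h n _
    infer_instance
  · intro h
    have hpne : (p : WittVector p k) ≠ 0 := WittVector.p_nonzero p k
    have hpreg : IsSMulRegular (WittVector p k) (p : WittVector p k) := by
      intro x y hxy
      exact mul_left_cancel₀ hpne hxy
    have hp1 : ∀ a : A, (p : WittVector p k) • a = 0 → a = 0 := by
      intro a ha
      apply IsHausdorff.haus (I := Ideal.span {(p : WittVector p k)}) inferInstance
      intro n
      rw [SModEq.zero]
      exact mem_pow_smul_top_of_smul_eq_zero (p : WittVector p k) hpreg n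
        (h (n + 1) (Nat.le_add_left 1 n)) a ha
    have hpn : ∀ (m : ℕ) (a : A), (p : WittVector p k) ^ m • a = 0 → a = 0 := by
      intro m
      induction m with
      | zero => intro a ha; simpa using ha
      | succ m ih =>
        intro a ha
        apply ih
        apply hp1
        rw [← mul_smul, ← pow_succ']
        exact ha
    rw [Module.Flat.flat_iff_torsion_eq_bot_of_isBezout, eq_bot_iff]
    intro a ha
    rw [Submodule.mem_torsion_iff] at ha
    obtain ⟨⟨r, hr⟩, hra⟩ := ha
    have hr0 : r ≠ 0 := nonZeroDivisors.ne_zero hr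
    obtain ⟨m, b, hb⟩ := WittVector.exists_eq_pow_p_mul' r hr0
    have h1 : (p : WittVector p k) ^ m • ((b : WittVector p k) • a) = 0 := by
      rw [← mul_smul, ← hb]; exact hra
    have h2 := hpn m _ h1
    have h3 : a = 0 := by
      have := congrArg (fun z => ((b⁻¹ : (WittVector p k)ˣ) : WittVector p k) • z) h2
      simpa [← mul_smul] using this
    rw [h3]; exact Submodule.zero_mem _

end Groth.Agent.S19612
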