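import Groth.Statements.S19616
import Mathlib

set_option autoImplicit false
universe u
open CartMod

namespace Groth.Agent.S19616

section
variable (p : ℕ) (C : Type u) [CommRing C]

theorem compl_complete :
    IsAdicComplete (Ideal.span {(p : AdicCompletion (Ideal.span {(p : C)}) C)})
      (AdicCompletion (Ideal.span {(p : C)}) C) := by
  have h := AdicCompletion.isAdicComplete_self (Ideal.span {(p : C)}) ⟨{(p:C)}, by simp⟩
  rwa [Ideal.map_span, Set.image_singleton, map_natCast] at h

theorem evalₐ_succ (k : ℕ) (z : AdicCompletion (Ideal.span {(p : C)}) C) (c : C)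
    (hc : AdicCompletion.evalₐ (Ideal.span {(p : C)}) (k+1) z = Ideal.Quotient.mk _ c) :
    AdicCompletion.evalₐ (Ideal.span {(p : C)}) k z = Ideal.Quotient.mk _ c := by
  induction z using AdicCompletion.induction_on with
  | h f =>
    rw [AdicCompletion.evalₐ_mk] at hc ⊢
    have h1 := f.property (Nat.le_succ k)
    rw [SModEq.sub_mem] at h1
    rw [Ideal.Quotient.eq] at hc ⊢
    have h2 : f.val k - f.val (k+1) ∈ Ideal.span {(p : C)} ^ k := by
      simpa using h1
    have h3 : f.val (k+1) - c ∈ Ideal.span {(p : C)} ^ k :=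
      Ideal.pow_le_pow_right (Nat.le_succ k) hc
    have := add_mem h2 h3
    simpa using this

theorem compl_regular (hC : IsSMulRegular C (p : C)) :
    IsSMulRegular (AdicCompletion (Ideal.span {(p : C)}) C)
      (p : AdicCompletion (Ideal.span {(p : C)}) C) := by
  have key : ∀ z : AdicCompletion (Ideal.span {(p : C)}) C,
      (p : AdicCompletion (Ideal.span {(p : C)}) C) * z = 0 → z = 0 := by
    intro z hz
    apply AdicCompletion.ext_evalₐ
    intro k
    obtain ⟨c, hc⟩ := Ideal.Quotient.mk_surjective
      (AdicCompletion.evalₐ (Ideal.span {(p : C)}) (k+1) z)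
    have h0 : AdicCompletion.evalₐ (Ideal.span {(p : C)}) (k+1)
        ((p : AdicCompletion (Ideal.span {(p : C)}) C) * z) = 0 := by rw [hz, map_zero]
    rw [map_mul, map_natCast, ← hc, ← map_natCast (Ideal.Quotient.mk _), ← map_mul,
      Ideal.Quotient.eq_zero_iff_mem, Ideal.span_singleton_pow, Ideal.mem_span_singleton'] at h0
    obtain ⟨d, hd⟩ := h0
    have h1 : c = (p : C) ^ k * d := by
      apply hC
      simp only [smul_eq_mul]
      rw [← hd]; ring
    rw [evalₐ_succ p C k z c hc.symm, map_zero, Ideal.Quotient.eq_zero_iff_mem,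
      Ideal.span_singleton_pow, h1]
    exact Ideal.mul_mem_right _ _ (Ideal.mem_span_singleton_self _)
  intro x y hxy
  have := key (x - y) (by simpa [smul_eq_mul, mul_sub, sub_eq_zero] using hxy)
  exact sub_eq_zero.mp this

theorem compl_lift (B : Type u) [CommRing B] [IsAdicComplete (Ideal.span {(p : B)}) B]
    (g : C →+* B) :
    ∃ G : AdicCompletion (Ideal.span {(p : C)}) C →+* B,
      ∀ c, G (algebraMap C (AdicCompletion (Ideal.span {(p : C)}) C) c) = g c := by
  have hk : ∀ k, Ideal.span {(p : C)} ^ k ≤ (Ideal.span {(p : B)} ^ k).comap g := by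
    intro k
    rw [Ideal.span_singleton_pow, Ideal.span_singleton_pow, Ideal.span_le,
      Set.singleton_subset_iff]
    simp only [SetLike.mem_coe, Ideal.mem_comap, map_pow, map_natCast]
    exact Ideal.mem_span_singleton_self _
  let f : ∀ k, AdicCompletion (Ideal.span {(p : C)}) C →+* B ⧸ Ideal.span {(p : B)} ^ k :=
    fun k => (Ideal.quotientMap _ g (hk k)).comp
      (AdicCompletion.evalₐ (Ideal.span {(p : C)}) k).toRingHom
  have hf : ∀ {m n : ℕ} (hle : m ≤ n),
      (Ideal.Quotient.factorPow _ hle).comp (f n) = f m := by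
    intro m n hle
    ext z
    induction z using AdicCompletion.induction_on with
    | h s =>
      simp only [f, RingHom.comp_apply, AlgHom.toRingHom_eq_coe, RingHom.coe_coe]
      rw [AdicCompletion.evalₐ_mk, AdicCompletion.evalₐ_mk, Ideal.quotientMap_mk,
        Ideal.quotientMap_mk, Ideal.Quotient.factor_mk, Ideal.Quotient.eq, ← map_sub]
      have h1 := s.property hle
      rw [SModEq.sub_mem] at h1
      have h2 : s.val m - s.val n ∈ Ideal.span {(p : C)} ^ m := by simpa using h1
      have h3 := hk m (neg_mem h2)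
      simpa using h3
  refine ⟨IsAdicComplete.liftRingHom _ f hf, fun c => ?_⟩
  rw [IsHausdorff.eq_iff_smodEq (I := Ideal.span {(p : B)})]
  intro k
  rw [SModEq.sub_mem]
  have h1 : Ideal.Quotient.mk (Ideal.span {(p : B)} ^ k)
      (IsAdicComplete.liftRingHom _ f hf
        (algebraMap C (AdicCompletion (Ideal.span {(p : C)}) C) c)) =
      Ideal.Quotient.mk (Ideal.span {(p : B)} ^ k) (g c) := by
    rw [IsAdicComplete.mk_liftRingHom]
    simp only [f, RingHom.comp_apply, AlgHom.toRingHom_eq_coe, RingHom.coe_coe]
    rw [AdicCompletion.algebraMap_apply, Algebra.algebraMap_self, RingHom.id_apply,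
      AdicCompletion.evalₐ_of, Ideal.quotientMap_mk]
  rw [Ideal.Quotient.eq] at h1
  simpa using h1

theorem compl_hom_ext (B : Type u) [CommRing B] [IsHausdorff (Ideal.span {(p : B)}) B]
    (G₁ G₂ : AdicCompletion (Ideal.span {(p : C)}) C →+* B)
    (h : ∀ c, G₁ (algebraMap C (AdicCompletion (Ideal.span {(p : C)}) C) c) =
      G₂ (algebraMap C (AdicCompletion (Ideal.span {(p : C)}) C) c)) : G₁ = G₂ := by
  ext x
  rw [IsHausdorff.eq_iff_smodEq (I := Ideal.span {(p : B)})]
  intro k
  rw [SModEq.sub_mem]
  have hgoal : G₁ x - G₂ x ∈ Ideal.span {(p : B)} ^ k := by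
    obtain ⟨c, hc⟩ := Ideal.Quotient.mk_surjective
      (AdicCompletion.evalₐ (Ideal.span {(p : C)}) k x)
    have h1 : AdicCompletion.evalₐ (Ideal.span {(p : C)}) k
        (x - algebraMap C (AdicCompletion (Ideal.span {(p : C)}) C) c) = 0 := by
      rw [map_sub, AdicCompletion.algebraMap_apply, Algebra.algebraMap_self, RingHom.id_apply,
        AdicCompletion.evalₐ_of, hc, sub_self]
    have h2 : x - algebraMap C (AdicCompletion (Ideal.span {(p : C)}) C) c ∈
        (Ideal.span {(p : C)} ^ k • ⊤ :
          Submodule C (AdicCompletion (Ideal.span {(p : C)}) C)) := by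
      rw [AdicCompletion.pow_smul_top_eq_ker_eval ⟨{(p:C)}, by simp⟩, LinearMap.mem_ker,
        ← AdicCompletion.factor_evalₐ_eq_eval _ _ (by simp), h1, map_zero]
    have h3 : ∀ y ∈ (Ideal.span {(p : C)} ^ k • ⊤ :
          Submodule C (AdicCompletion (Ideal.span {(p : C)}) C)),
        G₁ y - G₂ y ∈ Ideal.span {(p : B)} ^ k := by
      intro y hy
      refine Submodule.smul_induction_on hy ?_ ?_
      · intro r hr d _
        rw [Ideal.span_singleton_pow, Ideal.mem_span_singleton'] at hr
        obtain ⟨r', rfl⟩ := hr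
        rw [Algebra.smul_def, map_mul G₁, map_mul G₂, h (r' * (p : C) ^ k), ← mul_sub]
        apply Ideal.mul_mem_right
        rw [map_mul (algebraMap C _), map_mul G₂, map_pow, map_pow, map_natCast, map_natCast,
          Ideal.span_singleton_pow]
        exact Ideal.mul_mem_left _ _ (Ideal.mem_span_singleton_self _)
      · intro y₁ y₂ h1 h2
        have := add_mem h1 h2
        rw [map_add, map_add]
        convert this using 1
        ring
    have h4 := h3 _ h2
    rw [map_sub, map_sub, h] at h4
    convert h4 using 1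
    ring
  simpa using hgoal

end

section
variable (p : ℕ) (C₀ : Type u) [CommRing C₀]

def torsIdeal : Ideal C₀ where
  carrier := {x | ∃ k : ℕ, (p : C₀) ^ k * x = 0}
  zero_mem' := ⟨0, by simp⟩
  add_mem' := by
    rintro x y ⟨k, hk⟩ ⟨l, hl⟩
    refine ⟨k + l, ?_⟩
    have h : (p : C₀) ^ (k + l) * (x + y) =
        (p : C₀) ^ l * ((p : C₀) ^ k * x) + (p : C₀) ^ k * ((p : C₀) ^ l * y) := by ring
    rw [h, hk, hl, mul_zero, mul_zero, add_zero]
  smul_mem' := by
    rintro c x ⟨k, hk⟩
    refine ⟨k, ?_⟩
    rw [smul_eq_mul, mul_left_comm, hk, mul_zero]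

theorem mem_torsIdeal (x : C₀) : x ∈ torsIdeal p C₀ ↔ ∃ k : ℕ, (p : C₀) ^ k * x = 0 := Iff.rfl

theorem quot_regular : IsSMulRegular (C₀ ⧸ torsIdeal p C₀) (p : C₀ ⧸ torsIdeal p C₀) := by
  have key : ∀ z : C₀ ⧸ torsIdeal p C₀, (p : C₀ ⧸ torsIdeal p C₀) * z = 0 → z = 0 := by
    intro z hz
    obtain ⟨z, rfl⟩ := Ideal.Quotient.mk_surjective z
    rw [← map_natCast (Ideal.Quotient.mk _), ← map_mul, Ideal.Quotient.eq_zero_iff_mem,
      mem_torsIdeal] at hz
    obtain ⟨k, hk⟩ := hz
    rw [Ideal.Quotient.eq_zero_iff_mem, mem_torsIdeal]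
    exact ⟨k + 1, by rw [pow_succ, mul_assoc, hk]⟩
  intro x y hxy
  have := key (x - y) (by simpa [smul_eq_mul, mul_sub, sub_eq_zero] using hxy)
  exact sub_eq_zero.mp this

end

/-- Let p be a prime, A a commutative ring which is complete and separated for the p-adic topology and
has no p-torsion, and a_1, …, a_n elements of A (so that (p, a_1, …, a_n) is an open ideal
containing p). Then there is a commutative A-algebra D, complete and separated for the p-adic
topology and without p-torsion, in which each a_i is divisible by p, with the following universal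
property: for every A-algebra B which is p-adically complete and separated, has no p-torsion, and in
which each a_i is divisible by p, there is exactly one A-algebra homomorphism D → B; moreover this
homomorphism is surjective whenever A → B is. (D is the coordinate ring of the dilatation of Spf A
with respect to p along the closed subscheme defined by (p, a_1, …, a_n). The published statement is
for flat p-adic formal schemes locally of finite type over the Witt vectors of a perfect field; this
row is its affine, ring-level case without a finiteness hypothesis.) -/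
theorem result (p : ℕ) [Fact p.Prime]
    (A : Type u) [CommRing A] [IsAdicComplete (Ideal.span {(p : A)}) A]
    (hA : IsSMulRegular A (p : A)) {n : ℕ} (a : Fin n → A) :
    ∃ (D : Type u) (_ : CommRing D) (_ : Algebra A D),
      IsAdicComplete (Ideal.span {(p : D)}) D ∧ IsSMulRegular D (p : D) ∧
      (∀ i, algebraMap A D (a i) ∈ Ideal.span {(p : D)}) ∧
      ∀ (B : Type u) [CommRing B] [Algebra A B] [IsAdicComplete (Ideal.span {(p : B)}) B],
        IsSMulRegular B (p : B) → (∀ i, algebraMap A B (a i) ∈ Ideal.span {(p : B)}) →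
          Nonempty (D →ₐ[A] B) ∧ Subsingleton (D →ₐ[A] B) ∧
            (Function.Surjective (algebraMap A B) → ∀ f : D →ₐ[A] B, Function.Surjective f) := by
  classical
  let K : Ideal (MvPolynomial (Fin n) A) :=
    Ideal.span (Set.range fun i : Fin n =>
      MvPolynomial.C (p : A) * MvPolynomial.X i - MvPolynomial.C (a i))
  let C₀ := MvPolynomial (Fin n) A ⧸ K
  let T : Ideal C₀ := torsIdeal p C₀
  let C := C₀ ⧸ T
  let D := AdicCompletion (Ideal.span {(p : C)}) C
  let ι₀ : MvPolynomial (Fin n) A →+* C := (Ideal.Quotient.mk T).comp (Ideal.Quotient.mk K)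
  let ι : MvPolynomial (Fin n) A →+* D := (algebraMap C D).comp ι₀
  have hιC : ∀ x : A, ι (MvPolynomial.C x) = algebraMap A D x := fun x => rfl
  have hι₀C : ∀ x : A, ι₀ (MvPolynomial.C x) = algebraMap A C x := fun x => rfl
  have hrel : ∀ i, ι₀ (MvPolynomial.C (a i)) = (p : C) * ι₀ (MvPolynomial.X i) := by
    intro i
    have h1 : Ideal.Quotient.mk K (MvPolynomial.C (p : A) * MvPolynomial.X i
        - MvPolynomial.C (a i)) = 0 :=
      Ideal.Quotient.eq_zero_iff_mem.mpr (Ideal.subset_span ⟨i, rfl⟩)
    have h2 : ι₀ (MvPolynomial.C (p : A) * MvPolynomial.X i - MvPolynomial.C (a i)) = 0 := by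
      simp only [ι₀, RingHom.comp_apply, h1, map_zero]
    rw [map_sub, sub_eq_zero, map_mul] at h2
    rw [← h2, map_natCast (MvPolynomial.C (σ := Fin n) (R := A)), map_natCast ι₀]
  refine ⟨D, inferInstance, inferInstance, compl_complete p C, compl_regular p C (quot_regular p C₀),
    ?_, ?_⟩
  · intro i
    rw [← hιC, Ideal.mem_span_singleton']
    refine ⟨ι (MvPolynomial.X i), ?_⟩
    simp only [ι, RingHom.comp_apply]
    rw [hrel i, map_mul, map_natCast, mul_comm]
  · intro B _ _ _ hB hdiv
    have hBk : ∀ k : ℕ, ∀ z : B, (p : B) ^ k * z = 0 → z = 0 := by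
      intro k z hz
      have := (hB.pow k)
      apply this
      simpa [smul_eq_mul] using hz
    refine ⟨?_, ?_, ?_⟩
    · choose b hb using fun i => Ideal.mem_span_singleton'.mp (hdiv i)
      let g₀ : MvPolynomial (Fin n) A →ₐ[A] B := MvPolynomial.aeval b
      have hK : K ≤ RingHom.ker g₀.toRingHom := by
        rw [Ideal.span_le]
        rintro _ ⟨i, rfl⟩
        simp only [SetLike.mem_coe, RingHom.mem_ker, AlgHom.toRingHom_eq_coe, RingHom.coe_coe,
          g₀, map_sub, map_mul, MvPolynomial.aeval_C, MvPolynomial.aeval_X, map_natCast]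
        rw [← hb i, mul_comm, sub_self]
      have hK' : ∀ x ∈ K, g₀.toRingHom x = 0 := fun x hx => RingHom.mem_ker.mp (hK hx)
      let g₁ : C₀ →+* B := Ideal.Quotient.lift K g₀.toRingHom hK' 
      have hT : ∀ x ∈ T, g₁ x = 0 := by
        intro x hx
        obtain ⟨k, hk⟩ := hx
        apply hBk k
        have := congrArg g₁ hk
        simpa using this
      let g₂ : C →+* B := Ideal.Quotient.lift T g₁ hT
      obtain ⟨G, hG⟩ := compl_lift p C B g₂
      refine ⟨{ toRingHom := G, commutes' := ?_ }⟩
      intro x
      show G (algebraMap A D x) = _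
      rw [← hιC]
      simp only [ι, RingHom.comp_apply]
      rw [hG]
      simp only [g₂, ι₀, g₁, g₀, RingHom.comp_apply]
      rw [Ideal.Quotient.lift_mk, Ideal.Quotient.lift_mk]
      simp
    · constructor
      intro f₁ f₂
      have h1 : (f₁ : D →+* B).comp ι = (f₂ : D →+* B).comp ι := by
        apply MvPolynomial.ringHom_ext
        · intro x
          simp only [RingHom.comp_apply, hιC, RingHom.coe_coe, AlgHom.commutes]
        · intro i
          apply hB
          simp only [RingHom.comp_apply, RingHom.coe_coe, smul_eq_mul]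
          have h2 : ∀ f : D →ₐ[A] B, (p : B) * f (ι (MvPolynomial.X i)) = algebraMap A B (a i) := by
            intro f
            rw [← f.commutes, ← hιC]
            simp only [ι, RingHom.comp_apply]
            rw [hrel i, map_mul, map_natCast, map_mul, map_natCast]
          rw [h2, h2]
      have h2 : (f₁ : D →+* B) = (f₂ : D →+* B) := by
        apply compl_hom_ext p C B
        intro c
        obtain ⟨c, rfl⟩ := Ideal.Quotient.mk_surjective c
        obtain ⟨c, rfl⟩ := Ideal.Quotient.mk_surjective c
        exact RingHom.congr_fun h1 c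
      ext x
      exact RingHom.congr_fun h2 x
    · intro hsurj f b
      obtain ⟨x, rfl⟩ := hsurj b
      exact ⟨algebraMap A D x, f.commutes x⟩

end Groth.Agent.S19616
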