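import Groth.Statements.S19618
import Mathlib

set_option autoImplicit false
universe u
open CategoryTheory CategoryTheory.Limits AlgebraicGeometry Opposite TopologicalSpace
open BlowUp

namespace Groth.Agent.S19618


theorem one_le_dim_stalk {X : Scheme.{u}} [IsLocallyNoetherian X] (U : X.affineOpens)
    (f : Γ(X, U.1)) (hf : f ∈ nonZeroDivisors Γ(X, U.1)) (y : X) (hyU : y ∈ U.1)
    (hy : ¬ IsUnit (X.presheaf.germ U.1 y hyU f)) :
    1 ≤ ringKrullDim ↑(X.presheaf.stalk y) := by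
  letI := TopCat.Presheaf.algebra_section_stalk X.presheaf ⟨y, hyU⟩
  haveI := U.2.isLocalization_stalk ⟨y, hyU⟩
  have hnzd : algebraMap Γ(X, U.1) (X.presheaf.stalk y) f ∈
      nonZeroDivisors (X.presheaf.stalk y) :=
    IsLocalization.map_nonZeroDivisors_le (U.2.primeIdealOf ⟨y, hyU⟩).asIdeal.primeCompl _
      (Submonoid.mem_map.mpr ⟨f, hf, rfl⟩)
  have h1 := ringKrullDim_quotient_succ_le_of_nonZeroDivisor hnzd
  have hne : Ideal.span {algebraMap Γ(X, U.1) (X.presheaf.stalk y) f} ≠ ⊤ := by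
    rw [Ne, Ideal.span_singleton_eq_top]
    exact hy
  haveI : Nontrivial ((X.presheaf.stalk y) ⧸
      Ideal.span {algebraMap Γ(X, U.1) (X.presheaf.stalk y) f}) :=
    Ideal.Quotient.nontrivial_iff.mpr hne
  have h2 : (0 : WithBot ℕ∞) ≤ ringKrullDim ((X.presheaf.stalk y) ⧸
      Ideal.span {algebraMap Γ(X, U.1) (X.presheaf.stalk y) f}) :=
    ringKrullDim_nonneg_of_nontrivial
  calc (1 : WithBot ℕ∞) = 0 + 1 := by simp
    _ ≤ _ := by gcongr
    _ ≤ _ := h1

/-- Let X be a locally Noetherian scheme, Y an effective Cartier divisor on X (a quasi-coherent ideal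
sheaf which, near every point, is generated on some affine open by one nonzerodivisor; Y is its
support) and Z a closed integral subscheme (a closed immersion i from an integral scheme with
generic point ξ). If Y and Z intersect properly — every point ζ of Y ∩ Z which is maximal under
generization inside Y ∩ Z satisfies dim O_{X,ζ} = codim(Y,X) + codim(Z,X), where codim(Y,X) is the
infimum over y ∈ Y of dim O_{X,y} and codim(Z,X) = dim O_{X,i(ξ)} — then Z is not contained in Y. -/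
theorem result {X Z : Scheme.{u}}
    [IsLocallyNoetherian X] (𝓘 : X.IdealSheafData) (hY : BlowUp.IsEffCartierIdeal 𝓘)
    (i : Z ⟶ X) [IsClosedImmersion i] [IsIntegral Z]
    (hprop : ∀ ζ : ↥X, ζ ∈ (𝓘.support : Set ↥X) ∩ Set.range i.base →
        (∀ ζ' : ↥X, ζ' ∈ (𝓘.support : Set ↥X) ∩ Set.range i.base → ζ' ⤳ ζ → ζ' = ζ) →
        ringKrullDim ↑(X.presheaf.stalk ζ) =
          (⨅ y : (𝓘.support : Set ↥X), ringKrullDim ↑(X.presheaf.stalk y.1)) +
            ringKrullDim ↑(X.presheaf.stalk (i (genericPoint ↥Z)))) :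
    ¬ Set.range i.base ⊆ (𝓘.support : Set ↥X) := by
  intro hsub
  have hζr : i (genericPoint ↥Z) ∈ Set.range i.base := ⟨genericPoint ↥Z, rfl⟩
  have hζs : i (genericPoint ↥Z) ∈ (𝓘.support : Set ↥X) := hsub hζr
  have hmax : ∀ ζ' : ↥X, ζ' ∈ (𝓘.support : Set ↥X) ∩ Set.range i.base →
      ζ' ⤳ i (genericPoint ↥Z) → ζ' = i (genericPoint ↥Z) := by
    rintro ζ' ⟨_, ⟨z', rfl⟩⟩ hspec
    have h1 : genericPoint ↥Z ⤳ z' := genericPoint_specializes z'
    have h2 : i (genericPoint ↥Z) ⤳ i z' := h1.map i.continuous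
    exact (hspec.antisymm h2).eq
  have hdim := hprop (i (genericPoint ↥Z)) ⟨hζs, hζr⟩ hmax
  have hc : (1 : WithBot ℕ∞) ≤
      ⨅ y : (𝓘.support : Set ↥X), ringKrullDim ↑(X.presheaf.stalk y.1) := by
    apply le_iInf
    rintro ⟨y, hy⟩
    obtain ⟨U, hyU, f, hf, hfI⟩ := hY y
    apply one_le_dim_stalk U f hf y hyU
    rw [← Scheme.mem_basicOpen]
    have h1 := (Scheme.IdealSheafData.mem_support_iff_of_mem hyU).mp hy
    rw [Scheme.mem_zeroLocus_iff] at h1
    exact h1 f (by rw [hfI]; exact Ideal.mem_span_singleton_self f)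
  set a := ringKrullDim ↑(X.presheaf.stalk (i (genericPoint ↥Z))) with ha
  have ha_top : a ≠ ⊤ := ringKrullDim_ne_top
  have ha_bot : a ≠ ⊥ := ringKrullDim_ne_bot
  obtain ⟨b, hb⟩ := WithBot.ne_bot_iff_exists.mp ha_bot
  have hb_top : b ≠ ⊤ := by
    intro h
    apply ha_top
    rw [← hb, h]
    rfl
  obtain ⟨n, hn⟩ := ENat.ne_top_iff_exists.mp hb_top
  have han : a = (n : WithBot ℕ∞) := by
    rw [← hb, ← hn]
    rfl
  have h3 : (1 : WithBot ℕ∞) + a ≤ a := by
    calc (1 : WithBot ℕ∞) + a ≤ (⨅ y : (𝓘.support : Set ↥X),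
          ringKrullDim ↑(X.presheaf.stalk y.1)) + a := by gcongr
      _ = a := hdim.symm
  rw [han] at h3
  have h4 : ((1 + n : ℕ) : WithBot ℕ∞) ≤ (n : WithBot ℕ∞) := by
    push_cast
    exact h3
  have h5 : (1 + n : ℕ) ≤ n := by exact_mod_cast h4
  omega

end Groth.Agent.S19618
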