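import Groth.Statements.S19620
import Groth.Agent.Lib.Helper12.SuppZ
import Groth.Agent.Lib.Helper12.AdjLR2
import Groth.Agent.Lib.Helper12.WKI7
import Groth.Agent.Lib.Helper2.LpullStalk

set_option autoImplicit false
universe u
open CategoryTheory CategoryTheory.Limits AlgebraicGeometry
attribute [local instance] HasDerivedCategory.standard
open DCoh

namespace Groth.Agent.S19620

theorem result {X Y : Scheme.{u}} (f : X ⟶ Y) [IsProper f]
    [DCoh.HasRpush f] (Z : Set ↥X) (hZ : IsClosed Z) (E : DCoh.D X)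
    (hE : ∀ i : ℤ, CohB1.support (DCoh.HD E i) ⊆ Z) (i : ℤ) :
    CohB1.support (DCoh.HD ((DCoh.Rpush f).obj E) i) ⊆ f.base '' Z := by
  intro y hy
  by_contra hyZ
  have hcl : IsClosed (f.base '' Z) := f.isClosedMap _ hZ
  let V : Y.Opens := ⟨(f.base '' Z)ᶜ, hcl.isOpen_compl⟩
  have hyV : y ∈ V := hyZ
  have hRp : DCoh.HasRpush (f ∣_ V) := Groth.Agent.Lib.Helper12.WKI.hasRpush _
  have hLp : DCoh.HasLpull (f ∣_ V) := Groth.Agent.Lib.Helper2.Lpull.hasLpull _
  obtain ⟨Ψ⟩ := Groth.Agent.Lib.Helper12.RDerSch.nonempty_Rpush_restrictD_iso f V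
  have hE0 : IsZero ((DCoh.restrictD (f ⁻¹ᵁ V).ι).obj E) := by
    apply Groth.Agent.Lib.Helper12.SuppZ.isZero_restrictD_of_support
    intro j x hx hxs
    exact hx ⟨x, hE j hxs, rfl⟩
  have hra : (DCoh.Rpush (f ∣_ V)).IsRightAdjoint :=
    (Groth.Agent.Lib.Helper12.AdjLR.adjLR (f ∣_ V)).isRightAdjoint
  have h1 : IsZero ((DCoh.Rpush (f ∣_ V)).obj ((DCoh.restrictD (f ⁻¹ᵁ V).ι).obj E)) :=
    Functor.map_isZero _ hE0
  have h2 : IsZero ((DCoh.restrictD V.ι).obj ((DCoh.Rpush f).obj E)) :=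
    h1.of_iso (Ψ.app E)
  have h3 : IsZero ((Scheme.Modules.restrictFunctor V.ι).obj
      (DCoh.HD ((DCoh.Rpush f).obj E) i)) :=
    ((DerivedCategory.homologyFunctor _ i).map_isZero h2).of_iso
      (Groth.Agent.Lib.Helper62.SerreLoc.mapDerivedCategoryHomologyIso
        (Scheme.Modules.restrictFunctor V.ι) ((DCoh.Rpush f).obj E) i).symm
  exact Groth.Agent.Lib.Helper12.SuppZ.not_mem_support_of_isZero_restrict _ V h3 y hyV hy

end Groth.Agent.S19620
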