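import Groth.Statements.S19621
import Groth.Agent.Lib.Helper62.IndCofInd
import Groth.Agent.Lib.Helper62.IndCofML
import Groth.Agent.S14497
import Mathlib.NumberTheory.Divisors
import Mathlib.Algebra.Order.BigOperators.GroupWithZero.Finset

open Groth.Agent.Lib.Helper62.IndCofAbs Groth.Agent.Lib.Helper62.IndCofInd

set_option autoImplicit false
universe v
open IndCof

namespace Groth.Agent.S19621

open CategoryTheory CategoryTheory.Limits in
/-- Let C be a small abelian category all of whose objects are Artinian and killed by some positive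
integer, and A an ind-object of C of cofinite type (A[n] is isomorphic to an object of C for every n
≥ 1). Then the following are equivalent: (i) the inverse system of copies of A indexed by the
positive integers ordered by divisibility, with transition map from the m-th to the n-th copy
multiplication by m/n, is Mittag-Leffler (for every n the images of these maps in the n-th copy are
eventually constant): A is divisibly ML; (ii) A has a divisible sub-object B' (multiplication by
every positive integer is an epimorphism of B') such that A/B' is isomorphic to an object of C;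
(iii) multiplication by p on A is an epimorphism for all but finitely many primes p. (The published
statement phrases (ii) as: A modulo its divisible part lies in C, and (iii) as: the p-primary part
of A is divisible for almost all p; the divisible part is the largest divisible sub-object, and
multiplication by p on A is an epimorphism exactly when it is one on the p-primary part, the other
primary parts being uniquely p-divisible.) -/
theorem result {C : Type v} [SmallCategory C] [Abelian C]
    (hart : ∀ X : C, IsArtinianObject X)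
    (htor : ∀ X : C, ∃ n : ℕ, 0 < n ∧ n • 𝟙 X = 0)
    (A : Ind C) (hA : ∀ n : ℕ, 0 < n → (Ind.yoneda (C := C)).essImage (kernel (n • 𝟙 A))) :
    ((∀ n : ℕ, 0 < n → ∃ m : ℕ, 0 < m ∧ n ∣ m ∧ ∀ m' : ℕ, 0 < m' → m ∣ m' →
        imageSubobject ((m' / n) • 𝟙 A) = imageSubobject ((m / n) • 𝟙 A)) ↔
      ∃ B' : Subobject A, (∀ k : ℕ, 0 < k → Epi (k • 𝟙 (B' : Ind C))) ∧
        (Ind.yoneda (C := C)).essImage (cokernel B'.arrow)) ∧
    ((∃ B' : Subobject A, (∀ k : ℕ, 0 < k → Epi (k • 𝟙 (B' : Ind C))) ∧
        (Ind.yoneda (C := C)).essImage (cokernel B'.arrow)) ↔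
      {p : ℕ | p.Prime ∧ ¬ Epi (p • 𝟙 A)}.Finite) := by
  have hP := setup hart
  have hT : ∀ (q : ℕ) X, PInd (C := C) X →
      ∃ k c : ℕ, q ^ k • 𝟙 X = (q ^ (k + 1) * c) • 𝟙 X := fun q X hX => by
    obtain ⟨m, hm, h0⟩ := pInd_kill htor hX
    exact torsion_hyp q hm h0
  have hcok : ∀ q : ℕ, 0 < q → PInd (cokernel (q • 𝟙 A)) := fun q hq => by
    obtain ⟨e, he⟩ := exists_gen hP (fun k => hA (q ^ k) (Nat.pow_pos hq)) (hT q)
    exact he.coker hP (hA _ (Nat.pow_pos hq)) (hA _ (Nat.pow_pos hq))
  have key : ∀ q : ℕ, 0 < q → PInd (cokernel (imageSubobject (q • 𝟙 A)).arrow) :=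
    fun q hq => hP.of_iso (cokerImageIso _) (hcok q hq)
  refine ⟨⟨?_, ?_⟩, ⟨?_, ?_⟩⟩
  · intro H
    obtain ⟨m, hm, -, hm'⟩ := H 1 Nat.one_pos
    simp only [Nat.div_one] at hm'
    refine ⟨imageSubobject (m • 𝟙 A), fun k hk => ?_, key m hm⟩
    exact epi_nsmul_image A m k (hm' (m * k) (Nat.mul_pos hm hk) (Dvd.intro k rfl)).ge
  · rintro ⟨B', hdiv, hB'⟩
    obtain ⟨M, hM, hM0⟩ := pInd_kill htor hB'
    exact (Groth.Agent.S14497.result A).1.2 ⟨B', hdiv, M, hM, hM0⟩
  · rintro ⟨B', hdiv, hB'⟩
    obtain ⟨M, hM, hM0⟩ := pInd_kill htor hB'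
    refine (Nat.divisors M).finite_toSet.subset ?_
    rintro r ⟨hr, hnE⟩
    simp only [Finset.mem_coe, Nat.mem_divisors]
    refine ⟨?_, hM.ne'⟩
    by_contra hnd
    exact hnE (epi_of_coprime B' r M ((Nat.Prime.coprime_iff_not_dvd hr).2 hnd)
      (hdiv r hr.pos) hM0)
  · intro hF
    have hq : 0 < ∏ r ∈ hF.toFinset, r := Finset.prod_pos (fun r hr => by
      have := (hF.mem_toFinset.1 hr).1
      exact this.pos)
    obtain ⟨e, he⟩ := exists_gen hP
      (fun k => hA ((∏ r ∈ hF.toFinset, r) ^ k) (Nat.pow_pos hq)) (hT _)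
    refine ⟨imageSubobject ((∏ r ∈ hF.toFinset, r) ^ e • 𝟙 A), fun k hk => ?_,
      key _ (Nat.pow_pos hq)⟩
    exact divisible_of_finite A _ e he (fun r hr hnE =>
      Finset.dvd_prod_of_mem _ (hF.mem_toFinset.2 ⟨hr, hnE⟩)) k hk

end Groth.Agent.S19621
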