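import Groth.Statements.S19624
import Groth.Agent.Lib.Helper29.CokerDetF

set_option autoImplicit false
universe u v
open IntTh

namespace Groth.Agent.S19624

open Groth.Agent.Lib.Helper29.CokerDet

-- AUX BEGIN
section aux

theorem length_coker_dvr {B : Type u} [CommRing B] [IsDomain B] [IsDiscreteValuationRing B]
    {k : ℕ} (Q : Matrix (Fin k) (Fin k) B) :
    Module.length B ((Fin k → B) ⧸ LinearMap.range (Matrix.toLin' Q)) =
      IsDiscreteValuationRing.addVal B Q.det := by
  by_cases h : Q.det = 0
  · rw [h, AddValuation.map_zero]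
    by_contra hne
    have hlt : Module.length B ((Fin k → B) ⧸ LinearMap.range (Matrix.toLin' Q)) < ⊤ :=
      lt_top_iff_ne_top.mpr hne
    have hmax : (⊥ : Ideal B).IsMaximal :=
      isMaximal_of_length_coker_lt_top Q hlt ⊥ (h ▸ Submodule.zero_mem ⊥)
    exact IsDiscreteValuationRing.not_isField B (Ring.isField_iff_maximal_bot.mpr hmax)
  · rw [← Ring.ord_eq_addVal, ← LinearMap.det_toLin' Q]
    exact length_coker_eq_ord_det (Matrix.toLin' Q)
      (by rw [LinearMap.det_toLin']; exact mem_nonZeroDivisors_of_ne_zero h)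

theorem addVal_prod {B : Type u} [CommRing B] [IsDomain B] [IsDiscreteValuationRing B]
    {n : ℕ} (f : Fin n → B) :
    IsDiscreteValuationRing.addVal B (∏ i, f i) =
      ∑ i, IsDiscreteValuationRing.addVal B (f i) := by
  classical
  have : ∀ s : Finset (Fin n), IsDiscreteValuationRing.addVal B (∏ i ∈ s, f i) =
      ∑ i ∈ s, IsDiscreteValuationRing.addVal B (f i) := by
    intro s
    induction s using Finset.induction_on with
    | empty => simp [AddValuation.map_one]
    | insert a s ha ih =>
      rw [Finset.prod_insert ha, Finset.sum_insert ha, AddValuation.map_mul, ih]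
  exact this Finset.univ

end aux
-- AUX END


/-- Let B be a discrete valuation ring with its normalised additive valuation v (so v(0) = ∞) and ω a
ring automorphism of B. For each i in a finite index set let M_i and N_i be free B-modules with
chosen bases indexed by one and the same finite type, and χ_i : M_i → N_i an additive map which is
ω-semilinear, χ_i(b·x) = ω(b)·χ_i(x); write A_i for the matrix of χ_i in the chosen bases. Then the
length over B of the cokernel of the direct sum χ = ⊕_i χ_i : ⊕_i M_i → ⊕_i N_i (the quotient of ⊕_i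
N_i by the submodule generated by the image of χ) equals v(∏_i det A_i); in particular both sides
are infinite exactly when some det A_i is zero. -/
theorem result {B : Type u} [CommRing B] [IsDomain B]
    [IsDiscreteValuationRing B] (ω : B ≃+* B) {n : ℕ} (r : Fin n → ℕ)
    (M N : Fin n → Type v) [∀ i, AddCommGroup (M i)] [∀ i, Module B (M i)]
    [∀ i, AddCommGroup (N i)] [∀ i, Module B (N i)]
    (bM : ∀ i, Module.Basis (Fin (r i)) B (M i)) (bN : ∀ i, Module.Basis (Fin (r i)) B (N i))
    (χ : ∀ i, M i →+ N i) (hχ : ∀ i (b : B) (x : M i), χ i (b • x) = ω b • χ i x) :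
    Module.length B ((∀ i, N i) ⧸ Submodule.span B (Set.range (fun (x : ∀ i, M i) (i : Fin n) => χ i (x i)))) =
      IsDiscreteValuationRing.addVal B (∏ i, Matrix.det
        (Matrix.of fun (a c : Fin (r i)) => (bN i).repr (χ i (bM i c)) a)) := by
  classical
  set A : ∀ i, Matrix (Fin (r i)) (Fin (r i)) B :=
    fun i => Matrix.of fun (a c : Fin (r i)) => (bN i).repr (χ i (bM i c)) a with hA
  let ψ : ∀ i, M i →ₗ[B] N i := fun i => Matrix.toLin (bM i) (bN i) (A i)
  have hψe : ∀ i c, ψ i (bM i c) = χ i (bM i c) := by
    intro i c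
    simp only [ψ, Matrix.toLin_self, hA, Matrix.of_apply]
    exact (bN i).sum_repr _
  -- the twist
  let σ : ∀ i, M i → M i := fun i x => ∑ c, ω ((bM i).repr x c) • bM i c
  have hχσ : ∀ i x, χ i x = ψ i (σ i x) := by
    intro i x
    conv_lhs => rw [← (bM i).sum_repr x]
    simp only [σ, map_sum, hχ, map_smul, hψe]
  have hσsurj : ∀ i, Function.Surjective (σ i) := by
    intro i y
    refine ⟨∑ c, ω.symm ((bM i).repr y c) • bM i c, ?_⟩
    simp only [σ, Module.Basis.repr_sum_self, RingEquiv.apply_symm_apply]
    exact (bM i).sum_repr y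
  let Ψ : (∀ i, M i) →ₗ[B] (∀ i, N i) := LinearMap.pi fun i => ψ i ∘ₗ LinearMap.proj i
  have hrange : Set.range (fun (x : ∀ i, M i) (i : Fin n) => χ i (x i)) = (LinearMap.range Ψ : Set _) := by
    ext y
    simp only [Set.mem_range, LinearMap.coe_range]
    constructor
    · rintro ⟨x, rfl⟩
      exact ⟨fun i => σ i (x i), funext fun i => (hχσ i (x i)).symm⟩
    · rintro ⟨x, rfl⟩
      choose z hz using fun i => hσsurj i (x i)
      refine ⟨z, funext fun i => ?_⟩
      rw [hχσ, hz]
      rfl
  have hpi : LinearMap.range Ψ = Submodule.pi Set.univ (fun i => LinearMap.range (ψ i)) := by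
    ext y
    simp only [LinearMap.mem_range, Submodule.mem_pi, Set.mem_univ, forall_true_left]
    constructor
    · rintro ⟨x, rfl⟩ i
      exact ⟨x i, rfl⟩
    · intro h
      choose x hx using h
      exact ⟨x, funext hx⟩
  rw [hrange, Submodule.span_eq, hpi, (Submodule.quotientPi _).length_eq,
    Module.length_pi_of_fintype, addVal_prod]
  refine Finset.sum_congr rfl fun i _ => ?_
  rw [← length_coker_dvr]
  refine (Submodule.Quotient.equiv _ _ (bN i).equivFun ?_).length_eq
  rw [← LinearMap.range_comp]
  have hcomp : ((bN i).equivFun : N i →ₗ[B] (Fin (r i) → B)) ∘ₗ ψ i =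
      Matrix.toLin' (A i) ∘ₗ ((bM i).equivFun : M i →ₗ[B] (Fin (r i) → B)) := by
    refine LinearMap.ext fun x => ?_
    simp only [LinearMap.comp_apply, LinearEquiv.coe_coe, Module.Basis.equivFun_apply,
      Matrix.toLin'_apply, ψ]
    rw [← LinearMap.toMatrix_mulVec_repr (bM i) (bN i), LinearMap.toMatrix_toLin]
  rw [hcomp, LinearMap.range_comp_of_range_eq_top]
  exact LinearEquiv.range _

end Groth.Agent.S19624
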