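import Groth.Statements.S19630
import Mathlib

set_option autoImplicit false
universe u
open DeRham

namespace Groth.Agent.S19630

open exteriorPower

section

variable {R : Type u} {A M : Type u} [CommRing R] [CommRing A] [Algebra R A]
  [AddCommGroup M] [Module A M] [Module R M] [IsScalarTower R A M]

theorem smul_gen (δ : Derivation R A M) (p : ℕ) (c b₀ : A) (b : Fin p → A) :
    c • DeRham.gen δ p b₀ b = DeRham.gen δ p (c * b₀) b := by
  unfold DeRham.gen
  rw [smul_smul]

theorem closure_gen_eq_top (δ : Derivation R A M)
    (hδ : Submodule.span A (Set.range δ) = ⊤) (p : ℕ) :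
    AddSubgroup.closure {x : ↥(⋀[A]^p M) | ∃ b₀ b, x = DeRham.gen δ p b₀ b} = ⊤ := by
  set G := AddSubgroup.closure {x : ↥(⋀[A]^p M) | ∃ b₀ b, x = DeRham.gen δ p b₀ b} with hG
  have hsmul : ∀ (c : A) (x : ↥(⋀[A]^p M)), x ∈ G → c • x ∈ G := by
    intro c x hx
    induction hx using AddSubgroup.closure_induction with
    | mem y hy =>
      obtain ⟨b₀, b, rfl⟩ := hy
      rw [smul_gen]
      exact AddSubgroup.subset_closure ⟨_, _, rfl⟩
    | zero => rw [smul_zero]; exact G.zero_mem
    | add y z _ _ hy hz => rw [smul_add]; exact G.add_mem hy hz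
    | neg y _ hy => rw [smul_neg]; exact G.neg_mem hy
  rw [eq_top_iff]
  intro x hxtop
  clear hxtop
  have hx : x ∈ Submodule.span A (ιMulti A p '' {a : Fin p → M | Set.range a ⊆ Set.range δ}) := by
    rw [ιMulti_span_of_span A p M hδ]; trivial
  induction hx using Submodule.span_induction with
  | mem y hy =>
    obtain ⟨a, ha, rfl⟩ := hy
    have : ∀ i, ∃ b, δ b = a i := fun i => ha ⟨i, rfl⟩
    choose b hb using this
    apply AddSubgroup.subset_closure
    refine ⟨1, b, ?_⟩
    unfold DeRham.gen
    rw [one_smul]
    congr 1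
    funext i
    exact (hb i).symm
  | zero => exact G.zero_mem
  | add y z _ _ hy hz => exact G.add_mem hy hz
  | smul c y _ hy => exact hsmul c y hy

end

theorem kaehler_map_bijective (k K : Type u) [Field k] [Field K] [CharZero k] [Algebra k K]
    [Module.Finite k K] (B : Type u) [CommRing B] [Algebra K B] [Algebra k B] [IsScalarTower k K B] :
    Function.Bijective (KaehlerDifferential.map k K B B) := by
  refine ⟨?_, KaehlerDifferential.map_surjective k K B⟩
  rw [← LinearMap.ker_eq_bot, ← KaehlerDifferential.range_mapBaseChange, LinearMap.range_eq_bot]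
  haveI : Algebra.IsSeparable k K := Algebra.IsAlgebraic.isSeparable_of_perfectField
  haveI : Algebra.FormallyUnramified k K := Algebra.FormallyUnramified.of_isSeparable k K
  haveI : Subsingleton (Ω[K⁄k]) := inferInstance
  haveI : Subsingleton (TensorProduct K B (Ω[K⁄k])) := inferInstance
  exact Subsingleton.elim _ _


open exteriorPower in
/-- In the affine case, at ring level, let k ⊆ K be a finite extension of fields of characteristic zero
and B a smooth K-algebra, so that Y = Spec B is a smooth affine variety over K which may also be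
regarded over k. Let ψ be the map of de Rham complexes from Ω•_{B/k} to Ω•_{B/K} induced by the
identity of B. Then ψ is bijective in every degree: the de Rham complex of Y over k and over K
coincide, and hence the natural map H^i_dR(Y/k) → H^i_dR(Y/K) is an isomorphism. (The source states
the isomorphism on de Rham cohomology for any smooth variety Y over K, through the equality of the
two de Rham complexes; this row is that equality for affine Y.) -/
theorem result
    (k K : Type u) [Field k] [Field K] [CharZero k] [Algebra k K] [Module.Finite k K]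
    (B : Type u) [CommRing B] [Algebra K B] [Algebra k B] [IsScalarTower k K B] [Algebra.Smooth K B]
    (ψ : ∀ p : ℕ, ↥(⋀[B]^p (Ω[B⁄k])) →+ ↥(⋀[B]^p (Ω[B⁄K])))
    (hψ : DeRham.IsCxMap (KaehlerDifferential.D k B) (KaehlerDifferential.D K B) (RingHom.id B) ψ)
    (p : ℕ) :
    Function.Bijective (ψ p) := by
  obtain ⟨hinj, hsurj⟩ := kaehler_map_bijective k K B
  let π : Ω[B⁄k] →ₗ[B] Ω[B⁄K] := KaehlerDifferential.map k K B B
  let e : Ω[B⁄k] ≃ₗ[B] Ω[B⁄K] := LinearEquiv.ofBijective π ⟨hinj, hsurj⟩
  have hΦ : Function.Bijective (exteriorPower.map p π) := by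
    refine ⟨exteriorPower.map_injective (e.symm : Ω[B⁄K] →ₗ[B] Ω[B⁄k]) ?_,
      exteriorPower.map_surjective hsurj⟩
    refine LinearMap.ext fun x => ?_
    exact e.symm_apply_apply x
  have heq : ψ p = (exteriorPower.map p π).toAddMonoidHom := by
    refine AddMonoidHom.eq_of_eqOn_dense
      (closure_gen_eq_top (KaehlerDifferential.D k B) (KaehlerDifferential.span_range_derivation k B) p) ?_
    rintro _ ⟨b₀, b, rfl⟩
    rw [hψ p b₀ b]
    simp only [RingHom.id_apply, LinearMap.toAddMonoidHom_coe]
    unfold DeRham.gen
    rw [map_smul, exteriorPower.map_apply_ιMulti]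
    congr 2
    funext i
    simp only [Function.comp_apply, π, KaehlerDifferential.map_D, Algebra.algebraMap_self, RingHom.id_apply]
  rw [heq]
  exact hΦ

end Groth.Agent.S19630
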