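import Groth.Statements.S19631
import Mathlib.AlgebraicTopology.CechNerve
import Mathlib.AlgebraicTopology.SimplicialObject.Coskeletal

set_option autoImplicit false
universe u
open Hyper

namespace Groth.Agent.S19631

section general

open CategoryTheory CategoryTheory.Limits Opposite SimplexCategory Simplicial

universe v' u'

variable {C : Type u'} [Category.{v'} C] [HasFiniteProducts C] (X : C)

/-- projections of the Čech nerve -/
noncomputable def proj (m : SimplexCategoryᵒᵖ) (i : Fin (m.unop.len + 1)) :
    (cechNerveTerminalFrom X).obj m ⟶ X :=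
  Pi.π (fun _ : Fin (m.unop.len + 1) => X) i

/-- lifting into the Čech nerve -/
noncomputable def mkHom {W : C} (m : SimplexCategoryᵒᵖ) (g : Fin (m.unop.len + 1) → (W ⟶ X)) :
    W ⟶ (cechNerveTerminalFrom X).obj m :=
  Pi.lift g

@[reassoc (attr := simp)]
theorem mkHom_proj {W : C} (m : SimplexCategoryᵒᵖ) (g : Fin (m.unop.len + 1) → (W ⟶ X))
    (i : Fin (m.unop.len + 1)) : mkHom X m g ≫ proj X m i = g i :=
  Pi.lift_π (β := Fin (m.unop.len + 1)) (f := fun _ => X) g i

theorem hom_ext' {W : C} (m : SimplexCategoryᵒᵖ) (f g : W ⟶ (cechNerveTerminalFrom X).obj m)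
    (h : ∀ i, f ≫ proj X m i = g ≫ proj X m i) : f = g :=
  Pi.hom_ext (f := fun _ : Fin (m.unop.len + 1) => X) f g h

@[reassoc]
theorem cech_map_proj {a b : SimplexCategoryᵒᵖ} (f : a ⟶ b) (i : Fin (b.unop.len + 1)) :
    (cechNerveTerminalFrom X).map f ≫ proj X b i = proj X a (f.unop.toOrderHom i) := by
  simp [cechNerveTerminalFrom, proj]


/-- The object `⦋0⦌` of the truncated simplex category. -/
abbrev zeroT (n : ℕ) : SimplexCategory.Truncated n := ⟨⦋0⦌, by simp⟩

/-- The lift, componentwise. -/
noncomputable def liftApp (n : ℕ) (Z : SimplicialObject C)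
    (α : (Truncated.inclusion n).op ⋙ Z ⟶ (Truncated.inclusion n).op ⋙ cechNerveTerminalFrom X)
    (m : SimplexCategoryᵒᵖ) : Z.obj m ⟶ (cechNerveTerminalFrom X).obj m :=
  mkHom X m fun i =>
    Z.map (SimplexCategory.const ⦋0⦌ m.unop i).op ≫ α.app (op (zeroT n)) ≫ proj X (op ⦋0⦌) 0

/-- The lift as a natural transformation. -/
noncomputable def lift (n : ℕ) (Z : SimplicialObject C)
    (α : (Truncated.inclusion n).op ⋙ Z ⟶ (Truncated.inclusion n).op ⋙ cechNerveTerminalFrom X) :
    Z ⟶ cechNerveTerminalFrom X where
  app m := liftApp X n Z α m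
  naturality a b f := by
    apply hom_ext'
    intro j
    rw [Category.assoc, Category.assoc, cech_map_proj, liftApp, liftApp, mkHom_proj, mkHom_proj,
      ← Functor.map_comp_assoc]
    rfl

theorem lift_fac (n : ℕ) (Z : SimplicialObject C)
    (α : (Truncated.inclusion n).op ⋙ Z ⟶ (Truncated.inclusion n).op ⋙ cechNerveTerminalFrom X) :
    Functor.whiskerLeft (Truncated.inclusion n).op (lift X n Z α) = α := by
  ext t
  obtain ⟨⟨x, hx⟩⟩ := t
  apply hom_ext' X (op x)
  intro i
  have hnat := α.naturality
    (X := op (⟨x, hx⟩ : SimplexCategory.Truncated n))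
    (Y := op (zeroT n))
    (Truncated.Hom.tr (SimplexCategory.const ⦋0⦌ x i) (by simp) hx).op
  have h2 := congrArg (fun g => g ≫ proj X (op ⦋0⦌) 0) hnat
  simp only [Category.assoc] at h2
  have h3 := cech_map_proj X (SimplexCategory.const ⦋0⦌ x i).op (0 : Fin (0 + 1))
  have h4 : (Functor.whiskerLeft (Truncated.inclusion n).op (lift X n Z α)).app
      (op (⟨x, hx⟩ : SimplexCategory.Truncated n)) = liftApp X n Z α (op x) := rfl
  rw [h4, liftApp, mkHom_proj]
  refine h2.trans ?_
  congr 1


theorem lift_uniq (n : ℕ) (Z : SimplicialObject C)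
    (α : (Truncated.inclusion n).op ⋙ Z ⟶ (Truncated.inclusion n).op ⋙ cechNerveTerminalFrom X)
    (β : Z ⟶ cechNerveTerminalFrom X)
    (hβ : Functor.whiskerLeft (Truncated.inclusion n).op β = α) : β = lift X n Z α := by
  ext m
  apply hom_ext' X m
  intro i
  have h1 : (lift X n Z α).app m = liftApp X n Z α m := rfl
  rw [h1, liftApp, mkHom_proj]
  have hnat := β.naturality (SimplexCategory.const ⦋0⦌ m.unop i).op
  have h2 := congrArg (fun g => g ≫ proj X (op ⦋0⦌) 0) hnat
  simp only [Category.assoc] at h2
  rw [cech_map_proj] at h2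
  have h3 : β.app (op ⦋0⦌) = α.app (op (zeroT n)) := by
    rw [← hβ]
    rfl
  rw [← h3]
  exact h2.symm

theorem isCoskeletal_cechNerveTerminalFrom (n : ℕ) :
    SimplicialObject.IsCoskeletal (cechNerveTerminalFrom X) n := by
  constructor
  constructor
  refine ⟨IsTerminal.ofUniqueHom
    (fun E => CostructuredArrow.homMk (lift X n E.left E.hom) ?_) (fun E m => ?_)⟩
  · have := lift_fac X n E.left E.hom
    exact (Category.comp_id _).trans this
  · apply CostructuredArrow.hom_ext
    apply lift_uniq
    have := CostructuredArrow.w m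
    exact (Category.comp_id _).symm.trans this


end general

open CategoryTheory CategoryTheory.Limits AlgebraicGeometry in
/-- Let f : X → Y be a morphism of schemes and X_• = cosk_0^Y(X) its Čech nerve, the simplicial scheme
over Y with X_p = X ×_Y ⋯ ×_Y X (p + 1 factors), face maps the projections forgetting one factor and
degeneracies induced by diagonals. Then X_•, as a simplicial object of the category of schemes over
Y, is n-coskeletal for every n, i.e. the adjunction morphisms X_• → cosk_n sk_n X_• (coskeleta
relative to Y) are isomorphisms. In the source this is phrased as: for a class S of covering maps of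
varieties containing the identities, X_• → Y is an S-hypercover whenever X → Y lies in S, the
adjunction maps X_p → (cosk_{p-1} sk_{p-1} X_•)_p being isomorphisms for p ≥ 1 and X_0 → Y being f.
(Stated for arbitrary schemes; the source has varieties over a field.) -/
theorem result (X Y : Scheme.{u}) (f : X ⟶ Y) (n : ℕ) :
    SimplicialObject.IsCoskeletal (cechNerveTerminalFrom (Over.mk f)) n := by
  exact isCoskeletal_cechNerveTerminalFrom _ n

end Groth.Agent.S19631
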