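import Groth.Statements.S19632
import Mathlib.Algebra.MonoidAlgebra.Module

set_option autoImplicit false
universe u
open DeRham

namespace Groth.Agent.S19632

section aux

variable (k : Type u) [Field k]

noncomputable def theta : LaurentPolynomial k →ₗ[k] LaurentPolynomial k :=
  (AddMonoidAlgebra.basis ℤ k).constr k
    (fun n : ℤ => (AddMonoidAlgebra.single n (n : k) : LaurentPolynomial k))

theorem theta_single (n : ℤ) (r : k) :
    theta k (AddMonoidAlgebra.single n r) = AddMonoidAlgebra.single n ((n : k) * r) := by
  have h1 : (AddMonoidAlgebra.single n r : LaurentPolynomial k)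
      = r • AddMonoidAlgebra.basis ℤ k n := by
    rw [AddMonoidAlgebra.basis_apply, AddMonoidAlgebra.smul_single, smul_eq_mul, mul_one]
  rw [h1, map_smul, theta, Module.Basis.constr_basis, AddMonoidAlgebra.smul_single, smul_eq_mul,
    mul_comm]

theorem theta_leibniz (a b : LaurentPolynomial k) :
    theta k (a * b) = a • theta k b + b • theta k a := by
  induction a using AddMonoidAlgebra.induction_linear with
  | zero => simp
  | add x y hx hy =>
    rw [add_mul, map_add, hx, hy, map_add, smul_add, add_smul]
    abel
  | single m r =>
    induction b using AddMonoidAlgebra.induction_linear with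
    | zero => simp
    | add x y hx hy =>
      rw [mul_add, map_add, hx, hy, map_add, smul_add, add_smul]
      abel
    | single n s =>
      rw [AddMonoidAlgebra.single_mul_single, theta_single, theta_single, theta_single,
        smul_eq_mul, smul_eq_mul, AddMonoidAlgebra.single_mul_single,
        AddMonoidAlgebra.single_mul_single, add_comm n m, ← AddMonoidAlgebra.single_add]
      congr 1
      push_cast
      ring

noncomputable def thetaD : Derivation k (LaurentPolynomial k) (LaurentPolynomial k) :=
  Derivation.mk' (theta k) (theta_leibniz k)

theorem theta_coeff (f : LaurentPolynomial k) (n : ℤ) :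
    (theta k f).coeff n = (n : k) * f.coeff n := by
  induction f using AddMonoidAlgebra.induction_linear with
  | zero => simp
  | add x y hx hy =>
    rw [map_add, AddMonoidAlgebra.coeff_add, AddMonoidAlgebra.coeff_add, Finsupp.add_apply,
      Finsupp.add_apply, hx, hy, mul_add]
  | single m r =>
    rw [theta_single, AddMonoidAlgebra.coeff_single, AddMonoidAlgebra.coeff_single]
    by_cases h : m = n
    · subst h; simp
    · simp [h]

end aux

/-- Let k be a field of characteristic zero and G_m = Spec k[t, t⁻¹] the multiplicative group. The
kernel of the differential d : k[t, t⁻¹] → Ω¹ of the de Rham complex of G_m consists of the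
constants: for a Laurent polynomial f, df = 0 if and only if f lies in the image of k. Equivalently
H^0_dR(G_m/k) = k. (Characteristic zero is used: in characteristic p the element t^p is closed.) -/
theorem result (k : Type u) [Field k] [CharZero k]
    (f : LaurentPolynomial k) :
    KaehlerDifferential.D k (LaurentPolynomial k) f = 0 ↔ f ∈ Set.range (algebraMap k (LaurentPolynomial k)) := by
  constructor
  · intro h
    have h1 : theta k f = 0 := by
      have h2 := congrArg (thetaD k).liftKaehlerDifferential h
      rw [Derivation.liftKaehlerDifferential_comp_D, map_zero] at h2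
      exact h2
    refine ⟨f.coeff 0, ?_⟩
    rw [← LaurentPolynomial.C_eq_algebraMap]
    apply LaurentPolynomial.ext
    intro n
    rw [LaurentPolynomial.C_apply]
    by_cases hn : n = 0
    · subst hn; simp
    · rw [if_neg hn]
      have h3 := theta_coeff k f n
      rw [h1] at h3
      simp only [AddMonoidAlgebra.coeff_zero, Finsupp.coe_zero, Pi.zero_apply] at h3
      rcases mul_eq_zero.mp h3.symm with h4 | h4
      · exact absurd (Int.cast_eq_zero.mp h4) hn
      · exact h4.symm
  · rintro ⟨c, rfl⟩
    exact Derivation.map_algebraMap _ c

end Groth.Agent.S19632
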