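import Groth.Statements.S19634
import Groth.Agent.Lib.Helper97.Node

set_option autoImplicit false
universe u
open DeRham

namespace Groth.Agent.S19634

open Groth.Agent.Lib.Helper97

/-- Let k be a field of characteristic zero and A = k[X, Y]/(XY), the coordinate ring of two affine
lines crossing in a point. In the naive de Rham complex A → Ω¹_{A/k} the kernel of d consists of the
constants: dP = 0 if and only if P is in the image of k. -/
theorem result (k : Type u) [Field k] [CharZero k]
    (P : MvPolynomial (Fin 2) k ⧸ Ideal.span {(MvPolynomial.X 0 * MvPolynomial.X 1 : MvPolynomial (Fin 2) k)}) :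
    KaehlerDifferential.D k (MvPolynomial (Fin 2) k ⧸ Ideal.span {(MvPolynomial.X 0 * MvPolynomial.X 1 : MvPolynomial (Fin 2) k)}) P = 0 ↔
      P ∈ Set.range (algebraMap k (MvPolynomial (Fin 2) k ⧸ Ideal.span {(MvPolynomial.X 0 * MvPolynomial.X 1 : MvPolynomial (Fin 2) k)})) := by
  constructor
  · intro h
    obtain ⟨x, rfl⟩ := Ideal.Quotient.mk_surjective P
    have hE : ∀ i : Fin 2, euler k i x ∈ nodeIdeal k := by
      intro i
      have h2 := congrArg (eulerNode k i).liftKaehlerDifferential h
      rw [Derivation.liftKaehlerDifferential_comp_D, map_zero, eulerNode_mk,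
        Ideal.Quotient.eq_zero_iff_mem] at h2
      exact h2
    have hmem := sub_C_mem_nodeIdeal k x (hE 0) (hE 1)
    refine ⟨MvPolynomial.coeff 0 x, ?_⟩
    have h3 : algebraMap k (MvPolynomial (Fin 2) k ⧸ nodeIdeal k) (MvPolynomial.coeff 0 x) =
        Ideal.Quotient.mk (nodeIdeal k) (MvPolynomial.C (MvPolynomial.coeff 0 x)) := rfl
    exact h3.trans ((Ideal.Quotient.mk_eq_mk_iff_sub_mem _ _).mpr hmem).symm
  · rintro ⟨c, rfl⟩
    exact Derivation.map_algebraMap _ c

end Groth.Agent.S19634
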