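import Groth.Statements.S19635
import Groth.Agent.Lib.Helper97.Node

set_option autoImplicit false
universe u
open DeRham

namespace Groth.Agent.S19635

open MvPolynomial Groth.Agent.Lib.Helper97

theorem generic_quot {k : Type u} {R : Type u} [Field k] [CommRing R] [Algebra k R] (I : Ideal R)
    (J : Ideal (R ⧸ I)) (d : Derivation k R R)
    (hd : ∀ x, Ideal.Quotient.mk I x ∈ J → Ideal.Quotient.mk I (d x) ∈ J) (p x0 x1 : R)
    (h : KaehlerDifferential.D k (R ⧸ I) (Ideal.Quotient.mk I p) =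
      Ideal.Quotient.mk I x0 • KaehlerDifferential.D k (R ⧸ I) (Ideal.Quotient.mk I x1)) :
    Ideal.Quotient.mk I (d p - x0 * d x1) ∈ J := by
  let f : R →ₐ[k] ((R ⧸ I) ⧸ J) := (Ideal.Quotient.mkₐ k J).comp (Ideal.Quotient.mkₐ k I)
  have f_apply : ∀ x, f x = Ideal.Quotient.mk J (Ideal.Quotient.mk I x) := fun x => rfl
  have f_surj : Function.Surjective f := by
    intro b
    obtain ⟨a, rfl⟩ := Ideal.Quotient.mk_surjective b
    obtain ⟨x, rfl⟩ := Ideal.Quotient.mk_surjective a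
    exact ⟨x, rfl⟩
  have hd' : ∀ x, f x = 0 → f (d x) = 0 := by
    intro x hx
    rw [f_apply, Ideal.Quotient.eq_zero_iff_mem] at hx ⊢
    exact hd x hx
  let dB : Derivation k ((R ⧸ I) ⧸ J) ((R ⧸ I) ⧸ J) :=
    Derivation.liftOfSurjective (f := f) f_surj (d := d) hd'
  have dB_f : ∀ x, dB (f x) = f (d x) := fun x =>
    Derivation.liftOfSurjective_apply (f := f) f_surj (d := d) hd' x
  have h2 := congrArg (dB.compAlgebraMap (R ⧸ I)).liftKaehlerDifferential h
  rw [map_smul, Derivation.liftKaehlerDifferential_comp_D,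
    Derivation.liftKaehlerDifferential_comp_D, Derivation.compAlgebraMap_apply,
    Derivation.compAlgebraMap_apply] at h2
  have e : ∀ x, algebraMap (R ⧸ I) ((R ⧸ I) ⧸ J) (Ideal.Quotient.mk I x) = f x := fun x => rfl
  rw [e, e, dB_f, dB_f] at h2
  have h3 : (Ideal.Quotient.mk I) x0 • f (d x1) = f x0 * f (d x1) := rfl
  rw [h3, ← map_mul, ← sub_eq_zero, ← map_sub, f_apply,
    Ideal.Quotient.eq_zero_iff_mem] at h2
  exact h2

section aux

variable (k : Type u) [Field k]

/-- rotation derivation `X ∂/∂Y - Y ∂/∂X` -/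
noncomputable def rot : Derivation k (MvPolynomial (Fin 2) k) (MvPolynomial (Fin 2) k) :=
  (X 0 : MvPolynomial (Fin 2) k) • pderiv 1 - (X 1 : MvPolynomial (Fin 2) k) • pderiv 0

theorem rot_apply (p : MvPolynomial (Fin 2) k) :
    rot k p = X 0 * pderiv 1 p - X 1 * pderiv 0 p := rfl

theorem rot_X0X1 : rot k (X 0 * X 1) = X 0 ^ 2 - X 1 ^ 2 := by
  rw [rot_apply, pderiv_mul, pderiv_mul]
  simp
  ring

theorem rot_sq : rot k (X 0 ^ 2 - X 1 ^ 2) = -4 * (X 0 * X 1) := by
  rw [rot_apply, map_sub, map_sub, pderiv_pow, pderiv_pow, pderiv_pow, pderiv_pow]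
  simp
  ring

theorem rot_X1 : rot k (X 1) = X 0 := by
  rw [rot_apply]
  simp

/-- the functional `c₂₀ + c₀₂` -/
noncomputable def mu : MvPolynomial (Fin 2) k →ₗ[k] k :=
  lcoeff k (Finsupp.single 0 2) + lcoeff k (Finsupp.single 1 2)

theorem mu_apply (p : MvPolynomial (Fin 2) k) :
    mu k p = coeff (Finsupp.single 0 2) p + coeff (Finsupp.single 1 2) p := rfl

theorem mu_ker (a b : MvPolynomial (Fin 2) k) :
    mu k (a * (X 0 * X 1) + b * (X 0 ^ 2 - X 1 ^ 2)) = 0 := by
  classical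
  rw [mu_apply, coeff_add, coeff_add]
  have e1 : coeff (Finsupp.single 0 2) (a * (X 0 * X 1)) = 0 := by
    rw [← mul_assoc, coeff_mul_X']
    simp
  have e2 : coeff (Finsupp.single 1 2) (a * (X 0 * X 1)) = 0 := by
    rw [mul_comm (X 0) (X 1), ← mul_assoc, coeff_mul_X']
    simp
  have e3 : coeff (Finsupp.single 0 2) (b * (X 0 ^ 2 - X 1 ^ 2)) = coeff 0 b := by
    rw [mul_sub, coeff_sub, X_pow_eq_monomial, X_pow_eq_monomial, coeff_mul_monomial',
      coeff_mul_monomial']
    simp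
  have e4 : coeff (Finsupp.single 1 2) (b * (X 0 ^ 2 - X 1 ^ 2)) = - coeff 0 b := by
    rw [mul_sub, coeff_sub, X_pow_eq_monomial, X_pow_eq_monomial, coeff_mul_monomial',
      coeff_mul_monomial']
    simp
  rw [e1, e2, e3, e4]
  ring

theorem mu_rot (p : MvPolynomial (Fin 2) k) : mu k (rot k p) = 0 := by
  classical
  have s1 : (Finsupp.single (0 : Fin 2) 2 - Finsupp.single 0 1 : Fin 2 →₀ ℕ) = Finsupp.single 0 1 := by
    rw [← Finsupp.single_tsub]
  have s2 : (Finsupp.single (1 : Fin 2) 2 - Finsupp.single 1 1 : Fin 2 →₀ ℕ) = Finsupp.single 1 1 := by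
    rw [← Finsupp.single_tsub]
  have e1 : coeff (Finsupp.single 0 2) (X 0 * pderiv 1 p) =
      coeff (Finsupp.single 0 1 + Finsupp.single 1 1) p := by
    rw [coeff_X_mul', if_pos (by simp), s1, coeff_pderiv]
    simp
  have e2 : coeff (Finsupp.single 0 2) (X 1 * pderiv 0 p) = 0 := by
    rw [coeff_X_mul', if_neg (by simp)]
  have e3 : coeff (Finsupp.single 1 2) (X 0 * pderiv 1 p) = 0 := by
    rw [coeff_X_mul', if_neg (by simp)]
  have e4 : coeff (Finsupp.single 1 2) (X 1 * pderiv 0 p) =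
      coeff (Finsupp.single 0 1 + Finsupp.single 1 1) p := by
    rw [coeff_X_mul', if_pos (by simp), s2, coeff_pderiv, add_comm (Finsupp.single 1 1)]
    simp
  rw [mu_apply, rot_apply, coeff_sub, coeff_sub, e1, e2, e3, e4]
  ring

theorem mu_X0sq : mu k (X 0 ^ 2) = 1 := by
  classical
  have hne : ¬ (Finsupp.single (0 : Fin 2) 2 : Fin 2 →₀ ℕ) = Finsupp.single 1 2 := by
    intro h
    have := DFunLike.congr_fun h 0
    simp at this
  rw [mu_apply, X_pow_eq_monomial, coeff_monomial, coeff_monomial, if_pos rfl, if_neg hne, add_zero]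

/-- the ideal `(X² - Y²)` of the node -/
noncomputable abbrev J' : Ideal (MvPolynomial (Fin 2) k ⧸ nodeIdeal k) :=
  Ideal.span {(Ideal.Quotient.mk (nodeIdeal k) (X 0)) ^ 2 - (Ideal.Quotient.mk (nodeIdeal k) (X 1)) ^ 2}

theorem mk_X0X1 : Ideal.Quotient.mk (nodeIdeal k) (X 0 * X 1) = 0 := by
  rw [Ideal.Quotient.eq_zero_iff_mem]
  exact Ideal.mem_span_singleton_self _

theorem mem_J'_iff (x : MvPolynomial (Fin 2) k) :
    Ideal.Quotient.mk (nodeIdeal k) x ∈ J' k ↔
      ∃ a b, x = a * (X 0 * X 1) + b * (X 0 ^ 2 - X 1 ^ 2) := by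
  constructor
  · intro h
    rw [Ideal.mem_span_singleton'] at h
    obtain ⟨c', hc'⟩ := h
    obtain ⟨c, rfl⟩ := Ideal.Quotient.mk_surjective c'
    rw [← map_pow, ← map_pow, ← map_sub, ← map_mul, Ideal.Quotient.mk_eq_mk_iff_sub_mem,
      Ideal.mem_span_singleton'] at hc'
    obtain ⟨a, ha⟩ := hc'
    refine ⟨-a, c, ?_⟩
    rw [neg_mul, ha]
    ring
  · rintro ⟨a, b, rfl⟩
    have h1 : Ideal.Quotient.mk (nodeIdeal k) (a * (X 0 * X 1)) = 0 := by
      rw [map_mul, mk_X0X1, mul_zero]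
    rw [map_add, h1, zero_add, map_mul, map_sub, map_pow, map_pow]
    exact Ideal.mul_mem_left _ _ (Ideal.mem_span_singleton_self _)

theorem rot_mem_J' (x : MvPolynomial (Fin 2) k)
    (hx : Ideal.Quotient.mk (nodeIdeal k) x ∈ J' k) :
    Ideal.Quotient.mk (nodeIdeal k) (rot k x) ∈ J' k := by
  rw [mem_J'_iff] at hx ⊢
  obtain ⟨a, b, rfl⟩ := hx
  have l1 := Derivation.leibniz (rot k) a (X 0 * X 1)
  have l2 := Derivation.leibniz (rot k) b (X 0 ^ 2 - X 1 ^ 2)
  refine ⟨rot k a - 4 * b, a + rot k b, ?_⟩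
  rw [map_add, l1, l2, rot_X0X1, rot_sq, smul_eq_mul, smul_eq_mul, smul_eq_mul, smul_eq_mul]
  ring

end aux

/-- Let k be a field of characteristic zero and A = k[X, Y]/(XY), the coordinate ring of two affine
lines crossing in a point. The differential d : A → Ω¹_{A/k} of the naive de Rham complex is not
surjective, so the naive H^1 of this singular curve does not vanish although one expects trivial
cohomology; this is the example motivating the h-topology definition. -/
theorem result (k : Type u) [Field k] [CharZero k] :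
    ¬ Function.Surjective (KaehlerDifferential.D k (MvPolynomial (Fin 2) k ⧸ Ideal.span {(MvPolynomial.X 0 * MvPolynomial.X 1 : MvPolynomial (Fin 2) k)})) := by
  intro hsurj
  obtain ⟨P, hP⟩ := hsurj
    ((Ideal.Quotient.mk (nodeIdeal k) (X 0)) •
      KaehlerDifferential.D k (MvPolynomial (Fin 2) k ⧸ nodeIdeal k)
        (Ideal.Quotient.mk (nodeIdeal k) (X 1)))
  obtain ⟨p, rfl⟩ := Ideal.Quotient.mk_surjective P
  have h2 := generic_quot (nodeIdeal k) (J' k) (rot k) (rot_mem_J' k) p (X 0) (X 1) hP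
  rw [mem_J'_iff, rot_X1] at h2
  obtain ⟨a, b, hab⟩ := h2
  have h3 := congrArg (mu k) hab
  rw [mu_ker, map_sub, mu_rot, ← pow_two, mu_X0sq] at h3
  simp at h3

end Groth.Agent.S19635
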