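import Groth.Statements.S1965
import Mathlib.RingTheory.Henselian
import Mathlib.RingTheory.KrullDimension.LocalRing
import Mathlib.RingTheory.Finiteness.Ideal
-- import your own Groth.Agent.* helpers here

set_option autoImplicit false
universe u
open Polynomial
open EtAlg

namespace Groth.Agent.S1965

theorem hensel_nonmonic (R : Type*) [CommRing R] (I : Ideal R) [IsAdicComplete I R]
    (f : R[X]) (a₀ : R) (h₁ : f.eval a₀ ∈ I)
    (h₂ : IsUnit (Ideal.Quotient.mk I (f.derivative.eval a₀))) :
    ∃ a : R, f.IsRoot a ∧ a - a₀ ∈ I := by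
  classical
    let f' := derivative f
    let c : ℕ → R := fun n => Nat.recOn n a₀ fun _ b => b - f.eval b * Ring.inverse (f'.eval b)
    have hc : ∀ n, c (n + 1) = c n - f.eval (c n) * Ring.inverse (f'.eval (c n)) := by
      intro n
      simp only [c]
    have hc_mod : ∀ n, c n ≡ a₀ [SMOD I] := by
      intro n
      induction n with
      | zero => rfl
      | succ n ih => ?_
      rw [hc, sub_eq_add_neg, ← add_zero a₀]
      refine ih.add ?_
      rw [SModEq.zero, Ideal.neg_mem_iff]
      refine I.mul_mem_right _ ?_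
      rw [← SModEq.zero] at h₁ ⊢
      exact (ih.eval f).trans h₁
    have hf'c : ∀ n, IsUnit (f'.eval (c n)) := by
      intro n
      have := isLocalHom_of_le_jacobson_bot I (IsAdicComplete.le_jacobson_bot I)
      apply IsUnit.of_map (Ideal.Quotient.mk I)
      convert! h₂ using 1
      exact SModEq.def.mp ((hc_mod n).eval _)
    have hfcI : ∀ n, f.eval (c n) ∈ I ^ (n + 1) := by
      intro n
      induction n with
      | zero => simpa only [Nat.rec_zero, zero_add, pow_one] using! h₁
      | succ n ih => ?_
      rw [← taylor_eval_sub (c n), hc, sub_eq_add_neg, sub_eq_add_neg,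
        add_neg_cancel_comm]
      rw [eval_eq_sum, sum_over_range' _ _ _ (lt_add_of_pos_right _ zero_lt_two), ←
        Finset.sum_range_add_sum_Ico _ (Nat.le_add_left _ _)]
      swap
      · intro i
        rw [zero_mul]
      refine Ideal.add_mem _ ?_ ?_
      · rw [← one_add_one_eq_two, Finset.sum_range_succ, Finset.range_one, Finset.sum_singleton,
          taylor_coeff_zero, taylor_coeff_one, pow_zero, pow_one, mul_one, mul_neg,
          mul_left_comm, Ring.mul_inverse_cancel _ (hf'c n), mul_one, add_neg_cancel]
        exact Ideal.zero_mem _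
      · refine Submodule.sum_mem _ ?_
        simp only [Finset.mem_Ico]
        rintro i ⟨h2i, _⟩
        have aux : n + 2 ≤ i * (n + 1) := by trans 2 * (n + 1) <;> nlinarith only [h2i]
        refine Ideal.mul_mem_left _ _ (Ideal.pow_le_pow_right aux ?_)
        rw [pow_mul']
        exact Ideal.pow_mem_pow ((Ideal.neg_mem_iff _).2 <| Ideal.mul_mem_right _ _ ih) _
    have aux : ∀ m n, m ≤ n → c m ≡ c n [SMOD (I ^ m • ⊤ : Ideal R)] := by
      intro m n hmn
      rw [← Ideal.one_eq_top, Ideal.smul_eq_mul, mul_one]
      obtain ⟨k, rfl⟩ := Nat.exists_eq_add_of_le hmn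
      clear hmn
      induction k with
      | zero => rw [add_zero]
      | succ k ih => ?_
      rw [← add_assoc, hc, ← add_zero (c m), sub_eq_add_neg]
      refine ih.add ?_
      symm
      rw [SModEq.zero, Ideal.neg_mem_iff]
      refine Ideal.mul_mem_right _ _ (Ideal.pow_le_pow_right ?_ (hfcI _))
      rw [add_assoc]
      exact le_self_add
    obtain ⟨a, ha⟩ := IsPrecomplete.prec' c (aux _ _)
    refine ⟨a, ?_, ?_⟩
    · show f.IsRoot a
      suffices ∀ n, f.eval a ≡ 0 [SMOD (I ^ n • ⊤ : Ideal R)] by exact IsHausdorff.haus' _ this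
      intro n
      specialize ha n
      rw [← Ideal.one_eq_top, Ideal.smul_eq_mul, mul_one] at ha ⊢
      refine (ha.symm.eval f).trans ?_
      rw [SModEq.zero]
      exact Ideal.pow_le_pow_right le_self_add (hfcI _)
    · show a - a₀ ∈ I
      specialize ha (0 + 1)
      rw [hc, pow_one, ← Ideal.one_eq_top, Ideal.smul_eq_mul, mul_one, sub_eq_add_neg] at ha
      rw [← SModEq.sub_mem, ← add_zero a₀]
      refine ha.symm.trans (SModEq.rfl.add ?_)
      rw [SModEq.zero, Ideal.neg_mem_iff]
      exact Ideal.mul_mem_right _ _ h₁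

/-- Let A be a complete Noetherian local domain of Krull dimension 1 with maximal ideal m, P a
polynomial over A and α a root of P which is not a root of the derivative P'. Then for every c there
is an n such that for every polynomial Q all of whose coefficients lie in m^n, the polynomial P + Q
has a root β with β - α in m^c. -/
theorem result (A : Type u) [CommRing A] [IsDomain A] [IsLocalRing A] [IsNoetherianRing A]
    [IsAdicComplete (IsLocalRing.maximalIdeal A) A] (hdim : ringKrullDim A = 1) (P : A[X]) (α : A)
    (hα : P.eval α = 0) (hα' : (derivative P).eval α ≠ 0) (c : ℕ) :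
    ∃ n : ℕ, ∀ Q : A[X], (∀ i, Q.coeff i ∈ IsLocalRing.maximalIdeal A ^ n) →
      ∃ β : A, (P + Q).eval β = 0 ∧ β - α ∈ IsLocalRing.maximalIdeal A ^ c := by
  set m := IsLocalRing.maximalIdeal A with hm
  set d := (derivative P).eval α with hd
  have hrad : m ≤ (Ideal.span {d}).radical :=
    (ringKrullDim_eq_one_iff_of_isLocalRing_isDomain.mp hdim).2 d hα'
  obtain ⟨N, hN⟩ := Ideal.exists_pow_le_of_le_radical_of_fg hrad
    ((isNoetherianRing_iff_ideal_fg A).mp inferInstance m)
  refine ⟨N + N + (c + 1), fun Q hQ => ?_⟩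
  -- evaluation of Q and its derivative land in m^n
  have hQα : Q.eval α ∈ m ^ (N + N + (c + 1)) := by
    rw [eval_eq_sum_range]
    exact Submodule.sum_mem _ fun i _ => Ideal.mul_mem_right _ _ (hQ i)
  have hQ'α : (derivative Q).eval α ∈ m ^ (N + N + (c + 1)) := by
    rw [eval_eq_sum_range]
    refine Submodule.sum_mem _ fun i _ => Ideal.mul_mem_right _ _ ?_
    rw [coeff_derivative]
    exact Ideal.mul_mem_right _ _ (hQ _)
  -- factor out d
  have h1 : m ^ (N + N + (c + 1)) ≤ Ideal.span {d * d} * m ^ (c + 1) := by
    rw [pow_add, pow_add, ← Ideal.span_singleton_mul_span_singleton]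
    exact Ideal.mul_mono_left (Ideal.mul_mono hN hN)
  have h2 : m ^ (N + N + (c + 1)) ≤ Ideal.span {d} * m := by
    rw [add_assoc, pow_add]
    refine Ideal.mul_mono hN (Ideal.pow_le_self ?_)
    omega
  obtain ⟨s, hs, hsQ⟩ := Ideal.mem_span_singleton_mul.mp (h1 hQα)
  obtain ⟨e, he, heQ⟩ := Ideal.mem_span_singleton_mul.mp (h2 hQ'α)
  have hu : IsUnit (1 + e) := by
    have := IsLocalRing.isUnit_one_sub_self_of_mem_nonunits (-e) (by rw [mem_nonunits_iff, IsUnit.neg_iff]; exact (IsLocalRing.mem_maximalIdeal e).mp he)
    simpa using this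
  obtain ⟨v, hv⟩ := hu.exists_right_inv
  set F := P + Q with hF
  set d' := (derivative F).eval α with hd'
  have hd'eq : d' = d * (1 + e) := by
    rw [hd', hF, derivative_add, eval_add, ← heQ]
    ring
  set t := s * v * v with ht
  have htm : t ∈ m ^ (c + 1) := Ideal.mul_mem_right _ _ (Ideal.mul_mem_right _ _ hs)
  have hFα : F.eval α = d' * d' * t := by
    rw [hF, eval_add, hα, zero_add, ← hsQ, hd'eq, ht]
    linear_combination (-(d * d * s) * (1 + (1 + e) * v)) * hv
  -- Taylor expansion as a polynomial identity
  obtain ⟨G, hG⟩ := exists_mul_sq_add_linear_part_eq_eval_add (F.map C) (C α) (C d' * X)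
  set H : A[X] := G * X ^ 2 + X + C t with hH
  have hcomp : ∀ y : A, F.eval (α + d' * y) = d' * d' * H.eval y := by
    intro y
    have := congrArg (Polynomial.eval y) hG
    simp only [derivative_map, eval_map, eval₂_at_apply] at this
    change _ = eval y (F.comp (C α + C d' * X)) at this
    rw [eval_comp] at this
    simp only [eval_add, eval_mul, eval_pow, eval_C, eval_X] at this
    rw [← this, hH, ← hd', hFα]
    simp only [eval_add, eval_mul, eval_pow, eval_C, eval_X]
    ring
  -- apply Hensel to H at 0
  have hH0 : H.eval 0 ∈ m := by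
    rw [hH]
    simp only [eval_add, eval_mul, eval_pow, eval_C, eval_X]
    simp only [ne_eq, OfNat.ofNat_ne_zero, not_false_eq_true, zero_pow, mul_zero, zero_add, add_zero]
    exact Ideal.pow_le_self (by omega) htm
  have hH'0 : IsUnit (Ideal.Quotient.mk m ((derivative H).eval 0)) := by
    have : (derivative H).eval 0 = 1 := by
      rw [hH]
      simp
    rw [this, map_one]
    exact isUnit_one
  obtain ⟨y, hy, hym⟩ := hensel_nonmonic A m H 0 hH0 hH'0
  rw [sub_zero] at hym
  have hy' : y ∈ m ^ (c + 1) := by
    have hroot : G.eval y * y ^ 2 + y + t = 0 := by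
      have := hy
      rw [IsRoot.def, hH] at this
      simpa only [eval_add, eval_mul, eval_pow, eval_C, eval_X] using this
    have hu2 : IsUnit (1 + G.eval y * y) := by
      have := IsLocalRing.isUnit_one_sub_self_of_mem_nonunits (-(G.eval y * y))
        (by rw [mem_nonunits_iff, IsUnit.neg_iff]
            exact (IsLocalRing.mem_maximalIdeal _).mp (Ideal.mul_mem_left _ _ hym))
      simpa using this
    obtain ⟨w, hw⟩ := hu2.exists_right_inv
    have : y = -t * w := by
      linear_combination (-y) * hw + w * hroot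
    rw [this]
    exact Ideal.mul_mem_right _ _ (by simpa using htm)
  refine ⟨α + d' * y, ?_, ?_⟩
  · rw [hcomp, hy, mul_zero]
  · have : α + d' * y - α = d' * y := by ring
    rw [this]
    exact Ideal.mul_mem_left _ _ (Ideal.pow_le_pow_right (by omega) hy')

end Groth.Agent.S1965
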