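import Groth.Statements.S19651

set_option autoImplicit false
universe u v
open AbVar

namespace Groth.Agent.S19651

open Polynomial

section aux

variable {k : Type u} [Field k] {V : Type v} [AddCommGroup V] [Module k V]

theorem reverse_pow' (Q : k[X]) (n : ℕ) : (Q ^ n).reverse = Q.reverse ^ n := by
  induction n with
  | zero => rw [pow_zero, pow_zero, ← C_1, reverse_C]
  | succ n ih => rw [pow_succ, reverse_mul_of_domain, ih, pow_succ]

theorem form_pow (B : LinearMap.BilinForm k V) (f : V →ₗ[k] V)
    (hM : ∀ x y : V, B (f x) (f y) = B x y) (i : ℕ) (x w : V) :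
    B ((f ^ i) x) ((f ^ i) w) = B x w := by
  induction i generalizing x w with
  | zero => simp
  | succ i ih =>
    rw [pow_succ, Module.End.mul_apply, Module.End.mul_apply, ih, hM]

theorem key (B : LinearMap.BilinForm k V) (f : V →ₗ[k] V)
    (hM : ∀ x y : V, B (f x) (f y) = B x y) (P : k[X]) (x z : V) :
    B (aeval f P x) ((f ^ P.natDegree) z) = B x (aeval f P.reverse z) := by
  rw [aeval_eq_sum_range,
    aeval_eq_sum_range' (Nat.lt_succ_of_le (reverse_natDegree_le P))]
  simp only [LinearMap.sum_apply, map_sum, LinearMap.smul_apply, map_smul]
  rw [← Finset.sum_range_reflect]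
  apply Finset.sum_congr rfl
  intro j hj
  have hj' : j ≤ P.natDegree := by
    have := Finset.mem_range.mp hj; omega
  have h1 : P.natDegree + 1 - 1 - j = P.natDegree - j := by omega
  rw [h1, coeff_reverse, revAt_le hj']
  congr 1
  have h2 : (f ^ P.natDegree) z = (f ^ (P.natDegree - j)) ((f ^ j) z) := by
    rw [← Module.End.mul_apply, ← pow_add]
    congr 2; omega
  rw [h2, form_pow B f hM]

end aux

/-- Stated for an arbitrary invariant bilinear form, as the argument there allows. Let k be a field, V a
k-vector space with a bilinear form B and M a linear automorphism of V with B(Mx, My) = B(x, y) for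
all x, y. If Q₁ and Q₂ are polynomials such that the reciprocal polynomial of Q₁ (its coefficient
list reversed) is coprime to Q₂, then every vector killed by a power of Q₁(M) is B-orthogonal to
every vector killed by a power of Q₂(M). With Q₁ = Q₂ = Q this says that the generalized kernel of
Q(M) is totally isotropic whenever Q is coprime to its reciprocal polynomial, which for an
irreducible Q means that Q is not self-reciprocal. (The published statement takes M symplectic and
Q₁, Q₂ irreducible factors of the characteristic polynomial, with Q not self-reciprocal in the first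
clause; its second clause asks Q₁ and Q₂ to be distinct and not reciprocal, which holds as proved
when this is read as saying that Q₂ is not the reciprocal of Q₁, but fails if it only means that
neither is self-reciprocal, as the diagonal matrix with entries 2 and 1/2 preserving the standard
alternating form on k² shows; the coprimality of the reciprocal of Q₁ with Q₂, which is what the
published proof uses, is imposed here and covers both clauses.) -/
theorem result
    {k : Type u} [Field k] {V : Type v} [AddCommGroup V] [Module k V]
    (B : LinearMap.BilinForm k V) (M : V ≃ₗ[k] V)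
    (hM : ∀ x y : V, B (M x) (M y) = B x y)
    (Q₁ Q₂ : k[X]) (h : IsCoprime Q₁.reverse Q₂)
    (x y : V)
    (hx : ∃ n : ℕ, (Polynomial.aeval (M : V →ₗ[k] V) Q₁ ^ n) x = 0)
    (hy : ∃ n : ℕ, (Polynomial.aeval (M : V →ₗ[k] V) Q₂ ^ n) y = 0) :
    B x y = 0 := by
  obtain ⟨n, hn⟩ := hx
  obtain ⟨m, hm⟩ := hy
  set f : V →ₗ[k] V := (M : V →ₗ[k] V) with hf
  have hMf : ∀ x y : V, B (f x) (f y) = B x y := fun x y => hM x y
  have hD : ∀ w : V, B x ((aeval f Q₁.reverse ^ n) w) = 0 := by
    intro w
    have hk := key B f hMf (Q₁ ^ n) x w
    rw [reverse_pow', map_pow, map_pow, hn, map_zero, LinearMap.zero_apply] at hk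
    exact hk.symm
  obtain ⟨a, b, hab⟩ := (h.pow (m := n) (n := m))
  have hy' : y = (aeval f Q₁.reverse ^ n) (aeval f a y) := by
    have h1 := congrArg (fun P => aeval f P y) hab
    simp only [map_add, map_mul, map_pow, map_one, LinearMap.add_apply, Module.End.mul_apply,
      Module.End.one_apply] at h1
    rw [hm, map_zero, add_zero] at h1
    have hcomm : aeval f Q₁.reverse ^ n * aeval f a = aeval f a * aeval f Q₁.reverse ^ n := by
      rw [← map_pow, ← map_mul, ← map_mul, mul_comm]
    calc y = (aeval f a * aeval f Q₁.reverse ^ n) y := h1.symm
      _ = (aeval f Q₁.reverse ^ n * aeval f a) y := by rw [hcomm]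
      _ = _ := rfl
  rw [hy']
  exact hD _

end Groth.Agent.S19651
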