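import Groth.Statements.S19652
import Groth.Agent.S19651
import Mathlib.RingTheory.Artinian.Module
import Mathlib.Algebra.Polynomial.Degree.Units

set_option autoImplicit false
universe u v
open AbVar

namespace Groth.Agent.S19652

open Polynomial

section aux

variable {k : Type u} [Field k] {V : Type v} [AddCommGroup V] [Module k V]

theorem aeval_reverse_pow (f : V →ₗ[k] V) (Q : k[X]) (hQ : Associated Q Q.reverse) (n : ℕ) :
    ∃ c : k, c ≠ 0 ∧ aeval f ((Q ^ n).reverse) = c • (aeval f Q) ^ n := by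
  obtain ⟨u, hu⟩ := hQ
  obtain ⟨r, hr, hru⟩ := Polynomial.isUnit_iff.mp u.isUnit
  refine ⟨r ^ n, pow_ne_zero n hr.ne_zero, ?_⟩
  rw [Groth.Agent.S19651.reverse_pow', ← hu, ← hru, mul_pow, map_mul, map_pow, map_pow, aeval_C,
    ← map_pow, Algebra.algebraMap_eq_smul_one, smul_pow, one_pow, mul_smul_comm, mul_one]

theorem orth_left (B : LinearMap.BilinForm k V) (f : V →ₗ[k] V)
    (hM : ∀ x y : V, B (f x) (f y) = B x y) (Q : k[X]) (hQ : Associated Q Q.reverse)
    (n : ℕ) (x w : V) (hx : ((aeval f Q) ^ n) x = 0) :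
    B x (((aeval f Q) ^ n) w) = 0 := by
  obtain ⟨c, hc, hcn⟩ := aeval_reverse_pow f Q hQ n
  have hk := Groth.Agent.S19651.key B f hM (Q ^ n) x w
  rw [hcn, map_pow, hx, map_zero, LinearMap.zero_apply, LinearMap.smul_apply, map_smul,
    smul_eq_mul] at hk
  rcases mul_eq_zero.mp hk.symm with h | h
  · exact absurd h hc
  · exact h

theorem orth_right (B : LinearMap.BilinForm k V) (f : V →ₗ[k] V)
    (hM : ∀ x y : V, B (f x) (f y) = B x y) (hbij : Function.Bijective f)
    (Q : k[X]) (hQ : Associated Q Q.reverse)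
    (n : ℕ) (x z : V) (hx : ((aeval f Q) ^ n) x = 0) :
    B (((aeval f Q) ^ n) z) x = 0 := by
  obtain ⟨c, hc, hcn⟩ := aeval_reverse_pow f Q hQ n
  have hbijD : Function.Bijective (f ^ (Q ^ n).natDegree) := by
    rw [Module.End.coe_pow]
    exact hbij.iterate _
  obtain ⟨w, hw⟩ := hbijD.2 x
  have hcomm : (aeval f Q) ^ n * f ^ (Q ^ n).natDegree = f ^ (Q ^ n).natDegree * (aeval f Q) ^ n := by
    have h1 : f ^ (Q ^ n).natDegree = aeval f ((X : k[X]) ^ (Q ^ n).natDegree) := by simp
    rw [h1, ← map_pow, ← map_mul, ← map_mul, mul_comm]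
  have hTw : ((aeval f Q) ^ n) w = 0 := by
    apply hbijD.1
    rw [map_zero, ← Module.End.mul_apply, ← hcomm, Module.End.mul_apply, hw, hx]
  have hk := Groth.Agent.S19651.key B f hM (Q ^ n) z w
  rw [hcn, map_pow, hw, LinearMap.smul_apply, hTw, smul_zero, map_zero] at hk
  exact hk

end aux

/-- Stated for an arbitrary invariant nondegenerate bilinear form, as the argument there allows. Let k
be a field, V a finite-dimensional k-vector space with a nondegenerate bilinear form B and M a
linear automorphism of V with B(Mx, My) = B(x, y) for all x, y. If Q is a polynomial associated to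
its own reciprocal polynomial (its coefficient list reversed), then B restricted to the generalized
kernel of Q(M), the union of the kernels of the powers Q(M)^n, is nondegenerate. (The published
statement takes M symplectic and Q a self-reciprocal divisor of the characteristic polynomial;
divisibility plays no role and is not assumed.) -/
theorem result
    {k : Type u} [Field k] {V : Type v} [AddCommGroup V] [Module k V] [FiniteDimensional k V]
    (B : LinearMap.BilinForm k V) (hB : B.Nondegenerate) (M : V ≃ₗ[k] V)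
    (hM : ∀ x y : V, B (M x) (M y) = B x y)
    (Q : k[X]) (hQ : Associated Q Q.reverse) :
    (B.restrict (⨆ n : ℕ, LinearMap.ker (Polynomial.aeval (M : V →ₗ[k] V) Q ^ n))).Nondegenerate := by
  set f : V →ₗ[k] V := (M : V →ₗ[k] V) with hf
  have hMf : ∀ x y : V, B (f x) (f y) = B x y := fun x y => hM x y
  have hbij : Function.Bijective f := M.bijective
  set T : V →ₗ[k] V := aeval f Q with hT
  have hcompl := LinearMap.isCompl_iSup_ker_pow_iInf_range_pow T
  have hmemG : ∀ x : V, x ∈ (⨆ n : ℕ, LinearMap.ker (T ^ n)) ↔ ∃ n, (T ^ n) x = 0 := by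
    intro x
    have := Submodule.mem_iSup_of_chain T.iterateKer x
    simpa [LinearMap.iterateKer] using this
  have hdecomp : ∀ v : V, ∃ g ∈ (⨆ n : ℕ, LinearMap.ker (T ^ n)),
      ∃ g' ∈ (⨅ n : ℕ, LinearMap.range (T ^ n)), g + g' = v := by
    intro v
    have : v ∈ (⨆ n : ℕ, LinearMap.ker (T ^ n)) ⊔ (⨅ n : ℕ, LinearMap.range (T ^ n)) := by
      rw [hcompl.sup_eq_top]; trivial
    exact Submodule.mem_sup.mp this
  have horthL : ∀ x ∈ (⨆ n : ℕ, LinearMap.ker (T ^ n)),
      ∀ y ∈ (⨅ n : ℕ, LinearMap.range (T ^ n)), B x y = 0 := by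
    intro x hx y hy
    obtain ⟨n, hn⟩ := (hmemG x).mp hx
    have hy' := (Submodule.mem_iInf _).mp hy n
    obtain ⟨w, rfl⟩ := hy'
    exact orth_left B f hMf Q hQ n x w hn
  have horthR : ∀ x ∈ (⨆ n : ℕ, LinearMap.ker (T ^ n)),
      ∀ y ∈ (⨅ n : ℕ, LinearMap.range (T ^ n)), B y x = 0 := by
    intro x hx y hy
    obtain ⟨n, hn⟩ := (hmemG x).mp hx
    have hy' := (Submodule.mem_iInf _).mp hy n
    obtain ⟨w, rfl⟩ := hy'
    exact orth_right B f hMf hbij Q hQ n x w hn
  constructor
  · rintro ⟨x, hx⟩ hxy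
    have : x = 0 := by
      apply hB.1
      intro v
      obtain ⟨g, hg, g', hg', rfl⟩ := hdecomp v
      have h1 : B x g = 0 := hxy ⟨g, hg⟩
      rw [map_add, h1, horthL x hx g' hg', add_zero]
    exact Subtype.ext this
  · rintro ⟨y, hy⟩ hxy
    have : y = 0 := by
      apply hB.2
      intro v
      obtain ⟨g, hg, g', hg', rfl⟩ := hdecomp v
      have h1 : B g y = 0 := hxy ⟨g, hg⟩
      rw [map_add, LinearMap.add_apply, h1, horthR y hy g' hg', add_zero]
    exact Subtype.ext this

end Groth.Agent.S19652
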