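import Groth.Statements.S1966
import Mathlib.Dynamics.Newton
import Mathlib.RingTheory.Henselian
-- import your own Groth.Agent.* helpers here

set_option autoImplicit false
universe u
open EtAlg

namespace Groth.Agent.S1966

section aux

variable {A : Type u} [CommRing A] {As : ℕ → Type u} [∀ k, CommRing (As k)]
    (t : ∀ k, As (k + 1) →+* As k) (ht : ∀ k, Function.Surjective (t k))
    (hnil : ∀ k (x : As (k + 1)), t k x = 0 → IsNilpotent x)
    (p : ∀ k, A →+* As k) (hp : ∀ k, (t k).comp (p (k + 1)) = p k)

include ht hnil in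
theorem isUnit_of_map_t (j : ℕ) (x : As (j + 1)) (h : IsUnit (t j x)) : IsUnit x := by
  obtain ⟨y', hy'⟩ := h.exists_right_inv
  obtain ⟨y, rfl⟩ := ht j y'
  have h1 : IsNilpotent (x * y - 1) :=
    hnil j _ (by rw [map_sub, map_mul, hy', map_one, sub_self])
  have h2 : IsUnit (x * y) := by
    have := h1.isUnit_add_one
    simpa using this
  exact isUnit_of_mul_isUnit_left h2

include hp in
theorem p_eq (j : ℕ) (u : A) : p j u = t j (p (j + 1) u) := by
  rw [← hp j]; rfl

include ht hnil hp in
theorem isUnit_iff_zero (u : A) (j : ℕ) : IsUnit (p j u) ↔ IsUnit (p 0 u) := by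
  induction j with
  | zero => rfl
  | succ j ih =>
    rw [← ih]
    constructor
    · intro h; rw [p_eq t p hp]; exact h.map _
    · intro h; rw [p_eq t p hp] at h; exact isUnit_of_map_t t ht hnil j _ h

include hnil hp in
theorem isNilpotent_iff_zero (z : A) (j : ℕ) : IsNilpotent (p j z) ↔ IsNilpotent (p 0 z) := by
  induction j with
  | zero => rfl
  | succ j ih =>
    rw [← ih]
    constructor
    · intro h; rw [p_eq t p hp]; exact h.map _
    · intro h
      rw [p_eq t p hp] at h
      obtain ⟨n, hn⟩ := h
      rw [← map_pow] at hn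
      obtain ⟨m, hm⟩ := hnil j _ hn
      exact ⟨n * m, by rw [pow_mul, hm]⟩

include ht hnil hp in
theorem isUnit_of_isUnit_p (hinj : ∀ a b : A, (∀ k, p k a = p k b) → a = b)
    (hsurj : ∀ x : ∀ k, As k, (∀ k, t k (x (k + 1)) = x k) → ∃ a : A, ∀ k, p k a = x k)
    (u : A) (k : ℕ) (h : IsUnit (p k u)) : IsUnit u := by
  have hall : ∀ j, IsUnit (p j u) := fun j =>
    (isUnit_iff_zero t ht hnil p hp u j).mpr ((isUnit_iff_zero t ht hnil p hp u k).mp h)
  choose v hv using fun j => (hall j).exists_right_inv
  have hcompat : ∀ j, t j (v (j + 1)) = v j := by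
    intro j
    have h1 : p j u * t j (v (j + 1)) = 1 := by
      rw [p_eq t p hp, ← map_mul, hv, map_one]
    calc t j (v (j + 1)) = (v j * p j u) * t j (v (j + 1)) := by
          rw [mul_comm (v j), hv j, one_mul]
      _ = v j * (p j u * t j (v (j + 1))) := by ring
      _ = v j := by rw [h1, mul_one]
  obtain ⟨w, hw⟩ := hsurj v hcompat
  exact IsUnit.of_mul_eq_one w (hinj _ _ fun j => by rw [map_mul, hw, hv, map_one])

end aux

/-- Towers indexed by the natural numbers: let (A_k) be rings with surjective transition maps A_{k+1} ->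
A_k whose kernels consist of nilpotent elements, and let A be a ring with compatible projections p_k
: A -> A_k identifying A with the set of compatible sequences (p is jointly injective and every
compatible sequence comes from an element of A). Then for every k the pair (A, ker p_k) is
henselian. -/
theorem result (A : Type u) [CommRing A] (As : ℕ → Type u) [∀ k, CommRing (As k)]
    (t : ∀ k, As (k + 1) →+* As k) (ht : ∀ k, Function.Surjective (t k))
    (hnil : ∀ k (x : As (k + 1)), t k x = 0 → IsNilpotent x)
    (p : ∀ k, A →+* As k) (hp : ∀ k, (t k).comp (p (k + 1)) = p k)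
    (hinj : ∀ a b : A, (∀ k, p k a = p k b) → a = b)
    (hsurj : ∀ x : ∀ k, As k, (∀ k, t k (x (k + 1)) = x k) → ∃ a : A, ∀ k, p k a = x k) (k : ℕ) :
    HenselianRing A (RingHom.ker (p k)) := by
  have hjac : RingHom.ker (p k) ≤ Ideal.jacobson ⊥ := by
    intro a ha
    rw [Ideal.mem_jacobson_bot]
    intro b
    apply isUnit_of_isUnit_p t ht hnil p hp hinj hsurj _ k
    rw [map_add, map_mul, (RingHom.mem_ker).mp ha, zero_mul, zero_add, map_one]
    exact isUnit_one
  refine ⟨hjac, fun f _ a₀ h₁ h₂ => ?_⟩
  have hu : IsUnit (f.derivative.eval a₀) := by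
    have := isLocalHom_of_le_jacobson_bot _ hjac
    exact IsUnit.of_map (Ideal.Quotient.mk _) _ h₂
  have hN : ∀ j, IsNilpotent ((f.map (p j)).eval (p j a₀)) := by
    intro j
    rw [Polynomial.eval_map, Polynomial.eval₂_at_apply]
    rw [isNilpotent_iff_zero t hnil p hp _ j, ← isNilpotent_iff_zero t hnil p hp _ k,
      RingHom.mem_ker.mp h₁]
    exact IsNilpotent.zero
  have hU : ∀ j, IsUnit ((f.map (p j)).derivative.eval (p j a₀)) := by
    intro j
    rw [Polynomial.derivative_map, Polynomial.eval_map, Polynomial.eval₂_at_apply]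
    exact hu.map _
  have hex := fun j => Polynomial.existsUnique_nilpotent_sub_and_aeval_eq_zero
    (P := f.map (p j)) (x := p j a₀) (by simpa using hN j) (by simpa using hU j)
  choose r hr hruniq using hex
  have hcompat : ∀ j, t j (r (j + 1)) = r j := by
    intro j
    apply hruniq j
    constructor
    · rw [p_eq t p hp, ← map_sub]
      exact (hr (j + 1)).1.map _
    · have h0 := (hr (j + 1)).2
      rw [Polynomial.coe_aeval_eq_eval, Polynomial.eval_map] at h0 ⊢
      have := congrArg (t j) h0
      rw [Polynomial.hom_eval₂, map_zero, hp j] at this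
      exact this
  have hrk : r k = p k a₀ := by
    symm
    apply hruniq k
    refine ⟨by simp, ?_⟩
    rw [Polynomial.coe_aeval_eq_eval, Polynomial.eval_map, Polynomial.eval₂_at_apply]
    exact RingHom.mem_ker.mp h₁
  obtain ⟨a, ha⟩ := hsurj r hcompat
  refine ⟨a, ?_, ?_⟩
  · apply hinj
    intro j
    have h0 := (hr j).2
    rw [Polynomial.coe_aeval_eq_eval, Polynomial.eval_map, ← ha j, Polynomial.eval₂_at_apply] at h0
    rw [h0, map_zero]
  · rw [RingHom.mem_ker, map_sub, ha k, hrk, sub_self]

end Groth.Agent.S1966
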