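import Groth.Statements.S19660
import Mathlib.RingTheory.Artinian.Module
-- import your own Groth.Agent.* helpers here

set_option autoImplicit false
universe u v
open AbVar

namespace Groth.Agent.S19660

section
variable {k : Type u} [Field k] {V : Type v} [AddCommGroup V] [Module k V]

theorem adjStep (B : LinearMap.BilinForm k V) (q : k) (f : Module.End k V)
    (hM : ∀ x y : V, B (f x) (f y) = q * B x y) (x y : V) :
    B ((f - (1 : k) • (1 : Module.End k V)) x) (f y)
      = - B x ((f - q • (1 : Module.End k V)) y) := by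
  simp only [LinearMap.sub_apply, LinearMap.smul_apply, Module.End.one_apply, one_smul,
    map_sub, map_smul, hM, smul_eq_mul]
  ring

theorem adjPow (B : LinearMap.BilinForm k V) (q : k) (f : Module.End k V)
    (hM : ∀ x y : V, B (f x) (f y) = q * B x y) (n : ℕ) :
    ∀ x w : V, B (((f - (1 : k) • (1 : Module.End k V)) ^ n) x) ((f ^ n) w)
      = (-1) ^ n * B x (((f - q • (1 : Module.End k V)) ^ n) w) := by
  induction n with
  | zero => intro x w; simp
  | succ n ih =>
    intro x w
    have hc : Commute (f ^ n) (f - q • (1 : Module.End k V)) :=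
      ((Commute.refl f).sub_right (Commute.smul_right (Commute.one_right f) q)).pow_left n
    have e1 : ((f - (1 : k) • (1 : Module.End k V)) ^ (n + 1)) x
        = (f - (1 : k) • (1 : Module.End k V))
          (((f - (1 : k) • (1 : Module.End k V)) ^ n) x) := by
      rw [pow_succ']; rfl
    have e2 : (f ^ (n + 1)) w = f ((f ^ n) w) := by
      rw [pow_succ']; rfl
    have e3 : (f - q • (1 : Module.End k V)) ((f ^ n) w)
        = (f ^ n) ((f - q • (1 : Module.End k V)) w) := by
      have := congrArg (fun e : Module.End k V => e w) hc.eq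
      simpa [Module.End.mul_apply] using this.symm
    have e4 : ((f - q • (1 : Module.End k V)) ^ (n + 1)) w
        = ((f - q • (1 : Module.End k V)) ^ n) ((f - q • (1 : Module.End k V)) w) := by
      rw [pow_succ]; rfl
    rw [e1, e2, adjStep B q f hM, e3, ih, e4, pow_succ]
    ring

theorem vanish (B : LinearMap.BilinForm k V) (q : k) (f : Module.End k V)
    (hM : ∀ x y : V, B (f x) (f y) = q * B x y) (μ : k) (hμ : μ * μ ≠ q) :
    ∀ n a b : ℕ, a + b ≤ n → ∀ x x' : V,
      ((f - μ • (1 : Module.End k V)) ^ a) x = 0 →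
      ((f - μ • (1 : Module.End k V)) ^ b) x' = 0 → B x x' = 0 := by
  intro n
  induction n with
  | zero =>
    intro a b hab x x' hx _
    have : a = 0 := by omega
    subst this
    have : x = 0 := by simpa using hx
    simp [this]
  | succ n ih =>
    intro a b hab x x' hx hx'
    rcases a with _ | a
    · have : x = 0 := by simpa using hx
      simp [this]
    rcases b with _ | b
    · have : x' = 0 := by simpa using hx'
      simp [this]
    set N : Module.End k V := f - μ • (1 : Module.End k V) with hN
    have hNx : (N ^ a) (N x) = 0 := by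
      have : (N ^ (a + 1)) x = (N ^ a) (N x) := by rw [pow_succ]; rfl
      rw [← this]; exact hx
    have hNx' : (N ^ b) (N x') = 0 := by
      have : (N ^ (b + 1)) x' = (N ^ b) (N x') := by rw [pow_succ]; rfl
      rw [← this]; exact hx'
    have h1 : B (N x) x' = 0 := ih a (b + 1) (by omega) _ _ hNx hx'
    have h2 : B x (N x') = 0 := ih (a + 1) b (by omega) _ _ hx hNx'
    have h3 : B (N x) (N x') = 0 := ih a b (by omega) _ _ hNx hNx'
    have fx : f x = μ • x + N x := by simp [hN]
    have fx' : f x' = μ • x' + N x' := by simp [hN]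
    have key := hM x x'
    rw [fx, fx'] at key
    simp only [map_add, map_smul, LinearMap.add_apply, LinearMap.smul_apply, h1, h2, h3,
      smul_eq_mul, mul_zero, add_zero] at key
    have : (μ * μ - q) * B x x' = 0 := by
      rw [sub_mul, sub_eq_zero, ← key]; ring
    rcases mul_eq_zero.mp this with h | h
    · exact absurd (sub_eq_zero.mp h) hμ
    · exact h

end

theorem result
    {k : Type u} [Field k] {V : Type v} [AddCommGroup V] [Module k V] [FiniteDimensional k V]
    (B : LinearMap.BilinForm k V) (hB : B.Nondegenerate) (q : k) (hq : q ≠ 0)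
    (M : V ≃ₗ[k] V) (hM : ∀ x y : V, B (M x) (M y) = q * B x y) :
    (∀ x ∈ Module.End.maxGenEigenspace (M : Module.End k V) 1,
        (∀ y ∈ Module.End.maxGenEigenspace (M : Module.End k V) q, B x y = 0) → x = 0) ∧
      (∀ y ∈ Module.End.maxGenEigenspace (M : Module.End k V) q,
        (∀ x ∈ Module.End.maxGenEigenspace (M : Module.End k V) 1, B x y = 0) → y = 0) ∧
      (q ≠ 1 → ∀ x ∈ Module.End.maxGenEigenspace (M : Module.End k V) 1,
        ∀ x' ∈ Module.End.maxGenEigenspace (M : Module.End k V) 1, B x x' = 0) ∧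
      (q ≠ 1 → ∀ y ∈ Module.End.maxGenEigenspace (M : Module.End k V) q,
        ∀ y' ∈ Module.End.maxGenEigenspace (M : Module.End k V) q, B y y' = 0) := by
  set f : Module.End k V := (M : Module.End k V) with hf
  have hMf : ∀ x y : V, B (f x) (f y) = q * B x y := hM
  have hbij : ∀ n : ℕ, Function.Bijective ((f ^ n : Module.End k V) : V → V) := by
    intro n
    rw [Module.End.coe_pow]
    exact Function.Bijective.iterate M.bijective n
  refine ⟨?_, ?_, ?_, ?_⟩
  · intro x hx hxy
    obtain ⟨a, ha⟩ := (Module.End.mem_maxGenEigenspace f 1 x).mp hx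
    obtain ⟨N, hN⟩ := Filter.eventually_atTop.mp
      (LinearMap.eventually_codisjoint_ker_pow_range_pow (f - q • (1 : Module.End k V)))
    set n := max a N with hn
    have hcod := hN n (le_max_right _ _)
    have hxn : ((f - (1 : k) • (1 : Module.End k V)) ^ n) x = 0 :=
      Module.End.pow_map_zero_of_le (le_max_left a N) ha
    apply hB.1 x
    intro y
    have hy : y ∈ LinearMap.ker ((f - q • (1 : Module.End k V)) ^ n) ⊔
        LinearMap.range ((f - q • (1 : Module.End k V)) ^ n) := by
      rw [hcod.eq_top]; trivial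
    obtain ⟨y₁, hy₁, y₂, ⟨w, rfl⟩, rfl⟩ := Submodule.mem_sup.mp hy
    have h1 : B x y₁ = 0 :=
      hxy y₁ ((Module.End.mem_maxGenEigenspace f q y₁).mpr ⟨n, hy₁⟩)
    have h2 := adjPow B q f hMf n x w
    rw [hxn] at h2
    simp only [map_zero, LinearMap.zero_apply] at h2
    have h3 : B x (((f - q • (1 : Module.End k V)) ^ n) w) = 0 := by
      rcases mul_eq_zero.mp h2.symm with h | h
      · exact absurd h (pow_ne_zero n (by norm_num))
      · exact h
    rw [map_add, h1, h3, add_zero]
  · intro y hy hxy
    obtain ⟨a, ha⟩ := (Module.End.mem_maxGenEigenspace f q y).mp hy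
    obtain ⟨N, hN⟩ := Filter.eventually_atTop.mp
      (LinearMap.eventually_codisjoint_ker_pow_range_pow (f - (1 : k) • (1 : Module.End k V)))
    set n := max a N with hn
    have hcod := hN n (le_max_right _ _)
    have hyn : ((f - q • (1 : Module.End k V)) ^ n) y = 0 :=
      Module.End.pow_map_zero_of_le (le_max_left a N) ha
    apply hB.2 y
    intro x
    have hx : x ∈ LinearMap.ker ((f - (1 : k) • (1 : Module.End k V)) ^ n) ⊔
        LinearMap.range ((f - (1 : k) • (1 : Module.End k V)) ^ n) := by
      rw [hcod.eq_top]; trivial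
    obtain ⟨x₁, hx₁, x₂, ⟨w, rfl⟩, rfl⟩ := Submodule.mem_sup.mp hx
    have h1 : B x₁ y = 0 :=
      hxy x₁ ((Module.End.mem_maxGenEigenspace f 1 x₁).mpr ⟨n, hx₁⟩)
    obtain ⟨y', rfl⟩ := (hbij n).2 y
    have hc : Commute (f ^ n) ((f - q • (1 : Module.End k V)) ^ n) :=
      (((Commute.refl f).sub_right (Commute.smul_right (Commute.one_right f) q)).pow_left n).pow_right n
    have hy' : ((f - q • (1 : Module.End k V)) ^ n) y' = 0 := by
      apply (hbij n).1
      have := congrArg (fun e : Module.End k V => e y') hc.eq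
      simp only [Module.End.mul_apply] at this
      rw [this, hyn, map_zero]
    have h2 := adjPow B q f hMf n w y'
    rw [hy'] at h2
    simp only [map_zero, mul_zero] at h2
    rw [map_add, LinearMap.add_apply, h1, h2, add_zero]
  · intro hq1 x hx x' hx'
    obtain ⟨a, ha⟩ := (Module.End.mem_maxGenEigenspace f 1 x).mp hx
    obtain ⟨b, hb⟩ := (Module.End.mem_maxGenEigenspace f 1 x').mp hx'
    exact vanish B q f hMf 1 (by simpa using hq1.symm) (a + b) a b le_rfl x x' ha hb
  · intro hq1 y hy y' hy'
    obtain ⟨a, ha⟩ := (Module.End.mem_maxGenEigenspace f q y).mp hy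
    obtain ⟨b, hb⟩ := (Module.End.mem_maxGenEigenspace f q y').mp hy'
    refine vanish B q f hMf q ?_ (a + b) a b le_rfl y y' ha hb
    intro h
    have : q * (q - 1) = 0 := by rw [mul_sub, h]; ring
    rcases mul_eq_zero.mp this with h | h
    · exact hq h
    · exact hq1 (sub_eq_zero.mp h)

end Groth.Agent.S19660
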