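import Groth.Statements.S19693
import Groth.Agent.Lib.Helper2.FinrankAff
import Groth.Agent.Lib.Helper2.QCAlgMod

set_option autoImplicit false
universe u
open CategoryTheory CategoryTheory.Limits AlgebraicGeometry Opposite
open FinCov

namespace Groth.Agent.S19693

open Groth.Agent.Lib.Helper2.QCAlgMod Groth.Agent.Lib.Helper2.FinrankAff

/-- the chart of the relative spectrum is the preimage of the affine open, as a pullback -/
theorem isPullback_ι {S : Scheme.{u}} (A : RelSpec.QCAlg S) (U : S.Opens) (hU : IsAffineOpen U) :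
    IsPullback (A.ι U hU) (Spec.map (A.str.app (op U))) A.π hU.fromSpec := by
  refine (IsOpenImmersion.isPullback _ _ _ _ (A.ι_π U hU) ?_).flip
  rw [hU.opensRange_fromSpec, A.π_preimage U hU]

/-- local freeness of a quasi-coherent algebra in ring terms -/
theorem exists_affine_equiv {X : Scheme.{u}} (A : RelSpec.QCAlg X) (d : ℕ)
    (hA : FlatMod.IsFinLocFreeOfRank d A.toModule) (x : X) :
    ∃ (U : X.Opens) (hU : IsAffineOpen U) (_ : x ∈ U),
      letI : Algebra Γ(X, U) (A.presheaf.obj (op U)) := (A.str.app (op U)).hom.toAlgebra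
      Nonempty ((A.presheaf.obj (op U)) ≃ₗ[Γ(X, U)] (Fin d → Γ(X, U))) := by
  haveI := toModule_isQuasicoherent A
  obtain ⟨V, hxV, hV⟩ := exists_equiv_of_isFinLocFreeOfRank A.toModule d hA x
  obtain ⟨_, ⟨U, hU : IsAffineOpen U, rfl⟩, hxU, hUV⟩ :=
    (X.isBasis_affineOpens).exists_subset_of_mem_open hxV V.2
  obtain ⟨e⟩ := hV U hUV hU
  exact ⟨U, hU, hxU, ⟨e⟩⟩


/-- Let X be a scheme and A a quasi-coherent O_X-algebra whose underlying O_X-module is locally free of
rank d. Then the structure morphism Spec(A) → X of the relative spectrum of A is a cover of degree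
d: finite, flat, locally of finite presentation and of rank d at every point of X. (This is the
quasi-inverse direction of the equivalence between degree-d covers of X and O_X-algebras locally
free of rank d; the other direction and the identification of the direct-image algebra of Spec(A)
with A are separate statements.) -/
theorem result {X : Scheme.{u}} (A : RelSpec.QCAlg X) (d : ℕ)
    (hA : FlatMod.IsFinLocFreeOfRank d A.toModule) : FinCov.IsCover A.π d := by
  have key := exists_affine_equiv A d hA
  have hfin : IsFinite A.π := by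
    refine of_forall_isPullback_fromSpec @IsFinite A.π fun x => ?_
    obtain ⟨U, hU, hxU, ⟨e⟩⟩ := key x
    refine ⟨U, hU, hxU, _, A.str.app (op U), A.ι U hU, isPullback_ι A U hU, ?_⟩
    rw [IsFinite.SpecMap_iff]
    letI : Algebra Γ(X, U) (A.presheaf.obj (op U)) := (A.str.app (op U)).hom.toAlgebra
    exact Module.Finite.equiv e.symm
  have hflat : Flat A.π := by
    refine of_forall_isPullback_fromSpec @Flat A.π fun x => ?_
    obtain ⟨U, hU, hxU, ⟨e⟩⟩ := key x
    refine ⟨U, hU, hxU, _, A.str.app (op U), A.ι U hU, isPullback_ι A U hU, ?_⟩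
    rw [Flat.SpecMap_iff]
    letI : Algebra Γ(X, U) (A.presheaf.obj (op U)) := (A.str.app (op U)).hom.toAlgebra
    exact Module.Flat.of_linearEquiv e
  have hfp : LocallyOfFinitePresentation A.π := by
    refine of_forall_isPullback_fromSpec @LocallyOfFinitePresentation A.π fun x => ?_
    obtain ⟨U, hU, hxU, ⟨e⟩⟩ := key x
    refine ⟨U, hU, hxU, _, A.str.app (op U), A.ι U hU, isPullback_ι A U hU, ?_⟩
    rw [LocallyOfFinitePresentation.SpecMap_iff]
    letI : Algebra Γ(X, U) (A.presheaf.obj (op U)) := (A.str.app (op U)).hom.toAlgebra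
    haveI : Module.FinitePresentation Γ(X, U) (A.presheaf.obj (op U)) :=
      Module.FinitePresentation.of_equiv e.symm
    exact (inferInstance : Algebra.FinitePresentation Γ(X, U) (A.presheaf.obj (op U)))
  refine ⟨⟨hfin, hflat, hfp⟩, fun x => ?_⟩
  obtain ⟨U, hU, hxU, ⟨e⟩⟩ := key x
  rw [finrank_eq_of_isPullback_fromSpec A.π hU (A.str.app (op U)) (A.ι U hU)
    (isPullback_ι A U hU) x hxU]
  letI : Algebra Γ(X, U) (A.presheaf.obj (op U)) := (A.str.app (op U)).hom.toAlgebra
  haveI : Nontrivial Γ(X, U) := (hU.primeIdealOf ⟨x, hxU⟩).nontrivial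
  haveI : Module.Free Γ(X, U) (A.presheaf.obj (op U)) := Module.Free.of_equiv e.symm
  change Module.rankAtStalk (R := Γ(X, U)) (A.presheaf.obj (op U)) _ = d
  rw [Module.rankAtStalk_eq_finrank_of_free, Pi.natCast_def, e.finrank_eq, Module.finrank_fin_fun]
  rfl

end Groth.Agent.S19693
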