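import Groth.Statements.S19697
import Groth.Agent.Lib.Helper2.DblRing
import Groth.Agent.Lib.Lead.Inv5
import Groth.Agent.Lib.Helper21.QCohSections
import Groth.Agent.Lib.Helper2.KerSec

set_option autoImplicit false
universe u
open CategoryTheory CategoryTheory.Limits AlgebraicGeometry Opposite
open FinCov

namespace Groth.Agent.S19697

open Groth.Agent.Lib.Helper2.DblRing Groth.Agent.Lib.Lead.Inv Groth.Agent.Lib.Lead.QCohAff
  Groth.Agent.Lib.Lead.SheafGlue Groth.Agent.Lib.Helper21.QCohSections

section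

variable {X : Scheme.{u}} (L : X.Modules) (m : CohB1.tensorMod L L ⟶ Coh.structureModule X)

/-- the pairing on sections induced by `m` -/
noncomputable def βU (U : X.Opens) : Γ(L, U) →ₗ[Γ(X, U)] Γ(L, U) →ₗ[Γ(X, U)] Γ(X, U) :=
  (TensorProduct.mk Γ(X, U) Γ(L, U) Γ(L, U)).compr₂
    ((show Γ(Coh.structureModule X, U) →ₗ[Γ(X, U)] Γ(X, U) from LinearMap.id) ∘ₗ
      (appL m U) ∘ₗ (ηlin L L U))

theorem βU_apply (U : X.Opens) (l l' : Γ(L, U)) :
    βU L m U l l' = (m.val.app (op U)).hom (SecTwist.tmul L L U l l') := rfl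

theorem βU_res {U V : X.Opens} (h : V ≤ U) (l l' : Γ(L, U)) :
    (X.presheaf.map (homOfLE h).op).hom (βU L m U l l') =
      βU L m V (L.presheaf.map (homOfLE h).op l) (L.presheaf.map (homOfLE h).op l') := by
  have h1 := Groth.Agent.Lib.Helper2.KerSec.naturality_apply m (homOfLE h) (tmul L L l l')
  rw [tmul_res] at h1
  exact h1.symm

/-- near any point of `U` there is a smaller open on which `L` has a generator -/
theorem exists_gen (hL : PicF.IsInvertible L) (U : X.Opens) (x : X) (hx : x ∈ U) :
    ∃ (W : X.Opens) (_ : W ≤ U) (e : Γ(L, W)), x ∈ W ∧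
      Function.Bijective (fun r : Γ(X, W) => r • e) := by
  obtain ⟨U₀, hxU₀, e₀, he₀⟩ := (isInvertible_iff_exists_isGen (M := L)).1 hL x
  refine ⟨U ⊓ U₀, inf_le_left, L.presheaf.map (homOfLE (inf_le_right : U ⊓ U₀ ≤ U₀)).op e₀,
    ⟨hx, hxU₀⟩, ?_⟩
  exact he₀ (U ⊓ U₀) inf_le_right

theorem βU_symm (hL : PicF.IsInvertible L) (U : X.Opens) (l l' : Γ(L, U)) :
    βU L m U l l' = βU L m U l' l := by
  apply eq_of_locally_eq_ptsX
  intro x hx
  obtain ⟨W, hWU, e, hxW, he⟩ := exists_gen L hL U x hx
  refine ⟨W, hWU, hxW, ?_⟩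
  obtain ⟨a, ha⟩ := he.2 (L.presheaf.map (homOfLE hWU).op l)
  obtain ⟨b, hb⟩ := he.2 (L.presheaf.map (homOfLE hWU).op l')
  simp only at ha hb
  have h1 := βU_res L m hWU l l'
  have h2 := βU_res L m hWU l' l
  refine h1.trans (Eq.trans ?_ h2.symm)
  rw [← ha, ← hb]
  simp only [map_smul, LinearMap.smul_apply, smul_eq_mul]
  ring

theorem βU_assoc (hL : PicF.IsInvertible L) (U : X.Opens) (l l' l'' : Γ(L, U)) :
    βU L m U l l' • l'' = βU L m U l' l'' • l := by
  apply eq_of_locally_eq_pts L
  intro x hx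
  obtain ⟨W, hWU, e, hxW, he⟩ := exists_gen L hL U x hx
  refine ⟨W, hWU, hxW, ?_⟩
  obtain ⟨a, ha⟩ := he.2 (L.presheaf.map (homOfLE hWU).op l)
  obtain ⟨b, hb⟩ := he.2 (L.presheaf.map (homOfLE hWU).op l')
  obtain ⟨c, hc⟩ := he.2 (L.presheaf.map (homOfLE hWU).op l'')
  simp only at ha hb hc
  rw [res_smul, res_smul]
  have h1 := βU_res L m hWU l l'
  have h2 := βU_res L m hWU l' l''
  refine (congrArg (fun t : Γ(X, W) => t • L.presheaf.map (homOfLE hWU).op l'') h1).trans
    (Eq.trans ?_ (congrArg (fun t : Γ(X, W) => t • L.presheaf.map (homOfLE hWU).op l) h2).symm)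
  rw [← ha, ← hb, ← hc]
  simp only [map_smul, LinearMap.smul_apply, smul_eq_mul, smul_smul]
  congr 1
  ring

/-- the pairing datum over `U` -/
noncomputable def P (hL : PicF.IsInvertible L) (U : X.Opens) : Pairing Γ(X, U) Γ(L, U) where
  β := βU L m U
  symm := βU_symm L m hL U
  assoc := βU_assoc L m hL U

theorem P_β (hL : PicF.IsInvertible L) (U : X.Opens) (l l' : Γ(L, U)) :
    (P L m hL U).β l l' = βU L m U l l' := rfl

/-- restriction maps of the double ring -/
noncomputable def dblMap (hL : PicF.IsInvertible L) {U V : X.Opens} (h : V ≤ U) :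
    DblOf (P L m hL U) →+* DblOf (P L m hL V) :=
  DblOf.map (P L m hL U) (P L m hL V) (X.presheaf.map (homOfLE h).op).hom
    (L.presheaf.map (homOfLE h).op).hom
    (fun r l => res_smul L h r l)
    (fun x y => (βU_res L m h x y).symm)

theorem dblMap_fst (hL : PicF.IsInvertible L) {U V : X.Opens} (h : V ≤ U)
    (x : DblOf (P L m hL U)) :
    (dblMap L m hL h x).fst = (X.presheaf.map (homOfLE h).op).hom x.fst := rfl

theorem dblMap_snd (hL : PicF.IsInvertible L) {U V : X.Opens} (h : V ≤ U)
    (x : DblOf (P L m hL U)) :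
    (dblMap L m hL h x).snd = L.presheaf.map (homOfLE h).op x.snd := rfl

/-- the presheaf of rings `U ↦ Γ(X, U) ⊕ Γ(L, U)` -/
noncomputable def dblPresheaf (hL : PicF.IsInvertible L) :
    TopCat.Presheaf CommRingCat.{u} X.carrier where
  obj U := CommRingCat.of (DblOf (P L m hL U.unop))
  map {U V} i := CommRingCat.ofHom (dblMap L m hL i.unop.le)
  map_id U := by
    ext x
    · exact congr($(X.presheaf.map_id U) x.fst)
    · exact congr($(L.presheaf.map_id U) x.snd)
  map_comp {U V W} i j := by
    ext x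
    · exact congr($(X.presheaf.map_comp i j) x.fst)
    · exact congr($(L.presheaf.map_comp i j) x.snd)

theorem dblPresheaf_map_fst (hL : PicF.IsInvertible L) {U V : (TopologicalSpace.Opens X)ᵒᵖ}
    (i : U ⟶ V) (x : DblOf (P L m hL U.unop)) :
    (((dblPresheaf L m hL).map i).hom x).fst = (X.presheaf.map i).hom x.fst := rfl

theorem dblPresheaf_map_snd (hL : PicF.IsInvertible L) {U V : (TopologicalSpace.Opens X)ᵒᵖ}
    (i : U ⟶ V) (x : DblOf (P L m hL U.unop)) :
    (((dblPresheaf L m hL).map i).hom x).snd = (L.presheaf.map i).hom x.snd := rfl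

theorem dblPresheaf_isSheaf (hL : PicF.IsInvertible L) : (dblPresheaf L m hL).IsSheaf := by
  rw [TopCat.Presheaf.isSheaf_iff_isSheafUniqueGluing]
  intro ι U sf hsf
  have h1 : TopCat.Presheaf.IsCompatible X.presheaf U (fun i => (sf i).fst) := fun i j =>
    congrArg DblOf.fst (hsf i j)
  have h2 : TopCat.Presheaf.IsCompatible (shf L).1 U (fun i => (sf i).snd) := fun i j =>
    congrArg DblOf.snd (hsf i j)
  obtain ⟨r, hr, hr'⟩ := X.sheaf.existsUnique_gluing U _ h1
  obtain ⟨l, hl, hl'⟩ := (shf L).existsUnique_gluing U _ h2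
  refine ⟨(⟨r, l⟩ : DblOf (P L m hL (iSup U))), fun i => ?_, fun s hs => ?_⟩
  · exact DblOf.ext _ (hr i) (hl i)
  · exact DblOf.ext _ (hr' s.fst fun i => congrArg DblOf.fst (hs i))
      (hl' s.snd fun i => congrArg DblOf.snd (hs i))

/-- the structure map -/
noncomputable def dblStr (hL : PicF.IsInvertible L) : X.presheaf ⟶ dblPresheaf L m hL where
  app U := CommRingCat.ofHom (DblOf.inl (P L m hL U.unop))
  naturality U V i := by
    ext r
    refine DblOf.ext _ rfl ?_
    exact (map_zero (L.presheaf.map i).hom).symm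

theorem dblStr_isQC (hL : PicF.IsInvertible L) :
    RelSpec.IsQC (dblPresheaf L m hL) (dblStr L m hL) := by
  haveI := isQuasicoherent_of_isInvertible hL
  intro U hU r
  exact DblOf.isLocalization_away (P L m hL U) (P L m hL (X.basicOpen r))
    (X.presheaf.map (homOfLE (X.basicOpen_le r)).op).hom
    (L.presheaf.map (homOfLE (X.basicOpen_le r)).op).hom
    (fun a l => res_smul L (X.basicOpen_le r) a l)
    (fun x y => (βU_res L m (X.basicOpen_le r) x y).symm) r
    (hU.isLocalization_basicOpen r)
    (fun l hl => exists_pow_smul_eq_zero L hU r l hl)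
    (fun l' => exists_res_eq_pow_smul L hU r l')

/-- the algebra `O ⊕ L` -/
noncomputable def dblAlg (hL : PicF.IsInvertible L) : RelSpec.QCAlg X where
  presheaf := dblPresheaf L m hL
  isSheaf := dblPresheaf_isSheaf L m hL
  str := dblStr L m hL
  isQC := dblStr_isQC L m hL

/-- the inclusion `L → O ⊕ L` -/
noncomputable def dblJ (hL : PicF.IsInvertible L) : L ⟶ (dblAlg L m hL).toModule :=
  ⟨letI := (dblAlg L m hL).moduleSect
   PresheafOfModules.homMk
    { app := fun U => AddCommGrpCat.ofHom
        (AddMonoidHom.mk' (fun l : Γ(L, U.unop) => (⟨0, l⟩ : DblOf (P L m hL U.unop)))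
          (fun a b => DblOf.ext _ (add_zero _).symm rfl))
      naturality := fun U V i => by
        ext l
        refine DblOf.ext _ ?_ rfl
        exact (map_zero (X.presheaf.map i).hom).symm }
    (fun U r l => by
      refine DblOf.ext _ ?_ ?_
      · change (0 : Γ(X, U.unop)) = (show Γ(X, U.unop) from r) * 0 +
          (P L m hL U.unop).β 0 (show Γ(L, U.unop) from l)
        rw [mul_zero, map_zero, LinearMap.zero_apply, add_zero]
      · change (show Γ(X, U.unop) from r) • (show Γ(L, U.unop) from l) =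
          (show Γ(X, U.unop) from r) • (show Γ(L, U.unop) from l) +
            (0 : Γ(X, U.unop)) • (0 : Γ(L, U.unop))
        rw [smul_zero, add_zero])⟩

theorem dblJ_app (hL : PicF.IsInvertible L) (U : X.Opens) (l : Γ(L, U)) :
    FinCov.toSec (dblAlg L m hL) (((dblJ L m hL).val.app (op U)).hom l) =
      (⟨0, l⟩ : DblOf (P L m hL U)) := rfl

end


/-- Let X be a scheme, L an invertible O_X-module and m : L ⊗ L → O_X a homomorphism of O_X-modules.
Then there are a quasi-coherent O_X-algebra A and an O_X-linear map j : L → A presenting A as the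
algebra O_X ⊕ L with product (s, l)·(s', l') = (ss' + m(l ⊗ l'), sl' + s'l): over every open subset
U of X, every section of A is uniquely of the form s·1 + j(l) with s a function and l a section of
L, and j(l)·j(l') = m(l ⊗ l')·1. (The classification of double covers is stated for schemes on which
2 is invertible; this construction does not use that assumption, so it is not made here.) -/
theorem result {X : Scheme.{u}} (L : X.Modules) (hL : PicF.IsInvertible L)
    (m : CohB1.tensorMod L L ⟶ Coh.structureModule X) :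
    ∃ (A : RelSpec.QCAlg X) (j : L ⟶ A.toModule), FinCov.IsDblAlg L m A j := by
  refine ⟨dblAlg L m hL, dblJ L m hL, ?_, ?_⟩
  · intro U
    have hfun : (fun p : Γ(X, U) × L.val.obj (op U) =>
        ((dblAlg L m hL).str.app (op U)).hom p.1 +
          FinCov.toSec (dblAlg L m hL) (((dblJ L m hL).val.app (op U)).hom p.2)) =
        fun p => (⟨p.1, p.2⟩ : DblOf (P L m hL U)) := by
      funext p
      refine DblOf.ext _ ?_ ?_
      · exact add_zero _
      · exact zero_add _
    rw [hfun]
    constructor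
    · rintro ⟨a, b⟩ ⟨a', b'⟩ h
      have h1 : a = a' := congrArg DblOf.fst h
      have h2 : b = b' := congrArg DblOf.snd h
      rw [h1, h2]
    · intro x
      exact ⟨(x.fst, x.snd), rfl⟩
  · intro U l l'
    refine DblOf.ext _ ?_ ?_
    · change (0 : Γ(X, U)) * 0 + (P L m hL U).β l l' = _
      rw [mul_zero, zero_add]
      rfl
    · change (0 : Γ(X, U)) • l' + (0 : Γ(X, U)) • l = 0
      rw [zero_smul, zero_smul, add_zero]

end Groth.Agent.S19697
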