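import Groth.Statements.S19698
import Groth.Agent.Lib.Helper2.QCAlgMod
import Groth.Agent.Lib.Lead.Inv2
import Groth.Agent.Lib.Helper21.QCohSections

set_option autoImplicit false
universe u
open CategoryTheory CategoryTheory.Limits AlgebraicGeometry Opposite
open FinCov

namespace Groth.Agent.S19698

open Groth.Agent.Lib.Helper2.QCAlgMod Groth.Agent.Lib.Helper2.FreeModAff
open Groth.Agent.Lib.Helper21.QCohSections

/-- Over an open where `L` has a generator `e`, the algebra `A = O ⊕ L` has the basis `1, j e`. -/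
theorem exists_equiv {X : Scheme.{u}} (L : X.Modules)
    (m : CohB1.tensorMod L L ⟶ Coh.structureModule X) (A : RelSpec.QCAlg X) (j : L ⟶ A.toModule)
    (h : FinCov.IsDblAlg L m A j) (U : X.Opens) (e : Γ(L, U))
    (hgen : Function.Bijective (fun r : Γ(X, U) => r • e)) :
    ∃ φ : (Fin 2 → Γ(X, U)) ≃ₗ[Γ(X, U)] Γ(A.toModule, U),
      ∀ c, φ c = (A.str.app (op U)).hom (c 0) +
        FinCov.toSec A ((j.val.app (op U)).hom (c 1 • e)) := by
  have hbij := h.1 U
  let φ : (Fin 2 → Γ(X, U)) →ₗ[Γ(X, U)] Γ(A.toModule, U) :=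
    (appL (FinCov.strMod A) U) ∘ₗ (LinearMap.proj 0) +
      (appL j U) ∘ₗ (LinearMap.toSpanSingleton Γ(X, U) Γ(L, U) e) ∘ₗ (LinearMap.proj 1)
  have hφ : ∀ c, φ c = (A.str.app (op U)).hom (c 0) +
      FinCov.toSec A ((j.val.app (op U)).hom (c 1 • e)) :=
    fun c => rfl
  have hφbij : Function.Bijective φ := by
    constructor
    · intro c c' hcc
      rw [hφ, hφ] at hcc
      have := hbij.1 (a₁ := (c 0, c 1 • e)) (a₂ := (c' 0, c' 1 • e)) hcc
      have h0 : c 0 = c' 0 := congrArg Prod.fst this
      have h1 : c 1 = c' 1 := hgen.1 (congrArg Prod.snd this)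
      funext i
      fin_cases i
      · exact h0
      · exact h1
    · intro a
      obtain ⟨⟨s, l⟩, hsl⟩ := hbij.2 a
      obtain ⟨r, hr⟩ := hgen.2 l
      refine ⟨![s, r], ?_⟩
      rw [hφ]
      simp only [Matrix.cons_val_zero, Matrix.cons_val_one]
      rw [← hsl]
      congr 2
      exact congrArg _ hr
  exact ⟨LinearEquiv.ofBijective φ hφbij, hφ⟩


/-- Let X be a scheme, L an invertible O_X-module, m : L ⊗ L → O_X a homomorphism of O_X-modules, and
(A, j : L → A) a quasi-coherent O_X-algebra presented as O_X ⊕ L with product given by m (over every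
open, every section of A is uniquely s·1 + j(l), and j(l)·j(l') = m(l ⊗ l')·1). Then A is locally
free of rank 2 as an O_X-module. (The classification of double covers is stated for schemes on which
2 is invertible; this assertion does not use that assumption, so it is not made here.) -/
theorem result {X : Scheme.{u}} (L : X.Modules) (hL : PicF.IsInvertible L)
    (m : CohB1.tensorMod L L ⟶ Coh.structureModule X) (A : RelSpec.QCAlg X) (j : L ⟶ A.toModule)
    (h : FinCov.IsDblAlg L m A j) : FlatMod.IsFinLocFreeOfRank 2 A.toModule := by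
  haveI := toModule_isQuasicoherent A
  intro x
  obtain ⟨U₀, hxU₀, e, he⟩ := (Groth.Agent.Lib.Lead.Inv.isInvertible_iff_exists_isGen (M := L)).1 hL x
  obtain ⟨_, ⟨U, hU : IsAffineOpen U, rfl⟩, hxU, hUU₀⟩ :=
    (X.isBasis_affineOpens).exists_subset_of_mem_open hxU₀ U₀.2
  refine ⟨U, hxU, (nonempty_iso_freeMod_iff A.toModule hU 2).2 ?_⟩
  obtain ⟨φ, -⟩ := exists_equiv L m A j h U (L.presheaf.map (homOfLE hUU₀).op e) (he U hUU₀)
  exact ⟨φ.symm⟩

end Groth.Agent.S19698
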