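import Groth.Statements.S19699
import Groth.Agent.S19695
import Groth.Agent.Lib.Helper2.TensorDesc
import Groth.Agent.Lib.Helper2.KerSec
import Groth.Agent.Lib.Helper2.SmulEnd
import Groth.Agent.Lib.Helper21.QCohSections
import Mathlib.LinearAlgebra.Matrix.Charpoly.Coeff

set_option autoImplicit false
universe u
open CategoryTheory CategoryTheory.Limits AlgebraicGeometry Opposite
open FinCov

namespace Groth.Agent.S19699

open Groth.Agent.Lib.Helper2.QCAlgMod Groth.Agent.Lib.Helper2.KerSec
  Groth.Agent.Lib.Helper21.QCohSections Groth.Agent.Lib.Helper2.TensorDesc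
  Groth.Agent.Lib.Lead.SheafGlue

open Polynomial in
/-- Cayley–Hamilton in a free algebra of rank two. -/
theorem sq_eq_of_rank_two {R S : Type u} [CommRing R] [CommRing S] [Algebra R S]
    (b : Module.Basis (Fin 2) R S) (z : S) :
    z * z = algebraMap R S (Algebra.trace R S z) * z - algebraMap R S (Algebra.norm R z) := by
  rcases subsingleton_or_nontrivial R with h | h
  · haveI : Subsingleton S := Module.subsingleton R S
    exact Subsingleton.elim _ _
  apply Algebra.leftMulMatrix_injective b
  have h1 := Matrix.aeval_self_charpoly (Algebra.leftMulMatrix b z)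
  rw [Matrix.charpoly_fin_two] at h1
  simp only [map_sub, map_add, map_mul, map_pow, aeval_X, aeval_C] at h1
  rw [Algebra.trace_eq_matrix_trace b, Algebra.norm_eq_matrix_det b]
  simp only [map_sub, map_mul, AlgHom.commutes]
  rw [sub_add_eq_add_sub, sub_eq_zero] at h1
  rw [eq_sub_iff_add_eq, ← h1, pow_two]

theorem mul_eq_of_trace_zero {R S : Type u} [CommRing R] [CommRing S] [Algebra R S]
    (b : Module.Basis (Fin 2) R S) (c : R) (hc : 2 * c = 1) (x y : S)
    (hx : Algebra.trace R S x = 0) (hy : Algebra.trace R S y = 0) :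
    x * y = algebraMap R S (c * Algebra.trace R S (x * y)) := by
  have hxy : Algebra.trace R S (x + y) = 0 := by rw [map_add, hx, hy, add_zero]
  have h1 := sq_eq_of_rank_two b x
  have h2 := sq_eq_of_rank_two b y
  have h3 := sq_eq_of_rank_two b (x + y)
  rw [hx, map_zero, zero_mul, zero_sub] at h1
  rw [hy, map_zero, zero_mul, zero_sub] at h2
  rw [hxy, map_zero, zero_mul, zero_sub] at h3
  set w : R := c * (-(Algebra.norm R (x + y)) + Algebra.norm R x + Algebra.norm R y) with hw
  have h4 : (2 : S) * (x * y) = algebraMap R S (-(Algebra.norm R (x + y)) + Algebra.norm R x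
      + Algebra.norm R y) := by
    rw [map_add, map_add, map_neg, ← h3]
    have : -(algebraMap R S (Algebra.norm R x)) = x * x := h1.symm
    have h2' : -(algebraMap R S (Algebra.norm R y)) = y * y := h2.symm
    rw [← neg_neg (algebraMap R S (Algebra.norm R x)), this,
      ← neg_neg (algebraMap R S (Algebra.norm R y)), h2']
    ring
  have h5 : x * y = algebraMap R S w := by
    have hc' : (algebraMap R S c) * 2 = 1 := by
      rw [← map_ofNat (algebraMap R S) 2, ← map_mul, mul_comm, hc, map_one]
    calc x * y = (algebraMap R S c * 2) * (x * y) := by rw [hc', one_mul]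
      _ = algebraMap R S c * (2 * (x * y)) := by ring
      _ = algebraMap R S w := by rw [h4, ← map_mul]
  rw [h5, Algebra.trace_algebraMap_of_basis b, Fintype.card_fin]
  congr 1
  rw [nsmul_eq_mul, ← mul_assoc, mul_comm c, Nat.cast_ofNat, hc, one_mul]

section

variable {X : Scheme.{u}} (A : RelSpec.QCAlg X) (τ : A.toModule ⟶ Coh.structureModule X)
  (c : Γ(X, ⊤))

/-- the pairing `(l, l') ↦ c · τ(l · l')` on the kernel of `τ`, as a bilinear map -/
noncomputable def pair (U : X.Opens) :
    Γ(kernel τ, U) →ₗ[Γ(X, U)] Γ(kernel τ, U) →ₗ[Γ(X, U)] Γ(Coh.structureModule X, U) :=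
  letI : Algebra Γ(X, U) (A.presheaf.obj (op U)) := (A.str.app (op U)).hom.toAlgebra
  let ιL : Γ(kernel τ, U) →ₗ[Γ(X, U)] (A.presheaf.obj (op U)) := appL (kernel.ι τ) U
  let τL : (A.presheaf.obj (op U)) →ₗ[Γ(X, U)] Γ(Coh.structureModule X, U) := appL τ U
  ((LinearMap.mul Γ(X, U) (A.presheaf.obj (op U))).compl₁₂ ιL ιL).compr₂
    ((appL (smulEnd c (Coh.structureModule X)) U) ∘ₗ τL)

theorem pair_apply (U : X.Opens) (l l' : Γ(kernel τ, U)) :
    pair A τ c U l l' = resTop c U • (τ.val.app (op U)).hom
      (FinCov.toSec A (((kernel.ι τ).val.app (op U)).hom l) *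
        FinCov.toSec A (((kernel.ι τ).val.app (op U)).hom l')) := rfl

theorem pair_res (U V : X.Opens) (h : V ≤ U) (l l' : Γ(kernel τ, U)) :
    (Coh.structureModule X).presheaf.map (homOfLE h).op (pair A τ c U l l') =
      pair A τ c V ((kernel τ).presheaf.map (homOfLE h).op l)
        ((kernel τ).presheaf.map (homOfLE h).op l') := by
  rw [pair_apply, pair_apply]
  have h1 := naturality_apply (kernel.ι τ) (homOfLE h) l
  have h2 := naturality_apply (kernel.ι τ) (homOfLE h) l'
  have h3 := naturality_apply τ (homOfLE h)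
    (FinCov.toSec A (((kernel.ι τ).val.app (op U)).hom l) *
        FinCov.toSec A (((kernel.ι τ).val.app (op U)).hom l'))
  have h4 : A.toModule.presheaf.map (homOfLE h).op
      (FinCov.toSec A (((kernel.ι τ).val.app (op U)).hom l) *
        FinCov.toSec A (((kernel.ι τ).val.app (op U)).hom l')) =
      FinCov.toSec A (A.toModule.presheaf.map (homOfLE h).op (((kernel.ι τ).val.app (op U)).hom l)) *
      FinCov.toSec A (A.toModule.presheaf.map (homOfLE h).op (((kernel.ι τ).val.app (op U)).hom l')) :=
    map_mul (A.presheaf.map (homOfLE h).op).hom _ _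
  refine (Groth.Agent.Lib.Lead.QCohAff.res_smul (Coh.structureModule X) h (resTop c U) _).trans ?_
  rw [resTop_res c (homOfLE h)]
  refine congrArg (fun t => resTop c V • t) ?_
  refine h3.symm.trans ?_
  refine congrArg (fun t => (τ.val.app (op V)).hom t) ?_
  refine h4.trans ?_
  exact congrArg₂ (· * ·) (congrArg (FinCov.toSec A) h1.symm) (congrArg (FinCov.toSec A) h2.symm)

/-- On an affine open where `A` has a basis of two elements, the product of two sections of the
kernel of the trace is the function `c · τ(l · l')`. -/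
theorem mul_eq_str_pair_of_equiv (hτ : FinCov.IsTrace A τ) (hc : 2 * c = 1) (W : X.Opens)
    (hW : IsAffineOpen W) (e : Γ(A.toModule, W) ≃ₗ[Γ(X, W)] (Fin 2 → Γ(X, W)))
    (l l' : Γ(kernel τ, W)) :
    FinCov.toSec A (((kernel.ι τ).val.app (op W)).hom l) *
      FinCov.toSec A (((kernel.ι τ).val.app (op W)).hom l') =
      (A.str.app (op W)).hom (pair A τ c W l l') := by
  letI : Algebra Γ(X, W) (A.presheaf.obj (op W)) := (A.str.app (op W)).hom.toAlgebra
  let e' : (A.presheaf.obj (op W)) ≃ₗ[Γ(X, W)] (Fin 2 → Γ(X, W)) := e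
  let b : Module.Basis (Fin 2) Γ(X, W) (A.presheaf.obj (op W)) := Module.Basis.ofEquivFun e'
  have hfree : Module.Free Γ(X, W) (A.presheaf.obj (op W)) := Module.Free.of_basis b
  have hfin : Module.Finite Γ(X, W) (A.presheaf.obj (op W)) := Module.Finite.of_basis b
  have htr := hτ W hW hfree hfin
  have hcW : 2 * resTop c W = 1 := by
    have := congrArg (fun t => resTop t W) hc
    simp only [resTop, map_mul, map_one, map_ofNat] at this
    exact this
  have hx : Algebra.trace Γ(X, W) (A.presheaf.obj (op W))
      (FinCov.toSec A (((kernel.ι τ).val.app (op W)).hom l)) = 0 := by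
    rw [← htr]
    exact app_kernelι_comp τ W l
  have hy : Algebra.trace Γ(X, W) (A.presheaf.obj (op W))
      (FinCov.toSec A (((kernel.ι τ).val.app (op W)).hom l')) = 0 := by
    rw [← htr]
    exact app_kernelι_comp τ W l'
  have key := mul_eq_of_trace_zero b (resTop c W) hcW _ _ hx hy
  rw [← htr] at key
  exact key

/-- The product of two sections of the kernel of the trace is a function. -/
theorem mul_eq_str_pair (hA : FlatMod.IsFinLocFreeOfRank 2 A.toModule) (hτ : FinCov.IsTrace A τ)
    (hc : 2 * c = 1) (U : X.Opens) (l l' : Γ(kernel τ, U)) :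
    FinCov.toSec A (((kernel.ι τ).val.app (op U)).hom l) *
      FinCov.toSec A (((kernel.ι τ).val.app (op U)).hom l') =
      (A.str.app (op U)).hom (pair A τ c U l l') := by
  haveI := toModule_isQuasicoherent A
  apply eq_of_locally_eq_pts A.toModule
  intro x hx
  obtain ⟨V, hxV, hV⟩ := exists_equiv_of_isFinLocFreeOfRank A.toModule 2 hA x
  obtain ⟨_, ⟨W, hW : IsAffineOpen W, rfl⟩, hxW, hWle⟩ :=
    (X.isBasis_affineOpens).exists_subset_of_mem_open (show x ∈ ((U ⊓ V : X.Opens) : Set X) from
      ⟨hx, hxV⟩) (U ⊓ V).2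
  have hWU : W ≤ U := fun y hy => (hWle hy).1
  have hWV : W ≤ V := fun y hy => (hWle hy).2
  obtain ⟨e⟩ := hV W hWV hW
  refine ⟨W, hWU, hxW, ?_⟩
  have h1 := naturality_apply (kernel.ι τ) (homOfLE hWU) l
  have h2 := naturality_apply (kernel.ι τ) (homOfLE hWU) l'
  have h4 : A.toModule.presheaf.map (homOfLE hWU).op
      (FinCov.toSec A (((kernel.ι τ).val.app (op U)).hom l) *
        FinCov.toSec A (((kernel.ι τ).val.app (op U)).hom l')) =
      FinCov.toSec A (A.toModule.presheaf.map (homOfLE hWU).op (((kernel.ι τ).val.app (op U)).hom l)) *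
      FinCov.toSec A (A.toModule.presheaf.map (homOfLE hWU).op (((kernel.ι τ).val.app (op U)).hom l')) :=
    map_mul (A.presheaf.map (homOfLE hWU).op).hom _ _
  have h5 : A.toModule.presheaf.map (homOfLE hWU).op ((A.str.app (op U)).hom (pair A τ c U l l')) =
      (A.str.app (op W)).hom ((Coh.structureModule X).presheaf.map (homOfLE hWU).op
        (pair A τ c U l l')) :=
    (str_res A (homOfLE hWU) (pair A τ c U l l')).symm
  refine h4.trans (Eq.trans ?_ h5.symm)
  rw [pair_res A τ c U W hWU l l']
  have key := mul_eq_str_pair_of_equiv A τ c hτ hc W hW e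
    ((kernel τ).presheaf.map (homOfLE hWU).op l) ((kernel τ).presheaf.map (homOfLE hWU).op l')
  refine Eq.trans ?_ key
  exact congrArg₂ (· * ·) (congrArg (FinCov.toSec A) h1.symm) (congrArg (FinCov.toSec A) h2.symm)

end


/-- Let X be a scheme with 2 invertible in O_X(X), A a quasi-coherent O_X-algebra which is locally free
of rank 2 as an O_X-module, and τ : A → O_X its trace (the O_X-linear map which over every affine
open where A is finite free is the trace of the regular representation). Then there is a
homomorphism of O_X-modules m : ker τ ⊗ ker τ → O_X such that A, with the inclusion ker τ → A, is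
the algebra O_X ⊕ ker τ with product given by m: over every open subset, every section of A is
uniquely s·1 + l with s a function and l a section of ker τ, and l·l' = m(l ⊗ l')·1 for sections l,
l' of ker τ. -/
theorem result {X : Scheme.{u}} (A : RelSpec.QCAlg X)
    (hA : FlatMod.IsFinLocFreeOfRank 2 A.toModule)
    (τ : A.toModule ⟶ Coh.structureModule X) (hτ : FinCov.IsTrace A τ) (h2 : IsUnit (2 : Γ(X, ⊤))) :
    ∃ m : CohB1.tensorMod (kernel τ) (kernel τ) ⟶ Coh.structureModule X,
      FinCov.IsDblAlg (kernel τ) m A (kernel.ι τ) := by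
  obtain ⟨c, hc⟩ := h2.exists_right_inv
  refine ⟨desc (kernel τ) (kernel τ) (Coh.structureModule X) (pair A τ c) (pair_res A τ c), ?_, ?_⟩
  · intro U
    have hstr := Groth.Agent.S19695.result A 2 hA τ hτ
    have hstr' : ∀ s : Γ(X, U), (τ.val.app (op U)).hom ((A.str.app (op U)).hom s) = 2 • s := by
      intro s
      have := congrArg (fun φ : Coh.structureModule X ⟶ Coh.structureModule X =>
        (Scheme.Modules.Hom.app φ U).hom (show Γ(Coh.structureModule X, U) from s)) hstr
      refine Eq.trans this ?_
      exact Groth.Agent.S19695.nsmul_app (𝟙 (Coh.structureModule X)) 2 U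
        (show Γ(Coh.structureModule X, U) from s)
    have hcU : 2 * resTop c U = 1 := by
      have := congrArg (fun t => resTop t U) hc
      simp only [resTop, map_mul, map_one, map_ofNat] at this
      exact this
    let T : A.presheaf.obj (op U) → Γ(X, U) := fun a => (τ.val.app (op U)).hom a
    have T_add : ∀ a b, T (a + b) = T a + T b := fun a b => (τ.val.app (op U)).hom.map_add a b
    have T_sub : ∀ a b, T (a - b) = T a - T b := fun a b => (τ.val.app (op U)).hom.map_sub a b
    have T_str : ∀ s : Γ(X, U), T ((A.str.app (op U)).hom s) = 2 * s := by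
      intro s
      rw [two_mul, ← two_nsmul]
      exact hstr' s
    have T_ι : ∀ l : Γ(kernel τ, U),
        T (FinCov.toSec A (((kernel.ι τ).val.app (op U)).hom l)) = 0 :=
      fun l => app_kernelι_comp τ U l
    have hcancel : ∀ s : Γ(X, U), resTop c U * (2 * s) = s := by
      intro s
      rw [← mul_assoc, mul_comm _ 2, hcU, one_mul]
    constructor
    · rintro ⟨s, l⟩ ⟨s', l'⟩ heq
      simp only at heq
      have h1 : (2 : Γ(X, U)) * s = 2 * s' := by
        have := congrArg T heq
        rw [T_add, T_add, T_str, T_str, T_ι, T_ι, add_zero, add_zero] at this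
        exact this
      have hs : s = s' := by
        rw [← hcancel s, ← hcancel s', h1]
      subst hs
      have h4 := add_left_cancel heq
      have hl : l = l' := app_kernelι_injective τ U h4
      rw [hl]
    · intro a
      set s : Γ(X, U) := resTop c U * T a with hs
      have h1 : T (a - (A.str.app (op U)).hom s) = 0 := by
        rw [T_sub, T_str, sub_eq_zero, hs, ← mul_assoc, mul_comm 2, mul_comm (resTop c U), hcU,
          one_mul]
      obtain ⟨t, ht⟩ := exists_of_app_eq_zero τ U _ h1
      refine ⟨(s, t), ?_⟩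
      simp only
      erw [ht]
      exact add_sub_cancel _ _
  · intro U l l'
    rw [desc_secTwist_tmul]
    exact mul_eq_str_pair A τ c hA hτ hc U l l'

end Groth.Agent.S19699
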