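import Groth.Statements.S19700
import Groth.Agent.S19698
import Groth.Agent.S19695

set_option autoImplicit false
universe u
open CategoryTheory CategoryTheory.Limits AlgebraicGeometry Opposite
open FinCov

namespace Groth.Agent.S19700

open Groth.Agent.Lib.Helper2.QCAlgMod Groth.Agent.Lib.Helper2.FreeModAff
open Groth.Agent.Lib.Helper21.QCohSections Scheme.Modules

/-- the trace of `j l` vanishes over affine opens where `L` has a generator -/
theorem trace_j {X : Scheme.{u}} (L : X.Modules)
    (m : CohB1.tensorMod L L ⟶ Coh.structureModule X) (A : RelSpec.QCAlg X) (j : L ⟶ A.toModule)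
    (h : FinCov.IsDblAlg L m A j) (τ : A.toModule ⟶ Coh.structureModule X)
    (hτ : FinCov.IsTrace A τ) (W : X.Opens) (hW : IsAffineOpen W) (e : Γ(L, W))
    (hgen : Function.Bijective (fun r : Γ(X, W) => r • e)) (l : Γ(L, W)) :
    (τ.val.app (op W)).hom ((j.val.app (op W)).hom l) = 0 := by
  obtain ⟨φ, hφ⟩ := Groth.Agent.S19698.exists_equiv L m A j h W e hgen
  let _ : Algebra Γ(X, W) (A.presheaf.obj (op W)) := (A.str.app (op W)).hom.toAlgebra
  let φ' : (Fin 2 → Γ(X, W)) ≃ₗ[Γ(X, W)] (A.presheaf.obj (op W)) := φ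
  let b : Module.Basis (Fin 2) Γ(X, W) (A.presheaf.obj (op W)) := Module.Basis.ofEquivFun φ'.symm
  have hfree : Module.Free Γ(X, W) (A.presheaf.obj (op W)) := Module.Free.of_basis b
  have hfin : Module.Finite Γ(X, W) (A.presheaf.obj (op W)) := Module.Finite.of_basis b
  obtain ⟨r, rfl⟩ := hgen.2 l
  have h1 := hτ W hW hfree hfin (FinCov.toSec A ((j.val.app (op W)).hom (r • e)))
  refine h1.trans ?_
  set ε : A.presheaf.obj (op W) := FinCov.toSec A ((j.val.app (op W)).hom e) with hε
  have hje : FinCov.toSec A ((j.val.app (op W)).hom (r • e)) = r • ε :=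
    (j.val.app (op W)).hom.map_smul r e
  rw [hje, _root_.map_smul]
  have hb : ∀ i, b i = φ (Pi.single i 1) := fun i => by
    have := congrFun (Module.Basis.coe_ofEquivFun φ'.symm) i
    rw [show b i = _ from this]
    rfl
  have hb0 : b 0 = 1 := by
    rw [hb 0, hφ]
    have h0 : ((Pi.single (0 : Fin 2) (1 : Γ(X, W)) : Fin 2 → Γ(X, W)) 1) • e = 0 := by simp
    rw [h0]
    have hz : (j.val.app (op W)).hom (0 : Γ(L, W)) = 0 := (j.val.app (op W)).hom.map_zero
    rw [hz]
    have h1' : (Pi.single (0 : Fin 2) (1 : Γ(X, W)) : Fin 2 → Γ(X, W)) 0 = 1 := by simp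
    rw [h1', _root_.map_one]
    exact add_zero _
  have hb1 : b 1 = ε := by
    rw [hb 1, hφ]
    simp [FinCov.toSec, hε]
  have hε2 : ε * ε = (A.str.app (op W)).hom ((m.val.app (op W)).hom (SecTwist.tmul L L W e e)) :=
    h.2 W e e
  have htr : Algebra.trace Γ(X, W) (A.presheaf.obj (op W)) ε = 0 := by
    rw [Algebra.trace_eq_matrix_trace b, Matrix.trace_fin_two, Algebra.leftMulMatrix_eq_repr_mul,
      Algebra.leftMulMatrix_eq_repr_mul, hb0, mul_one, hb1, hε2]
    have h3 : b.repr ε 0 = 0 := by
      rw [← hb1, Module.Basis.repr_self]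
      simp
    have h4 : b.repr ((A.str.app (op W)).hom ((m.val.app (op W)).hom (SecTwist.tmul L L W e e))) 1
        = 0 := by
      have : (A.str.app (op W)).hom ((m.val.app (op W)).hom (SecTwist.tmul L L W e e)) =
          (show Γ(X, W) from (m.val.app (op W)).hom (SecTwist.tmul L L W e e)) • b 0 := by
        rw [hb0, Algebra.smul_def, mul_one]
        rfl
      rw [this, _root_.map_smul, Module.Basis.repr_self]
      simp
    rw [h3, h4, add_zero]
  rw [htr, smul_zero]
  rfl


theorem j_comp_trace {X : Scheme.{u}} (L : X.Modules) (hL : PicF.IsInvertible L)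
    (m : CohB1.tensorMod L L ⟶ Coh.structureModule X) (A : RelSpec.QCAlg X) (j : L ⟶ A.toModule)
    (h : FinCov.IsDblAlg L m A j) (τ : A.toModule ⟶ Coh.structureModule X)
    (hτ : FinCov.IsTrace A τ) : j ≫ τ = 0 := by
  apply hom_ext_of_local
  intro x
  obtain ⟨U₀, hxU₀, e, he⟩ :=
    (Groth.Agent.Lib.Lead.Inv.isInvertible_iff_exists_isGen (M := L)).1 hL x
  refine ⟨U₀, hxU₀, fun W hWU hW => ?_⟩
  ext l
  exact trace_j L m A j h τ hτ W hW (L.presheaf.map (homOfLE hWU).op e) (he W hWU) l


/-- Let X be a scheme with 2 invertible in O_X(X), L an invertible O_X-module, m : L ⊗ L → O_X a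
homomorphism of O_X-modules, (A, j : L → A) a quasi-coherent O_X-algebra presented as O_X ⊕ L with
product given by m (every section of A is uniquely s·1 + j(l), and j(l)·j(l') = m(l ⊗ l')·1), and τ
: A → O_X the trace of A (the O_X-linear map which over every affine open where A is finite free is
the trace of the regular representation; A is locally free of rank 2 here). Then for every open
subset U of X and every section a of A over U, τ(a) = 0 if and only if a lies in the image of j over
U: the kernel of the trace is exactly j(L). -/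
theorem result {X : Scheme.{u}} (L : X.Modules) (hL : PicF.IsInvertible L)
    (m : CohB1.tensorMod L L ⟶ Coh.structureModule X) (A : RelSpec.QCAlg X) (j : L ⟶ A.toModule)
    (h : FinCov.IsDblAlg L m A j) (h2 : IsUnit (2 : Γ(X, ⊤)))
    (τ : A.toModule ⟶ Coh.structureModule X) (hτ : FinCov.IsTrace A τ)
    (U : X.Opens) (a : A.toModule.val.obj (op U)) :
    (τ.val.app (op U)).hom a = 0 ↔ a ∈ Set.range (j.val.app (op U)).hom := by
  have hjτ := j_comp_trace L hL m A j h τ hτ
  have hjτ' : ∀ l : Γ(L, U), (τ.val.app (op U)).hom ((j.val.app (op U)).hom l) = 0 := by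
    intro l
    have := congrArg (fun φ : L ⟶ Coh.structureModule X =>
      (Scheme.Modules.Hom.app φ U).hom l) hjτ
    exact this
  have hstr := Groth.Agent.S19695.result A 2 (Groth.Agent.S19698.result L hL m A j h) τ hτ
  have hstr' : ∀ s : Γ(X, U), (τ.val.app (op U)).hom ((A.str.app (op U)).hom s) = 2 • s := by
    intro s
    have := congrArg (fun φ : Coh.structureModule X ⟶ Coh.structureModule X =>
      (Scheme.Modules.Hom.app φ U).hom (show Γ(Coh.structureModule X, U) from s)) hstr
    refine Eq.trans this ?_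
    exact Groth.Agent.S19695.nsmul_app (𝟙 (Coh.structureModule X)) 2 U
      (show Γ(Coh.structureModule X, U) from s)
  have h2U : IsUnit (2 : Γ(X, U)) := by
    have := h2.map (X.presheaf.map (homOfLE (le_top : U ≤ ⊤)).op).hom
    rwa [_root_.map_ofNat] at this
  constructor
  · intro ha
    obtain ⟨⟨s, l⟩, hsl⟩ := (h.1 U).2 a
    simp only at hsl
    have h3 : (τ.val.app (op U)).hom a = 2 • s := by
      rw [← hsl]
      have := (τ.val.app (op U)).hom.map_add ((A.str.app (op U)).hom s)
        (FinCov.toSec A ((j.val.app (op U)).hom l))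
      refine this.trans ?_
      rw [hstr' s]
      erw [hjτ' l]
      exact add_zero _
    rw [ha] at h3
    have hs : s = 0 := by
      have h4 : (2 : Γ(X, U)) * s = 0 := by
        rw [two_mul, ← two_nsmul]
        exact h3.symm
      exact (h2U.mul_right_eq_zero).1 h4
    refine ⟨l, ?_⟩
    rw [← hsl, hs, _root_.map_zero]
    exact (zero_add _).symm
  · rintro ⟨l, rfl⟩
    exact hjτ' l

end Groth.Agent.S19700
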