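import Groth.Statements.S19702
import Mathlib

set_option autoImplicit false
universe u
open CategoryTheory MonoidalCategory CartesianMonoidalCategory MonObj GrpObj AlgebraicGeometry CategoryTheory.Limits
open AlgGrp

namespace Groth.Agent.S19702


theorem bijective_of_isPushout {R0 A B C : CommRingCat.{u}} {a : R0 ⟶ A} {b : R0 ⟶ B}
    {c : A ⟶ C} {d : B ⟶ C} (h : IsPushout a b c d) (hb : b.hom.FaithfullyFlat)
    (hd : Function.Bijective d.hom) : Function.Bijective a.hom := by
  letI : Algebra R0 A := a.hom.toAlgebra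
  letI : Algebra R0 B := b.hom.toAlgebra
  letI : Algebra A C := c.hom.toAlgebra
  letI : Algebra B C := d.hom.toAlgebra
  letI : Algebra R0 C := (a ≫ c).hom.toAlgebra
  haveI : IsScalarTower R0 A C := IsScalarTower.of_algebraMap_eq (fun x => rfl)
  haveI : IsScalarTower R0 B C := IsScalarTower.of_algebraMap_eq (fun x => by
    change (a ≫ c).hom x = (b ≫ d).hom x
    rw [h.w])
  haveI hpo : Algebra.IsPushout R0 A B C := CommRingCat.isPushout_iff_isPushout.mp h
  exact RingHom.FaithfullyFlat.codescendsAlong_bijective (R := R0) (S := A) (R' := B) (S' := C)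
    hb hd

/-- Let k be a field, K a field extension of k and G a k-group scheme of finite type. Then G is
anti-affine, i.e. O(G) = k, if and only if the base change G_K is anti-affine, i.e. O(G_K) = K. -/
theorem result (k : Type u) [Field k] (K : Type u) [Field K] [Algebra k K]
    (G : Over (Spec (CommRingCat.of k))) [GrpObj G] [LocallyOfFiniteType G.hom] [QuasiCompact G.hom] :
    Function.Bijective ((Scheme.ΓSpecIso (CommRingCat.of k)).inv ≫ G.hom.appTop).hom ↔
      Function.Bijective ((Scheme.ΓSpecIso (CommRingCat.of K)).inv ≫ (Red.bc (Spec.map (CommRingCat.ofHom (algebraMap k K))) G).hom.appTop).hom := by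
  set f : Spec (CommRingCat.of K) ⟶ Spec (CommRingCat.of k) :=
    Spec.map (CommRingCat.ofHom (algebraMap k K)) with hf
  haveI : IsLocallyNoetherian G.left := LocallyOfFiniteType.isLocallyNoetherian G.hom
  haveI : CompactSpace ↥G.left := QuasiCompact.compactSpace_of_compactSpace G.hom
  have hφff : (CommRingCat.ofHom (algebraMap k K)).hom.FaithfullyFlat := by
    change (algebraMap k K).FaithfullyFlat
    rw [RingHom.faithfullyFlat_algebraMap_iff]
    infer_instance
  haveI : Flat f := by
    rw [hf, Flat.SpecMap_iff]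
    exact hφff.flat
  have H : IsPullback (pullback.fst G.hom f) (pullback.snd G.hom f) G.hom f :=
    IsPullback.of_hasPullback _ _
  have hUST : (⊤ : (Spec (CommRingCat.of K)).Opens) ≤ f ⁻¹ᵁ ⊤ := le_of_eq rfl
  have hUSX : (⊤ : G.left.Opens) ≤ G.hom ⁻¹ᵁ ⊤ := le_of_eq rfl
  have hUY : (⊤ : (pullback G.hom f).Opens) =
      (pullback.fst G.hom f) ⁻¹ᵁ ⊤ ⊓ (pullback.snd G.hom f) ⁻¹ᵁ ⊤ := by
    rw [Scheme.Hom.preimage_top, Scheme.Hom.preimage_top, inf_idem]
  haveI hiso : IsIso (pushoutSection H hUST hUSX hUY) :=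
    isIso_pushoutSection_of_isQuasiSeparated_of_flat_right H hUST hUSX hUY
      (isAffineOpen_top _) (isAffineOpen_top _) isCompact_univ
      (isQuasiSeparated_univ_iff.mpr inferInstance)
  have hpo := (isIso_pushoutSection_iff H hUST hUSX hUY).mp hiso
  have ea : G.hom.appLE ⊤ ⊤ hUSX = G.hom.appTop := by
    simp [Scheme.Hom.appLE]
  have eb : f.appLE ⊤ ⊤ hUST = f.appTop := by
    simp [Scheme.Hom.appLE]
  have ed : (pullback.snd G.hom f).appLE ⊤ ⊤ (le_of_eq rfl) = (pullback.snd G.hom f).appTop := by
    simp [Scheme.Hom.appLE]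
  rw [ea, eb, ed] at hpo
  have hbff : f.appTop.hom.FaithfullyFlat := by
    have e1 : f.appTop = (Scheme.ΓSpecIso (CommRingCat.of k)).hom ≫
        CommRingCat.ofHom (algebraMap k K) ≫ (Scheme.ΓSpecIso (CommRingCat.of K)).inv := by
      rw [hf, Scheme.ΓSpecIso_inv_naturality, Iso.hom_inv_id_assoc]
    rw [e1]
    have hb1 : Function.Bijective (Scheme.ΓSpecIso (CommRingCat.of k)).hom.hom :=
      (ConcreteCategory.isIso_iff_bijective (Scheme.ΓSpecIso (CommRingCat.of k)).hom).mp
        inferInstance
    have hb2 : Function.Bijective (Scheme.ΓSpecIso (CommRingCat.of K)).inv.hom :=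
      (ConcreteCategory.isIso_iff_bijective (Scheme.ΓSpecIso (CommRingCat.of K)).inv).mp
        inferInstance
    exact RingHom.FaithfullyFlat.stableUnderComposition _ _
      (RingHom.FaithfullyFlat.of_bijective hb1)
      (RingHom.FaithfullyFlat.stableUnderComposition _ _ hφff
        (RingHom.FaithfullyFlat.of_bijective hb2))
  have hiso_iff : ∀ {A B C : CommRingCat.{u}} (e : A ≅ B) (g : B ⟶ C),
      Function.Bijective (e.hom ≫ g).hom ↔ Function.Bijective g.hom := by
    intro A B C e g
    have he : Function.Bijective e.hom.hom :=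
      (ConcreteCategory.isIso_iff_bijective e.hom).mp inferInstance
    rw [CommRingCat.hom_comp, RingHom.coe_comp]
    exact Function.Bijective.of_comp_iff _ he
  have h1 : Function.Bijective ((Scheme.ΓSpecIso (CommRingCat.of k)).inv ≫ G.hom.appTop).hom ↔
      Function.Bijective G.hom.appTop.hom :=
    hiso_iff (Scheme.ΓSpecIso (CommRingCat.of k)).symm _
  have h2 : Function.Bijective ((Scheme.ΓSpecIso (CommRingCat.of K)).inv ≫
      (Red.bc f G).hom.appTop).hom ↔ Function.Bijective (pullback.snd G.hom f).appTop.hom :=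
    hiso_iff (Scheme.ΓSpecIso (CommRingCat.of K)).symm _
  rw [h1, h2]
  constructor
  · intro hG
    haveI : IsIso G.hom.appTop := (ConcreteCategory.isIso_iff_bijective _).mpr hG
    haveI := hpo.isIso_inr_of_isIso
    exact (ConcreteCategory.isIso_iff_bijective _).mp inferInstance
  · intro hGK
    exact bijective_of_isPushout hpo hbff hGK

end Groth.Agent.S19702
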