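import Groth.Statements.S19703
import Groth.Agent.S14578
import Groth.Agent.S3024
import Groth.Agent.Lib.Helper19.Grp.AntiAffine

set_option autoImplicit false
universe u
open CategoryTheory MonoidalCategory CartesianMonoidalCategory MonObj GrpObj AlgebraicGeometry CategoryTheory.Limits
open AlgGrp

namespace Groth.Agent.S19703

/-- Let k be a field, G an anti-affine algebraic group over k (smooth, of finite type, with O(G) = k), H
a connected k-group scheme of finite type and j : M → H its largest anti-affine closed subgroup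
scheme H_ant (O(M) = k and every anti-affine closed subgroup scheme of H factors through M). Then
every morphism of k-schemes f : G → H with f(e_G) = e_H factors through H_ant. -/
theorem result (k : Type u) [Field k]
    (G H : Over (Spec (CommRingCat.of k))) [GrpObj G] [Smooth G.hom] [QuasiCompact G.hom]
    (hG : Function.Bijective ((Scheme.ΓSpecIso (CommRingCat.of k)).inv ≫ G.hom.appTop).hom)
    [GrpObj H] [LocallyOfFiniteType H.hom] [QuasiCompact H.hom] [ConnectedSpace ↥H.left]
    (M : Over (Spec (CommRingCat.of k))) [GrpObj M] [LocallyOfFiniteType M.hom] [QuasiCompact M.hom] (j : M ⟶ H) [IsMonHom j] [IsClosedImmersion j.left]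
    (hM : Function.Bijective ((Scheme.ΓSpecIso (CommRingCat.of k)).inv ≫ M.hom.appTop).hom)
    (hMmax : ∀ (M₁ : Over (Spec (CommRingCat.of k))) [GrpObj M₁] [LocallyOfFiniteType M₁.hom] [QuasiCompact M₁.hom] (j₁ : M₁ ⟶ H) [IsMonHom j₁] [IsClosedImmersion j₁.left],
      Function.Bijective ((Scheme.ΓSpecIso (CommRingCat.of k)).inv ≫ M₁.hom.appTop).hom → ∃ g : M₁ ⟶ M, g ≫ j = j₁)
    (f : G ⟶ H) (hf : η[G] ≫ f = η[H]) :
    ∃ g : G ⟶ M, g ≫ j = f := by
  haveI : LocallyOfFiniteType G.hom := inferInstance
  haveI hmon : IsMonHom f := Groth.Agent.S14578.result k G H hG f hf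
  haveI : CompactSpace G.left := QuasiCompact.compactSpace_of_compactSpace G.hom
  haveI : QuasiCompact f.left := inferInstance
  obtain ⟨H', inst, i', f', hi', hf', hfac, hcl, hker, hqc, hsurj⟩ :=
    Groth.Agent.S3024.result k G H f
  haveI := hi'
  haveI := hcl
  haveI := hqc
  haveI : IsSchemeTheoreticallyDominant f'.left := ⟨hker⟩
  haveI : LocallyOfFiniteType H'.hom := by
    rw [← Over.w i']
    infer_instance
  haveI : QuasiCompact H'.hom := by
    rw [← Over.w i']
    infer_instance
  have hGiso : IsIso G.hom.appTop :=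
    (Groth.Agent.Lib.Helper19.AntiAffine.bijective_iff_isIso G).mp hG
  have hinj : Function.Injective f'.left.appTop.hom := Scheme.Hom.app_injective f'.left ⊤
  have hH'iso : IsIso H'.hom.appTop :=
    Groth.Agent.Lib.Helper19.AntiAffine.isIso_appTop_of_injective f' hinj hGiso
  obtain ⟨g, hg⟩ := hMmax H' i'
    ((Groth.Agent.Lib.Helper19.AntiAffine.bijective_iff_isIso H').mpr hH'iso)
  exact ⟨f' ≫ g, by rw [Category.assoc, hg, hfac]⟩

end Groth.Agent.S19703
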