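import Groth.Statements.S19711
import Groth.Agent.Lib.Helper55.GI.Core
import Mathlib.RingTheory.Spectrum.Prime.Topology
import Mathlib.RingTheory.Finiteness.Quotient

set_option autoImplicit false
universe u
open CategoryTheory
open Coh

namespace Groth.Agent.S19711

/-- Let A be a Noetherian integral domain and F an A-linear additive functor from A-modules to A-modules
with F(A) a finitely generated A-module. Call such a functor generically injective when there is a
dense open subset U of Spec A such that for every point u of U whose residue field κ(u) is a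
finitely generated A-algebra the comparison map F(A) ⊗_A κ(u) → F(κ(u)) is injective; since F is
A-linear this injectivity says: every m in F(A) whose image under F(A → κ(u)) vanishes satisfies s·m
∈ u·F(A) for some s outside u. If F is generically injective then so is every A-linear additive
subfunctor K ⊆ F (a natural transformation K → F with injective components). (The published
statement is over a reduced Noetherian affine scheme, for additive functors on quasi-coherent
sheaves with values in abelian groups and the induced A-action, assumes F weakly bounded (F(A/p)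
finitely generated for every prime ideal p) and also records that K is again weakly bounded; only
the finite generation of F(A), which its argument uses, is assumed here, and the integral case with
A-linear functors stated here is the one its argument by generic flatness treats.) -/
theorem result {A : Type u} [CommRing A] [IsNoetherianRing A] [IsDomain A]
    (F K : ModuleCat.{u} A ⥤ ModuleCat.{u} A) [F.Additive] [F.Linear A] [K.Additive] [K.Linear A]
    (ι : K ⟶ F) (hι : ∀ X : ModuleCat.{u} A, Function.Injective (ι.app X).hom)
    (hfin : Module.Finite A (F.obj (ModuleCat.of A A)))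
    (hGI : ∃ U : Set (PrimeSpectrum A), IsOpen U ∧ Dense U ∧ ∀ u ∈ U, Algebra.FiniteType A u.asIdeal.ResidueField →
        ∀ m : F.obj (ModuleCat.of A A),
          (F.map (ModuleCat.ofHom (Algebra.linearMap A u.asIdeal.ResidueField))).hom m = 0 →
            ∃ s ∉ u.asIdeal, s • m ∈ u.asIdeal • (⊤ : Submodule A (F.obj (ModuleCat.of A A)))) :
    ∃ U : Set (PrimeSpectrum A), IsOpen U ∧ Dense U ∧ ∀ u ∈ U, Algebra.FiniteType A u.asIdeal.ResidueField →
        ∀ m : K.obj (ModuleCat.of A A),
          (K.map (ModuleCat.ofHom (Algebra.linearMap A u.asIdeal.ResidueField))).hom m = 0 →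
            ∃ s ∉ u.asIdeal, s • m ∈ u.asIdeal • (⊤ : Submodule A (K.obj (ModuleCat.of A A))) := by
  classical
  obtain ⟨U, hUo, hUd, hU⟩ := hGI
  let j : K.obj (ModuleCat.of A A) →ₗ[A] F.obj (ModuleCat.of A A) :=
    (ι.app (ModuleCat.of A A)).hom
  have hj : Function.Injective j := hι _
  let q := (LinearMap.range j).mkQ
  have hq : Function.Surjective q := Submodule.mkQ_surjective _
  have hex : Function.Exact j q := LinearMap.exact_map_mkQ_range j
  haveI := hfin
  obtain ⟨f, hf0, hfree⟩ := Groth.Agent.Lib.Helper55.GF.exists_freeAway_of_finite
    (R := A) (F.obj (ModuleCat.of A A) ⧸ LinearMap.range j)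
  refine ⟨U ∩ (PrimeSpectrum.basicOpen f : Set (PrimeSpectrum A)), hUo.inter
    (PrimeSpectrum.basicOpen f).isOpen, ?_, ?_⟩
  · refine hUd.inter_of_isOpen_right ?_ (PrimeSpectrum.basicOpen f).isOpen
    refine (PrimeSpectrum.basicOpen f).isOpen.dense ⟨⟨⊥, Ideal.isPrime_bot⟩, ?_⟩
    show f ∉ (⊥ : Ideal A)
    simpa using hf0
  · rintro u ⟨huU, huf⟩ hft m hm
    have hnat := ι.naturality
      (ModuleCat.ofHom (Algebra.linearMap A u.asIdeal.ResidueField))
    have h1 : (F.map (ModuleCat.ofHom (Algebra.linearMap A u.asIdeal.ResidueField))).hom (j m) =
        0 := by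
      have := congrArg (fun g => g.hom m) hnat
      simp only [ModuleCat.hom_comp, LinearMap.comp_apply] at this
      rw [← this, hm, map_zero]
    obtain ⟨s, hsu, hs⟩ := hU u huU hft (j m) h1
    obtain ⟨n, hn⟩ := Groth.Agent.Lib.Helper55.GI.core j q hj hq hex hfree u.asIdeal m s hs
    refine ⟨f ^ n * s, ?_, hn⟩
    intro hmem
    rcases u.isPrime.mem_or_mem hmem with h | h
    · exact huf (u.isPrime.mem_of_pow_mem n h)
    · exact hsu h

end Groth.Agent.S19711
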