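import Groth.Statements.S1972
import Groth.Agent.Lib.Helper87.HensProps
import Groth.Agent.Lib.Helper87.HensStrictProps
import Groth.Agent.Lib.Helper87.HensNil

set_option autoImplicit false
universe u
open EtAlg

namespace Groth.Agent.S1972

/-- Let R be a local ring and S a henselization or a strict henselization of R. Then the nilradical of S
is the extension of the nilradical of R. -/
theorem result (R S : Type u) [CommRing R] [IsLocalRing R] [CommRing S] [IsLocalRing S]
    [Algebra R S] [IsLocalHom (algebraMap R S)]
    (h : Hensel.IsHenselization R S ∨ Hensel.IsStrictHenselization R S) :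
    (nilradical R).map (algebraMap R S) = nilradical S := by
  rcases h with h | h
  · obtain ⟨e⟩ := Groth.Agent.Lib.Helper87.Hens.nonempty_algEquiv_Hh R S
    exact Groth.Agent.Lib.Helper87.Hens.map_nilradical_of_equiv e
      Groth.Agent.Lib.Helper87.Hens.H.map_nilradical
  · obtain ⟨e⟩ := Groth.Agent.Lib.Helper87.Hens.nonempty_algEquiv_Hsh R S
    exact Groth.Agent.Lib.Helper87.Hens.map_nilradical_of_equiv e
      Groth.Agent.Lib.Helper87.Hens.H.map_nilradical

end Groth.Agent.S1972
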