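import Groth.Statements.S19741
import Mathlib

set_option autoImplicit false
universe w u
open EssDim

namespace Groth.Agent.S19741

section Aux
open CategoryTheory AlgebraicGeometry Opposite

/-- transcendence degree of a compositum -/
theorem trdeg_adjoin_le {k K L : Type u} [Field k] [Field K] [Field L] [Algebra k K] [Algebra K L]
    [Algebra k L] [IsScalarTower k K L] (E : IntermediateField k L) :
    Algebra.trdeg K (IntermediateField.adjoin K (E : Set L)) ≤ Algebra.trdeg k E := by
  obtain ⟨ι, x, hx⟩ := exists_isTranscendenceBasis' k E
  set F := IntermediateField.adjoin K (E : Set L) with hF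
  have hEF : ∀ z : E, (z : L) ∈ F := fun z => IntermediateField.subset_adjoin K _ z.2
  let x' : ι → F := fun i => ⟨(x i : L), hEF (x i)⟩
  let s : Set F := Set.range x'
  let j : E →+* F := (E.val : E →+* L).codRestrict F.toSubfield (fun z => hEF z)
  have hj : ∀ z : E, ((j z : F) : L) = (z : L) := fun z => rfl
  have halgE := hx.isAlgebraic
  have hmem : ∀ r : E, r ∈ Algebra.adjoin k (Set.range x) → j r ∈ Algebra.adjoin K s := by
    intro r hr
    induction hr using Algebra.adjoin_induction with
    | mem r hr =>
      obtain ⟨i, rfl⟩ := hr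
      exact Algebra.subset_adjoin ⟨i, rfl⟩
    | algebraMap c =>
      have : j (algebraMap k E c) = algebraMap K F (algebraMap k K c) := by
        apply Subtype.ext
        rw [hj]
        change algebraMap k L c = algebraMap K L (algebraMap k K c)
        rw [← IsScalarTower.algebraMap_apply]
      rw [this]
      exact Subalgebra.algebraMap_mem _ _
    | add a b _ _ ha hb => rw [map_add]; exact add_mem ha hb
    | mul a b _ _ ha hb => rw [map_mul]; exact mul_mem ha hb
  let f : Algebra.adjoin k (Set.range x) →+* Algebra.adjoin K s :=
    (j.comp (Algebra.adjoin k (Set.range x)).val.toRingHom).codRestrict (Algebra.adjoin K s)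
      (fun r => hmem r.1 r.2)
  have hf : Function.Injective f := by
    intro a b hab
    have h1 : j a.1 = j b.1 := congrArg Subtype.val hab
    have h2 : (a.1 : L) = b.1 := by rw [← hj, ← hj, h1]
    exact Subtype.ext (Subtype.ext h2)
  have halg : Algebra.IsAlgebraic (Algebra.adjoin K s) F := by
    constructor
    rintro ⟨y, hy⟩
    induction hy using IntermediateField.adjoin_induction with
    | mem z hz =>
      have h1 : IsAlgebraic (Algebra.adjoin k (Set.range x)) (⟨z, hz⟩ : E) := halgE.isAlgebraic _
      have := h1.ringHom_of_comp_eq f j hf (by ext r; rfl)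
      exact this
    | algebraMap c =>
      exact isAlgebraic_algebraMap (R := Algebra.adjoin K s) (A := F)
        (⟨algebraMap K F c, Subalgebra.algebraMap_mem _ c⟩ : Algebra.adjoin K s)
    | add a b ha hb iha ihb => exact iha.add ihb
    | inv a ha iha => exact (IsAlgebraic.inv_iff (x := (⟨a, ha⟩ : F))).mpr iha
    | mul a b ha hb iha ihb => exact iha.mul ihb
  calc Algebra.trdeg K F ≤ Cardinal.mk s := Algebra.IsAlgebraic.trdeg_le_cardinalMk K s
    _ ≤ Cardinal.mk ι := Cardinal.mk_range_le
    _ = Algebra.trdeg k E := hx.cardinalMk_eq_trdeg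

section
variable {k : Type u} [Field k] {K : Type u} [Field K] [Algebra k K]

/-- `Spec M` over `Spec K` viewed over `Spec k` is `Spec M` over `Spec k`. -/
noncomputable def eM (M : Type u) [Field M] [Algebra K M] [Algebra k M] [IsScalarTower k K M] :
    (Over.map (Spec.map (CommRingCat.ofHom (algebraMap k K)))).obj (SGA7.pt (K := K) M) ≅
      SGA7.pt (K := k) M :=
  Over.isoMk (Iso.refl _) (by
    change 𝟙 _ ≫ Spec.map _ = Spec.map _ ≫ Spec.map _
    rw [Category.id_comp, ← Spec.map_comp, ← CommRingCat.ofHom_comp, ← IsScalarTower.algebraMap_eq])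

theorem eM_nat {M N : Type u} [Field M] [Algebra K M] [Algebra k M] [IsScalarTower k K M]
    [Field N] [Algebra K N] [Algebra k N] [IsScalarTower k K N] (f : M →ₐ[K] N) :
    (Over.map (Spec.map (CommRingCat.ofHom (algebraMap k K)))).map (resPt f) ≫ (eM M).hom =
      (eM N).hom ≫ resPt (f.restrictScalars k) := by
  ext : 1
  simp [eM, resPt]

end

end Aux


open CategoryTheory AlgebraicGeometry in
/-- For a field extension `K` of `k` and a presheaf of sets `P` on schemes over `k`, restrict `P` to
schemes over `K` by viewing a scheme over `Spec K` as a scheme over `Spec k`; then the essential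
dimension over `K` of the restricted presheaf is at most the essential dimension of `P` over `k`.
(The source states this for an algebraic stack over `k` and its base change to `K`, through the
presheaf of isomorphism classes of objects, whose restriction to schemes over `K` is the presheaf of
classes of the base-changed stack; the inequality is stated here for an arbitrary presheaf, which is
what the argument with composita of fields of definition gives.) -/
theorem result (k : Type u) [Field k] (K : Type u) [Field K] [Algebra k K]
    (P : (Over (Spec (CommRingCat.of k)))ᵒᵖ ⥤ Type w) :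
    EssDim.ed (k := K) ((Over.map (Spec.map (CommRingCat.ofHom (algebraMap k K)))).op ⋙ P) ≤ EssDim.ed P := by
  refine iSup_le fun L => iSup_le fun _ => iSup_le fun _ => iSup_le fun ξ => ?_
  let _ : Algebra k L := ((algebraMap K L).comp (algebraMap k K)).toAlgebra
  have : IsScalarTower k K L := IsScalarTower.of_algebraMap_eq (fun _ => rfl)
  let ξ' : FPt P L := P.map (eM L).inv.op ξ
  refine le_trans ?_ (edAt_le_ed (P := P) ξ')
  rw [WithBot.coe_le_coe]
  refine le_iInf fun E => ?_
  obtain ⟨E, ξ₀, hξ₀⟩ := E
  let F : IntermediateField K L := IntermediateField.adjoin K (E : Set L)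
  have hEF : ∀ z : E, (z : L) ∈ F := fun z => IntermediateField.subset_adjoin K _ z.2
  let j : E →ₐ[k] F :=
    { toFun := fun z => ⟨z, hEF z⟩
      map_one' := rfl
      map_mul' := fun _ _ => rfl
      map_zero' := rfl
      map_add' := fun _ _ => rfl
      commutes' := fun c => by
        apply Subtype.ext
        change algebraMap k L c = algebraMap K L (algebraMap k K c)
        rw [← IsScalarTower.algebraMap_apply] }
  have hj : (F.val.restrictScalars k).comp j = E.val := by
    ext z; rfl
  have hdesc : Descends ((Over.map (Spec.map (CommRingCat.ofHom (algebraMap k K)))).op ⋙ P) ξ F := by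
    refine ⟨P.map ((eM F).hom ≫ resPt j).op ξ₀, ?_⟩
    change P.map ((Over.map _).map (resPt F.val)).op (P.map ((eM F).hom ≫ resPt j).op ξ₀) = ξ
    have h1 : (Over.map (Spec.map (CommRingCat.ofHom (algebraMap k K)))).map (resPt F.val) ≫
        ((eM F).hom ≫ resPt j) = (eM L).hom ≫ resPt E.val := by
      rw [← Category.assoc, eM_nat, Category.assoc, ← resPt_comp, hj]
    have h2 : P.map ((Over.map _).map (resPt F.val)).op (P.map ((eM F).hom ≫ resPt j).op ξ₀) =
        P.map ((Over.map (Spec.map (CommRingCat.ofHom (algebraMap k K)))).map (resPt F.val) ≫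
          ((eM F).hom ≫ resPt j)).op ξ₀ := by
      rw [op_comp (f := (Over.map (Spec.map (CommRingCat.ofHom (algebraMap k K)))).map (resPt F.val))]
      exact (Functor.map_comp_apply P _ _ ξ₀).symm
    rw [h2, h1, op_comp, Functor.map_comp_apply]
    change P.map (eM L).hom.op (P.map (resPt E.val).op ξ₀) = ξ
    have h3 : P.map (resPt E.val).op ξ₀ = ξ' := hξ₀
    rw [h3]
    change (P.map (eM L).inv.op ≫ P.map (eM L).hom.op) ξ = ξ
    rw [← P.map_comp, ← op_comp, Iso.hom_inv_id, op_id, P.map_id]
    rfl
  refine (edAt_le_of_descends hdesc).trans ?_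
  exact OrderHomClass.mono Cardinal.toENat (trdeg_adjoin_le E)

end Groth.Agent.S19741
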