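import Groth.Statements.S19748
import Mathlib
import Groth.Agent.Lib.Helper93.Segre

set_option autoImplicit false
universe u
open scoped TensorProduct
open GrSegre

namespace Groth.Agent.S19748

/-- Let R and S be graded rings defined over a field k with Segre product T = R # S, M a graded R-module
and N a graded S-module. Suppose that multiplication by some homogeneous element f ∈ R_d of positive
degree d is bijective on M and multiplication by some homogeneous g ∈ S_e of positive degree e is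
bijective on N. Then multiplication by some homogeneous element of T of positive degree is bijective
on M # N. Here a graded ring defined over k is a commutative k-algebra of finite type, graded in
nonnegative degrees by k-subspaces with degree-zero part k·1; the Segre product T = R # S = ⊕_n R_n
⊗_k S_n is presented abstractly as a graded k-algebra T with an injective k-algebra homomorphism ψ :
T → R ⊗_k S carrying T_n onto the k-span of the elementary tensors a ⊗ b with a ∈ R_n, b ∈ S_n; the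
Segre product M # N = ⊕_n M_n ⊗_k N_n of a graded R-module M and a graded S-module N is presented
abstractly as a graded T-module P with an injective k-linear map φ : P → M ⊗_k N carrying P_n onto
the k-span of the tensors x ⊗ y with x ∈ M_n, y ∈ N_n and turning the action of t ∈ T into that of
ψ(t) (acting factorwise on M ⊗_k N). -/
theorem result (k : Type u) [Field k] (R : Type u) [CommRing R] [Algebra k R] (𝒜 : ℤ → Submodule k R) [GradedAlgebra 𝒜] (hposR : ∀ n : ℤ, n < 0 → 𝒜 n = ⊥) (h0R : 𝒜 0 = Submodule.span k {(1 : R)}) [Algebra.FiniteType k R] (S : Type u) [CommRing S] [Algebra k S] (ℬ : ℤ → Submodule k S) [GradedAlgebra ℬ] (hposS : ∀ n : ℤ, n < 0 → ℬ n = ⊥) (h0S : ℬ 0 = Submodule.span k {(1 : S)}) [Algebra.FiniteType k S] (T : Type u) [CommRing T] [Algebra k T] (𝒯 : ℤ → Submodule k T) [GradedAlgebra 𝒯] (ψ : T →ₐ[k] TensorProduct k R S) (hT : GrSeg.IsSegreRing 𝒜 ℬ 𝒯 ψ) (M : Type u) [AddCommGroup M] [Module R M] [Module k M] [IsScalarTower k R M] (ℳ : ℤ → AddSubgroup M) [DirectSum.Decomposition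 ℳ] [SetLike.GradedSMul 𝒜 ℳ] (N : Type u) [AddCommGroup N] [Module S N] [Module k N] [IsScalarTower k S N] (𝒩 : ℤ → AddSubgroup N) [DirectSum.Decomposition 𝒩] [SetLike.GradedSMul ℬ 𝒩] (P : Type u) [AddCommGroup P] [Module T P] [Module k P] [IsScalarTower k T P] (𝒬 : ℤ → AddSubgroup P) [DirectSum.Decomposition 𝒬] (φ : P →ₗ[k] TensorProduct k M N) (hP : GrSeg.IsSegreMod ψ ℳ 𝒩 𝒬 φ) (d : ℕ) (hd : 0 < d) (f : R) (hf : f ∈ 𝒜 (d : ℤ)) (hfM : Function.Bijective (fun x : M => f • x)) (e : ℕ) (he : 0 < e) (g : S) (hg : g ∈ ℬ (e : ℤ)) (hgN : Function.Bijective (fun y : N => g • y)) : ∃ (c : ℤ) (t : T), 0 < c ∧ t ∈ 𝒯 c ∧ Function.Bijective (fun p : P => t • p) := by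
  classical
  have hM : ∀ (i j : ℤ) (a : R) (x : M), a ∈ 𝒜 i → x ∈ ℳ j → a • x ∈ ℳ (i + j) := by
    intro i j a x ha hx
    have h := SetLike.GradedSMul.smul_mem (A := 𝒜) (B := ℳ) ha hx
    rwa [vadd_eq_add] at h
  have hN : ∀ (i j : ℤ) (b : S) (y : N), b ∈ ℬ i → y ∈ 𝒩 j → b • y ∈ 𝒩 (i + j) := by
    intro i j b y hb hy
    have h := SetLike.GradedSMul.smul_mem (A := ℬ) (B := 𝒩) hb hy
    rwa [vadd_eq_add] at h
  set c : ℤ := (d : ℤ) * e with hc
  have hcpos : 0 < c := by positivity
  have ha : f ^ e ∈ 𝒜 c := by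
    have h := SetLike.pow_mem_graded e hf
    have he' : e • (d : ℤ) = c := by rw [hc, nsmul_eq_mul, mul_comm]
    rwa [he'] at h
  have hb : g ^ d ∈ ℬ c := by
    have h := SetLike.pow_mem_graded d hg
    have he' : d • (e : ℤ) = c := by rw [hc, nsmul_eq_mul]
    rwa [he'] at h
  have haM : Function.Bijective (fun x : M => (f ^ e) • x) := by
    rw [← smul_iterate]
    exact hfM.iterate e
  have hbN : Function.Bijective (fun y : N => (g ^ d) • y) := by
    rw [← smul_iterate]
    exact hgN.iterate d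
  obtain ⟨t, ht, hψt⟩ := Lib.Helper93.Segre.exists_tmul_T 𝒜 ℬ 𝒯 hT ha hb
  refine ⟨c, t, hcpos, ht, ?_⟩
  let eM : M ≃ₗ[k] M := LinearEquiv.ofBijective (Algebra.lsmul k k M (f ^ e)) haM
  let eN : N ≃ₗ[k] N := LinearEquiv.ofBijective (Algebra.lsmul k k N (g ^ d)) hbN
  have hact : GrSeg.act k R S M N (ψ t) = (TensorProduct.congr eM eN).toLinearMap := by
    rw [hψt]
    apply TensorProduct.ext'
    intro x y
    rw [GrSeg.act_tmul]
    rfl
  have hactinj : Function.Injective (GrSeg.act k R S M N (ψ t)) := by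
    rw [hact]
    exact (TensorProduct.congr eM eN).injective
  constructor
  · intro p p' hpp
    apply hP.injective
    apply hactinj
    have h := congrArg φ hpp
    simpa only [hP.map_smul] using h
  · have key : ∀ (n : ℤ), ∀ w ∈ GrSeg.segrePiece k ℳ 𝒩 n, ∃ p' : P, φ (t • p') = w := by
      intro n w hw
      unfold GrSeg.segrePiece at hw
      induction hw using Submodule.span_induction with
      | mem w hw =>
        obtain ⟨x, hx, y, hy, rfl⟩ := hw
        obtain ⟨x', hx'⟩ := haM.2 x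
        obtain ⟨y', hy'⟩ := hbN.2 y
        have hx'' : (f ^ e) • x' = x := hx'
        have hy'' : (g ^ d) • y' = y := hy'
        have hx'm : x' ∈ ℳ (n - c) :=
          Lib.Helper93.Segre.mem_of_smul_mem 𝒜 ℳ hM ha haM.1 (by rw [hx'']; exact hx)
        have hy'm : y' ∈ 𝒩 (n - c) :=
          Lib.Helper93.Segre.mem_of_smul_mem ℬ 𝒩 hN hb hbN.1 (by rw [hy'']; exact hy)
        obtain ⟨p', _, hp'⟩ := Lib.Helper93.Segre.exists_tmul_P ℳ 𝒩 𝒬 hP hx'm hy'm
        refine ⟨p', ?_⟩
        rw [hP.map_smul, hp', hψt, GrSeg.act_tmul, hx'', hy'']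
      | zero => exact ⟨0, by simp⟩
      | add w1 w2 _ _ h1 h2 =>
        obtain ⟨p1, e1⟩ := h1
        obtain ⟨p2, e2⟩ := h2
        exact ⟨p1 + p2, by rw [smul_add, map_add, e1, e2]⟩
      | smul a w1 _ h1 =>
        obtain ⟨p1, e1⟩ := h1
        exact ⟨a • p1, by rw [smul_comm, map_smul, e1]⟩
    intro p
    induction p using DirectSum.Decomposition.inductionOn 𝒬 with
    | zero => exact ⟨0, by simp⟩
    | add p1 p2 h1 h2 =>
      obtain ⟨q1, e1⟩ := h1
      obtain ⟨q2, e2⟩ := h2
      refine ⟨q1 + q2, ?_⟩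
      change t • (q1 + q2) = p1 + p2
      rw [smul_add]
      exact congrArg₂ (· + ·) e1 e2
    | homogeneous p =>
      rename_i n
      obtain ⟨p', hp'⟩ := key n (φ p) ((Lib.Helper93.Segre.mem_piece_iff ℳ 𝒩 𝒬 hP).mp p.2)
      exact ⟨p', hP.injective hp'⟩

end Groth.Agent.S19748
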