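import Groth.Statements.S19749
import Mathlib
import Groth.Agent.Lib.Helper93.Segre

set_option autoImplicit false
universe u
open scoped TensorProduct
open GrSegre

namespace Groth.Agent.S19749

/-- Let R and S be graded rings defined over a field k, both generated over k by their degree-one parts
and of positive Krull dimension, T = R # S, M a graded R-module and N a graded S-module, n an
integer with N_m ≠ 0 for every m ≥ n, and x ∈ M_n, y ∈ N_n. If x # y generates M # N as a T-module,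
then R_d x = M_{n+d} for every d ≥ 0 (every element of M_{n+d} is r x for some r ∈ R_d). Here a
graded ring defined over k is a commutative k-algebra of finite type, graded in nonnegative degrees
by k-subspaces with degree-zero part k·1; the Segre product T = R # S = ⊕_n R_n ⊗_k S_n is presented
abstractly as a graded k-algebra T with an injective k-algebra homomorphism ψ : T → R ⊗_k S carrying
T_n onto the k-span of the elementary tensors a ⊗ b with a ∈ R_n, b ∈ S_n; the Segre product M # N =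
⊕_n M_n ⊗_k N_n of a graded R-module M and a graded S-module N is presented abstractly as a graded
T-module P with an injective k-linear map φ : P → M ⊗_k N carrying P_n onto the k-span of the
tensors x ⊗ y with x ∈ M_n, y ∈ N_n and turning the action of t ∈ T into that of ψ(t) (acting
factorwise on M ⊗_k N), and x # y is the element of P mapped to x ⊗ y. -/
theorem result (k : Type u) [Field k] (R : Type u) [CommRing R] [Algebra k R] (𝒜 : ℤ → Submodule k R) [GradedAlgebra 𝒜] (hposR : ∀ n : ℤ, n < 0 → 𝒜 n = ⊥) (h0R : 𝒜 0 = Submodule.span k {(1 : R)}) [Algebra.FiniteType k R] (S : Type u) [CommRing S] [Algebra k S] (ℬ : ℤ → Submodule k S) [GradedAlgebra ℬ] (hposS : ∀ n : ℤ, n < 0 → ℬ n = ⊥) (h0S : ℬ 0 = Submodule.span k {(1 : S)}) [Algebra.FiniteType k S] (T : Type u) [CommRing T] [Algebra k T] (𝒯 : ℤ → Submodule k T) [GradedAlgebra 𝒯] (ψ : T →ₐ[k] TensorProduct k R S) (hT : GrSeg.IsSegreRing 𝒜 ℬ 𝒯 ψ) (hstdR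 : Ideal.span (⋃ n ∈ Set.Ioi (0 : ℤ), (𝒜 n : Set R)) = Ideal.span ((𝒜 1 : Submodule k R) : Set R)) (hstdS : Ideal.span (⋃ n ∈ Set.Ioi (0 : ℤ), (ℬ n : Set S)) = Ideal.span ((ℬ 1 : Submodule k S) : Set S)) (hr1 : 1 ≤ ringKrullDim R) (hs1 : 1 ≤ ringKrullDim S) (M : Type u) [AddCommGroup M] [Module R M] [Module k M] [IsScalarTower k R M] (ℳ : ℤ → AddSubgroup M) [DirectSum.Decomposition ℳ] [SetLike.GradedSMul 𝒜 ℳ] (N : Type u) [AddCommGroup N] [Module S N] [Module k N] [IsScalarTower k S N] (𝒩 : ℤ → AddSubgroup N) [DirectSum.Decomposition 𝒩] [SetLike.GradedSMul ℬ 𝒩] (P : Type u) [AddCommGroup P] [Module T P] [Module k P] [IsScalarTower k T P] (𝒬 : ℤ → AddSubgroup P) [DirectSum.Decomposition 𝒬] (φ : P →ₗ[k] TensorProduct k M N) (hP : GrSeg.IsSegreMod ψ ℳ 𝒩 𝒬 φ) (n : ℤ) (hNn : ∀ m : ℤ, n ≤ m → 𝒩 m ≠ ⊥) (x : M) (hx : x ∈ ℳ n) (y : N) (hy : y ∈ 𝒩 n) (p : P) (hp : φ p = x ⊗ₜ[k] y) (hgen : Submodule.span T {p} = ⊤)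 (d : ℤ) (hd : 0 ≤ d) (z : M) (hz : z ∈ ℳ (n + d)) : ∃ r ∈ 𝒜 d, r • x = z := by
  classical
  have hM : ∀ (i j : ℤ) (a : R) (x : M), a ∈ 𝒜 i → x ∈ ℳ j → a • x ∈ ℳ (i + j) := by
    intro i j a x ha hx
    have h := SetLike.GradedSMul.smul_mem (A := 𝒜) (B := ℳ) ha hx
    rwa [vadd_eq_add] at h
  have hN : ∀ (i j : ℤ) (b : S) (y : N), b ∈ ℬ i → y ∈ 𝒩 j → b • y ∈ 𝒩 (i + j) := by
    intro i j b y hb hy
    have h := SetLike.GradedSMul.smul_mem (A := ℬ) (B := 𝒩) hb hy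
    rwa [vadd_eq_add] at h
  have hsm : ∀ (d n : ℤ) (t : T) (p : P), t ∈ 𝒯 d → p ∈ 𝒬 n → t • p ∈ 𝒬 (d + n) :=
    fun d n t p ht hp => Lib.Helper93.Segre.smul_mem_piece 𝒜 ℬ 𝒯 ℳ 𝒩 𝒬 hT hP hM hN ht hp
  have hpn : p ∈ 𝒬 n := by
    rw [Lib.Helper93.Segre.mem_piece_iff ℳ 𝒩 𝒬 hP, hp]
    exact Submodule.subset_span ⟨x, hx, y, hy, rfl⟩
  obtain ⟨y', hy', hy'0⟩ : ∃ y' ∈ 𝒩 (n + d), y' ≠ 0 := by
    have h := hNn (n + d) (by omega)
    rw [Ne, AddSubgroup.eq_bot_iff_forall] at h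
    push_neg at h
    exact h
  obtain ⟨q, hq, hφq⟩ := Lib.Helper93.Segre.exists_tmul_P ℳ 𝒩 𝒬 hP hz hy'
  have hqspan : q ∈ Submodule.span T {p} := by rw [hgen]; trivial
  obtain ⟨t, rfl⟩ := Submodule.mem_span_singleton.mp hqspan
  have htd : ((DirectSum.decompose 𝒯 t) d : T) ∈ 𝒯 d := SetLike.coe_mem _
  have hq' : t • p = ((DirectSum.decompose 𝒯 t) d : T) • p := by
    have h := Lib.Helper93.Segre.decompose_smul_of_mem 𝒯 𝒬 hsm hpn t d
    rw [add_comm] at hq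
    rwa [DirectSum.decompose_of_mem_same 𝒬 hq] at h
  have hψ := Lib.Helper93.Segre.psi_mem 𝒜 ℬ 𝒯 hT htd
  obtain ⟨l, hl⟩ : ∃ l : N →ₗ[k] k, l y' = 1 := by
    have h : ¬ ∀ f : Module.Dual k N, f y' = 0 := by
      rw [Module.forall_dual_apply_eq_zero_iff k y']
      exact hy'0
    push_neg at h
    obtain ⟨f, hf⟩ := h
    exact ⟨(f y')⁻¹ • f, by simp [hf]⟩
  set Λ : M ⊗[k] N →ₗ[k] M := (TensorProduct.rid k M).toLinearMap ∘ₗ (LinearMap.lTensor M l)
    with hΛ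
  have hΛt : ∀ (m : M) (n' : N), Λ (m ⊗ₜ[k] n') = l n' • m := by
    intro m n'
    simp [hΛ]
  have key : ∀ z' ∈ GrSeg.segrePiece k 𝒜 ℬ d,
      ∃ r ∈ 𝒜 d, Λ (GrSeg.act k R S M N z' (x ⊗ₜ[k] y)) = r • x := by
    intro z' hz'
    unfold GrSeg.segrePiece at hz'
    induction hz' using Submodule.span_induction with
    | mem z' hz' =>
      obtain ⟨a, ha, b, hb, rfl⟩ := hz'
      refine ⟨l (b • y) • a, Submodule.smul_mem _ _ ha, ?_⟩
      rw [GrSeg.act_tmul, hΛt, smul_assoc]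
    | zero => exact ⟨0, zero_mem _, by simp⟩
    | add z1 z2 _ _ h1 h2 =>
      obtain ⟨r1, hr1, e1⟩ := h1
      obtain ⟨r2, hr2, e2⟩ := h2
      exact ⟨r1 + r2, add_mem hr1 hr2, by rw [map_add, LinearMap.add_apply, map_add, e1, e2, add_smul]⟩
    | smul c z1 _ h1 =>
      obtain ⟨r1, hr1, e1⟩ := h1
      exact ⟨c • r1, Submodule.smul_mem _ _ hr1, by
        rw [map_smul, LinearMap.smul_apply, map_smul, e1, smul_assoc]⟩
  obtain ⟨r, hr, hre⟩ := key _ hψ
  refine ⟨r, hr, ?_⟩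
  rw [← hre, ← hp, ← hP.map_smul, ← hq', hφq, hΛt, hl, one_smul]

end Groth.Agent.S19749
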