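import Groth.Statements.S1975
-- import your own Groth.Agent.* helpers here
import Groth.Agent.Lib.Helper58.ValHens

set_option autoImplicit false
universe u
open EtAlg

namespace Groth.Agent.S1975

/-- Let A be a valuation ring and S a henselization or strict henselization of A. Then S is a valuation
ring, A -> S is injective, and every nonzero element of S is a unit multiple of the image of an
element of A (the value groups agree). -/
theorem result (A S : Type u) [CommRing A] [IsDomain A] [ValuationRing A] [CommRing S]
    [IsLocalRing S] [Algebra A S] [IsLocalHom (algebraMap A S)]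
    (h : Hensel.IsHenselization A S ∨ Hensel.IsStrictHenselization A S) :
    IsDomain S ∧ (∀ _ : IsDomain S, ValuationRing S) ∧ Function.Injective (algebraMap A S) ∧
      ∀ s : S, s ≠ 0 → ∃ (a : A) (u : Sˣ), s = u * algebraMap A S a := by
  have key : IsDomain S ∧ Function.Injective (algebraMap A S) ∧
      ∀ s : S, s ≠ 0 → ∃ (a : A) (u : Sˣ), s = u * algebraMap A S a := by
    rcases h with h | h
    · haveI := h
      obtain ⟨e⟩ := Groth.Agent.Lib.Helper87.Hens.nonempty_algEquiv_Hh A S
      haveI : Module.FaithfullyFlat A S := Groth.Agent.Lib.Helper87.Hens.faithfullyFlat_of_isHenselization A S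
      refine ⟨Function.Injective.isDomain (e : S →+* Groth.Agent.Lib.Helper87.Hens.Hh A) e.injective,
        FaithfulSMul.algebraMap_injective A S, ?_⟩
      intro s hs
      have hes : e s ≠ 0 := fun h0 => hs ((map_eq_zero_iff e e.injective).mp h0)
      obtain ⟨a, u, hu⟩ := Groth.Agent.Lib.Helper58.ValHens.Hh_exists_unit_mul A (e s) hes
      refine ⟨a, Units.map e.symm.toRingEquiv.toRingHom.toMonoidHom u, ?_⟩
      have h1 : s = e.symm (e s) := (e.symm_apply_apply s).symm
      rw [h1, hu, map_mul, AlgEquiv.commutes]
      rfl
    · haveI := h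
      obtain ⟨e⟩ := Groth.Agent.Lib.Helper87.Hens.nonempty_algEquiv_Hsh A S
      haveI : Module.FaithfullyFlat A S := Groth.Agent.Lib.Helper87.Hens.faithfullyFlat_of_isStrictHenselization A S
      haveI : IsDomain (Groth.Agent.Lib.Helper87.Hens.Hsh A) := Groth.Agent.Lib.Helper87.Hens.H.isDomain
      exact ⟨Function.Injective.isDomain (e : S →+* Groth.Agent.Lib.Helper87.Hens.Hsh A) e.injective,
        FaithfulSMul.algebraMap_injective A S,
        Groth.Agent.Lib.Helper58.ValHens.strict_exists_unit_mul A S⟩
  obtain ⟨hdom, hinj, hval⟩ := key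
  exact ⟨hdom, fun _ => Groth.Agent.Lib.Helper58.ValHens.valuationRing_of_exists_unit_mul A S hval,
    hinj, hval⟩

end Groth.Agent.S1975
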