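import Groth.Statements.S19750
import Mathlib
import Groth.Agent.Lib.Helper93.Segre

set_option autoImplicit false
universe u
open scoped TensorProduct
open GrSegre

namespace Groth.Agent.S19750

/-- Let R and S be graded rings defined over a field k, both generated over k by their degree-one parts
and of positive Krull dimension, T = R # S with irrelevant ideal T_+, and let a ≥ b be integers.
Then the number of generators ν_T(R(a) # S(b)) = dim_k (R(a) # S(b)) / T_+ (R(a) # S(b)) equals
dim_k R_{a−b}. Here a graded ring defined over k is a commutative k-algebra of finite type, graded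
in nonnegative degrees by k-subspaces with degree-zero part k·1; the Segre product T = R # S = ⊕_n
R_n ⊗_k S_n is presented abstractly as a graded k-algebra T with an injective k-algebra homomorphism
ψ : T → R ⊗_k S carrying T_n onto the k-span of the elementary tensors a ⊗ b with a ∈ R_n, b ∈ S_n;
the Segre product R(a) # S(b) = ⊕_n R_{n+a} ⊗_k S_{n+b} of the shifted modules is presented
abstractly as a graded T-module P with an injective k-linear map φ : P → R ⊗_k S carrying P_n onto
the k-span of the tensors x ⊗ y with x ∈ R_{n+a}, y ∈ S_{n+b} and turning the action of t ∈ T into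
that of ψ(t); T_+ is the ideal spanned by the T_n with n > 0. -/
theorem result (k : Type u) [Field k] (R : Type u) [CommRing R] [Algebra k R] (𝒜 : ℤ → Submodule k R) [GradedAlgebra 𝒜] (hposR : ∀ n : ℤ, n < 0 → 𝒜 n = ⊥) (h0R : 𝒜 0 = Submodule.span k {(1 : R)}) [Algebra.FiniteType k R] (S : Type u) [CommRing S] [Algebra k S] (ℬ : ℤ → Submodule k S) [GradedAlgebra ℬ] (hposS : ∀ n : ℤ, n < 0 → ℬ n = ⊥) (h0S : ℬ 0 = Submodule.span k {(1 : S)}) [Algebra.FiniteType k S] (T : Type u) [CommRing T] [Algebra k T] (𝒯 : ℤ → Submodule k T) [GradedAlgebra 𝒯] (ψ : T →ₐ[k] TensorProduct k R S) (hT : GrSeg.IsSegreRing 𝒜 ℬ 𝒯 ψ) (hstdR : Ideal.span (⋃ n ∈ Set.Ioi (0 : ℤ), (𝒜 n : Set R)) = Ideal.span ((𝒜 1 : Submodule k R) : Set R)) (hstdS : Ideal.span (⋃ n ∈ Set.Ioi (0 : ℤ), (ℬ n : Set S)) = Ideal.span ((ℬ 1 : Submodule k S) : Set S)) (hr1 : 1 ≤ ringKrullDim R) (hs1 : 1 ≤ ringKrullDim S) (mT : HomogeneousIdeal 𝒯) (hmT : mT.toIdeal = Ideal.span (⋃ n ∈ Set.Ioi (0 : ℤ), (𝒯 n : Set T))) (a b : ℤ) (hab : b ≤ a) (P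 : Type u) [AddCommGroup P] [Module T P] [Module k P] [IsScalarTower k T P] (𝒬 : ℤ → AddSubgroup P) [DirectSum.Decomposition 𝒬] (φ : P →ₗ[k] TensorProduct k R S) (hP : GrSeg.IsSegreMod ψ (fun n : ℤ => 𝒜 (n + a)) (fun n : ℤ => ℬ (n + b)) 𝒬 φ) : Module.finrank k (P ⧸ (mT.toIdeal • (⊤ : Submodule T P))) = Module.finrank k (𝒜 (a - b)) := by
  classical
  have hM : ∀ (i j : ℤ) (r : R) (x : R), r ∈ 𝒜 i → x ∈ (fun n : ℤ => 𝒜 (n + a)) j →
      r • x ∈ (fun n : ℤ => 𝒜 (n + a)) (i + j) := by
    intro i j r x hr hx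
    have h := SetLike.mul_mem_graded hr hx
    rw [← add_assoc] at h
    exact h
  have hN : ∀ (i j : ℤ) (r : S) (x : S), r ∈ ℬ i → x ∈ (fun n : ℤ => ℬ (n + b)) j →
      r • x ∈ (fun n : ℤ => ℬ (n + b)) (i + j) := by
    intro i j r x hr hx
    have h := SetLike.mul_mem_graded hr hx
    rw [← add_assoc] at h
    exact h
  have hsm : ∀ (d n : ℤ) (t : T) (p : P), t ∈ 𝒯 d → p ∈ 𝒬 n → t • p ∈ 𝒬 (d + n) :=
    fun d n t p ht hp => Lib.Helper93.Segre.smul_mem_piece 𝒜 ℬ 𝒯 _ _ 𝒬 hT hP hM hN ht hp
  have hSnt : Nontrivial S := by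
    by_contra h
    rw [not_nontrivial_iff_subsingleton] at h
    have h0 : ringKrullDim S = ⊥ := ringKrullDim_eq_bot_of_subsingleton
    rw [h0] at hs1
    simp at hs1
  have hA : ∀ n : ℤ, n < -b → ∀ p ∈ 𝒬 n, p = 0 := by
    intro n hn p hp
    apply hP.injective
    rw [map_zero]
    have h := (Lib.Helper93.Segre.mem_piece_iff _ _ 𝒬 hP).mp hp
    unfold GrSeg.segrePiece at h
    have hbot : ℬ (n + b) = ⊥ := hposS _ (by omega)
    have hsub : {x : TensorProduct k R S | ∃ a_1 ∈ (fun n : ℤ => 𝒜 (n + a)) n,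
        ∃ b_1 ∈ (fun n : ℤ => ℬ (n + b)) n, x = a_1 ⊗ₜ[k] b_1} ⊆
        ((⊥ : Submodule k (TensorProduct k R S)) : Set (TensorProduct k R S)) := by
      rintro z ⟨x, hx, y, hy, rfl⟩
      have hy0 : y = 0 := by
        have hy' : y ∈ ℬ (n + b) := hy
        rw [hbot] at hy'
        exact (Submodule.mem_bot k).mp hy'
      simp [hy0]
    exact (Submodule.mem_bot k).mp ((Submodule.span_le.mpr hsub) h)
  let V : Submodule k P :=
    { carrier := 𝒬 (-b)
      add_mem' := fun h1 h2 => add_mem h1 h2
      zero_mem' := zero_mem _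
      smul_mem' := fun c p hp => by
        have hp' : p ∈ 𝒬 (-b) := hp
        change c • p ∈ 𝒬 (-b)
        rw [Lib.Helper93.Segre.mem_piece_iff _ _ 𝒬 hP] at hp' ⊢
        rw [map_smul]
        exact Submodule.smul_mem _ _ hp' }
  have hVmem : ∀ p : P, p ∈ V ↔ p ∈ 𝒬 (-b) := fun p => Iff.rfl
  set W : Submodule T P := mT.toIdeal • (⊤ : Submodule T P) with hW
  have hC1 : ∀ w ∈ W, ((DirectSum.decompose 𝒬 w) (-b) : P) = 0 := by
    intro w hw
    refine Submodule.smul_induction_on hw ?_ ?_
    · intro t ht p _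
      rw [hmT] at ht
      revert p
      induction ht using Submodule.span_induction with
      | mem t ht =>
        intro p hp
        clear hp
        simp only [Set.mem_iUnion] at ht
        obtain ⟨m, hm, htm⟩ := ht
        induction p using DirectSum.Decomposition.inductionOn 𝒬 with
        | zero => simp
        | add p1 p2 h1 h2 =>
          rw [smul_add, DirectSum.decompose_add, DirectSum.add_apply, AddSubgroup.coe_add,
            h1, h2, add_zero]
        | homogeneous p =>
          rename_i n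
          by_cases hn : n < -b
          · rw [hA n hn p p.2]
            simp
          · have hmem := hsm m n t p htm p.2
            have hm' : (0 : ℤ) < m := hm
            rw [DirectSum.decompose_of_mem_ne 𝒬 hmem (by omega)]
      | zero =>
        intro p _
        simp
      | add t1 t2 _ _ h1 h2 =>
        intro p hp
        rw [add_smul, DirectSum.decompose_add, DirectSum.add_apply, AddSubgroup.coe_add,
          h1 p hp, h2 p hp, add_zero]
      | smul r t _ h =>
        intro p hp
        rw [smul_eq_mul, mul_comm, mul_smul]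
        exact h (r • p) trivial
    · intro w1 w2 h1 h2
      rw [DirectSum.decompose_add, DirectSum.add_apply, AddSubgroup.coe_add, h1, h2, add_zero]
  have hWk : ∀ (c : k) (q : P), q ∈ W → c • q ∈ W := by
    intro c q hq
    rw [← algebraMap_smul T c q]
    exact W.smul_mem _ hq
  have hB : ∀ n : ℤ, -b < n → ∀ p ∈ 𝒬 n, p ∈ W := by
    intro n hn p hp
    have key : ∀ w ∈ GrSeg.segrePiece k (fun n : ℤ => 𝒜 (n + a)) (fun n : ℤ => ℬ (n + b)) n,
        ∃ q ∈ W, φ q = w := by
      intro w hw
      unfold GrSeg.segrePiece at hw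
      induction hw using Submodule.span_induction with
      | mem w hw =>
        obtain ⟨x, hx, y, hy, rfl⟩ := hw
        obtain ⟨m, hm⟩ : ∃ m : ℕ, (m : ℤ) = n + b := ⟨(n + b).toNat, by omega⟩
        have hmpos : 0 < (m : ℤ) := by omega
        have hx' : x ∈ 𝒜 ((m : ℤ) + (a - b)) := by
          have e : (m : ℤ) + (a - b) = n + a := by omega
          rw [e]
          exact hx
        have hxs := Lib.Helper93.Segre.stdmul 𝒜 hstdR m (by omega : 0 ≤ a - b) hx'
        clear hx hx'
        induction hxs using Submodule.span_induction with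
        | mem x hx =>
          obtain ⟨u, hu, v, hv, rfl⟩ := hx
          have hy' : y ∈ ℬ (m : ℤ) := by
            rw [hm]
            exact hy
          obtain ⟨t, ht, hψt⟩ := Lib.Helper93.Segre.exists_tmul_T 𝒜 ℬ 𝒯 hT hu hy'
          have hv' : v ∈ (fun n : ℤ => 𝒜 (n + a)) (-b) := by
            change v ∈ 𝒜 (-b + a)
            have e : -b + a = a - b := by ring
            rw [e]
            exact hv
          have h1' : (1 : S) ∈ (fun n : ℤ => ℬ (n + b)) (-b) := by
            change (1 : S) ∈ ℬ (-b + b)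
            rw [neg_add_cancel]
            exact SetLike.GradedOne.one_mem (A := ℬ)
          obtain ⟨p0, hp0, hφp0⟩ := Lib.Helper93.Segre.exists_tmul_P _ _ 𝒬 hP hv' h1'
          refine ⟨t • p0, Submodule.smul_mem_smul ?_ trivial, ?_⟩
          · rw [hmT]
            apply Ideal.subset_span
            simp only [Set.mem_iUnion]
            exact ⟨m, hmpos, ht⟩
          · rw [hP.map_smul, hφp0, hψt, GrSeg.act_tmul, smul_eq_mul, smul_eq_mul, mul_one]
        | zero => exact ⟨0, zero_mem _, by simp⟩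
        | add x1 x2 _ _ h1 h2 =>
          obtain ⟨q1, hq1, e1⟩ := h1
          obtain ⟨q2, hq2, e2⟩ := h2
          exact ⟨q1 + q2, add_mem hq1 hq2, by rw [map_add, e1, e2, TensorProduct.add_tmul]⟩
        | smul c x1 _ h1 =>
          obtain ⟨q1, hq1, e1⟩ := h1
          exact ⟨c • q1, hWk c q1 hq1, by rw [map_smul, e1, TensorProduct.smul_tmul']⟩
      | zero => exact ⟨0, zero_mem _, by simp⟩
      | add x1 x2 _ _ h1 h2 =>
        obtain ⟨q1, hq1, e1⟩ := h1
        obtain ⟨q2, hq2, e2⟩ := h2
        exact ⟨q1 + q2, add_mem hq1 hq2, by rw [map_add, e1, e2]⟩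
      | smul c x1 _ h1 =>
        obtain ⟨q1, hq1, e1⟩ := h1
        exact ⟨c • q1, hWk c q1 hq1, by rw [map_smul, e1]⟩
    obtain ⟨q, hq, hqe⟩ := key (φ p) ((Lib.Helper93.Segre.mem_piece_iff _ _ 𝒬 hP).mp hp)
    rwa [← hP.injective hqe]
  have hcompl : IsCompl (W.restrictScalars k) V := by
    constructor
    · rw [Submodule.disjoint_def]
      intro p hpW hpV
      have h := hC1 p hpW
      rwa [DirectSum.decompose_of_mem_same 𝒬 ((hVmem p).mp hpV)] at h
    · rw [codisjoint_iff, eq_top_iff]
      intro p hp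
      clear hp
      induction p using DirectSum.Decomposition.inductionOn 𝒬 with
      | zero => exact zero_mem _
      | add p1 p2 h1 h2 => exact add_mem h1 h2
      | homogeneous p =>
        rename_i n
        rcases lt_trichotomy n (-b) with hn | hn | hn
        · rw [hA n hn p p.2]
          exact zero_mem _
        · subst hn
          exact Submodule.mem_sup_right ((hVmem _).mpr p.2)
        · exact Submodule.mem_sup_left (hB n hn p p.2)
  have e1 : (P ⧸ W) ≃ₗ[k] V :=
    (Submodule.Quotient.restrictScalarsEquiv k W).symm.trans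
      (Submodule.quotientEquivOfIsCompl _ _ hcompl)
  rw [e1.finrank_eq]
  obtain ⟨l, hl⟩ : ∃ l : S →ₗ[k] k, l 1 = 1 := by
    have h : ¬ ∀ f : Module.Dual k S, f 1 = 0 := by
      rw [Module.forall_dual_apply_eq_zero_iff k (1 : S)]
      exact one_ne_zero
    push_neg at h
    obtain ⟨f, hf⟩ := h
    exact ⟨(f 1)⁻¹ • f, by simp [hf]⟩
  let g : 𝒜 (a - b) →ₗ[k] TensorProduct k R S :=
    ((TensorProduct.mk k R S).flip 1) ∘ₗ (𝒜 (a - b)).subtype
  have hg : ∀ x : 𝒜 (a - b), g x = (x : R) ⊗ₜ[k] (1 : S) := fun x => rfl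
  have hginj : Function.Injective g := by
    intro x y hxy
    have h2 := congrArg ((TensorProduct.rid k R).toLinearMap ∘ₗ (LinearMap.lTensor R l)) hxy
    simp only [hg, LinearMap.coe_comp, LinearEquiv.coe_coe, Function.comp_apply,
      LinearMap.lTensor_tmul, TensorProduct.rid_tmul, hl, one_smul] at h2
    exact Subtype.ext h2
  have hgrange : LinearMap.range g =
      GrSeg.segrePiece k (fun n : ℤ => 𝒜 (n + a)) (fun n : ℤ => ℬ (n + b)) (-b) := by
    have eab : -b + a = a - b := by ring
    apply le_antisymm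
    · rintro w ⟨x, rfl⟩
      rw [hg]
      refine Submodule.subset_span ⟨x, ?_, 1, ?_, rfl⟩
      · change (x : R) ∈ 𝒜 (-b + a)
        rw [eab]
        exact x.2
      · change (1 : S) ∈ ℬ (-b + b)
        rw [neg_add_cancel]
        exact SetLike.GradedOne.one_mem (A := ℬ)
    · unfold GrSeg.segrePiece
      rw [Submodule.span_le]
      rintro w ⟨x, hx, y, hy, rfl⟩
      have hx' : x ∈ 𝒜 (a - b) := by
        rw [← eab]
        exact hx
      have hy' : y ∈ ℬ 0 := by
        have h : y ∈ ℬ (-b + b) := hy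
        rwa [neg_add_cancel] at h
      rw [h0S, Submodule.mem_span_singleton] at hy'
      obtain ⟨c, rfl⟩ := hy'
      refine ⟨⟨c • x, Submodule.smul_mem _ _ hx'⟩, ?_⟩
      rw [hg]
      simp [TensorProduct.smul_tmul]
  have hφVinj : Function.Injective (φ.domRestrict V) :=
    fun x y h => Subtype.ext (hP.injective h)
  have hφV : LinearMap.range (φ.domRestrict V) =
      GrSeg.segrePiece k (fun n : ℤ => 𝒜 (n + a)) (fun n : ℤ => ℬ (n + b)) (-b) := by
    ext w
    constructor
    · rintro ⟨⟨p, hp⟩, rfl⟩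
      exact (Lib.Helper93.Segre.mem_piece_iff _ _ 𝒬 hP).mp ((hVmem p).mp hp)
    · intro hw
      have hw' : w ∈ φ '' (𝒬 (-b) : Set P) := by
        rw [hP.image_piece]
        exact hw
      obtain ⟨p, hp, rfl⟩ := hw'
      exact ⟨⟨p, (hVmem p).mpr hp⟩, rfl⟩
  rw [← LinearMap.finrank_range_of_inj hφVinj, hφV, ← hgrange,
    LinearMap.finrank_range_of_inj hginj]

end Groth.Agent.S19750
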