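import Groth.Statements.S19751
import Mathlib
import Groth.Agent.Lib.Helper93.Segre
import Groth.Agent.Lib.Helper93.GrDual

set_option autoImplicit false
universe u
open GrDual

namespace Groth.Agent.S19751

/-- Let R be a graded ring defined over a field k with m = R_+, let F and M be finitely generated graded
R-modules and f : F → M a surjective homomorphism of graded R-modules, with dual f^* : M^* → F^* on
graded k-duals. Then f is minimal, that is Ker f ⊆ m F, if and only if f^* is essential: an
injective homomorphism of graded modules such that every nonzero graded submodule of F^* meets its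
image. Here a graded ring defined over k is a commutative k-algebra of finite type, graded in
nonnegative degrees by k-subspaces with degree-zero part k·1, and R_+ is the ideal spanned by the
R_n with n > 0; the graded k-dual M^* = ⊕_n Hom_k(M_{−n}, k) of a graded R-module M (with r ∈ R
acting by (r f)(x) = f(r x)) is presented abstractly as a graded R-module D with a k-bilinear
pairing β : D × M → k compatible with the R-actions, under which D_n pairs to zero with M_m for m ≠
−n and is identified with the full dual space of M_{−n}; f^* is presented as the R-linear map g :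
M^* → F^* with β_F(g d, x) = β_M(d, f x). -/
theorem result (k : Type u) [Field k] (R : Type u) [CommRing R] [Algebra k R] (𝒜 : ℤ → Submodule k R) [GradedAlgebra 𝒜] (hposR : ∀ n : ℤ, n < 0 → 𝒜 n = ⊥) (h0R : 𝒜 0 = Submodule.span k {(1 : R)}) [Algebra.FiniteType k R] (mR : HomogeneousIdeal 𝒜) (hmR : mR.toIdeal = Ideal.span (⋃ n ∈ Set.Ioi (0 : ℤ), (𝒜 n : Set R))) (F : Type u) [AddCommGroup F] [Module R F] [Module k F] [IsScalarTower k R F] (ℱ : ℤ → AddSubgroup F) [DirectSum.Decomposition ℱ] [SetLike.GradedSMul 𝒜 ℱ] [Module.Finite R F] (M : Type u) [AddCommGroup M] [Module R M] [Module k M] [IsScalarTower k R M] (ℳ : ℤ → AddSubgroup M) [DirectSum.Decomposition ℳ] [SetLike.GradedSMul 𝒜 ℳ] [Module.Finite R M] (f : F →ₗ[R] M) (hf : Function.Surjective f) (hfgr : GrLC.IsGrHom ℱ ℳ f) (DM : Type u) [AddCommGroup DM] [Module R DM] [Module k DM] [IsScalarTower k R DM] (𝒟M : ℤ → AddSubgroup DM) [DirectSum.Decomposition 𝒟M] [SetLike.GradedSMul 𝒜 𝒟M] (βM : DM →ₗ[k] M →ₗ[k] k) (hDM : GrSeg.IsGDual R ℳ 𝒟M βM) (DF :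 Type u) [AddCommGroup DF] [Module R DF] [Module k DF] [IsScalarTower k R DF] (𝒟F : ℤ → AddSubgroup DF) [DirectSum.Decomposition 𝒟F] [SetLike.GradedSMul 𝒜 𝒟F] (βF : DF →ₗ[k] F →ₗ[k] k) (hDF : GrSeg.IsGDual R ℱ 𝒟F βF) (g : DM →ₗ[R] DF) (hg : GrSeg.IsGDualMap βM βF f g) : LinearMap.ker f ≤ mR.toIdeal • (⊤ : Submodule R F) ↔ GrLC.IsStarEss 𝒟M 𝒟F g := by
  classical
  have hF : ∀ (i j : ℤ) (a : R) (x : F), a ∈ 𝒜 i → x ∈ ℱ j → a • x ∈ ℱ (i + j) := by
    intro i j a x ha hx
    have h := SetLike.GradedSMul.smul_mem (A := 𝒜) (B := ℱ) ha hx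
    rwa [vadd_eq_add] at h
  have hDFs : ∀ (i j : ℤ) (a : R) (x : DF), a ∈ 𝒜 i → x ∈ 𝒟F j → a • x ∈ 𝒟F (i + j) := by
    intro i j a x ha hx
    have h := SetLike.GradedSMul.smul_mem (A := 𝒜) (B := 𝒟F) ha hx
    rwa [vadd_eq_add] at h
  have hg_gr : GrLC.IsGrHom 𝒟M 𝒟F g := by
    intro n d hd
    apply Lib.Helper93.GrDual.mem_of_decompose_eq_zero 𝒟F
    intro j hj
    apply hDF.eq_zero j _ (SetLike.coe_mem _)
    intro x hx
    rw [← Lib.Helper93.GrDual.beta_decompose_left ℱ 𝒟F hDF hx (g d), hg]
    exact hDM.vanish n d hd (-j) (by omega) (f x) (hfgr (-j) x hx)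
  have hg_inj : Function.Injective g := by
    rw [injective_iff_map_eq_zero]
    intro d hd
    apply Lib.Helper93.GrDual.beta_eq_zero ℳ 𝒟M hDM
    intro y
    obtain ⟨x, rfl⟩ := hf y
    rw [← hg, hd, map_zero, LinearMap.zero_apply]
  constructor
  · intro hker
    refine ⟨hg_inj, hg_gr, ?_⟩
    intro P hPhom hPne
    obtain ⟨n0, hn0⟩ := Lib.Helper93.GrDual.exists_lower_bound 𝒜 ℱ hF hposR
    have hDFbdd : ∀ j : ℤ, -n0 < j → ∀ d ∈ 𝒟F j, d = 0 := by
      intro j hj d hd
      apply hDF.eq_zero j d hd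
      intro x hx
      rw [hn0 (-j) (by omega) x hx, map_zero]
    obtain ⟨p, hpP, hp0⟩ := Submodule.exists_mem_ne_zero_of_ne_bot hPne
    have hex : ∃ j, ((DirectSum.decompose 𝒟F p) j : DF) ≠ 0 := by
      by_contra h
      push_neg at h
      exact hp0 (Lib.Helper93.GrDual.eq_zero_of_decompose_eq_zero 𝒟F h)
    obtain ⟨j1, hj1⟩ := hex
    let Q : ℤ → Prop := fun j => ∃ d ∈ P, d ∈ 𝒟F j ∧ d ≠ 0
    have hQ1 : Q j1 := ⟨_, hPhom j1 hpP, SetLike.coe_mem _, hj1⟩
    have hQbdd : ∀ j, Q j → j ≤ -n0 := by
      rintro j ⟨d, _, hd, hd0⟩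
      by_contra h
      push_neg at h
      exact hd0 (hDFbdd j h d hd)
    obtain ⟨js, hQs, hmax⟩ := Int.exists_greatest_of_bdd ⟨-n0, hQbdd⟩ ⟨j1, hQ1⟩
    obtain ⟨ds, hdsP, hds, hds0⟩ := hQs
    have hkill : ∀ r ∈ mR.toIdeal, r • ds = 0 := by
      intro r hr
      rw [hmR] at hr
      induction hr using Submodule.span_induction with
      | mem r hr =>
        simp only [Set.mem_iUnion] at hr
        obtain ⟨i, hi, hri⟩ := hr
        by_contra hne
        have h1 := hmax (i + js) ⟨r • ds, P.smul_mem r hdsP, hDFs i js r ds hri hds, hne⟩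
        have hi' : (0 : ℤ) < i := hi
        omega
      | zero => simp
      | add a b _ _ ha hb => rw [add_smul, ha, hb, add_zero]
      | smul a r _ h => rw [smul_eq_mul, mul_smul, h, smul_zero]
    have hvan : ∀ x ∈ mR.toIdeal • (⊤ : Submodule R F), βF ds x = 0 := by
      intro x hx
      refine Submodule.smul_induction_on hx ?_ ?_
      · intro r hr y _
        rw [← hDF.map_smul, hkill r hr, map_zero, LinearMap.zero_apply]
      · intro a b ha hb
        rw [map_add, ha, hb, add_zero]
    obtain ⟨sec, hsec⟩ := (f.restrictScalars k).exists_rightInverse_of_surjective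
      (LinearMap.range_eq_top.mpr hf)
    let μ : M →ₗ[k] k := (βF ds) ∘ₗ sec
    have hμ : ∀ x : F, μ (f x) = βF ds x := by
      intro x
      have hk : sec (f x) - x ∈ LinearMap.ker f := by
        rw [LinearMap.mem_ker, map_sub]
        have h1 := LinearMap.congr_fun hsec (f x)
        simp only [LinearMap.coe_comp, Function.comp_apply, LinearMap.coe_restrictScalars,
          LinearMap.id_coe, id_eq] at h1
        rw [h1, sub_self]
      have h0 := hvan _ (hker hk)
      rw [map_sub, sub_eq_zero] at h0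
      exact h0
    obtain ⟨d2, hd2, hd2β⟩ := Lib.Helper93.GrDual.exists_dual ℳ 𝒟M hDM js μ
    have hgd : g d2 = ds := by
      apply Lib.Helper93.GrDual.ext_of_mem ℱ 𝒟F hDF (hg_gr js d2 hd2) hds
      intro x hx
      rw [hg, hd2β, DirectSum.decompose_of_mem_same ℳ (hfgr (-js) x hx), hμ]
    intro hbot
    apply hds0
    have hmem : ds ∈ P ⊓ LinearMap.range g := ⟨hdsP, ⟨d2, hgd⟩⟩
    rw [hbot] at hmem
    exact (Submodule.mem_bot R).mp hmem
  · intro hess
    obtain ⟨_, _, hessential⟩ := hess
    intro u hu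
    have hcomp : ∀ n, ((DirectSum.decompose ℱ u) n : F) ∈ mR.toIdeal • (⊤ : Submodule R F) := by
      intro n
      set un := ((DirectSum.decompose ℱ u) n : F) with hun
      have hun_mem : un ∈ ℱ n := SetLike.coe_mem _
      have hun_ker : f un = 0 := by
        rw [hun, ← Lib.Helper93.GrDual.grHom_decompose ℱ ℳ hfgr u n, LinearMap.mem_ker.mp hu,
          DirectSum.decompose_zero]
        rfl
      by_contra hnot
      obtain ⟨lam, hlam_u, hlam_ker⟩ := Submodule.exists_le_ker_of_notMem
        (p := (mR.toIdeal • (⊤ : Submodule R F)).restrictScalars k) (v := un) hnot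
      obtain ⟨d, hd, hdβ⟩ := Lib.Helper93.GrDual.exists_dual ℱ 𝒟F hDF (-n) lam
      have hdβ' : ∀ x, βF d x = lam ((DirectSum.decompose ℱ x) n : F) := by
        intro x
        rw [hdβ x, neg_neg]
      have hLam_mF : ∀ x ∈ mR.toIdeal • (⊤ : Submodule R F), βF d x = 0 := by
        intro x hx
        rw [hdβ']
        exact hlam_ker (Lib.Helper93.GrDual.irrelevant_smul_top_homogeneous 𝒜 hmR ℱ hF hx n)
      have hkill : ∀ r ∈ mR.toIdeal, r • d = 0 := by
        intro r hr
        apply Lib.Helper93.GrDual.beta_eq_zero ℱ 𝒟F hDF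
        intro x
        rw [hDF.map_smul]
        exact hLam_mF _ (Submodule.smul_mem_smul hr trivial)
      have hd_u : βF d un ≠ 0 := by
        rw [hdβ', DirectSum.decompose_of_mem_same ℱ hun_mem]
        exact hlam_u
      have hd0 : d ≠ 0 := by
        intro h
        rw [h, map_zero, LinearMap.zero_apply] at hd_u
        exact hd_u rfl
      have hPhom : (Submodule.span R {d}).IsHomogeneous 𝒟F := by
        intro j x hx
        obtain ⟨r, rfl⟩ := Submodule.mem_span_singleton.mp hx
        have h1 := Lib.Helper93.Segre.decompose_smul_of_mem 𝒜 𝒟F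
          (fun d n t p ht hp => hDFs d n t p ht hp) hd r (j + n)
        rw [show j + n + -n = j by ring] at h1
        rw [h1]
        exact Submodule.smul_mem _ _ (Submodule.mem_span_singleton_self d)
      have hPne : Submodule.span R {d} ≠ ⊥ := by
        intro h
        have h1 : d ∈ Submodule.span R {d} := Submodule.mem_span_singleton_self d
        rw [h] at h1
        exact hd0 ((Submodule.mem_bot R).mp h1)
      have hmeet := hessential _ hPhom hPne
      obtain ⟨e, heP, he0⟩ := Submodule.exists_mem_ne_zero_of_ne_bot hmeet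
      obtain ⟨heP1, ⟨d', hd'⟩⟩ := heP
      obtain ⟨r, hr⟩ := Submodule.mem_span_singleton.mp heP1
      obtain ⟨c, hc⟩ := Lib.Helper93.GrDual.exists_sub_mem_irrelevant 𝒜 hmR hposR h0R r
      have he : e = c • d := by
        rw [← hr]
        have h1 : r • d = (r - algebraMap k R c) • d + (algebraMap k R c) • d := by
          rw [← add_smul, sub_add_cancel]
        rw [h1, hkill _ hc, zero_add, algebraMap_smul]
      have hc0 : c ≠ 0 := by
        intro h
        apply he0
        rw [he, h, zero_smul]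
      have h1 : βF e un = 0 := by
        rw [← hd', hg, hun_ker, map_zero]
      rw [he, map_smul, LinearMap.smul_apply, smul_eq_mul] at h1
      exact (mul_ne_zero hc0 hd_u) h1
    rw [← DirectSum.sum_support_decompose ℱ u]
    exact Submodule.sum_mem _ (fun n _ => hcomp n)

end Groth.Agent.S19751
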