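import Groth.Statements.S19752
import Mathlib
import Groth.Agent.Lib.Helper93.Segre
import Groth.Agent.Lib.Helper93.SegreAct
import Groth.Agent.Lib.Helper93.GrDual

set_option autoImplicit false
universe u
open GrDual

namespace Groth.Agent.S19752

/-- Let R = ⊕_{n ≥ 0} R_n be a Noetherian graded ring with R_0 = k a field, m = R_+ and k = R/m. Then
the graded k-dual R^* = ⊕_n Hom_k(R_{−n}, k) is the injective envelope of R/m in the category of
graded R-modules: for every injective homomorphism of graded R-modules e : R/m → R^*, the module R^*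
is an injective object of the graded category and every nonzero graded submodule of R^* meets the
image of e. Here a graded ring defined over k is a commutative k-algebra of finite type, graded in
nonnegative degrees by k-subspaces with degree-zero part k·1, and R_+ is the ideal spanned by the
R_n with n > 0 (a Noetherian such ring is the same as one of finite type over k); the graded k-dual
M^* = ⊕_n Hom_k(M_{−n}, k) of a graded R-module M (with r ∈ R acting by (r f)(x) = f(r x)) is
presented abstractly as a graded R-module D with a k-bilinear pairing β : D × M → k compatible with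
the R-actions, under which D_n pairs to zero with M_m for m ≠ −n and is identified with the full
dual space of M_{−n}. -/
theorem result (k : Type u) [Field k] (R : Type u) [CommRing R] [Algebra k R] (𝒜 : ℤ → Submodule k R) [GradedAlgebra 𝒜] (hposR : ∀ n : ℤ, n < 0 → 𝒜 n = ⊥) (h0R : 𝒜 0 = Submodule.span k {(1 : R)}) [Algebra.FiniteType k R] (mR : HomogeneousIdeal 𝒜) (hmR : mR.toIdeal = Ideal.span (⋃ n ∈ Set.Ioi (0 : ℤ), (𝒜 n : Set R))) (D : Type u) [AddCommGroup D] [Module R D] [Module k D] [IsScalarTower k R D] (𝒟 : ℤ → AddSubgroup D) [DirectSum.Decomposition 𝒟] [SetLike.GradedSMul 𝒜 𝒟] (β : D →ₗ[k] R →ₗ[k] k) (hD : GrSeg.IsGDual R 𝒜 𝒟 β) (e : (R ⧸ mR.toIdeal) →ₗ[R] D) (he : Function.Injective e) (hegr : GrLC.IsGrHom (GrLC.quotGr 𝒜 mR) 𝒟 e) : GrLC.IsStarInjHull 𝒜 (GrLC.quotGr 𝒜 mR) 𝒟 e := by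
  classical
  have hDs : ∀ (i j : ℤ) (a : R) (x : D), a ∈ 𝒜 i → x ∈ 𝒟 j → a • x ∈ 𝒟 (i + j) := by
    intro i j a x ha hx
    have h := SetLike.GradedSMul.smul_mem (A := 𝒜) (B := 𝒟) ha hx
    rwa [vadd_eq_add] at h
  have h1mem : (1 : R) ∈ 𝒜 0 := SetLike.GradedOne.one_mem (A := 𝒜)
  have hDk : ∀ (c : k) (j : ℤ) (x : D), x ∈ 𝒟 j → c • x ∈ 𝒟 j := by
    intro c j x hx
    have h := hDs 0 j (algebraMap k R c) x (SetLike.algebraMap_mem_graded 𝒜 c) hx
    rwa [zero_add, algebraMap_smul] at h
  refine ⟨⟨he, hegr, ?_⟩, ?_⟩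
  · intro P hPhom hPne
    obtain ⟨p, hpP, hp0⟩ := Submodule.exists_mem_ne_zero_of_ne_bot hPne
    haveI hRnt : Nontrivial R := by
      by_contra h
      rw [not_nontrivial_iff_subsingleton] at h
      apply hp0
      rw [← one_smul R p, Subsingleton.elim (1 : R) 0, zero_smul]
    obtain ⟨n, hn⟩ : ∃ n, ((DirectSum.decompose 𝒟 p) n : D) ≠ 0 := by
      by_contra h
      push_neg at h
      exact hp0 (Lib.Helper93.GrDual.eq_zero_of_decompose_eq_zero 𝒟 h)
    set d := ((DirectSum.decompose 𝒟 p) n : D) with hd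
    have hdP : d ∈ P := hPhom n hpP
    have hdn : d ∈ 𝒟 n := SetLike.coe_mem _
    obtain ⟨x, hx, hβ⟩ : ∃ x ∈ 𝒜 (-n), β d x ≠ 0 := by
      by_contra h
      push_neg at h
      exact hn (hD.eq_zero n d hdn h)
    have hxd_mem : x • d ∈ 𝒟 0 := by
      have h := hDs (-n) n x d hx hdn
      rwa [neg_add_cancel] at h
    have hxd_β : β (x • d) 1 = β d x := by
      rw [hD.map_smul, smul_eq_mul, mul_one]
    have hxd0 : x • d ≠ 0 := by
      intro h
      rw [h, map_zero, LinearMap.zero_apply] at hxd_β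
      exact hβ hxd_β.symm
    set ε := e (Ideal.Quotient.mk mR.toIdeal 1) with hε
    have hε_mem : ε ∈ 𝒟 0 := hegr 0 _ ⟨1, h1mem, rfl⟩
    have hε0 : ε ≠ 0 := by
      intro h
      have h2 : Ideal.Quotient.mk mR.toIdeal 1 = 0 := he (h.trans (map_zero e).symm)
      rw [Ideal.Quotient.eq_zero_iff_mem] at h2
      exact Lib.Helper93.GrDual.one_notMem_irrelevant 𝒜 hmR hposR h2
    have hβε : β ε 1 ≠ 0 := by
      intro h0
      apply hε0
      apply hD.eq_zero 0 ε hε_mem
      intro y hy
      rw [neg_zero, h0R, Submodule.mem_span_singleton] at hy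
      obtain ⟨c, rfl⟩ := hy
      rw [map_smul, h0, smul_zero]
    set c := β (x • d) 1 / β ε 1 with hc
    have hcε_mem : c • ε ∈ 𝒟 0 := hDk c 0 ε hε_mem
    have hxdc : x • d = c • ε := by
      apply Lib.Helper93.GrDual.ext_of_mem 𝒜 𝒟 hD hxd_mem hcε_mem
      intro y hy
      rw [neg_zero, h0R, Submodule.mem_span_singleton] at hy
      obtain ⟨a, rfl⟩ := hy
      rw [(β (x • d)).map_smul a 1, (β (c • ε)).map_smul a 1, β.map_smul c ε,
        LinearMap.smul_apply, hc]
      simp only [smul_eq_mul]
      field_simp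
    have hrange : c • ε ∈ LinearMap.range e := by
      refine ⟨(algebraMap k R c) • Ideal.Quotient.mk mR.toIdeal 1, ?_⟩
      rw [map_smul, algebraMap_smul]
    intro hbot
    apply hxd0
    have hmem : x • d ∈ P ⊓ LinearMap.range e := ⟨P.smul_mem x hdP, by rw [hxdc]; exact hrange⟩
    rw [hbot] at hmem
    exact (Submodule.mem_bot R).mp hmem
  · intro A B f hfgr hfinj g hggr
    letI : Module k A.carrier := Module.compHom _ (algebraMap k R)
    haveI : IsScalarTower k R A.carrier := IsScalarTower.of_algebraMap_smul (fun _ _ => rfl)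
    letI : Module k B.carrier := Module.compHom _ (algebraMap k R)
    haveI : IsScalarTower k R B.carrier := IsScalarTower.of_algebraMap_smul (fun _ _ => rfl)
    have hA : ∀ (i j : ℤ) (a : R) (x : A.carrier), a ∈ 𝒜 i → x ∈ A.gr j → a • x ∈ A.gr (i + j) := by
      intro i j a x ha hx
      have h := SetLike.GradedSMul.smul_mem (A := 𝒜) (B := A.gr) ha hx
      rwa [vadd_eq_add] at h
    have hB : ∀ (i j : ℤ) (a : R) (x : B.carrier), a ∈ 𝒜 i → x ∈ B.gr j → a • x ∈ B.gr (i + j) := by
      intro i j a x ha hx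
      have h := SetLike.GradedSMul.smul_mem (A := 𝒜) (B := B.gr) ha hx
      rwa [vadd_eq_add] at h
    let lamA : A.carrier →ₗ[k] k := (β.flip 1) ∘ₗ (g.restrictScalars k)
    have hlamA : ∀ a, lamA a = β (g a) 1 := fun a => rfl
    obtain ⟨ρ, hρ⟩ := (f.restrictScalars k).exists_leftInverse_of_injective
      (LinearMap.ker_eq_bot.mpr hfinj)
    have hρ' : ∀ a, ρ (f a) = a := fun a => LinearMap.congr_fun hρ a
    let LamB : B.carrier →ₗ[k] k :=
      lamA ∘ₗ ρ ∘ₗ (Lib.Helper93.SegreAct.projL 𝒜 B.gr hB 0)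
    have hLamB : ∀ b, LamB b = lamA (ρ (Lib.Helper93.SegreAct.projL 𝒜 B.gr hB 0 b)) := fun b => rfl
    have hLamB_ne : ∀ (j : ℤ) (b : B.carrier), b ∈ B.gr j → j ≠ 0 → LamB b = 0 := by
      intro j b hb hj
      rw [hLamB, Lib.Helper93.SegreAct.projL_of_mem_ne 𝒜 B.gr hB hb hj, map_zero, map_zero]
    have hLamB_f : ∀ a, LamB (f a) = β (g a) 1 := by
      intro a
      rw [hLamB, Lib.Helper93.SegreAct.projL_apply,
        Lib.Helper93.GrDual.grHom_decompose A.gr B.gr hfgr a 0, hρ', hlamA,
        ← Lib.Helper93.GrDual.grHom_decompose A.gr 𝒟 hggr a 0]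
      have h1 : (1 : R) ∈ 𝒜 (-0) := by rw [neg_zero]; exact h1mem
      rw [← Lib.Helper93.GrDual.beta_decompose_left 𝒜 𝒟 hD h1 (g a)]
    have hex' : ∀ (n : ℤ) (b : B.carrier), b ∈ B.gr n →
        ∃ d ∈ 𝒟 n, ∀ x : R, β d x = LamB (x • b) := by
      intro n b hb
      let l : R →ₗ[k] k := LamB ∘ₗ ((LinearMap.toSpanSingleton R B.carrier b).restrictScalars k)
      have hl : ∀ x, l x = LamB (x • b) := fun x => rfl
      obtain ⟨d, hd, hdl⟩ := Lib.Helper93.GrDual.exists_dual 𝒜 𝒟 hD n l
      refine ⟨d, hd, fun x => ?_⟩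
      rw [hdl, hl]
      induction x using DirectSum.Decomposition.inductionOn 𝒜 with
      | zero => simp
      | add x y hx hy =>
        rw [DirectSum.decompose_add, DirectSum.add_apply, Submodule.coe_add, add_smul, map_add,
          hx, hy, add_smul, map_add]
      | homogeneous x =>
        rename_i i
        by_cases hi : i = -n
        · subst hi
          rw [DirectSum.decompose_of_mem_same 𝒜 x.2]
        · rw [DirectSum.decompose_of_mem_ne 𝒜 x.2 hi, zero_smul, map_zero]
          exact (hLamB_ne (i + n) _ (hB i n x b x.2 hb) (by omega)).symm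
    have hex : ∀ b : B.carrier, ∃ d : D, ∀ x : R, β d x = LamB (x • b) := by
      intro b
      induction b using DirectSum.Decomposition.inductionOn B.gr with
      | zero => exact ⟨0, fun x => by simp⟩
      | add b1 b2 h1 h2 =>
        obtain ⟨d1, e1⟩ := h1
        obtain ⟨d2, e2⟩ := h2
        exact ⟨d1 + d2, fun x => by
          rw [map_add, LinearMap.add_apply, e1, e2, smul_add, map_add]⟩
      | homogeneous b =>
        rename_i n
        obtain ⟨d, _, hd⟩ := hex' n b b.2
        exact ⟨d, hd⟩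
    choose h hh using hex
    have huniq : ∀ (b : B.carrier) (d : D), (∀ x : R, β d x = LamB (x • b)) → h b = d := by
      intro b d hd
      rw [← sub_eq_zero]
      apply Lib.Helper93.GrDual.beta_eq_zero 𝒜 𝒟 hD
      intro x
      rw [map_sub, LinearMap.sub_apply, hh b x, hd x, sub_self]
    let hlin : B.carrier →ₗ[R] D :=
      { toFun := h
        map_add' := by
          intro b1 b2
          apply huniq
          intro x
          rw [map_add, LinearMap.add_apply, hh b1 x, hh b2 x, smul_add, map_add]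
        map_smul' := by
          intro r b
          apply huniq
          intro x
          rw [RingHom.id_apply, hD.map_smul, hh b (r • x), smul_eq_mul, mul_comm, mul_smul] }
    refine ⟨hlin, ?_, ?_⟩
    · intro n b hb
      obtain ⟨d, hd, hdβ⟩ := hex' n b hb
      change h b ∈ 𝒟 n
      rw [huniq b d hdβ]
      exact hd
    · apply LinearMap.ext
      intro a
      change h (f a) = g a
      apply huniq
      intro x
      rw [← map_smul, hLamB_f, map_smul, hD.map_smul, smul_eq_mul, mul_one]

end Groth.Agent.S19752
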