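import Groth.Statements.S19753
import Mathlib
import Groth.Agent.Lib.Helper90.SegH

set_option autoImplicit false
universe u
open scoped TensorProduct
open GrSegre

namespace Groth.Agent.S19753

/-- Let R and S be graded rings defined over a field k, both generated over k by their degree-one parts
and of positive Krull dimension, T = R # S, and let M and N be finitely generated graded modules
over R and S respectively, neither of them Artinian. Then dim (M # N) = dim M + dim N − 1,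
dimensions being Krull dimensions of supports. Here a graded ring defined over k is a commutative
k-algebra of finite type, graded in nonnegative degrees by k-subspaces with degree-zero part k·1;
the Segre product T = R # S = ⊕_n R_n ⊗_k S_n is presented abstractly as a graded k-algebra T with
an injective k-algebra homomorphism ψ : T → R ⊗_k S carrying T_n onto the k-span of the elementary
tensors a ⊗ b with a ∈ R_n, b ∈ S_n; the Segre product M # N = ⊕_n M_n ⊗_k N_n of a graded R-module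
M and a graded S-module N is presented abstractly as a graded T-module P with an injective k-linear
map φ : P → M ⊗_k N carrying P_n onto the k-span of the tensors x ⊗ y with x ∈ M_n, y ∈ N_n and
turning the action of t ∈ T into that of ψ(t) (acting factorwise on M ⊗_k N). -/
theorem result (k : Type u) [Field k] (R : Type u) [CommRing R] [Algebra k R] (𝒜 : ℤ → Submodule k R) [GradedAlgebra 𝒜] (hposR : ∀ n : ℤ, n < 0 → 𝒜 n = ⊥) (h0R : 𝒜 0 = Submodule.span k {(1 : R)}) [Algebra.FiniteType k R] (S : Type u) [CommRing S] [Algebra k S] (ℬ : ℤ → Submodule k S) [GradedAlgebra ℬ] (hposS : ∀ n : ℤ, n < 0 → ℬ n = ⊥) (h0S : ℬ 0 = Submodule.span k {(1 : S)}) [Algebra.FiniteType k S] (T : Type u) [CommRing T] [Algebra k T] (𝒯 : ℤ → Submodule k T) [GradedAlgebra 𝒯] (ψ : T →ₐ[k] TensorProduct k R S) (hT : GrSeg.IsSegreRing 𝒜 ℬ 𝒯 ψ) (hstdR : Ideal.span (⋃ n ∈ Set.Ioi (0 : ℤ), (𝒜 n : Set R)) = Ideal.span ((𝒜 1 : Submodule k R) : Set R)) (hstdS : Ideal.span (⋃ n ∈ Set.Ioi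 (0 : ℤ), (ℬ n : Set S)) = Ideal.span ((ℬ 1 : Submodule k S) : Set S)) (hr1 : 1 ≤ ringKrullDim R) (hs1 : 1 ≤ ringKrullDim S) (M : Type u) [AddCommGroup M] [Module R M] [Module k M] [IsScalarTower k R M] (ℳ : ℤ → AddSubgroup M) [DirectSum.Decomposition ℳ] [SetLike.GradedSMul 𝒜 ℳ] [Module.Finite R M] (N : Type u) [AddCommGroup N] [Module S N] [Module k N] [IsScalarTower k S N] (𝒩 : ℤ → AddSubgroup N) [DirectSum.Decomposition 𝒩] [SetLike.GradedSMul ℬ 𝒩] [Module.Finite S N] (P : Type u) [AddCommGroup P] [Module T P] [Module k P] [IsScalarTower k T P] (𝒬 : ℤ → AddSubgroup P) [DirectSum.Decomposition 𝒬] (φ : P →ₗ[k] TensorProduct k M N) (hP : GrSeg.IsSegreMod ψ ℳ 𝒩 𝒬 φ) (dM dN : ℕ) (hdM : Module.supportDim R M = dM) (hdN : Module.supportDim S N = dN) (hMA : ¬ IsArtinian R M) (hNA : ¬ IsArtinian S N) : Module.supportDim T P = ((dM + dN - 1 : ℕ) : WithBot ℕ∞) := by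
  classical
  haveI : IsNoetherianRing R := Algebra.FiniteType.isNoetherianRing k R
  haveI : IsNoetherianRing S := Algebra.FiniteType.isNoetherianRing k S
  obtain ⟨m, x, hx⟩ := Groth.Agent.Lib.Helper90.Seg.exists_isStd 𝒜 hposR h0R hstdR
  obtain ⟨m', y, hy⟩ := Groth.Agent.Lib.Helper90.Seg.exists_isStd ℬ hposS h0S hstdS
  obtain ⟨z, hzstd, hz⟩ := Groth.Agent.Lib.Helper90.Seg.segRing_exists_isStd hT hx hy
  haveI : SetLike.GradedSMul 𝒯 𝒬 := Groth.Agent.Lib.Helper90.Seg.segMod_gradedSMul hT hP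
  obtain ⟨pM, nM, hfinM, hpM⟩ := Groth.Agent.Lib.Helper90.Seg.exists_hilbPoly_module 𝒜 ℳ hx
  obtain ⟨pN, nN, hfinN, hpN⟩ := Groth.Agent.Lib.Helper90.Seg.exists_hilbPoly_module ℬ 𝒩 hy
  haveI : Module.Finite T P :=
    Groth.Agent.Lib.Helper90.Seg.segMod_finite (𝒯 := 𝒯) hP hx hy hz hfinM hfinN
  have hpM0 : pM ≠ 0 := by
    intro h0
    apply hMA
    apply Groth.Agent.Lib.Helper90.Seg.isArtinian_of_eventually_zero 𝒜 ℳ hposR hfinM nM
    intro n hn
    have := hpM n hn
    rw [h0, Polynomial.eval_zero] at this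
    exact_mod_cast this
  have hpN0 : pN ≠ 0 := by
    intro h0
    apply hNA
    apply Groth.Agent.Lib.Helper90.Seg.isArtinian_of_eventually_zero ℬ 𝒩 hposS hfinN nN
    intro n hn
    have := hpN n hn
    rw [h0, Polynomial.eval_zero] at this
    exact_mod_cast this
  have hdM' := Groth.Agent.Lib.Helper90.Seg.supportDim_eq_of_hilbPoly 𝒜 ℳ hx hfinM pM nM hpM hpM0
  have hdN' := Groth.Agent.Lib.Helper90.Seg.supportDim_eq_of_hilbPoly ℬ 𝒩 hy hfinN pN nN hpN hpN0
  have hfinP : ∀ n, Module.Finite k (Groth.Agent.Lib.Helper90.Seg.pc 𝒯 𝒬 n) := fun n => by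
    haveI := hfinM n
    haveI := hfinN n
    exact Groth.Agent.Lib.Helper90.Seg.finite_pc_segre (𝒜 := 𝒜) (ℬ := ℬ) hP n
  have hpP : ∀ n : ℤ, max nM nN ≤ n →
      ((Module.finrank k (Groth.Agent.Lib.Helper90.Seg.pc 𝒯 𝒬 n) : ℕ) : ℚ) =
        (pM * pN).eval (n : ℚ) := by
    intro n hn
    rw [Groth.Agent.Lib.Helper90.Seg.finrank_pc_segre (𝒜 := 𝒜) (ℬ := ℬ) hP n, Polynomial.eval_mul,
      ← hpM n ((le_max_left _ _).trans hn), ← hpN n ((le_max_right _ _).trans hn)]
    push_cast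
    rfl
  have hdP := Groth.Agent.Lib.Helper90.Seg.supportDim_eq_of_hilbPoly 𝒯 𝒬 hzstd hfinP (pM * pN)
    (max nM nN) hpP (mul_ne_zero hpM0 hpN0)
  rw [hdP, Polynomial.natDegree_mul hpM0 hpN0]
  rw [hdM] at hdM'
  rw [hdN] at hdN'
  have e1 : dM = pM.natDegree + 1 := by
    have h : ((dM : ℕ) : WithBot ℕ∞) = ((pM.natDegree + 1 : ℕ) : WithBot ℕ∞) := by
      rw [hdM']; push_cast; rfl
    exact_mod_cast h
  have e2 : dN = pN.natDegree + 1 := by
    have h : ((dN : ℕ) : WithBot ℕ∞) = ((pN.natDegree + 1 : ℕ) : WithBot ℕ∞) := by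
      rw [hdN']; push_cast; rfl
    exact_mod_cast h
  have e3 : dM + dN - 1 = pM.natDegree + pN.natDegree + 1 := by omega
  rw [e3]
  push_cast
  rfl

end Groth.Agent.S19753
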