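import Groth.Statements.S19759
import Groth.Agent.Lib.Helper8.GrDualLocal

set_option autoImplicit false
universe u
open GrDual

namespace Groth.Agent.S19759

/-- Let R be a graded ring defined over a field k with m = R_+ and n = dim R, K_R = (H^n_m(R))^* its
canonical module, and M a finitely generated graded R-module. Then (H^n_m(M))^* ≅ Hom_R(M, K_R) as
graded R-modules. Stated here as the existence of an R-linear isomorphism carrying the degree-d
piece of (H^n_m(M))^* into the maps M → K_R homogeneous of degree d (existence of an isomorphism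
only; the published one is natural in M). Here a graded ring defined over k is a commutative
k-algebra of finite type, graded in nonnegative degrees by k-subspaces with degree-zero part k·1,
and R_+ is the ideal spanned by the R_n with n > 0; the graded k-dual M^* = ⊕_n Hom_k(M_{−n}, k) of
a graded R-module M (with r ∈ R acting by (r f)(x) = f(r x)) is presented abstractly as a graded
R-module D with a k-bilinear pairing β : D × M → k compatible with the R-actions, under which D_n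
pairs to zero with M_m for m ≠ −n and is identified with the full dual space of M_{−n}; graded local
cohomology with its homogeneous pieces is computed from *injective resolutions in the graded
category and carries the k-vector space structures given. -/
theorem result (k : Type u) [Field k] (R : Type u) [CommRing R] [Algebra k R] (𝒜 : ℤ → Submodule k R) [GradedAlgebra 𝒜] (hposR : ∀ n : ℤ, n < 0 → 𝒜 n = ⊥) (h0R : 𝒜 0 = Submodule.span k {(1 : R)}) [Algebra.FiniteType k R] (mR : HomogeneousIdeal 𝒜) (hmR : mR.toIdeal = Ideal.span (⋃ n ∈ Set.Ioi (0 : ℤ), (𝒜 n : Set R))) (n : ℕ) (hn : ringKrullDim R = n) (I : GrLC.StarInjRes 𝒜 𝒜) [Module k (I.H mR n)] [IsScalarTower k R (I.H mR n)] [DirectSum.Decomposition (I.Hgr mR n)] (K : Type u) [AddCommGroup K] [Module R K] [Module k K] [IsScalarTower k R K] (𝒦 : ℤ → AddSubgroup K) [DirectSum.Decomposition 𝒦] [SetLike.GradedSMul 𝒜 𝒦] (βK : K →ₗ[k] I.H mR n →ₗ[k] k) (hK : GrSeg.IsGDual R (I.Hgr mR n) 𝒦 βK) (M :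 Type u) [AddCommGroup M] [Module R M] [Module k M] [IsScalarTower k R M] (ℳ : ℤ → AddSubgroup M) [DirectSum.Decomposition ℳ] [SetLike.GradedSMul 𝒜 ℳ] [Module.Finite R M] (EM : GrLC.StarInjRes 𝒜 ℳ) [Module k (EM.H mR n)] [IsScalarTower k R (EM.H mR n)] [DirectSum.Decomposition (EM.Hgr mR n)] (D : Type u) [AddCommGroup D] [Module R D] [Module k D] [IsScalarTower k R D] (𝒟 : ℤ → AddSubgroup D) [DirectSum.Decomposition 𝒟] [SetLike.GradedSMul 𝒜 𝒟] (βD : D →ₗ[k] EM.H mR n →ₗ[k] k) (hD : GrSeg.IsGDual R (EM.Hgr mR n) 𝒟 βD) : ∃ ε : D ≃ₗ[R] (M →ₗ[R] K), GrLC.IsGrHom 𝒟 (fun d : ℤ => (GrLC.homDeg 𝒜 ℳ 𝒦 d).toAddSubgroup) ε.toLinearMap := by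
  classical
  have hNoeth : IsNoetherianRing R := Algebra.FiniteType.isNoetherianRing k R
  let 𝒜' : ℤ → AddSubgroup R := Lib.Helper8.GrLCSub.agr 𝒜
  let a' : HomogeneousIdeal 𝒜' := Lib.Helper8.GrLCSub.idealA 𝒜 mR
  let I' : GrLC.StarInjRes 𝒜' 𝒜' := Lib.Helper8.GrLCSub.resA 𝒜 𝒜 I
  let ℳ' : ℤ → AddSubgroup M := Lib.Helper8.GrLCSub.agr ℳ
  let EM' : GrLC.StarInjRes 𝒜' ℳ' := Lib.Helper8.GrLCSub.resA 𝒜 ℳ EM
  have hGV : ∀ Y : GrLC.GMod.{u} 𝒜', Module.Finite R Y.carrier →
      ∀ g, Lib.Helper8.GrLCLES.VanM a' Y.gr (n + 1) g := by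
    intro Y hY g
    exact Lib.Helper8.GrLCGV.vanM_of_dim_lt a' Y hY n hn (n + 1) (Nat.lt_succ_self n) g
  letI i1 : Module k (I'.H a' n) := ‹Module k (I.H mR n)›
  letI i2 : IsScalarTower k R (I'.H a' n) := ‹IsScalarTower k R (I.H mR n)›
  letI i3 : DirectSum.Decomposition (I'.Hgr a' n) := ‹DirectSum.Decomposition (I.Hgr mR n)›
  letI i4 : Module k (EM'.H a' n) := ‹Module k (EM.H mR n)›
  letI i5 : IsScalarTower k R (EM'.H a' n) := ‹IsScalarTower k R (EM.H mR n)›
  letI i6 : DirectSum.Decomposition (EM'.Hgr a' n) := ‹DirectSum.Decomposition (EM.Hgr mR n)›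
  let βK' : K →ₗ[k] I'.H a' n →ₗ[k] k := βK
  let βD' : D →ₗ[k] EM'.H a' n →ₗ[k] k := βD
  have hK' : GrSeg.IsGDual R (I'.Hgr a' n) 𝒦 βK' := hK
  have hD' : GrSeg.IsGDual R (EM'.Hgr a' n) 𝒟 βD' := hD
  obtain ⟨ε, hε⟩ := Lib.Helper8.GrDualLocal.local_duality (𝒜 := 𝒜') a' n hGV I' 𝒦 hK' ℳ' EM' 𝒟 hD'
  exact ⟨ε, fun e d hd => hε e d hd⟩

end Groth.Agent.S19759
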