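import Groth.Statements.S1976
import Mathlib
import Groth.Agent.Lib.Helper27.WeaklyEtaleField
import Groth.Agent.Lib.Helper82.IndEtale
import Groth.Agent.Lib.Helper87.IndEtaleConv

set_option autoImplicit false
universe u
open CategoryTheory
open EtAlg

namespace Groth.Agent.S1976


open Groth.Agent.Lib.Helper27.WeaklyEtaleField in
theorem covered (K : Type u) [Field K] (B : Type u) [CommRing B] [Algebra K B]
    [Algebra.WeaklyEtale K B] : Groth.Agent.Lib.Helper87.IndEt.CoveredByEtale K B := by
  intro b
  have hfg : (Algebra.adjoin K ({b} : Set B)).FG := ⟨{b}, by simp⟩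
  refine ⟨Algebra.adjoin K ({b} : Set B), inferInstance, inferInstance,
    etale_subalgebra_of_fg _ hfg, (Algebra.adjoin K ({b} : Set B)).val, ?_⟩
  exact ⟨⟨b, Algebra.subset_adjoin rfl⟩, rfl⟩

open Groth.Agent.Lib.Helper27.WeaklyEtaleField in
theorem kills (K : Type u) [Field K] (B : Type u) [CommRing B] [Algebra K B]
    [Algebra.WeaklyEtale K B] : Groth.Agent.Lib.Helper87.IndEt.KillsRelations K B := by
  intro A _ _ _ f a ha
  have hfg : f.range.FG := by
    rw [← Algebra.map_top]
    exact Subalgebra.FG.map f Algebra.FiniteType.out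
  refine ⟨f.range, inferInstance, inferInstance, etale_subalgebra_of_fg _ hfg,
    f.rangeRestrict, f.range.val, ?_, ?_⟩
  · ext x
    rfl
  · apply Subtype.ext
    exact ha

/-- (2) ⇔ (3): a K-algebra B over a field K is weakly etale exactly when it can be written as a filtered
colimit of etale K-algebras, and in that case its finitely generated K-subalgebras are etale. -/
theorem result (K : Type u) [Field K] (B : Type u) [CommRing B] [Algebra K B] :
    (Algebra.WeaklyEtale K B ↔ EtPBC.IsIndEtale K B) ∧
    (Algebra.WeaklyEtale K B → ∀ S : Subalgebra K B, S.FG → Algebra.Etale K S) := by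
  refine ⟨⟨fun h => ?_, fun h => Groth.Agent.Lib.Helper82.weaklyEtale_of_isIndEtale h⟩, ?_⟩
  · exact Groth.Agent.Lib.Helper87.IndEt.hasPres_iff.mpr ⟨covered K B, kills K B⟩
  · intro h S hS
    exact Groth.Agent.Lib.Helper27.WeaklyEtaleField.etale_subalgebra_of_fg S hS

end Groth.Agent.S1976
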