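import Groth.Statements.S19762
import Mathlib
import Groth.Agent.Lib.Helper93.Segre
import Groth.Agent.Lib.Helper93.GrDual

set_option autoImplicit false
universe u
open GrDual

namespace Groth.Agent.S19762

/-- Let R = ⊕_{n ≥ 0} R_n be a Noetherian graded ring with R_0 = k a field. The graded k-dual is an
equivalence between Noetherian graded R-modules and the opposite category of Artinian graded
R-modules; on morphisms: for finitely generated graded R-modules F and M, every homomorphism of
graded R-modules g : M^* → F^* is f^* for a unique homomorphism of graded R-modules f : F → M. Here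
a graded ring defined over k is a commutative k-algebra of finite type, graded in nonnegative
degrees by k-subspaces with degree-zero part k·1, and R_+ is the ideal spanned by the R_n with n > 0
(a Noetherian such ring is the same as one of finite type over k); the graded k-dual M^* = ⊕_n
Hom_k(M_{−n}, k) of a graded R-module M (with r ∈ R acting by (r f)(x) = f(r x)) is presented
abstractly as a graded R-module D with a k-bilinear pairing β : D × M → k compatible with the
R-actions, under which D_n pairs to zero with M_m for m ≠ −n and is identified with the full dual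
space of M_{−n}; f^* = g means β_F(g d, x) = β_M(d, f x) for all d and x. -/
theorem result (k : Type u) [Field k] (R : Type u) [CommRing R] [Algebra k R] (𝒜 : ℤ → Submodule k R) [GradedAlgebra 𝒜] (hposR : ∀ n : ℤ, n < 0 → 𝒜 n = ⊥) (h0R : 𝒜 0 = Submodule.span k {(1 : R)}) [Algebra.FiniteType k R] (F : Type u) [AddCommGroup F] [Module R F] [Module k F] [IsScalarTower k R F] (ℱ : ℤ → AddSubgroup F) [DirectSum.Decomposition ℱ] [SetLike.GradedSMul 𝒜 ℱ] [Module.Finite R F] (M : Type u) [AddCommGroup M] [Module R M] [Module k M] [IsScalarTower k R M] (ℳ : ℤ → AddSubgroup M) [DirectSum.Decomposition ℳ] [SetLike.GradedSMul 𝒜 ℳ] [Module.Finite R M] (DM : Type u) [AddCommGroup DM] [Module R DM] [Module k DM] [IsScalarTower k R DM] (𝒟M : ℤ → AddSubgroup DM) [DirectSum.Decomposition 𝒟M] [SetLike.GradedSMul 𝒜 𝒟M] (βM : DM →ₗ[k] M →ₗ[k] k) (hDM : GrSeg.IsGDual R ℳ 𝒟M βM) (DF : Type u) [AddCommGroup DF] [Module R DF] [Module k DF] [IsScalarTower k R DF] (𝒟F : ℤ → AddSubgroup DF) [DirectSum.Decomposition 𝒟F] [SetLike.GradedSMul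 𝒜 𝒟F] (βF : DF →ₗ[k] F →ₗ[k] k) (hDF : GrSeg.IsGDual R ℱ 𝒟F βF) (g : DM →ₗ[R] DF) (hg : GrLC.IsGrHom 𝒟M 𝒟F g) : ∃! f : F →ₗ[R] M, GrLC.IsGrHom ℱ ℳ f ∧ GrSeg.IsGDualMap βM βF f g := by
  classical
  have hMM : ∀ (i j : ℤ) (a : R) (x : M), a ∈ 𝒜 i → x ∈ ℳ j → a • x ∈ ℳ (i + j) := by
    intro i j a x ha hx
    have h := SetLike.GradedSMul.smul_mem (A := 𝒜) (B := ℳ) ha hx
    rwa [vadd_eq_add] at h
  have hDMs : ∀ (i j : ℤ) (a : R) (x : DM), a ∈ 𝒜 i → x ∈ 𝒟M j → a • x ∈ 𝒟M (i + j) := by
    intro i j a x ha hx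
    have h := SetLike.GradedSMul.smul_mem (A := 𝒜) (B := 𝒟M) ha hx
    rwa [vadd_eq_add] at h
  haveI hNoeth : IsNoetherianRing R := Algebra.FiniteType.isNoetherianRing k R
  have hex' : ∀ (n : ℤ) (x : F), x ∈ ℱ n →
      ∃ y ∈ ℳ n, ∀ d : DM, βM d y = βF (g d) x := by
    intro n x hx
    let G : DM →ₗ[k] k := (βF.flip x) ∘ₗ (g.restrictScalars k)
    have hG : ∀ d, G d = βF (g d) x := fun d => rfl
    obtain ⟨y, hy, hyG⟩ := Lib.Helper93.GrDual.flip_exists_eq 𝒜 ℳ 𝒟M hMM hDMs hDM hposR h0R n G
    refine ⟨y, hy, fun d => ?_⟩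
    induction d using DirectSum.Decomposition.inductionOn 𝒟M with
    | zero => simp
    | add d1 d2 h1 h2 => rw [map_add, LinearMap.add_apply, h1, h2, map_add, map_add,
        LinearMap.add_apply]
    | homogeneous d =>
      rename_i j
      by_cases hj : j = -n
      · subst hj
        rw [hyG d d.2, hG]
      · rw [hDM.vanish j d d.2 n (fun h => hj (by omega)) y hy]
        exact (hDF.vanish j (g d) (hg j d d.2) n (fun h => hj (by omega)) x hx).symm
  have hex : ∀ x : F, ∃ y : M, ∀ d : DM, βM d y = βF (g d) x := by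
    intro x
    induction x using DirectSum.Decomposition.inductionOn ℱ with
    | zero => exact ⟨0, fun d => by simp⟩
    | add x1 x2 h1 h2 =>
      obtain ⟨y1, e1⟩ := h1
      obtain ⟨y2, e2⟩ := h2
      exact ⟨y1 + y2, fun d => by rw [map_add, e1, e2, map_add]⟩
    | homogeneous x =>
      rename_i n
      obtain ⟨y, _, hy⟩ := hex' n x x.2
      exact ⟨y, hy⟩
  choose h hh using hex
  have huniq : ∀ (x : F) (y : M), (∀ d : DM, βM d y = βF (g d) x) → h x = y := by
    intro x y hy
    rw [← sub_eq_zero]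
    apply Lib.Helper93.GrDual.flip_separates ℳ 𝒟M hDM
    intro d
    rw [map_sub, hh x d, hy d, sub_self]
  let f : F →ₗ[R] M :=
    { toFun := h
      map_add' := by
        intro x1 x2
        apply huniq
        intro d
        rw [map_add, hh x1 d, hh x2 d, map_add]
      map_smul' := by
        intro r x
        apply huniq
        intro d
        rw [RingHom.id_apply, ← hDM.map_smul, hh x (r • d), map_smul, hDF.map_smul] }
  refine ⟨f, ⟨?_, ?_⟩, ?_⟩
  · intro n x hx
    obtain ⟨y, hy, hyβ⟩ := hex' n x hx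
    change h x ∈ ℳ n
    rw [huniq x y hyβ]
    exact hy
  · intro d x
    exact (hh x d).symm
  · rintro f' ⟨_, hf'⟩
    apply LinearMap.ext
    intro x
    change f' x = h x
    symm
    apply huniq
    intro d
    exact (hf' d x).symm

end Groth.Agent.S19762
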