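import Groth.Statements.S19766
import Groth.Agent.Lib.Helper14.KLCalc
import Mathlib

set_option autoImplicit false
universe u
open CategoryTheory MonoidalCategory CartesianMonoidalCategory MonObj GrpObj AlgebraicGeometry
open AbVar

namespace Groth.Agent.S19766

section
open CategoryTheory MonoidalCategory CartesianMonoidalCategory MonObj GrpObj AlgebraicGeometry
open Groth.Agent.Lib.Helper14.PicCalc Groth.Agent.Lib.Helper14.KLCalc

theorem cg1 {G : Type*} [CommGroup G] (p q f : G) : p * q⁻¹ * f * q = f * p := by
  rw [_root_.mul_comm p, _root_.mul_assoc, _root_.mul_assoc, _root_.mul_comm q⁻¹,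
    _root_.mul_assoc, _root_.mul_assoc, mul_inv_cancel, _root_.mul_one, _root_.mul_comm]

theorem cg2 {G : Type*} [CommGroup G] (p q f : G) : f * (p * q) = p * f * q := by
  rw [← _root_.mul_assoc, _root_.mul_comm f p]

theorem main (k : Type u) [Field k] (X : Over (Spec (CommRingCat.of k)))
    [GrpObj X] (L : X.left.Modules) (hL : PicF.IsInvertible L)
    (K : Over (Spec (CommRingCat.of k))) (i : K ⟶ X) (hK : ThetaGrp.IsKL X L i)
    (T : Over (Spec (CommRingCat.of k))) (x : T ⟶ X) :
    (∃ y : T ⟶ K, y ≫ i = x) ↔ ∃ M : T.left.Modules, PicF.IsInvertible M ∧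
      Nonempty (CohB1.tensorMod ((Scheme.Modules.pullback (fst X T).left).obj L)
          ((Scheme.Modules.pullback (snd X T).left).obj M) ≅
        (Scheme.Modules.pullback (ThetaGrp.transl X x ≫ fst X T).left).obj L) := by
  rw [← hK.univ T x, isMumfordTriv_iff hL x]
  have hsx : cls (Pic.mk L hL) (snd X T ≫ x) = pull (snd X T).left (cls (Pic.mk L hL) x) :=
    (pull_cls _ _ _).symm
  constructor
  · rintro ⟨m, hm⟩
    obtain ⟨M, hM, hMm⟩ := Pic.exists_rep (m * cls (Pic.mk L hL) x)
    refine ⟨M, hM, ?_⟩
    have h1 : cls (Pic.mk L hL) (fst X T) * pull (snd X T).left (Pic.mk M hM) =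
        cls (Pic.mk L hL) (ThetaGrp.transl X x ≫ fst X T) := by
      rw [ThetaGrp.transl_fst, ← hm, ← hMm, map_mul, hsx]
      exact cg2 _ _ _
    exact (Pic.mk_mul_eq_iff
      (Groth.Agent.Lib.Helper35.PbInv.isInvertible_pullback (fst X T).left hL)
      (Groth.Agent.Lib.Helper35.PbInv.isInvertible_pullback (snd X T).left hM)
      (Groth.Agent.Lib.Helper35.PbInv.isInvertible_pullback
        (ThetaGrp.transl X x ≫ fst X T).left hL)).1 h1
  · rintro ⟨M, hM, h⟩
    have h1 : cls (Pic.mk L hL) (fst X T) * pull (snd X T).left (Pic.mk M hM) =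
        cls (Pic.mk L hL) (ThetaGrp.transl X x ≫ fst X T) :=
      (Pic.mk_mul_eq_iff
        (Groth.Agent.Lib.Helper35.PbInv.isInvertible_pullback (fst X T).left hL)
        (Groth.Agent.Lib.Helper35.PbInv.isInvertible_pullback (snd X T).left hM)
        (Groth.Agent.Lib.Helper35.PbInv.isInvertible_pullback
          (ThetaGrp.transl X x ≫ fst X T).left hL)).2 h
    refine ⟨Pic.mk M hM * (cls (Pic.mk L hL) x)⁻¹, ?_⟩
    rw [ThetaGrp.transl_fst] at h1
    rw [← h1, hsx, map_mul, map_inv]
    exact cg1 _ _ _

end

/-- Let X be an abelian variety over a field k (a proper, geometrically integral k-group scheme), L an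
invertible O_X-module, and i : K → X a closed immersion exhibiting K as K(L): the maximal closed
subscheme of X over which the Mumford bundle m^*L ⊗ p_1^*L⁻¹ ⊗ p_2^*L⁻¹ on X ×_k X, restricted to X
×_k K, is the inverse image of an invertible module on K, with its universal property for morphisms
T → X. Let T be a k-scheme and x : T → X a T-valued point, t_x : X_T → X_T the translation by x and
L_T the inverse image of L on X_T = X ×_k T. Then x factors through i if and only if t_x^*L_T ⊗
L_T⁻¹ is the inverse image of a line bundle on T, stated without inverses: there is an invertible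
O_T-module M with L_T ⊗ pr_T^*M ≅ t_x^*L_T. -/
theorem result (k : Type u) [Field k] (X : Over (Spec (CommRingCat.of k)))
    [GrpObj X] [IsProper X.hom] [GeometricallyIntegral X.hom] (L : X.left.Modules) (hL : PicF.IsInvertible L)
    (K : Over (Spec (CommRingCat.of k))) (i : K ⟶ X) (hK : ThetaGrp.IsKL X L i)
    (T : Over (Spec (CommRingCat.of k))) (x : T ⟶ X) :
    (∃ y : T ⟶ K, y ≫ i = x) ↔ ∃ M : T.left.Modules, PicF.IsInvertible M ∧
      Nonempty (CohB1.tensorMod ((Scheme.Modules.pullback (fst X T).left).obj L)
          ((Scheme.Modules.pullback (snd X T).left).obj M) ≅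
        (Scheme.Modules.pullback (ThetaGrp.transl X x ≫ fst X T).left).obj L) := by
  exact Groth.Agent.S19766.main k X L hL K i hK T x

end Groth.Agent.S19766
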