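import Groth.Statements.S19767
import Groth.Agent.Lib.Helper14.KLCalc
import Mathlib

set_option autoImplicit false
universe u
open CategoryTheory MonoidalCategory CartesianMonoidalCategory MonObj GrpObj AlgebraicGeometry
open AbVar

namespace Groth.Agent.S19767

section
open CategoryTheory MonoidalCategory CartesianMonoidalCategory MonObj GrpObj AlgebraicGeometry
open Groth.Agent.Lib.Helper14.PicCalc Groth.Agent.Lib.Helper14.KLCalc

theorem main (k : Type u) [Field k] (X : Over (Spec (CommRingCat.of k)))
    [GrpObj X] (L : X.left.Modules) (hL : PicF.IsInvertible L)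
    (T : Over (Spec (CommRingCat.of k))) (x : T ⟶ X) (M : T.left.Modules)
    (h : Nonempty (CohB1.tensorMod ((Scheme.Modules.pullback (fst X T).left).obj L)
          ((Scheme.Modules.pullback (snd X T).left).obj M) ≅
        (Scheme.Modules.pullback (ThetaGrp.transl X x ≫ fst X T).left).obj L)) :
    Nonempty (M ≅ (Scheme.Modules.pullback x.left).obj L) := by
  have hP := Groth.Agent.Lib.Helper35.PbInv.isInvertible_pullback (fst X T).left hL
  have hR := Groth.Agent.Lib.Helper35.PbInv.isInvertible_pullback
    (ThetaGrp.transl X x ≫ fst X T).left hL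
  have hN : PicF.IsInvertible ((Scheme.Modules.pullback (snd X T).left).obj M) :=
    nonempty_iso_of_tensor_iso hP hR h
  have hes : (unitSec (X := X) T).left ≫ (snd X T).left = 𝟙 T.left := by
    have := congrArg (fun f => f.left) (unitSec_snd (X := X) T)
    exact this
  have hM : PicF.IsInvertible M :=
    Groth.Agent.Lib.Helper35.ModRestrict.isInvertible_of_iso
      (Groth.Agent.Lib.Helper35.VA.pbCompIso (unitSec (X := X) T).left (snd X T).left (𝟙 T.left)
        hes M ≪≫ (Scheme.Modules.pullbackId T.left).app M)
      (Groth.Agent.Lib.Helper35.PbInv.isInvertible_pullback (unitSec (X := X) T).left hN)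
  have h1 : cls (Pic.mk L hL) (fst X T) * pull (snd X T).left (Pic.mk M hM) =
      cls (Pic.mk L hL) (ThetaGrp.transl X x ≫ fst X T) :=
    (Pic.mk_mul_eq_iff hP (Groth.Agent.Lib.Helper35.PbInv.isInvertible_pullback (snd X T).left hM)
      hR).2 h
  have h2 := congrArg (pull (unitSec (X := X) T).left) h1
  rw [map_mul, pull_cls, pull_cls, pull_pull_over _ _ (𝟙 T) (unitSec_snd T), pull_id_over,
    unitSec_fst, cls_one, _root_.one_mul] at h2
  have h3 : unitSec (X := X) T ≫ ThetaGrp.transl X x ≫ fst X T = x := by
    rw [ThetaGrp.transl_fst, MonObj.comp_mul, unitSec_fst, _root_.one_mul, ← Category.assoc, unitSec_snd,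
      Category.id_comp]
  rw [h3] at h2
  exact (Pic.mk_eq_mk _ _).1 h2

end

/-- Let X be an abelian variety over a field k (a proper, geometrically integral k-group scheme), L an
invertible O_X-module, T a k-scheme, x : T → X a T-valued point with translation t_x : X_T → X_T,
and L_T the inverse image of L on X_T = X ×_k T. If an O_T-module M satisfies L_T ⊗ pr_T^*M ≅
t_x^*L_T (that is, t_x^*L_T ⊗ L_T⁻¹ ≅ pr_T^*M), then M ≅ x^*L (existence of an isomorphism). (The
published statement takes M invertible; invertibility is not needed.) -/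
theorem result (k : Type u) [Field k] (X : Over (Spec (CommRingCat.of k)))
    [GrpObj X] [IsProper X.hom] [GeometricallyIntegral X.hom] (L : X.left.Modules) (hL : PicF.IsInvertible L)
    (T : Over (Spec (CommRingCat.of k))) (x : T ⟶ X) (M : T.left.Modules)
    (h : Nonempty (CohB1.tensorMod ((Scheme.Modules.pullback (fst X T).left).obj L)
          ((Scheme.Modules.pullback (snd X T).left).obj M) ≅
        (Scheme.Modules.pullback (ThetaGrp.transl X x ≫ fst X T).left).obj L)) :
    Nonempty (M ≅ (Scheme.Modules.pullback x.left).obj L) := by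
  exact Groth.Agent.S19767.main k X L hL T x M h

end Groth.Agent.S19767
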