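import Groth.Statements.S19768
import Groth.Agent.Lib.Helper14.KLCalc
import Mathlib

set_option autoImplicit false
universe u
open CategoryTheory MonoidalCategory CartesianMonoidalCategory MonObj GrpObj AlgebraicGeometry
open AbVar

namespace Groth.Agent.S19768

section
open CategoryTheory MonoidalCategory CartesianMonoidalCategory MonObj GrpObj AlgebraicGeometry
open Groth.Agent.Lib.Helper14.PicCalc Groth.Agent.Lib.Helper14.KLCalc

theorem mumford_unit (k : Type u) [Field k] (X : Over (Spec (CommRingCat.of k)))
    [GrpObj X] (L : X.left.Modules) (hL : PicF.IsInvertible L)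
    (K : Over (Spec (CommRingCat.of k))) (i : K ⟶ X) (hK : ThetaGrp.IsMumfordTriv X L i) :
    cls (Pic.mk L hL) (fst X K) * cls (Pic.mk L hL) (snd X K ≫ i) =
      cls (Pic.mk L hL) (fst X K * (snd X K ≫ i)) := by
  obtain ⟨m, hm⟩ := (isMumfordTriv_iff hL i).1 hK
  have h2 := congrArg (pull (unitSec (X := X) K).left) hm
  rw [map_mul, map_mul, pull_cls, pull_cls, pull_cls,
    pull_pull_over _ _ (𝟙 K) (unitSec_snd K), pull_id_over, unitSec_fst, cls_one,
    MonObj.comp_mul, unitSec_fst, ← Category.assoc, unitSec_snd, Category.id_comp,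
    _root_.mul_one, _root_.one_mul] at h2
  have hm1 : m = 1 := mul_eq_right.mp h2
  rw [hm1, map_one, _root_.one_mul] at hm
  exact hm

theorem main (k : Type u) [Field k] (X : Over (Spec (CommRingCat.of k)))
    [GrpObj X] (L : X.left.Modules) (hL : PicF.IsInvertible L)
    (K : Over (Spec (CommRingCat.of k))) (i : K ⟶ X) (hK : ThetaGrp.IsKL X L i) :
    AgPol.IsLambdaSheaf ((X ◁ i) ≫ μ[X]).left (fst X K).left (snd X K ≫ i).left L
      (Coh.structureModule (X ⊗ K).left) := by
  have h0 : ThetaGrp.IsMumfordTriv X L i := (hK.univ K i).2 ⟨𝟙 K, Category.id_comp i⟩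
  have h1 := mumford_unit k X L hL K i h0
  rw [← whiskerLeft_comp_mul] at h1
  have h2 : (1 : Pic (X ⊗ K).left) * cls (Pic.mk L hL) (fst X K) *
      cls (Pic.mk L hL) (snd X K ≫ i) = cls (Pic.mk L hL) ((X ◁ i) ≫ μ[X]) := by
    rw [_root_.one_mul]
    exact h1
  exact (Pic.mk_mul_eq_iff
      (Groth.Agent.Lib.Lead.Inv.isInvertible_tensorMod
        (Groth.Agent.Lib.Helper35.InvPush.isInvertible_structureModule _)
        (Groth.Agent.Lib.Helper35.PbInv.isInvertible_pullback (fst X K).left hL))
      (Groth.Agent.Lib.Helper35.PbInv.isInvertible_pullback (snd X K ≫ i).left hL)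
      (Groth.Agent.Lib.Helper35.PbInv.isInvertible_pullback ((X ◁ i) ≫ μ[X]).left hL)).1 h2

end

/-- Let X be an abelian variety over a field k (a proper, geometrically integral k-group scheme), L an
invertible O_X-module, and i : K → X a closed immersion exhibiting K as K(L) (the maximal closed
subscheme over which the Mumford bundle Λ(L) = m^*L ⊗ p_1^*L⁻¹ ⊗ p_2^*L⁻¹, restricted to X ×_k K, is
the inverse image of an invertible module on K, with its universal property). Then Λ(L) restricted
to X ×_k K is trivial, and not only pulled back from K. Stated without inverses: on X ×_k K, with p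
and q the two projections and m' : (a, z) ↦ a · i(z), one has O ⊗ p^*L ⊗ (i ∘ q)^*L ≅ m'^*L. -/
theorem result (k : Type u) [Field k] (X : Over (Spec (CommRingCat.of k)))
    [GrpObj X] [IsProper X.hom] [GeometricallyIntegral X.hom] (L : X.left.Modules) (hL : PicF.IsInvertible L)
    (K : Over (Spec (CommRingCat.of k))) (i : K ⟶ X) (hK : ThetaGrp.IsKL X L i) :
    AgPol.IsLambdaSheaf ((X ◁ i) ≫ μ[X]).left (fst X K).left (snd X K ≫ i).left L
      (Coh.structureModule (X ⊗ K).left) := by
  exact Groth.Agent.S19768.main k X L hL K i hK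

end Groth.Agent.S19768
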