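import Groth.Statements.S19769
import Groth.Agent.Lib.Helper14.KLCalc
import Mathlib

set_option autoImplicit false
universe u
open CategoryTheory MonoidalCategory CartesianMonoidalCategory MonObj GrpObj AlgebraicGeometry
open AbVar

namespace Groth.Agent.S19769

section
open CategoryTheory MonoidalCategory CartesianMonoidalCategory MonObj GrpObj AlgebraicGeometry
open Groth.Agent.Lib.Helper14.PicCalc Groth.Agent.Lib.Helper14.KLCalc

theorem ag1 {G : Type*} [AddCommGroup G] (a₁ a₂ F c₁ c₂ c : G) :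
    (a₂ + a₁ + c₁ + c₂ + -c) + F + c = a₂ + (a₁ + F + c₁) + c₂ := by abel

theorem cg1 {G : Type*} [CommGroup G] (a₁ a₂ F c₁ c₂ c : G) :
    (a₂ * a₁ * c₁ * c₂ * c⁻¹) * F * c = a₂ * (a₁ * F * c₁) * c₂ :=
  ag1 (G := Additive G) a₁ a₂ F c₁ c₂ c

theorem ag2 {G : Type*} [AddCommGroup G] (P R Q F D : G) (h : P + R + Q = F) :
    (-P + -Q + -D) + F + D = R := by
  rw [← h]
  abel

theorem cg2 {G : Type*} [CommGroup G] (P R Q F D : G) (h : P * R * Q = F) :
    (P⁻¹ * Q⁻¹ * D⁻¹) * F * D = R :=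
  ag2 (G := Additive G) P R Q F D h

variable {k : Type u} [Field k] {X : Over (Spec (CommRingCat.of k))} [GrpObj X]

def TrivCond (ℓ : Pic X.left) {T : Over (Spec (CommRingCat.of k))} (x : T ⟶ X) : Prop :=
  ∃ m : Pic T.left, pull (snd X T).left m * cls ℓ (fst X T) * cls ℓ (snd X T ≫ x) =
    cls ℓ (fst X T * (snd X T ≫ x))

omit [GrpObj X] in
theorem cls_snd_comp (ℓ : Pic X.left) {T : Over (Spec (CommRingCat.of k))} (x : T ⟶ X) :
    cls ℓ (snd X T ≫ x) = pull (snd X T).left (cls ℓ x) :=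
  (pull_cls _ _ _).symm

theorem trivCond_mul (ℓ : Pic X.left) {T : Over (Spec (CommRingCat.of k))} (x₁ x₂ : T ⟶ X)
    (h₁ : TrivCond ℓ x₁) (h₂ : TrivCond ℓ x₂) : TrivCond ℓ (x₁ * x₂) := by
  obtain ⟨m₁, hm₁⟩ := h₁
  obtain ⟨m₂, hm₂⟩ := h₂
  have h := congrArg (pull (ThetaGrp.transl X x₁).left) hm₂
  rw [map_mul, map_mul, pull_cls, pull_cls, pull_cls,
    pull_pull_over _ _ (snd X T) (ThetaGrp.transl_snd X x₁), MonObj.comp_mul,
    ← Category.assoc, ThetaGrp.transl_snd, ThetaGrp.transl_fst, ← hm₁] at h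
  have e : fst X T * snd X T ≫ x₁ * snd X T ≫ x₂ = fst X T * snd X T ≫ (x₁ * x₂) := by
    rw [MonObj.comp_mul, _root_.mul_assoc]
  refine ⟨m₂ * m₁ * cls ℓ x₁ * cls ℓ x₂ * (cls ℓ (x₁ * x₂))⁻¹, ?_⟩
  rw [← e, ← h, cls_snd_comp ℓ x₁, cls_snd_comp ℓ x₂, cls_snd_comp ℓ (x₁ * x₂), map_mul, map_mul,
    map_mul, map_mul, map_inv]
  exact cg1 _ _ _ _ _ _

theorem trivCond_one (ℓ : Pic X.left) (T : Over (Spec (CommRingCat.of k))) :
    TrivCond ℓ (1 : T ⟶ X) := by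
  refine ⟨1, ?_⟩
  rw [MonObj.comp_one, _root_.mul_one, cls_one, map_one, _root_.one_mul, _root_.mul_one]

theorem trivCond_inv (ℓ : Pic X.left) {T : Over (Spec (CommRingCat.of k))} (x : T ⟶ X)
    (h₁ : TrivCond ℓ x) : TrivCond ℓ x⁻¹ := by
  obtain ⟨m, hm⟩ := h₁
  have h := congrArg (pull (ThetaGrp.transl X x⁻¹).left) hm
  rw [map_mul, map_mul, pull_cls, pull_cls, pull_cls,
    pull_pull_over _ _ (snd X T) (ThetaGrp.transl_snd X x⁻¹), MonObj.comp_mul,
    ← Category.assoc, ThetaGrp.transl_snd, ThetaGrp.transl_fst, GrpObj.comp_inv,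
    inv_mul_cancel_right] at h
  refine ⟨m⁻¹ * (cls ℓ x)⁻¹ * (cls ℓ x⁻¹)⁻¹, ?_⟩
  rw [cls_snd_comp ℓ x] at h
  rw [cls_snd_comp ℓ x⁻¹, map_mul, map_mul, map_inv, map_inv, map_inv, GrpObj.comp_inv]
  exact cg2 _ _ _ _ _ h

theorem main (k : Type u) [Field k] (X : Over (Spec (CommRingCat.of k)))
    [GrpObj X] (L : X.left.Modules) (hL : PicF.IsInvertible L)
    (K : Over (Spec (CommRingCat.of k))) (i : K ⟶ X) (hK : ThetaGrp.IsKL X L i)
    (T : Over (Spec (CommRingCat.of k))) :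
    (∀ y₁ y₂ : T ⟶ K, ∃ y : T ⟶ K, y ≫ i = (y₁ ≫ i) * (y₂ ≫ i)) ∧
      (∃ y : T ⟶ K, y ≫ i = 1) ∧
      (∀ y₁ : T ⟶ K, ∃ y : T ⟶ K, y ≫ i = (y₁ ≫ i)⁻¹) := by
  have key : ∀ z : T ⟶ X, (∃ y : T ⟶ K, y ≫ i = z) ↔ TrivCond (Pic.mk L hL) z := by
    intro z
    rw [← hK.univ T z, isMumfordTriv_iff hL z]
    rfl
  refine ⟨fun y₁ y₂ => ?_, ?_, fun y₁ => ?_⟩
  · exact (key _).2 (trivCond_mul _ _ _ ((key _).1 ⟨y₁, rfl⟩) ((key _).1 ⟨y₂, rfl⟩))
  · exact (key _).2 (trivCond_one _ T)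
  · exact (key _).2 (trivCond_inv _ _ ((key _).1 ⟨y₁, rfl⟩))

end

/-- Let X be an abelian variety over a field k (a proper, geometrically integral k-group scheme), L an
invertible O_X-module, and i : K → X a closed immersion exhibiting K as K(L) (the maximal closed
subscheme over which the Mumford bundle m^*L ⊗ p_1^*L⁻¹ ⊗ p_2^*L⁻¹, restricted to X ×_k K, is the
inverse image of an invertible module on K, with its universal property). Then K is a subgroup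
scheme of X: for every k-scheme T, the set of T-valued points of X that factor through i is closed
under the group law of X(T), contains the unit, and is closed under inversion. -/
theorem result (k : Type u) [Field k] (X : Over (Spec (CommRingCat.of k)))
    [GrpObj X] [IsProper X.hom] [GeometricallyIntegral X.hom] (L : X.left.Modules) (hL : PicF.IsInvertible L)
    (K : Over (Spec (CommRingCat.of k))) (i : K ⟶ X) (hK : ThetaGrp.IsKL X L i)
    (T : Over (Spec (CommRingCat.of k))) :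
    (∀ y₁ y₂ : T ⟶ K, ∃ y : T ⟶ K, y ≫ i = (y₁ ≫ i) * (y₂ ≫ i)) ∧
      (∃ y : T ⟶ K, y ≫ i = 1) ∧
      (∀ y₁ : T ⟶ K, ∃ y : T ⟶ K, y ≫ i = (y₁ ≫ i)⁻¹) := by
  exact Groth.Agent.S19769.main k X L hL K i hK T

end Groth.Agent.S19769
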