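import Groth.Statements.S19770
import Groth.Agent.Lib.Helper14.KLCalc
import Groth.Agent.S19768
import Mathlib

set_option autoImplicit false
universe u
open CategoryTheory MonoidalCategory CartesianMonoidalCategory MonObj GrpObj AlgebraicGeometry
open AbVar

namespace Groth.Agent.S19770

section
open CategoryTheory MonoidalCategory CartesianMonoidalCategory MonObj GrpObj AlgebraicGeometry
open Groth.Agent.Lib.Helper14.PicCalc Groth.Agent.Lib.Helper14.KLCalc

theorem main (k : Type u) [Field k] (X : Over (Spec (CommRingCat.of k)))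
    [GrpObj X] (L : X.left.Modules) (hL : PicF.IsInvertible L)
    (K : Over (Spec (CommRingCat.of k))) (i : K ⟶ X) (hK : ThetaGrp.IsKL X L i)
    (B : Over (Spec (CommRingCat.of k))) [GrpObj B] (j : B ⟶ X) [IsMonHom j]
    (hj : ∃ y : B ⟶ K, y ≫ i = j) :
    Nonempty (CohB1.tensorMod ((Scheme.Modules.pullback j.left).obj L)
        ((Scheme.Modules.pullback ((𝟙 B)⁻¹ ≫ j).left).obj L) ≅ Coh.structureModule B.left) := by
  have h0 : ThetaGrp.IsMumfordTriv X L j := (hK.univ B j).2 hj
  have h1 := Groth.Agent.S19768.mumford_unit k X L hL B j h0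
  have h2 := congrArg (pull (lift ((𝟙 B)⁻¹ ≫ j) (𝟙 B) : B ⟶ X ⊗ B).left) h1
  rw [map_mul, pull_cls, pull_cls, pull_cls, MonObj.comp_mul, lift_fst, ← Category.assoc,
    lift_snd, Category.id_comp] at h2
  have h3 : ((𝟙 B)⁻¹ ≫ j) * j = 1 := by
    have : ((𝟙 B)⁻¹ ≫ j) * j = ((𝟙 B)⁻¹ * 𝟙 B) ≫ j := by
      rw [MonObj.mul_comp, Category.id_comp]
    rw [this, inv_mul_cancel, MonObj.one_comp]
  rw [h3, cls_one, _root_.mul_comm] at h2
  exact (Pic.mk_mul_eq_iff
      (Groth.Agent.Lib.Helper35.PbInv.isInvertible_pullback j.left hL)
      (Groth.Agent.Lib.Helper35.PbInv.isInvertible_pullback ((𝟙 B)⁻¹ ≫ j).left hL)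
      (Groth.Agent.Lib.Helper35.InvPush.isInvertible_structureModule _)).1 h2

end

/-- Let X be an abelian variety over a field k (a proper, geometrically integral k-group scheme), L an
invertible O_X-module, i : K → X a closed immersion exhibiting K as K(L) (the maximal closed
subscheme over which the Mumford bundle m^*L ⊗ p_1^*L⁻¹ ⊗ p_2^*L⁻¹, restricted to X ×_k K, is the
inverse image of an invertible module on K, with its universal property), and B a k-group scheme
with a homomorphism j : B → X that factors through i. Write M = j^*L. Then M ⊗ [-1]^*M ≅ O_B, where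
[-1] : B → B is the inversion (existence of an isomorphism). (The published statement assumes k
algebraically closed and takes for B the reduced identity component of K(L), an abelian subvariety;
the argument — restrict the Mumford bundle to B × B and pull back along (1, -1) — applies to any
group scheme over k mapping homomorphically into K(L).) -/
theorem result (k : Type u) [Field k] (X : Over (Spec (CommRingCat.of k)))
    [GrpObj X] [IsProper X.hom] [GeometricallyIntegral X.hom] (L : X.left.Modules) (hL : PicF.IsInvertible L)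
    (K : Over (Spec (CommRingCat.of k))) (i : K ⟶ X) (hK : ThetaGrp.IsKL X L i)
    (B : Over (Spec (CommRingCat.of k))) [GrpObj B] (j : B ⟶ X) [IsMonHom j] (hj : ∃ y : B ⟶ K, y ≫ i = j) :
    Nonempty (CohB1.tensorMod ((Scheme.Modules.pullback j.left).obj L)
        ((Scheme.Modules.pullback ((𝟙 B)⁻¹ ≫ j).left).obj L) ≅ Coh.structureModule B.left) := by
  exact Groth.Agent.S19770.main k X L hL K i hK B j hj

end Groth.Agent.S19770
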