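import Groth.Statements.S1978
import Mathlib
import Groth.Agent.Lib.Helper27.SepBaseChange

set_option autoImplicit false
universe u
open TensorProduct
open EtAlg

namespace Groth.Agent.S1978

/-- Let L/K be a field extension and A a K-algebra. Then the largest weakly etale L-subalgebra of L ⊗_K
A is the L-subalgebra generated by the image of the largest weakly etale K-subalgebra of A. -/
theorem result (K L : Type u) [Field K] [Field L] [Algebra K L] (A : Type u) [CommRing A] [Algebra K A] :
    EtAlgD.maxWeaklyEtale L (L ⊗[K] A) =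
      Algebra.adjoin L ((Algebra.TensorProduct.includeRight : A →ₐ[K] L ⊗[K] A) '' (EtAlgD.maxWeaklyEtale K A : Set A)) := by
  have hK : EtAlgD.maxWeaklyEtale K A = Groth.Agent.Lib.Helper27.SepBaseChange.sepSubalgebra K A := rfl
  have hL : EtAlgD.maxWeaklyEtale L (L ⊗[K] A) =
      Groth.Agent.Lib.Helper27.SepBaseChange.sepSubalgebra L (L ⊗[K] A) := rfl
  rw [hK, hL]
  apply le_antisymm
  · intro z hz
    rw [Groth.Agent.Lib.Helper27.SepBaseChange.mem_sepSubalgebra_iff,
      ← Groth.Agent.Lib.Helper27.SepBaseChange.mem_sepSpan_iff_isSeparable] at hz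
    exact Algebra.span_le_adjoin L _ hz
  · rw [Algebra.adjoin_le_iff]
    rintro _ ⟨a, ha, rfl⟩
    rw [SetLike.mem_coe, Groth.Agent.Lib.Helper27.SepBaseChange.mem_sepSubalgebra_iff]
    exact Groth.Agent.Lib.Helper27.SepBaseChange.isSeparable_one_tmul
      (Groth.Agent.Lib.Helper27.SepBaseChange.mem_sepSubalgebra_iff.mp ha)

end Groth.Agent.S1978
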