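import Groth.Statements.S19799
import Mathlib.RingTheory.Unramified.Field
import Mathlib.RingTheory.Unramified.Pi
import Mathlib.RingTheory.Artinian.Module
import Mathlib.LinearAlgebra.TensorProduct.RightExactness
-- import your own Groth.Agent.* helpers here

set_option autoImplicit false
universe u v w
open scoped TensorProduct
open CAlg

namespace Groth.Agent.S19799

theorem formallyUnramified_quot_nilradical (k : Type u) [Field k] [IsAlgClosed k]
    (A : Type v) [CommRing A] [Algebra k A] [Module.Finite k A] :
    Algebra.FormallyUnramified k (A ⧸ nilradical A) := by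
  have : IsArtinianRing A := IsArtinianRing.of_finite k A
  have h : ∀ I : MaximalSpectrum A, Algebra.FormallyUnramified k (A ⧸ I.asIdeal) := by
    intro I
    let : Field (A ⧸ I.asIdeal) := Ideal.Quotient.field I.asIdeal
    have : Algebra.IsSeparable k (A ⧸ I.asIdeal) := inferInstance
    exact Algebra.FormallyUnramified.of_isSeparable k _
  have : Algebra.FormallyUnramified k (∀ I : MaximalSpectrum A, A ⧸ I.asIdeal) := inferInstance
  exact Algebra.FormallyUnramified.of_equiv
    ((IsArtinianRing.quotNilradicalEquivPi A).restrictScalars k).symm

theorem result (k : Type u) [Field k]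
    [IsAlgClosed k] (A : Type v) [CommRing A] [Algebra k A] [Module.Finite k A]
    (B : Type w) [CommRing B] [Algebra k B] [Module.Finite k B] :
    RingHom.ker (Algebra.TensorProduct.map (Ideal.Quotient.mkₐ k (nilradical A))
      (Ideal.Quotient.mkₐ k (nilradical B))).toRingHom = nilradical (A ⊗[k] B) := by
  have hred : IsReduced ((A ⧸ nilradical A) ⊗[k] (B ⧸ nilradical B)) := by
    have := formallyUnramified_quot_nilradical k A
    have := formallyUnramified_quot_nilradical k B
    have : Algebra.FormallyUnramified k ((A ⧸ nilradical A) ⊗[k] (B ⧸ nilradical B)) :=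
      Algebra.FormallyUnramified.comp k (A ⧸ nilradical A) _
    exact Algebra.FormallyUnramified.isReduced_of_field k _
  apply le_antisymm
  · have hA : Function.Surjective (Ideal.Quotient.mkₐ k (nilradical A)) :=
      Ideal.Quotient.mkₐ_surjective k _
    have hB : Function.Surjective (Ideal.Quotient.mkₐ k (nilradical B)) :=
      Ideal.Quotient.mkₐ_surjective k _
    have := Algebra.TensorProduct.map_ker (Ideal.Quotient.mkₐ k (nilradical A))
      (Ideal.Quotient.mkₐ k (nilradical B)) hA hB
    have key : RingHom.ker (Algebra.TensorProduct.map (Ideal.Quotient.mkₐ k (nilradical A))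
        (Ideal.Quotient.mkₐ k (nilradical B))) ≤ nilradical (A ⊗[k] B) := by
      rw [this]
      refine sup_le ?_ ?_
      · rw [Ideal.map_le_iff_le_comap]
        intro a ha
        have ha' : a ∈ nilradical A := by
          have := (RingHom.mem_ker).mp ha
          rwa [Ideal.Quotient.mkₐ_eq_mk, Ideal.Quotient.eq_zero_iff_mem] at this
        exact mem_nilradical.mpr ((mem_nilradical.mp ha').map _)
      · rw [Ideal.map_le_iff_le_comap]
        intro b hb
        have hb' : b ∈ nilradical B := by
          have := (RingHom.mem_ker).mp hb
          rwa [Ideal.Quotient.mkₐ_eq_mk, Ideal.Quotient.eq_zero_iff_mem] at this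
        exact mem_nilradical.mpr ((mem_nilradical.mp hb').map _)
    exact key
  · intro x hx
    rw [RingHom.mem_ker]
    exact ((mem_nilradical.mp hx).map _).eq_zero

end Groth.Agent.S19799
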