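import Groth.Statements.S19804
import Mathlib.RingTheory.Spectrum.Prime.FreeLocus
-- import your own Groth.Agent.* helpers here

set_option autoImplicit false
open scoped TensorProduct
universe u v w
open Brauer

namespace Groth.Agent.S19804

theorem aux {R : Type u} [CommRing R]
    [ConnectedSpace (PrimeSpectrum R)] {A : Type v} [Ring A] [Algebra R A]
    [Module.Finite R A] [Module.Projective R A]
    (e : A) (he : IsIdempotentElem e) (R' : Type w) [CommRing R'] [Nontrivial R'] [Algebra R R']
    (h : (1 : R') ⊗ₜ[R] e = (0 : R' ⊗[R] A)) : e = 0 := by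
  let f : A →ₗ[R] A := LinearMap.mulLeft R e
  let N := LinearMap.range f
  let g : A →ₗ[R] N := f.rangeRestrict
  have hgi : g ∘ₗ N.subtype = LinearMap.id := by
    ext ⟨n, a, rfl⟩
    simp [g, f, ← mul_assoc, he.eq]
  have : Module.Projective R N := Module.Projective.of_split N.subtype g hgi
  have : Module.Finite R N := Module.Finite.range f
  have : Module.FinitePresentation R N := Module.finitePresentation_of_projective R N
  have hsub : Subsingleton (R' ⊗[R] N) := by
    refine ⟨fun x y => ?_⟩
    have h2 : ∀ z : R' ⊗[R] N, (LinearMap.lTensor R' N.subtype) z = 0 := by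
      intro z
      induction z using TensorProduct.induction_on with
      | zero => simp
      | tmul r n =>
        obtain ⟨n, a, rfl⟩ := n
        simp only [LinearMap.lTensor_tmul, Submodule.subtype_apply]
        have : r ⊗ₜ[R] (f a) = ((1 : R') ⊗ₜ[R] e) * (r ⊗ₜ[R] a) := by
          simp [f, Algebra.TensorProduct.tmul_mul_tmul]
        rw [this, h, zero_mul]
      | add x y hx hy => simp [hx, hy]
    have key : ∀ z : R' ⊗[R] N, z = 0 := by
      intro z
      have h1 : z = (LinearMap.lTensor R' g) ((LinearMap.lTensor R' N.subtype) z) := by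
        rw [← LinearMap.comp_apply, ← LinearMap.lTensor_comp, hgi]
        simp
      rw [h1, h2, map_zero]
    rw [key x, key y]
  obtain ⟨p⟩ : Nonempty (PrimeSpectrum R') := inferInstance
  have hp : Module.rankAtStalk (R := R) N (p.comap (algebraMap R R')) = 0 := by
    rw [← Module.rankAtStalk_baseChange]
    rw [Module.rankAtStalk_eq_zero_of_subsingleton]
    rfl
  have hconst : Module.rankAtStalk (R := R) N = 0 := by
    have hlc := Module.isLocallyConstant_rankAtStalk (R := R) (M := N)
    funext q
    rw [hlc.apply_eq_of_isPreconnected isPreconnected_univ (Set.mem_univ q)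
      (Set.mem_univ (p.comap (algebraMap R R'))), hp]
    rfl
  have hN : Subsingleton N := Module.rankAtStalk_eq_zero_iff_subsingleton.mp hconst
  have heN : e ∈ N := ⟨e, by simp [f, he.eq]⟩
  have := Subsingleton.elim (⟨e, heN⟩ : N) 0
  simpa using congrArg Subtype.val this

/-- Let R be a commutative ring with Spec R connected, A an Azumaya R-algebra and e an idempotent
element of A. If for some nonzero commutative R-algebra R' the element 1 ⊗ e of R' ⊗_R A is 0, then
e = 0; and if 1 ⊗ e = 1 in R' ⊗_R A, then e = 1. (The published statement is for an Azumaya algebra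
over a connected scheme S and base change to an arbitrary nonempty S-scheme T; this row takes S and
T affine.) -/
theorem result {R : Type u} [CommRing R]
    [ConnectedSpace (PrimeSpectrum R)] {A : Type v} [Ring A] [Algebra R A] [IsAzumaya R A]
    (e : A) (he : IsIdempotentElem e) (R' : Type w) [CommRing R'] [Nontrivial R'] [Algebra R R'] :
    ((1 : R') ⊗ₜ[R] e = (0 : R' ⊗[R] A) → e = 0) ∧ ((1 : R') ⊗ₜ[R] e = (1 : R' ⊗[R] A) → e = 1) := by
  have : Module.Finite R A := IsAzumaya.toFinite
  have : Module.Projective R A := IsAzumaya.toProjective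
  refine ⟨fun h => aux e he R' h, fun h => ?_⟩
  have h' : (1 : R') ⊗ₜ[R] (1 - e) = (0 : R' ⊗[R] A) := by
    rw [TensorProduct.tmul_sub, h, Algebra.TensorProduct.one_def, sub_self]
  have := aux (1 - e) he.one_sub R' h'
  exact (sub_eq_zero.mp this).symm

end Groth.Agent.S19804
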