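import Groth.Statements.S19856
import Mathlib.RingTheory.IntegralDomain
import Mathlib.RingTheory.Filtration
import Mathlib.Tactic
-- import your own Groth.Agent.* helpers here

set_option autoImplicit false
universe u v
open CAlg

namespace Groth.Agent.S19856

/-- Ring-level form: let O be a discrete valuation ring and G a finite group acting faithfully on O by
ring automorphisms, such that every element of G acts trivially on the residue field of O (that is,
g • a - a lies in the maximal ideal for all a) and such that the order of G is nonzero in the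
residue field of O. Then G is cyclic. (The source states this for a finite group of order invertible
in an algebraically closed field k acting faithfully on a smooth connected k-variety and the
subgroup of elements fixing pointwise a codimension-one irreducible component of the ramification
locus, applied to the local ring at the generic point of that component; it is stated here for an
arbitrary discrete valuation ring with a faithful action. The source also shows that this subgroup
is nontrivial; that geometric part is not stated.) -/
theorem result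
    (O : Type u) [CommRing O] [IsDomain O] [IsDiscreteValuationRing O]
    (G : Type v) [Group G] [Finite G] [MulSemiringAction G O] [FaithfulSMul G O]
    (htriv : ∀ (g : G) (a : O), g • a - a ∈ IsLocalRing.maximalIdeal O)
    (hcard : ((Nat.card G : ℕ) : IsLocalRing.ResidueField O) ≠ 0) :
    IsCyclic G := by
  classical
  obtain ⟨π, hπ⟩ := IsDiscreteValuationRing.exists_irreducible O
  have hm : IsLocalRing.maximalIdeal O = Ideal.span {π} := hπ.maximalIdeal_eq
  have hπ0 : π ≠ 0 := hπ.ne_zero
  have hπm : π ∈ IsLocalRing.maximalIdeal O := by rw [hm]; exact Ideal.mem_span_singleton_self π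
  have hmpow : ∀ l : ℕ, (IsLocalRing.maximalIdeal O) ^ l = Ideal.span {π ^ l} := by
    intro l; rw [hm, Ideal.span_singleton_pow]
  -- G preserves the maximal ideal and its powers
  have hGm : ∀ (h : G) (x : O), x ∈ IsLocalRing.maximalIdeal O → h • x ∈ IsLocalRing.maximalIdeal O := by
    intro h x hx
    have := (IsLocalRing.maximalIdeal O).add_mem (htriv h x) hx
    simpa using this
  have hGpow : ∀ (l : ℕ) (h : G) (x : O), x ∈ (IsLocalRing.maximalIdeal O) ^ l →
      h • x ∈ (IsLocalRing.maximalIdeal O) ^ l := by
    intro l h x hx
    rw [hmpow, Ideal.mem_span_singleton'] at hx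
    obtain ⟨c, rfl⟩ := hx
    rw [smul_mul', smul_pow']
    exact Ideal.mul_mem_left _ _ (Ideal.pow_mem_pow (hGm h π hπm) l)
  -- the units u_g
  have hdiv : ∀ g : G, ∃ u : O, g • π = u * π := by
    intro g
    have := hGm g π hπm
    rw [hm, Ideal.mem_span_singleton'] at this
    obtain ⟨u, hu⟩ := this
    exact ⟨u, hu.symm⟩
  choose u hu using hdiv
  have hu1 : u 1 = 1 := by
    have := hu 1
    rw [one_smul] at this
    have h2 : (1 : O) * π = u 1 * π := by rw [one_mul]; exact this
    exact (mul_right_cancel₀ hπ0 h2).symm
  have humul : ∀ g h : G, u (g * h) = (g • u h) * u g := by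
    intro g h
    have h1 := hu (g * h)
    rw [mul_smul, hu h, smul_mul', hu g, ← mul_assoc] at h1
    exact (mul_right_cancel₀ hπ0 h1).symm
  have hres : ∀ (g : G) (a : O), IsLocalRing.residue O (g • a) = IsLocalRing.residue O a := by
    intro g a
    have := htriv g a
    rw [← IsLocalRing.residue_eq_zero_iff, map_sub, sub_eq_zero] at this
    exact this
  let f : G →* IsLocalRing.ResidueField O :=
    { toFun := fun g => IsLocalRing.residue O (u g)
      map_one' := by simp [hu1]
      map_mul' := by
        intro g h
        simp only [humul, map_mul, hres]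
        ring }
  refine isCyclic_of_injective_ringHom f ?_
  rw [injective_iff_map_eq_one]
  intro g hg
  change IsLocalRing.residue O (u g) = 1 at hg
  -- g π - π ∈ m²
  have hgπ : g • π - π ∈ (IsLocalRing.maximalIdeal O) ^ 2 := by
    have h1 : u g - 1 ∈ IsLocalRing.maximalIdeal O := by
      rw [← IsLocalRing.residue_eq_zero_iff, map_sub, hg, map_one, sub_self]
    have : g • π - π = (u g - 1) * π := by rw [hu g]; ring
    rw [this, pow_two]
    exact Ideal.mul_mem_mul h1 hπm
  -- key step
  have hstep : ∀ (i : ℕ) (b : O), b ∈ (IsLocalRing.maximalIdeal O) ^ i →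
      g • b - b ∈ (IsLocalRing.maximalIdeal O) ^ (i + 1) := by
    intro i b hb
    rw [hmpow, Ideal.mem_span_singleton'] at hb
    obtain ⟨c, rfl⟩ := hb
    have e : g • (c * π ^ i) - c * π ^ i
        = (g • c - c) * (g • π) ^ i + c * ((g • π) ^ i - π ^ i) := by
      rw [smul_mul', smul_pow']; ring
    rw [e]
    refine Ideal.add_mem _ ?_ ?_
    · rw [pow_succ']
      exact Ideal.mul_mem_mul (htriv g c) (Ideal.pow_mem_pow (hGm g π hπm) i)
    · refine Ideal.mul_mem_left _ _ ?_
      rcases i with _ | i
      · simp
      · rw [← geom_sum₂_mul]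
        have hs : (∑ j ∈ Finset.range (i + 1), (g • π) ^ j * π ^ (i + 1 - 1 - j))
            ∈ (IsLocalRing.maximalIdeal O) ^ i := by
          refine Ideal.sum_mem _ (fun j hj => ?_)
          have hj' : j ≤ i := by
            have := Finset.mem_range.mp hj; omega
          have hij : j + (i + 1 - 1 - j) = i := by omega
          have hmij : (IsLocalRing.maximalIdeal O) ^ i
              = (IsLocalRing.maximalIdeal O) ^ j * (IsLocalRing.maximalIdeal O) ^ (i + 1 - 1 - j) := by
            rw [← pow_add, hij]
          rw [hmij]
          exact Ideal.mul_mem_mul (Ideal.pow_mem_pow (hGm g π hπm) j) (Ideal.pow_mem_pow hπm _)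
        have : (IsLocalRing.maximalIdeal O) ^ (i + 1 + 1)
            = (IsLocalRing.maximalIdeal O) ^ i * (IsLocalRing.maximalIdeal O) ^ 2 := by
          rw [← pow_add]
        rw [this]
        exact Ideal.mul_mem_mul hs hgπ
  set n := Nat.card G with hn
  have hgn : g ^ n = 1 := pow_card_eq_one'
  have hnunit : IsUnit ((n : ℕ) : O) := by
    rw [← IsLocalRing.notMem_maximalIdeal, ← IsLocalRing.residue_eq_zero_iff, map_natCast]
    exact hcard
  have hpowstep : ∀ (i : ℕ) (b : O), b ∈ (IsLocalRing.maximalIdeal O) ^ i → ∀ j : ℕ,
      g ^ j • b - b ∈ (IsLocalRing.maximalIdeal O) ^ (i + 1) := by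
    intro i b hb j
    induction j with
    | zero => simp
    | succ j ih =>
      have e : g ^ (j + 1) • b - b = g ^ j • (g • b - b) + (g ^ j • b - b) := by
        rw [pow_succ, mul_smul, smul_sub]; ring
      rw [e]
      exact Ideal.add_mem _ (hGpow _ _ _ (hstep i b hb)) ih
  have hall : ∀ i : ℕ, ∀ a : O, g • a - a ∈ (IsLocalRing.maximalIdeal O) ^ i := by
    intro i
    induction i with
    | zero => intro a; simp
    | succ i ih =>
      intro a
      set b := g • a - a with hb
      have hbi : b ∈ (IsLocalRing.maximalIdeal O) ^ i := ih a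
      have htel : ∑ j ∈ Finset.range n, g ^ j • b = 0 := by
        have h1 : ∀ j : ℕ, g ^ j • b = g ^ (j + 1) • a - g ^ j • a := by
          intro j
          rw [hb, smul_sub, pow_succ, mul_smul]
        simp_rw [h1]
        rw [Finset.sum_range_sub (fun j => g ^ j • a), hgn]
        simp
      have hsum : (n : O) * b = - ∑ j ∈ Finset.range n, (g ^ j • b - b) := by
        rw [Finset.sum_sub_distrib, htel]
        simp
      have hmem : (n : O) * b ∈ (IsLocalRing.maximalIdeal O) ^ (i + 1) := by
        rw [hsum]
        exact Ideal.neg_mem_iff _ |>.mpr (Ideal.sum_mem _ (fun j _ => hpowstep i b hbi j))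
      exact (Ideal.unit_mul_mem_iff_mem _ hnunit).mp hmem
  have hfix : ∀ a : O, g • a = a := by
    intro a
    have hinf : g • a - a ∈ ⨅ i : ℕ, (IsLocalRing.maximalIdeal O) ^ i := by
      rw [Ideal.mem_iInf]; exact fun i => hall i a
    rw [Ideal.iInf_pow_eq_bot_of_isLocalRing _ (IsLocalRing.maximalIdeal.isMaximal O).ne_top] at hinf
    exact sub_eq_zero.mp hinf
  apply FaithfulSMul.eq_of_smul_eq_smul (α := O)
  intro a
  rw [hfix a, one_smul]

end Groth.Agent.S19856
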