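import Mathlib
import Groth.Statements.S1987
import Groth.Agent.Lib.Helper9.DvrExt

set_option autoImplicit false
universe u
open Polynomial
open EtAlg

namespace Groth.Agent.S1987

open Groth.Agent.Lib.Helper9.DvrExt

set_option linter.style.haveILetI false
set_option linter.unusedSectionVars false

local notation "𝔪" => IsLocalRing.maximalIdeal

section Irred

variable {A : Type u} [CommRing A] [IsDomain A] [IsDiscreteValuationRing A] {π : A}
  (hπ : Irreducible π) {n : ℕ} (hn : 2 ≤ n)

include hπ hn in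
theorem irred : Irreducible (X ^ n - C π : A[X]) := by
  have hn0 : n ≠ 0 := by omega
  have hmonic : (X ^ n - C π : A[X]).Monic := monic_X_pow_sub_C π hn0
  have hdeg : (X ^ n - C π : A[X]).natDegree = n := natDegree_X_pow_sub_C
  have hdeg' : (X ^ n - C π : A[X]).degree = n := by
    rw [degree_eq_natDegree hmonic.ne_zero, hdeg]
  refine irreducible_of_eisenstein_criterion (P := 𝔪 A) inferInstance ?_ ?_ ?_ ?_ hmonic.isPrimitive
  · rw [hmonic.leadingCoeff]
    exact fun h => (Ideal.ne_top_iff_one _).1 (Ideal.IsPrime.ne_top inferInstance) h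
  · intro k hk
    rw [hdeg'] at hk
    have hk' : k < n := by exact_mod_cast hk
    rw [coeff_sub, coeff_X_pow, coeff_C, if_neg (by omega)]
    by_cases h0 : k = 0
    · simp [h0, hπ.maximalIdeal_eq]
    · simp [h0]
  · rw [hdeg']; exact_mod_cast Nat.pos_of_ne_zero hn0
  · rw [coeff_sub, coeff_X_pow, coeff_C, if_neg (by omega), if_pos rfl, zero_sub, neg_mem_iff,
      hπ.maximalIdeal_eq, Ideal.span_singleton_pow, Ideal.mem_span_singleton]
    intro h
    have : π ^ 2 ∣ π ^ 1 := by rwa [pow_one]
    rw [pow_dvd_pow_iff hπ.ne_zero hπ.not_isUnit] at this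
    omega


end Irred

section Struct

variable {A : Type u} [CommRing A] [IsDomain A] [IsDiscreteValuationRing A] (π : A) (n : ℕ)

local notation "A'" => AdjoinRoot (X ^ n - C π : A[X])
local notation "rt" => AdjoinRoot.root (X ^ n - C π : A[X])

theorem root_pow : (rt) ^ n = algebraMap A (A') π := by
  have h := AdjoinRoot.eval₂_root (X ^ n - C π : A[X])
  rw [eval₂_sub, eval₂_pow, eval₂_X, eval₂_C, sub_eq_zero] at h
  exact h

theorem decomp (a' : A') : ∃ (a : A) (b : A'), a' = algebraMap A (A') a + (rt) * b := by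
  induction a' using AdjoinRoot.induction_on with
  | ih p =>
    refine ⟨p.coeff 0, AdjoinRoot.mk _ (divX p), ?_⟩
    conv_lhs => rw [← divX_mul_X_add p]
    rw [map_add, map_mul, AdjoinRoot.mk_X, AdjoinRoot.mk_C, AdjoinRoot.algebraMap_eq]
    ring

variable {π n}

theorem inj (hn : 2 ≤ n) : Function.Injective (algebraMap A (A')) := by
  rw [AdjoinRoot.algebraMap_eq]
  apply AdjoinRoot.of.injective_of_degree_ne_zero
  rw [degree_X_pow_sub_C (by omega)]
  exact_mod_cast (by omega : n ≠ 0)

noncomputable def toRes (hn : 2 ≤ n) (hπ : Irreducible π) : (A') →+* IsLocalRing.ResidueField A :=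
  AdjoinRoot.lift (IsLocalRing.residue A) 0 (by
    rw [eval₂_sub, eval₂_pow, eval₂_X, eval₂_C, zero_pow (by omega), zero_sub, neg_eq_zero,
      IsLocalRing.residue_eq_zero_iff, hπ.maximalIdeal_eq]
    exact Ideal.mem_span_singleton_self π)

theorem toRes_algebraMap (hn : 2 ≤ n) (hπ : Irreducible π) (a : A) :
    toRes hn hπ (algebraMap A (A') a) = IsLocalRing.residue A a := by
  rw [AdjoinRoot.algebraMap_eq, toRes, AdjoinRoot.lift_of]

theorem toRes_root (hn : 2 ≤ n) (hπ : Irreducible π) : toRes hn hπ (rt) = 0 := by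
  rw [toRes, AdjoinRoot.lift_root]

theorem ker_toRes (hn : 2 ≤ n) (hπ : Irreducible π) :
    RingHom.ker (toRes hn hπ) = Ideal.span {rt} := by
  apply le_antisymm
  · intro a' ha'
    obtain ⟨a, b, rfl⟩ := decomp π n a'
    rw [RingHom.mem_ker, map_add, map_mul, toRes_root, zero_mul, add_zero, toRes_algebraMap,
      IsLocalRing.residue_eq_zero_iff, hπ.maximalIdeal_eq, Ideal.mem_span_singleton] at ha'
    obtain ⟨c, rfl⟩ := ha'
    refine Ideal.add_mem _ ?_ (Ideal.mul_mem_right _ _ (Ideal.mem_span_singleton_self _))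
    rw [map_mul, ← root_pow, Ideal.mem_span_singleton]
    exact Dvd.dvd.mul_right (dvd_pow_self _ (by omega)) _
  · rw [Ideal.span_singleton_le_iff_mem, RingHom.mem_ker, toRes_root]

theorem toRes_surjective (hn : 2 ≤ n) (hπ : Irreducible π) :
    Function.Surjective (toRes hn hπ) := by
  intro y
  obtain ⟨a, rfl⟩ := IsLocalRing.residue_surjective y
  exact ⟨algebraMap A (A') a, toRes_algebraMap hn hπ a⟩

theorem span_root_isMaximal (hn : 2 ≤ n) (hπ : Irreducible π) :
    (Ideal.span {rt} : Ideal (A')).IsMaximal := by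
  rw [← ker_toRes hn hπ]
  exact RingHom.ker_isMaximal_of_surjective _ (toRes_surjective hn hπ)

theorem isLocalRing (hn : 2 ≤ n) (hπ : Irreducible π) : IsLocalRing (A') := by
  have hmonic : (X ^ n - C π : A[X]).Monic := monic_X_pow_sub_C π (by omega)
  haveI : Algebra.IsIntegral A (A') :=
    have := hmonic.finite_adjoinRoot
    Algebra.IsIntegral.of_finite A (A')
  refine IsLocalRing.of_unique_max_ideal ⟨Ideal.span {rt}, span_root_isMaximal hn hπ, ?_⟩
  intro N hN
  have h1 : (N.comap (algebraMap A (A'))).IsMaximal :=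
    Ideal.isMaximal_comap_of_isIntegral_of_isMaximal N
  have h2 : N.comap (algebraMap A (A')) = 𝔪 A := IsLocalRing.eq_maximalIdeal h1
  have h3 : algebraMap A (A') π ∈ N := by
    rw [← Ideal.mem_comap, h2, hπ.maximalIdeal_eq]
    exact Ideal.mem_span_singleton_self π
  rw [← root_pow] at h3
  have h4 : (rt) ∈ N := hN.isPrime.mem_of_pow_mem _ h3
  have h5 : Ideal.span {rt} ≤ N := (Ideal.span_singleton_le_iff_mem _).2 h4
  exact ((span_root_isMaximal hn hπ).eq_of_le hN.ne_top h5).symm


end Struct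

section Main

variable {A : Type u} [CommRing A] [IsDomain A] [IsDiscreteValuationRing A] {π : A} {n : ℕ}

local notation "A'" => AdjoinRoot (X ^ n - C π : A[X])
local notation "rt" => AdjoinRoot.root (X ^ n - C π : A[X])

theorem isDomain' (hn : 2 ≤ n) (hπ : Irreducible π) : IsDomain (A') :=
  AdjoinRoot.isDomain_of_prime (irreducible_iff_prime.1 (irred hπ hn))

theorem root_ne_zero (hn : 2 ≤ n) (hπ : Irreducible π) : (rt) ≠ 0 := by
  intro h
  have h1 := root_pow π n
  rw [h, zero_pow (by omega)] at h1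
  exact hπ.ne_zero ((map_eq_zero_iff _ (inj hn)).1 h1.symm)

theorem maximalIdeal_eq (hn : 2 ≤ n) (hπ : Irreducible π) :
    letI := isLocalRing hn hπ
    𝔪 (A') = Ideal.span {rt} := by
  letI := isLocalRing hn hπ
  exact (IsLocalRing.eq_maximalIdeal (span_root_isMaximal hn hπ)).symm

theorem isDVR (hn : 2 ≤ n) (hπ : Irreducible π) :
    @IsDiscreteValuationRing (A') _ (isDomain' hn hπ) := by
  letI := isDomain' hn hπ
  haveI := isLocalRing hn hπ
  have hmax := maximalIdeal_eq hn hπ
  have hnf : ¬ IsField (A') := by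
    rw [IsLocalRing.isField_iff_maximalIdeal_eq, hmax, Ideal.span_singleton_eq_bot]
    exact root_ne_zero hn hπ
  have hp : (𝔪 (A')).IsPrincipal := ⟨⟨rt, hmax⟩⟩
  exact ((IsDiscreteValuationRing.TFAE (A') hnf).out 0 4).2 hp

theorem map_maximalIdeal (hn : 2 ≤ n) (hπ : Irreducible π) :
    letI := isLocalRing hn hπ
    (𝔪 A).map (algebraMap A (A')) = 𝔪 (A') ^ n := by
  letI := isLocalRing hn hπ
  rw [maximalIdeal_eq hn hπ, hπ.maximalIdeal_eq, Ideal.map_span, Set.image_singleton,
    Ideal.span_singleton_pow, root_pow]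

section TR

variable (hn : 2 ≤ n) (hπ : Irreducible π) (K₁ : Type u) [Field K₁]
  [Algebra (AdjoinRoot (X ^ n - C π : A[X])) K₁]

include hn hπ in
theorem mem_and_lt (V : ValuationSubring K₁)
    (h : EtRam.Dominates A ((algebraMap (A') K₁).comp (algebraMap A (A'))) V) :
    (∀ b : A', algebraMap (A') K₁ b ∈ V) ∧
      V.valuation (algebraMap (A') K₁ (rt)) < 1 := by
  have hmonic : (X ^ n - C π : A[X]).Monic := monic_X_pow_sub_C π (by omega)
  haveI : Algebra.IsIntegral A (A') :=
    have := hmonic.finite_adjoinRoot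
    Algebra.IsIntegral.of_finite A (A')
  letI : Algebra A K₁ := ((algebraMap (A') K₁).comp (algebraMap A (A'))).toAlgebra
  haveI : IsScalarTower A (A') K₁ := IsScalarTower.of_algebraMap_eq fun _ => rfl
  letI : Algebra A V := (RingHom.codRestrict _ V h.1).toAlgebra
  haveI : IsScalarTower A V K₁ := IsScalarTower.of_algebraMap_eq fun _ => rfl
  have h1 : ∀ b : A', algebraMap (A') K₁ b ∈ V := by
    intro b
    have hb : IsIntegral A b := Algebra.IsIntegral.isIntegral b
    have hb' : IsIntegral A (algebraMap (A') K₁ b) := hb.algebraMap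
    have hb'' : IsIntegral V (algebraMap (A') K₁ b) := hb'.tower_top
    obtain ⟨y, hy⟩ := IsIntegrallyClosed.isIntegral_iff.1 hb''
    rw [← hy]
    exact y.2
  refine ⟨h1, ?_⟩
  have hπlt := h.2 π (by rw [hπ.maximalIdeal_eq]; exact Ideal.mem_span_singleton_self π)
  rw [RingHom.comp_apply, ← root_pow, map_pow, map_pow] at hπlt
  by_contra hge
  rw [not_lt] at hge
  exact absurd hπlt (not_lt.2 (one_le_pow_of_one_le' hge n))

include hn hπ in
theorem eq_range [IsFractionRing (AdjoinRoot (X ^ n - C π : A[X])) K₁] (V : ValuationSubring K₁)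
    (h : EtRam.Dominates A ((algebraMap (A') K₁).comp (algebraMap A (A'))) V) :
    letI := isDomain' hn hπ
    haveI := isDVR hn hπ
    V = rangeValuationSubring (A') K₁ := by
  letI := isDomain' hn hπ
  haveI := isDVR hn hπ
  obtain ⟨h1, h2⟩ := mem_and_lt hn hπ K₁ V h
  refine eq_rangeValuationSubring V h1 fun b hb => ?_
  rw [maximalIdeal_eq hn hπ, Ideal.mem_span_singleton] at hb
  obtain ⟨c, rfl⟩ := hb
  rw [map_mul, map_mul]
  exact lt_of_le_of_lt (mul_le_of_le_one_right' ((V.valuation_le_one_iff _).2 (h1 c))) h2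

include hn hπ in
theorem range_dominates [IsFractionRing (AdjoinRoot (X ^ n - C π : A[X])) K₁] :
    letI := isDomain' hn hπ
    haveI := isDVR hn hπ
    EtRam.Dominates A ((algebraMap (A') K₁).comp (algebraMap A (A')))
      (rangeValuationSubring (A') K₁) := by
  letI := isDomain' hn hπ
  haveI := isDVR hn hπ
  refine ⟨fun a => ⟨algebraMap A (A') a, rfl⟩, fun a ha => ?_⟩
  rw [valuation_lt_one_iff']
  by_cases h0 : ((algebraMap (A') K₁).comp (algebraMap A (A'))) a = 0
  · exact Or.inl h0
  refine Or.inr fun hmem => ?_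
  obtain ⟨b, hb⟩ := mem_rangeValuationSubring.1 hmem
  rw [RingHom.comp_apply] at hb h0
  have h1 : algebraMap (A') K₁ (algebraMap A (A') a * b) = algebraMap (A') K₁ 1 := by
    rw [map_mul, hb, map_one, mul_inv_cancel₀ h0]
  have h2 : algebraMap A (A') a * b = 1 := IsFractionRing.injective (A') K₁ h1
  have h3 : algebraMap A (A') a ∈ 𝔪 (A') := by
    rw [hπ.maximalIdeal_eq, Ideal.mem_span_singleton] at ha
    obtain ⟨c, rfl⟩ := ha
    rw [maximalIdeal_eq hn hπ, map_mul, ← root_pow, Ideal.mem_span_singleton]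
    exact Dvd.dvd.mul_right (dvd_pow_self _ (by omega)) _
  exact (IsLocalRing.mem_maximalIdeal _).1 h3 (IsUnit.of_mul_eq_one _ h2)

include hn hπ in
theorem residue_surj [IsFractionRing (AdjoinRoot (X ^ n - C π : A[X])) K₁] (V : ValuationSubring K₁)
    (h : EtRam.Dominates A ((algebraMap (A') K₁).comp (algebraMap A (A'))) V) :
    Function.Surjective (fun a : A => IsLocalRing.residue V
      (RingHom.codRestrict ((algebraMap (A') K₁).comp (algebraMap A (A'))) V h.1 a)) := by
  letI := isDomain' hn hπ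
  haveI := isDVR hn hπ
  obtain ⟨h1, h2⟩ := mem_and_lt hn hπ K₁ V h
  have hV := eq_range hn hπ K₁ V h
  intro y
  obtain ⟨⟨y, hy⟩, rfl⟩ := IsLocalRing.residue_surjective y
  have hy' := hy
  rw [hV] at hy'
  obtain ⟨b, rfl⟩ := mem_rangeValuationSubring.1 hy'
  obtain ⟨a, c, rfl⟩ := decomp π n b
  refine ⟨a, ?_⟩
  show IsLocalRing.residue V _ = IsLocalRing.residue V _
  rw [← sub_eq_zero, ← map_sub, IsLocalRing.residue_eq_zero_iff,
    ValuationSubring.valuation_lt_one_iff]
  have : ((RingHom.codRestrict ((algebraMap (A') K₁).comp (algebraMap A (A'))) V h.1 a -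
      ⟨algebraMap (A') K₁ (algebraMap A (A') a + (rt) * c), hy⟩ : V) : K₁) =
      - (algebraMap (A') K₁ (rt) * algebraMap (A') K₁ c) := by
    show (algebraMap (A') K₁) (algebraMap A (A') a) -
      algebraMap (A') K₁ (algebraMap A (A') a + (rt) * c) = _
    rw [map_add, map_mul]
    ring
  rw [this, Valuation.map_neg, map_mul]
  exact lt_of_le_of_lt (mul_le_of_le_one_right' ((V.valuation_le_one_iff _).2 (h1 c))) h2

end TR

end Main

/-- Let A be a discrete valuation ring with uniformizer π and n ≥ 2, and let A' = A[x]/(x^n - π). Then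
x^n - π is irreducible over A, A' is an integrally closed discrete valuation ring (so it is the
integral closure of A in its fraction field K₁ = K(π^{1/n}), of degree n over K), the maximal ideal
of A generates the n-th power of the maximal ideal of A' (ramification index n), and K₁ is totally
ramified with respect to A. -/
theorem result (A : Type u) [CommRing A] [IsDomain A] [IsDiscreteValuationRing A] (π : A)
    (hπ : Irreducible π) (n : ℕ) (hn : 2 ≤ n) :
    Irreducible (X ^ n - C π : A[X]) ∧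
    ∃ (_ : IsDomain (AdjoinRoot (X ^ n - C π : A[X]))) (_ : IsDiscreteValuationRing (AdjoinRoot (X ^ n - C π : A[X]))),
      IsIntegrallyClosed (AdjoinRoot (X ^ n - C π : A[X])) ∧
      (IsLocalRing.maximalIdeal A).map (algebraMap A (AdjoinRoot (X ^ n - C π : A[X]))) = IsLocalRing.maximalIdeal (AdjoinRoot (X ^ n - C π : A[X])) ^ n ∧
      ∀ (K₁ : Type u) [Field K₁] [Algebra (AdjoinRoot (X ^ n - C π : A[X])) K₁] [IsFractionRing (AdjoinRoot (X ^ n - C π : A[X])) K₁],
        EtRam.IsTotallyRamified A ((algebraMap (AdjoinRoot (X ^ n - C π : A[X])) K₁).comp (algebraMap A (AdjoinRoot (X ^ n - C π : A[X])))) := by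
  refine ⟨irred hπ hn, isDomain' hn hπ, isDVR hn hπ, ?_, map_maximalIdeal hn hπ, ?_⟩
  · letI := isDomain' hn hπ
    haveI := isDVR hn hπ
    infer_instance
  · intro K₁ _ _ _
    refine ⟨⟨_, range_dominates hn hπ K₁⟩, fun V V' hV hV' => ?_, fun V h => ?_⟩
    · rw [eq_range hn hπ K₁ V hV, eq_range hn hπ K₁ V' hV']
    · exact residue_surj hn hπ K₁ V h

end Groth.Agent.S1987
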