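import Groth.Statements.S19871
-- import your own Groth.Agent.* helpers here
import Groth.Agent.S15450
import Groth.Agent.Lib.Helper33.WeilLib
import Groth.Agent.Lib.Helper33.WeilKun

set_option autoImplicit false
universe u v
open CategoryTheory AlgebraicGeometry
open WeilCoh

namespace Groth.Agent.S19871
open WeilCoh Groth.Agent.Lib.Helper33.WeilLib Groth.Agent.Lib.Helper33.WeilKun Groth.Agent.S15450


/-- Let `H` be a Weil cohomology theory with coefficients in a field `K` of characteristic zero on
nonsingular connected projective varieties over an algebraically closed field `k`; let `X`, `Y` be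
such varieties and `P` a product `X × Y` with projections `p`, `q`, of dimension `dim X + dim Y`.
For an integer `r`, sending a class `φ ∈ H^{2 dim X + r}(P)` to the family, indexed by all integers
`i`, of the `K`-linear maps `H^i(X) → H^{i+r}(Y)`, `x ↦ q_*(p^* x ∪ φ)`, is a bijection from `H^{2
dim X + r}(P)` onto the families of linear maps `(H^i(X) → H^{i+r}(Y))_i`, i.e. onto the degree-`r`
homomorphisms of graded vector spaces from `H•(X)` to `H•(Y)` (the factors with `i` outside `[0, 2
dim X]` are zero). The target degree is written `i + (2 dim X + r) + 2 dim Y − 2 dim P`, the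
indexing of the push-forward; it equals `i + r` by the dimension hypothesis. (The published lemma
states a canonical isomorphism `Hom^r(H•X, H•Y) ≅ H^{2 dim X + r}(X × Y)(dim X)` obtained from
Poincaré duality on `X` and the Künneth formula, for smooth projective varieties over an arbitrary
field with Tate twists; this row is its case of connected varieties over an algebraically closed
field, without twists, with the isomorphism written as the action of a class by pull-back, cup
product and push-forward.) -/
theorem result (k : Type u) [Field k] [IsAlgClosed k] (K : Type v) [Field K] [CharZero K]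
    (T : WeilCoh.Theory k K) (X Y P : WeilCoh.Var k) (p : P ⟶ X) (q : P ⟶ Y) (hP : WeilCoh.IsProd p q)
    (hdim : WeilCoh.dim P.obj.left = WeilCoh.dim X.obj.left + WeilCoh.dim Y.obj.left) (r : ℤ) :
    Function.Bijective (fun φ : ↥(T.gr P (2 * (WeilCoh.dim X.obj.left : ℤ) + r)) => fun i : ℤ =>
      (T.push q (i + (2 * (WeilCoh.dim X.obj.left : ℤ) + r))) ∘ₗ
        ((LinearMap.mulRight K (φ : T.H P)).restrict (p := T.gr P i) (q := T.gr P (i + (2 * (WeilCoh.dim X.obj.left : ℤ) + r)))
          (fun x hx => SetLike.mul_mem_graded hx φ.2)) ∘ₗ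
        (T.pullDeg p i)) := by
  classical
  have hdimZ : (dim P.obj.left : ℤ) = dim X.obj.left + dim Y.obj.left := by exact_mod_cast hdim
  have key : ∀ (φ : ↥(T.gr P (2 * (dim X.obj.left : ℤ) + r))) (i : ℤ) (x : ↥(T.gr X i)) (y : T.H Y),
      T.tr Y ((((T.push q (i + (2 * (dim X.obj.left : ℤ) + r))) ∘ₗ
        ((LinearMap.mulRight K (φ : T.H P)).restrict (p := T.gr P i) (q := T.gr P (i + (2 * (dim X.obj.left : ℤ) + r)))
          (fun x hx => SetLike.mul_mem_graded hx φ.2)) ∘ₗ
        (T.pullDeg p i)) x : T.H Y) * y) = T.tr P (T.pull p (x : T.H X) * (φ : T.H P) * T.pull q y) := by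
    intro φ i x y
    exact tr_push_mul' T q _ _ y
  constructor
  · intro φ φ' h
    apply Subtype.ext
    have hall : ∀ c : T.H P, T.tr P ((φ : T.H P) * c) = T.tr P ((φ' : T.H P) * c) := by
      intro c
      induction c using kunneth_induction T p q hP with
      | hom s t a b ha hb =>
        have h1 := T.gradedComm P _ _ _ _ φ.2 (T.pull_mem p s a ha)
        have h2 := T.gradedComm P _ _ _ _ φ'.2 (T.pull_mem p s a ha)
        rw [← mul_assoc, ← mul_assoc, h1, h2, smul_mul_assoc, smul_mul_assoc, map_smul, map_smul]
        congr 1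
        refine (key φ s ⟨a, ha⟩ b).symm.trans (Eq.trans ?_ (key φ' s ⟨a, ha⟩ b))
        have := congrFun h s
        simp only at this
        rw [this]
      | zero => simp
      | add c c' hc hc' => rw [mul_add, mul_add, map_add, map_add, hc, hc']
    exact eq_of_tr_mul T φ.2 φ'.2 fun c _ => hall c
  · intro g
    let term : (n : ℕ) → II T X n → T.H P := fun n j =>
      ((-1 : K) ^ n) • (T.pull p (ff T X n j : T.H X) * T.pull q ((g (n : ℤ)) (ee T X n j) : T.H Y))
    have hterm : ∀ n j, term n j ∈ T.gr P (2 * (dim X.obj.left : ℤ) + r) := by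
      intro n j
      refine Submodule.smul_mem _ _ ?_
      have := SetLike.mul_mem_graded (T.pull_mem p _ _ (ff T X n j).2)
        (T.pull_mem q _ _ ((g (n : ℤ)) (ee T X n j)).2)
      have e : (2 * (dim X.obj.left : ℤ) - n) + ((n : ℤ) + (2 * (dim X.obj.left : ℤ) + r) +
          2 * (dim Y.obj.left : ℤ) - 2 * (dim P.obj.left : ℤ)) = 2 * (dim X.obj.left : ℤ) + r := by
        omega
      rw [e] at this
      exact this
    let φ₀ : T.H P := ∑ n ∈ Finset.range (2 * dim X.obj.left + 1), ∑ j : II T X n, term n j
    have hφ₀ : φ₀ ∈ T.gr P (2 * (dim X.obj.left : ℤ) + r) :=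
      Submodule.sum_mem _ fun n _ => Submodule.sum_mem _ fun j _ => hterm n j
    refine ⟨⟨φ₀, hφ₀⟩, ?_⟩
    funext i
    refine LinearMap.ext fun x => ?_
    apply Subtype.ext
    refine eq_of_tr_mul T (Subtype.property _) (Subtype.property _) fun y _ => ?_
    refine (key ⟨φ₀, hφ₀⟩ i x y).trans ?_
    show T.tr P (T.pull p (x : T.H X) * φ₀ * T.pull q y) = T.tr Y (((g i) x : T.H Y) * y)
    have hterm_tr : ∀ n j, T.tr P (T.pull p (x : T.H X) * term n j * T.pull q y) =
        (-1 : K) ^ n * (T.tr X ((x : T.H X) * (ff T X n j : T.H X)) *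
          T.tr Y (((g (n : ℤ)) (ee T X n j) : T.H Y) * y)) := by
      intro n j
      have : T.pull p (x : T.H X) * term n j * T.pull q y = ((-1 : K) ^ n) •
          (T.pull p ((x : T.H X) * (ff T X n j : T.H X)) *
            T.pull q (((g (n : ℤ)) (ee T X n j) : T.H Y) * y)) := by
        simp only [term]
        rw [mul_smul_comm, smul_mul_assoc, map_mul, map_mul]
        congr 1
        noncomm_ring
      rw [this, map_smul, smul_eq_mul, tr_prod' T p q hP]
    simp only [φ₀]
    rw [Finset.mul_sum, Finset.sum_mul, map_sum]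
    simp_rw [Finset.mul_sum, Finset.sum_mul, map_sum, hterm_tr]
    by_cases hi : i < 0 ∨ 2 * (dim X.obj.left : ℤ) < i
    · have hx0 : (x : T.H X) = 0 := eq_zero_of_mem_of_vanish T x.2 hi
      have hx0' : x = 0 := Subtype.ext hx0
      rw [hx0']
      simp
    · push Not at hi
      obtain ⟨n, rfl⟩ : ∃ n : ℕ, i = n := ⟨i.toNat, by omega⟩
      have hn : n ≤ 2 * dim X.obj.left := by omega
      rw [Finset.sum_eq_single n]
      · have hcoord : ∀ j, T.tr X ((x : T.H X) * (ff T X n j : T.H X)) =
            (-1 : K) ^ n * (ee T X n).repr x j := by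
          intro j
          have hc := T.gradedComm X _ _ _ _ x.2 (ff T X n j).2
          rw [hc, map_smul, smul_eq_mul,
            Groth.Agent.S15451.tr_dual_coord T X (ee T X n) (ff T X n) (ff_spec T X n) x j]
          congr 1
          have h1 : ((n : ℕ) : ℤ).natAbs = n := Int.natAbs_natCast n
          have h2 : (2 * (dim X.obj.left : ℤ) - n).natAbs = 2 * dim X.obj.left - n := by omega
          rw [h1, h2]
          exact neg_one_pow_mul_sub n _ hn
        simp_rw [hcoord]
        have hx : x = ∑ j, (ee T X n).repr x j • ee T X n j := ((ee T X n).sum_repr x).symm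
        conv_rhs => rw [hx]
        rw [map_sum]
        simp only [map_smul, Submodule.coe_sum, Submodule.coe_smul, Finset.sum_mul, smul_mul_assoc,
          map_sum, smul_eq_mul]
        refine Finset.sum_congr rfl fun j _ => ?_
        have hsq : ((-1 : K) ^ n) * ((-1 : K) ^ n) = 1 := by rw [← mul_pow]; simp
        linear_combination (((ee T X n).repr x j) *
          T.tr Y (((g (n : ℤ)) (ee T X n j) : T.H Y) * y)) * hsq
      · intro n' hn' hne
        refine Finset.sum_eq_zero fun j _ => ?_
        rw [tr_mul_eq_zero T x.2 (ff T X n' j).2 (by omega), zero_mul, mul_zero]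
      · intro hn'
        exact absurd (Finset.mem_range.2 (by omega)) hn'

end Groth.Agent.S19871
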