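import Mathlib
import Groth.Statements.S1989
import Groth.Agent.Lib.Helper9.DvrExt

set_option autoImplicit false
universe u
open EtAlg

namespace Groth.Agent.S1989

open Groth.Agent.Lib.Helper9.DvrExt

set_option linter.style.haveILetI false

/-- Let K be the fraction field of a discrete valuation ring A, and K ⊂ L ⊂ M finite separable
extensions. If M is tamely ramified, respectively unramified, with respect to A, then so is L. -/
theorem result (A K : Type u) [CommRing A] [IsDomain A] [IsDiscreteValuationRing A] [Field K] [Algebra A K] [IsFractionRing A K] (L M : Type u) [Field L] [Field M]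
    [Algebra K L] [Algebra K M] [Algebra L M] [IsScalarTower K L M] [FiniteDimensional K M] [Algebra.IsSeparable K M] :
    (EtRam.IsTamelyRamified A ((algebraMap K M).comp (algebraMap A K)) →
      EtRam.IsTamelyRamified A ((algebraMap K L).comp (algebraMap A K))) ∧
    (EtRam.IsUnramifiedExt A ((algebraMap K M).comp (algebraMap A K)) →
      EtRam.IsUnramifiedExt A ((algebraMap K L).comp (algebraMap A K))) := by
  have hKL : FiniteDimensional K L := FiniteDimensional.left K L M
  have hcomp : (algebraMap L M).comp ((algebraMap K L).comp (algebraMap A K)) =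
      (algebraMap K M).comp (algebraMap A K) := by
    rw [← RingHom.comp_assoc, ← IsScalarTower.algebraMap_eq K L M]
  have key : ∀ (W : ValuationSubring M)
      (hV : EtRam.Dominates A ((algebraMap K L).comp (algebraMap A K)) (W.comap (algebraMap L M)))
      (hW : EtRam.Dominates A ((algebraMap K M).comp (algebraMap A K)) W),
      letI algAV : Algebra A (W.comap (algebraMap L M)) := (RingHom.codRestrict _ _ hV.1).toAlgebra
      letI algAW : Algebra A W := (RingHom.codRestrict _ _ hW.1).toAlgebra
      letI algVW : Algebra (W.comap (algebraMap L M)) W :=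
        (EtRam.inclOfComap W (algebraMap L M)).toAlgebra
      ∀ [IsLocalHom (algebraMap A (W.comap (algebraMap L M)))] [IsLocalHom (algebraMap A W)],
      (Algebra.IsSeparable (IsLocalRing.ResidueField A) (IsLocalRing.ResidueField W) →
        Algebra.IsSeparable (IsLocalRing.ResidueField A)
          (IsLocalRing.ResidueField (W.comap (algebraMap L M)))) ∧
      (Ideal.ramificationIdx' (IsLocalRing.maximalIdeal A) (IsLocalRing.maximalIdeal W) =
        Ideal.ramificationIdx' (IsLocalRing.maximalIdeal A)
          (IsLocalRing.maximalIdeal (W.comap (algebraMap L M))) *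
        Ideal.ramificationIdx' (IsLocalRing.maximalIdeal (W.comap (algebraMap L M)))
          (IsLocalRing.maximalIdeal W)) := by
    intro W hV hW
    letI algAV : Algebra A (W.comap (algebraMap L M)) := (RingHom.codRestrict _ _ hV.1).toAlgebra
    letI algAW : Algebra A W := (RingHom.codRestrict _ _ hW.1).toAlgebra
    intro instAV instAW
    letI algVW : Algebra (W.comap (algebraMap L M)) W :=
      (EtRam.inclOfComap W (algebraMap L M)).toAlgebra
    haveI : IsLocalHom (algebraMap (W.comap (algebraMap L M)) W) :=
      EtRam.isLocalHom_inclOfComap W (algebraMap L M)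
    haveI : IsScalarTower A (W.comap (algebraMap L M)) W := by
      refine IsScalarTower.of_algebraMap_eq fun a => Subtype.ext ?_
      show (algebraMap K M) (algebraMap A K a) = algebraMap L M (algebraMap K L (algebraMap A K a))
      rw [← IsScalarTower.algebraMap_apply K L M]
    haveI : IsDiscreteValuationRing (W.comap (algebraMap L M)) :=
      isDiscreteValuationRing_of_dominates (K := K) _ hV
    haveI : IsDiscreteValuationRing W := isDiscreteValuationRing_of_dominates (K := K) _ hW
    have hAV : Function.Injective (algebraMap A (W.comap (algebraMap L M))) :=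
      injective_codRestrict_of_dominates _ hV
    have hVW : Function.Injective (algebraMap (W.comap (algebraMap L M)) W) := by
      intro x y hxy
      have : algebraMap L M x = algebraMap L M y := congrArg Subtype.val hxy
      exact Subtype.ext ((algebraMap L M).injective this)
    refine ⟨fun hsep => ?_, ramificationIdx'_tower hAV hVW⟩
    exact isSeparable_residue_bot (A := A) (B := W.comap (algebraMap L M)) (C := W)
  constructor
  · intro hM V hV
    obtain ⟨W, rfl⟩ := exists_comap_eq (algebraMap L M) V
    have hW : EtRam.Dominates A ((algebraMap K M).comp (algebraMap A K)) W := by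
      rw [← hcomp]; exact (dominates_comap_iff _ _ W).1 hV
    letI algAV : Algebra A (W.comap (algebraMap L M)) := (RingHom.codRestrict _ _ hV.1).toAlgebra
    letI algAW : Algebra A W := (RingHom.codRestrict _ _ hW.1).toAlgebra
    intro instAV
    haveI instAW : IsLocalHom (algebraMap A W) := isLocalHom_of_dominates _ W hW
    obtain ⟨hsep, hp⟩ := hM W hW
    obtain ⟨k1, k2⟩ := key W hV hW
    refine ⟨k1 hsep, fun p hpp hchar hdvd => hp p hpp hchar ?_⟩
    rw [k2]
    exact Dvd.dvd.mul_right hdvd _
  · intro hM V hV
    obtain ⟨W, rfl⟩ := exists_comap_eq (algebraMap L M) V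
    have hW : EtRam.Dominates A ((algebraMap K M).comp (algebraMap A K)) W := by
      rw [← hcomp]; exact (dominates_comap_iff _ _ W).1 hV
    letI algAV : Algebra A (W.comap (algebraMap L M)) := (RingHom.codRestrict _ _ hV.1).toAlgebra
    letI algAW : Algebra A W := (RingHom.codRestrict _ _ hW.1).toAlgebra
    intro instAV
    haveI instAW : IsLocalHom (algebraMap A W) := isLocalHom_of_dominates _ W hW
    obtain ⟨hwu, hsep⟩ := hM W hW
    obtain ⟨k1, k2⟩ := key W hV hW
    haveI : IsDiscreteValuationRing (W.comap (algebraMap L M)) :=
      isDiscreteValuationRing_of_dominates (K := K) _ hV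
    haveI : IsDiscreteValuationRing W := isDiscreteValuationRing_of_dominates (K := K) _ hW
    have hAV : Function.Injective (algebraMap A (W.comap (algebraMap L M))) :=
      injective_codRestrict_of_dominates _ hV
    have hAW : Function.Injective (algebraMap A W) := injective_codRestrict_of_dominates _ hW
    refine ⟨?_, k1 hsep⟩
    unfold EtRam.IsWeaklyUnramified at hwu ⊢
    rw [isWeaklyUnramified_iff hAW, k2] at hwu
    rw [isWeaklyUnramified_iff hAV]
    exact Nat.eq_one_of_mul_eq_one_right hwu

end Groth.Agent.S1989
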