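import Groth.Statements.S19890
import Mathlib.RingTheory.Flat.EquationalCriterion
import Mathlib.RingTheory.Flat.FaithfullyFlat.Algebra

set_option autoImplicit false
universe u
open CAlg

namespace Groth.Agent.S19890

def col {R : Type u} [CommRing R] (a b : R) : Ideal R where
  carrier := {r | a ∣ r * b}
  add_mem' := by
    intro r s hr hs
    simp only [Set.mem_ofPred_eq] at hr hs ⊢
    rw [add_mul]
    exact dvd_add hr hs
  zero_mem' := by simp
  smul_mem' := by
    intro c r hr
    simp only [Set.mem_ofPred_eq, smul_eq_mul] at hr ⊢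
    rw [mul_assoc]
    exact Dvd.dvd.mul_left hr c

theorem mem_col {R : Type u} [CommRing R] {a b r : R} : r ∈ col a b ↔ a ∣ r * b := Iff.rfl

theorem lemmaA {R R' : Type u} [CommRing R] [CommRing R'] [Algebra R R'] [Module.Flat R R']
    (a b : R) (r' : R') (h : algebraMap R R' a ∣ r' * algebraMap R R' b) :
    r' ∈ (col a b).map (algebraMap R R') := by
  obtain ⟨s', hs'⟩ := h
  have hrel : ∑ i : Fin 2, (![b, -a] : Fin 2 → R) i • (![r', s'] : Fin 2 → R') i = 0 := by
    simp only [Fin.sum_univ_two, Matrix.cons_val_zero, Matrix.cons_val_one, Algebra.smul_def,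
      map_neg]
    rw [mul_comm, hs']
    ring
  obtain ⟨k, c, y, hx, hc⟩ := Module.Flat.isTrivialRelation_of_sum_smul_eq_zero hrel
  have h0 := hx 0
  simp only [Matrix.cons_val_zero] at h0
  rw [h0]
  refine sum_mem fun j _ => ?_
  rw [Algebra.smul_def]
  refine Ideal.mul_mem_right _ _ (Ideal.mem_map_of_mem _ ?_)
  rw [mem_col]
  have := hc j
  simp only [Fin.sum_univ_two, Matrix.cons_val_zero, Matrix.cons_val_one] at this
  refine ⟨c 1 j, ?_⟩
  linear_combination this

theorem lemmaB {R' : Type u} [CommRing R'] [IsDomain R'] [UniqueFactorizationMonoid R']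
    (a' b' : R') (ha : a' ≠ 0) : ∃ c : R', ∀ r' : R', a' ∣ r' * b' ↔ c ∣ r' := by
  classical
  let _ := UniqueFactorizationMonoid.toGCDMonoid R'
  obtain ⟨a₁, b₁, ha₁, hb₁, hu⟩ := extract_gcd a' b'
  generalize gcd a' b' = g at ha₁ hb₁
  subst ha₁ hb₁
  have hg : g ≠ 0 := fun h => ha (by rw [h, zero_mul])
  refine ⟨a₁, fun r' => ?_⟩
  have hrel : IsRelPrime a₁ b₁ := (gcd_isUnit_iff_isRelPrime).mp hu
  constructor
  · intro h
    rw [mul_left_comm, mul_dvd_mul_iff_left hg] at h
    exact hrel.dvd_of_dvd_mul_right h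
  · intro h
    rw [mul_left_comm]
    exact mul_dvd_mul_left _ (Dvd.dvd.mul_right h b₁)

theorem lemmaC {R R' : Type u} [CommRing R] [CommRing R'] [IsDomain R'] [IsLocalRing R']
    [Algebra R R'] [Module.FaithfullyFlat R R'] (I : Ideal R) (hI : I.FG) (c : R')
    (hc : I.map (algebraMap R R') = Ideal.span {c}) : ∃ t : R, I = Ideal.span {t} := by
  classical
  by_cases hc0 : c = 0
  · refine ⟨0, ?_⟩
    rw [← Ideal.comap_map_eq_self_of_faithfullyFlat (B := R') I, hc, hc0,
      ← Ideal.comap_map_eq_self_of_faithfullyFlat (B := R') (Ideal.span {(0 : R)}), Ideal.map_span]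
    simp
  obtain ⟨s, rfl⟩ := hI
  have hmap : (Ideal.span (s : Set R)).map (algebraMap R R') =
      Ideal.span ((algebraMap R R') '' (s : Set R)) := Ideal.map_span _ _
  have hcmem : c ∈ Ideal.span ((algebraMap R R') '' (s : Set R)) := by
    rw [← hmap, hc]
    exact Ideal.mem_span_singleton_self c
  rw [Ideal.span, Submodule.mem_span_image_finset_iff_exists_fun'] at hcmem
  obtain ⟨y, hy⟩ := hcmem
  have hz : ∀ x : R, ∃ z : R', x ∈ s → algebraMap R R' x = c * z := by
    intro x
    by_cases hx : x ∈ s
    · have : algebraMap R R' x ∈ Ideal.span {c} := by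
        rw [← hc]
        exact Ideal.mem_map_of_mem _ (Ideal.subset_span hx)
      obtain ⟨z, hz⟩ := Ideal.mem_span_singleton'.mp this
      exact ⟨z, fun _ => by rw [← hz, mul_comm]⟩
    · exact ⟨0, fun h => absurd h hx⟩
  choose z hz using hz
  have hsum : ∑ x ∈ s, y x * z x = 1 := by
    have h1 : c * ∑ x ∈ s, y x * z x = c * 1 := by
      rw [mul_one, Finset.mul_sum]
      conv_rhs => rw [← hy]
      refine Finset.sum_congr rfl fun x hx => ?_
      rw [smul_eq_mul, hz x hx]
      ring
    exact mul_left_cancel₀ hc0 h1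
  have hex : ∃ x ∈ s, IsUnit (y x * z x) := by
    by_contra hcon
    push Not at hcon
    have : ∑ x ∈ s, y x * z x ∈ IsLocalRing.maximalIdeal R' :=
      sum_mem fun x hx => (IsLocalRing.mem_maximalIdeal _).mpr (hcon x hx)
    rw [hsum] at this
    exact (Ideal.ne_top_iff_one _).mp (IsLocalRing.maximalIdeal.isMaximal R').ne_top this
  obtain ⟨x, hxs, hu⟩ := hex
  have huz : IsUnit (z x) := isUnit_of_mul_isUnit_right hu
  refine ⟨x, ?_⟩
  rw [← Ideal.comap_map_eq_self_of_faithfullyFlat (B := R') (Ideal.span (s : Set R)), hc,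
    ← Ideal.comap_map_eq_self_of_faithfullyFlat (B := R') (Ideal.span {x}), Ideal.map_span,
    Set.image_singleton, hz x hxs, Ideal.span_singleton_mul_right_unit huz]

theorem prime_of_irreducible (R R' : Type u) [CommRing R] [CommRing R'] [IsDomain R] [IsDomain R']
    [IsNoetherianRing R] [IsLocalRing R']
    [Algebra R R'] [Module.FaithfullyFlat R R'] [UniqueFactorizationMonoid R']
    (π : R) (hπ : Irreducible π) : Prime π := by
  have hinj : Function.Injective (algebraMap R R') :=
    FaithfulSMul.algebraMap_injective R R'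
  have hπ0 : algebraMap R R' π ≠ 0 := by
    rw [Ne, map_eq_zero_iff _ hinj]
    exact hπ.ne_zero
  refine ⟨hπ.ne_zero, hπ.not_isUnit, fun x y hxy => ?_⟩
  obtain ⟨c, hc⟩ := lemmaB (algebraMap R R' π) (algebraMap R R' x) hπ0
  have hmap : (col π x).map (algebraMap R R') = Ideal.span {c} := by
    apply le_antisymm
    · rw [Ideal.map_le_iff_le_comap]
      intro r hr
      rw [Ideal.mem_comap, Ideal.mem_span_singleton, ← hc, ← map_mul]
      exact map_dvd _ (mem_col.mp hr)
    · rw [Ideal.span_singleton_le_iff_mem]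
      exact lemmaA π x c ((hc c).mpr dvd_rfl)
  obtain ⟨t, ht⟩ := lemmaC (col π x) (IsNoetherian.noetherian _) c hmap
  have hπI : π ∈ col π x := mem_col.mpr (dvd_mul_right π x)
  rw [ht, Ideal.mem_span_singleton] at hπI
  obtain ⟨s, hs⟩ := hπI
  rcases hπ.isUnit_or_isUnit hs with hu | hu
  · left
    have : (1 : R) ∈ col π x := by
      rw [ht]
      exact Ideal.mem_span_singleton.mpr hu.dvd
    simpa [mem_col] using this
  · right
    have hy : y ∈ col π x := mem_col.mpr (by rwa [mul_comm])
    rw [ht, Ideal.mem_span_singleton] at hy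
    rw [hs]
    exact (hu.mul_right_dvd).mpr hy


/-- Let R → R' be a faithfully flat ring map between Noetherian integrally closed local domains. Then
unique factorization descends along this map: when R' is a UFD, so is R. (The first assertion of the
lemma, descent of principality for an ideal whose extension to R' is principal, is a separate
statement.) -/
theorem result
    (R R' : Type u) [CommRing R] [CommRing R'] [IsDomain R] [IsDomain R']
    [IsNoetherianRing R] [IsNoetherianRing R'] [IsLocalRing R] [IsLocalRing R']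
    [IsIntegrallyClosed R] [IsIntegrallyClosed R']
    [Algebra R R'] [Module.FaithfullyFlat R R'] [UniqueFactorizationMonoid R'] :
    UniqueFactorizationMonoid R := by
  have hwf : WfDvdMonoid R := inferInstance
  exact { toIsWellFounded := hwf
          irreducible_iff_prime := fun {a} =>
            ⟨fun h => prime_of_irreducible R R' a h, Prime.irreducible⟩ }

end Groth.Agent.S19890
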