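import Groth.Statements.S19891
import Groth.Agent.Lib.Helper41.QCClosure
import Mathlib.AlgebraicGeometry.ValuativeCriterion

set_option autoImplicit false
universe u
open CategoryTheory AlgebraicGeometry
open ValCrit

namespace Groth.Agent.S19891

open CategoryTheory.Limits IsLocalRing in
set_option backward.isDefEq.respectTransparency.types false in
/-- Key construction: if `g z ⤳ w` then there is a valuation ring `A` of `κ(z)` and
`ψ : Spec A ⟶ W` sending the closed point to `w` and restricting to `Spec κ(z) → Z → W`. -/
lemma exists_valuationSubring_of_specializes {Z W : Scheme.{u}} (g : Z ⟶ W) (z : Z) (w : W)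
    (hz : g.base z ⤳ w) :
    ∃ (A : ValuationSubring ↑(Z.residueField z)) (ψ : Spec (CommRingCat.of ↥A) ⟶ W),
      Spec.map (CommRingCat.ofHom A.subtype) ≫ ψ = Z.fromSpecResidueField z ≫ g ∧
      ψ.base (closedPoint ↥A) = w := by
  let stalk_w_to_residue_z : W.presheaf.stalk w ⟶ Z.residueField z :=
    W.presheaf.stalkSpecializes hz ≫ g.stalkMap z ≫ Z.residue z
  obtain ⟨A, hA, hA_local⟩ := exists_factor_valuationRing stalk_w_to_residue_z.hom
  let stalk_w_to_A : W.presheaf.stalk w ⟶ .of A :=
    CommRingCat.ofHom (stalk_w_to_residue_z.hom.codRestrict _ hA)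
  have hw : Z.fromSpecResidueField z ≫ g =
      Spec.map (CommRingCat.ofHom (algebraMap A (Z.residueField z))) ≫
        Spec.map stalk_w_to_A ≫ W.fromSpecStalk w := by
    rw [Scheme.fromSpecResidueField, Category.assoc, ← Scheme.SpecMap_stalkMap_fromSpecStalk,
      ← Scheme.SpecMap_stalkSpecializes_fromSpecStalk hz]
    simp_rw [← Spec.map_comp_assoc]
    rfl
  refine ⟨A, Spec.map stalk_w_to_A ≫ W.fromSpecStalk w, hw.symm, ?_⟩
  simp only [Scheme.Hom.comp_base, TopCat.coe_comp, Function.comp_apply]
  have : Spec.map stalk_w_to_A (closedPoint A) = closedPoint (W.presheaf.stalk w) :=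
    comap_closedPoint (S := A) (stalk_w_to_residue_z.hom.codRestrict A.toSubring hA)
  rw [this, W.fromSpecStalk_closedPoint]

/-- Let h : Z → Y and f : Y → X be morphisms of quasi-compact quasi-separated schemes, with h dominant.
Then f is separated if and only if the following refined uniqueness criterion holds: for every point
z of Z, every valuation ring R of the residue field κ(z) and every morphism φ : Spec R → X whose
restriction to Spec κ(z) is the canonical morphism Spec κ(z) → Z → Y → X, any two morphisms Spec R →
Y lying over φ and restricting to Spec κ(z) → Z → Y on the generic point coincide. (The published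
statement does not require h to be dominant; its proof uses that every point of Y generalises to a
point of h(Z), and for Z empty the criterion holds whatever f is, so dominance of h is assumed
here.) -/
theorem result {X Y Z : Scheme.{u}} (h : Z ⟶ Y) (f : Y ⟶ X)
    [CompactSpace ↥Z] [QuasiSeparatedSpace ↥Z] [CompactSpace ↥Y] [QuasiSeparatedSpace ↥Y]
    [CompactSpace ↥X] [QuasiSeparatedSpace ↥X] (hd : DenseRange h.base) :
    IsSeparated f ↔
      ∀ (z : ↥Z) (R : ValuationSubring ↑(Z.residueField z)) (φ : Spec (CommRingCat.of ↥R) ⟶ X),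
        Spec.map (CommRingCat.ofHom R.subtype) ≫ φ = Z.fromSpecResidueField z ≫ h ≫ f →
        ∀ φ₁ φ₂ : Spec (CommRingCat.of ↥R) ⟶ Y,
          Spec.map (CommRingCat.ofHom R.subtype) ≫ φ₁ = Z.fromSpecResidueField z ≫ h → φ₁ ≫ f = φ →
          Spec.map (CommRingCat.ofHom R.subtype) ≫ φ₂ = Z.fromSpecResidueField z ≫ h → φ₂ ≫ f = φ →
          φ₁ = φ₂ := by
  constructor
  · intro hsep z R φ hφ φ₁ φ₂ h₁ h₁' h₂ h₂'
    have huniq := IsSeparated.valuativeCriterion f
    let S : ValuativeCommSq f :=
      { R := R, K := Z.residueField z, i₁ := Z.fromSpecResidueField z ≫ h, i₂ := φ,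
        commSq := ⟨by rw [Category.assoc]; exact hφ.symm⟩ }
    have := huniq S
    let l₁ : S.commSq.LiftStruct := ⟨φ₁, h₁, h₁'⟩
    let l₂ : S.commSq.LiftStruct := ⟨φ₂, h₂, h₂'⟩
    exact congrArg CommSq.LiftStruct.l (Subsingleton.elim l₁ l₂)
  · intro H
    refine ⟨?_⟩
    apply IsClosedImmersion.of_isPreimmersion
    rw [← closure_subset_iff_isClosed]
    intro w hw
    let g : Z ⟶ Limits.pullback f f := h ≫ Limits.pullback.diagonal f
    have hw' : w ∈ closure (Set.range g.base) := by
      have h1 : Set.range (Limits.pullback.diagonal f).base ⊆ closure (Set.range g.base) := by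
        rintro _ ⟨y, rfl⟩
        have hy : y ∈ closure (Set.range h.base) := hd y
        have := image_closure_subset_closure_image (Limits.pullback.diagonal f).continuous
          (Set.mem_image_of_mem _ hy)
        rw [← Set.range_comp] at this
        exact this
      exact closure_minimal h1 isClosed_closure hw
    obtain ⟨z, hz⟩ := Groth.Agent.Lib.Helper41.exists_specializes_of_mem_closure_range g w hw'
    obtain ⟨A, ψ, hψ₁, hψ₂⟩ := exists_valuationSubring_of_specializes g z w hz
    have key := H z A (ψ ≫ Limits.pullback.fst f f ≫ f)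
      (by rw [reassoc_of% hψ₁]; simp [g])
      (ψ ≫ Limits.pullback.fst f f) (ψ ≫ Limits.pullback.snd f f)
      (by rw [reassoc_of% hψ₁]; simp [g]) (by simp)
      (by rw [reassoc_of% hψ₁]; simp [g]) (by simp [Limits.pullback.condition])
    have hψ : ψ = (ψ ≫ Limits.pullback.fst f f) ≫ Limits.pullback.diagonal f := by
      apply Limits.pullback.hom_ext
      · simp
      · simp [key]
    refine ⟨(ψ ≫ Limits.pullback.fst f f).base (IsLocalRing.closedPoint ↥A), ?_⟩
    rw [← hψ₂]
    conv_rhs => rw [hψ]
    rfl

end Groth.Agent.S19891
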