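import Groth.Statements.S19892
import Groth.Agent.Lib.Helper41.ValCenterVal
import Groth.Agent.Lib.Helper41.QCClosure
import Groth.Agent.S19891

set_option autoImplicit false
universe u
open CategoryTheory AlgebraicGeometry
open ValCrit

namespace Groth.Agent.S19892

/-- Let h : Z → Y and f : Y → X be morphisms of quasi-compact quasi-separated schemes, with h dominant
and f locally of finite type. Then f is proper if and only if the following refined valuative
criterion holds: for every point z of Z, every valuation ring R of the residue field κ(z) and every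
morphism φ : Spec R → X whose restriction to Spec κ(z) is the canonical morphism Spec κ(z) → Z → Y →
X, there is exactly one morphism Spec R → Y lying over φ and restricting to Spec κ(z) → Z → Y on the
generic point. (The published statement does not require h to be dominant; its proof uses that every
point of Y generalises to a point of h(Z), and for Z empty the criterion holds whatever f is, so
dominance of h is assumed here.) -/
theorem result {X Y Z : Scheme.{u}} (h : Z ⟶ Y) (f : Y ⟶ X)
    [CompactSpace ↥Z] [QuasiSeparatedSpace ↥Z] [CompactSpace ↥Y] [QuasiSeparatedSpace ↥Y]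
    [CompactSpace ↥X] [QuasiSeparatedSpace ↥X] (hd : DenseRange h.base)
    [LocallyOfFiniteType f] :
    IsProper f ↔
      ∀ (z : ↥Z) (R : ValuationSubring ↑(Z.residueField z)) (φ : Spec (CommRingCat.of ↥R) ⟶ X),
        Spec.map (CommRingCat.ofHom R.subtype) ≫ φ = Z.fromSpecResidueField z ≫ h ≫ f →
        ∃! φ' : Spec (CommRingCat.of ↥R) ⟶ Y,
          Spec.map (CommRingCat.ofHom R.subtype) ≫ φ' = Z.fromSpecResidueField z ≫ h ∧ φ' ≫ f = φ := by
  constructor
  · intro hf z R φ hφ
    have hE : (ValuativeCriterion.Existence ⊓ @QuasiCompact) f := by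
      rw [← UniversallyClosed.eq_valuativeCriterion]; infer_instance
    have hU := IsSeparated.valuativeCriterion f
    have hc : CommSq (Z.fromSpecResidueField z ≫ h)
        (Spec.map (CommRingCat.ofHom (algebraMap R (Z.residueField z)))) f φ :=
      ⟨by rw [Category.assoc]; exact hφ.symm⟩
    let Sq : ValuativeCommSq f := { R := R, K := Z.residueField z, commSq := hc, .. }
    obtain ⟨⟨l⟩⟩ := hE.1 Sq
    refine ⟨l.l, ⟨l.fac_left, l.fac_right⟩, fun l' hl' => ?_⟩
    have hsub := hU Sq
    have := hsub.elim ⟨l', hl'.1, hl'.2⟩ l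
    exact congrArg CommSq.LiftStruct.l this
  · intro H
    haveI : IsSeparated f := by
      rw [Groth.Agent.S19891.result h f hd]
      intro z R φ hφ φ₁ φ₂ h₁ h₁' h₂ h₂'
      obtain ⟨l, -, hl⟩ := H z R φ hφ
      rw [hl φ₁ ⟨h₁, h₁'⟩, hl φ₂ ⟨h₂, h₂'⟩]
    haveI : QuasiCompact h := inferInstance
    haveI : QuasiCompact f := inferInstance
    refine Groth.Agent.Lib.Helper41.ValCenter.isProper_of_valLiftAt f (fun y₁ => ?_)
    obtain ⟨z, hz⟩ := Groth.Agent.Lib.Helper41.exists_specializes_of_mem_closure_range h y₁ (hd y₁)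
    refine ⟨h.base z, hz, fun V y hy => ?_⟩
    let ψ : Y.residueField (h.base z) ⟶ Z.residueField z := h.residueFieldMap z
    obtain ⟨R', hmem, hloc⟩ := IsLocalRing.exists_factor_valuationRing (ψ.hom.comp V.subtype)
    let ι : V →+* R' := (ψ.hom.comp V.subtype).codRestrict R'.toSubring hmem
    haveI : IsLocalHom ι := hloc
    let φ : Spec (CommRingCat.of R') ⟶ X := Spec.map (CommRingCat.ofHom ι) ≫ y
    have hres : Z.fromSpecResidueField z ≫ h =
        Spec.map ψ ≫ Y.fromSpecResidueField (h.base z) :=
      (Scheme.Hom.SpecMap_residueFieldMap_fromSpecResidueField h z).symm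
    have hιc : CommRingCat.ofHom ι ≫ CommRingCat.ofHom R'.subtype =
        CommRingCat.ofHom V.subtype ≫ ψ := rfl
    have hφ : Spec.map (CommRingCat.ofHom R'.subtype) ≫ φ =
        Z.fromSpecResidueField z ≫ h ≫ f := by
      change _ ≫ Spec.map _ ≫ y = _
      rw [← Category.assoc, ← Spec.map_comp, hιc, Spec.map_comp, Category.assoc, hy,
        ← Category.assoc, ← hres, Category.assoc]
    obtain ⟨φ', ⟨hφ'₁, hφ'₂⟩, -⟩ := H z R' φ hφ
    obtain ⟨S₀, hS₀, hs₀, -⟩ := exists_isAffineOpen_mem_and_subset
      (show y.base (IsLocalRing.closedPoint V) ∈ (⊤ : X.Opens) from trivial)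
    have hX₀ : φ'.base (IsLocalRing.closedPoint R') ∈ f ⁻¹ᵁ S₀ := by
      change (φ' ≫ f).base (IsLocalRing.closedPoint R') ∈ S₀
      rw [hφ'₂]
      change (Spec.map (CommRingCat.ofHom ι) ≫ y).base (IsLocalRing.closedPoint R') ∈ S₀
      rw [Scheme.Hom.comp_apply]
      have h1 : Spec.map (CommRingCat.ofHom ι) (IsLocalRing.closedPoint R') =
          IsLocalRing.closedPoint V := IsLocalRing.comap_closedPoint ι
      rw [h1]
      exact hs₀
    obtain ⟨l, hl, hlcl⟩ := Groth.Agent.Lib.Helper41.ValCenter.hasCenterIn_of_extension ψ V R'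
      hmem hloc φ' (hφ'₁.trans hres) (f ⁻¹ᵁ S₀) hX₀
    exact ⟨l, Groth.Agent.Lib.Helper41.ValCenter.comp_eq_of_hasCenter f hS₀ l hl hlcl y hy hs₀, hl⟩

end Groth.Agent.S19892
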