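import Groth.Statements.S19895
import Groth.Agent.Lib.Helper99.VerlindeF

set_option autoImplicit false
open Complex
open VerlindeComb

namespace Groth.Agent.S19895

/-- Fix integers r ≥ 2 and k ≥ 1, and two partitions λ, λ' with k ≥ λ_1 ≥ ⋯ ≥ λ_{r-1} ≥ λ_r = 0 and k ≥
λ'_1 ≥ ⋯ ≥ λ'_{r-1} ≥ λ'_r = 0 such that λ is not equivalent to the dual partition λ'* = (k − λ'_r,
…, k − λ'_1), two integer vectors being equivalent when their difference is a constant vector (a, …,
a). For an integer vector v with r + k > v_1 > ⋯ > v_{r-1} > v_r = 0 put z(v)_j = exp(2πi v_j / (r +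
k)), let S_μ(v) = det(z(v)_j^{μ_i + r − i}) / det(z(v)_j^{r − i}) be the Schur value and P(v) =
∏_{i<j} (2 sin(π (v_i − v_j)/(r + k)))². Then the sum over all such v of exp(−2πi (|λ| + |λ'|) (v_1
+ ⋯ + v_r) / (r (r + k))) · S_λ(v) · S_{λ'}(v) · P(v) vanishes; that is, the genus-zero Verlinde
number of rank r, degree 0 and level k with two parabolic points of types λ, λ' is zero. (Only the
vanishing case is stated; the complementary case, where the number equals 1, is not part of this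
statement. The source allows r = 1, where the non-equivalence hypothesis cannot hold.) Indices are
0-based below: lam i stands for λ_{i+1}. -/
theorem result (r k : ℕ) (hr : 2 ≤ r)
    (hk : 1 ≤ k) (lam lam' : Fin r → ℕ) (hlam : Antitone lam) (hlamk : ∀ i, lam i ≤ k)
    (hlam0 : ∀ i : Fin r, (i : ℕ) = r - 1 → lam i = 0)
    (hlam' : Antitone lam') (hlam'k : ∀ i, lam' i ≤ k) (hlam'0 : ∀ i : Fin r, (i : ℕ) = r - 1 → lam' i = 0)
    (hne : ¬ ∃ a : ℤ, ∀ i, (lam i : ℤ) - ((k - lam' (Fin.rev i) : ℕ) : ℤ) = a)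
    (z : (Fin r → ℕ) → Fin r → ℂ)
    (hz : ∀ v j, z v j = Complex.exp (2 * Real.pi * Complex.I * (v j : ℂ) / ((r : ℂ) + k)))
    (S : (Fin r → ℕ) → (Fin r → ℕ) → ℂ)
    (hS : ∀ μ v, S μ v = (Matrix.of fun i j : Fin r => z v j ^ (μ i + (r - 1 - (i : ℕ)))).det /
        (Matrix.of fun i j : Fin r => z v j ^ (r - 1 - (i : ℕ))).det)
    (P : (Fin r → ℕ) → ℝ)
    (hP : ∀ v, P v = ∏ p ∈ (Finset.univ : Finset (Fin r × Fin r)).filter (fun p => p.1 < p.2),
        ((2 : ℝ) * Real.sin (Real.pi * ((v p.1 : ℝ) - (v p.2 : ℝ)) / ((r : ℝ) + k))) ^ 2) :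
    (∑ v ∈ (Finset.univ : Finset (Fin r → Fin (r + k))).filter
        (fun v : Fin r → Fin (r + k) => StrictAnti v ∧ ∀ i : Fin r, (i : ℕ) = r - 1 → (v i : ℕ) = 0),
      Complex.exp (-(2 * Real.pi * Complex.I * (((∑ i, lam i) + (∑ i, lam' i) : ℕ) : ℂ) *
          ((∑ j, (v j : ℕ) : ℕ) : ℂ) / ((r : ℂ) * ((r : ℂ) + k)))) *
        S lam (fun j => (v j : ℕ)) * S lam' (fun j => (v j : ℕ)) * (P (fun j => (v j : ℕ)) : ℂ)) = 0 := by
  classical
  have hr0 : 0 < r := by omega
  have hn0 : 0 < r + k := by omega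
  have hnne : r + k ≠ 0 := by omega
  -- the exponent vectors
  set a : Fin r → ℤ := fun i => ((lam i + (r - 1 - (i : ℕ)) : ℕ) : ℤ) with ha_def
  set β : Fin r → ℤ := fun i => ((lam' i + (r - 1 - (i : ℕ)) : ℕ) : ℤ) with hβ_def
  set b : Fin r → ℤ := fun i => - β (Fin.rev i) with hb_def
  have hrev : ∀ i : Fin r, ((Fin.rev i : Fin r) : ℕ) = r - 1 - (i : ℕ) := by
    intro i; rw [Fin.val_rev]; omega
  have ha : StrictAnti a := by
    intro i j hij
    have h1 := hlam hij.le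
    have h2 : (i : ℕ) < (j : ℕ) := hij
    have h3 := j.2
    simp only [ha_def]
    exact_mod_cast (by omega : lam j + (r - 1 - (j : ℕ)) < lam i + (r - 1 - (i : ℕ)))
  have hb : StrictAnti b := by
    intro i j hij
    have h2 : (i : ℕ) < (j : ℕ) := hij
    have h3 := j.2
    have h1 : lam' (Fin.rev i) ≤ lam' (Fin.rev j) := hlam' (Fin.rev_le_rev.2 hij.le)
    simp only [hb_def, hβ_def, hrev]
    have : lam' (Fin.rev i) + (r - 1 - (r - 1 - (i : ℕ))) < lam' (Fin.rev j) + (r - 1 - (r - 1 - (j : ℕ))) := by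
      omega
    have h4 : ((lam' (Fin.rev i) + (r - 1 - (r - 1 - (i : ℕ))) : ℕ) : ℤ) <
        ((lam' (Fin.rev j) + (r - 1 - (r - 1 - (j : ℕ))) : ℕ) : ℤ) := by exact_mod_cast this
    linarith
  have hspan_a : ∀ i j, a i - a j < ((r + k : ℕ) : ℤ) := by
    intro i j
    have h1 := hlamk i
    have h2 : (0 : ℤ) ≤ a j := by simp only [ha_def]; positivity
    have h3 : a i ≤ ((k + (r - 1) : ℕ) : ℤ) := by
      simp only [ha_def]; exact_mod_cast (by omega : lam i + (r - 1 - (i : ℕ)) ≤ k + (r - 1))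
    have h4 : ((k + (r - 1) : ℕ) : ℤ) < ((r + k : ℕ) : ℤ) := by exact_mod_cast (by omega)
    linarith
  have hspan_b : ∀ i j, b i - b j < ((r + k : ℕ) : ℤ) := by
    intro i j
    have h1 := hlam'k (Fin.rev j)
    have h2 : (0 : ℤ) ≤ β (Fin.rev i) := by simp only [hβ_def]; positivity
    have h3 : β (Fin.rev j) ≤ ((k + (r - 1) : ℕ) : ℤ) := by
      simp only [hβ_def]
      exact_mod_cast (by omega : lam' (Fin.rev j) + (r - 1 - ((Fin.rev j : Fin r) : ℕ)) ≤ k + (r - 1))
    have h4 : ((k + (r - 1) : ℕ) : ℤ) < ((r + k : ℕ) : ℤ) := by exact_mod_cast (by omega)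
    simp only [hb_def]
    linarith
  have hab : ∀ i, a i - b i = (lam i : ℤ) + (lam' (Fin.rev i) : ℤ) + ((r : ℤ) - 1) := by
    intro i
    simp only [ha_def, hb_def, hβ_def, hrev]
    have h3 := i.2
    have : ((lam' (Fin.rev i) + (r - 1 - (r - 1 - (i : ℕ))) : ℕ) : ℤ) = (lam' (Fin.rev i) : ℤ) + (i : ℕ) := by
      have : r - 1 - (r - 1 - (i : ℕ)) = (i : ℕ) := by omega
      rw [this]; push_cast; ring
    rw [this]
    have : ((lam i + (r - 1 - (i : ℕ)) : ℕ) : ℤ) = (lam i : ℤ) + ((r : ℤ) - 1 - (i : ℕ)) := by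
      rw [Nat.cast_add, Nat.cast_sub (by omega), Nat.cast_sub (by omega)]; simp
    rw [this]; ring
  have hne' : ¬ ∃ m : ℤ, ∀ i, a i - b i = m := by
    rintro ⟨m, hm⟩
    apply hne
    refine ⟨m - ((r : ℤ) - 1) - k, fun i => ?_⟩
    have h1 := hm i
    rw [hab i] at h1
    rw [Nat.cast_sub (hlam'k (Fin.rev i))]
    linarith
  have key := Groth.Agent.Lib.Helper99.Verlinde.SU_gen (n := r + k) a b ha hb hspan_a hspan_b hne'
  rw [← key]
  have hsumab : ∑ i, a i - ∑ i, b i =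
      (((∑ i, lam i) + (∑ i, lam' i) : ℕ) : ℤ) + (r : ℤ) * ((r : ℤ) - 1) := by
    have h1 : ∑ i, b i = - ∑ i, β i := by
      simp only [hb_def, Finset.sum_neg_distrib]
      congr 1
      exact Equiv.sum_comp Fin.revPerm β
    have h2 : ∑ i, a i = ((∑ i, lam i : ℕ) : ℤ) + ∑ i, Groth.Agent.Lib.Helper99.Verlinde.rho r i := by
      simp only [ha_def, Groth.Agent.Lib.Helper99.Verlinde.rho]
      push_cast
      rw [Finset.sum_add_distrib]
    have h3 : ∑ i, β i = ((∑ i, lam' i : ℕ) : ℤ) + ∑ i, Groth.Agent.Lib.Helper99.Verlinde.rho r i := by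
      simp only [hβ_def, Groth.Agent.Lib.Helper99.Verlinde.rho]
      push_cast
      rw [Finset.sum_add_distrib]
    have h4 := Groth.Agent.Lib.Helper99.Verlinde.two_mul_sum_rho r
    rw [h1, h2, h3]
    push_cast
    linarith
  refine Finset.sum_congr ?_ ?_
  · apply Finset.filter_congr
    intro v _
    exact and_congr_right
      (fun hv => Groth.Agent.Lib.Helper99.Verlinde.exists_zero_iff_last hn0 v hv hr0)
  · intro v hv
    rw [Finset.mem_filter] at hv
    have hvanti : StrictAnti v := hv.2.1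
    set w : Fin r → ℤ := fun j => ((v j : ℕ) : ℤ) with hw_def
    have hzE : ∀ j, z (fun j => (v j : ℕ)) j =
        Groth.Agent.Lib.Helper99.Verlinde.E (r + k) (w j) := by
      intro j
      rw [hz, Groth.Agent.Lib.Helper99.Verlinde.E]
      simp only [hw_def]
      push_cast
      rfl
    have hΔ : Groth.Agent.Lib.Helper99.Verlinde.A (r + k)
        (Groth.Agent.Lib.Helper99.Verlinde.rho r) w ≠ 0 :=
      Groth.Agent.Lib.Helper99.Verlinde.A_rho_ne_zero hnne w
        (Groth.Agent.Lib.Helper99.Verlinde.val_int_inj_of_dvd v hvanti.injective)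
    have hS1 : S lam (fun j => (v j : ℕ)) =
        Groth.Agent.Lib.Helper99.Verlinde.A (r + k) a w /
          Groth.Agent.Lib.Helper99.Verlinde.A (r + k) (Groth.Agent.Lib.Helper99.Verlinde.rho r) w := by
      rw [hS, Groth.Agent.Lib.Helper99.Verlinde.det_pow_eq_A (r + k) _ w hzE,
        Groth.Agent.Lib.Helper99.Verlinde.det_pow_eq_A (r + k) _ w hzE]
      rfl
    have hS2 : S lam' (fun j => (v j : ℕ)) =
        Groth.Agent.Lib.Helper99.Verlinde.A (r + k) β w /
          Groth.Agent.Lib.Helper99.Verlinde.A (r + k) (Groth.Agent.Lib.Helper99.Verlinde.rho r) w := by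
      rw [hS, Groth.Agent.Lib.Helper99.Verlinde.det_pow_eq_A (r + k) _ w hzE,
        Groth.Agent.Lib.Helper99.Verlinde.det_pow_eq_A (r + k) _ w hzE]
      rfl
    have hP1 : (P (fun j => (v j : ℕ)) : ℂ) =
        Groth.Agent.Lib.Helper99.Verlinde.A (r + k) (Groth.Agent.Lib.Helper99.Verlinde.rho r) w *
          Groth.Agent.Lib.Helper99.Verlinde.A (r + k)
            (fun i => - Groth.Agent.Lib.Helper99.Verlinde.rho r i) w := by
      rw [hP, ← Groth.Agent.Lib.Helper99.Verlinde.prod_two_sin_sq_eq]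
      simp only [hw_def]
      push_cast
      rfl
    have hβb : Groth.Agent.Lib.Helper99.Verlinde.A (r + k) β w =
        Groth.Agent.Lib.Helper99.Verlinde.sgnRev r *
          Groth.Agent.Lib.Helper99.Verlinde.A (r + k) (fun i => - b i) w := by
      have h1 : (fun i => - b i) = fun i => β (Fin.rev i) := by
        funext i; simp only [hb_def, neg_neg]
      rw [h1, Groth.Agent.Lib.Helper99.Verlinde.A_comp_rev, ← mul_assoc,
        Groth.Agent.Lib.Helper99.Verlinde.sgnRev_mul_self, one_mul]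
    have hexp : Complex.exp (-(2 * Real.pi * Complex.I * (((∑ i, lam i) + (∑ i, lam' i) : ℕ) : ℂ) *
          ((∑ j, (v j : ℕ) : ℕ) : ℂ) / ((r : ℂ) * ((r : ℂ) + k)))) =
        Groth.Agent.Lib.Helper99.Verlinde.E (r * (r + k))
          (-(((∑ i, lam i) + (∑ i, lam' i) : ℕ) : ℤ) * ∑ j, w j) := by
      rw [Groth.Agent.Lib.Helper99.Verlinde.E]
      simp only [hw_def]
      congr 1
      push_cast
      ring
    rw [hS1, hS2, hP1, Groth.Agent.Lib.Helper99.Verlinde.A_neg_rho, hβb, hexp,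
      Groth.Agent.Lib.Helper99.Verlinde.H, Groth.Agent.Lib.Helper99.Verlinde.H₀, hsumab]
    have hE : Groth.Agent.Lib.Helper99.Verlinde.E (r + k) (-((r : ℤ) - 1) * ∑ j, w j) =
        Groth.Agent.Lib.Helper99.Verlinde.E (r * (r + k)) ((r : ℤ) * (-((r : ℤ) - 1) * ∑ j, w j)) :=
      (Groth.Agent.Lib.Helper99.Verlinde.E_mul_mul r hr0.ne' (r + k) _).symm
    have hE2 : Groth.Agent.Lib.Helper99.Verlinde.E (r * (r + k))
          (-((((∑ i, lam i) + (∑ i, lam' i) : ℕ) : ℤ) + (r : ℤ) * ((r : ℤ) - 1)) * ∑ j, w j) =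
        Groth.Agent.Lib.Helper99.Verlinde.E (r * (r + k))
          (-(((∑ i, lam i) + (∑ i, lam' i) : ℕ) : ℤ) * ∑ j, w j) *
        Groth.Agent.Lib.Helper99.Verlinde.E (r * (r + k)) ((r : ℤ) * (-((r : ℤ) - 1) * ∑ j, w j)) := by
      rw [← Groth.Agent.Lib.Helper99.Verlinde.E_add]; congr 1; ring
    rw [hE, hE2]
    have hs := Groth.Agent.Lib.Helper99.Verlinde.sgnRev_mul_self r
    field_simp
    linear_combination (Groth.Agent.Lib.Helper99.Verlinde.E (r * (r + k))
          (-(((∑ i, lam i) + (∑ i, lam' i) : ℕ) : ℤ) * ∑ j, w j) *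
        Groth.Agent.Lib.Helper99.Verlinde.E (r * (r + k)) ((r : ℤ) * (-((r : ℤ) - 1) * ∑ j, w j)) *
        Groth.Agent.Lib.Helper99.Verlinde.A (r + k) a w *
        Groth.Agent.Lib.Helper99.Verlinde.A (r + k) (fun i => - b i) w) * hs

end Groth.Agent.S19895
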