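import Groth.Statements.S19898
import Groth.Agent.Lib.Helper27.SymTenDet

set_option autoImplicit false
universe u
open scoped TensorProduct
open SymTen

namespace Groth.Agent.S19898

open Groth.Agent.Lib.Helper27.SymTenDet

/-- Let R be a commutative ring and R' a commutative R-algebra that is free of rank d as an R-module.
Let (C, γ) be the degree-d divided power algebra of R' over R, given as an R-algebra C with a
multiplicative homogeneous degree-d polynomial law γ : R' → C that is universal among such laws; let
φ : C → T^d_R(R') be the R-algebra homomorphism into the d-fold tensor power whose composite with γ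
is the law x ↦ x ⊗ ⋯ ⊗ x, and π : C → R the R-algebra homomorphism whose composite with γ is the
norm law of R' over R. Let T^d_R(R') act on itself factor by factor and let I_d ⊂ T^d_R(R') be the
R-span of the pure tensors with two equal factors, so that T^d_R(R')/I_d is the top exterior power
Λ^d_R(R'), free of rank one. Then for every c ∈ C and every x ∈ T^d_R(R') the element φ(c)·x − π(c)
x lies in I_d: the symmetric tensor φ(c) acts on Λ^d_R(R') as multiplication by the scalar π(c),
i.e. the homomorphism TS^d_R(R') → R given by the action on the top exterior power, composed with φ,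
equals π. (The source states this for R' finite locally free of constant rank d; the free case is
the affine-local form.) -/
theorem result (R : Type u) [CommRing R] (R' : Type u) [CommRing R']
    [Algebra R R'] [Module.Free R R'] [Module.Finite R R'] (d : ℕ) (hd : Module.finrank R R' = d)
    {C : Type u} [CommRing C] [Algebra R C] (γ : PolLaw.MulLaw R R' C d) (hγ : PolLaw.IsGammaD γ)
    (φ : C →ₐ[R] (⨂[R] _ : Fin d, R')) (hφ : PolLaw.MulLaw.postcomp φ γ = SymTen.tpowLaw R R' d)
    (π : C →ₐ[R] R) (hπ : PolLaw.MulLaw.postcomp π γ = PolLaw.normLaw R R' d hd)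
    (c : C) (x : ⨂[R] _ : Fin d, R') :
    SymTen.tpowAct R R' R' d (φ c) x - π c • x ∈ SymTen.altSpan R R' d := by
  classical
  rcases subsingleton_or_nontrivial R with hR | hR
  · have : Subsingleton (⨂[R] _ : Fin d, R') := Module.subsingleton R _
    rw [Subsingleton.elim (SymTen.tpowAct R R' R' d (φ c) x - π c • x) 0]
    exact zero_mem _
  let b : Module.Basis (Fin d) R R' := Module.finBasisOfFinrankEq R R' hd
  rw [tpowAct_eq_mul, mem_altSpan_iff b]
  let C' := (⨂[R] _ : Fin d, R') ⧸ annD b
  let mk : (⨂[R] _ : Fin d, R') →ₐ[R] C' := Ideal.Quotient.mkₐ R (annD b)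
  let f₁ : C →ₐ[R] C' := mk.comp φ
  let f₂ : C →ₐ[R] C' := (Algebra.ofId R C').comp π
  have hlaw : PolLaw.postcomp mk.toLinearMap (SymTen.tpowLaw R R' d).law =
      PolLaw.postcomp (Algebra.ofId R C').toLinearMap (PolLaw.normLaw R R' d hd).law := by
    apply law_ext_generic b
    show mk.toLinearMap.lTensor _ ((SymTen.tpowLaw R R' d).law.toFun' _ (zgen b)) =
      (Algebra.ofId R C').toLinearMap.lTensor _ ((PolLaw.normLaw R R' d hd).law.toFun' _ (zgen b))
    rw [PolLaw.normLaw_apply, LinearMap.lTensor_tmul]
    have h1 : (Algebra.norm (MvPolynomial (Fin d) R) (zgen b)) ⊗ₜ[R]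
        ((Algebra.ofId R C').toLinearMap (1 : R)) =
        mk.toLinearMap.lTensor _ ((Algebra.norm (MvPolynomial (Fin d) R) (zgen b)) ⊗ₜ[R]
          (1 : ⨂[R] _ : Fin d, R')) := by
      simp
    rw [h1, ← sub_eq_zero, ← map_sub]
    apply lTensor_mk_eq_zero b (MvPolynomial.basisMonomials (Fin d) R)
    intro x
    rw [sub_mul, map_sub, sub_eq_zero]
    show DS b _ ((∏ j, iota R R' _ j (zgen b)) * (1 ⊗ₜ x)) = _
    rw [DS_tpow_mul, Algebra.TensorProduct.tmul_mul_tmul, DS_tmul, one_mul, mul_one, Algebra.smul_def,
      mul_comm]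
  have h1 : PolLaw.postcomp f₁.toLinearMap γ.law =
      PolLaw.postcomp mk.toLinearMap (SymTen.tpowLaw R R' d).law := by
    rw [show f₁.toLinearMap = mk.toLinearMap ∘ₗ φ.toLinearMap from rfl, postcomp_comp]
    exact congrArg _ (congrArg PolLaw.MulLaw.law hφ)
  have h2 : PolLaw.postcomp f₂.toLinearMap γ.law =
      PolLaw.postcomp mk.toLinearMap (SymTen.tpowLaw R R' d).law := by
    rw [hlaw, show f₂.toLinearMap = (Algebra.ofId R C').toLinearMap ∘ₗ π.toLinearMap from rfl,
      postcomp_comp]
    exact congrArg _ (congrArg PolLaw.MulLaw.law hπ)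
  have hf : f₁ = f₂ := (hγ C' (PolLaw.MulLaw.postcomp mk (SymTen.tpowLaw R R' d))).unique h1 h2
  have hc : mk (φ c) = algebraMap R C' (π c) := DFunLike.congr_fun hf c
  have hmem : φ c - algebraMap R (⨂[R] _ : Fin d, R') (π c) ∈ annD b := by
    rw [← Ideal.Quotient.eq_zero_iff_mem, map_sub, sub_eq_zero]
    exact hc
  have := hmem x
  rwa [sub_mul, ← Algebra.smul_def] at this

end Groth.Agent.S19898
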