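import Mathlib
import Groth.Statements.S1990
import Groth.Agent.Lib.Helper9.DvrExt

set_option autoImplicit false
universe u
open EtAlg

namespace Groth.Agent.S1990

open Groth.Agent.Lib.Helper9.DvrExt

set_option linter.style.haveILetI false

/-- Let K be the fraction field of a discrete valuation ring A, and K ⊂ L ⊂ M finite separable
extensions. If L/K is tamely ramified (resp. unramified) with respect to A and M/L is tamely
ramified (resp. unramified) with respect to every valuation subring of L dominating A, then M/K is
tamely ramified (resp. unramified) with respect to A. -/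
theorem result (A K : Type u) [CommRing A] [IsDomain A] [IsDiscreteValuationRing A] [Field K] [Algebra A K] [IsFractionRing A K] (L M : Type u) [Field L] [Field M]
    [Algebra K L] [Algebra K M] [Algebra L M] [IsScalarTower K L M] [FiniteDimensional K M] [Algebra.IsSeparable K M] :
    (EtRam.IsTamelyRamified A ((algebraMap K L).comp (algebraMap A K)) →
      (∀ (V : ValuationSubring L), EtRam.Dominates A ((algebraMap K L).comp (algebraMap A K)) V →
        EtRam.IsTamelyRamified V ((algebraMap L M).comp V.subtype)) →
      EtRam.IsTamelyRamified A ((algebraMap K M).comp (algebraMap A K))) ∧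
    (EtRam.IsUnramifiedExt A ((algebraMap K L).comp (algebraMap A K)) →
      (∀ (V : ValuationSubring L), EtRam.Dominates A ((algebraMap K L).comp (algebraMap A K)) V →
        EtRam.IsUnramifiedExt V ((algebraMap L M).comp V.subtype)) →
      EtRam.IsUnramifiedExt A ((algebraMap K M).comp (algebraMap A K))) := by
  have hKL : FiniteDimensional K L := FiniteDimensional.left K L M
  have hcomp : (algebraMap L M).comp ((algebraMap K L).comp (algebraMap A K)) =
      (algebraMap K M).comp (algebraMap A K) := by
    rw [← RingHom.comp_assoc, ← IsScalarTower.algebraMap_eq K L M]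
  have key : ∀ (W : ValuationSubring M)
      (hV : EtRam.Dominates A ((algebraMap K L).comp (algebraMap A K)) (W.comap (algebraMap L M)))
      (hW : EtRam.Dominates A ((algebraMap K M).comp (algebraMap A K)) W)
      (hVW : EtRam.Dominates (W.comap (algebraMap L M))
        ((algebraMap L M).comp (W.comap (algebraMap L M)).subtype) W),
      letI algAV : Algebra A (W.comap (algebraMap L M)) := (RingHom.codRestrict _ _ hV.1).toAlgebra
      letI algAW : Algebra A W := (RingHom.codRestrict _ _ hW.1).toAlgebra
      letI algVW : Algebra (W.comap (algebraMap L M)) W :=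
        (RingHom.codRestrict _ _ hVW.1).toAlgebra
      ∀ [IsLocalHom (algebraMap A (W.comap (algebraMap L M)))] [IsLocalHom (algebraMap A W)]
        [IsLocalHom (algebraMap (W.comap (algebraMap L M)) W)],
      (Algebra.IsSeparable (IsLocalRing.ResidueField A)
          (IsLocalRing.ResidueField (W.comap (algebraMap L M))) →
        Algebra.IsSeparable (IsLocalRing.ResidueField (W.comap (algebraMap L M)))
          (IsLocalRing.ResidueField W) →
        Algebra.IsSeparable (IsLocalRing.ResidueField A) (IsLocalRing.ResidueField W)) ∧
      (Ideal.ramificationIdx' (IsLocalRing.maximalIdeal A) (IsLocalRing.maximalIdeal W) =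
        Ideal.ramificationIdx' (IsLocalRing.maximalIdeal A)
          (IsLocalRing.maximalIdeal (W.comap (algebraMap L M))) *
        Ideal.ramificationIdx' (IsLocalRing.maximalIdeal (W.comap (algebraMap L M)))
          (IsLocalRing.maximalIdeal W)) ∧
      (∀ p : ℕ, CharP (IsLocalRing.ResidueField A) p →
        CharP (IsLocalRing.ResidueField (W.comap (algebraMap L M))) p) := by
    intro W hV hW hVW
    letI algAV : Algebra A (W.comap (algebraMap L M)) := (RingHom.codRestrict _ _ hV.1).toAlgebra
    letI algAW : Algebra A W := (RingHom.codRestrict _ _ hW.1).toAlgebra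
    letI algVW : Algebra (W.comap (algebraMap L M)) W := (RingHom.codRestrict _ _ hVW.1).toAlgebra
    intro instAV instAW instVW
    haveI : IsScalarTower A (W.comap (algebraMap L M)) W := by
      refine IsScalarTower.of_algebraMap_eq fun a => Subtype.ext ?_
      show (algebraMap K M) (algebraMap A K a) = algebraMap L M (algebraMap K L (algebraMap A K a))
      rw [← IsScalarTower.algebraMap_apply K L M]
    haveI : IsDiscreteValuationRing (W.comap (algebraMap L M)) :=
      isDiscreteValuationRing_of_dominates (K := K) _ hV
    haveI : IsDiscreteValuationRing W := isDiscreteValuationRing_of_dominates (K := K) _ hW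
    have hAV : Function.Injective (algebraMap A (W.comap (algebraMap L M))) :=
      injective_codRestrict_of_dominates _ hV
    have hVW : Function.Injective (algebraMap (W.comap (algebraMap L M)) W) := by
      intro x y hxy
      have : algebraMap L M x = algebraMap L M y := congrArg Subtype.val hxy
      exact Subtype.ext ((algebraMap L M).injective this)
    refine ⟨fun hsep1 hsep2 => ?_, ramificationIdx'_tower hAV hVW, fun p hp => ?_⟩
    · exact isSeparable_residue_trans (A := A) (B := W.comap (algebraMap L M)) (C := W)
    · exact charP_of_injective_algebraMap (algebraMap (IsLocalRing.ResidueField A)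
        (IsLocalRing.ResidueField (W.comap (algebraMap L M)))).injective p
  constructor
  · intro hL hML W hW
    have hV : EtRam.Dominates A ((algebraMap K L).comp (algebraMap A K))
        (W.comap (algebraMap L M)) := by
      rw [dominates_comap_iff, hcomp]; exact hW
    have hVW := dominates_subtype (algebraMap L M) W
    letI algAV : Algebra A (W.comap (algebraMap L M)) := (RingHom.codRestrict _ _ hV.1).toAlgebra
    letI algAW : Algebra A W := (RingHom.codRestrict _ _ hW.1).toAlgebra
    letI algVW : Algebra (W.comap (algebraMap L M)) W := (RingHom.codRestrict _ _ hVW.1).toAlgebra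
    intro instAW
    haveI instAV : IsLocalHom (algebraMap A (W.comap (algebraMap L M))) :=
      isLocalHom_of_dominates _ _ hV
    haveI instVW : IsLocalHom (algebraMap (W.comap (algebraMap L M)) W) :=
      isLocalHom_of_dominates _ _ hVW
    obtain ⟨hsep1, hp1⟩ := hL _ hV
    obtain ⟨hsep2, hp2⟩ := hML _ hV W hVW
    obtain ⟨k1, k2, k3⟩ := key W hV hW hVW
    refine ⟨k1 hsep1 hsep2, fun p hpp hchar hdvd => ?_⟩
    rw [k2] at hdvd
    rcases (Nat.Prime.dvd_mul hpp).1 hdvd with h | h
    · exact hp1 p hpp hchar h
    · exact hp2 p hpp (k3 p hchar) h
  · intro hL hML W hW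
    have hV : EtRam.Dominates A ((algebraMap K L).comp (algebraMap A K))
        (W.comap (algebraMap L M)) := by
      rw [dominates_comap_iff, hcomp]; exact hW
    have hVW := dominates_subtype (algebraMap L M) W
    letI algAV : Algebra A (W.comap (algebraMap L M)) := (RingHom.codRestrict _ _ hV.1).toAlgebra
    letI algAW : Algebra A W := (RingHom.codRestrict _ _ hW.1).toAlgebra
    letI algVW : Algebra (W.comap (algebraMap L M)) W := (RingHom.codRestrict _ _ hVW.1).toAlgebra
    intro instAW
    haveI instAV : IsLocalHom (algebraMap A (W.comap (algebraMap L M))) :=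
      isLocalHom_of_dominates _ _ hV
    haveI instVW : IsLocalHom (algebraMap (W.comap (algebraMap L M)) W) :=
      isLocalHom_of_dominates _ _ hVW
    obtain ⟨hwu1, hsep1⟩ := hL _ hV
    obtain ⟨hwu2, hsep2⟩ := hML _ hV W hVW
    obtain ⟨k1, k2, k3⟩ := key W hV hW hVW
    haveI : IsDiscreteValuationRing (W.comap (algebraMap L M)) :=
      isDiscreteValuationRing_of_dominates (K := K) _ hV
    haveI : IsDiscreteValuationRing W := isDiscreteValuationRing_of_dominates (K := K) _ hW
    have hAV : Function.Injective (algebraMap A (W.comap (algebraMap L M))) :=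
      injective_codRestrict_of_dominates _ hV
    have hAW : Function.Injective (algebraMap A W) := injective_codRestrict_of_dominates _ hW
    have hVWi : Function.Injective (algebraMap (W.comap (algebraMap L M)) W) := by
      intro x y hxy
      have : algebraMap L M x = algebraMap L M y := congrArg Subtype.val hxy
      exact Subtype.ext ((algebraMap L M).injective this)
    refine ⟨?_, k1 hsep1 hsep2⟩
    unfold EtRam.IsWeaklyUnramified at hwu1 hwu2 ⊢
    rw [isWeaklyUnramified_iff hAV] at hwu1
    rw [isWeaklyUnramified_iff hVWi] at hwu2
    rw [isWeaklyUnramified_iff hAW, k2, hwu1, hwu2]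

end Groth.Agent.S1990
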