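import Groth.Statements.S19904
import Mathlib.CategoryTheory.Limits.Types.Pullbacks
import Mathlib.CategoryTheory.Limits.Shapes.Pullback.IsPullback.Basic

set_option autoImplicit false
universe u v
open CategoryTheory
open ArtFun

namespace Groth.Agent.S19904

/-- For functors F, G, G' on Artinian local Λ-algebras with residue field k and morphisms φ : F → G, ψ :
G' → G: if φ is smooth then the base change F ×_G G' → G' (second projection of the fibre product of
functors) is smooth. -/
theorem result {Λ : Type u} {k : Type u} [CommRing Λ] [Field k] [Algebra Λ k]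
    [IsNoetherianRing Λ] [Module.Finite Λ k]
    {F G G' : ArtFun.Art Λ k ⥤ Type v} (φ : F ⟶ G) (ψ : G' ⟶ G) (hφ : ArtFun.IsSmooth φ) :
    ArtFun.IsSmooth (Limits.pullback.snd φ ψ) := by
  intro B A μ hμ
  rintro ⟨⟨z, y'⟩, hzy⟩
  have hpb := IsPullback.of_hasPullback φ ψ
  have hA := hpb.map ((evaluation (ArtFun.Art Λ k) (Type v)).obj A)
  have hB := hpb.map ((evaluation (ArtFun.Art Λ k) (Type v)).obj B)
  simp only [evaluation_obj_map] at hA hB
  set x := (Limits.pullback.fst φ ψ).app A z with hx
  have hzy' : (Limits.pullback.snd φ ψ).app A z = G'.map μ y' := hzy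
  have h1 : φ.app A x = G.map μ (ψ.app B y') := by
    have := congrFun (congrArg (fun t => t.app A) hpb.w) z
    simp only [NatTrans.comp_app, types_comp_apply] at this
    rw [hx, this, hzy']
    exact NatTrans.naturality_apply ψ μ y'
  obtain ⟨x', hx'⟩ := hφ μ hμ ⟨(x, ψ.app B y'), h1⟩
  have hx1 : F.map μ x' = x := congrArg (fun t => t.1.1) hx'
  have hx2 : φ.app B x' = ψ.app B y' := congrArg (fun t => t.1.2) hx'
  obtain ⟨z', hz1, hz2⟩ := Limits.Types.exists_of_isPullback hB x' y' hx2
  refine ⟨z', ?_⟩
  apply Subtype.ext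
  apply Prod.ext
  · change (Limits.pullback φ ψ).map μ z' = z
    apply Limits.Types.ext_of_isPullback hA
    · rw [← hx, ← hx1, ← hz1]
      exact NatTrans.naturality_apply (Limits.pullback.fst φ ψ) μ z'
    · rw [hzy', ← hz2]
      exact NatTrans.naturality_apply (Limits.pullback.snd φ ψ) μ z'
  · exact hz2

end Groth.Agent.S19904
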