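import Groth.Statements.S19919
import Mathlib.LinearAlgebra.Basis.Basic
import Mathlib.Tactic
-- import your own Groth.Agent.* helpers here

set_option autoImplicit false
universe u v w
open DPow

namespace Groth.Agent.S19919

theorem result (R : Type u) [CommRing R] (N : ℕ)
    (P : Type v) [CommRing P] [Algebra R P] (x : Fin N → ℕ → P)
    (hx0 : ∀ i, x i 0 = 1)
    (hxmul : ∀ i n m, x i n * x i m = ((n + m).choose n : P) * x i (n + m))
    (b : Module.Basis (Fin N →₀ ℕ) R P) (hb : ∀ e : Fin N →₀ ℕ, b e = e.prod (fun i k => x i k))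
    (γ : DividedPowers (Ideal.span {y : P | ∃ (i : Fin N) (n : ℕ), 1 ≤ n ∧ y = x i n}))
    (hγ : ∀ (i : Fin N) (n : ℕ), γ.dpow n (x i 1) = x i n)
    (S : Type w) [CommRing S] [Algebra R S] (J : Ideal S) (δ : DividedPowers J)
    (s : Fin N → S) (hs : ∀ i, s i ∈ J) :
    ∃! φ : P →ₐ[R] S, γ.IsDPMorphism δ φ.toRingHom ∧ ∀ i, φ (x i 1) = s i := by
  classical
  -- basis elements as finite products
  have hbprod : ∀ e : Fin N →₀ ℕ, b e = ∏ i, x i (e i) := by
    intro e
    rw [hb, Finsupp.prod_fintype]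
    intro i; exact hx0 i
  have hbmul : ∀ e e' : Fin N →₀ ℕ,
      b e * b e' = ((∏ i, ((e i + e' i).choose (e i)) : ℕ)) • b (e + e') := by
    intro e e'
    rw [hbprod, hbprod, hbprod, ← Finset.prod_mul_distrib, nsmul_eq_mul, Nat.cast_prod,
      ← Finset.prod_mul_distrib]
    refine Finset.prod_congr rfl (fun i _ => ?_)
    rw [hxmul]; rfl
  have hb0 : b 0 = 1 := by rw [hbprod]; simp [hx0]
  have hxb : ∀ i n, x i n = b (Finsupp.single i n) := by
    intro i n
    rw [hb, Finsupp.prod_single_index (hx0 i)]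
  -- the linear map
  let L : P →ₗ[R] S := b.constr R (fun e => ∏ i, δ.dpow (e i) (s i))
  have hL : ∀ e, L (b e) = ∏ i, δ.dpow (e i) (s i) := fun e => b.constr_basis R _ e
  have hL1 : L 1 = 1 := by
    rw [← hb0, hL]
    simp [δ.dpow_zero (hs _)]
  have hLmul : ∀ p p' : P, L (p * p') = L p * L p' := by
    have : (LinearMap.mul R P).compr₂ L = (LinearMap.mul R S).compl₁₂ L L := by
      refine b.ext fun e => b.ext fun e' => ?_
      simp only [LinearMap.compr₂_apply, LinearMap.mul_apply', LinearMap.compl₁₂_apply]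
      rw [hbmul, map_nsmul, hL, hL, hL, ← Finset.prod_mul_distrib, nsmul_eq_mul, Nat.cast_prod,
        ← Finset.prod_mul_distrib]
      refine Finset.prod_congr rfl (fun i _ => ?_)
      rw [δ.mul_dpow (hs i)]; rfl
    intro p p'
    have h := LinearMap.congr_fun (LinearMap.congr_fun this p) p'
    simpa using h
  let φ : P →ₐ[R] S := AlgHom.ofLinearMap L hL1 hLmul
  have hφx : ∀ i n, φ (x i n) = δ.dpow n (s i) := by
    intro i n
    change L (x i n) = _
    rw [hxb, hL, Finset.prod_eq_single i]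
    · simp
    · intro j _ hj
      rw [Finsupp.single_eq_of_ne hj, δ.dpow_zero (hs j)]
    · intro h; exact absurd (Finset.mem_univ i) h
  have hx1mem : ∀ i, x i 1 ∈ Ideal.span {y : P | ∃ (i : Fin N) (n : ℕ), 1 ≤ n ∧ y = x i n} :=
    fun i => Ideal.subset_span ⟨i, 1, le_rfl, rfl⟩
  refine ⟨φ, ⟨?_, ?_⟩, ?_⟩
  · refine DividedPowers.IsDPMorphism.on_span γ δ rfl ?_ ?_
    · rintro y ⟨i, n, hn, rfl⟩
      change φ (x i n) ∈ J
      rw [hφx]
      exact δ.dpow_mem (by omega) (hs i)
    · rintro m y ⟨i, n, hn, rfl⟩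
      change φ (γ.dpow m (x i n)) = δ.dpow m (φ (x i n))
      have hn0 : n ≠ 0 := by omega
      rw [hφx, ← hγ i n, γ.dpow_comp hn0 (hx1mem i), hγ, δ.dpow_comp hn0 (hs i), map_mul, hφx,
        map_natCast]
  · intro i
    rw [hφx, δ.dpow_one (hs i)]
  · rintro ψ ⟨hψ, hψx⟩
    have hψxn : ∀ i n, ψ (x i n) = δ.dpow n (s i) := by
      intro i n
      rw [← hγ i n]
      have := hψ.map_dpow (n := n) (hx1mem i)
      change ψ (γ.dpow n (x i 1)) = δ.dpow n (ψ (x i 1)) at this
      rw [this, hψx]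
    apply AlgHom.toLinearMap_injective
    refine b.ext fun e => ?_
    change ψ (b e) = L (b e)
    rw [hL, hbprod, map_prod]
    exact Finset.prod_congr rfl (fun i _ => hψxn i (e i))

end Groth.Agent.S19919
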