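import Groth.Statements.S1992
import Mathlib.RingTheory.Polynomial.ScaleRoots
import Mathlib.Algebra.Polynomial.Lifts
import Mathlib.FieldTheory.IsSepClosed
import Mathlib.RingTheory.Localization.Integer

set_option autoImplicit false
universe u
open Polynomial
open EtAlg

namespace Groth.Agent.S1992


/-- every monic polynomial over the localization, after scaling roots by a unit, is a product of
monic linear factors -/
lemma exists_scaleRoots_eq_prod (A : Type u) [CommRing A]
    (hA : ∀ f : A[X], f.Monic → ∃ s : Multiset A, f = (s.map fun a => X - C a).prod)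
    (p : Ideal A) [p.IsPrime] (f : (Localization.AtPrime p)[X]) (hf : f.Monic) :
    ∃ (b : Localization.AtPrime p) (_ : IsUnit b) (s : Multiset (Localization.AtPrime p)),
      scaleRoots f b = (s.map fun a => X - C a).prod := by
  classical
  obtain ⟨b, hb⟩ := IsLocalization.exist_integer_multiples_of_finset p.primeCompl
    ((Finset.range (f.natDegree + 1)).image fun i => f.coeff i)
  have hbu : IsUnit (algebraMap A (Localization.AtPrime p) b) :=
    IsLocalization.map_units (Localization.AtPrime p) b
  have hlift : scaleRoots f (algebraMap A (Localization.AtPrime p) b) ∈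
      lifts (algebraMap A (Localization.AtPrime p)) := by
    rw [lifts_iff_coeff_lifts]
    intro i
    rw [coeff_scaleRoots]
    by_cases hi : i < f.natDegree
    · obtain ⟨a, ha⟩ := hb (f.coeff i) (Finset.mem_image.2 ⟨i, Finset.mem_range.2 (by omega), rfl⟩)
      obtain ⟨m, hm⟩ : ∃ m, f.natDegree - i = m + 1 := ⟨f.natDegree - i - 1, by omega⟩
      refine ⟨a * b ^ m, ?_⟩
      rw [map_mul, ha, map_pow, Algebra.smul_def, hm, pow_succ]
      ring
    · by_cases hi' : i = f.natDegree
      · subst hi'
        refine ⟨1, ?_⟩
        rw [map_one, hf.coeff_natDegree, Nat.sub_self, pow_zero, mul_one]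
      · refine ⟨0, ?_⟩
        rw [map_zero, coeff_eq_zero_of_natDegree_lt (by omega), zero_mul]
  obtain ⟨g, hg, -, hgm⟩ := lifts_and_natDegree_eq_and_monic hlift ((monic_scaleRoots_iff _).2 hf)
  obtain ⟨s, hs⟩ := hA g hgm
  refine ⟨_, hbu, s.map (algebraMap A (Localization.AtPrime p)), ?_⟩
  rw [← hg, hs, Polynomial.map_multiset_prod, Multiset.map_map, Multiset.map_map]
  congr 1
  apply Multiset.map_congr rfl
  intro a _
  simp

/-- Let A be an absolutely integrally closed ring, i.e. every monic polynomial over A is a product of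
linear factors X - a. Then for every prime p of A the localization A_p is a strictly henselian local
ring (henselian with separably closed residue field). -/
theorem result (A : Type u) [CommRing A]
    (hA : ∀ f : A[X], f.Monic → ∃ s : Multiset A, f = (s.map fun a => X - C a).prod)
    (p : Ideal A) [p.IsPrime] :
    EtCoh.IsStrictlyHenselianLocalRing (Localization.AtPrime p) := by
  have hsplit := exists_scaleRoots_eq_prod A hA p
  -- a root near any approximate root
  have hroot : ∀ (f : (Localization.AtPrime p)[X]), f.Monic → ∀ a₀ : Localization.AtPrime p,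
      f.eval a₀ ∈ IsLocalRing.maximalIdeal (Localization.AtPrime p) →
      ∃ a : Localization.AtPrime p, f.IsRoot a ∧
        a - a₀ ∈ IsLocalRing.maximalIdeal (Localization.AtPrime p) := by
    intro f hf a₀ h₁
    obtain ⟨b, hb, s, hs⟩ := hsplit f hf
    obtain ⟨c, hc⟩ := hb.exists_left_inv
    have h2 := scaleRoots_eval_mul f a₀ b
    rw [hs, eval_multiset_prod, Multiset.map_map] at h2
    have h3 : (Multiset.map ((fun q => eval (b * a₀) q) ∘ fun a => X - C a) s).prod ∈
        IsLocalRing.maximalIdeal (Localization.AtPrime p) := by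
      rw [h2]
      exact Ideal.mul_mem_left _ _ h₁
    obtain ⟨y, hy, hym⟩ :=
      ((IsLocalRing.maximalIdeal.isMaximal _).isPrime.multiset_prod_mem_iff_exists_mem _).1 h3
    obtain ⟨x, hx, rfl⟩ := Multiset.mem_map.1 hy
    simp only [Function.comp_apply, eval_sub, eval_X, eval_C] at hym
    refine ⟨c * x, ?_, ?_⟩
    · have h4 := scaleRoots_eval_mul f (c * x) b
      have h5 : b * (c * x) = x := by rw [← mul_assoc, mul_comm b c, hc, one_mul]
      rw [h5, hs, eval_multiset_prod, Multiset.map_map] at h4
      have h6 : (Multiset.map ((fun q => eval x q) ∘ fun a => X - C a) s).prod = 0 := by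
        apply Multiset.prod_eq_zero
        apply Multiset.mem_map.2
        exact ⟨x, hx, by simp⟩
      rw [h6] at h4
      have h7 : c ^ f.natDegree * (b ^ f.natDegree * eval (c * x) f) = 0 := by
        rw [← h4, mul_zero]
      rw [← mul_assoc, ← mul_pow, hc, one_pow, one_mul] at h7
      exact h7
    · have h8 : c * x - a₀ = - (c * (b * a₀ - x)) := by
        rw [mul_sub, ← mul_assoc, hc, one_mul]
        ring
      rw [h8]
      exact neg_mem (Ideal.mul_mem_left _ _ hym)
  have hH : HenselianLocalRing (Localization.AtPrime p) :=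
    { is_henselian := fun f hf a₀ h₁ _ => hroot f hf a₀ h₁ }
  refine ⟨hH, ?_⟩
  apply IsSepClosed.of_exists_root
  intro q hq hirr _
  obtain ⟨f, hfq, hfdeg, hfm⟩ := lifts_and_natDegree_eq_and_monic
    (mem_lifts_of_surjective (IsLocalRing.residue_surjective (R := Localization.AtPrime p)) q) hq
  obtain ⟨b, hb, s, hs⟩ := hsplit f hfm
  obtain ⟨c, hc⟩ := hb.exists_left_inv
  have hdeg : 0 < f.natDegree := by
    rw [hfdeg]
    exact hirr.natDegree_pos
  have hcard : s.card = f.natDegree := by
    have h := congrArg natDegree hs
    rw [natDegree_scaleRoots, natDegree_multiset_prod_X_sub_C_eq_card] at h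
    exact h.symm
  obtain ⟨x, hx⟩ : ∃ x, x ∈ s := Multiset.card_pos_iff_exists_mem.1 (by omega)
  have hfx : f.eval (c * x) = 0 := by
    have h4 := scaleRoots_eval_mul f (c * x) b
    have h5 : b * (c * x) = x := by rw [← mul_assoc, mul_comm b c, hc, one_mul]
    rw [h5, hs, eval_multiset_prod, Multiset.map_map] at h4
    have h6 : (Multiset.map ((fun q => eval x q) ∘ fun a => X - C a) s).prod = 0 := by
      apply Multiset.prod_eq_zero
      apply Multiset.mem_map.2
      exact ⟨x, hx, by simp⟩
    rw [h6] at h4
    have h7 : c ^ f.natDegree * (b ^ f.natDegree * eval (c * x) f) = 0 := by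
      rw [← h4, mul_zero]
    rw [← mul_assoc, ← mul_pow, hc, one_pow, one_mul] at h7
    exact h7
  refine ⟨IsLocalRing.residue _ (c * x), ?_⟩
  rw [← hfq, eval_map, eval₂_hom, hfx, map_zero]

end Groth.Agent.S1992
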