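import Groth.Statements.S1993
import Groth.Agent.S0528
import Mathlib.RingTheory.LocalRing.Pullback
import Mathlib.RingTheory.Henselian

set_option autoImplicit false
universe u
open EtAlg IsLocalRing

namespace Groth.Agent.S1993

/-- every ring is henselian along the zero ideal -/
theorem hens_bot (C : Type*) [CommRing C] : HenselianRing C (⊥ : Ideal C) where
  jac := bot_le
  is_henselian := by
    intro f _ a₀ h₁ _
    exact ⟨a₀, Ideal.mem_bot.mp h₁, by simp⟩

/-- quotient of a henselian local ring by a proper ideal is henselian local -/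
theorem quot_hens (B : Type u) [CommRing B] [HenselianLocalRing B] (I' : Ideal B)
    (hI' : I' ≤ maximalIdeal B) : HenselianLocalRing (B ⧸ I') := by
  have hne : I' ≠ ⊤ := fun h =>
    (maximalIdeal.isMaximal B).ne_top (top_le_iff.mp (h ▸ hI'))
  have : Nontrivial (B ⧸ I') := Ideal.Quotient.nontrivial_iff.mpr hne
  have : IsLocalRing (B ⧸ I') :=
    IsLocalRing.of_surjective' (Ideal.Quotient.mk I') Ideal.Quotient.mk_surjective
  have hH : HenselianRing (B ⧸ I') ((maximalIdeal B).map (Ideal.Quotient.mk I')) :=
    ((Groth.Agent.S0528.result B I' (maximalIdeal B) hI').mp inferInstance).2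
  have hmax : (maximalIdeal B).map (Ideal.Quotient.mk I') = maximalIdeal (B ⧸ I') := by
    apply le_antisymm
    · rw [Ideal.map_le_iff_le_comap]
      intro b hb
      rw [Ideal.mem_comap, mem_maximalIdeal, mem_nonunits_iff]
      intro hu
      have hjac : I' ≤ Ideal.jacobson ⊥ := by
        rw [IsLocalRing.jacobson_eq_maximalIdeal ⊥ bot_ne_top]; exact hI'
      have := isLocalHom_of_le_jacobson_bot I' hjac
      exact hb (isUnit_of_map_unit (Ideal.Quotient.mk I') b hu)
    · intro x hx
      obtain ⟨b, rfl⟩ := Ideal.Quotient.mk_surjective x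
      apply Ideal.mem_map_of_mem
      rw [mem_maximalIdeal, mem_nonunits_iff]
      intro hu
      exact hx (hu.map _)
  exact { is_henselian := fun f hf a₀ h₁ h₂ => by
            rw [hmax] at hH
            exact hH.is_henselian f hf a₀ h₁ (h₂.map _) }


theorem forward (A B : Type u) [CommRing A] [IsLocalRing A] [CommRing B]
    [IsLocalRing B] [Algebra A B] [IsLocalHom (algebraMap A B)]
    (h : Hens2.IsPairHenselization A (maximalIdeal A) B) : Hensel.IsHenselization A B := by
  obtain ⟨h1, h2⟩ := h
  have hle : (maximalIdeal A).map (algebraMap A B) ≤ maximalIdeal B := by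
    have hloc : IsLocalHom (algebraMap A B) := inferInstance
    exact ((local_hom_TFAE (algebraMap A B)).out 0 2).mp hloc
  have hI' : (maximalIdeal A).map (algebraMap A B) = maximalIdeal B := by
    obtain ⟨g, hg, -⟩ := h2 (ResidueField A) ⊥ (residue A) (hens_bot _) (by
      rw [Ideal.map_le_iff_le_comap]
      intro x hx
      rw [Ideal.mem_comap, Ideal.mem_bot]
      exact (residue_eq_zero_iff x).mpr hx)
    let q := Ideal.Quotient.mk ((maximalIdeal A).map (algebraMap A B))
    have hq0 : ∀ a ∈ maximalIdeal A, (q.comp (algebraMap A B)) a = 0 := by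
      intro a ha
      exact Ideal.Quotient.eq_zero_iff_mem.mpr (Ideal.mem_map_of_mem _ ha)
    let ψ : ResidueField A →+* B ⧸ (maximalIdeal A).map (algebraMap A B) :=
      Ideal.Quotient.lift (maximalIdeal A) (q.comp (algebraMap A B)) hq0
    have huniq := h2 (B ⧸ (maximalIdeal A).map (algebraMap A B)) ⊥ (q.comp (algebraMap A B))
      (hens_bot _) (by
        rw [Ideal.map_le_iff_le_comap]
        intro x hx
        rw [Ideal.mem_comap, Ideal.mem_bot]
        exact hq0 x hx)
    have hq : q = ψ.comp g := huniq.unique rfl (by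
      rw [RingHom.comp_assoc, hg]
      ext a
      rfl)
    have hker : RingHom.ker g ≤ (maximalIdeal A).map (algebraMap A B) := by
      intro b hb
      have : q b = 0 := by
        rw [hq, RingHom.comp_apply, RingHom.mem_ker.mp hb, map_zero]
      exact Ideal.Quotient.eq_zero_iff_mem.mp this
    have hsurj : Function.Surjective g := by
      intro y
      obtain ⟨a, rfl⟩ := residue_surjective y
      exact ⟨algebraMap A B a, by rw [← hg]; rfl⟩
    have hmax : (RingHom.ker g).IsMaximal := RingHom.ker_isMaximal_of_surjective g hsurj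
    have : RingHom.ker g = maximalIdeal B := IsLocalRing.eq_maximalIdeal hmax
    exact le_antisymm hle (this ▸ hker)
  have hB : HenselianLocalRing B :=
    { is_henselian := by
        intro f hf a₀ h₁ h₂
        rw [hI'] at h1
        exact h1.is_henselian f hf a₀ h₁ (h₂.map _) }
  refine ⟨hB, ?_⟩
  intro T _ _ f hf
  exact h2 T (maximalIdeal T) f inferInstance (((local_hom_TFAE f).out 0 2).mp hf)


/-- basic facts for a henselization given by the universal property -/
theorem facts (A B : Type u) [CommRing A] [IsLocalRing A] [CommRing B]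
    [IsLocalRing B] [Algebra A B] [IsLocalHom (algebraMap A B)]
    (hAB : Hensel.IsHenselization A B) :
    ∃ g₀ : B →+* ResidueField A, g₀.comp (algebraMap A B) = residue A ∧
      RingHom.ker g₀ = maximalIdeal B ∧
      (maximalIdeal A).map (algebraMap A B) = maximalIdeal B := by
  have hB : HenselianLocalRing B := hAB.henselian
  have hlocAB : IsLocalHom (algebraMap A B) := inferInstance
  obtain ⟨g₀, hg₀, -⟩ := hAB.universal (ResidueField A) (residue A) inferInstance
  have hle : (maximalIdeal A).map (algebraMap A B) ≤ maximalIdeal B :=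
    ((local_hom_TFAE (algebraMap A B)).out 0 2).mp hlocAB
  have hQ := quot_hens B _ hle
  let q := Ideal.Quotient.mk ((maximalIdeal A).map (algebraMap A B))
  have hq0 : ∀ a ∈ maximalIdeal A, (q.comp (algebraMap A B)) a = 0 := by
    intro a ha
    exact Ideal.Quotient.eq_zero_iff_mem.mpr (Ideal.mem_map_of_mem _ ha)
  let ψ : ResidueField A →+* B ⧸ (maximalIdeal A).map (algebraMap A B) :=
    Ideal.Quotient.lift (maximalIdeal A) (q.comp (algebraMap A B)) hq0
  have hjac : (maximalIdeal A).map (algebraMap A B) ≤ Ideal.jacobson ⊥ := by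
    rw [IsLocalRing.jacobson_eq_maximalIdeal ⊥ bot_ne_top]; exact hle
  have hlq : IsLocalHom q := isLocalHom_of_le_jacobson_bot _ hjac
  have hloc : IsLocalHom (q.comp (algebraMap A B)) := RingHom.isLocalHom_comp q (algebraMap A B)
  have huniq := hAB.universal (B ⧸ (maximalIdeal A).map (algebraMap A B))
    (q.comp (algebraMap A B)) hloc
  have hq : q = ψ.comp g₀ := huniq.unique rfl (by
    rw [RingHom.comp_assoc, hg₀]
    ext a
    rfl)
  have hker : RingHom.ker g₀ ≤ (maximalIdeal A).map (algebraMap A B) := by
    intro b hb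
    have : q b = 0 := by
      rw [hq, RingHom.comp_apply, RingHom.mem_ker.mp hb, map_zero]
    exact Ideal.Quotient.eq_zero_iff_mem.mp this
  have hsurj : Function.Surjective g₀ := by
    intro y
    obtain ⟨a, rfl⟩ := residue_surjective y
    exact ⟨algebraMap A B a, by rw [← hg₀]; rfl⟩
  have hmax : (RingHom.ker g₀).IsMaximal := RingHom.ker_isMaximal_of_surjective g₀ hsurj
  have hk : RingHom.ker g₀ = maximalIdeal B := IsLocalRing.eq_maximalIdeal hmax
  exact ⟨g₀, hg₀, hk, le_antisymm hle (hk ▸ hker)⟩

section Pullback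

variable {B C : Type u} [CommRing B] [CommRing C] (J : Ideal C) (φ : B →+* C ⧸ J)

theorem hens_pullback [HenselianLocalRing B] [hC : HenselianRing C J] :
    HenselianLocalRing (φ.pullback (Ideal.Quotient.mk J)) := by
  have hlJ : IsLocalHom (Ideal.Quotient.mk J) := isLocalHom_of_le_jacobson_bot J hC.jac
  have hloc : IsLocalRing (φ.pullback (Ideal.Quotient.mk J)) := RingHom.isLocalRing_pullback φ _
  refine { is_henselian := ?_ }
  intro F hF t₀ h₁ h₂
  let π₁ := φ.pullbackFst (Ideal.Quotient.mk J)
  let π₂ := φ.pullbackSnd (Ideal.Quotient.mk J)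
  have hsq : φ.comp π₁ = (Ideal.Quotient.mk J).comp π₂ := RingHom.pullback_comm_sq _ _
  have hb1 : (F.map π₁).eval (π₁ t₀) ∈ maximalIdeal B := by
    rw [Polynomial.eval_map_apply]
    intro hu
    exact h₁ (isUnit_of_map_unit π₁ _ hu)
  have hb2 : IsUnit ((F.map π₁).derivative.eval (π₁ t₀)) := by
    rw [Polynomial.derivative_map, Polynomial.eval_map_apply]
    exact h₂.map π₁
  obtain ⟨b, hb, hbb⟩ := HenselianLocalRing.is_henselian (F.map π₁) (hF.map π₁) (π₁ t₀) hb1 hb2
  have hb' : (F.map π₁).eval b = 0 := hb
  have hb3 : IsUnit ((F.map π₁).derivative.eval b) := by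
    have hdvd := Polynomial.sub_dvd_eval_sub b (π₁ t₀) (F.map π₁).derivative
    have hmem : (F.map π₁).derivative.eval b - (F.map π₁).derivative.eval (π₁ t₀)
        ∈ maximalIdeal B := Ideal.mem_of_dvd _ hdvd hbb
    by_contra hnu
    have hx : (F.map π₁).derivative.eval b ∈ maximalIdeal B := hnu
    have hy : (F.map π₁).derivative.eval (π₁ t₀) ∈ maximalIdeal B := by
      have := Ideal.sub_mem _ hx hmem
      simpa using this
    exact hy hb2
  obtain ⟨c₁, hc₁⟩ := Ideal.Quotient.mk_surjective (φ b)
  have hmapeq : (F.map π₂).map (Ideal.Quotient.mk J) = (F.map π₁).map φ := by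
    rw [Polynomial.map_map, Polynomial.map_map, hsq]
  have hc1 : (F.map π₂).eval c₁ ∈ J := by
    rw [← Ideal.Quotient.eq_zero_iff_mem, ← Polynomial.eval_map_apply, hmapeq, hc₁,
      Polynomial.eval_map_apply, hb', map_zero]
  have hc2 : IsUnit (Ideal.Quotient.mk J ((F.map π₂).derivative.eval c₁)) := by
    rw [← Polynomial.eval_map_apply, ← Polynomial.derivative_map, hmapeq, hc₁,
      Polynomial.derivative_map, Polynomial.eval_map_apply]
    exact hb3.map φ
  obtain ⟨c, hc, hcc⟩ := hC.is_henselian (F.map π₂) (hF.map π₂) c₁ hc1 hc2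
  have hc' : (F.map π₂).eval c = 0 := hc
  have hmem : (b, c) ∈ φ.pullback (Ideal.Quotient.mk J) := by
    show φ b = Ideal.Quotient.mk J c
    rw [← hc₁]
    exact (Ideal.Quotient.eq.mpr hcc).symm
  refine ⟨⟨(b, c), hmem⟩, ?_, ?_⟩
  · apply Subtype.ext
    apply Prod.ext
    · show π₁ (F.eval _) = 0
      rw [← Polynomial.eval_map_apply]
      exact hb'
    · show π₂ (F.eval _) = 0
      rw [← Polynomial.eval_map_apply]
      exact hc'
  · intro hu
    have hu' : IsUnit (π₁ (⟨(b, c), hmem⟩ - t₀)) := hu.map π₁
    rw [map_sub] at hu'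
    exact hbb hu'

end Pullback

theorem backward (A B : Type u) [CommRing A] [IsLocalRing A] [CommRing B]
    [IsLocalRing B] [Algebra A B] [IsLocalHom (algebraMap A B)]
    (hAB : Hensel.IsHenselization A B) :
    Hens2.IsPairHenselization A (maximalIdeal A) B := by
  obtain ⟨g₀, hg₀, hker, hmax⟩ := facts A B hAB
  have hB : HenselianLocalRing B := hAB.henselian
  refine ⟨?_, ?_⟩
  · rw [hmax]; infer_instance
  · intro C _ J f hC hJ
    have hf0 : ∀ a ∈ maximalIdeal A, ((Ideal.Quotient.mk J).comp f) a = 0 := by
      intro a ha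
      exact Ideal.Quotient.eq_zero_iff_mem.mpr (hJ (Ideal.mem_map_of_mem _ ha))
    let ψ : ResidueField A →+* C ⧸ J :=
      Ideal.Quotient.lift (maximalIdeal A) ((Ideal.Quotient.mk J).comp f) hf0
    let φ : B →+* C ⧸ J := ψ.comp g₀
    have hφ : φ.comp (algebraMap A B) = (Ideal.Quotient.mk J).comp f := by
      rw [RingHom.comp_assoc, hg₀]
      ext a
      rfl
    have hT : HenselianLocalRing (φ.pullback (Ideal.Quotient.mk J)) := hens_pullback J φ
    have hlJ : IsLocalHom (Ideal.Quotient.mk J) := isLocalHom_of_le_jacobson_bot J hC.jac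
    let π₁ := φ.pullbackFst (Ideal.Quotient.mk J)
    let π₂ := φ.pullbackSnd (Ideal.Quotient.mk J)
    let ι : A →+* φ.pullback (Ideal.Quotient.mk J) :=
      RingHom.codRestrict ((algebraMap A B).prod f) _ (fun a => congr($hφ a))
    have hι1 : π₁.comp ι = algebraMap A B := by ext a; rfl
    have hι2 : π₂.comp ι = f := by ext a; rfl
    have hιloc : IsLocalHom ι := by
      constructor
      intro a ha
      have : IsUnit (algebraMap A B a) := ha.map π₁
      exact isUnit_of_map_unit (algebraMap A B) a this
    obtain ⟨h, hh, -⟩ := hAB.universal (φ.pullback (Ideal.Quotient.mk J)) ι hιloc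
    have hlocAB : IsLocalHom (algebraMap A B) := inferInstance
    have hid : π₁.comp h = RingHom.id B :=
      (hAB.universal B (algebraMap A B) hlocAB).unique
        (by rw [RingHom.comp_assoc, hh, hι1]) (by simp)
    have hcomp : (π₂.comp h).comp (algebraMap A B) = f := by
      rw [RingHom.comp_assoc, hh, hι2]
    refine ⟨π₂.comp h, hcomp, ?_⟩
    intro g' hg'
    have hφg : ∀ b, φ b = Ideal.Quotient.mk J (g' b) := by
      intro b
      obtain ⟨a, ha⟩ := residue_surjective (g₀ b)
      have hx : b - algebraMap A B a ∈ RingHom.ker g₀ := by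
        rw [RingHom.mem_ker, map_sub, ← ha, ← hg₀]
        simp
      have hx' : b - algebraMap A B a ∈ (maximalIdeal A).map (algebraMap A B) := by
        rw [hmax, ← hker]; exact hx
      have hgJ : Ideal.Quotient.mk J (g' (b - algebraMap A B a)) = 0 := by
        rw [Ideal.Quotient.eq_zero_iff_mem]
        have hle : (maximalIdeal A).map (algebraMap A B) ≤ J.comap g' := by
          rw [Ideal.map_le_iff_le_comap]
          intro a' ha'
          rw [Ideal.mem_comap, Ideal.mem_comap, ← RingHom.comp_apply, hg']
          exact hJ (Ideal.mem_map_of_mem _ ha')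
        exact hle hx'
      have hφx : φ (b - algebraMap A B a) = 0 := by
        show ψ (g₀ _) = 0
        rw [RingHom.mem_ker.mp hx, map_zero]
      have e1 : φ b = φ (algebraMap A B a) := by
        rw [← sub_eq_zero, ← map_sub]; exact hφx
      have e2 : Ideal.Quotient.mk J (g' b) = Ideal.Quotient.mk J (g' (algebraMap A B a)) := by
        rw [← sub_eq_zero, ← map_sub, ← map_sub]; exact hgJ
      rw [e1, e2, ← RingHom.comp_apply, hφ, RingHom.comp_apply, ← RingHom.comp_apply g', hg']
    let h' : B →+* φ.pullback (Ideal.Quotient.mk J) :=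
      RingHom.codRestrict ((RingHom.id B).prod g') _ hφg
    have hh' : h'.comp (algebraMap A B) = ι := by
      ext a
      · rfl
      · exact congr($hg' a)
    have hheq : h' = h := (hAB.universal _ ι hιloc).unique hh' hh
    rw [← hheq]
    rfl

/-- Let A be a local ring with maximal ideal m and B a local A-algebra with local structure map. Then B
is a henselization of the pair (A, m) if and only if B is a henselization of the local ring A (both
in the sense of the universal properties). -/
theorem result (A B : Type u) [CommRing A] [IsLocalRing A] [CommRing B]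
    [IsLocalRing B] [Algebra A B] [IsLocalHom (algebraMap A B)] :
    Hens2.IsPairHenselization A (IsLocalRing.maximalIdeal A) B ↔ Hensel.IsHenselization A B :=
  ⟨forward A B, backward A B⟩

end Groth.Agent.S1993
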