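import Groth.Statements.S1995
-- import your own Groth.Agent.* helpers here
import Groth.Agent.Lib.Helper58.PairHensProps

set_option autoImplicit false
universe u
open EtAlg

namespace Groth.Agent.S1995

/-- idempotents lift along a henselian pair. -/
theorem exists_idem_of_sq_sub_mem {R : Type*} [CommRing R] (J : Ideal R) [HenselianRing R J]
    (b : R) (hb : b * b - b ∈ J) : ∃ e : R, IsIdempotentElem e ∧ e - b ∈ J := by
  have hmonic : (Polynomial.X * (Polynomial.X - Polynomial.C 1) : Polynomial R).Monic :=
    Polynomial.monic_X.mul (Polynomial.monic_X_sub_C 1)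
  have h0 : (Polynomial.X * (Polynomial.X - Polynomial.C 1) : Polynomial R).eval b ∈ J := by
    have : (Polynomial.X * (Polynomial.X - Polynomial.C 1) : Polynomial R).eval b = b * b - b := by
      simp; ring
    rw [this]; exact hb
  have h1 : IsUnit (Ideal.Quotient.mk J
      ((Polynomial.X * (Polynomial.X - Polynomial.C 1) : Polynomial R).derivative.eval b)) := by
    refine IsUnit.of_mul_eq_one (Ideal.Quotient.mk J (2 * b - 1)) ?_
    have : (Polynomial.X * (Polynomial.X - Polynomial.C 1) : Polynomial R).derivative.eval b =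
        2 * b - 1 := by
      simp; ring
    rw [this, ← map_mul, ← map_one (Ideal.Quotient.mk J), Ideal.Quotient.eq]
    have e1 : (2 * b - 1) * (2 * b - 1) - 1 = 4 * (b * b - b) := by ring
    rw [e1]
    exact Ideal.mul_mem_left _ _ hb
  obtain ⟨e, he, heb⟩ := HenselianRing.is_henselian _ hmonic b h0 h1
  refine ⟨e, ?_, heb⟩
  have h2 : e * (e - 1) = 0 := by simpa using he
  change e * e = e
  have : e * e - e = 0 := by rw [← h2]; ring
  exact sub_eq_zero.1 this

/-- Let I_1, …, I_n be pairwise comaximal ideals of a ring A, B a henselization of the pair (A, I_1 ∩ …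
∩ I_n) and B_i a henselization of (A, I_i) for each i. Then B is isomorphic as an A-algebra to the
product of the B_i (any such isomorphism is the natural comparison map, by the universal property). -/
theorem result (A : Type u) [CommRing A] {n : ℕ} (I : Fin n → Ideal A)
    (hI : Pairwise fun i j => I i ⊔ I j = ⊤) (B : Type u) [CommRing B] [Algebra A B]
    (hB : Hens2.IsPairHenselization A (⨅ i, I i) B) (Bi : Fin n → Type u) [∀ i, CommRing (Bi i)] [∀ i, Algebra A (Bi i)]
    (hBi : ∀ i, Hens2.IsPairHenselization A (I i) (Bi i)) :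
    Nonempty (B ≃ₐ[A] ∀ i, Bi i) := by
  classical
  have hcop : Pairwise (Function.onFun IsCoprime I) := fun i j hij =>
    Ideal.isCoprime_iff_sup_eq.2 (hI hij)
  have hex : ∀ i, ∃ a : A, ∀ j, a - (Pi.single i 1 : Fin n → A) j ∈ I j := fun i =>
    Ideal.exists_forall_sub_mem_ideal hcop _
  choose a ha using hex
  have ha1 : ∀ i, a i - 1 ∈ I i := fun i => by simpa using ha i i
  have ha0 : ∀ i j, j ≠ i → a i ∈ I j := fun i j hji => by
    simpa [Pi.single_eq_of_ne hji] using ha i j
  have hmemK : ∀ x : A, (∀ l, x ∈ I l) → x ∈ ⨅ i, I i := fun x hx => by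
    rw [Ideal.mem_iInf]; exact hx
  have haK : ∀ i, a i * a i - a i ∈ ⨅ i, I i := by
    intro i
    apply hmemK
    intro j
    by_cases hji : j = i
    · subst hji
      have : a j * a j - a j = a j * (a j - 1) := by ring
      rw [this]
      exact Ideal.mul_mem_left _ _ (ha1 j)
    · have : a i * a i - a i = (a i - 1) * a i := by ring
      rw [this]
      exact Ideal.mul_mem_left _ _ (ha0 i j hji)
  have hHB : HenselianRing B ((⨅ i, I i).map (algebraMap A B)) := hB.1
  have hjac : (⨅ i, I i).map (algebraMap A B) ≤ Ideal.jacobson ⊥ := hHB.jac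
  have hex2 : ∀ i, ∃ e : B, IsIdempotentElem e ∧
      e - algebraMap A B (a i) ∈ (⨅ i, I i).map (algebraMap A B) := fun i =>
    exists_idem_of_sq_sub_mem _ _ (by
      rw [← map_mul, ← map_sub]; exact Ideal.mem_map_of_mem _ (haK i))
  choose e he hea using hex2
  have hzero : ∀ x : B, IsIdempotentElem x → x ∈ (⨅ i, I i).map (algebraMap A B) → x = 0 :=
    fun x hx hxK =>
      Groth.Agent.Lib.Helper58.HenselPair.idempotent_eq_zero_of_mem_jacobson hx (hjac hxK)
  -- orthogonality
  have hortho : ∀ i j, i ≠ j → e i * e j = 0 := by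
    intro i j hij
    apply hzero _ ((he i).mul (he j))
    have h1 : a i * a j ∈ ⨅ i, I i := by
      apply hmemK
      intro l
      by_cases hli : l = i
      · subst hli
        exact Ideal.mul_mem_left _ _ (ha0 j l hij)
      · exact Ideal.mul_mem_right _ _ (ha0 i l hli)
    have h2 : e i * e j = (e i - algebraMap A B (a i)) * e j +
        algebraMap A B (a i) * (e j - algebraMap A B (a j)) + algebraMap A B (a i * a j) := by
      rw [map_mul]; ring
    rw [h2]
    exact add_mem (add_mem (Ideal.mul_mem_right _ _ (hea i)) (Ideal.mul_mem_left _ _ (hea j)))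
      (Ideal.mem_map_of_mem _ h1)
  have hO : OrthogonalIdempotents e := ⟨he, fun i j hij => hortho i j hij⟩
  -- completeness
  have hsum : ∑ i, e i = 1 := by
    have hidem : IsIdempotentElem (∑ i, e i) := hO.isIdempotentElem_sum
    have h1 : 1 - ∑ i, a i ∈ ⨅ i, I i := by
      apply hmemK
      intro l
      have : 1 - ∑ i, a i = -((a l - 1) + ∑ i ∈ Finset.univ.erase l, a i) := by
        rw [← Finset.add_sum_erase Finset.univ a (Finset.mem_univ l)]; ring
      rw [this]
      refine neg_mem (add_mem (ha1 l) (Ideal.sum_mem _ fun i hi => ?_))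
      exact ha0 i l (Finset.ne_of_mem_erase hi).symm
    have h2 : 1 - ∑ i, e i ∈ (⨅ i, I i).map (algebraMap A B) := by
      have : 1 - ∑ i, e i = algebraMap A B (1 - ∑ i, a i) -
          ∑ i, (e i - algebraMap A B (a i)) := by
        rw [map_sub, map_one, map_sum, Finset.sum_sub_distrib]; ring
      rw [this]
      exact sub_mem (Ideal.mem_map_of_mem _ h1) (Ideal.sum_mem _ fun i _ => hea i)
    have := hzero (1 - ∑ i, e i) hidem.one_sub h2
    exact (sub_eq_zero.1 this).symm
  have hC : CompleteOrthogonalIdempotents e := ⟨hO, hsum⟩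
  -- the factors are henselizations
  have hQ : ∀ i, Hens2.IsPairHenselization A (I i) (B ⧸ Ideal.span {1 - e i}) := by
    intro i
    have hmk1 : Ideal.Quotient.mk (Ideal.span {1 - e i}) (e i) = 1 := by
      have h := Ideal.mem_span_singleton_self (1 - e i)
      have h' : e i - 1 ∈ Ideal.span {1 - e i} := by
        have h2 := neg_mem h
        rwa [neg_sub] at h2
      exact (Ideal.Quotient.eq.2 h').trans (map_one _)
    have halg : algebraMap A (B ⧸ Ideal.span {1 - e i}) =
        (Ideal.Quotient.mk (Ideal.span {1 - e i})).comp (algebraMap A B) := rfl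
    refine ⟨?_, ?_⟩
    · have h1 := Groth.Agent.Lib.Helper58.PairHens.henselian_quotient
        ((⨅ i, I i).map (algebraMap A B)) (Ideal.span {1 - e i})
      have h2 : ((⨅ i, I i).map (algebraMap A B)).map (Ideal.Quotient.mk (Ideal.span {1 - e i})) =
          (I i).map (algebraMap A (B ⧸ Ideal.span {1 - e i})) := by
        rw [Ideal.map_map, ← halg]
        apply le_antisymm
        · exact Ideal.map_mono (iInf_le _ i)
        · rw [Ideal.map_le_iff_le_comap]
          intro x hx
          rw [Ideal.mem_comap]
          have h3 : x * a i ∈ ⨅ i, I i := by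
            apply hmemK
            intro l
            by_cases hli : l = i
            · subst hli; exact Ideal.mul_mem_right _ _ hx
            · exact Ideal.mul_mem_left _ _ (ha0 i l hli)
          have h4 : algebraMap A B x * e i ∈ (⨅ i, I i).map (algebraMap A B) := by
            have : algebraMap A B x * e i = algebraMap A B x * (e i - algebraMap A B (a i)) +
                algebraMap A B (x * a i) := by rw [map_mul]; ring
            rw [this]
            exact add_mem (Ideal.mul_mem_left _ _ (hea i)) (Ideal.mem_map_of_mem _ h3)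
          have h5 := Ideal.mem_map_of_mem (Ideal.Quotient.mk (Ideal.span {1 - e i})) h4
          rw [Ideal.map_map, ← halg, map_mul, hmk1, mul_one] at h5
          exact h5
      rw [← h2]
      exact h1
    · intro C _ J f hC hf
      have hKJ : (⨅ i, I i).map f ≤ J := (Ideal.map_mono (iInf_le _ i)).trans hf
      obtain ⟨g, hg, hu⟩ := hB.2 C J f hC hKJ
      have hgalg : ∀ x, g (algebraMap A B x) = f x := fun x =>
        congrArg (fun ρ : A →+* C => ρ x) hg
      have hg0 : g (1 - e i) = 0 := by
        have hid : IsIdempotentElem (g (1 - e i)) := (he i).one_sub.map g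
        apply Groth.Agent.Lib.Helper58.HenselPair.idempotent_eq_zero_of_mem_jacobson hid
        apply hC.jac
        have h1 : 1 - e i = algebraMap A B (1 - a i) - (e i - algebraMap A B (a i)) := by
          rw [map_sub, map_one]; ring
        rw [h1, map_sub, hgalg]
        refine sub_mem (hf (Ideal.mem_map_of_mem _ ?_)) ?_
        · rw [← neg_sub]; exact neg_mem (ha1 i)
        · have := Ideal.mem_map_of_mem g (hea i)
          rw [Ideal.map_map, hg] at this
          exact hKJ this
      have hker : ∀ b ∈ Ideal.span {1 - e i}, g b = 0 := by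
        intro b hb
        rw [Ideal.mem_span_singleton'] at hb
        obtain ⟨c, rfl⟩ := hb
        rw [map_mul, hg0, mul_zero]
      refine ⟨Ideal.Quotient.lift _ g hker, ?_, ?_⟩
      · ext x
        rw [RingHom.comp_apply, halg, RingHom.comp_apply, Ideal.Quotient.lift_mk, hgalg]
      · intro g' hg'
        have := hu (g'.comp (Ideal.Quotient.mk (Ideal.span {1 - e i}))) (by
          show (g'.comp (Ideal.Quotient.mk (Ideal.span {1 - e i}))).comp (algebraMap A B) = f
          rw [RingHom.comp_assoc, ← halg, hg'])
        refine RingHom.ext fun y => ?_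
        obtain ⟨b, rfl⟩ := Ideal.Quotient.mk_surjective y
        rw [Ideal.Quotient.lift_mk, ← this]
        rfl
  -- assemble
  have hbij := hC.bijective_pi
  let Φ : B →ₐ[A] ∀ i, B ⧸ Ideal.span {1 - e i} :=
    AlgHom.pi (fun i => Ideal.Quotient.mkₐ A (Ideal.span {1 - e i}))
  have hΦ : Function.Bijective Φ := hbij
  have hE : ∀ i, Nonempty ((B ⧸ Ideal.span {1 - e i}) ≃ₐ[A] Bi i) := fun i =>
    Groth.Agent.Lib.Helper58.PairHens.nonempty_algEquiv_of_isPairHenselization (hQ i) (hBi i)
  exact ⟨(AlgEquiv.ofBijective Φ hΦ).trans (AlgEquiv.piCongrRight fun i => (hE i).some)⟩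

end Groth.Agent.S1995
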