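import Groth.Statements.S1996
import Mathlib

set_option autoImplicit false
universe u
open EtAlg

namespace Groth.Agent.S1996

open TensorProduct

theorem flat_of_faithfullyFlat_comp (R S T : Type u) [CommRing R] [CommRing S] [CommRing T]
    [Algebra R S] [Algebra S T] [Algebra R T] [IsScalarTower R S T]
    [Module.FaithfullyFlat S T] [Module.Flat R T] : Module.Flat R S := by
  rw [Module.Flat.iff_lTensor_preserves_injective_linearMap]
  intro N P _ _ _ _ f hf
  have h1 : Function.Injective (f.baseChange S) ↔ Function.Injective (f.lTensor S) := Iff.rfl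
  rw [← h1, ← Module.FaithfullyFlat.lTensor_injective_iff_injective S T]
  have h2 : LinearMap.lTensor T (f.baseChange S) =
      ((AlgebraTensorModule.cancelBaseChange R S S T P).symm.toLinearMap.restrictScalars S) ∘ₗ
        ((f.baseChange T).restrictScalars S) ∘ₗ
        ((AlgebraTensorModule.cancelBaseChange R S S T N).toLinearMap) := by
    ext
    simp
  rw [h2]
  simp only [LinearMap.coe_comp, LinearMap.coe_restrictScalars, LinearEquiv.coe_coe,
    EquivLike.injective_comp, EquivLike.comp_injective]
  exact Module.Flat.lTensor_preserves_injective_linearMap f hf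

/-- Let A -> B -> C be ring maps with B -> C faithfully flat. Weak etaleness of A -> C then implies weak
etaleness of A -> B. -/
theorem result (A B C : Type u) [CommRing A] [CommRing B] [CommRing C] [Algebra A B]
    [Algebra B C] [Algebra A C] [IsScalarTower A B C] [Module.FaithfullyFlat B C] [Algebra.WeaklyEtale A C] :
    Algebra.WeaklyEtale A B := by
  have hAB : Module.Flat A B := flat_of_faithfullyFlat_comp A B C
  refine ⟨hAB, ?_⟩
  let g : B →ₐ[A] C := IsScalarTower.toAlgHom A B C
  have hg : g.Flat := by
    have : g.toRingHom = algebraMap B C := rfl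
    rw [this, RingHom.flat_algebraMap_iff]
    infer_instance
  have hmap : (Algebra.TensorProduct.map g g).Flat := RingHom.Flat.tensorProductMap hg hg
  have hcomp : ((algebraMap B C).comp
      (Algebra.TensorProduct.lmul' A (S := B)).toRingHom).Flat := by
    have : (algebraMap B C).comp (Algebra.TensorProduct.lmul' A (S := B)).toRingHom =
        (Algebra.TensorProduct.lmul' A (S := C)).toRingHom.comp
          (Algebra.TensorProduct.map g g).toRingHom := by
      have h : ((IsScalarTower.toAlgHom A B C).comp (Algebra.TensorProduct.lmul' A (S := B))) =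
          (Algebra.TensorProduct.lmul' A (S := C)).comp (Algebra.TensorProduct.map g g) := by
        ext <;> simp [g]
      exact congrArg AlgHom.toRingHom h
    rw [this]
    exact RingHom.Flat.comp hmap (Algebra.WeaklyEtale.flat_lmul' A C)
  let _ : Algebra (B ⊗[A] B) B :=
    (Algebra.TensorProduct.lmul' A (S := B)).toRingHom.toAlgebra
  let _ : Algebra (B ⊗[A] B) C :=
    ((algebraMap B C).comp (Algebra.TensorProduct.lmul' A (S := B)).toRingHom).toAlgebra
  have : IsScalarTower (B ⊗[A] B) B C := IsScalarTower.of_algebraMap_eq fun x => rfl
  have : Module.Flat (B ⊗[A] B) C := hcomp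
  exact flat_of_faithfullyFlat_comp (B ⊗[A] B) B C

end Groth.Agent.S1996
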