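import Groth.Statements.S19964
import Mathlib
import Groth.Agent.Lib.Helper7.FlatClosure
import Groth.Agent.Lib.Helper72.SubGrp

set_option autoImplicit false
set_option linter.style.haveILetI false
universe u
open CategoryTheory MonoidalCategory CartesianMonoidalCategory MonObj GrpObj AlgebraicGeometry CategoryTheory.Limits
open Neron

namespace Groth.Agent.S19964

open CategoryTheory MonoidalCategory CartesianMonoidalCategory MonObj GrpObj AlgebraicGeometry CategoryTheory.Limits
open Neron
open Groth.Agent.Lib.Helper7.GenFibreDense Groth.Agent.Lib.Helper7.FlatClosure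

/-- Localizations of a Dedekind domain at primes are valuation rings. -/
lemma valuationRing_of_atPrime (A : Type u) [CommRing A] [IsDedekindDomain A]
    (P : Ideal A) [P.IsPrime] (S : Type u) [CommRing S] [IsDomain S] [Algebra A S]
    [IsLocalization.AtPrime S P] : ValuationRing S := by
  by_cases hP : P = ⊥
  · subst hP
    haveI : IsLocalRing S := IsLocalization.AtPrime.isLocalRing S (⊥ : Ideal A)
    have hf : IsField S := by
      rw [IsLocalRing.isField_iff_maximalIdeal_eq,
        ← IsLocalization.AtPrime.map_eq_maximalIdeal (⊥ : Ideal A) S, Ideal.map_bot]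
    exact valuationRing_of_isField hf
  · haveI := IsLocalization.AtPrime.isDiscreteValuationRing_of_dedekind_domain A hP S
    infer_instance

lemma valuationRing_stalk_Spec (A : Type u) [CommRing A] [IsDedekindDomain A]
    (y : Spec (CommRingCat.of A)) :
    ValuationRing ((Spec (CommRingCat.of A)).presheaf.stalk y) := by
  letI : Algebra A ((Spec (CommRingCat.of A)).presheaf.stalk y) :=
    StructureSheaf.stalkAlgebra (R := A) y
  haveI : y.asIdeal.IsPrime := y.isPrime
  haveI : IsLocalization.AtPrime ((Spec (CommRingCat.of A)).presheaf.stalk y) y.asIdeal :=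
    StructureSheaf.IsLocalization.to_stalk (R := A) y
  exact valuationRing_of_atPrime A y.asIdeal _

/-- Flatness over an integral base with valuation-ring stalks of a scheme receiving a
scheme-theoretically dominant quasi-compact morphism from a scheme over a field mapping
scheme-theoretically dominantly to the base. -/
lemma flat_of_factors_field {T Z Y : Scheme.{u}} [IsIntegral Y]
    (hY : ∀ y : Y, ValuationRing (Y.presheaf.stalk y)) {K : Type u} [Field K]
    (g : Spec (CommRingCat.of K) ⟶ Y) [IsSchemeTheoreticallyDominant g] [QuasiCompact g]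
    (f : Z ⟶ Y) (q : T ⟶ Z) [IsSchemeTheoreticallyDominant q] [QuasiCompact q]
    (t : T ⟶ Spec (CommRingCat.of K)) (h : q ≫ f = t ≫ g) : Flat f := by
  refine flat_of_isUnit hY f q (fun U a ha => ?_)
  rw [Scheme.Hom.congr_app h U]
  simp only [Scheme.Hom.comp_app]
  have h0 : IsUnit (g.app U a) := by
    apply isUnit_of_ne_zero_SpecField
    intro h0
    apply ha
    apply g.app_injective U
    rw [h0, map_zero]
  have h1 := h0.map (t.app (g ⁻¹ᵁ U)).hom
  have h2 := h1.map (T.presheaf.map (eqToHom (by rw [h]) :
    (q ≫ f) ⁻¹ᵁ U ⟶ (t ≫ g) ⁻¹ᵁ U).op).hom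
  exact h2

/-- A morphism whose restriction along a scheme-theoretically dominant morphism factors through a
closed immersion factors through it. -/
lemma exists_lift_of_schDominant {T' T Z X : Scheme.{u}} (z : Z ⟶ X) [IsClosedImmersion z]
    (a : T ⟶ X) (d : T' ⟶ T) [IsSchemeTheoreticallyDominant d] (b : T' ⟶ Z)
    (h : b ≫ z = d ≫ a) : ∃ a' : T ⟶ Z, a' ≫ z = a := by
  have hk : z.ker ≤ a.ker := by
    calc z.ker ≤ (b ≫ z).ker := Scheme.Hom.le_ker_comp _ _
      _ = (d ≫ a).ker := by rw [h]
      _ = d.ker.map a := Scheme.Hom.ker_comp _ _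
      _ = a.ker := by rw [d.ker_eq_bot, Scheme.IdealSheafData.map_bot]
  exact ⟨IsClosedImmersion.lift z a hk, IsClosedImmersion.lift_fac _ _ _⟩

set_option backward.isDefEq.respectTransparency.types false in
lemma isPreimmersion_pullback_fst {X Y S : Scheme.{u}} (f : X ⟶ S) (g : Y ⟶ S)
    [IsPreimmersion g] : IsPreimmersion (pullback.fst f g) :=
  MorphismProperty.pullback_fst _ _ inferInstance

lemma flat_tensor {S : Scheme.{u}} (G : Over S) [Flat G.hom] : Flat (G ⊗ G).hom := by
  rw [Over.tensorObj_hom]
  infer_instance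

lemma genPt_schDominant (R : Type u) [CommRing R] [IsDomain R] :
    IsSchemeTheoreticallyDominant (Neron.genPt R) :=
  schDominant_SpecMap_of_injective _ (IsFractionRing.injective R (FractionRing R))

lemma genPt_flat (R : Type u) [CommRing R] [IsDomain R] : Flat (Neron.genPt R) := by
  rw [HasRingHomProperty.Spec_iff (P := @Flat)]
  change (algebraMap R (FractionRing R)).Flat
  rw [RingHom.flat_algebraMap_iff]
  exact IsLocalization.flat (FractionRing R) (nonZeroDivisors R)

lemma genPt_isPreimmersion (R : Type u) [CommRing R] [IsDomain R] :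
    IsPreimmersion (Neron.genPt R) :=
  IsPreimmersion.of_isLocalization (nonZeroDivisors R)

section main

variable (R : Type u) [CommRing R] [IsDedekindDomain R]
    (G : Over (Spec (CommRingCat.of R))) [GrpObj G]
    (HK : Over (Spec (CommRingCat.of (FractionRing R)))) [GrpObj HK]
    (i : HK ⟶ Red.bc (Neron.genPt R) G) [IsMonHom i] [IsClosedImmersion i.left]

/-- the composite `H_K → G_K → G`. -/
noncomputable abbrev hmap : HK.left ⟶ G.left := i.left ≫ pullback.fst G.hom (Neron.genPt R)

/-- the schematic closure, as an object over `Spec R`. -/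
noncomputable abbrev Hcl : Over (Spec (CommRingCat.of R)) :=
  Over.mk ((hmap R G HK i).imageι ≫ G.hom)

/-- the inclusion of the schematic closure. -/
noncomputable abbrev jcl : Hcl R G HK i ⟶ G := Over.homMk (hmap R G HK i).imageι rfl

instance : Mono (jcl R G HK i) := by
  haveI : Mono (jcl R G HK i).left := by
    change Mono (hmap R G HK i).imageι
    infer_instance
  exact Over.mono_of_mono_left _

lemma hmap_quasiCompact : QuasiCompact (hmap R G HK i) := by
  haveI : QuasiCompact (pullback.fst G.hom (Neron.genPt R)) := inferInstance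
  infer_instance

/-- the key factorization criterion. -/
lemma exists_factor (T : Over (Spec (CommRingCat.of R))) [Flat T.hom] (a : T ⟶ G)
    (b : (Over.pullback (Neron.genPt R)).obj T ⟶ HK)
    (hb : b ≫ i = (Over.pullback (Neron.genPt R)).map a) :
    ∃ a' : T ⟶ Hcl R G HK i, a' ≫ jcl R G HK i = a := by
  haveI := genPt_schDominant R
  let d := pullback.fst T.hom (Neron.genPt R)
  haveI : IsSchemeTheoreticallyDominant d := inferInstance
  have h1 : d ≫ a.left = ((Over.pullback (Neron.genPt R)).map a).left ≫
      pullback.fst G.hom (Neron.genPt R) := by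
    simp only [Over.pullback_map_left]
    exact (pullback.lift_fst _ _ _).symm
  have h2 : (b.left ≫ (hmap R G HK i).toImage) ≫ (hmap R G HK i).imageι = d ≫ a.left := by
    rw [h1, ← hb, Category.assoc, Scheme.Hom.toImage_imageι, Over.comp_left, Category.assoc]
  obtain ⟨a'', ha''⟩ := exists_lift_of_schDominant (hmap R G HK i).imageι a.left d _ h2
  refine ⟨Over.homMk a'' ?_, ?_⟩
  · change a'' ≫ (hmap R G HK i).imageι ≫ G.hom = T.hom
    rw [← Category.assoc, ha'', Over.w a]
  · ext1
    exact ha''

/-- the generic fibre of `a` factors through `H_K`. -/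
def GenFactors (T : Over (Spec (CommRingCat.of R))) (a : T ⟶ G) : Prop :=
  ∃ b : (Over.pullback (Neron.genPt R)).obj T ⟶ HK,
    b ≫ i = (Over.pullback (Neron.genPt R)).map a

lemma genFactors_one (T : Over (Spec (CommRingCat.of R))) :
    GenFactors R G HK i T (1 : T ⟶ G) := by
  refine ⟨1, ?_⟩
  rw [MonObj.one_comp]
  exact (Functor.map_one (Over.pullback (Neron.genPt R))).symm

lemma genFactors_mul (T : Over (Spec (CommRingCat.of R))) (a₁ a₂ : T ⟶ G)
    (h₁ : GenFactors R G HK i T a₁) (h₂ : GenFactors R G HK i T a₂) :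
    GenFactors R G HK i T (a₁ * a₂) := by
  obtain ⟨b₁, hb₁⟩ := h₁
  obtain ⟨b₂, hb₂⟩ := h₂
  refine ⟨b₁ * b₂, ?_⟩
  rw [MonObj.mul_comp, hb₁, hb₂]
  exact (Functor.map_mul (Over.pullback (Neron.genPt R)) a₁ a₂).symm

lemma genFactors_inv (T : Over (Spec (CommRingCat.of R))) (a : T ⟶ G)
    (h : GenFactors R G HK i T a) : GenFactors R G HK i T a⁻¹ := by
  obtain ⟨b, hb⟩ := h
  refine ⟨b⁻¹, ?_⟩
  rw [GrpObj.inv_comp, hb]
  exact (Functor.map_inv' (Over.pullback (Neron.genPt R)) a).symm

lemma genFactors_comp {T T' : Over (Spec (CommRingCat.of R))} (u : T' ⟶ T) (a : T ⟶ G)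
    (h : GenFactors R G HK i T a) : GenFactors R G HK i T' (u ≫ a) := by
  obtain ⟨b, hb⟩ := h
  refine ⟨(Over.pullback (Neron.genPt R)).map u ≫ b, ?_⟩
  rw [Category.assoc, hb, Functor.map_comp]

lemma isPullback_closure :
    IsPullback (hmap R G HK i).toImage HK.hom (Hcl R G HK i).hom (Neron.genPt R) := by
  haveI := genPt_flat R
  haveI := genPt_isPreimmersion R
  haveI := hmap_quasiCompact R G HK i
  haveI : Flat (pullback.fst G.hom (Neron.genPt R)) := inferInstance
  haveI : IsPreimmersion (pullback.fst G.hom (Neron.genPt R)) :=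
    isPreimmersion_pullback_fst _ _
  have h1 := isPullback_toImage (pullback.fst G.hom (Neron.genPt R)) i.left
  have h2 : IsPullback (pullback.fst G.hom (Neron.genPt R)) (pullback.snd G.hom (Neron.genPt R))
      G.hom (Neron.genPt R) := IsPullback.of_hasPullback _ _
  have h3 := h1.paste_vert h2
  have h4 : i.left ≫ pullback.snd G.hom (Neron.genPt R) = HK.hom := Over.w i
  rw [h4] at h3
  exact h3

lemma genFactors_jcl : GenFactors R G HK i (Hcl R G HK i) (jcl R G HK i) := by
  have hpb := isPullback_closure R G HK i
  refine ⟨Over.homMk hpb.isoPullback.inv ?_, ?_⟩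
  · change hpb.isoPullback.inv ≫ HK.hom = pullback.snd _ _
    exact hpb.isoPullback_inv_snd
  · ext1
    apply pullback.hom_ext
    · simp only [Over.comp_left, Over.homMk_left, Category.assoc, Over.pullback_map_left]
      rw [pullback.lift_fst]
      have : i.left ≫ pullback.fst G.hom (Neron.genPt R) =
          (hmap R G HK i).toImage ≫ (hmap R G HK i).imageι :=
        ((hmap R G HK i).toImage_imageι).symm
      rw [this, hpb.isoPullback_inv_fst_assoc]
    · simp only [Over.comp_left, Over.homMk_left, Category.assoc, Over.pullback_map_left]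
      rw [pullback.lift_snd]
      have : i.left ≫ pullback.snd G.hom (Neron.genPt R) = HK.hom := Over.w i
      rw [this, hpb.isoPullback_inv_snd]

lemma flat_Hcl : Flat (Hcl R G HK i).hom := by
  haveI := genPt_schDominant R
  haveI := hmap_quasiCompact R G HK i
  refine flat_of_factors_field (valuationRing_stalk_Spec R) (Neron.genPt R)
    ((hmap R G HK i).imageι ≫ G.hom) (hmap R G HK i).toImage HK.hom ?_
  exact (isPullback_closure R G HK i).w

end main


/-- Let R be a Dedekind domain with fraction field K, G a group scheme over Spec R and i : H_K → G_K a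
closed subgroup scheme of the generic fibre G_K = G ×_R K (a homomorphism which is a closed
immersion). Then there are a group scheme H over Spec R, flat over Spec R, and a homomorphism j : H
→ G which is a closed immersion, together with a morphism H_K → H presenting H_K as the generic
fibre H ×_R K compatibly with i and the embedding G_K → G, and with trivial kernel ideal sheaf (H_K
is schematically dense in H). In words: the schematic closure in G of a closed K-subgroup of the
generic fibre is a flat closed R-subgroup scheme of G. (The source states this for group algebraic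
spaces over a connected Dedekind scheme; the case of schemes over an affine base is stated.) -/
theorem result
    (R : Type u) [CommRing R] [IsDedekindDomain R]
    (G : Over (Spec (CommRingCat.of R))) [GrpObj G]
    (HK : Over (Spec (CommRingCat.of (FractionRing R)))) [GrpObj HK]
    (i : HK ⟶ Red.bc (Neron.genPt R) G) [IsMonHom i] [IsClosedImmersion i.left] :
    ∃ (H : Over (Spec (CommRingCat.of R))) (_ : GrpObj H) (j : H ⟶ G) (φ : HK.left ⟶ H.left),
      IsMonHom j ∧ IsClosedImmersion j.left ∧ Flat H.hom ∧
      IsPullback φ HK.hom H.hom (Neron.genPt R) ∧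
      φ ≫ j.left = i.left ≫ pullback.fst G.hom (Neron.genPt R) ∧
      φ.ker = ⊥ := by
  haveI := flat_Hcl R G HK i
  haveI := hmap_quasiCompact R G HK i
  haveI := flat_tensor (Hcl R G HK i)
  have hj := genFactors_jcl R G HK i
  -- multiplication
  obtain ⟨bm, hbm⟩ := genFactors_mul R G HK i _ _ _
    (genFactors_comp R G HK i (fst (Hcl R G HK i) (Hcl R G HK i)) _ hj)
    (genFactors_comp R G HK i (snd (Hcl R G HK i) (Hcl R G HK i)) _ hj)
  obtain ⟨m, hm'⟩ := exists_factor R G HK i _ _ bm hbm
  have hm : m ≫ jcl R G HK i = (jcl R G HK i ⊗ₘ jcl R G HK i) ≫ μ := by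
    rw [hm', Hom.mul_def]
    congr 1
  -- unit
  haveI : Flat (𝟙_ (Over (Spec (CommRingCat.of R)))).hom := by
    rw [Over.tensorUnit_hom]
    exact inferInstanceAs (Flat (𝟙 (Spec (CommRingCat.of R))))
  obtain ⟨bo, hbo⟩ := genFactors_one R G HK i (𝟙_ (Over (Spec (CommRingCat.of R))))
  obtain ⟨o, ho'⟩ := exists_factor R G HK i _ _ bo hbo
  have ho : o ≫ jcl R G HK i = η := by
    rw [ho', MonObj.one_eq_one]
  -- inverse
  obtain ⟨bv, hbv⟩ := genFactors_inv R G HK i _ _ hj
  obtain ⟨v, hv'⟩ := exists_factor R G HK i _ _ bv hbv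
  have hv : v ≫ jcl R G HK i = jcl R G HK i ≫ ι := by
    rw [hv', Hom.inv_def]
  let inst : GrpObj (Hcl R G HK i) :=
    Groth.Agent.Lib.Helper72.grpObjOfMono (jcl R G HK i) m hm o ho v hv
  refine ⟨Hcl R G HK i, inst, jcl R G HK i, (hmap R G HK i).toImage, ?_, ?_, inferInstance,
    isPullback_closure R G HK i, ?_, ?_⟩
  · exact @IsMonHom.mk _ _ _ _ _ (_) _ _ ho hm
  · change IsClosedImmersion (hmap R G HK i).imageι
    infer_instance
  · exact (hmap R G HK i).toImage_imageι
  · exact (hmap R G HK i).toImage.ker_eq_bot

end Groth.Agent.S19964
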