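import Groth.Statements.S19967
import Mathlib

set_option autoImplicit false
universe u
open CategoryTheory CategoryTheory.Limits AlgebraicGeometry
open FlatMor

namespace Groth.Agent.S19967

/-- Let f : S' → S be a flat morphism of locally Noetherian schemes, i : C → S and i' : C' → S' closed
immersions with C and C' integral, and g : C' → C with g ≫ i = i' ≫ f. Let φ : C' → C ×_S S' be the
induced morphism and η ∈ S the image of the generic point of C. If φ becomes an isomorphism after
base change along the canonical morphism Spec O_{S,η} → S (that is, after pulling back to (C ×_S S')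
×_S Spec O_{S,η}), then φ is an isomorphism. (In the source S and S' are excellent surfaces over an
algebraically closed field, C and C' regular curves not inside the singular loci, and the
isomorphism over Spec O_{S,η} is part of the definition of a morphism of surface-curve pairs; those
extra hypotheses play no part.) -/
theorem result
    {S S' C C' : Scheme.{u}} [IsLocallyNoetherian S] [IsLocallyNoetherian S']
    (f : S' ⟶ S) [Flat f] (i : C ⟶ S) [IsClosedImmersion i] [IsIntegral C]
    (i' : C' ⟶ S') [IsClosedImmersion i'] [IsIntegral C']
    (g : C' ⟶ C) (hsq : g ≫ i = i' ≫ f)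
    (hgen : IsIso (pullback.snd (pullback.lift g i' hsq)
      (pullback.fst (pullback.fst i f ≫ i) (S.fromSpecStalk (i.base (genericPoint C)))))) :
    IsIso (pullback.lift g i' hsq) := by
  set φ := pullback.lift g i' hsq with hφ
  set η := i.base (genericPoint C) with hη
  set p := pullback.fst (pullback.fst i f ≫ i) (S.fromSpecStalk η) with hp
  -- φ is a closed immersion
  haveI : IsClosedImmersion φ := by
    have : φ ≫ pullback.snd i f = i' := pullback.lift_snd _ _ _
    haveI : IsClosedImmersion (φ ≫ pullback.snd i f) := by rw [this]; infer_instance
    exact IsClosedImmersion.of_comp φ (pullback.snd i f)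
  -- q is dominant and qc
  let q := pullback.fst i (S.fromSpecStalk η)
  haveI : QuasiCompact (S.fromSpecStalk η) := inferInstance
  haveI : QuasiCompact q := inferInstance
  haveI : IsDominant q := by
    constructor
    obtain ⟨z, hz1, hz2⟩ := Scheme.Pullback.exists_preimage_pullback (f := i)
      (g := S.fromSpecStalk η) (genericPoint C)
      (IsLocalRing.closedPoint (S.presheaf.stalk η)) (by
        rw [Scheme.fromSpecStalk_closedPoint])
    have hd : Dense ({genericPoint C} : Set C) :=
      dense_iff_closure_eq.mpr (genericPoint_spec C)
    refine hd.mono ?_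
    rintro _ rfl
    exact ⟨z, hz1⟩
  haveI : IsSchemeTheoreticallyDominant q := .of_isDominant q
  -- the pullback square
  have hP : IsPullback (pullback.lift (p ≫ pullback.fst i f)
        (pullback.snd (pullback.fst i f ≫ i) (S.fromSpecStalk η))
        (by rw [Category.assoc]; exact pullback.condition)) p q (pullback.fst i f) := by
    apply IsPullback.of_right (h₁₂ := pullback.snd i (S.fromSpecStalk η))
      (v₁₃ := S.fromSpecStalk η) (h₂₂ := i)
    · rw [pullback.lift_snd]
      exact (IsPullback.of_hasPullback _ _).flip
    · rw [pullback.lift_fst]
    · exact (IsPullback.of_hasPullback _ _).flip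
  haveI : IsSchemeTheoreticallyDominant p := .of_isPullback hP
  -- p factors through φ
  have hfac : p = (inv (pullback.snd φ p) ≫ pullback.fst φ p) ≫ φ := by
    rw [Category.assoc, pullback.condition (f := φ) (g := p), IsIso.inv_hom_id_assoc]
  rw [IsClosedImmersion.isIso_iff_ker_eq_bot, ← le_bot_iff]
  calc φ.ker ≤ ((inv (pullback.snd φ p) ≫ pullback.fst φ p) ≫ φ).ker :=
        Scheme.Hom.le_ker_comp _ _
    _ = p.ker := by rw [← hfac]
    _ = ⊥ := p.ker_eq_bot

end Groth.Agent.S19967
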