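import Groth.Statements.S19968
import Groth.Agent.Lib.Lead.Inv4

set_option autoImplicit false
universe u
open CategoryTheory AlgebraicGeometry Opposite
open LinSer

namespace Groth.Agent.S19968

open Groth.Agent.Lib.Lead.Inv Groth.Agent.Lib.Lead.QCohAff Groth.Agent.Lib.Helper35.GlobGen

variable {k : Type u} [Field k] {X : Scheme.{u}}

/-- evaluation at a rational point on functions over an open containing it -/
noncomputable def ev (p : Spec (CommRingCat.of k) ⟶ X) (U : X.Opens)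
    (h : (⊤ : (Spec (CommRingCat.of k)).Opens) ≤ p ⁻¹ᵁ U) : Γ(X, U) →+* k :=
  (Scheme.ΓSpecIso (CommRingCat.of k)).hom.hom.comp (p.appLE U ⊤ h).hom

theorem ev_toGlobal (q : X ⟶ Spec (CommRingCat.of k)) (p : Spec (CommRingCat.of k) ⟶ X)
    (hp : p ≫ q = 𝟙 _) (U : X.Opens)
    (h : (⊤ : (Spec (CommRingCat.of k)).Opens) ≤ p ⁻¹ᵁ U) (c : k) :
    ev p U h (X.presheaf.map (homOfLE (le_top : U ≤ ⊤)).op (Coh.toGlobal q c)) = c := by
  have h1 : X.presheaf.map (homOfLE (le_top : U ≤ ⊤)).op ≫ p.appLE U ⊤ h = p.appTop := by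
    rw [Scheme.Hom.map_appLE]
    exact Scheme.Hom.appLE_eq_app p (U := ⊤)
  have h2 : q.appTop ≫ p.appTop = 𝟙 _ := by
    have := congrArg Scheme.Hom.appTop hp
    simpa using this
  change (Scheme.ΓSpecIso (CommRingCat.of k)).hom.hom
    ((X.presheaf.map (homOfLE (le_top : U ≤ ⊤)).op ≫ p.appLE U ⊤ h).hom
      ((q.appTop).hom ((Scheme.ΓSpecIso (CommRingCat.of k)).inv.hom c))) = c
  rw [h1]
  have h3 : (p.appTop).hom ((q.appTop).hom ((Scheme.ΓSpecIso (CommRingCat.of k)).inv.hom c)) =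
      (Scheme.ΓSpecIso (CommRingCat.of k)).inv.hom c := by
    have := congrArg (fun f => f.hom ((Scheme.ΓSpecIso (CommRingCat.of k)).inv.hom c)) h2
    simpa using this
  rw [h3]
  have := congrArg (fun f => f.hom c) (Scheme.ΓSpecIso (CommRingCat.of k)).inv_hom_id
  simpa using this

theorem not_mem_basicOpen_of_ev_eq_zero (p : Spec (CommRingCat.of k) ⟶ X) (U : X.Opens)
    (h : (⊤ : (Spec (CommRingCat.of k)).Opens) ≤ p ⁻¹ᵁ U) (a : Γ(X, U)) (ha : ev p U h a = 0)
    (z : Spec (CommRingCat.of k)) : p z ∉ X.basicOpen a := by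
  intro hz
  have h0 : (p.appLE U ⊤ h).hom a = 0 := by
    have : (Scheme.ΓSpecIso (CommRingCat.of k)).hom.hom ((p.appLE U ⊤ h).hom a) = 0 := ha
    have h' := congrArg (Scheme.ΓSpecIso (CommRingCat.of k)).inv.hom this
    rw [map_zero] at h'
    refine Eq.trans ?_ h'
    have := congrArg (fun f => f.hom ((p.appLE U ⊤ h).hom a))
      (Scheme.ΓSpecIso (CommRingCat.of k)).hom_inv_id
    simpa using this.symm
  have h1 := Scheme.basicOpen_appLE p ⊤ U h a
  rw [show (p.appLE U ⊤ h) a = 0 from h0, Scheme.basicOpen_zero] at h1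
  have : z ∈ (⊤ : (Spec (CommRingCat.of k)).Opens) ⊓ p ⁻¹ᵁ (X.basicOpen a) := ⟨trivial, hz⟩
  rw [← h1] at this
  exact this

theorem coeff_sum {M : X.Modules} {U : X.Opens} {e : Γ(M, U)} (he : IsGen M U e) {W : X.Opens}
    (h : W ≤ U) {ι : Type*} (s : Finset ι) (m : ι → Γ(M, W)) :
    he.coeff h (∑ j ∈ s, m j) = ∑ j ∈ s, he.coeff h (m j) := by
  classical
  induction s using Finset.induction_on with
  | empty =>
    simp only [Finset.sum_empty]
    symm
    apply he.eq_coeff
    rw [zero_smul]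
  | insert a s ha ih =>
    rw [Finset.sum_insert ha, Finset.sum_insert ha, he.coeff_add, ih]

theorem result
    (k : Type u) [Field k] (X : Scheme.{u}) [X.Over (Spec (CommRingCat.of k))]
    (L : X.Modules) (hL : PicF.IsInvertible L)
    (n : ℕ) (p : Fin n → (Spec (CommRingCat.of k) ⟶ X))
    (hp : ∀ i, p i ≫ (X ↘ Spec (CommRingCat.of k)) = 𝟙 _)
    (t : Fin (n + 1) → (Coh.structureModule X ⟶ L))
    (ht : LinSer.LinIndep k X L (fun j => (L.unitHomEquiv (t j)).val (op ⊤))) :
    ∃ s : Coh.structureModule X ⟶ L, s ≠ 0 ∧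
      ∀ i, (p i) (IsLocalRing.closedPoint k) ∉ CohB1.genLocus L s := by
  classical
  have hG := (isInvertible_iff_exists_isGen (M := L)).mp hL
  choose U hxU e he using fun i : Fin n => hG ((p i) (IsLocalRing.closedPoint k))
  have hle : ∀ i, (⊤ : (Spec (CommRingCat.of k)).Opens) ≤ (p i) ⁻¹ᵁ (U i) := by
    intro i z _
    have hz : z = IsLocalRing.closedPoint k := Subsingleton.elim _ _
    change (p i) z ∈ U i
    rw [hz]
    exact hxU i
  let σ : Fin (n + 1) → Γ(L, ⊤) := fun j => val (t j) ⊤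
  let A : Fin n → Fin (n + 1) → k := fun i j =>
    ev (p i) (U i) (hle i) ((he i).coeff le_rfl
      (L.presheaf.map (homOfLE (le_top : U i ≤ ⊤)).op (σ j)))
  let f : (Fin (n + 1) → k) →ₗ[k] (Fin n → k) := Matrix.mulVecLin (Matrix.of A)
  have hker : LinearMap.ker f ≠ ⊥ := LinearMap.ker_ne_bot_of_finrank_lt (by simp)
  obtain ⟨c, hc, hc0⟩ := Submodule.exists_mem_ne_zero_of_ne_bot hker
  have hfc : ∀ i, ∑ j, A i j * c j = 0 := by
    intro i
    have := congrFun (LinearMap.mem_ker.mp hc) i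
    simpa [f, Matrix.mulVec, dotProduct] using this
  let τ : Γ(L, ⊤) := ∑ j, (show Γ(X, ⊤) from Coh.toGlobal (X ↘ Spec (CommRingCat.of k)) (c j)) • σ j
  let sec : Fin (n + 1) → LinSer.Sect X L := fun j => (L.unitHomEquiv (t j)).val (op ⊤)
  have hτ : (∑ j, (Coh.toGlobal (X ↘ Spec (CommRingCat.of k)) (c j)) • sec j) = τ := rfl
  refine ⟨secHom L τ, ?_, ?_⟩
  · intro h0
    apply hc0
    apply ht c
    have h1 : val (secHom L τ) ⊤ = 0 := by
      rw [h0]
      rfl
    rw [val_secHom] at h1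
    have h2 : L.presheaf.map (homOfLE (le_top : (⊤ : X.Opens) ≤ ⊤)).op τ = τ := by
      have : (homOfLE (le_top : (⊤ : X.Opens) ≤ ⊤)).op = 𝟙 _ := rfl
      rw [this, L.presheaf.map_id]
      rfl
    rw [h2] at h1
    exact hτ.trans h1
  · intro i
    set s := secHom L τ with hs
    have ha : (he i).coeff le_rfl (val s (U i)) • e i = val s (U i) := by
      have := (he i).coeff_smul le_rfl (val s (U i))
      have h2 : L.presheaf.map (homOfLE (le_refl (U i))).op (e i) = e i := by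
        have : (homOfLE (le_refl (U i))).op = 𝟙 _ := rfl
        rw [this, L.presheaf.map_id]
        rfl
      rw [h2] at this
      exact this
    rw [mem_genLocus_iff_of_isGen (he i) s _ ha _ (hxU i)]
    apply not_mem_basicOpen_of_ev_eq_zero (p i) (U i) (hle i)
    have h3 : val s (U i) = ∑ j, X.presheaf.map (homOfLE (le_top : U i ≤ ⊤)).op
        (Coh.toGlobal (X ↘ Spec (CommRingCat.of k)) (c j)) •
          L.presheaf.map (homOfLE (le_top : U i ≤ ⊤)).op (σ j) := by
      rw [hs, val_secHom]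
      change (L.presheaf.map (homOfLE (le_top : U i ≤ ⊤)).op).hom (∑ j, _) = _
      rw [map_sum]
      refine Finset.sum_congr rfl (fun j _ => ?_)
      exact res_smul L _ _ _
    rw [h3, coeff_sum, map_sum]
    rw [← hfc i]
    refine Finset.sum_congr rfl (fun j _ => ?_)
    rw [(he i).coeff_smul', map_mul, ev_toGlobal _ _ (hp i), mul_comm]

end Groth.Agent.S19968
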