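import Groth.Statements.S19969
import Groth.Agent.Lib.Helper78.ClosedCond
import Groth.Agent.Lib.Helper78.EqStable

set_option autoImplicit false
universe u
open CategoryTheory MonoidalCategory CartesianMonoidalCategory AlgebraicGeometry
open AlgGrp

namespace Groth.Agent.S19969

/-- Let k be a field, X and Y arbitrary k-schemes and a : Y ×_k X → X a k-morphism such that every open
subscheme U of X is stable under a, in the sense that the preimage of U under the projection Y ×_k X
→ X is contained in the preimage of U under a. Consider the subfunctor X^a of X whose T-valued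
points, for a k-scheme T, are the k-morphisms x : T → X with a ∘ (id_Y × x) = x ∘ pr_T as morphisms
Y ×_k T → X. Then X^a is represented by a closed subscheme of X: there is a closed immersion j : Z →
X over k lying in X^a(Z) through which every element of X^a(T) factors. Neither separatedness of X
nor any finiteness condition on X or Y is assumed. -/
theorem result (k : Type u) [Field k]
    (X Y : Over (Spec (CommRingCat.of k))) (a : Y ⊗ X ⟶ X)
    (hstab : ∀ U : X.left.Opens, (CartesianMonoidalCategory.snd Y X).left ⁻¹ᵁ U ≤ a.left ⁻¹ᵁ U) :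
    ∃ (Z : Over (Spec (CommRingCat.of k))) (j : Z ⟶ X), IsClosedImmersion j.left ∧
      (Y ◁ j) ≫ a = CartesianMonoidalCategory.snd Y Z ≫ j ∧
      ∀ (T : Over (Spec (CommRingCat.of k))) (x : T ⟶ X),
        (Y ◁ x) ≫ a = CartesianMonoidalCategory.snd Y T ≫ x → ∃ z : T ⟶ Z, z ≫ j = x := by
  have hcl := Groth.Agent.Lib.Helper78.EqStable.isClosedImmersion_equalizer_ι_of_stable
    a.left (CartesianMonoidalCategory.snd Y X).left hstab
  let E : Over (Spec (CommRingCat.of k)) :=
    Over.mk (Limits.equalizer.ι a.left (CartesianMonoidalCategory.snd Y X).left ≫ (Y ⊗ X).hom)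
  let i : E ⟶ Y ⊗ X :=
    Over.homMk (Limits.equalizer.ι a.left (CartesianMonoidalCategory.snd Y X).left) rfl
  have hi : i.left = Limits.equalizer.ι a.left (CartesianMonoidalCategory.snd Y X).left := rfl
  have : IsClosedImmersion i.left := by rw [hi]; exact hcl
  have hcond : i ≫ a = i ≫ CartesianMonoidalCategory.snd Y X := by
    apply Over.OverMorphism.ext
    rw [Over.comp_left, Over.comp_left, hi, Limits.equalizer.condition]
  obtain ⟨Z, j, hj, huniv⟩ :=
    Groth.Agent.Lib.Helper78.ClosedCond.exists_closed_representing k X Y E i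
  refine ⟨Z, j, hj, ?_, ?_⟩
  · obtain ⟨e, he⟩ := (huniv Z j).mp ⟨𝟙 Z, Category.id_comp j⟩
    rw [← he, Category.assoc, hcond, ← Category.assoc, he, whiskerLeft_snd]
  · intro T x hx
    refine (huniv T x).mpr ⟨Over.homMk (Limits.equalizer.lift (Y ◁ x).left ?_) ?_, ?_⟩
    · rw [← Over.comp_left, hx, ← whiskerLeft_snd, Over.comp_left]
    · change Limits.equalizer.lift _ _ ≫ Limits.equalizer.ι _ _ ≫ _ = _
      rw [Limits.equalizer.lift_ι_assoc]
      exact Over.w (Y ◁ x)
    · apply Over.OverMorphism.ext
      rw [Over.comp_left, hi]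
      exact Limits.equalizer.lift_ι _ _

end Groth.Agent.S19969
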