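import Groth.Statements.S1997
import Mathlib

set_option autoImplicit false
universe u
open CategoryTheory
open EtAlg

namespace Groth.Agent.S1997

/-- Let A be a ring all of whose ideals are flat (weak dimension at most one) and A -> B a flat,
injective ring map which is an epimorphism in the category of commutative rings. Then A is
integrally closed in B. -/
theorem result (A B : Type u) [CommRing A] [CommRing B] [Algebra A B]
    (hA : ∀ I : Ideal A, Module.Flat A I) [Module.Flat A B] (hinj : Function.Injective (algebraMap A B))
    (hepi : Epi (CommRingCat.ofHom (algebraMap A B))) : IsIntegrallyClosedIn A B := by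
  classical
  rw [isIntegrallyClosedIn_iff]
  refine ⟨hinj, fun {x} hx => ?_⟩
  have hepi' : Algebra.IsEpi A B := CommRingCat.epi_iff_epi.mp hepi
  -- submodules of flat modules are flat
  have flat_sub : ∀ (N : Submodule A B), Module.Flat A N := by
    intro N
    rw [Module.Flat.iff_rTensor_injective']
    intro I
    haveI := hA I
    have h1 : Function.Injective (LinearMap.lTensor I N.subtype) :=
      Module.Flat.lTensor_preserves_injective_linearMap _ N.injective_subtype
    have h2 : Function.Injective (LinearMap.rTensor B I.subtype) :=
      Module.Flat.rTensor_preserves_injective_linearMap _ I.injective_subtype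
    have h3 : (LinearMap.lTensor A N.subtype) ∘ₗ (LinearMap.rTensor N I.subtype) =
        (LinearMap.rTensor B I.subtype) ∘ₗ (LinearMap.lTensor I N.subtype) := by
      rw [LinearMap.lTensor_comp_rTensor, LinearMap.rTensor_comp_lTensor]
    have h4 : Function.Injective
        ((LinearMap.lTensor A N.subtype) ∘ₗ (LinearMap.rTensor N I.subtype)) := by
      rw [h3]
      exact h2.comp h1
    exact Function.Injective.of_comp h4
  let A' : Subalgebra A B := Algebra.adjoin A {x}
  haveI : Module.Finite A A' := Module.Finite.iff_fg.mpr hx.fg_adjoin_singleton
  haveI : Module.Flat A A' := flat_sub (Subalgebra.toSubmodule A')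
  have hepiA' : Algebra.IsEpi A A' := by
    rw [Algebra.isEpi_iff_forall_one_tmul_eq]
    intro a
    have hval : Function.Injective A'.val.toLinearMap := Subtype.val_injective
    have h1 : Function.Injective (LinearMap.lTensor A' A'.val.toLinearMap) :=
      Module.Flat.lTensor_preserves_injective_linearMap _ hval
    have h2 : Function.Injective (LinearMap.rTensor B A'.val.toLinearMap) :=
      Module.Flat.rTensor_preserves_injective_linearMap _ hval
    have h3 : Function.Injective ((LinearMap.rTensor B A'.val.toLinearMap) ∘ₗ
        (LinearMap.lTensor A' A'.val.toLinearMap)) := h2.comp h1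
    apply h3
    simp only [LinearMap.coe_comp, Function.comp_apply, LinearMap.lTensor_tmul,
      LinearMap.rTensor_tmul, AlgHom.toLinearMap_apply, Subalgebra.coe_val, map_one]
    exact (Algebra.isEpi_iff_forall_one_tmul_eq A B).mp hepi' a
  have hsurj := (Algebra.isEpi_iff_surjective_algebraMap_of_finite).mp hepiA'
  obtain ⟨y, hy⟩ := hsurj ⟨x, Algebra.subset_adjoin rfl⟩
  exact ⟨y, congrArg Subtype.val hy⟩

end Groth.Agent.S1997
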