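import Groth.Statements.S19974
import Mathlib.Algebra.TrivSqZeroExt.Basic
import Mathlib.LinearAlgebra.Finsupp.LSum

set_option autoImplicit false
universe u v w x
open scoped BigOperators
open DefMod

namespace Groth.Agent.S19974

section UP

variable {K : Type u} [Field K] {O : Type v} [CommRing O] [Algebra K O]
  {D : Type w} [Ring D] [Algebra K D]

noncomputable def evalL {B : Type*} [Ring B] [Algebra K B] (j : O →ₐ[K] B) (b : B) :
    (ℕ →₀ O) →ₗ[K] B :=
  Finsupp.lsum K (fun i => (LinearMap.mulRight K (b ^ i)).comp j.toLinearMap)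

lemma evalL_apply {B : Type*} [Ring B] [Algebra K B] (j : O →ₐ[K] B) (b : B) (c : ℕ →₀ O) :
    evalL j b c = c.sum (fun i f => j f * b ^ i) := by
  unfold evalL
  rw [Finsupp.lsum_apply]
  rfl

lemma evalL_single {B : Type*} [Ring B] [Algebra K B] (j : O →ₐ[K] B) (b : B) (i : ℕ) (f : O) :
    evalL j b (Finsupp.single i f) = j f * b ^ i := by
  simp [evalL, Finsupp.lsum_single]

variable (ι : O →ₐ[K] D) (d : D)

lemma bij_evalL
    (hbasis : Function.Bijective (fun c : ℕ →₀ O => c.sum (fun i f => ι f * d ^ i))) :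
    Function.Bijective (evalL ι d) := by
  have : (evalL ι d : (ℕ →₀ O) → D) = (fun c : ℕ →₀ O => c.sum (fun i f => ι f * d ^ i)) := by
    funext c; exact evalL_apply ι d c
  rw [this]; exact hbasis

lemma induction_D
    (hbasis : Function.Bijective (fun c : ℕ →₀ O => c.sum (fun i f => ι f * d ^ i)))
    {motive : D → Prop} (h0 : motive 0)
    (hadd : ∀ P Q, motive P → motive Q → motive (P + Q))
    (hs : ∀ (i : ℕ) (f : O), motive (ι f * d ^ i)) : ∀ P, motive P := by
  intro P
  obtain ⟨c, rfl⟩ := (bij_evalL ι d hbasis).2 P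
  induction c using Finsupp.induction_linear with
  | zero => simpa using h0
  | add c1 c2 h1 h2 => rw [map_add]; exact hadd _ _ h1 h2
  | single i f => rw [evalL_single]; exact hs i f

lemma algHom_ext_D
    (hbasis : Function.Bijective (fun c : ℕ →₀ O => c.sum (fun i f => ι f * d ^ i)))
    {B : Type*} [Ring B] [Algebra K B] (Φ Ψ : D →ₐ[K] B)
    (h1 : ∀ f, Φ (ι f) = Ψ (ι f)) (h2 : Φ d = Ψ d) : Φ = Ψ := by
  ext P
  induction P using induction_D ι d hbasis with
  | h0 => simp
  | hadd P Q hP hQ => rw [map_add, map_add, hP, hQ]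
  | hs i f => rw [map_mul, map_mul, map_pow, map_pow, h1, h2]

variable (δ : Derivation K O O)

theorem exists_lift
    (hd : ∀ f : O, d * ι f = ι f * d + ι (δ f))
    (hbasis : Function.Bijective (fun c : ℕ →₀ O => c.sum (fun i f => ι f * d ^ i)))
    {B : Type*} [Ring B] [Algebra K B] (j : O →ₐ[K] B) (b : B)
    (hb : ∀ f, b * j f = j f * b + j (δ f)) :
    ∃ Φ : D →ₐ[K] B, (∀ f, Φ (ι f) = j f) ∧ Φ d = b := by
  let e : (ℕ →₀ O) ≃ₗ[K] D := LinearEquiv.ofBijective (evalL ι d) (bij_evalL ι d hbasis)
  let Φ0 : D →ₗ[K] B := (evalL j b).comp e.symm.toLinearMap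
  have hΦ0 : ∀ (i : ℕ) (f : O), Φ0 (ι f * d ^ i) = j f * b ^ i := by
    intro i f
    have : e (Finsupp.single i f) = ι f * d ^ i := evalL_single ι d i f
    rw [← this]
    simp only [Φ0, LinearMap.comp_apply, LinearEquiv.coe_coe, LinearEquiv.symm_apply_apply]
    exact evalL_single j b i f
  have step1 : ∀ (f : O) (Q : D), Φ0 (ι f * Q) = j f * Φ0 Q := by
    intro f Q
    induction Q using induction_D ι d hbasis with
    | h0 => simp
    | hadd P Q hP hQ => rw [mul_add, map_add, hP, hQ, map_add, mul_add]
    | hs i g => rw [← mul_assoc, ← map_mul, hΦ0, hΦ0, map_mul, mul_assoc]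
  have step2 : ∀ Q : D, Φ0 (d * Q) = b * Φ0 Q := by
    intro Q
    induction Q using induction_D ι d hbasis with
    | h0 => simp
    | hadd P Q hP hQ => rw [mul_add, map_add, hP, hQ, map_add, mul_add]
    | hs i g =>
      rw [← mul_assoc, hd, add_mul, mul_assoc, ← pow_succ', map_add, hΦ0, hΦ0, hΦ0, ← mul_assoc,
        hb, add_mul, mul_assoc, ← pow_succ']
  have step3 : ∀ (i : ℕ) (Q : D), Φ0 (d ^ i * Q) = b ^ i * Φ0 Q := by
    intro i
    induction i with
    | zero => intro Q; simp
    | succ i ih => intro Q; rw [pow_succ', mul_assoc, step2, ih, pow_succ', mul_assoc]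
  have step4 : ∀ P Q : D, Φ0 (P * Q) = Φ0 P * Φ0 Q := by
    intro P Q
    induction P using induction_D ι d hbasis with
    | h0 => simp
    | hadd P P' hP hP' => rw [add_mul, map_add, hP, hP', map_add, add_mul]
    | hs i f => rw [mul_assoc, step1, step3, hΦ0, mul_assoc]
  have step5 : Φ0 1 = 1 := by
    have := hΦ0 0 1
    simpa using this
  refine ⟨AlgHom.ofLinearMap Φ0 step5 step4, ?_, ?_⟩
  · intro f
    have := hΦ0 0 f
    simpa using this
  · have := hΦ0 1 1
    simpa using this

end UP

section Der

variable {K : Type u} [Field K] {D' : Type*} [Ring D'] [Algebra K D']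
  {E : Type x} [AddCommGroup E] [Module K E]

noncomputable def toT (ρ' : D' →ₐ[K] Module.End K E) (s : D' →ₗ[K] Module.End K E)
    (hs : ∀ P Q : D', s (P * Q) = s P * ρ' Q + ρ' P * s Q) :
    D' →ₐ[K] TrivSqZeroExt (Module.End K E) (Module.End K E) :=
  AlgHom.ofLinearMap
    { toFun := fun P => TrivSqZeroExt.inl (ρ' P) + TrivSqZeroExt.inr (s P)
      map_add' := by
        intro P Q
        ext <;> simp
      map_smul' := by
        intro c P
        ext <;> simp }
    (by
      have h1 : s 1 = 0 := by
        have := hs 1 1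
        simp only [mul_one, map_one, one_mul] at this
        have h2 : s 1 + s 1 - s 1 = s 1 - s 1 := by rw [← this]
        simpa using h2
      ext <;> simp [h1])
    (by
      intro P Q
      ext
      · simp
      · simp [hs, add_comm])

lemma toT_fst (ρ' : D' →ₐ[K] Module.End K E) (s : D' →ₗ[K] Module.End K E)
    (hs : ∀ P Q : D', s (P * Q) = s P * ρ' Q + ρ' P * s Q) (P : D') :
    (toT ρ' s hs P).fst = ρ' P := by
  simp [toT]

lemma toT_snd (ρ' : D' →ₐ[K] Module.End K E) (s : D' →ₗ[K] Module.End K E)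
    (hs : ∀ P Q : D', s (P * Q) = s P * ρ' Q + ρ' P * s Q) (P : D') :
    (toT ρ' s hs P).snd = s P := by
  simp [toT]

end Der


/-- Let K be a field of characteristic 0, O a commutative K-algebra with a K-linear derivation δ, and D
the ring of differential operators O[∂], presented abstractly as a K-algebra D with an algebra map ι
: O → D and an element ∂ of D such that ∂ ι(f) = ι(f) ∂ + ι(δ f) for every f in O and such that
every element of D is in a unique way a finite sum of terms ι(f_i) ∂^i. Let E be a left D-module,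
given as a K-vector space with a K-algebra map ρ : D → End_K(E), which is finite free as an
O-module. A K-derivation of D with values in the D-bimodule End_K(E) is a K-linear map s with s(PQ)
= s(P) ρ(Q) + ρ(P) s(Q); a K-derivation of O with values in End_K(E) is a K-linear map r with r(fg)
= r(f) ρ(ι g) + ρ(ι f) r(g). Then: (a) for every K-derivation s of D into End_K(E), the pair (r, v)
= (s ∘ ι, s(∂)) satisfies the identity [r(f), ρ(∂)] + [ρ(ι f), v] + r(δ f) = 0 for all f in O; (b)
conversely, for every K-derivation r of O into End_K(E) and every v in End_K(E) satisfying that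
identity for all f, there is exactly one K-derivation s of D into End_K(E) with s ∘ ι = r and s(∂) =
v. In other words s ↦ (s ∘ ι, s(∂)) maps the K-derivations of D injectively onto the pairs
satisfying the identity. -/
theorem result
    (K : Type u) [Field K] [CharZero K]
    (O : Type v) [CommRing O] [Algebra K O] (δ : Derivation K O O)
    (D : Type w) [Ring D] [Algebra K D] (ι : O →ₐ[K] D) (d : D)
    (hd : ∀ f : O, d * ι f = ι f * d + ι (δ f))
    (hbasis : Function.Bijective (fun c : ℕ →₀ O => c.sum (fun i f => ι f * d ^ i)))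
    (E : Type x) [AddCommGroup E] [Module K E] (ρ : D →ₐ[K] Module.End K E)
    (hE : ∃ (n : ℕ) (b : Fin n → E), Function.Bijective (fun c : Fin n → O => ∑ i, ρ (ι (c i)) (b i))) :
    (∀ s : D →ₗ[K] Module.End K E, (∀ P Q : D, s (P * Q) = s P * ρ Q + ρ P * s Q) →
      ∀ f : O, (s (ι f) * ρ d - ρ d * s (ι f)) + (ρ (ι f) * s d - s d * ρ (ι f)) + s (ι (δ f)) = 0) ∧
    ∀ (r : O →ₗ[K] Module.End K E) (v : Module.End K E),
      (∀ f g : O, r (f * g) = r f * ρ (ι g) + ρ (ι f) * r g) →
      (∀ f : O, (r f * ρ d - ρ d * r f) + (ρ (ι f) * v - v * ρ (ι f)) + r (δ f) = 0) →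
      ∃! s : D →ₗ[K] Module.End K E,
        (∀ P Q : D, s (P * Q) = s P * ρ Q + ρ P * s Q) ∧ s ∘ₗ ι.toLinearMap = r ∧ s d = v := by
  refine ⟨?_, ?_⟩
  · intro s hs f
    have h := congrArg s (hd f)
    rw [hs, map_add, hs] at h
    have h3 : (s (ι f) * ρ d - ρ d * s (ι f)) + (ρ (ι f) * s d - s d * ρ (ι f)) + s (ι (δ f)) =
        (s (ι f) * ρ d + ρ (ι f) * s d + s (ι (δ f))) - (s d * ρ (ι f) + ρ d * s (ι f)) := by
      abel
    rw [h3, h, sub_self]
  · intro r v hr hrv
    have hr' : ∀ f g : O, r (f * g) = r f * (ρ.comp ι) g + (ρ.comp ι) f * r g := by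
      intro f g; simpa using hr f g
    let j : O →ₐ[K] TrivSqZeroExt (Module.End K E) (Module.End K E) := toT (ρ.comp ι) r hr'
    let b : TrivSqZeroExt (Module.End K E) (Module.End K E) :=
      TrivSqZeroExt.inl (ρ d) + TrivSqZeroExt.inr v
    have hb : ∀ f, b * j f = j f * b + j (δ f) := by
      intro f
      refine TrivSqZeroExt.ext ?_ ?_
      · simp only [TrivSqZeroExt.fst_mul, TrivSqZeroExt.fst_add, j, toT_fst, b,
          TrivSqZeroExt.fst_inl, TrivSqZeroExt.fst_inr, add_zero]
        have := congrArg ρ (hd f)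
        simpa using this
      · simp only [TrivSqZeroExt.snd_mul, TrivSqZeroExt.snd_add, j, toT_fst, toT_snd, b,
          TrivSqZeroExt.fst_inl, TrivSqZeroExt.fst_inr, TrivSqZeroExt.snd_inl,
          TrivSqZeroExt.snd_inr, add_zero, zero_add, smul_eq_mul, MulOpposite.smul_eq_mul_unop,
          MulOpposite.unop_op, TrivSqZeroExt.fst_add, AlgHom.comp_apply]
        have h := hrv f
        have h3 : ρ d * r f + v * ρ (ι f) =
            (ρ (ι f) * v + r f * ρ d + r (δ f)) -
              ((r f * ρ d - ρ d * r f) + (ρ (ι f) * v - v * ρ (ι f)) + r (δ f)) := by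
          abel
        rw [h3, h, sub_zero]
    obtain ⟨Φ, hΦι, hΦd⟩ := exists_lift ι d δ hd hbasis j b hb
    have hfst : (TrivSqZeroExt.fstHom K (Module.End K E) (Module.End K E)).comp Φ = ρ := by
      apply algHom_ext_D ι d hbasis
      · intro f
        simp [hΦι, j, toT_fst]
      · simp [hΦd, b]
    have hfst' : ∀ P, (Φ P).fst = ρ P := by
      intro P
      have := congrArg (fun ψ : D →ₐ[K] Module.End K E => ψ P) hfst
      simpa using this
    let s : D →ₗ[K] Module.End K E :=
      { toFun := fun P => (Φ P).snd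
        map_add' := by intro P Q; simp
        map_smul' := by intro c P; simp }
    have hs_apply : ∀ P, s P = (Φ P).snd := fun P => rfl
    have hs : ∀ P Q : D, s (P * Q) = s P * ρ Q + ρ P * s Q := by
      intro P Q
      simp only [hs_apply, map_mul, TrivSqZeroExt.snd_mul, hfst', smul_eq_mul,
        MulOpposite.smul_eq_mul_unop, MulOpposite.unop_op]
      rw [add_comm]
    refine ⟨s, ⟨hs, ?_, ?_⟩, ?_⟩
    · ext f : 1
      simp only [LinearMap.comp_apply, AlgHom.toLinearMap_apply, hs_apply, hΦι, j, toT_snd]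
    · simp [hs_apply, hΦd, b]
    · rintro s' ⟨hs', hs'ι, hs'd⟩
      have hΦ' : toT ρ s' hs' = Φ := by
        apply algHom_ext_D ι d hbasis
        · intro f
          rw [hΦι]
          have h1 : s' (ι f) = r f := by
            have := congrArg (fun ψ : O →ₗ[K] Module.End K E => ψ f) hs'ι
            simpa using this
          ext
          · simp [j, toT_fst]
          · simp [j, toT_snd, h1]
        · rw [hΦd]
          ext
          · simp [toT_fst, b]
          · simp [toT_snd, b, hs'd]
      ext P : 1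
      rw [hs_apply, ← hΦ', toT_snd]

end Groth.Agent.S19974
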