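import Groth.Statements.S19975
import Groth.Agent.Lib.Helper28.EtColim
import Groth.Agent.Lib.Helper28.EtBasis
import Groth.Agent.Lib.Helper28.AbFilt
import Mathlib.Algebra.Module.LocalizedModule.Basic

set_option autoImplicit false
universe u
open CategoryTheory Opposite AlgebraicGeometry
open EtCoh

namespace Groth.Agent.S19975

open CategoryTheory.Limits

open Groth.Agent.Lib.Helper28

/-- The elements of a submonoid of `ℤ`, ordered by divisibility (in a high universe). -/
structure Idx (S : Submonoid ℤ) : Type (u + 1) where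
  val : ℤ
  mem : val ∈ S

variable {S : Submonoid ℤ}

instance : Preorder (Idx.{u} S) where
  le a b := a.val ∣ b.val
  le_refl a := dvd_refl _
  le_trans a b c := dvd_trans

instance : Nonempty (Idx.{u} S) := ⟨⟨1, S.one_mem⟩⟩

instance : IsDirected (Idx.{u} S) (· ≤ ·) where
  directed a b := ⟨⟨a.val * b.val, S.mul_mem a.mem b.mem⟩, Dvd.intro _ rfl, Dvd.intro_left _ rfl⟩

section Abstract

universe v' u'

variable {𝒜 : Type u'} [Category.{v'} 𝒜] [Preadditive 𝒜] (h0 : (0 : ℤ) ∉ S) (F : 𝒜)

include h0 in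
lemma val_ne_zero (a : Idx.{u} S) : a.val ≠ 0 := fun h => h0 (h ▸ a.mem)

/-- The diagram `a ↦ F` with transition maps multiplication by `b / a`. -/
noncomputable def D : Idx.{u} S ⥤ 𝒜 where
  obj _ := F
  map {a b} _ := (b.val / a.val) • 𝟙 F
  map_id a := by
    rw [Int.ediv_self (val_ne_zero h0 a), one_smul]
  map_comp {a b c} f g := by
    obtain ⟨m, hm⟩ : a.val ∣ b.val := leOfHom f
    obtain ⟨n, hn⟩ : b.val ∣ c.val := leOfHom g
    have ha := val_ne_zero h0 a
    have hb := val_ne_zero h0 b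
    have e1 : b.val / a.val = m := by rw [hm, Int.mul_ediv_cancel_left _ ha]
    have e2 : c.val / b.val = n := by rw [hn, Int.mul_ediv_cancel_left _ hb]
    have e3 : c.val / a.val = m * n := by
      rw [hn, hm, mul_assoc, Int.mul_ediv_cancel_left _ ha]
    rw [Preadditive.zsmul_comp, Preadditive.comp_zsmul, Category.comp_id, smul_smul, e1, e2, e3]

lemma D_map {a b : Idx.{u} S} (f : a ⟶ b) : (D h0 F).map f = (b.val / a.val) • 𝟙 F := rfl

variable {F} {G : 𝒜} (φ : F ⟶ G) (hG : ∀ a : ℤ, a ∈ S → IsIso (a • 𝟙 G))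

/-- The inverse of multiplication by `a` on `G`. -/
noncomputable def invS (a : Idx.{u} S) : G ⟶ G := @inv _ _ _ _ (a.val • 𝟙 G) (hG a.val a.mem)

lemma smul_invS (a : Idx.{u} S) : a.val • invS hG a = 𝟙 G := by
  have := hG a.val a.mem
  have h : (a.val • 𝟙 G) ≫ invS hG a = 𝟙 G := IsIso.hom_inv_id _
  rwa [Preadditive.zsmul_comp, Category.id_comp] at h

lemma invS_smul (a : Idx.{u} S) : invS hG a ≫ (a.val • 𝟙 G) = 𝟙 G := by
  have := hG a.val a.mem
  exact IsIso.inv_hom_id _

/-- The cocone `(1/a) φ : F ⟶ G`. -/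
noncomputable def cG : Cocone (D.{u} h0 F) where
  pt := G
  ι :=
    { app := fun a => φ ≫ invS hG a
      naturality := by
        intro a b f
        obtain ⟨m, hm⟩ : a.val ∣ b.val := leOfHom f
        have ha := val_ne_zero h0 a
        change ((b.val / a.val) • 𝟙 F) ≫ φ ≫ invS hG b = (φ ≫ invS hG a) ≫ 𝟙 G
        rw [Category.comp_id, Preadditive.zsmul_comp, Category.id_comp,
          ← Preadditive.comp_zsmul]
        congr 1
        have := hG a.val a.mem
        rw [← cancel_epi (a.val • 𝟙 G)]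
        rw [Preadditive.zsmul_comp, Preadditive.zsmul_comp, Category.id_comp, Category.id_comp,
          smul_smul, smul_invS, hm, Int.mul_ediv_cancel_left _ ha, ← hm, smul_invS] }

end Abstract

variable {X : Scheme.{u}}

lemma zsmul_hom_app (a : ℤ) {G G' : EtCoh.Ab X} (ψ : G ⟶ G') (U : X.Etaleᵒᵖ)
    (y : G.obj.obj U) : (a • ψ).hom.app U y = a • ψ.hom.app U y := by
  have h1 : (a • ψ).hom = a • ψ.hom :=
    (sheafToPresheaf X.smallEtaleTopology AddCommGrpCat.{u + 1}).map_zsmul
  rw [h1, NatTrans.app_zsmul]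
  rfl

variable {S : Submonoid ℤ} {F G : EtCoh.Ab X} (φ : F ⟶ G)
  (hφ : ∀ U : X.Etale, IsAffine U.left →
      IsLocalizedModule S (φ.hom.app (op U)).hom.toIntLinearMap)

include hφ in
lemma isIso_smul (a : ℤ) (ha : a ∈ S) : IsIso (a • 𝟙 G) := by
  apply Groth.Agent.Lib.Helper28.EtBasis.isIso_of_bijective_on_affines
  intro U hU
  have h := (hφ U hU).map_units ⟨a, ha⟩
  rw [Module.End.isUnit_iff] at h
  have e : ∀ y : G.obj.obj (op U), (a • 𝟙 G).hom.app (op U) y = a • y := by
    intro y
    rw [zsmul_hom_app]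
    rfl
  constructor
  · intro y y' hy
    rw [e, e] at hy
    exact h.1 hy
  · intro y
    obtain ⟨y', hy'⟩ := h.2 y
    exact ⟨y', (e y').trans hy'⟩


section Colim

variable (h0 : (0 : ℤ) ∉ S)

include hφ in
/-- On sections over an affine object, the cocone `(1/a) φ` is a colimit cocone. -/
lemma nonempty_isColimit_sections (U : X.Etale) (hU : IsAffine U.left) :
    Nonempty (IsColimit ((sheafToPresheaf X.smallEtaleTopology AddCommGrpCat.{u + 1} ⋙
      (evaluation X.Etaleᵒᵖ AddCommGrpCat.{u + 1}).obj (op U)).mapCocone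
        (cG.{u} h0 φ (isIso_smul φ hφ)))) := by
  have hloc := hφ U hU
  have hinvL : ∀ (a : Idx.{u} S) (z : G.obj.obj (op U)),
      (invS (isIso_smul φ hφ) a).hom.app (op U) (a.val • z) = z := by
    intro a z
    have := isIso_smul φ hφ a.val a.mem
    have h : (a.val • 𝟙 G) ≫ invS (isIso_smul φ hφ) a = 𝟙 G := IsIso.hom_inv_id _
    have h2 := congrArg (fun ψ : G ⟶ G => ψ.hom.app (op U) z) h
    refine Eq.trans ?_ h2
    change _ = (invS (isIso_smul φ hφ) a).hom.app (op U) ((a.val • 𝟙 G).hom.app (op U) z)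
    rw [zsmul_hom_app]
    rfl
  have hinvR : ∀ (a : Idx.{u} S) (z : G.obj.obj (op U)),
      a.val • (invS (isIso_smul φ hφ) a).hom.app (op U) z = z := by
    intro a z
    have h := invS_smul (isIso_smul φ hφ) a
    have h2 := congrArg (fun ψ : G ⟶ G => ψ.hom.app (op U) z) h
    refine Eq.trans ?_ h2
    change _ = (a.val • 𝟙 G).hom.app (op U) ((invS (isIso_smul φ hφ) a).hom.app (op U) z)
    rw [zsmul_hom_app]
    rfl
  refine AbFilt.nonempty_isColimit _ ?_ ?_
  · intro (x : G.obj.obj (op U))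
    obtain ⟨⟨y, s⟩, hys⟩ := hloc.surj x
    refine ⟨⟨s.1, s.2⟩, y, ?_⟩
    change (invS (isIso_smul φ hφ) ⟨s.1, s.2⟩).hom.app (op U) (φ.hom.app (op U) y) = x
    have hys' : φ.hom.app (op U) y = s.1 • x := hys.symm
    rw [hys']
    exact hinvL ⟨s.1, s.2⟩ x
  · intro a (y : F.obj.obj (op U)) hy
    have hy' : (invS (isIso_smul φ hφ) a).hom.app (op U) (φ.hom.app (op U) y) = 0 := hy
    have h1 : φ.hom.app (op U) y = 0 := by
      rw [← hinvR a (φ.hom.app (op U) y), hy', smul_zero]
    have h2 : (φ.hom.app (op U)).hom.toIntLinearMap y = (φ.hom.app (op U)).hom.toIntLinearMap 0 :=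
      h1.trans (map_zero _).symm
    obtain ⟨c, hc⟩ := hloc.exists_of_eq h2
    have hc' : c.1 • y = 0 := hc.trans (smul_zero _)
    let b : Idx.{u} S := ⟨a.val * c.1, S.mul_mem a.mem c.2⟩
    have hab : a ≤ b := Dvd.intro _ rfl
    refine ⟨b, homOfLE hab, ?_⟩
    change ((b.val / a.val) • 𝟙 F).hom.app (op U) y = 0
    rw [zsmul_hom_app]
    have e : b.val / a.val = c.1 := Int.mul_ediv_cancel_left _ (val_ne_zero h0 a)
    rw [e]
    exact hc'

end Colim

section Main

variable (h0 : (0 : ℤ) ∉ S)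

include hφ in
/-- The cocone `(1/a) φ` exhibits `G` as the filtered colimit of copies of `F`. -/
lemma nonempty_isColimit_cG : Nonempty (IsColimit (cG.{u} h0 φ (isIso_smul φ hφ))) := by
  have hiso : IsIso ((colimit.isColimit (D.{u} h0 F)).desc (cG.{u} h0 φ (isIso_smul φ hφ))) := by
    apply EtBasis.isIso_of_bijective_on_affines
    intro U hU
    have hUB : U ∈ EtQc.B X := EtQc.B_of_isAffine U
    have := EtColim.preservesColimit_sections X (D.{u} h0 F) hUB
    have h₁ := isColimitOfPreserves (sheafToPresheaf X.smallEtaleTopology AddCommGrpCat.{u + 1} ⋙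
      (evaluation X.Etaleᵒᵖ AddCommGrpCat.{u + 1}).obj (op U)) (colimit.isColimit (D.{u} h0 F))
    obtain ⟨h₂⟩ := nonempty_isColimit_sections φ hφ h0 U hU
    have e : (sheafToPresheaf X.smallEtaleTopology AddCommGrpCat.{u + 1} ⋙
        (evaluation X.Etaleᵒᵖ AddCommGrpCat.{u + 1}).obj (op U)).map
          ((colimit.isColimit (D.{u} h0 F)).desc (cG.{u} h0 φ (isIso_smul φ hφ))) =
        (h₁.coconePointUniqueUpToIso h₂).hom := by
      apply h₁.hom_ext
      intro a
      rw [IsColimit.comp_coconePointUniqueUpToIso_hom]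
      change (sheafToPresheaf X.smallEtaleTopology AddCommGrpCat.{u + 1} ⋙
        (evaluation X.Etaleᵒᵖ AddCommGrpCat.{u + 1}).obj (op U)).map _ ≫
          (sheafToPresheaf X.smallEtaleTopology AddCommGrpCat.{u + 1} ⋙
        (evaluation X.Etaleᵒᵖ AddCommGrpCat.{u + 1}).obj (op U)).map _ = _
      rw [← Functor.map_comp, IsColimit.fac]
      rfl
    have hI : IsIso ((sheafToPresheaf X.smallEtaleTopology AddCommGrpCat.{u + 1} ⋙
        (evaluation X.Etaleᵒᵖ AddCommGrpCat.{u + 1}).obj (op U)).map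
          ((colimit.isColimit (D.{u} h0 F)).desc (cG.{u} h0 φ (isIso_smul φ hφ)))) := by
      rw [e]
      infer_instance
    exact @ConcreteCategory.bijective_of_isIso _ _ _ _ _ _ _ _ _ hI
  exact ⟨IsColimit.ofPointIso (colimit.isColimit (D.{u} h0 F))⟩

end Main

/-- In the case of the small etale topos of a quasi-compact quasi-separated scheme X (X is then a
coherent object of it), let R = S⁻¹ℤ be a localization of the ring of integers at a multiplicative
subset S, and let φ : F ⟶ G be a morphism of abelian etale sheaves on X which exhibits G as F ⊗ R: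
over every affine scheme U etale over X, the map on sections F(U) → G(U) is a localization of
ℤ-modules at S. Then for every i the induced map on etale cohomology Hⁱ(X, F) → Hⁱ(X, G) is a
localization at S, i.e. the natural map Hⁱ(X, F) ⊗ R → Hⁱ(X, F ⊗ R) is invertible. (The source
states this for a coherent object of an arbitrary topos; the tensor product F ⊗ R is rendered
through its characterisation on affine etale schemes over X.) -/
theorem result (X : Scheme.{u})
    [CompactSpace X] [QuasiSeparatedSpace X] (S : Submonoid ℤ)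
    (F G : EtCoh.Ab X) (φ : F ⟶ G)
    (hφ : ∀ U : X.Etale, IsAffine U.left →
      IsLocalizedModule S (φ.hom.app (op U)).hom.toIntLinearMap)
    (i : ℕ) : IsLocalizedModule S ((EtCoh.HF X i).map φ).hom.toIntLinearMap := by
  have hG := isIso_smul φ hφ
  have hadd : (EtCoh.HF X i).Additive := by
    unfold EtCoh.HF
    infer_instance
  have hsm : ∀ (a : ℤ) {A A' : EtCoh.Ab X} (ψ : A ⟶ A') (y : (EtCoh.HF X i).obj A),
      (EtCoh.HF X i).map (a • ψ) y = a • (EtCoh.HF X i).map ψ y := by
    intro a A A' ψ y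
    rw [Functor.map_zsmul]
    rfl
  refine ⟨?_, ?_, fun {x₁ x₂} hx => ?_⟩
  · rintro ⟨s, hs⟩
    rw [Module.End.isUnit_iff]
    have := hG s hs
    have hiso : IsIso ((EtCoh.HF X i).map (s • 𝟙 G)) := inferInstance
    have hb := @ConcreteCategory.bijective_of_isIso _ _ _ _ _ _ _ _ _ hiso
    have e : ∀ y : (EtCoh.HF X i).obj G, (EtCoh.HF X i).map (s • 𝟙 G) y = s • y := by
      intro y
      rw [hsm, CategoryTheory.Functor.map_id]
      rfl
    constructor
    · intro y y' hy
      apply hb.1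
      rw [e, e]
      exact hy
    · intro y
      obtain ⟨y', hy'⟩ := hb.2 y
      exact ⟨y', (e y').symm.trans hy'⟩
  · by_cases h0 : (0 : ℤ) ∈ S
    · intro y
      refine ⟨⟨0, ⟨0, h0⟩⟩, ?_⟩
      change (0 : ℤ) • y = _
      rw [zero_smul, map_zero]
    · obtain ⟨hc⟩ := nonempty_isColimit_cG φ hφ h0
      have := Groth.Agent.Lib.Helper28.EtColim.preservesColimit_HF X (D.{u} h0 F) i
      have hH := isColimitOfPreserves (EtCoh.HF X i) hc
      intro y
      obtain ⟨a, (x : (EtCoh.HF X i).obj F), hx⟩ := Concrete.isColimit_exists_rep _ hH y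
      refine ⟨⟨x, ⟨a.val, a.mem⟩⟩, ?_⟩
      change a.val • y = (EtCoh.HF X i).map φ x
      rw [← hx]
      change a.val • (EtCoh.HF X i).map (φ ≫ invS hG a) x = _
      rw [← hsm, ← Preadditive.comp_zsmul, smul_invS, Category.comp_id]
  · by_cases h0 : (0 : ℤ) ∈ S
    · refine ⟨⟨0, h0⟩, ?_⟩
      change (0 : ℤ) • x₁ = (0 : ℤ) • x₂
      rw [zero_smul, zero_smul]
    · obtain ⟨hc⟩ := nonempty_isColimit_cG φ hφ h0
      have := Groth.Agent.Lib.Helper28.EtColim.preservesColimit_HF X (D.{u} h0 F) i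
      have hH := isColimitOfPreserves (EtCoh.HF X i) hc
      have hx' : (EtCoh.HF X i).map φ x₁ = (EtCoh.HF X i).map φ x₂ := hx
      let one : Idx.{u} S := ⟨1, S.one_mem⟩
      have h1 : ((EtCoh.HF X i).mapCocone (cG.{u} h0 φ hG)).ι.app one x₁ =
          ((EtCoh.HF X i).mapCocone (cG.{u} h0 φ hG)).ι.app one x₂ := by
        change (EtCoh.HF X i).map (φ ≫ invS hG one) x₁ = (EtCoh.HF X i).map (φ ≫ invS hG one) x₂
        rw [Functor.map_comp, ConcreteCategory.comp_apply, ConcreteCategory.comp_apply, hx']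
      obtain ⟨b, f, g, hfg⟩ := Concrete.isColimit_exists_of_rep_eq _ hH x₁ x₂ h1
      refine ⟨⟨b.val, b.mem⟩, ?_⟩
      change b.val • x₁ = b.val • x₂
      have e : ∀ (f : one ⟶ b) (x : (EtCoh.HF X i).obj F),
          (D.{u} h0 F ⋙ EtCoh.HF X i).map f x = b.val • x := by
        intro f x
        change (EtCoh.HF X i).map ((b.val / (1 : ℤ)) • 𝟙 F) x = _
        rw [hsm, CategoryTheory.Functor.map_id, Int.ediv_one]
        rfl
      rw [← e f x₁, ← e g x₂]
      exact hfg

end Groth.Agent.S19975
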