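import Groth.Statements.S1998
import Mathlib

set_option autoImplicit false
universe u
open EtAlg

namespace Groth.Agent.S1998

section aux

variable {ι : Type u} [Preorder ι] [IsDirected ι (· ≤ ·)] [Nonempty ι]
    (G : ι → Type u) [∀ i, CommRing (G i)] (f : ∀ i j, i ≤ j → G i →+* G j)
    [DirectedSystem G fun i j h => f i j h] (I : ∀ i, Ideal (G i))

theorem of_f_aux {i j : ι} (h : i ≤ j) (x : G i) :
    Ring.DirectLimit.of G (fun i j h => f i j h) j (f i j h x) =
      Ring.DirectLimit.of G (fun i j h => f i j h) i x :=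
  Ring.DirectLimit.of_f h x

theorem exists_level_eq {i j : ι} (x : G i) (y : G j)
    (h : Ring.DirectLimit.of G (fun i j h => f i j h) i x =
      Ring.DirectLimit.of G (fun i j h => f i j h) j y) :
    ∃ (k : ι) (hik : i ≤ k) (hjk : j ≤ k), f i k hik x = f j k hjk y := by
  obtain ⟨k, hik, hjk⟩ := exists_ge_ge i j
  have h0 : Ring.DirectLimit.of G (fun i j h => f i j h) k (f i k hik x - f j k hjk y) = 0 := by
    rw [map_sub, of_f_aux, of_f_aux, h, sub_self]
  obtain ⟨m, hkm, hm⟩ := Ring.DirectLimit.of.zero_exact h0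
  refine ⟨m, hik.trans hkm, hjk.trans hkm, ?_⟩
  rw [map_sub, sub_eq_zero] at hm
  rw [← DirectedSystem.map_map' (f := f) hik hkm x, ← DirectedSystem.map_map' (f := f) hjk hkm y]
  exact hm

theorem mem_I_of_le (hI : ∀ i j (h : i ≤ j), (I i).map (f i j h) ≤ I j) {i j : ι} (h : i ≤ j)
    {x : G i} (hx : x ∈ I i) : f i j h x ∈ I j :=
  hI i j h (Ideal.mem_map_of_mem _ hx)

/-- The ideal of elements of the direct limit coming from some `I i`. -/
def limIdeal (hI : ∀ i j (h : i ≤ j), (I i).map (f i j h) ≤ I j) :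
    Ideal (Ring.DirectLimit G fun i j h => f i j h) where
  carrier := {x | ∃ i, ∃ y ∈ I i, Ring.DirectLimit.of G (fun i j h => f i j h) i y = x}
  add_mem' := by
    rintro _ _ ⟨i, y, hy, rfl⟩ ⟨j, z, hz, rfl⟩
    obtain ⟨k, hik, hjk⟩ := exists_ge_ge i j
    refine ⟨k, f i k hik y + f j k hjk z,
      (I k).add_mem (mem_I_of_le G f I hI hik hy) (mem_I_of_le G f I hI hjk hz), ?_⟩
    rw [map_add, of_f_aux, of_f_aux]
  zero_mem' := by
    obtain ⟨i⟩ := ‹Nonempty ι›
    exact ⟨i, 0, (I i).zero_mem, map_zero _⟩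
  smul_mem' := by
    rintro c _ ⟨i, y, hy, rfl⟩
    obtain ⟨j, c', rfl⟩ := Ring.DirectLimit.exists_of c
    obtain ⟨k, hik, hjk⟩ := exists_ge_ge i j
    refine ⟨k, f j k hjk c' * f i k hik y,
      (I k).mul_mem_left _ (mem_I_of_le G f I hI hik hy), ?_⟩
    rw [map_mul, of_f_aux, of_f_aux, smul_eq_mul]

theorem iSup_le_limIdeal (hI : ∀ i j (h : i ≤ j), (I i).map (f i j h) ≤ I j) :
    (⨆ i, (I i).map (Ring.DirectLimit.of G (fun i j h => f i j h) i)) ≤ limIdeal G f I hI := by
  refine iSup_le fun i => ?_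
  rw [Ideal.map_le_iff_le_comap]
  intro y hy
  exact ⟨i, y, hy, rfl⟩

theorem exists_level_mem (hI : ∀ i j (h : i ≤ j), (I i).map (f i j h) ≤ I j) {i : ι} (x : G i)
    (hx : Ring.DirectLimit.of G (fun i j h => f i j h) i x ∈
      ⨆ i, (I i).map (Ring.DirectLimit.of G (fun i j h => f i j h) i)) :
    ∃ (k : ι) (hik : i ≤ k), f i k hik x ∈ I k := by
  obtain ⟨j, y, hy, hyx⟩ := iSup_le_limIdeal G f I hI hx
  obtain ⟨k, hjk, hik, hk⟩ := exists_level_eq G f y x hyx
  exact ⟨k, hik, hk ▸ mem_I_of_le G f I hI hjk hy⟩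

theorem of_mem_iSup {i : ι} {x : G i} (hx : x ∈ I i) :
    Ring.DirectLimit.of G (fun i j h => f i j h) i x ∈
      ⨆ i, (I i).map (Ring.DirectLimit.of G (fun i j h => f i j h) i) :=
  (le_iSup (fun i => (I i).map (Ring.DirectLimit.of G (fun i j h => f i j h) i)) i)
    (Ideal.mem_map_of_mem _ hx)

end aux

/-- Let (A_j, I_j) be a directed system of henselian pairs (ring maps A_j -> A_k for j ≤ k carrying I_j
into I_k). Then the direct limit A of the A_j together with the ideal generated by the images of the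
I_j is a henselian pair. -/
theorem result {ι : Type u} [Preorder ι] [IsDirected ι (· ≤ ·)] [Nonempty ι]
    (G : ι → Type u) [∀ i, CommRing (G i)] (f : ∀ i j, i ≤ j → G i →+* G j)
    [DirectedSystem G fun i j h => f i j h] (I : ∀ i, Ideal (G i))
    (hI : ∀ i j (h : i ≤ j), (I i).map (f i j h) ≤ I j) (hh : ∀ i, HenselianRing (G i) (I i)) :
    HenselianRing (Ring.DirectLimit G fun i j h => f i j h)
      (⨆ i, (I i).map (Ring.DirectLimit.of G (fun i j h => f i j h) i)) := by
  refine ⟨?_, ?_⟩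
  · intro x hx
    obtain ⟨i, x', hx', rfl⟩ := iSup_le_limIdeal G f I hI hx
    rw [Ideal.mem_jacobson_bot]
    intro y
    obtain ⟨j, y', rfl⟩ := Ring.DirectLimit.exists_of y
    obtain ⟨k, hik, hjk⟩ := exists_ge_ge i j
    have hxk : f i k hik x' ∈ (⊥ : Ideal (G k)).jacobson :=
      (hh k).jac (mem_I_of_le G f I hI hik hx')
    rw [Ideal.mem_jacobson_bot] at hxk
    have := (hxk (f j k hjk y')).map (Ring.DirectLimit.of G (fun i j h => f i j h) k)
    rwa [map_add, map_mul, of_f_aux, of_f_aux, map_one] at this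
  · intro F hF a₀ hFa hu
    obtain ⟨b, hb⟩ := hu.exists_right_inv
    obtain ⟨b, rfl⟩ := Ideal.Quotient.mk_surjective b
    rw [← map_mul, ← map_one (Ideal.Quotient.mk _), Ideal.Quotient.eq] at hb
    obtain ⟨i₁, p₀, hp₀⟩ := Ring.DirectLimit.Polynomial.exists_of F
    obtain ⟨p₁, hp₁, -, hp₁m⟩ := Polynomial.lifts_and_natDegree_eq_and_monic
      ((Polynomial.mem_lifts _).2 ⟨p₀, hp₀⟩) hF
    obtain ⟨i₂, a₂, rfl⟩ := Ring.DirectLimit.exists_of a₀
    obtain ⟨i₃, b₃, rfl⟩ := Ring.DirectLimit.exists_of b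
    obtain ⟨k₀, h1k₀, h2k₀⟩ := exists_ge_ge i₁ i₂
    obtain ⟨k, hk₀k, h3k⟩ := exists_ge_ge k₀ i₃
    have h1k := h1k₀.trans hk₀k
    have h2k := h2k₀.trans hk₀k
    set p := p₁.map (f i₁ k h1k) with hp
    set a := f i₂ k h2k a₂ with ha
    set b := f i₃ k h3k b₃ with hb'
    have hpm : p.Monic := hp₁m.map _
    have hpF : p.map (Ring.DirectLimit.of G (fun i j h => f i j h) k) = F := by
      rw [hp, Polynomial.map_map, ← hp₁]
      congr 1
      ext x
      exact of_f_aux G f h1k x
    have hak : Ring.DirectLimit.of G (fun i j h => f i j h) k a =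
        Ring.DirectLimit.of G (fun i j h => f i j h) i₂ a₂ := of_f_aux G f h2k a₂
    have hbk : Ring.DirectLimit.of G (fun i j h => f i j h) k b =
        Ring.DirectLimit.of G (fun i j h => f i j h) i₃ b₃ := of_f_aux G f h3k b₃
    have h1 : Ring.DirectLimit.of G (fun i j h => f i j h) k (p.eval a) ∈
        ⨆ i, (I i).map (Ring.DirectLimit.of G (fun i j h => f i j h) i) := by
      rw [← Polynomial.eval_map_apply, hpF, hak]
      exact hFa
    have h2 : Ring.DirectLimit.of G (fun i j h => f i j h) k (p.derivative.eval a * b - 1) ∈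
        ⨆ i, (I i).map (Ring.DirectLimit.of G (fun i j h => f i j h) i) := by
      rw [map_sub, map_mul, map_one, ← Polynomial.eval_map_apply, ← Polynomial.derivative_map, hpF,
        hak, hbk]
      exact hb
    obtain ⟨m₁, hkm₁, hm₁⟩ := exists_level_mem G f I hI _ h1
    obtain ⟨m₂, hkm₂, hm₂⟩ := exists_level_mem G f I hI _ h2
    obtain ⟨m, hm₁m, hm₂m⟩ := exists_ge_ge m₁ m₂
    have hkm := hkm₁.trans hm₁m
    have hm₁' : f k m hkm (p.eval a) ∈ I m := by
      rw [← DirectedSystem.map_map' (f := f) hkm₁ hm₁m]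
      exact mem_I_of_le G f I hI hm₁m hm₁
    have hm₂' : f k m hkm (p.derivative.eval a * b - 1) ∈ I m := by
      rw [← DirectedSystem.map_map' (f := f) hkm₂ hm₂m]
      exact mem_I_of_le G f I hI hm₂m hm₂
    set P := p.map (f k m hkm) with hP
    have hPm : P.Monic := hpm.map _
    have hPa : P.eval (f k m hkm a) ∈ I m := by
      rw [hP, Polynomial.eval_map_apply]
      exact hm₁'
    have hPu : IsUnit (Ideal.Quotient.mk (I m) (P.derivative.eval (f k m hkm a))) := by
      refine IsUnit.of_mul_eq_one (Ideal.Quotient.mk (I m) (f k m hkm b)) ?_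
      rw [← map_mul, ← map_one (Ideal.Quotient.mk (I m)), Ideal.Quotient.eq, hP,
        Polynomial.derivative_map, Polynomial.eval_map_apply]
      simpa using hm₂'
    obtain ⟨r, hr, hra⟩ := (hh m).is_henselian P hPm (f k m hkm a) hPa hPu
    refine ⟨Ring.DirectLimit.of G (fun i j h => f i j h) m r, ?_, ?_⟩
    · have hPF : P.map (Ring.DirectLimit.of G (fun i j h => f i j h) m) = F := by
        rw [hP, Polynomial.map_map, ← hpF]
        congr 1
        ext x
        exact of_f_aux G f hkm x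
      rw [← hPF, Polynomial.IsRoot, Polynomial.eval_map_apply, hr.eq_zero, map_zero]
    · rw [← hak, ← of_f_aux G f hkm a, ← map_sub]
      exact of_mem_iSup G f I hra

end Groth.Agent.S1998
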