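import Mathlib
import Groth.Statements.S1999
import Groth.Agent.Lib.Helper9.TameInertia

set_option autoImplicit false
universe u
open scoped Pointwise
open EtAlg

namespace Groth.Agent.S1999

set_option linter.style.haveILetI false
set_option linter.overlappingInstances false

open Groth.Agent.Lib.Helper9.TameInertia

attribute [local instance] Ideal.Quotient.field in
theorem main (A B G : Type u) [CommRing A] [IsDomain A] [IsDiscreteValuationRing A]
    [CommRing B] [IsDomain B] [IsDedekindDomain B] [Algebra A B] [Module.Finite A B]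
    [Module.IsTorsionFree A B] [Group G] [Finite G] [MulSemiringAction G B] [IsGaloisGroup G A B]
    (m : Ideal B) [m.IsMaximal]
    [Algebra.IsSeparable (A ⧸ m.comap (algebraMap A B)) (B ⧸ m)] :
    let D : Subgroup G := MulAction.stabilizer G m
    let I : Subgroup G := m.inertia G
    let P : Subgroup G := D ⊓ (m ^ 2).inertia G
    let e : ℕ := Ideal.ramificationIdx' (IsLocalRing.maximalIdeal A) m
    P ≤ I ∧ I ≤ D ∧ (P.subgroupOf D).Normal ∧
    (∀ p : ℕ, p.Prime → CharP (A ⧸ m.comap (algebraMap A B)) p → IsPGroup p P) ∧
    (CharZero (A ⧸ m.comap (algebraMap A B)) → P = ⊥) ∧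
    (∀ [(P.subgroupOf I).Normal],
      IsCyclic (I ⧸ P.subgroupOf I) ∧
      (∀ p : ℕ, p.Prime → CharP (A ⧸ m.comap (algebraMap A B)) p → Nat.card (I ⧸ P.subgroupOf I) = e / p ^ e.factorization p) ∧
      (CharZero (A ⧸ m.comap (algebraMap A B)) → Nat.card (I ⧸ P.subgroupOf I) = e) ∧
      Nonempty (I ⧸ P.subgroupOf I ≃* ↥(rootsOfUnity e (B ⧸ m)))) := by
  intro D I P e
  have hinj : Function.Injective (algebraMap A B) := FaithfulSMul.algebraMap_injective A B
  haveI : Algebra.IsIntegral A B := inferInstance
  haveI hpmax : (m.comap (algebraMap A B)).IsMaximal :=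
    Ideal.isMaximal_comap_of_isIntegral_of_isMaximal m
  have hp : m.comap (algebraMap A B) = IsLocalRing.maximalIdeal A :=
    IsLocalRing.eq_maximalIdeal hpmax
  have hA0 : IsLocalRing.maximalIdeal A ≠ ⊥ := IsDiscreteValuationRing.not_a_field A
  haveI hlies : m.LiesOver (IsLocalRing.maximalIdeal A) := ⟨hp.symm⟩
  have hm : m ≠ ⊥ := by
    intro h
    apply hA0
    rw [← hp, h, Ideal.comap_bot_of_injective _ hinj]
  haveI hlies' : m.LiesOver (m.comap (algebraMap A B)) := ⟨rfl⟩
  haveI : Module.Flat A B := inferInstance
  have hcardI : Nat.card I = e := by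
    have h1 := card_inertia_eq_ramificationIdx (G := G) (m.comap (algebraMap A B)) m
    have h2 := Ideal.ramificationIdx'_eq_ramificationIdx (IsLocalRing.maximalIdeal A) m hA0
    exact h1.trans h2.symm
  have hinjq : Function.Injective (algebraMap (A ⧸ m.comap (algebraMap A B)) (B ⧸ m)) :=
    RingHom.injective _
  have hcharp : ∀ p : ℕ, CharP (A ⧸ m.comap (algebraMap A B)) p → CharP (B ⧸ m) p := fun p _ =>
    charP_of_injective_algebraMap hinjq p
  have hchar0 : CharZero (A ⧸ m.comap (algebraMap A B)) → CharZero (B ⧸ m) := fun _ =>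
    charZero_of_injective_algebraMap hinjq
  haveI : IsNoetherianRing B := inferInstance
  haveI : FaithfulSMul G B := IsGaloisGroup.faithful A
  haveI : SMulCommClass G A B := IsGaloisGroup.commutes
  have hP : P = wild (G := G) m := rfl
  refine ⟨wild_le_inertia m, Ideal.inertia_le_stabilizer m, wild_normal m, ?_, ?_, ?_⟩
  · intro p hp hcp
    haveI := hcharp p hcp
    exact isPGroup_wild m p hp
  · intro h0
    haveI := hchar0 h0
    exact wild_eq_bot m
  · intro hN
    obtain ⟨π, hπ, hπ2⟩ := exists_uniformizer m hm
    let θ : ↥I →* B ⧸ m := theta hm hπ hπ2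
    have hker : ∀ σ : ↥I, θ σ = 1 ↔ σ ∈ P.subgroupOf I := fun σ =>
      theta_eq_one_iff_mem_wild (A := A) m hm hπ hπ2 σ
    let f : (↥I ⧸ P.subgroupOf I) →* B ⧸ m :=
      QuotientGroup.lift (P.subgroupOf I) θ (fun σ hσ => (hker σ).2 hσ)
    have hf : Function.Injective f := by
      rw [injective_iff_map_eq_one]
      intro q hq
      obtain ⟨σ, rfl⟩ := QuotientGroup.mk_surjective q
      exact (QuotientGroup.eq_one_iff σ).2 ((hker σ).1 hq)
    have hcardN : Nat.card (P.subgroupOf I) = Nat.card P :=
      Nat.card_congr (Subgroup.subgroupOfEquivOfLe (wild_le_inertia m)).toEquiv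
    have hpg : ∀ p : ℕ, p.Prime → CharP (A ⧸ m.comap (algebraMap A B)) p →
        IsPGroup p (P.subgroupOf I) := fun p hp hcp => by
      haveI := hcharp p hcp
      exact (isPGroup_wild (G := G) m p hp).comap_subtype
    have h0N : CharZero (A ⧸ m.comap (algebraMap A B)) → Nat.card (P.subgroupOf I) = 1 := by
      intro h0
      haveI := hchar0 h0
      have hbot : P = ⊥ := wild_eq_bot m
      rw [hcardN, hbot]
      exact Subgroup.card_bot
    refine ⟨isCyclic_of_injective_field f hf, ?_, ?_, ?_⟩
    · intro p hp hcp
      haveI := hcharp p hcp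
      exact (card_quotient_of_isPGroup (P.subgroupOf I) f hf e hcardI p hp (hpg p hp hcp)).1
    · intro h0
      exact card_quotient_of_card_eq_one (P.subgroupOf I) f hf e hcardI (h0N h0)
    · obtain ⟨q, hq⟩ := CharP.exists (A ⧸ m.comap (algebraMap A B))
      rcases CharP.char_is_prime_or_zero (A ⧸ m.comap (algebraMap A B)) q with hq' | hq'
      · haveI := hcharp q hq
        exact nonempty_mulEquiv_of_isPGroup (P.subgroupOf I) f hf e hcardI q hq' (hpg q hq' hq)
      · subst hq'
        haveI : CharZero (A ⧸ m.comap (algebraMap A B)) := CharP.charP_to_charZero _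
        exact nonempty_mulEquiv_of_card_eq_one (P.subgroupOf I) f hf e hcardI (h0N inferInstance)


/-- Parts (2)–(5) in the case of part (6): let A be a discrete valuation ring with fraction field K, L/K
a finite Galois extension with group G, B the integral closure of A in L, m a maximal ideal of B
whose residue field is separable over that of A, and e the ramification index of m over A. Let D be
the decomposition group (stabilizer of m), I the inertia group (elements acting trivially on B/m)
and P the wild inertia group, here the elements of D acting trivially on B/m² (the description valid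
in the separable residue field case). Then P ≤ I, P is normal in D, P is a p-group if the residue
characteristic is p > 0 and trivial if it is 0, and I/P is cyclic of order the prime-to-p part of e
and isomorphic to a subgroup of the e-th roots of unity of B/m — more precisely to the full group of
e-th roots of unity of B/m. -/
theorem result (A K L B : Type u) [CommRing A] [IsDomain A] [IsDiscreteValuationRing A]
    [CommRing B] [IsDomain B] [Field K] [Field L] [Algebra A K] [Algebra B L] [IsFractionRing A K] [IsFractionRing B L]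
    [Algebra A B] [Algebra K L] [Algebra A L] [IsScalarTower A K L] [IsScalarTower A B L] [IsIntegralClosure B A L]
    [FiniteDimensional K L] [IsGalois K L] (m : Ideal B) [m.IsMaximal]
    [Algebra.IsSeparable (A ⧸ m.comap (algebraMap A B)) (B ⧸ m)] :
    letI := IsIntegralClosure.MulSemiringAction A K L B
    let D : Subgroup (L ≃ₐ[K] L) := MulAction.stabilizer (L ≃ₐ[K] L) m
    let I : Subgroup (L ≃ₐ[K] L) := m.inertia (L ≃ₐ[K] L)
    let P : Subgroup (L ≃ₐ[K] L) := D ⊓ (m ^ 2).inertia (L ≃ₐ[K] L)
    let e : ℕ := Ideal.ramificationIdx' (IsLocalRing.maximalIdeal A) m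
    P ≤ I ∧ I ≤ D ∧ (P.subgroupOf D).Normal ∧
    (∀ p : ℕ, p.Prime → CharP (A ⧸ m.comap (algebraMap A B)) p → IsPGroup p P) ∧
    (CharZero (A ⧸ m.comap (algebraMap A B)) → P = ⊥) ∧
    (∀ [(P.subgroupOf I).Normal],
      IsCyclic (I ⧸ P.subgroupOf I) ∧
      (∀ p : ℕ, p.Prime → CharP (A ⧸ m.comap (algebraMap A B)) p → Nat.card (I ⧸ P.subgroupOf I) = e / p ^ e.factorization p) ∧
      (CharZero (A ⧸ m.comap (algebraMap A B)) → Nat.card (I ⧸ P.subgroupOf I) = e) ∧
      Nonempty (I ⧸ P.subgroupOf I ≃* ↥(rootsOfUnity e (B ⧸ m)))) := by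
  letI := IsIntegralClosure.MulSemiringAction A K L B
  haveI : IsDedekindDomain B := IsIntegralClosure.isDedekindDomain A K L B
  haveI : Module.Finite A B := IsIntegralClosure.finite A K L B
  haveI : IsGaloisGroup (L ≃ₐ[K] L) A B := IsGaloisGroup.of_isFractionRing _ _ _ K L
  have hinjAB : Function.Injective (algebraMap A B) := by
    have h1 : Function.Injective (algebraMap A L) := by
      rw [IsScalarTower.algebraMap_eq A K L]
      exact (algebraMap K L).injective.comp (IsFractionRing.injective A K)
    rw [IsScalarTower.algebraMap_eq A B L] at h1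
    exact Function.Injective.of_comp h1
  haveI : FaithfulSMul A B := (faithfulSMul_iff_algebraMap_injective A B).2 hinjAB
  haveI : Module.IsTorsionFree A B := inferInstance
  exact main A B (L ≃ₐ[K] L) m

end Groth.Agent.S1999
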