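import Groth.Statements.S19996
import Groth.Agent.S15813
import Mathlib

set_option autoImplicit false
universe u
open WildQuot


namespace Groth.Agent.S19996

open PowerSeries Groth.Agent.S15813

section
variable {k : Type u} [Field k]
variable (p : ℕ) [Fact p.Prime] [CharP k p]
  (σ : PowerSeries k ≃ₐ[k] PowerSeries k) (hσp : σ ^ p = 1)
  (m : ℕ) (hm : (σ X - X).order = ((m + 1 : ℕ) : ℕ∞))

include hσp hm in
/-- Key lemma: `σ - 1` raises the order by exactly `m` on elements of order prime to `p`. -/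
theorem KL {φ : PowerSeries k} {d : ℕ} (h : IsXU φ d) (hd : ¬ p ∣ d) :
    IsXU (σ φ - φ) (d + m) := by
  obtain ⟨θ, hθ, hθm⟩ := exists_theta σ m hm
  have hθ0 : constantCoeff θ = 1 := theta0_eq_one p σ hσp θ hθ
  have hθu : IsUnit θ := by rw [isUnit_iff', hθ0]; exact one_ne_zero
  have hXσ : (X : PowerSeries k) ^ (m + 1) ∣ σ X - X :=
    ((isXU_of_order hm).dvd_iff (m + 1)).mpr le_rfl
  obtain ⟨ε, hεu, rfl⟩ := h
  have hgeom : θ ^ d - 1 = (∑ j ∈ Finset.range d, θ ^ j) * (θ - 1) := (geom_sum_mul θ d).symm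
  have hgu : IsUnit (∑ j ∈ Finset.range d, θ ^ j) := by
    rw [isUnit_iff', map_sum]
    simp only [map_pow, hθ0, one_pow, Finset.sum_const, Finset.card_range, nsmul_eq_mul, mul_one]
    intro h0
    exact hd ((CharP.cast_eq_zero_iff k p d).mp h0)
  have e0 : σ (X ^ d * ε) - X ^ d * ε = X ^ d * (θ ^ d * σ ε - ε) := by
    rw [map_mul, map_pow, hθ, mul_pow]; ring
  have e1 : θ ^ d * σ ε - ε =
      ε * ((∑ j ∈ Finset.range d, θ ^ j) * (θ - 1)) + θ ^ d * (σ ε - ε) := by
    rw [← hgeom]; ring
  have h1 : IsXU (ε * ((∑ j ∈ Finset.range d, θ ^ j) * (θ - 1))) m :=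
    ((isXU_unit hεu).mul ((isXU_unit hgu).mul hθm)).congr (by ring)
  have h2 : IsXU (θ ^ d * σ ε - ε) m := by
    rw [e1]
    exact h1.add_dvd (Dvd.dvd.mul_left (lemmaA' σ (m + 1) hXσ ε) _)
  rw [e0]
  exact (isXU_X_pow d).mul h2

include hσp in
omit [Fact p.Prime] [CharP k p] in
theorem sigma_pow_apply (n : ℕ) (φ : PowerSeries k) :
    ((σ.toLinearMap : Module.End k (PowerSeries k)) ^ n) φ = (σ ^ n) φ := by
  induction n generalizing φ with
  | zero => simp
  | succ n ih =>
    rw [pow_succ, Module.End.mul_apply, ih, pow_succ, AlgEquiv.mul_apply]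
    rfl

include hσp in
/-- `(σ - 1)^p = 0`. -/
theorem tau_pow_p (φ : PowerSeries k) : (fun ψ => σ ψ - ψ)^[p] φ = 0 := by
  have hpoly : ((Polynomial.X : Polynomial k) - 1) ^ p = Polynomial.X ^ p - 1 := by
    rw [sub_pow_char, one_pow]
  have h1 := congrArg (Polynomial.aeval (σ.toLinearMap : Module.End k (PowerSeries k))) hpoly
  simp only [map_pow, map_sub, Polynomial.aeval_X, map_one] at h1
  have h2 : ∀ n : ℕ, ∀ ψ, (((σ.toLinearMap : Module.End k (PowerSeries k)) - 1) ^ n) ψ =
      (fun ψ => σ ψ - ψ)^[n] ψ := by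
    intro n
    induction n with
    | zero => intro ψ; simp
    | succ n ih =>
      intro ψ
      rw [pow_succ, Module.End.mul_apply, ih, Function.iterate_succ_apply]
      rfl
  rw [← h2, h1]
  rw [LinearMap.sub_apply, sigma_pow_apply p σ hσp, hσp]
  simp

end

end Groth.Agent.S19996

open Groth.Agent.S15813 (IsXU isXU_of_order exists_theta norm_isXU sigma_norm isXU_X_pow)

namespace Groth.Agent.S19996

/-- Let `k` be a field of characteristic `p > 0`, `A = k[[u]]`, and `σ` a `k`-algebra automorphism of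
`A` of order exactly `p` with ramification break `m`, i.e. `σ u - u` has order `m + 1`. Then `p`
divides `m + 1` if and only if there are a uniformizer `s` of `A` (a power series of order `1`) and
a `σ`-invariant power series `a` with `σ s = s + a`. (The published statement has a third equivalent
condition, that `Spec A` is a torsor under the effective model of the action; this row omits it.) -/
theorem result
    (p : ℕ) [Fact p.Prime] (k : Type u) [Field k] [CharP k p]
    (σ : PowerSeries k ≃ₐ[k] PowerSeries k) (hσp : σ ^ p = 1) (hσ1 : σ ≠ 1)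
    (m : ℕ) (hm : (σ PowerSeries.X - PowerSeries.X).order = ((m + 1 : ℕ) : ℕ∞)) :
    p ∣ m + 1 ↔
      ∃ s a : PowerSeries k, s.order = 1 ∧ σ a = a ∧ σ s = s + a := by
  have hp : p.Prime := Fact.out
  have hp2 : 2 ≤ p := hp.two_le
  have harith1 : ∀ e j : ℕ, m + 1 = p * e → (p - 1 + j * m) + (j + 1) = p * (1 + j * e) := by
    intro e j he
    obtain ⟨q, rfl⟩ : ∃ q, p = q + 1 := ⟨p - 1, by omega⟩
    have h1 : q + 1 - 1 = q := by omega
    rw [h1]
    calc q + j * m + (j + 1) = q + 1 + j * (m + 1) := by ring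
      _ = q + 1 + j * ((q + 1) * e) := by rw [he]
      _ = _ := by ring
  have harith2 : ∀ e : ℕ, m + 1 = p * e → p - 1 + (p - 2) * m = 1 + p * (e * (p - 2)) := by
    intro e he
    obtain ⟨q, rfl⟩ : ∃ q, p = q + 2 := ⟨p - 2, by omega⟩
    have h1 : q + 2 - 1 = q + 1 := by omega
    have h2 : q + 2 - 2 = q := by omega
    rw [h1, h2]
    calc q + 1 + q * m = 1 + q * (m + 1) := by ring
      _ = 1 + q * ((q + 2) * e) := by rw [he]
      _ = _ := by ring
  constructor
  · rintro ⟨e, he⟩
    obtain ⟨θ, hθ, hθm⟩ := exists_theta σ m hm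
    set x := ∏ i ∈ Finset.range p, (σ ^ i) PowerSeries.X with hx
    have hxXU : IsXU x p := norm_isXU p σ hσp θ hθ p
    have hσx : σ x = x := sigma_norm p σ hσp
    set τ : PowerSeries k → PowerSeries k := fun ψ => σ ψ - ψ with hτ
    have hiter : ∀ j, j ≤ p - 2 →
        IsXU (τ^[j] (PowerSeries.X ^ (p - 1))) (p - 1 + j * m) := by
      intro j
      induction j with
      | zero => intro _; simpa using isXU_X_pow (k := k) (p - 1)
      | succ j ih =>
        intro hj
        have h1 := ih (by omega)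
        rw [Function.iterate_succ_apply']
        have hnd : ¬ p ∣ (p - 1 + j * m) := by
          intro hdvd
          have h2 : p ∣ (p - 1 + j * m) + (j + 1) := ⟨_, harith1 e j he⟩
          have h3 : p ∣ j + 1 := (Nat.dvd_add_right hdvd).mp h2
          have := Nat.le_of_dvd (Nat.succ_pos j) h3
          omega
        exact (KL p σ hσp m hm h1 hnd).congr (by ring)
    have hg := hiter (p - 2) le_rfl
    rw [harith2 e he] at hg
    set g := τ^[p - 2] (PowerSeries.X ^ (p - 1)) with hgdef
    set N := e * (p - 2) with hN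
    have hττ : τ (τ g) = 0 := by
      have h0 := tau_pow_p p σ hσp (PowerSeries.X ^ (p - 1))
      have hp2' : 2 + (p - 2) = p := by omega
      have h0' : τ^[2 + (p - 2)] (PowerSeries.X ^ (p - 1)) = 0 := by
        rw [hp2']; exact h0
      rw [Function.iterate_add_apply] at h0'
      exact h0'
    obtain ⟨w, hw, hgw⟩ := hg
    obtain ⟨v, hv, hxv⟩ := hxXU.pow N
    obtain ⟨v', hv'⟩ := hv.exists_right_inv
    have hwv : IsUnit (w * v') := hw.mul (IsUnit.of_mul_eq_one _ (by rw [mul_comm]; exact hv'))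
    set s := PowerSeries.X * (w * v') with hs
    have hsXU : IsXU s 1 := ⟨w * v', hwv, by rw [hs, pow_one]⟩
    have hsx : s * x ^ N = g := by
      rw [hxv, hgw, hs]
      calc PowerSeries.X * (w * v') * (PowerSeries.X ^ (p * N) * v)
          = PowerSeries.X ^ (1 + p * N) * w * (v * v') := by rw [pow_add, pow_one]; ring
        _ = _ := by rw [hv', mul_one]
    have hxN0 : x ^ N ≠ 0 := (hxXU.pow N).ne_zero
    have hσxN : σ (x ^ N) = x ^ N := by rw [map_pow, hσx]
    refine ⟨s, σ s - s, ?_, ?_, by ring⟩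
    · have := hsXU.order
      simpa using this
    · have h1 : τ g = (σ s - s) * x ^ N := by
        simp only [hτ]
        rw [← hsx, map_mul, hσxN]; ring
      have h2 : τ (τ g) = (σ (σ s - s) - (σ s - s)) * x ^ N := by
        rw [h1]
        simp only [hτ]
        rw [map_mul, hσxN]; ring
      rw [hττ] at h2
      have h3 := (mul_eq_zero.mp h2.symm).resolve_right hxN0
      exact sub_eq_zero.mp h3
  · rintro ⟨s, a, hs, hσa, hσs⟩
    have hsXU : IsXU s 1 := isXU_of_order (by simpa using hs)
    have h1 : IsXU (σ s - s) (1 + m) := KL p σ hσp m hm hsXU (by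
      intro h
      have := Nat.le_of_dvd one_pos h
      omega)
    have ha : σ s - s = a := by rw [hσs]; ring
    rw [ha] at h1
    by_contra hnd
    have h2 : IsXU (σ a - a) (1 + m + m) := KL p σ hσp m hm h1 (by rwa [add_comm])
    exact h2.ne_zero (by rw [hσa, sub_self])

end Groth.Agent.S19996
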