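import Groth.Statements.S2000
import Groth.Agent.Lib.Helper28.BL

set_option autoImplicit false
universe u
open TensorProduct
open EtAlg
namespace Groth.Agent.S2000

open Groth.Agent.Lib.Helper28.BL

section Aux

variable {R R' : Type u} [CommRing R] [CommRing R'] [Algebra R R'] {f : R}
  {M' : Type u} [AddCommGroup M'] [Module R' M'] [Module R M'] [IsScalarTower R R' M']
  {M₁ : Type u} [AddCommGroup M₁] [Module R M₁]

theorem smul_inj_tensor (hf : Function.Bijective fun x : M₁ => f • x) (w : R' ⊗[R] M₁)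
    (hw : f • w = 0) : w = 0 := by
  let E : R' ⊗[R] M₁ ≃ₗ[R] R' ⊗[R] M₁ :=
    LinearEquiv.lTensor R' (LinearEquiv.ofBijective (LinearMap.lsmul R M₁ f) hf)
  have hE : ∀ w : R' ⊗[R] M₁, E w = f • w := by
    intro w
    induction w using TensorProduct.induction_on with
    | zero => simp
    | tmul x y => simp [E]
    | add a b ha hb => rw [map_add, ha, hb, smul_add]
  apply E.injective
  rw [hE, hw, map_zero]

theorem smul_pow_inj_tensor (hf : Function.Bijective fun x : M₁ => f • x) (n : ℕ)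
    (w : R' ⊗[R] M₁) (hw : f ^ n • w = 0) : w = 0 := by
  induction n with
  | zero => simpa using hw
  | succ n ih =>
    apply ih
    apply smul_inj_tensor hf
    rw [← mul_smul, ← pow_succ']
    exact hw

variable (α : LocalizedModule (Submonoid.powers (algebraMap R R' f)) M' ≃ₗ[R'] R' ⊗[R] M₁)

noncomputable def aMap : M' →ₗ[R] R' ⊗[R] M₁ :=
  (α.toLinearMap ∘ₗ LocalizedModule.mkLinearMap (Submonoid.powers (algebraMap R R' f)) M').restrictScalars R

theorem aMap_apply (x : M') :
    aMap α x = α (LocalizedModule.mkLinearMap (Submonoid.powers (algebraMap R R' f)) M' x) := rfl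

theorem aMap_eq_zero_iff (x : M') : aMap α x = 0 ↔ ∃ k : ℕ, f ^ k • x = 0 := by
  rw [aMap_apply, LinearEquiv.map_eq_zero_iff,
    IsLocalizedModule.eq_zero_iff (Submonoid.powers (algebraMap R R' f))]
  constructor
  · rintro ⟨⟨_, k, rfl⟩, h⟩
    refine ⟨k, ?_⟩
    rw [← algebraMap_smul R' (f ^ k) x, map_pow]
    exact h
  · rintro ⟨k, h⟩
    refine ⟨⟨_, k, rfl⟩, ?_⟩
    rw [← algebraMap_smul R' (f ^ k) x, map_pow] at h
    exact h

noncomputable def gMap : M' × M₁ →ₗ[R] R' ⊗[R] M₁ :=
  (aMap α).coprod (-(TensorProduct.mk R R' M₁ 1))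

noncomputable abbrev glued : Submodule R (M' × M₁) := LinearMap.ker (gMap α)

theorem mem_glued (p : M' × M₁) : p ∈ glued α ↔ aMap α p.1 = (1 : R') ⊗ₜ[R] p.2 := by
  simp [glued, gMap, sub_eq_zero, ← sub_eq_add_neg]

noncomputable def π₁ : glued α →ₗ[R] M' := (LinearMap.fst R M' M₁) ∘ₗ (glued α).subtype

noncomputable def π₂ : glued α →ₗ[R] M₁ := (LinearMap.snd R M' M₁) ∘ₗ (glued α).subtype

theorem aMap_π₁ (m : glued α) : aMap α (π₁ α m) = (1 : R') ⊗ₜ[R] (π₂ α m) :=
  (mem_glued α m.1).mp m.2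

theorem isUnit_end (hf : Function.Bijective fun x : M₁ => f • x) (s : Submonoid.powers f) :
    IsUnit (algebraMap R (Module.End R M₁) s) := by
  obtain ⟨_, n, rfl⟩ := s
  simp only [map_pow]
  apply IsUnit.pow
  rw [Module.End.isUnit_iff]
  exact hf

theorem bij_pow (hf : Function.Bijective fun x : M₁ => f • x) (n : ℕ) :
    Function.Bijective fun x : M₁ => f ^ n • x := by
  induction n with
  | zero =>
    simp only [pow_zero, one_smul]
    exact Function.bijective_id
  | succ n ih =>
    have : (fun x : M₁ => f ^ (n + 1) • x) = (fun x : M₁ => f • x) ∘ (fun x : M₁ => f ^ n • x) := by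
      funext x
      simp [pow_succ', mul_smul]
    rw [this]
    exact hf.comp ih

theorem torsion_π₁_inj (hf : Function.Bijective fun x : M₁ => f • x) (m : glued α) (k : ℕ)
    (hk : f ^ k • m = 0) (h0 : π₁ α m = 0) : m = 0 := by
  have h2 : f ^ k • (π₂ α m) = 0 := by rw [← map_smul, hk, map_zero]
  have h3 : π₂ α m = 0 := by
    apply (bij_pow hf k).1
    simpa using h2
  apply Subtype.ext
  exact Prod.ext h0 h3

theorem exists_of_torsion (x : M') (k : ℕ) (hk : f ^ k • x = 0) :
    ∃ m : glued α, π₁ α m = x ∧ f ^ k • m = 0 := by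
  have hx : (x, (0 : M₁)) ∈ glued α := by
    rw [mem_glued]
    simp only [tmul_zero]
    exact (aMap_eq_zero_iff α x).mpr ⟨k, hk⟩
  refine ⟨⟨(x, 0), hx⟩, rfl, ?_⟩
  apply Subtype.ext
  exact Prod.ext hk (smul_zero _)

theorem div_reflect (hf : Function.Bijective fun x : M₁ => f • x) (m : glued α) (n : ℕ) (x1 : M')
    (h : π₁ α m = f ^ n • x1) : ∃ m1 : glued α, m = f ^ n • m1 := by
  obtain ⟨y1, hy1⟩ := (bij_pow hf n).2 (π₂ α m)
  simp only at hy1
  have hmem : (x1, y1) ∈ glued α := by
    rw [mem_glued]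
    apply sub_eq_zero.mp
    apply smul_pow_inj_tensor hf n
    rw [smul_sub, ← map_smul, ← h, ← tmul_smul, hy1, aMap_π₁, sub_self]
  refine ⟨⟨(x1, y1), hmem⟩, ?_⟩
  apply Subtype.ext
  exact Prod.ext h hy1.symm

theorem isLocalizedModule_π₂ (hf : Function.Bijective fun x : M₁ => f • x) :
    IsLocalizedModule (Submonoid.powers f) (π₂ α) where
  map_units := isUnit_end hf
  surj := by
    intro y
    obtain ⟨⟨x, ⟨_, n, rfl⟩⟩, hx⟩ := IsLocalizedModule.surj (Submonoid.powers (algebraMap R R' f))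
      (LocalizedModule.mkLinearMap (Submonoid.powers (algebraMap R R' f)) M')
      (α.symm ((1 : R') ⊗ₜ[R] y))
    simp only [Submonoid.smul_def] at hx
    have hmem : (x, f ^ n • y) ∈ glued α := by
      rw [mem_glued, aMap_apply, ← hx, map_smul, LinearEquiv.apply_symm_apply, ← map_pow,
        algebraMap_smul, tmul_smul]
    exact ⟨(⟨(x, f ^ n • y), hmem⟩, ⟨f ^ n, n, rfl⟩), rfl⟩
  exists_of_eq := by
    intro m m' h
    have h0 : π₂ α (m - m') = 0 := by rw [map_sub, h, sub_self]
    have h1 : aMap α (π₁ α (m - m')) = 0 := by rw [aMap_π₁, h0, tmul_zero]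
    obtain ⟨k, hk⟩ := (aMap_eq_zero_iff α _).mp h1
    refine ⟨⟨f ^ k, k, rfl⟩, ?_⟩
    simp only [Submonoid.smul_def]
    apply sub_eq_zero.mp
    rw [← smul_sub]
    apply Subtype.ext
    apply Prod.ext
    · exact hk
    · show f ^ k • (π₂ α (m - m')) = 0
      rw [h0, smul_zero]

theorem isLocalizedModule_lTensor (hf : Function.Bijective fun x : M₁ => f • x) :
    IsLocalizedModule (Submonoid.powers f) (LinearMap.lTensor R' (π₂ α)) := by
  haveI := isLocalizedModule_π₂ α hf
  have h1 : IsLocalizedModule (Submonoid.powers f)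
      (TensorProduct.AlgebraTensorModule.rTensor R R' (π₂ α)) := inferInstance
  have h2 : IsLocalizedModule (Submonoid.powers f)
      ((TensorProduct.comm R M₁ R').toLinearMap ∘ₗ
        (TensorProduct.AlgebraTensorModule.rTensor R R' (π₂ α))) :=
    IsLocalizedModule.of_linearEquiv _ _ _
  have h3 : IsLocalizedModule (Submonoid.powers f)
      (((TensorProduct.comm R M₁ R').toLinearMap ∘ₗ
        (TensorProduct.AlgebraTensorModule.rTensor R R' (π₂ α))) ∘ₗ
          (TensorProduct.comm R R' (glued α)).toLinearMap) :=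
    IsLocalizedModule.of_linearEquiv_right _ _ _
  convert h3 using 1
  ext x m
  simp

noncomputable def φMap : R' ⊗[R] (glued α) →ₗ[R'] M' := LinearMap.liftBaseChange R' (π₁ α)

theorem φMap_tmul (r' : R') (m : glued α) : φMap α (r' ⊗ₜ[R] m) = r' • π₁ α m := by
  simp [φMap]

theorem compat (z : R' ⊗[R] (glued α)) :
    α (LocalizedModule.mkLinearMap (Submonoid.powers (algebraMap R R' f)) M' (φMap α z)) =
      LinearMap.lTensor R' (π₂ α) z := by
  induction z using TensorProduct.induction_on with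
  | zero => simp
  | tmul r' m =>
    rw [φMap_tmul, map_smul, map_smul, ← aMap_apply, aMap_π₁, LinearMap.lTensor_tmul, smul_tmul',
      smul_eq_mul, mul_one]
  | add a b ha hb => rw [map_add, map_add, map_add, map_add, ha, hb]

theorem compat' (z : R' ⊗[R] (glued α)) : aMap α (φMap α z) = LinearMap.lTensor R' (π₂ α) z :=
  compat α z

theorem φMap_smul (c : R) (z : R' ⊗[R] (glued α)) : φMap α (c • z) = c • φMap α z := by
  rw [← algebraMap_smul R' c z, map_smul, algebraMap_smul]

theorem φMap_one_tmul (m : glued α) : φMap α ((1 : R') ⊗ₜ[R] m) = π₁ α m := by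
  rw [φMap_tmul, one_smul]

theorem φMap_injective (hRR : EtGlue.IsGlueingPair R R' f)
    (hf : Function.Bijective fun x : M₁ => f • x) : Function.Injective (φMap α) := by
  rw [injective_iff_map_eq_zero]
  intro z hz
  have h1 : LinearMap.lTensor R' (π₂ α) z = 0 := by rw [← compat', hz, map_zero]
  haveI := isLocalizedModule_lTensor α hf
  obtain ⟨⟨_, k, rfl⟩, hk⟩ := (IsLocalizedModule.eq_zero_iff (Submonoid.powers f)
    (LinearMap.lTensor R' (π₂ α))).mp h1
  simp only [Submonoid.smul_def] at hk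
  obtain ⟨m, ⟨k', hm⟩, rfl⟩ := TS hRR (glued α) z k hk
  rw [φMap_one_tmul] at hz
  rw [torsion_π₁_inj α hf m k' hm hz, tmul_zero]

theorem φMap_surjective (hRR : EtGlue.IsGlueingPair R R' f)
    (hf : Function.Bijective fun x : M₁ => f • x) : Function.Surjective (φMap α) := by
  intro x
  haveI := isLocalizedModule_lTensor α hf
  obtain ⟨⟨z, ⟨_, n, rfl⟩⟩, hz⟩ := IsLocalizedModule.surj (Submonoid.powers f)
    (LinearMap.lTensor R' (π₂ α)) (aMap α x)
  simp only [Submonoid.smul_def] at hz
  have h1 : aMap α (f ^ n • x - φMap α z) = 0 := by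
    rw [map_sub, map_smul, hz, compat', sub_self]
  obtain ⟨k, hk⟩ := (aMap_eq_zero_iff α _).mp h1
  obtain ⟨t, ht, -⟩ := exists_of_torsion α _ k hk
  obtain ⟨m, z1, hmz⟩ := M1 hRR.1 (glued α) n z
  have h2 : π₁ α (m + t) = f ^ n • (x - φMap α z1) := by
    rw [map_add, ht, hmz, map_add, φMap_one_tmul, φMap_smul, smul_sub]
    abel
  obtain ⟨m1, hm1⟩ := div_reflect α hf (m + t) n _ h2
  have h3 : f ^ n • (x - φMap α z1 - π₁ α m1) = 0 := by
    rw [smul_sub, ← h2, ← map_smul, ← hm1, sub_self]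
  obtain ⟨t2, ht2, -⟩ := exists_of_torsion α _ n h3
  refine ⟨z1 + (1 : R') ⊗ₜ[R] m1 + (1 : R') ⊗ₜ[R] t2, ?_⟩
  rw [map_add, map_add, φMap_one_tmul, φMap_one_tmul, ht2]
  abel

theorem glued_glueable (hRR : EtGlue.IsGlueingPair R R' f)
    (hf : Function.Bijective fun x : M₁ => f • x) : EtGlue.IsGlueable R R' f (glued α) := by
  rw [glueable_iff_of_glueingPair _ hRR]
  rintro m ⟨k, hk⟩ h0
  apply torsion_π₁_inj α hf m k hk
  rw [← φMap_one_tmul, h0, map_zero]

theorem main (hRR : EtGlue.IsGlueingPair R R' f)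
    (hf : Function.Bijective fun x : M₁ => f • x) :
    ∃ (M : Type u) (_ : AddCommGroup M) (_ : Module R M) (_ : EtGlue.IsGlueable R R' f M)
      (e' : R' ⊗[R] M ≃ₗ[R'] M') (e₁ : LocalizedModule (Submonoid.powers f) M ≃ₗ[R] M₁),
      ∀ m : M, α (LocalizedModule.mkLinearMap (Submonoid.powers (algebraMap R R' f)) M' (e' ((1 : R') ⊗ₜ[R] m))) =
        (1 : R') ⊗ₜ[R] e₁ (LocalizedModule.mkLinearMap (Submonoid.powers f) M m) := by
  haveI := isLocalizedModule_π₂ α hf
  refine ⟨glued α, inferInstance, inferInstance, glued_glueable α hRR hf,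
    LinearEquiv.ofBijective (φMap α) ⟨φMap_injective α hRR hf, φMap_surjective α hRR hf⟩,
    IsLocalizedModule.iso (Submonoid.powers f) (π₂ α), ?_⟩
  intro m
  rw [LinearEquiv.ofBijective_apply, φMap_one_tmul, ← aMap_apply, aMap_π₁,
    LocalizedModule.mkLinearMap_apply, IsLocalizedModule.iso_mk_one]

end Aux

/-- Beauville–Laszlo, essential surjectivity with glueability: take a glueing pair (R -> R', f). Fix an
R'-module M', an R-module M₁ on which multiplication by f is bijective (i.e. an R_f-module), and α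
an R'-linear isomorphism from the localization of M' at f to R' ⊗_R M₁ (an isomorphism of
R'_f-modules). Then there is an R-module M, glueable for (R -> R', f), with an R'-isomorphism R' ⊗_R
M ≅ M' and an R-isomorphism M_f ≅ M₁ under which α becomes the canonical identification (R' ⊗_R M)_f
= R' ⊗_R M_f. -/
theorem result (R R' : Type u) [CommRing R] [CommRing R'] [Algebra R R'] (f : R)
    (hRR : EtGlue.IsGlueingPair R R' f) (M' : Type u) [AddCommGroup M'] [Module R' M'] (M₁ : Type u) [AddCommGroup M₁]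
    [Module R M₁] (hf : Function.Bijective fun x : M₁ => f • x)
    (α : LocalizedModule (Submonoid.powers (algebraMap R R' f)) M' ≃ₗ[R'] R' ⊗[R] M₁) :
    ∃ (M : Type u) (_ : AddCommGroup M) (_ : Module R M) (_ : EtGlue.IsGlueable R R' f M)
      (e' : R' ⊗[R] M ≃ₗ[R'] M') (e₁ : LocalizedModule (Submonoid.powers f) M ≃ₗ[R] M₁),
      ∀ m : M, α (LocalizedModule.mkLinearMap (Submonoid.powers (algebraMap R R' f)) M' (e' ((1 : R') ⊗ₜ[R] m))) =
        (1 : R') ⊗ₜ[R] e₁ (LocalizedModule.mkLinearMap (Submonoid.powers f) M m) := by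
  letI : Module R M' := Module.compHom M' (algebraMap R R')
  haveI : IsScalarTower R R' M' := IsScalarTower.of_algebraMap_smul (fun _ _ => rfl)
  exact main α hRR hf

end Groth.Agent.S2000
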