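import Groth.Statements.S20004
import Groth.Agent.S15800

set_option autoImplicit false
universe u v w
open WildQuot

namespace Groth.Agent.S20004

/-- Let `A` be a complete regular local ring of Krull dimension at least `2` and prime characteristic
`p`; let `k` be a field with `k → A` mapping onto the residue field, such that `k` has no Galois
extension of degree `p`; let `G` be a group of order `p` acting on `A` by `k`-algebra automorphisms,
ramified precisely at the origin (for every non-maximal prime `P`, the inertia subgroup of `P` is
trivial). Let `R` be a `k`-algebra with an injective structure map `R → A` whose image is fixed by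
`G` (so `R ⊆ A^G`), with `A` finite over `R`. Galois extensions of fraction fields are expressed
through automorphism counts: since `A` and `A^G` are normal domains finite over `R`,
`Frac(A^G)/Frac(R)` is Galois exactly when `p` times the number of `k`-algebra automorphisms of
`A^G` fixing the image of `R` equals the rank `[Frac A : Frac R]` of `A` over `R`, and
`Frac(A)/Frac(R)` is Galois exactly when the number of `R`-algebra automorphisms of `A` equals that
rank. The row: the first equality implies the second. (The published statement assumes `R ⊆ A^G`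
finite with `Frac(A^G)/Frac(R)` Galois and concludes that `Frac(A)/Frac(R)` is Galois; here `R` is
taken to contain `k`, as the norm subrings of the source do.) -/
theorem result
    (p : ℕ) [Fact p.Prime] (A : Type u) [CommRing A] [IsRegularLocalRing A] [CharP A p]
    [IsAdicComplete (IsLocalRing.maximalIdeal A) A] (hdim : 2 ≤ ringKrullDim A)
    (k : Type v) [Field k] [Algebra k A]
    (hk : Function.Surjective (IsLocalRing.residue A ∘ algebraMap k A))
    (hkp : ∀ (L : Type v) [Field L] [Algebra k L], IsGalois k L → Module.finrank k L ≠ p)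
    (G : Type w) [Group G] [Finite G] [MulSemiringAction G A] (hcard : Nat.card G = p)
    [SMulCommClass G k A]
    (hram : ∀ P : Ideal A, P.IsPrime → P ≠ IsLocalRing.maximalIdeal A → P.inertia G = ⊥)
    (R : Type v) [CommRing R] [Algebra k R] [Algebra R A] [IsScalarTower k R A] [Module.Finite R A]
    (hRinj : Function.Injective (algebraMap R A))
    (hRG : ∀ (σ : G) (r : R), σ • algebraMap R A r = algebraMap R A r)
    (hgal : p * Nat.card {φ : FixedPoints.subalgebra k A G ≃ₐ[k] FixedPoints.subalgebra k A G //
        ∀ b : FixedPoints.subalgebra k A G, (b : A) ∈ Set.range (algebraMap R A) → (φ b : A) = b} =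
      Module.finrank R A) :
    Nat.card (A ≃ₐ[R] A) = Module.finrank R A := by
  classical
  haveI : IsDomain A := Groth.Agent.S0558.result A
  haveI : FaithfulSMul G A := Groth.Agent.Lib.Helper52.WQ.faithful_of_hram
    (Groth.Agent.Lib.Helper52.WQ.bot_ne_maximalIdeal hdim) hram
  haveI : IsDomain R := hRinj.isDomain _
  haveI : FaithfulSMul R A := (faithfulSMul_iff_algebraMap_injective R A).mpr hRinj
  haveI : Algebra.IsIntegral R A := Algebra.IsIntegral.of_finite R A
  -- the upper bound through fraction fields
  haveI : FaithfulSMul R (FractionRing A) := FaithfulSMul.trans R A (FractionRing A)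
  letI : Algebra (FractionRing R) (FractionRing A) := FractionRing.liftAlgebra R (FractionRing A)
  haveI : IsScalarTower R (FractionRing R) (FractionRing A) :=
    FractionRing.isScalarTower_liftAlgebra R (FractionRing A)
  haveI : Module.Finite (FractionRing R) (FractionRing A) :=
    Module.Finite.of_isLocalizedModule (nonZeroDivisors R)
      (IsScalarTower.toAlgHom R A (FractionRing A)).toLinearMap
  have hfr : Module.finrank (FractionRing R) (FractionRing A) = Module.finrank R A :=
    IsFractionRing.finrank_eq R (FractionRing R) A (FractionRing A)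
  let F : (A ≃ₐ[R] A) → (FractionRing A ≃ₐ[FractionRing R] FractionRing A) :=
    IsFractionRing.fieldEquivOfAlgEquiv (FractionRing R) (FractionRing A) (FractionRing A)
  have hFinj : Function.Injective F := by
    intro f g hfg
    ext a
    apply IsFractionRing.injective A (FractionRing A)
    rw [← IsFractionRing.fieldEquivOfAlgEquiv_algebraMap (FractionRing R) (FractionRing A)
      (FractionRing A) f a, ← IsFractionRing.fieldEquivOfAlgEquiv_algebraMap (FractionRing R)
      (FractionRing A) (FractionRing A) g a]
    exact DFunLike.congr_fun hfg _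
  haveI : Finite (A ≃ₐ[R] A) := Finite.of_injective F hFinj
  have hub : Nat.card (A ≃ₐ[R] A) ≤ Module.finrank R A := by
    calc Nat.card (A ≃ₐ[R] A)
        ≤ Nat.card (FractionRing A ≃ₐ[FractionRing R] FractionRing A) :=
          Nat.card_le_card_of_injective F hFinj
      _ ≤ Module.finrank (FractionRing R) (FractionRing A) := by
          rw [Nat.card_eq_fintype_card]; exact AlgEquiv.card_le
      _ = Module.finrank R A := hfr
  -- the lower bound by lifting
  have hlift : ∀ φ : {φ : FixedPoints.subalgebra k A G ≃ₐ[k] FixedPoints.subalgebra k A G //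
      ∀ b : FixedPoints.subalgebra k A G, (b : A) ∈ Set.range (algebraMap R A) → (φ b : A) = b},
      ∃ ψ : A ≃ₐ[k] A, ∀ x : FixedPoints.subalgebra k A G, ψ x = φ.1 x :=
    fun φ => Groth.Agent.S15800.result p A hdim k hk hkp G hcard hram φ.1
  choose Ψ hΨ using hlift
  have hΨR : ∀ φ (r : R), Ψ φ (algebraMap R A r) = algebraMap R A r := by
    intro φ r
    have hinv : algebraMap R A r ∈ FixedPoints.subalgebra k A G := fun σ => hRG σ r
    have h1 := hΨ φ ⟨algebraMap R A r, hinv⟩
    change Ψ φ (algebraMap R A r) = _ at h1
    rw [h1]
    exact φ.2 ⟨_, hinv⟩ ⟨r, rfl⟩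
  let E : G × {φ : FixedPoints.subalgebra k A G ≃ₐ[k] FixedPoints.subalgebra k A G //
      ∀ b : FixedPoints.subalgebra k A G, (b : A) ∈ Set.range (algebraMap R A) → (φ b : A) = b} →
      (A ≃ₐ[R] A) := fun x =>
    AlgEquiv.ofRingEquiv (f := (Ψ x.2).toRingEquiv.trans (MulSemiringAction.toRingEquiv G A x.1))
      (fun r => by
        show x.1 • (Ψ x.2 (algebraMap R A r)) = algebraMap R A r
        rw [hΨR, hRG])
  have hE : ∀ x a, E x a = x.1 • (Ψ x.2 a) := fun x a => rfl
  have hEinj : Function.Injective E := by
    rintro ⟨σ, φ⟩ ⟨σ', φ'⟩ h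
    have h1 : ∀ a : A, σ • (Ψ φ a) = σ' • (Ψ φ' a) := by
      intro a
      have := DFunLike.congr_fun h a
      rwa [hE, hE] at this
    have hφ : φ = φ' := by
      apply Subtype.ext
      ext b
      have h2 := h1 (b : A)
      rw [hΨ φ b, hΨ φ' b] at h2
      have h3 : σ • ((φ.1 b : FixedPoints.subalgebra k A G) : A) = (φ.1 b : A) := (φ.1 b).2 σ
      have h4 : σ' • ((φ'.1 b : FixedPoints.subalgebra k A G) : A) = (φ'.1 b : A) :=
        (φ'.1 b).2 σ'
      rw [h3, h4] at h2
      exact h2
    subst hφ
    have hσ : σ = σ' := by
      apply FaithfulSMul.eq_of_smul_eq_smul (α := A)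
      intro a
      obtain ⟨a', rfl⟩ := (Ψ φ).surjective a
      exact h1 a'
    rw [hσ]
  have hlb : p * Nat.card {φ : FixedPoints.subalgebra k A G ≃ₐ[k] FixedPoints.subalgebra k A G //
      ∀ b : FixedPoints.subalgebra k A G, (b : A) ∈ Set.range (algebraMap R A) → (φ b : A) = b} ≤
      Nat.card (A ≃ₐ[R] A) := by
    rw [← hcard, ← Nat.card_prod]
    exact Nat.card_le_card_of_injective E hEinj
  rw [hgal] at hlb
  exact le_antisymm hub hlb

end Groth.Agent.S20004
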