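import Groth.Statements.S20007
import Groth.Agent.S18975
import Groth.Agent.Lib.Helper5.FpqcLocal
import Groth.Agent.Lib.Lead.ZariskiSpread
import Groth.Agent.Lib.Lead.GLnTorsor
import Groth.Agent.Lib.Helper75.GLnSmooth
import Mathlib.AlgebraicGeometry.Morphisms.LocalFlatDescent

set_option autoImplicit false
universe u
open CategoryTheory MonoidalCategory CartesianMonoidalCategory MonObj AlgebraicGeometry
open GIT

namespace Groth.Agent.S20007

/-- The general linear group is special. Over an algebraically closed field k of characteristic zero,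
let n be a natural number and let the group scheme GL_{n,k} (the general linear group over Spec k)
act on a k-scheme X; let φ : X → Y be a GL_{n,k}-torsor over the k-scheme Y: the square formed by
the action, the second projection GL_{n,k} ×_k X → X and φ twice is cartesian, and φ acquires
sections on the members of some fpqc covering family of Y. Then φ is locally trivial: it acquires
sections on the members of some Zariski open covering of Y. (The statement holds over any base; the
ground field is the standing one of the text.) -/
theorem result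
    (k : Type u) [Field k] [IsAlgClosed k] [CharZero k] (n : ℕ)
    (X Y : Over (Spec (CommRingCat.of k)))
    (a : AlgGrp.Action (FrB.GLn n (Spec (CommRingCat.of k))) X) (φ : X ⟶ Y)
    (hcart : IsPullback a.act (snd (FrB.GLn n (Spec (CommRingCat.of k))) X) φ φ)
    (hloc : NonAbH1.IsLocallyTrivialFor Scheme.fpqcPrecoverage (Over.mk φ.left : Over Y.left)) :
    NonAbH1.IsLocallyTrivialFor Scheme.zariskiPrecoverage (Over.mk φ.left : Over Y.left) := by
  obtain ⟨Rc, hRq, hsec⟩ := hloc
  have hG : Smooth (FrB.GLn n (Spec (CommRingCat.of k))).hom := Groth.Agent.Lib.Helper75.GLnSmooth.smooth_GLn n _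
  -- smoothness of φ
  have hsm : Smooth φ.left := by
    apply Groth.Agent.Lib.Helper5.of_mem_fpqcPrecoverage @Smooth φ.left Rc hRq
    intro Y' f hf
    obtain ⟨s, hs⟩ := hsec f hf
    obtain ⟨top, sq⟩ := Groth.Agent.S18975.isPullback_of_section a φ hcart f s hs
    have h1 : Smooth (Limits.pullback.snd (FrB.GLn n (Spec (CommRingCat.of k))).hom (f ≫ Y.hom)) :=
      MorphismProperty.pullback_snd (P := @Smooth) _ _ hG
    rw [← sq.isoPullback_hom_snd] at h1
    exact (MorphismProperty.cancel_left_of_respectsIso @Smooth _ _).mp h1
  -- surjectivity of φ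
  have hsurj : Surjective φ.left := by
    refine ⟨fun y => ?_⟩
    obtain ⟨𝒰, rfl⟩ := Precoverage.mem_iff_exists_zeroHypercover.mp hRq
    have h2 := 𝒰.mem₀.2
    rw [Scheme.presieve₀_mem_precoverage_iff] at h2
    obtain ⟨i, y', hy'⟩ := h2.1 y
    obtain ⟨s, hs⟩ := hsec (𝒰.f i) (Presieve.ofArrows.mk i)
    refine ⟨s.base y', ?_⟩
    rw [← Scheme.Hom.comp_apply]
    change (s ≫ φ.left).base y' = y
    rw [show s ≫ φ.left = 𝒰.f i from hs]
    exact hy'
  haveI : Smooth φ.left := hsm
  haveI : Surjective φ.left := hsurj
  haveI : LocallyOfFinitePresentation (Over.mk φ.left : Over Y.left).hom := by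
    change LocallyOfFinitePresentation φ.left
    infer_instance
  apply Groth.Agent.Lib.Lead.ZariskiSpread.isLocallyTrivialFor_zariski_of_local
    (Over.mk φ.left : Over Y.left)
  intro R _ jY
  exact Groth.Agent.Lib.Lead.GLnTorsor.exists_section_local n a φ hcart R jY

end Groth.Agent.S20007
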