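import Groth.Statements.S20008
import Groth.Agent.Lib.Helper5.SpecialExt2
import Groth.Agent.Lib.Helper19.Cartier.Main
import Groth.Agent.Lib.Helper19.Grp.SurjFlat
import Groth.Agent.Lib.Helper94.SmoothRed

set_option autoImplicit false
universe u
open CategoryTheory MonoidalCategory CartesianMonoidalCategory MonObj AlgebraicGeometry
open GIT

namespace Groth.Agent.S20008

/-- An extension of special groups is special. Over an algebraically closed field k of characteristic
zero, let G be an affine group scheme of finite type over k with a closed normal subgroup scheme N,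
the kernel of a surjective homomorphism q : G → Q onto an affine group scheme Q of finite type over
k (the factor group G/N). Call an affine group scheme H of finite type over k special when for every
action of H on a k-scheme X and every morphism ψ : X → Y of k-schemes which is an H-torsor over Y —
the square formed by the action, the second projection H ×_k X → X and ψ twice is cartesian, and ψ
acquires sections on the members of some fpqc covering family of Y — the morphism ψ acquires
sections on the members of some Zariski open covering of Y. If N and Q are special, then G is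
special. -/
theorem result
    (k : Type u) [Field k] [IsAlgClosed k] [CharZero k]
    (G N Q : Over (Spec (CommRingCat.of k))) [GrpObj G] [GrpObj N] [GrpObj Q]
    [IsAffine G.left] [LocallyOfFiniteType G.hom]
    (iN : N ⟶ G) [IsMonHom iN] [IsClosedImmersion iN.left] (hnorm : AlgGrp.IsNormalHom iN)
    (q : G ⟶ Q) [IsMonHom q] [Surjective q.left] [IsAffine Q.left] [LocallyOfFiniteType Q.hom]
    (hker : AlgGrp.IsKernel iN q)
    (hN : ∀ (X Y : Over (Spec (CommRingCat.of k))) (b : AlgGrp.Action N X) (ψ : X ⟶ Y),
      IsPullback b.act (snd N X) ψ ψ →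
      NonAbH1.IsLocallyTrivialFor Scheme.fpqcPrecoverage (Over.mk ψ.left : Over Y.left) →
      NonAbH1.IsLocallyTrivialFor Scheme.zariskiPrecoverage (Over.mk ψ.left : Over Y.left))
    (hQ : ∀ (X Y : Over (Spec (CommRingCat.of k))) (b : AlgGrp.Action Q X) (ψ : X ⟶ Y),
      IsPullback b.act (snd Q X) ψ ψ →
      NonAbH1.IsLocallyTrivialFor Scheme.fpqcPrecoverage (Over.mk ψ.left : Over Y.left) →
      NonAbH1.IsLocallyTrivialFor Scheme.zariskiPrecoverage (Over.mk ψ.left : Over Y.left))
    (X Y : Over (Spec (CommRingCat.of k))) (a : AlgGrp.Action G X) (φ : X ⟶ Y)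
    (hcart : IsPullback a.act (snd G X) φ φ)
    (hloc : NonAbH1.IsLocallyTrivialFor Scheme.fpqcPrecoverage (Over.mk φ.left : Over Y.left)) :
    NonAbH1.IsLocallyTrivialFor Scheme.zariskiPrecoverage (Over.mk φ.left : Over Y.left) := by
  haveI hQsm : Smooth Q.hom := Groth.Agent.Lib.Helper19.Cartier.smooth_of_charZero Q
  haveI : IsReduced Q.left := Groth.Agent.Lib.Helper94.isReduced_of_smooth_of_field Q.hom
  haveI : IsAffineHom q.left := isAffineHom_of_isAffine q.left
  haveI : QuasiCompact q.left := inferInstance
  haveI : Flat q.left := Groth.Agent.Lib.Helper19.flat_of_surjective_of_isReduced k G Q q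
  haveI : IsAffineHom Q.hom := isAffineHom_of_isAffine Q.hom
  obtain ⟨Ix, U, c, s, hc, hs⟩ :=
    Groth.Agent.Lib.Helper5.TorsTwist.exists_family_of_isLocallyTrivialFor
      (Over.mk φ.left : Over Y.left) hloc
  have hsq : IsPullback a.act.left (CartesianMonoidalCategory.snd G X).left φ.left φ.left :=
    hcart.map (Over.forget _)
  obtain ⟨W, ψ, a', kk, hpb, hkψ, hequiv⟩ :=
    Groth.Agent.Lib.Helper5.TorsTwist.exists_pushforward a φ hsq q c s hs hc
  have hψloc : NonAbH1.IsLocallyTrivialFor Scheme.fpqcPrecoverage
      (Over.mk ψ.left : Over Y.left) := by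
    refine ⟨Presieve.ofArrows U c, hc, ?_⟩
    rintro _ _ ⟨i⟩
    refine ⟨s i ≫ kk.left, ?_⟩
    change (s i ≫ kk.left) ≫ ψ.left = c i
    rw [Category.assoc, ← Over.comp_left, hkψ]
    exact hs i
  have h1 := hQ W Y a' ψ hpb hψloc
  have hN1 := Groth.Agent.Lib.Helper5.SpecialExt.isPullback_restrict a φ hcart iN q hker a' ψ hpb kk
    hkψ hequiv
  have hN2 := Groth.Agent.Lib.Helper5.SpecialExt.isLocallyTrivialFor_map a φ q a' ψ hpb kk hkψ
    hequiv c s hs hc
  have h2 := hN X W (a.restrict iN) kk hN1 hN2
  have h3 := Groth.Agent.Lib.Helper5.SpecialExt.isLocallyTrivialFor_zariski_comp ψ.left kk.left h1 h2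
  have e : kk.left ≫ ψ.left = φ.left := by rw [← Over.comp_left, hkψ]
  rw [e] at h3
  exact h3

end Groth.Agent.S20008
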