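import Groth.Statements.S2001
-- import your own Groth.Agent.* helpers here

set_option autoImplicit false
universe u
open TensorProduct
open EtAlg

namespace Groth.Agent.S2001

/-- Let (R -> R', f) be a glueing pair and M, N R-modules glueable for it. Given an R'-linear map φ' :
R' ⊗_R M -> R' ⊗_R N and an R-linear map φ₁ : M_f -> N_f which induce the same map into (R' ⊗_R N)_f
on elements of M, there is a unique R-linear map ψ : M -> N whose base change to R' is φ' and whose
localization is φ₁. -/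
theorem result (R R' : Type u) [CommRing R] [CommRing R'] [Algebra R R'] (f : R)
    (hRR : EtGlue.IsGlueingPair R R' f) (M N : Type u) [AddCommGroup M] [Module R M] [AddCommGroup N] [Module R N]
    (hM : EtGlue.IsGlueable R R' f M) (hN : EtGlue.IsGlueable R R' f N)
    (φ' : R' ⊗[R] M →ₗ[R'] R' ⊗[R] N)
    (φ₁ : LocalizedModule (Submonoid.powers f) M →ₗ[R] LocalizedModule (Submonoid.powers f) N)
    (hc : ∀ m : M, EtGlue.locOfTensor R R' f N (φ' ((1 : R') ⊗ₜ[R] m)) =
      EtGlue.tensorOfLoc R R' f N (φ₁ (LocalizedModule.mkLinearMap (Submonoid.powers f) M m))) :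
    ∃! ψ : M →ₗ[R] N, ψ.baseChange R' = φ' ∧
      IsLocalizedModule.map (Submonoid.powers f) (LocalizedModule.mkLinearMap (Submonoid.powers f) M)
        (LocalizedModule.mkLinearMap (Submonoid.powers f) N) ψ = φ₁ := by
  have hex : ∀ m : M, ∃! n : N, (1 : R') ⊗ₜ[R] n = φ' ((1 : R') ⊗ₜ[R] m) ∧
      LocalizedModule.mkLinearMap (Submonoid.powers f) N n =
        φ₁ (LocalizedModule.mkLinearMap (Submonoid.powers f) M m) := by
    intro m
    obtain ⟨n, h1, h2⟩ := hN.2 _ _ (hc m)
    refine ⟨n, ⟨h1, h2⟩, ?_⟩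
    rintro n' ⟨h1', h2'⟩
    apply hN.1
    simp only [Prod.mk.injEq]
    exact ⟨h1'.trans h1.symm, h2'.trans h2.symm⟩
  choose ψf hψ hψu using hex
  let ψ : M →ₗ[R] N :=
    { toFun := ψf
      map_add' := fun m1 m2 => by
        refine (hψu (m1 + m2) (ψf m1 + ψf m2) ⟨?_, ?_⟩).symm
        · rw [tmul_add, (hψ m1).1, (hψ m2).1, tmul_add, map_add]
        · rw [map_add, (hψ m1).2, (hψ m2).2, map_add, map_add]
      map_smul' := fun c m => by
        refine (hψu (c • m) (c • ψf m) ⟨?_, ?_⟩).symm
        · rw [tmul_smul, (hψ m).1, tmul_smul, LinearMap.map_smul_of_tower]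
        · rw [map_smul, (hψ m).2, map_smul, map_smul] }
  have hψ1 : ψ.baseChange R' = φ' := by
    apply LinearMap.ext
    intro x
    induction x using TensorProduct.induction_on with
    | zero => simp
    | tmul r' m =>
      rw [LinearMap.baseChange_tmul]
      have e1 : r' ⊗ₜ[R] ψ m = r' • ((1 : R') ⊗ₜ[R] ψf m) := by
        rw [smul_tmul', smul_eq_mul, mul_one]; rfl
      have e2 : r' ⊗ₜ[R] m = r' • ((1 : R') ⊗ₜ[R] m) := by
        rw [smul_tmul', smul_eq_mul, mul_one]
      rw [e1, e2, map_smul, (hψ m).1]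
    | add a b ha hb => rw [map_add, map_add, ha, hb]
  have hψ2 : IsLocalizedModule.map (Submonoid.powers f)
      (LocalizedModule.mkLinearMap (Submonoid.powers f) M)
      (LocalizedModule.mkLinearMap (Submonoid.powers f) N) ψ = φ₁ := by
    apply IsLocalizedModule.linearMap_ext (Submonoid.powers f)
      (LocalizedModule.mkLinearMap (Submonoid.powers f) M)
      (LocalizedModule.mkLinearMap (Submonoid.powers f) N)
    apply LinearMap.ext
    intro m
    rw [LinearMap.comp_apply, LinearMap.comp_apply, IsLocalizedModule.map_apply]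
    exact (hψ m).2
  refine ⟨ψ, ⟨hψ1, hψ2⟩, ?_⟩
  rintro ψ' ⟨h1, h2⟩
  apply LinearMap.ext
  intro m
  refine hψu m (ψ' m) ⟨?_, ?_⟩
  · rw [← h1, LinearMap.baseChange_tmul]
  · rw [← h2, IsLocalizedModule.map_apply]

end Groth.Agent.S2001
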