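import Groth.Statements.S20010
import Mathlib.AlgebraicGeometry.AffineTransitionLimit

set_option autoImplicit false
universe u
open CategoryTheory CategoryTheory.Limits AlgebraicGeometry TopologicalSpace
open ModPair

namespace Groth.Agent.S20010

/-- Let (X_i) be a cofiltered system of schemes with affine transition morphisms such that X_{i₀} is
quasi-compact and quasi-separated for some index i₀, let X be its limit, and let {U_a ⟶ X} be a
family of quasi-compact open immersions (open immersions of finite presentation) which is jointly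
surjective (a covering family for the Zariski class). Then the covering descends: for some index i
there is a finite jointly surjective family {V_j ⟶ X_i}_{j < n} of quasi-compact open immersions
such that every V_j ×_{X_i} X is one of the U_a, i.e. for each j some U_{a_j} ⟶ X is the base change
of V_j ⟶ X_i along X ⟶ X_i. -/
theorem result {I : Type u} [SmallCategory I] [IsCofiltered I]
    (D : I ⥤ Scheme.{u}) (c : Cone D) (hc : IsLimit c)
    [∀ (i j : I) (t : i ⟶ j), IsAffineHom (D.map t)] (i₀ : I) [CompactSpace (D.obj i₀)]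
    [QuasiSeparatedSpace (D.obj i₀)] {ι : Type u} (U : ι → Scheme.{u}) (u : ∀ a, U a ⟶ c.pt)
    [∀ a, IsOpenImmersion (u a)] [∀ a, QuasiCompact (u a)] (hcov : ∀ x : c.pt, ∃ (a : ι) (y : U a), (u a).base y = x) :
    ∃ (i : I) (n : ℕ) (V : Fin n → Scheme.{u}) (v : ∀ j, V j ⟶ D.obj i) (a : Fin n → ι)
      (e : ∀ j, U (a j) ⟶ V j),
      (∀ j, IsOpenImmersion (v j) ∧ QuasiCompact (v j)) ∧
      (∀ x : D.obj i, ∃ (j : Fin n) (y : V j), (v j).base y = x) ∧
      ∀ j, IsPullback (e j) (u (a j)) (v j) (c.π.app i) := by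
  classical
  haveI hAff : ∀ {i j : I} (f : i ⟶ j), IsAffineHom (D.map f) := fun f => inferInstance
  haveI : IsAffineHom (c.π.app i₀) := isAffineHom_π_app D c hc i₀
  haveI : CompactSpace c.pt := QuasiCompact.compactSpace_of_compactSpace (c.π.app i₀)
  have hUc : ∀ a, IsCompact ((u a).opensRange : Set c.pt) := by
    intro a
    haveI : CompactSpace (U a) := QuasiCompact.compactSpace_of_compactSpace (u a)
    simpa using isCompact_range (u a).continuous
  obtain ⟨t, ht⟩ := isCompact_univ.elim_finite_subcover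
    (fun a => ((u a).opensRange : Set c.pt)) (fun a => (u a).opensRange.2)
    (by
      intro x _
      obtain ⟨a, y, rfl⟩ := hcov x
      exact Set.mem_iUnion.mpr ⟨a, y, rfl⟩)
  choose i₁ V₁ hV₁c hV₁ using fun a => exists_preimage_eq D c hc (u a).opensRange (hUc a)
  obtain ⟨j₁, hj₁⟩ := IsCofiltered.inf_objs_exists (insert i₀ (t.image i₁))
  have g₀ : j₁ ⟶ i₀ := (hj₁ (by simp)).some
  have g : ∀ a : t, j₁ ⟶ i₁ a := fun a =>
    (hj₁ (Finset.mem_insert_of_mem (Finset.mem_image_of_mem i₁ a.2))).some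
  haveI : CompactSpace (D.obj j₁) := QuasiCompact.compactSpace_of_compactSpace (D.map g₀)
  let W : (D.obj j₁).Opens := ⨆ a : t, D.map (g a) ⁻¹ᵁ V₁ a
  have hW : c.π.app j₁ ⁻¹ᵁ W = ⊤ := by
    rw [eq_top_iff]
    intro x _
    have hx := ht (Set.mem_univ x)
    simp only [Set.mem_iUnion] at hx
    obtain ⟨a, hat, hxa⟩ := hx
    have h1 : x ∈ c.π.app (i₁ a) ⁻¹ᵁ V₁ a := by rw [hV₁]; exact hxa
    have h2 : c.π.app j₁ ≫ D.map (g ⟨a, hat⟩) = c.π.app (i₁ a) := c.w (g ⟨a, hat⟩)
    rw [← h2] at h1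
    simp only [W, Scheme.Hom.preimage_iSup]
    exact TopologicalSpace.Opens.mem_iSup.mpr ⟨⟨a, hat⟩, h1⟩
  obtain ⟨j₂, f, hf⟩ := exists_map_preimage_le_map_preimage D c hc (i := j₁)
    (U := ⊤) (V := W) isCompact_univ (by rw [hW]; exact le_top)
  let V₂ : ∀ a : t, (D.obj j₂).Opens := fun a => D.map (f ≫ g a) ⁻¹ᵁ V₁ a
  have hV₂c : ∀ a : t, IsCompact (V₂ a : Set (D.obj j₂)) := fun a =>
    QuasiCompact.isCompact_preimage (f := D.map (f ≫ g a)) _ (V₁ a).2 (hV₁c a)
  have hV₂ : ∀ a : t, c.π.app j₂ ⁻¹ᵁ V₂ a = (u a).opensRange := by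
    intro a
    rw [← hV₁ a]
    have h2 : c.π.app j₂ ≫ D.map (f ≫ g a) = c.π.app (i₁ a) := c.w (f ≫ g a)
    rw [← h2]
    rfl
  have hcov₂ : ∀ x : D.obj j₂, ∃ a : t, x ∈ V₂ a := by
    intro x
    have hx : x ∈ D.map f ⁻¹ᵁ W := hf (by trivial)
    simp only [W, Scheme.Hom.preimage_iSup] at hx
    obtain ⟨a, ha⟩ := TopologicalSpace.Opens.mem_iSup.mp hx
    refine ⟨a, ?_⟩
    change x ∈ D.map (f ≫ g a) ⁻¹ᵁ V₁ a
    rw [D.map_comp]
    exact ha
  haveI : QuasiSeparatedSpace (D.obj j₂) :=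
    quasiSeparatedSpace_of_quasiSeparated (D.map (f ≫ g₀))
  have hrange : ∀ a : t, Set.range (u a ≫ c.π.app j₂) ⊆ Set.range (V₂ a).ι := by
    intro a
    rintro _ ⟨y, rfl⟩
    have h1 : (u a) y ∈ (u a).opensRange := ⟨y, rfl⟩
    rw [← hV₂ a] at h1
    simpa using h1
  let eqv := t.equivFin
  refine ⟨j₂, t.card, fun j => (V₂ (eqv.symm j)).toScheme, fun j => (V₂ (eqv.symm j)).ι,
    fun j => (eqv.symm j).1,
    fun j => IsOpenImmersion.lift (V₂ (eqv.symm j)).ι (u (eqv.symm j).1 ≫ c.π.app j₂)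
      (hrange (eqv.symm j)), ?_, ?_, ?_⟩
  · intro j
    refine ⟨inferInstance, ?_⟩
    haveI : CompactSpace ((V₂ (eqv.symm j)).toScheme) :=
      isCompact_iff_compactSpace.mp (hV₂c _)
    exact quasiCompact_of_compactSpace (V₂ (eqv.symm j)).ι
  · intro x
    obtain ⟨a, ha⟩ := hcov₂ x
    refine ⟨eqv a, ⟨x, by simpa using ha⟩, rfl⟩
  · intro j
    apply IsOpenImmersion.isPullback
    · exact (IsOpenImmersion.lift_fac _ _ _).symm
    · rw [Scheme.Opens.opensRange_ι]
      exact hV₂ _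

end Groth.Agent.S20010
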