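import Groth.Statements.S20016
import Mathlib

set_option autoImplicit false
universe u
open CategoryTheory AlgebraicGeometry TopologicalSpace Opposite
open ModPair

set_option linter.unusedSectionVars false

namespace Groth.Agent.S20016Aux

open TensorProduct

/-- Ring-level key lemma: if `A` is integrally closed in `A_f` and `B` is smooth over `A`, then `B` is integrally
closed in `B_f`. -/
theorem intClosed_away_of_smooth {A B Af Bf : Type u} [CommRing A] [CommRing B] [CommRing Af] [CommRing Bf]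
    [Algebra A B] [Algebra.Smooth A B] (f : A) [Algebra A Af] [IsLocalization.Away f Af]
    [Algebra B Bf] [IsLocalization.Away (algebraMap A B f) Bf]
    (hA : ∀ s : Af, IsIntegral A s → s ∈ Set.range (algebraMap A Af))
    (t : Bf) (ht : IsIntegral B t) : t ∈ Set.range (algebraMap B Bf) := by
  let e : B ⊗[A] Af ≃ₐ[B] Bf :=
    IsLocalization.algEquiv (Submonoid.powers (algebraMap A B f)) _ _
  have hy : IsIntegral B (e.symm t) := ht.map e.symm
  obtain ⟨z, hz⟩ := (TensorProduct.toIntegralClosure_bijective_of_smooth (R := A) (S := B)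
    (B := Af)).2 ⟨e.symm t, hy⟩
  have hz' : Algebra.TensorProduct.map (AlgHom.id B B) (integralClosure A Af).val z = e.symm t := by
    have := congrArg Subtype.val hz
    simpa [TensorProduct.toIntegralClosure] using this
  have key : ∀ z : B ⊗[A] (integralClosure A Af),
      Algebra.TensorProduct.map (AlgHom.id B B) (integralClosure A Af).val z ∈
        Set.range (algebraMap B (B ⊗[A] Af)) := by
    intro z
    induction z with
    | zero => exact ⟨0, by simp⟩
    | add x y hx hy =>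
      obtain ⟨a, ha⟩ := hx
      obtain ⟨b, hb⟩ := hy
      exact ⟨a + b, by rw [map_add, map_add, ha, hb]⟩
    | tmul b s =>
      obtain ⟨a, ha⟩ := hA s.1 s.2
      refine ⟨a • b, ?_⟩
      rw [Algebra.TensorProduct.map_tmul, Algebra.TensorProduct.algebraMap_apply]
      simp only [AlgHom.coe_id, id_eq, Subalgebra.coe_val, Algebra.algebraMap_self, RingHom.id_apply]
      rw [← ha, Algebra.algebraMap_eq_smul_one, TensorProduct.smul_tmul]
  obtain ⟨b, hb⟩ := key z
  refine ⟨b, ?_⟩
  have : e (algebraMap B (B ⊗[A] Af) b) = t := by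
    rw [hb, hz', AlgEquiv.apply_symm_apply]
  rw [← this, AlgEquiv.commutes]

/-- ring hom version -/
theorem intClosed_away_of_etale_ringHom {A B Af Bf : Type u} [CommRing A] [CommRing B] [CommRing Af]
    [CommRing Bf] (φ : A →+* B) (hφ : φ.Etale) (f : A) (α : A →+* Af) (β : B →+* Bf)
    (hα : letI := α.toAlgebra; IsLocalization.Away f Af)
    (hβ : letI := β.toAlgebra; IsLocalization.Away (φ f) Bf)
    (hA : ∀ s : Af, α.IsIntegralElem s → s ∈ Set.range α)
    (t : Bf) (ht : β.IsIntegralElem t) : t ∈ Set.range β := by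
  letI := φ.toAlgebra
  letI := α.toAlgebra
  letI := β.toAlgebra
  haveI : Algebra.Etale A B := hφ
  haveI : Algebra.Smooth A B := inferInstance
  haveI : IsLocalization.Away f Af := hα
  haveI : IsLocalization.Away (algebraMap A B f) Bf := hβ
  exact intClosed_away_of_smooth f hA t ht

/-- injectivity of localization at the image of a nonzerodivisor under a flat map -/
theorem injective_away_of_flat_ringHom {A B Bf : Type u} [CommRing A] [CommRing B]
    [CommRing Bf] (φ : A →+* B) (hφ : φ.Flat) (f : A) (hf : f ∈ nonZeroDivisors A) (β : B →+* Bf)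
    (hβ : letI := β.toAlgebra; IsLocalization.Away (φ f) Bf) : Function.Injective β := by
  letI := φ.toAlgebra
  letI := β.toAlgebra
  haveI : Module.Flat A B := hφ
  haveI : IsLocalization.Away (algebraMap A B f) Bf := hβ
  have hreg : IsSMulRegular B f := Module.Flat.isSMulRegular_of_nonZeroDivisors hf
  have hnzd : algebraMap A B f ∈ nonZeroDivisors B := by
    rw [mem_nonZeroDivisors_iff_right]
    intro x hx
    apply hreg
    simp only [smul_zero]
    rw [Algebra.smul_def, mul_comm]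
    exact hx
  exact IsLocalization.injective Bf (Submonoid.powers_le.mpr hnzd)

section Geo

variable {X Y : Scheme.{u}}

/-- restriction maps of the structure sheaf as ring homs -/
noncomputable abbrev res (Y : Scheme.{u}) {W W' : Y.Opens} (h : W ≤ W') : Γ(Y, W') →+* Γ(Y, W) :=
  (Y.presheaf.map (homOfLE h).op).hom

theorem res_res {W W' W'' : Y.Opens} (h : W ≤ W') (h' : W' ≤ W'') (s : Γ(Y, W'')) :
    res Y h (res Y h' s) = res Y (h.trans h') s := by
  simp only [res]
  rw [← CommRingCat.comp_apply, ← Functor.map_comp]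
  rfl

theorem inf_interior_eq_basicOpen (IX : X.IdealSheafData) (U : X.affineOpens) (f : Γ(X, U.1))
    (hf : IX.ideal U = Ideal.span {f}) : U.1 ⊓ ModPair.interior IX = X.basicOpen f := by
  ext x
  constructor
  · rintro ⟨hxU, hx⟩
    have hx' : x ∉ IX.support := hx
    rw [Scheme.IdealSheafData.mem_support_iff_of_mem hxU, hf, Scheme.zeroLocus_span,
      Scheme.zeroLocus_singleton] at hx'
    exact not_not.mp hx'
  · intro hx
    have hxU : x ∈ U.1 := X.basicOpen_le f hx
    refine ⟨hxU, ?_⟩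
    show x ∉ IX.support
    rw [Scheme.IdealSheafData.mem_support_iff_of_mem hxU, hf, Scheme.zeroLocus_span,
      Scheme.zeroLocus_singleton]
    exact not_not.mpr hx

theorem inf_preimage_interior_eq_basicOpen (IX : X.IdealSheafData) (g : Y ⟶ X) (U : X.affineOpens)
    (f : Γ(X, U.1)) (hf : IX.ideal U = Ideal.span {f}) (W : Y.Opens) (e : W ≤ g ⁻¹ᵁ U.1) :
    W ⊓ g ⁻¹ᵁ ModPair.interior IX = Y.basicOpen (g.appLE U.1 W e f) := by
  rw [Scheme.basicOpen_appLE, ← inf_interior_eq_basicOpen IX U f hf]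
  ext x
  constructor
  · rintro ⟨h1, h2⟩
    exact ⟨h1, e h1, h2⟩
  · rintro ⟨h1, -, h2⟩
    exact ⟨h1, h2⟩

/-- transport of the localization property of basic opens along an equality of opens -/
theorem isLocalization_of_eq_basicOpen {W : Y.Opens} (hW : IsAffineOpen W) (r : Γ(Y, W)) (D : Y.Opens)
    (hD : D = Y.basicOpen r) (hDW : D ≤ W) :
    letI := (res Y hDW).toAlgebra
    IsLocalization.Away r Γ(Y, D) := by
  subst hD
  exact hW.isLocalization_basicOpen r

/-- local lifting on a small affine open -/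
theorem local_lift (IX : X.IdealSheafData)
    (hint : ∀ U ∈ X.affineOpens, ∀ s : Γ(X, U ⊓ ModPair.interior IX),
      (X.presheaf.map (homOfLE (inf_le_left : U ⊓ ModPair.interior IX ≤ U)).op).hom.IsIntegralElem s →
        s ∈ Set.range (X.presheaf.map (homOfLE (inf_le_left : U ⊓ ModPair.interior IX ≤ U)).op).hom)
    (g : Y ⟶ X) [Etale g] (U : X.affineOpens) (f : Γ(X, U.1))
    (hf : IX.ideal U = Ideal.span {f}) (W : Y.Opens) (hW : IsAffineOpen W) (e : W ≤ g ⁻¹ᵁ U.1)
    (t : Γ(Y, W ⊓ g ⁻¹ᵁ ModPair.interior IX))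
    (ht : (res Y (inf_le_left : W ⊓ g ⁻¹ᵁ ModPair.interior IX ≤ W)).IsIntegralElem t) :
    t ∈ Set.range (res Y (inf_le_left : W ⊓ g ⁻¹ᵁ ModPair.interior IX ≤ W)) := by
  have hφ : (g.appLE U.1 W e).hom.Etale :=
    HasRingHomProperty.appLE @Etale g inferInstance U ⟨W, hW⟩ e
  refine intClosed_away_of_etale_ringHom (g.appLE U.1 W e).hom hφ f
    (res X (inf_le_left : U.1 ⊓ ModPair.interior IX ≤ U.1))
    (res Y (inf_le_left : W ⊓ g ⁻¹ᵁ ModPair.interior IX ≤ W)) ?_ ?_ (hint U.1 U.2) t ht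
  · exact isLocalization_of_eq_basicOpen U.2 f _ (inf_interior_eq_basicOpen IX U f hf) inf_le_left
  · exact isLocalization_of_eq_basicOpen hW _ _
      (inf_preimage_interior_eq_basicOpen IX g U f hf W e) inf_le_left

/-- injectivity of restriction to the interior on a small affine open -/
theorem res_injective_affine (IX : X.IdealSheafData)
    (g : Y ⟶ X) [Etale g] (U : X.affineOpens) (f : Γ(X, U.1)) (hfn : f ∈ nonZeroDivisors Γ(X, U.1))
    (hf : IX.ideal U = Ideal.span {f}) (W : Y.Opens) (hW : IsAffineOpen W) (e : W ≤ g ⁻¹ᵁ U.1) :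
    Function.Injective (res Y (inf_le_left : W ⊓ g ⁻¹ᵁ ModPair.interior IX ≤ W)) := by
  have hφ : (g.appLE U.1 W e).hom.Etale :=
    HasRingHomProperty.appLE @Etale g inferInstance U ⟨W, hW⟩ e
  have hφ' : (g.appLE U.1 W e).hom.Flat := by
    letI := (g.appLE U.1 W e).hom.toAlgebra
    haveI : Algebra.Etale Γ(X, U.1) Γ(Y, W) := hφ
    haveI : Algebra.Smooth Γ(X, U.1) Γ(Y, W) := inferInstance
    exact (inferInstance : Module.Flat Γ(X, U.1) Γ(Y, W))
  exact injective_away_of_flat_ringHom (g.appLE U.1 W e).hom hφ' f hfn _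
    (isLocalization_of_eq_basicOpen hW _ _
      (inf_preimage_interior_eq_basicOpen IX g U f hf W e) inf_le_left)

/-- small affine neighbourhoods adapted to the Cartier divisor -/
theorem exists_small_affine (IX : X.IdealSheafData) (hX : BlowUp.IsEffCartierIdeal IX) (g : Y ⟶ X)
    (W' : Y.Opens) (y : Y) (hy : y ∈ W') :
    ∃ (U : X.affineOpens) (f : Γ(X, U.1)) (W : Y.Opens), f ∈ nonZeroDivisors Γ(X, U.1) ∧
      IX.ideal U = Ideal.span {f} ∧ IsAffineOpen W ∧ y ∈ W ∧ W ≤ W' ∧ W ≤ g ⁻¹ᵁ U.1 := by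
  obtain ⟨U, hgy, f, hfn, hf⟩ := hX (g y)
  have hy' : y ∈ W' ⊓ g ⁻¹ᵁ U.1 := ⟨hy, hgy⟩
  obtain ⟨_, ⟨W, hW : IsAffineOpen W, rfl⟩, hyW, hWsub⟩ :=
    Y.isBasis_affineOpens.exists_subset_of_mem_open hy' (W' ⊓ g ⁻¹ᵁ U.1).2
  exact ⟨U, f, W, hfn, hf, hW, hyW, fun z hz => (hWsub hz).1, fun z hz => (hWsub hz).2⟩

theorem res_injective (IX : X.IdealSheafData) (hX : BlowUp.IsEffCartierIdeal IX) (g : Y ⟶ X)
    [Etale g] (W' : Y.Opens) :
    Function.Injective (res Y (inf_le_left : W' ⊓ g ⁻¹ᵁ ModPair.interior IX ≤ W')) := by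
  rw [injective_iff_map_eq_zero]
  intro s hs
  choose U f W hfn hf hW hyW hWW' hWU using
    fun y : W' => exists_small_affine IX hX g W' y.1 y.2
  refine Y.sheaf.eq_of_locally_eq' W W' (fun y => homOfLE (hWW' y)) ?_ s 0 ?_
  · intro z hz
    exact (Opens.mem_iSup).2 ⟨⟨z, hz⟩, hyW ⟨z, hz⟩⟩
  · intro y
    change res Y (hWW' y) s = res Y (hWW' y) 0
    rw [map_zero]
    apply res_injective_affine IX g (U y) (f y) (hfn y) (hf y) (W y) (hW y) (hWU y)
    rw [map_zero, res_res]
    have : res Y ((inf_le_left : W y ⊓ g ⁻¹ᵁ ModPair.interior IX ≤ W y).trans (hWW' y)) s =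
        res Y (inf_le_inf_right _ (hWW' y)) (res Y inf_le_left s) := (res_res _ _ _).symm
    rw [this, hs, map_zero]

theorem main (IX : X.IdealSheafData) (hX : BlowUp.IsEffCartierIdeal IX)
    (hint : ∀ U ∈ X.affineOpens, ∀ s : Γ(X, U ⊓ ModPair.interior IX),
      (X.presheaf.map (homOfLE (inf_le_left : U ⊓ ModPair.interior IX ≤ U)).op).hom.IsIntegralElem s →
        s ∈ Set.range (X.presheaf.map (homOfLE (inf_le_left : U ⊓ ModPair.interior IX ≤ U)).op).hom)
    (g : Y ⟶ X) [Etale g] (V : Y.Opens) (t : Γ(Y, V ⊓ g ⁻¹ᵁ ModPair.interior IX))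
    (ht : (res Y (inf_le_left : V ⊓ g ⁻¹ᵁ ModPair.interior IX ≤ V)).IsIntegralElem t) :
    t ∈ Set.range (res Y (inf_le_left : V ⊓ g ⁻¹ᵁ ModPair.interior IX ≤ V)) := by
  have hloc : ∀ y : V, ∃ W : Y.Opens, y.1 ∈ W ∧ ∃ hWV : W ≤ V, ∃ b : Γ(Y, W),
      res Y (inf_le_left : W ⊓ g ⁻¹ᵁ ModPair.interior IX ≤ W) b =
        res Y (inf_le_inf_right (g ⁻¹ᵁ ModPair.interior IX) hWV) t := by
    intro y
    obtain ⟨U, f, W, hfn, hf, hW, hyW, hWV, hWU⟩ := exists_small_affine IX hX g V y.1 y.2
    refine ⟨W, hyW, hWV, ?_⟩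
    have ht' : (res Y (inf_le_left : W ⊓ g ⁻¹ᵁ ModPair.interior IX ≤ W)).IsIntegralElem
        (res Y (inf_le_inf_right (g ⁻¹ᵁ ModPair.interior IX) hWV) t) := by
      obtain ⟨p, hp, hpt⟩ := ht
      refine ⟨p.map (res Y hWV), hp.map _, ?_⟩
      rw [Polynomial.eval₂_map]
      have hcomp : (res Y (inf_le_left : W ⊓ g ⁻¹ᵁ ModPair.interior IX ≤ W)).comp (res Y hWV) =
          (res Y (inf_le_inf_right (g ⁻¹ᵁ ModPair.interior IX) hWV)).comp
            (res Y (inf_le_left : V ⊓ g ⁻¹ᵁ ModPair.interior IX ≤ V)) := by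
        ext s
        simp only [RingHom.comp_apply]
        rw [res_res, res_res]
      rw [hcomp, ← Polynomial.hom_eval₂, hpt, map_zero]
    obtain ⟨b, hb⟩ := local_lift IX hint g U f hf W hW hWU _ ht'
    exact ⟨b, hb⟩
  choose W hyW hWV b hb using hloc
  have hcompat : TopCat.Presheaf.IsCompatible Y.sheaf.1 W b := by
    intro y z
    change res Y inf_le_left (b y) = res Y inf_le_right (b z)
    apply res_injective IX hX g (W y ⊓ W z)
    rw [res_res, res_res]
    have e1 : res Y ((inf_le_left : W y ⊓ W z ⊓ g ⁻¹ᵁ ModPair.interior IX ≤ W y ⊓ W z).trans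
        inf_le_left) (b y) = res Y (inf_le_inf_right _ inf_le_left)
          (res Y (inf_le_left : W y ⊓ g ⁻¹ᵁ ModPair.interior IX ≤ W y) (b y)) :=
      (res_res _ _ _).symm
    have e2 : res Y ((inf_le_left : W y ⊓ W z ⊓ g ⁻¹ᵁ ModPair.interior IX ≤ W y ⊓ W z).trans
        inf_le_right) (b z) = res Y (inf_le_inf_right _ inf_le_right)
          (res Y (inf_le_left : W z ⊓ g ⁻¹ᵁ ModPair.interior IX ≤ W z) (b z)) :=
      (res_res _ _ _).symm
    rw [e1, e2, hb, hb, res_res, res_res]
  have hglue : ∃ b₀ : Γ(Y, V), ∀ y, res Y (hWV y) b₀ = b y := by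
    obtain ⟨b₀, hb₀, -⟩ := Y.sheaf.existsUnique_gluing' W V (fun y => homOfLE (hWV y))
      (fun z hz => (Opens.mem_iSup).2 ⟨⟨z, hz⟩, hyW ⟨z, hz⟩⟩) b hcompat
    exact ⟨b₀, hb₀⟩
  obtain ⟨b₀, hb₀⟩ := hglue
  refine ⟨b₀, ?_⟩
  refine Y.sheaf.eq_of_locally_eq' (fun y : V => W y ⊓ g ⁻¹ᵁ ModPair.interior IX)
    (V ⊓ g ⁻¹ᵁ ModPair.interior IX) (fun y => homOfLE (inf_le_inf_right _ (hWV y)))
    (fun z hz => (Opens.mem_iSup).2 ⟨⟨z, hz.1⟩, hyW ⟨z, hz.1⟩, hz.2⟩) _ _ ?_
  intro y
  change res Y _ (res Y _ b₀) = res Y _ t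
  have h1 : res Y (hWV y) b₀ = b y := hb₀ y
  rw [res_res, ← hb y, ← h1, res_res]

end Geo

end Groth.Agent.S20016Aux

namespace Groth.Agent.S20016

/-- Let (X, I_X) be a modulus pair — a scheme X with the quasi-coherent ideal sheaf I_X of an effective
Cartier divisor — with interior X° (the open complement of the support of I_X), and suppose O_X is
integrally closed in O_{X°}: for every affine open U of X, every section of O_X over U ∩ X° which is
integral over Γ(U, O_X) along the restriction map is the restriction of a section over U. Let g : Y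
⟶ X be an étale morphism and Y° = g⁻¹(X°). Then O_Y is integrally closed in O_{Y°}: for every affine
open V of Y, every section of O_Y over V ∩ Y° which is integral over Γ(V, O_Y) along the restriction
map is the restriction of a section over V. (The text does not spell out the phrase integrally
closed for sheaves; it is rendered here affine-locally through restriction maps.) -/
theorem result {X Y : Scheme.{u}}
    (IX : X.IdealSheafData) (hX : BlowUp.IsEffCartierIdeal IX)
    (hint : ∀ U ∈ X.affineOpens, ∀ s : Γ(X, U ⊓ ModPair.interior IX),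
      (X.presheaf.map (homOfLE (inf_le_left : U ⊓ ModPair.interior IX ≤ U)).op).hom.IsIntegralElem s →
        s ∈ Set.range (X.presheaf.map (homOfLE (inf_le_left : U ⊓ ModPair.interior IX ≤ U)).op).hom)
    (g : Y ⟶ X) [Etale g] :
    ∀ V ∈ Y.affineOpens, ∀ t : Γ(Y, V ⊓ g ⁻¹ᵁ ModPair.interior IX),
      (Y.presheaf.map (homOfLE (inf_le_left : V ⊓ g ⁻¹ᵁ ModPair.interior IX ≤ V)).op).hom.IsIntegralElem t →
        t ∈ Set.range (Y.presheaf.map (homOfLE (inf_le_left : V ⊓ g ⁻¹ᵁ ModPair.interior IX ≤ V)).op).hom := by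
  intro V hV t ht
  exact Groth.Agent.S20016Aux.main IX hX hint g V t ht

end Groth.Agent.S20016
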