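import Groth.Statements.S20017
import Groth.Agent.Lib.Lead.TorsorIsom2

set_option autoImplicit false
universe u
open CategoryTheory AlgebraicGeometry
open NonAbH1

namespace Groth.Agent.S20017

/-- Let X be a normal integral scheme (integral, with every local ring integrally closed), G a group
scheme over X whose structure morphism is finite and flat, and U ⊆ X a dense open subscheme. Then
the restriction map H¹(X, G) → H¹(U, G|_U) on classes of fppf G-torsors — X-schemes with a G-action
which are pseudo-torsors and acquire sections on the members of some fppf covering family, up to
equivariant isomorphism — given by base change along the open immersion U → X, is injective. (G is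
not assumed commutative; injectivity is that of a map of pointed sets.) -/
theorem result
    (X : Scheme.{u}) [AlgebraicGeometry.IsIntegral X] (hX : Pi1.IsNormalScheme X)
    (G : Over X) [GrpObj G] [IsFinite G.hom] [Flat G.hom]
    (U : X.Opens) (hU : Dense (U : Set X)) :
    Function.Injective (NonAbH1.H1Sch.bcMap U.ι G Scheme.fppfPrecoverage) := by
  intro c₁ c₂ h
  induction c₁ using Quot.ind with
  | _ P =>
    induction c₂ using Quot.ind with
    | _ Q =>
      obtain ⟨e⟩ := Groth.Agent.Lib.Lead.TorsorIsom.nonempty_equivIso_of_cl_eq
        (P.bc U.ι) (Q.bc U.ι) h
      obtain ⟨e'⟩ := Groth.Agent.Lib.Lead.TorsorIsom.nonempty_equivIso_of_bc_opens hX G U hU P Q e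
      exact Quot.sound ⟨e'⟩

end Groth.Agent.S20017
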