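import Groth.Statements.S20018
-- import your own Groth.Agent.* helpers here

set_option autoImplicit false
open CAlg

namespace Groth.Agent.S20018

section aux

open PowerSeries

variable {R : Type*} [CommRing R]

noncomputable def Q (α : ℕ → R) (N : ℕ) : PowerSeries R :=
  ∏ i ∈ Finset.range N, (1 - PowerSeries.C (α i) * PowerSeries.X ^ (i + 1) : PowerSeries R)

lemma Q_zero (α : ℕ → R) : Q α 0 = 1 := by simp [Q]

lemma Q_succ (α : ℕ → R) (N : ℕ) :
    Q α (N + 1) = Q α N * (1 - PowerSeries.C (α N) * PowerSeries.X ^ (N + 1)) := by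
  simp [Q, Finset.prod_range_succ]

lemma Q_congr (α β : ℕ → R) (N : ℕ) (h : ∀ i < N, α i = β i) : Q α N = Q β N := by
  unfold Q
  apply Finset.prod_congr rfl
  intro i hi
  rw [h i (Finset.mem_range.mp hi)]

lemma coeff_Q_succ (α : ℕ → R) (N k : ℕ) :
    PowerSeries.coeff k (Q α (N + 1)) =
      PowerSeries.coeff k (Q α N) -
        (if N + 1 ≤ k then α N * PowerSeries.coeff (k - (N + 1)) (Q α N) else 0) := by
  rw [Q_succ, mul_sub, mul_one, map_sub]
  congr 1
  rw [mul_comm (Q α N), mul_assoc, PowerSeries.coeff_C_mul, PowerSeries.coeff_X_pow_mul']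
  split_ifs <;> simp

lemma constCoeff_Q (α : ℕ → R) (N : ℕ) : PowerSeries.coeff 0 (Q α N) = 1 := by
  induction N with
  | zero => simp [Q_zero]
  | succ N ih => rw [coeff_Q_succ, ih]; simp

lemma coeff_Q_succ_of_le (α : ℕ → R) (N k : ℕ) (hk : k ≤ N) :
    PowerSeries.coeff k (Q α (N + 1)) = PowerSeries.coeff k (Q α N) := by
  rw [coeff_Q_succ, if_neg (by omega), sub_zero]

lemma coeff_Q_succ_self (α : ℕ → R) (N : ℕ) :
    PowerSeries.coeff (N + 1) (Q α (N + 1)) = PowerSeries.coeff (N + 1) (Q α N) - α N := by
  rw [coeff_Q_succ, if_pos le_rfl, Nat.sub_self, constCoeff_Q, mul_one]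

noncomputable def pp (x : PowerSeries R) : ℕ → PowerSeries R
  | 0 => 1
  | (N + 1) => pp x N * (1 - PowerSeries.C (PowerSeries.coeff (N + 1) (pp x N) -
      PowerSeries.coeff (N + 1) x) * PowerSeries.X ^ (N + 1))

noncomputable def al (x : PowerSeries R) (N : ℕ) : R :=
  PowerSeries.coeff (N + 1) (pp x N) - PowerSeries.coeff (N + 1) x

lemma pp_eq (x : PowerSeries R) (N : ℕ) : pp x N = Q (al x) N := by
  induction N with
  | zero => simp [pp, Q_zero]
  | succ N ih => rw [Q_succ, ← ih]; rfl

lemma al_eq (x : PowerSeries R) (N : ℕ) :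
    al x N = PowerSeries.coeff (N + 1) (Q (al x) N) - PowerSeries.coeff (N + 1) x := by
  rw [← pp_eq]; rfl

lemma coeff_eq_al (x : PowerSeries R) (hx : PowerSeries.constantCoeff x = 1) (N : ℕ) :
    ∀ k ≤ N, PowerSeries.coeff k x = PowerSeries.coeff k (Q (al x) N) := by
  induction N with
  | zero =>
    intro k hk
    obtain rfl : k = 0 := by omega
    rw [constCoeff_Q]
    simpa using hx
  | succ N ih =>
    intro k hk
    rcases Nat.lt_or_ge k (N + 1) with h | h
    · rw [coeff_Q_succ_of_le _ _ _ (by omega)]
      exact ih k (by omega)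
    · obtain rfl : k = N + 1 := by omega
      rw [coeff_Q_succ_self]
      rw [al_eq x N]
      ring

lemma trunc_eq_iff (n : ℕ) (x y : PowerSeries R) :
    PowerSeries.trunc n x = PowerSeries.trunc n y ↔
      ∀ k < n, PowerSeries.coeff k x = PowerSeries.coeff k y := by
  constructor
  · intro h k hk
    have := congrArg (fun p => Polynomial.coeff p k) h
    simpa [PowerSeries.coeff_trunc, hk] using this
  · intro h
    ext k
    rw [PowerSeries.coeff_trunc, PowerSeries.coeff_trunc]
    split_ifs with hk
    · exact h k hk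
    · rfl

end aux

open PowerSeries in
/-- Product expansion of big Witt vectors: let R be a commutative ring and x ∈ 1 + tR[[t]] a formal
power series with constant term 1. Then x can be written uniquely as an infinite product ∏_{i ≥ 1}
(1 - α_i t^i) with α_i ∈ R. The infinite product is expressed through its truncations: there is a
unique sequence α : ℕ → R (α i standing for the coefficient attached to t^{i+1}) such that for every
N the series x and the finite product ∏_{i=0}^{N} (1 - α_i t^{i+1}) agree modulo t^{N+2}. -/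
theorem result
    (R : Type*) [CommRing R] (x : PowerSeries R) (hx : PowerSeries.constantCoeff x = 1) :
    ∃! α : ℕ → R, ∀ N : ℕ,
      PowerSeries.trunc (N + 2) x =
        PowerSeries.trunc (N + 2) (∏ i ∈ Finset.range (N + 1),
          (1 - PowerSeries.C (α i) * PowerSeries.X ^ (i + 1) : PowerSeries R)) := by
  refine ⟨al x, ?_, ?_⟩
  · intro N
    rw [trunc_eq_iff]
    intro k hk
    exact coeff_eq_al x hx (N + 1) k (by omega)
  · intro β hβ
    funext N
    induction N using Nat.strong_induction_on with
    | _ N ih =>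
      have h1 := (trunc_eq_iff _ _ _).mp (hβ N) (N + 1) (by omega)
      change PowerSeries.coeff (N + 1) x = PowerSeries.coeff (N + 1) (Q β (N + 1)) at h1
      rw [coeff_Q_succ_self] at h1
      rw [al_eq, ← Q_congr β (al x) N ih, h1]
      ring

end Groth.Agent.S20018
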