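import Groth.Statements.S20022
import Mathlib.LinearAlgebra.LinearIndependent.Lemmas
import Mathlib.LinearAlgebra.Basis.Basic
import Mathlib.Tactic

set_option autoImplicit false
universe u
open GrLC

namespace Groth.Agent.S20022

open DirectSum

section aux

variable {R : Type u} [CommRing R] (𝒜 : ℤ → AddSubgroup R) [GradedRing 𝒜]
  {M : Type u} [AddCommGroup M] [Module R M] (ℳ : ℤ → AddSubgroup M)
  [DirectSum.Decomposition ℳ] [SetLike.GradedSMul 𝒜 ℳ]

lemma proj_smul_of_mem (r : R) (y : M) (e : ℤ) (hy : y ∈ ℳ e) (N : ℤ) :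
    ((decompose ℳ (r • y)) N : M) = ((decompose 𝒜 r) (N - e) : R) • y := by
  classical
  conv_lhs => rw [← sum_support_decompose 𝒜 r, Finset.sum_smul, decompose_sum]
  rw [DFinsupp.finset_sum_apply, AddSubgroup.val_finset_sum]
  have hterm : ∀ n : ℤ, ((decompose ℳ (((decompose 𝒜 r) n : R) • y)) N : M) =
      if n = N - e then ((decompose 𝒜 r) n : R) • y else 0 := by
    intro n
    have hmem : ((decompose 𝒜 r) n : R) • y ∈ ℳ (n + e) :=
      SetLike.GradedSMul.smul_mem (A := 𝒜) (B := ℳ) (SetLike.coe_mem _) hy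
    split_ifs with h
    · have : n + e = N := by omega
      rw [this] at hmem
      exact decompose_of_mem_same ℳ hmem
    · exact decompose_of_mem_ne ℳ hmem (by omega)
  simp only [hterm]
  rw [Finset.sum_ite_eq']
  split_ifs with h
  · rfl
  · rw [DFinsupp.notMem_support_iff] at h
    rw [h]
    simp

end aux

theorem result (R : Type u) [CommRing R]
    (𝒜 : ℤ → AddSubgroup R) [GradedRing 𝒜] (h0 : IsField (GrLC.deg0 𝒜))
    (d : ℤ) (hd : 0 < d) (T : Rˣ) (hT : (T : R) ∈ 𝒜 d)
    (hA : ∀ (n : ℤ) (x : R), x ∈ 𝒜 n → x ≠ 0 →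
      ∃ j : ℤ, ∃ a ∈ 𝒜 0, j * d = n ∧ x = a * ((T ^ j : Rˣ) : R))
    (M : Type u) [AddCommGroup M] [Module R M] (ℳ : ℤ → AddSubgroup M)
    [DirectSum.Decomposition ℳ] [SetLike.GradedSMul 𝒜 ℳ] :
    ∃ (κ : Type u) (b : Module.Basis κ R M), ∀ i : κ, SetLike.IsHomogeneousElem ℳ (b i) := by
  classical
  -- nonzero homogeneous elements are units
  have hunit : ∀ (n : ℤ) (x : R), x ∈ 𝒜 n → x ≠ 0 → IsUnit x := by
    intro n x hx hx0
    obtain ⟨j, a, ha, -, rfl⟩ := hA n x hx hx0
    have ha0 : a ≠ 0 := by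
      rintro rfl
      simp at hx0
    have hau : IsUnit (⟨a, ha⟩ : GrLC.deg0 𝒜) := by
      letI := h0.toField
      exact isUnit_iff_ne_zero.mpr (fun h => ha0 (congrArg Subtype.val h))
    have hau' : IsUnit a := hau.map (GrLC.deg0 𝒜).subtype
    exact hau'.mul (Units.isUnit _)
  let H := {m : M // SetLike.IsHomogeneousElem ℳ m}
  let v : H → M := Subtype.val
  obtain ⟨s, hs, hmax⟩ := exists_maximal_linearIndepOn R v
  set P : Submodule R M := Submodule.span R (v '' s) with hP
  -- P is stable under taking components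
  have hPhom : ∀ x ∈ P, ∀ N : ℤ, ((decompose ℳ x) N : M) ∈ P := by
    intro x hx N
    induction hx using Submodule.closure_induction with
    | zero => simp
    | add x y _ _ hx hy =>
      rw [decompose_add, DirectSum.add_apply, AddSubgroup.coe_add]
      exact P.add_mem hx hy
    | smul_mem r x hx =>
      obtain ⟨⟨m, e, hm⟩, hms, rfl⟩ := hx
      rw [proj_smul_of_mem 𝒜 ℳ r m e hm N]
      exact P.smul_mem _ (Submodule.subset_span ⟨⟨m, e, hm⟩, hms, rfl⟩)
  -- every homogeneous element lies in P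
  have hhom : ∀ h : H, v h ∈ P := by
    intro h
    by_cases hmem : h ∈ s
    · exact Submodule.subset_span ⟨h, hmem, rfl⟩
    · obtain ⟨a, ha0, ha⟩ := hmax h hmem
      obtain ⟨m, e, hm⟩ := h
      have hex : ∃ n : ℤ, ((decompose 𝒜 a) n : R) ≠ 0 := by
        by_contra hcon
        push Not at hcon
        apply ha0
        rw [← sum_support_decompose 𝒜 a]
        exact Finset.sum_eq_zero (fun n _ => hcon n)
      obtain ⟨n, hn⟩ := hex
      have h1 := hPhom _ ha (n + e)
      rw [proj_smul_of_mem 𝒜 ℳ a m e hm (n + e), add_sub_cancel_right] at h1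
      obtain ⟨w, hw⟩ := hunit n _ (SetLike.coe_mem _) hn
      have : (m : M) = (↑w⁻¹ : R) • (((decompose 𝒜 a) n : R) • m) := by
        rw [smul_smul, ← hw, Units.inv_mul, one_smul]
      change m ∈ P
      rw [this]
      exact P.smul_mem _ h1
  have htop : P = ⊤ := by
    rw [eq_top_iff]
    intro m _
    rw [← sum_support_decompose ℳ m]
    refine P.sum_mem (fun n _ => ?_)
    exact hhom ⟨_, n, SetLike.coe_mem _⟩
  have hli : LinearIndependent R (fun i : s => v i) := hs
  have hsp : ⊤ ≤ Submodule.span R (Set.range (fun i : s => v i)) := by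
    rw [← htop, hP]
    apply Submodule.span_mono
    rintro _ ⟨h, hh, rfl⟩
    exact ⟨⟨h, hh⟩, rfl⟩
  refine ⟨s, Module.Basis.mk hli hsp, fun i => ?_⟩
  rw [Module.Basis.mk_apply]
  exact i.1.2

end Groth.Agent.S20022
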