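import Groth.Statements.S20024
import Mathlib.RingTheory.WittVector.Identities
import Mathlib.Tactic

set_option autoImplicit false
universe u
open WittFil

namespace Groth.Agent.S20024

open WittVector

lemma iterate_frobenius_teichmuller (p : ℕ) [Fact p.Prime] {B : Type u} [CommRing B] [CharP B p]
    (s : ℕ) (r : B) :
    (frobenius^[s]) (teichmuller p r) = teichmuller p (r ^ p ^ s) := by
  ext k
  rw [iterate_frobenius_coeff]
  rcases Nat.eq_zero_or_pos k with rfl | hk
  · rw [teichmuller_coeff_zero, teichmuller_coeff_zero]
  · rw [teichmuller_coeff_pos p r k hk, teichmuller_coeff_pos p _ k hk, zero_pow]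
    exact pow_ne_zero _ (Fact.out : p.Prime).ne_zero

theorem result (p : ℕ) [Fact p.Prime] {S B : Type u}
    [CommRing S] [CharP S p] [CommRing B] [Algebra S B] (m s : ℕ) (u : Bˣ) (i l : ℤ)
    (c : WittVector p S) :
    WittVector.truncate m (WittVector.teichmuller p ((u ^ l : Bˣ) : B)) *
        WittFil.vShiftTeich p m s ((u ^ i : Bˣ) : B) c =
      WittFil.vShiftTeich p m s ((u ^ (i + (p : ℤ) ^ s * l) : Bˣ) : B) c := by
  rcases subsingleton_or_nontrivial B with hB | hB
  · haveI : Subsingleton (TruncatedWittVector p m B) := by
      unfold TruncatedWittVector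
      infer_instance
    exact Subsingleton.elim _ _
  · have hp0 : (p : B) = 0 := by
      have : (p : B) = algebraMap S B (p : S) := (map_natCast (algebraMap S B) p).symm
      rw [this, CharP.cast_eq_zero, map_zero]
    haveI : CharP B p := by
      have h1 : ringChar B ∣ p := ringChar.dvd hp0
      have h2 : ringChar B ≠ 1 := CharP.ringChar_ne_one
      have h3 : ringChar B = p := by
        rcases (Nat.dvd_prime (Fact.out : p.Prime)).mp h1 with h | h
        · exact absurd h h2
        · exact h
      rw [← h3]
      exact ringChar.charP B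
    unfold WittFil.vShiftTeich
    rw [← map_mul, mul_comm, iterate_verschiebung_mul_left, iterate_frobenius_teichmuller,
      mul_assoc, ← map_mul]
    congr 4
    have : ((u ^ i : Bˣ) : B) * ((u ^ l : Bˣ) : B) ^ p ^ s =
        ((u ^ i * (u ^ l) ^ (p ^ s : ℕ) : Bˣ) : B) := by
      push_cast
      rfl
    rw [this]
    congr 1
    rw [← zpow_natCast, ← zpow_mul, ← zpow_add]
    congr 1
    push_cast
    ring

end Groth.Agent.S20024
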