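import Groth.Statements.S20025
import Mathlib.Tactic
import Mathlib.Algebra.MvPolynomial.Eval

set_option autoImplicit false
universe u
open InvQ

namespace Groth.Agent.S20025

open MvPolynomial W4c6intromoduli

variable {k : Type u} [Field k]

/-- the linear form attached to a row `(m0, m1)` -/
noncomputable def lin (m0 m1 : k) : MvPolynomial (Fin 2) k := C m0 * X 0 + C m1 * X 1

lemma subst_X (M : Matrix (Fin 2) (Fin 2) k) (i : Fin 2) :
    W4c6intromoduli.subst M (X i) = lin (M i 0) (M i 1) := by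
  simp [W4c6intromoduli.subst, lin, Fin.sum_univ_two]

lemma eval_lin (m0 m1 x y : k) : eval ![x, y] (lin m0 m1) = m0 * x + m1 * y := by
  simp [lin]

lemma subst_A (M : Matrix (Fin 2) (Fin 2) k) :
    W4c6intromoduli.subst M (X 0 ^ 2 * X 1 * (X 0 - X 1)) =
      lin (M 0 0) (M 0 1) ^ 2 * lin (M 1 0) (M 1 1) *
        (lin (M 0 0) (M 0 1) - lin (M 1 0) (M 1 1)) := by
  rw [map_mul, map_mul, map_pow, map_sub, subst_X, subst_X]

lemma subst_B (M : Matrix (Fin 2) (Fin 2) k) :
    W4c6intromoduli.subst M (X 0 ^ 2 * X 1 ^ 2) =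
      lin (M 0 0) (M 0 1) ^ 2 * lin (M 1 0) (M 1 1) ^ 2 := by
  rw [map_mul, map_pow, map_pow, subst_X, subst_X]

/-- two non-proportional points cannot lie on the same line through the origin -/
lemma row_zero (m0 m1 x y x' y' : k) (h1 : m0 * x + m1 * y = 0) (h2 : m0 * x' + m1 * y' = 0)
    (hc : x * y' - x' * y ≠ 0) : m0 = 0 ∧ m1 = 0 := by
  constructor
  · have : m0 * (x * y' - x' * y) = 0 := by linear_combination y' * h1 - y * h2
    rcases mul_eq_zero.mp this with h | h
    · exact h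
    · exact absurd h hc
  · have : m1 * (x * y' - x' * y) = 0 := by linear_combination -x' * h1 + x * h2
    rcases mul_eq_zero.mp this with h | h
    · exact h
    · exact absurd h hc

theorem exclusive (f : MvPolynomial (Fin 2) k)
    (M1 : Matrix (Fin 2) (Fin 2) k) (c1 : k) (hM1 : IsUnit M1.det)
    (h1 : f = C c1 * W4c6intromoduli.subst M1 (X 0 ^ 2 * X 1 * (X 0 - X 1)))
    (M2 : Matrix (Fin 2) (Fin 2) k) (c2 : k) (hM2 : IsUnit M2.det) (hc2 : c2 ≠ 0)
    (h2 : f = C c2 * W4c6intromoduli.subst M2 (X 0 ^ 2 * X 1 ^ 2)) : False := by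
  rw [subst_A] at h1
  rw [subst_B] at h2
  have hd1 : M1 0 0 * M1 1 1 - M1 0 1 * M1 1 0 ≠ 0 := by
    rw [Matrix.det_fin_two] at hM1
    exact hM1.ne_zero
  have hd2 : M2 0 0 * M2 1 1 - M2 0 1 * M2 1 0 ≠ 0 := by
    rw [Matrix.det_fin_two] at hM2
    exact hM2.ne_zero
  -- values of f
  have hf1 : ∀ x y : k, eval ![x, y] f = c1 * ((M1 0 0 * x + M1 0 1 * y) ^ 2 *
      (M1 1 0 * x + M1 1 1 * y) *
      ((M1 0 0 * x + M1 0 1 * y) - (M1 1 0 * x + M1 1 1 * y))) := by
    intro x y
    rw [h1]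
    simp only [map_mul, map_pow, map_sub, eval_lin, eval_C]
  have hf2 : ∀ x y : k, eval ![x, y] f = c2 * ((M2 0 0 * x + M2 0 1 * y) ^ 2 *
      (M2 1 0 * x + M2 1 1 * y) ^ 2) := by
    intro x y
    rw [h2]
    simp only [map_mul, map_pow, eval_lin, eval_C]
  -- three roots
  have r1 : eval ![-M1 0 1, M1 0 0] f = 0 := by rw [hf1]; ring
  have r2 : eval ![M1 1 1, -M1 1 0] f = 0 := by rw [hf1]; ring
  have r3 : eval ![M1 1 1 - M1 0 1, M1 0 0 - M1 1 0] f = 0 := by rw [hf1]; ring
  rw [hf2] at r1 r2 r3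
  have key : ∀ x y : k, c2 * ((M2 0 0 * x + M2 0 1 * y) ^ 2 * (M2 1 0 * x + M2 1 1 * y) ^ 2) = 0 →
      (M2 0 0 * x + M2 0 1 * y = 0) ∨ (M2 1 0 * x + M2 1 1 * y = 0) := by
    intro x y h
    rcases mul_eq_zero.mp h with h | h
    · exact absurd h hc2
    · rcases mul_eq_zero.mp h with h | h
      · exact Or.inl ((pow_eq_zero_iff (two_ne_zero)).mp h)
      · exact Or.inr ((pow_eq_zero_iff (two_ne_zero)).mp h)
  have c12 : (-M1 0 1) * (-M1 1 0) - M1 1 1 * M1 0 0 ≠ 0 := by
    intro h; apply hd1; linear_combination -h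
  have c13 : (-M1 0 1) * (M1 0 0 - M1 1 0) - (M1 1 1 - M1 0 1) * M1 0 0 ≠ 0 := by
    intro h; apply hd1; linear_combination -h
  have c23 : M1 1 1 * (M1 0 0 - M1 1 0) - (M1 1 1 - M1 0 1) * (-M1 1 0) ≠ 0 := by
    intro h; apply hd1; linear_combination h
  rcases key _ _ r1 with a1 | a1 <;> rcases key _ _ r2 with a2 | a2 <;>
    rcases key _ _ r3 with a3 | a3
  · obtain ⟨z0, z1⟩ := row_zero _ _ _ _ _ _ a1 a2 c12
    apply hd2; rw [z0, z1]; ring
  · obtain ⟨z0, z1⟩ := row_zero _ _ _ _ _ _ a1 a2 c12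
    apply hd2; rw [z0, z1]; ring
  · obtain ⟨z0, z1⟩ := row_zero _ _ _ _ _ _ a1 a3 c13
    apply hd2; rw [z0, z1]; ring
  · obtain ⟨z0, z1⟩ := row_zero _ _ _ _ _ _ a2 a3 c23
    apply hd2; rw [z0, z1]; ring
  · obtain ⟨z0, z1⟩ := row_zero _ _ _ _ _ _ a2 a3 c23
    apply hd2; rw [z0, z1]; ring
  · obtain ⟨z0, z1⟩ := row_zero _ _ _ _ _ _ a1 a3 c13
    apply hd2; rw [z0, z1]; ring
  · obtain ⟨z0, z1⟩ := row_zero _ _ _ _ _ _ a1 a2 c12
    apply hd2; rw [z0, z1]; ring
  · obtain ⟨z0, z1⟩ := row_zero _ _ _ _ _ _ a1 a2 c12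
    apply hd2; rw [z0, z1]; ring

/-- linear form of a root point -/
noncomputable def ell (la mu : Fin 4 → k) (x : Fin 4) : MvPolynomial (Fin 2) k :=
  C (mu x) * X 0 - C (la x) * X 1

lemma lin_eq_ell (la mu : Fin 4 → k) (x : Fin 4) : lin (mu x) (-la x) = ell la mu x := by
  simp [lin, ell]; ring

lemma prod_four {α : Type*} [CommMonoid α] (g : Fin 4 → α) (i j c d : Fin 4) (hij : i ≠ j)
    (hic : i ≠ c) (hid : i ≠ d) (hjc : j ≠ c) (hjd : j ≠ d) (hcd : c ≠ d) :
    ∏ x, g x = g i * g j * g c * g d := by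
  have : (Finset.univ : Finset (Fin 4)) = {i, j, c, d} := by
    revert i j c d; decide
  rw [this, Finset.prod_insert (by simp [hij, hic, hid]), Finset.prod_insert (by simp [hjc, hjd]),
    Finset.prod_insert (by simp [hcd]), Finset.prod_singleton]
  simp only [mul_assoc]

lemma exists_compl : ∀ i j : Fin 4, i < j → ∃ c d : Fin 4, i ≠ j ∧ i ≠ c ∧ i ≠ d ∧ j ≠ c ∧
    j ≠ d ∧ c ≠ d := by decide

lemma prop_scalar (la mu : Fin 4 → k) (i j : Fin 4) (hi : la i ≠ 0 ∨ mu i ≠ 0)
    (hj : la j ≠ 0 ∨ mu j ≠ 0) (h : la i * mu j = la j * mu i) :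
    ∃ t : k, t ≠ 0 ∧ la j = t * la i ∧ mu j = t * mu i := by
  by_cases hm : mu i = 0
  · have hli : la i ≠ 0 := by
      rcases hi with h' | h'
      · exact h'
      · exact absurd hm h'
    have hmj : mu j = 0 := by
      rw [hm, mul_zero] at h
      rcases mul_eq_zero.mp h with h' | h'
      · exact absurd h' hli
      · exact h'
    have hlj : la j ≠ 0 := by
      rcases hj with h' | h'
      · exact h'
      · exact absurd hmj h'
    refine ⟨la j / la i, div_ne_zero hlj hli, ?_, ?_⟩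
    · field_simp
    · rw [hm, hmj, mul_zero]
  · have hmj : mu j ≠ 0 := by
      intro hmj
      rw [hmj, mul_zero] at h
      rcases mul_eq_zero.mp h.symm with h' | h'
      · rcases hj with h'' | h''
        · exact h'' h'
        · exact h'' hmj
      · exact hm h'
    refine ⟨mu j / mu i, div_ne_zero hmj hm, ?_, ?_⟩
    · field_simp
      linear_combination -h
    · field_simp

lemma ell_of_scalar (la mu : Fin 4 → k) (i j : Fin 4) (t : k) (h1 : la j = t * la i)
    (h2 : mu j = t * mu i) : ell la mu j = C t * ell la mu i := by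
  simp only [ell, h1, h2, map_mul]
  ring

theorem exists_form (la mu : Fin 4 → k)
    (hne : ∀ i, la i ≠ 0 ∨ mu i ≠ 0) (hd : W4c6intromoduli.disc la mu = 0)
    (h3z : ∀ i j l : Fin 4, i ≠ j → j ≠ l → i ≠ l →
      ¬ (la i * mu j = la j * mu i ∧ la j * mu l = la l * mu j)) :
    (∃ (M : Matrix (Fin 2) (Fin 2) k) (c : k), IsUnit M.det ∧ c ≠ 0 ∧
        W4c6intromoduli.binForm la mu =
          MvPolynomial.C c * W4c6intromoduli.subst M
            (MvPolynomial.X 0 ^ 2 * MvPolynomial.X 1 * (MvPolynomial.X 0 - MvPolynomial.X 1))) ∨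
      (∃ (M : Matrix (Fin 2) (Fin 2) k) (c : k), IsUnit M.det ∧ c ≠ 0 ∧
        W4c6intromoduli.binForm la mu =
          MvPolynomial.C c * W4c6intromoduli.subst M
            (MvPolynomial.X 0 ^ 2 * MvPolynomial.X 1 ^ 2)) := by
  classical
  -- a proportional pair
  obtain ⟨⟨i, j⟩, hp, hprop⟩ : ∃ p : Fin 4 × Fin 4, p.1 < p.2 ∧
      la p.2 * mu p.1 - la p.1 * mu p.2 = 0 := by
    rw [W4c6intromoduli.disc, Finset.prod_eq_zero_iff] at hd
    obtain ⟨p, hp, hp0⟩ := hd
    exact ⟨p, (Finset.mem_filter.mp hp).2, (pow_eq_zero_iff two_ne_zero).mp hp0⟩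
  simp only at hp hprop
  obtain ⟨c, d, hij, hic, hid, hjc, hjd, hcd⟩ := exists_compl i j hp
  have hij' : la i * mu j = la j * mu i := by linear_combination -hprop
  have hji' : la j * mu i = la i * mu j := hij'.symm
  obtain ⟨t, ht0, ht1, ht2⟩ := prop_scalar la mu i j (hne i) (hne j) hij'
  have hej := ell_of_scalar la mu i j t ht1 ht2
  have hform : W4c6intromoduli.binForm la mu =
      ell la mu i * ell la mu j * ell la mu c * ell la mu d :=
    prod_four (fun x => C (mu x) * X 0 - C (la x) * X 1) i j c d hij hic hid hjc hjd hcd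
  -- non-proportionalities
  have hicn : la i * mu c ≠ la c * mu i := fun h => h3z j i c hij.symm hic hjc ⟨hji', h⟩
  have hidn : la i * mu d ≠ la d * mu i := fun h => h3z j i d hij.symm hid hjd ⟨hji', h⟩
  have hD : la i * mu c - la c * mu i ≠ 0 := sub_ne_zero.mpr hicn
  by_cases hcdp : la c * mu d = la d * mu c
  · -- two double zeros
    right
    obtain ⟨t', ht'0, ht'1, ht'2⟩ := prop_scalar la mu c d (hne c) (hne d) hcdp
    have hed := ell_of_scalar la mu c d t' ht'1 ht'2
    refine ⟨!![mu i, -la i; mu c, -la c], t * t', ?_, mul_ne_zero ht0 ht'0, ?_⟩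
    · rw [Matrix.det_fin_two_of, isUnit_iff_ne_zero]
      intro h
      apply hD
      linear_combination h
    · rw [subst_B, hform, hej, hed]
      simp only [Matrix.of_apply, Matrix.cons_val', Matrix.cons_val_zero, Matrix.cons_val_one,
        Matrix.cons_val_fin_one, lin_eq_ell, map_mul]
      ring
  · -- one double zero and two simple zeros
    left
    set D := la i * mu c - la c * mu i with hDdef
    set α := (la d * mu c - la c * mu d) / D with hα
    set β := (la i * mu d - la d * mu i) / D with hβ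
    have hα0 : α ≠ 0 := by
      rw [hα]
      apply div_ne_zero _ hD
      intro h
      apply hcdp
      linear_combination -h
    have hβ0 : β ≠ 0 := by
      rw [hβ]
      apply div_ne_zero _ hD
      intro h
      apply hidn
      linear_combination h
    have hla : la d = α * la i + β * la c := by
      rw [hα, hβ]
      field_simp
      rw [hDdef]
      ring
    have hmu : mu d = α * mu i + β * mu c := by
      rw [hα, hβ]
      field_simp
      rw [hDdef]
      ring
    have hed : ell la mu d = C α * ell la mu i + C β * ell la mu c := by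
      simp only [ell]
      rw [hla, hmu]
      simp only [map_add, map_mul]
      ring
    have hw : -(α ^ 2 * β) ≠ 0 := neg_ne_zero.mpr (mul_ne_zero (pow_ne_zero 2 hα0) hβ0)
    refine ⟨!![α * mu i, -(α * la i); -(β * mu c), β * la c], t / (-(α ^ 2 * β)), ?_,
      div_ne_zero ht0 hw, ?_⟩
    · rw [Matrix.det_fin_two_of, isUnit_iff_ne_zero]
      intro h
      have : α * β * D = 0 := by rw [hDdef]; linear_combination -h
      rcases mul_eq_zero.mp this with h' | h'
      · rcases mul_eq_zero.mp h' with h'' | h''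
        · exact hα0 h''
        · exact hβ0 h''
      · exact hD h'
    · have hL0 : lin (α * mu i) (-(α * la i)) = C α * ell la mu i := by
        simp only [lin, ell, map_mul, map_neg]; ring
      have hL1 : lin (-(β * mu c)) (β * la c) = -(C β * ell la mu c) := by
        simp only [lin, ell, map_mul, map_neg]; ring
      have hG : W4c6intromoduli.subst !![α * mu i, -(α * la i); -(β * mu c), β * la c]
          (X 0 ^ 2 * X 1 * (X 0 - X 1)) =
          C (-(α ^ 2 * β)) * (ell la mu i ^ 2 * ell la mu c * ell la mu d) := by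
        rw [subst_A]
        simp only [Matrix.of_apply, Matrix.cons_val', Matrix.cons_val_zero, Matrix.cons_val_one,
          Matrix.cons_val_fin_one, hL0, hL1, hed, map_neg, map_mul, map_pow]
        ring
      have hF : W4c6intromoduli.binForm la mu =
          C t * (ell la mu i ^ 2 * ell la mu c * ell la mu d) := by
        rw [hform, hej]; ring
      have hC : (C t : MvPolynomial (Fin 2) k) = C (t / -(α ^ 2 * β)) * C (-(α ^ 2 * β)) := by
        rw [← C_mul, div_mul_cancel₀ _ hw]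
      rw [hG, hF, hC]
      ring

theorem result (k : Type u) [Field k]
    (h2 : (2 : k) ≠ 0) (h3 : (3 : k) ≠ 0) (la mu : Fin 4 → k)
    (hne : ∀ i, la i ≠ 0 ∨ mu i ≠ 0) (hd : W4c6intromoduli.disc la mu = 0)
    (h3z : ∀ i j l : Fin 4, i ≠ j → j ≠ l → i ≠ l →
      ¬ (la i * mu j = la j * mu i ∧ la j * mu l = la l * mu j)) :
    Xor
      (∃ (M : Matrix (Fin 2) (Fin 2) k) (c : k), IsUnit M.det ∧ c ≠ 0 ∧
        W4c6intromoduli.binForm la mu =
          MvPolynomial.C c * W4c6intromoduli.subst M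
            (MvPolynomial.X 0 ^ 2 * MvPolynomial.X 1 * (MvPolynomial.X 0 - MvPolynomial.X 1)))
      (∃ (M : Matrix (Fin 2) (Fin 2) k) (c : k), IsUnit M.det ∧ c ≠ 0 ∧
        W4c6intromoduli.binForm la mu =
          MvPolynomial.C c * W4c6intromoduli.subst M
            (MvPolynomial.X 0 ^ 2 * MvPolynomial.X 1 ^ 2)) := by
  have hex := exists_form la mu hne hd h3z
  have hnot : ∀ (hl : ∃ (M : Matrix (Fin 2) (Fin 2) k) (c : k), IsUnit M.det ∧ c ≠ 0 ∧
        W4c6intromoduli.binForm la mu =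
          MvPolynomial.C c * W4c6intromoduli.subst M
            (MvPolynomial.X 0 ^ 2 * MvPolynomial.X 1 * (MvPolynomial.X 0 - MvPolynomial.X 1)))
      (hr : ∃ (M : Matrix (Fin 2) (Fin 2) k) (c : k), IsUnit M.det ∧ c ≠ 0 ∧
        W4c6intromoduli.binForm la mu =
          MvPolynomial.C c * W4c6intromoduli.subst M
            (MvPolynomial.X 0 ^ 2 * MvPolynomial.X 1 ^ 2)), False := by
    rintro ⟨M1, c1, hM1, -, h1⟩ ⟨M2, c2, hM2, hc2, h2'⟩
    exact exclusive _ M1 c1 hM1 h1 M2 c2 hM2 hc2 h2'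
  rcases hex with hl | hr
  · exact Or.inl ⟨hl, fun hr => hnot hl hr⟩
  · exact Or.inr ⟨hr, fun hl => hnot hl hr⟩

end Groth.Agent.S20025
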