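import Groth.Statements.S2006
import Groth.Agent.Lib.Helper28.BL
import Mathlib.RingTheory.Localization.Finiteness
import Mathlib.LinearAlgebra.TensorProduct.Finiteness
import Mathlib.RingTheory.TensorProduct.Finite
-- import your own Groth.Agent.* helpers here

set_option autoImplicit false
universe u
open TensorProduct
open EtAlg

namespace Groth.Agent.S2006

/-- Let R -> R' induce bijections R/f^n R -> R'/f^n R' for all n > 0 and let M be an R-module. Then M is
finitely generated if and only if R' ⊗_R M is finitely generated over R' and M_f is finitely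
generated over R_f. -/
theorem result (R R' : Type u) [CommRing R] [CommRing R'] [Algebra R R'] (f : R)
    (hq : EtGlue.QuotPowBijective R R' f) (M : Type u) [AddCommGroup M] [Module R M] :
    Module.Finite R M ↔ Module.Finite R' (R' ⊗[R] M) ∧
      Module.Finite (Localization.Away f) (LocalizedModule (Submonoid.powers f) M) := by
  constructor
  · intro h
    exact ⟨inferInstance, inferInstance⟩
  · rintro ⟨h1, h2⟩
    classical
    obtain ⟨t, ht⟩ := h1.fg_top
    obtain ⟨N₁, hN₁, htN₁⟩ := TensorProduct.exists_finite_submodule_right_of_setFinite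
      (t : Set (R' ⊗[R] M)) t.finite_toSet
    obtain ⟨t2, ht2⟩ := h2.fg_top
    have hsurj := fun y : LocalizedModule (Submonoid.powers f) M =>
      IsLocalizedModule.surj (Submonoid.powers f) (LocalizedModule.mkLinearMap (Submonoid.powers f) M) y
    choose g hg using hsurj
    let S₂ : Finset M := t2.image (fun y => (g y).1)
    let N₂ : Submodule R M := Submodule.span R (S₂ : Set M)
    let N : Submodule R M := N₁ ⊔ N₂
    have hNfg : N.FG := Submodule.FG.sup (Module.Finite.iff_fg.mp hN₁) (Submodule.fg_span S₂.finite_toSet)
    suffices hN : N = ⊤ by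
      rw [hN] at hNfg
      exact ⟨hNfg⟩
    have hT : ∀ q : M ⧸ N, ∃ n : ℕ, f ^ n • q = 0 := by
      intro q
      obtain ⟨m, rfl⟩ := N.mkQ_surjective q
      have hm : LocalizedModule.mkLinearMap (Submonoid.powers f) M m ∈
          Submodule.span (Localization.Away f)
            ((LocalizedModule.mkLinearMap (Submonoid.powers f) M) '' (S₂ : Set M)) := by
        have htop : Submodule.span (Localization.Away f)
            ((LocalizedModule.mkLinearMap (Submonoid.powers f) M) '' (S₂ : Set M)) = ⊤ := by
          rw [eq_top_iff, ← ht2, Submodule.span_le]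
          intro y hy
          have hy1 : (g y).1 ∈ (S₂ : Set M) := by
            simp only [S₂, Finset.coe_image]
            exact ⟨y, hy, rfl⟩
          have hy2 : LocalizedModule.mkLinearMap (Submonoid.powers f) M (g y).1 ∈
              Submodule.span (Localization.Away f)
                ((LocalizedModule.mkLinearMap (Submonoid.powers f) M) '' (S₂ : Set M)) :=
            Submodule.subset_span ⟨_, hy1, rfl⟩
          rw [← hg y] at hy2
          have hu : IsUnit (algebraMap R (Localization.Away f) ((g y).2 : R)) :=
            IsLocalization.map_units _ (g y).2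
          have e : y = (hu.unit⁻¹ : (Localization.Away f)ˣ) • ((g y).2 • y) := by
            rw [Submonoid.smul_def, ← algebraMap_smul (Localization.Away f) ((g y).2 : R) y,
              Units.smul_def, ← mul_smul]
            rw [IsUnit.val_inv_mul, one_smul]
          rw [SetLike.mem_coe, e]
          exact Submodule.smul_mem _ _ hy2
        rw [htop]
        exact Submodule.mem_top
      obtain ⟨⟨_, k, rfl⟩, hk⟩ := multiple_mem_span_of_mem_localization_span (Submonoid.powers f)
        (Localization.Away f) _ _ hm
      rw [Submonoid.smul_def, ← map_smul, ← Submodule.map_span] at hk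
      obtain ⟨n, hn, hnk⟩ := hk
      obtain ⟨⟨_, k', rfl⟩, hk'⟩ := (IsLocalizedModule.eq_iff_exists (Submonoid.powers f)
        (LocalizedModule.mkLinearMap (Submonoid.powers f) M)).mp hnk
      simp only [Submonoid.smul_def] at hk'
      refine ⟨k' + k, ?_⟩
      rw [← map_smul, Submodule.mkQ_apply, Submodule.Quotient.mk_eq_zero, pow_add, mul_smul, ← hk']
      exact N.smul_mem _ ((le_sup_right : N₂ ≤ N) hn)
    have hker : ∀ w : R' ⊗[R] N₁, (N.mkQ.baseChange R') (LinearMap.lTensor R' N₁.subtype w) = 0 := by
      intro w
      induction w using TensorProduct.induction_on with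
      | zero => simp
      | tmul r n =>
        simp only [LinearMap.lTensor_tmul, Submodule.subtype_apply, LinearMap.baseChange_tmul,
          Submodule.mkQ_apply]
        rw [(Submodule.Quotient.mk_eq_zero N).mpr ((le_sup_left : N₁ ≤ N) n.2), tmul_zero]
      | add a b ha hb => rw [map_add, map_add, ha, hb, add_zero]
    have hzero : ∀ x : R' ⊗[R] M, (N.mkQ.baseChange R') x = 0 := by
      intro x
      have hx : x ∈ Submodule.span R' (t : Set (R' ⊗[R] M)) := by rw [ht]; exact Submodule.mem_top
      induction hx using Submodule.span_induction with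
      | mem x hx =>
        obtain ⟨w, rfl⟩ := htN₁ hx
        exact hker w
      | zero => simp
      | add a b _ _ ha hb => rw [map_add, ha, hb, add_zero]
      | smul c a _ ha => rw [map_smul, ha, smul_zero]
    rw [eq_top_iff]
    intro m _
    rw [← Submodule.Quotient.mk_eq_zero N]
    apply (Groth.Agent.Lib.Helper28.BL.factB hq hT).1
    show (1 : R') ⊗ₜ[R] (Submodule.Quotient.mk m : M ⧸ N) = (1 : R') ⊗ₜ[R] (0 : M ⧸ N)
    have := hzero ((1 : R') ⊗ₜ[R] m)
    rw [LinearMap.baseChange_tmul] at this
    rw [tmul_zero]
    exact this

end Groth.Agent.S2006
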