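import Groth.Statements.S2003
import Groth.Agent.S2002
import Groth.Agent.S2006
import Mathlib.RingTheory.Flat.EquationalCriterion
import Mathlib.RingTheory.LocalProperties.Projective
import Mathlib.Algebra.Module.FinitePresentation

set_option autoImplicit false
universe u
open TensorProduct
open EtAlg
namespace Groth.Agent.S2003

theorem finite_baseChange_ker {R : Type u} [CommRing R] (A : Type u) [CommRing A] [Algebra R A]
    {F M : Type u} [AddCommGroup F] [Module R F] [AddCommGroup M] [Module R M]
    [Module.Flat R M] [Module.Finite R F] (π : F →ₗ[R] M) (hπ : Function.Surjective π)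
    [Module.FinitePresentation A (A ⊗[R] M)] :
    Module.Finite A (A ⊗[R] (LinearMap.ker π)) := by
  have hinj : Function.Injective ((LinearMap.ker π).subtype.baseChange A) :=
    LinearMap.lTensor_injective_of_exact_of_flat π hπ (LinearMap.ker π).subtype
      (Submodule.injective_subtype _) (LinearMap.exact_subtype_ker_map π) A
  have hex : Function.Exact ((LinearMap.ker π).subtype.baseChange A) (π.baseChange A) :=
    lTensor_exact A (LinearMap.exact_subtype_ker_map π) hπ
  have hsurj : Function.Surjective (π.baseChange A) := LinearMap.lTensor_surjective A hπ
  have hfg : (LinearMap.ker (π.baseChange A)).FG :=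
    Module.FinitePresentation.fg_ker (π.baseChange A) hsurj
  have hrange : LinearMap.range ((LinearMap.ker π).subtype.baseChange A) =
      LinearMap.ker (π.baseChange A) := by
    ext y
    exact (hex y).symm
  refine ⟨?_⟩
  apply Submodule.fg_of_fg_map_injective ((LinearMap.ker π).subtype.baseChange A) hinj
  rw [Submodule.map_top, hrange]
  exact hfg

/-- Let (R -> R', f) be a glueing pair and M any R-module. Then M is finite projective over R exactly
when both of its base changes are: R' ⊗_R M over R', and M_f over R_f. -/
theorem result (R R' : Type u) [CommRing R] [CommRing R'] [Algebra R R'] (f : R)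
    (hRR : EtGlue.IsGlueingPair R R' f) (M : Type u) [AddCommGroup M] [Module R M] :
    (Module.Finite R M ∧ Module.Projective R M) ↔
      (Module.Finite R' (R' ⊗[R] M) ∧ Module.Projective R' (R' ⊗[R] M)) ∧
      (Module.Finite (Localization.Away f) (LocalizedModule (Submonoid.powers f) M) ∧
        Module.Projective (Localization.Away f) (LocalizedModule (Submonoid.powers f) M)) := by
  constructor
  · rintro ⟨h1, h2⟩
    exact ⟨⟨inferInstance, inferInstance⟩, ⟨inferInstance, inferInstance⟩⟩
  · rintro ⟨⟨h1, h2⟩, ⟨h3, h4⟩⟩
    have hfin : Module.Finite R M := (Groth.Agent.S2006.result R R' f hRR.1 M).mpr ⟨h1, h3⟩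
    have hflat : Module.Flat R M :=
      (Groth.Agent.S2002.result R R' f hRR M).mpr ⟨inferInstance, inferInstance⟩
    obtain ⟨n, π, hπ⟩ := Module.Finite.exists_fin' R M
    have hfp1 : Module.FinitePresentation R' (R' ⊗[R] M) :=
      Module.finitePresentation_of_projective _ _
    have hfp2 : Module.FinitePresentation (Localization.Away f) (Localization.Away f ⊗[R] M) := by
      have e := (LocalizedModule.equivTensorProduct (Submonoid.powers f) M)
      have : Module.Finite (Localization.Away f) (Localization.Away f ⊗[R] M) :=
        Module.Finite.equiv e
      have : Module.Projective (Localization.Away f) (Localization.Away f ⊗[R] M) :=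
        Module.Projective.of_equiv e
      exact Module.finitePresentation_of_projective _ _
    have hK1 : Module.Finite R' (R' ⊗[R] (LinearMap.ker π)) := finite_baseChange_ker R' π hπ
    have hK2 : Module.Finite (Localization.Away f) (Localization.Away f ⊗[R] (LinearMap.ker π)) :=
      finite_baseChange_ker (Localization.Away f) π hπ
    have hK3 : Module.Finite (Localization.Away f)
        (LocalizedModule (Submonoid.powers f) (LinearMap.ker π)) :=
      Module.Finite.equiv (LocalizedModule.equivTensorProduct (Submonoid.powers f) (LinearMap.ker π)).symm
    have hK : Module.Finite R (LinearMap.ker π) :=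
      (Groth.Agent.S2006.result R R' f hRR.1 (LinearMap.ker π)).mpr ⟨hK1, hK3⟩
    have hfp : Module.FinitePresentation R M :=
      Module.finitePresentation_of_surjective π hπ (Module.Finite.iff_fg.mp hK)
    exact ⟨hfin, Module.Flat.projective_of_finitePresentation⟩

end Groth.Agent.S2003
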