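import Groth.Statements.S2007
import Groth.Agent.Lib.Helper28.FG

set_option autoImplicit false
universe u
open TensorProduct
open EtAlg
namespace Groth.Agent.S2007

open Groth.Agent.Lib.Helper28.FG

section Aux

variable {R S : Type u} [CommRing R] [CommRing S] [Algebra R S] [Module.Flat R S] {I : Ideal R}
  (hq : Function.Bijective (Ideal.quotientMap (I.map (algebraMap R S)) (algebraMap R S) Ideal.le_comap_map))

/-- multiplication map `S ⊗ T → T` for an `S`-module `T`. -/
noncomputable def mult (T : Type u) [AddCommGroup T] [Module R T] [Module S T] [IsScalarTower R S T] :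
    S ⊗[R] T →ₗ[S] T := LinearMap.liftBaseChange S (LinearMap.id : T →ₗ[R] T)

theorem mult_tmul (T : Type u) [AddCommGroup T] [Module R T] [Module S T] [IsScalarTower R S T]
    (s : S) (t : T) : mult (R := R) T (s ⊗ₜ[R] t) = s • t := by
  simp [mult]

include hq in
theorem mult_injective (T : Type u) [AddCommGroup T] [Module R T] [Module S T] [IsScalarTower R S T]
    (hT : ∀ t : T, ∃ n : ℕ, ∀ a ∈ I ^ n, a • t = 0) : Function.Injective (mult (R := R) (S := S) T) := by
  have hb := bijective_of_torsion hq T hT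
  rw [injective_iff_map_eq_zero]
  intro w hw
  obtain ⟨t, rfl⟩ := hb.2 w
  rw [TensorProduct.mk_apply, mult_tmul, one_smul] at hw
  rw [hw, map_zero]

end Aux

section Main

variable {R S : Type u} [CommRing R] [CommRing S] [Algebra R S] [Module.Flat R S] {I : Ideal R}
  (hq : Function.Bijective (Ideal.quotientMap (I.map (algebraMap R S)) (algebraMap R S) Ideal.le_comap_map))
  {N : Type u} [AddCommGroup N] [Module R N] {M' : Type u} [AddCommGroup M'] [Module S M']
  [Module R M'] [IsScalarTower R S M'] (φ : M' →ₗ[S] S ⊗[R] N)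

noncomputable def gMap : M' × N →ₗ[R] S ⊗[R] N :=
  (φ.restrictScalars R).coprod (-(TensorProduct.mk R S N 1))

noncomputable abbrev glued : Submodule R (M' × N) := LinearMap.ker (gMap φ)

theorem mem_glued (p : M' × N) : p ∈ glued φ ↔ φ p.1 = (1 : S) ⊗ₜ[R] p.2 := by
  simp [glued, gMap, sub_eq_zero, ← sub_eq_add_neg]

noncomputable def π₁ : glued φ →ₗ[R] M' := (LinearMap.fst R M' N) ∘ₗ (glued φ).subtype

noncomputable def π₂ : glued φ →ₗ[R] N := (LinearMap.snd R M' N) ∘ₗ (glued φ).subtype

theorem φ_π₁ (m : glued φ) : φ (π₁ φ m) = (1 : S) ⊗ₜ[R] (π₂ φ m) := (mem_glued φ m.1).mp m.2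

noncomputable def eMap : S ⊗[R] (glued φ) →ₗ[S] M' := LinearMap.liftBaseChange S (π₁ φ)

theorem eMap_tmul (s : S) (m : glued φ) : eMap φ (s ⊗ₜ[R] m) = s • π₁ φ m := by
  simp [eMap]

theorem φ_eMap (z : S ⊗[R] (glued φ)) : φ (eMap φ z) = (π₂ φ).baseChange S z := by
  induction z using TensorProduct.induction_on with
  | zero => simp
  | tmul s m =>
    rw [eMap_tmul, map_smul, φ_π₁, LinearMap.baseChange_tmul, smul_tmul', smul_eq_mul, mul_one]
  | add a b ha hb => rw [map_add, map_add, map_add, ha, hb]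

/-- the quotient `Q = (S ⊗ N) / range φ` and the map `ν : N → Q`. -/
noncomputable def νMap : N →ₗ[R] (S ⊗[R] N) ⧸ (LinearMap.range φ) :=
  ((LinearMap.range φ).mkQ.restrictScalars R) ∘ₗ (TensorProduct.mk R S N 1)

theorem mult_νMap (y : S ⊗[R] N) :
    mult (R := R) (S := S) ((S ⊗[R] N) ⧸ (LinearMap.range φ)) ((νMap φ).lTensor S y) =
      (LinearMap.range φ).mkQ y := by
  induction y using TensorProduct.induction_on with
  | zero => simp
  | tmul s n =>
    rw [LinearMap.lTensor_tmul, mult_tmul]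
    simp only [νMap, LinearMap.comp_apply, LinearMap.restrictScalars_apply, TensorProduct.mk_apply]
    rw [← map_smul, smul_tmul', smul_eq_mul, mul_one]
  | add a b ha hb => rw [map_add, map_add, map_add, ha, hb]

/-- the projection `glued → M₁ = ker ν`. -/
noncomputable def π₂' : glued φ →ₗ[R] LinearMap.ker (νMap φ) :=
  (π₂ φ).codRestrict (LinearMap.ker (νMap φ)) (by
    intro m
    rw [LinearMap.mem_ker]
    simp only [νMap, LinearMap.comp_apply, LinearMap.restrictScalars_apply, TensorProduct.mk_apply]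
    rw [← φ_π₁, Submodule.mkQ_apply, Submodule.Quotient.mk_eq_zero]
    exact ⟨_, rfl⟩)

theorem π₂'_surjective : Function.Surjective (π₂' φ) := by
  intro n
  have hn : νMap φ n.1 = 0 := n.2
  simp only [νMap, LinearMap.comp_apply, LinearMap.restrictScalars_apply, TensorProduct.mk_apply,
    Submodule.mkQ_apply, Submodule.Quotient.mk_eq_zero] at hn
  obtain ⟨x, hx⟩ := hn
  exact ⟨⟨(x, n.1), (mem_glued φ _).mpr hx⟩, Subtype.ext rfl⟩

/-- the inclusion `ker φ → glued`. -/
noncomputable def κMap : LinearMap.ker φ →ₗ[R] glued φ :=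
  LinearMap.codRestrict (glued φ)
    ((LinearMap.inl R M' N) ∘ₗ ((LinearMap.ker φ).subtype.restrictScalars R)) (by
    intro k
    rw [mem_glued]
    simp only [LinearMap.comp_apply, LinearMap.restrictScalars_apply, Submodule.subtype_apply,
      LinearMap.inl_apply, tmul_zero]
    exact k.2)

theorem exact_κ_π₂' : Function.Exact (κMap φ) (π₂' φ) := by
  intro m
  constructor
  · intro hm
    have h2 : π₂ φ m = 0 := congrArg Subtype.val hm
    have h1 : φ (π₁ φ m) = 0 := by rw [φ_π₁, h2, tmul_zero]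
    refine ⟨⟨π₁ φ m, h1⟩, ?_⟩
    apply Subtype.ext
    exact Prod.ext rfl h2.symm
  · rintro ⟨k, rfl⟩
    apply Subtype.ext
    rfl

theorem eMap_κ (w : S ⊗[R] (LinearMap.ker φ)) :
    eMap φ ((κMap φ).lTensor S w) = ((mult (R := R) (S := S) (LinearMap.ker φ) w : LinearMap.ker φ) : M') := by
  induction w using TensorProduct.induction_on with
  | zero => simp
  | tmul s k =>
    rw [LinearMap.lTensor_tmul, eMap_tmul, mult_tmul]
    rfl
  | add a b ha hb =>
    rw [map_add, map_add, map_add, ha, hb]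
    rfl

end Main

section Bij

variable {R S : Type u} [CommRing R] [CommRing S] [Algebra R S] [Module.Flat R S] {I : Ideal R}
  (hq : Function.Bijective (Ideal.quotientMap (I.map (algebraMap R S)) (algebraMap R S) Ideal.le_comap_map))
  {N : Type u} [AddCommGroup N] [Module R N] {M' : Type u} [AddCommGroup M'] [Module S M']
  [Module R M'] [IsScalarTower R S M'] (φ : M' →ₗ[S] S ⊗[R] N)
  (hker : ∀ x : M', φ x = 0 → ∃ n : ℕ, ∀ a ∈ I ^ n, a • x = 0)
  (hcoker : ∀ y : S ⊗[R] N, ∃ n : ℕ, ∀ a ∈ I ^ n, a • y ∈ LinearMap.range φ)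

include hq hker in
theorem eMap_injective : Function.Injective (eMap φ) := by
  rw [injective_iff_map_eq_zero]
  intro z hz
  have h1 : ((LinearMap.ker (νMap φ)).subtype.lTensor S) ((π₂' φ).lTensor S z) = 0 := by
    rw [← LinearMap.comp_apply, ← LinearMap.lTensor_comp]
    have : (LinearMap.ker (νMap φ)).subtype ∘ₗ (π₂' φ) = π₂ φ := by
      ext m
      rfl
    rw [this]
    have := φ_eMap φ z
    rw [hz, map_zero] at this
    exact this.symm
  have h2 : (π₂' φ).lTensor S z = 0 :=
    (Module.Flat.lTensor_preserves_injective_linearMap _ (Submodule.injective_subtype _))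
      (h1.trans (map_zero _).symm)
  have hex : Function.Exact ((κMap φ).lTensor S) ((π₂' φ).lTensor S) :=
    Module.Flat.lTensor_exact S (exact_κ_π₂' φ)
  obtain ⟨w, rfl⟩ := (hex z).mp h2
  rw [eMap_κ] at hz
  have hT : ∀ t : LinearMap.ker φ, ∃ n : ℕ, ∀ a ∈ I ^ n, a • t = 0 := by
    intro t
    obtain ⟨n, hn⟩ := hker t.1 t.2
    exact ⟨n, fun a ha => Subtype.ext (hn a ha)⟩
  have h3 : mult (R := R) (S := S) (LinearMap.ker φ) w = 0 := Subtype.ext hz
  have h4 := mult_injective hq (LinearMap.ker φ) hT (h3.trans (map_zero _).symm)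
  rw [h4, map_zero]

include hq hcoker in
theorem eMap_surjective : Function.Surjective (eMap φ) := by
  intro x
  have hT : ∀ t : (S ⊗[R] N) ⧸ (LinearMap.range φ), ∃ n : ℕ, ∀ a ∈ I ^ n, a • t = 0 := by
    intro t
    obtain ⟨y, rfl⟩ := (LinearMap.range φ).mkQ_surjective t
    obtain ⟨n, hn⟩ := hcoker y
    refine ⟨n, fun a ha => ?_⟩
    have := hn a ha
    rw [← algebraMap_smul S a ((LinearMap.range φ).mkQ y), ← map_smul, algebraMap_smul,
      Submodule.mkQ_apply, Submodule.Quotient.mk_eq_zero]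
    exact this
  have h1 : (νMap φ).lTensor S (φ x) = 0 := by
    apply mult_injective hq _ hT
    rw [mult_νMap, map_zero, Submodule.mkQ_apply, Submodule.Quotient.mk_eq_zero]
    exact ⟨x, rfl⟩
  have hex : Function.Exact ((LinearMap.ker (νMap φ)).subtype.lTensor S) ((νMap φ).lTensor S) :=
    Module.Flat.lTensor_exact S (LinearMap.exact_subtype_ker_map (νMap φ))
  obtain ⟨w, hw⟩ := (hex _).mp h1
  obtain ⟨z₀, rfl⟩ := LinearMap.lTensor_surjective S (π₂'_surjective φ) w
  have h2 : φ (x - eMap φ z₀) = 0 := by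
    rw [map_sub, φ_eMap, ← hw, ← LinearMap.comp_apply, ← LinearMap.lTensor_comp]
    have : (LinearMap.ker (νMap φ)).subtype ∘ₗ (π₂' φ) = π₂ φ := by
      ext m
      rfl
    rw [this]
    exact sub_self _
  refine ⟨z₀ + (1 : S) ⊗ₜ[R] (κMap φ ⟨x - eMap φ z₀, h2⟩), ?_⟩
  rw [map_add, eMap_tmul, one_smul]
  have : π₁ φ (κMap φ ⟨x - eMap φ z₀, h2⟩) = x - eMap φ z₀ := rfl
  rw [this]
  abel

include hq hker hcoker in
theorem main : ∃ (M : Type u) (_ : AddCommGroup M) (_ : Module R M) (ψ : M →ₗ[R] N)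
    (e : S ⊗[R] M ≃ₗ[S] M'), φ ∘ₗ e.toLinearMap = ψ.baseChange S := by
  refine ⟨glued φ, inferInstance, inferInstance, π₂ φ,
    LinearEquiv.ofBijective (eMap φ) ⟨eMap_injective hq φ hker, eMap_surjective hq φ hcoker⟩, ?_⟩
  apply LinearMap.ext
  intro z
  exact φ_eMap φ z

end Bij

/-- Let R -> S be a flat ring map and I a finitely generated ideal of R such that R/I -> S/IS is
bijective. Let N be an R-module, M' an S-module and φ : M' -> S ⊗_R N an S-linear map whose kernel
and cokernel are I-power torsion (every element of the kernel, resp. of the target modulo the image,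
is killed by some power of I). Then there are an R-module M, an R-linear map ψ : M -> N and an
S-isomorphism S ⊗_R M ≅ M' identifying φ with the base change of ψ. -/
theorem result (R S : Type u) [CommRing R] [CommRing S] [Algebra R S] [Module.Flat R S] (I : Ideal R)
    (hI : I.FG) (hq : Function.Bijective (Ideal.quotientMap (I.map (algebraMap R S)) (algebraMap R S) Ideal.le_comap_map))
    (N : Type u) [AddCommGroup N] [Module R N] (M' : Type u) [AddCommGroup M'] [Module S M'] (φ : M' →ₗ[S] S ⊗[R] N)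
    (hker : ∀ x : M', φ x = 0 → ∃ n : ℕ, ∀ a ∈ I ^ n, algebraMap R S a • x = 0)
    (hcoker : ∀ y : S ⊗[R] N, ∃ n : ℕ, ∀ a ∈ I ^ n, algebraMap R S a • y ∈ LinearMap.range φ) :
    ∃ (M : Type u) (_ : AddCommGroup M) (_ : Module R M) (ψ : M →ₗ[R] N) (e : S ⊗[R] M ≃ₗ[S] M'),
      φ ∘ₗ e.toLinearMap = ψ.baseChange S := by
  letI : Module R M' := Module.compHom M' (algebraMap R S)
  haveI : IsScalarTower R S M' := IsScalarTower.of_algebraMap_smul (fun _ _ => rfl)
  refine main hq φ hker ?_
  intro y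
  obtain ⟨n, hn⟩ := hcoker y
  refine ⟨n, fun a ha => ?_⟩
  have := hn a ha
  rwa [algebraMap_smul] at this

end Groth.Agent.S2007
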