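import Groth.Statements.S2008
import Mathlib.RingTheory.Flat.FaithfullyFlat.Algebra
import Mathlib.RingTheory.TensorProduct.Quotient
import Mathlib.RingTheory.Spectrum.Prime.RingHom
import Mathlib.RingTheory.Flat.Stability
import Mathlib.Algebra.Module.Torsion.Basic
import Mathlib.Tactic.TFAE
-- import your own Groth.Agent.* helpers here

set_option autoImplicit false
universe u
open TensorProduct
open EtAlg

namespace Groth.Agent.S2008

section Aux

variable {R S : Type u} [CommRing R] [CommRing S] [Algebra R S] (I : Ideal R)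

theorem flat_quot [Module.Flat R S] :
    Module.Flat (R ⧸ I) (S ⧸ I.map (algebraMap R S)) :=
  Module.Flat.of_linearEquiv
    (Algebra.TensorProduct.quotIdealMapEquivQuotTensor S I).toLinearEquiv

theorem nontrivial_of_surj [Module.Flat R S]
    (hsurj : Function.Surjective (PrimeSpectrum.comap (Ideal.quotientMap (I.map (algebraMap R S))
      (algebraMap R S) Ideal.le_comap_map)))
    (M : Type u) [AddCommGroup M] [Module R M] (hM : ∀ (a : R) (m : M), a ∈ I → a • m = 0)
    [Nontrivial M] : Nontrivial (S ⊗[R] M) := by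
  obtain ⟨m, hm⟩ := exists_ne (0 : M)
  let J : Ideal R := LinearMap.ker (LinearMap.toSpanSingleton R M m)
  have hJmem : ∀ r : R, r ∈ J ↔ r • m = 0 := by
    intro r
    simp [J, LinearMap.mem_ker, LinearMap.toSpanSingleton_apply]
  have hJ : J ≠ ⊤ := by
    intro h
    have : (1 : R) ∈ J := by rw [h]; exact Submodule.mem_top
    rw [hJmem, one_smul] at this
    exact hm this
  have hIJ : I ≤ J := fun a ha => (hJmem a).mpr (hM a m ha)
  obtain ⟨p, hp, hJp⟩ := Ideal.exists_le_maximal J hJ
  have hIp : I ≤ p := hIJ.trans hJp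
  have hpprime : (p.map (Ideal.Quotient.mk I)).IsPrime :=
    Ideal.map_isPrime_of_surjective Ideal.Quotient.mk_surjective (by rw [Ideal.mk_ker]; exact hIp)
  obtain ⟨qbar, hqbar⟩ := hsurj ⟨p.map (Ideal.Quotient.mk I), hpprime⟩
  let q : Ideal S := qbar.asIdeal.comap (Ideal.Quotient.mk (I.map (algebraMap R S)))
  have hqprime : q.IsPrime := Ideal.comap_isPrime _ _
  have hpq : p.map (algebraMap R S) ≤ q := by
    rw [Ideal.map_le_iff_le_comap]
    intro r hr
    have h1 : Ideal.Quotient.mk I r ∈ (PrimeSpectrum.comap (Ideal.quotientMap (I.map (algebraMap R S))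
      (algebraMap R S) Ideal.le_comap_map) qbar).asIdeal := by
      rw [hqbar]
      exact Ideal.mem_map_of_mem _ hr
    rw [PrimeSpectrum.comap_asIdeal, Ideal.mem_comap, Ideal.quotientMap_mk] at h1
    exact h1
  have hJS : J.map (algebraMap R S) ≠ ⊤ := by
    intro h
    have : q = ⊤ := top_le_iff.mp (h ▸ (Ideal.map_mono hJp).trans hpq)
    exact hqprime.ne_top this
  have hnt : Nontrivial (S ⧸ J.map (algebraMap R S)) := Ideal.Quotient.nontrivial_iff.mpr hJS
  have hnt2 : Nontrivial (S ⊗[R] (R ⧸ J)) :=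
    (Algebra.TensorProduct.quotIdealMapEquivTensorQuot S J).symm.toEquiv.nontrivial
  let ι : R ⧸ J →ₗ[R] M := Submodule.liftQ J (LinearMap.toSpanSingleton R M m) le_rfl
  have hι : Function.Injective ι := by
    rw [← LinearMap.ker_eq_bot]
    exact Submodule.ker_liftQ_eq_bot _ _ _ le_rfl
  have hinj : Function.Injective (ι.lTensor S) :=
    Module.Flat.lTensor_preserves_injective_linearMap ι hι
  exact hinj.nontrivial

theorem nontrivial_of_torsion [Module.Flat R S]
    (h3 : ∀ (M : Type u) [AddCommGroup M] [Module R M], (∀ (a : R) (m : M), a ∈ I → a • m = 0) →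
        Nontrivial M → Nontrivial (S ⊗[R] M))
    (M : Type u) [AddCommGroup M] [Module R M] (hM : ∀ m : M, ∃ n : ℕ, ∀ a ∈ I ^ n, a • m = 0)
    [Nontrivial M] : Nontrivial (S ⊗[R] M) := by
  classical
  obtain ⟨m, hm⟩ := exists_ne (0 : M)
  have hex := hM m
  have hn0 : Nat.find hex ≠ 0 := by
    intro h0
    have := Nat.find_spec hex
    rw [h0, pow_zero] at this
    have h1 := this 1 (by simp)
    rw [one_smul] at h1
    exact hm h1
  obtain ⟨k, hk⟩ := Nat.exists_eq_succ_of_ne_zero hn0
  have hmin : ¬ (∀ a ∈ I ^ k, a • m = 0) := Nat.find_min hex (by omega)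
  rw [not_forall] at hmin
  obtain ⟨a, ha⟩ := hmin
  rw [Classical.not_imp] at ha
  obtain ⟨ha, ham⟩ := ha
  let N : Submodule R M := Submodule.torsionBySet R M (I : Set R)
  have hmem : a • m ∈ N := by
    rw [Submodule.mem_torsionBySet_iff]
    rintro ⟨b, hb⟩
    rw [← mul_smul]
    apply Nat.find_spec hex
    rw [hk, Nat.succ_eq_add_one, pow_succ']
    exact Ideal.mul_mem_mul hb ha
  have hNnt : Nontrivial N := ⟨⟨⟨a • m, hmem⟩, 0, fun h => ham (congrArg Subtype.val h)⟩⟩
  have hNk : ∀ (b : R) (x : N), b ∈ I → b • x = 0 := by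
    intro b x hb
    apply Subtype.ext
    have := (Submodule.mem_torsionBySet_iff (I : Set R) x.1).mp x.2 ⟨b, hb⟩
    simpa using this
  have := h3 N hNk hNnt
  have hinj : Function.Injective (N.subtype.lTensor S) :=
    Module.Flat.lTensor_preserves_injective_linearMap _ N.injective_subtype
  exact hinj.nontrivial

theorem surj_of_torsion
    (h4 : ∀ (M : Type u) [AddCommGroup M] [Module R M], (∀ m : M, ∃ n : ℕ, ∀ a ∈ I ^ n, a • m = 0) →
        Nontrivial M → Nontrivial (S ⊗[R] M)) :
    Function.Surjective (PrimeSpectrum.comap (Ideal.quotientMap (I.map (algebraMap R S))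
      (algebraMap R S) Ideal.le_comap_map)) := by
  intro pbar
  let p : PrimeSpectrum R := PrimeSpectrum.comap (Ideal.Quotient.mk I) pbar
  have hIp : I ≤ p.asIdeal := by
    intro a ha
    rw [PrimeSpectrum.comap_asIdeal, Ideal.mem_comap, Ideal.Quotient.eq_zero_iff_mem.mpr ha]
    exact Ideal.zero_mem _
  have htors : ∀ x : p.asIdeal.ResidueField, ∃ n : ℕ, ∀ a ∈ I ^ n, a • x = 0 := by
    intro x
    refine ⟨1, fun a ha => ?_⟩
    rw [pow_one] at ha
    rw [Algebra.smul_def, (Ideal.algebraMap_residueField_eq_zero).mpr (hIp ha), zero_mul]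
  have hnt := h4 p.asIdeal.ResidueField htors inferInstance
  have hnt' : Nontrivial (p.asIdeal.ResidueField ⊗[R] S) :=
    (TensorProduct.comm R _ _).toEquiv.nontrivial
  obtain ⟨q, hq⟩ := (PrimeSpectrum.nontrivial_iff_mem_rangeComap p).mp hnt'
  have hISq : I.map (algebraMap R S) ≤ q.asIdeal := by
    rw [Ideal.map_le_iff_le_comap, ← PrimeSpectrum.comap_asIdeal, hq]
    exact hIp
  have hqprime : (q.asIdeal.map (Ideal.Quotient.mk (I.map (algebraMap R S)))).IsPrime :=
    Ideal.map_isPrime_of_surjective Ideal.Quotient.mk_surjective (by rw [Ideal.mk_ker]; exact hISq)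
  refine ⟨⟨_, hqprime⟩, ?_⟩
  apply PrimeSpectrum.ext
  ext x
  obtain ⟨r, rfl⟩ := Ideal.Quotient.mk_surjective x
  rw [PrimeSpectrum.comap_asIdeal, Ideal.mem_comap, Ideal.quotientMap_mk]
  have h1 : Ideal.Quotient.mk (I.map (algebraMap R S)) (algebraMap R S r) ∈
      q.asIdeal.map (Ideal.Quotient.mk (I.map (algebraMap R S))) ↔ algebraMap R S r ∈ q.asIdeal := by
    rw [← Ideal.mem_comap, Ideal.comap_map_of_surjective _ Ideal.Quotient.mk_surjective,
      ← RingHom.ker_eq_comap_bot, Ideal.mk_ker, sup_eq_left.mpr hISq]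
  rw [h1]
  have h2 : algebraMap R S r ∈ q.asIdeal ↔ r ∈ p.asIdeal := by
    rw [← hq, PrimeSpectrum.comap_asIdeal, Ideal.mem_comap]
  rw [h2, PrimeSpectrum.comap_asIdeal, Ideal.mem_comap]

end Aux

/-- For a ring map R -> S and an ideal I of R the following are equivalent: (1) S is flat over R and
S/IS is faithfully flat over R/I; (2) S is flat over R and Spec(S/IS) -> Spec(R/I) is surjective;
(3) S is flat over R and S ⊗_R M is nonzero for every nonzero R-module M killed by I; (4) S is flat
over R and S ⊗_R M is nonzero for every nonzero I-power torsion R-module M. (Faithfulness of base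
change on these subcategories is stated as detection of nonzero objects, which is equivalent for an
exact functor.) -/
theorem result (R S : Type u) [CommRing R] [CommRing S] [Algebra R S] (I : Ideal R) :
    List.TFAE [
      Module.Flat R S ∧ Module.FaithfullyFlat (R ⧸ I) (S ⧸ I.map (algebraMap R S)),
      Module.Flat R S ∧ Function.Surjective (PrimeSpectrum.comap (Ideal.quotientMap (I.map (algebraMap R S)) (algebraMap R S) Ideal.le_comap_map)),
      Module.Flat R S ∧ ∀ (M : Type u) [AddCommGroup M] [Module R M], (∀ (a : R) (m : M), a ∈ I → a • m = 0) →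
        Nontrivial M → Nontrivial (S ⊗[R] M),
      Module.Flat R S ∧ ∀ (M : Type u) [AddCommGroup M] [Module R M], (∀ m : M, ∃ n : ℕ, ∀ a ∈ I ^ n, a • m = 0) →
        Nontrivial M → Nontrivial (S ⊗[R] M)] := by
  tfae_have 1 ↔ 2 := by
    constructor
    · rintro ⟨h1, h2⟩
      exact ⟨h1, PrimeSpectrum.comap_surjective_of_faithfullyFlat⟩
    · rintro ⟨h1, h2⟩
      have := flat_quot (S := S) I
      exact ⟨h1, Module.FaithfullyFlat.of_comap_surjective h2⟩
  tfae_have 2 → 3 := by
    rintro ⟨h1, h2⟩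
    exact ⟨h1, fun M _ _ hM hnt => nontrivial_of_surj I h2 M hM⟩
  tfae_have 3 → 4 := by
    rintro ⟨h1, h3⟩
    exact ⟨h1, fun M _ _ hM hnt => nontrivial_of_torsion I h3 M hM⟩
  tfae_have 4 → 2 := by
    rintro ⟨h1, h4⟩
    exact ⟨h1, surj_of_torsion I h4⟩
  tfae_finish

end Groth.Agent.S2008
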