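import Groth.Statements.S2009
import Groth.Agent.Lib.Helper28.FG
import Mathlib.RingTheory.TensorProduct.Quotient
-- import your own Groth.Agent.* helpers here

set_option autoImplicit false
universe u
open TensorProduct
open EtAlg

namespace Groth.Agent.S2009

/-- Let R -> S be flat with S/IS faithfully flat over R/I. Then the natural map M -> S ⊗_R M is
bijective for every I-power torsion R-module M if and only if R/I -> S/IS is bijective. -/
theorem result (R S : Type u) [CommRing R] [CommRing S] [Algebra R S] (I : Ideal R)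
    [Module.Flat R S] [Module.FaithfullyFlat (R ⧸ I) (S ⧸ I.map (algebraMap R S))] :
    (∀ (M : Type u) [AddCommGroup M] [Module R M], (∀ m : M, ∃ n : ℕ, ∀ a ∈ I ^ n, a • m = 0) →
      Function.Bijective (TensorProduct.mk R S M 1)) ↔
    Function.Bijective (Ideal.quotientMap (I.map (algebraMap R S)) (algebraMap R S) Ideal.le_comap_map) := by
  constructor
  · intro h
    have hM : ∀ m : R ⧸ I, ∃ n : ℕ, ∀ a ∈ I ^ n, a • m = 0 := by
      intro m
      refine ⟨1, fun a ha => ?_⟩
      rw [pow_one] at ha
      obtain ⟨r, rfl⟩ := Ideal.Quotient.mk_surjective m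
      rw [Algebra.smul_def, Ideal.Quotient.algebraMap_eq, ← map_mul,
        Ideal.Quotient.eq_zero_iff_mem]
      exact I.mul_mem_right r ha
    have hb := h (R ⧸ I) hM
    have hcomp : ∀ x : R ⧸ I,
        (Algebra.TensorProduct.quotIdealMapEquivTensorQuot S I)
          (Ideal.quotientMap (I.map (algebraMap R S)) (algebraMap R S) Ideal.le_comap_map x) =
        TensorProduct.mk R S (R ⧸ I) 1 x := by
      intro x
      obtain ⟨r, rfl⟩ := Ideal.Quotient.mk_surjective x
      rw [Ideal.quotientMap_mk]
      change (algebraMap R S r) ⊗ₜ[R] (1 : R ⧸ I) = (1 : S) ⊗ₜ[R] (Ideal.Quotient.mk I r)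
      rw [Algebra.algebraMap_eq_smul_one, smul_tmul]
      congr 1
      rw [← Algebra.algebraMap_eq_smul_one]
      rfl
    have e := (Algebra.TensorProduct.quotIdealMapEquivTensorQuot S I).bijective
    have : (⇑(Algebra.TensorProduct.quotIdealMapEquivTensorQuot S I)) ∘
        ⇑(Ideal.quotientMap (I.map (algebraMap R S)) (algebraMap R S) Ideal.le_comap_map) =
        ⇑(TensorProduct.mk R S (R ⧸ I) 1) := funext hcomp
    rw [← this] at hb
    exact (Function.Bijective.of_comp_iff' e _).mp hb
  · intro hq M _ _ hM
    exact Groth.Agent.Lib.Helper28.FG.bijective_of_torsion hq M hM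

end Groth.Agent.S2009
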