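import Groth.Statements.S3432
import Mathlib
import Groth.Agent.Lib.Helper63.RigClosed

set_option autoImplicit false
open CategoryTheory AlgebraicGeometry
universe u
open EGA43

namespace Groth.Agent.S3432

open TopologicalSpace

theorem prime_eq_of_isLocallyClosed {A : Type u} [CommRing A] [IsNoetherianRing A]
    (p p' p'' : PrimeSpectrum A) (hp : IsLocallyClosed ({p} : Set (PrimeSpectrum A)))
    (h1 : p < p') (h2 : p' ≤ p'') : p' = p'' := by
  obtain ⟨U, Z, hU, hZ, hUZ⟩ := hp
  have hpU : p ∈ U := (hUZ.subset rfl).1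
  have hpZ : p ∈ Z := (hUZ.subset rfl).2
  obtain ⟨_, ⟨f, rfl⟩, hpf, hfU⟩ :=
    PrimeSpectrum.isTopologicalBasis_basic_opens.exists_subset_of_mem_open hpU hU
  have hfp : f ∉ p.asIdeal := hpf
  have key : ∀ P : PrimeSpectrum A, p < P → f ∈ P.asIdeal := by
    intro P hP
    by_contra hfP
    have hPU : P ∈ U := hfU hfP
    have hPZ : P ∈ Z := by
      have hsp : p ⤳ P := (PrimeSpectrum.le_iff_specializes p P).mp hP.le
      exact hsp.mem_closed hZ hpZ
    have : P ∈ ({p} : Set (PrimeSpectrum A)) := hUZ ▸ ⟨hPU, hPZ⟩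
    exact hP.ne' this
  have := p.isPrime
  let D := A ⧸ p.asIdeal
  let π : A →+* D := Ideal.Quotient.mk p.asIdeal
  have hπ : Function.Surjective π := Ideal.Quotient.mk_surjective
  have hf0 : π f ≠ 0 := by
    intro h
    exact hfp (Ideal.Quotient.eq_zero_iff_mem.mp h)
  have hall : ∀ Q : Ideal D, Q.IsPrime → Q ≠ ⊥ → π f ∈ Q := by
    intro Q hQ hQ0
    have hlt : p < ⟨Q.comap π, inferInstance⟩ := by
      refine lt_of_le_of_ne ?_ ?_
      · intro a ha
        show π a ∈ Q
        rw [Ideal.Quotient.eq_zero_iff_mem.mpr ha]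
        exact Q.zero_mem
      · intro heq
        apply hQ0
        rw [eq_bot_iff]
        intro d hd
        obtain ⟨a, rfl⟩ := hπ d
        have : a ∈ p.asIdeal := by
          rw [heq]
          exact hd
        rw [Ideal.Quotient.eq_zero_iff_mem.mpr this]
        exact Ideal.zero_mem _
    exact key _ hlt
  have hker : RingHom.ker π ≤ p'.asIdeal := by
    rw [Ideal.mk_ker]
    exact h1.le
  have hprime : (p'.asIdeal.map π).IsPrime := Ideal.map_isPrime_of_surjective hπ hker
  have hcomap : (p'.asIdeal.map π).comap π = p'.asIdeal := by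
    rw [Ideal.comap_map_of_surjective π hπ]
    have : Ideal.comap π ⊥ ≤ p'.asIdeal := hker
    exact sup_eq_left.mpr this
  have hne : p'.asIdeal.map π ≠ ⊥ := by
    intro h0
    have h3 : p'.asIdeal ≤ p.asIdeal := by
      rw [← hcomap, h0]
      intro a ha
      exact Ideal.Quotient.eq_zero_iff_mem.mp ha
    exact (not_le_of_gt h1) h3
  have hmax : (p'.asIdeal.map π).IsMaximal :=
    Groth.Agent.Lib.Helper63.RigClosed.isMaximal_of_forall_mem hf0 hall _ hprime hne
  have hmax' : p'.asIdeal.IsMaximal := by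
    rw [← hcomap]
    exact Ideal.comap_isMaximal_of_surjective π hπ
  have := hmax'.eq_of_le p''.isPrime.ne_top h2
  exact PrimeSpectrum.ext this

theorem isClosed_singleton_of_isLocallyClosed (X : Scheme.{u}) [IsLocallyNoetherian X] (Y : Set X)
    (hY : IsClosed Y) (hmeet : ∀ Z : Set X, IsClosed Z → Z.Nonempty → (Z ∩ Y).Nonempty)
    (u : ↥(Yᶜ)) (hu : IsLocallyClosed ({u} : Set ↥(Yᶜ))) : IsClosed ({u} : Set ↥(Yᶜ)) := by
  rw [← closure_subset_iff_isClosed]
  intro z hz
  by_contra hzu
  have hsp : u ⤳ z := specializes_iff_mem_closure.mpr hz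
  have hsp' : (u : X) ⤳ (z : X) := hsp.map continuous_subtype_val
  obtain ⟨y, hy1, hy2⟩ := hmeet (closure {(z : X)}) isClosed_closure ⟨z, subset_closure rfl⟩
  have hzy : (z : X) ⤳ y := specializes_iff_mem_closure.mpr hy1
  obtain ⟨_, ⟨V, hV, rfl⟩, hyV, -⟩ :=
    X.isBasis_affineOpens.exists_subset_of_mem_open (Set.mem_univ y) isOpen_univ
  replace hV : IsAffineOpen V := hV
  have hzV : (z : X) ∈ V := hzy.mem_open V.2 hyV
  have huV : (u : X) ∈ V := hsp'.mem_open V.2 hzV
  have : IsNoetherianRing Γ(X, V) := IsLocallyNoetherian.component_noetherian ⟨V, hV⟩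
  let pu : PrimeSpectrum Γ(X, V) := hV.primeIdealOf ⟨u, huV⟩
  let pz : PrimeSpectrum Γ(X, V) := hV.primeIdealOf ⟨z, hzV⟩
  let py : PrimeSpectrum Γ(X, V) := hV.primeIdealOf ⟨y, hyV⟩
  let φ : PrimeSpectrum Γ(X, V) → X := fun P => hV.fromSpec P
  have hφ : Topology.IsOpenEmbedding φ := hV.fromSpec.isOpenEmbedding
  have eu : φ pu = u := hV.fromSpec_primeIdealOf ⟨u, huV⟩
  have ez : φ pz = z := hV.fromSpec_primeIdealOf ⟨z, hzV⟩
  have ey : φ py = y := hV.fromSpec_primeIdealOf ⟨y, hyV⟩
  have h1 : pu ≤ pz := by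
    rw [PrimeSpectrum.le_iff_specializes, ← hφ.isInducing.specializes_iff, eu, ez]
    exact hsp'
  have h2 : pz ≤ py := by
    rw [PrimeSpectrum.le_iff_specializes, ← hφ.isInducing.specializes_iff, ez, ey]
    exact hzy
  have h1' : pu < pz := by
    refine lt_of_le_of_ne h1 ?_
    intro heq
    apply hzu
    have : (u : X) = z := by rw [← eu, ← ez, heq]
    exact (Subtype.ext this).symm
  have hlc : IsLocallyClosed ({pu} : Set (PrimeSpectrum Γ(X, V))) := by
    have h3 : IsLocallyClosed ({(u : X)} : Set X) := by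
      have := hu.image Topology.IsEmbedding.subtypeVal.isInducing
        (by rw [Subtype.range_coe]; exact hY.isOpen_compl.isLocallyClosed)
      rwa [Set.image_singleton] at this
    have h4 := h3.preimage hφ.continuous
    convert h4 using 1
    ext P
    simp only [Set.mem_singleton_iff, Set.mem_preimage]
    constructor
    · rintro rfl
      exact eu
    · intro h
      exact hφ.injective (h.trans eu.symm)
  have h5 := prime_eq_of_isLocallyClosed pu pz py hlc h1' h2
  have h6 : (z : X) = y := by rw [← ez, ← ey, h5]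
  exact z.2 (h6 ▸ hy2)

/-- Let X be a locally Noetherian scheme and Y a closed subset of X such that every nonempty closed
subset of X meets Y. Then the open subscheme X ∖ Y (equivalently, the subspace X ∖ Y) is a Jacobson
space. -/
theorem result (X : Scheme.{u}) [IsLocallyNoetherian X] (Y : Set X)
    (hY : IsClosed Y) (hmeet : ∀ Z : Set X, IsClosed Z → Z.Nonempty → (Z ∩ Y).Nonempty) :
    JacobsonSpace ↥(Yᶜ) := by
  rw [jacobsonSpace_iff_locallyClosed]
  rintro Z ⟨z₀, hz₀⟩ hZ
  obtain ⟨_, ⟨V, hV, rfl⟩, hzV, -⟩ :=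
    X.isBasis_affineOpens.exists_subset_of_mem_open (Set.mem_univ (z₀ : X)) isOpen_univ
  replace hV : IsAffineOpen V := hV
  have : IsNoetherianRing Γ(X, V) := IsLocallyNoetherian.component_noetherian ⟨V, hV⟩
  have hNS : NoetherianSpace (V : Set X) := noetherianSpace_of_isAffineOpen V hV
  let ι : ↥(Yᶜ) → X := Subtype.val
  let Z₁ : Set ↥(Yᶜ) := Z ∩ ι ⁻¹' V
  have hZ₁lc : IsLocallyClosed Z₁ :=
    hZ.inter (V.2.preimage continuous_subtype_val).isLocallyClosed
  have hZ₁c : IsCompact Z₁ := by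
    rw [Topology.IsEmbedding.subtypeVal.isInducing.isCompact_iff]
    have hsub : ι '' Z₁ ⊆ V := by
      rintro _ ⟨w, hw, rfl⟩
      exact hw.2
    have h1 : ι '' Z₁ = (Subtype.val : ↥(V : Set X) → X) ''
        ((Subtype.val : ↥(V : Set X) → X) ⁻¹' (ι '' Z₁)) := by
      rw [Subtype.image_preimage_coe]
      exact (Set.inter_eq_right.mpr hsub).symm
    rw [h1]
    exact (NoetherianSpace.isCompact _).image continuous_subtype_val
  have : CompactSpace Z₁ := isCompact_iff_compactSpace.mp hZ₁c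
  obtain ⟨x, -, hx⟩ := IsClosed.exists_closed_singleton (X := ↥Z₁) isClosed_univ
    ⟨⟨z₀, hz₀, hzV⟩, trivial⟩
  have hlc : IsLocallyClosed ({(x : ↥(Yᶜ))} : Set ↥(Yᶜ)) := by
    have := hx.isLocallyClosed.image Topology.IsEmbedding.subtypeVal.isInducing
      (by rw [Subtype.range_coe]; exact hZ₁lc)
    rwa [Set.image_singleton] at this
  exact ⟨x, x.2.1, isClosed_singleton_of_isLocallyClosed X Y hY hmeet x hlc⟩

end Groth.Agent.S3432
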