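import Groth.Statements.S9832
import Mathlib
import Groth.Agent.S3432

set_option autoImplicit false
universe u
open Props

namespace Groth.Agent.S9832

/-- For a Noetherian ring R and an ideal I inside the Jacobson radical of R, the complement of V(I) in
Spec R is a Jacobson topological space. -/
theorem result (R : Type u) [CommRing R] [IsNoetherianRing R]
    (I : Ideal R) (hI : I ≤ (⊥ : Ideal R).jacobson) :
    JacobsonSpace ↥((PrimeSpectrum.zeroLocus (I : Set R))ᶜ) := by
  have h := Groth.Agent.S3432.result (AlgebraicGeometry.Spec (CommRingCat.of R))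
    (PrimeSpectrum.zeroLocus (I : Set R)) (PrimeSpectrum.isClosed_zeroLocus _) (by
      intro Z hZ hne
      obtain ⟨z, hz⟩ := hne
      obtain ⟨m, hm, hzm⟩ := Ideal.exists_le_maximal (z : PrimeSpectrum R).asIdeal
        (z : PrimeSpectrum R).isPrime.ne_top
      let M : PrimeSpectrum R := ⟨m, hm.isPrime⟩
      have hsp : (z : PrimeSpectrum R) ⤳ M := (PrimeSpectrum.le_iff_specializes _ _).mp hzm
      refine ⟨M, hsp.mem_closed hZ hz, ?_⟩
      show M ∈ PrimeSpectrum.zeroLocus (I : Set R)
      rw [PrimeSpectrum.mem_zeroLocus]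
      intro a ha
      have h1 : a ∈ (⊥ : Ideal R).jacobson := hI ha
      rw [Ideal.jacobson, Ideal.mem_sInf] at h1
      exact h1 ⟨bot_le, hm⟩)
  exact h

end Groth.Agent.S9832
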