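import Groth.Statements.S2012
import Mathlib

set_option autoImplicit false
universe u
open EtAlg

namespace Groth.Agent.S2012

/-- Let A be a ring and I an ideal contained in its Jacobson radical. Let B be an A-algebra which is
flat, integral and of finite presentation over A and such that A/I -> B/IB is bijective. Then A -> B
is bijective. -/
theorem result (A B : Type u) [CommRing A] [CommRing B] [Algebra A B]
    (I : Ideal A) (hI : I ≤ (⊥ : Ideal A).jacobson) [Module.Flat A B] [Algebra.IsIntegral A B] [Algebra.FinitePresentation A B]
    (hq : Function.Bijective (Ideal.quotientMap (I.map (algebraMap A B)) (algebraMap A B) Ideal.le_comap_map)) :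
    Function.Bijective (algebraMap A B) := by
  have hfin : Module.Finite A B := Algebra.IsIntegral.finite
  have hfp : Module.FinitePresentation A B :=
    Module.FinitePresentation.of_finite_of_finitePresentation A B
  have hproj : Module.Projective A B := Module.Flat.projective_of_finitePresentation
  have hkerI : ∀ x : A, algebraMap A B x = 0 → x ∈ I := by
    intro x hx
    have h1 : Ideal.quotientMap (I.map (algebraMap A B)) (algebraMap A B) Ideal.le_comap_map
        (Ideal.Quotient.mk I x) = Ideal.quotientMap (I.map (algebraMap A B)) (algebraMap A B)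
        Ideal.le_comap_map 0 := by
      rw [Ideal.quotientMap_mk, hx, map_zero, map_zero]
    exact Ideal.Quotient.eq_zero_iff_mem.1 (hq.1 h1)
  have hsurj : Function.Surjective (algebraMap A B) := by
    have hle : (⊤ : Submodule A B) ≤ LinearMap.range (Algebra.linearMap A B) ⊔ I • ⊤ := by
      intro b _
      obtain ⟨a', ha'⟩ := hq.2 (Ideal.Quotient.mk _ b)
      obtain ⟨a, rfl⟩ := Ideal.Quotient.mk_surjective a'
      rw [Ideal.quotientMap_mk, Ideal.Quotient.eq] at ha'
      have hmem : b - algebraMap A B a ∈ I • (⊤ : Submodule A B) := by
        rw [Ideal.smul_top_eq_map]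
        have := (I.map (algebraMap A B)).neg_mem ha'
        simpa using this
      have : b = algebraMap A B a + (b - algebraMap A B a) := by ring
      rw [this]
      exact Submodule.add_mem_sup ⟨a, rfl⟩ hmem
    have := Submodule.le_of_le_smul_of_le_jacobson_bot (Module.Finite.fg_top) hI hle
    intro b
    obtain ⟨a, ha⟩ := this (Submodule.mem_top : b ∈ ⊤)
    exact ⟨a, ha⟩
  refine ⟨?_, hsurj⟩
  obtain ⟨s, hs⟩ := Module.projective_lifting_property (Algebra.linearMap A B) LinearMap.id hsurj
  have hs1 : algebraMap A B (s 1) = 1 := by
    have := LinearMap.congr_fun hs 1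
    simpa using this
  have hmul : ∀ k : A, algebraMap A B k = 0 → k * s 1 = 0 := by
    intro k hk
    have : s (k • (1 : B)) = k • s 1 := s.map_smul k 1
    rw [Algebra.smul_def, mul_one, hk, map_zero] at this
    rw [← smul_eq_mul, ← this]
  set e := 1 - s 1 with he
  have heK : algebraMap A B e = 0 := by rw [he, map_sub, hs1, map_one, sub_self]
  have heI : e ∈ I := hkerI e heK
  have hee : e * s 1 = 0 := hmul e heK
  have hunit : IsUnit (s 1) := by
    have : e ∈ (⊥ : Ideal A).jacobson := hI heI
    rw [Ideal.mem_jacobson_bot] at this
    have h := this (-1)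
    have h2 : e * (-1) + 1 = s 1 := by rw [he]; ring
    rwa [h2] at h
  have he0 : e = 0 := by
    have := hunit.mul_left_eq_zero.1 hee
    exact this
  rw [injective_iff_map_eq_zero]
  intro k hk
  have h1 := hmul k hk
  have hs1' : s 1 = 1 := by
    have := he0
    rw [he, sub_eq_zero] at this
    exact this.symm
  rwa [hs1', mul_one] at h1

end Groth.Agent.S2012
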