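import Mathlib
-- Template for statement S2013 (row 2012; see the milestone table for weights).
-- Copy to Groth/Agent/S2013.lean and replace the sorry. The statement below is byte-identical to the frozen
-- statement EtAlg.GrothFrozen.S2013 (Groth/Statements/S2013.lean; the theorem EtAlg.exists_nonzero_reduced_quotient_in_radical_ideal);
-- the grader kernel-checks Groth.Agent.S2013.result against that frozen type. Keep the theorem IN THIS FILE
-- (a `result` declared elsewhere and merely imported here is not credited); helpers may live anywhere
-- under Groth/Agent/.
import Groth.Statements.S2013
import Groth.Agent.Lib.Helper24.NormalRed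

set_option autoImplicit false
universe u
open EtAlg

namespace Groth.Agent.S2013

/-- Let R be a catenary Noetherian local normal domain and J a nonzero radical ideal of R. Then J
contains a nonzero element f such that R/fR is reduced. (The source does not say 'nonzero ideal' but
its conclusion requires it.) -/
theorem result (R : Type u) [CommRing R] [IsDomain R] [IsNoetherianRing R]
    [IsLocalRing R] [IsIntegrallyClosed R] (hc : CAlg.IsCatenary R) (J : Ideal R) (hJ : J.IsRadical) (hJ0 : J ≠ ⊥) :
    ∃ f ∈ J, f ≠ 0 ∧ IsReduced (R ⧸ Ideal.span {f}) := by
  exact Groth.Agent.Lib.Helper24.NormalRed.exists_reduced_of_isRadical hc J hJ hJ0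

end Groth.Agent.S2013
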