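import Groth.Statements.S2014
import Groth.Agent.S0616

set_option autoImplicit false
universe u
open EtAlg

namespace Groth.Agent.S2014

open Groth.Agent.Lib.Helper29.LengthFormula
open scoped Pointwise

/-- Let R be a Noetherian local ring of Krull dimension 1 and x an element of the maximal ideal
contained in no minimal prime of R. Then the number of minimal prime ideals of R is at most the
length of R/xR as an R-module. -/
theorem result (R : Type u) [CommRing R] [IsNoetherianRing R] [IsLocalRing R]
    (hdim : ringKrullDim R = 1) (x : R) (hx : x ∈ IsLocalRing.maximalIdeal R) (hmin : ∀ p ∈ minimalPrimes R, x ∉ p) :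
    (Set.ncard (minimalPrimes R) : ℕ∞) ≤ Module.length R (R ⧸ Ideal.span {x}) := by
  classical
  have hspan : Ideal.span {x} = x • (⊤ : Submodule R R) := by
    rw [← Submodule.ideal_span_singleton_smul, Ideal.smul_top_eq_map, Algebra.algebraMap_self, Ideal.map_id]
    rfl
  have hlen : Module.length R (R ⧸ Ideal.span {x}) = Module.length R (R ⧸ x • (⊤ : Submodule R R)) :=
    (Submodule.quotEquivOfEq _ _ hspan).length_eq
  rw [hlen, Groth.Agent.S0616.result hdim R x hmin]
  refine le_trans ?_ le_add_self
  set S : Set (PrimeSpectrum R) := {q | q.asIdeal ∈ minimalPrimes R} with hS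
  have hSfin : S.Finite := by
    have := Ideal.finite_minimalPrimes_of_isNoetherianRing R (⊥ : Ideal R)
    exact Set.Finite.preimage (fun x _ y _ h => PrimeSpectrum.ext h) this
  have himg : PrimeSpectrum.asIdeal '' S = minimalPrimes R := by
    ext I
    constructor
    · rintro ⟨q, hq, rfl⟩
      exact hq
    · intro hI
      exact ⟨⟨I, hI.1.1⟩, hI, rfl⟩
  have hcard : Set.ncard (minimalPrimes R) = hSfin.toFinset.card := by
    rw [← himg, Set.ncard_image_of_injective _ (fun a b h => PrimeSpectrum.ext h),
      Set.ncard_eq_toFinset_card S hSfin]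
  have hsum : (∑ᶠ (p : PrimeSpectrum R) (_ : p.asIdeal ∈ minimalPrimes R),
        Module.length (Localization.AtPrime p.asIdeal) (LocalizedModule p.asIdeal.primeCompl R) *
          Module.length R (R ⧸ (p.asIdeal ⊔ Ideal.span {x}))) =
      ∑ p ∈ hSfin.toFinset, Module.length (Localization.AtPrime p.asIdeal) (LocalizedModule p.asIdeal.primeCompl R) *
          Module.length R (R ⧸ (p.asIdeal ⊔ Ideal.span {x})) :=
    finsum_mem_eq_finite_toFinset_sum _ hSfin
  rw [hsum, hcard]
  have : ((hSfin.toFinset.card : ℕ) : ℕ∞) = ∑ p ∈ hSfin.toFinset, (1 : ℕ∞) := by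
    simp
  rw [this]
  apply Finset.sum_le_sum
  intro p hp
  haveI : p.asIdeal.IsPrime := p.2
  have h1 : 1 ≤ Module.length (Localization.AtPrime p.asIdeal) (LocalizedModule p.asIdeal.primeCompl R) := by
    rw [← lam_of_isPrime, Order.one_le_iff_ne_zero, lam_ne_zero_iff]
    apply Module.mem_support_iff_of_finite.mpr
    rw [Module.annihilator_eq_bot.mpr inferInstance]
    exact bot_le
  have h2 : 1 ≤ Module.length R (R ⧸ (p.asIdeal ⊔ Ideal.span {x})) :=
    one_le_cst x hx p.asIdeal p.2.ne_top
  calc (1 : ℕ∞) = 1 * 1 := (one_mul 1).symm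
    _ ≤ _ := mul_le_mul' h1 h2

end Groth.Agent.S2014
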