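import Mathlib
-- Template for statement S2016 (row 2015; see the milestone table for weights).
-- Copy to Groth/Agent/S2016.lean and replace the sorry. The statement below is byte-identical to the frozen
-- statement EtAlg.GrothFrozen.S2016 (Groth/Statements/S2016.lean; the theorem EtAlg.finitePresentation_summand_decomp_of_locally_dvd_total);
-- the grader kernel-checks Groth.Agent.S2016.result against that frozen type. Keep the theorem IN THIS FILE
-- (a `result` declared elsewhere and merely imported here is not credited); helpers may live anywhere
-- under Groth/Agent/.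
import Groth.Statements.S2016
import Groth.Agent.Lib.Helper24.RDProj

set_option autoImplicit false
universe u
open EtAlg

namespace Groth.Agent.S2016

/-- Let R be a ring such that for every maximal ideal m and all a, b in R_m, either a divides b or b
divides a in R_m. Then each finitely presented R-module is a direct summand of a direct sum of
finitely many cyclic modules R/fR. -/
theorem result (R : Type u) [CommRing R]
    (h : ∀ (m : Ideal R) [m.IsMaximal], ∀ a b : Localization.AtPrime m, a ∣ b ∨ b ∣ a)
    (M : Type u) [AddCommGroup M] [Module R M] [Module.FinitePresentation R M] :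
    ∃ (n : ℕ) (f : Fin n → R) (N : Type u) (_ : AddCommGroup N) (_ : Module R N),
      Nonempty ((M × N) ≃ₗ[R] ((i : Fin n) → R ⧸ Ideal.span {f i})) := by
  classical
  obtain ⟨ι, f, i, p, hpi⟩ := Groth.Agent.S7123.backward (R := R) M
    (fun B C _ _ _ _ π hπ hRD ψ =>
      Groth.Agent.Lib.Helper24.RDProj.exists_lift_of_locally_chain h M π hπ hRD ψ)
  obtain ⟨n, g, i', p', hpi', -⟩ :=
    Groth.Agent.Lib.Helper24.RDProj.finite_retract M ι f i p hpi
  exact ⟨n, fun k => f (g k), LinearMap.ker p', inferInstance, inferInstance,
    ⟨Groth.Agent.Lib.Helper24.RDProj.prodEquivOfRetract i' p' hpi'⟩⟩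

end Groth.Agent.S2016
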