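import Groth.Statements.S2017
import Mathlib

set_option autoImplicit false
universe u
open EtAlg

namespace Groth.Agent.S2017

/-- Let R be a Noetherian ring, A, B, C R-algebras of finite type, f : A -> B a surjective R-algebra map
and g : C -> B an R-algebra map making B a finite C-module. Then the fibre product A ×_B C (the
equalizer of f ∘ pr₁ and g ∘ pr₂ in A × C) is an R-algebra of finite type. -/
theorem result (R A B C : Type u) [CommRing R] [IsNoetherianRing R] [CommRing A] [CommRing B]
    [CommRing C] [Algebra R A] [Algebra R B] [Algebra R C] [Algebra.FiniteType R A] [Algebra.FiniteType R B]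
    [Algebra.FiniteType R C] (f : A →ₐ[R] B) (hf : Function.Surjective f) (g : C →ₐ[R] B)
    (hg : (g.toRingHom).Finite) :
    Algebra.FiniteType R ↥(AlgHom.equalizer (f.comp (AlgHom.fst R A C)) (g.comp (AlgHom.snd R A C))) := by
  set D := AlgHom.equalizer (f.comp (AlgHom.fst R A C)) (g.comp (AlgHom.snd R A C)) with hD
  have hmem : ∀ x : A × C, x ∈ D ↔ f x.1 = g x.2 := by
    intro x
    simp [hD, AlgHom.mem_equalizer]
  let _ := g.toRingHom.toAlgebra
  have hfin : Module.Finite C B := hg
  obtain ⟨n, b, hb⟩ := Module.Finite.exists_fin (R := C) (M := B)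
  choose a ha using fun i => hf (b i)
  have key : (⊤ : Submodule D (A × C)).FG := by
    rw [Submodule.fg_def]
    refine ⟨insert (1 : A × C) (Set.range fun i => ((a i, 0) : A × C)),
      Set.Finite.insert _ (Set.finite_range _), ?_⟩
    rw [eq_top_iff]
    rintro ⟨x, c⟩ -
    set S : Submodule D (A × C) :=
      Submodule.span D (insert (1 : A × C) (Set.range fun i => ((a i, 0) : A × C))) with hS
    have h1 : (1 : A × C) ∈ S := Submodule.subset_span (by simp)
    have hai : ∀ i, ((a i, 0) : A × C) ∈ S := fun i => Submodule.subset_span (by simp)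
    have hD_S : ∀ d : D, (d : A × C) ∈ S := by
      intro d
      have : d • (1 : A × C) = (d : A × C) := by
        rw [Subalgebra.smul_def, smul_eq_mul, mul_one]
      rw [← this]
      exact S.smul_mem d h1
    have hleft : ∀ y : A, ((y, 0) : A × C) ∈ S := by
      intro y
      have hy : f y ∈ Submodule.span C (Set.range b) := by rw [hb]; trivial
      obtain ⟨c, hc⟩ := (Submodule.mem_span_range_iff_exists_fun C).1 hy
      choose a' ha' using fun i => hf (g (c i))
      let d : Fin n → D := fun i => ⟨(a' i, c i), (hmem _).2 (ha' i)⟩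
      have hk : f (y - ∑ i, a' i * a i) = 0 := by
        rw [map_sub, map_sum, ← hc, sub_eq_zero]
        refine Finset.sum_congr rfl fun i _ => ?_
        rw [map_mul, ha', ha, Algebra.smul_def]
        rfl
      let k : D := ⟨(y - ∑ i, a' i * a i, 0), (hmem _).2 (by simpa using hk)⟩
      have : ((y, 0) : A × C) = (k : A × C) + ∑ i, d i • ((a i, 0) : A × C) := by
        ext
        · simp [k, d, Subalgebra.smul_def, Prod.fst_sum]
        · simp [k, d, Subalgebra.smul_def, Prod.snd_sum]
      rw [this]
      exact S.add_mem (hD_S k) (S.sum_mem fun i _ => S.smul_mem _ (hai i))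
    obtain ⟨x', hx'⟩ := hf (g c)
    have : ((x, c) : A × C) = ((⟨(x', c), (hmem _).2 hx'⟩ : D) : A × C) + ((x - x', 0) : A × C) := by
      ext <;> simp
    rw [this]
    exact S.add_mem (hD_S _) (hleft _)
  exact ⟨fg_of_fg_of_fg R D (A × C) Algebra.FiniteType.out key Subtype.val_injective⟩

end Groth.Agent.S2017
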