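import Groth.Statements.S2018
import Mathlib

set_option autoImplicit false
universe u
open EtAlg

namespace Groth.Agent.S2018

/-- Let g : A' -> A be a surjective ring map and f : B -> A an integral ring map. Then the projection
from the fibre product B ×_A A' (the equalizer of f ∘ pr₁ and g ∘ pr₂ in B × A') to A' is integral. -/
theorem result (A A' B : Type u) [CommRing A] [CommRing A'] [CommRing B] (g : A' →+* A)
    (hg : Function.Surjective g) (f : B →+* A) (hf : f.IsIntegral) :
    ((RingHom.snd B A').comp ((f.comp (RingHom.fst B A')).eqLocus (g.comp (RingHom.snd B A'))).subtype).IsIntegral := by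
  intro a'
  set D := (f.comp (RingHom.fst B A')).eqLocus (g.comp (RingHom.snd B A')) with hD
  set φ : D →+* A' := (RingHom.snd B A').comp D.subtype with hφ
  set ψ : D →+* B := (RingHom.fst B A').comp D.subtype with hψ
  have hcomm : g.comp φ = f.comp ψ := by
    ext ⟨d, hd⟩
    exact hd.symm
  have hψs : Function.Surjective ψ := by
    intro b
    obtain ⟨c, hc⟩ := hg (f b)
    exact ⟨⟨(b, c), by simp [hD, RingHom.mem_eqLocus, hc]⟩, rfl⟩
  obtain ⟨p, hpm, hp⟩ := hf (g a')
  obtain ⟨q, hqp, -, hqm⟩ := Polynomial.lifts_and_natDegree_eq_and_monic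
    ((Polynomial.mem_lifts _).2 (Polynomial.map_surjective ψ hψs p)) hpm
  have hk : g (Polynomial.eval₂ φ a' (q * Polynomial.X)) = 0 := by
    rw [Polynomial.hom_eval₂, hcomm, ← Polynomial.eval₂_map, Polynomial.map_mul, hqp,
      Polynomial.eval₂_mul, hp, zero_mul]
  let d₀ : D := ⟨(0, Polynomial.eval₂ φ a' (q * Polynomial.X)), by
    simp only [hD, RingHom.mem_eqLocus, RingHom.comp_apply, RingHom.coe_fst, RingHom.coe_snd, map_zero]
    exact hk.symm⟩
  have hd₀ : φ d₀ = Polynomial.eval₂ φ a' (q * Polynomial.X) := rfl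
  refine ⟨q * Polynomial.X - Polynomial.C d₀, ?_, ?_⟩
  · rcases subsingleton_or_nontrivial D with h | h
    · exact Polynomial.monic_of_subsingleton _
    · apply Polynomial.Monic.sub_of_left (hqm.mul Polynomial.monic_X)
      rw [Polynomial.degree_mul_X]
      calc (Polynomial.C d₀).degree ≤ 0 := Polynomial.degree_C_le
        _ < q.degree + 1 := by
          rw [Polynomial.degree_eq_natDegree hqm.ne_zero]
          exact_mod_cast Nat.succ_pos _
  · rw [Polynomial.eval₂_sub, Polynomial.eval₂_C, hd₀, sub_self]

end Groth.Agent.S2018
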