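import Groth.Statements.S2040
-- import your own Groth.Agent.* helpers here
import Groth.Agent.Lib.Helper49.FlatFS4

set_option autoImplicit false
universe u
open CAlg

namespace Groth.Agent.S2040


/-- For a complete Noetherian local ring `A` with residue field `k`, and a complete Noetherian local
`k`-algebra `B` which is formally smooth over `k` for the adic topology of its maximal ideal, there
is a Noetherian complete local ring `C` with a local homomorphism `A → C`, formally smooth for the
adic topology of the maximal ideal of `C`, whose special fibre `C ⊗ k` is isomorphic to `B` over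
`k`. -/
theorem result {A B : Type u} [CommRing A] [IsLocalRing A]
    [IsNoetherianRing A] [IsAdicComplete (IsLocalRing.maximalIdeal A) A] [CommRing B] [IsLocalRing B]
    [IsNoetherianRing B] [IsAdicComplete (IsLocalRing.maximalIdeal B) B]
    [Algebra (IsLocalRing.maximalIdeal A).ResidueField B]
    (hB : CAlgX.IsAdicFormallySmooth (IsLocalRing.maximalIdeal A).ResidueField B (IsLocalRing.maximalIdeal B)) :
    ∃ (C : Type u) (_ : CommRing C) (_ : IsLocalRing C) (_ : Algebra A C),
      IsNoetherianRing C ∧ IsAdicComplete (IsLocalRing.maximalIdeal C) C ∧ IsLocalHom (algebraMap A C) ∧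
        CAlgX.IsAdicFormallySmooth A C (IsLocalRing.maximalIdeal C) ∧
        Nonempty ((IsLocalRing.maximalIdeal A).Fiber C ≃ₐ[(IsLocalRing.maximalIdeal A).ResidueField] B) := by
  haveI hreg : IsRegularLocalRing B :=
    (Groth.Agent.Lib.Helper49.FSRegular.isRegularLocalRing_of_isAdicFormallySmooth_field hB).1
  have hr : IsLocalRing.maximalIdeal A ≤ RingHom.ker
      ((algebraMap (IsLocalRing.maximalIdeal A).ResidueField B).comp
        (algebraMap A (IsLocalRing.maximalIdeal A).ResidueField)) := by
    intro a ha
    rw [RingHom.mem_ker, RingHom.comp_apply, Ideal.algebraMap_residueField_eq_zero.mpr ha, map_zero]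
  obtain ⟨C, _, _, _, _, φ, hCc, hCloc, hCflat, hφs, hφf, hkerφ⟩ :=
    Groth.Agent.Lib.Helper49.TwLift.exists_flat_lift_alg B _ hr
  let E : (IsLocalRing.maximalIdeal A).Fiber C ≃ₐ[(IsLocalRing.maximalIdeal A).ResidueField] B :=
    Groth.Agent.Lib.Helper49.FlatFS.fibreEquiv (IsLocalRing.maximalIdeal A)
      (Ideal.algebraMap_residueField_surjective _) (Ideal.ker_algebraMap_residueField _) φ hφs
      (fun a => DFunLike.congr_fun hφf a) hkerφ
  have hgB : CAlg.IsGeometricallyRegular (IsLocalRing.maximalIdeal A).ResidueField B :=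
    Groth.Agent.Lib.Helper49.GeomRegFS.isGeometricallyRegular_iff_isAdicFormallySmooth.mpr hB
  have hgF : CAlg.IsGeometricallyRegular (IsLocalRing.maximalIdeal A).ResidueField
      ((IsLocalRing.maximalIdeal A).Fiber C) :=
    Groth.Agent.Lib.Helper49.FlatFS.geomReg_of_algEquiv E.symm hgB
  have hfs : CAlgX.IsAdicFormallySmooth A C (IsLocalRing.maximalIdeal C) :=
    Groth.Agent.Lib.Helper49.FlatFS.isAdicFormallySmooth_of_flat_of_fibre
      (Groth.Agent.Lib.Helper49.FlatFS.fibre_iff.mp hgF)
  exact ⟨C, inferInstance, inferInstance, inferInstance, inferInstance, hCc, hCloc, hfs, ⟨E⟩⟩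

end Groth.Agent.S2040
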