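import Groth.Statements.S2041
import Mathlib
import Groth.Agent.Lib.Helper27.EtaleFactor

set_option autoImplicit false
universe u
open CAlg

namespace Groth.Agent.S2041
open Polynomial

lemma aeval_mem_map_of_coeff_mem {R S : Type*} [CommRing R] [CommRing S] [Algebra R S]
    (K : Ideal R) (q : R[X]) (hq : ∀ i, q.coeff i ∈ K) (x : S) :
    aeval x q ∈ K.map (algebraMap R S) := by
  rw [aeval_eq_sum_range]
  refine Ideal.sum_mem _ fun i _ => ?_
  rw [Algebra.smul_def]
  exact Ideal.mul_mem_right _ _ (Ideal.mem_map_of_mem _ (hq i))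

lemma map_eq_X_pow {R : Type*} [CommRing R] (I : Ideal R) (p : R[X]) (hp : p.Monic)
    (h : ∀ i ≠ p.natDegree, p.coeff i ∈ I) :
    p.map (Ideal.Quotient.mk I) = X ^ p.natDegree := by
  ext i
  rw [coeff_map, coeff_X_pow]
  split_ifs with hi
  · rw [hi, hp.coeff_natDegree, map_one]
  · exact Ideal.Quotient.eq_zero_iff_mem.mpr (h i hi)

lemma quot_facts {R : Type*} [CommRing R] (J : Ideal R) (b' b₁ b₂ : R) (d : ℕ) (hd : 1 ≤ d)
    (hb' : b' ^ 2 - b' ∈ J) (h1 : b₁ - b' ^ d ∈ J) (h2 : b₂ - (b' - 1) ^ d ∈ J) :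
    (b₁ + (-1) ^ d * b₂) - 1 ∈ J ∧ b₁ - b' ∈ J := by
  rw [← Ideal.Quotient.eq_zero_iff_mem] at hb' h1 h2 ⊢
  rw [← Ideal.Quotient.eq_zero_iff_mem]
  simp only [map_sub, map_pow, map_add, map_mul, map_neg, map_one] at hb' h1 h2 ⊢
  set β := Ideal.Quotient.mk J b' with hβ
  have hidem : IsIdempotentElem β := by
    rw [IsIdempotentElem, ← sq]; exact sub_eq_zero.mp hb'
  have hidem' : IsIdempotentElem (1 - β) := hidem.one_sub
  obtain ⟨d', rfl⟩ : ∃ d', d = d' + 1 := ⟨d - 1, by omega⟩
  have e1 : Ideal.Quotient.mk J b₁ = β := by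
    rw [sub_eq_zero.mp h1, hidem.pow_succ_eq]
  have e2 : Ideal.Quotient.mk J b₂ = (-1) ^ (d' + 1) * (1 - β) := by
    rw [sub_eq_zero.mp h2]
    have : β - 1 = (-1) * (1 - β) := by ring
    rw [this, mul_pow, hidem'.pow_succ_eq]
  refine ⟨?_, by rw [e1, sub_self]⟩
  rw [e1, e2, ← mul_assoc, ← mul_pow]
  simp

lemma idem_facts {R : Type*} [CommRing R] (J : Ideal R) (b₁ b₂ c s t x : R) (h0 : b₁ * b₂ = 0)
    (hs : s = b₁ + c * b₂) (hst : s * t = 1) (hsJ : s - 1 ∈ J) (hx : b₁ - x ∈ J) :
    IsIdempotentElem (b₁ * t) ∧ b₁ * t - x ∈ J := by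
  constructor
  · have h1 : b₁ * s = b₁ * b₁ := by rw [hs, mul_add, ← mul_assoc, mul_comm b₁ c, mul_assoc, h0]; ring
    calc b₁ * t * (b₁ * t) = (b₁ * b₁) * t * t := by ring
      _ = b₁ * s * t * t := by rw [h1]
      _ = b₁ * (s * t) * t := by ring
      _ = b₁ * t := by rw [hst, mul_one]
  · have h2 : t - 1 = - (t * (s - 1)) := by
      have : t * s = 1 := by rw [mul_comm]; exact hst
      calc t - 1 = t - t * s := by rw [this]
        _ = _ := by ring
    have h3 : b₁ * t - x = b₁ * (t - 1) + (b₁ - x) := by ring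
    rw [h3, h2]
    exact J.add_mem (J.mul_mem_left _ (J.neg_mem (J.mul_mem_left _ hsJ))) hx

lemma exists_dvd_of_sub_one_mem {R S : Type*} [CommRing R] [CommRing S] [Algebra R S]
    [Algebra.IsIntegral R S] (K : Ideal R) (s : S) (hs : s - 1 ∈ K.map (algebraMap R S)) :
    ∃ a : R, a - 1 ∈ K ∧ s ∣ algebraMap R S a := by
  obtain ⟨P, hP, hPe, hPc⟩ := Polynomial.exists_monic_aeval_eq_zero_forall_mem_of_mem_map hs
  set r := P.natDegree with hr
  let Q : R[X] := P.comp (X - C 1)
  have hQs : aeval s Q = 0 := by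
    simp only [Q, aeval_comp, map_sub, aeval_X, map_one]
    exact hPe
  obtain ⟨q, hq⟩ := Polynomial.X_dvd_sub_C (p := Q)
  have h1 : algebraMap R S (Q.coeff 0) = s * (- aeval s q) := by
    have := congrArg (aeval s) hq
    simp only [map_sub, hQs, aeval_C, map_mul, aeval_X, zero_sub] at this
    rw [mul_neg, ← this, neg_neg]
  have h2 : Q.coeff 0 = P.eval (-1) := by
    rw [coeff_zero_eq_eval_zero]
    simp [Q, eval_comp]
  refine ⟨(-1) ^ r * Q.coeff 0, ?_, ?_⟩
  · rw [← Ideal.Quotient.eq_zero_iff_mem, map_sub, map_mul, map_pow, map_neg, map_one, h2,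
      sub_eq_zero]
    have h3 : Ideal.Quotient.mk K (P.eval (-1)) = (P.map (Ideal.Quotient.mk K)).eval (-1) := by
      rw [eval_map, ← Polynomial.eval₂_at_apply, map_neg, map_one]
    rw [h3, map_eq_X_pow K P hP hPc, eval_pow, eval_X, ← mul_pow]
    simp
  · rw [map_mul]
    exact Dvd.dvd.mul_left ⟨_, h1⟩ _


open TensorProduct in
/-- Let `I ⊆ A` be an ideal, `A → B` integral and `ē` an idempotent of `B/IB`. Then there is an étale
`A`-algebra `A'` with `A/I → A'/IA'` bijective and an idempotent of `A' ⊗ B` whose class modulo `I`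
agrees with that of any lift of `ē`. -/
theorem result {A B : Type u} [CommRing A] [CommRing B] [Algebra A B]
    [Algebra.IsIntegral A B] (I : Ideal A) (e : B ⧸ I.map (algebraMap A B)) (he : IsIdempotentElem e) :
    ∃ (A' : Type u) (_ : CommRing A') (_ : Algebra A A'), Algebra.Etale A A' ∧
      Function.Bijective (algebraMap (A ⧸ I) (A' ⧸ I.map (algebraMap A A'))) ∧
      ∃ e' : A' ⊗[A] B, IsIdempotentElem e' ∧
        ∀ b : B, Ideal.Quotient.mk (I.map (algebraMap A B)) b = e →
          e' - 1 ⊗ₜ b ∈ I.map (algebraMap A (A' ⊗[A] B)) := by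
  classical
  rcases subsingleton_or_nontrivial (A ⧸ I) with htriv | hnt
  · have hItop : I = ⊤ := Ideal.Quotient.subsingleton_iff.mp htriv
    have hsub : Subsingleton (A ⧸ I.map (algebraMap A A)) := by
      rw [Ideal.Quotient.subsingleton_iff, hItop, Ideal.map_top]
    refine ⟨A, inferInstance, inferInstance, inferInstance,
      ⟨fun a b _ => Subsingleton.elim _ _, fun y => ⟨0, Subsingleton.elim _ _⟩⟩, 0,
      IsIdempotentElem.zero, fun b _ => ?_⟩
    rw [hItop, Ideal.map_top]; exact Submodule.mem_top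
  · obtain ⟨b₀, hb₀⟩ := Ideal.Quotient.mk_surjective e
    have hz : b₀ ^ 2 - b₀ ∈ I.map (algebraMap A B) := by
      rw [← Ideal.Quotient.eq_zero_iff_mem, map_sub, map_pow, hb₀, sq, he.eq, sub_self]
    obtain ⟨p₀, hp₀, hp₀e, hp₀c⟩ := Polynomial.exists_monic_aeval_eq_zero_forall_mem_of_mem_map hz
    let P : A[X] := p₀ * X
    have hP : P.Monic := hp₀.mul monic_X
    set d := p₀.natDegree + 1 with hd
    have hPmap : P.map (Ideal.Quotient.mk I) = X ^ d := by
      rw [Polynomial.map_mul, map_eq_X_pow I p₀ hp₀ hp₀c, map_X, pow_succ]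
    have hPe : aeval (b₀ ^ 2 - b₀) P = 0 := by
      simp [P, hp₀e]
    let f : A[X] := P.comp (X ^ 2 - X)
    have hntA : Nontrivial A := Ideal.Quotient.mk_surjective (I := I).nontrivial
    have hXX : (X ^ 2 - X : A[X]).Monic := by
      apply monic_X_pow_sub
      rw [degree_X]; norm_num
    have hXXdeg : (X ^ 2 - X : A[X]).natDegree ≠ 0 := by
      have : (X ^ 2 - X : A[X]).natDegree = 2 := by
        rw [natDegree_sub_eq_left_of_natDegree_lt (by simp), natDegree_X_pow]
      omega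
    have hf : f.Monic := hP.comp hXX hXXdeg
    have hfe : aeval b₀ f = 0 := by
      simp only [f, aeval_comp, map_sub, map_pow, aeval_X]
      exact hPe
    have hfmap : f.map (Ideal.Quotient.mk I) = X ^ d * (X - C 1) ^ d := by
      rw [Polynomial.map_comp, hPmap]
      simp only [Polynomial.map_sub, Polynomial.map_pow, map_X, pow_comp, X_comp]
      rw [← mul_pow]; congr 1; rw [C_1]; ring
    obtain ⟨A', _, _, _, ψ, hker, g', h', hg', hh', hfac, hg'ψ, hh'ψ⟩ :=
      Groth.Agent.Lib.Helper27.EtaleFactor.exists_etale_lift_monic_factorization A I f hf (X ^ d)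
        ((X - C 1) ^ d) (monic_X_pow d) ((monic_X_sub_C 1).pow d) hfmap
        (IsCoprime.pow ⟨1, -1, by rw [C_1]; ring⟩)
    let b' : A' ⊗[A] B := 1 ⊗ₜ b₀
    let b₁ : A' ⊗[A] B := aeval b' g'
    let b₂ : A' ⊗[A] B := aeval b' h'
    let J' : Ideal (A' ⊗[A] B) := I.map (algebraMap A (A' ⊗[A] B))
    have hJ' : J' = (I.map (algebraMap A A')).map (algebraMap A' (A' ⊗[A] B)) := by
      rw [Ideal.map_map, ← IsScalarTower.algebraMap_eq]
    have h12 : b₁ * b₂ = 0 := by
      rw [← map_mul, ← hfac, aeval_map_algebraMap]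
      have : b' = Algebra.TensorProduct.includeRight (R := A) (A := A') b₀ := rfl
      rw [this, aeval_algHom_apply, hfe, map_zero]
    have hincl : ∀ (A₁ : Type u) [CommRing A₁] [Algebra A A₁] (x : B),
        x ∈ I.map (algebraMap A B) →
        (1 : A₁) ⊗ₜ[A] x ∈ I.map (algebraMap A (A₁ ⊗[A] B)) := by
      intro A₁ _ _ x hx
      have hle : (I.map (algebraMap A B)).map
          (Algebra.TensorProduct.includeRight (R := A) (A := A₁) (B := B)).toRingHom ≤
          I.map (algebraMap A (A₁ ⊗[A] B)) := by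
        rw [Ideal.map_map]
        apply le_of_eq
        congr 1
        exact RingHom.ext fun x => by simp
      exact hle (Ideal.mem_map_of_mem _ hx)
    have hb'J : b' ^ 2 - b' ∈ J' := by
      have : b' ^ 2 - b' = (1 : A') ⊗ₜ[A] (b₀ ^ 2 - b₀) := by
        simp [b', TensorProduct.tmul_sub, Algebra.TensorProduct.tmul_pow]
      rw [this]
      exact hincl A' _ hz
    have hcoeff : ∀ q : A'[X], q.map ψ.toRingHom = 0 → aeval b' q ∈ J' := by
      intro q hq
      rw [hJ']
      apply aeval_mem_map_of_coeff_mem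
      intro i
      rw [← hker, RingHom.mem_ker]
      have := congrArg (fun q => q.coeff i) hq
      simpa [coeff_map] using this
    have hb₁J : b₁ - b' ^ d ∈ J' := by
      have : b₁ - b' ^ d = aeval b' (g' - X ^ d) := by simp [b₁]
      rw [this]
      apply hcoeff
      rw [Polynomial.map_sub, hg'ψ, Polynomial.map_pow, map_X, sub_self]
    have hb₂J : b₂ - (b' - 1) ^ d ∈ J' := by
      have : b₂ - (b' - 1) ^ d = aeval b' (h' - (X - C 1) ^ d) := by simp [b₂]
      rw [this]
      apply hcoeff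
      rw [Polynomial.map_sub, hh'ψ]
      simp
    obtain ⟨hsJ, hb₁b'⟩ := quot_facts J' b' b₁ b₂ d (by omega) hb'J hb₁J hb₂J
    obtain ⟨a, haK, hsa⟩ := exists_dvd_of_sub_one_mem (I.map (algebraMap A A'))
      (b₁ + (-1) ^ d * b₂) (hJ' ▸ hsJ)
    have hψa : ψ a = 1 := by
      have : a - 1 ∈ RingHom.ker ψ.toRingHom := hker ▸ haK
      rw [RingHom.mem_ker] at this
      simpa [sub_eq_zero] using this
    have hψa' : IsUnit (ψ a) := by rw [hψa]; exact isUnit_one
    have hkerψ : ∀ j : A', ψ j = 0 → a * j ∈ I.map (algebraMap A A') := by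
      intro j hj
      apply Ideal.mul_mem_left
      rw [← hker]
      exact RingHom.mem_ker.mpr hj
    have hker'' := Groth.Agent.Lib.Helper27.EtaleNbhd.ker_liftAlgHom_away I ψ a hψa' hkerψ
    obtain ⟨hbij, -⟩ := Groth.Agent.Lib.Helper27.EtaleNbhd.quotientMap_bijective_of_ker I _ hker''
    let θ : A' ⊗[A] B →ₐ[A] Localization.Away a ⊗[A] B :=
      Algebra.TensorProduct.map (IsScalarTower.toAlgHom A A' (Localization.Away a)) (AlgHom.id A B)
    have hθJ : ∀ x ∈ J', θ x ∈ I.map (algebraMap A (Localization.Away a ⊗[A] B)) := by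
      intro x hx
      have hle : J'.map θ.toRingHom ≤ I.map (algebraMap A (Localization.Away a ⊗[A] B)) := by
        rw [Ideal.map_map]
        apply le_of_eq
        congr 1
      exact hle (Ideal.mem_map_of_mem _ hx)
    have hunit : IsUnit (θ (b₁ + (-1) ^ d * b₂)) := by
      obtain ⟨w, hw⟩ := hsa
      have h1 : θ (algebraMap A' (A' ⊗[A] B) a) =
          algebraMap (Localization.Away a) (Localization.Away a ⊗[A] B)
            (algebraMap A' (Localization.Away a) a) := by
        rw [Algebra.TensorProduct.algebraMap_apply, Algebra.TensorProduct.algebraMap_apply]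
        simp [θ]
      have h2 : IsUnit (θ (algebraMap A' (A' ⊗[A] B) a)) := by
        rw [h1]; exact (IsLocalization.Away.algebraMap_isUnit a).map _
      rw [hw, map_mul] at h2
      exact isUnit_of_mul_isUnit_left h2
    obtain ⟨t, ht⟩ := hunit.exists_right_inv
    obtain ⟨hidem, hcong⟩ := idem_facts (I.map (algebraMap A (Localization.Away a ⊗[A] B)))
      (θ b₁) (θ b₂) ((-1) ^ d) (θ (b₁ + (-1) ^ d * b₂)) t (θ b')
      (by rw [← map_mul, h12, map_zero]) (by simp) ht
      (by have := hθJ _ hsJ; simpa using this) (by have := hθJ _ hb₁b'; simpa using this)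
    refine ⟨Localization.Away a, inferInstance, inferInstance, inferInstance, hbij, θ b₁ * t,
      hidem, ?_⟩
    intro b hb
    have hθb' : θ b' = 1 ⊗ₜ b₀ := by simp [θ, b']
    have hbb₀ : b - b₀ ∈ I.map (algebraMap A B) := by
      rw [← Ideal.Quotient.eq_zero_iff_mem, map_sub, hb, hb₀, sub_self]
    have h3 := hincl (Localization.Away a) _ hbb₀
    have : θ b₁ * t - 1 ⊗ₜ b = (θ b₁ * t - θ b') - ((1 : Localization.Away a) ⊗ₜ[A] (b - b₀)) := by
      rw [hθb', TensorProduct.tmul_sub]; ring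
    rw [this]
    exact Ideal.sub_mem _ hcong h3

end Groth.Agent.S2041
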