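import Groth.Statements.S2042
import Mathlib
import Groth.Agent.Lib.Helper9.EtaleNbhd

set_option autoImplicit false
universe u
open CAlg

namespace Groth.Agent.S2042

open Polynomial in
theorem homEquiv_fst {R S : Type*} [CommRing R] [CommRing S] [Algebra R S] {n : ℕ} (m k : ℕ)
    (hn : n = m + k) (p : MonicDegreeEq R n)
    (ψ : UniversalCoprimeFactorizationRing m k hn p →ₐ[R] S) :
    ((UniversalCoprimeFactorizationRing.homEquiv S m k hn p ψ).1.1).1 =
      (UniversalCoprimeFactorizationRing.factor₁ m k hn p).1.map ψ.toRingHom := by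
  simp [UniversalCoprimeFactorizationRing.homEquiv, UniversalFactorizationRing.homEquiv,
    UniversalCoprimeFactorizationRing.factor₁, MonicDegreeEq.map, Polynomial.map_map]
  rfl

open Polynomial in
theorem homEquiv_snd {R S : Type*} [CommRing R] [CommRing S] [Algebra R S] {n : ℕ} (m k : ℕ)
    (hn : n = m + k) (p : MonicDegreeEq R n)
    (ψ : UniversalCoprimeFactorizationRing m k hn p →ₐ[R] S) :
    ((UniversalCoprimeFactorizationRing.homEquiv S m k hn p ψ).1.2).1 =
      (UniversalCoprimeFactorizationRing.factor₂ m k hn p).1.map ψ.toRingHom := by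
  simp [UniversalCoprimeFactorizationRing.homEquiv, UniversalFactorizationRing.homEquiv,
    UniversalCoprimeFactorizationRing.factor₂, MonicDegreeEq.map, Polynomial.map_map]
  rfl

open Polynomial in
/-- Let `I ⊆ A` be an ideal and `f ∈ A[X]` monic whose image in `(A/I)[X]` factors as a product of two
monic polynomials generating the unit ideal. Then over some étale `A`-algebra `A'` with `A/I →
A'/IA'` bijective, `f` factors as a product of two monic polynomials lifting the given factors. -/
theorem result {A : Type u} [CommRing A] (I : Ideal A) (f : A[X])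
    (hf : f.Monic) (g h : (A ⧸ I)[X]) (hg : g.Monic) (hh : h.Monic) (hcop : IsCoprime g h)
    (hfgh : f.map (Ideal.Quotient.mk I) = g * h) :
    ∃ (A' : Type u) (_ : CommRing A') (_ : Algebra A A'), Algebra.Etale A A' ∧
      Function.Bijective (algebraMap (A ⧸ I) (A' ⧸ I.map (algebraMap A A'))) ∧
      ∃ g' h' : A'[X], g'.Monic ∧ h'.Monic ∧ f.map (algebraMap A A') = g' * h' ∧
        g'.map (Ideal.Quotient.mk (I.map (algebraMap A A'))) =
          g.map (algebraMap (A ⧸ I) (A' ⧸ I.map (algebraMap A A'))) ∧
        h'.map (Ideal.Quotient.mk (I.map (algebraMap A A'))) =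
          h.map (algebraMap (A ⧸ I) (A' ⧸ I.map (algebraMap A A'))) := by
  rcases subsingleton_or_nontrivial (A ⧸ I) with hsub | hnt
  · have hItop : I = ⊤ := Ideal.Quotient.subsingleton_iff.1 hsub
    have hsub' : Subsingleton (A ⧸ I.map (algebraMap A A)) := by
      rw [Ideal.Quotient.subsingleton_iff, hItop, Ideal.map_top]
    refine ⟨A, inferInstance, inferInstance, inferInstance, ⟨fun x y _ => Subsingleton.elim x y,
      fun y => ⟨0, Subsingleton.elim _ _⟩⟩, f, 1, hf, monic_one, ?_, Subsingleton.elim _ _,
      Subsingleton.elim _ _⟩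
    rw [mul_one, Algebra.algebraMap_self, Polynomial.map_id]
  · have hn : f.natDegree = g.natDegree + h.natDegree := by
      rw [← hg.natDegree_mul hh, ← hfgh, hf.natDegree_map]
    let p : MonicDegreeEq A f.natDegree := .mk f hf rfl
    let φ : UniversalCoprimeFactorizationRing g.natDegree h.natDegree hn p →ₐ[A] A ⧸ I :=
      (UniversalCoprimeFactorizationRing.homEquiv (A ⧸ I) g.natDegree h.natDegree hn p).symm
        ⟨(.mk g hg rfl, .mk h hh rfl), ⟨hfgh.symm, hcop⟩⟩
    have hφ1 : (UniversalCoprimeFactorizationRing.factor₁ g.natDegree h.natDegree hn p).1.map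
        φ.toRingHom = g := by
      rw [← homEquiv_fst, Equiv.apply_symm_apply]
      rfl
    have hφ2 : (UniversalCoprimeFactorizationRing.factor₂ g.natDegree h.natDegree hn p).1.map
        φ.toRingHom = h := by
      rw [← homEquiv_snd, Equiv.apply_symm_apply]
      rfl
    obtain ⟨u, hEt, hbij, hcompat⟩ := Groth.Agent.Lib.Helper9.exists_etale_nbhd_of_section I φ
    have hringhom : (Ideal.Quotient.mk (I.map (algebraMap A (Localization.Away u)))).comp
        (algebraMap (UniversalCoprimeFactorizationRing g.natDegree h.natDegree hn p)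
          (Localization.Away u)) =
        (algebraMap (A ⧸ I) (Localization.Away u ⧸ I.map (algebraMap A (Localization.Away u)))).comp
          φ.toRingHom := by
      ext y
      exact (hcompat y).symm
    refine ⟨Localization.Away u, inferInstance, inferInstance, hEt, hbij,
      (UniversalCoprimeFactorizationRing.factor₁ g.natDegree h.natDegree hn p).1.map
        (algebraMap _ (Localization.Away u)),
      (UniversalCoprimeFactorizationRing.factor₂ g.natDegree h.natDegree hn p).1.map
        (algebraMap _ (Localization.Away u)),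
      (UniversalCoprimeFactorizationRing.factor₁ g.natDegree h.natDegree hn p).monic.map _,
      (UniversalCoprimeFactorizationRing.factor₂ g.natDegree h.natDegree hn p).monic.map _,
      ?_, ?_, ?_⟩
    · rw [← Polynomial.map_mul, UniversalCoprimeFactorizationRing.factor₁_mul_factor₂,
        MonicDegreeEq.map_coe, Polynomial.map_map, ← IsScalarTower.algebraMap_eq]
      rfl
    · rw [Polynomial.map_map, hringhom, ← Polynomial.map_map, hφ1]
    · rw [Polynomial.map_map, hringhom, ← Polynomial.map_map, hφ2]

end Groth.Agent.S2042
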