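import Groth.Statements.S2043
import Mathlib
import Groth.Agent.Lib.Helper27.SmoothSection

set_option autoImplicit false
universe u
open CAlg

namespace Groth.Agent.S2043

/-- Let `I ⊆ A` be an ideal, `B` a smooth `A`-algebra and `B → A/I` an `A`-algebra map. Then there is an
étale `A`-algebra `A'` with `A/I → A'/IA'` bijective and an `A`-algebra map `B → A'` lifting the
given map. -/
theorem result {A B : Type u} [CommRing A] [CommRing B] [Algebra A B]
    [Algebra.Smooth A B] (I : Ideal A) (σ : B →ₐ[A] A ⧸ I) :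
    ∃ (A' : Type u) (_ : CommRing A') (_ : Algebra A A'), Algebra.Etale A A' ∧
      Function.Bijective (algebraMap (A ⧸ I) (A' ⧸ I.map (algebraMap A A'))) ∧
      ∃ τ : B →ₐ[A] A', ∀ b : B,
        Ideal.Quotient.mk (I.map (algebraMap A A')) (τ b) =
          algebraMap (A ⧸ I) (A' ⧸ I.map (algebraMap A A')) (σ b) := by
  obtain ⟨A', _, _, hEt, ψ, τ, hker, hcomp⟩ :=
    Groth.Agent.Lib.Helper27.SmoothSection.exists_etale_section I σ
  obtain ⟨hbij, hmk⟩ := Groth.Agent.Lib.Helper27.EtaleNbhd.quotientMap_bijective_of_ker I ψ hker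
  refine ⟨A', inferInstance, inferInstance, hEt, hbij, τ, fun b => ?_⟩
  have h1 := DFunLike.congr_fun hmk (τ b)
  have h2 : ψ (τ b) = σ b := DFunLike.congr_fun hcomp b
  rw [RingHom.comp_apply] at h1
  rw [← h1]
  show _ = algebraMap (A ⧸ I) (A' ⧸ I.map (algebraMap A A')) (σ b)
  rw [← h2]
  rfl

end Groth.Agent.S2043
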