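import Groth.Statements.S2044
import Mathlib
import Groth.Agent.Lib.Helper27.EtaleFactor
import Groth.Agent.Lib.Helper27.ProjLift

set_option autoImplicit false
universe u
open CAlg

namespace Groth.Agent.S2044
open Polynomial


open TensorProduct in
/-- Let `I ⊆ A` be an ideal and `P` a finite projective `A/I`-module. Then there is an étale `A`-algebra
`A'` with `A/I → A'/IA'` bijective and a finite projective `A'`-module whose reduction modulo `IA'`
is the base change of `P`. -/
theorem result {A : Type u} [CommRing A] (I : Ideal A) (P : Type u)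
    [AddCommGroup P] [Module (A ⧸ I) P] [Module.Finite (A ⧸ I) P] [Module.Projective (A ⧸ I) P] :
    ∃ (A' : Type u) (_ : CommRing A') (_ : Algebra A A'), Algebra.Etale A A' ∧
      Function.Bijective (algebraMap (A ⧸ I) (A' ⧸ I.map (algebraMap A A'))) ∧
      ∃ (P' : Type u) (_ : AddCommGroup P') (_ : Module A' P'), Module.Finite A' P' ∧
        Module.Projective A' P' ∧
        Nonempty (((A' ⧸ I.map (algebraMap A A')) ⊗[A'] P') ≃ₗ[A' ⧸ I.map (algebraMap A A')]
          ((A' ⧸ I.map (algebraMap A A')) ⊗[A ⧸ I] P)) := by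
  classical
  rcases subsingleton_or_nontrivial (A ⧸ I) with htriv | hnt
  · have hItop : I = ⊤ := Ideal.Quotient.subsingleton_iff.mp htriv
    have hsub : Subsingleton (A ⧸ I.map (algebraMap A A)) := by
      rw [Ideal.Quotient.subsingleton_iff, hItop, Ideal.map_top]
    have h1 : Subsingleton ((A ⧸ I.map (algebraMap A A)) ⊗[A] PUnit.{u+1}) :=
      Module.subsingleton (A ⧸ I.map (algebraMap A A)) _
    have h2 : Subsingleton ((A ⧸ I.map (algebraMap A A)) ⊗[A ⧸ I] P) :=
      Module.subsingleton (A ⧸ I.map (algebraMap A A)) _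
    exact ⟨A, inferInstance, inferInstance, inferInstance,
      ⟨fun a b _ => Subsingleton.elim _ _, fun y => ⟨0, Subsingleton.elim _ _⟩⟩,
      PUnit, inferInstance, inferInstance, inferInstance, inferInstance,
      ⟨LinearEquiv.ofSubsingleton _ _⟩⟩
  · obtain ⟨n, f, g, -, -, hfg⟩ := Module.Finite.exists_comp_eq_id_of_projective (A ⧸ I) P
    have hfg' : ∀ q, f (g q) = q := fun q => DFunLike.congr_fun hfg q
    let M : Matrix (Fin n) (Fin n) (A ⧸ I) := LinearMap.toMatrix' (g ∘ₗ f)
    have hMidem : M * M = M := by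
      rw [← LinearMap.toMatrix'_comp]
      congr 1
      ext x i
      simp [hfg']
    have hMentry : ∀ i j, M i j = g (f (Pi.single j 1)) i := by
      intro i j
      simp [M, LinearMap.toMatrix'_apply]
    have hM : ∀ i j, ∃ r : A, Ideal.Quotient.mk I r = M i j := fun i j =>
      Ideal.Quotient.mk_surjective _
    choose M₀' hM₀ using hM
    let M₀ : Matrix (Fin n) (Fin n) A := Matrix.of M₀'
    have hM₀map : (Ideal.Quotient.mk I).mapMatrix M₀ = M := by
      ext i j
      simp [M₀, hM₀]
    let z := M₀ * M₀ - M₀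
    let F₀ := z.charpoly
    have hF₀ : F₀.Monic := Matrix.charpoly_monic z
    have hF₀map : F₀.map (Ideal.Quotient.mk I) = X ^ n := by
      have h0 : (Ideal.Quotient.mk I).mapMatrix z = 0 := by
        simp only [z, map_sub, map_mul, hM₀map, hMidem, sub_self]
      have h1 := Matrix.charpoly_map z (Ideal.Quotient.mk I)
      rw [← RingHom.mapMatrix_apply, h0, Matrix.charpoly_zero, Fintype.card_fin] at h1
      exact h1.symm
    have hF₀z : aeval z F₀ = 0 := Matrix.aeval_self_charpoly z
    let G : A[X] := (X * F₀).comp (X ^ 2 - X)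
    have hntA : Nontrivial A := Ideal.Quotient.mk_surjective (I := I).nontrivial
    have hXX : (X ^ 2 - X : A[X]).Monic := by
      apply monic_X_pow_sub
      rw [degree_X]; norm_num
    have hXXdeg : (X ^ 2 - X : A[X]).natDegree ≠ 0 := by
      have : (X ^ 2 - X : A[X]).natDegree = 2 := by
        rw [natDegree_sub_eq_left_of_natDegree_lt (by simp), natDegree_X_pow]
      omega
    have hG : G.Monic := (monic_X.mul hF₀).comp hXX hXXdeg
    have hGM₀ : aeval M₀ G = 0 := by
      simp only [G, aeval_comp, map_sub, map_pow, aeval_X, map_mul]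
      have : M₀ ^ 2 - M₀ = z := by simp only [z, sq]
      rw [this, hF₀z, mul_zero]
    have hGmap : G.map (Ideal.Quotient.mk I) = X ^ (n + 1) * (X - C 1) ^ (n + 1) := by
      rw [Polynomial.map_comp, Polynomial.map_mul, hF₀map, map_X]
      simp only [Polynomial.map_sub, Polynomial.map_pow, map_X, mul_comp, pow_comp, X_comp]
      rw [← pow_succ', ← mul_pow]; congr 1; rw [C_1]; ring
    obtain ⟨A', _, _, _, ψ, hker, G₁, G₂, -, -, hfac, hG₁ψ, hG₂ψ, ⟨U, V, hUV⟩⟩ :=
      Groth.Agent.Lib.Helper27.EtaleFactor.exists_etale_lift_monic_factorization' A I G hG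
        (X ^ (n + 1)) ((X - C 1) ^ (n + 1)) (monic_X_pow _) ((monic_X_sub_C 1).pow _) hGmap
        (IsCoprime.pow ⟨1, -1, by rw [C_1]; ring⟩)
    obtain ⟨hbij, hcomp⟩ :=
      Groth.Agent.Lib.Helper27.EtaleNbhd.quotientMap_bijective_of_ker I ψ hker
    refine ⟨A', inferInstance, inferInstance, inferInstance, hbij, ?_⟩
    let a₀ : Matrix (Fin n) (Fin n) A' := (Algebra.ofId A A').mapMatrix M₀
    have hGa₀ : aeval a₀ (G₁ * G₂) = 0 := by
      rw [← hfac, aeval_map_algebraMap, aeval_algHom_apply, hGM₀, map_zero]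
    let ε : Matrix (Fin n) (Fin n) A' := aeval a₀ (U * G₁)
    have hε : IsIdempotentElem ε :=
      Groth.Agent.Lib.Helper27.ProjLift.isIdempotentElem_aeval a₀ G₁ G₂ U V hUV hGa₀
    let Φ : Matrix (Fin n) (Fin n) A' →ₐ[A'] Matrix (Fin n) (Fin n)
        (A' ⧸ I.map (algebraMap A A')) := (Algebra.ofId A' _).mapMatrix
    have he_entry : ∀ i j, Φ a₀ i j =
        algebraMap (A ⧸ I) (A' ⧸ I.map (algebraMap A A')) (M i j) := by
      intro i j
      rw [← hM₀ i j]
      rfl
    have he_eq : Φ a₀ = (algebraMap (A ⧸ I) (A' ⧸ I.map (algebraMap A A'))).mapMatrix M := by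
      ext i j
      rw [he_entry]
      rfl
    have he_idem : IsIdempotentElem (Φ a₀) := by
      rw [he_eq, IsIdempotentElem, ← map_mul, hMidem]
    have hmk : ∀ p : A'[X], p.map (Ideal.Quotient.mk (I.map (algebraMap A A'))) =
        (p.map ψ.toRingHom).map (algebraMap (A ⧸ I) (A' ⧸ I.map (algebraMap A A'))) := by
      intro p
      rw [Polynomial.map_map]
      congr 1
      exact hcomp.symm
    have hG₁mk : G₁.map (Ideal.Quotient.mk (I.map (algebraMap A A'))) = X ^ (n + 1) := by
      rw [hmk, hG₁ψ, Polynomial.map_pow, map_X]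
    have hG₂mk : G₂.map (Ideal.Quotient.mk (I.map (algebraMap A A'))) = (X - 1) ^ (n + 1) := by
      rw [hmk, hG₂ψ]
      simp
    have hid : U.map (Ideal.Quotient.mk (I.map (algebraMap A A'))) * X ^ (n + 1) +
        V.map (Ideal.Quotient.mk (I.map (algebraMap A A'))) * (X - 1) ^ (n + 1) = 1 := by
      rw [← hG₁mk, ← hG₂mk, ← Polynomial.map_mul, ← Polynomial.map_mul, ← Polynomial.map_add,
        hUV, Polynomial.map_one]
    have hΦε : Φ ε = Φ a₀ := by
      have h1 : Φ ε = aeval (Φ a₀) (U * G₁) := (aeval_algHom_apply Φ a₀ _).symm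
      rw [h1, ← aeval_map_algebraMap (A' ⧸ I.map (algebraMap A A')) (Φ a₀) (U * G₁)]
      have h2 : (U * G₁).map (algebraMap A' (A' ⧸ I.map (algebraMap A A'))) =
          U.map (Ideal.Quotient.mk (I.map (algebraMap A A'))) * X ^ (n + 1) := by
        rw [Polynomial.map_mul, ← hG₁mk]
        rfl
      rw [h2]
      exact Groth.Agent.Lib.Helper27.ProjLift.aeval_idem_eq (Φ a₀) he_idem _ _ n hid
    have hε_entry : ∀ i j, Ideal.Quotient.mk (I.map (algebraMap A A')) (ε i j) =
        algebraMap (A ⧸ I) (A' ⧸ I.map (algebraMap A A')) (M i j) := by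
      intro i j
      rw [← he_entry, ← hΦε]
      rfl
    obtain ⟨fS, gS, hfgS, hgfS⟩ := Groth.Agent.Lib.Helper27.ProjLift.exists_baseChange_splitting
      (S := A' ⧸ I.map (algebraMap A A')) n f g hfg'
    have hεmap : ∀ i j, Ideal.Quotient.mk (I.map (algebraMap A A')) (ε i j) =
        gS (fS (Pi.single j 1)) i := by
      intro i j
      rw [hgfS, hε_entry, hMentry]
    exact Groth.Agent.Lib.Helper27.ProjLift.exists_projective_lift (I.map (algebraMap A A'))
      ((A' ⧸ I.map (algebraMap A A')) ⊗[A ⧸ I] P) n fS gS hfgS ε hε hεmap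

end Groth.Agent.S2044
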