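import Groth.Statements.S2046
-- import your own Groth.Agent.* helpers here
import Groth.Agent.S9314
import Groth.Agent.Lib.Helper49.GRingLocal
import Groth.Agent.Lib.Helper70.RegHomFS
import Groth.Agent.Lib.Helper87.HensStrictProps
import Groth.Agent.Lib.Helper87.HensFEtale
import Groth.Agent.Lib.Helper87.HensNoethStrict
import Groth.Agent.Lib.Helper61.FSAdicCompl

set_option autoImplicit false
universe u
open CAlg

namespace Groth.Agent.S2046

open IsLocalRing Groth.Agent.Lib.Helper56

theorem fs_of_formallySmooth {A B : Type u} [CommRing A] [CommRing B] [Algebra A B]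
    [Algebra.FormallySmooth A B] (𝔫 : Ideal B) : CAlgX.IsAdicFormallySmooth A B 𝔫 := by
  intro C _ _ J hJ ψ _
  obtain ⟨χ, hχ⟩ := Algebra.FormallySmooth.exists_lift J ⟨2, hJ⟩ ψ
  exact ⟨χ, hχ⟩

theorem fs_change_base_unramified {A B C : Type u} [CommRing A] [CommRing B] [CommRing C]
    [Algebra A B] [Algebra B C] [Algebra A C] [IsScalarTower A B C]
    [Algebra.FormallyUnramified A B] (𝔫 : Ideal C) (h : CAlgX.IsAdicFormallySmooth A C 𝔫) :
    CAlgX.IsAdicFormallySmooth B C 𝔫 := by
  intro D _ _ J hJ ψ hψ
  letI : Algebra A D := ((algebraMap B D).comp (algebraMap A B)).toAlgebra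
  haveI : IsScalarTower A B D := IsScalarTower.of_algebraMap_eq (fun _ => rfl)
  obtain ⟨χ, hχ⟩ := h D J hJ (ψ.restrictScalars A) hψ
  have hχ' : ∀ c, Ideal.Quotient.mk J (χ c) = ψ c := fun c => DFunLike.congr_fun hχ c
  have key : χ.comp (IsScalarTower.toAlgHom A B C) = IsScalarTower.toAlgHom A B D := by
    apply Algebra.FormallyUnramified.lift_unique J ⟨2, hJ⟩
    refine AlgHom.ext fun b => ?_
    show Ideal.Quotient.mk J (χ (algebraMap B C b)) = Ideal.Quotient.mk J (algebraMap B D b)
    rw [hχ', ψ.commutes]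
    rfl
  refine ⟨{ (χ : C →+* D) with commutes' := fun b => DFunLike.congr_fun key b }, ?_⟩
  exact AlgHom.ext fun x => hχ' x

theorem adicFS_gen (A B : Type u) [CommRing A] [CommRing B] [Algebra A B] [IsNoetherianRing A]
    [IsNoetherianRing B] (h : CAlg.IsRegularHom A B) (Q : Ideal B) [Q.IsPrime]
    (p₀ : Ideal A) [p₀.IsPrime] (hp : p₀ = Ideal.comap (algebraMap A B) Q) :
    letI := (Localization.localRingHom p₀ Q (algebraMap A B) hp).toAlgebra
    CAlgX.IsAdicFormallySmooth (Localization.AtPrime p₀) (Localization.AtPrime Q)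
      (maximalIdeal (Localization.AtPrime Q)) := by
  subst hp
  exact Groth.Agent.Lib.Helper70.RegHomFS.adicFS_of_isRegularHom A B h Q

/-- If `R` is a Noetherian local G-ring then its strict henselization is a G-ring. -/
theorem result {R S : Type u} [CommRing R] [IsLocalRing R] [IsNoetherianRing R]
    (hR : CAlg.IsGRing R) [CommRing S] [IsLocalRing S] [Algebra R S] [IsLocalHom (algebraMap R S)]
    [Hensel.IsStrictHenselization R S] : CAlg.IsGRing S := by
  classical
  obtain ⟨e⟩ := Groth.Agent.Lib.Helper87.Hens.nonempty_algEquiv_Hsh R S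
  haveI hHN : IsNoetherianRing (Groth.Agent.Lib.Helper87.Hens.Hsh R) :=
    Groth.Agent.Lib.Helper87.Hens.H.isNoetherianRing
  haveI hSN : IsNoetherianRing S := isNoetherianRing_of_ringEquiv _ e.symm.toRingEquiv
  haveI hfe : Algebra.FormallyEtale R S := Algebra.FormallyEtale.of_equiv e.symm
  have hRreg := Groth.Agent.Lib.Helper49.GRingLocal.isRegularHom_cpl_of_isGRing R hR
  apply Groth.Agent.Lib.Helper49.GRingLocal.isGRing_of_isRegularHom_cpl S
  haveI hŜN : IsNoetherianRing (EGA4.Cpl S) := Groth.Agent.S0543.result _ _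
  haveI hst := isScalarTower_cpl_base R S
  haveI hlocS : IsLocalHom (algebraMap S (EGA4.Cpl S)) := inferInstance
  haveI hloc : IsLocalHom (algebraMap R (EGA4.Cpl S)) := by
    rw [IsScalarTower.algebraMap_eq R S (EGA4.Cpl S)]
    exact RingHom.isLocalHom_comp _ _
  have hfs : CAlgX.IsAdicFormallySmooth R S (maximalIdeal S) := fs_of_formallySmooth _
  have hfs' : CAlgX.IsAdicFormallySmooth R (EGA4.Cpl S) (maximalIdeal (EGA4.Cpl S)) := by
    have := Groth.Agent.Lib.Helper61.FSCompl.to_completion (maximalIdeal S)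
      (IsNoetherian.noetherian _) hfs
    rwa [← AdicCompletion.maximalIdeal_eq_map] at this
  have hRŜ : CAlg.IsRegularHom R (EGA4.Cpl S) := Groth.Agent.S9314.result hRreg hfs'
  apply Groth.Agent.Lib.Helper70.RegHomFS.isRegularHom_of_forall_adicFS
  intro Q _
  have hp' : Ideal.comap (algebraMap R S) (Ideal.comap (algebraMap S (EGA4.Cpl S)) Q) =
      Ideal.comap (algebraMap R (EGA4.Cpl S)) Q := by
    rw [IsScalarTower.algebraMap_eq R S (EGA4.Cpl S), ← Ideal.comap_comap]
  letI algpq : Algebra
      (Localization.AtPrime (Ideal.comap (algebraMap R S) (Ideal.comap (algebraMap S (EGA4.Cpl S)) Q)))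
      (Localization.AtPrime (Ideal.comap (algebraMap S (EGA4.Cpl S)) Q)) :=
    (Localization.localRingHom _ (Ideal.comap (algebraMap S (EGA4.Cpl S)) Q)
      (algebraMap R S) rfl).toAlgebra
  letI algqQ : Algebra (Localization.AtPrime (Ideal.comap (algebraMap S (EGA4.Cpl S)) Q))
      (Localization.AtPrime Q) :=
    (Localization.localRingHom (Ideal.comap (algebraMap S (EGA4.Cpl S)) Q) Q
      (algebraMap S (EGA4.Cpl S)) rfl).toAlgebra
  letI algpQ : Algebra
      (Localization.AtPrime (Ideal.comap (algebraMap R S) (Ideal.comap (algebraMap S (EGA4.Cpl S)) Q)))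
      (Localization.AtPrime Q) :=
    (Localization.localRingHom _ Q (algebraMap R (EGA4.Cpl S)) hp').toAlgebra
  have h1 := adicFS_gen R (EGA4.Cpl S) hRŜ Q _ hp'
  haveI htower : IsScalarTower
      (Localization.AtPrime (Ideal.comap (algebraMap R S) (Ideal.comap (algebraMap S (EGA4.Cpl S)) Q)))
      (Localization.AtPrime (Ideal.comap (algebraMap S (EGA4.Cpl S)) Q))
      (Localization.AtPrime Q) := by
    refine IsScalarTower.of_algebraMap_eq (fun x => ?_)
    have : (Localization.localRingHom _ Q (algebraMap R (EGA4.Cpl S)) hp') =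
        (Localization.localRingHom (Ideal.comap (algebraMap S (EGA4.Cpl S)) Q) Q
          (algebraMap S (EGA4.Cpl S)) rfl).comp
        (Localization.localRingHom _ (Ideal.comap (algebraMap S (EGA4.Cpl S)) Q)
          (algebraMap R S) rfl) := by
      apply IsLocalization.ringHom_ext
        (Ideal.comap (algebraMap R S) (Ideal.comap (algebraMap S (EGA4.Cpl S)) Q)).primeCompl
      refine RingHom.ext fun r => ?_
      rw [RingHom.comp_apply, RingHom.comp_apply, RingHom.comp_apply,
        Localization.localRingHom_to_map, Localization.localRingHom_to_map,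
        Localization.localRingHom_to_map, ← IsScalarTower.algebraMap_apply R S (EGA4.Cpl S)]
    exact DFunLike.congr_fun this x
  haveI hst2 := Groth.Agent.Lib.Helper67.RegHomLocal.isScalarTower_localRingHom R S
    (Ideal.comap (algebraMap S (EGA4.Cpl S)) Q)
  haveI hu1 : Algebra.FormallyUnramified S
      (Localization.AtPrime (Ideal.comap (algebraMap S (EGA4.Cpl S)) Q)) :=
    Algebra.FormallyUnramified.of_isLocalization
      (Ideal.comap (algebraMap S (EGA4.Cpl S)) Q).primeCompl
  haveI hu2 : Algebra.FormallyUnramified R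
      (Localization.AtPrime (Ideal.comap (algebraMap S (EGA4.Cpl S)) Q)) :=
    Algebra.FormallyUnramified.comp R S _
  haveI hu3 : Algebra.FormallyUnramified
      (Localization.AtPrime (Ideal.comap (algebraMap R S) (Ideal.comap (algebraMap S (EGA4.Cpl S)) Q)))
      (Localization.AtPrime (Ideal.comap (algebraMap S (EGA4.Cpl S)) Q)) :=
    Algebra.FormallyUnramified.of_restrictScalars R _ _
  exact fs_change_base_unramified _ h1

end Groth.Agent.S2046
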