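import Groth.Statements.S2048
-- import your own Groth.Agent.* helpers here
import Groth.Agent.Lib.Helper49.J2g
import Groth.Agent.Lib.Helper38.ComplNagata
import Groth.Agent.S0581

set_option autoImplicit false
universe u
open CAlg

namespace Groth.Agent.S2048

open Groth.Agent.Lib.Helper49.J2

/-- Let `p` be a prime and `B` a domain of characteristic `p`, finitely generated as an algebra over
some complete Noetherian local ring. If `f ∈ B` has no `p`-th root in the fraction field of `B`,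
then some derivation `D : B → B` has `D(f) ≠ 0`. -/
theorem result {R B : Type u} [CommRing R] [IsLocalRing R]
    [IsNoetherianRing R] [IsAdicComplete (IsLocalRing.maximalIdeal R) R] [CommRing B] [IsDomain B]
    [Algebra R B] [Algebra.FiniteType R B] (p : ℕ) [Fact p.Prime] [CharP B p] (f : B)
    (hf : ∀ x : FractionRing B, x ^ p ≠ algebraMap B (FractionRing B) f) :
    ∃ D : Derivation ℤ B B, D f ≠ 0 := by
  let 𝔭 : Ideal R := RingHom.ker (algebraMap R B)
  haveI : 𝔭.IsPrime := RingHom.ker_isPrime (algebraMap R B)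
  haveI : Nontrivial (R ⧸ 𝔭) := Ideal.Quotient.nontrivial_iff.mpr (Ideal.IsPrime.ne_top inferInstance)
  haveI : IsLocalRing (R ⧸ 𝔭) := inferInstance
  haveI : IsAdicComplete (IsLocalRing.maximalIdeal (R ⧸ 𝔭)) (R ⧸ 𝔭) :=
    Groth.Agent.Lib.Helper38.ComplNagata.isAdicComplete_quotient R 𝔭
  letI : Algebra (R ⧸ 𝔭) B := (RingHom.kerLift (algebraMap R B)).toAlgebra
  haveI : IsScalarTower R (R ⧸ 𝔭) B := IsScalarTower.of_algebraMap_eq (fun _ => rfl)
  haveI : Algebra.FiniteType (R ⧸ 𝔭) B :=
    Algebra.FiniteType.of_restrictScalars_finiteType R (R ⧸ 𝔭) B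
  have hinjq : Function.Injective (algebraMap (R ⧸ 𝔭) B) :=
    RingHom.kerLift_injective (algebraMap R B)
  haveI : IsDomain (R ⧸ 𝔭) := Ideal.Quotient.isDomain 𝔭
  obtain ⟨Λ, _, n, g, hΛ, hinj, hfin, -⟩ := Groth.Agent.S0581.result (R ⧸ 𝔭)
  have hinj' : Function.Injective ((algebraMap (R ⧸ 𝔭) B).comp g) := hinjq.comp hinj
  haveI hΛchar : CharP Λ p :=
    RingHom.charP (((algebraMap (R ⧸ 𝔭) B).comp g).comp MvPowerSeries.C)
      (hinj'.comp MvPowerSeries.C_injective) p
  rcases hΛ with hfield | hcohen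
  · letI := hfield.toField
    letI : Algebra (MvPowerSeries (Fin n) Λ) (R ⧸ 𝔭) := g.toAlgebra
    letI : Algebra (MvPowerSeries (Fin n) Λ) B := ((algebraMap (R ⧸ 𝔭) B).comp g).toAlgebra
    haveI : IsScalarTower (MvPowerSeries (Fin n) Λ) (R ⧸ 𝔭) B :=
      IsScalarTower.of_algebraMap_eq (fun _ => rfl)
    haveI : Module.Finite (MvPowerSeries (Fin n) Λ) (R ⧸ 𝔭) := hfin
    haveI : Algebra.FiniteType (MvPowerSeries (Fin n) Λ) B :=
      Algebra.FiniteType.trans (S := R ⧸ 𝔭) inferInstance inferInstance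
    haveI : FaithfulSMul (MvPowerSeries (Fin n) Λ) B :=
      (faithfulSMul_iff_algebraMap_injective _ B).mpr hinj'
    haveI : IsDomain (MvPowerSeries (Fin n) Λ) := NoZeroDivisors.to_isDomain _
    haveI : FaithfulSMul (MvPowerSeries (Fin n) Λ) (FractionRing B) := by
      rw [faithfulSMul_iff_algebraMap_injective,
        IsScalarTower.algebraMap_eq (MvPowerSeries (Fin n) Λ) B (FractionRing B)]
      exact (IsFractionRing.injective B (FractionRing B)).comp hinj'
    letI := FractionRing.liftAlgebra (MvPowerSeries (Fin n) Λ) (FractionRing B)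
    haveI := FractionRing.isScalarTower_liftAlgebra (MvPowerSeries (Fin n) Λ) (FractionRing B)
    exact exists_derivation_ne_zero_of_finiteType' p (k := Λ) n
      (FractionRing (MvPowerSeries (Fin n) Λ)) (FractionRing B) B f hf
  · exfalso
    obtain ⟨hdom, hdvr, -, ℓ, hℓ, hmax⟩ := hcohen
    have hqp : p.Prime := Fact.out
    have hq0 : ((p : ℕ) : Λ) = 0 := CharP.cast_eq_zero Λ p
    have hℓmem : (ℓ : Λ) ∈ IsLocalRing.maximalIdeal Λ := by
      rw [hmax]
      exact Ideal.mem_span_singleton_self _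
    have hℓ0 : (ℓ : Λ) ≠ 0 := by
      intro h0
      apply IsDiscreteValuationRing.not_a_field Λ
      rw [hmax, h0, Ideal.span_singleton_eq_bot]
    have hne : ℓ ≠ p := by
      rintro rfl
      exact hℓ0 hq0
    have hcop : IsCoprime (ℓ : ℤ) (p : ℤ) :=
      Nat.isCoprime_iff_coprime.mpr ((Nat.coprime_primes hℓ hqp).mpr hne)
    obtain ⟨a, b, hab⟩ := hcop
    have h1 : (a : Λ) * (ℓ : Λ) + (b : Λ) * (p : Λ) = 1 := by
      have := congrArg (Int.cast : ℤ → Λ) hab
      push_cast at this
      exact this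
    rw [hq0, mul_zero, add_zero] at h1
    have hunit : IsUnit (ℓ : Λ) := IsUnit.of_mul_eq_one _ (by rw [mul_comm]; exact h1)
    exact (IsLocalRing.mem_maximalIdeal _).mp hℓmem hunit

end Groth.Agent.S2048
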