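import Groth.Statements.S2054
import Mathlib
import Groth.Agent.S0601
import Groth.Agent.S18702
import Groth.Agent.S18704
import Groth.Agent.Lib.Helper85.Reflexive
import Groth.Agent.Lib.Helper85.Reflexive2
import Groth.Agent.Lib.Helper80.NormalDim2

set_option autoImplicit false
universe u
open CAlg

namespace Groth.Agent.S2054

open Module

section

variable {R : Type u} [CommRing R] [IsDomain R] [IsNoetherianRing R] [IsIntegrallyClosed R]

lemma hasSk_two_self : LocCoh.HasSk 2 R R := by
  refine ((Groth.Agent.S0601.result R).1 ?_).2
  intro p _
  exact ⟨inferInstance,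
    isIntegrallyClosed_of_isLocalization _ p.primeCompl p.primeCompl_le_nonZeroDivisors⟩

/-- the localization at a prime of height `≤ 1` is a principal ideal ring -/
lemma isPrincipalIdealRing_atPrime (p : Ideal R) [p.IsPrime] (hp : p.height ≤ 1) :
    IsPrincipalIdealRing (Localization.AtPrime p) := by
  by_cases h0 : p.height = 0
  · apply IsField.isPrincipalIdealRing
    rw [IsLocalRing.isField_iff_maximalIdeal_eq]
    have hb : p = ⊥ := Ideal.height_eq_zero_iff_eq_bot.1 h0
    have := Localization.AtPrime.map_eq_maximalIdeal (I := p)
    rw [← this, eq_bot_iff, Ideal.map_le_iff_le_comap]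
    intro x hx
    have hx0 : x = 0 := by rw [hb] at hx; exact hx
    rw [hx0]; exact Ideal.zero_mem _
  · have h1 : p.height = 1 := by
      refine le_antisymm hp ?_
      rw [Order.one_le_iff_pos]
      exact pos_iff_ne_zero.2 h0
    have := Groth.Agent.Lib.Helper80.NormalDim2.isDVR_atPrime p h1
    infer_instance

variable (M : Type u) [AddCommGroup M] [Module R M] [Module.Finite R M]

lemma isReflexive_atPrime [NoZeroSMulDivisors R M] (p : Ideal R) [p.IsPrime]
    (hp : p.height ≤ 1) :
    Module.IsReflexive (Localization.AtPrime p) (LocalizedModule p.primeCompl M) := by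
  have := isPrincipalIdealRing_atPrime p hp
  have h1 : Module.Finite (Localization.AtPrime p) (LocalizedModule p.primeCompl M) :=
    inferInstance
  have h2 : Module.IsTorsionFree (Localization.AtPrime p) (LocalizedModule p.primeCompl M) :=
    inferInstance
  have h3 : Module.Free (Localization.AtPrime p) (LocalizedModule p.primeCompl M) :=
    Module.free_of_finite_type_torsion_free'
  infer_instance

lemma eval_injective [NoZeroSMulDivisors R M] : Function.Injective (Dual.eval R M) := by
  rw [injective_iff_map_eq_zero]
  intro x hx
  have : Module.IsReflexive (Localization.AtPrime (⊥ : Ideal R))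
      (LocalizedModule (⊥ : Ideal R).primeCompl M) :=
    isReflexive_atPrime M ⊥ (by rw [Ideal.height_bot]; exact zero_le_one)
  obtain ⟨s, hs, hsx⟩ := Groth.Agent.Lib.Helper85.Reflexive.exists_smul_eq_zero ⊥ M x
    (fun φ => by
      have := LinearMap.congr_fun hx φ
      simpa using this)
  rcases smul_eq_zero.1 hsx with h | h
  · exact absurd (by rw [h]; exact Ideal.zero_mem _) hs
  · exact h

end

/-- Let `R` be a Noetherian normal domain and `M` a finite `R`-module. Then `M` is reflexive (the map to
its double dual is bijective) if and only if `M` is torsion free and satisfies Serre's condition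
`(S_2)`. -/
theorem result {R M : Type u} [CommRing R] [IsDomain R] [IsNoetherianRing R]
    [IsIntegrallyClosed R] [AddCommGroup M] [Module R M] [Module.Finite R M] :
    Module.IsReflexive R M ↔ NoZeroSMulDivisors R M ∧ LocCoh.HasSk 2 R M := by
  constructor
  · intro hrefl
    refine ⟨⟨?_⟩, (Groth.Agent.S18702.result R ⊤ M).2.2.2 hasSk_two_self⟩
    intro r x hrx
    by_cases hr : r = 0
    · exact Or.inl hr
    · right
      apply (Module.bijective_dual_eval R M).1
      rw [map_zero]
      ext φ
      have h1 : r • φ x = 0 := by rw [← map_smul, hrx, map_zero]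
      rcases smul_eq_zero.1 h1 with h | h
      · exact absurd h hr
      · simpa using h
  · rintro ⟨htf, hS2⟩
    have hinj := eval_injective (R := R) M
    set I : Ideal R := Module.annihilator R
      (Dual R (Dual R M) ⧸ LinearMap.range (Dual.eval R M)) with hIdef
    have hmem : ∀ s ∈ I, ∀ ξ : Dual R (Dual R M), s • ξ ∈ LinearMap.range (Dual.eval R M) := by
      intro s hs ξ
      have := Module.mem_annihilator.1 hs (Submodule.Quotient.mk ξ)
      rw [← Submodule.Quotient.mk_smul, Submodule.Quotient.mk_eq_zero] at this
      exact this
    have hU : ∀ p : PrimeSpectrum R, ¬ I ≤ p.asIdeal →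
        Module.IsReflexive (Localization.AtPrime p.asIdeal)
          (LocalizedModule p.asIdeal.primeCompl M) := by
      intro p hp
      obtain ⟨s, hsI, hsp⟩ := Set.not_subset.1 hp
      apply Groth.Agent.Lib.Helper85.Reflexive.isReflexive_localization_of_smul p.asIdeal M s hsp
      · intro x hx
        rw [hinj (hx.trans (map_zero _).symm), smul_zero]
      · exact hmem s hsI
    have hI : 2 ≤ I.height := by
      rw [Ideal.height_eq_inf_minimalPrimes]
      refine le_iInf₂ fun J hJ => ?_
      have hJprime : J.IsPrime := hJ.1.1
      by_contra hcon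
      have hJ1 : J.height ≤ 1 := by
        rw [not_le, ← one_add_one_eq_two, ENat.lt_add_one_iff (by simp)] at hcon
        exact hcon
      have hrefl := isReflexive_atPrime M J hJ1
      -- every element of the double dual is multiplied into the range by something off `J`
      have hfg : (⊤ : Submodule R (Dual R (Dual R M))).FG := Module.Finite.fg_top
      obtain ⟨gens, hgens⟩ := hfg
      have h1 : ∀ ξ : Dual R (Dual R M), ∃ s : R, s ∉ J ∧
          s • ξ ∈ LinearMap.range (Dual.eval R M) := fun ξ =>
        Groth.Agent.Lib.Helper85.Reflexive.exists_smul_mem_range J M ξ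
      choose f hfJ hfr using h1
      have hprod : (∏ ξ ∈ gens, f ξ) ∉ J := by
        intro h
        obtain ⟨ξ, _, hξ⟩ := (Ideal.IsPrime.prod_mem_iff).1 h
        exact hfJ ξ hξ
      apply hprod
      apply hJ.1.2
      rw [hIdef, Module.mem_annihilator]
      intro c
      obtain ⟨ξ, rfl⟩ := Submodule.Quotient.mk_surjective _ c
      rw [← Submodule.Quotient.mk_smul, Submodule.Quotient.mk_eq_zero]
      have hξ : ξ ∈ Submodule.span R (gens : Set (Dual R (Dual R M))) := by
        rw [hgens]; trivial
      induction hξ using Submodule.span_induction with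
      | mem y hy =>
        classical
        rw [← Finset.mul_prod_erase gens f hy, mul_comm, mul_smul]
        exact Submodule.smul_mem _ _ (hfr y)
      | zero => rw [smul_zero]; exact Submodule.zero_mem _
      | add y z _ _ hy hz => rw [smul_add]; exact Submodule.add_mem _ hy hz
      | smul a y _ hy => rw [smul_comm]; exact Submodule.smul_mem _ _ hy
    have key := Groth.Agent.S18704.result R hasSk_two_self I hI M hU
    refine key.2.1 (key.1.1 ⟨hS2, ?_⟩)
    intro p hIp hpsupp
    have hnt : Nontrivial (LocalizedModule p.asIdeal.primeCompl M) :=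
      Module.mem_support_iff.1 hpsupp
    have hann : Module.annihilator (Localization.AtPrime p.asIdeal)
        (LocalizedModule p.asIdeal.primeCompl M) = ⊥ := by
      rw [eq_bot_iff]
      intro a ha
      obtain ⟨x, hx⟩ := exists_ne (0 : LocalizedModule p.asIdeal.primeCompl M)
      have h1 := Module.mem_annihilator.1 ha x
      rcases smul_eq_zero.1 h1 with h | h
      · exact h
      · exact absurd h hx
    rw [Module.supportDim_eq_ringKrullDim_quotient_annihilator, hann,
      ringKrullDim_eq_of_ringEquiv (RingEquiv.quotientBot _),
      IsLocalization.AtPrime.ringKrullDim_eq_height p.asIdeal]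
    have h2 : (2 : ℕ∞) ≤ p.asIdeal.height := hI.trans (Ideal.height_mono hIp)
    exact WithBot.coe_le_coe.2 h2

end Groth.Agent.S2054
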