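import Groth.Statements.S2055
import Mathlib

set_option autoImplicit false
universe u
open CAlg

namespace Groth.Agent.S2055

section
open TensorProduct

theorem tors_inj {R S : Type u} [CommRing R] [CommRing S] [Algebra R S] [Module.Flat R S]
    (I : Ideal R)
    (hq : Function.Bijective (algebraMap (R ⧸ I) (S ⧸ I.map (algebraMap R S))))
    {X : Type u} [AddCommGroup X] [Module R X] (x : X) (n : ℕ) (hx : ∀ a ∈ I ^ n, a • x = 0)
    (h0 : (1 : S) ⊗ₜ[R] x = 0) : x = 0 := by
  let g : R →ₗ[R] X := LinearMap.toSpanSingleton R X x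
  let J : Ideal R := LinearMap.ker g
  have hJ : ∀ a, a ∈ J ↔ a • x = 0 := fun a => by
    change g a = 0 ↔ _
    rw [LinearMap.toSpanSingleton_apply]
  by_cases hJtop : J = ⊤
  · have : (1 : R) ∈ J := hJtop ▸ Submodule.mem_top
    rw [hJ, one_smul] at this
    exact this
  exfalso
  obtain ⟨𝔪, h𝔪, hJ𝔪⟩ := Ideal.exists_le_maximal J hJtop
  have hIn : I ^ n ≤ 𝔪 := fun a ha => hJ𝔪 ((hJ a).mpr (hx a ha))
  have hI𝔪 : I ≤ 𝔪 := Ideal.IsPrime.le_of_pow_le hIn
  let ι : (R ⧸ J) →ₗ[R] X := J.liftQ g le_rfl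
  have hι : Function.Injective ι := by
    rw [← LinearMap.ker_eq_bot]
    exact Submodule.ker_liftQ_eq_bot _ _ _ le_rfl
  have hιT : Function.Injective (LinearMap.lTensor S ι) :=
    Module.Flat.lTensor_preserves_injective_linearMap ι hι
  have h1 : (1 : S) ⊗ₜ[R] (Submodule.Quotient.mk (1 : R) : R ⧸ J) = 0 := by
    apply hιT
    rw [LinearMap.lTensor_tmul, map_zero]
    have : ι (Submodule.Quotient.mk (1 : R)) = x := by
      change g 1 = x
      rw [LinearMap.toSpanSingleton_apply, one_smul]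
    rw [this, h0]
  let e : (R ⧸ I) ≃+* (S ⧸ I.map (algebraMap R S)) := RingEquiv.ofBijective _ hq
  let φ : S →+* R ⧸ 𝔪 := (Ideal.Quotient.factor hI𝔪).comp
    ((e.symm : (S ⧸ I.map (algebraMap R S)) →+* (R ⧸ I)).comp (Ideal.Quotient.mk _))
  have hφ : ∀ r : R, φ (algebraMap R S r) = Ideal.Quotient.mk 𝔪 r := by
    intro r
    change Ideal.Quotient.factor hI𝔪 (e.symm (Ideal.Quotient.mk _ (algebraMap R S r))) = _
    have : e (Ideal.Quotient.mk I r) = Ideal.Quotient.mk _ (algebraMap R S r) :=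
      Ideal.Quotient.algebraMap_quotient_map_quotient r
    rw [← this, RingEquiv.symm_apply_apply]
    rfl
  let fac : (R ⧸ J) →ₗ[R] (R ⧸ 𝔪) := J.liftQ (Submodule.mkQ 𝔪) (by
    intro a ha
    rw [Submodule.ker_mkQ]
    exact hJ𝔪 ha)
  let B : S →ₗ[R] (R ⧸ J) →ₗ[R] (R ⧸ 𝔪) := LinearMap.mk₂ R (fun s r => φ s * fac r)
    (fun s s' r => by rw [map_add, add_mul])
    (fun c s r => by
      rw [Algebra.smul_def, map_mul, hφ, mul_assoc]
      exact (Algebra.smul_def c (φ s * fac r)).symm)
    (fun s r r' => by rw [map_add, mul_add])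
    (fun c s r => by rw [map_smul, mul_smul_comm])
  have h2 := congrArg (TensorProduct.lift B) h1
  rw [TensorProduct.lift.tmul, map_zero] at h2
  change φ 1 * fac (Submodule.Quotient.mk (1 : R)) = 0 at h2
  have h3 : fac (Submodule.Quotient.mk (1 : R)) = 1 := rfl
  rw [map_one, h3, one_mul] at h2
  have : Nontrivial (R ⧸ 𝔪) := Ideal.Quotient.nontrivial_iff.mpr h𝔪.ne_top
  exact one_ne_zero h2

theorem approx {R S : Type u} [CommRing R] [CommRing S] [Algebra R S]
    (I : Ideal R)
    (hq : Function.Bijective (algebraMap (R ⧸ I) (S ⧸ I.map (algebraMap R S)))) (n : ℕ) :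
    ∀ s : S, ∃ r : R, s - algebraMap R S r ∈ (I ^ n).map (algebraMap R S) := by
  have h1 : ∀ s : S, ∃ r : R, s - algebraMap R S r ∈ I.map (algebraMap R S) := by
    intro s
    obtain ⟨rb, hrb⟩ := hq.2 (Ideal.Quotient.mk _ s)
    obtain ⟨r, rfl⟩ := Ideal.Quotient.mk_surjective rb
    refine ⟨r, ?_⟩
    rw [Ideal.Quotient.algebraMap_quotient_map_quotient] at hrb
    rw [← Ideal.Quotient.eq]
    exact hrb.symm
  induction n with
  | zero =>
    intro s
    exact ⟨0, by rw [pow_zero, Ideal.one_eq_top, Ideal.map_top]; exact Submodule.mem_top⟩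
  | succ n ih =>
    have step : ∀ t ∈ (I ^ n).map (algebraMap R S),
        ∃ r' : R, t - algebraMap R S r' ∈ (I ^ (n + 1)).map (algebraMap R S) := by
      intro t ht
      induction ht using Submodule.span_induction with
      | mem t ht =>
        obtain ⟨a, ha, rfl⟩ := ht
        exact ⟨a, by rw [sub_self]; exact Ideal.zero_mem _⟩
      | zero => exact ⟨0, by rw [map_zero, sub_self]; exact Ideal.zero_mem _⟩
      | add t t' _ _ ht ht' =>
        obtain ⟨r, hr⟩ := ht
        obtain ⟨r', hr'⟩ := ht'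
        refine ⟨r + r', ?_⟩
        have : t + t' - algebraMap R S (r + r') = (t - algebraMap R S r) + (t' - algebraMap R S r') := by
          rw [map_add]; ring
        rw [this]
        exact Ideal.add_mem _ hr hr'
      | smul s' t htm ht =>
        obtain ⟨rt, hrt⟩ := ht
        obtain ⟨r₁, hr₁⟩ := h1 s'
        refine ⟨r₁ * rt, ?_⟩
        have : s' • t - algebraMap R S (r₁ * rt) =
            algebraMap R S r₁ * (t - algebraMap R S rt) + (s' - algebraMap R S r₁) * t := by
          rw [map_mul, smul_eq_mul]; ring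
        rw [this]
        refine Ideal.add_mem _ (Ideal.mul_mem_left _ _ hrt) ?_
        have hmul : (s' - algebraMap R S r₁) * t ∈
            I.map (algebraMap R S) * (I ^ n).map (algebraMap R S) :=
          Ideal.mul_mem_mul hr₁ htm
        rw [← Ideal.map_mul, ← pow_succ'] at hmul
        exact hmul
    intro s
    obtain ⟨r, hr⟩ := ih s
    obtain ⟨r', hr'⟩ := step _ hr
    refine ⟨r + r', ?_⟩
    have : s - algebraMap R S (r + r') = s - algebraMap R S r - algebraMap R S r' := by
      rw [map_add]; ring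
    rw [this]
    exact hr'

theorem tmul_zero_of_mem {R S : Type u} [CommRing R] [CommRing S] [Algebra R S]
    (I : Ideal R) {X : Type u} [AddCommGroup X] [Module R X] (x : X) (n : ℕ)
    (hx : ∀ a ∈ I ^ n, a • x = 0) (t : S) (ht : t ∈ (I ^ n).map (algebraMap R S)) :
    t ⊗ₜ[R] x = 0 := by
  induction ht using Submodule.span_induction with
  | mem t ht =>
    obtain ⟨a, ha, rfl⟩ := ht
    rw [Algebra.algebraMap_eq_smul_one, TensorProduct.smul_tmul, hx a ha, TensorProduct.tmul_zero]
  | zero => exact TensorProduct.zero_tmul _ _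
  | add t t' _ _ ht ht' => rw [TensorProduct.add_tmul, ht, ht', add_zero]
  | smul s' t _ ht =>
    rw [← TensorProduct.smul_tmul', ht, smul_zero]

theorem tors_surj {R S : Type u} [CommRing R] [CommRing S] [Algebra R S]
    (I : Ideal R)
    (hq : Function.Bijective (algebraMap (R ⧸ I) (S ⧸ I.map (algebraMap R S))))
    {X : Type u} [AddCommGroup X] [Module R X]
    (hX : ∀ x : X, ∃ n : ℕ, ∀ a ∈ I ^ n, a • x = 0) (z : S ⊗[R] X) :
    ∃ x : X, (1 : S) ⊗ₜ[R] x = z := by
  induction z using TensorProduct.induction_on with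
  | zero => exact ⟨0, TensorProduct.tmul_zero _ _⟩
  | tmul s x =>
    obtain ⟨n, hn⟩ := hX x
    obtain ⟨r, hr⟩ := approx I hq n s
    refine ⟨r • x, ?_⟩
    have h1 := tmul_zero_of_mem I x n hn _ hr
    rw [TensorProduct.sub_tmul, sub_eq_zero] at h1
    rw [h1, Algebra.algebraMap_eq_smul_one, TensorProduct.smul_tmul]
  | add z z' hz hz' =>
    obtain ⟨x, rfl⟩ := hz
    obtain ⟨x', rfl⟩ := hz'
    exact ⟨x + x', TensorProduct.tmul_add _ _ _⟩

theorem tors_elem {R S : Type u} [CommRing R] [CommRing S] [Algebra R S] [Module.Flat R S]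
    (I : Ideal R) (hI : I.FG)
    (hq : Function.Bijective (algebraMap (R ⧸ I) (S ⧸ I.map (algebraMap R S))))
    {N : Type u} [AddCommGroup N] [Module R N] (z : S ⊗[R] N) (n : ℕ)
    (hz : ∀ a ∈ I ^ n, a • z = 0) :
    ∃ y : N, (∀ a ∈ I ^ n, a • y = 0) ∧ (1 : S) ⊗ₜ[R] y = z := by
  classical
  obtain ⟨k, a, ha⟩ := Submodule.fg_iff_exists_fin_generating_family.mp (hI.pow (n := n))
  have hamem : ∀ j, a j ∈ I ^ n := fun j => by
    rw [← ha]; exact Submodule.subset_span ⟨j, rfl⟩
  let ψ : N →ₗ[R] (Fin k → N) := LinearMap.pi fun j => LinearMap.lsmul R N (a j)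
  have hker : ∀ y : N, ψ y = 0 ↔ ∀ b ∈ I ^ n, b • y = 0 := by
    intro y
    constructor
    · intro hy b hb
      rw [← ha] at hb
      induction hb using Submodule.span_induction with
      | mem b hb =>
        obtain ⟨j, rfl⟩ := hb
        exact congrFun hy j
      | zero => exact zero_smul _ _
      | add b b' _ _ hb hb' => rw [add_smul, hb, hb', add_zero]
      | smul c b _ hb => rw [smul_eq_mul, mul_smul, hb, smul_zero]
    · intro hy
      funext j
      exact hy _ (hamem j)
  have hex : Function.Exact (LinearMap.ker ψ).subtype ψ := LinearMap.exact_subtype_ker_map ψ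
  have hexT := Module.Flat.lTensor_exact S hex
  have hcomp : ∀ w : S ⊗[R] N, TensorProduct.piRight R S S (fun _ : Fin k => N)
      (LinearMap.lTensor S ψ w) = fun j => a j • w := by
    intro w
    induction w using TensorProduct.induction_on with
    | zero =>
      funext j
      simp
    | tmul s y =>
      funext j
      rw [LinearMap.lTensor_tmul, TensorProduct.piRight_apply, TensorProduct.piRightHom_tmul]
      change s ⊗ₜ[R] (a j • y) = a j • (s ⊗ₜ[R] y)
      rw [TensorProduct.tmul_smul]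
    | add w w' hw hw' =>
      rw [map_add, map_add, hw, hw']
      funext j
      simp [smul_add]
  have hz0 : LinearMap.lTensor S ψ z = 0 := by
    apply (TensorProduct.piRight R S S (fun _ : Fin k => N)).injective
    rw [hcomp, map_zero]
    funext j
    exact hz _ (hamem j)
  obtain ⟨w, hw⟩ := (hexT z).mp hz0
  have hKtors : ∀ y : LinearMap.ker ψ, ∃ m : ℕ, ∀ b ∈ I ^ m, b • y = 0 := by
    intro y
    refine ⟨n, fun b hb => ?_⟩
    apply Subtype.ext
    exact (hker y.1).mp y.2 b hb
  obtain ⟨y, hy⟩ := tors_surj I hq hKtors w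
  refine ⟨y.1, (hker y.1).mp y.2, ?_⟩
  rw [← hw, ← hy, LinearMap.lTensor_tmul]
  rfl

end

open TensorProduct in

open TensorProduct in
/-- Let `R → S` be flat and `I ⊆ R` a finitely generated ideal with `R/I → S/IS` bijective. If one of
the `R`-modules `M`, `N` has every element killed by a power of `I`, then base change of linear maps
`Hom_R(M, N) → Hom_S(S ⊗ M, S ⊗ N)` is bijective. -/
theorem result {R S M N : Type u} [CommRing R] [CommRing S]
    [Algebra R S] [Module.Flat R S] (I : Ideal R) (hI : I.FG)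
    (hq : Function.Bijective (algebraMap (R ⧸ I) (S ⧸ I.map (algebraMap R S))))
    [AddCommGroup M] [Module R M] [AddCommGroup N] [Module R N]
    (hMN : (∀ x : M, ∃ n : ℕ, ∀ a ∈ I ^ n, a • x = 0) ∨ (∀ y : N, ∃ n : ℕ, ∀ a ∈ I ^ n, a • y = 0)) :
    Function.Bijective (fun f : M →ₗ[R] N => LinearMap.baseChange S f) := by
  have hext : ∀ g₁ g₂ : S ⊗[R] M →ₗ[S] S ⊗[R] N,
      (∀ m : M, g₁ (1 ⊗ₜ m) = g₂ (1 ⊗ₜ m)) → g₁ = g₂ := by
    intro g₁ g₂ h
    apply TensorProduct.AlgebraTensorModule.ext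
    intro s m
    have : s ⊗ₜ[R] m = s • ((1 : S) ⊗ₜ[R] m) := by
      rw [TensorProduct.smul_tmul', smul_eq_mul, mul_one]
    rw [this, map_smul, map_smul, h]
  rcases hMN with hM | hN
  · constructor
    · intro f g hfg
      ext m
      have h1 : (1 : S) ⊗ₜ[R] (f m - g m) = 0 := by
        have := LinearMap.congr_fun hfg ((1 : S) ⊗ₜ[R] m)
        simp only [LinearMap.baseChange_tmul] at this
        rw [TensorProduct.tmul_sub, this, sub_self]
      obtain ⟨n, hn⟩ := hM m
      have h2 : ∀ a ∈ I ^ n, a • (f m - g m) = 0 := by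
        intro a ha
        rw [smul_sub, ← map_smul, ← map_smul, hn a ha, map_zero, map_zero, sub_zero]
      exact sub_eq_zero.mp (tors_inj I hq _ n h2 h1)
    · intro g
      have hg : ∀ m : M, ∃ y : N, (∃ n : ℕ, ∀ a ∈ I ^ n, a • y = 0) ∧
          (1 : S) ⊗ₜ[R] y = g (1 ⊗ₜ m) := by
        intro m
        obtain ⟨n, hn⟩ := hM m
        have hz : ∀ a ∈ I ^ n, a • g ((1 : S) ⊗ₜ[R] m) = 0 := by
          intro a ha
          have : a • g ((1 : S) ⊗ₜ[R] m) = g ((1 : S) ⊗ₜ[R] (a • m)) := by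
            rw [TensorProduct.tmul_smul, ← algebraMap_smul S a ((1 : S) ⊗ₜ[R] m), map_smul,
              algebraMap_smul]
          rw [this, hn a ha, TensorProduct.tmul_zero, map_zero]
        obtain ⟨y, hy1, hy2⟩ := tors_elem I hI hq _ n hz
        exact ⟨y, ⟨n, hy1⟩, hy2⟩
      choose f₀ hf₀t hf₀ using hg
      have huniq : ∀ y y' : N, (∃ n : ℕ, ∀ a ∈ I ^ n, a • y = 0) →
          (∃ n : ℕ, ∀ a ∈ I ^ n, a • y' = 0) → (1 : S) ⊗ₜ[R] y = (1 : S) ⊗ₜ[R] y' → y = y' := by
        rintro y y' ⟨n, hn⟩ ⟨n', hn'⟩ h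
        have h1 : (1 : S) ⊗ₜ[R] (y - y') = 0 := by rw [TensorProduct.tmul_sub, h, sub_self]
        have h2 : ∀ a ∈ I ^ (n + n'), a • (y - y') = 0 := by
          intro a ha
          rw [smul_sub, hn a (Ideal.pow_le_pow_right (Nat.le_add_right n n') ha),
            hn' a (Ideal.pow_le_pow_right (Nat.le_add_left n' n) ha), sub_zero]
        exact sub_eq_zero.mp (tors_inj I hq _ _ h2 h1)
      have htadd : ∀ y y' : N, (∃ n : ℕ, ∀ a ∈ I ^ n, a • y = 0) →
          (∃ n : ℕ, ∀ a ∈ I ^ n, a • y' = 0) → ∃ n : ℕ, ∀ a ∈ I ^ n, a • (y + y') = 0 := by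
        rintro y y' ⟨n, hn⟩ ⟨n', hn'⟩
        refine ⟨n + n', fun a ha => ?_⟩
        rw [smul_add, hn a (Ideal.pow_le_pow_right (Nat.le_add_right n n') ha),
          hn' a (Ideal.pow_le_pow_right (Nat.le_add_left n' n) ha), add_zero]
      have htsmul : ∀ (c : R) (y : N), (∃ n : ℕ, ∀ a ∈ I ^ n, a • y = 0) →
          ∃ n : ℕ, ∀ a ∈ I ^ n, a • (c • y) = 0 := by
        rintro c y ⟨n, hn⟩
        exact ⟨n, fun a ha => by rw [smul_comm, hn a ha, smul_zero]⟩
      let f : M →ₗ[R] N :=
        { toFun := f₀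
          map_add' := fun m m' => by
            apply huniq _ _ (hf₀t _) (htadd _ _ (hf₀t m) (hf₀t m'))
            rw [hf₀, TensorProduct.tmul_add, map_add, TensorProduct.tmul_add, hf₀, hf₀]
          map_smul' := fun c m => by
            apply huniq _ _ (hf₀t _) (htsmul c _ (hf₀t m))
            rw [hf₀, TensorProduct.tmul_smul, TensorProduct.tmul_smul,
              ← algebraMap_smul S c ((1 : S) ⊗ₜ[R] m), map_smul, algebraMap_smul, hf₀] }
      refine ⟨f, hext _ _ fun m => ?_⟩
      change LinearMap.baseChange S f (1 ⊗ₜ m) = _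
      rw [LinearMap.baseChange_tmul]
      exact hf₀ m
  · constructor
    · intro f g hfg
      ext m
      have h1 : (1 : S) ⊗ₜ[R] (f m - g m) = 0 := by
        have := LinearMap.congr_fun hfg ((1 : S) ⊗ₜ[R] m)
        simp only [LinearMap.baseChange_tmul] at this
        rw [TensorProduct.tmul_sub, this, sub_self]
      obtain ⟨n, hn⟩ := hN (f m - g m)
      exact sub_eq_zero.mp (tors_inj I hq _ n hn h1)
    · intro g
      have hg : ∀ m : M, ∃ y : N, (1 : S) ⊗ₜ[R] y = g (1 ⊗ₜ m) := fun m =>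
        tors_surj I hq hN _
      choose f₀ hf₀ using hg
      have huniq : ∀ y y' : N, (1 : S) ⊗ₜ[R] y = (1 : S) ⊗ₜ[R] y' → y = y' := by
        intro y y' h
        have h1 : (1 : S) ⊗ₜ[R] (y - y') = 0 := by rw [TensorProduct.tmul_sub, h, sub_self]
        obtain ⟨n, hn⟩ := hN (y - y')
        exact sub_eq_zero.mp (tors_inj I hq _ n hn h1)
      let f : M →ₗ[R] N :=
        { toFun := f₀
          map_add' := fun m m' => by
            apply huniq
            rw [hf₀, TensorProduct.tmul_add, map_add, TensorProduct.tmul_add, hf₀, hf₀]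
          map_smul' := fun c m => by
            apply huniq
            rw [hf₀, TensorProduct.tmul_smul, TensorProduct.tmul_smul,
              ← algebraMap_smul S c ((1 : S) ⊗ₜ[R] m), map_smul, algebraMap_smul, hf₀]
            rfl }
      refine ⟨f, hext _ _ fun m => ?_⟩
      change LinearMap.baseChange S f (1 ⊗ₜ m) = _
      rw [LinearMap.baseChange_tmul]
      exact hf₀ m

end Groth.Agent.S2055
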