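import Groth.Statements.S2057
import Groth.Agent.Lib.Helper52.MittagLeffler
import Groth.Agent.Lib.Helper18.UnivInjEq
import Groth.Agent.S2056

set_option autoImplicit false
universe u
open CAlg

namespace Groth.Agent.S2057

open Groth.Agent.Lib.Helper52.ML TensorProduct in
theorem coord_lTensor {R : Type u} [CommRing R] {M₁ M₂ : Type u} [AddCommGroup M₁] [Module R M₁]
    [AddCommGroup M₂] [Module R M₂] {n : ℕ} (f : M₁ →ₗ[R] M₂) (k : Fin n)
    (x : (Fin n → R) ⊗[R] M₁) : coord k (f.lTensor (Fin n → R) x) = f (coord k x) := by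
  induction x with
  | zero => simp
  | tmul v y => simp
  | add x y hx hy => simp [hx, hy]

open Groth.Agent.Lib.Helper52.ML TensorProduct in
theorem coord_rTensor_sum {R : Type u} [CommRing R] {M : Type u} [AddCommGroup M] [Module R M]
    {n m : ℕ} (A : (Fin m → R) →ₗ[R] (Fin n → R)) (y : Fin m → M) (i : Fin n) :
    coord i (A.rTensor M (∑ j, (Pi.single j (1 : R) : Fin m → R) ⊗ₜ[R] y j)) =
      ∑ j, A (Pi.single j 1) i • y j := by
  simp [map_sum]

open Groth.Agent.Lib.Helper52.ML TensorProduct in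
theorem injective_lTensor_of_equational {R M₁ M₂ : Type u} [CommRing R] [AddCommGroup M₁]
    [Module R M₁] [AddCommGroup M₂] [Module R M₂] (f : M₁ →ₗ[R] M₂)
    (H : ∀ (n m : ℕ) (x : Fin n → M₁) (y : Fin m → M₂) (a : Fin n → Fin m → R),
        (∀ i, f (x i) = ∑ j, a i j • y j) → ∃ z : Fin m → M₁, ∀ i, x i = ∑ j, a i j • z j)
    (Q : Type u) [AddCommGroup Q] [Module R Q] [Module.FinitePresentation R Q] :
    Function.Injective (f.lTensor Q) := by
  classical
  obtain ⟨n, m, π, A, hπ, hAπ⟩ := Module.FinitePresentation.exists_fin' R Q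
  rw [injective_iff_map_eq_zero]
  intro x hx
  obtain ⟨xt, rfl⟩ := LinearMap.rTensor_surjective M₁ hπ x
  have h1 : π.rTensor M₂ (f.lTensor _ xt) = 0 := by
    rw [← LinearMap.comp_apply, LinearMap.rTensor_comp_lTensor, ← LinearMap.lTensor_comp_rTensor,
      LinearMap.comp_apply]
    exact hx
  obtain ⟨yt, hyt⟩ := (rTensor_exact M₂ hAπ hπ _).1 h1
  have h2 : ∀ i, f (coord i xt) = ∑ j, A (Pi.single j 1) i • coord j yt := by
    intro i
    rw [← coord_lTensor, ← hyt]
    conv_lhs => rw [free_expand yt]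
    exact coord_rTensor_sum A _ i
  obtain ⟨z, hz⟩ := H n m (fun i => coord i xt) (fun j => coord j yt)
    (fun i j => A (Pi.single j 1) i) h2
  have h3 : xt = A.rTensor M₁ (∑ j, (Pi.single j (1 : R) : Fin m → R) ⊗ₜ[R] z j) := by
    rw [free_expand xt, free_expand (A.rTensor M₁ _)]
    refine Finset.sum_congr rfl fun i _ => ?_
    rw [coord_rTensor_sum, hz i]
  rw [h3, ← LinearMap.comp_apply, ← LinearMap.rTensor_comp]
  have : π ∘ₗ A = 0 := by
    ext v
    exact hAπ.apply_apply_eq_zero _
  rw [this, LinearMap.rTensor_zero, LinearMap.zero_apply]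


/-- An injective linear map `f : M₁ → M₂` is universally injective if and only if: whenever elements
`x_i` of `M₁` satisfy `f(x_i) = Σ_j a_{ij} y_j` for some `y_j ∈ M₂` and scalars `a_{ij}`, there are
`z_j ∈ M₁` with `x_i = Σ_j a_{ij} z_j`. -/
theorem result {R M₁ M₂ : Type u} [CommRing R] [AddCommGroup M₁]
    [Module R M₁] [AddCommGroup M₂] [Module R M₂] (f : M₁ →ₗ[R] M₂) (hf : Function.Injective f) :
    CAlgX.UniversallyInjective R f ↔
      ∀ (n m : ℕ) (x : Fin n → M₁) (y : Fin m → M₂) (a : Fin n → Fin m → R),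
        (∀ i, f (x i) = ∑ j, a i j • y j) → ∃ z : Fin m → M₁, ∀ i, x i = ∑ j, a i j • z j := by
  constructor
  · intro h n m x y a hxy
    exact Groth.Agent.Lib.Helper18.univInj_equational f h n m x y a hxy
  · intro H
    rw [Groth.Agent.S2056.result]
    intro Q _ _ hQ
    rw [← LinearMap.lTensor_inj_iff_rTensor_inj]
    exact injective_lTensor_of_equational f H Q

end Groth.Agent.S2057
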