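import Groth.Statements.S2058
import Mathlib
import Groth.Agent.Lib.Helper67.Depth2

set_option autoImplicit false
universe u
open CAlg

namespace Groth.Agent.S2058

open IsLocalRing LocCoh
open scoped Pointwise

section Depth0

variable {R : Type u} [CommRing R] [IsLocalRing R] [IsNoetherianRing R]

/-- the annihilators of the powers of the maximal ideal, as an increasing chain -/
def annChain (R : Type u) [CommRing R] [IsLocalRing R] : ℕ →o Ideal R where
  toFun n := (maximalIdeal R ^ n).annihilator
  monotone' := fun _ _ hnm => Submodule.annihilator_mono (Ideal.pow_le_pow_right hnm)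

omit [IsNoetherianRing R] in
theorem mem_annChain (n : ℕ) (x : R) :
    x ∈ annChain R n ↔ ∀ a ∈ maximalIdeal R ^ n, a * x = 0 := by
  change x ∈ (maximalIdeal R ^ n).annihilator ↔ _
  rw [Submodule.mem_annihilator]
  constructor
  · intro h a ha
    rw [mul_comm]
    exact h a ha
  · intro h a ha
    rw [smul_eq_mul, mul_comm]
    exact h a ha

theorem case_depth_zero (h1 : ¬ IsArtinianRing R)
    (h0 : maximalIdeal R ∈ associatedPrimes R R) :
    ∃ (R' : Type u) (_ : CommRing R') (_ : Algebra R R'), Nontrivial R' ∧ Module.Finite R R' ∧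
      ¬ Function.Bijective (algebraMap R R') ∧
      (∃ n : ℕ, (∀ x : R, algebraMap R R' x = 0 → ∀ a ∈ IsLocalRing.maximalIdeal R ^ n, a * x = 0) ∧
        (∀ y : R', ∀ a ∈ IsLocalRing.maximalIdeal R ^ n, a • y ∈ Set.range (algebraMap R R'))) ∧
      IsLocalRing.maximalIdeal R ∉ associatedPrimes R R' := by
  obtain ⟨N, hN⟩ := monotone_stabilizes_iff_noetherian.mpr
    (inferInstance : IsNoetherian R R) (annChain R)
  have hItop : annChain R N ≠ ⊤ := by
    intro htop
    have h1' : (1 : R) ∈ annChain R N := by rw [htop]; trivial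
    rw [mem_annChain] at h1'
    apply h1
    rw [isArtinianRing_iff_isNilpotent_maximalIdeal]
    refine ⟨N, ?_⟩
    rw [Ideal.zero_eq_bot, eq_bot_iff]
    intro a ha
    have := h1' a ha
    rwa [mul_one] at this
  obtain ⟨-, x₀, hx₀⟩ := (isAssociatedPrime_iff.1 h0)
  have hx₀ne : x₀ ≠ 0 := by
    rintro rfl
    have : (1 : R) ∈ (⊥ : Submodule R R).colon {(0 : R)} := by
      rw [Submodule.mem_colon_singleton]; simp
    rw [← hx₀] at this
    exact (maximalIdeal.isMaximal R).ne_top ((Ideal.eq_top_iff_one _).2 this)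
  have hx₀I : x₀ ∈ annChain R N := by
    have h2 : x₀ ∈ annChain R 1 := by
      rw [mem_annChain]
      intro a ha
      rw [pow_one, hx₀, Submodule.mem_colon_singleton] at ha
      simpa using ha
    have h3 : annChain R 1 ≤ annChain R (N + 1) := (annChain R).monotone (by omega)
    rw [hN (N + 1) (by omega)]
    exact h3 h2
  refine ⟨R ⧸ annChain R N, inferInstance, inferInstance, Ideal.Quotient.nontrivial_iff.2 hItop,
    inferInstance, ?_, ⟨N, ?_, ?_⟩, ?_⟩
  · intro hbij
    have : algebraMap R (R ⧸ annChain R N) x₀ = algebraMap R (R ⧸ annChain R N) 0 := by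
      rw [map_zero, Ideal.Quotient.algebraMap_eq, Ideal.Quotient.eq_zero_iff_mem]
      exact hx₀I
    exact hx₀ne (hbij.1 this)
  · intro x hx
    rw [Ideal.Quotient.algebraMap_eq, Ideal.Quotient.eq_zero_iff_mem] at hx
    exact (mem_annChain N x).1 hx
  · intro y a _
    obtain ⟨r, rfl⟩ := Ideal.Quotient.mk_surjective y
    exact ⟨a * r, by rw [Ideal.Quotient.algebraMap_eq, Algebra.smul_def,
      Ideal.Quotient.algebraMap_eq, map_mul]⟩
  · intro hass
    obtain ⟨-, z, hz⟩ := (isAssociatedPrime_iff.1 hass)
    obtain ⟨x, rfl⟩ := Ideal.Quotient.mk_surjective z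
    have hxI : x ∈ annChain R N := by
      rw [hN (N + 1) (by omega), mem_annChain]
      intro a ha
      rw [pow_succ] at ha
      refine Submodule.mul_induction_on ha ?_ ?_
      · intro b hb c hc
        have hc' : c ∈ (⊥ : Submodule R (R ⧸ annChain R N)).colon
            {Ideal.Quotient.mk (annChain R N) x} := hz ▸ hc
        rw [Submodule.mem_colon_singleton, Submodule.mem_bot] at hc'
        have e : c • (Ideal.Quotient.mk (annChain R N) x) =
            Ideal.Quotient.mk (annChain R N) (c * x) := by
          rw [Algebra.smul_def, Ideal.Quotient.algebraMap_eq, map_mul]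
        rw [e, Ideal.Quotient.eq_zero_iff_mem, mem_annChain] at hc'
        rw [mul_assoc]
        exact hc' b hb
      · intro b c hb hc
        rw [add_mul, hb, hc, add_zero]
    have : (1 : R) ∈ (⊥ : Submodule R (R ⧸ annChain R N)).colon
        {Ideal.Quotient.mk (annChain R N) x} := by
      rw [Submodule.mem_colon_singleton, one_smul, Submodule.mem_bot,
        Ideal.Quotient.eq_zero_iff_mem]
      exact hxI
    rw [← hz] at this
    exact (maximalIdeal.isMaximal R).ne_top ((Ideal.eq_top_iff_one _).2 this)

end Depth0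

section Depth1

variable {R : Type u} [CommRing R] [IsLocalRing R] [IsNoetherianRing R]

omit [IsLocalRing R] [IsNoetherianRing R] in
theorem cancel {t : R} (ht : IsSMulRegular R t) {a b : R} (h : t * a = t * b) : a = b :=
  ht (by simpa using h)

omit [IsNoetherianRing R] in
/-- sub-case (ii): the maximal ideal is principal -/
theorem maximalIdeal_eq_span (t y : R) (ht : IsSMulRegular R t)
    (hy2 : ∀ a ∈ maximalIdeal R, ∃ r, t * r = a * y)
    (a u : R) (ha : a ∈ maximalIdeal R) (hu : IsUnit u) (hau : t * u = a * y) :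
    maximalIdeal R = Ideal.span {a} := by
  apply le_antisymm
  · intro b hb
    obtain ⟨r, hr⟩ := hy2 b hb
    have h : t * (u * b) = t * (a * r) := by
      calc t * (u * b) = (t * u) * b := by ring
        _ = a * y * b := by rw [hau]
        _ = a * (b * y) := by ring
        _ = a * (t * r) := by rw [hr]
        _ = t * (a * r) := by ring
    have h' : u * b = a * r := cancel ht h
    obtain ⟨u', rfl⟩ := hu
    rw [Ideal.mem_span_singleton']
    refine ⟨r * ↑u'⁻¹, ?_⟩
    calc r * ↑u'⁻¹ * a = ↑u'⁻¹ * (a * r) := by ring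
      _ = ↑u'⁻¹ * (↑u' * b) := by rw [h']
      _ = b := by rw [← mul_assoc, Units.inv_mul, one_mul]
  · rw [Ideal.span_singleton_le_iff_mem]; exact ha

theorem regular_of_principal (h1 : ¬ IsArtinianRing R) (a : R)
    (hm : maximalIdeal R = Ideal.span {a}) : IsRegularLocalRing R ∧ ringKrullDim R = 1 := by
  have hsf : (maximalIdeal R).spanFinrank ≤ 1 := by
    rw [hm]
    exact le_trans (Submodule.spanFinrank_span_le_ncard_of_finite (Set.finite_singleton a))
      (by simp)
  have hdim_le : ringKrullDim R ≤ 1 :=
    le_trans (ringKrullDim_le_spanFinrank_maximalIdeal (R := R)) (by exact_mod_cast hsf)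
  have hdim_ge : 1 ≤ ringKrullDim R := by
    by_contra hlt
    apply h1
    rw [isArtinianRing_iff_krullDimLE_zero, Ring.krullDimLE_iff]
    push Not at hlt
    generalize ringKrullDim R = d at hlt
    induction d using WithBot.recBotCoe with
    | bot => exact bot_le
    | coe d =>
      have : d < 1 := by exact_mod_cast hlt
      rw [Order.lt_one_iff] at this
      rw [this]; rfl
  have hdim : ringKrullDim R = 1 := le_antisymm hdim_le hdim_ge
  refine ⟨IsRegularLocalRing.of_spanFinrank_maximalIdeal_le R ?_, hdim⟩
  rw [hdim]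
  exact_mod_cast hsf

omit [IsLocalRing R] [IsNoetherianRing R] in
theorem swap {m : Ideal R} (ψ : m →ₗ[R] m) (s u : m) :
    (s : R) * (ψ u : R) = (u : R) * (ψ s : R) := by
  have h : (s : R) • u = (u : R) • s := Subtype.ext (by simp [mul_comm])
  have h2 := congrArg (fun z => ((ψ z : m) : R)) h
  simpa [map_smul] using h2

theorem case_depth_one (t y : R) (htm : t ∈ maximalIdeal R) (ht : IsSMulRegular R t)
    (hy1 : ∀ r, y ≠ t * r)
    (hy2 : ∀ a ∈ maximalIdeal R, ∃ r ∈ maximalIdeal R, t * r = a * y) :
    ∃ (R' : Type u) (_ : CommRing R') (_ : Algebra R R'), Nontrivial R' ∧ Module.Finite R R' ∧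
      ¬ Function.Bijective (algebraMap R R') ∧
      (∃ n : ℕ, (∀ x : R, algebraMap R R' x = 0 → ∀ a ∈ IsLocalRing.maximalIdeal R ^ n, a * x = 0) ∧
        (∀ y : R', ∀ a ∈ IsLocalRing.maximalIdeal R ^ n, a • y ∈ Set.range (algebraMap R R'))) ∧
      IsLocalRing.maximalIdeal R ∉ associatedPrimes R R' := by
  classical
  choose f hfm hf using hy2
  let φ : maximalIdeal R →ₗ[R] maximalIdeal R :=
    { toFun := fun x => ⟨f x.1 x.2, hfm x.1 x.2⟩
      map_add' := fun x x' => by
        apply Subtype.ext
        apply cancel ht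
        simp only [Submodule.coe_add, mul_add, hf]
        ring
      map_smul' := fun c x => by
        apply Subtype.ext
        apply cancel ht
        simp only [RingHom.id_apply, Submodule.coe_smul, smul_eq_mul, hf]
        rw [mul_left_comm, hf]
        ring }
  have hφ : ∀ x : maximalIdeal R, t * ((φ x : maximalIdeal R) : R) = (x : R) * y :=
    fun x => hf x.1 x.2
  let t' : maximalIdeal R := ⟨t, htm⟩
  -- endomorphisms are detected at `t'`
  have hev : ∀ ψ : maximalIdeal R →ₗ[R] maximalIdeal R, ψ t' = 0 → ψ = 0 := by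
    intro ψ h0
    ext x
    apply cancel ht
    have h := swap ψ t' x
    rw [h0] at h
    simpa using h
  let ι := Ideal.kerLiftAlg (Polynomial.aeval (R := R) φ)
  have hι : Function.Injective ι := Ideal.kerLiftAlg_injective _
  have hιalg : ∀ r : R, ι (algebraMap R _ r) = r • (1 : Module.End R (maximalIdeal R)) := by
    intro r
    rw [AlgHom.commutes, Algebra.algebraMap_eq_smul_one]
  have ht'ne : t' ≠ 0 := by
    intro h
    have h1 : t = 0 := congrArg Subtype.val h
    have h2 : (1 : R) = 0 := cancel ht (by rw [h1]; simp)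
    exact one_ne_zero h2
  have hMnt : Nontrivial (maximalIdeal R) := ⟨⟨t', 0, ht'ne⟩⟩
  refine ⟨Polynomial R ⧸ RingHom.ker (Polynomial.aeval (R := R) φ), inferInstance, inferInstance,
    ?_, ?_, ?_, ⟨1, ?_, ?_⟩, ?_⟩
  · exact Ideal.Quotient.nontrivial_iff.2 (RingHom.ker_ne_top _)
  · let ρ : (Polynomial R ⧸ RingHom.ker (Polynomial.aeval (R := R) φ)) →ₗ[R] maximalIdeal R :=
      (LinearMap.applyₗ t') ∘ₗ ι.toLinearMap
    have hρ : Function.Injective ρ := by
      rw [← LinearMap.ker_eq_bot, LinearMap.ker_eq_bot']
      intro z hz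
      apply hι
      rw [map_zero]
      exact hev _ hz
    exact Module.Finite.of_injective ρ hρ
  · intro hbij
    obtain ⟨r, hr⟩ := hbij.2 (Ideal.Quotient.mk _ Polynomial.X)
    have h1 := congrArg ι hr
    rw [hιalg, Ideal.kerLiftAlg_mk, Polynomial.aeval_X] at h1
    have h2 : ((φ t' : maximalIdeal R) : R) = r * t := by
      rw [← h1]; simp [t']
    have h3 := hφ t'
    rw [h2] at h3
    have h4 : y = t * r := by
      apply cancel ht
      rw [show (t' : R) = t from rfl] at h3
      rw [← h3]; ring
    exact hy1 r h4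
  · intro x hx a _
    have h1 := congrArg ι hx
    rw [hιalg, map_zero] at h1
    have h2 := congrArg (fun ψ : Module.End R (maximalIdeal R) => ((ψ t' : maximalIdeal R) : R)) h1
    simp only [LinearMap.smul_apply, Module.End.one_apply, Submodule.coe_smul, smul_eq_mul,
      LinearMap.zero_apply, ZeroMemClass.coe_zero, t'] at h2
    have h3 : x = 0 := cancel ht (by rw [mul_comm, h2, mul_zero])
    rw [h3, mul_zero]
  · intro z a ha
    rw [pow_one] at ha
    refine ⟨((ι z ⟨a, ha⟩ : maximalIdeal R) : R), ?_⟩
    apply hι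
    rw [hιalg, map_smul]
    ext x
    simp only [LinearMap.smul_apply, Module.End.one_apply, Submodule.coe_smul, smul_eq_mul]
    exact (swap (ι z) ⟨a, ha⟩ x).symm ▸ (mul_comm _ _)
  · intro hass
    obtain ⟨-, z, hz⟩ := (isAssociatedPrime_iff.1 hass)
    have htz : t ∈ (⊥ : Submodule R
        (Polynomial R ⧸ RingHom.ker (Polynomial.aeval (R := R) φ))).colon {z} := hz ▸ htm
    rw [Submodule.mem_colon_singleton, Submodule.mem_bot] at htz
    have h1 := congrArg ι htz
    rw [map_smul, map_zero] at h1
    have h2 : ι z = 0 := by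
      ext x
      apply cancel ht
      have h3 := congrArg (fun ψ : Module.End R (maximalIdeal R) => ((ψ x : maximalIdeal R) : R)) h1
      simpa using h3
    have hz0 : z = 0 := hι (by rw [h2, map_zero])
    have h1m : (1 : R) ∈ (⊥ : Submodule R
        (Polynomial R ⧸ RingHom.ker (Polynomial.aeval (R := R) φ))).colon {z} := by
      rw [Submodule.mem_colon_singleton, hz0, smul_zero]; exact Submodule.zero_mem _
    rw [← hz] at h1m
    exact (maximalIdeal.isMaximal R).ne_top ((Ideal.eq_top_iff_one _).2 h1m)

end Depth1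

theorem enat_cancel0 (d : ℕ∞) (h : d + 1 = 1) : d = 0 := by
  induction d using ENat.recTopCoe with
  | top =>
    rw [top_add] at h
    exact absurd h (by simp)
  | coe k =>
    have h2 : k + 1 = 1 := by exact_mod_cast h
    have : k = 0 := by omega
    rw [this]; rfl

/-- Let R be a Noetherian local ring which is not Artinian, is not a regular local ring of dimension
one, and has depth at most one. Then there is a finite ring map R → R' with R' ≠ 0, not bijective,
whose kernel and cokernel are killed by a power of the maximal ideal of R, such that the maximal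
ideal of R is not an associated prime of the R-module R'. (This says that the four cases for a
Noetherian local ring — Artinian, regular of dimension one, depth at least two, or admitting such a
map — cover everything; that they are mutually exclusive is not asserted.) -/
theorem result {R : Type u} [CommRing R] [IsLocalRing R] [IsNoetherianRing R]
    (h1 : ¬ IsArtinianRing R) (h2 : ¬ (IsRegularLocalRing R ∧ ringKrullDim R = 1))
    (h3 : LocCoh.depth R R ≤ 1) :
    ∃ (R' : Type u) (_ : CommRing R') (_ : Algebra R R'), Nontrivial R' ∧ Module.Finite R R' ∧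
      ¬ Function.Bijective (algebraMap R R') ∧
      (∃ n : ℕ, (∀ x : R, algebraMap R R' x = 0 → ∀ a ∈ IsLocalRing.maximalIdeal R ^ n, a * x = 0) ∧
        (∀ y : R', ∀ a ∈ IsLocalRing.maximalIdeal R ^ n, a • y ∈ Set.range (algebraMap R R'))) ∧
      IsLocalRing.maximalIdeal R ∉ associatedPrimes R R' := by
  have hmtop : maximalIdeal R • (⊤ : Submodule R R) ≠ ⊤ := by
    rw [smul_eq_mul, Ideal.mul_top]; exact (maximalIdeal.isMaximal R).ne_top
  rcases h3.lt_or_eq with hlt | heq
  · have h0 : LocCoh.depth R R = 0 := by rwa [Order.lt_one_iff] at hlt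
    exact case_depth_zero h1 ((Groth.Agent.Lib.Helper67.depth_eq_zero_iff R).1 h0)
  · have hone : 1 ≤ idealDepth (maximalIdeal R) R := by
      unfold LocCoh.depth at heq; rw [heq]
    rcases (Groth.Agent.Lib.Helper67.one_le_idealDepth_iff _ R).1 hone with h | ⟨t, htm, ht⟩
    · exact absurd h hmtop
    have hq := Groth.Agent.Lib.Helper67.idealDepth_quotSMulTop_add_one (maximalIdeal R) R hmtop
      t htm ht
    have hq0 : LocCoh.depth R (QuotSMulTop t R) = 0 := by
      unfold LocCoh.depth at heq ⊢
      rw [heq] at hq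
      exact enat_cancel0 _ hq
    have hass := (Groth.Agent.Lib.Helper67.depth_eq_zero_iff (QuotSMulTop t R)).1 hq0
    obtain ⟨-, z, hz⟩ := isAssociatedPrime_iff.1 hass
    obtain ⟨y, rfl⟩ := Submodule.mkQ_surjective _ z
    have hy1 : ∀ r, y ≠ t * r := by
      intro r hr
      have h0 : (Submodule.mkQ (t • (⊤ : Submodule R R))) y = 0 := by
        rw [Submodule.mkQ_apply, Submodule.Quotient.mk_eq_zero, hr]
        exact Submodule.smul_mem_pointwise_smul r t ⊤ trivial
      have h1m : (1 : R) ∈ (⊥ : Submodule R (QuotSMulTop t R)).colon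
          {(Submodule.mkQ (t • (⊤ : Submodule R R))) y} := by
        rw [Submodule.mem_colon_singleton, h0, smul_zero]; exact Submodule.zero_mem _
      rw [← hz] at h1m
      exact (maximalIdeal.isMaximal R).ne_top ((Ideal.eq_top_iff_one _).2 h1m)
    have hy2 : ∀ a ∈ maximalIdeal R, ∃ r, t * r = a * y := by
      intro a ha
      have h0 : a ∈ (⊥ : Submodule R (QuotSMulTop t R)).colon
          {(Submodule.mkQ (t • (⊤ : Submodule R R))) y} := hz ▸ ha
      rw [Submodule.mem_colon_singleton, Submodule.mem_bot, ← map_smul, Submodule.mkQ_apply,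
        Submodule.Quotient.mk_eq_zero] at h0
      obtain ⟨r, -, hr⟩ := (Submodule.mem_smul_pointwise_iff_exists _ _ _).1 h0
      exact ⟨r, by simpa using hr⟩
    by_cases hcase : ∀ a ∈ maximalIdeal R, ∀ r, t * r = a * y → r ∈ maximalIdeal R
    · apply case_depth_one t y htm ht hy1
      intro a ha
      obtain ⟨r, hr⟩ := hy2 a ha
      exact ⟨r, hcase a ha r hr, hr⟩
    · push Not at hcase
      obtain ⟨a, ha, u, hu, hum⟩ := hcase
      have huu : IsUnit u := by rwa [mem_maximalIdeal, mem_nonunits_iff, not_not] at hum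
      exact absurd (regular_of_principal h1 a (maximalIdeal_eq_span t y ht hy2 a u ha huu hu)) h2

end Groth.Agent.S2058
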