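import Groth.Statements.S2059
import Mathlib

set_option autoImplicit false
universe u
open CAlg

namespace Groth.Agent.S2059

section Aux
open Cardinal

theorem rank_le_of_adjoin {k L : Type u} [Field k] [CommRing L] [Algebra k L] (s : Set L)
    (hs : Algebra.adjoin k s = ⊤) (hinf : s.Infinite) : Module.rank k L ≤ #s := by
  let φ : MvPolynomial s k →ₐ[k] L := MvPolynomial.aeval (fun x : s => (x : L))
  have hφ : Function.Surjective φ := by
    rw [← AlgHom.range_eq_top, ← Algebra.adjoin_eq_range]
    exact hs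
  have h1 := LinearMap.rank_le_of_surjective φ.toLinearMap hφ
  have h2 : Module.rank k (MvPolynomial s k) = #(s →₀ ℕ) :=
    ((MvPolynomial.basisMonomials s k).mk_eq_rank'').symm
  haveI : Infinite s := hinf.to_subtype
  rw [h2, Cardinal.mk_finsupp_nat, max_eq_left (Cardinal.aleph0_le_mk s)] at h1
  exact h1

theorem alg_of_card {k L : Type u} [Field k] [Field L] [Algebra k L] (s : Set L)
    (hs : Algebra.adjoin k s = ⊤) (hcard : #s < #k) : Algebra.IsAlgebraic k L := by
  by_cases hfin : s.Finite
  · haveI : Algebra.FiniteType k L := ⟨⟨hfin.toFinset, by simpa using hs⟩⟩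
    haveI : Module.Finite k L := finite_of_finite_type_of_isJacobsonRing k L
    exact Algebra.IsAlgebraic.of_finite k L
  · by_contra hna
    rw [← Algebra.transcendental_iff_not_isAlgebraic] at hna
    have h1 : Module.rank k L = #L := Algebra.Transcendental.rank_eq_cardinalMk k L
    have h2 : #k ≤ #L := Cardinal.mk_le_of_injective (algebraMap k L).injective
    have h3 : Module.rank k L ≤ #s := rank_le_of_adjoin s hs hfin
    exact absurd (h2.trans (h1 ▸ h3)) (not_le.mpr hcard)

theorem part1 {k S : Type u} [Field k] [CommRing S] [Algebra k S]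
    (s : Set S) (hs : Algebra.adjoin k s = ⊤) (hcard : #s < #k)
    (m : Ideal S) [m.IsMaximal] : Algebra.IsAlgebraic k (S ⧸ m) := by
  letI : Field (S ⧸ m) := Ideal.Quotient.field m
  let π : S →ₐ[k] S ⧸ m := Ideal.Quotient.mkₐ k m
  refine alg_of_card (π '' s) ?_ ((Cardinal.mk_image_le).trans_lt hcard)
  rw [← AlgHom.map_adjoin, hs, Algebra.map_top, AlgHom.range_eq_top]
  exact Ideal.Quotient.mkₐ_surjective k m

theorem main {k S : Type u} [Field k] [CommRing S] [Algebra k S]
    (s : Set S) (hs : Algebra.adjoin k s = ⊤) (hcard : #s < #k) :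
    (∀ (m : Ideal S) [m.IsMaximal], Algebra.IsAlgebraic k (S ⧸ m)) ∧ IsJacobsonRing S := by
  refine ⟨fun m _ => part1 s hs hcard m, ?_⟩
  by_cases hfin : s.Finite
  · haveI : Algebra.FiniteType k S := ⟨⟨hfin.toFinset, by simpa using hs⟩⟩
    exact isJacobsonRing_of_finiteType (A := k)
  rw [isJacobsonRing_iff_prime_eq]
  intro P hP
  refine le_antisymm ?_ Ideal.le_jacobson
  intro f hf
  by_contra hfP
  -- the domain S/P localized at f
  haveI : IsDomain (S ⧸ P) := Ideal.Quotient.isDomain P
  set g : S ⧸ P := Ideal.Quotient.mk P f with hgdef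
  have hg : g ≠ 0 := by
    intro h
    exact hfP (Ideal.Quotient.eq_zero_iff_mem.mp h)
  haveI : IsDomain (Localization.Away g) :=
    IsLocalization.isDomain_localization (powers_le_nonZeroDivisors_of_noZeroDivisors hg)
  let ψ : S →ₐ[k] Localization.Away g :=
    (IsScalarTower.toAlgHom k (S ⧸ P) (Localization.Away g)).comp (Ideal.Quotient.mkₐ k P)
  have hψ : ∀ a : S, ψ a = algebraMap (S ⧸ P) (Localization.Away g) (Ideal.Quotient.mk P a) :=
    fun a => rfl
  set iv : Localization.Away g := IsLocalization.Away.invSelf g with hiv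
  have hmul : algebraMap (S ⧸ P) (Localization.Away g) g * iv = 1 :=
    IsLocalization.Away.mul_invSelf g
  let t : Set (Localization.Away g) := (ψ '' s) ∪ {iv}
  have ht : Algebra.adjoin k t = ⊤ := by
    rw [eq_top_iff]
    intro z _
    obtain ⟨n, a, hza⟩ := IsLocalization.Away.surj g z
    obtain ⟨a₀, rfl⟩ := Ideal.Quotient.mk_surjective a
    have hz : z = ψ a₀ * iv ^ n := by
      calc z = z * (algebraMap (S ⧸ P) (Localization.Away g) g * iv) ^ n := by
            rw [hmul, one_pow, mul_one]
        _ = (z * algebraMap (S ⧸ P) (Localization.Away g) g ^ n) * iv ^ n := by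
            rw [mul_pow, mul_assoc]
        _ = ψ a₀ * iv ^ n := by rw [hza, hψ]
    rw [hz]
    refine Subalgebra.mul_mem _ ?_ (Subalgebra.pow_mem _ ?_ n)
    · have h1 : ψ a₀ ∈ (Algebra.adjoin k s).map ψ := ⟨a₀, by rw [hs]; trivial, rfl⟩
      rw [AlgHom.map_adjoin] at h1
      exact Algebra.adjoin_mono Set.subset_union_left h1
    · exact Algebra.subset_adjoin (Set.mem_union_right _ rfl)
  have hinf : ℵ₀ ≤ #s := by
    rw [Cardinal.aleph0_le_mk_iff]
    exact Set.infinite_coe_iff.mpr hfin
  have htcard : #t < #k := by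
    refine lt_of_le_of_lt ?_ hcard
    calc #t ≤ #(ψ '' s) + #({iv} : Set _) := Cardinal.mk_union_le _ _
      _ ≤ #s + 1 := by
          refine add_le_add Cardinal.mk_image_le ?_
          simp
      _ = #s := Cardinal.add_one_eq hinf
  obtain ⟨m', hm'⟩ := Ideal.exists_maximal (Localization.Away g)
  haveI := hm'
  haveI hAlg : Algebra.IsAlgebraic k (Localization.Away g ⧸ m') := part1 t ht htcard m'
  let q : Ideal S := m'.comap ψ
  haveI hqprime : q.IsPrime := Ideal.comap_isPrime ψ m'
  let ι : S ⧸ q →ₐ[k] Localization.Away g ⧸ m' := Ideal.quotientMapₐ m' ψ le_rfl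
  have hι : Function.Injective ι := Ideal.quotientMap_injective
  haveI : Algebra.IsAlgebraic k (S ⧸ q) := Algebra.IsAlgebraic.of_injective ι hι
  haveI : IsDomain (S ⧸ q) := Ideal.Quotient.isDomain q
  haveI : Algebra.IsIntegral k (S ⧸ q) := Algebra.IsAlgebraic.isIntegral
  have hfield : IsField (S ⧸ q) := isField_of_isIntegral_of_isField' (Field.toIsField k)
  have hqmax : q.IsMaximal := Ideal.Quotient.maximal_of_isField q hfield
  have hPq : P ≤ q := by
    intro p hp
    change ψ p ∈ m'
    rw [hψ, Ideal.Quotient.eq_zero_iff_mem.mpr hp, map_zero]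
    exact m'.zero_mem
  have hfq : f ∈ q := by
    rw [Ideal.jacobson, Ideal.mem_sInf] at hf
    exact hf ⟨hPq, hqmax⟩
  have : ψ f ∈ m' := hfq
  rw [hψ] at this
  have h1 : (1 : Localization.Away g) ∈ m' := by
    rw [← hmul]
    exact m'.mul_mem_right _ this
  exact hm'.ne_top ((Ideal.eq_top_iff_one m').mpr h1)

end Aux

/-- Let `k` be a field and `S` a `k`-algebra generated by a set of cardinality smaller than that of `k`.
Then for every maximal ideal `𝔪` of `S` the residue field `S/𝔪` is algebraic over `k`, and `S` is a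
Jacobson ring. -/
theorem result {k S : Type u} [Field k] [CommRing S] [Algebra k S]
    (s : Set S) (hs : Algebra.adjoin k s = ⊤) (hcard : Cardinal.mk s < Cardinal.mk k) :
    (∀ (m : Ideal S) [m.IsMaximal], Algebra.IsAlgebraic k (S ⧸ m)) ∧ IsJacobsonRing S := by
  exact main s hs hcard

end Groth.Agent.S2059
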