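import Groth.Statements.S2060
import Mathlib
import Groth.Agent.Lib.Helper65.SmallExt
-- import your own Groth.Agent.* helpers here

set_option autoImplicit false
universe u
open CAlg

namespace Groth.Agent.S2060

open IsLocalRing Algebra TensorProduct

theorem lift_of_isSmoothAt {R S : Type u} [CommRing R] [CommRing S] [Algebra R S] (q : Ideal S)
    [q.IsPrime] (hsm : Algebra.IsSmoothAt R q)
    (B' B : Type u) [CommRing B'] [CommRing B] [IsLocalRing B'] [IsLocalRing B]
    [Algebra R B'] [Algebra R B] (π : B' →ₐ[R] B) (hπ : Function.Surjective π)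
    (ht : ∃ t : B', RingHom.ker π.toRingHom = Ideal.span {t} ∧
          ∀ a ∈ IsLocalRing.maximalIdeal B', a * t = 0)
    (g : S →ₐ[R] B) (hg : (IsLocalRing.maximalIdeal B).comap g = q) :
    ∃ g' : S →ₐ[R] B', π.comp g' = g := by
  have hfs : Algebra.FormallySmooth R (Localization.AtPrime q) := hsm
  obtain ⟨t, hker, htm⟩ := ht
  have htmem : t ∈ maximalIdeal B' := by
    rw [mem_maximalIdeal, mem_nonunits_iff]
    intro hu
    have h1 : t ∈ RingHom.ker π.toRingHom := by rw [hker]; exact Ideal.mem_span_singleton_self t
    have h2 : π t = 0 := h1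
    have h3 : IsUnit (π t) := hu.map π
    rw [h2] at h3
    exact not_isUnit_zero h3
  have hnil : IsNilpotent (RingHom.ker π.toRingHom) := by
    refine ⟨2, ?_⟩
    rw [hker, Ideal.span_singleton_pow, pow_two, htm t htmem]
    simp
  have hunit : ∀ y : q.primeCompl, IsUnit (g y) := by
    intro y
    by_contra h
    have h1 : (y : S) ∈ (maximalIdeal B).comap g := by
      rw [Ideal.mem_comap, mem_maximalIdeal]; exact h
    rw [hg] at h1
    exact y.2 h1
  let gq : Localization.AtPrime q →ₐ[R] B :=
    IsLocalization.liftAlgHom (M := q.primeCompl) (f := g) hunit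
  let l := Algebra.FormallySmooth.liftOfSurjective gq π hπ hnil
  have hl : π.comp l = gq := Algebra.FormallySmooth.comp_liftOfSurjective gq π hπ hnil
  refine ⟨l.comp (IsScalarTower.toAlgHom R S (Localization.AtPrime q)), ?_⟩
  rw [← AlgHom.comp_assoc, hl]
  ext s
  simp [gq]


/-- Let `R` be Noetherian, `S` of finite type over `R` and `𝔮` a prime of `S`. Then `R → S` is smooth at
`𝔮` if and only if for every surjection `B' → B` of Artinian local `R`-algebras whose kernel is
principal and killed by the maximal ideal of `B'`, every `R`-algebra map `S → B` under which the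
maximal ideal pulls back to `𝔮` lifts to `B'`. -/
theorem result {R S : Type u} [CommRing R] [IsNoetherianRing R]
    [CommRing S] [Algebra R S] [Algebra.FiniteType R S] (q : Ideal S) [q.IsPrime] :
    Algebra.IsSmoothAt R q ↔
      ∀ (B' B : Type u) [CommRing B'] [CommRing B] [IsLocalRing B'] [IsLocalRing B]
        [IsArtinianRing B'] [IsArtinianRing B] [Algebra R B'] [Algebra R B] (π : B' →ₐ[R] B),
        Function.Surjective π →
        (∃ t : B', RingHom.ker π.toRingHom = Ideal.span {t} ∧
          ∀ a ∈ IsLocalRing.maximalIdeal B', a * t = 0) →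
        ∀ g : S →ₐ[R] B, (IsLocalRing.maximalIdeal B).comap g = q →
          ∃ g' : S →ₐ[R] B', π.comp g' = g := by
  constructor
  · intro hsm B' B _ _ _ _ _ _ _ _ π hπ ht g hg
    exact lift_of_isSmoothAt q hsm B' B π hπ ht g hg
  · intro H
    obtain ⟨n, φ, hφ⟩ := Algebra.FiniteType.iff_quotient_mvPolynomial''.mp
      (inferInstance : Algebra.FiniteType R S)
    letI : Algebra (MvPolynomial (Fin n) R) S := φ.toRingHom.toAlgebra
    haveI : IsScalarTower R (MvPolynomial (Fin n) R) S :=
      .of_algebraMap_eq' φ.comp_algebraMap.symm
    have hφ' : Function.Surjective (algebraMap (MvPolynomial (Fin n) R) S) := hφ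
    have hcore := Groth.Agent.Lib.Helper65.SmallExt.core hφ' q H
    letI := Localization.AtPrime.algebraOfLiesOver (q.under (MvPolynomial (Fin n) R)) q
    have hsurj : Function.Surjective (algebraMap
        (Localization.AtPrime (q.under (MvPolynomial (Fin n) R))) (Localization.AtPrime q)) :=
      RingHom.surjective_localRingHom_of_surjective
        (algebraMap (MvPolynomial (Fin n) R) S) hφ' q
    haveI : IsNoetherianRing (Localization.AtPrime (q.under (MvPolynomial (Fin n) R))) :=
      IsLocalization.isNoetherianRing (q.under (MvPolynomial (Fin n) R)).primeCompl _ inferInstance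
    haveI : Algebra.FormallySmooth (MvPolynomial (Fin n) R)
        (Localization.AtPrime (q.under (MvPolynomial (Fin n) R))) :=
      Algebra.FormallySmooth.of_isLocalization (q.under (MvPolynomial (Fin n) R)).primeCompl
    haveI : Algebra.FormallySmooth R (Localization.AtPrime (q.under (MvPolynomial (Fin n) R))) :=
      Algebra.FormallySmooth.comp R (MvPolynomial (Fin n) R) _
    haveI : Algebra.EssFiniteType (MvPolynomial (Fin n) R)
        (Localization.AtPrime (q.under (MvPolynomial (Fin n) R))) :=
      Algebra.EssFiniteType.of_isLocalization _ (q.under (MvPolynomial (Fin n) R)).primeCompl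
    haveI : Algebra.EssFiniteType R (Localization.AtPrime (q.under (MvPolynomial (Fin n) R))) :=
      Algebra.EssFiniteType.comp R (MvPolynomial (Fin n) R) _
    haveI : Module.Free (Localization.AtPrime (q.under (MvPolynomial (Fin n) R)))
        Ω[Localization.AtPrime (q.under (MvPolynomial (Fin n) R))⁄R] :=
      Module.free_of_flat_of_isLocalRing
    change Algebra.FormallySmooth R (Localization.AtPrime q)
    rw [Algebra.FormallySmooth.iff_injective_cotangentComplexBaseChange_residueField
      (R := R) (S := Localization.AtPrime q)
      (Localization.AtPrime (q.under (MvPolynomial (Fin n) R))) hsurj (IsNoetherian.noetherian _)]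
    exact Groth.Agent.Lib.Helper65.SmallExt.injective_cotangentComplexBaseChange_of_forall hsurj hcore


end Groth.Agent.S2060
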