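import Groth.Statements.S2061
import Groth.Agent.Lib.Helper77.Serre
import Groth.Agent.Lib.Helper77.RegularAB

set_option autoImplicit false
universe u
open CategoryTheory
open CAlg

namespace Groth.Agent.S2061

open IsLocalRing LocCoh in
theorem depth_residue {R : Type u} [CommRing R] [IsLocalRing R] [IsNoetherianRing R] :
    depth R (R ⧸ maximalIdeal R) = 0 := by
  rw [Groth.Agent.Lib.Helper67.depth_eq_zero_iff]
  rw [AssociatedPrimes.mem_iff, isAssociatedPrime_iff_exists_injective_linearMap]
  exact ⟨inferInstance, LinearMap.id, Function.injective_id⟩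

open IsLocalRing LocCoh in
/-- For a Noetherian local ring `R` write `𝔪` for its maximal ideal and `κ` for its residue field. The
projective dimension of `κ` as an `R`-module is at least the `κ`-dimension of `𝔪/𝔪²`: if `κ` has
projective dimension less than `d` then `dim_κ 𝔪/𝔪² < d`. -/
theorem result {R : Type u} [CommRing R] [IsLocalRing R]
    [IsNoetherianRing R] (d : ℕ)
    (hd : HasProjectiveDimensionLT (ModuleCat.of R (IsLocalRing.ResidueField R)) d) :
    Module.finrank (IsLocalRing.ResidueField R) (IsLocalRing.CotangentSpace R) < d := by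
  have hd' : HasProjectiveDimensionLT (ModuleCat.of R (R ⧸ maximalIdeal R)) d := hd
  haveI hreg : IsRegularLocalRing R :=
    Groth.Agent.Lib.Helper77.Serre.isRegularLocalRing_of_residueField_hasProjectiveDimensionLT R d hd'
  obtain ⟨e, he, hdim⟩ :=
    Groth.Agent.Lib.Helper77.RegularAB.exists_pd_add_depth_eq_dim R (R ⧸ maximalIdeal R)
  rw [depth_residue, add_zero] at hdim
  have h1 := (IsRegularLocalRing.iff_finrank_cotangentSpace (R := R)).mp hreg
  rw [hdim] at h1
  have h2 : Module.finrank (ResidueField R) (CotangentSpace R) = e := by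
    exact_mod_cast h1
  rw [h2]
  rw [← projectiveDimension_lt_iff, he] at hd'
  exact_mod_cast hd'

end Groth.Agent.S2061
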