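import Groth.Statements.S2064
import Groth.Agent.Lib.Helper18.Acyclicity

set_option autoImplicit false
universe u
open CategoryTheory
open CAlg

namespace Groth.Agent.S2064

open Groth.Agent.Lib.Helper67 LocCoh in
theorem depth_range_ge' {R : Type u} [CommRing R] [IsLocalRing R] [IsNoetherianRing R]
    (C : ChainComplex (ModuleCat.{u} R) ℕ) (e : ℕ) (hzero : ∀ j, e < j → Limits.IsZero (C.X j))
    (hfin : ∀ j, Module.Finite R (C.X j)) (hdepth : ∀ j, j ≤ e → (j : ℕ∞) ≤ LocCoh.depth R (C.X j))
    (i : ℕ) (habove : ∀ j, i < j → (C.sc' (j + 1) j (j - 1)).Exact) :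
    ∀ m j, j + m = e → i ≤ j →
    ((j + 1 : ℕ) : ℕ∞) ≤
      idealDepth (IsLocalRing.maximalIdeal R) (LinearMap.range (C.d (j + 1) j).hom) := by
  intro m
  induction m with
  | zero =>
    intro j hj _
    have hsub : Subsingleton (C.X (j + 1)) :=
      ModuleCat.subsingleton_of_isZero (hzero _ (by omega))
    have : Subsingleton (LinearMap.range (C.d (j + 1) j).hom) := by
      constructor
      rintro ⟨_, a, rfl⟩ ⟨_, b, rfl⟩
      rw [Subsingleton.elim a b]
    rw [idealDepth_eq_top_of_smul_top_eq_top _ _ (Subsingleton.elim _ _)]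
    exact le_top
  | succ m ih =>
    intro j hj hij
    have ih' := ih (j + 1) (by omega) (by omega)
    have hex := habove (j + 1) (by omega)
    rw [ShortComplex.moduleCat_exact_iff_range_eq_ker] at hex
    have hex' : LinearMap.range (C.d (j + 1 + 1) (j + 1)).hom =
        LinearMap.ker (C.d (j + 1) j).hom := hex
    have := hfin (j + 1)
    have h := idealDepth_right_ge (IsLocalRing.maximalIdeal R)
      (LinearMap.ker (C.d (j + 1) j).hom) (C.X (j + 1)) (LinearMap.range (C.d (j + 1) j).hom)
      (LinearMap.ker (C.d (j + 1) j).hom).subtype (C.d (j + 1) j).hom.rangeRestrict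
      Subtype.val_injective (LinearMap.surjective_rangeRestrict _) (by
        intro y
        constructor
        · intro hy
          have : (C.d (j + 1) j).hom y = 0 := congrArg Subtype.val hy
          exact ⟨⟨y, this⟩, rfl⟩
        · rintro ⟨⟨y, hy⟩, rfl⟩
          exact Subtype.ext hy)
    refine le_trans (le_min ?_ ?_) h
    · exact hdepth (j + 1) (by omega)
    · rw [← idealDepth_congr _ (LinearEquiv.ofEq _ _ hex')]
      apply ENat.le_sub_of_add_le_right ENat.one_ne_top
      refine le_trans ?_ ih'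
      exact_mod_cast le_rfl

/-- Let `R` be a Noetherian local ring and `0 → M_e → M_{e-1} → … → M_0` a complex of finite `R`-modules
with `depth(M_j) ≥ j`. If `i > 0` is the largest index at which the complex is not exact, then the
homology at `M_i` has depth at least one. -/
theorem result {R : Type u} [CommRing R] [IsLocalRing R] [IsNoetherianRing R]
    (C : ChainComplex (ModuleCat.{u} R) ℕ) (e : ℕ) (hzero : ∀ j, e < j → Limits.IsZero (C.X j))
    (hfin : ∀ j, Module.Finite R (C.X j)) (hdepth : ∀ j, j ≤ e → (j : ℕ∞) ≤ LocCoh.depth R (C.X j))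
    (i : ℕ) (hi : 0 < i) (hnot : ¬ C.ExactAt i) (habove : ∀ j, i < j → C.ExactAt j) :
    1 ≤ LocCoh.depth R (C.homology i) := by
  have hnext : ∀ j, (ComplexShape.down ℕ).next j = j - 1 := by
    intro j
    cases j with
    | zero => exact ChainComplex.next_nat_zero
    | succ n => exact ChainComplex.next_nat_succ n
  have hEx : ∀ j, C.ExactAt j ↔ (C.sc' (j + 1) j (j - 1)).Exact := fun j =>
    C.exactAt_iff' (j + 1) j (j - 1) (ChainComplex.prev ℕ j) (hnext j)
  have hie : i ≤ e := by
    by_contra hcon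
    apply hnot
    rw [hEx]
    exact ShortComplex.exact_of_isZero_X₂ _ (hzero i (by omega))
  have hB := depth_range_ge' C e hzero hfin hdepth i (fun j hj => (hEx j).1 (habove j hj))
    (e - i) i (by omega) le_rfl
  set S := C.sc' (i + 1) i (i - 1) with hS
  have hSne : ¬ S.Exact := fun h => hnot ((hEx i).2 h)
  let Z : Submodule R S.X₂ := LinearMap.ker S.g.hom
  let B' : Submodule R Z := LinearMap.range S.moduleCatToCycles
  have hmap : B'.map Z.subtype = LinearMap.range S.f.hom := by
    rw [← LinearMap.range_comp]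
    rfl
  let eB : B' ≃ₗ[R] LinearMap.range S.f.hom :=
    (Submodule.equivMapOfInjective Z.subtype Subtype.val_injective B').trans
      (LinearEquiv.ofEq _ _ hmap)
  have hB2 : (2 : ℕ∞) ≤ LocCoh.idealDepth (IsLocalRing.maximalIdeal R) B' := by
    rw [Groth.Agent.Lib.Helper67.idealDepth_congr _ eB]
    refine le_trans ?_ hB
    exact_mod_cast (by omega : 2 ≤ i + 1)
  have hX1 : (1 : ℕ∞) ≤ LocCoh.idealDepth (IsLocalRing.maximalIdeal R) (C.X i) := by
    refine le_trans ?_ (hdepth i hie)
    exact_mod_cast hi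
  have hXnt : Nontrivial (C.X i) := by
    by_contra hcon
    rw [not_nontrivial_iff_subsingleton] at hcon
    exact hSne (ShortComplex.exact_of_isZero_X₂ _
      (show Limits.IsZero (C.X i) from ModuleCat.isZero_of_subsingleton _))
  have : Module.Finite R S.X₂ := hfin i
  have hZ1 : (1 : ℕ∞) ≤ LocCoh.idealDepth (IsLocalRing.maximalIdeal R) Z := by
    rcases (Groth.Agent.Lib.Helper67.one_le_idealDepth_iff _ _).1 hX1 with htop | ⟨x, hxm, hx⟩
    · exact absurd htop (Groth.Agent.Lib.Helper67.maximalIdeal_smul_top_ne_top (C.X i))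
    · exact (Groth.Agent.Lib.Helper67.one_le_idealDepth_iff _ _).2
        (Or.inr ⟨x, hxm, fun a b h => by
          have h' : x • (a : S.X₂) = x • (b : S.X₂) := congrArg Subtype.val h
          exact Subtype.ext (hx h')⟩)
  have h := Groth.Agent.Lib.Helper67.idealDepth_right_ge (IsLocalRing.maximalIdeal R) B' Z (Z ⧸ B')
    B'.subtype B'.mkQ
    Subtype.val_injective (Submodule.mkQ_surjective B') (LinearMap.exact_subtype_mkQ B')
  have hH1 : (1 : ℕ∞) ≤ LocCoh.idealDepth (IsLocalRing.maximalIdeal R) (Z ⧸ B') := by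
    refine le_trans (le_min hZ1 ?_) h
    exact ENat.le_sub_of_add_le_right ENat.one_ne_top hB2
  have e1 : C.homology i ≃ₗ[R] S.homology :=
    (C.homologyIsoSc' (i + 1) i (i - 1) (ChainComplex.prev ℕ i) (hnext i)).toLinearEquiv
  have e2 : S.homology ≃ₗ[R] (Z ⧸ B') := S.moduleCatHomologyIso.toLinearEquiv
  show (1 : ℕ∞) ≤ LocCoh.idealDepth (IsLocalRing.maximalIdeal R) (C.homology i)
  rw [Groth.Agent.Lib.Helper67.idealDepth_congr _ (e1.trans e2)]
  exact hH1

end Groth.Agent.S2064
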