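import Groth.Statements.S2065
import Groth.Agent.Lib.Helper99.BEI
import Groth.Agent.S19962

set_option autoImplicit false
universe u
open CAlg

namespace Groth.Agent.S2065

/-- Let `R` be a Noetherian local ring and `0 → R^{n_e} → … → R^{n_1} → R^{n_0}` a complex of finite
free modules, the map `R^{n_{i+1}} → R^{n_i}` being given by the matrix `A i`. The complex is exact
at `R^{n_e}, …, R^{n_1}` if and only if for each `1 ≤ j ≤ e` the matrix of `R^{n_j} → R^{n_{j-1}}`
has rank `n_j - n_{j+1} + … ± n_e` and its ideal of minors of that size is the unit ideal or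
contains a regular sequence of length `j`. -/
theorem result {R : Type u} [CommRing R] [IsLocalRing R] [IsNoetherianRing R]
    (e : ℕ) (he : 1 ≤ e) (n : ℕ → ℕ) (A : (i : ℕ) → Matrix (Fin (n i)) (Fin (n (i + 1))) R)
    (hA : ∀ i, i + 2 ≤ e → A i * A (i + 1) = 0) :
    (LinearMap.ker (A (e - 1)).mulVecLin = ⊥ ∧
        ∀ i, i + 2 ≤ e → LinearMap.ker (A i).mulVecLin = LinearMap.range (A (i + 1)).mulVecLin) ↔
      ∀ j, 1 ≤ j → j ≤ e →
        (CAlgX.matrixRank (A (j - 1)) : ℤ) = ∑ t ∈ Finset.Icc j e, (-1 : ℤ) ^ (t - j) * (n t : ℤ) ∧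
          (CAlgX.detIdeal (A (j - 1)) = ⊤ ∨
            ∃ rs : List R, rs.length = j ∧ (∀ r ∈ rs, r ∈ CAlgX.detIdeal (A (j - 1))) ∧
              RingTheory.Sequence.IsRegular R rs) := by
  classical
  open Groth.Agent.Lib.Helper99.BE in
  constructor
  · intro hex j hj1 hje
    obtain ⟨i, rfl⟩ : ∃ i, j = i + 1 := ⟨j - 1, by omega⟩
    change (CAlgX.matrixRank (A i) : ℤ) = _ ∧ (CAlgX.detIdeal (A i) = ⊤ ∨
      ∃ rs : List R, rs.length = i + 1 ∧ (∀ r ∈ rs, r ∈ CAlgX.detIdeal (A i)) ∧
        RingTheory.Sequence.IsRegular R rs)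
    have hi : i < e := by omega
    have hex' : Exact e n (trunc e n A) := (exact_trunc_iff e he n A).2 hex
    have hz : ∀ i, e ≤ i → trunc e n A i = 0 := fun i hi => trunc_of_le A hi
    obtain ⟨k, hk, h1, x, hxI, hxnzd⟩ := minors_of_exact e n (trunc e n A) hz hex' i hi.le
    have hg := grade_of_exact e n (trunc e n A) hz hex' i hi k hk
    rw [trunc_of_lt A hi] at h1 hxI hg
    have hrk : CAlgX.matrixRank (A i) = k := by
      apply matrixRank_eq (A i) k _ h1
      intro hbot
      rw [hbot, Submodule.mem_bot] at hxI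
      exact nonZeroDivisors.ne_zero hxnzd hxI
    refine ⟨?_, ?_⟩
    · rw [hrk, hk]; rfl
    · unfold CAlgX.detIdeal
      rw [hrk]
      exact hg
  · intro h
    exact Groth.Agent.S19962.result e he n A hA (fun j h1 h2 => (h j h1 h2).1)
      (fun j h1 h2 => (h j h1 h2).2)

end Groth.Agent.S2065
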