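import Groth.Statements.S2070
import Groth.Agent.Lib.Helper56.TensorNormal2

set_option autoImplicit false
universe u
open CAlg

namespace Groth.Agent.S2070

open TensorProduct in
/-- Let `A` be an algebra over a field `k`. Then all local rings of `k' ⊗ A` are integrally closed
domains for every field extension `k'/k` if and only if this holds for every finite purely
inseparable extension `k'/k` (extensions in the same universe). -/
theorem result {k A : Type u} [Field k] [CommRing A] [Algebra k A] :
    (∀ (k' : Type u) [Field k'] [Algebra k k'] (P : Ideal (k' ⊗[k] A)) [P.IsPrime],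
        IsDomain (Localization.AtPrime P) ∧ IsIntegrallyClosed (Localization.AtPrime P)) ↔
      ∀ (k' : Type u) [Field k'] [Algebra k k'], Module.Finite k k' → IsPurelyInseparable k k' →
        ∀ (P : Ideal (k' ⊗[k] A)) [P.IsPrime],
          IsDomain (Localization.AtPrime P) ∧ IsIntegrallyClosed (Localization.AtPrime P) := by
  constructor
  · intro h k' _ _ _ _ P _
    exact h k' P
  · intro h k' _ _
    have hN : EGA4.IsNormalRing (k' ⊗[k] A) := by
      apply Groth.Agent.Lib.Helper56.isNormalRing_tensor_of_forall_fg'
      intro E
      have hess : Algebra.EssFiniteType k (IntermediateField.adjoin k (E : Set k')) :=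
        IntermediateField.essFiniteType_iff.mpr ⟨E, rfl⟩
      exact Groth.Agent.Lib.Helper56.isNormalRing_tensor_of_forall_purelyInseparable_any k A
        (fun k'' _ _ hf hpi => fun P _ => h k'' hf hpi P) _
    exact fun P _ => hN P

end Groth.Agent.S2070
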