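import Groth.Statements.S2071
import Mathlib

set_option autoImplicit false
universe u
open CAlg

namespace Groth.Agent.S2071

section

theorem core {L : Type*} [Field L] (Ω : Subfield L)
    (hΩ : ∀ (ω : L) (n : ℕ), 0 < n → ω ^ n = 1 → ω ∈ Ω) (α β : L) (hne : β ≠ α)
    (S : Set L) (h0 : (0 : L) ∈ S) (h1 : (1 : L) ∈ S)
    (hS : ∀ c ∈ S, ∃ n : ℕ, 0 < n ∧ (β + c) ^ n = (α + c) ^ n)
    (hα : ∀ c ∈ S, α + c ≠ 0) : α ∈ Ω ∧ β ∈ Ω ∧ ∀ c ∈ S, c ∈ Ω := by
  have hω : ∀ c ∈ S, ∃ ω ∈ Ω, β + c = ω * (α + c) ∧ ω ≠ 1 := by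
    intro c hc
    obtain ⟨n, hn, hpow⟩ := hS c hc
    refine ⟨(β + c) / (α + c), hΩ _ n hn ?_, ?_, ?_⟩
    · rw [div_pow, hpow, div_self (pow_ne_zero _ (hα c hc))]
    · rw [div_mul_cancel₀ _ (hα c hc)]
    · intro h
      rw [div_eq_one_iff_eq (hα c hc)] at h
      exact hne (add_right_cancel h)
  obtain ⟨ω0, hω0, e0, hω01⟩ := hω 0 h0
  obtain ⟨ω1, hω1, e1, hω11⟩ := hω 1 h1
  rw [add_zero, add_zero] at e0
  have hne01 : ω0 - ω1 ≠ 0 := by
    intro h
    have h' : ω0 = ω1 := sub_eq_zero.1 h
    rw [e0, h'] at e1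
    apply hω11
    have : (ω1 - 1) * 1 = 0 := by linear_combination -e1
    rw [mul_one] at this
    exact sub_eq_zero.1 this
  have hα' : α = (ω1 - 1) / (ω0 - ω1) := by
    rw [eq_div_iff hne01]
    rw [e0] at e1
    linear_combination e1
  have hαΩ : α ∈ Ω := by
    rw [hα']
    exact Ω.div_mem (Ω.sub_mem hω1 Ω.one_mem) (Ω.sub_mem hω0 hω1)
  have hβΩ : β ∈ Ω := by
    rw [e0]
    exact Ω.mul_mem hω0 hαΩ
  refine ⟨hαΩ, hβΩ, ?_⟩
  intro c hc
  obtain ⟨ω, hωΩ, e, hω1'⟩ := hω c hc
  have hne1 : 1 - ω ≠ 0 := fun h => hω1' (sub_eq_zero.1 h).symm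
  have : c = (ω * α - β) / (1 - ω) := by
    rw [eq_div_iff hne1]
    linear_combination e
  rw [this]
  exact Ω.div_mem (Ω.sub_mem (Ω.mul_mem hωΩ hαΩ) hβΩ) (Ω.sub_mem Ω.one_mem hωΩ)

open Polynomial IntermediateField in
theorem setup {k K : Type u} [Field k] [Field K] [Algebra k K]
    (hrad : ∀ x : K, ∃ n : ℕ, 0 < n ∧ x ^ n ∈ Set.range (algebraMap k K))
    (a : K) (hsep : IsSeparable k a) (ha : a ∉ Set.range (algebraMap k K)) :
    ∃ β : AlgebraicClosure K, β ≠ algebraMap K (AlgebraicClosure K) a ∧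
      ∀ c : k, ∃ n : ℕ, 0 < n ∧ (β + algebraMap k (AlgebraicClosure K) c) ^ n =
        (algebraMap K (AlgebraicClosure K) a + algebraMap k (AlgebraicClosure K) c) ^ n := by
  classical
  have hint : IsIntegral k a := hsep.isIntegral
  have hdeg : 1 < (minpoly k a).natDegree := by
    have h1 := minpoly.natDegree_pos hint
    have h2 : (minpoly k a).natDegree ≠ 1 := fun h => ha (minpoly.natDegree_eq_one_iff.1 h)
    omega
  have hsplit : ((minpoly k a).map (algebraMap k (AlgebraicClosure K))).Splits :=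
    IsAlgClosed.splits _
  have hcard := Polynomial.card_rootSet_eq_natDegree (K := AlgebraicClosure K) hsep hsplit
  have hmem : algebraMap K (AlgebraicClosure K) a ∈ (minpoly k a).rootSet (AlgebraicClosure K) := by
    rw [mem_rootSet]
    exact ⟨minpoly.ne_zero hint, by rw [aeval_algebraMap_apply, minpoly.aeval, map_zero]⟩
  obtain ⟨⟨β, hβmem⟩, hβne⟩ := Fintype.exists_ne_of_one_lt_card (by rw [hcard]; exact hdeg)
    (⟨algebraMap K (AlgebraicClosure K) a, hmem⟩ : (minpoly k a).rootSet (AlgebraicClosure K))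
  have hβar : β ∈ (minpoly k a).aroots (AlgebraicClosure K) := by
    rw [mem_aroots]
    exact mem_rootSet.1 hβmem
  obtain ⟨σ, hσdef⟩ : ∃ σ : k⟮a⟯ →ₐ[k] AlgebraicClosure K,
      σ = (algHomAdjoinIntegralEquiv k hint).symm ⟨β, hβar⟩ := ⟨_, rfl⟩
  have hσ : σ (AdjoinSimple.gen k a) = β := by
    rw [hσdef]
    exact algHomAdjoinIntegralEquiv_symm_apply_gen k hint ⟨β, hβar⟩
  refine ⟨β, fun h => hβne (Subtype.ext h), fun c => ?_⟩
  obtain ⟨n, hn, d, hd⟩ := hrad (a + algebraMap k K c)
  refine ⟨n, hn, ?_⟩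
  have hy : (AdjoinSimple.gen k a + algebraMap k k⟮a⟯ c) ^ n = algebraMap k k⟮a⟯ d := by
    apply Subtype.ext
    rw [SubmonoidClass.coe_pow]
    exact hd.symm
  have h1 := congrArg σ hy
  rw [map_pow, map_add, hσ, AlgHom.commutes, AlgHom.commutes] at h1
  rw [h1, IsScalarTower.algebraMap_apply k K (AlgebraicClosure K) c, ← map_add, ← map_pow, ← hd,
    ← IsScalarTower.algebraMap_apply]

theorem key {k K : Type u} [Field k] [Field K] [Algebra k K]
    (hrad : ∀ x : K, ∃ n : ℕ, 0 < n ∧ x ^ n ∈ Set.range (algebraMap k K))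
    (a : K) (hsep : IsSeparable k a) (ha : a ∉ Set.range (algebraMap k K)) :
    Algebra.IsAlgebraic (⊥ : Subfield K) K ∧ ¬ CharZero K := by
  obtain ⟨β, hβne, hβ⟩ := setup hrad a hsep ha
  obtain ⟨Ω, hΩdef⟩ : ∃ Ω : Subfield (AlgebraicClosure K),
      Ω = (algebraicClosure (⊥ : Subfield (AlgebraicClosure K)) (AlgebraicClosure K)).toSubfield :=
    ⟨_, rfl⟩
  have hΩmem : ∀ x : AlgebraicClosure K,
      x ∈ Ω ↔ IsAlgebraic (⊥ : Subfield (AlgebraicClosure K)) x := by
    intro x
    rw [hΩdef]
    exact mem_algebraicClosure_iff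
  have hΩ : ∀ (ω : AlgebraicClosure K) (n : ℕ), 0 < n → ω ^ n = 1 → ω ∈ Ω := by
    intro ω n hn h
    rw [hΩmem]
    exact IsAlgebraic.of_pow hn (by rw [h]; exact isAlgebraic_one)
  have hαne : ∀ c ∈ Set.range (algebraMap k (AlgebraicClosure K)),
      algebraMap K (AlgebraicClosure K) a + c ≠ 0 := by
    rintro _ ⟨c, rfl⟩ h
    rw [IsScalarTower.algebraMap_apply k K (AlgebraicClosure K) c, ← map_add,
      map_eq_zero_iff _ (algebraMap K (AlgebraicClosure K)).injective] at h
    apply ha
    refine ⟨-c, ?_⟩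
    rw [map_neg]
    exact (eq_neg_of_add_eq_zero_left h).symm
  obtain ⟨hαΩ, hβΩ, hSΩ⟩ := core Ω hΩ (algebraMap K (AlgebraicClosure K) a) β hβne
    (Set.range (algebraMap k (AlgebraicClosure K))) ⟨0, map_zero _⟩ ⟨1, map_one _⟩
    (by rintro _ ⟨c, rfl⟩; exact hβ c) hαne
  have hKΩ : ∀ x : K, IsAlgebraic (⊥ : Subfield (AlgebraicClosure K))
      (algebraMap K (AlgebraicClosure K) x) := by
    intro x
    obtain ⟨n, hn, d, hd⟩ := hrad x
    refine IsAlgebraic.of_pow hn ?_
    rw [← map_pow, ← hd, ← IsScalarTower.algebraMap_apply, ← hΩmem]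
    exact hSΩ _ ⟨d, rfl⟩
  constructor
  · have hmapbot : ∀ y : (⊥ : Subfield K),
        algebraMap K (AlgebraicClosure K) y ∈ (⊥ : Subfield (AlgebraicClosure K)) := by
      intro y
      rw [← Subfield.map_bot (algebraMap K (AlgebraicClosure K))]
      exact ⟨y, y.2, rfl⟩
    let θ : (⊥ : Subfield K) →+* (⊥ : Subfield (AlgebraicClosure K)) :=
      ((algebraMap K (AlgebraicClosure K)).comp (⊥ : Subfield K).subtype).codRestrict _ hmapbot
    have hθsurj : Function.Surjective θ := by
      rintro ⟨z, hz⟩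
      rw [← Subfield.map_bot (algebraMap K (AlgebraicClosure K))] at hz
      obtain ⟨y, hy, rfl⟩ := hz
      exact ⟨⟨y, hy⟩, Subtype.ext rfl⟩
    refine ⟨fun x => (hKΩ x).of_ringHom_of_comp_eq θ (algebraMap K (AlgebraicClosure K)) hθsurj
      (algebraMap K (AlgebraicClosure K)).injective ?_⟩
    ext y
    rfl
  · intro hchar
    have hcharL : CharZero (AlgebraicClosure K) :=
      charZero_of_injective_algebraMap (algebraMap K (AlgebraicClosure K)).injective
    have hbotQ : ∀ q : ℚ, algebraMap ℚ (AlgebraicClosure K) q ∈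
        (⊥ : Subfield (AlgebraicClosure K)) := by
      intro q
      rw [Subfield.bot_eq_of_charZero]
      exact ⟨q, rfl⟩
    let f : ℚ →+* (⊥ : Subfield (AlgebraicClosure K)) :=
      (algebraMap ℚ (AlgebraicClosure K)).codRestrict _ hbotQ
    have hfsurj : Function.Surjective f := by
      rintro ⟨z, hz⟩
      rw [Subfield.bot_eq_of_charZero] at hz
      obtain ⟨q, rfl⟩ := hz
      exact ⟨q, Subtype.ext rfl⟩
    have htrans : ∀ x : AlgebraicClosure K, x ∈ Ω → IsIntegral ℚ x := by
      intro x hx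
      have h1 : IsAlgebraic (⊥ : Subfield (AlgebraicClosure K))
          ((RingHom.id (AlgebraicClosure K)) x) := (hΩmem x).1 hx
      exact (h1.of_ringHom_of_comp_eq f (RingHom.id (AlgebraicClosure K)) hfsurj
        Function.injective_id (by ext q; rfl)).isIntegral
    have hαint := htrans _ hαΩ
    have hβint := htrans _ hβΩ
    have hfd : FiniteDimensional ℚ (IntermediateField.adjoin ℚ
        {algebraMap K (AlgebraicClosure K) a, β}) :=
      IntermediateField.finiteDimensional_adjoin_pair hαint hβint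
    have hnf : NumberField (IntermediateField.adjoin ℚ
        {algebraMap K (AlgebraicClosure K) a, β}) :=
      { to_charZero := inferInstance, to_finiteDimensional := hfd }
    have hαF : algebraMap K (AlgebraicClosure K) a ∈ IntermediateField.adjoin ℚ
        {algebraMap K (AlgebraicClosure K) a, β} :=
      IntermediateField.subset_adjoin ℚ _ (by simp)
    have hβF : β ∈ IntermediateField.adjoin ℚ {algebraMap K (AlgebraicClosure K) a, β} :=
      IntermediateField.subset_adjoin ℚ _ (by simp)
    have hpow : ∀ m : ℕ, ∃ n : ℕ, 0 < n ∧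
        ((β + (m : AlgebraicClosure K)) / (algebraMap K (AlgebraicClosure K) a + m)) ^ n = 1 ∧
        algebraMap K (AlgebraicClosure K) a + (m : AlgebraicClosure K) ≠ 0 := by
      intro m
      obtain ⟨n, hn, h⟩ := hβ (m : k)
      have hne := hαne _ ⟨(m : k), rfl⟩
      rw [map_natCast] at h hne
      exact ⟨n, hn, by rw [div_pow, h, div_self (pow_ne_zero _ hne)], hne⟩
    let w : ℕ → IntermediateField.adjoin ℚ {algebraMap K (AlgebraicClosure K) a, β} := fun m =>
      ⟨(β + (m : AlgebraicClosure K)) / (algebraMap K (AlgebraicClosure K) a + m),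
        div_mem (add_mem hβF (natCast_mem _ m)) (add_mem hαF (natCast_mem _ m))⟩
    have hwinj : Function.Injective w := by
      intro m m' hmm
      have h := congrArg Subtype.val hmm
      change (β + (m : AlgebraicClosure K)) / (algebraMap K (AlgebraicClosure K) a + m) =
        (β + (m' : AlgebraicClosure K)) / (algebraMap K (AlgebraicClosure K) a + m') at h
      obtain ⟨_, _, _, hne⟩ := hpow m
      obtain ⟨_, _, _, hne'⟩ := hpow m'
      rw [div_eq_div_iff hne hne'] at h
      have h2 : (β - algebraMap K (AlgebraicClosure K) a) *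
          ((m' : AlgebraicClosure K) - m) = 0 := by linear_combination h
      rcases mul_eq_zero.1 h2 with h3 | h3
      · exact absurd (sub_eq_zero.1 h3) hβne
      · exact (Nat.cast_injective (sub_eq_zero.1 h3)).symm
    have hT := NumberField.Embeddings.finite_of_norm_le
      (IntermediateField.adjoin ℚ {algebraMap K (AlgebraicClosure K) a, β}) ℂ 1
    have hsub : Set.range w ⊆ {x | IsIntegral ℤ x ∧ ∀ φ :
        IntermediateField.adjoin ℚ {algebraMap K (AlgebraicClosure K) a, β} →+* ℂ, ‖φ x‖ ≤ 1} := by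
      rintro _ ⟨m, rfl⟩
      obtain ⟨n, hn, h1, _⟩ := hpow m
      have hw1 : (w m) ^ n = 1 := Subtype.ext h1
      refine ⟨IsIntegral.of_pow hn (by rw [hw1]; exact isIntegral_one), fun φ => ?_⟩
      have : (φ (w m)) ^ n = 1 := by rw [← map_pow, hw1, map_one]
      exact (Complex.norm_eq_one_of_pow_eq_one this hn.ne').le
    exact (Set.infinite_range_of_injective hwinj) (hT.subset hsub)

end

/-- For a field extension `k'/k`, every element of `k'` has a positive power in `k` if and only if
either `k' = k`, or the characteristic is a prime `p` and either `k'/k` is purely inseparable or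
`k'` is algebraic over its prime field. -/
theorem result {k k' : Type u} [Field k] [Field k'] [Algebra k k'] :
    (∀ x : k', ∃ n : ℕ, 0 < n ∧ x ^ n ∈ Set.range (algebraMap k k')) ↔
      Function.Surjective (algebraMap k k') ∨
        ∃ p : ℕ, p.Prime ∧ CharP k' p ∧
          (IsPurelyInseparable k k' ∨ Algebra.IsAlgebraic (⊥ : Subfield k') k') := by
  classical
  constructor
  · intro hrad
    by_cases hsurj : Function.Surjective (algebraMap k k')
    · exact Or.inl hsurj
    right
    have halg : Algebra.IsAlgebraic k k' := by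
      refine ⟨fun x => ?_⟩
      obtain ⟨n, hn, d, hd⟩ := hrad x
      exact IsAlgebraic.of_pow hn (by rw [← hd]; exact isAlgebraic_algebraMap d)
    obtain ⟨p, hp⟩ := CharP.exists k'
    rcases CharP.char_is_prime_or_zero k' p with hpp | hp0
    · refine ⟨p, hpp, hp, ?_⟩
      by_cases hpi : IsPurelyInseparable k k'
      · exact Or.inl hpi
      · right
        have hne : separableClosure k k' ≠ ⊥ := fun h => hpi (separableClosure.eq_bot_iff.1 h)
        obtain ⟨a, ha1, ha2⟩ := SetLike.exists_of_lt (bot_lt_iff_ne_bot.2 hne)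
        rw [IntermediateField.mem_bot] at ha2
        exact (key hrad a (mem_separableClosure_iff.1 ha1) ha2).1
    · exfalso
      subst hp0
      have hcz : CharZero k' := CharP.charP_to_charZero k'
      have hczk : CharZero k := (RingHom.charZero_iff (algebraMap k k').injective).2 hcz
      obtain ⟨a, ha⟩ : ∃ a, a ∉ Set.range (algebraMap k k') := by
        by_contra hcon
        push Not at hcon
        exact hsurj hcon
      have hsepa : IsSeparable k a := Algebra.IsSeparable.isSeparable k a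
      exact (key hrad a hsepa ha).2 hcz
  · rintro (hsurj | ⟨p, hpp, hp, hpi | halg⟩) x
    · obtain ⟨c, rfl⟩ := hsurj x
      exact ⟨1, one_pos, c, by rw [pow_one]⟩
    · have hpk : CharP k p := (RingHom.charP_iff (algebraMap k k') (algebraMap k k').injective p).2 hp
      have hexp : ExpChar k p := ExpChar.prime hpp
      obtain ⟨n, hn⟩ := IsPurelyInseparable.pow_mem k p x
      exact ⟨p ^ n, pow_pos hpp.pos n, hn⟩
    · by_cases hx : x = 0
      · subst hx
        exact ⟨1, one_pos, 0, by simp⟩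
      · have hfp : Fact p.Prime := ⟨hpp⟩
        let _ : Algebra (ZMod p) k' := ZMod.algebra k' p
        have hbot : (⊥ : Subfield k') = (algebraMap (ZMod p) k').fieldRange :=
          Subfield.bot_eq_of_zMod_algebra p
        have hfinbot : Finite (⊥ : Subfield k') := by
          rw [hbot]
          exact Set.finite_coe_iff.2 (Set.finite_range _)
        have hxint : IsIntegral (⊥ : Subfield k') x := (halg.isAlgebraic x).isIntegral
        have hfin : Module.Finite (⊥ : Subfield k') (Algebra.adjoin (⊥ : Subfield k') {x}) :=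
          Algebra.finite_adjoin_simple_of_isIntegral hxint
        have hfinA : Finite (Algebra.adjoin (⊥ : Subfield k') {x}) :=
          Module.finite_of_finite (⊥ : Subfield k')
        obtain ⟨i, j, hij, heq⟩ := Finite.exists_ne_map_eq_of_infinite
          (fun n : ℕ => (⟨x ^ n, Subalgebra.pow_mem _ (Algebra.self_mem_adjoin_singleton _ x) n⟩ :
            Algebra.adjoin (⊥ : Subfield k') {x}))
        have heq' : x ^ i = x ^ j := congrArg Subtype.val heq
        have hmain : ∀ i j : ℕ, i < j → x ^ i = x ^ j →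
            ∃ n : ℕ, 0 < n ∧ x ^ n ∈ Set.range (algebraMap k k') := by
          intro i j hlt h
          refine ⟨j - i, Nat.sub_pos_of_lt hlt, 1, ?_⟩
          rw [map_one]
          have h2 : x ^ i * x ^ (j - i) = x ^ i * 1 := by
            rw [← pow_add, Nat.add_sub_cancel' hlt.le, mul_one, h]
          exact (mul_left_cancel₀ (pow_ne_zero i hx) h2).symm
        rcases Nat.lt_or_gt_of_ne hij with hlt | hlt
        · exact hmain i j hlt heq'
        · exact hmain j i hlt heq'.symm

end Groth.Agent.S2071
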