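import Groth.Statements.S2076
import Groth.Agent.Lib.Helper50.LimDesc

set_option autoImplicit false
universe u
open CategoryTheory AlgebraicGeometry
open Lim

namespace Groth.Agent.S2076

/-- Let `X = lim X_i` be a cofiltered limit of quasi-compact schemes over `S` with affine transition
morphisms and `h : Y → X` a closed immersion with `Y → S` locally of finite type. Then `Y → X_i` is
a closed immersion for some `i`. -/
theorem result {I : Type u} [SmallCategory I] [IsCofiltered I] (S : Scheme.{u})
    (D : I ⥤ Over S) (c : Limits.Cone D) (hc : Limits.IsLimit c)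
    [∀ (i j : I) (f : i ⟶ j), IsAffineHom (D.map f).left] [∀ i, CompactSpace (D.obj i).left]
    {Y : Scheme.{u}} (h : Y ⟶ c.pt.left) [IsClosedImmersion h] [LocallyOfFiniteType (h ≫ c.pt.hom)] :
    ∃ i : I, IsClosedImmersion (h ≫ (c.π.app i).left) := by
  classical
  obtain ⟨i₀⟩ := IsCofiltered.nonempty (C := I)
  let D' : I ⥤ Scheme.{u} := D ⋙ Over.forget S
  let c' : Limits.Cone D' := (Over.forget S).mapCone c
  have hc' : Limits.IsLimit c' := Limits.isLimitOfPreserves (Over.forget S) hc
  have : ∀ (i j : I) (f : i ⟶ j), IsAffineHom (D'.map f) := fun i j f ↦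
    inferInstanceAs (IsAffineHom (D.map f).left)
  have : CompactSpace (D'.obj i₀) := inferInstanceAs (CompactSpace (D.obj i₀).left)
  have hci : @IsClosedImmersion Y c'.pt h := ‹IsClosedImmersion h›
  have hlft : @LocallyOfFiniteType Y S (@CategoryStruct.comp Scheme _ Y c'.pt S h
      (c'.π.app i₀ ≫ (D.obj i₀).hom)) := by
    have e : (c.π.app i₀).left ≫ (D.obj i₀).hom = c.pt.hom := Over.w (c.π.app i₀)
    change LocallyOfFiniteType (h ≫ (c.π.app i₀).left ≫ (D.obj i₀).hom)
    rw [e]
    infer_instance
  obtain ⟨j, f, hj⟩ := @Groth.Agent.Lib.Helper50.exists_forall_isClosedImmersion_comp_π _ _ _ D' c'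
    hc' _ i₀ _ S (D.obj i₀).hom Y h hci hlft
  exact ⟨j, hj j (𝟙 j)⟩

end Groth.Agent.S2076
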