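import Groth.Statements.S2080
import Mathlib
import Groth.Agent.Lib.Helper93.GenFinite2

set_option autoImplicit false
universe u
open CategoryTheory AlgebraicGeometry
open Mor

namespace Groth.Agent.S2080

/-- Let `f : X → Y` be locally of finite type, quasi-compact and quasi-separated, and `η` a generic
point of an irreducible component of `Y`. Then `f⁻¹{η}` is finite if and only if there is an affine
open `V ∋ η` such that `f⁻¹(V) → V` is finite. -/
theorem result {X Y : Scheme.{u}} (f : X ⟶ Y) [LocallyOfFiniteType f]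
    [QuasiCompact f] [QuasiSeparated f] (η : Y) (hη : closure {η} ∈ irreducibleComponents (Y : Type u)) :
    (f.base ⁻¹' {η}).Finite ↔ ∃ V : Y.Opens, IsAffineOpen V ∧ η ∈ V ∧ IsFinite (f ∣_ V) := by
  constructor
  · intro hfin
    obtain ⟨V₀, hV₀, hηV₀, -⟩ := exists_isAffineOpen_mem_and_subset (U := ⊤) (x := η) (by simp)
    obtain ⟨V, U, hV, hU, hηV, -, hUV, hfib⟩ :=
      Groth.Agent.Lib.Helper93.GenFinite.exists_affine_nhds_fiber_of_quasiSeparated f η hη V₀ hV₀
        hηV₀ hfin
    obtain ⟨V', hV', hηV', -, hfinite⟩ :=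
      Groth.Agent.Lib.Helper93.GenFinite.exists_affine_isFinite_morphismRestrict f hU hV hUV η hηV
        hη hfib (fun x hx => Groth.Agent.Lib.Helper93.GenFinite.quasiFiniteAt_of_finite_fiber f x
          (by rw [hx]; exact hfin))
    exact ⟨V', hV', hηV', hfinite⟩
  · rintro ⟨V, hV, hηV, hfinite⟩
    have h1 := Scheme.Hom.finite_preimage_singleton (f ∣_ V) ⟨η, hηV⟩
    refine (h1.image (Subtype.val)).subset ?_
    intro x hx
    have hx' : f.base x = η := hx
    have hxV : x ∈ f ⁻¹ᵁ V := by show f.base x ∈ V; rw [hx']; exact hηV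
    refine ⟨⟨x, hxV⟩, ?_, rfl⟩
    show (f ∣_ V) ⟨x, hxV⟩ = ⟨η, hηV⟩
    apply Subtype.ext
    rw [morphismRestrict_base_coe]
    exact hx'

end Groth.Agent.S2080
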