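import Groth.Statements.S2081
import Mathlib
import Groth.Agent.Lib.Helper93.GenFinite3

set_option autoImplicit false
universe u
open CategoryTheory AlgebraicGeometry
open Mor

namespace Groth.Agent.S2081

/-- Let `f : X → Y` be locally of finite type and quasi-compact. Suppose `X` and `Y` have finitely many
irreducible components and that a point of `X` is a generic point of an irreducible component
exactly when its image is one in `Y`. Then `f⁻¹(V) → V` is finite for some dense open `V ⊆ Y`. -/
theorem result {X Y : Scheme.{u}} (f : X ⟶ Y) [LocallyOfFiniteType f]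
    [QuasiCompact f] (hX : (irreducibleComponents (X : Type u)).Finite) (hY : (irreducibleComponents (Y : Type u)).Finite)
    (hgen : ∀ x : X, closure {x} ∈ irreducibleComponents (X : Type u) ↔
      closure {f.base x} ∈ irreducibleComponents (Y : Type u)) :
    ∃ V : Y.Opens, Dense (V : Set Y) ∧ IsFinite (f ∣_ V) := by
  have hex : ∀ i : {η : Y // closure {η} ∈ irreducibleComponents (Y : Type u)},
      ∃ V : Y.Opens, i.1 ∈ V ∧ IsFinite (f ∣_ V) := by
    rintro ⟨η, hη⟩
    obtain ⟨V₀, hV₀, hηV₀, -⟩ := exists_isAffineOpen_mem_and_subset (U := ⊤) (x := η) (by simp)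
    have hfibgen : ∀ x, f x = η → closure {x} ∈ irreducibleComponents (X : Type u) := by
      intro x hx
      rw [hgen x]
      have hx' : f.base x = η := hx
      rw [hx']; exact hη
    obtain ⟨U, hU, hUV₀, hfib⟩ :=
      Groth.Agent.Lib.Helper93.GenFinite.exists_affine_nhds_fiber_of_finite_components f hX η V₀
        hηV₀ hfibgen
    obtain ⟨V', -, hηV', -, hfinite⟩ :=
      Groth.Agent.Lib.Helper93.GenFinite.exists_affine_isFinite_morphismRestrict f hU hV₀ hUV₀ η
        hηV₀ hη hfib (fun x hx =>
          Groth.Agent.Lib.Helper93.GenFinite.quasiFiniteAt_of_fiber_generic f x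
            (fun x' hx' => hfibgen x' (hx'.trans hx)))
    exact ⟨V', hηV', hfinite⟩
  choose V hηV hVfin using hex
  refine ⟨⨆ i, V i, ?_, ?_⟩
  · intro y
    obtain ⟨ξ, hξ, hs⟩ := Groth.Agent.Lib.Helper93.Birat.exists_generic_specializes y
    have h1 : ξ ∈ ((⨆ i, V i : Y.Opens) : Set Y) := by
      show ξ ∈ (⨆ i, V i : Y.Opens)
      rw [TopologicalSpace.Opens.mem_iSup]
      exact ⟨⟨ξ, hξ⟩, hηV ⟨ξ, hξ⟩⟩
    exact hs.mem_closed isClosed_closure (subset_closure h1)
  · exact Groth.Agent.Lib.Helper93.GenFinite.morphismRestrict_of_iSup @IsFinite f V hVfin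

end Groth.Agent.S2081
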