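import Groth.Statements.S2084
import Groth.Agent.Lib.Helper67.CMCat

set_option autoImplicit false
universe u
open CAlg

namespace Groth.Agent.S2084

/-- Let `R` be a Noetherian local ring admitting a finite Cohen–Macaulay module whose support is all of
`Spec R`. Then every maximal chain of prime ideals (starting at a minimal prime, ending at the
maximal ideal, with no prime strictly between consecutive members) has length equal to the dimension
of `R`. -/
theorem result {R M : Type u} [CommRing R] [IsLocalRing R] [IsNoetherianRing R]
    [AddCommGroup M] [Module R M] [Module.Finite R M] (hM : LocCoh.IsCohenMacaulayModule R M)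
    (hsupp : Module.support R M = Set.univ) (s : LTSeries (PrimeSpectrum R))
    (hhead : s.head.asIdeal ∈ minimalPrimes R) (hlast : s.last.asIdeal = IsLocalRing.maximalIdeal R)
    (hsat : ∀ i : Fin s.length, s (Fin.castSucc i) ⋖ s (Fin.succ i)) :
    (s.length : WithBot ℕ∞) = ringKrullDim R := by
  have key : ∀ (n : ℕ) (hn : n < s.length + 1), (s ⟨n, hn⟩).asIdeal.height = (n : ℕ∞) := by
    intro n
    induction n with
    | zero =>
      intro hn
      haveI := (s ⟨0, hn⟩).2
      have : (s ⟨0, hn⟩).asIdeal.height = 0 := Ideal.height_eq_zero_iff.mpr hhead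
      simpa using this
    | succ n ih =>
      intro hn
      have hn' : n < s.length := by omega
      have h1 := hsat ⟨n, hn'⟩
      have h2 := Groth.Agent.Lib.Helper67.CMCat.height_eq_add_one_of_covBy M hM hsupp _ _ h1
      have h3 := ih (by omega)
      have e1 : (Fin.castSucc (⟨n, hn'⟩ : Fin s.length)) = ⟨n, by omega⟩ := rfl
      have e2 : (Fin.succ (⟨n, hn'⟩ : Fin s.length)) = ⟨n + 1, hn⟩ := rfl
      rw [e1, e2, h3] at h2
      rw [h2]
      push_cast
      rfl
  have hl := key s.length (by omega)
  have hl' : s.last.asIdeal.height = (s.length : ℕ∞) := hl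
  rw [hlast] at hl'
  rw [← IsLocalRing.maximalIdeal_height_eq_ringKrullDim, hl']
  rfl

end Groth.Agent.S2084
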