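import Groth.Statements.S2085
import Groth.Agent.Lib.Helper67.SuppLoc

set_option autoImplicit false
universe u
open CAlg

namespace Groth.Agent.S2085

/-- Let `M` be a finite module over a Noetherian ring `R`. Then every associated prime of `M` is minimal
in the support of `M` (no embedded primes) if and only if `M` satisfies Serre's condition `(S_1)`. -/
theorem result {R M : Type u} [CommRing R] [IsNoetherianRing R] [AddCommGroup M] [Module R M]
    [Module.Finite R M] :
    (∀ p ∈ associatedPrimes R M, p ∈ (Module.annihilator R M).minimalPrimes) ↔ LocCoh.HasSk 1 R M := by
  open Groth.Agent.Lib.Helper67 in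
  constructor
  · intro h p _
    by_cases hnt : Nontrivial (LocalizedModule p.primeCompl M)
    · by_cases hd : LocCoh.depth (Localization.AtPrime p) (LocalizedModule p.primeCompl M) = 0
      · have hass := (depth_eq_zero_iff _).mp hd
        have hass' := Module.associatedPrimes.comap_mem_associatedPrimes_of_mem_associatedPrimes_of_isLocalizedModule_of_fg
          p.primeCompl (LocalizedModule.mkLinearMap p.primeCompl M) _ hass
          ((isNoetherianRing_iff_ideal_fg R).mp inferInstance _)
        rw [show Ideal.comap (algebraMap R (Localization.AtPrime p))
          (IsLocalRing.maximalIdeal (Localization.AtPrime p)) = p from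
          Localization.AtPrime.under_maximalIdeal] at hass'
        have hmin := h p hass'
        rw [supportDim_localization_eq_zero_of_mem_minimalPrimes M p hmin, hd]
        exact min_le_right _ _
      · have h1 : (1 : ℕ∞) ≤ LocCoh.depth (Localization.AtPrime p)
            (LocalizedModule p.primeCompl M) := Order.one_le_iff_ne_zero.mpr hd
        refine le_trans (min_le_left _ _) ?_
        exact_mod_cast h1
    · rw [not_nontrivial_iff_subsingleton] at hnt
      rw [Module.supportDim_eq_bot_of_subsingleton]
      simp
  · intro h p hp
    have hpp : p.IsPrime := IsAssociatedPrime.isPrime hp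
    have hS := h p
    have hass := Module.associatedPrimes.mem_associatedPrimes_atPrime_of_mem_associatedPrimes hp
    have hd : LocCoh.depth (Localization.AtPrime p) (LocalizedModule p.primeCompl M) = 0 :=
      (depth_eq_zero_iff _).mpr hass
    rw [hd] at hS
    have hdim : Module.supportDim (Localization.AtPrime p) (LocalizedModule p.primeCompl M) ≤ 0 := by
      rcases min_le_iff.mp hS with h1 | h1
      · exfalso
        have : ((1 : ℕ∞) : WithBot ℕ∞) ≤ ((0 : ℕ∞) : WithBot ℕ∞) := by exact_mod_cast h1
        have h2 : (1 : ℕ∞) ≤ 0 := by exact_mod_cast this
        simp at h2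
      · exact_mod_cast h1
    exact mem_minimalPrimes_of_supportDim_localization_le_zero M p
      (annihilator_le_of_mem_associatedPrimes hp) hdim

end Groth.Agent.S2085
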