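import Groth.Statements.S2086
import Groth.Agent.Lib.Helper77.FlatDepth3
import Mathlib.RingTheory.LocalRing.ResidueField.Fiber

set_option autoImplicit false
universe u
open CAlg

namespace Groth.Agent.S2086

section Aux
open IsLocalRing LocCoh

open Groth.Agent.Lib.Helper77.FlatDepth Groth.Agent.Lib.Helper56

section
variable (R S : Type u) [CommRing R] [CommRing S] [Algebra R S]

/-- ring iso between the local ring of the fibre `p.Fiber S` at `q` and the fibre local ring -/
theorem nonempty_fiber_equiv (p : Ideal R) [p.IsPrime] (q : Ideal (p.Fiber S)) [q.IsPrime] :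
    Nonempty (Localization.AtPrime q ≃+*
      FibLoc R S (q.comap (Algebra.TensorProduct.includeRight : S →ₐ[R] p.Fiber S))) := by
  set r := q.comap (Algebra.TensorProduct.includeRight : S →ₐ[R] p.Fiber S) with hr
  have e1 := (Ideal.Fiber.algEquivAux₂ p q).toRingEquiv
  have hlo : r.LiesOver p := by
    have h1 : q.LiesOver p := inferInstance
    constructor
    rw [h1.over]
    ext a
    simp only [Ideal.under_def, Ideal.mem_comap, hr]
    rw [AlgHom.commutes]
  have hI : (p.map (algebraMap R S)).map (algebraMap S (Localization.AtPrime r)) =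
      (r.comap (algebraMap R S)).map (algebraMap R (Localization.AtPrime r)) := by
    rw [Ideal.map_map, ← IsScalarTower.algebraMap_eq, ← Ideal.under_def, ← hlo.over]
  exact ⟨e1.trans (Ideal.quotEquivOfEq hI)⟩

end

theorem sk_nat (k d e : ℕ) (X : Type u) [CommRing X] [IsLocalRing X]
    (hd : ringKrullDim X = d) (he : depth X X = e) :
    (min (k : WithBot ℕ∞) (ringKrullDim X) ≤ ((depth X X : ℕ∞) : WithBot ℕ∞)) ↔ min k d ≤ e := by
  rw [hd, he]
  rcases le_total k d with h | h
  · have h' : (k : WithBot ℕ∞) ≤ (d : WithBot ℕ∞) := by exact_mod_cast h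
    rw [min_eq_left h, min_eq_left h']
    norm_cast
  · have h' : (d : WithBot ℕ∞) ≤ (k : WithBot ℕ∞) := by exact_mod_cast h
    rw [min_eq_right h, min_eq_right h']
    norm_cast

section
variable (R S : Type u) [CommRing R] [CommRing S] [Algebra R S]
  [IsNoetherianRing R] [IsNoetherianRing S] [Module.Flat R S]

theorem sk_at (k : ℕ) (hR : LocCoh.HasSk k R R) (p : Ideal R) [p.IsPrime]
    (hfib : LocCoh.HasSk k (p.Fiber S) (p.Fiber S))
    (q : Ideal (p.Fiber S)) [q.IsPrime] :
    min (k : WithBot ℕ∞) (ringKrullDim (Localization.AtPrime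
      (q.comap (Algebra.TensorProduct.includeRight : S →ₐ[R] p.Fiber S)))) ≤
      ((depth (Localization.AtPrime
        (q.comap (Algebra.TensorProduct.includeRight : S →ₐ[R] p.Fiber S)))
        (Localization.AtPrime
        (q.comap (Algebra.TensorProduct.includeRight : S →ₐ[R] p.Fiber S))) : ℕ∞) : WithBot ℕ∞) := by
  set r := q.comap (Algebra.TensorProduct.includeRight : S →ₐ[R] p.Fiber S) with hr
  obtain ⟨e⟩ := nonempty_fiber_equiv R S p q
  rw [hasSk_self_iff] at hR hfib
  have h1 := hfib q
  rw [ringKrullDim_eq_of_ringEquiv e, depth_self_of_ringEquiv e] at h1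
  have h2 := hR (r.comap (algebraMap R S))
  obtain ⟨f1, f2, -⟩ := loc_formulas R S r
  have hNA : IsNoetherianRing (Localization.AtPrime (r.comap (algebraMap R S))) :=
    IsLocalization.isNoetherianRing (r.comap (algebraMap R S)).primeCompl _ inferInstance
  have hNB : IsNoetherianRing (Localization.AtPrime r) :=
    IsLocalization.isNoetherianRing r.primeCompl _ inferInstance
  obtain ⟨dA, hdA⟩ := exists_nat_dim (Localization.AtPrime (r.comap (algebraMap R S)))
  obtain ⟨dB, hdB⟩ := exists_nat_dim (Localization.AtPrime r)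
  obtain ⟨dF, hdF⟩ := exists_nat_dim (FibLoc R S r)
  obtain ⟨eA, heA⟩ := exists_nat_depth (Localization.AtPrime (r.comap (algebraMap R S)))
  obtain ⟨eB, heB⟩ := exists_nat_depth (Localization.AtPrime r)
  obtain ⟨eF, heF⟩ := exists_nat_depth (FibLoc R S r)
  rw [sk_nat k dF eF _ hdF heF] at h1
  rw [sk_nat k dA eA _ hdA heA] at h2
  rw [sk_nat k dB eB _ hdB heB]
  rw [hdA, hdB, hdF] at f2
  rw [heA, heB, heF] at f1
  have f1' : eB = eA + eF := by exact_mod_cast f1
  have f2' : dB = dA + dF := by exact_mod_cast f2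
  omega

theorem main (k : ℕ) (hR : LocCoh.HasSk k R R)
    (hfib : ∀ (p : Ideal R) [p.IsPrime], LocCoh.HasSk k (p.Fiber S) (p.Fiber S)) :
    LocCoh.HasSk k S S := by
  rw [hasSk_self_iff]
  intro r _
  set p := r.comap (algebraMap R S) with hp
  have hmem : r ∈ p.primesOver S := ⟨inferInstance, ⟨rfl⟩⟩
  set q := PrimeSpectrum.primesOverOrderIsoFiber R S p ⟨r, hmem⟩ with hq
  have hqr : q.1.comap (Algebra.TensorProduct.includeRight : S →ₐ[R] p.Fiber S) = r := by
    have := PrimeSpectrum.coe_primesOverOrderIsoFiber_symm_apply (R := R) (S := S) p q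
    rw [hq, OrderIso.symm_apply_apply] at this
    exact this.symm
  have hq' : q.1.IsPrime := q.2
  have h := sk_at R S k hR p (hfib p) q.1
  have key : ∀ (r' : Ideal S) [r'.IsPrime], r' = r →
      min (k : WithBot ℕ∞) (ringKrullDim (Localization.AtPrime r')) ≤
        ((depth (Localization.AtPrime r') (Localization.AtPrime r') : ℕ∞) : WithBot ℕ∞) →
      min (k : WithBot ℕ∞) (ringKrullDim (Localization.AtPrime r)) ≤
        ((depth (Localization.AtPrime r) (Localization.AtPrime r) : ℕ∞) : WithBot ℕ∞) := by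
    intro r' _ hr' hh
    subst hr'
    exact hh
  exact key _ hqr h

end


end Aux

/-- Let `R → S` be a flat map of Noetherian rings such that `R` and all fibre rings `S ⊗ κ(𝔭)` satisfy
Serre's condition `(S_k)`. Then `S` satisfies `(S_k)`. -/
theorem result {R S : Type u} [CommRing R] [CommRing S] [IsNoetherianRing R] [IsNoetherianRing S]
    [Algebra R S] [Module.Flat R S] (k : ℕ) (hR : LocCoh.HasSk k R R)
    (hfib : ∀ (p : Ideal R) [p.IsPrime], LocCoh.HasSk k (p.Fiber S) (p.Fiber S)) :
    LocCoh.HasSk k S S := by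
  exact main R S k hR hfib

end Groth.Agent.S2086
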