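import Groth.Statements.S2088
import Groth.Agent.Lib.Helper39.ResExtAlg
import Groth.Agent.Lib.Helper39.ResExtTrans
-- import your own Groth.Agent.* helpers here

set_option autoImplicit false
universe u
open CAlg

namespace Groth.Agent.S2088

/-- Let `(R, 𝔪, k)` be a local ring and `K/k` a field extension. Then there is a flat local homomorphism
of local rings `R → R'` with `𝔪R' = 𝔪_{R'}` whose residue field is isomorphic to `K` over `k`. -/
theorem result {R K : Type u} [CommRing R] [IsLocalRing R] [Field K]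
    [Algebra (IsLocalRing.ResidueField R) K] :
    ∃ (R' : Type u) (_ : CommRing R') (_ : IsLocalRing R') (_ : Algebra R R') (_ : IsLocalHom (algebraMap R R')),
      Module.Flat R R' ∧ (IsLocalRing.maximalIdeal R).map (algebraMap R R') = IsLocalRing.maximalIdeal R' ∧
      Nonempty (IsLocalRing.ResidueField R' ≃ₐ[IsLocalRing.ResidueField R] K) := by
  classical
  set ι : R →+* K := (algebraMap (IsLocalRing.ResidueField R) K).comp (IsLocalRing.residue R) with hιdef
  have hι : RingHom.ker ι = IsLocalRing.maximalIdeal R := by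
    ext a
    rw [RingHom.mem_ker, hιdef, RingHom.comp_apply,
      map_eq_zero_iff _ (algebraMap (IsLocalRing.ResidueField R) K).injective,
      IsLocalRing.residue_eq_zero_iff]
  obtain ⟨σ, φ₁, hcomp₁, hker₁, halg₁⟩ := Groth.Agent.Lib.Helper39.ResExt.exists_trans ι hι
  obtain ⟨B, hB1, hB2, hB3, φ, hflat, -, hφc, hsurj, hker⟩ :=
    Groth.Agent.Lib.Helper39.ResExt.exists_alg hker₁ halg₁
  letI : Algebra R B := ((algebraMap (Groth.Agent.Lib.Helper39.ResExt.R1 R σ) B).comp
    (algebraMap R (Groth.Agent.Lib.Helper39.ResExt.R1 R σ))).toAlgebra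
  haveI : IsScalarTower R (Groth.Agent.Lib.Helper39.ResExt.R1 R σ) B :=
    IsScalarTower.of_algebraMap_eq fun _ => rfl
  have hφR : ∀ r : R, φ (algebraMap R B r) = ι r := by
    intro r
    have h1 : algebraMap R B r = algebraMap (Groth.Agent.Lib.Helper39.ResExt.R1 R σ) B
      (algebraMap R (Groth.Agent.Lib.Helper39.ResExt.R1 R σ) r) := rfl
    rw [h1, ← RingHom.comp_apply, hφc, ← RingHom.comp_apply, hcomp₁]
  have hloc : IsLocalHom (algebraMap R B) := by
    constructor
    intro a ha
    apply Groth.Agent.Lib.Helper39.ResExt.isUnit_of_map_ne_zero ι hι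
    rw [← hφR]
    exact (ha.map φ).ne_zero
  have hmaxB : RingHom.ker φ = IsLocalRing.maximalIdeal B :=
    IsLocalRing.eq_maximalIdeal (RingHom.ker_isMaximal_of_surjective φ hsurj)
  refine ⟨B, hB1, hB3, inferInstance, hloc, ?_, ?_, ?_⟩
  · exact Module.Flat.trans R (Groth.Agent.Lib.Helper39.ResExt.R1 R σ) B
  · rw [← hmaxB, hker, Groth.Agent.Lib.Helper39.ResExt.R1_max, Ideal.map_map]
    rfl
  · let e₀ : IsLocalRing.ResidueField B ≃+* K :=
      (Ideal.quotEquivOfEq hmaxB.symm).trans (RingHom.quotientKerEquivOfSurjective hsurj)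
    have he₀ : ∀ b : B, e₀ (IsLocalRing.residue B b) = φ b := fun b => rfl
    refine ⟨AlgEquiv.ofRingEquiv (f := e₀) ?_⟩
    intro c
    obtain ⟨r, rfl⟩ := IsLocalRing.residue_surjective c
    rw [IsLocalRing.ResidueField.algebraMap_residue, he₀, hφR]
    rfl

end Groth.Agent.S2088
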