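import Groth.Statements.S2090
import Mathlib
import Groth.Agent.Lib.Helper64.HartogsCore
import Groth.Agent.Lib.Helper64.HartogsDepth

set_option autoImplicit false
universe u
open CAlg

namespace Groth.Agent.S2090


/-- Let `R` be Noetherian and `φ : M → N` a map of `R`-modules with `M` finite. Suppose that for every
prime `𝔭` either `φ_𝔭` is bijective, or `M_𝔭` has depth at least two and `𝔭` is not an associated
prime of `N`. Then `φ` is bijective. -/
theorem result {R M N : Type u} [CommRing R] [IsNoetherianRing R] [AddCommGroup M]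
    [Module R M] [Module.Finite R M] [AddCommGroup N] [Module R N] (φ : M →ₗ[R] N)
    (h : ∀ (p : Ideal R) [p.IsPrime],
      Function.Bijective (LocalizedModule.map p.primeCompl φ) ∨
        (2 ≤ LocCoh.depth (Localization.AtPrime p) (LocalizedModule p.primeCompl M) ∧
          p ∉ associatedPrimes R N)) :
    Function.Bijective φ := by
  classical
  have hpair : ∀ (p : Ideal R) [p.IsPrime],
      2 ≤ LocCoh.depth (Localization.AtPrime p) (LocalizedModule p.primeCompl M) →
      ∃ a ∈ p, ∃ b ∈ p,
        (∀ m : M, a • m = 0 → ∃ e, e ∉ p ∧ e • m = 0) ∧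
        (∀ m1 m2 : M, b • m1 = a • m2 → ∃ c, c ∉ p ∧ ∃ m' : M, c • m1 = a • m') := by
    intro p _ hd
    exact Groth.Agent.Lib.Helper64.HartogsDepth.exists_pair_of_isLocalizedModule p
      (Rp := Localization.AtPrime p) (LocalizedModule.mkLinearMap p.primeCompl M)
      (Groth.Agent.Lib.Helper64.HartogsDepth.exists_pair_of_two_le_depth hd)
  have hinj : Function.Injective φ := by
    apply Groth.Agent.Lib.Helper64.HartogsCore.injective_of_forall_prime
    intro p hp
    rcases h p with hb | ⟨hd, -⟩
    · left
      intro m hm
      have h0 : LocalizedModule.map p.primeCompl φ (LocalizedModule.mk m 1) = 0 := by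
        rw [LocalizedModule.map_mk, hm, LocalizedModule.zero_mk]
      have h1 : (LocalizedModule.mk m 1 : LocalizedModule p.primeCompl M) = 0 :=
        hb.1 (by rw [h0, map_zero])
      rw [← LocalizedModule.zero_mk (1 : p.primeCompl), LocalizedModule.mk_eq] at h1
      obtain ⟨e, he⟩ := h1
      refine ⟨e.1, e.2, ?_⟩
      have he' : e • (1 : p.primeCompl) • m = e • (1 : p.primeCompl) • (0 : M) := he
      rw [one_smul, one_smul, smul_zero] at he'
      exact he'
    · right
      obtain ⟨a, haP, -, -, h1, -⟩ := hpair p hd
      exact ⟨a, haP, h1⟩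
  refine ⟨hinj, ?_⟩
  apply Groth.Agent.Lib.Helper64.HartogsCore.surjective_of_forall_prime φ hinj
  intro p hp
  rcases h p with hb | ⟨hd, hass⟩
  · left
    intro t
    obtain ⟨x, hx⟩ := hb.2 (LocalizedModule.mk t 1)
    induction x using LocalizedModule.induction_on with
    | h m s =>
      rw [LocalizedModule.map_mk, LocalizedModule.mk_eq] at hx
      obtain ⟨u, hu⟩ := hx
      refine ⟨u.1 * s.1, ?_, u.1 • m, ?_⟩
      · exact fun hmem => (hp.mem_or_mem hmem).elim u.2 s.2
      · rw [map_smul, mul_smul]
        have hu' : u • (1 : p.primeCompl) • φ m = u • s • t := hu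
        rw [one_smul] at hu'
        exact hu'
  · right
    refine ⟨?_, hpair p hd⟩
    intro t ht
    by_contra hcon
    push Not at hcon
    apply hass
    rw [AssociatedPrimes.mem_iff, isAssociatedPrime_iff]
    refine ⟨hp, t, ?_⟩
    ext c
    rw [Submodule.mem_colon_singleton, Submodule.mem_bot]
    constructor
    · exact ht c
    · intro hc
      by_contra hcp
      exact hcon c hcp hc

end Groth.Agent.S2090
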