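import Groth.Statements.S2091
import Mathlib
import Groth.Agent.Lib.Helper65.RegularSmooth
-- import your own Groth.Agent.* helpers here

set_option autoImplicit false
universe u
open CAlg

namespace Groth.Agent.S2091

open IsLocalRing Algebra TensorProduct

theorem essFiniteType_residueField (k T : Type*) [CommRing k] [CommRing T] [Algebra k T]
    [IsLocalRing T] [Algebra.EssFiniteType k T] : Algebra.EssFiniteType k (ResidueField T) := by
  have : Algebra.FiniteType T (ResidueField T) :=
    .of_surjective (Algebra.ofId T _) residue_surjective
  exact Algebra.EssFiniteType.comp k T (ResidueField T)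


/-- Let `k` be a field of characteristic zero, `S` of finite type over `k` and `𝔮` a prime of `S`.
Smoothness of `S` over `k` at `𝔮` is equivalent to regularity of the local ring `S_𝔮`. -/
theorem result {k S : Type u} [Field k] [CharZero k] [CommRing S] [Algebra k S]
    [Algebra.FiniteType k S] (q : Ideal S) [q.IsPrime] :
    Algebra.IsSmoothAt k q ↔ IsRegularLocalRing (Localization.AtPrime q) := by
  constructor
  · intro h
    have hsm : Algebra.FormallySmooth k (Localization.AtPrime q) := h
    exact Groth.Agent.Lib.Helper65.RegularSmooth.isRegularLocalRing_of_formallySmooth k
      (Localization.AtPrime q)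
  · intro h
    have := essFiniteType_residueField k (Localization.AtPrime q)
    have : Algebra.FormallySmooth k (ResidueField (Localization.AtPrime q)) :=
      Algebra.FormallySmooth.of_perfectField
    exact Groth.Agent.Lib.Helper65.RegularSmooth.formallySmooth_of_isRegularLocalRing k
      (Localization.AtPrime q)


end Groth.Agent.S2091
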