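import Groth.Statements.S2093
import Mathlib
import Groth.Agent.S0543
import Groth.Agent.Lib.Helper52.FlatReduced
import Groth.Agent.Lib.Helper52.FlatDVR
import Groth.Agent.Lib.Helper56.CplQuot

set_option autoImplicit false
universe u
open CAlg

namespace Groth.Agent.S2093

open IsLocalRing in
/-- A regular local domain, not a field, of dimension at most one is a DVR. -/
theorem isDVR_of_regular {S : Type u} [CommRing S] [IsDomain S] [IsRegularLocalRing S]
    (hdim : ringKrullDim S ≤ 1) (hnf : maximalIdeal S ≠ ⊥) :
    IsDiscreteValuationRing S := by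
  have hfg : (maximalIdeal S).FG := Ideal.fg_of_isNoetherianRing _
  have hsr : ((maximalIdeal S).spanFinrank : WithBot ℕ∞) ≤ 1 := by
    rw [IsRegularLocalRing.spanFinrank_maximalIdeal]; exact hdim
  have hsr' : (maximalIdeal S).spanFinrank ≤ 1 := by exact_mod_cast hsr
  have hgen := Submodule.FG.generators_ncard hfg
  have hspan := Submodule.span_generators (maximalIdeal S)
  have hfin : (Submodule.generators (maximalIdeal S)).Finite := Submodule.FG.finite_generators hfg
  have hcard : (Submodule.generators (maximalIdeal S)).ncard ≤ 1 := by rw [hgen]; exact hsr'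
  have hprinc : ∃ g : S, maximalIdeal S = Ideal.span {g} := by
    rcases Nat.le_one_iff_eq_zero_or_eq_one.mp hcard with h0 | h1
    · rw [Set.ncard_eq_zero hfin] at h0
      exfalso
      apply hnf
      rw [← hspan, h0]
      exact Submodule.span_empty
    · rw [Set.ncard_eq_one] at h1
      obtain ⟨g, hg⟩ := h1
      exact ⟨g, by rw [← hspan, hg]⟩
  obtain ⟨g, hg⟩ := hprinc
  have hg0 : g ≠ 0 := by
    intro h0
    apply hnf
    rw [hg, h0, Ideal.span_singleton_eq_bot]
  obtain ⟨_, hd⟩ := Groth.Agent.Lib.Helper52.FlatDVR.isDVR_of_maximalIdeal_eq_span g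
    (mem_nonZeroDivisors_of_ne_zero hg0) hg
  exact hd


/-- Let `(R, 𝔪)` be a Noetherian local domain and `x ∈ 𝔪` nonzero such that `R/xR` has no embedded
associated primes, and for every associated prime `𝔭` of `R/xR` the local ring `R_𝔭` is regular and
the completion of `R/𝔭` is reduced. Then the completion of `R` is reduced. -/
theorem result {R : Type u} [CommRing R] [IsDomain R] [IsLocalRing R]
    [IsNoetherianRing R] (x : R) (hx : x ≠ 0) (hxm : x ∈ IsLocalRing.maximalIdeal R)
    (hemb : ∀ p ∈ associatedPrimes R (R ⧸ Ideal.span {x}), p ∈ (Ideal.span {x}).minimalPrimes)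
    (hreg : ∀ p ∈ associatedPrimes R (R ⧸ Ideal.span {x}), ∀ (_ : p.IsPrime),
      IsRegularLocalRing (Localization.AtPrime p) ∧
        IsReduced (AdicCompletion ((IsLocalRing.maximalIdeal R).map (Ideal.Quotient.mk p)) (R ⧸ p))) :
    IsReduced (AdicCompletion (IsLocalRing.maximalIdeal R) R) := by
  have hN : IsNoetherianRing (AdicCompletion (IsLocalRing.maximalIdeal R) R) :=
    Groth.Agent.S0543.result R _
  have htB : algebraMap R (AdicCompletion (IsLocalRing.maximalIdeal R) R) x ∈
      IsLocalRing.maximalIdeal (AdicCompletion (IsLocalRing.maximalIdeal R) R) := by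
    rw [AdicCompletion.maximalIdeal_eq_map]
    exact Ideal.mem_map_of_mem _ hxm
  refine Groth.Agent.Lib.Helper52.FlatReduced.isReduced_of_flat
    (B := AdicCompletion (IsLocalRing.maximalIdeal R) R) x (mem_nonZeroDivisors_of_ne_zero hx) htB ?_
  intro q hq
  have hq' := hemb q hq
  have hqp : q.IsPrime := hq'.1.1
  obtain ⟨hregq, hredq⟩ := hreg q hq hqp
  have hdom : IsDomain (Localization.AtPrime q) := inferInstance
  have hdim : ringKrullDim (Localization.AtPrime q) ≤ 1 := by
    rw [IsLocalization.AtPrime.ringKrullDim_eq_height q (Localization.AtPrime q)]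
    have := Ideal.height_le_one_of_isPrincipal_of_mem_minimalPrimes (Ideal.span {x}) q hq'
    exact_mod_cast this
  have hnf : IsLocalRing.maximalIdeal (Localization.AtPrime q) ≠ ⊥ := by
    intro hbot
    have hxq : x ∈ q := hq'.1.2 (Ideal.mem_span_singleton_self x)
    have h1 : algebraMap R (Localization.AtPrime q) x ∈
        IsLocalRing.maximalIdeal (Localization.AtPrime q) := by
      rw [← IsLocalization.AtPrime.map_eq_maximalIdeal q]
      exact Ideal.mem_map_of_mem _ hxq
    rw [hbot, Ideal.mem_bot] at h1
    have hinj : Function.Injective (algebraMap R (Localization.AtPrime q)) :=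
      IsLocalization.injective _ q.primeCompl_le_nonZeroDivisors
    exact hx (hinj (by rw [h1, map_zero]))
  refine ⟨hqp, hdom, isDVR_of_regular hdim hnf, ?_⟩
  have e : (IsLocalRing.maximalIdeal R).map (Ideal.Quotient.mk q) =
      IsLocalRing.maximalIdeal (R ⧸ q) :=
    Groth.Agent.Lib.Helper56.map_maximalIdeal_quotient R q
  rw [e] at hredq
  have hker := Groth.Agent.Lib.Helper56.ker_cplMap_quot R q
  have hsurj := Groth.Agent.Lib.Helper56.cplMap_quot_surjective R q
  have : (RingHom.ker (Groth.Agent.Lib.Helper56.cplMap R (R ⧸ q))).IsRadical :=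
    (RingHom.ker_isRadical_iff_reduced_of_surjective hsurj).mpr hredq
  rw [hker] at this
  exact this

end Groth.Agent.S2093
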