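import Groth.Statements.S2094
import Mathlib

set_option autoImplicit false
universe u
open CAlg

namespace Groth.Agent.S2094

/-- A retract of a finitely presented algebra is finitely presented. -/
lemma finitePresentation_of_retract {R B C : Type*} [CommRing R] [CommRing B] [CommRing C]
    [Algebra R B] [Algebra R C] [Algebra.FinitePresentation R B]
    (s : C →ₐ[R] B) (r : B →ₐ[R] C) (h : ∀ c, r (s c) = c) : Algebra.FinitePresentation R C := by
  classical
  have hsurj : Function.Surjective r := fun c => ⟨s c, h c⟩
  apply Algebra.FinitePresentation.of_surjective hsurj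
  obtain ⟨S, hS⟩ := (Algebra.FiniteType.out : (⊤ : Subalgebra R B).FG)
  let J : Ideal B := Ideal.span ((fun b => b - s (r b)) '' (S : Set B))
  have hJ : ∀ b : B, b - s (r b) ∈ J := by
    intro b
    have hb : b ∈ Algebra.adjoin R (S : Set B) := by rw [hS]; trivial
    induction hb using Algebra.adjoin_induction with
    | mem x hx => exact Ideal.subset_span ⟨x, hx, rfl⟩
    | algebraMap a => simp
    | add x y _ _ hx hy =>
      have : x + y - s (r (x + y)) = (x - s (r x)) + (y - s (r y)) := by
        rw [map_add, map_add]; ring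
      rw [this]; exact J.add_mem hx hy
    | mul x y _ _ hx hy =>
      have : x * y - s (r (x * y)) = x * (y - s (r y)) + s (r y) * (x - s (r x)) := by
        rw [map_mul, map_mul]; ring
      rw [this]; exact J.add_mem (J.mul_mem_left _ hy) (J.mul_mem_left _ hx)
  have hker : RingHom.ker r.toRingHom = J := by
    apply le_antisymm
    · intro b hb
      have hb' : r b = 0 := hb
      have := hJ b
      rwa [hb', map_zero, sub_zero] at this
    · rw [Ideal.span_le]
      rintro _ ⟨b, _, rfl⟩
      change r (b - s (r b)) = 0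
      rw [map_sub, h, sub_self]
  rw [hker]
  exact ⟨S.image (fun b => b - s (r b)), by rw [Finset.coe_image]⟩

lemma formallySmooth_of_projective {A M : Type u} [CommRing A] [AddCommGroup M] [Module A M]
    [Module.Projective A M] : Algebra.FormallySmooth A (SymmetricAlgebra A M) := by
  apply Algebra.FormallySmooth.of_comp_surjective
  intro B _ _ I _ g
  obtain ⟨l, hl⟩ := Module.projective_lifting_property (Ideal.Quotient.mkₐ A I).toLinearMap
    (g.toLinearMap ∘ₗ SymmetricAlgebra.ι A M) Ideal.Quotient.mk_surjective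
  refine ⟨SymmetricAlgebra.lift l, ?_⟩
  apply SymmetricAlgebra.algHom_ext
  ext m
  have := LinearMap.congr_fun hl m
  simpa [SymmetricAlgebra.lift_ι_apply] using this

lemma finitePresentation_of_finite_projective {A M : Type u} [CommRing A] [AddCommGroup M]
    [Module A M] [Module.Finite A M] [Module.Projective A M] :
    Algebra.FinitePresentation A (SymmetricAlgebra A M) := by
  obtain ⟨n, r, hr⟩ := Module.Finite.exists_fin' A M
  obtain ⟨i, hi⟩ := Module.projective_lifting_property r LinearMap.id hr
  have : Algebra.FinitePresentation A (SymmetricAlgebra A (Fin n → A)) :=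
    .equiv (SymmetricAlgebra.equivMvPolynomial (Pi.basisFun A (Fin n))).symm
  refine finitePresentation_of_retract
    (SymmetricAlgebra.lift (SymmetricAlgebra.ι A (Fin n → A) ∘ₗ i))
    (SymmetricAlgebra.lift (SymmetricAlgebra.ι A M ∘ₗ r)) ?_
  intro c
  have : (SymmetricAlgebra.lift (SymmetricAlgebra.ι A M ∘ₗ r)).comp
      (SymmetricAlgebra.lift (SymmetricAlgebra.ι A (Fin n → A) ∘ₗ i)) =
      AlgHom.id A (SymmetricAlgebra A M) := by
    apply SymmetricAlgebra.algHom_ext
    ext m
    have := LinearMap.congr_fun hi m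
    simp only [LinearMap.comp_apply, LinearMap.id_apply] at this
    simp [SymmetricAlgebra.lift_ι_apply, this]
  exact AlgHom.congr_fun this c

lemma projective_of_formallySmooth {A M : Type u} [CommRing A] [AddCommGroup M] [Module A M]
    [Algebra.FormallySmooth A (SymmetricAlgebra A M)] : Module.Projective A M := by
  apply Module.Projective.of_lifting_property''
  intro f hf
  let : Module Aᵐᵒᵖ M := Module.compHom _ ((RingHom.id A).fromOpposite mul_comm)
  have : IsCentralScalar A M := ⟨fun r m => rfl⟩
  let g : TrivSqZeroExt A (M →₀ A) →ₐ[A] TrivSqZeroExt A M := TrivSqZeroExt.map f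
  have hg : Function.Surjective g := by
    intro x
    obtain ⟨n, hn⟩ := hf x.snd
    exact ⟨(x.fst, n), TrivSqZeroExt.ext (by simp [g]) (by simp [g, hn])⟩
  have hker : IsNilpotent (RingHom.ker (g : TrivSqZeroExt A (M →₀ A) →+* TrivSqZeroExt A M)) := by
    have hII : RingHom.ker (g : TrivSqZeroExt A (M →₀ A) →+* TrivSqZeroExt A M) *
        RingHom.ker (g : TrivSqZeroExt A (M →₀ A) →+* TrivSqZeroExt A M) = ⊥ := by
      rw [eq_bot_iff, Ideal.mul_le]
      intro x hx y hy
      have hx0 : x.fst = 0 := by
        have := congrArg TrivSqZeroExt.fst (show g x = 0 from hx)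
        simpa [g] using this
      have hy0 : y.fst = 0 := by
        have := congrArg TrivSqZeroExt.fst (show g y = 0 from hy)
        simpa [g] using this
      rw [Ideal.mem_bot]
      exact TrivSqZeroExt.ext (by simp [hx0]) (by simp [hx0, hy0])
    refine ⟨1 + 1, ?_⟩
    rw [Submodule.pow_succ, Submodule.pow_one]
    exact hII
  let φ : SymmetricAlgebra A M →ₐ[A] TrivSqZeroExt A M :=
    SymmetricAlgebra.lift (TrivSqZeroExt.inrHom A M)
  let ψ := Algebra.FormallySmooth.liftOfSurjective φ g hg hker
  have hψ : g.comp ψ = φ := Algebra.FormallySmooth.comp_liftOfSurjective φ g hg hker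
  refine ⟨(TrivSqZeroExt.sndHom A (M →₀ A)) ∘ₗ ψ.toLinearMap ∘ₗ SymmetricAlgebra.ι A M, ?_⟩
  ext m
  have h1 := AlgHom.congr_fun hψ (SymmetricAlgebra.ι A M m)
  have h2 := congrArg TrivSqZeroExt.snd h1
  simpa [g, φ, SymmetricAlgebra.lift_ι_apply] using h2

lemma finite_of_finiteType {A M : Type u} [CommRing A] [AddCommGroup M] [Module A M]
    [Algebra.FiniteType A (SymmetricAlgebra A M)] : Module.Finite A M := by
  classical
  have h1 : ∀ x : SymmetricAlgebra A M, ∃ S : Finset M,
      x ∈ Algebra.adjoin A (SymmetricAlgebra.ι A M '' (S : Set M)) := by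
    intro x
    induction x using SymmetricAlgebra.induction with
    | algebraMap r => exact ⟨∅, Subalgebra.algebraMap_mem _ r⟩
    | ι m => exact ⟨{m}, Algebra.subset_adjoin ⟨m, by simp, rfl⟩⟩
    | add x y hx hy =>
      obtain ⟨S, hS⟩ := hx
      obtain ⟨T, hT⟩ := hy
      refine ⟨S ∪ T, Subalgebra.add_mem _ ?_ ?_⟩
      · exact Algebra.adjoin_mono (Set.image_mono (by simp)) hS
      · exact Algebra.adjoin_mono (Set.image_mono (by simp)) hT
    | mul x y hx hy =>
      obtain ⟨S, hS⟩ := hx
      obtain ⟨T, hT⟩ := hy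
      refine ⟨S ∪ T, Subalgebra.mul_mem _ ?_ ?_⟩
      · exact Algebra.adjoin_mono (Set.image_mono (by simp)) hS
      · exact Algebra.adjoin_mono (Set.image_mono (by simp)) hT
  obtain ⟨G, hG⟩ := (Algebra.FiniteType.out : (⊤ : Subalgebra A (SymmetricAlgebra A M)).FG)
  choose S hS using h1
  let T : Finset M := G.biUnion S
  have hT : Algebra.adjoin A (SymmetricAlgebra.ι A M '' (T : Set M)) = ⊤ := by
    rw [eq_top_iff, ← hG, Algebra.adjoin_le_iff]
    intro g hg
    exact Algebra.adjoin_mono (Set.image_mono (Finset.coe_subset.mpr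
      (Finset.subset_biUnion_of_mem S hg))) (hS g)
  let : Module Aᵐᵒᵖ M := Module.compHom _ ((RingHom.id A).fromOpposite mul_comm)
  have : IsCentralScalar A M := ⟨fun r m => rfl⟩
  let φ : SymmetricAlgebra A M →ₐ[A] TrivSqZeroExt A M :=
    SymmetricAlgebra.lift (TrivSqZeroExt.inrHom A M)
  let W : Subalgebra A (TrivSqZeroExt A M) :=
    { carrier := {x | x.snd ∈ Submodule.span A (T : Set M)}
      mul_mem' := by
        intro x y hx hy
        simp only [Set.mem_ofPred_eq, TrivSqZeroExt.snd_mul, op_smul_eq_smul] at hx hy ⊢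
        exact Submodule.add_mem _ (Submodule.smul_mem _ _ hy) (Submodule.smul_mem _ _ hx)
      add_mem' := by
        intro x y hx hy
        simp only [Set.mem_ofPred_eq, TrivSqZeroExt.snd_add] at hx hy ⊢
        exact Submodule.add_mem _ hx hy
      algebraMap_mem' := by
        intro r
        simp [TrivSqZeroExt.algebraMap_eq_inl] }
  have h2 : ∀ x, φ x ∈ W := by
    intro x
    have hx : x ∈ Algebra.adjoin A (SymmetricAlgebra.ι A M '' (T : Set M)) := by
      rw [hT]; trivial
    induction hx using Algebra.adjoin_induction with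
    | mem x hx =>
      obtain ⟨m, hm, rfl⟩ := hx
      change (φ (SymmetricAlgebra.ι A M m)).snd ∈ Submodule.span A (T : Set M)
      simp only [φ, SymmetricAlgebra.lift_ι_apply, TrivSqZeroExt.inrHom_apply,
        TrivSqZeroExt.snd_inr]
      exact Submodule.subset_span hm
    | algebraMap r => rw [AlgHom.commutes]; exact W.algebraMap_mem r
    | add x y _ _ hx hy => rw [map_add]; exact W.add_mem hx hy
    | mul x y _ _ hx hy => rw [map_mul]; exact W.mul_mem hx hy
  refine ⟨⟨T, ?_⟩⟩
  rw [eq_top_iff]
  intro m _
  have := h2 (SymmetricAlgebra.ι A M m)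
  change (φ (SymmetricAlgebra.ι A M m)).snd ∈ Submodule.span A (T : Set M) at this
  simpa only [φ, SymmetricAlgebra.lift_ι_apply, TrivSqZeroExt.inrHom_apply,
    TrivSqZeroExt.snd_inr] using this

/-- The symmetric algebra of an `A`-module is a smooth `A`-algebra exactly when the module is finite
projective. -/
theorem result {A M : Type u} [CommRing A] [AddCommGroup M] [Module A M] :
    Algebra.Smooth A (SymmetricAlgebra A M) ↔ Module.Finite A M ∧ Module.Projective A M := by
  constructor
  · intro h
    exact ⟨finite_of_finiteType, projective_of_formallySmooth⟩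
  · rintro ⟨h1, h2⟩
    exact ⟨formallySmooth_of_projective, finitePresentation_of_finite_projective⟩

end Groth.Agent.S2094
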