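import Groth.Statements.S2095
import Mathlib.RingTheory.TensorProduct.Maps
import Mathlib.RingTheory.Ideal.Quotient.Operations
import Mathlib.RingTheory.Ideal.Maps

set_option autoImplicit false
universe u
open CAlg

namespace Groth.Agent.S2095

open TensorProduct in
/-- Let `R → S` be a ring map, `𝔫 ⊆ S` an ideal and `R → R'` a ring map admitting an `R`-linear
retraction. If `R' → R' ⊗ S` is formally smooth for the adic topology of the extension of `𝔫`, then
`R → S` is formally smooth for the `𝔫`-adic topology. -/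
theorem result {R S R' : Type u} [CommRing R] [CommRing S] [Algebra R S]
    (𝔫 : Ideal S) [CommRing R'] [Algebra R R'] (ρ : R' →ₗ[R] R) (hρ : ∀ r : R, ρ (algebraMap R R' r) = r)
    (h : CAlgX.IsAdicFormallySmooth R' (R' ⊗[R] S)
      (𝔫.map (Algebra.TensorProduct.includeRight : S →ₐ[R] R' ⊗[R] S))) :
    CAlgX.IsAdicFormallySmooth R S 𝔫 := by
  intro A _ _ J hJ ψ ⟨k, hk⟩
  -- base change of the test data
  let A' := R' ⊗[R] A
  let inc : A →ₐ[R] A' := Algebra.TensorProduct.includeRight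
  let J' : Ideal A' := J.map inc
  have hJ' : J' ^ 2 = ⊥ := by
    show (J.map inc) ^ 2 = ⊥
    rw [← Ideal.map_pow, hJ, Ideal.map_bot]
  have hJle : J ≤ Ideal.comap inc J' := Ideal.le_comap_map
  let q : A ⧸ J →ₐ[R] A' ⧸ J' := Ideal.quotientMapₐ J' inc hJle
  let ψ₀ : S →ₐ[R] A' ⧸ J' := q.comp ψ
  let ψ' : R' ⊗[R] S →ₐ[R'] A' ⧸ J' :=
    Algebra.TensorProduct.lift (Algebra.ofId R' (A' ⧸ J')) ψ₀ (fun _ _ => Commute.all _ _)
  have hψ'one : ∀ s : S, ψ' (1 ⊗ₜ[R] s) = ψ₀ s := by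
    intro s
    show Algebra.TensorProduct.lift _ _ _ (1 ⊗ₜ[R] s) = _
    rw [Algebra.TensorProduct.lift_tmul, map_one, one_mul]
  have hkill : ∃ k : ℕ, ∀ x ∈ (𝔫.map (Algebra.TensorProduct.includeRight : S →ₐ[R] R' ⊗[R] S)) ^ k,
      ψ' x = 0 := by
    refine ⟨k, fun x hx => ?_⟩
    rw [← Ideal.map_pow] at hx
    have hle : (𝔫 ^ k).map (Algebra.TensorProduct.includeRight : S →ₐ[R] R' ⊗[R] S) ≤
        RingHom.ker ψ'.toRingHom := by
      rw [Ideal.map_le_iff_le_comap]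
      intro y hy
      rw [Ideal.mem_comap, RingHom.mem_ker]
      show ψ' ((1 : R') ⊗ₜ[R] y) = 0
      rw [hψ'one]
      show q (ψ y) = 0
      rw [hk y hy, map_zero]
    exact (RingHom.mem_ker).mp (hle hx)
  obtain ⟨χ', hχ'⟩ := h A' J' hJ' ψ' hkill
  -- the retraction `ρ ⊗ id : R' ⊗ A → A`
  let τ : A' →ₗ[R] A := TensorProduct.lift ((LinearMap.lsmul R A).comp ρ)
  have hτ_tmul : ∀ (r' : R') (a : A), τ (r' ⊗ₜ[R] a) = ρ r' • a := fun r' a => by
    show TensorProduct.lift ((LinearMap.lsmul R A).comp ρ) (r' ⊗ₜ[R] a) = ρ r' • a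
    rw [TensorProduct.lift.tmul]
    rfl
  have hρ1 : ρ 1 = 1 := by
    have := hρ 1
    rwa [map_one] at this
  have hτ_inc : ∀ a : A, τ (inc a) = a := fun a => by
    show τ ((1 : R') ⊗ₜ[R] a) = a
    rw [hτ_tmul, hρ1, one_smul]
  have hτ_lin : ∀ (a : A) (x : A'), τ (inc a * x) = a * τ x := by
    intro a x
    induction x using TensorProduct.induction_on with
    | zero => simp
    | tmul r' b =>
      show τ (((1 : R') ⊗ₜ[R] a) * (r' ⊗ₜ[R] b)) = a * τ (r' ⊗ₜ[R] b)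
      rw [Algebra.TensorProduct.tmul_mul_tmul, one_mul, hτ_tmul, hτ_tmul, mul_smul_comm]
    | add x y hx hy => rw [mul_add, map_add, hx, hy, map_add, mul_add]
  have hτJ : ∀ z ∈ J', τ z ∈ J := by
    intro z hz
    have key : ∀ y : A', τ (y * z) ∈ J := by
      have hz' : z ∈ Ideal.span (inc '' (J : Set A)) := hz
      refine Submodule.span_induction (p := fun z _ => ∀ y : A', τ (y * z) ∈ J)
        ?_ ?_ ?_ ?_ hz'
      · rintro _ ⟨j, hj, rfl⟩ y
        rw [mul_comm, hτ_lin]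
        exact J.mul_mem_right _ hj
      · intro y
        simp
      · intro x y _ _ hx hy w
        rw [mul_add, map_add]
        exact J.add_mem (hx w) (hy w)
      · intro a x _ hx w
        rw [smul_eq_mul, ← mul_assoc]
        exact hx (w * a)
    simpa using key 1
  -- key decomposition
  have hdecomp : ∀ (s : S) (a : A), Ideal.Quotient.mk J a = ψ s →
      χ' ((1 : R') ⊗ₜ[R] s) - inc a ∈ J' := by
    intro s a ha
    rw [← Ideal.Quotient.eq]
    have h1 : Ideal.Quotient.mk J' (χ' ((1 : R') ⊗ₜ[R] s)) = ψ' ((1 : R') ⊗ₜ[R] s) := by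
      rw [← hχ']
      rfl
    rw [h1, hψ'one]
    show q (ψ s) = _
    rw [← ha]
    rfl
  let Tlin : S →ₗ[R] A :=
    τ ∘ₗ (χ'.toLinearMap.restrictScalars R) ∘ₗ (TensorProduct.mk R R' S 1)
  have hT : ∀ s : S, Tlin s = τ (χ' ((1 : R') ⊗ₜ[R] s)) := fun s => rfl
  have hTval : ∀ (s : S) (a : A), Ideal.Quotient.mk J a = ψ s →
      ∃ j ∈ J', χ' ((1 : R') ⊗ₜ[R] s) = inc a + j ∧ Tlin s = a + τ j := by
    intro s a ha
    refine ⟨χ' ((1 : R') ⊗ₜ[R] s) - inc a, hdecomp s a ha, by ring, ?_⟩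
    rw [hT, map_sub, hτ_inc]
    ring
  have hmul0 : ∀ x ∈ J, ∀ y ∈ J, x * y = 0 := by
    intro x hx y hy
    have : x * y ∈ J ^ 2 := by
      rw [pow_two]
      exact Ideal.mul_mem_mul hx hy
    rwa [hJ, Ideal.mem_bot] at this
  have hmul0' : ∀ x ∈ J', ∀ y ∈ J', x * y = 0 := by
    intro x hx y hy
    have : x * y ∈ J' ^ 2 := by
      rw [pow_two]
      exact Ideal.mul_mem_mul hx hy
    rwa [hJ', Ideal.mem_bot] at this
  have hTone : Tlin 1 = 1 := by
    rw [hT]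
    have : ((1 : R') ⊗ₜ[R] (1 : S)) = (1 : R' ⊗[R] S) := rfl
    rw [this, map_one]
    exact hτ_inc 1
  have hTmul : ∀ s t : S, Tlin (s * t) = Tlin s * Tlin t := by
    intro s t
    obtain ⟨a, ha⟩ := Ideal.Quotient.mk_surjective (ψ s)
    obtain ⟨b, hb⟩ := Ideal.Quotient.mk_surjective (ψ t)
    obtain ⟨j, hj, hs1, hs2⟩ := hTval s a ha
    obtain ⟨j', hj', ht1, ht2⟩ := hTval t b hb
    rw [hs2, ht2, hT]
    have : ((1 : R') ⊗ₜ[R] (s * t)) = ((1 : R') ⊗ₜ[R] s) * ((1 : R') ⊗ₜ[R] t) := by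
      rw [Algebra.TensorProduct.tmul_mul_tmul, one_mul]
    rw [this, map_mul, hs1, ht1]
    have e1 : (inc a + j) * (inc b + j') = inc (a * b) + inc a * j' + inc b * j + j * j' := by
      rw [map_mul]
      ring
    rw [e1, hmul0' j hj j' hj', add_zero, map_add, map_add, hτ_inc, hτ_lin, hτ_lin]
    have e2 : τ j * τ j' = 0 := hmul0 _ (hτJ j hj) _ (hτJ j' hj')
    calc a * b + a * τ j' + b * τ j = a * b + a * τ j' + b * τ j + τ j * τ j' := by
          rw [e2, add_zero]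
      _ = (a + τ j) * (b + τ j') := by ring
  refine ⟨AlgHom.ofLinearMap Tlin hTone hTmul, ?_⟩
  ext s
  obtain ⟨a, ha⟩ := Ideal.Quotient.mk_surjective (ψ s)
  obtain ⟨j, hj, _, hs2⟩ := hTval s a ha
  show Ideal.Quotient.mk J (Tlin s) = ψ s
  rw [hs2, map_add, ha, Ideal.Quotient.eq_zero_iff_mem.mpr (hτJ j hj), add_zero]

end Groth.Agent.S2095
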