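import Groth.Statements.S2096
import Groth.Agent.Lib.Helper87.IndEtaleFibre
import Groth.Agent.S0733

set_option autoImplicit false
universe u
open CAlg

namespace Groth.Agent.S2096

/-- Let `B` be a Noetherian ind-étale `A`-algebra (a filtered colimit of étale algebras) and `𝔭` a prime
of `A`. Then only finitely many primes of `B` lie over `𝔭`, the fibre ring `B ⊗ κ(𝔭)` is reduced of
dimension zero, and each residue field extension `κ(𝔮)/κ(𝔭)` is separable algebraic. -/
theorem result {A B : Type u} [CommRing A] [CommRing B] [Algebra A B] (hB : EtPBC.IsIndEtale A B)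
    [IsNoetherianRing B] (p : Ideal A) [p.IsPrime] :
    {q : PrimeSpectrum B | q.asIdeal.LiesOver p}.Finite ∧ IsReduced (p.Fiber B) ∧ ringKrullDim (p.Fiber B) ≤ 0 ∧
      ∀ (q : Ideal B) [q.IsPrime] [q.LiesOver p],
        @Algebra.IsSeparable p.ResidueField q.ResidueField _ _
          (Ideal.ResidueField.mapₐ p q (Algebra.ofId A B) (q.over_def p)).toRingHom.toAlgebra := by
  classical
  have hB' : Groth.Agent.Lib.Helper87.IndEt.HasPres A B := hB
  have hF : Groth.Agent.Lib.Helper87.IndEt.HasPres p.ResidueField (p.Fiber B) :=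
    Groth.Agent.S0733.result A B p.ResidueField hB
  have h1 := hF.coveredByEtale
  have h2 := hF.killsRelations
  have hred : IsReduced (p.Fiber B) :=
    Groth.Agent.Lib.Helper87.IndEtFibre.isReduced_of_field h1 h2
  have hdim : Ring.KrullDimLE 0 (p.Fiber B) :=
    Groth.Agent.Lib.Helper87.IndEtFibre.krullDimLE_zero_of_field h1
  refine ⟨?_, hred, Ring.krullDimLE_iff.mp hdim, ?_⟩
  · -- finiteness of the set of primes over `p`
    have hN' : IsNoetherianRing (TensorProduct A B p.ResidueField) :=
      Algebra.EssFiniteType.isNoetherianRing B _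
    have hN : IsNoetherianRing (p.Fiber B) :=
      isNoetherianRing_of_ringEquiv _
        (Algebra.TensorProduct.comm A B p.ResidueField).toRingEquiv
    have hArt : IsArtinianRing (p.Fiber B) :=
      isArtinianRing_iff_isNoetherianRing_krullDimLE_zero.mpr ⟨hN, hdim⟩
    have hfin : Finite (p.primesOver B) :=
      Finite.of_equiv _ (PrimeSpectrum.primesOverOrderIsoFiber A B p).symm.toEquiv
    rw [← Set.finite_coe_iff]
    let g : {q : PrimeSpectrum B | q.asIdeal.LiesOver p} → p.primesOver B :=
      fun q => ⟨q.1.asIdeal, q.1.isPrime, q.2⟩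
    refine Finite.of_injective g ?_
    intro q₁ q₂ h
    apply Subtype.ext
    apply PrimeSpectrum.ext
    exact congrArg (fun t : p.primesOver B => (t : Ideal B)) h
  · intro q _ _
    letI : Algebra p.ResidueField q.ResidueField :=
      (Ideal.ResidueField.mapₐ p q (Algebra.ofId A B) (q.over_def p)).toRingHom.toAlgebra
    constructor
    intro x
    obtain ⟨P, hP, hPx⟩ := Groth.Agent.Lib.Helper87.IndEtFibre.exists_separable
      hB'.coveredByEtale p q (q.over_def p) x
    have hax : Polynomial.aeval x P = 0 := by
      rw [Polynomial.aeval_def]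
      exact hPx
    exact hP.of_dvd (minpoly.dvd _ x hax)

end Groth.Agent.S2096
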