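import Groth.Statements.S2097
import Mathlib

set_option autoImplicit false
universe u
open CAlg

namespace Groth.Agent.S2097

/-- Let `R → S` be smooth, `A` an `R`-algebra and `I ⊆ A` an ideal all of whose elements are nilpotent.
Every `R`-algebra map `S → A/I` lifts to an `R`-algebra map `S → A`. -/
theorem result {R S A : Type u} [CommRing R] [CommRing S] [Algebra R S] [Algebra.Smooth R S]
    [CommRing A] [Algebra R A] (I : Ideal A) (hI : ∀ x ∈ I, IsNilpotent x) (g : S →ₐ[R] A ⧸ I) :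
    ∃ f : S →ₐ[R] A, (Ideal.Quotient.mkₐ R I).comp f = g := by
  obtain ⟨n, π, hπ, hK⟩ := (Algebra.FinitePresentation.out : ∃ n, ∃ π : MvPolynomial (Fin n) R →ₐ[R] S, _)
  choose a ha using fun i : Fin n => Ideal.Quotient.mk_surjective (g (π (MvPolynomial.X i)))
  let φ : MvPolynomial (Fin n) R →ₐ[R] A := MvPolynomial.aeval a
  have hφ : (Ideal.Quotient.mkₐ R I).comp φ = g.comp π := by
    apply MvPolynomial.algHom_ext
    intro i
    simp [φ, ha]
  let I' : Ideal A := (RingHom.ker π.toRingHom).map φ.toRingHom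
  have hI'I : I' ≤ I := by
    rw [Ideal.map_le_iff_le_comap]
    intro p hp
    rw [Ideal.mem_comap, ← Ideal.Quotient.eq_zero_iff_mem]
    have := AlgHom.congr_fun hφ p
    simp only [AlgHom.comp_apply, Ideal.Quotient.mkₐ_eq_mk] at this
    change Ideal.Quotient.mk I (φ p) = 0
    rw [this]
    have hp' : π p = 0 := hp
    rw [hp', map_zero]
  have hI'fg : I'.FG := hK.map _
  have hI'nil : IsNilpotent I' := by
    rw [hI'fg.isNilpotent_iff_le_nilradical]
    intro x hx
    exact hI x (hI'I hx)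
  have hker : ∀ p : MvPolynomial (Fin n) R, π p = 0 → ((Ideal.Quotient.mkₐ R I').comp φ) p = 0 := by
    intro p hp
    simp only [AlgHom.comp_apply, Ideal.Quotient.mkₐ_eq_mk]
    rw [Ideal.Quotient.eq_zero_iff_mem]
    exact Ideal.mem_map_of_mem _ hp
  let ψ : S →ₐ[R] A ⧸ I' := AlgHom.liftOfSurjective π hπ ((Ideal.Quotient.mkₐ R I').comp φ) (by
    intro p hp
    exact hker p hp)
  obtain ⟨f, hf⟩ := Algebra.FormallySmooth.exists_lift I' hI'nil ψ
  refine ⟨f, ?_⟩
  apply AlgHom.ext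
  intro s
  obtain ⟨p, rfl⟩ := hπ s
  have h1 : Ideal.Quotient.mk I' (f (π p)) = Ideal.Quotient.mk I' (φ p) := by
    have := AlgHom.congr_fun hf (π p)
    simp only [AlgHom.comp_apply, Ideal.Quotient.mkₐ_eq_mk] at this
    rw [this]
    simp [ψ]
  have h2 : f (π p) - φ p ∈ I := hI'I (Ideal.Quotient.eq.mp h1)
  have h3 : Ideal.Quotient.mk I (f (π p)) = Ideal.Quotient.mk I (φ p) := Ideal.Quotient.eq.mpr h2
  have h4 := AlgHom.congr_fun hφ p
  simp only [AlgHom.comp_apply, Ideal.Quotient.mkₐ_eq_mk] at h4 ⊢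
  rw [h3, h4]

end Groth.Agent.S2097
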