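import Groth.Statements.S2098
import Mathlib

set_option autoImplicit false
universe u
open CAlg

namespace Groth.Agent.S2098

lemma mem_smul_top_pi {R : Type*} [CommRing R] {N : Type*} [AddCommGroup N] [Module R N]
    {ι : Type*} [Fintype ι] [DecidableEq ι] (J : Ideal R) (x : ι → N)
    (hx : ∀ j, x j ∈ J • (⊤ : Submodule R N)) : x ∈ J • (⊤ : Submodule R (ι → N)) := by
  rw [← Finset.univ_sum_single x]
  apply Submodule.sum_mem
  intro j _
  have h1 : Pi.single j (x j) ∈ (J • (⊤ : Submodule R N)).map (LinearMap.single R (fun _ => N) j) :=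
    ⟨x j, hx j, rfl⟩
  rw [Submodule.map_smul''] at h1
  exact Submodule.smul_mono le_rfl le_top h1

lemma apply_mem_smul_top {R : Type*} [CommRing R] {P N : Type*} [AddCommGroup P] [Module R P]
    [AddCommGroup N] [Module R N] (J : Ideal R) (Y : P →ₗ[R] N)
    (hY : Y ∈ J • (⊤ : Submodule R (P →ₗ[R] N))) (p : P) : Y p ∈ J • (⊤ : Submodule R N) := by
  have h1 : Y p ∈ (J • (⊤ : Submodule R (P →ₗ[R] N))).map (LinearMap.applyₗ p) := ⟨Y, hY, rfl⟩
  rw [Submodule.map_smul''] at h1
  exact Submodule.smul_mono le_rfl le_top h1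

/-- Let `R` be Noetherian, `I` an ideal inside the Jacobson radical and `u : N → M` a map of finite
`R`-modules. If for arbitrarily large `n` the induced map `N/IⁿN → M/IⁿM` has a left inverse, then
`u` has a left inverse. -/
theorem result {R M N : Type u} [CommRing R] [IsNoetherianRing R] (I : Ideal R)
    (hI : I ≤ (⊥ : Ideal R).jacobson) [AddCommGroup M] [Module R M] [Module.Finite R M] [AddCommGroup N] [Module R N]
    [Module.Finite R N] (u : N →ₗ[R] M)
    (h : ∀ n₀ : ℕ, ∃ n, n₀ ≤ n ∧ ∃ s : (M ⧸ (I ^ n) • (⊤ : Submodule R M)) →ₗ[R] (N ⧸ (I ^ n) • (⊤ : Submodule R N)),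
      ∀ x : N, s (Submodule.Quotient.mk (u x)) = Submodule.Quotient.mk x) :
    ∃ s : M →ₗ[R] N, s.comp u = LinearMap.id := by
  classical
  obtain ⟨b, π, hπ⟩ := Module.Finite.exists_fin' R M
  have hKfg : (LinearMap.ker π).FG := IsNoetherian.noetherian _
  obtain ⟨a, r, hr⟩ := Submodule.fg_iff_exists_fin_generating_family.mp hKfg
  let ψ : ((Fin b → R) →ₗ[R] N) →ₗ[R] (Fin a → N) :=
    LinearMap.pi (fun j => LinearMap.applyₗ (r j))
  obtain ⟨c, hc⟩ := Ideal.exists_pow_inf_eq_pow_smul I (LinearMap.range ψ)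
  obtain ⟨n, hn, s, hs⟩ := h (c + 1)
  obtain ⟨X₀, hX₀⟩ := Module.projective_lifting_property
    (Submodule.mkQ ((I ^ n) • (⊤ : Submodule R N)))
    (s.comp ((Submodule.mkQ ((I ^ n) • (⊤ : Submodule R M))).comp π))
    (Submodule.mkQ_surjective _)
  have hX₀' : ∀ p, Submodule.Quotient.mk (X₀ p) = s (Submodule.Quotient.mk (π p)) :=
    fun p => LinearMap.congr_fun hX₀ p
  have hrker : ∀ j, π (r j) = 0 := by
    intro j
    have : r j ∈ LinearMap.ker π := by rw [← hr]; exact Submodule.subset_span ⟨j, rfl⟩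
    exact this
  have h1 : ψ X₀ ∈ I ^ n • (⊤ : Submodule R (Fin a → N)) := by
    apply mem_smul_top_pi
    intro j
    have : Submodule.Quotient.mk (X₀ (r j)) = (0 : N ⧸ (I ^ n) • (⊤ : Submodule R N)) := by
      rw [hX₀', hrker, Submodule.Quotient.mk_zero, map_zero]
    exact (Submodule.Quotient.mk_eq_zero _).mp this
  have h2 : ψ X₀ ∈ I ^ n • (⊤ : Submodule R (Fin a → N)) ⊓ LinearMap.range ψ := ⟨h1, X₀, rfl⟩
  rw [hc n (by omega)] at h2
  have h3 : ψ X₀ ∈ I • LinearMap.range ψ := by
    have hle : I ^ (n - c) ≤ I := Ideal.pow_le_self (by omega)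
    exact Submodule.smul_mono hle inf_le_right h2
  rw [LinearMap.range_eq_map, ← Submodule.map_smul''] at h3
  obtain ⟨Y, hY, hYψ⟩ := h3
  let k : (Fin b → R) →ₗ[R] N := X₀ - Y
  have hk : ψ k = 0 := by simp [k, hYψ]
  have hkker : LinearMap.ker π ≤ LinearMap.ker k := by
    rw [← hr, Submodule.span_le]
    rintro _ ⟨j, rfl⟩
    have := congrFun hk j
    exact this
  let k' : M →ₗ[R] N :=
    ((LinearMap.ker π).liftQ k hkker).comp (π.quotKerEquivOfSurjective hπ).symm.toLinearMap
  have hk' : ∀ p, k' (π p) = k p := by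
    intro p
    have : (π.quotKerEquivOfSurjective hπ).symm (π p) = Submodule.Quotient.mk p := by
      rw [LinearEquiv.symm_apply_eq]; rfl
    simp only [k', LinearMap.comp_apply, LinearEquiv.coe_coe, this]
    rfl
  let e : N →ₗ[R] N := k'.comp u
  have he : ∀ x, e x - x ∈ I • (⊤ : Submodule R N) := by
    intro x
    obtain ⟨p, hp⟩ := hπ (u x)
    have e1 : e x = X₀ p - Y p := by
      simp only [e, LinearMap.comp_apply, ← hp, hk', k, LinearMap.sub_apply]
    have e2 : X₀ p - x ∈ I ^ n • (⊤ : Submodule R N) := by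
      rw [← Submodule.Quotient.eq, hX₀', hp, hs]
    have e3 : X₀ p - x ∈ I • (⊤ : Submodule R N) := by
      have hle : I ^ n ≤ I := Ideal.pow_le_self (by omega)
      exact Submodule.smul_mono_left hle e2
    have e4 : Y p ∈ I • (⊤ : Submodule R N) := apply_mem_smul_top I Y hY p
    have : e x - x = (X₀ p - x) - Y p := by rw [e1]; abel
    rw [this]
    exact Submodule.sub_mem _ e3 e4
  have hsurj : Function.Surjective e := by
    rw [← LinearMap.range_eq_top, eq_top_iff]
    apply Submodule.le_of_le_smul_of_le_jacobson_bot (I := I) Module.Finite.fg_top hI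
    intro x _
    have : x = e x - (e x - x) := by abel
    rw [this]
    exact Submodule.sub_mem _ (Submodule.mem_sup_left ⟨x, rfl⟩) (Submodule.mem_sup_right (he x))
  have hbij : Function.Bijective e := OrzechProperty.bijective_of_surjective_endomorphism e hsurj
  let E : N ≃ₗ[R] N := LinearEquiv.ofBijective e hbij
  refine ⟨E.symm.toLinearMap.comp k', ?_⟩
  ext x
  simp only [LinearMap.comp_apply, LinearEquiv.coe_coe, LinearMap.id_apply]
  rw [LinearEquiv.symm_apply_eq]
  rfl

end Groth.Agent.S2098
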