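import Groth.Statements.S2099
import Groth.Agent.Lib.Helper61.FSAdicComplete
import Groth.Agent.Lib.Helper61.PSEval
import Groth.Agent.S10826
import Mathlib.RingTheory.AdicCompletion.LocalRing
import Mathlib.RingTheory.AdicCompletion.RingHom

set_option autoImplicit false
universe u
open CAlg

namespace Groth.Agent.S2099

section U

variable {R S : Type u} [CommRing R] [CommRing S] [Algebra R S]
variable (σ : S →ₐ[R] R)

/-- The projection `s ↦ s - σ s` onto the kernel of `σ`. -/
noncomputable def proj : S →ₗ[R] (RingHom.ker σ.toRingHom) where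
  toFun s := ⟨s - algebraMap R S (σ s), by
    rw [RingHom.mem_ker, map_sub]
    simp⟩
  map_add' s t := by
    apply Subtype.ext
    simp only [map_add, Submodule.coe_add]
    ring
  map_smul' r s := by
    apply Subtype.ext
    simp only [RingHom.id_apply, Submodule.coe_smul_of_tower,
      Algebra.smul_def, map_mul, AlgHom.commutes, Algebra.algebraMap_self, RingHom.id_apply]
    ring

theorem proj_mul (s t : S) :
    (RingHom.ker σ.toRingHom).toCotangent (proj σ (s * t)) =
      σ s • (RingHom.ker σ.toRingHom).toCotangent (proj σ t) +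
        σ t • (RingHom.ker σ.toRingHom).toCotangent (proj σ s) := by
  have h1 : proj σ (s * t) = (⟨(proj σ s : S) * (proj σ t : S),
      Ideal.mul_mem_left _ _ (proj σ t).2⟩ : RingHom.ker σ.toRingHom) +
      (σ s • proj σ t + σ t • proj σ s) := by
    apply Subtype.ext
    simp only [proj, LinearMap.coe_mk, AddHom.coe_mk, Submodule.coe_add,
      Submodule.coe_smul_of_tower, Algebra.smul_def, map_mul]
    ring
  rw [h1, map_add, map_add]
  have h2 : (RingHom.ker σ.toRingHom).toCotangent (⟨(proj σ s : S) * (proj σ t : S),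
      Ideal.mul_mem_left _ _ (proj σ t).2⟩ : RingHom.ker σ.toRingHom) = 0 := by
    rw [Ideal.toCotangent_eq_zero, pow_two]
    exact Ideal.mul_mem_mul (proj σ s).2 (proj σ t).2
  rw [h2, zero_add]
  congr 1

variable {d : ℕ} (e : (RingHom.ker σ.toRingHom).Cotangent ≃ₗ[R] (Fin d → R))

/-- Coordinates of the linear part of `s`. -/
noncomputable def coord : S →ₗ[R] (Fin d → R) :=
  e.toLinearMap ∘ₗ ((RingHom.ker σ.toRingHom).toCotangent.restrictScalars R) ∘ₗ proj σ

theorem coord_mul (s t : S) :
    coord σ e (s * t) = σ s • coord σ e t + σ t • coord σ e s := by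
  simp only [coord, LinearMap.comp_apply, LinearMap.restrictScalars_apply,
    LinearEquiv.coe_coe]
  rw [proj_mul, map_add, map_smul, map_smul]

theorem proj_coe (s : S) : ((proj σ s : RingHom.ker σ.toRingHom) : S) =
    s - algebraMap R S (σ s) := rfl

theorem proj_algebraMap (r : R) : proj σ (algebraMap R S r) = 0 := by
  apply Subtype.ext
  rw [proj_coe, AlgHom.commutes]
  simp

theorem coord_algebraMap (r : R) : coord σ e (algebraMap R S r) = 0 := by
  simp only [coord, LinearMap.comp_apply, proj_algebraMap, map_zero]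

theorem proj_of_mem {s : S} (hs : s ∈ RingHom.ker σ.toRingHom) : proj σ s = ⟨s, hs⟩ := by
  apply Subtype.ext
  have : σ s = 0 := hs
  rw [proj_coe, this, map_zero, sub_zero]

/-- The linear part of `s` as a power series. -/
noncomputable def lin : S →ₗ[R] MvPowerSeries (Fin d) R :=
  ∑ i : Fin d, ((LinearMap.proj i : (Fin d → R) →ₗ[R] R) ∘ₗ coord σ e).smulRight
    (MvPowerSeries.X i : MvPowerSeries (Fin d) R)

theorem lin_apply (s : S) :
    lin σ e s = ∑ i : Fin d, coord σ e s i • (MvPowerSeries.X i : MvPowerSeries (Fin d) R) := by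
  simp [lin, LinearMap.sum_apply]

theorem lin_mul (s t : S) : lin σ e (s * t) = σ s • lin σ e t + σ t • lin σ e s := by
  simp only [lin_apply, coord_mul, Pi.add_apply, Pi.smul_apply, smul_eq_mul, add_smul,
    Finset.sum_add_distrib, Finset.smul_sum, mul_smul]

theorem lin_mem (s : S) : lin σ e s ∈
    Ideal.span (Set.range (MvPowerSeries.X : Fin d → MvPowerSeries (Fin d) R)) := by
  rw [lin_apply]
  refine Ideal.sum_mem _ fun i _ => ?_
  rw [Algebra.smul_def]
  exact Ideal.mul_mem_left _ _ (Ideal.subset_span ⟨i, rfl⟩)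

/-- The first-order truncation `S → R[[X]]/(X)^2`. -/
noncomputable def uMap : S →+* MvPowerSeries (Fin d) R ⧸
    (Ideal.span (Set.range (MvPowerSeries.X : Fin d → MvPowerSeries (Fin d) R))) ^ 2 where
  toFun s := Ideal.Quotient.mk _ (algebraMap R (MvPowerSeries (Fin d) R) (σ s) + lin σ e s)
  map_one' := by
    have h : lin σ e (1 : S) = 0 := by
      rw [lin_apply]
      have : coord σ e (1 : S) = 0 := by
        rw [← map_one (algebraMap R S)]
        exact coord_algebraMap σ e 1
      simp [this]
    rw [h, map_one, map_one, add_zero, map_one]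
  map_mul' s t := by
    rw [← map_mul, Ideal.Quotient.eq, lin_mul, map_mul, map_mul, Algebra.smul_def,
      Algebra.smul_def]
    have h : (algebraMap R (MvPowerSeries (Fin d) R)) (σ s) *
        (algebraMap R (MvPowerSeries (Fin d) R)) (σ t) +
          ((algebraMap R (MvPowerSeries (Fin d) R)) (σ s) * (lin σ e) t +
            (algebraMap R (MvPowerSeries (Fin d) R)) (σ t) * (lin σ e) s) -
        ((algebraMap R (MvPowerSeries (Fin d) R)) (σ s) + (lin σ e) s) *
          ((algebraMap R (MvPowerSeries (Fin d) R)) (σ t) + (lin σ e) t) =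
        - (lin σ e s * lin σ e t) := by ring
    rw [h, pow_two]
    exact Ideal.neg_mem_iff _ |>.mpr (Ideal.mul_mem_mul (lin_mem σ e s) (lin_mem σ e t))
  map_zero' := by simp
  map_add' s t := by
    rw [← map_add]
    congr 1
    rw [map_add, map_add, map_add]
    ring

theorem uMap_apply (s : S) : uMap σ e s =
    Ideal.Quotient.mk _ (algebraMap R (MvPowerSeries (Fin d) R) (σ s) + lin σ e s) := rfl

theorem uMap_algebraMap (r : R) : uMap σ e (algebraMap R S r) =
    Ideal.Quotient.mk _ (algebraMap R (MvPowerSeries (Fin d) R) r) := by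
  have h : lin σ e (algebraMap R S r) = 0 := by
    rw [lin_apply]
    simp [coord_algebraMap]
  rw [uMap_apply, h, add_zero, AlgHom.commutes]
  rfl

end U

/-- Let `R → S` be smooth with an `R`-algebra retraction `σ : S → R` and `I = ker σ`. If `I/I²` is free
of rank `d` over `R`, then the `I`-adic completion of `S` is isomorphic as an `R`-algebra to the
power series ring in `d` variables over `R`. -/
theorem result {R S : Type u} [CommRing R] [CommRing S] [Algebra R S]
    [Algebra.Smooth R S] (σ : S →ₐ[R] R) (d : ℕ)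
    (e : (RingHom.ker σ.toRingHom).Cotangent ≃ₗ[R] (Fin d → R)) :
    Nonempty (AdicCompletion (RingHom.ker σ.toRingHom) S ≃ₐ[R] MvPowerSeries (Fin d) R) := by
  classical
  open Groth.Agent.Lib.Helper61.FSAdic in
  set I : Ideal S := RingHom.ker σ.toRingHom with hI
  set 𝔠 : Ideal (MvPowerSeries (Fin d) R) :=
    Ideal.span (Set.range (MvPowerSeries.X : Fin d → MvPowerSeries (Fin d) R)) with h𝔠
  have hσ : Function.Surjective σ := fun r => ⟨algebraMap R S r, σ.commutes r⟩
  have hfg : I.FG := Algebra.FinitePresentation.ker_fG_of_surjective σ hσ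
  choose x hx using fun i : Fin d => Ideal.toCotangent_surjective I (e.symm (Pi.single i 1))
  have hcoord : ∀ i, coord σ e (x i : S) = Pi.single i 1 := by
    intro i
    simp only [coord, LinearMap.comp_apply, LinearMap.restrictScalars_apply, LinearEquiv.coe_coe]
    rw [proj_of_mem σ (x i).2]
    change e (I.toCotangent (x i)) = _
    rw [hx, LinearEquiv.apply_symm_apply]
  have hlin : ∀ i, lin σ e (x i : S) = MvPowerSeries.X i := by
    intro i
    rw [lin_apply, hcoord]
    rw [Finset.sum_eq_single i]
    · simp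
    · intro j _ hj
      simp [Pi.single_apply, hj]
    · intro h; exact absurd (Finset.mem_univ i) h
  -- formal smoothness gives a lift `v : S → R[[X]]`
  have hL : Lifts (⊥ : Ideal R) (algebraMap R S) (⊥ : Ideal S) := by
    intro C _ J hJ φ _ u hu _
    letI : Algebra R C := φ.toAlgebra
    let u' : S →ₐ[R] C ⧸ J := { u with commutes' := fun a => DFunLike.congr_fun hu a }
    obtain ⟨w, hw⟩ := Algebra.FormallySmooth.exists_lift J hJ u'
    refine ⟨w.toRingHom, RingHom.ext fun a => w.commutes a, RingHom.ext fun b => ?_⟩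
    exact DFunLike.congr_fun hw b
  haveI : IsHausdorff (𝔠.map (Ideal.Quotient.mk (𝔠 ^ 2))) (MvPowerSeries (Fin d) R ⧸ 𝔠 ^ 2) := by
    constructor
    intro y hy
    have h2 := hy 2
    rw [SModEq.zero, smul_eq_mul, Ideal.mul_top, ← Ideal.map_pow, Ideal.map_quotient_self] at h2
    exact h2
  obtain ⟨v, hv1, hv2, -⟩ := lift_to_complete hL 𝔠 (algebraMap R (MvPowerSeries (Fin d) R))
    ⟨1, by simp⟩ (𝔠 ^ 2) ⟨1, by rw [pow_one]; exact Ideal.pow_le_self two_ne_zero⟩ (uMap σ e)
    (RingHom.ext fun r => uMap_algebraMap σ e r) ⟨1, by simp⟩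
  have hvu : ∀ s, Ideal.Quotient.mk (𝔠 ^ 2) (v s) = uMap σ e s := fun s =>
    DFunLike.congr_fun hv2 s
  have hvI : I ≤ 𝔠.comap v := by
    intro s hs
    have h1 := hvu s
    rw [uMap_apply, (show σ s = 0 from hs), map_zero, zero_add, Ideal.Quotient.eq] at h1
    have h2 : v s = (v s - lin σ e s) + lin σ e s := by ring
    rw [Ideal.mem_comap, h2]
    exact Ideal.add_mem _ (Ideal.pow_le_self two_ne_zero h1) (lin_mem σ e s)
  have hvIn : ∀ n, I ^ n ≤ (𝔠 ^ n).comap v := fun n =>
    (Ideal.pow_right_mono hvI n).trans (Ideal.le_comap_pow v n)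
  have hvx : ∀ i, v (x i : S) - MvPowerSeries.X i ∈ 𝔠 ^ 2 := by
    intro i
    have h1 := hvu (x i : S)
    rw [uMap_apply, (show σ (x i : S) = 0 from (x i).2), map_zero, zero_add, hlin,
      Ideal.Quotient.eq] at h1
    exact h1
  -- extend `v` to the completion
  let f : ∀ n, AdicCompletion I S →+* MvPowerSeries (Fin d) R ⧸ 𝔠 ^ n := fun n =>
    (Ideal.quotientMap (𝔠 ^ n) v (hvIn n)).comp (AdicCompletion.evalₐ I n).toRingHom
  have hfmk : ∀ n (a : AdicCompletion.AdicCauchySequence I S),
      f n (AdicCompletion.mk I S a) = Ideal.Quotient.mk (𝔠 ^ n) (v (a n)) := by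
    intro n a
    simp only [f, RingHom.comp_apply, AlgHom.toRingHom_eq_coe, RingHom.coe_coe,
      AdicCompletion.evalₐ_mk, Ideal.quotientMap_mk]
  have hf : ∀ {m n : ℕ} (hle : m ≤ n), (Ideal.Quotient.factorPow 𝔠 hle).comp (f n) = f m := by
    intro m n hle
    ext y
    induction y using AdicCompletion.induction_on with
    | h a =>
      rw [RingHom.comp_apply, hfmk, hfmk, Ideal.Quotient.factor_mk, Ideal.Quotient.eq, ← map_sub]
      apply hvIn m
      have := (a.property hle).symm
      rw [SModEq.sub_mem] at this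
      simpa using this
  let θ : AdicCompletion I S →+* MvPowerSeries (Fin d) R := IsAdicComplete.liftRingHom 𝔠 f hf
  have hθof : ∀ s, θ (AdicCompletion.of I S s) = v s := by
    intro s
    have h1 : ∀ n, Ideal.Quotient.mk (𝔠 ^ n) (θ (AdicCompletion.of I S s)) =
        Ideal.Quotient.mk (𝔠 ^ n) (v s) := by
      intro n
      rw [IsAdicComplete.mk_liftRingHom]
      simp only [f, RingHom.comp_apply, AlgHom.toRingHom_eq_coe, RingHom.coe_coe,
        AdicCompletion.evalₐ_of, Ideal.quotientMap_mk]
    rw [← sub_eq_zero]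
    apply IsHausdorff.haus (inferInstance : IsHausdorff 𝔠 (MvPowerSeries (Fin d) R))
    intro n
    rw [SModEq.zero, smul_eq_mul, Ideal.mul_top]
    exact Ideal.Quotient.eq.mp (h1 n)
  -- the completion is complete for the ideal generated by the images of the `x i`
  haveI hcompl : IsAdicComplete (I.map (algebraMap S (AdicCompletion I S))) (AdicCompletion I S) :=
    AdicCompletion.isAdicComplete_self I hfg
  have hIle : I ≤ Ideal.span (Set.range fun i => (x i : S)) ⊔ I ^ 2 := by
    intro s hs
    set a := e (I.toCotangent ⟨s, hs⟩) with ha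
    have h1 : I.toCotangent ⟨s, hs⟩ = I.toCotangent (∑ i, a i • x i) := by
      apply e.injective
      rw [map_sum, map_sum, ← ha]
      have h2 : ∀ i, e (I.toCotangent (a i • x i)) = a i • Pi.single i 1 := by
        intro i
        have h3 : I.toCotangent (a i • x i) = a i • I.toCotangent (x i) := rfl
        rw [h3, map_smul, hx, LinearEquiv.apply_symm_apply]
      simp only [h2]
      funext j
      simp [Finset.sum_apply, Pi.single_apply]
    rw [Ideal.toCotangent_eq] at h1
    have h4 : s = (((⟨s, hs⟩ : I) : S) - ((∑ i, a i • x i : I) : S)) + ((∑ i, a i • x i : I) : S) := by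
      ring
    rw [h4]
    refine Ideal.add_mem _ (Ideal.mem_sup_right h1) (Ideal.mem_sup_left ?_)
    rw [Submodule.coe_sum]
    refine Ideal.sum_mem _ fun i _ => ?_
    rw [Submodule.coe_smul_of_tower, Algebra.smul_def]
    exact Ideal.mul_mem_left _ _ (Ideal.subset_span ⟨i, rfl⟩)
  have hspan : Ideal.span (Set.range fun i => AdicCompletion.of I S (x i : S)) =
      I.map (algebraMap S (AdicCompletion I S)) := by
    apply le_antisymm
    · rw [Ideal.span_le]
      rintro _ ⟨i, rfl⟩
      exact Ideal.mem_map_of_mem _ (x i).2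
    · apply Submodule.le_of_le_smul_of_le_jacobson_bot
        (I := I.map (algebraMap S (AdicCompletion I S))) (hfg.map _)
        (IsAdicComplete.le_jacobson_bot _)
      rw [smul_eq_mul, ← pow_two, ← Ideal.map_pow]
      have h5 : Ideal.span (Set.range fun i => AdicCompletion.of I S (x i : S)) =
          (Ideal.span (Set.range fun i => (x i : S))).map (algebraMap S (AdicCompletion I S)) := by
        rw [Ideal.map_span, ← Set.range_comp]
        rfl
      rw [h5, ← Ideal.map_sup]
      exact Ideal.map_mono hIle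
  haveI : IsAdicComplete (Ideal.span (Set.range fun i => AdicCompletion.of I S (x i : S)))
      (AdicCompletion I S) := by
    rw [hspan]
    exact hcompl
  obtain ⟨ψ, hψ⟩ := Groth.Agent.Lib.Helper61.PSEval.exists_eval R (AdicCompletion I S)
    (fun i => AdicCompletion.of I S (x i : S))
  let τ : MvPowerSeries (Fin d) R →ₐ[R] MvPowerSeries (Fin d) R :=
    { θ.comp ψ.toRingHom with
      commutes' := fun r => by
        change θ (ψ (algebraMap R _ r)) = _
        rw [ψ.commutes, AdicCompletion.algebraMap_apply, hθof]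
        exact DFunLike.congr_fun hv1 r }
  have hτ : ∀ i, τ (MvPowerSeries.X i) - MvPowerSeries.X i ∈ 𝔠 ^ 2 := by
    intro i
    change θ (ψ (MvPowerSeries.X i)) - _ ∈ _
    rw [hψ, hθof]
    exact hvx i
  have hτbij := Groth.Agent.S10826.bijective_of_jac_one τ hτ
  have hψinj : Function.Injective ψ := by
    intro a b hab
    apply hτbij.1
    change θ (ψ a) = θ (ψ b)
    rw [hab]
  have hψsurj : Function.Surjective ψ := by
    have hmap : 𝔠.map ψ.toRingHom = I.map (algebraMap S (AdicCompletion I S)) := by
      rw [← hspan, h𝔠, Ideal.map_span, ← Set.range_comp]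
      congr 2
      funext i
      exact hψ i
    haveI : IsHausdorff (𝔠.map ψ.toRingHom) (AdicCompletion I S) := by
      rw [hmap]
      infer_instance
    have hsurj : Function.Surjective ψ.toRingHom := by
      apply surjective_of_mk_map_comp_surjective (I := 𝔠)
      intro y
      obtain ⟨y, rfl⟩ := Ideal.Quotient.mk_surjective y
      obtain ⟨s, hs⟩ := Ideal.Quotient.mk_surjective (AdicCompletion.evalOneₐ I y)
      refine ⟨MvPowerSeries.C (σ s), ?_⟩
      rw [RingHom.comp_apply]
      apply Ideal.Quotient.eq.mpr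
      rw [hmap, ← AdicCompletion.ker_evalOneₐ_eq_map I hfg, RingHom.mem_ker]
      have h1 : ψ.toRingHom (MvPowerSeries.C (σ s)) =
          AdicCompletion.of I S (algebraMap R S (σ s)) := by
        change ψ (algebraMap R _ (σ s)) = _
        rw [ψ.commutes]
        rfl
      rw [map_sub, h1]
      change AdicCompletion.evalOneₐ I (AdicCompletion.of I S (algebraMap R S (σ s))) -
        AdicCompletion.evalOneₐ I y = 0
      rw [AdicCompletion.evalOneₐ_of, ← hs, ← map_sub, Ideal.Quotient.eq_zero_iff_mem]
      change σ.toRingHom (algebraMap R S (σ s) - s) = 0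
      rw [map_sub]
      simp
    exact hsurj
  exact ⟨(AlgEquiv.ofBijective ψ ⟨hψinj, hψsurj⟩).symm⟩

end Groth.Agent.S2099
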