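import Groth.Statements.S2107
import Groth.Agent.Lib.Helper55.FL.EssFp

set_option autoImplicit false
universe u
open CAlg

namespace Groth.Agent.S2107

/-- Let `R → S` be a local homomorphism of local rings with `S` essentially of finite presentation over
`R`, `M`, `N` finitely presented `S`-modules with `N` flat over `R`, and `u : M → N` an `S`-linear
map which is injective modulo `𝔪_R`. Then `u` is injective and its cokernel is flat over `R`. -/
theorem result {R S M N : Type u} [CommRing R] [CommRing S] [IsLocalRing R]
    [IsLocalRing S] [Algebra R S] [IsLocalHom (algebraMap R S)] (hS : CAlgX.IsEssFinitePresentation R S)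
    [AddCommGroup M] [Module S M] [Module R M] [IsScalarTower R S M] [Module.FinitePresentation S M]
    [AddCommGroup N] [Module S N] [Module R N] [IsScalarTower R S N] [Module.FinitePresentation S N] [Module.Flat R N]
    (u : M →ₗ[S] N)
    (hu : ∀ x : M, u x ∈ (IsLocalRing.maximalIdeal R).map (algebraMap R S) • (⊤ : Submodule S N) →
      x ∈ (IsLocalRing.maximalIdeal R).map (algebraMap R S) • (⊤ : Submodule S M)) :
    Function.Injective u ∧ Module.Flat R (N ⧸ LinearMap.range u) := by
  classical
  obtain ⟨S', _, _, _, _, T, hfp, hloc⟩ := hS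
  have hprime : ((IsLocalRing.maximalIdeal S).comap (algebraMap S' S)).IsPrime :=
    Ideal.comap_isPrime _ _
  have hAt : IsLocalization.AtPrime S ((IsLocalRing.maximalIdeal S).comap (algebraMap S' S)) := by
    refine IsLocalization.of_le T _ ?_ ?_
    · intro t ht hmem
      exact (IsLocalRing.mem_maximalIdeal _).1 hmem (IsLocalization.map_units S ⟨t, ht⟩)
    · intro r hr
      by_contra h
      exact hr ((IsLocalRing.mem_maximalIdeal _).2 h)
  have hp : ((IsLocalRing.maximalIdeal S).comap (algebraMap S' S)).comap (algebraMap R S') =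
      IsLocalRing.maximalIdeal R := by
    rw [Ideal.comap_comap, ← IsScalarTower.algebraMap_eq]
    exact ((IsLocalRing.local_hom_TFAE (algebraMap R S)).out 0 4).1 ‹IsLocalHom (algebraMap R S)›
  have hu' : ∀ x : M, u x ∈ (((IsLocalRing.maximalIdeal S).comap (algebraMap S' S)).comap
      (algebraMap R S')) • (⊤ : Submodule R N) →
      x ∈ (((IsLocalRing.maximalIdeal S).comap (algebraMap S' S)).comap
      (algebraMap R S')) • (⊤ : Submodule R M) := by
    rw [hp]
    intro x hx
    rw [← Groth.Agent.Lib.Helper55.FL.mem_smul_top_map_iff (S := S)] at hx ⊢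
    exact hu x hx
  have hUI : ∀ (𝔞 : Ideal R) (x : M), u x ∈ 𝔞 • (⊤ : Submodule R N) →
      x ∈ 𝔞 • (⊤ : Submodule R M) := fun 𝔞 x hx =>
    Groth.Agent.Lib.Helper55.FL.ess_ui ((IsLocalRing.maximalIdeal S).comap (algebraMap S' S))
      u hu' 𝔞 x hx
  constructor
  · rw [injective_iff_map_eq_zero]
    intro x hx
    have := hUI ⊥ x (by rw [hx]; exact zero_mem _)
    rw [Submodule.bot_smul] at this
    exact this
  · have h1 : Module.Flat R (N ⧸ LinearMap.range (u.restrictScalars R)) :=
      Groth.Agent.Lib.Helper55.FL.flat_quotient_of_ui (u.restrictScalars R) hUI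
    have h2 : (LinearMap.range u).restrictScalars R = LinearMap.range (u.restrictScalars R) := by
      ext y
      rfl
    have e : (N ⧸ LinearMap.range (u.restrictScalars R)) ≃ₗ[R] (N ⧸ LinearMap.range u) :=
      (Submodule.quotEquivOfEq _ _ h2.symm).trans
        (Submodule.Quotient.restrictScalarsEquiv R (LinearMap.range u))
    exact Module.Flat.of_linearEquiv e.symm

end Groth.Agent.S2107
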