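import Groth.Statements.S2110
import Mathlib
import Groth.Agent.Lib.Helper27.SymOmegaB
import Groth.Agent.Lib.Helper27.StdElemE

set_option autoImplicit false
universe u
open Smoothing

namespace Groth.Agent.S2110

/-- Let `A` be a finitely presented `R`-algebra. There is an `A`-algebra `C` of finite type with an
`A`-algebra retraction `C → A` such that for every `a ∈ A` with `A_a` smooth over `R`, the module of
differentials of `C_a` over `R` is a free `C_a`-module. -/
theorem result {R A : Type u} [CommRing R] [CommRing A] [Algebra R A]
    [Algebra.FinitePresentation R A] :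
    ∃ (C : Type u) (_ : CommRing C) (_ : Algebra A C) (_ : Algebra R C) (_ : IsScalarTower R A C),
      Algebra.FiniteType A C ∧ Nonempty (C →ₐ[A] A) ∧
      ∀ a : A, Algebra.Smooth R (Localization.Away a) →
        Module.Free (Localization.Away (algebraMap A C a)) Ω[Localization.Away (algebraMap A C a)⁄R] := by
  obtain ⟨n, m, f, φ, hφ, hkerφ⟩ := Helper27.StdElem.exists_presentation (R := R) (A := A)
  let P := Algebra.Generators.ofAlgHom φ hφ
  have hker : Ideal.span (Set.range f) = P.toExtension.ker := by
    rw [Helper27.StdElem.ofAlgHom_ker, hkerφ]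
  refine ⟨Helper27.SymOmega.CC A (Helper27.SymOmega.cotGen P f hker), inferInstance, inferInstance,
    inferInstance, inferInstance, Helper27.SymOmega.finiteType_CC A _,
    ⟨Helper27.SymOmega.retr A _⟩, ?_⟩
  intro a ha
  exact Helper27.SymOmega.free_kaehler_away P f hker a

end Groth.Agent.S2110
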