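import Groth.Statements.S2111
import Mathlib

set_option autoImplicit false
universe u
open CAlg

namespace Groth.Agent.S2111

/-- Let `R` be a Noetherian normal domain with fraction field `K`. An element of `K` which lies in `R_𝔭`
for every prime `𝔭` of height one lies in `R`. -/
theorem result {R : Type u} [CommRing R] [IsDomain R] [IsNoetherianRing R]
    [IsIntegrallyClosed R] (x : FractionRing R)
    (hx : ∀ (p : Ideal R) [p.IsPrime], p.height = 1 →
      x ∈ Set.range (algebraMap (Localization.AtPrime p) (FractionRing R))) :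
    x ∈ Set.range (algebraMap R (FractionRing R)) := by
  classical
  by_contra hxR
  let K := FractionRing R
  have hinj : Function.Injective (algebraMap R K) := IsFractionRing.injective R K
  -- the conductor ideal
  let D : Ideal R :=
    { carrier := {r | algebraMap R K r * x ∈ Set.range (algebraMap R K)}
      add_mem' := by
        rintro a b ⟨a', ha⟩ ⟨b', hb⟩
        exact ⟨a' + b', by rw [map_add, map_add, add_mul, ha, hb]⟩
      zero_mem' := ⟨0, by simp⟩
      smul_mem' := by
        rintro c a ⟨a', ha⟩
        exact ⟨c * a', by rw [smul_eq_mul, map_mul, map_mul, mul_assoc, ha]⟩ }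
  have hD : D ≠ ⊤ := by
    intro h
    have : (1 : R) ∈ D := by rw [h]; trivial
    obtain ⟨a, ha⟩ := this
    exact hxR ⟨a, by rw [ha, map_one, one_mul]⟩
  have : Nontrivial (R ⧸ D) := Ideal.Quotient.nontrivial_iff.mpr hD
  obtain ⟨P, hP⟩ := associatedPrimes.nonempty R (R ⧸ D)
  obtain ⟨hPprime, abar, hPeq⟩ := isAssociatedPrime_iff.mp hP
  obtain ⟨a, rfl⟩ := Ideal.Quotient.mk_surjective abar
  set y : K := algebraMap R K a * x with hy
  have hPmem : ∀ r : R, r ∈ P ↔ algebraMap R K r * y ∈ Set.range (algebraMap R K) := by
    intro r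
    have e : r • (Ideal.Quotient.mk D) a = Ideal.Quotient.mk D (r * a) := rfl
    rw [hPeq, Submodule.mem_colon_singleton, Submodule.mem_bot, e,
      Ideal.Quotient.eq_zero_iff_mem]
    change algebraMap R K (r * a) * x ∈ Set.range (algebraMap R K) ↔ _
    rw [map_mul, mul_assoc]
  have hyR : y ∉ Set.range (algebraMap R K) := by
    intro h
    apply hPprime.ne_top
    rw [Ideal.eq_top_iff_one, hPmem, map_one, one_mul]
    exact h
  -- it suffices to show that `P` has height one
  suffices hht : P.height = 1 by
    obtain ⟨w, hw⟩ := hx P hht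
    obtain ⟨⟨b, s⟩, hbs⟩ := IsLocalization.surj P.primeCompl w
    simp only at hbs
    have h1 : algebraMap R K s * x = algebraMap R K b := by
      rw [← hw, mul_comm, IsScalarTower.algebraMap_apply R (Localization.AtPrime P) K,
        IsScalarTower.algebraMap_apply R (Localization.AtPrime P) K b, ← map_mul, hbs]
    have h2 : (s : R) ∈ P := by
      rw [hPmem]
      refine ⟨a * b, ?_⟩
      rw [hy, map_mul, ← h1]; ring
    exact s.2 h2
  have hPbot : P ≠ ⊥ := by
    obtain ⟨⟨c, d⟩, hcd⟩ := IsLocalization.surj (nonZeroDivisors R) y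
    simp only at hcd
    intro hbot
    have : (d : R) ∈ P := by
      rw [hPmem]
      exact ⟨c, by rw [← hcd, mul_comm]⟩
    rw [hbot, Ideal.mem_bot] at this
    exact nonZeroDivisors.coe_ne_zero d this
  apply le_antisymm
  · -- height ≤ 1 via Krull's principal ideal theorem
    let Pk : Submodule R K := Submodule.map (Algebra.linearMap R K) P
    have hPk_fg : Pk.FG :=
      Submodule.FG.map (Algebra.linearMap R K) ((isNoetherianRing_iff_ideal_fg R).mp inferInstance P)
    have hPk_bot : Pk ≠ ⊥ := by
      intro h
      apply hPbot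
      rw [eq_bot_iff]
      intro z hz
      have : algebraMap R K z ∈ Pk := ⟨z, hz, rfl⟩
      rw [h, Submodule.mem_bot] at this
      rw [Ideal.mem_bot]
      exact hinj (this.trans (map_zero _).symm)
    have hex : ∃ t ∈ P, ∃ u : R, u ∉ P ∧ y * algebraMap R K t = algebraMap R K u := by
      by_contra hcon
      push Not at hcon
      have hint : IsIntegral R y := by
        apply isIntegral_of_smul_mem_submodule Pk hPk_bot hPk_fg y
        rintro _ ⟨t, ht, rfl⟩
        obtain ⟨u, hu⟩ := (hPmem t).mp ht
        have huP : u ∈ P := by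
          by_contra huP
          exact hcon t ht u huP (by rw [hu, mul_comm])
        refine ⟨u, huP, ?_⟩
        rw [Algebra.linearMap_apply, Algebra.linearMap_apply, hu, smul_eq_mul, mul_comm]
      exact hyR (IsIntegrallyClosed.isIntegral_iff.mp hint)
    obtain ⟨t, htP, u, huP, hut⟩ := hex
    have hmin : P ∈ (Ideal.span {t}).minimalPrimes := by
      refine ⟨⟨hPprime, (Ideal.span_singleton_le_iff_mem _).mpr htP⟩, ?_⟩
      rintro q ⟨hqprime, hqt⟩ hqP z hz
      obtain ⟨v, hv⟩ := (hPmem z).mp hz
      have h1 : u * z = t * v := by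
        apply hinj
        rw [map_mul, map_mul, ← hut, hv]; ring
      have h2 : u * z ∈ q := by
        rw [h1]
        exact q.mul_mem_right _ ((Ideal.span_singleton_le_iff_mem _).mp hqt)
      exact (hqprime.mem_or_mem h2).resolve_left (fun h => huP (hqP h))
    exact Ideal.height_le_one_of_isPrincipal_of_mem_minimalPrimes _ P hmin
  · have hlt : (⊥ : Ideal R) < P := bot_lt_iff_ne_bot.mpr hPbot
    have := Ideal.height_add_one_le_of_lt_of_isPrime hlt
    exact le_trans (by simp) this

end Groth.Agent.S2111
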