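import Groth.Statements.S2112
import Mathlib
import Groth.Agent.Lib.Helper51.GeomIrr

set_option autoImplicit false
universe u
open CAlg

namespace Groth.Agent.S2112

theorem hasUniqueMinimalPrime_iff (A : Type u) [CommRing A] :
    CAlgX.HasUniqueMinimalPrime A ↔ IrreducibleSpace (PrimeSpectrum A) := by
  rw [PrimeSpectrum.irreducibleSpace_iff_isPrime_nilradical]
  constructor
  · rintro ⟨p, hp, huniq⟩
    have h : nilradical A = p := by
      rw [nilradical_eq_sInf]
      apply le_antisymm
      · exact sInf_le hp.1.1
      · refine le_sInf fun q hq => ?_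
        have hq' : q.IsPrime := hq
        obtain ⟨q', hq'min, hq'le⟩ := Ideal.exists_minimalPrimes_le (I := ⊥) (J := q) bot_le
        have : q' = p := huniq q' hq'min
        rw [← this]
        exact hq'le
    rw [h]
    exact hp.1.1
  · intro hprime
    refine ⟨nilradical A, ⟨⟨hprime, bot_le⟩, fun q hq hle => ?_⟩, fun q hq => ?_⟩
    · have hq' : q.IsPrime := hq.1
      exact nilradical_le_prime q
    · have hq' : q.IsPrime := hq.1.1
      have h1 : nilradical A ≤ q := nilradical_le_prime q
      exact le_antisymm (hq.2 ⟨hprime, bot_le⟩ h1) h1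

open TensorProduct in

open TensorProduct in
/-- Let `k` be a separably closed field and `R`, `S` two `k`-algebras each having exactly one minimal
prime ideal. Then `R ⊗_k S` has exactly one minimal prime ideal. -/
theorem result {k R S : Type u} [Field k] [IsSepClosed k] [CommRing R] [CommRing S]
    [Algebra k R] [Algebra k S] (hR : CAlgX.HasUniqueMinimalPrime R) (hS : CAlgX.HasUniqueMinimalPrime S) :
    CAlgX.HasUniqueMinimalPrime (R ⊗[k] S) := by
  rw [hasUniqueMinimalPrime_iff] at hR hS ⊢
  open CategoryTheory CategoryTheory.Limits AlgebraicGeometry in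
  have : IrreducibleSpace ↥(Spec (CommRingCat.of R)) := hR
  have : IrreducibleSpace ↥(Spec (CommRingCat.of S)) := hS
  have : GeometricallyIrreducible (Spec.map (CommRingCat.ofHom (algebraMap k S))) :=
    Groth.Agent.Lib.Helper51.geometricallyIrreducible_of_isSepClosed _
  have : UniversallyOpen (Spec.map (CommRingCat.ofHom (algebraMap k S))) := inferInstance
  have : IrreducibleSpace ↥(pullback (Spec.map (CommRingCat.ofHom (algebraMap k R)))
      (Spec.map (CommRingCat.ofHom (algebraMap k S)))) := inferInstance
  have h : IrreducibleSpace ↥(Spec (CommRingCat.of (R ⊗[k] S))) :=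
    (pullbackSpecIso k R S).hom.homeomorph.irreducibleSpace_iff.mp inferInstance
  exact h

end Groth.Agent.S2112
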