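import Groth.Statements.S2113
import Mathlib

set_option autoImplicit false
universe u
open CAlg

namespace Groth.Agent.S2113

lemma mem_minimalPrimes_of_forall_mem {D : Type*} [CommRing D] [IsDomain D] [IsNoetherianRing D]
    (f : D) (hf0 : f ≠ 0) (hf : ∀ (Q : Ideal D) [Q.IsPrime], Q ≠ ⊥ → f ∈ Q)
    (Q : Ideal D) [hQ : Q.IsPrime] (hQ0 : Q ≠ ⊥) : Q ∈ (Ideal.span {f}).minimalPrimes := by
  classical
  have hfQ : Ideal.span {f} ≤ Q := by
    rw [Ideal.span_singleton_le_iff_mem]; exact hf Q hQ0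
  obtain ⟨Q₀, hQ₀, hQ₀Q⟩ := Ideal.exists_minimalPrimes_le hfQ
  by_contra hne
  have hlt : Q₀ < Q := lt_of_le_of_ne hQ₀Q (fun h => hne (h ▸ hQ₀))
  have hfin := Ideal.finite_minimalPrimes_of_isNoetherianRing D (Ideal.span {f})
  have hnot : ∀ P ∈ (Ideal.span {f}).minimalPrimes, ¬ Q ≤ P := by
    intro P hP hQP
    have h1 : Q₀ ≤ P := hQ₀Q.trans hQP
    have h2 : P ≤ Q₀ := hP.2 hQ₀.1 h1
    exact absurd (hQP.trans h2) (not_le_of_gt hlt)
  have havoid : ¬ ((Q : Set D) ⊆ ⋃ P ∈ (hfin.toFinset : Set (Ideal D)), (P : Set D)) := by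
    intro hsub
    rw [Ideal.subset_union_prime (f := fun P : Ideal D => P) Q₀ Q₀ (fun P hP _ _ => by
      have : P ∈ (Ideal.span {f}).minimalPrimes := by simpa using hP
      exact this.1.1)] at hsub
    obtain ⟨P, hP, hQP⟩ := hsub
    exact hnot P (by simpa using hP) hQP
  rw [Set.not_subset] at havoid
  obtain ⟨x, hxQ, hx⟩ := havoid
  have hx' : ∀ P ∈ (Ideal.span {f}).minimalPrimes, x ∉ P := by
    intro P hP hxP
    apply hx
    simp only [Set.mem_iUnion]
    exact ⟨P, by simpa using hP, hxP⟩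
  have hx0 : x ≠ 0 := by
    rintro rfl
    exact hx' Q₀ hQ₀ (zero_mem _)
  have hxQ' : Ideal.span {x} ≤ Q := by
    rw [Ideal.span_singleton_le_iff_mem]; exact hxQ
  obtain ⟨Q', hQ', hQ'Q⟩ := Ideal.exists_minimalPrimes_le hxQ'
  have : Q'.IsPrime := hQ'.1.1
  have hxQ'' : x ∈ Q' := hQ'.1.2 (Ideal.mem_span_singleton_self x)
  have hht : Q'.height ≤ 1 :=
    Ideal.height_le_one_of_isPrincipal_of_mem_minimalPrimes (Ideal.span {x}) Q' hQ'
  have hQ'0 : Q' ≠ ⊥ := by
    intro h
    rw [h] at hxQ''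
    exact hx0 (by simpa using hxQ'')
  have hfQ' : Ideal.span {f} ≤ Q' := by
    rw [Ideal.span_singleton_le_iff_mem]; exact hf Q' hQ'0
  obtain ⟨P, hP, hPQ'⟩ := Ideal.exists_minimalPrimes_le hfQ'
  have : P.IsPrime := hP.1.1
  have hfP : f ∈ P := hP.1.2 (Ideal.mem_span_singleton_self f)
  have hP0 : (⊥ : Ideal D) < P := by
    rw [bot_lt_iff_ne_bot]
    intro h
    rw [h] at hfP
    exact hf0 (by simpa using hfP)
  have hPlt : P < Q' := lt_of_le_of_ne hPQ' (fun h => hx' P hP (h ▸ hxQ''))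
  have h1 := Ideal.height_add_one_le_of_lt_of_isPrime hP0
  have h2 := Ideal.height_add_one_le_of_lt_of_isPrime hPlt
  have h3 : (1 : ℕ∞) ≤ P.height := le_trans (by simp) h1
  have h4 : (1 : ℕ∞) + 1 ≤ 1 := le_trans (add_le_add_left h3 1) (h2.trans hht)
  exact absurd h4 (by decide)

lemma finite_primeSpectrum {D : Type*} [CommRing D] [IsDomain D] [IsNoetherianRing D]
    (f : D) (hf0 : f ≠ 0) (hf : ∀ (Q : Ideal D) [Q.IsPrime], Q ≠ ⊥ → f ∈ Q) :
    (Set.univ : Set (PrimeSpectrum D)).Finite := by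
  have hfin := Ideal.finite_minimalPrimes_of_isNoetherianRing D (Ideal.span {f})
  have : (Set.univ : Set (PrimeSpectrum D)) ⊆
      PrimeSpectrum.asIdeal ⁻¹' (insert ⊥ (Ideal.span {f}).minimalPrimes) := by
    intro Q _
    by_cases hQ : Q.asIdeal = ⊥
    · exact Or.inl hQ
    · exact Or.inr (mem_minimalPrimes_of_forall_mem f hf0 hf Q.asIdeal hQ)
  refine Set.Finite.subset ?_ this
  apply Set.Finite.preimage
  · intro a _ b _ hab
    exact PrimeSpectrum.ext hab
  · exact hfin.insert _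

/-- A Noetherian ring in which each prime is maximal or else lies below infinitely many primes is a
Jacobson ring. -/
theorem result {R : Type u} [CommRing R] [IsNoetherianRing R]
    (h : ∀ (p : Ideal R) [p.IsPrime], p.IsMaximal ∨ {q : PrimeSpectrum R | p ≤ q.asIdeal}.Infinite) :
    IsJacobsonRing R := by
  rw [isJacobsonRing_iff_prime_eq]
  intro P
  induction P using WellFoundedGT.induction with
  | _ P ih =>
  intro hP
  rcases h P with hmax | hinf
  · exact Ideal.jacobson_eq_self_of_isMaximal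
  · by_contra hne
    have hlt : P < P.jacobson := lt_of_le_of_ne Ideal.le_jacobson (Ne.symm hne)
    obtain ⟨f, hfJ, hfP⟩ := Set.exists_of_ssubset hlt
    have hfQ : ∀ (Q : Ideal R) [Q.IsPrime], P < Q → f ∈ Q := by
      intro Q hQ hPQ
      rw [← ih Q hPQ hQ]
      exact Ideal.jacobson_mono hPQ.le hfJ
    apply hinf
    have hsurj : Function.Surjective (Ideal.Quotient.mk P) := Ideal.Quotient.mk_surjective
    have hfin : (Set.univ : Set (PrimeSpectrum (R ⧸ P))).Finite := by
      apply finite_primeSpectrum (Ideal.Quotient.mk P f)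
      · rwa [Ne, Ideal.Quotient.eq_zero_iff_mem]
      · intro Q hQ hQ0
        have hcomap : (Q.comap (Ideal.Quotient.mk P)).IsPrime := Ideal.comap_isPrime _ _
        have hPle : P ≤ Q.comap (Ideal.Quotient.mk P) := by
          intro x hx
          rw [Ideal.mem_comap, Ideal.Quotient.eq_zero_iff_mem.mpr hx]
          exact zero_mem _
        have hPne : P ≠ Q.comap (Ideal.Quotient.mk P) := by
          intro heq
          apply hQ0
          rw [← Ideal.map_comap_of_surjective _ hsurj Q, ← heq, Ideal.map_quotient_self]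
        exact hfQ _ (lt_of_le_of_ne hPle hPne)
    have hrange : {q : PrimeSpectrum R | P ≤ q.asIdeal} =
        Set.range (PrimeSpectrum.comap (Ideal.Quotient.mk P)) := by
      rw [range_comap_of_surjective _ _ hsurj, Ideal.mk_ker]
      ext q
      simp [PrimeSpectrum.mem_zeroLocus]
    rw [hrange, ← Set.image_univ]
    exact hfin.image _

end Groth.Agent.S2113
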