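import Groth.Statements.S9820
import Groth.Agent.Lib.Helper40.ExtFP3
import Groth.Agent.Lib.Helper60.TensorMod

set_option autoImplicit false
universe u
open CategoryTheory CategoryTheory.Limits AlgebraicGeometry TopologicalSpace Opposite
open Props

namespace Groth.Agent.S9820

open Groth.Agent.Lib.Helper40.ExtFP Scheme.Modules Groth.Agent.Lib.Lead.QCohAff
  Groth.Agent.Lib.Lead.CohAff Groth.Agent.Lib.Helper21.QCohSections
  Groth.Agent.Lib.Helper40.SSh.SubSh

variable {X : Scheme.{u}}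

/-- sections over an affine open inside `U` of a module whose restriction to `U` is finitely
presented -/
theorem fp_sections_of_restrict (F : X.Modules) (U : X.Opens)
    (hFU : SheafOfModules.IsFinitePresentation (R := (U : Scheme.{u}).ringCatSheaf)
      (F.restrict U.ι))
    {W : X.Opens} (hW : IsAffineOpen W) (hWU : W ≤ U) :
    Module.FinitePresentation Γ(X, W) Γ(F, W) := by
  have hW' : IsAffineOpen (U.ι ⁻¹ᵁ W) :=
    hW.preimage_of_isOpenImmersion U.ι (by rwa [Scheme.Opens.opensRange_ι])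
  have heq : U.ι ''ᵁ (U.ι ⁻¹ᵁ W) = W := by
    rw [Scheme.Hom.image_preimage_eq_opensRange_inf, Scheme.Opens.opensRange_ι]
    exact inf_eq_right.2 hWU
  haveI := hFU
  have h1 : Module.FinitePresentation Γ(U, U.ι ⁻¹ᵁ W) Γ(F.restrict U.ι, U.ι ⁻¹ᵁ W) :=
    Groth.Agent.Lib.Helper2.FinTypeAff.finitePresentation_sections (F.restrict U.ι) hW'
  letI inst2 : Module Γ(U, U.ι ⁻¹ᵁ W) Γ(F, U.ι ''ᵁ (U.ι ⁻¹ᵁ W)) :=
    inferInstanceAs (Module Γ(X, U.ι ''ᵁ (U.ι ⁻¹ᵁ W)) Γ(F, U.ι ''ᵁ (U.ι ⁻¹ᵁ W)))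
  let e : Γ(F.restrict U.ι, U.ι ⁻¹ᵁ W) ≃ₗ[Γ(U, U.ι ⁻¹ᵁ W)] Γ(F, U.ι ''ᵁ (U.ι ⁻¹ᵁ W)) :=
    { toFun := fun y => y
      invFun := fun y => y
      map_add' := fun _ _ => rfl
      map_smul' := fun r y => (rsec_smul U (U.ι ⁻¹ᵁ W) (show Γ(X, U.ι ''ᵁ (U.ι ⁻¹ᵁ W)) from r)
        (show Γ(F, U.ι ''ᵁ (U.ι ⁻¹ᵁ W)) from y)).symm
      left_inv := fun _ => rfl
      right_inv := fun _ => rfl }
  have h2 : Module.FinitePresentation Γ(U, U.ι ⁻¹ᵁ W) Γ(F, U.ι ''ᵁ (U.ι ⁻¹ᵁ W)) :=
    Module.FinitePresentation.of_equiv e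
  have h3 : Module.FinitePresentation Γ(X, U.ι ''ᵁ (U.ι ⁻¹ᵁ W)) Γ(F, U.ι ''ᵁ (U.ι ⁻¹ᵁ W)) := h2
  exact Groth.Agent.Lib.Helper2.FinTypeAff.finitePresentation_congr F heq h3

open Groth.Agent.Lib.Helper2.KerSec in

/-- On a quasi-compact quasi-separated scheme, a quasi-coherent module of finite type which is of finite
presentation over a quasi-compact open U is the quotient of a module of finite presentation by a
surjection which is an isomorphism over U. -/
theorem result {X : Scheme.{u}} [CompactSpace X]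
    [QuasiSeparatedSpace X] (F : X.Modules) [Coh.IsQCoh F] (hF : CohB1.IsFT F) (U : X.Opens)
    (hU : IsCompact (U : Set X)) (hFU : CohB1.IsFP (F.restrict U.ι)) :
    ∃ (G : X.Modules) (φ : G ⟶ F), CohB1.IsFP G ∧ Epi φ ∧
      IsIso ((Scheme.Modules.restrictFunctor U.ι).map φ) := by
  obtain ⟨P, π, hPq, hPfp, hπ⟩ := exists_fp_epi F hF
  haveI := hPq
  haveI := hπ
  let K : X.Modules := kernel π
  haveI hKq : K.IsQuasicoherent := Groth.Agent.Lib.Helper21.QCohKernel.isQuasicoherent_kernel π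
  have hπsurj : ∀ W : X.Opens, IsAffineOpen W → Function.Surjective (π.app W) :=
    fun W hW => app_surjective_of_epi π hW
  have hKfin : ∀ W : X.Opens, IsAffineOpen W → W ≤ U → Module.Finite Γ(X, W) Γ(K, W) := by
    intro W hWa hWU
    haveI := fp_sections_of_restrict F U hFU hWa hWU
    haveI := hPfp
    haveI : Module.FinitePresentation Γ(X, W) Γ(P, W) :=
      Groth.Agent.Lib.Helper2.FinTypeAff.finitePresentation_sections P hWa
    have hker : (LinearMap.ker (appL π W)).FG :=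
      Module.FinitePresentation.fg_ker (appL π W) (hπsurj W hWa)
    rw [Module.finite_def]
    apply Submodule.fg_of_fg_map_injective (appL (kernel.ι π) W) (app_kernelι_injective π W)
    have : Submodule.map (appL (kernel.ι π) W) ⊤ = LinearMap.ker (appL π W) := by
      ext s
      simp only [Submodule.map_top, LinearMap.mem_range, LinearMap.mem_ker, appL_apply]
      constructor
      · rintro ⟨t, rfl⟩
        exact app_kernelι_comp π W t
      · intro hs
        exact exists_of_app_eq_zero π W s hs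
    rw [this]
    exact hker
  obtain ⟨K', κ', hmonoK, hqK', hftK', hsurjK', -⟩ := exists_ft_sub K U hU hKfin
    (isAffineOpen_bot X) ⊥ Submodule.fg_bot
  haveI := hqK'
  let i₀ : K' ⟶ P := κ' ≫ kernel.ι π
  let Q : X.Modules := cokernel i₀
  haveI hQq : Q.IsQuasicoherent :=
    Groth.Agent.Lib.Helper21.QCohKernel.isQuasicoherent_cokernel i₀
  have hQfp : SheafOfModules.IsFinitePresentation (R := X.ringCatSheaf) Q :=
    isFinitePresentation_cokernel i₀ hftK' hPfp
  have hi₀π : i₀ ≫ π = 0 := by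
    simp only [i₀, Category.assoc, kernel.condition, comp_zero]
  let ρ : Q ⟶ F := cokernel.desc i₀ π hi₀π
  have hπρ : cokernel.π i₀ ≫ ρ = π := cokernel.π_desc _ _ _
  have hπρ' : ∀ (W : X.Opens) (e : Γ(P, W)), ρ.app W ((cokernel.π i₀).app W e) = π.app W e :=
    fun W e => congr($(congrArg (fun φ : P ⟶ F => φ.app W) hπρ) e)
  have hρepi : Epi ρ := epi_of_epi_fac hπρ
  refine ⟨Q, ρ, hQfp, hρepi, ?_⟩
  apply Groth.Agent.Lib.Helper60.TensorLib.isIso_of_app_bijective
  intro T'
  change Function.Bijective (ρ.app (U.ι ''ᵁ T'))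
  apply bijective_of_affine
  intro W hWa hWT
  have hWU : W ≤ U := hWT.trans (U.ι_image_le T')
  have hcπsurj : Function.Surjective ((cokernel.π i₀).app W) :=
    app_surjective_of_epi (cokernel.π i₀) hWa
  constructor
  · rw [injective_iff_map_eq_zero]
    intro q hq
    obtain ⟨e, rfl⟩ := hcπsurj q
    rw [hπρ'] at hq
    obtain ⟨k, hk⟩ := exists_of_app_eq_zero π W e hq
    obtain ⟨k', hk'⟩ := hsurjK' W hWU k
    have h5 : i₀.app W k' = e := by
      change (kernel.ι π).app W (κ'.app W k') = e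
      rw [hk', hk]
    rw [← h5]
    exact congr($(congrArg (fun φ : K' ⟶ Q => φ.app W) (cokernel.condition i₀)) k')
  · intro n
    obtain ⟨e, he⟩ := hπsurj W hWa n
    exact ⟨(cokernel.π i₀).app W e, (hπρ' W e).trans he⟩

end Groth.Agent.S9820
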