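import Groth.Statements.S2115
import Groth.Agent.Lib.Helper40.ExtFP3
import Groth.Agent.Lib.Helper60.TensorMod
import Groth.Agent.S9820

set_option autoImplicit false
universe u
open CategoryTheory AlgebraicGeometry
open Mor

namespace Groth.Agent.S2115

open Limits Opposite TopologicalSpace Groth.Agent.Lib.Helper40 Groth.Agent.Lib.Helper40.ExtFP
  Groth.Agent.Lib.Helper21.QCohSections Scheme.Modules

/-- Let `X` be quasi-compact and quasi-separated, `F` a quasi-coherent `O_X`-module, `U ⊆ X` a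
quasi-compact open and `G` a finitely presented `O_U`-module with a map `φ : G → F|_U`. Then there
are a finitely presented `O_X`-module `G'` with a map `φ' : G' → F` and an isomorphism `G'|_U ≅ G`
identifying `φ'|_U` with `φ`. -/
theorem result (X : Scheme.{u}) [CompactSpace X] [QuasiSeparatedSpace X]
    (F : X.Modules) (hF : Coh.IsQCoh F) (U : X.Opens) (hU : IsCompact (U : Set X)) (G : (U : Scheme.{u}).Modules)
    (hG : CohB1.IsFP G) (φ : G ⟶ F.restrict U.ι) :
    ∃ (G' : X.Modules) (φ' : G' ⟶ F) (e : G'.restrict U.ι ≅ G), CohB1.IsFP G' ∧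
      e.hom ≫ φ = (Scheme.Modules.restrictFunctor U.ι).map φ' := by
  classical
  haveI : F.IsQuasicoherent := hF
  haveI : SheafOfModules.IsFinitePresentation (R := (U : Scheme.{u}).ringCatSheaf) G := hG
  haveI : G.IsQuasicoherent := inferInstance
  haveI := quasiCompact_ι_of_isCompact U hU
  let B : X.Modules := (pushforward U.ι).obj G
  let jφ : B ⟶ (HV U).obj F := (pushforward U.ι).map φ
  haveI hBq : B.IsQuasicoherent :=
    Groth.Agent.Lib.Helper2.KerSec.isQuasicoherent_pushforward_of_qcqs U.ι G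
  haveI hHq : ((HV U).obj F).IsQuasicoherent := isQuasicoherent_HV U hU F
  let Hm : X.Modules := pullback (ηV U F) jφ
  let p1 : Hm ⟶ F := pullback.fst _ _
  let p2 : Hm ⟶ B := pullback.snd _ _
  have hpb : IsPullback p1 p2 (ηV U F) jφ := IsPullback.of_hasPullback _ _
  haveI hHmq : Hm.IsQuasicoherent := QCohLim.isQuasicoherent_of_isPullback hpb
  have hp2 : ∀ W : X.Opens, W ≤ U → Function.Bijective (p2.app W) := fun W hW =>
    pb_snd_bijective hpb W (ηV_app_bijective U F hW)
  -- B is finitely presented on U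
  let cG : B.restrict U.ι ≅ G := asIso ((restrictAdjunction U.ι).counit.app G)
  have hBU : SheafOfModules.IsFinitePresentation (R := (U : Scheme.{u}).ringCatSheaf)
      (B.restrict U.ι) :=
    (SheafOfModules.isFinitePresentation (U : Scheme.{u}).ringCatSheaf).prop_of_iso cG.symm hG
  have hBfp : FPOn B U := by
    intro x hx
    obtain ⟨_, ⟨W, hW : IsAffineOpen W, rfl⟩, hxW, hWU⟩ :=
      (X.isBasis_affineOpens).exists_subset_of_mem_open hx U.isOpen
    exact ⟨W, hW, hxW, Groth.Agent.S9820.fp_sections_of_restrict B U hBU hW hWU⟩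
  have hHmfp : FPOn Hm U := FPOn.of_bijective p2 hp2 hBfp
  obtain ⟨s, hsfin, hs⟩ := (isCompact_iff_finite_and_eq_biUnion_affineOpens (U := (⊤ : X.Opens))).1
    (by rw [Opens.coe_top]; exact isCompact_univ)
  obtain ⟨H₂, p, hq₂, hb₂, hfp₂⟩ := exists_fp_over_list hsfin.toFinset.toList U hU Hm hHmq hHmfp
  haveI := hq₂
  have hfp : SheafOfModules.IsFinitePresentation (R := X.ringCatSheaf) H₂ := by
    apply FPOn.isFinitePresentation
    apply hfp₂ ⊤
    intro x _
    have hx : x ∈ (⊤ : X.Opens) := trivial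
    rw [hs] at hx
    obtain ⟨V, hx⟩ := Opens.mem_iSup.mp hx
    obtain ⟨hV, hxV⟩ := Opens.mem_iSup.mp hx
    exact Or.inr ⟨V, by simpa using hV, hxV⟩
  -- the isomorphism over U
  let ψ : H₂ ⟶ B := p ≫ p2
  have hψ : ∀ W : X.Opens, W ≤ U → Function.Bijective (ψ.app W) := fun W hW =>
    (hp2 W hW).comp (hb₂ W hW)
  haveI hiso : IsIso ((restrictFunctor U.ι).map ψ) := by
    apply Groth.Agent.Lib.Helper60.TensorLib.isIso_of_app_bijective
    intro T
    exact hψ (U.ι ''ᵁ T) (by
      rintro _ ⟨y, -, rfl⟩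
      exact y.2)
  let e : H₂.restrict U.ι ≅ G := asIso ((restrictFunctor U.ι).map ψ) ≪≫ cG
  refine ⟨H₂, p ≫ p1, e, hfp, ?_⟩
  have hw : p1 ≫ ηV U F = p2 ≫ jφ := hpb.w
  have hnat : (restrictFunctor U.ι).map jφ ≫ (restrictAdjunction U.ι).counit.app (F.restrict U.ι) =
      (restrictAdjunction U.ι).counit.app G ≫ φ :=
    (restrictAdjunction U.ι).counit.naturality φ
  have htri : (restrictFunctor U.ι).map (ηV U F) ≫
      (restrictAdjunction U.ι).counit.app ((restrictFunctor U.ι).obj F) = 𝟙 _ :=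
    (restrictAdjunction U.ι).left_triangle_components F
  change ((restrictFunctor U.ι).map ψ ≫ (restrictAdjunction U.ι).counit.app G) ≫ φ = _
  rw [Category.assoc, ← hnat, ← Category.assoc, ← Functor.map_comp]
  have h3 : ψ ≫ jφ = (p ≫ p1) ≫ ηV U F := by
    simp only [ψ, Category.assoc, hw]
  rw [h3, Functor.map_comp, Category.assoc]
  erw [htri]
  rw [Category.comp_id]

end Groth.Agent.S2115
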