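import Groth.Statements.S2119
import Mathlib

set_option autoImplicit false
universe u
open CAlg

namespace Groth.Agent.S2119

lemma cancel_aux {A : Type*} [CommRing A] [IsDomain A] (a : A) (m : Multiset A)
    (hm : ∀ p ∈ m, Prime p ∧ ¬ p ∣ a) : ∀ d : A, m.prod ∣ a * d → m.prod ∣ d := by
  induction m using Multiset.induction with
  | empty => intro d _; simp
  | cons p m ih =>
    intro d hd
    rw [Multiset.prod_cons] at hd ⊢
    have hp := hm p (Multiset.mem_cons_self p m)
    have hpd : p ∣ d := by
      have : p ∣ a * d := dvd_trans (dvd_mul_right p m.prod) hd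
      exact (hp.1.dvd_or_dvd this).resolve_left hp.2
    obtain ⟨d', rfl⟩ := hpd
    have h1 : p * m.prod ∣ p * (a * d') := by
      have : a * (p * d') = p * (a * d') := by ring
      rwa [this] at hd
    have h2 : m.prod ∣ a * d' := (mul_dvd_mul_iff_left hp.1.ne_zero).mp h1
    have h3 := ih (fun q hq => hm q (Multiset.mem_cons_of_mem hq)) d' h2
    exact mul_dvd_mul_left p h3

lemma split_aux {A : Type*} [CommRing A] [IsDomain A] (S : Submonoid A) (m : Multiset A)
    (hm : ∀ p ∈ m, Prime p ∧ p ∈ S) : ∀ a b c : A, m.prod * a = b * c →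
      ∃ s₁ ∈ S, ∃ s₂ ∈ S, ∃ b' c' : A, b = s₁ * b' ∧ c = s₂ * c' ∧ a = b' * c' := by
  induction m using Multiset.induction with
  | empty =>
    intro a b c h
    refine ⟨1, S.one_mem, 1, S.one_mem, b, c, by simp, by simp, by simpa using h⟩
  | cons p m ih =>
    intro a b c h
    rw [Multiset.prod_cons] at h
    have hp := hm p (Multiset.mem_cons_self p m)
    have hpbc : p ∣ b * c := ⟨m.prod * a, by rw [← h]; ring⟩
    rcases hp.1.dvd_or_dvd hpbc with ⟨b₁, rfl⟩ | ⟨c₁, rfl⟩
    · have h' : m.prod * a = b₁ * c := by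
        apply mul_left_cancel₀ hp.1.ne_zero
        rw [← mul_assoc, h]; ring
      obtain ⟨s₁, hs₁, s₂, hs₂, b', c', hb, hc, ha⟩ :=
        ih (fun q hq => hm q (Multiset.mem_cons_of_mem hq)) a b₁ c h'
      exact ⟨p * s₁, S.mul_mem hp.2 hs₁, s₂, hs₂, b', c', by rw [hb]; ring, hc, ha⟩
    · have h' : m.prod * a = b * c₁ := by
        apply mul_left_cancel₀ hp.1.ne_zero
        rw [← mul_assoc, h]; ring
      obtain ⟨s₁, hs₁, s₂, hs₂, b', c', hb, hc, ha⟩ :=
        ih (fun q hq => hm q (Multiset.mem_cons_of_mem hq)) a b c₁ h'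
      exact ⟨s₁, hs₁, p * s₂, S.mul_mem hp.2 hs₂, b', c', hb, by rw [hc]; ring, ha⟩

lemma cancel {A : Type*} [CommRing A] [IsDomain A] (P : Set A) (hP : ∀ p ∈ P, Prime p)
    (a : A) (ha : ∀ p ∈ P, ¬ p ∣ a) (s : A) (hs : s ∈ Submonoid.closure P) (d : A)
    (h : s ∣ a * d) : s ∣ d := by
  obtain ⟨m, hm, rfl⟩ := Submonoid.exists_multiset_of_mem_closure hs
  exact cancel_aux a m (fun p hp => ⟨hP p (hm p hp), ha p (hm p hp)⟩) d h

lemma split {A : Type*} [CommRing A] [IsDomain A] (P : Set A) (hP : ∀ p ∈ P, Prime p)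
    (s : A) (hs : s ∈ Submonoid.closure P) (a b c : A) (h : s * a = b * c) :
    ∃ s₁ ∈ Submonoid.closure P, ∃ s₂ ∈ Submonoid.closure P, ∃ b' c' : A,
      b = s₁ * b' ∧ c = s₂ * c' ∧ a = b' * c' := by
  obtain ⟨m, hm, rfl⟩ := Submonoid.exists_multiset_of_mem_closure hs
  exact split_aux _ m (fun p hp => ⟨hP p (hm p hp), Submonoid.subset_closure (hm p hp)⟩) a b c h

lemma prime_of_irreducible {A : Type u} [CommRing A] [IsDomain A] (P : Set A)
    (hP : ∀ p ∈ P, Prime p) [IsDomain (Localization (Submonoid.closure P))]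
    (hS : UniqueFactorizationMonoid (Localization (Submonoid.closure P)))
    (a : A) (ha : Irreducible a) : Prime a := by
  by_cases hdiv : ∃ p ∈ P, p ∣ a
  · obtain ⟨p, hp, hpa⟩ := hdiv
    exact ((hP p hp).irreducible.associated_of_dvd ha hpa).prime (hP p hp)
  push Not at hdiv
  set S := Submonoid.closure P with hSdef
  set L := Localization S with hLdef
  have hSle : S ≤ nonZeroDivisors A :=
    Submonoid.closure_le.mpr (fun p hp => mem_nonZeroDivisors_of_ne_zero (hP p hp).ne_zero)
  have hφ : Function.Injective (algebraMap A L) := IsLocalization.injective L hSle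
  have hS0 : ∀ s ∈ S, s ≠ 0 := fun s hs => nonZeroDivisors.ne_zero (hSle hs)
  have hirr : Irreducible (algebraMap A L a) := by
    constructor
    · intro hu
      obtain ⟨z, hz⟩ := hu.exists_right_inv
      obtain ⟨⟨b, s⟩, hbs⟩ := IsLocalization.surj S z
      simp only at hbs
      have h1 : algebraMap A L (a * b) = algebraMap A L s := by
        rw [map_mul, ← hbs, ← mul_assoc, hz, one_mul]
      have h2 : a * b = s := hφ h1
      have h3 : (s : A) ∣ b := cancel P hP a hdiv s s.2 b ⟨1, by rw [h2, mul_one]⟩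
      obtain ⟨b', hb'⟩ := h3
      have h4 : (s : A) * (a * b') = s * 1 := by
        rw [mul_one]; nth_rewrite 2 [← h2]; rw [hb']; ring
      have h5 : a * b' = 1 := mul_left_cancel₀ (hS0 s s.2) h4
      exact ha.not_isUnit (IsUnit.of_mul_eq_one _ h5)
    · intro x y hxy
      obtain ⟨⟨b, s⟩, hbs⟩ := IsLocalization.surj S x
      obtain ⟨⟨c, t⟩, hct⟩ := IsLocalization.surj S y
      simp only at hbs hct
      have h1 : algebraMap A L ((s * t : S) * a) = algebraMap A L (b * c) := by
        rw [map_mul, map_mul, hxy, ← hbs, ← hct, Submonoid.coe_mul, map_mul]; ring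
      have h2 : ((s * t : S) : A) * a = b * c := hφ h1
      obtain ⟨s₁, hs₁, s₂, hs₂, b', c', hb, hc, ha'⟩ :=
        split P hP _ (s * t : S).2 a b c h2
      rcases ha.isUnit_or_isUnit ha' with hu | hu
      · left
        have : IsUnit (algebraMap A L b) := by
          rw [hb, map_mul]
          exact (IsLocalization.map_units L ⟨s₁, hs₁⟩).mul (hu.map _)
        rw [← hbs] at this
        exact isUnit_of_mul_isUnit_left this
      · right
        have : IsUnit (algebraMap A L c) := by
          rw [hc, map_mul]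
          exact (IsLocalization.map_units L ⟨s₂, hs₂⟩).mul (hu.map _)
        rw [← hct] at this
        exact isUnit_of_mul_isUnit_left this
  have hprime : Prime (algebraMap A L a) := hS.irreducible_iff_prime.mp hirr
  have key : ∀ b : A, algebraMap A L a ∣ algebraMap A L b → a ∣ b := by
    intro b hb
    obtain ⟨z, hz⟩ := hb
    obtain ⟨⟨d, s⟩, hds⟩ := IsLocalization.surj S z
    simp only at hds
    have h1 : algebraMap A L (b * s) = algebraMap A L (a * d) := by
      rw [map_mul, map_mul, hz, ← hds]; ring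
    have h2 : b * s = a * d := hφ h1
    have h3 : (s : A) ∣ d := cancel P hP a hdiv s s.2 d ⟨b, by rw [← h2]; ring⟩
    obtain ⟨d', hd'⟩ := h3
    refine ⟨d', ?_⟩
    apply mul_right_cancel₀ (hS0 s s.2)
    rw [h2, hd']; ring
  refine ⟨ha.ne_zero, ha.not_isUnit, ?_⟩
  intro b c hbc
  have : algebraMap A L a ∣ algebraMap A L b * algebraMap A L c := by
    rw [← map_mul]; exact map_dvd _ hbc
  rcases hprime.dvd_or_dvd this with h | h
  · exact Or.inl (key b h)
  · exact Or.inr (key c h)

/-- Nagata's criterion for factoriality, final assertion: let `A` be a domain in which every nonzero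
nonunit factors into irreducibles, and `S` the multiplicative subset generated by a set of prime
elements. If the localization `S⁻¹A` is a unique factorization domain, then so is `A`. -/
theorem result {A : Type u} [CommRing A] [IsDomain A]
    (hfac : ∀ a : A, a ≠ 0 → ¬ IsUnit a → ∃ f : Multiset A, (∀ b ∈ f, Irreducible b) ∧ Associated f.prod a) (P : Set A)
    (hP : ∀ p ∈ P, Prime p) [IsDomain (Localization (Submonoid.closure P))]
    (hS : UniqueFactorizationMonoid (Localization (Submonoid.closure P))) : UniqueFactorizationMonoid A := by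
  apply UniqueFactorizationMonoid.of_exists_prime_factors
  intro a ha0
  by_cases hu : IsUnit a
  · exact ⟨0, by simp, by simpa using (associated_one_iff_isUnit.mpr hu).symm⟩
  · obtain ⟨f, hf, hfa⟩ := hfac a ha0 hu
    exact ⟨f, fun b hb => prime_of_irreducible P hP hS b (hf b hb), hfa⟩

end Groth.Agent.S2119
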