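import Groth.Statements.S2120
import Mathlib

set_option autoImplicit false
universe u
open CategoryTheory AlgebraicGeometry
open Mor

namespace Groth.Agent.S2120

open CategoryTheory.Limits

lemma qsep {X Y : Scheme.{u}} (f : X ⟶ Y) [Surjective f] [UniversallyClosed f]
    (hX : QuasiSeparatedSpace X) : QuasiSeparatedSpace Y := by
  constructor
  intro U V hU hUc hV hVc
  have h1 : IsCompact (f ⁻¹' U ∩ f ⁻¹' V) :=
    hX.inter_isCompact _ _ (hU.preimage f.continuous)
      (QuasiCompact.isCompact_preimage (f := f) U hU hUc)
      (hV.preimage f.continuous) (QuasiCompact.isCompact_preimage (f := f) V hV hVc)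
  rw [← Set.preimage_inter] at h1
  have h2 := h1.image f.continuous
  rwa [Set.image_preimage_eq _ f.surjective] at h2

lemma sep {X Y : Scheme.{u}} (f : X ⟶ Y) [Surjective f] [UniversallyClosed f]
    (hX : X.IsSeparated) : Y.IsSeparated := by
  rw [Scheme.isSeparated_iff, AlgebraicGeometry.isSeparated_iff]
  have hcomp : f ≫ terminal.from Y = terminal.from X := terminal.comp_from f
  let F : pullback (terminal.from X) (terminal.from X) ⟶
      pullback (terminal.from Y) (terminal.from Y) :=
    pullback.map (terminal.from X) (terminal.from X) (terminal.from Y) (terminal.from Y) f f (𝟙 _)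
      ((Category.comp_id _).trans hcomp.symm) ((Category.comp_id _).trans hcomp.symm)
  have hF : UniversallyClosed F :=
    MorphismProperty.pullbackMap (P := @UniversallyClosed) (inferInstance : UniversallyClosed f)
      (inferInstance : UniversallyClosed f) hcomp.symm hcomp.symm
  have hsq : pullback.diagonal (terminal.from X) ≫ F = f ≫ pullback.diagonal (terminal.from Y) := by
    apply pullback.hom_ext
    · simp only [Category.assoc, F, pullback.lift_fst, pullback.diagonal_fst_assoc,
        pullback.diagonal_fst, Category.comp_id]
    · simp only [Category.assoc, F, pullback.lift_snd, pullback.diagonal_snd_assoc,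
        pullback.diagonal_snd, Category.comp_id]
  apply IsClosedImmersion.of_isPreimmersion
  have h1 : Set.range (pullback.diagonal (terminal.from Y)) =
      F '' Set.range (pullback.diagonal (terminal.from X)) := by
    rw [← Set.range_comp]
    have : (F : _ → _) ∘ (pullback.diagonal (terminal.from X) : _ → _) =
        (pullback.diagonal (terminal.from Y) : _ → _) ∘ (f : _ → _) := by
      ext x
      have := congrArg (fun g => g.base x) hsq
      simpa using this
    rw [this, Set.range_comp, Set.range_eq_univ.mpr f.surjective, Set.image_univ]
  rw [h1]
  apply F.isClosedMap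
  exact (pullback.diagonal (terminal.from X)).isClosedEmbedding.isClosed_range

/-- Let `f : X → Y` be surjective and universally closed. If `X` is quasi-separated then so is `Y`; if
`X` is separated then so is `Y`. -/
theorem result {X Y : Scheme.{u}} (f : X ⟶ Y) [Surjective f] [UniversallyClosed f] :
    (QuasiSeparatedSpace X → QuasiSeparatedSpace Y) ∧ (X.IsSeparated → Y.IsSeparated) :=
  ⟨qsep f, sep f⟩

end Groth.Agent.S2120
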