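import Groth.Statements.S2121
import Mathlib

set_option autoImplicit false
universe u
open CategoryTheory AlgebraicGeometry
open Mor

namespace Groth.Agent.S2121

open IsLocalRing

set_option backward.isDefEq.respectTransparency.types false in
lemma exists_valuationRing_of_specializes {X Y : Scheme.{u}} (f : X ⟶ Y) (x' : X) (z : Y)
    (h : f x' ⤳ z) :
    ∃ (A : Type u) (_ : CommRing A) (_ : IsDomain A) (_ : ValuationRing A)
      (x : Spec (CommRingCat.of (FractionRing A)) ⟶ X) (y : Spec (CommRingCat.of A) ⟶ Y),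
      x ≫ f = Spec.map (CommRingCat.ofHom (algebraMap A (FractionRing A))) ≫ y ∧
      y.base (IsLocalRing.closedPoint A) = z := by
  let stalk_y_to_residue_x' : Y.presheaf.stalk z ⟶ X.residueField x' :=
    Y.presheaf.stalkSpecializes h ≫ f.stalkMap x' ≫ X.residue x'
  obtain ⟨A, hA, hA_local⟩ := exists_factor_valuationRing stalk_y_to_residue_x'.hom
  let stalk_y_to_A : Y.presheaf.stalk z ⟶ .of A :=
    CommRingCat.ofHom (stalk_y_to_residue_x'.hom.codRestrict _ hA)
  have w : X.fromSpecResidueField x' ≫ f =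
      Spec.map (CommRingCat.ofHom (algebraMap A (X.residueField x'))) ≫
        Spec.map stalk_y_to_A ≫ Y.fromSpecStalk z := by
    rw [Scheme.fromSpecResidueField, Category.assoc, ← Scheme.SpecMap_stalkMap_fromSpecStalk,
      ← Scheme.SpecMap_stalkSpecializes_fromSpecStalk h]
    simp_rw [← Spec.map_comp_assoc]
    rfl
  let e : FractionRing A ≃ₐ[A] X.residueField x' := FractionRing.algEquiv A (X.residueField x')
  refine ⟨A, inferInstance, inferInstance, inferInstance,
    Spec.map (CommRingCat.ofHom (e.symm : X.residueField x' →+* FractionRing A)) ≫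
      X.fromSpecResidueField x',
    Spec.map stalk_y_to_A ≫ Y.fromSpecStalk z, ?_, ?_⟩
  · rw [Category.assoc, w, ← Spec.map_comp_assoc]
    congr 2
    ext a
    exact e.symm.commutes a
  · simp only [Scheme.Hom.comp_base, TopCat.coe_comp, Function.comp_apply]
    have : Spec.map stalk_y_to_A (closedPoint A) = closedPoint (Y.presheaf.stalk z) :=
      comap_closedPoint (S := A) (stalk_y_to_residue_x'.hom.codRestrict A.toSubring hA)
    rw [this, Y.fromSpecStalk_closedPoint]

lemma exists_specializes {X Y : Scheme.{u}} (f : X ⟶ Y) [QuasiCompact f] (z : Y)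
    (hz : z ∈ closure (Set.range f.base)) : ∃ x' : X, f x' ⤳ z := by
  obtain ⟨V, hV, hzV, -⟩ := exists_isAffineOpen_mem_and_subset (x := z) (U := (⊤ : Y.Opens)) trivial
  have hcomp : IsCompact ((f ⁻¹ᵁ V : X.Opens) : Set X) :=
    QuasiCompact.isCompact_preimage (f := f) V V.2 hV.isCompact
  obtain ⟨B, g, hg⟩ := isCompact_iff_exists.mp hcomp
  have hrange : Set.range (g ≫ f) ⊆ Set.range hV.fromSpec := by
    rw [hV.range_fromSpec]
    rintro _ ⟨s, rfl⟩
    have : g s ∈ Set.range g := ⟨s, rfl⟩
    rw [hg] at this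
    exact this
  let h : Spec B ⟶ Spec Γ(Y, V) := IsOpenImmersion.lift hV.fromSpec (g ≫ f) hrange
  have hfac : h ≫ hV.fromSpec = g ≫ f := IsOpenImmersion.lift_fac _ _ _
  obtain ⟨z', hz'⟩ : z ∈ Set.range hV.fromSpec := by rw [hV.range_fromSpec]; exact hzV
  have hz'cl : z' ∈ closure (Set.range h) := by
    rw [hV.fromSpec.isOpenEmbedding.isInducing.closure_eq_preimage_closure_image]
    rw [Set.mem_preimage, hz', ← Set.range_comp]
    have h1 : z ∈ (V : Set Y) ∩ closure (Set.range f) := ⟨hzV, hz⟩
    have h2 := V.2.inter_closure h1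
    refine closure_mono ?_ h2
    rintro _ ⟨hy, x, rfl⟩
    have hx : x ∈ Set.range g := by rw [hg]; exact hy
    obtain ⟨s, rfl⟩ := hx
    refine ⟨s, ?_⟩
    have := congrArg (fun φ => φ.base s) hfac
    simpa using this
  obtain ⟨φ, hφ⟩ : ∃ φ : Γ(Y, V) ⟶ B, Spec.map φ = h := ⟨Spec.preimage h, Spec.map_preimage h⟩
  rw [← hφ] at hz'cl
  have hz'zl : z' ∈ PrimeSpectrum.zeroLocus (RingHom.ker φ.hom : Set Γ(Y, V)) := by
    rw [← PrimeSpectrum.closure_range_comap]
    exact hz'cl
  have hle : (⊥ : Ideal B).comap φ.hom ≤ z'.asIdeal := by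
    rw [← RingHom.ker_eq_comap_bot]
    exact hz'zl
  obtain ⟨Q, -, hQ, hQle⟩ := Ideal.exists_ideal_comap_le_prime z'.asIdeal (⊥ : Ideal B) hle
  let q : Spec B := ⟨Q, hQ⟩
  refine ⟨g q, ?_⟩
  have h3 : h q ⤳ z' := by
    rw [← hφ]
    exact (PrimeSpectrum.le_iff_specializes (PrimeSpectrum.comap φ.hom q) z').mp hQle
  have h4 : f (g q) = hV.fromSpec (h q) := by
    have := congrArg (fun φ => φ.base q) hfac
    simpa using this.symm
  rw [h4, ← hz']
  exact h3.map hV.fromSpec.continuous

/-- Let `f : X → Y` be quasi-compact and `z` a point in the closure of `f(X)` (the underlying set of the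
scheme theoretic image). Then there are a valuation ring `A` with fraction field `K` and morphisms
`Spec K → X`, `Spec A → Y` forming a commutative square with `f` and `Spec K → Spec A`, such that
the closed point of `Spec A` maps to `z`. -/
theorem result {X Y : Scheme.{u}} (f : X ⟶ Y) [QuasiCompact f] (z : Y)
    (hz : z ∈ closure (Set.range f.base)) :
    ∃ (A : Type u) (_ : CommRing A) (_ : IsDomain A) (_ : ValuationRing A)
      (x : Spec (CommRingCat.of (FractionRing A)) ⟶ X) (y : Spec (CommRingCat.of A) ⟶ Y),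
      x ≫ f = Spec.map (CommRingCat.ofHom (algebraMap A (FractionRing A))) ≫ y ∧
      y.base (IsLocalRing.closedPoint A) = z := by
  obtain ⟨x', hx'⟩ := exists_specializes f z hz
  exact exists_valuationRing_of_specializes f x' z hx'

end Groth.Agent.S2121
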