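import Groth.Statements.S2123
import Mathlib

set_option autoImplicit false
universe u
open CategoryTheory AlgebraicGeometry
open Mor

namespace Groth.Agent.S2123

open IsLocalRing

/-- Let `X` be an integral separated scheme and `x, y` points such that the closure of `x` is not
contained in the closure of `y`. Then, inside the function field of `X`, the local ring at `x` is
not contained in the local ring at `y`. -/
theorem result (X : Scheme.{u}) [IsIntegral X] [X.IsSeparated] (x y : X)
    (h : ¬ closure ({x} : Set X) ⊆ closure {y}) :
    ¬ Set.range (X.presheaf.stalkSpecializes (genericPoint_specializes x)) ⊆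
        Set.range (X.presheaf.stalkSpecializes (genericPoint_specializes y)) := by
  intro hsub
  apply h
  suffices hyx : y ⤳ x by
    exact closure_minimal (Set.singleton_subset_iff.mpr (specializes_iff_mem_closure.mp hyx))
      isClosed_closure
  let ιx := X.presheaf.stalkSpecializes (genericPoint_specializes x)
  let ιy := X.presheaf.stalkSpecializes (genericPoint_specializes y)
  have hιy : Function.Injective ιy.hom :=
    IsFractionRing.injective (X.presheaf.stalk y) X.functionField
  have hex : ∀ a : X.presheaf.stalk x, ∃ b : X.presheaf.stalk y, ιy.hom b = ιx.hom a :=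
    fun a => hsub ⟨a, rfl⟩
  choose α' hα' using hex
  let α : X.presheaf.stalk x →+* X.presheaf.stalk y :=
    { toFun := α'
      map_one' := hιy (by rw [hα', map_one, map_one])
      map_mul' := fun a b => hιy (by rw [hα', map_mul, map_mul, hα', hα'])
      map_zero' := hιy (by rw [hα', map_zero, map_zero])
      map_add' := fun a b => hιy (by rw [hα', map_add, map_add, hα', hα']) }
  have hα : CommRingCat.ofHom α ≫ ιy = ιx := by
    ext a
    exact hα' a
  have hdom : IsDominant (Spec.map ιy) := by
    constructor
    change DenseRange (PrimeSpectrum.comap ιy.hom)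
    rw [PrimeSpectrum.denseRange_comap_iff_ker_le_nilRadical,
      (RingHom.injective_iff_ker_eq_bot _).mp hιy]
    exact bot_le
  have key : Spec.map (CommRingCat.ofHom α) ≫ X.fromSpecStalk x = X.fromSpecStalk y := by
    apply ext_of_isDominant (ι := Spec.map ιy)
    rw [← Category.assoc, ← Spec.map_comp, hα, Scheme.SpecMap_stalkSpecializes_fromSpecStalk,
      Scheme.SpecMap_stalkSpecializes_fromSpecStalk]
  have h1 := congrArg (fun φ => φ.base (closedPoint (X.presheaf.stalk y))) key
  simp only [Scheme.Hom.comp_base, TopCat.coe_comp, Function.comp_apply] at h1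
  rw [Scheme.fromSpecStalk_closedPoint] at h1
  have hy_range : y ∈ Set.range (X.fromSpecStalk x) := ⟨_, h1⟩
  rw [Scheme.range_fromSpecStalk] at hy_range
  exact hy_range

end Groth.Agent.S2123
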