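import Mathlib
-- Template for statement S2124 (row 2123; see the milestone table for weights).
-- Copy to Groth/Agent/S2124.lean and replace the sorry. The statement below is byte-identical to the frozen
-- statement CAlg.GrothFrozen.S2124 (Groth/Statements/S2124.lean; the theorem CAlg.universallyInjective_adicCompletion_finsupp_to_pi);
-- the grader kernel-checks Groth.Agent.S2124.result against that frozen type. Keep the theorem IN THIS FILE
-- (a `result` declared elsewhere and merely imported here is not credited); helpers may live anywhere
-- under Groth/Agent/.
import Groth.Statements.S2124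
import Groth.Agent.Lib.Helper24.DecayingCompl

set_option autoImplicit false
universe u
open CAlg

namespace Groth.Agent.S2124

/-- Let `R` be Noetherian and `I`-adically complete and `α` any index set. The map from the `I`-adic
completion of the direct sum `⊕_α R` to the product `∏_α R^∧ = ∏_α R`, induced by the coordinate
projections, is universally injective. -/
theorem result {R : Type u} [CommRing R] [IsNoetherianRing R] (I : Ideal R)
    [IsAdicComplete I R] (α : Type u) :
    CAlgX.UniversallyInjective R
      (LinearMap.pi fun a : α => AdicCompletion.map I (Finsupp.lapply a : (α →₀ R) →ₗ[R] R) :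
        AdicCompletion I (α →₀ R) →ₗ[R] (α → AdicCompletion I R)) := by
  intro Q _ _
  obtain ⟨e, he⟩ := Groth.Agent.Lib.Helper24.DecayingCompl.exists_equiv I α
  let c : AdicCompletion I R ≃ₗ[R] R := (AdicCompletion.ofLinearEquiv I R).symm
  let d := Groth.Agent.Lib.Helper97.Decaying.decayingCongr I α c
  refine Groth.Agent.Lib.Helper24.DecayingTau.rTensor_injective I α (e.trans d) _ c.toLinearMap
    (fun x a => ?_) Q
  rw [LinearEquiv.trans_apply]
  change _ = c ((e x : α → AdicCompletion I R) a)
  rw [he x a]
  rfl

end Groth.Agent.S2124
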