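import Groth.Statements.S2131
import Mathlib

set_option autoImplicit false
universe u
open CAlg

namespace Groth.Agent.S2131

lemma map_bijective_of_le {R M N : Type*} [CommRing R] [AddCommGroup M] [Module R M]
    [AddCommGroup N] [Module R N] (S T : Submonoid R) (h : S ≤ T) (f : M →ₗ[R] N)
    (hf : Function.Bijective (LocalizedModule.map S f)) :
    Function.Bijective (LocalizedModule.map T f) := by
  constructor
  · rw [injective_iff_map_eq_zero]
    intro x hx
    induction x using LocalizedModule.induction_on with | _ m t
    rw [LocalizedModule.map_mk, ← LocalizedModule.zero_mk t, LocalizedModule.mk_eq] at hx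
    obtain ⟨u, hu⟩ := hx
    simp only [smul_zero, Submonoid.smul_def] at hu
    have h1 : LocalizedModule.map S f (LocalizedModule.mk (((u : R) * (t : R)) • m) 1) = 0 := by
      rw [LocalizedModule.map_mk, ← LocalizedModule.zero_mk 1]
      congr 1
      rw [map_smul, mul_smul]
      exact hu
    have h2 := hf.1 (h1.trans (map_zero _).symm)
    rw [← LocalizedModule.zero_mk 1, LocalizedModule.mk_eq] at h2
    obtain ⟨s, hs⟩ := h2
    simp only [smul_zero, one_smul, Submonoid.smul_def] at hs
    rw [← LocalizedModule.zero_mk t, LocalizedModule.mk_eq]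
    refine ⟨⟨s.1, h s.2⟩ * u, ?_⟩
    simp only [smul_zero, Submonoid.smul_def, Submonoid.coe_mul]
    rw [mul_smul, ← mul_smul (u : R) (t : R)]
    exact hs
  · intro y
    induction y using LocalizedModule.induction_on with | _ n t
    obtain ⟨x, hx⟩ := hf.2 (LocalizedModule.mk n 1)
    induction x using LocalizedModule.induction_on with | _ m s
    rw [LocalizedModule.map_mk, LocalizedModule.mk_eq] at hx
    obtain ⟨u, hu⟩ := hx
    simp only [one_smul, Submonoid.smul_def] at hu
    refine ⟨LocalizedModule.mk m (⟨s.1, h s.2⟩ * t), ?_⟩
    rw [LocalizedModule.map_mk, LocalizedModule.mk_eq]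
    refine ⟨⟨u.1, h u.2⟩, ?_⟩
    simp only [Submonoid.smul_def, Submonoid.coe_mul]
    rw [smul_comm (u : R) (t : R) (f m), hu, mul_smul, smul_comm (t : R) (u : R),
      smul_comm (t : R) (s : R)]

/-- For an `R`-linear map from a finite module to a finitely presented module, the primes at which its
localization is bijective form an open subset of `Spec R`. -/
theorem result {R M N : Type u} [CommRing R] [AddCommGroup M] [Module R M] [Module.Finite R M]
    [AddCommGroup N] [Module R N] [Module.FinitePresentation R N] (φ : M →ₗ[R] N) :
    IsOpen {p : PrimeSpectrum R | Function.Bijective (LocalizedModule.map p.asIdeal.primeCompl φ)} := by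
  refine isOpen_iff_forall_mem_open.mpr fun p hp ↦ ?_
  obtain ⟨g, hg, hbij⟩ := Module.FinitePresentation.exists_notMem_bijective φ p.asIdeal
    (LocalizedModule.mkLinearMap p.asIdeal.primeCompl M)
    (LocalizedModule.mkLinearMap p.asIdeal.primeCompl N)
    ((IsLocalizedModule.map_bijective_iff_localizedModuleMap_bijective _ _).mpr hp)
  refine ⟨PrimeSpectrum.basicOpen g, ?_, (PrimeSpectrum.basicOpen g).2, hg⟩
  intro q hq
  apply map_bijective_of_le (Submonoid.powers g) q.asIdeal.primeCompl _ φ hbij
  rw [Submonoid.powers_le]
  exact hq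

end Groth.Agent.S2131
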