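import Groth.Statements.S2132
import Mathlib

set_option autoImplicit false
universe u
open CategoryTheory
open CAlg

namespace Groth.Agent.S2132

open Polynomial

section
variable {J : Type u} [SmallCategory J] (F : J ⥤ CommRingCat.{u})
    (c : Limits.Cocone F)

lemma w_apply {i j : J} (a : i ⟶ j) (x : F.obj i) :
    (c.ι.app j).hom ((F.map a).hom x) = (c.ι.app i).hom x := by
  have := c.w a
  exact congrArg (fun φ => φ.hom x) this

lemma map_comp_apply {i j k : J} (a : i ⟶ j) (b : j ⟶ k) (x : F.obj i) :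
    (F.map b).hom ((F.map a).hom x) = (F.map (a ≫ b)).hom x := by
  rw [F.map_comp]; rfl

variable [IsFiltered J] (hc : Limits.IsColimit c)
include hc

lemma rep (x : c.pt) : ∃ (j : J) (y : F.obj j), (c.ι.app j).hom y = x :=
  Limits.Concrete.isColimit_exists_rep F hc x

lemma rep_eq {i j : J} (x : F.obj i) (y : F.obj j)
    (h : (c.ι.app i).hom x = (c.ι.app j).hom y) :
    ∃ (k : J) (f : i ⟶ k) (g : j ⟶ k), (F.map f).hom x = (F.map g).hom y :=
  Limits.Concrete.isColimit_exists_of_rep_eq F hc x y h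

lemma isLocalHom_ι (hloc : ∀ (i j : J) (a : i ⟶ j), IsLocalHom (F.map a).hom) (j : J) :
    IsLocalHom (c.ι.app j).hom := by
  constructor
  intro y hy
  obtain ⟨z, hz⟩ := hy.exists_right_inv
  obtain ⟨k, w, rfl⟩ := rep F c hc z
  let l := IsFiltered.max j k
  let a : j ⟶ l := IsFiltered.leftToMax j k
  let b : k ⟶ l := IsFiltered.rightToMax j k
  have h1 : (c.ι.app l).hom ((F.map a).hom y * (F.map b).hom w) = (c.ι.app l).hom 1 := by
    rw [map_mul, w_apply, w_apply, hz, map_one]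
  obtain ⟨m, f, g, hfg⟩ := rep_eq F c hc _ _ h1
  rw [map_mul, map_one, map_comp_apply] at hfg
  have h2 : IsUnit ((F.map (a ≫ f)).hom y) := IsUnit.of_mul_eq_one _ hfg
  exact (hloc _ _ (a ≫ f)).map_nonunit y h2

lemma exists_lifts (p : c.pt[X]) : ∃ j : J, p ∈ Polynomial.lifts (c.ι.app j).hom := by
  classical
  have hcoeff : ∀ n : ℕ, ∃ j : J, p.coeff n ∈ Set.range (c.ι.app j).hom := by
    intro n
    obtain ⟨j, y, hy⟩ := rep F c hc (p.coeff n)
    exact ⟨j, y, hy⟩
  choose jn hjn using hcoeff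
  obtain ⟨j, hj⟩ := IsFiltered.sup_objs_exists (p.support.image jn)
  refine ⟨j, ?_⟩
  rw [Polynomial.lifts_iff_coeff_lifts]
  intro n
  by_cases hn : n ∈ p.support
  · obtain ⟨a⟩ := hj (Finset.mem_image_of_mem jn hn)
    obtain ⟨y, hy⟩ := hjn n
    exact ⟨(F.map a).hom y, by rw [w_apply, hy]⟩
  · rw [Polynomial.notMem_support_iff] at hn
    exact ⟨0, by rw [map_zero, hn]⟩

end

/-- Let `F : J ⥤ CommRingCat` be a filtered diagram of henselian local rings with local transition maps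
and `c` a colimit cocone. Then the colimit is a henselian local ring. -/
theorem result {J : Type u} [SmallCategory J] [IsFiltered J] (F : J ⥤ CommRingCat.{u})
    (hF : ∀ j, HenselianLocalRing (F.obj j)) (hloc : ∀ (i j : J) (a : i ⟶ j), IsLocalHom (F.map a).hom)
    (c : Limits.Cocone F) (hc : Limits.IsColimit c) : HenselianLocalRing c.pt := by
  have hι : ∀ j, IsLocalHom (c.ι.app j).hom := isLocalHom_ι F c hc hloc
  have hnontriv : Nontrivial c.pt := by
    obtain ⟨j₀⟩ := (IsFiltered.nonempty : Nonempty J)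
    refine ⟨⟨0, 1, fun h01 => ?_⟩⟩
    have h1 : (c.ι.app j₀).hom 0 = (c.ι.app j₀).hom 1 := by rw [map_zero, map_one, h01]
    obtain ⟨k, f, g, hfg⟩ := rep_eq F c hc _ _ h1
    rw [map_zero, map_one] at hfg
    exact zero_ne_one hfg
  have hlocal : IsLocalRing c.pt := by
    apply IsLocalRing.of_isUnit_or_isUnit_one_sub_self
    intro a
    obtain ⟨j, y, rfl⟩ := rep F c hc a
    rcases IsLocalRing.isUnit_or_isUnit_one_sub_self y with h | h
    · exact Or.inl (h.map _)
    · right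
      have := h.map (c.ι.app j).hom
      rwa [map_sub, map_one] at this
  refine { hlocal with is_henselian := ?_ }
  intro f hf a₀ hfa₀ hf'a₀
  obtain ⟨j₁, hj₁⟩ := exists_lifts F c hc f
  obtain ⟨g₁, hg₁, -, hg₁m⟩ := Polynomial.lifts_and_natDegree_eq_and_monic hj₁ hf
  obtain ⟨j₂, b₂, rfl⟩ := rep F c hc a₀
  let j := IsFiltered.max j₁ j₂
  let α : j₁ ⟶ j := IsFiltered.leftToMax j₁ j₂
  let β : j₂ ⟶ j := IsFiltered.rightToMax j₁ j₂
  obtain ⟨g, hg, hgm⟩ : ∃ g : (F.obj j)[X], g.map (c.ι.app j).hom = f ∧ g.Monic := by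
    refine ⟨g₁.map (F.map α).hom, ?_, hg₁m.map _⟩
    rw [← hg₁, Polynomial.map_map]
    congr 1
    ext x
    exact w_apply F c α x
  obtain ⟨b, hb⟩ : ∃ b : F.obj j, (c.ι.app j).hom b = (c.ι.app j₂).hom b₂ :=
    ⟨_, w_apply F c β b₂⟩
  have h1 : (c.ι.app j).hom (g.eval b) = f.eval ((c.ι.app j₂).hom b₂) := by
    rw [← hg, ← hb, Polynomial.eval_map_apply]
  have h2 : (c.ι.app j).hom (g.derivative.eval b) = f.derivative.eval ((c.ι.app j₂).hom b₂) := by
    rw [← hg, ← hb, Polynomial.derivative_map, Polynomial.eval_map_apply]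
  have h3 : g.eval b ∈ IsLocalRing.maximalIdeal (F.obj j) := by
    rw [IsLocalRing.mem_maximalIdeal, mem_nonunits_iff]
    intro hu
    have := hu.map (c.ι.app j).hom
    rw [h1] at this
    exact (IsLocalRing.mem_maximalIdeal _).mp hfa₀ this
  have h4 : IsUnit (g.derivative.eval b) := by
    apply (hι j).map_nonunit
    rw [h2]; exact hf'a₀
  obtain ⟨b', hb'root, hb'sub⟩ := (hF j).is_henselian g hgm b h3 h4
  refine ⟨(c.ι.app j).hom b', ?_, ?_⟩
  · rw [Polynomial.IsRoot.def, ← hg, Polynomial.eval_map_apply, hb'root.eq_zero, map_zero]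
  · rw [← hb, ← map_sub, IsLocalRing.mem_maximalIdeal, mem_nonunits_iff]
    intro hu
    have := (hι j).map_nonunit _ hu
    exact (IsLocalRing.mem_maximalIdeal _).mp hb'sub this

end Groth.Agent.S2132
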