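import Groth.Statements.S2133
import Mathlib

set_option autoImplicit false
universe u
open CAlg

namespace Groth.Agent.S2133

open TrivSqZeroExt

section

variable {R L : Type*} [CommRing R] [CommRing L] [Algebra R L]

/-- The ring hom `r ↦ r + D(r) ε` into dual numbers over `L`. -/
def dualHom (D : Derivation ℤ R R) : R →+* TrivSqZeroExt L L where
  toFun r := (algebraMap R L r, algebraMap R L (D r))
  map_one' := by
    refine TrivSqZeroExt.ext (by simp) ?_
    simp [Derivation.map_one_eq_zero]
  map_mul' a b := by
    refine TrivSqZeroExt.ext (by simp) ?_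
    simp only [Derivation.leibniz, smul_eq_mul, map_add, map_mul, snd_mk, snd_mul, fst_mk,
      MulOpposite.smul_eq_mul_unop, MulOpposite.unop_op]
    ring
  map_zero' := by
    refine TrivSqZeroExt.ext (by simp) ?_
    simp
  map_add' a b := by
    refine TrivSqZeroExt.ext (by simp) ?_
    simp

variable (g : R) [IsLocalization.Away g L] (D : Derivation ℤ R R)

lemma isUnit_dualHom : IsUnit (dualHom (L := L) D g) := by
  rw [isUnit_iff_isUnit_fst]
  exact IsLocalization.Away.algebraMap_isUnit g

/-- The extension of `r ↦ r + D(r) ε` to the localization. -/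
noncomputable def dualLift : L →+* TrivSqZeroExt L L :=
  IsLocalization.Away.lift g (isUnit_dualHom g D)

lemma dualLift_algebraMap (r : R) :
    dualLift g D (algebraMap R L r) = (algebraMap R L r, algebraMap R L (D r)) :=
  IsLocalization.Away.lift_eq g (isUnit_dualHom g D) r

lemma fst_dualLift (x : L) : (dualLift g D x).fst = x := by
  have : (TrivSqZeroExt.fstHom L L L : TrivSqZeroExt L L →+* L).comp (dualLift g D) =
      RingHom.id L := by
    apply IsLocalization.ringHom_ext (Submonoid.powers g)
    ext r
    simp [dualLift_algebraMap]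
  exact RingHom.congr_fun this x

/-- The extended derivation, as a function. -/
noncomputable def extD (x : L) : L := (dualLift g D x).snd

lemma extD_add (x y : L) : extD g D (x + y) = extD g D x + extD g D y := by
  simp [extD]

lemma extD_mul (x y : L) : extD g D (x * y) = x * extD g D y + y * extD g D x := by
  simp only [extD, map_mul, snd_mul, fst_dualLift, smul_eq_mul, MulOpposite.smul_eq_mul_unop,
    MulOpposite.unop_op]
  ring

lemma extD_algebraMap (r : R) : extD g D (algebraMap R L r) = algebraMap R L (D r) := by
  simp [extD, dualLift_algebraMap]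

end

/-- Let `R → R'` be an injective ring map of finite type and `g ∈ R` a nonzerodivisor on `R'` such that
every element of `R'` lands in `R` after multiplication by a power of `g` (so `R_g = R'_g`). Then
for every derivation `D` of `R` there is `N` such that `g^N D` extends to a derivation of `R'`. -/
theorem result {R R' : Type u} [CommRing R] [CommRing R'] [Algebra R R'] [Algebra.FiniteType R R']
    (hinj : Function.Injective (algebraMap R R')) (g : R) (hg : IsSMulRegular R' (algebraMap R R' g))
    (hloc : ∀ x : R', ∃ n : ℕ, (algebraMap R R' g) ^ n * x ∈ Set.range (algebraMap R R')) (D : Derivation ℤ R R) :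
    ∃ (N : ℕ) (D' : Derivation ℤ R' R'), ∀ r : R, D' (algebraMap R R' r) = algebraMap R R' (g ^ N * D r) := by
  classical
  obtain ⟨g', hg'⟩ : ∃ g' : R', g' = algebraMap R R' g := ⟨_, rfl⟩
  let L := Localization.Away g'
  have hg'reg : IsRegular g' :=
    (Commute.isRegular_iff (fun b => Commute.all g' b)).mpr (hg' ▸ hg)
  have hg'nzd : g' ∈ nonZeroDivisors R' := isRegular_iff_mem_nonZeroDivisors.mp hg'reg
  have ha'inj : Function.Injective (algebraMap R' L) :=
    IsLocalization.injective L ((Submonoid.powers_le (P := nonZeroDivisors R')).mpr hg'nzd)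
  have halg : ∀ r : R, algebraMap R L r = algebraMap R' L (algebraMap R R' r) :=
    fun r => IsScalarTower.algebraMap_apply R R' L r
  have hloc' : IsLocalization.Away g L := by
    rw [IsLocalization.Away, isLocalization_iff]
    refine ⟨?_, ?_, ?_⟩
    · rintro ⟨_, n, rfl⟩
      rw [halg, map_pow, ← hg', map_pow]
      exact (IsLocalization.Away.algebraMap_isUnit g').pow n
    · intro z
      obtain ⟨⟨x', ⟨_, m, rfl⟩⟩, hx'⟩ := IsLocalization.surj (Submonoid.powers g') z
      simp only at hx'
      obtain ⟨n, r, hr⟩ := hloc x'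
      refine ⟨(r, ⟨g ^ (m + n), m + n, rfl⟩), ?_⟩
      simp only
      rw [halg, halg, hr, map_pow, ← hg', pow_add, map_mul, map_mul, ← mul_assoc, hx']
      ring
    · intro x y hxy
      rw [halg, halg] at hxy
      exact ⟨1, by rw [hinj (ha'inj hxy)]⟩
  -- the extended derivation on `L`
  let E : L → L := extD g D
  have hEadd : ∀ x y, E (x + y) = E x + E y := extD_add g D
  have hEmul : ∀ x y, E (x * y) = x * E y + y * E x := extD_mul g D
  have hEalg : ∀ r : R, E (algebraMap R L r) = algebraMap R L (D r) := extD_algebraMap g D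
  -- bounded denominators on generators
  have hden : ∀ x : R', ∃ n : ℕ, ∀ N, n ≤ N →
      (algebraMap R' L g') ^ N * E (algebraMap R' L x) ∈ Set.range (algebraMap R' L) := by
    intro x
    obtain ⟨⟨y, ⟨_, n, rfl⟩⟩, hy⟩ := IsLocalization.surj (Submonoid.powers g') (E (algebraMap R' L x))
    simp only at hy
    refine ⟨n, fun N hN => ⟨g' ^ (N - n) * y, ?_⟩⟩
    rw [map_mul, ← hy, map_pow, map_pow]
    have : N = (N - n) + n := by omega
    conv_rhs => rw [this, pow_add]
    ring
  choose nden hnden using hden
  obtain ⟨G, hG⟩ := (Algebra.FiniteType.out : (⊤ : Subalgebra R R').FG)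
  let N : ℕ := G.sup nden
  have hN : ∀ x : R', (algebraMap R' L g') ^ N * E (algebraMap R' L x) ∈
      Set.range (algebraMap R' L) := by
    intro x
    have hx : x ∈ Algebra.adjoin R (G : Set R') := by rw [hG]; trivial
    induction hx using Algebra.adjoin_induction with
    | mem x hx => exact hnden x N (Finset.le_sup (f := nden) hx)
    | algebraMap r =>
      refine ⟨g' ^ N * algebraMap R R' (D r), ?_⟩
      rw [← halg r, hEalg, map_mul, map_pow, halg]
    | add x y _ _ hx hy =>
      obtain ⟨u, hu⟩ := hx
      obtain ⟨v, hv⟩ := hy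
      exact ⟨u + v, by rw [map_add, hu, hv, map_add, hEadd, mul_add]⟩
    | mul x y _ _ hx hy =>
      obtain ⟨u, hu⟩ := hx
      obtain ⟨v, hv⟩ := hy
      refine ⟨x * v + y * u, ?_⟩
      rw [map_add, map_mul, map_mul, hu, hv, map_mul, hEmul]
      ring
  choose D₀ hD₀ using hN
  have hD₀add : ∀ x y, D₀ (x + y) = D₀ x + D₀ y := by
    intro x y
    apply ha'inj
    rw [map_add (algebraMap R' L) (D₀ x), hD₀, hD₀, hD₀, map_add, hEadd, mul_add]
  have hD₀mul : ∀ x y, D₀ (x * y) = x * D₀ y + y * D₀ x := by
    intro x y
    apply ha'inj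
    rw [map_add (algebraMap R' L) (x * D₀ y), map_mul (algebraMap R' L) x (D₀ y),
      map_mul (algebraMap R' L) y (D₀ x), hD₀, hD₀, hD₀, map_mul, hEmul]
    ring
  have hD₀alg : ∀ r : R, D₀ (algebraMap R R' r) = algebraMap R R' (g ^ N * D r) := by
    intro r
    apply ha'inj
    rw [hD₀, ← halg r, hEalg, map_mul, map_pow, ← hg', map_mul, map_pow, halg]
  have hD₀one : D₀ 1 = 0 := by
    have := hD₀mul 1 1
    simp only [mul_one, one_mul] at this
    have h2 : D₀ 1 + 0 = D₀ 1 + D₀ 1 := by rw [add_zero]; exact this
    exact (add_left_cancel h2).symm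
  let Dadd : R' →+ R' :=
    { toFun := D₀
      map_zero' := by
        have := hD₀add 0 0
        rw [add_zero] at this
        have h2 : D₀ 0 + 0 = D₀ 0 + D₀ 0 := by rw [add_zero]; exact this
        exact (add_left_cancel h2).symm
      map_add' := hD₀add }
  let D' : Derivation ℤ R' R' :=
    { toLinearMap := Dadd.toIntLinearMap
      map_one_eq_zero' := hD₀one
      leibniz' := fun a b => hD₀mul a b }
  exact ⟨N, D', fun r => hD₀alg r⟩

end Groth.Agent.S2133
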