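import Groth.Statements.S2134
import Mathlib

set_option autoImplicit false
universe u
open CAlg

namespace Groth.Agent.S2134

/-- Let `K/k` be a field extension and `(K_α)` a nonempty family of intermediate fields, directed
downwards, with intersection `k`. For a `K`-subspace `V` of `K^n` (`n ≥ 1`), `V` contains a nonzero
vector with all coordinates in `k` if and only if for every `α` it contains a nonzero vector with
all coordinates in `K_α`. -/
theorem result {k K : Type u} [Field k] [Field K] [Algebra k K] {ι : Type u} [Nonempty ι]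
    (F : ι → IntermediateField k K) (hdir : ∀ a b : ι, ∃ c, F c ≤ F a ⊓ F b) (hinf : ⨅ a, F a = ⊥) (n : ℕ) (hn : 1 ≤ n)
    (V : Submodule K (Fin n → K)) :
    (∃ v ∈ V, v ≠ 0 ∧ ∀ i, v i ∈ Set.range (algebraMap k K)) ↔
      ∀ a, ∃ v ∈ V, v ≠ 0 ∧ ∀ i, v i ∈ F a := by
  classical
  constructor
  · rintro ⟨v, hv, hv0, hvk⟩ a
    refine ⟨v, hv, hv0, fun i => ?_⟩
    obtain ⟨x, hx⟩ := hvk i
    rw [← hx]
    exact (F a).algebraMap_mem x
  · intro h
    -- W(α) and V(α)
    let W : ι → Set (Fin n → K) := fun a => {v | v ∈ V ∧ ∀ i, v i ∈ F a}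
    let VF : ι → Submodule K (Fin n → K) := fun a => Submodule.span K (W a)
    have hVFle : ∀ a, VF a ≤ V := fun a => Submodule.span_le.mpr fun v hv => hv.1
    have hmono : ∀ a b, F b ≤ F a → VF b ≤ VF a := by
      intro a b hab
      apply Submodule.span_mono
      intro v hv
      exact ⟨hv.1, fun i => hab (hv.2 i)⟩
    obtain ⟨_, ⟨a₀, rfl⟩, hmin⟩ := WellFounded.has_min Nat.lt_wfRel.wf
      (Set.range fun a => Module.finrank K (VF a)) (Set.range_nonempty _)
    have hmin' : ∀ b, Module.finrank K (VF a₀) ≤ Module.finrank K (VF b) := fun b =>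
      not_lt.mp (hmin _ ⟨b, rfl⟩)
    have heq : ∀ b, F b ≤ F a₀ → VF b = VF a₀ := fun b hb =>
      Submodule.eq_of_le_of_finrank_le (hmono a₀ b hb) (hmin' b)
    -- nonzero vector in V' = VF a₀
    obtain ⟨w₀, hw₀V, hw₀0, hw₀F⟩ := h a₀
    have hw₀ : w₀ ∈ VF a₀ := Submodule.subset_span ⟨hw₀V, hw₀F⟩
    -- minimal support
    let supp : (Fin n → K) → Finset (Fin n) := fun v => Finset.univ.filter fun i => v i ≠ 0
    obtain ⟨_, ⟨v₁, ⟨hv₁, hv₁0⟩, rfl⟩, hminS⟩ := WellFounded.has_min Nat.lt_wfRel.wf
      ((fun v => (supp v).card) '' {v | v ∈ VF a₀ ∧ v ≠ 0}) ⟨_, w₀, ⟨hw₀, hw₀0⟩, rfl⟩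
    have hminS' : ∀ u ∈ VF a₀, u ≠ 0 → (supp v₁).card ≤ (supp u).card := fun u hu hu0 =>
      not_lt.mp (hminS _ ⟨u, ⟨hu, hu0⟩, rfl⟩)
    obtain ⟨i₀, hi₀⟩ : ∃ i, v₁ i ≠ 0 := by
      by_contra hcon
      push Not at hcon
      exact hv₁0 (funext hcon)
    -- normalize
    let v : Fin n → K := (v₁ i₀)⁻¹ • v₁
    have hv : v ∈ VF a₀ := Submodule.smul_mem _ _ hv₁
    have hvi₀ : v i₀ = 1 := by
      change (v₁ i₀)⁻¹ * v₁ i₀ = 1
      exact inv_mul_cancel₀ hi₀
    have hv0 : v ≠ 0 := by
      intro h0
      have := congrFun h0 i₀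
      rw [hvi₀] at this
      exact one_ne_zero this
    have hsuppv : supp v = supp v₁ := by
      ext i
      simp only [supp, Finset.mem_filter, Finset.mem_univ, true_and, v, Pi.smul_apply, smul_eq_mul,
        ne_eq, mul_eq_zero, inv_eq_zero, hi₀, false_or]
    -- key claim
    have key : ∀ b, F b ≤ F a₀ → ∀ i, v i ∈ F b := by
      intro b hb
      obtain ⟨lam, hlam⟩ := LinearMap.exists_leftInverse_of_injective
        (Algebra.linearMap (F b) K)
        (LinearMap.ker_eq_bot.mpr (F b).val.injective)
      have hlam' : ∀ x : F b, lam (x : K) = x := fun x => LinearMap.congr_fun hlam x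
      let Λ : (Fin n → K) → (Fin n → K) := fun u i => ((lam (u i) : F b) : K)
      have hΛadd : ∀ u u', Λ (u + u') = Λ u + Λ u' := by
        intro u u'
        funext i
        simp [Λ]
      have hP : ∀ u ∈ VF b, ∀ c : K, Λ (c • u) ∈ V ∧ ∀ i, Λ (c • u) i ∈ F b := by
        intro u hu
        refine Submodule.span_induction ?_ ?_ ?_ ?_ hu
        · rintro w ⟨hwV, hwF⟩ c
          have h1 : Λ (c • w) = ((lam c : F b) : K) • w := by
            funext i
            simp only [Λ, Pi.smul_apply, smul_eq_mul]
            have h2 : c * w i = (⟨w i, hwF i⟩ : F b) • c := by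
              rw [mul_comm]
              rfl
            rw [h2, map_smul, smul_eq_mul, mul_comm]
            rfl
          rw [h1]
          exact ⟨V.smul_mem _ hwV, fun i => (F b).mul_mem (lam c).2 (hwF i)⟩
        · intro c
          have : Λ (c • (0 : Fin n → K)) = 0 := by
            funext i
            simp [Λ]
          rw [this]
          exact ⟨V.zero_mem, fun i => (F b).zero_mem⟩
        · intro x y _ _ hx hy c
          rw [smul_add, hΛadd]
          exact ⟨V.add_mem (hx c).1 (hy c).1, fun i => (F b).add_mem ((hx c).2 i) ((hy c).2 i)⟩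
        · intro c' x _ hx c
          rw [smul_smul]
          exact hx (c * c')
      have hvb : v ∈ VF b := by rw [heq b hb]; exact hv
      have hΛv := hP v hvb 1
      rw [one_smul] at hΛv
      have hu : Λ v ∈ VF a₀ := by
        rw [← heq b hb]
        exact Submodule.subset_span hΛv
      -- v - Λ v has smaller support, hence is zero
      have hdiff : v - Λ v = 0 := by
        by_contra hne
        have h1 := hminS' (v - Λ v) (Submodule.sub_mem _ hv hu) hne
        have h2 : supp (v - Λ v) ⊂ supp v := by
          rw [Finset.ssubset_iff_of_subset]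
          · refine ⟨i₀, ?_, ?_⟩
            · simp [supp, hvi₀]
            · simp only [supp, Finset.mem_filter, Finset.mem_univ, true_and, Pi.sub_apply, Λ,
                hvi₀, ne_eq, not_not]
              have : lam (1 : K) = 1 := by
                have := hlam' 1
                simpa using this
              rw [this]
              simp
          · intro i hi
            simp only [supp, Finset.mem_filter, Finset.mem_univ, true_and, Pi.sub_apply, Λ,
              ne_eq] at hi ⊢
            intro h0
            apply hi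
            rw [h0, map_zero]
            simp
        have h3 := Finset.card_lt_card h2
        rw [hsuppv] at h3
        omega
      intro i
      have : v i = Λ v i := by
        have := congrFun hdiff i
        simpa [sub_eq_zero] using this
      rw [this]
      exact hΛv.2 i
    refine ⟨v, hVFle a₀ hv, hv0, fun i => ?_⟩
    have hmem : v i ∈ ⨅ a, F a := by
      rw [← SetLike.mem_coe, IntermediateField.coe_iInf, Set.mem_iInter]
      intro c
      obtain ⟨b, hb⟩ := hdir a₀ c
      exact (hb.trans inf_le_right) (key b (hb.trans inf_le_left) i)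
    rw [hinf, IntermediateField.mem_bot] at hmem
    exact hmem

end Groth.Agent.S2134
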