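import Groth.Statements.S2138
import Groth.Agent.Lib.Helper92.RegTensor
import Mathlib.RingTheory.LocalRing.ResidueField.Ideal
import Mathlib.RingTheory.Localization.AtPrime.Basic
-- import your own Groth.Agent.* helpers here

set_option autoImplicit false
universe u
open CAlg

namespace Groth.Agent.S2138

open Groth.Agent.Lib.Helper92.RegTensor TensorProduct

section aux

variable {R S : Type u} [CommRing R] [CommRing S] [Algebra R S] [Module.Flat R S]
    (p : Ideal R) [p.IsPrime] [hq : (p.map (algebraMap R S)).IsPrime]

include hq in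
theorem reg_quot_p {t : S} (ht : t ∉ p.map (algebraMap R S)) : Reg (R := R) t (R ⧸ p) := by
  rw [reg_quotient_iff]
  intro s hs
  exact (hq.mem_or_mem hs).resolve_left ht

include hq in
theorem reg_residue {t : S} (ht : t ∉ p.map (algebraMap R S)) :
    Reg (R := R) t p.ResidueField := by
  haveI : Module.Flat (R ⧸ p) p.ResidueField :=
    IsLocalization.flat p.ResidueField (nonZeroDivisors (R ⧸ p))
  exact Reg.of_flat (R' := R ⧸ p) (reg_quot_p p ht)

include hq in
theorem reg_torsion {t : S} (ht : t ∉ p.map (algebraMap R S))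
    (N : Type u) [AddCommGroup N] [Module (Localization.AtPrime p) N] [Module R N]
    [IsScalarTower R (Localization.AtPrime p) N] :
    Reg (R := R) t
      (Submodule.torsionBySet (Localization.AtPrime p) N
        (IsLocalRing.maximalIdeal (Localization.AtPrime p) : Set (Localization.AtPrime p))) := by
  have h : Reg (R := R) t (Localization.AtPrime p ⧸ IsLocalRing.maximalIdeal (Localization.AtPrime p)) :=
    reg_residue p ht
  letI : Field (Localization.AtPrime p ⧸ IsLocalRing.maximalIdeal (Localization.AtPrime p)) :=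
    Ideal.Quotient.field _
  exact Reg.of_flat (R' := Localization.AtPrime p ⧸ IsLocalRing.maximalIdeal (Localization.AtPrime p)) h

include hq in
theorem reg_quot_pow_zero {t : S} :
    Reg (R := R) t
      (Localization.AtPrime p ⧸ (IsLocalRing.maximalIdeal (Localization.AtPrime p)) ^ 0) := by
  have hsub : Subsingleton
      (Localization.AtPrime p ⧸ (IsLocalRing.maximalIdeal (Localization.AtPrime p)) ^ 0) := by
    rw [pow_zero, Ideal.one_eq_top]
    exact Ideal.Quotient.subsingleton_iff.2 rfl
  intro z z' _
  have hz : ∀ w : (Localization.AtPrime p ⧸ (IsLocalRing.maximalIdeal (Localization.AtPrime p)) ^ 0) ⊗[R] S,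
      w = 0 := by
    intro w
    induction w using TensorProduct.induction_on with
    | zero => rfl
    | tmul x y => rw [Subsingleton.elim x 0, TensorProduct.zero_tmul]
    | add x y hx hy => rw [hx, hy, add_zero]
  rw [hz z, hz z']

theorem ker_le_torsion {A : Type u} [CommRing A] (m : Ideal A) (n : ℕ)
    (hle : m ^ (n + 1) ≤ Submodule.comap (LinearMap.id : A →ₗ[A] A) (m ^ n)) :
    LinearMap.ker (Submodule.mapQ (m ^ (n + 1)) (m ^ n) LinearMap.id hle) ≤
      Submodule.torsionBySet A (A ⧸ m ^ (n + 1)) (m : Set A) := by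
  intro x hx
  obtain ⟨a, rfl⟩ := Submodule.Quotient.mk_surjective _ x
  have ha : a ∈ m ^ n := by
    have : (Submodule.mapQ (m ^ (n + 1)) (m ^ n) LinearMap.id hle) (Submodule.Quotient.mk a) = 0 := hx
    rw [Submodule.mapQ_apply] at this
    exact (Submodule.Quotient.mk_eq_zero _).1 this
  rw [Submodule.mem_torsionBySet_iff]
  rintro ⟨r, hr⟩
  change r • (Submodule.Quotient.mk a : A ⧸ m ^ (n + 1)) = 0
  rw [← Submodule.Quotient.mk_smul, Submodule.Quotient.mk_eq_zero, smul_eq_mul, pow_succ']
  exact Ideal.mul_mem_mul hr ha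

include hq in
theorem reg_quot_pow_succ {t : S} (ht : t ∉ p.map (algebraMap R S)) (n : ℕ)
    (ih : Reg (R := R) t
      (Localization.AtPrime p ⧸ (IsLocalRing.maximalIdeal (Localization.AtPrime p)) ^ n)) :
    Reg (R := R) t
      (Localization.AtPrime p ⧸ (IsLocalRing.maximalIdeal (Localization.AtPrime p)) ^ (n + 1)) := by
  have hle : (IsLocalRing.maximalIdeal (Localization.AtPrime p)) ^ (n + 1) ≤
      Submodule.comap (LinearMap.id : Localization.AtPrime p →ₗ[Localization.AtPrime p] Localization.AtPrime p)
        ((IsLocalRing.maximalIdeal (Localization.AtPrime p)) ^ n) :=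
    Ideal.pow_le_pow_right (Nat.le_succ n)
  have hK := ker_le_torsion (IsLocalRing.maximalIdeal (Localization.AtPrime p)) n hle
  have hregK : Reg (R := R) t
      (LinearMap.ker (Submodule.mapQ ((IsLocalRing.maximalIdeal (Localization.AtPrime p)) ^ (n + 1))
        ((IsLocalRing.maximalIdeal (Localization.AtPrime p)) ^ n) LinearMap.id hle)) := by
    refine Reg.of_injective ((Submodule.inclusion hK).restrictScalars R) ?_
      (reg_torsion p ht (Localization.AtPrime p ⧸ (IsLocalRing.maximalIdeal (Localization.AtPrime p)) ^ (n + 1)))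
    exact Submodule.inclusion_injective hK
  refine Reg.of_exact
    ((LinearMap.ker (Submodule.mapQ ((IsLocalRing.maximalIdeal (Localization.AtPrime p)) ^ (n + 1))
        ((IsLocalRing.maximalIdeal (Localization.AtPrime p)) ^ n) LinearMap.id hle)).subtype.restrictScalars R)
    ((Submodule.mapQ ((IsLocalRing.maximalIdeal (Localization.AtPrime p)) ^ (n + 1))
        ((IsLocalRing.maximalIdeal (Localization.AtPrime p)) ^ n) LinearMap.id hle).restrictScalars R)
    ?_ ?_ ?_ hregK ih
  · exact Submodule.injective_subtype _
  · intro y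
    obtain ⟨a, rfl⟩ := Submodule.Quotient.mk_surjective _ y
    exact ⟨Submodule.Quotient.mk a, rfl⟩
  · exact LinearMap.exact_subtype_ker_map _

include hq in
theorem reg_quot_pow {t : S} (ht : t ∉ p.map (algebraMap R S)) (n : ℕ) :
    Reg (R := R) t
      (Localization.AtPrime p ⧸ (IsLocalRing.maximalIdeal (Localization.AtPrime p)) ^ n) := by
  induction n with
  | zero => exact reg_quot_pow_zero p
  | succ n ih => exact reg_quot_pow_succ p ht n ih

include hq in
theorem reg_symb {t : S} (ht : t ∉ p.map (algebraMap R S)) (n : ℕ) :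
    Reg (R := R) t (R ⧸ (((p ^ n).map (algebraMap R (Localization.AtPrime p))).comap
      (algebraMap R (Localization.AtPrime p)))) := by
  have hJ : (p ^ n).map (algebraMap R (Localization.AtPrime p)) =
      (IsLocalRing.maximalIdeal (Localization.AtPrime p)) ^ n := by
    rw [Ideal.map_pow, Localization.AtPrime.map_eq_maximalIdeal]
  rw [hJ]
  let f0 : R →ₗ[R] Localization.AtPrime p ⧸ (IsLocalRing.maximalIdeal (Localization.AtPrime p)) ^ n :=
    ((Submodule.mkQ ((IsLocalRing.maximalIdeal (Localization.AtPrime p)) ^ n)).restrictScalars R) ∘ₗ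
      (Algebra.linearMap R (Localization.AtPrime p))
  have hker : LinearMap.ker f0 = ((IsLocalRing.maximalIdeal (Localization.AtPrime p)) ^ n).comap
      (algebraMap R (Localization.AtPrime p)) := by
    ext x
    simp only [f0, LinearMap.mem_ker, LinearMap.comp_apply, Ideal.mem_comap]
    exact Submodule.Quotient.mk_eq_zero _
  have hf : Function.Injective (Submodule.liftQ _ f0 (le_of_eq hker.symm)) := by
    rw [← LinearMap.ker_eq_bot]
    exact Submodule.ker_liftQ_eq_bot _ _ _ (le_of_eq hker)
  exact Reg.of_injective _ hf (reg_quot_pow p ht n)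

end aux

/-- Let `R → S` be flat and `𝔭` a prime of `R` whose extension `𝔮 = 𝔭S` is prime. Then for every `n` the
extension to `S` of the symbolic power `𝔭^{(n)}` (the contraction of `𝔭ⁿR_𝔭`) equals the symbolic
power `𝔮^{(n)}`. -/
theorem result {R S : Type u} [CommRing R] [CommRing S] [Algebra R S] [Module.Flat R S]
    (p : Ideal R) [p.IsPrime] [(p.map (algebraMap R S)).IsPrime] (n : ℕ) :
    (((p ^ n).map (algebraMap R (Localization.AtPrime p))).comap (algebraMap R (Localization.AtPrime p))).map
        (algebraMap R S) =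
      (((p.map (algebraMap R S)) ^ n).map (algebraMap S (Localization.AtPrime (p.map (algebraMap R S))))).comap
        (algebraMap S (Localization.AtPrime (p.map (algebraMap R S)))) := by
  have hqtop : p.map (algebraMap R S) ≠ ⊤ := Ideal.IsPrime.ne_top inferInstance
  apply le_antisymm
  · rw [Ideal.map_le_iff_le_comap]
    intro r hr
    rw [Ideal.mem_comap,
      IsLocalization.algebraMap_mem_map_algebraMap_iff p.primeCompl] at hr
    obtain ⟨s, hs, hsr⟩ := hr
    rw [Ideal.mem_comap, Ideal.mem_comap,
      IsLocalization.algebraMap_mem_map_algebraMap_iff (p.map (algebraMap R S)).primeCompl]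
    refine ⟨algebraMap R S s, algebraMap_notMem_map_of_flat p hqtop hs, ?_⟩
    rw [← map_mul, ← Ideal.map_pow]
    exact Ideal.mem_map_of_mem _ hsr
  · intro x hx
    rw [Ideal.mem_comap,
      IsLocalization.algebraMap_mem_map_algebraMap_iff (p.map (algebraMap R S)).primeCompl] at hx
    obtain ⟨t, ht, htx⟩ := hx
    have hreg := (reg_quotient_iff _).1 (reg_symb p ht n)
    apply hreg x
    rw [← Ideal.map_pow] at htx
    exact Ideal.map_mono Ideal.le_comap_map htx

end Groth.Agent.S2138
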