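import Groth.Statements.S2140
import Groth.Agent.Lib.Helper18.GenericFP
import Mathlib.RingTheory.Localization.BaseChange

set_option autoImplicit false
universe u
open CAlg

namespace Groth.Agent.S2140

/-- Let `R → S` be an injective ring map of finite type between domains. Then there are nonzero `f ∈ R`
and `g ∈ S` such that `S_{fg}` is a finitely presented `R_f`-algebra. -/
theorem result {R S : Type u} [CommRing R] [IsDomain R] [CommRing S] [IsDomain S]
    [Algebra R S] [Algebra.FiniteType R S] (hinj : Function.Injective (algebraMap R S)) :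
    ∃ (f : R) (g : S), f ≠ 0 ∧ g ≠ 0 ∧
      ∀ (Rf Sfg : Type u) [CommRing Rf] [CommRing Sfg] [Algebra R Rf] [IsLocalization.Away f Rf]
        [Algebra S Sfg] [IsLocalization.Away (algebraMap R S f * g) Sfg] [Algebra Rf Sfg] [Algebra R Sfg]
        [IsScalarTower R S Sfg] [IsScalarTower R Rf Sfg], Algebra.FinitePresentation Rf Sfg := by
  classical
  obtain ⟨f₀, hf₀, H⟩ := Groth.Agent.Lib.Helper18.exists_finitePresentation_tensor (R := R) S
  refine ⟨f₀, 1, hf₀, one_ne_zero, ?_⟩
  intro Rf Sfg _ _ _ _ _ _ _ _ _ _
  haveI hfp : Algebra.FinitePresentation Rf (TensorProduct R Rf S) := H f₀ dvd_rfl hf₀ Rf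
  letI : Algebra S (TensorProduct R Rf S) := Algebra.TensorProduct.rightAlgebra
  haveI hloc1 : IsLocalization (Algebra.algebraMapSubmonoid S (Submonoid.powers f₀))
      (TensorProduct R Rf S) := IsLocalization.tensorRight Rf (Submonoid.powers f₀)
  have hpow : Algebra.algebraMapSubmonoid S (Submonoid.powers f₀) =
      Submonoid.powers (algebraMap R S f₀ * 1) := by
    rw [mul_one]
    exact Submonoid.map_powers (algebraMap R S) f₀
  haveI hloc2 : IsLocalization (Submonoid.powers (algebraMap R S f₀ * 1))
      (TensorProduct R Rf S) := by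
    rw [← hpow]; exact hloc1
  let e : TensorProduct R Rf S ≃ₐ[S] Sfg :=
    IsLocalization.algEquiv (Submonoid.powers (algebraMap R S f₀ * 1)) _ _
  have hcomm : ∀ r : Rf, e (algebraMap Rf (TensorProduct R Rf S) r) = algebraMap Rf Sfg r := by
    intro r
    have h2 : (e.toAlgHom.toRingHom.comp (algebraMap Rf (TensorProduct R Rf S))) =
        algebraMap Rf Sfg := by
      apply IsLocalization.ringHom_ext (Submonoid.powers f₀)
      ext x
      simp only [RingHom.coe_comp, Function.comp_apply]
      rw [← IsScalarTower.algebraMap_apply R Rf Sfg, IsScalarTower.algebraMap_apply R S Sfg]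
      rw [← IsScalarTower.algebraMap_apply R Rf (TensorProduct R Rf S)]
      have h3 : algebraMap R (TensorProduct R Rf S) x =
          algebraMap S (TensorProduct R Rf S) (algebraMap R S x) := by
        rw [Algebra.TensorProduct.algebraMap_apply, Algebra.TensorProduct.right_algebraMap_apply]
        rw [Algebra.algebraMap_eq_smul_one, Algebra.algebraMap_eq_smul_one (A := S),
          TensorProduct.smul_tmul]
      rw [h3]
      exact e.commutes _
    exact congrArg (fun φ : Rf →+* Sfg => φ r) h2
  let e' : TensorProduct R Rf S ≃ₐ[Rf] Sfg := { e.toRingEquiv with commutes' := hcomm }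
  exact Algebra.FinitePresentation.equiv e'

end Groth.Agent.S2140
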