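import Groth.Statements.S2142
import Groth.Agent.Lib.Helper73.DimFormula.FieldExt

set_option autoImplicit false
universe u
open CAlg

namespace Groth.Agent.S2142

open TensorProduct in
/-- Let `S` be of finite type over a field `k`, `K/k` a field extension, `𝔮` a prime of `S` and `𝔮_K` a
prime of `K ⊗_k S` lying over `𝔮`. Then the local dimension of `Spec (K ⊗_k S)` at `𝔮_K` equals the
local dimension of `Spec S` at `𝔮`. -/
theorem result {k S K : Type u} [Field k] [CommRing S] [Algebra k S] [Algebra.FiniteType k S] [Field K]
    [Algebra k K] (q : Ideal S) [q.IsPrime] (qK : Ideal (K ⊗[k] S)) [qK.IsPrime]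
    (hq : qK.comap (Algebra.TensorProduct.includeRight.toRingHom : S →+* K ⊗[k] S) = q) :
    FlatMor.localDim (PrimeSpectrum (K ⊗[k] S)) ⟨qK, inferInstance⟩ = FlatMor.localDim (PrimeSpectrum S) ⟨q, inferInstance⟩ := by
  open Groth.Agent.Lib.Helper73 in
  have h := localDim_primeSpectrum_eq_of_adjoin_eq_top (algebraMap k K)
    (Algebra.TensorProduct.includeRight.toRingHom : S →+* K ⊗[k] S)
    includeRight_algebraMap adjoin_range_includeRight_eq_top
    generalizingMap_comap_includeRight isOpenMap_comap_includeRight ⟨qK, inferInstance⟩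
  rw [h]
  congr 1
  exact PrimeSpectrum.ext hq

end Groth.Agent.S2142
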