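import Groth.Statements.S2144
import Mathlib
import Groth.Agent.Lib.Helper46.FppfModel

set_option autoImplicit false
universe u
open CAlg

namespace Groth.Agent.S2144

open TensorProduct in
/-- Let `R → A → B` be ring maps with `A → B` faithfully flat and of finite presentation. Then there are
an `R`-algebra `A₀` of finite presentation mapping to `A` and a faithfully flat finitely presented
`A₀`-algebra `B₀` with `B ≅ A ⊗_{A₀} B₀` as `A`-algebras. -/
theorem result {R A B : Type u} [CommRing R] [CommRing A] [CommRing B] [Algebra R A]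
    [Algebra A B] [Algebra.FinitePresentation A B] [Module.FaithfullyFlat A B] :
    ∃ (A₀ B₀ : Type u) (_ : CommRing A₀) (_ : CommRing B₀) (_ : Algebra R A₀) (_ : Algebra A₀ A) (_ : IsScalarTower R A₀ A)
      (_ : Algebra A₀ B₀), Algebra.FinitePresentation R A₀ ∧ Algebra.FinitePresentation A₀ B₀ ∧ Module.FaithfullyFlat A₀ B₀ ∧
      Nonempty (B ≃ₐ[A] A ⊗[A₀] B₀) := by
  classical
  obtain ⟨A₁, M₁, _, _, _, _, e, hft, hinj, -, -, hfp, hff⟩ :=
    Groth.Agent.Lib.Helper46.FppfModel.exists_model A B ∅ ∅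
  haveI : Algebra.FinitePresentation ℤ A₁ := Algebra.FinitePresentation.of_finiteType.1 hft
  let π : R ⊗[ℤ] A₁ →ₐ[R] A := Algebra.TensorProduct.lift (Algebra.ofId R A)
    ((Algebra.ofId A₁ A).restrictScalars ℤ) (fun _ _ => Commute.all _ _)
  have hπ1 : ∀ x : A₁, π ((1 : R) ⊗ₜ x) = algebraMap A₁ A x := fun x =>
    (Algebra.TensorProduct.lift_tmul _ _ _ _ _).trans (by simp [Algebra.ofId_apply])
  letI : Algebra A₁ (R ⊗[ℤ] A₁) := Algebra.TensorProduct.rightAlgebra
  letI : Algebra (R ⊗[ℤ] A₁) A := π.toRingHom.toAlgebra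
  haveI : IsScalarTower R (R ⊗[ℤ] A₁) A := .of_algebraMap_eq fun r => (π.commutes r).symm
  haveI : IsScalarTower A₁ (R ⊗[ℤ] A₁) A := .of_algebraMap_eq fun x => (hπ1 x).symm
  refine ⟨R ⊗[ℤ] A₁, (R ⊗[ℤ] A₁) ⊗[A₁] M₁, inferInstance, inferInstance, inferInstance,
    inferInstance, inferInstance, inferInstance, inferInstance, inferInstance, inferInstance, ?_⟩
  exact ⟨e.symm.trans (Algebra.TensorProduct.cancelBaseChange A₁ (R ⊗[ℤ] A₁) A A M₁).symm⟩

end Groth.Agent.S2144
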