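import Groth.Statements.S2146
import Groth.Agent.Lib.Helper69.Spread

set_option autoImplicit false
universe u
open CAlg

namespace Groth.Agent.S2146

open Groth.Agent.Lib.Helper69 in
lemma exists_idem {T A : Type*} [CommRing T] [CommRing A] (π : T →+* A)
    (hsurj : Function.Surjective π) (g : T) (hg : IsUnit (π g)) (hFG : (RingHom.ker π).FG)
    (htors : ∀ x, π x = 0 → ∃ n : ℕ, g ^ n * x = 0) :
    ∃ i : T, π i = 0 ∧ i * i = i ∧ ∀ x, π x = 0 → i * x = x := by
  classical
  have key : ∀ s : Finset T, (∀ y ∈ s, π y = 0) → ∃ N : ℕ, ∀ y ∈ s, g ^ N * y = 0 := by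
    intro s
    induction s using Finset.induction_on with
    | empty => exact fun _ => ⟨0, by simp⟩
    | insert a s _ ih =>
      intro h
      obtain ⟨N, hN⟩ := ih (fun y hy => h y (Finset.mem_insert_of_mem hy))
      obtain ⟨n, hn⟩ := htors a (h a (Finset.mem_insert_self _ _))
      refine ⟨N + n, fun y hy => ?_⟩
      rcases Finset.mem_insert.mp hy with rfl | hy
      · rw [pow_add, mul_assoc, hn, mul_zero]
      · rw [pow_add, mul_comm (g ^ N), mul_assoc, hN y hy, mul_zero]
  obtain ⟨s, hs⟩ := hFG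
  obtain ⟨N, hN⟩ := key s (fun y hy => by
    have : y ∈ RingHom.ker π := by rw [← hs]; exact Ideal.subset_span hy
    exact this)
  have hN'' : ∀ x ∈ Ideal.span (s : Set T), g ^ N * x = 0 := by
    intro x hx'
    induction hx' using Submodule.span_induction with
    | mem y hy => exact hN y hy
    | zero => simp
    | add a b _ _ ha hb => rw [mul_add, ha, hb, add_zero]
    | smul a b _ hb => rw [smul_eq_mul, mul_left_comm, hb, mul_zero]
  have hN' : ∀ x, π x = 0 → g ^ N * x = 0 := by
    intro x hx
    exact hN'' x (by rw [hs]; exact hx)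
  obtain ⟨u, hu⟩ := hg.exists_right_inv
  obtain ⟨t, ht⟩ := hsurj (u ^ N)
  have hπ1 : π (t * g ^ N) = 1 := by
    rw [map_mul, map_pow, ht, ← mul_pow, mul_comm, hu, one_pow]
  have hix : ∀ x, π x = 0 → (1 - t * g ^ N) * x = x := by
    intro x hx
    rw [sub_mul, one_mul, mul_assoc, hN' x hx, mul_zero, sub_zero]
  have hi0 : π (1 - t * g ^ N) = 0 := by rw [map_sub, map_one, hπ1, sub_self]
  exact ⟨1 - t * g ^ N, hi0, hix _ hi0, hix⟩

theorem key {R S : Type u} [CommRing R] [CommRing S] [Algebra R S]
    [Algebra.FinitePresentation R S] (g : S) (f : R)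
    (θ : Localization.Away g ≃ₐ[R] Localization.Away f)
    (Rf Sf : Type u) [CommRing Rf] [CommRing Sf] [Algebra R Rf] [IsLocalization.Away f Rf]
    [Algebra S Sf] [IsLocalization.Away (algebraMap R S f) Sf] [Algebra Rf Sf] [Algebra R Sf]
    [IsScalarTower R S Sf] [IsScalarTower R Rf Sf] :
    ∃ (C : Type u) (_ : CommRing C) (_ : Algebra Rf C), Nonempty (Sf ≃ₐ[Rf] (Rf × C)) := by
  classical
  let θ' : Localization.Away g ≃ₐ[R] Rf :=
    θ.trans (IsLocalization.algEquiv (Submonoid.powers f) (Localization.Away f) Rf)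
  let π₀ : S →ₐ[R] Rf :=
    (θ' : Localization.Away g →ₐ[R] Rf).comp (IsScalarTower.toAlgHom R S (Localization.Away g))
  have hπ₀f : IsUnit (π₀ (algebraMap R S f)) := by
    rw [π₀.commutes]; exact IsLocalization.Away.algebraMap_isUnit f
  let π : Sf →ₐ[R] Rf :=
    IsLocalization.Away.liftAlgHom (A := R) (f := π₀) (algebraMap R S f) hπ₀f
  have hπ : ∀ s, π (algebraMap S Sf s) = π₀ s := by
    intro s; simp [π, IsLocalization.Away.liftAlgHom_apply]
  have hπid : ∀ a : Rf, π (algebraMap Rf Sf a) = a := by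
    have : (π : Sf →+* Rf).comp (algebraMap Rf Sf) = RingHom.id Rf :=
      IsLocalization.ringHom_ext (Submonoid.powers f) (by
        ext r
        simp only [RingHom.coe_comp, Function.comp_apply, RingHom.id_apply, RingHom.coe_coe]
        rw [← IsScalarTower.algebraMap_apply R Rf Sf, π.commutes])
    intro a; exact DFunLike.congr_fun this a
  let πA : Sf →ₐ[Rf] Rf :=
    { (π : Sf →+* Rf) with commutes' := fun a => by simpa using hπid a }
  have hπA : ∀ x, πA x = π x := fun _ => rfl
  have hsurj : Function.Surjective πA := fun a => ⟨algebraMap Rf Sf a, hπid a⟩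
  haveI : Algebra.FinitePresentation S Sf :=
    IsLocalization.Away.finitePresentation (algebraMap R S f)
  haveI : Algebra.FinitePresentation R Sf := Algebra.FinitePresentation.trans R S Sf
  haveI : Algebra.FinitePresentation R Rf := IsLocalization.Away.finitePresentation f
  haveI : Algebra.FinitePresentation Rf Sf :=
    Algebra.FinitePresentation.of_restrict_scalars_finitePresentation R Rf Sf
  have hFG : (RingHom.ker πA.toRingHom).FG :=
    Algebra.FinitePresentation.ker_fG_of_surjective πA hsurj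
  have hgunit : IsUnit (πA.toRingHom (algebraMap S Sf g)) := by
    show IsUnit (π (algebraMap S Sf g))
    rw [hπ]
    exact (IsLocalization.Away.algebraMap_isUnit g).map θ'
  have htors : ∀ x, πA.toRingHom x = 0 → ∃ n : ℕ, (algebraMap S Sf g) ^ n * x = 0 := by
    intro x hx
    replace hx : π x = 0 := hx
    obtain ⟨k, s, hs⟩ := IsLocalization.Away.surj (algebraMap R S f) x
    have h1 : π₀ s = 0 := by
      rw [← hπ, ← hs, map_mul, hx, zero_mul]
    have h2 : algebraMap S (Localization.Away g) s = 0 := by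
      have : θ' (algebraMap S (Localization.Away g) s) = 0 := h1
      simpa using this
    obtain ⟨⟨_, n, rfl⟩, hn⟩ := (IsLocalization.map_eq_zero_iff (Submonoid.powers g) _ s).mp h2
    refine ⟨n, ?_⟩
    have hu : IsUnit (algebraMap S Sf (algebraMap R S f) ^ k) :=
      IsLocalization.Away.algebraMap_pow_isUnit _ k
    apply hu.mul_left_injective
    simp only [zero_mul]
    rw [mul_assoc, hs, ← map_pow, ← map_mul, hn, map_zero]
  obtain ⟨i, hi0, hii, hix⟩ := exists_idem πA.toRingHom hsurj _ hgunit hFG htors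
  let I : Ideal Sf := Ideal.span {1 - i}
  let Φ : Sf →ₐ[Rf] Rf × (Sf ⧸ I) := AlgHom.prod πA (Ideal.Quotient.mkₐ Rf I)
  have hmk1 : Ideal.Quotient.mk I (1 - i) = 0 :=
    Ideal.Quotient.eq_zero_iff_mem.mpr (Ideal.subset_span rfl)
  have hmki : Ideal.Quotient.mk I i = 1 := by
    rw [map_sub, map_one, sub_eq_zero] at hmk1; exact hmk1.symm
  refine ⟨Sf ⧸ I, inferInstance, inferInstance, ⟨AlgEquiv.ofBijective Φ ⟨?_, ?_⟩⟩⟩
  · rw [injective_iff_map_eq_zero]
    intro x hx
    have h1 : πA x = 0 := congrArg Prod.fst hx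
    have h2 : Ideal.Quotient.mk I x = 0 := congrArg Prod.snd hx
    have h3 := hix x h1
    obtain ⟨z, hz⟩ := Ideal.mem_span_singleton'.mp (Ideal.Quotient.eq_zero_iff_mem.mp h2)
    rw [← h3, ← hz]
    have : i * (z * (1 - i)) = z * (i - i * i) := by ring
    rw [this, hii, sub_self, mul_zero]
  · rintro ⟨a, c⟩
    obtain ⟨y, rfl⟩ := Ideal.Quotient.mk_surjective c
    refine ⟨(1 - i) * algebraMap Rf Sf a + i * y, Prod.ext ?_ ?_⟩
    · show πA ((1 - i) * algebraMap Rf Sf a + i * y) = a
      have hi0' : πA i = 0 := hi0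
      rw [map_add, map_mul, map_mul, map_sub, map_one, hi0', sub_zero, one_mul, zero_mul,
        add_zero]
      exact hπid a
    · show Ideal.Quotient.mk I ((1 - i) * algebraMap Rf Sf a + i * y) = Ideal.Quotient.mk I y
      rw [map_add, map_mul, map_mul, hmk1, hmki, zero_mul, one_mul, zero_add]

/-- Let `S` be a finitely presented `R`-algebra and `𝔮` a prime of `S` over `𝔭` such that the induced
map `R_𝔭 → S_𝔮` is bijective. Then for some `f ∉ 𝔭` there is an `R_f`-algebra `C` with `S_f ≅ R_f ×
C` as `R_f`-algebras. -/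
theorem result {R S : Type u} [CommRing R] [CommRing S] [Algebra R S]
    [Algebra.FinitePresentation R S] (q : Ideal S) [q.IsPrime] (p : Ideal R) [p.IsPrime] [q.LiesOver p]
    (h : Function.Bijective (Localization.localRingHom p q (algebraMap R S) (q.over_def p))) :
    ∃ f : R, f ∉ p ∧ ∀ (Rf Sf : Type u) [CommRing Rf] [CommRing Sf] [Algebra R Rf] [IsLocalization.Away f Rf]
      [Algebra S Sf] [IsLocalization.Away (algebraMap R S f) Sf] [Algebra Rf Sf] [Algebra R Sf] [IsScalarTower R S Sf]
      [IsScalarTower R Rf Sf],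
      ∃ (C : Type u) (_ : CommRing C) (_ : Algebra Rf C), Nonempty (Sf ≃ₐ[Rf] (Rf × C)) := by
  classical
  let φ : Localization.AtPrime p →ₐ[R] Localization.AtPrime q :=
    { Localization.localRingHom p q (algebraMap R S) (q.over_def p) with
      commutes' := fun r => by
        simp [Localization.localRingHom_to_map,
          IsScalarTower.algebraMap_apply R S (Localization.AtPrime q)] }
  let e : Localization.AtPrime q ≃ₐ[R] Localization.AtPrime p := (AlgEquiv.ofBijective φ h).symm
  obtain ⟨g, hg, f, hf, ⟨θ⟩⟩ := Groth.Agent.Lib.Helper69.Spread.exists_away_equiv q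
    (Localization.AtPrime q) p (Localization.AtPrime p) e
  refine ⟨f, hf, ?_⟩
  intro Rf Sf _ _ _ _ _ _ _ _ _ _
  exact key g f θ Rf Sf

end Groth.Agent.S2146
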