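import Groth.Statements.S2148
import Groth.Agent.Lib.Helper97.PthPower
import Mathlib.FieldTheory.Perfect

set_option autoImplicit false
universe u
open CAlg

namespace Groth.Agent.S2148

/-- Let `k` be a perfect field of characteristic `p > 0` and `K` an extension field of `k`. For `a ∈ K`,
the differential `da` vanishes in `Ω_{K/k}` if and only if `a` is a `p`-th power in `K`. -/
theorem result {k K : Type u} [Field k] [Field K] [Algebra k K] (p : ℕ) [Fact p.Prime]
    [CharP k p] [PerfectRing k p] (a : K) :
    KaehlerDifferential.D k K a = 0 ↔ ∃ b : K, b ^ p = a := by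
  haveI : CharP K p := charP_of_injective_algebraMap (algebraMap k K).injective p
  constructor
  · intro ha
    apply Groth.Agent.Lib.Helper97.PthPower.exists_pow_eq_of_forall_derivation p a
    intro D
    -- every ℤ-derivation of K is k-linear since k is perfect
    have hk : ∀ c : k, D (algebraMap k K c) = 0 := by
      intro c
      have hc : ((frobeniusEquiv k p).symm c) ^ p = c := frobeniusEquiv_symm_pow_p k p c
      rw [← hc, map_pow, Derivation.leibniz_pow]
      have : (p : K) = 0 := CharP.cast_eq_zero K p
      rw [← Nat.cast_smul_eq_nsmul K, this, zero_smul]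
    let Dl : K →ₗ[k] K :=
      { toFun := D
        map_add' := map_add D
        map_smul' := fun c x => by
          rw [Algebra.smul_def, Derivation.leibniz, hk c, smul_zero, add_zero, RingHom.id_apply,
            smul_eq_mul, Algebra.smul_def] }
    let D' : Derivation k K K := Derivation.mk' Dl (fun x y => D.leibniz x y)
    have h1 : D'.liftKaehlerDifferential (KaehlerDifferential.D k K a) = D' a :=
      Derivation.liftKaehlerDifferential_comp_D D' a
    rw [ha, map_zero] at h1
    exact h1.symm
  · rintro ⟨b, rfl⟩
    rw [Derivation.leibniz_pow]
    have : (p : K) = 0 := CharP.cast_eq_zero K p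
    rw [← Nat.cast_smul_eq_nsmul K, this, zero_smul]

end Groth.Agent.S2148
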