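import Groth.Statements.S2149
import Mathlib

set_option autoImplicit false
universe u
open CAlg
open scoped TensorProduct

namespace Groth.Agent.S2149

open TensorProduct in
theorem coe_rTensor_eq {R S M M' Q : Type u} [CommRing R] [CommRing S] [Algebra R S]
    [AddCommGroup M] [Module S M] [Module R M] [IsScalarTower R S M] [AddCommGroup M'] [Module S M']
    [Module R M'] [IsScalarTower R S M'] [AddCommGroup Q] [Module R Q] (v : M →ₗ[S] M') :
    (TensorProduct.AlgebraTensorModule.rTensor R Q v : M ⊗[R] Q → M' ⊗[R] Q) =
      ((v.restrictScalars R).rTensor Q : M ⊗[R] Q → M' ⊗[R] Q) := by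
  funext z
  induction z using TensorProduct.induction_on with
  | zero => simp
  | tmul x y => rfl
  | add x y hx hy => rw [map_add, map_add, hx, hy]

open TensorProduct in
theorem map_rTensor_eq {R S M M' Q : Type u} [CommRing R] [CommRing S] [Algebra R S]
    [AddCommGroup M] [Module S M] [Module R M] [IsScalarTower R S M] [AddCommGroup M'] [Module S M']
    [Module R M'] [IsScalarTower R S M'] [AddCommGroup Q] [Module R Q] (u : M →ₗ[S] M')
    (P : Submonoid S) :
    (IsLocalizedModule.map P
      (TensorProduct.AlgebraTensorModule.rTensor R Q (LocalizedModule.mkLinearMap P M))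
      (TensorProduct.AlgebraTensorModule.rTensor R Q (LocalizedModule.mkLinearMap P M'))
      (TensorProduct.AlgebraTensorModule.rTensor R Q u) :
        LocalizedModule P M ⊗[R] Q → LocalizedModule P M' ⊗[R] Q) =
    ((((LocalizedModule.map P u).restrictScalars R).rTensor Q) :
        LocalizedModule P M ⊗[R] Q → LocalizedModule P M' ⊗[R] Q) := by
  rw [← coe_rTensor_eq]
  have key : IsLocalizedModule.map P
      (TensorProduct.AlgebraTensorModule.rTensor R Q (LocalizedModule.mkLinearMap P M))
      (TensorProduct.AlgebraTensorModule.rTensor R Q (LocalizedModule.mkLinearMap P M'))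
      (TensorProduct.AlgebraTensorModule.rTensor R Q u) =
      TensorProduct.AlgebraTensorModule.rTensor R Q (LocalizedModule.map P u) := by
    apply IsLocalizedModule.linearMap_ext P
      (TensorProduct.AlgebraTensorModule.rTensor R Q (LocalizedModule.mkLinearMap P M))
      (TensorProduct.AlgebraTensorModule.rTensor R Q (LocalizedModule.mkLinearMap P M'))
    rw [IsLocalizedModule.map_comp]
    ext x q
    have h1 : (LocalizedModule.map P u) (LocalizedModule.mkLinearMap P M x) =
        LocalizedModule.mkLinearMap P M' (u x) := by
      exact IsLocalizedModule.map_apply P (LocalizedModule.mkLinearMap P M)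
        (LocalizedModule.mkLinearMap P M') u x
    simp only [TensorProduct.AlgebraTensorModule.curry_apply, LinearMap.coe_comp,
      Function.comp_apply, TensorProduct.AlgebraTensorModule.rTensor_tmul,
      LinearMap.coe_restrictScalars, TensorProduct.curry_apply]
    rw [h1]
  rw [key]
  rfl

/-- Let `R → S` be a ring map and `u : M → M'` a map of `S`-modules. Then `u`, viewed as an `R`-linear
map, is universally injective exactly when, for every maximal ideal `𝔪` of `S`, the localized map
`M_𝔪 → M'_𝔪` is also universally injective as an `R`-linear map. -/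
theorem result {R S M M' : Type u} [CommRing R] [CommRing S] [Algebra R S]
    [AddCommGroup M] [Module S M] [Module R M] [IsScalarTower R S M] [AddCommGroup M'] [Module S M'] [Module R M']
    [IsScalarTower R S M'] (u : M →ₗ[S] M') :
    CAlgX.UniversallyInjective R (u.restrictScalars R) ↔
      ∀ (m : Ideal S) [m.IsMaximal],
        CAlgX.UniversallyInjective R ((LocalizedModule.map m.primeCompl u).restrictScalars R) := by
  constructor
  · intro H m _ Q _ _
    rw [← map_rTensor_eq]
    apply IsLocalizedModule.map_injective
    rw [coe_rTensor_eq]
    exact H Q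
  · intro H Q _ _
    rw [← coe_rTensor_eq]
    apply injective_of_isLocalized_maximal
      (fun P _ => LocalizedModule P.primeCompl M ⊗[R] Q)
      (fun P _ => TensorProduct.AlgebraTensorModule.rTensor R Q (LocalizedModule.mkLinearMap P.primeCompl M))
      (fun P _ => LocalizedModule P.primeCompl M' ⊗[R] Q)
      (fun P _ => TensorProduct.AlgebraTensorModule.rTensor R Q (LocalizedModule.mkLinearMap P.primeCompl M'))
    intro P _
    rw [map_rTensor_eq]
    exact H P Q

end Groth.Agent.S2149
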