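import Groth.Statements.S2151
import Groth.Agent.Lib.Helper6.AffLimit
import Mathlib.AlgebraicGeometry.AffineTransitionLimit
import Mathlib.CategoryTheory.Filtered.Final

set_option autoImplicit false
universe u
open CategoryTheory AlgebraicGeometry
open Lim

namespace Groth.Agent.S2151

/-- Existence of the limit and part (1): a diagram of schemes indexed by a small cofiltered category all
of whose transition morphisms are affine has a limit in the category of schemes, and every
projection from the limit is an affine morphism. -/
theorem result {I : Type u} [SmallCategory I] [IsCofiltered I] (D : I ⥤ Scheme.{u})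
    [∀ (i j : I) (f : i ⟶ j), IsAffineHom (D.map f)] :
    ∃ (c : Limits.Cone D) (_ : Limits.IsLimit c), ∀ i, IsAffineHom (c.π.app i) := by
  classical
  obtain ⟨i₀⟩ : Nonempty I := IsCofiltered.nonempty
  let E : Over i₀ ⥤ Scheme.{u} := Over.forget i₀ ⋙ D
  have hj₀ : Limits.IsTerminal (Over.mk (𝟙 i₀)) := Over.mkIdTerminal
  have : ∀ j, IsAffineHom (Groth.Agent.Lib.Helper6.AffLimit.f E hj₀ j) := by
    intro j
    change IsAffineHom (D.map (hj₀.from j).left)
    infer_instance
  let c₀ : Limits.Cone E := Groth.Agent.Lib.Helper6.AffLimit.cone E hj₀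
  have hc₀ : Limits.IsLimit c₀ := Groth.Agent.Lib.Helper6.AffLimit.isLimit E hj₀
  let c : Limits.Cone D := (Functor.Initial.extendCone (F := Over.forget i₀) (G := D)).obj c₀
  have hc : Limits.IsLimit c :=
    (Functor.Initial.isLimitExtendConeEquiv (Over.forget i₀) c₀).symm hc₀
  refine ⟨c, hc, fun i => ?_⟩
  have : ∀ {i j : I} (f : i ⟶ j), IsAffineHom (D.map f) := fun f => inferInstance
  exact isAffineHom_π_app D c hc i

end Groth.Agent.S2151
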