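import Groth.Statements.S2152
import Groth.Agent.Lib.Helper50.LimTop
import Mathlib.Topology.Category.TopCat.Limits.Basic

set_option autoImplicit false
universe u
open CategoryTheory AlgebraicGeometry
open Lim

namespace Groth.Agent.S2152

/-- Let `c` be a limit cone of a diagram of schemes indexed by a small cofiltered category with affine
transition morphisms. Then the image of `c` under the forgetful functor to topological spaces is a
limit cone: the underlying space of the limit scheme is the limit of the underlying spaces. -/
theorem result {I : Type u} [SmallCategory I] [IsCofiltered I] (D : I ⥤ Scheme.{u})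
    [∀ (i j : I) (f : i ⟶ j), IsAffineHom (D.map f)] (c : Limits.Cone D) (hc : Limits.IsLimit c) :
    Nonempty (Limits.IsLimit (Scheme.forgetToTop.mapCone c)) := by
  let F := D ⋙ Scheme.forgetToTop
  let k := (TopCat.limitConeIsLimit F).lift (Scheme.forgetToTop.mapCone c)
  have hind : Topology.IsInducing k := by
    have h1 := Lib.Helper50.isInducing_pi_π_app D c hc
    exact (Topology.IsInducing.subtypeVal.of_comp_iff).mp h1
  have hT0 : T0Space ↑(Scheme.forgetToTop.mapCone c).pt := inferInstanceAs (T0Space c.pt)
  have hinj : Function.Injective k := hind.injective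
  have hsurj : Function.Surjective k := by
    intro u
    obtain ⟨s, hs⟩ := Lib.Helper50.exists_π_app_eq_of_compatible D c hc u.1 (fun φ ↦ u.2 φ)
    exact ⟨s, Subtype.ext (funext hs)⟩
  have : IsIso k := TopCat.isIso_of_bijective_of_isOpenMap k ⟨hinj, hsurj⟩
    (hind.isOpenMap (by rw [hsurj.range_eq]; exact isOpen_univ))
  exact ⟨Limits.IsLimit.ofPointIso (TopCat.limitConeIsLimit F)⟩

end Groth.Agent.S2152
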