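import Groth.Statements.S2154
import Groth.Agent.Lib.Helper50.LimDesc6

set_option autoImplicit false
universe u
open CategoryTheory AlgebraicGeometry
open Lim

namespace Groth.Agent.S2154

/-- Let `S` be quasi-compact and quasi-separated and `X = lim X_i` a cofiltered limit of quasi-compact
quasi-separated `S`-schemes locally of finite type over `S`, with finite transition morphisms. If `X
→ S` is integral then `X_i → S` is finite for all `i` beyond some index. -/
theorem result {I : Type u} [SmallCategory I] [IsCofiltered I] (S : Scheme.{u}) [CompactSpace S]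
    [QuasiSeparatedSpace S] (D : I ⥤ Over S) (c : Limits.Cone D) (hc : Limits.IsLimit c)
    [∀ (i j : I) (f : i ⟶ j), IsFinite (D.map f).left] [∀ i, CompactSpace (D.obj i).left]
    [∀ i, QuasiSeparatedSpace (D.obj i).left] [∀ i, LocallyOfFiniteType (D.obj i).hom] [IsIntegralHom c.pt.hom] :
    ∃ i₀ : I, ∀ (i : I) (_ : i ⟶ i₀), IsFinite (D.obj i).hom := by
  classical
  obtain ⟨i₀⟩ := IsCofiltered.nonempty (C := I)
  let D' : I ⥤ Scheme.{u} := D ⋙ Over.forget S
  let c' : Limits.Cone D' := (Over.forget S).mapCone c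
  have hc' : Limits.IsLimit c' := Limits.isLimitOfPreserves (Over.forget S) hc
  have h1 : ∀ (i j : I) (f : i ⟶ j), IsFinite (D'.map f) := fun i j f ↦
    inferInstanceAs (IsFinite (D.map f).left)
  have h2 : ∀ i, CompactSpace (D'.obj i) := fun i ↦ inferInstanceAs (CompactSpace (D.obj i).left)
  have h3 : ∀ i, QuasiSeparatedSpace (D'.obj i) := fun i ↦
    inferInstanceAs (QuasiSeparatedSpace (D.obj i).left)
  have h4 : ∀ i, LocallyOfFiniteType (X := D'.obj i) (D.obj i).hom := fun i ↦
    inferInstanceAs (LocallyOfFiniteType (D.obj i).hom)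
  have h5 : @IsIntegralHom c'.pt S (c'.π.app i₀ ≫ (D.obj i₀).hom) := by
    have e : (c.π.app i₀).left ≫ (D.obj i₀).hom = c.pt.hom := Over.w (c.π.app i₀)
    change IsIntegralHom ((c.π.app i₀).left ≫ (D.obj i₀).hom)
    rw [e]
    infer_instance
  obtain ⟨j, f, hj⟩ := Groth.Agent.Lib.Helper50.exists_forall_isFinite_t D' c' hc'
    (fun i ↦ (D.obj i).hom) (fun {i j} f ↦ Over.w (D.map f)) i₀
  exact ⟨j, fun k g ↦ hj k g⟩

end Groth.Agent.S2154
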