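import Groth.Statements.S2156
import Groth.Agent.Lib.Helper19.Sm.SmoothFiberPointwise

set_option autoImplicit false
universe u
open CategoryTheory AlgebraicGeometry
open Mor

namespace Groth.Agent.S2156

/-- Let `f : X → S` be locally of finite presentation and `x ∈ X` with image `s`. Then `f` is smooth at
`x` if and only if `O_{S,s} → O_{X,x}` is flat and the fibre `X_s → Spec κ(s)` is smooth at the
point corresponding to `x`. -/
theorem result {X S : Scheme.{u}} (f : X ⟶ S) [LocallyOfFinitePresentation f] (x : X)
    [LocallyOfFinitePresentation (f.fiberToSpecResidueField (f.base x))] :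
    x ∈ f.smoothLocus ↔
      (f.stalkMap x).hom.Flat ∧ f.asFiber x ∈ (f.fiberToSpecResidueField (f.base x)).smoothLocus := by
  constructor
  · intro hx
    constructor
    · obtain ⟨U, hxU, hU⟩ := (Groth.Agent.Lib.Helper19.mem_smoothLocus_iff_exists_nhd f x).mp hx
      let xU : U.toScheme := ⟨x, hxU⟩
      have h1 := Flat.stalkMap (U.ι ≫ f) xU
      rw [Scheme.Hom.stalkMap_comp] at h1
      have hiso : IsIso (U.ι.stalkMap xU) := inferInstance
      exact (RingHom.Flat.respectsIso.cancel_right_isIso (f.stalkMap (U.ι xU))
        (U.ι.stalkMap xU)).mp h1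
    · have H : IsPullback (f.fiberι (f.base x)) (f.fiberToSpecResidueField (f.base x)) f
          (S.fromSpecResidueField (f.base x)) := IsPullback.of_hasPullback _ _
      apply Groth.Agent.Lib.Helper19.preimage_smoothLocus_le_of_isPullback f _ _ _ H
      change f.fiberι (f.base x) (f.asFiber x) ∈ f.smoothLocus
      rw [Scheme.Hom.fiberι_asFiber]
      exact hx
  · rintro ⟨hflat, hz⟩
    have key := Groth.Agent.Lib.Helper19.mem_smoothLocus_of_flat_of_mem_smoothLocus_fiber f
      (f.base x) (f.asFiber x) (by rw [Scheme.Hom.fiberι_asFiber]; exact hflat) hz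
    rw [Scheme.Hom.fiberι_asFiber] at key
    exact key

end Groth.Agent.S2156
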