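import Groth.Statements.S2159

set_option autoImplicit false
universe u
open CAlg

namespace Groth.Agent.S2159

/-- Given surjections `p₁ : P₁ → M` and `p₂ : P₂ → M` from projective modules, with kernels `K` and `L`,
there is an isomorphism `K ⊕ P₂ ≅ L ⊕ P₁`. -/
theorem result {R M P₁ P₂ : Type u} [CommRing R] [AddCommGroup M] [Module R M] [AddCommGroup P₁] [Module R P₁]
    [Module.Projective R P₁] [AddCommGroup P₂] [Module R P₂] [Module.Projective R P₂] (p₁ : P₁ →ₗ[R] M) (p₂ : P₂ →ₗ[R] M)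
    (h₁ : Function.Surjective p₁) (h₂ : Function.Surjective p₂) :
    Nonempty ((LinearMap.ker p₁ × P₂) ≃ₗ[R] (LinearMap.ker p₂ × P₁)) := by
  obtain ⟨s₁, hs₁⟩ := Module.projective_lifting_property p₂ p₁ h₂
  obtain ⟨s₂, hs₂⟩ := Module.projective_lifting_property p₁ p₂ h₁
  have e₁ : ∀ a, p₂ (s₁ a) = p₁ a := fun a => LinearMap.congr_fun hs₁ a
  have e₂ : ∀ b, p₁ (s₂ b) = p₂ b := fun b => LinearMap.congr_fun hs₂ b
  let f : (LinearMap.ker p₁ × P₂) →ₗ[R] (LinearMap.ker p₂ × P₁) :=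
    LinearMap.prod
      (LinearMap.codRestrict (LinearMap.ker p₂)
        (LinearMap.snd R _ _ - s₁ ∘ₗ ((LinearMap.ker p₁).subtype ∘ₗ LinearMap.fst R _ _ + s₂ ∘ₗ LinearMap.snd R _ _))
        (by
          rintro ⟨⟨k, hk⟩, y⟩
          have hk' : p₁ k = 0 := hk
          simp [e₁, e₂, hk']))
      ((LinearMap.ker p₁).subtype ∘ₗ LinearMap.fst R _ _ + s₂ ∘ₗ LinearMap.snd R _ _)
  let g : (LinearMap.ker p₂ × P₁) →ₗ[R] (LinearMap.ker p₁ × P₂) :=
    LinearMap.prod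
      (LinearMap.codRestrict (LinearMap.ker p₁)
        (LinearMap.snd R _ _ - s₂ ∘ₗ ((LinearMap.ker p₂).subtype ∘ₗ LinearMap.fst R _ _ + s₁ ∘ₗ LinearMap.snd R _ _))
        (by
          rintro ⟨⟨l, hl⟩, a⟩
          have hl' : p₂ l = 0 := hl
          simp [e₁, e₂, hl']))
      ((LinearMap.ker p₂).subtype ∘ₗ LinearMap.fst R _ _ + s₁ ∘ₗ LinearMap.snd R _ _)
  have hfg : f ∘ₗ g = LinearMap.id := by
    refine LinearMap.ext fun x => ?_
    obtain ⟨⟨l, hl⟩, a⟩ := x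
    refine Prod.ext (Subtype.ext ?_) ?_ <;> simp [f, g]
  have hgf : g ∘ₗ f = LinearMap.id := by
    refine LinearMap.ext fun x => ?_
    obtain ⟨⟨k, hk⟩, y⟩ := x
    refine Prod.ext (Subtype.ext ?_) ?_ <;> simp [f, g]
  exact ⟨LinearEquiv.ofLinearMap f g hfg hgf⟩

end Groth.Agent.S2159
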