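import Groth.Statements.S2160
import Mathlib.RingTheory.Ideal.KrullsHeightTheorem

set_option autoImplicit false
universe u
open CAlg

namespace Groth.Agent.S2160

/-- Key algebraic step: in a Noetherian local domain of dimension at least two there is no
nonzero element contained in every nonzero prime. -/
theorem no_universal_element {R : Type u} [CommRing R] [IsDomain R] [IsLocalRing R] [IsNoetherianRing R]
    (hdim : 2 ≤ ringKrullDim R) (x : R) (hx : x ≠ 0)
    (hall : ∀ P : Ideal R, P.IsPrime → P ≠ ⊥ → x ∈ P) : False := by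
  classical
  have hm : (IsLocalRing.maximalIdeal R).height = ringKrullDim R :=
    IsLocalRing.maximalIdeal_height_eq_ringKrullDim
  have hm2 : (2 : ℕ∞) ≤ (IsLocalRing.maximalIdeal R).height := by
    have : ((2 : ℕ∞) : WithBot ℕ∞) ≤ ((IsLocalRing.maximalIdeal R).height : WithBot ℕ∞) := by
      rw [hm]; exact_mod_cast hdim
    exact_mod_cast this
  have hmbot : IsLocalRing.maximalIdeal R ≠ ⊥ := by
    intro h
    rw [h, Ideal.height_bot] at hm2
    exact absurd hm2 (by norm_num)
  have hxm : x ∈ IsLocalRing.maximalIdeal R := hall _ inferInstance hmbot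
  have hxtop : Ideal.span {x} ≠ ⊤ := by
    intro h
    rw [Ideal.span_singleton_eq_top] at h
    exact (IsLocalRing.mem_maximalIdeal x).1 hxm h
  have hfin : (Ideal.span {x}).minimalPrimes.Finite := Ideal.finite_minimalPrimes_of_isNoetherianRing R _
  -- prime avoidance
  have hnot : ¬ ((IsLocalRing.maximalIdeal R : Set R) ⊆ ⋃ P ∈ (hfin.toFinset : Set (Ideal R)), (P : Set R)) := by
    intro hsub
    rw [Ideal.subset_union_prime (f := fun P : Ideal R => P) ⊥ ⊥] at hsub
    · obtain ⟨P, hP, hle⟩ := hsub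
      have hP' : P ∈ (Ideal.span {x}).minimalPrimes := by simpa using hP
      have hPprime : P.IsPrime := hP'.1.1
      have h1 : P.height ≤ 1 := Ideal.height_le_one_of_isPrincipal_of_mem_minimalPrimes _ P hP'
      have h2 : (IsLocalRing.maximalIdeal R).height ≤ P.height := Ideal.height_mono hle
      have : (2 : ℕ∞) ≤ 1 := hm2.trans (h2.trans h1)
      exact absurd this (by norm_num)
    · intro P hP _ _
      have hP' : P ∈ (Ideal.span {x}).minimalPrimes := by simpa using hP
      exact hP'.1.1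
  rw [Set.not_subset] at hnot
  obtain ⟨y, hym, hyn⟩ := hnot
  have hyn' : ∀ P ∈ (Ideal.span {x}).minimalPrimes, y ∉ P := by
    intro P hP hy
    apply hyn
    simp only [Set.mem_iUnion]
    exact ⟨P, by simpa using hP, hy⟩
  obtain ⟨P₀, hP₀⟩ := Ideal.nonempty_minimalPrimes hxtop
  have hy0 : y ≠ 0 := by
    rintro rfl
    exact hyn' P₀ hP₀ (zero_mem _)
  have hytop : Ideal.span {y} ≠ ⊤ := by
    intro h
    rw [Ideal.span_singleton_eq_top] at h
    exact (IsLocalRing.mem_maximalIdeal y).1 hym h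
  obtain ⟨Q, hQ⟩ := Ideal.nonempty_minimalPrimes hytop
  have hQprime : Q.IsPrime := hQ.1.1
  have hyQ : y ∈ Q := hQ.1.2 (Ideal.mem_span_singleton_self y)
  have hQbot : Q ≠ ⊥ := by
    rintro rfl
    exact hy0 (by simpa using hyQ)
  have hxQ : x ∈ Q := hall Q hQprime hQbot
  have hQ1 : Q.height ≤ 1 := Ideal.height_le_one_of_isPrincipal_of_mem_minimalPrimes _ Q hQ
  obtain ⟨P, hP, hPQ⟩ := Ideal.exists_minimalPrimes_le (I := Ideal.span {x}) (J := Q)
    (by rwa [Ideal.span_singleton_le_iff_mem])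
  have hPprime : P.IsPrime := hP.1.1
  have hxP : x ∈ P := hP.1.2 (Ideal.mem_span_singleton_self x)
  have hPbot : P ≠ ⊥ := by
    rintro rfl
    exact hx (by simpa using hxP)
  have hPQeq : P = Q := by
    by_contra hne
    have hlt : P < Q := lt_of_le_of_ne hPQ hne
    have h1 : P.height + 1 ≤ Q.height := Ideal.height_add_one_le_of_lt_of_isPrime hlt
    have hbotlt : (⊥ : Ideal R) < P := bot_lt_iff_ne_bot.2 hPbot
    have : (⊥ : Ideal R).IsPrime := Ideal.isPrime_bot
    have h0 : (⊥ : Ideal R).height + 1 ≤ P.height := Ideal.height_add_one_le_of_lt_of_isPrime hbotlt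
    have h3 : (1 : ℕ∞) ≤ P.height := le_trans (by simp) h0
    have h4 : (1 : ℕ∞) + 1 ≤ 1 := (add_le_add h3 le_rfl).trans (h1.trans hQ1)
    exact absurd h4 (by norm_num)
  exact hyn' P hP (hPQeq ▸ hyQ)

/-- Let `R` be a Noetherian local domain of Krull dimension at least `2`. Then every nonempty open
subset of `Spec R` is infinite. -/
theorem result {R : Type u} [CommRing R] [IsDomain R] [IsLocalRing R] [IsNoetherianRing R]
    (hdim : 2 ≤ ringKrullDim R) (U : Set (PrimeSpectrum R)) (hU : IsOpen U) (hne : U.Nonempty) : U.Infinite := by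
  classical
  intro hfinU
  obtain ⟨q, hq⟩ := hne
  obtain ⟨_, ⟨f, rfl⟩, hqf, hfU⟩ :=
    PrimeSpectrum.isTopologicalBasis_basic_opens.exists_subset_of_mem_open hq hU
  have hf0 : f ≠ 0 := by
    rintro rfl
    simp at hqf
  -- for each point of `U` pick a nonzero element when possible
  have hchoice : ∀ P : PrimeSpectrum R, ∃ a : R, a ≠ 0 ∧ (P.asIdeal ≠ ⊥ → a ∈ P.asIdeal) := by
    intro P
    by_cases h : P.asIdeal = ⊥
    · exact ⟨1, one_ne_zero, fun h' => absurd h h'⟩
    · obtain ⟨a, ha, ha0⟩ := Submodule.exists_mem_ne_zero_of_ne_bot h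
      exact ⟨a, ha0, fun _ => ha⟩
  choose a ha0 ha using hchoice
  let x : R := f * ∏ P ∈ hfinU.toFinset, a P
  have hx : x ≠ 0 := mul_ne_zero hf0 (Finset.prod_ne_zero_iff.2 fun P _ => ha0 P)
  refine no_universal_element hdim x hx ?_
  intro P hP hPbot
  by_cases hPU : (⟨P, hP⟩ : PrimeSpectrum R) ∈ U
  · have hmem : (⟨P, hP⟩ : PrimeSpectrum R) ∈ hfinU.toFinset := by simpa using hPU
    have h1 : a ⟨P, hP⟩ ∈ P := ha ⟨P, hP⟩ hPbot
    have h2 : ∏ Q ∈ hfinU.toFinset, a Q ∈ P :=
      Ideal.mem_of_dvd P (Finset.dvd_prod_of_mem a hmem) h1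
    exact P.mul_mem_left f h2
  · have hPf : (⟨P, hP⟩ : PrimeSpectrum R) ∉ (PrimeSpectrum.basicOpen f : Set (PrimeSpectrum R)) :=
      fun h => hPU (hfU h)
    have hfP : f ∈ P := by
      by_contra hfP
      exact hPf hfP
    exact P.mul_mem_right _ hfP

end Groth.Agent.S2160
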