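import Groth.Statements.S2161
import Groth.Agent.Lib.Helper20.UnivHomeoLocal

set_option autoImplicit false
universe u
open CAlg

namespace Groth.Agent.S2161

open Groth.Agent.Lib.Helper20.UnivHomeo TensorProduct in
theorem uh_of_pow_lifts {R S : Type u} [CommRing R] [CommRing S] [Algebra R S]
    (hker : ∀ r : R, algebraMap R S r = 0 → IsNilpotent r) (G : Set S) (hG : Algebra.adjoin R G = ⊤)
    (hpow : ∀ x ∈ G, ∃ (n : ℕ) (P : Polynomial R), 0 < n ∧
      Polynomial.map (algebraMap R S) P = (Polynomial.X - Polynomial.C x) ^ n) : UH R S := by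
  refine uh_of_adjoin G hG ?_ hker ?_
  · intro x hx
    obtain ⟨n, P, hn, hP⟩ := hpow x hx
    have hmonic : ((Polynomial.X - Polynomial.C x) ^ n : Polynomial S).Monic :=
      (Polynomial.monic_X_sub_C x).pow n
    have hlifts : ((Polynomial.X - Polynomial.C x) ^ n : Polynomial S) ∈
        Polynomial.lifts (algebraMap R S) := ⟨P, hP⟩
    obtain ⟨Q, hQ, -, hQm⟩ := Polynomial.lifts_and_natDegree_eq_and_monic hlifts hmonic
    refine ⟨Q, hQm, ?_⟩
    rw [← Polynomial.eval_map, hQ]
    simp [hn.ne']
  · intro x hx
    obtain ⟨n, P, hn, hP⟩ := hpow x hx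
    rw [mem_radicialClosure]
    refine ⟨n, ?_⟩
    have hL := congrArg (Polynomial.map
      (Algebra.TensorProduct.includeLeft : S →ₐ[R] S ⊗[R] S).toRingHom) hP
    have hR := congrArg (Polynomial.map
      (Algebra.TensorProduct.includeRight : S →ₐ[R] S ⊗[R] S).toRingHom) hP
    rw [Polynomial.map_map] at hL hR
    have hLR : (Algebra.TensorProduct.includeLeft : S →ₐ[R] S ⊗[R] S).toRingHom.comp
        (algebraMap R S) = (Algebra.TensorProduct.includeRight : S →ₐ[R] S ⊗[R] S).toRingHom.comp
        (algebraMap R S) := by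
      ext r
      simp only [AlgHom.toRingHom_eq_coe, RingHom.coe_comp, RingHom.coe_coe, Function.comp_apply,
        AlgHom.commutes]
    rw [hLR] at hL
    have h := hL.symm.trans hR
    simp only [Polynomial.map_pow, Polynomial.map_sub, Polynomial.map_X, Polynomial.map_C,
      AlgHom.toRingHom_eq_coe, RingHom.coe_coe, Algebra.TensorProduct.includeLeft_apply,
      Algebra.TensorProduct.includeRight_apply] at h
    have h2 := congrArg (Polynomial.eval (x ⊗ₜ[R] (1 : S))) h
    simp only [Polynomial.eval_pow, Polynomial.eval_sub, Polynomial.eval_X, Polynomial.eval_C,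
      sub_self, zero_pow hn.ne'] at h2
    exact h2.symm

/-- Let R → S be a ring map whose kernel consists of nilpotent elements, and suppose S is generated as
an R-algebra by elements x for which some power (T − x)ⁿ, n > 0, is the image of a polynomial over
R. Then Spec S → Spec R is a homeomorphism, and for every prime 𝔮 of S over 𝔭 the extension
κ(𝔮)/κ(𝔭) is purely inseparable. -/
theorem result {R S : Type u} [CommRing R] [CommRing S] [Algebra R S]
    (hker : ∀ r : R, algebraMap R S r = 0 → IsNilpotent r) (G : Set S) (hG : Algebra.adjoin R G = ⊤)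
    (hpow : ∀ x ∈ G, ∃ (n : ℕ) (P : Polynomial R), 0 < n ∧
      Polynomial.map (algebraMap R S) P = (Polynomial.X - Polynomial.C x) ^ n) :
    IsHomeomorph (PrimeSpectrum.comap (algebraMap R S)) ∧
      ∀ (q : Ideal S) [q.IsPrime] (p : Ideal R) [p.IsPrime] [q.LiesOver p],
        @IsPurelyInseparable p.ResidueField q.ResidueField _ _
          (Ideal.ResidueField.mapₐ p q (Algebra.ofId R S) (q.over_def p)).toRingHom.toAlgebra := by
  have hUH := uh_of_pow_lifts hker G hG hpow
  refine ⟨?_, ?_⟩
  · rw [isHomeomorph_iff_continuous_isClosedMap_bijective]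
    have := hUH.integral
    exact ⟨PrimeSpectrum.continuous_comap (algebraMap R S),
      PrimeSpectrum.isClosedMap_comap_of_isIntegral _ (algebraMap_isIntegral_iff.mpr hUH.integral),
      hUH.comap_injective, hUH.comap_surjective⟩
  · intro q _ p _ _
    have h1 := (Groth.Agent.Lib.Helper20.UnivHomeo.universallyInjective_SpecMap_iff_ring.mp
      hUH.universallyInjective).2 q p (q.over_def p)
    exact h1

end Groth.Agent.S2161
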