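import Groth.Statements.S2163
import Groth.Agent.Lib.Helper52.MittagLeffler

set_option autoImplicit false
universe u
open CAlg

namespace Groth.Agent.S2163

open Groth.Agent.Lib.Helper52.ML TensorProduct in
/-- A finite module `M` such that `M ⊗ R^A → M^A` is injective for all `A` is finitely
presented. -/
theorem finitePresentation_of_τ_injective {R : Type u} [CommRing R] (M : Type u) [AddCommGroup M]
    [Module R M] [Module.Finite R M]
    (hτ : ∀ A : Type u, Function.Injective (τ R M (fun _ : A => R))) :
    Module.FinitePresentation R M := by
  classical
  obtain ⟨n, π, hπ⟩ := Module.Finite.exists_fin' R M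
  refine Module.finitePresentation_of_surjective π hπ ?_
  set K := LinearMap.ker π with hK
  obtain ⟨y, hy⟩ := (τ_free_bijective (R := R) (n := n) (fun _ : K => R)).2
    (fun k => (k.1 : Fin n → R) ⊗ₜ[R] (1 : R))
  have h1 : π.rTensor (K → R) y = 0 := by
    apply hτ K
    rw [map_zero]
    funext k
    rw [τ_rTensor, hy, LinearMap.rTensor_tmul]
    have : π k.1 = 0 := k.2
    rw [this, TensorProduct.zero_tmul]
    rfl
  have hex := rTensor_exact (K → R) (LinearMap.exact_subtype_ker_map π) hπ
  obtain ⟨w, hw⟩ := (hex y).1 h1
  obtain ⟨s, kl, rl, rfl⟩ := TensorProduct.exists_sum_tmul_eq w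
  refine ⟨Finset.univ.image (fun l => (kl l).1), ?_⟩
  apply le_antisymm
  · rw [Submodule.span_le]
    intro v hv
    simp only [Finset.coe_image, Finset.coe_univ, Set.image_univ, Set.mem_range] at hv
    obtain ⟨l, rfl⟩ := hv
    exact (kl l).2
  · intro k hk
    have h2 := congrFun hy ⟨k, hk⟩
    rw [← hw, map_sum, map_sum] at h2
    simp only [LinearMap.rTensor_tmul, Submodule.subtype_apply, TensorProduct.piRightHom_tmul,
      Finset.sum_apply] at h2
    have h3 := congrArg (TensorProduct.rid R (Fin n → R)) h2
    simp only [map_sum, TensorProduct.rid_tmul, one_smul] at h3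
    rw [← h3]
    refine Submodule.sum_mem _ fun l _ => Submodule.smul_mem _ _ (Submodule.subset_span ?_)
    simp


/-- A ring `R` is coherent — every finitely generated ideal is a finitely presented module — if and only
if for every index set `A` (in the same universe) the product module `R^A` is flat. -/
theorem result {R : Type u} [CommRing R] :
    (∀ I : Ideal R, I.FG → Module.FinitePresentation R I) ↔ ∀ (A : Type u), Module.Flat R (A → R) := by
  constructor
  · intro h A
    rw [Module.Flat.iff_rTensor_injective]
    intro I hI
    rw [injective_iff_map_eq_zero]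
    intro x hx
    have := h I hI
    apply (Groth.Agent.Lib.Helper52.ML.τ_bijective_of_finitePresentation (R := R) (M := I)
      (fun _ : A => R)).1
    rw [map_zero]
    funext a
    have h1 := Groth.Agent.Lib.Helper52.ML.τ_rTensor (fun _ : A => R) I.subtype x a
    rw [hx, map_zero] at h1
    have hinj : Function.Injective (I.subtype.rTensor R) :=
      Module.Flat.rTensor_preserves_injective_linearMap _ Subtype.val_injective
    apply hinj
    rw [← h1]
    exact (map_zero _).symm
  · intro h I hI
    have : Module.Finite R I := Module.Finite.iff_fg.2 hI
    apply finitePresentation_of_τ_injective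
    intro A
    rw [injective_iff_map_eq_zero]
    intro x hx
    have := h A
    have hinj : Function.Injective (I.subtype.rTensor (A → R)) :=
      Module.Flat.rTensor_preserves_injective_linearMap _ Subtype.val_injective
    apply hinj
    rw [map_zero]
    apply (Groth.Agent.Lib.Helper52.ML.τ_bijective_of_finitePresentation (R := R) (M := R)
      (fun _ : A => R)).1
    rw [map_zero]
    funext a
    rw [Groth.Agent.Lib.Helper52.ML.τ_rTensor, hx]
    exact map_zero _

end Groth.Agent.S2163
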