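import Groth.Statements.S2167
import Groth.Agent.Lib.Helper94.CILocal

set_option autoImplicit false
universe u
open LCI

namespace Groth.Agent.S2167

open IsLocalRing

/-- the quotient map to the conormal module as a semilinear map -/
noncomputable def toCotSL {R : Type u} [CommRing R] (I : Ideal R) :
    I →ₛₗ[Ideal.Quotient.mk I] I.Cotangent where
  toFun := I.toCotangent
  map_add' := map_add _
  map_smul' r x := by
    rw [map_smul]
    rfl

theorem toCotSL_apply {R : Type u} [CommRing R] (I : Ideal R) (x : I) :
    toCotSL I x = I.toCotangent x := rfl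

/-- the minimal number of generators of the conormal module is that of the ideal -/
theorem spanFinrank_cotangent {R : Type u} [CommRing R] [IsLocalRing R] [IsNoetherianRing R]
    (I : Ideal R) (hI : I ≤ maximalIdeal R) :
    (⊤ : Submodule (R ⧸ I) I.Cotangent).spanFinrank = I.spanFinrank := by
  classical
  have hfgI : I.FG := IsNoetherian.noetherian I
  have hfgtop : (⊤ : Submodule R I).FG := (Submodule.fg_top I).2 hfgI
  have hmap : (⊤ : Submodule R I).map (toCotSL I) = ⊤ := by
    rw [eq_top_iff]
    rintro y -
    obtain ⟨x, rfl⟩ := Ideal.toCotangent_surjective I y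
    exact ⟨x, trivial, rfl⟩
  apply le_antisymm
  · rw [← hmap, ← Submodule.spanFinrank_top I]
    exact Submodule.spanFinrank_map_le_of_fg (toCotSL I) hfgtop
  · have hfgC : (⊤ : Submodule (R ⧸ I) I.Cotangent).FG := by
      rw [← hmap]
      exact hfgtop.map _
    obtain ⟨s, hs, hspan⟩ := Submodule.FG.exists_span_finset_card_eq_spanFinrank hfgC
    -- lift the generators
    let lift : I.Cotangent → R := fun y => ((Function.surjInv (Ideal.toCotangent_surjective I) y : I) : R)
    have hlift : ∀ y, ∃ h : lift y ∈ I, I.toCotangent ⟨lift y, h⟩ = y := fun y =>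
      ⟨(Function.surjInv (Ideal.toCotangent_surjective I) y).2,
        Function.surjInv_eq (Ideal.toCotangent_surjective I) y⟩
    let t : Finset R := s.image lift
    have htI : Ideal.span (t : Set R) ≤ I := by
      rw [Ideal.span_le]
      intro x hx
      obtain ⟨y, -, rfl⟩ := Finset.mem_image.1 (Finset.mem_coe.1 hx)
      exact (hlift y).1
    have hle : I ≤ Ideal.span (t : Set R) := by
      refine Submodule.le_of_le_smul_of_le_jacobson_bot (I := I) hfgI ?_ ?_
      · rw [IsLocalRing.jacobson_eq_maximalIdeal ⊥ bot_ne_top]
        exact hI
      · intro x hx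
        -- the class of x is a combination of the generators
        have hx' : I.toCotangent ⟨x, hx⟩ ∈ Submodule.span (R ⧸ I) (s : Set I.Cotangent) := by
          rw [hspan]; trivial
        -- the submodule of classes coming from span t
        let N : Submodule R I := Submodule.comap I.subtype (Ideal.span (t : Set R))
        have hN : Submodule.span (R ⧸ I) (s : Set I.Cotangent) ≤ N.map (toCotSL I) := by
          rw [Submodule.span_le]
          intro y hy
          obtain ⟨h1, h2⟩ := hlift y
          refine ⟨⟨lift y, h1⟩, ?_, h2⟩
          show lift y ∈ Ideal.span (t : Set R)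
          exact Ideal.subset_span (Finset.mem_coe.2 (Finset.mem_image_of_mem lift hy))
        obtain ⟨n, hn, hnx⟩ := hN hx'
        have hker : I.toCotangent ((⟨x, hx⟩ : I) - n) = 0 := by
          rw [map_sub, sub_eq_zero]
          exact hnx.symm
        rw [Ideal.toCotangent_eq_zero] at hker
        have hdecomp : x = (n : R) + (x - n) := by ring
        rw [hdecomp]
        refine Submodule.add_mem_sup hn ?_
        rw [smul_eq_mul, ← pow_two]
        exact hker
    have heq : I = Ideal.span (t : Set R) := le_antisymm hle htI
    calc I.spanFinrank = (Ideal.span (t : Set R)).spanFinrank := by rw [← heq]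
      _ ≤ (t : Set R).ncard := Submodule.spanFinrank_span_le_ncard_of_finite t.finite_toSet
      _ = t.card := Set.ncard_coe_finset t
      _ ≤ s.card := Finset.card_image_le
      _ = _ := hs

/-- Equivalence of (2) and (3), special case with R already a regular local ring: for a regular local
ring R and a proper ideal I, the ideal I is generated by a regular sequence if and only if the
conormal module I/I^2 can be generated by (dim R - dim R/I) elements, the inequality below being the
additive form of that count. -/
theorem result {R : Type u} [CommRing R] [IsRegularLocalRing R]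
    (I : Ideal R) (hI : I ≠ ⊤) :
    (∃ rs : List R, Ideal.ofList rs = I ∧ RingTheory.Sequence.IsRegular R rs) ↔
      (((⊤ : Submodule (R ⧸ I) I.Cotangent).spanFinrank : WithBot ℕ∞) + ringKrullDim (R ⧸ I)
        ≤ ringKrullDim R) := by
  have hIm : I ≤ maximalIdeal R := IsLocalRing.le_maximalIdeal hI
  rw [spanFinrank_cotangent I hIm]
  have h := Groth.Agent.Lib.Helper94.CILocal.isRegularIdeal_iff_dim R I hIm
  have hge := ringKrullDim_le_ringKrullDim_quotient_add_spanFinrank I
    (by rw [IsLocalRing.ringJacobson_eq_maximalIdeal]; exact hIm)
  constructor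
  · rintro ⟨rs, hrs, hreg⟩
    have := h.1 ⟨rs, hreg, hrs⟩
    rw [← this, add_comm]
  · intro hle
    have heq : ringKrullDim (R ⧸ I) + I.spanFinrank = ringKrullDim R :=
      le_antisymm (by rwa [add_comm]) hge
    obtain ⟨rs, hreg, hrs⟩ := h.2 heq
    exact ⟨rs, hrs, hreg⟩

end Groth.Agent.S2167
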