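import Groth.Statements.S2169
import Groth.Agent.Lib.Helper76.CIPres

set_option autoImplicit false
universe u
open LCI

namespace Groth.Agent.S2169

/-- Let A be a complete Noetherian local ring whose completion is a regular local ring modulo a regular
sequence. Then for every surjection R -> A from a regular local ring R, the kernel is generated by a
regular sequence of R. -/
theorem result {A R : Type u} [CommRing A] [CommRing R]
    [IsNoetherianRing A] [IsLocalRing A] [IsAdicComplete (IsLocalRing.maximalIdeal A) A]
    [IsRegularLocalRing R] (f : R →+* A) (hf : Function.Surjective f)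
    (hA : Pi1.IsCompleteIntersection A) :
    ∃ rs : List R, Ideal.ofList rs = RingHom.ker f ∧ RingTheory.Sequence.IsRegular R rs := by
  obtain ⟨B, _, hB, rs, hmem, hreg, ⟨e⟩⟩ := hA
  -- the second presentation
  let e' : (B ⧸ Ideal.span {r | r ∈ rs}) ≃+* A :=
    e.symm.trans (AdicCompletion.ofAlgEquiv (IsLocalRing.maximalIdeal A)).symm.toRingEquiv
  let ψ : B →+* A := e'.toRingHom.comp (Ideal.Quotient.mk (Ideal.span {r | r ∈ rs}))
  have hψ : Function.Surjective ψ := e'.surjective.comp Ideal.Quotient.mk_surjective
  have hker : RingHom.ker ψ = Ideal.ofList rs := by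
    rw [RingHom.ker_equiv_comp, Ideal.mk_ker]
  have h1 : CInt.IsRegularIdeal (RingHom.ker ψ) := ⟨rs, hreg, hker.symm⟩
  obtain ⟨rs', hreg', hrs'⟩ :=
    (Groth.Agent.Lib.Helper76.KosLen.isRegularIdeal_ker_iff f ψ hf hψ).mpr h1
  exact ⟨rs', hrs', hreg'⟩

end Groth.Agent.S2169
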