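import Groth.Statements.S2170
import Groth.Agent.Lib.Helper21.QuadForm
-- import your own Groth.Agent.* helpers here

set_option autoImplicit false
open Finset
open Models

namespace Groth.Agent.S2170

theorem row_sum {n : ℕ} (A : Matrix (Fin n) (Fin n) ℝ) (m : Fin n → ℝ) (i : Fin n) :
    ∑ j, A i j * m j = A i i * m i + ∑ j ∈ univ.erase i, A i j * m j := by
  exact (Finset.add_sum_erase univ (fun j => A i j * m j) (Finset.mem_univ i)).symm

theorem gen_mem_ker {n : ℕ} (A : Matrix (Fin n) (Fin n) ℝ) (m : Fin n → ℝ)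
    (hsymm : A.IsSymm) (I : Finset (Fin n)) (h1 : ∀ i ∈ I, ∀ j ∉ I, A i j = 0)
    (h2 : ∀ i ∈ I, ∑ j ∈ univ.erase i, A i j * m j = -(A i i * m i)) :
    A.mulVec (fun i => if i ∈ I then m i else 0) = 0 := by
  funext i
  simp only [Matrix.mulVec, dotProduct, Pi.zero_apply, mul_ite, mul_zero]
  by_cases hi : i ∈ I
  · have hrow : ∑ j, A i j * m j = 0 := by rw [row_sum, h2 i hi]; ring
    refine Eq.trans (Finset.sum_congr rfl fun j _ => ?_) hrow
    by_cases hj : j ∈ I
    · simp [hj]
    · simp [hj, h1 i hi j hj]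
  · refine Finset.sum_eq_zero fun j _ => ?_
    by_cases hj : j ∈ I
    · have : A i j = 0 := by rw [hsymm.apply j i]; exact h1 j hj i hi
      simp [this]
    · simp [hj]

open Groth.Agent.Lib.Helper21 in
theorem ker_conditions {n : ℕ} (A : Matrix (Fin n) (Fin n) ℝ) (m : Fin n → ℝ)
    (hsymm : A.IsSymm) (hA : ∀ i j, i ≠ j → 0 ≤ A i j) (hm : ∀ i, 0 < m i)
    (hle : ∀ i, ∑ j ∈ univ.erase i, A i j * m j ≤ -(A i i * m i))
    (x : Fin n → ℝ) (hx : A.mulVec x = 0) :
    (∀ i, x i / m i = 0 ∨ ∑ j ∈ univ.erase i, A i j * m j = -(A i i * m i)) ∧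
      (∀ i j, A i j = 0 ∨ x i / m i = x j / m j) := by
  have hm' : ∀ i, m i ≠ 0 := fun i => (hm i).ne'
  have hxy : ∀ i, x i = (x i / m i) * m i := fun i => (div_mul_cancel₀ _ (hm' i)).symm
  have hrow : ∀ i, ∑ j, A i j * m j ≤ 0 := fun i => by
    rw [row_sum]; linarith [hle i]
  have key := quad_identity A hsymm m (fun i => x i / m i)
  simp only [← hxy] at key
  have h0 : ∀ i, ∑ j, A i j * x j = 0 := fun i => by
    have := congrFun hx i
    simpa [Matrix.mulVec, dotProduct] using this
  simp only [h0, mul_zero, Finset.sum_const_zero] at key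
  have hterm1 : ∀ i, 0 ≤ -((x i / m i) ^ 2 * m i * ∑ j, A i j * m j) := by
    intro i
    have h1 : 0 ≤ (x i / m i) ^ 2 * m i := by have := hm i; positivity
    nlinarith [hrow i]
  have hterm2 : ∀ i j, 0 ≤ A i j * m i * m j * (x i / m i - x j / m j) ^ 2 := by
    intro i j
    by_cases hij : i = j
    · subst hij; simp
    · have := hA i j hij
      have := hm i
      have := hm j
      positivity
  have hs1 : 0 ≤ ∑ i, -((x i / m i) ^ 2 * m i * ∑ j, A i j * m j) :=
    Finset.sum_nonneg fun i _ => hterm1 i
  have hs2 : 0 ≤ ∑ i, ∑ j, A i j * m i * m j * (x i / m i - x j / m j) ^ 2 :=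
    Finset.sum_nonneg fun i _ => Finset.sum_nonneg fun j _ => hterm2 i j
  rw [Finset.sum_neg_distrib] at hs1
  have hz1 : ∑ i, -((x i / m i) ^ 2 * m i * ∑ j, A i j * m j) = 0 := by
    rw [Finset.sum_neg_distrib]; linarith
  have hz2 : ∑ i, ∑ j, A i j * m i * m j * (x i / m i - x j / m j) ^ 2 = 0 := by linarith
  constructor
  · intro i
    have := (Finset.sum_eq_zero_iff_of_nonneg (fun i _ => hterm1 i)).1 hz1 i (Finset.mem_univ i)
    simp only [neg_eq_zero, mul_eq_zero, hm' i, or_false, ne_eq, OfNat.ofNat_ne_zero,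
      not_false_eq_true, pow_eq_zero_iff] at this
    rcases this with h | h
    · exact Or.inl h
    · right
      rw [row_sum] at h
      linarith
  · intro i j
    have h1 := (Finset.sum_eq_zero_iff_of_nonneg
        (fun i _ => Finset.sum_nonneg fun j _ => hterm2 i j)).1 hz2 i (Finset.mem_univ i)
    have h2 := (Finset.sum_eq_zero_iff_of_nonneg (fun j _ => hterm2 i j)).1 h1 j
        (Finset.mem_univ j)
    simp only [mul_eq_zero, hm' i, hm' j, or_false, ne_eq, OfNat.ofNat_ne_zero,
      not_false_eq_true, pow_eq_zero_iff] at h2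
    rcases h2 with h | h
    · exact Or.inl h
    · right; linarith

/-- Let A be a symmetric real n × n matrix with non-negative off-diagonal entries and m a vector with
positive entries such that for every i, ∑_{j ≠ i} A_{ij} m_j ≤ −A_{ii} m_i. Then the kernel of A is
the span of the vectors equal to m on an index set I and zero off I, for those I such that A_{ij} =
0 whenever i ∈ I and j ∉ I and such that equality holds in the above inequality for every i ∈ I. The
published statement omits the symmetry of A (without which it fails) and applies it only to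
symmetric matrices; stated here with A symmetric. -/
theorem result {n : ℕ} (A : Matrix (Fin n) (Fin n) ℝ) (m : Fin n → ℝ)
    (hsymm : A.IsSymm) (hA : ∀ i j, i ≠ j → 0 ≤ A i j) (hm : ∀ i, 0 < m i)
    (hle : ∀ i, ∑ j ∈ univ.erase i, A i j * m j ≤ -(A i i * m i)) :
    LinearMap.ker (Matrix.mulVecLin A) = Submodule.span ℝ
      {x : Fin n → ℝ | ∃ I : Finset (Fin n), (∀ i ∈ I, ∀ j ∉ I, A i j = 0) ∧
        (∀ i ∈ I, ∑ j ∈ univ.erase i, A i j * m j = -(A i i * m i)) ∧
        x = fun i => if i ∈ I then m i else 0} := by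
  have hm' : ∀ i, m i ≠ 0 := fun i => (hm i).ne'
  apply le_antisymm
  · intro x hx
    rw [LinearMap.mem_ker, Matrix.mulVecLin_apply] at hx
    obtain ⟨c1, c2⟩ := ker_conditions A m hsymm hA hm hle x hx
    have hxsum : x = ∑ c ∈ univ.image (fun i => x i / m i),
        c • (fun i => if i ∈ univ.filter (fun k => x k / m k = c) then m i else 0) := by
      funext i
      simp only [Finset.sum_apply, Pi.smul_apply, smul_eq_mul, Finset.mem_filter,
        Finset.mem_univ, true_and, mul_ite, mul_zero]
      rw [Finset.sum_ite_eq]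
      rw [if_pos (Finset.mem_image_of_mem _ (Finset.mem_univ i))]
      exact (div_mul_cancel₀ _ (hm' i)).symm
    rw [hxsum]
    refine Submodule.sum_mem _ fun c _ => ?_
    by_cases hc : c = 0
    · rw [hc, zero_smul]; exact Submodule.zero_mem _
    · refine Submodule.smul_mem _ _ (Submodule.subset_span ⟨_, ?_, ?_, rfl⟩)
      · intro i hi j hj
        simp only [Finset.mem_filter, Finset.mem_univ, true_and] at hi hj
        rcases c2 i j with h | h
        · exact h
        · exact absurd (h ▸ hi) hj
      · intro i hi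
        simp only [Finset.mem_filter, Finset.mem_univ, true_and] at hi
        rcases c1 i with h | h
        · exact absurd (hi ▸ h) hc
        · exact h
  · rw [Submodule.span_le]
    rintro x ⟨I, h1, h2, rfl⟩
    rw [SetLike.mem_coe, LinearMap.mem_ker, Matrix.mulVecLin_apply]
    exact gen_mem_ker A m hsymm I h1 h2

end Groth.Agent.S2170
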