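import Groth.Statements.S2171
import Groth.Agent.Lib.Helper21.QuadForm
-- import your own Groth.Agent.* helpers here

set_option autoImplicit false
open Finset
open Models

namespace Groth.Agent.S2171

open Groth.Agent.Lib.Helper21 in
theorem quad_eq {n : ℕ} (A : Matrix (Fin n) (Fin n) ℝ)
    (m : Fin n → ℝ) (hsymm : A.IsSymm) (hm : ∀ i, 0 < m i)
    (hAm : A.mulVec m = 0) (x : Fin n → ℝ) :
    dotProduct x (A.mulVec x) =
      -((1 / 2) * ∑ i, ∑ j, A i j * m i * m j * (x i / m i - x j / m j) ^ 2) := by
  have hm' : ∀ i, m i ≠ 0 := fun i => (hm i).ne'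
  have hx : ∀ i, x i = (x i / m i) * m i := fun i => (div_mul_cancel₀ _ (hm' i)).symm
  have h0 : ∀ i, ∑ j, A i j * m j = 0 := fun i => by
    have := congrFun hAm i
    simpa [Matrix.mulVec, dotProduct] using this
  have key := quad_identity A hsymm m (fun i => x i / m i)
  simp only [← hx, h0, mul_zero, Finset.sum_const_zero, zero_sub] at key
  simpa [Matrix.mulVec, dotProduct] using key

/-- Let A be a symmetric real n by n matrix with non-negative off-diagonal entries, m a vector with
positive entries such that A m = 0, and assume no proper non-empty index set I has A i j = 0 for all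
i in I and j outside I. Then x^t A x is at most 0 for every real vector x, with equality exactly
when x is a real multiple of m. -/
theorem result {n : ℕ} (A : Matrix (Fin n) (Fin n) ℝ)
    (m : Fin n → ℝ) (hsymm : A.IsSymm) (hA : ∀ i j, i ≠ j → 0 ≤ A i j) (hm : ∀ i, 0 < m i)
    (hAm : A.mulVec m = 0)
    (hconn : ∀ I : Finset (Fin n), I.Nonempty → I ≠ univ → ∃ i ∈ I, ∃ j ∉ I, A i j ≠ 0)
    (x : Fin n → ℝ) :
    dotProduct x (A.mulVec x) ≤ 0 ∧ (dotProduct x (A.mulVec x) = 0 ↔ ∃ q : ℝ, x = q • m) := by
  have hm' : ∀ i, m i ≠ 0 := fun i => (hm i).ne'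
  have hterm : ∀ i j, 0 ≤ A i j * m i * m j * (x i / m i - x j / m j) ^ 2 := by
    intro i j
    by_cases hij : i = j
    · subst hij; simp
    · have := hA i j hij
      have := hm i
      have := hm j
      positivity
  have hsum : 0 ≤ ∑ i, ∑ j, A i j * m i * m j * (x i / m i - x j / m j) ^ 2 :=
    Finset.sum_nonneg fun i _ => Finset.sum_nonneg fun j _ => hterm i j
  rw [quad_eq A m hsymm hm hAm x]
  refine ⟨by linarith, ?_⟩
  constructor
  · intro h
    have hz : ∑ i, ∑ j, A i j * m i * m j * (x i / m i - x j / m j) ^ 2 = 0 := by linarith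
    have hz1 : ∀ i, ∑ j, A i j * m i * m j * (x i / m i - x j / m j) ^ 2 = 0 := by
      intro i
      exact (Finset.sum_eq_zero_iff_of_nonneg
        (fun i _ => Finset.sum_nonneg fun j _ => hterm i j)).1 hz i (Finset.mem_univ i)
    have hz2 : ∀ i j, A i j * m i * m j * (x i / m i - x j / m j) ^ 2 = 0 := by
      intro i j
      exact (Finset.sum_eq_zero_iff_of_nonneg (fun j _ => hterm i j)).1 (hz1 i) j
        (Finset.mem_univ j)
    have hz3 : ∀ i j, A i j ≠ 0 → x i / m i = x j / m j := by
      intro i j hij
      have := hz2 i j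
      simp only [mul_eq_zero, hij, hm' i, hm' j, false_or, ne_eq, OfNat.ofNat_ne_zero,
        not_false_eq_true, pow_eq_zero_iff] at this
      linarith
    rcases Nat.eq_zero_or_pos n with hn | hn
    · subst hn
      exact ⟨0, funext fun i => i.elim0⟩
    · let i0 : Fin n := ⟨0, hn⟩
      refine ⟨x i0 / m i0, ?_⟩
      let I : Finset (Fin n) := univ.filter fun i => x i / m i = x i0 / m i0
      have hI : I.Nonempty := ⟨i0, by simp [I]⟩
      have hIu : I = univ := by
        by_contra hne
        obtain ⟨i, hi, j, hj, hij⟩ := hconn I hI hne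
        apply hj
        have := hz3 i j hij
        simp only [I, Finset.mem_filter, Finset.mem_univ, true_and] at hi ⊢
        rw [← this, hi]
      funext i
      have : i ∈ I := by rw [hIu]; exact Finset.mem_univ i
      simp only [I, Finset.mem_filter, Finset.mem_univ, true_and] at this
      simp only [Pi.smul_apply, smul_eq_mul]
      rw [← this]; exact (div_mul_cancel₀ _ (hm' i)).symm
  · rintro ⟨q, rfl⟩
    have : ∀ i j, ((q • m) i / m i - (q • m) j / m j) = 0 := by
      intro i j
      simp only [Pi.smul_apply, smul_eq_mul]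
      rw [mul_div_assoc, mul_div_assoc, div_self (hm' i), div_self (hm' j)]
      ring
    simp only [this]
    simp

end Groth.Agent.S2171
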