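import Groth.Statements.S2175
import Mathlib

set_option autoImplicit false
open Finset
open Models Models.NumericalType

namespace Groth.Agent.S2175


open Finset Models

theorem per_index (W wi x : ℤ) (hW : 0 < W) (hwi : 0 < wi) (hx : 0 ≤ x) (hWx : W ∣ x) (hwx : wi ∣ x) :
    ∃ w' ε q : ℤ, w' = (if 2 ∣ x / W ∧ ¬ 2 ∣ x / wi then wi / 2 else wi) ∧ 0 < w' ∧
      wi / w' = ε ∧ ε * w' = wi ∧ (x ^ 2 - W * x) / (2 * w' * W) = q ∧
      2 * (w' * q) = W * ((x / W) * (x / W - 1)) ∧ ∀ gi : ℤ, 0 ≤ gi → 0 ≤ ε * (gi - 1) + 1 + q := by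
  obtain ⟨c, hc⟩ := hWx
  obtain ⟨o, ho⟩ := hwx
  have hcW : x / W = c := by rw [hc, Int.mul_ediv_cancel_left _ hW.ne']
  have hoW : x / wi = o := by rw [ho, Int.mul_ediv_cancel_left _ hwi.ne']
  have hc0 : 0 ≤ c := by
    by_contra h
    push Not at h
    have : W * c < 0 := mul_neg_of_pos_of_neg hW h
    omega
  have ho0 : 0 ≤ o := by
    by_contra h
    push Not at h
    have : wi * o < 0 := mul_neg_of_pos_of_neg hwi h
    omega
  rw [hcW, hoW]
  by_cases hcase : 2 ∣ c ∧ ¬ 2 ∣ o
  · obtain ⟨h2c, h2o⟩ := hcase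
    have h2w : (2 : ℤ) ∣ wi := by
      have h1 : (2 : ℤ) ∣ wi * o := by
        rw [← ho, hc]
        exact Dvd.dvd.mul_left h2c W
      rcases Int.prime_two.dvd_or_dvd h1 with h | h
      · exact h
      · exact absurd h h2o
    obtain ⟨w'', hw''⟩ := h2w
    have hw''pos : 0 < w'' := by omega
    have ho1 : 1 ≤ o := by
      rcases eq_or_lt_of_le ho0 with h | h
      · exact absurd (h ▸ dvd_zero 2) h2o
      · omega
    have hc2 : 2 ≤ c := by
      obtain ⟨c', hc'⟩ := h2c
      have hcne : c ≠ 0 := by
        rintro rfl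
        rw [mul_zero] at hc
        rw [hc] at ho
        have : wi * o ≠ 0 := mul_ne_zero hwi.ne' (by omega)
        exact this ho.symm
      omega
    refine ⟨w'', 2, o * (c - 1), ?_, hw''pos, ?_, ?_, ?_, ?_, ?_⟩
    · rw [if_pos ⟨h2c, h2o⟩, hw'', Int.mul_ediv_cancel_left _ (by norm_num)]
    · rw [hw'', Int.mul_ediv_cancel _ hw''pos.ne']
    · rw [hw'']
    · have : x ^ 2 - W * x = (2 * w'' * W) * (o * (c - 1)) := by
        have e1 : x ^ 2 - W * x = x * (x - W) := by ring
        rw [e1]
        conv_lhs => rw [ho, hw'']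
        have : wi * o - W = W * (c - 1) := by rw [← ho, hc]; ring
        rw [← hw'', this]
        rw [hw'']
        ring
      rw [this, Int.mul_ediv_cancel_left _ (by positivity)]
    · have : W * (c * (c - 1)) = (wi * o) * (c - 1) := by rw [← ho, hc]; ring
      rw [this, hw'']
      ring
    · intro gi hgi
      have : 1 ≤ o * (c - 1) := by nlinarith
      linarith
  · have hpar : ∃ q, o * (c - 1) = 2 * q := by
      by_cases h2c : 2 ∣ c
      · have h2o : 2 ∣ o := by
          by_contra h
          exact hcase ⟨h2c, h⟩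
        obtain ⟨o', ho'⟩ := h2o
        exact ⟨o' * (c - 1), by rw [ho']; ring⟩
      · have : 2 ∣ c - 1 := by omega
        obtain ⟨c', hc'⟩ := this
        exact ⟨o * c', by rw [hc']; ring⟩
    obtain ⟨q, hq⟩ := hpar
    have hq0 : 0 ≤ q := by
      rcases eq_or_lt_of_le hc0 with h | h
      · have hx0 : x = 0 := by rw [hc, ← h, mul_zero]
        have ho0' : o = 0 := by
          rw [hx0] at ho
          rcases mul_eq_zero.mp ho.symm with h' | h'
          · omega
          · exact h'
        rw [ho0', zero_mul] at hq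
        omega
      · have : 0 ≤ o * (c - 1) := mul_nonneg ho0 (by omega)
        omega
    refine ⟨wi, 1, q, ?_, hwi, ?_, ?_, ?_, ?_, ?_⟩
    · rw [if_neg hcase]
    · exact Int.ediv_self hwi.ne'
    · ring
    · have : x ^ 2 - W * x = (2 * wi * W) * q := by
        have e1 : x ^ 2 - W * x = x * (x - W) := by ring
        rw [e1]
        have e2 : x - W = W * (c - 1) := by rw [hc]; ring
        rw [e2]
        conv_lhs => rw [ho]
        have : wi * o * (W * (c - 1)) = wi * W * (o * (c - 1)) := by ring
        rw [this, hq]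
        ring
      rw [this, Int.mul_ediv_cancel_left _ (by positivity)]
    · have : W * (c * (c - 1)) = (wi * o) * (c - 1) := by rw [← ho, hc]; ring
      rw [this]
      have : wi * o * (c - 1) = wi * (o * (c - 1)) := by ring
      rw [this, hq]
      ring
    · intro gi hgi
      linarith

theorem ediv_neg_W (W ci cj : ℤ) (hW : 0 < W) :
    (W * ci) * (W * cj) / (-W) = -(W * ci * cj) := by
  have : (W * ci) * (W * cj) = (-W) * (-(W * ci * cj)) := by ring
  rw [this, Int.mul_ediv_cancel_left _ (by omega)]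

section Setup

variable {n : ℕ} (T : Models.NumericalType (n + 1)) (h : T.IsMinusOne (Fin.last n))

omit h in
theorem x_nonneg (i : Fin n) : 0 ≤ T.a i.castSucc (Fin.last n) :=
  T.offDiag_nonneg _ _ (Fin.castSucc_lt_last i).ne

omit h in
theorem W_dvd_x (i : Fin n) : T.w (Fin.last n) ∣ T.a i.castSucc (Fin.last n) := by
  have := T.w_dvd (Fin.last n) i.castSucc
  rwa [T.symm.apply] at this

include h

theorem a_last : T.a (Fin.last n) (Fin.last n) = -T.w (Fin.last n) := h.2

theorem row_last : ∑ j : Fin n, T.a j.castSucc (Fin.last n) / T.w (Fin.last n) * T.m j.castSucc =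
    T.m (Fin.last n) := by
  have hrow := congrFun T.mulVec_m (Fin.last n)
  simp only [Matrix.mulVec, dotProduct, Pi.zero_apply] at hrow
  rw [Fin.sum_univ_castSucc, a_last T h] at hrow
  have hW := T.w_pos (Fin.last n)
  apply mul_left_cancel₀ hW.ne'
  rw [Finset.mul_sum]
  have : ∀ j : Fin n, T.w (Fin.last n) * (T.a j.castSucc (Fin.last n) / T.w (Fin.last n) *
      T.m j.castSucc) = T.a (Fin.last n) j.castSucc * T.m j.castSucc := by
    intro j
    rw [← mul_assoc, Int.mul_ediv_cancel' (W_dvd_x T j), T.symm.apply]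
  rw [Finset.sum_congr rfl fun j _ => this j]
  linarith

omit h in
theorem row_cast (i : Fin n) : ∑ j : Fin n, T.a i.castSucc j.castSucc * T.m j.castSucc =
    -(T.a i.castSucc (Fin.last n) * T.m (Fin.last n)) := by
  have hrow := congrFun T.mulVec_m i.castSucc
  simp only [Matrix.mulVec, dotProduct, Pi.zero_apply] at hrow
  rw [Fin.sum_univ_castSucc] at hrow
  linarith

theorem a'_eq (i j : Fin n) :
    T.a i.castSucc j.castSucc -
      T.a i.castSucc (Fin.last n) * T.a j.castSucc (Fin.last n) / T.a (Fin.last n) (Fin.last n) =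
    T.a i.castSucc j.castSucc + T.w (Fin.last n) *
      (T.a i.castSucc (Fin.last n) / T.w (Fin.last n)) *
      (T.a j.castSucc (Fin.last n) / T.w (Fin.last n)) := by
  have hW := T.w_pos (Fin.last n)
  obtain ⟨ci, hci⟩ := W_dvd_x T i
  obtain ⟨cj, hcj⟩ := W_dvd_x T j
  rw [a_last T h, hci, hcj, ediv_neg_W _ _ _ hW, Int.mul_ediv_cancel_left _ hW.ne',
    Int.mul_ediv_cancel_left _ hW.ne']
  ring

theorem n_pos : 0 < n := by
  rcases Nat.eq_zero_or_pos n with rfl | hn
  · exfalso
    have := row_last T h
    simp only [Finset.univ_eq_empty, Finset.sum_empty] at this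
    have := T.m_pos (Fin.last 0)
    omega
  · exact hn

end Setup

theorem exists_contraction {n : ℕ} (T : Models.NumericalType (n + 1))
    (h : T.IsMinusOne (Fin.last n)) : ∃ T' : Models.NumericalType n, T.IsContraction T' := by
  have hW := T.w_pos (Fin.last n)
  choose w' ε q hw' hw'pos hε hεw hq h2q hg using fun i : Fin n =>
    per_index (T.w (Fin.last n)) (T.w i.castSucc) (T.a i.castSucc (Fin.last n)) hW
      (T.w_pos i.castSucc) (x_nonneg T i) (W_dvd_x T i) (T.w_dvd i.castSucc (Fin.last n))
  have hc0 : ∀ i : Fin n, 0 ≤ T.a i.castSucc (Fin.last n) / T.w (Fin.last n) := fun i =>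
    Int.ediv_nonneg (x_nonneg T i) hW.le
  have hcpos : ∀ i : Fin n, T.a i.castSucc (Fin.last n) ≠ 0 →
      0 < T.a i.castSucc (Fin.last n) / T.w (Fin.last n) := by
    intro i hne
    obtain ⟨c, hc⟩ := W_dvd_x T i
    rw [hc, Int.mul_ediv_cancel_left _ hW.ne']
    rcases lt_trichotomy c 0 with hlt | rfl | hgt
    · have := x_nonneg T i
      rw [hc] at this
      have : T.w (Fin.last n) * c < 0 := mul_neg_of_pos_of_neg hW hlt
      omega
    · rw [mul_zero] at hc
      exact absurd hc hne
    · exact hgt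
  have hpos_of : ∀ i j : Fin n, i ≠ j → T.a i.castSucc j.castSucc ≠ 0 →
      T.a i.castSucc j.castSucc + T.w (Fin.last n) *
      (T.a i.castSucc (Fin.last n) / T.w (Fin.last n)) *
      (T.a j.castSucc (Fin.last n) / T.w (Fin.last n)) ≠ 0 := by
    intro i j hij hne
    have h1 : 0 ≤ T.a i.castSucc j.castSucc :=
      T.offDiag_nonneg _ _ (fun e => hij (Fin.castSucc_injective n e))
    have h2 : 0 ≤ T.w (Fin.last n) * (T.a i.castSucc (Fin.last n) / T.w (Fin.last n)) *
      (T.a j.castSucc (Fin.last n) / T.w (Fin.last n)) :=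
      mul_nonneg (mul_nonneg hW.le (hc0 i)) (hc0 j)
    have : 0 < T.a i.castSucc j.castSucc := lt_of_le_of_ne h1 (Ne.symm hne)
    omega
  refine ⟨{ m := fun i => T.m i.castSucc
            a := fun i j => T.a i.castSucc j.castSucc -
              T.a i.castSucc (Fin.last n) * T.a j.castSucc (Fin.last n) /
                T.a (Fin.last n) (Fin.last n)
            w := w'
            g := fun i => T.w i.castSucc / w' i * (T.g i.castSucc - 1) + 1 +
              (T.a i.castSucc (Fin.last n) ^ 2 - T.w (Fin.last n) * T.a i.castSucc (Fin.last n)) /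
                (2 * w' i * T.w (Fin.last n))
            pos := n_pos T h
            m_pos := fun i => T.m_pos _
            w_pos := hw'pos
            g_nonneg := ?_
            symm := ?_
            offDiag_nonneg := ?_
            connected := ?_
            mulVec_m := ?_
            w_dvd := ?_ }, ?_⟩
  · intro i
    rw [hε, hq]
    exact hg i _ (T.g_nonneg _)
  · refine Matrix.IsSymm.ext fun i j => ?_
    show T.a j.castSucc i.castSucc - T.a j.castSucc (Fin.last n) * T.a i.castSucc (Fin.last n) /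
      T.a (Fin.last n) (Fin.last n) = T.a i.castSucc j.castSucc -
      T.a i.castSucc (Fin.last n) * T.a j.castSucc (Fin.last n) / T.a (Fin.last n) (Fin.last n)
    rw [T.symm.apply, mul_comm]
  · intro i j hij
    rw [a'_eq T h]
    have h1 : 0 ≤ T.a i.castSucc j.castSucc :=
      T.offDiag_nonneg _ _ (fun e => hij (Fin.castSucc_injective n e))
    have h2 : 0 ≤ T.w (Fin.last n) * (T.a i.castSucc (Fin.last n) / T.w (Fin.last n)) *
      (T.a j.castSucc (Fin.last n) / T.w (Fin.last n)) :=
      mul_nonneg (mul_nonneg hW.le (hc0 i)) (hc0 j)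
    omega
  · intro I hI hne
    simp only [a'_eq T h]
    have hJne : (I.map Fin.castSuccEmb).Nonempty := hI.map
    have hJuniv : I.map Fin.castSuccEmb ≠ univ := by
      intro e
      have : Fin.last n ∈ I.map Fin.castSuccEmb := e ▸ Finset.mem_univ _
      rw [Finset.mem_map] at this
      obtain ⟨i, _, hi⟩ := this
      exact (Fin.castSucc_lt_last i).ne hi
    obtain ⟨i', hi', j', hj', hij'⟩ := T.connected _ hJne hJuniv
    rw [Finset.mem_map] at hi'
    obtain ⟨i, hiI, rfl⟩ := hi'
    rcases Fin.eq_castSucc_or_eq_last j' with ⟨j, rfl⟩ | rfl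
    · have hjI : j ∉ I := fun hj => hj' (Finset.mem_map_of_mem _ hj)
      refine ⟨i, hiI, j, hjI, hpos_of i j (fun e => hjI (e ▸ hiI)) hij'⟩
    · have hxi : T.a i.castSucc (Fin.last n) ≠ 0 := hij'
      obtain ⟨j0, hj0⟩ : ∃ j0, j0 ∉ I := by
        by_contra hall
        push Not at hall
        exact hne (Finset.eq_univ_iff_forall.mpr hall)
      have hJ2ne : (insert (Fin.last n) (I.map Fin.castSuccEmb)).Nonempty :=
        Finset.insert_nonempty _ _
      have hJ2univ : insert (Fin.last n) (I.map Fin.castSuccEmb) ≠ univ := by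
        intro e
        have : j0.castSucc ∈ insert (Fin.last n) (I.map Fin.castSuccEmb) := e ▸ Finset.mem_univ _
        rw [Finset.mem_insert, Finset.mem_map] at this
        rcases this with hl | ⟨i1, hi1, hi1e⟩
        · exact (Fin.castSucc_lt_last j0).ne hl
        · exact hj0 ((Fin.castSucc_injective n hi1e) ▸ hi1)
      obtain ⟨i'', hi'', j'', hj'', hij''⟩ := T.connected _ hJ2ne hJ2univ
      rcases Fin.eq_castSucc_or_eq_last j'' with ⟨j2, rfl⟩ | rfl
      · have hj2I : j2 ∉ I := fun hj =>
          hj'' (Finset.mem_insert_of_mem (Finset.mem_map_of_mem _ hj))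
        rw [Finset.mem_insert, Finset.mem_map] at hi''
        rcases hi'' with rfl | ⟨i2, hi2I, rfl⟩
        · have hxj : T.a j2.castSucc (Fin.last n) ≠ 0 := by
            rw [← T.symm.apply]
            exact hij''
          refine ⟨i, hiI, j2, hj2I, ?_⟩
          have h1 : 0 ≤ T.a i.castSucc j2.castSucc :=
            T.offDiag_nonneg _ _ (fun e => hj2I ((Fin.castSucc_injective n e) ▸ hiI))
          have h2 : 0 < T.w (Fin.last n) * (T.a i.castSucc (Fin.last n) / T.w (Fin.last n)) *
              (T.a j2.castSucc (Fin.last n) / T.w (Fin.last n)) :=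
            mul_pos (mul_pos hW (hcpos i hxi)) (hcpos j2 hxj)
          omega
        · exact ⟨i2, hi2I, j2, hj2I, hpos_of i2 j2 (fun e => hj2I (e ▸ hi2I)) hij''⟩
      · exact absurd (Finset.mem_insert_self _ _) hj''
  · funext i
    simp only [Matrix.mulVec, dotProduct, Pi.zero_apply, a'_eq T h]
    simp only [add_mul, Finset.sum_add_distrib]
    rw [row_cast T i]
    have : ∀ j : Fin n, T.w (Fin.last n) * (T.a i.castSucc (Fin.last n) / T.w (Fin.last n)) *
        (T.a j.castSucc (Fin.last n) / T.w (Fin.last n)) * T.m j.castSucc =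
        T.w (Fin.last n) * (T.a i.castSucc (Fin.last n) / T.w (Fin.last n)) *
        (T.a j.castSucc (Fin.last n) / T.w (Fin.last n) * T.m j.castSucc) := fun j => by ring
    rw [Finset.sum_congr rfl fun j _ => this j, ← Finset.mul_sum, row_last T h,
      Int.mul_ediv_cancel' (W_dvd_x T i)]
    ring
  · intro i j
    rw [a'_eq T h]
    have hwi : w' i ∣ T.w i.castSucc := ⟨ε i, by rw [← hεw i]; ring⟩
    refine dvd_add (hwi.trans (T.w_dvd _ _)) ?_
    rw [Int.mul_ediv_cancel' (W_dvd_x T i)]
    exact Dvd.dvd.mul_right (hwi.trans (T.w_dvd _ _)) _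
  · refine ⟨fun i => rfl, fun i j => rfl, fun i => ?_, fun i => rfl⟩
    exact hw' i

theorem genus_eq {n : ℕ} (T : Models.NumericalType (n + 1))
    (h : T.IsMinusOne (Fin.last n)) (T' : Models.NumericalType n) (hc : T.IsContraction T') :
    T'.genus = T.genus := by
  have hW := T.w_pos (Fin.last n)
  obtain ⟨hm, ha, hw, hgg⟩ := hc
  choose w' ε q hw' hw'pos hε hεw hq h2q hg using fun i : Fin n =>
    per_index (T.w (Fin.last n)) (T.w i.castSucc) (T.a i.castSucc (Fin.last n)) hW
      (T.w_pos i.castSucc) (x_nonneg T i) (W_dvd_x T i) (T.w_dvd i.castSucc (Fin.last n))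
  have hww : ∀ i, T'.w i = w' i := fun i => (hw i).trans (hw' i).symm
  have hg' : ∀ i, T'.g i = ε i * (T.g i.castSucc - 1) + 1 + q i := by
    intro i
    rw [hgg i, hww i, hε i, hq i]
  have haa : ∀ i, T'.a i i = T.a i.castSucc i.castSucc + T.w (Fin.last n) *
      (T.a i.castSucc (Fin.last n) / T.w (Fin.last n)) *
      (T.a i.castSucc (Fin.last n) / T.w (Fin.last n)) := by
    intro i
    rw [ha i i, a'_eq T h]
  set W := T.w (Fin.last n) with hWdef
  set c : Fin n → ℤ := fun i => T.a i.castSucc (Fin.last n) / W with hcdef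
  have hrow : ∑ j : Fin n, c j * T.m j.castSucc = T.m (Fin.last n) := row_last T h
  unfold Models.NumericalType.genus
  rw [Fin.sum_univ_castSucc (fun i => T.m i * T.w i * (T.g i - 1)),
    Fin.sum_univ_castSucc (fun i => T.m i * T.a i i), h.1, a_last T h]
  have hterm : ∀ i, T'.m i * T'.w i * (T'.g i - 1) =
      T.m i.castSucc * T.w i.castSucc * (T.g i.castSucc - 1) + T.m i.castSucc * (w' i * q i) := by
    intro i
    rw [hm i, hww i, hg' i]
    have : T.m i.castSucc * w' i * (ε i * (T.g i.castSucc - 1) + 1 + q i - 1) =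
        T.m i.castSucc * (ε i * w' i) * (T.g i.castSucc - 1) + T.m i.castSucc * (w' i * q i) := by
      ring
    rw [this, hεw i]
  have hterm2 : ∀ i, T'.m i * T'.a i i =
      T.m i.castSucc * T.a i.castSucc i.castSucc + W * (T.m i.castSucc * (c i * c i)) := by
    intro i
    rw [hm i, haa i]
    ring
  rw [Finset.sum_congr rfl fun i _ => hterm i, Finset.sum_congr rfl fun i _ => hterm2 i,
    Finset.sum_add_distrib, Finset.sum_add_distrib, ← Finset.mul_sum]
  set A := ∑ i : Fin n, T.m i.castSucc * T.w i.castSucc * (T.g i.castSucc - 1) with hA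
  set Q := ∑ i : Fin n, T.m i.castSucc * (w' i * q i) with hQ
  set X0 := ∑ i : Fin n, T.m i.castSucc * T.a i.castSucc i.castSucc with hX0
  set C2 := ∑ i : Fin n, T.m i.castSucc * (c i * c i) with hC2
  have h2Q : 2 * Q = W * (C2 - T.m (Fin.last n)) := by
    rw [hQ, Finset.mul_sum, ← hrow, hC2, ← Finset.sum_sub_distrib, Finset.mul_sum]
    refine Finset.sum_congr rfl fun i _ => ?_
    have := h2q i
    have e : 2 * (T.m i.castSucc * (w' i * q i)) = T.m i.castSucc * (2 * (w' i * q i)) := by ring
    rw [e, this]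
    ring
  have hX : X0 + W * C2 = (X0 + T.m (Fin.last n) * -W) + 2 * (Q + W * T.m (Fin.last n)) := by
    rw [mul_add, h2Q]
    ring
  rw [hX, Int.add_mul_ediv_left _ _ (by norm_num : (2 : ℤ) ≠ 0)]
  ring


/-- Let T be a numerical type on n + 1 indices whose last index is a (-1)-index. Then the contracted
data (same multiplicities, a i j - a i l a j l / a l l, the halved-or-not w i, and the adjusted g i,
l the last index) is again a numerical type on n indices, and any such contraction has the same
genus as T. -/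
theorem result {n : ℕ} (T : Models.NumericalType (n + 1)) (h : T.IsMinusOne (Fin.last n)) :
    (∃ T' : Models.NumericalType n, T.IsContraction T') ∧
      ∀ T' : Models.NumericalType n, T.IsContraction T' → T'.genus = T.genus := by
  exact ⟨exists_contraction T h, fun T' hc => genus_eq T h T' hc⟩

end Groth.Agent.S2175
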