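import Groth.Statements.S2180
import Mathlib
import Groth.Agent.S2175

set_option autoImplicit false
open Finset
open Models Models.NumericalType

namespace Groth.Agent.S2180


open Finset Models

theorem eps_cases (W wi x : ℤ) (hW : 0 < W) (hwi : 0 < wi) (hWx : W ∣ x) (hwx : wi ∣ x) :
    wi / (if 2 ∣ x / W ∧ ¬ 2 ∣ x / wi then wi / 2 else wi) = 1 ∨
    wi / (if 2 ∣ x / W ∧ ¬ 2 ∣ x / wi then wi / 2 else wi) = 2 := by
  obtain ⟨c, hc⟩ := hWx
  obtain ⟨o, ho⟩ := hwx
  have hcW : x / W = c := by rw [hc, Int.mul_ediv_cancel_left _ hW.ne']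
  have hoW : x / wi = o := by rw [ho, Int.mul_ediv_cancel_left _ hwi.ne']
  rw [hcW, hoW]
  by_cases hcase : 2 ∣ c ∧ ¬ 2 ∣ o
  · obtain ⟨h2c, h2o⟩ := hcase
    have h2w : (2 : ℤ) ∣ wi := by
      have h1 : (2 : ℤ) ∣ wi * o := by
        rw [← ho, hc]
        exact Dvd.dvd.mul_left h2c W
      rcases Int.prime_two.dvd_or_dvd h1 with h | h
      · exact h
      · exact absurd h h2o
    obtain ⟨w'', hw''⟩ := h2w
    have hw''pos : 0 < w'' := by omega
    right
    rw [if_pos ⟨h2c, h2o⟩, hw'', Int.mul_ediv_cancel_left _ (by norm_num),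
      Int.mul_ediv_cancel _ hw''pos.ne']
  · left
    rw [if_neg hcase]
    exact Int.ediv_self hwi.ne'


/-- Let T be a numerical type on n + 1 indices whose last index is a (-1)-index and T' a contraction of
it. Then there is an injective homomorphism Pic(T) -> Pic(T') whose cokernel is annihilated by 2. -/
theorem result {n : ℕ} (T : Models.NumericalType (n + 1)) (h : T.IsMinusOne (Fin.last n))
    (T' : Models.NumericalType n) (hT' : T.IsContraction T') :
    ∃ f : T.Pic →+ T'.Pic, Function.Injective f ∧ ∀ y : T'.Pic, ∃ x : T.Pic, 2 • y = f x := by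
  have hW := T.w_pos (Fin.last n)
  obtain ⟨hm, ha, hw, hgg⟩ := hT'
  choose w' ε q hw' hw'pos hε hεw hq h2q hg using fun i : Fin n =>
    Groth.Agent.S2175.per_index (T.w (Fin.last n)) (T.w i.castSucc) (T.a i.castSucc (Fin.last n)) hW
      (T.w_pos i.castSucc) (Groth.Agent.S2175.x_nonneg T i) (Groth.Agent.S2175.W_dvd_x T i)
      (T.w_dvd i.castSucc (Fin.last n))
  have hww : ∀ i, T'.w i = w' i := fun i => (hw i).trans (hw' i).symm
  have hε12 : ∀ i, ε i = 1 ∨ ε i = 2 := by
    intro i
    have := eps_cases (T.w (Fin.last n)) (T.w i.castSucc) (T.a i.castSucc (Fin.last n)) hW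
      (T.w_pos i.castSucc) (Groth.Agent.S2175.W_dvd_x T i) (T.w_dvd i.castSucc (Fin.last n))
    rw [← hw' i, hε i] at this
    exact this
  have hεpos : ∀ i, ε i ≠ 0 := fun i => by rcases hε12 i with h1 | h1 <;> omega
  set W := T.w (Fin.last n) with hWdef
  obtain ⟨c, hc⟩ : ∃ c : Fin n → ℤ, ∀ i, T.a i.castSucc (Fin.last n) = W * c i :=
    ⟨fun i => T.a i.castSucc (Fin.last n) / W, fun i =>
      (Int.mul_ediv_cancel' (Groth.Agent.S2175.W_dvd_x T i)).symm⟩
  obtain ⟨o, ho⟩ : ∃ o : Fin n → ℤ, ∀ i, T.a i.castSucc (Fin.last n) = T.w i.castSucc * o i :=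
    ⟨fun i => T.a i.castSucc (Fin.last n) / T.w i.castSucc, fun i =>
      (Int.mul_ediv_cancel' (T.w_dvd i.castSucc (Fin.last n))).symm⟩
  obtain ⟨p, hp⟩ : ∃ p : Fin n → Fin n → ℤ, ∀ i j, T.a i.castSucc j.castSucc = T.w i.castSucc * p i j :=
    ⟨fun i j => T.a i.castSucc j.castSucc / T.w i.castSucc, fun i j =>
      (Int.mul_ediv_cancel' (T.w_dvd i.castSucc j.castSucc)).symm⟩
  have hP1 : ∀ i j : Fin n, T.picMatrix i.castSucc j.castSucc = p i j := by
    intro i j
    show T.a i.castSucc j.castSucc / T.w i.castSucc = p i j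
    rw [hp, Int.mul_ediv_cancel_left _ (T.w_pos _).ne']
  have hP2 : ∀ i : Fin n, T.picMatrix i.castSucc (Fin.last n) = o i := by
    intro i
    show T.a i.castSucc (Fin.last n) / T.w i.castSucc = o i
    rw [ho, Int.mul_ediv_cancel_left _ (T.w_pos _).ne']
  have hP3 : ∀ j : Fin n, T.picMatrix (Fin.last n) j.castSucc = c j := by
    intro j
    show T.a (Fin.last n) j.castSucc / W = c j
    rw [T.symm.apply, hc, Int.mul_ediv_cancel_left _ hW.ne']
  have hP4 : T.picMatrix (Fin.last n) (Fin.last n) = -1 := by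
    show T.a (Fin.last n) (Fin.last n) / W = -1
    rw [Groth.Agent.S2175.a_last T h, Int.neg_ediv_of_dvd (dvd_refl _), Int.ediv_self hW.ne']
  have hP' : ∀ i j : Fin n, T'.picMatrix i j = ε i * p i j + ε i * o i * c j := by
    intro i j
    show T'.a i j / T'.w i = _
    rw [ha i j, Groth.Agent.S2175.a'_eq T h, hww i, hp, ← hεw i]
    have e1 : T.w (Fin.last n) * (T.a i.castSucc (Fin.last n) / T.w (Fin.last n)) =
        T.a i.castSucc (Fin.last n) := Int.mul_ediv_cancel' (Groth.Agent.S2175.W_dvd_x T i)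
    rw [e1, ho i, ← hεw i, hc j, Int.mul_ediv_cancel_left _ hW.ne']
    have : ε i * w' i * p i j + ε i * w' i * o i * c j =
        w' i * (ε i * p i j + ε i * o i * c j) := by ring
    rw [this, Int.mul_ediv_cancel_left _ (hw'pos i).ne']
  let F : (Fin (n + 1) → ℤ) →ₗ[ℤ] (Fin n → ℤ) :=
    { toFun := fun d i => ε i * d i.castSucc + ε i * o i * d (Fin.last n)
      map_add' := by
        intro d d'
        funext i
        simp only [Pi.add_apply]
        ring
      map_smul' := by
        intro r d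
        funext i
        simp only [Pi.smul_apply, smul_eq_mul, RingHom.id_apply]
        ring }
  have hF : ∀ d i, F d i = ε i * d i.castSucc + ε i * o i * d (Fin.last n) := fun _ _ => rfl
  have hFP : ∀ v : Fin (n + 1) → ℤ, F (T.picMatrix.mulVec v) =
      T'.picMatrix.mulVec (fun j => v j.castSucc) := by
    intro v
    funext i
    rw [hF]
    simp only [Matrix.mulVec, dotProduct]
    rw [Fin.sum_univ_castSucc, Fin.sum_univ_castSucc]
    simp only [hP1, hP2, hP3, hP4, hP']
    simp only [add_mul, Finset.sum_add_distrib, mul_add, Finset.mul_sum]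
    have : ∀ (A B C D' : ℤ), A + B + (C + D') = (A + C) + (B + D') := by intros; ring
    rw [this]
    have e2 : ε i * (o i * v (Fin.last n)) + ε i * o i * (-1 * v (Fin.last n)) = 0 := by ring
    rw [e2, add_zero, ← Finset.sum_add_distrib, ← Finset.sum_add_distrib]
    refine Finset.sum_congr rfl fun j _ => ?_
    ring
  have hle : LinearMap.range (Matrix.mulVecLin T.picMatrix) ≤
      (LinearMap.range (Matrix.mulVecLin T'.picMatrix)).comap F := by
    rintro _ ⟨v, rfl⟩
    rw [Submodule.mem_comap, Matrix.mulVecLin_apply, hFP]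
    exact ⟨_, rfl⟩
  have hsingle : ∀ (t : ℤ) (i' : Fin (n + 1)),
      (T.picMatrix.mulVec (Pi.single (Fin.last n) t)) i' = T.picMatrix i' (Fin.last n) * t := by
    intro t i'
    simp [Matrix.mulVec, dotProduct, Pi.single_apply]
  refine ⟨(Submodule.mapQ _ _ F hle).toAddMonoidHom, ?_, ?_⟩
  · rw [injective_iff_map_eq_zero]
    intro x hx
    obtain ⟨d, rfl⟩ := Submodule.Quotient.mk_surjective _ x
    change Submodule.mapQ _ _ F hle (Submodule.Quotient.mk d) = 0 at hx
    rw [Submodule.mapQ_apply, Submodule.Quotient.mk_eq_zero] at hx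
    obtain ⟨u, hu⟩ := hx
    rw [Submodule.Quotient.mk_eq_zero]
    have hFv : F (T.picMatrix.mulVec (Fin.snoc u 0 : Fin (n + 1) → ℤ)) = F d := by
      rw [hFP, ← hu, Matrix.mulVecLin_apply]
      congr 1
      funext j
      simp
    have hFe : F (d - T.picMatrix.mulVec (Fin.snoc u 0 : Fin (n + 1) → ℤ)) = 0 := by
      rw [map_sub, hFv, sub_self]
    set e := d - T.picMatrix.mulVec (Fin.snoc u 0 : Fin (n + 1) → ℤ) with hedef
    have he : ∀ i : Fin n, e i.castSucc = -(o i * e (Fin.last n)) := by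
      intro i
      have h1 := congrFun hFe i
      rw [hF] at h1
      have h2 : ε i * (e i.castSucc + o i * e (Fin.last n)) = 0 := by
        rw [Pi.zero_apply] at h1
        linarith
      rcases mul_eq_zero.mp h2 with h3 | h3
      · exact absurd h3 (hεpos i)
      · linarith
    refine ⟨(Fin.snoc u 0 : Fin (n + 1) → ℤ) + Pi.single (Fin.last n) (-e (Fin.last n)), ?_⟩
    rw [Matrix.mulVecLin_apply, Matrix.mulVec_add]
    have hd : d = T.picMatrix.mulVec (Fin.snoc u 0 : Fin (n + 1) → ℤ) + e := by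
      rw [hedef]
      abel
    conv_rhs => rw [hd]
    congr 1
    funext i'
    rw [hsingle]
    refine Fin.lastCases ?_ (fun i => ?_) i'
    · rw [hP4]
      ring
    · rw [hP2, he i]
      ring
  · intro y
    obtain ⟨y0, rfl⟩ := Submodule.Quotient.mk_surjective _ y
    refine ⟨Submodule.Quotient.mk (Fin.snoc (fun i => (2 / ε i) * y0 i) 0 : Fin (n + 1) → ℤ), ?_⟩
    change _ = Submodule.mapQ _ _ F hle (Submodule.Quotient.mk _)
    rw [Submodule.mapQ_apply, ← Submodule.mkQ_apply, ← map_nsmul, Submodule.mkQ_apply]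
    congr 1
    funext i
    rw [hF]
    simp only [Fin.snoc_castSucc, Fin.snoc_last, mul_zero, add_zero, Pi.smul_apply,
      nsmul_eq_mul, Nat.cast_ofNat]
    rcases hε12 i with h1 | h1 <;> rw [h1] <;> norm_num

end Groth.Agent.S2180
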