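import Groth.Statements.S2181
import Mathlib
import Groth.Agent.S2175
import Groth.Agent.S2176
import Groth.Agent.S2180

set_option autoImplicit false
open Finset
open Models Models.NumericalType

namespace Groth.Agent.S2181


open Finset Models

def permType {n : ℕ} (T : Models.NumericalType n) (σ : Equiv.Perm (Fin n)) :
    Models.NumericalType n where
  m i := T.m (σ i)
  a := T.a.submatrix σ σ
  w i := T.w (σ i)
  g i := T.g (σ i)
  pos := T.pos
  m_pos i := T.m_pos _
  w_pos i := T.w_pos _
  g_nonneg i := T.g_nonneg _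
  symm := T.symm.submatrix σ
  offDiag_nonneg i j hij := T.offDiag_nonneg _ _ (σ.injective.ne hij)
  connected I hI hne := by
    have h1 : (I.map σ.toEmbedding).Nonempty := hI.map
    have h2 : I.map σ.toEmbedding ≠ univ := by
      intro e
      apply hne
      rw [Finset.eq_univ_iff_forall] at e ⊢
      intro x
      have := e (σ x)
      rw [Finset.mem_map] at this
      obtain ⟨y, hy, hxy⟩ := this
      exact (σ.injective hxy) ▸ hy
    obtain ⟨i', hi', j', hj', hij⟩ := T.connected _ h1 h2
    rw [Finset.mem_map] at hi'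
    obtain ⟨i, hi, rfl⟩ := hi'
    refine ⟨i, hi, σ.symm j', ?_, ?_⟩
    · intro hmem
      apply hj'
      rw [Finset.mem_map]
      exact ⟨σ.symm j', hmem, by simp⟩
    · simpa using hij
  mulVec_m := by
    funext i
    have := congrFun T.mulVec_m (σ i)
    simp only [Matrix.mulVec, dotProduct, Pi.zero_apply, Matrix.submatrix_apply] at this ⊢
    rw [← this]
    exact Equiv.sum_comp σ (fun j => T.a (σ i) j * T.m j)
  w_dvd i j := T.w_dvd _ _

theorem permType_genus {n : ℕ} (T : Models.NumericalType n) (σ : Equiv.Perm (Fin n)) :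
    (permType T σ).genus = T.genus := by
  unfold Models.NumericalType.genus
  have h1 : ∑ i, (permType T σ).m i * (permType T σ).w i * ((permType T σ).g i - 1) =
      ∑ i, T.m i * T.w i * (T.g i - 1) :=
    Equiv.sum_comp σ (fun i => T.m i * T.w i * (T.g i - 1))
  have h2 : ∑ i, (permType T σ).m i * (permType T σ).a i i = ∑ i, T.m i * T.a i i :=
    Equiv.sum_comp σ (fun i => T.m i * T.a i i)
  rw [h1, h2]

theorem permType_picMatrix {n : ℕ} (T : Models.NumericalType n) (σ : Equiv.Perm (Fin n)) :
    (permType T σ).picMatrix = T.picMatrix.submatrix σ σ := rfl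

theorem permType_pic {n : ℕ} (T : Models.NumericalType n) (σ : Equiv.Perm (Fin n)) :
    Nonempty (T.Pic ≃+ (permType T σ).Pic) := by
  refine ⟨(Submodule.Quotient.equiv _ _ (LinearEquiv.funCongrLeft ℤ ℤ σ) ?_).toAddEquiv⟩
  ext x
  rw [Submodule.mem_map]
  constructor
  · rintro ⟨_, ⟨v, rfl⟩, rfl⟩
    refine ⟨v ∘ σ, ?_⟩
    rw [Matrix.mulVecLin_apply, Matrix.mulVecLin_apply, permType_picMatrix,
      Matrix.submatrix_mulVec_equiv]
    funext i
    simp [LinearEquiv.funCongrLeft_apply, LinearMap.funLeft_apply, Function.comp_def]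
  · rintro ⟨v, rfl⟩
    refine ⟨T.picMatrix.mulVec (v ∘ σ.symm), ⟨v ∘ σ.symm, rfl⟩, ?_⟩
    rw [Matrix.mulVecLin_apply, permType_picMatrix, Matrix.submatrix_mulVec_equiv]
    funext i
    simp [LinearEquiv.funCongrLeft_apply, LinearMap.funLeft_apply, Function.comp_def]

theorem subgroup_int_equiv (H : AddSubgroup ℤ) (hH : H ≠ ⊥) : Nonempty (H ≃+ ℤ) := by
  obtain ⟨k, hk⟩ := Int.subgroup_cyclic H
  have hk0 : k ≠ 0 := by
    rintro rfl
    apply hH
    rw [hk]
    simp
  let ψ : ℤ →+ ℤ := AddMonoidHom.mulRight k
  have hinj : Function.Injective ψ := by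
    intro a b hab
    exact mul_right_cancel₀ hk0 hab
  have hrange : ψ.range = H := by
    rw [hk]
    ext x
    rw [AddMonoidHom.mem_range, AddSubgroup.mem_closure_singleton]
    constructor
    · rintro ⟨a, rfl⟩
      exact ⟨a, by simp [ψ]⟩
    · rintro ⟨a, rfl⟩
      exact ⟨a, by simp [ψ]⟩
  exact ⟨((AddMonoidHom.ofInjective hinj).trans (AddEquiv.addSubgroupCongr hrange)).symm⟩

theorem main : ∀ (n : ℕ) (T : Models.NumericalType n), T.genus ≤ 0 → Nonempty (T.Pic ≃+ ℤ) := by
  intro n
  induction n with
  | zero =>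
    intro T _
    exact absurd T.pos (lt_irrefl 0)
  | succ n ih =>
    intro T hg
    rcases Nat.eq_zero_or_pos n with rfl | hn
    · have ha : T.a 0 0 = 0 := by
        have := congrFun T.mulVec_m 0
        simp only [Matrix.mulVec, dotProduct, Pi.zero_apply] at this
        rw [Fin.sum_univ_succ] at this
        simp only [Finset.univ_eq_empty, Finset.sum_empty, add_zero] at this
        rcases mul_eq_zero.mp this with h | h
        · exact h
        · exact absurd h (T.m_pos 0).ne'
      have hP : T.picMatrix = 0 := by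
        ext i j
        have hi : i = 0 := Fin.eq_zero i
        have hj : j = 0 := Fin.eq_zero j
        subst hi hj
        show T.a 0 0 / T.w 0 = 0
        rw [ha, Int.zero_ediv]
      have hbot : LinearMap.range (Matrix.mulVecLin T.picMatrix) = ⊥ := by
        rw [hP]
        simp
      exact ⟨((Submodule.quotEquivOfEqBot _ hbot).trans
        (LinearEquiv.funUnique (Fin 1) ℤ ℤ)).toAddEquiv⟩
    · have hnotmin : ¬ T.IsMinimal := by
        intro hmin
        have := Groth.Agent.S2176.result T hmin (by omega)
        omega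
      unfold Models.NumericalType.IsMinimal at hnotmin
      push Not at hnotmin
      obtain ⟨i, hi⟩ := hnotmin
      let σ : Equiv.Perm (Fin (n + 1)) := Equiv.swap (Fin.last n) i
      have hσ : σ (Fin.last n) = i := Equiv.swap_apply_left _ _
      have hminus : (permType T σ).IsMinusOne (Fin.last n) := by
        refine ⟨?_, ?_⟩
        · show T.g (σ (Fin.last n)) = 0
          rw [hσ]
          exact hi.1
        · show T.a (σ (Fin.last n)) (σ (Fin.last n)) = -T.w (σ (Fin.last n))
          rw [hσ]
          exact hi.2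
      obtain ⟨⟨T', hT'⟩, hgen⟩ := Groth.Agent.S2175.result (permType T σ) hminus
      have hg' : T'.genus ≤ 0 := by
        rw [hgen T' hT', permType_genus]
        exact hg
      obtain ⟨e'⟩ := ih T' hg'
      obtain ⟨f, hfinj, hf2⟩ := Groth.Agent.S2180.result (permType T σ) hminus T' hT'
      obtain ⟨e0⟩ := permType_pic T σ
      let φ : (permType T σ).Pic →+ ℤ := e'.toAddMonoidHom.comp f
      have hφinj : Function.Injective φ := e'.injective.comp hfinj
      have hne : φ.range ≠ ⊥ := by
        intro hbot
        obtain ⟨x, hx⟩ := hf2 (e'.symm 1)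
        have h2 : φ x = 2 := by
          show e' (f x) = 2
          rw [← hx, map_nsmul, AddEquiv.apply_symm_apply]
          rfl
        have : φ x ∈ φ.range := ⟨x, rfl⟩
        rw [hbot, AddSubgroup.mem_bot, h2] at this
        norm_num at this
      obtain ⟨e1⟩ := subgroup_int_equiv φ.range hne
      exact ⟨e0.trans ((AddMonoidHom.ofInjective hφinj).trans e1)⟩


/-- If the genus of a numerical type is at most 0 then its Picard group is infinite cyclic. -/
theorem result {n : ℕ} (T : Models.NumericalType n) (hg : T.genus ≤ 0) : Nonempty (T.Pic ≃+ ℤ) := by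
  exact main n T hg

end Groth.Agent.S2181
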