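import Groth.Statements.S2182
import Mathlib.Tactic
import Groth.Agent.S2174

set_option autoImplicit false
open Finset
open Models Models.NumericalType

namespace Groth.Agent.S2182

/-- In a numerical type, whenever a i j > 0 one has m i * a i j at most m j * |a j j| and m i * w i at
most m j * |a j j|. -/
theorem result {n : ℕ} (T : Models.NumericalType n) (i j : Fin n) (hij : 0 < T.a i j) :
    T.m i * T.a i j ≤ T.m j * |T.a j j| ∧ T.m i * T.w i ≤ T.m j * |T.a j j| := by
  have hdiag_nonpos : ∀ l : Fin n, T.a l l ≤ 0 := by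
    intro l
    have h1 : T.a l l * T.m l ≤ 0 := by
      rw [Groth.Agent.S2174.diag_mul_eq]
      have := Finset.sum_nonneg (Groth.Agent.S2174.erase_term_nonneg T l)
      linarith
    by_contra h
    push Not at h
    have := mul_pos h (T.m_pos l)
    linarith
  have hne : i ≠ j := by
    rintro rfl
    have := hdiag_nonpos i
    linarith
  have hsymm : T.a j i = T.a i j := by
    have := T.symm
    exact congrFun (congrFun this i) j
  have hmem : i ∈ univ.erase j := Finset.mem_erase.mpr ⟨hne, Finset.mem_univ i⟩
  have h1 : T.a j i * T.m i ≤ ∑ l ∈ univ.erase j, T.a j l * T.m l :=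
    Finset.single_le_sum (Groth.Agent.S2174.erase_term_nonneg T j) hmem
  have h2 := Groth.Agent.S2174.diag_mul_eq T j
  have habs : |T.a j j| = -T.a j j := abs_of_nonpos (hdiag_nonpos j)
  have hfirst : T.m i * T.a i j ≤ T.m j * |T.a j j| := by
    rw [habs, hsymm] at *
    nlinarith
  refine ⟨hfirst, le_trans ?_ hfirst⟩
  have hw : T.w i ≤ T.a i j := Int.le_of_dvd hij (T.w_dvd i j)
  exact mul_le_mul_of_nonneg_left hw (T.m_pos i).le

end Groth.Agent.S2182
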