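import Groth.Statements.S2183
import Mathlib.Tactic
import Groth.Agent.S2173
import Groth.Agent.S2174
import Groth.Agent.S2176
import Groth.Agent.S2182

set_option autoImplicit false
open Finset
open Models Models.NumericalType

namespace Groth.Agent.S2183

theorem two_genus_sub_two {n : ℕ} (T : Models.NumericalType n) :
    2 * T.genus - 2 = ∑ i, T.m i * (2 * T.w i * (T.g i - 1) - T.a i i) := by
  unfold Models.NumericalType.genus
  obtain ⟨e, he⟩ := Groth.Agent.S2173.result T
  rw [he, Int.mul_ediv_cancel_left e (by norm_num : (2 : ℤ) ≠ 0)]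
  have hexpand : ∑ i, T.m i * (2 * T.w i * (T.g i - 1) - T.a i i) =
      2 * (∑ i, T.m i * T.w i * (T.g i - 1)) - ∑ i, T.m i * T.a i i := by
    rw [Finset.mul_sum, ← Finset.sum_sub_distrib]
    exact Finset.sum_congr rfl fun i _ => by ring
  rw [hexpand, he]
  ring

/-- the key local estimates at an index which is not a (-2)-index -/
theorem local_bounds {n : ℕ} (T : Models.NumericalType n) (hmin : T.IsMinimal) (hn : 1 < n)
    (j : Fin n) (hj : ¬T.IsMinusTwo j) :
    1 ≤ T.m j * (2 * T.w j * (T.g j - 1) - T.a j j) ∧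
    2 * T.g j - 1 ≤ T.m j * (2 * T.w j * (T.g j - 1) - T.a j j) ∧
    T.m j * |T.a j j| ≤ 3 * (T.m j * (2 * T.w j * (T.g j - 1) - T.a j j)) := by
  have hneg := Groth.Agent.S2174.result T hn j
  obtain ⟨c, hc⟩ := T.w_dvd j j
  have hw := T.w_pos j
  have hm := T.m_pos j
  have hg := T.g_nonneg j
  have hcneg : c < 0 := by
    by_contra h
    push Not at h
    have := mul_nonneg hw.le h
    rw [← hc] at this
    linarith
  have habs : |T.a j j| = -T.a j j := abs_of_neg hneg
  have hP : 1 ≤ T.m j * T.w j := by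
    have : 1 * 1 ≤ T.m j * T.w j := mul_le_mul hm hw (by norm_num) (by linarith)
    simpa using this
  rw [habs, hc]
  rcases eq_or_lt_of_le hg with hg0 | hgpos
  · have hc3 : c ≤ -3 := by
      by_contra h
      push Not at h
      have hc12 : c = -1 ∨ c = -2 := by omega
      rcases hc12 with h1 | h2
      · apply hmin j
        refine ⟨hg0.symm, ?_⟩
        rw [hc, h1]; ring
      · apply hj
        refine ⟨hg0.symm, ?_⟩
        rw [hc, h2]; ring
    rw [← hg0]
    have e1 : T.m j * (2 * T.w j * (0 - 1) - T.w j * c) = (T.m j * T.w j) * (-2 - c) := by ring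
    have e2 : T.m j * -(T.w j * c) = (T.m j * T.w j) * (-c) := by ring
    rw [e1, e2]
    refine ⟨?_, ?_, ?_⟩
    · nlinarith
    · nlinarith
    · nlinarith
  · have e1 : T.m j * (2 * T.w j * (T.g j - 1) - T.w j * c) =
        (T.m j * T.w j) * (2 * (T.g j - 1) - c) := by ring
    have e2 : T.m j * -(T.w j * c) = (T.m j * T.w j) * (-c) := by ring
    rw [e1, e2]
    have hg1 : 0 ≤ T.g j - 1 := by omega
    refine ⟨?_, ?_, ?_⟩
    · nlinarith
    · nlinarith
    · nlinarith

open Classical in
/-- Let T be a minimal numerical type with n > 1 indices and genus g at least 2, and let J be the set of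
indices which are not (-2)-indices. Then J has at most 2g - 2 elements, and for j in J one has g j <
g, m j * |a j j| at most 6g - 6, and m i * a i j at most 6g - 6 for every index i. -/
theorem result {n : ℕ} (T : Models.NumericalType n) (hmin : T.IsMinimal) (hn : 1 < n) (hg : 2 ≤ T.genus) :
    ((univ.filter fun j => ¬T.IsMinusTwo j).card : ℤ) ≤ 2 * T.genus - 2 ∧
      ∀ j, ¬T.IsMinusTwo j →
        T.g j < T.genus ∧ T.m j * |T.a j j| ≤ 6 * T.genus - 6 ∧
          ∀ i, T.m i * T.a i j ≤ 6 * T.genus - 6 := by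
  classical
  have hgen := two_genus_sub_two T
  have hterm : ∀ i ∈ (univ : Finset (Fin n)), 0 ≤ T.m i * (2 * T.w i * (T.g i - 1) - T.a i i) :=
    fun i _ => mul_nonneg (T.m_pos i).le (Groth.Agent.S2176.term_nonneg T hmin hn i)
  have hle : ∀ j, T.m j * (2 * T.w j * (T.g j - 1) - T.a j j) ≤ 2 * T.genus - 2 := by
    intro j
    rw [hgen]
    exact Finset.single_le_sum hterm (Finset.mem_univ j)
  constructor
  · rw [hgen]
    have h1 : ((univ.filter fun j => ¬T.IsMinusTwo j).card : ℤ) =
        ∑ j ∈ univ.filter (fun j => ¬T.IsMinusTwo j), (1 : ℤ) := by simp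
    rw [h1]
    calc ∑ j ∈ univ.filter (fun j => ¬T.IsMinusTwo j), (1 : ℤ)
        ≤ ∑ j ∈ univ.filter (fun j => ¬T.IsMinusTwo j),
            T.m j * (2 * T.w j * (T.g j - 1) - T.a j j) :=
          Finset.sum_le_sum fun j hj =>
            (local_bounds T hmin hn j (Finset.mem_filter.mp hj).2).1
      _ ≤ ∑ j, T.m j * (2 * T.w j * (T.g j - 1) - T.a j j) :=
          Finset.sum_le_sum_of_subset_of_nonneg (Finset.filter_subset _ _)
            (fun i hi _ => hterm i hi)
  · intro j hj
    obtain ⟨b1, b2, b3⟩ := local_bounds T hmin hn j hj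
    have hlej := hle j
    have hdiag : T.m j * |T.a j j| ≤ 6 * T.genus - 6 := by linarith
    refine ⟨by linarith, hdiag, ?_⟩
    intro i
    by_cases hpos : 0 < T.a i j
    · exact le_trans (Groth.Agent.S2182.result T i j hpos).1 hdiag
    · push Not at hpos
      have : T.m i * T.a i j ≤ 0 := mul_nonpos_of_nonneg_of_nonpos (T.m_pos i).le hpos
      linarith

end Groth.Agent.S2183
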