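import Groth.Statements.S2190
import Mathlib.Tactic

set_option autoImplicit false
open Finset
open Models Models.NumericalType

namespace Groth.Agent.S2190

theorem row_sum {n : ℕ} (T : Models.NumericalType n) (i : Fin n) :
    T.a i i * T.m i + ∑ j ∈ (univ : Finset (Fin n)).erase i, T.a i j * T.m j = 0 := by
  have h := congrFun T.mulVec_m i
  simp only [Matrix.mulVec, dotProduct, Pi.zero_apply] at h
  have h2 := Finset.add_sum_erase (univ : Finset (Fin n)) (fun j => T.a i j * T.m j) (Finset.mem_univ i)
  exact h2.trans h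

theorem off_nonneg {n : ℕ} (T : Models.NumericalType n) (i : Fin n) :
    ∀ j ∈ (univ : Finset (Fin n)).erase i, 0 ≤ T.a i j * T.m j := by
  intro j hj
  have hne : i ≠ j := fun h => (Finset.ne_of_mem_erase hj) h.symm
  exact mul_nonneg (T.offDiag_nonneg i j hne) (T.m_pos j).le

theorem diag_nonpos {n : ℕ} (T : Models.NumericalType n) (i : Fin n) : T.a i i ≤ 0 := by
  have h := row_sum T i
  have h2 := Finset.sum_nonneg (off_nonneg T i)
  have h3 : T.a i i * T.m i ≤ 0 := by linarith
  have hm := T.m_pos i
  by_contra hcon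
  push Not at hcon
  have := mul_pos hcon hm
  linarith

/-- A minimal numerical type of genus zero has a single index, with m = 1, a = 0, w = 1 and g = 0. -/
theorem result {n : ℕ} (T : Models.NumericalType n) (hmin : T.IsMinimal) (hg : T.genus = 0) :
    n = 1 ∧ ∀ i, T.m i = 1 ∧ T.a i i = 0 ∧ T.w i = 1 ∧ T.g i = 0 := by
  have hg' := hg
  unfold Models.NumericalType.genus at hg'
  have hdiv : (∑ i, T.m i * T.a i i) / 2 * 2 ≤ ∑ i, T.m i * T.a i i :=
    Int.ediv_mul_le _ (by norm_num)
  have hsum : ∑ i, T.m i * (2 * T.w i * (T.g i - 1) - T.a i i) ≤ -2 := by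
    have e : ∑ i, T.m i * (2 * T.w i * (T.g i - 1) - T.a i i)
        = 2 * (∑ i, T.m i * T.w i * (T.g i - 1)) - ∑ i, T.m i * T.a i i := by
      rw [Finset.mul_sum, ← Finset.sum_sub_distrib]
      apply Finset.sum_congr rfl
      intro i _
      ring
    rw [e]
    linarith
  have hex : ∃ i, T.m i * (2 * T.w i * (T.g i - 1) - T.a i i) < 0 := by
    by_contra hcon
    push Not at hcon
    have := Finset.sum_nonneg (fun i (_ : i ∈ (univ : Finset (Fin n))) => hcon i)
    linarith
  obtain ⟨i, hi⟩ := hex
  have hmi := T.m_pos i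
  have hwi := T.w_pos i
  have hterm : 2 * T.w i * (T.g i - 1) - T.a i i < 0 := by
    by_contra hcon
    push Not at hcon
    have := mul_nonneg hmi.le hcon
    linarith
  have hdi := diag_nonpos T i
  have hgi : T.g i = 0 := by
    by_contra hne
    have h1 : 1 ≤ T.g i := by
      have := T.g_nonneg i
      omega
    have : 0 ≤ 2 * T.w i * (T.g i - 1) := by
      apply mul_nonneg
      · linarith
      · linarith
    linarith
  rw [hgi] at hterm
  obtain ⟨k, hk⟩ := T.w_dvd i i
  have hk1 : k ≤ 0 := by
    by_contra hcon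
    push Not at hcon
    have := mul_pos hwi hcon
    linarith
  have hk2 : -2 < k := by
    by_contra hcon
    push Not at hcon
    have : T.w i * k ≤ T.w i * (-2) := mul_le_mul_of_nonneg_left hcon hwi.le
    linarith
  have hk0 : k = 0 := by
    by_contra hne
    have hkm : k = -1 := by omega
    apply hmin i
    refine ⟨hgi, ?_⟩
    rw [hk, hkm]
    ring
  have haii : T.a i i = 0 := by rw [hk, hk0, mul_zero]
  have hrow := row_sum T i
  rw [haii, zero_mul, zero_add] at hrow
  have hoff := (Finset.sum_eq_zero_iff_of_nonneg (off_nonneg T i)).mp hrow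
  have haij : ∀ j, j ≠ i → T.a i j = 0 := by
    intro j hj
    have h1 := hoff j (Finset.mem_erase.mpr ⟨hj, Finset.mem_univ j⟩)
    have hmj := T.m_pos j
    rcases mul_eq_zero.mp h1 with h | h
    · exact h
    · omega
  have hn : n = 1 := by
    by_contra hne
    have hpos := T.pos
    have hne' : ({i} : Finset (Fin n)) ≠ univ := by
      intro heq
      have := congrArg Finset.card heq
      rw [Finset.card_singleton, Finset.card_univ, Fintype.card_fin] at this
      omega
    obtain ⟨i', hi', j, hj, hij⟩ := T.connected {i} (Finset.singleton_nonempty i) hne'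
    rw [Finset.mem_singleton] at hi'
    rw [Finset.mem_singleton] at hj
    subst hi'
    exact hij (haij j hj)
  subst hn
  refine ⟨rfl, fun i' => ?_⟩
  have hii : i' = i := Subsingleton.elim _ _
  subst hii
  have hS : ∑ j : Fin 1, T.m j * T.a j j = 0 := by
    rw [Fin.sum_univ_one]
    have : (0 : Fin 1) = i' := Subsingleton.elim _ _
    rw [this, haii, mul_zero]
  have hS2 : ∑ j : Fin 1, T.m j * T.w j * (T.g j - 1) = - (T.m i' * T.w i') := by
    rw [Fin.sum_univ_one]
    have : (0 : Fin 1) = i' := Subsingleton.elim _ _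
    rw [this, hgi]
    ring
  rw [hS, hS2] at hg'
  have hmw : T.m i' * T.w i' = 1 := by
    have : (0 : ℤ) / 2 = 0 := by norm_num
    rw [this] at hg'
    linarith
  have hm1 : T.m i' = 1 := by nlinarith
  have hw1 : T.w i' = 1 := by nlinarith
  exact ⟨hm1, haii, hw1, hgi⟩

end Groth.Agent.S2190
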