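import Groth.Statements.S2192
import Groth.Agent.Lib.Helper16.DP4

set_option autoImplicit false
universe u
open DPow

namespace Groth.Agent.S2192

/-- Let I be an ideal of a ring A generated by a set S, and let d n : A -> A (n a natural number) be
maps with d 0 = 1 and d 1 = id on I, d n mapping I into I for n > 0, vanishing off I, additive in
the divided-power sense and satisfying d n (a x) = a^n d n x for all x in I. If the product rule d m
x * d n x = C(m+n, m) d (m+n) x and the composition rule for d m (d n x) hold for all x in S, then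
the d n form a divided power structure on I. -/
theorem result {A : Type u} [CommRing A] (I : Ideal A) (S : Set A)
    (hS : Ideal.span S = I) (d : ℕ → A → A) (h_null : ∀ (n : ℕ) (x : A), x ∉ I → d n x = 0)
    (h_zero : ∀ x ∈ I, d 0 x = 1) (h_one : ∀ x ∈ I, d 1 x = x)
    (h_mem : ∀ (n : ℕ) (x : A), n ≠ 0 → x ∈ I → d n x ∈ I)
    (h_add : ∀ (n : ℕ) (x y : A), x ∈ I → y ∈ I →
      d n (x + y) = (Finset.antidiagonal n).sum fun k => d k.1 x * d k.2 y)
    (h_mul : ∀ (n : ℕ) (a x : A), x ∈ I → d n (a * x) = a ^ n * d n x)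
    (h_mul_dpow : ∀ (m n : ℕ) (x : A), x ∈ S → d m x * d n x = (m + n).choose m * d (m + n) x)
    (h_comp : ∀ (m n : ℕ) (x : A), n ≠ 0 → x ∈ S →
      d m (d n x) = Nat.uniformBell m n * d (m * n) x) :
    ∃ γ : DividedPowers I, γ.dpow = d := by
  classical
  have key : ∀ x ∈ I, (∀ m n : ℕ, d m x * d n x = ((m + n).choose m : A) * d (m + n) x) ∧
      (∀ m n : ℕ, n ≠ 0 → d m (d n x) = (Nat.uniformBell m n : A) * d (m * n) x) := by
    intro x hx
    rw [← hS] at hx
    obtain ⟨f, t, hts, -, hsum⟩ := Submodule.mem_span_iff_exists_finset_subset.mp hx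
    letI := Helper16.DP.algR0 A
    letI := Helper16.DP.algR0K A
    have H : Helper16.DP.GenHyp (↥t) I d (fun l => (l : A)) :=
      { h_zero := h_zero
        h_mem := h_mem
        h_add := h_add
        h_mul := h_mul
        hs := fun l => hS ▸ Ideal.subset_span (hts l.2)
        hs_mul := fun l m n => h_mul_dpow m n _ (hts l.2)
        hs_comp := fun l m n hn => h_comp m n _ hn (hts l.2) }
    have hinj := Helper16.DP.hinj0 A
    let g : Helper16.DP.P0 (↥t) (MvPolynomial A ℤ) (MvPolynomial A ℚ) :=
      ∑ l : ↥t, (MvPolynomial.X (f l) : MvPolynomial A ℤ) •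
        Helper16.DP.x0 (↥t) (MvPolynomial A ℤ) (MvPolynomial A ℚ) l 1
    have hg : g ∈ Helper16.DP.Pplus (↥t) (MvPolynomial A ℤ) (MvPolynomial A ℚ) := by
      refine Ideal.sum_mem _ fun l _ => ?_
      rw [Algebra.smul_def]
      exact Ideal.mul_mem_left _ _ (Helper16.DP.x0_mem_Pplus _ _ _ l 1 le_rfl)
    have hπ : Helper16.DP.piD (↥t) (MvPolynomial A ℤ) (MvPolynomial A ℚ) hinj H g = x := by
      rw [map_sum, ← hsum, ← Finset.sum_coe_sort t (fun a => f a • a)]
      refine Finset.sum_congr rfl fun l _ => ?_
      rw [map_smul, Helper16.DP.piD_x0, h_one _ (hS ▸ Ideal.subset_span (hts l.2)),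
        Algebra.smul_def]
      show Helper16.DP.phi A (MvPolynomial.X (f l)) * (l : A) = _
      rw [Helper16.DP.phi_X, smul_eq_mul]
    rw [← hπ]
    exact ⟨Helper16.DP.mul_dpow_of_image _ _ _ hinj H g hg,
      fun m n hn => Helper16.DP.dpow_comp_of_image _ _ _ hinj H g hg m n hn⟩
  exact ⟨{ dpow := d
           dpow_null := fun {n x} hx => h_null n x hx
           dpow_zero := fun {x} hx => h_zero x hx
           dpow_one := fun {x} hx => h_one x hx
           dpow_mem := fun {n x} hn hx => h_mem n x hn hx
           dpow_add := fun {n x y} hx hy => h_add n x y hx hy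
           dpow_mul := fun {n a x} hx => h_mul n a x hx
           mul_dpow := fun {m n x} hx => (key x hx).1 m n
           dpow_comp := fun {m n x} hn hx => (key x hx).2 m n hn }, rfl⟩

end Groth.Agent.S2192
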