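import Groth.Statements.S2203
import Mathlib.CategoryTheory.Center.Localization
import Mathlib.CategoryTheory.Center.Linear
import Mathlib.Algebra.Category.ModuleCat.Limits
import Mathlib.Algebra.Category.ModuleCat.Abelian
import Mathlib.CategoryTheory.Preadditive.AdditiveFunctor
import Mathlib.CategoryTheory.Adjunction.Limits
-- import your own Groth.Agent.* helpers here

set_option autoImplicit false
universe u
open CategoryTheory
open QCohCat

namespace Groth.Agent.S2203

theorem toCatCenter_bijective (A : Type u) [CommRing A] :
    Function.Bijective (Linear.toCatCenter A (ModuleCat.{u} A)) := by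
  constructor
  · intro a b h
    have h1 := congrArg (fun z : CatCenter (ModuleCat.{u} A) => (z.app (ModuleCat.of A A)).hom (1 : A)) h
    simpa using h1
  · intro z
    refine ⟨(z.app (ModuleCat.of A A)).hom (1 : A), ?_⟩
    ext M m
    have hnat := z.naturality (ModuleCat.ofHom (LinearMap.toSpanSingleton A M m))
    have h2 := congrArg (fun f => f.hom (1 : A)) hnat
    simp at h2
    simp [h2]

theorem localization_comp {C D : Type*} [Category C] [Category D] [Preadditive C] [Preadditive D]
    (e : C ≌ D) [e.functor.Additive]
    [e.functor.IsLocalization (MorphismProperty.isomorphisms C)]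
    [e.inverse.IsLocalization (MorphismProperty.isomorphisms D)] (r : CatCenter C) :
    (CatCenter.localizationRingHom e.inverse (MorphismProperty.isomorphisms D))
      ((CatCenter.localizationRingHom e.functor (MorphismProperty.isomorphisms C)) r) = r := by
  ext X
  set s := (CatCenter.localizationRingHom e.inverse (MorphismProperty.isomorphisms D))
      ((CatCenter.localizationRingHom e.functor (MorphismProperty.isomorphisms C)) r) with hs
  have h1 : s.app (e.inverse.obj (e.functor.obj X)) =
      e.inverse.map (e.functor.map (r.app X)) := by
    rw [hs]
    change (CatCenter.localization _ e.inverse _).app _ = _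
    rw [CatCenter.localization_app]
    congr 1
    change (CatCenter.localization _ e.functor _).app _ = _
    rw [CatCenter.localization_app]
  have h2 := s.naturality (e.unit.app X)
  have h3 := e.unit.naturality (r.app X)
  simp only [Functor.id_obj, Functor.comp_obj, Functor.id_map, Functor.comp_map] at h2 h3
  rw [h1, ← h3] at h2
  have : IsIso (e.unit.app X) := inferInstance
  exact ((cancel_mono (e.unit.app X)).1 h2).symm

/-- Ring-isomorphism part of the statement: let A and B be commutative rings whose categories of modules
are equivalent. Then A and B are isomorphic as rings. (The source moreover describes the equivalence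
as base change followed by tensoring with an invertible module.) -/
theorem result (A B : Type u) [CommRing A] [CommRing B]
    (F : ModuleCat.{u} A ≌ ModuleCat.{u} B) : Nonempty (A ≃+* B) := by
  have i1 : F.functor.Additive := Functor.additive_of_preserves_binary_products _
  have i2 : F.functor.IsLocalization (MorphismProperty.isomorphisms _) :=
    Functor.IsLocalization.of_isEquivalence _ _ le_rfl
  have i3 : F.inverse.IsLocalization (MorphismProperty.isomorphisms _) :=
    Functor.IsLocalization.of_isEquivalence _ _ le_rfl
  have i4 : F.symm.functor.Additive := inferInstanceAs F.inverse.Additive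
  have i5 : F.symm.functor.IsLocalization (MorphismProperty.isomorphisms _) := i3
  have i6 : F.symm.inverse.IsLocalization (MorphismProperty.isomorphisms _) := i2
  let ψ := CatCenter.localizationRingHom F.functor (MorphismProperty.isomorphisms _)
  let ψ' := CatCenter.localizationRingHom F.inverse (MorphismProperty.isomorphisms _)
  have h1 : ψ'.comp ψ = RingHom.id _ := RingHom.ext fun r => localization_comp F r
  have h2 : ψ.comp ψ' = RingHom.id _ := RingHom.ext fun r => localization_comp F.symm r
  let eA := RingEquiv.ofBijective _ (toCatCenter_bijective A)
  let eB := RingEquiv.ofBijective _ (toCatCenter_bijective B)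
  exact ⟨(eA.trans (RingEquiv.ofRingHom ψ ψ' h2 h1)).trans eB.symm⟩

end Groth.Agent.S2203
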