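import Groth.Statements.S2207
import Mathlib.Data.Nat.Choose.Sum
import Mathlib.Algebra.Ring.GeomSum
-- import your own Groth.Agent.* helpers here

set_option autoImplicit false
universe u v
open DPow

namespace Groth.Agent.S2207

variable {A : Type u} {B : Type v} [CommRing A] [CommRing B] [Algebra A B]

theorem key (x : A) (γ : DividedPowers (Ideal.span {x})) (n : ℕ) (b b' : B)
    (h : b * algebraMap A B x = b' * algebraMap A B x) :
    b ^ n * algebraMap A B (γ.dpow n x) = b' ^ n * algebraMap A B (γ.dpow n x) := by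
  rcases Nat.eq_zero_or_pos n with rfl | hn
  · simp
  · have hx : x ∈ Ideal.span {x} := Ideal.mem_span_singleton_self x
    obtain ⟨a, ha⟩ := Ideal.mem_span_singleton'.1 (γ.dpow_mem hn.ne' hx)
    obtain ⟨t, ht⟩ := sub_dvd_pow_sub_pow b b' n
    rw [← sub_eq_zero, ← sub_mul, ht, ← ha, map_mul]
    have h0 : (b - b') * algebraMap A B x = 0 := by rw [sub_mul, h, sub_self]
    calc (b - b') * t * (algebraMap A B a * algebraMap A B x)
        = t * algebraMap A B a * ((b - b') * algebraMap A B x) := by ring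
      _ = 0 := by rw [h0, mul_zero]

open Classical in
noncomputable def dp (x : A) (γ : DividedPowers (Ideal.span {x})) (n : ℕ) (y : B) : B :=
  if h : ∃ b, y = b * algebraMap A B x then
    (Classical.choose h) ^ n * algebraMap A B (γ.dpow n x) else 0

theorem dp_eq (x : A) (γ : DividedPowers (Ideal.span {x})) (n : ℕ) (b : B) :
    dp x γ n (b * algebraMap A B x) = b ^ n * algebraMap A B (γ.dpow n x) := by
  have h : ∃ b', b * algebraMap A B x = b' * algebraMap A B x := ⟨b, rfl⟩
  rw [dp, dif_pos h]
  exact key x γ n _ _ (Classical.choose_spec h).symm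

theorem mem_map_iff (x : A) (y : B) :
    y ∈ (Ideal.span {x}).map (algebraMap A B) ↔ ∃ b, y = b * algebraMap A B x := by
  rw [Ideal.map_span, Set.image_singleton, Ideal.mem_span_singleton']
  exact ⟨fun ⟨a, h⟩ => ⟨a, h.symm⟩, fun ⟨a, h⟩ => ⟨a, h.symm⟩⟩

noncomputable def ext (x : A) (γ : DividedPowers (Ideal.span {x})) :
    DividedPowers ((Ideal.span {x}).map (algebraMap A B)) where
  dpow := dp x γ
  dpow_null {n y} hy := by
    rw [mem_map_iff] at hy
    rw [dp, dif_neg hy]
  dpow_zero {y} hy := by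
    obtain ⟨b, rfl⟩ := (mem_map_iff x y).1 hy
    rw [dp_eq, γ.dpow_zero (Ideal.mem_span_singleton_self x)]
    simp
  dpow_one {y} hy := by
    obtain ⟨b, rfl⟩ := (mem_map_iff x y).1 hy
    rw [dp_eq, γ.dpow_one (Ideal.mem_span_singleton_self x)]
    simp
  dpow_mem {n y} hn hy := by
    obtain ⟨b, rfl⟩ := (mem_map_iff x y).1 hy
    rw [dp_eq]
    exact Ideal.mul_mem_left _ _
      (Ideal.mem_map_of_mem _ (γ.dpow_mem hn (Ideal.mem_span_singleton_self x)))
  dpow_add {n y y'} hy hy' := by
    obtain ⟨b, rfl⟩ := (mem_map_iff x y).1 hy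
    obtain ⟨b', rfl⟩ := (mem_map_iff x y').1 hy'
    have hx := Ideal.mem_span_singleton_self x
    rw [← add_mul, dp_eq, (Commute.all b b').add_pow', Finset.sum_mul]
    refine Finset.sum_congr rfl fun k hk => ?_
    rw [Finset.mem_antidiagonal] at hk
    rw [dp_eq, dp_eq]
    have h1 : algebraMap A B (γ.dpow k.1 x) * algebraMap A B (γ.dpow k.2 x) =
        (n.choose k.1 : B) * algebraMap A B (γ.dpow n x) := by
      rw [← map_mul, γ.mul_dpow hx, hk, map_mul, map_natCast]
    rw [nsmul_eq_mul]
    calc (n.choose k.1 : B) * (b ^ k.1 * b' ^ k.2) * algebraMap A B (γ.dpow n x)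
        = b ^ k.1 * b' ^ k.2 * ((n.choose k.1 : B) * algebraMap A B (γ.dpow n x)) := by ring
      _ = b ^ k.1 * algebraMap A B (γ.dpow k.1 x) * (b' ^ k.2 * algebraMap A B (γ.dpow k.2 x)) := by
        rw [← h1]; ring
  dpow_mul {n a y} hy := by
    obtain ⟨b, rfl⟩ := (mem_map_iff x y).1 hy
    rw [← mul_assoc, dp_eq, dp_eq]
    ring
  mul_dpow {m n y} hy := by
    obtain ⟨b, rfl⟩ := (mem_map_iff x y).1 hy
    have hx := Ideal.mem_span_singleton_self x
    rw [dp_eq, dp_eq, dp_eq]
    have h1 : algebraMap A B (γ.dpow m x) * algebraMap A B (γ.dpow n x) =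
        ((m + n).choose m : B) * algebraMap A B (γ.dpow (m + n) x) := by
      rw [← map_mul, γ.mul_dpow hx, map_mul, map_natCast]
    calc b ^ m * algebraMap A B (γ.dpow m x) * (b ^ n * algebraMap A B (γ.dpow n x))
        = b ^ (m + n) * (algebraMap A B (γ.dpow m x) * algebraMap A B (γ.dpow n x)) := by ring
      _ = _ := by rw [h1]; ring
  dpow_comp {m n y} hn hy := by
    obtain ⟨b, rfl⟩ := (mem_map_iff x y).1 hy
    have hx := Ideal.mem_span_singleton_self x
    obtain ⟨a, ha⟩ := Ideal.mem_span_singleton'.1 (γ.dpow_mem hn hx)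
    rw [dp_eq, dp_eq]
    have h1 : b ^ n * algebraMap A B (γ.dpow n x) =
        (b ^ n * algebraMap A B a) * algebraMap A B x := by
      rw [← ha, map_mul]; ring
    rw [h1, dp_eq]
    have h2 : algebraMap A B a ^ m * algebraMap A B (γ.dpow m x) =
        (m.uniformBell n : B) * algebraMap A B (γ.dpow (m * n) x) := by
      rw [← map_pow, ← map_mul, ← γ.dpow_mul hx, ha, γ.dpow_comp hn hx, map_mul, map_natCast]
    calc (b ^ n * algebraMap A B a) ^ m * algebraMap A B (γ.dpow m x)
        = b ^ (m * n) * (algebraMap A B a ^ m * algebraMap A B (γ.dpow m x)) := by ring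
      _ = _ := by rw [h2]; ring

/-- Existence in case (2): let I = (x) be a principal ideal of A with a divided power structure and B
any A-algebra. Then there is a divided power structure on I B for which A -> B is a homomorphism of
divided power rings. -/
theorem result {A : Type u} {B : Type v} [CommRing A] [CommRing B] [Algebra A B]
    (x : A) (γ : DividedPowers (Ideal.span {x})) :
    ∃ δ : DividedPowers ((Ideal.span {x}).map (algebraMap A B)), γ.IsDPMorphism δ (algebraMap A B) := by
  refine ⟨ext x γ, le_rfl, ?_⟩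
  intro n a ha
  obtain ⟨a', rfl⟩ := Ideal.mem_span_singleton'.1 ha
  have hx := Ideal.mem_span_singleton_self x
  change dp x γ n _ = _
  rw [map_mul, dp_eq, γ.dpow_mul hx, map_mul, map_pow]

end Groth.Agent.S2207
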