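import Groth.Statements.S9828
import Groth.Agent.Lib.Helper40.ExtFP3

set_option autoImplicit false
universe u
open CategoryTheory CategoryTheory.Limits AlgebraicGeometry TopologicalSpace Opposite
open Props

namespace Groth.Agent.S9828

open Groth.Agent.Lib.Helper40.ExtFP Scheme.Modules Groth.Agent.Lib.Lead.QCohAff
  Groth.Agent.Lib.Lead.CohAff Groth.Agent.Lib.Helper21.QCohSections
  Groth.Agent.Lib.Helper40.SSh Groth.Agent.Lib.Helper40.SSh.SubSh

section Sys

variable {X : Scheme.{u}} {P F : X.Modules} (π : P ⟶ F)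

/-- quasi-coherent submodules of finite type of the kernel (as sectionwise ranges) -/
def JProp (N : SubSh (kernel π)) : Prop :=
  ∃ (G : X.Modules) (i : G ⟶ kernel π), Mono i ∧ G.IsQuasicoherent ∧
    SheafOfModules.IsFiniteType (R := X.ringCatSheaf) G ∧ N = ofHom i

def J : Type u := {N : SubSh (kernel π) // JProp π N}

instance : PartialOrder (J π) where
  le N N' := ∀ T, N.1.obj T ≤ N'.1.obj T
  le_refl N T := le_rfl
  le_trans N N' N'' h h' T := (h T).trans (h' T)
  le_antisymm N N' h h' := Subtype.ext (SubSh.ext' fun T => le_antisymm (h T) (h' T))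

theorem J_le_def {N N' : J π} : N ≤ N' ↔ ∀ T, N.1.obj T ≤ N'.1.obj T := Iff.rfl

noncomputable def Gm (N : J π) : X.Modules := N.2.choose

noncomputable def im (N : J π) : Gm π N ⟶ kernel π := N.2.choose_spec.choose

theorem spec (N : J π) : Mono (im π N) ∧ (Gm π N).IsQuasicoherent ∧
    SheafOfModules.IsFiniteType (R := X.ringCatSheaf) (Gm π N) ∧ N.1 = ofHom (im π N) :=
  N.2.choose_spec.choose_spec

noncomputable abbrev Dobj (N : J π) : X.Modules := cokernel (im π N ≫ kernel.ι π)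

noncomputable abbrev q (N : J π) : P ⟶ Dobj π N := cokernel.π (im π N ≫ kernel.ι π)


theorem exists_factor {N N' : J π} (h : N ≤ N') : ∃ k : Gm π N ⟶ Gm π N', k ≫ im π N' = im π N := by
  haveI := (spec π N').1
  apply exists_factor_of_range_le
  intro T a
  have h1 : (im π N).app T a ∈ N.1.obj T := by
    rw [(spec π N).2.2.2]
    exact ⟨a, rfl⟩
  have h2 := h T h1
  rw [(spec π N').2.2.2] at h2
  exact h2

theorem w {N N' : J π} (h : N ≤ N') : (im π N ≫ kernel.ι π) ≫ q π N' = 0 := by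
  obtain ⟨k, hk⟩ := exists_factor π h
  rw [← hk, Category.assoc, Category.assoc, ← Category.assoc (im π N'), cokernel.condition,
    comp_zero]

noncomputable def Dmap {N N' : J π} (h : N ≤ N') : Dobj π N ⟶ Dobj π N' :=
  cokernel.desc (im π N ≫ kernel.ι π) (q π N') (w π h)

@[reassoc]
theorem q_Dmap {N N' : J π} (h : N ≤ N') : q π N ≫ Dmap π h = q π N' :=
  cokernel.π_desc _ _ _

noncomputable def Dfun : J π ⥤ X.Modules where
  obj := Dobj π
  map f := Dmap π (leOfHom f)
  map_id N := by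
    rw [← cancel_epi (q π N), q_Dmap, Category.comp_id]
  map_comp f g := by
    rw [← cancel_epi (q π _), q_Dmap, q_Dmap_assoc, q_Dmap]

noncomputable def toF (N : J π) : Dobj π N ⟶ F :=
  cokernel.desc (im π N ≫ kernel.ι π) π (by rw [Category.assoc, kernel.condition, comp_zero])

@[reassoc]
theorem q_toF (N : J π) : q π N ≫ toF π N = π := cokernel.π_desc _ _ _

noncomputable def ιnat : Dfun π ⟶ (Functor.const (J π)).obj F where
  app N := toF π N
  naturality N N' f := by
    change Dmap π (leOfHom f) ≫ toF π N' = toF π N ≫ 𝟙 F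
    rw [← cancel_epi (q π N), q_Dmap_assoc, q_toF, Category.comp_id, q_toF]

theorem fp_Dobj [P.IsQuasicoherent] [F.IsQuasicoherent]
    (hP : SheafOfModules.IsFinitePresentation (R := X.ringCatSheaf) P) (N : J π) :
    SheafOfModules.IsFinitePresentation (R := X.ringCatSheaf) (Dobj π N) := by
  haveI := (spec π N).2.1
  exact isFinitePresentation_cokernel (im π N ≫ kernel.ι π) (spec π N).2.2.1 hP

theorem epi_Dmap {N N' : J π} (h : N ≤ N') : Epi (Dmap π h) :=
  epi_of_epi_fac (q_Dmap π h)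

variable [CompactSpace X] [QuasiSeparatedSpace X] [P.IsQuasicoherent] [F.IsQuasicoherent]

theorem nonempty_J : Nonempty (J π) := by
  haveI : (kernel π).IsQuasicoherent :=
    Groth.Agent.Lib.Helper21.QCohKernel.isQuasicoherent_kernel π
  obtain ⟨G, i, hm, hq, hft, -⟩ := exists_ft_sub_of_fg_qcqs (kernel π) (isAffineOpen_bot X) ⊥
    Submodule.fg_bot
  exact ⟨⟨ofHom i, G, i, hm, hq, hft, rfl⟩⟩

theorem directed_J : IsDirected (J π) (· ≤ ·) := by
  constructor
  intro N1 N2
  haveI : (kernel π).IsQuasicoherent :=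
    Groth.Agent.Lib.Helper21.QCohKernel.isQuasicoherent_kernel π
  obtain ⟨hm1, hq1, hft1, he1⟩ := spec π N1
  obtain ⟨hm2, hq2, hft2, he2⟩ := spec π N2
  haveI := hm1
  haveI := hm2
  haveI := hq1
  haveI := hq2
  obtain ⟨E, j, hm, hq, hft, hA, hB⟩ := exists_sup (im π N1) (im π N2) hft1 hft2
  refine ⟨⟨ofHom j, E, j, hm, hq, hft, rfl⟩, ?_, ?_⟩
  · intro T s hs
    rw [he1] at hs
    obtain ⟨a, rfl⟩ := hs
    exact hA T a
  · intro T s hs
    rw [he2] at hs
    obtain ⟨a, rfl⟩ := hs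
    exact hB T a

theorem exists_mem {W : X.Opens} (hW : IsAffineOpen W) (k : Γ(kernel π, W)) :
    ∃ (N : J π) (a : Γ(Gm π N, W)), (im π N).app W a = k := by
  haveI : (kernel π).IsQuasicoherent :=
    Groth.Agent.Lib.Helper21.QCohKernel.isQuasicoherent_kernel π
  obtain ⟨G, i, hm, hq, hft, hmem⟩ := exists_ft_sub_of_fg_qcqs (kernel π) hW
    (Submodule.span Γ(X, W) {k}) (Submodule.fg_span_singleton _)
  let N : J π := ⟨ofHom i, G, i, hm, hq, hft, rfl⟩
  have h1 : k ∈ N.1.obj W := hmem k (Submodule.subset_span rfl)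
  rw [(spec π N).2.2.2] at h1
  exact ⟨N, h1⟩

variable {Z : X.Modules} (σ : ∀ N : J π, Dobj π N ⟶ Z)
  (hσ : ∀ (N N' : J π) (h : N ≤ N'), Dmap π h ≫ σ N' = σ N)

include hσ in
theorem cocone_indep (N N' : J π) : q π N ≫ σ N = q π N' ≫ σ N' := by
  haveI := directed_J π
  obtain ⟨N'', h1, h2⟩ := exists_ge_ge N N'
  rw [← hσ N N'' h1, ← hσ N' N'' h2, q_Dmap_assoc, q_Dmap_assoc]

include hσ in
open Groth.Agent.Lib.Helper35.AbSheaf in
theorem kernel_comp_zero (N₀ : J π) : kernel.ι π ≫ q π N₀ ≫ σ N₀ = 0 := by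
  apply Scheme.Modules.hom_ext
  intro T
  ext k
  change (q π N₀ ≫ σ N₀).app T ((kernel.ι π).app T k) = 0
  have hcovT : T ≤ ⨆ W : {W : X.Opens // IsAffineOpen W ∧ W ≤ T}, W.1 := by
    intro x hx
    obtain ⟨_, ⟨W, hW : IsAffineOpen W, rfl⟩, hxW, hWT⟩ :=
      (X.isBasis_affineOpens).exists_subset_of_mem_open hx T.isOpen
    exact Opens.mem_iSup.mpr ⟨⟨W, hW, hWT⟩, hxW⟩
  refine ext_cover Z.presheaf Z.isSheaf
    (fun W : {W : X.Opens // IsAffineOpen W ∧ W ≤ T} => W.1) (fun W => W.2.2) hcovT _ _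
    (fun W => ?_)
  rw [map_zero]
  obtain ⟨N, a, ha⟩ := exists_mem π W.2.1 ((kernel π).presheaf.map (homOfLE W.2.2).op k)
  have h1 := Groth.Agent.Lib.Helper2.KerSec.naturality_apply (q π N₀ ≫ σ N₀)
    (homOfLE W.2.2) ((kernel.ι π).app T k)
  have h2 := Groth.Agent.Lib.Helper2.KerSec.naturality_apply (kernel.ι π) (homOfLE W.2.2) k
  change Z.presheaf.map (homOfLE W.2.2).op _ = 0
  rw [← h1, ← h2, ← ha, cocone_indep π σ hσ N₀ N]
  have h3 : (im π N ≫ kernel.ι π) ≫ q π N = 0 := cokernel.condition _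
  have h4 := congr($(congrArg (fun φ : Gm π N ⟶ Z => φ.app W.1)
    (show (im π N ≫ kernel.ι π) ≫ q π N ≫ σ N = 0 by rw [← Category.assoc, h3, zero_comp])) a)
  exact h4

omit σ hσ in
noncomputable def isColimit [Epi π] : IsColimit (Cocone.mk F (ιnat π)) where
  desc s := Abelian.epiDesc π (q π (nonempty_J π).some ≫ s.ι.app (nonempty_J π).some)
    (kernel_comp_zero π (fun N => s.ι.app N) (fun N N' h => s.w (homOfLE h : N ⟶ N')) _)
  fac s N := by
    change toF π N ≫ _ = _
    rw [← cancel_epi (q π N), q_toF_assoc, Abelian.comp_epiDesc]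
    exact cocone_indep π (fun N => s.ι.app N) (fun N N' h => s.w (homOfLE h : N ⟶ N')) _ _
  uniq s m hm := by
    rw [← cancel_epi π, Abelian.comp_epiDesc]
    have := hm (nonempty_J π).some
    change toF π _ ≫ m = _ at this
    rw [← this, q_toF_assoc]

end Sys

/-- On a quasi-compact quasi-separated scheme, a quasi-coherent module of finite type is a directed
colimit of modules of finite presentation with surjective transition maps. -/
theorem result {X : Scheme.{u}} [CompactSpace X]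
    [QuasiSeparatedSpace X] (F : X.Modules) [Coh.IsQCoh F] (hF : CohB1.IsFT F) :
    ∃ (J : Type u) (_ : PartialOrder J) (_ : IsDirected J (· ≤ ·)) (_ : Nonempty J) (D : J ⥤ X.Modules)
      (ι : D ⟶ (Functor.const J).obj F), Nonempty (IsColimit (Cocone.mk F ι)) ∧
      (∀ j, CohB1.IsFP (D.obj j)) ∧ ∀ (j j' : J) (h : j ⟶ j'), Epi (D.map h) := by
  obtain ⟨P, π, hPq, hPfp, hπ⟩ := exists_fp_epi F hF
  haveI := hPq
  haveI := hπ
  exact ⟨J π, inferInstance, directed_J π, nonempty_J π, Dfun π, ιnat π, ⟨isColimit π⟩,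
    fun N => fp_Dobj π hPfp N, fun N N' h => epi_Dmap π (leOfHom h)⟩

end Groth.Agent.S9828
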