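import Groth.Statements.S2214
import Groth.Agent.S9828
import Groth.Agent.Lib.Helper21.CohNoeth
import Groth.Agent.Lib.Helper40.HomColim6
import Groth.Agent.Lib.Helper40.PushColim
import Groth.Agent.Lib.Helper40.QCohCoprod
import Groth.Agent.Lib.Helper21.QCohColim
import Mathlib.CategoryTheory.Limits.FullSubcategory

set_option autoImplicit false
universe u
open CategoryTheory AlgebraicGeometry
open QCohCat

namespace Groth.Agent.S2214

open Limits Opposite TopologicalSpace Groth.Agent.Lib.Helper40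

instance isClosedUnderIso (X : Scheme.{u}) : (isQCoh X).IsClosedUnderIsomorphisms :=
  ⟨fun e h => QCohCoprod.qc_of_iso e h⟩

instance isClosedUnderColim (X : Scheme.{u}) (J : Type u) [SmallCategory J] :
    (isQCoh X).IsClosedUnderColimitsOfShape J :=
  ObjectProperty.IsClosedUnderColimitsOfShape.mk' (by
    rintro _ ⟨D, hD⟩
    exact Groth.Agent.Lib.Helper21.QCohColim.isQuasicoherent_colimit D hD)

/-- sections of a filtered colimit of q.c. modules over an affine open -/
theorem sec_colim {X : Scheme.{u}} {J : Type u} [SmallCategory J] [IsFiltered J]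
    (K : J ⥤ X.Modules) (hK : ∀ j, (K.obj j).IsQuasicoherent) (c : Cocone K) (hc : IsColimit c)
    {V : X.Opens} (hV : IsAffineOpen V) :
    (∀ t : Γ(c.pt, V), ∃ (j : J) (tj : Γ(K.obj j, V)), (c.ι.app j).app V tj = t) ∧
    (∀ (j : J) (ε : Γ(K.obj j, V)), (c.ι.app j).app V ε = 0 →
      ∃ (j₁ : J) (ψ : j ⟶ j₁), (K.map ψ).app V ε = 0) := by
  haveI := PushColim.preservesColimit_secF hV K hK
  have h := isColimitOfPreserves (PushColim.secF V) hc
  constructor
  · intro t
    obtain ⟨j, y, hy⟩ := Concrete.isColimit_exists_rep (K ⋙ PushColim.secF V) h t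
    exact ⟨j, y, hy⟩
  · intro j ε hε
    obtain ⟨k, f, g, hfg⟩ := Concrete.isColimit_exists_of_rep_eq (K ⋙ PushColim.secF V) h
      (i := j) (j := j) ε (0 : Γ(K.obj j, V)) (by
        refine Eq.trans hε ?_
        exact (map_zero _).symm)
    refine ⟨k, f, ?_⟩
    refine Eq.trans hfg ?_
    exact map_zero _

theorem compact_of_fp (X : Scheme.{u}) [CompactSpace X] [QuasiSeparatedSpace X] (F : QCoh X)
    [hF : SheafOfModules.IsFinitePresentation (R := X.ringCatSheaf) F.obj] : IsFinitelyPresentable.{u} F := by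
  rw [isFinitelyPresentable_iff_preservesFilteredColimitsOfSize]
  refine ⟨fun J _ _ => ⟨fun {G} => ⟨fun {c} hc => ⟨?_⟩⟩⟩⟩
  have hc' : IsColimit ((isQCoh X).ι.mapCocone c) := isColimitOfPreserves _ hc
  have hK : ∀ j, ((G ⋙ (isQCoh X).ι).obj j).IsQuasicoherent := fun j => (G.obj j).property
  have hsec := fun (V : X.Opens) (hV : IsAffineOpen V) =>
    sec_colim (G ⋙ (isQCoh X).ι) hK _ hc' hV
  have hιtr : ∀ {k' k : Jᵒᵖ} (ψ : k' ⟶ k), (G.map ψ.unop).hom ≫ (c.ι.app k'.unop).hom =
      (c.ι.app k.unop).hom := by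
    intro k' k ψ
    rw [← ObjectProperty.FullSubcategory.comp_hom, c.w]
  have C2 : ∀ (V : X.Opens), IsAffineOpen V → ∀ (k : Jᵒᵖ) (ε : Γ((G.obj k.unop).obj, V)),
      (c.ι.app k.unop).hom.app V ε = 0 →
      ∃ (k₁ : Jᵒᵖ) (ψ₁ : k₁ ⟶ k), ∀ (k₂ : Jᵒᵖ) (ψ₂ : k₂ ⟶ k₁),
        (G.map (ψ₂ ≫ ψ₁).unop).hom.app V ε = 0 := by
    intro V hV k ε hε
    obtain ⟨j₁, ψ, hψ⟩ := (hsec V hV).2 k.unop ε hε
    refine ⟨op j₁, ψ.op, fun k₂ ψ₂ => ?_⟩
    have : (G.map (ψ₂ ≫ ψ.op).unop).hom = (G.map ψ).hom ≫ (G.map ψ₂.unop).hom := by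
      rw [← ObjectProperty.FullSubcategory.comp_hom, ← G.map_comp]
      rfl
    rw [this]
    change (G.map ψ₂.unop).hom.app V ((G.map ψ).hom.app V ε) = 0
    erw [hψ]
    exact map_zero _
  apply Types.FilteredColimit.isColimitOf'
  · intro (x : F ⟶ c.pt)
    obtain ⟨k, hk, hfac⟩ := HomColim.exists_factor F.obj (K := Jᵒᵖ)
      (fun k => (G.obj k.unop).obj) c.pt.obj
      (fun ψ => (G.map ψ.unop).hom) (fun k => (c.ι.app k.unop).hom) hιtr
      (fun V hV t => by
        obtain ⟨j, tj, h⟩ := (hsec V hV).1 t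
        exact ⟨op j, tj, h⟩) C2 x.hom
    refine ⟨k.unop, ObjectProperty.homMk hk, ?_⟩
    apply ObjectProperty.hom_ext
    exact hfac.symm
  · intro i (x : F ⟶ G.obj i) (y : F ⟶ G.obj i) hxy
    have hxy' : x.hom ≫ (c.ι.app i).hom = y.hom ≫ (c.ι.app i).hom := by
      have := congrArg (fun f => f.hom) hxy
      exact this
    obtain ⟨k₁, ψ₁, h₁⟩ := HomColim.exists_stage_hom_eq F.obj (K := Jᵒᵖ)
      (fun k => (G.obj k.unop).obj) c.pt.obj
      (fun ψ => (G.map ψ.unop).hom) (fun k => (c.ι.app k.unop).hom) C2 (op i) x.hom y.hom hxy'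
    refine ⟨k₁.unop, ψ₁.unop, ?_⟩
    apply ObjectProperty.hom_ext
    exact h₁



section Lift

variable {X : Scheme.{u}} {J : Type u} [SmallCategory J] (K : J ⥤ X.Modules)
  (hK : ∀ j, (K.obj j).IsQuasicoherent) (c : Cocone K) (hpt : c.pt.IsQuasicoherent)

def liftFun : J ⥤ QCoh X where
  obj j := ⟨K.obj j, hK j⟩
  map f := ObjectProperty.homMk (K.map f)
  map_id j := by
    apply ObjectProperty.hom_ext
    exact K.map_id j
  map_comp f g := by
    apply ObjectProperty.hom_ext
    exact K.map_comp f g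

def liftCocone : Cocone (liftFun K hK) where
  pt := ⟨c.pt, hpt⟩
  ι :=
    { app j := ObjectProperty.homMk (c.ι.app j)
      naturality j j' f := by
        apply ObjectProperty.hom_ext
        exact c.ι.naturality f }

def unliftCocone (s : Cocone (liftFun K hK)) : Cocone K where
  pt := s.pt.obj
  ι :=
    { app j := (s.ι.app j).hom
      naturality j j' f := congrArg (fun φ => φ.hom) (s.ι.naturality f) }

def liftIsColimit (hc : IsColimit c) : IsColimit (liftCocone K hK c hpt) where
  desc s := ObjectProperty.homMk (hc.desc (unliftCocone K hK s))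
  fac s j := by
    apply ObjectProperty.hom_ext
    exact hc.fac (unliftCocone K hK s) j
  uniq s m hm := by
    apply ObjectProperty.hom_ext
    exact hc.uniq (unliftCocone K hK s) m.hom (fun j => congrArg (fun φ => φ.hom) (hm j))

end Lift

open Groth.Agent.S9828 Groth.Agent.Lib.Helper40.ExtFP

variable {X : Scheme.{u}} [CompactSpace X] [QuasiSeparatedSpace X]

theorem qc_Dobj {P F : X.Modules} (π : P ⟶ F) [P.IsQuasicoherent] [F.IsQuasicoherent] (N : J π) :
    (Dobj π N).IsQuasicoherent := by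
  haveI := (spec π N).2.1
  exact Groth.Agent.Lib.Helper21.QCohKernel.isQuasicoherent_cokernel _

theorem ft_of_compact (F : QCoh X) (hF : IsFinitelyPresentable.{u} F) :
    SheafOfModules.IsFiniteType (R := X.ringCatSheaf) F.obj := by
  haveI : F.obj.IsQuasicoherent := F.property
  let Z : X.Modules := cokernel (𝟙 F.obj)
  haveI hZ : Z.IsQuasicoherent := Groth.Agent.Lib.Helper21.QCohKernel.isQuasicoherent_cokernel _
  have hZ0 : IsZero Z := isZero_cokernel_of_epi (𝟙 F.obj)
  let π : F.obj ⟶ Z := cokernel.π (𝟙 F.obj)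
  haveI : Epi π := inferInstance
  haveI := nonempty_J π
  haveI := directed_J π
  have hc := liftIsColimit (Dfun π) (qc_Dobj π) (Cocone.mk Z (ιnat π)) hZ (isColimit π)
  let N₀ : J π := (nonempty_J π).some
  let f : F ⟶ (liftFun (Dfun π) (qc_Dobj π)).obj N₀ := ObjectProperty.homMk (q π N₀)
  let g : F ⟶ (liftFun (Dfun π) (qc_Dobj π)).obj N₀ := ObjectProperty.homMk 0
  obtain ⟨k, u', v', huv⟩ := IsFinitelyPresentable.exists_eq_of_isColimit hc f g (by
    apply ObjectProperty.hom_ext
    exact hZ0.eq_of_tgt _ _)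
  have h1 : q π N₀ ≫ Dmap π (leOfHom u') = 0 ≫ Dmap π (leOfHom v') :=
    congrArg (fun φ => φ.hom) huv
  rw [q_Dmap, zero_comp] at h1
  haveI : Epi (im π k ≫ kernel.ι π) := Abelian.epi_of_cokernel_π_eq_zero _ h1
  haveI := (spec π k).2.1
  exact Groth.Agent.Lib.Helper21.CohNoeth.isFiniteType_of_epi (im π k ≫ kernel.ι π) (spec π k).2.2.1

theorem fp_of_compact (F : QCoh X) (hF : IsFinitelyPresentable.{u} F) :
    SheafOfModules.IsFinitePresentation (R := X.ringCatSheaf) F.obj := by
  haveI : F.obj.IsQuasicoherent := F.property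
  obtain ⟨P, π, hPq, hPfp, hπ⟩ := exists_fp_epi F.obj (ft_of_compact F hF)
  haveI := hPq
  haveI := hπ
  haveI := nonempty_J π
  haveI := directed_J π
  have hc := liftIsColimit (Dfun π) (qc_Dobj π) (Cocone.mk F.obj (ιnat π)) F.property (isColimit π)
  obtain ⟨N, p, hp⟩ := IsFinitelyPresentable.exists_hom_of_isColimit hc (X := F)
    (ObjectProperty.homMk (𝟙 F.obj))
  let σ : F.obj ⟶ Dobj π N := p.hom
  have hσ : σ ≫ toF π N = 𝟙 F.obj := congrArg (fun φ => φ.hom) hp
  haveI hQq : (Dobj π N).IsQuasicoherent := qc_Dobj π N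
  have hQ : SheafOfModules.IsFinitePresentation (R := X.ringCatSheaf) (Dobj π N) := fp_Dobj π hPfp N
  let e : Dobj π N ⟶ Dobj π N := toF π N ≫ σ
  have hcok := isFinitePresentation_cokernel (𝟙 (Dobj π N) - e)
    (by haveI := hQ; infer_instance) hQ
  have hw : (𝟙 (Dobj π N) - e) ≫ toF π N = 0 := by
    rw [Preadditive.sub_comp, Category.id_comp, Category.assoc, hσ, Category.comp_id, sub_self]
  let iso : (cokernel (𝟙 (Dobj π N) - e) : X.Modules) ≅ F.obj :=
    { hom := cokernel.desc _ (toF π N) hw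
      inv := σ ≫ cokernel.π _
      hom_inv_id := by
        rw [← cancel_epi (cokernel.π (𝟙 (Dobj π N) - e)), cokernel.π_desc_assoc, Category.comp_id,
          ← Category.assoc]
        have h2 : (𝟙 (Dobj π N) - e) ≫ cokernel.π (𝟙 (Dobj π N) - e) = 0 := cokernel.condition _
        rw [Preadditive.sub_comp, Category.id_comp, sub_eq_zero] at h2
        exact h2.symm
      inv_hom_id := by
        rw [Category.assoc, cokernel.π_desc, hσ] }
  exact (SheafOfModules.isFinitePresentation X.ringCatSheaf).prop_of_iso iso hcok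

/-- For a qcqs scheme X and a quasi-coherent O_X-module F: Hom(F, -) on QCoh(O_X) commutes with filtered
colimits (F is categorically compact) if and only if F is an O_X-module of finite presentation. -/
theorem result (X : Scheme.{u}) [CompactSpace X]
    [QuasiSeparatedSpace X] (F : QCohCat.QCoh X) :
    IsFinitelyPresentable.{u} F ↔ SheafOfModules.IsFinitePresentation F.obj := by
  constructor
  · intro hF
    exact fp_of_compact F hF
  · intro hF
    haveI := hF
    exact compact_of_fp X F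

end Groth.Agent.S2214
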