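import Groth.Statements.S2228
import Mathlib

set_option autoImplicit false
universe u
open TensorProduct
open Disc

namespace Groth.Agent.S2228

section
variable {A B : Type u} [CommRing A] [CommRing B] [Algebra A B]

/-- `l ⊗ id : B ⊗ B → B`. -/
noncomputable abbrev T (l : Disc.Omega A B) : B ⊗[A] B →ₗ[A] B :=
  TensorProduct.lift ((LinearMap.lsmul A B).comp l.toLinearMap)

theorem T_tmul (l : Disc.Omega A B) (x y : B) : T l (x ⊗ₜ[A] y) = l.toLinearMap x • y := by
  simp [T]

theorem T_mul_left (l : Disc.Omega A B) (b : B) (ξ : B ⊗[A] B) :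
    T l (ξ * (b ⊗ₜ[A] 1)) = T (b • l) ξ := by
  induction ξ using TensorProduct.induction_on with
  | zero => simp
  | tmul x y =>
    rw [Algebra.TensorProduct.tmul_mul_tmul, T_tmul, T_tmul, mul_one,
      Disc.Omega.smul_toLinearMap_apply, mul_comm]
  | add x y hx hy => rw [add_mul, map_add, map_add, hx, hy]

theorem T_mul_right (l : Disc.Omega A B) (b : B) (ξ : B ⊗[A] B) :
    T l (ξ * (1 ⊗ₜ[A] b)) = b * T l ξ := by
  induction ξ using TensorProduct.induction_on with
  | zero => simp
  | tmul x y =>
    rw [Algebra.TensorProduct.tmul_mul_tmul, T_tmul, T_tmul, mul_one, mul_smul_comm, mul_comm]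
  | add x y hx hy => rw [add_mul, map_add, map_add, hx, hy, mul_add]

/-- The underlying functional as an additive map. -/
def toLin : Disc.Omega A B →+ (B →ₗ[A] A) where
  toFun := Disc.Omega.toLinearMap
  map_zero' := rfl
  map_add' _ _ := rfl

@[simp] theorem toLin_apply (l : Disc.Omega A B) : toLin l = l.toLinearMap := rfl

theorem expand [Module.Finite A B] [Module.Free A B] (ξ : B ⊗[A] B) :
    haveI : Fintype (Module.Free.ChooseBasisIndex A B) := Module.Free.ChooseBasisIndex.fintype A B
    ξ = ∑ i, (Module.Free.chooseBasis A B i) ⊗ₜ[A]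
      T ⟨(Module.Free.chooseBasis A B).coord i⟩ ξ := by
  induction ξ using TensorProduct.induction_on with
  | zero => simp
  | tmul x y =>
    simp only [T_tmul, Module.Basis.coord_apply]
    simp only [TensorProduct.tmul_smul, TensorProduct.smul_tmul']
    rw [← TensorProduct.sum_tmul, Module.Basis.sum_repr]
  | add x y hx hy =>
    simp only [map_add, TensorProduct.tmul_add, Finset.sum_add_distrib]
    rw [← hx, ← hy]

end

end Groth.Agent.S2228

namespace Groth.Agent.S2228

/-- Special case: B finite free over the Noetherian ring A (the source allows flat quasi-finite maps).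
Let J be the annihilator of the kernel of the multiplication map B tensor_A B -> B and omega =
Hom_A(B, A) with its B-module structure through the argument. Pairing xi = sum of b_i tensor c_i in
J with lambda in omega to the sum of lambda(b_i) c_i identifies J with the B-linear maps omega -> B:
every B-linear Phi : omega -> B arises from exactly one xi in J in this way. -/
theorem result {A B : Type u} [CommRing A] [CommRing B] [Algebra A B]
    [IsNoetherianRing A] [Module.Finite A B] [Module.Free A B] (Φ : Disc.Omega A B →ₗ[B] B) :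
    ∃! ξ : B ⊗[A] B,
      ξ ∈ Submodule.annihilator (RingHom.ker (Algebra.TensorProduct.lmul' (S := B) A)) ∧
        ∀ l : Disc.Omega A B,
          Φ l = TensorProduct.lift ((LinearMap.lsmul A B).comp l.toLinearMap) ξ := by
  classical
  let 𝓑 := Module.Free.chooseBasis A B
  haveI : Fintype (Module.Free.ChooseBasisIndex A B) := Module.Free.ChooseBasisIndex.fintype A B
  let ξ₀ : B ⊗[A] B := ∑ i, 𝓑 i ⊗ₜ[A] Φ ⟨𝓑.coord i⟩
  have hform : ∀ l : Disc.Omega A B, Φ l = T l ξ₀ := by
    intro l
    simp only [ξ₀, map_sum, T_tmul]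
    have h1 : l = ∑ i, (algebraMap A B (l.toLinearMap (𝓑 i))) • (⟨𝓑.coord i⟩ : Disc.Omega A B) := by
      apply Disc.Omega.toLinearMap_injective
      apply 𝓑.ext
      intro j
      change l.toLinearMap (𝓑 j) = toLin (∑ i, (algebraMap A B (l.toLinearMap (𝓑 i))) •
        (⟨𝓑.coord i⟩ : Disc.Omega A B)) (𝓑 j)
      rw [map_sum, LinearMap.sum_apply]
      simp only [toLin_apply, Disc.Omega.smul_toLinearMap_apply, ← Algebra.smul_def, map_smul,
        Module.Basis.coord_apply, Module.Basis.repr_self, smul_eq_mul]
      rw [Finset.sum_eq_single j]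
      · simp
      · intro i _ hij
        simp [hij.symm]
      · intro h; exact absurd (Finset.mem_univ j) h
    conv_lhs => rw [h1]
    rw [map_sum]
    refine Finset.sum_congr rfl fun i _ => ?_
    rw [map_smul, smul_eq_mul, ← Algebra.smul_def]
  have hinj : ∀ ξ ξ' : B ⊗[A] B, (∀ l : Disc.Omega A B, T l ξ = T l ξ') → ξ = ξ' := by
    intro ξ ξ' h
    rw [expand ξ, expand ξ']
    exact Finset.sum_congr rfl fun i _ => by rw [h]
  refine ⟨ξ₀, ⟨?_, hform⟩, ?_⟩
  · rw [Submodule.mem_annihilator]
    intro x hx
    have hx' : x ∈ KaehlerDifferential.ideal A B := hx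
    rw [← KaehlerDifferential.span_range_eq_ideal] at hx'
    rw [smul_eq_mul]
    refine Submodule.span_induction ?_ ?_ ?_ ?_ hx'
    · rintro _ ⟨b, rfl⟩
      apply hinj
      intro l
      beta_reduce
      rw [map_zero, mul_sub, map_sub, T_mul_right, T_mul_left, ← hform, ← hform,
        map_smul, smul_eq_mul, sub_self]
    · rw [mul_zero]
    · intro x y _ _ hx hy
      rw [mul_add, hx, hy, add_zero]
    · intro a x _ hx
      rw [smul_eq_mul, mul_left_comm, hx, mul_zero]
  · rintro ξ' ⟨-, hξ'⟩
    apply hinj
    intro l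
    rw [← hform]
    exact (hξ' l).symm

end Groth.Agent.S2228
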