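import Groth.Statements.S2229
import Groth.Agent.Lib.Helper94.DiscDual
import Groth.Agent.S2216
import Groth.Agent.S2221

set_option autoImplicit false
universe u
open Disc

namespace Groth.Agent.S2229

open Groth.Agent.Lib.Helper94.DiscDual in

/-- Part (2), special case: affine with B finite free over the Noetherian ring A (basis b) and omega =
Hom_A(B, A) an invertible B-module. Then the ideal of A generated by the norms of all elements of
the different of B over A equals the ideal generated by the discriminant of the basis b (the norm of
the ramification locus is the discriminant). -/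
theorem result {A B : Type u} [CommRing A] [CommRing B]
    [Algebra A B] [IsNoetherianRing A] {ι : Type} [Fintype ι] [DecidableEq ι]
    (b : Module.Basis ι A B) [Module.Invertible B (Disc.Omega A B)] :
    Ideal.span (Algebra.norm A '' Disc.differentSet A B) = Ideal.span {Algebra.discr A b} := by
  haveI : Module.Free A B := Module.Free.of_basis b
  haveI : Module.Finite A B := Module.Finite.of_basis b
  apply le_antisymm
  · rw [Ideal.span_le]
    rintro _ ⟨x, hx, rfl⟩
    exact Groth.Agent.S2216.result b x hx
  · rw [Ideal.span_le, Set.singleton_subset_iff]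
    have hmemD : ∀ Φ : Disc.Omega A B →ₗ[B] B,
        Φ (Disc.Omega.trace A B) ∈ Disc.differentSet A B := by
      intro Φ
      rw [Groth.Agent.S2221.result, noetherDifferent_eq_range]
      exact ⟨Φ, rfl⟩
    set J : Ideal A := Ideal.span (Set.range fun Φ : Disc.Omega A B →ₗ[B] B =>
      (dualMatrix b Φ).det) with hJ
    have hJtop : J = ⊤ := by
      by_contra hne
      obtain ⟨m, hm, hle⟩ := Ideal.exists_le_maximal J hne
      obtain ⟨Φ, hΦ⟩ := exists_dual_surj_mod (A := A) (B := B) m
      exact det_dualMatrix_notMem b m hm.ne_top Φ hΦ (hle (Ideal.subset_span ⟨Φ, rfl⟩))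
    have key : ∀ x ∈ J, x * Algebra.discr A b ∈
        Ideal.span (Algebra.norm A '' Disc.differentSet A B) := by
      intro x hx
      induction hx using Submodule.span_induction with
      | mem y hy =>
        obtain ⟨Φ, rfl⟩ := hy
        rw [← norm_apply_trace b Φ]
        exact Ideal.subset_span ⟨_, hmemD Φ, rfl⟩
      | zero => rw [zero_mul]; exact Ideal.zero_mem _
      | add y z _ _ hy hz => rw [add_mul]; exact Ideal.add_mem _ hy hz
      | smul a y _ hy => rw [smul_eq_mul, mul_assoc]; exact Ideal.mul_mem_left _ _ hy
    have := key 1 (hJtop ▸ Submodule.mem_top)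
    rwa [one_mul] at this


end Groth.Agent.S2229
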