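import Groth.Statements.S2237
import Groth.Agent.Lib.Helper94.SyntKos
import Groth.Agent.Lib.Helper94.SyntV

set_option autoImplicit false
universe u
attribute [local instance] HasDerivedCategory.standard
open LCI

namespace Groth.Agent.S2237


/-- Implication (2) to (5), affine form: let A -> B be flat, quasi-finite and a local complete
intersection homomorphism (finite type with a Koszul-regular presentation). Then for every prime q
of B there are g in B outside q, a natural number n and polynomials f_1, ..., f_n in A[x_1, ...,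
x_n] such that B_g is isomorphic as an A-algebra to A[x_1, ..., x_n]/(f_1, ..., f_n). -/
theorem result {A B : Type u} [CommRing A]
    [CommRing B] [Algebra A B] [Module.Flat A B] [Algebra.QuasiFinite A B] (hlci : LCI.IsLCI A B)
    (q : Ideal B) [q.IsPrime] :
    ∃ g : B, g ∉ q ∧ ∃ (n : ℕ) (f : Fin n → MvPolynomial (Fin n) A),
      Nonempty (Localization.Away g ≃ₐ[A]
        (MvPolynomial (Fin n) A ⧸ Ideal.span (Set.range f))) := by
  have hsyn := Groth.Agent.Lib.Helper94.SyntKos.isSyntomic_of_flat_of_isLCI A B inferInstance hlci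
  obtain ⟨g, hg, N, C, G, hG, ⟨e⟩⟩ :=
    Groth.Agent.Lib.Helper94.SyntV.exists_relGCI_of_isSyntomic A B hsyn q
  refine ⟨g, hg, ?_⟩
  -- the localization is nontrivial
  haveI hntB : Nontrivial (Localization.Away g) := by
    have hdisj : Disjoint (Submonoid.powers g : Set B) (q : Set B) := by
      rw [Set.disjoint_left]
      rintro _ ⟨k, rfl⟩ hk
      exact hg (Ideal.IsPrime.mem_of_pow_mem inferInstance k hk)
    have := IsLocalization.isPrime_of_isPrime_disjoint (Submonoid.powers g) (Localization.Away g)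
      q inferInstance hdisj
    exact ⟨⟨0, 1, fun h01 => this.ne_top ((Ideal.eq_top_iff_one _).mpr (h01 ▸ Ideal.zero_mem _))⟩⟩
  haveI hntT : Nontrivial (Synt.RelGCIRing A N C G) := e.symm.toEquiv.nontrivial
  haveI : Algebra.QuasiFinite A (Synt.RelGCIRing A N C G) :=
    (Algebra.QuasiFinite.iff_of_algEquiv e).mp inferInstance
  obtain ⟨Q₁, hQ₁⟩ := Ideal.exists_maximal (Synt.RelGCIRing A N C G)
  haveI := hQ₁.isPrime
  set p : Ideal A := Q₁.comap (algebraMap A (Synt.RelGCIRing A N C G)) with hp
  haveI : p.IsPrime := Ideal.comap_isPrime _ _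
  have hnt : Nontrivial (p.Fiber (Synt.RelGCIRing A N C G)) := by
    have q0 : PrimeSpectrum (p.Fiber (Synt.RelGCIRing A N C G)) :=
      PrimeSpectrum.primesOverOrderIsoFiber A (Synt.RelGCIRing A N C G) p
        ⟨Q₁, inferInstance, ⟨hp⟩⟩
    by_contra hcon
    rw [not_nontrivial_iff_subsingleton] at hcon
    exact q0.2.ne_top (Ideal.eq_top_of_isUnit_mem _ (Ideal.zero_mem _)
      (by rw [Subsingleton.elim (0 : p.Fiber (Synt.RelGCIRing A N C G)) 1]; exact isUnit_one))
  obtain ⟨hCN, hdim⟩ := hG ⟨p, inferInstance⟩ hnt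
  have h0 : ringKrullDim (p.Fiber (Synt.RelGCIRing A N C G)) = 0 := by
    have hart : IsArtinianRing (p.Fiber (Synt.RelGCIRing A N C G)) := inferInstance
    rw [← ringKrullDimZero_iff_ringKrullDim_eq_zero]
    have hart' : @IsArtinianRing (p.Fiber (Synt.RelGCIRing A N C G))
      CommRing.toCommSemiring.toSemiring := hart
    exact (isArtinianRing_iff_isNoetherianRing_krullDimLE_zero.mp hart').2
  rw [h0] at hdim
  have hNC : N - C = 0 := by
    have : ((0 : ℕ) : WithBot ℕ∞) = ((N - C : ℕ) : WithBot ℕ∞) := by simpa using hdim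
    exact_mod_cast this.symm
  have hN : C = N := by omega
  subst hN
  exact ⟨C, G, ⟨e⟩⟩


end Groth.Agent.S2237
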