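import Groth.Statements.S2326
import Groth.Agent.Lib.Helper40.FTIdeal
import Groth.Agent.Lib.Lead.Tw6
import Groth.Agent.Lib.Lead.Ample1

set_option autoImplicit false
universe u
open CategoryTheory CategoryTheory.Limits AlgebraicGeometry
open EGA2

namespace Groth.Agent.S2326

open Groth.Agent.Lib.Lead.QCohAff Groth.Agent.Lib.Helper22.IdealModAff Groth.Agent.Lib.Lead.Inv
  Groth.Agent.Lib.Helper40.SSh TopologicalSpace Opposite Groth.Agent.Lib.Helper60.TensorLib
  Groth.Agent.Lib.Helper35.GlobGen Groth.Agent.Lib.Helper40.FTIdeal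

set_option backward.isDefEq.respectTransparency.types false

variable {X : Scheme.{u}}

/-- An epimorphism from a finite free module gives global generation. -/
theorem isGloballyGenerated_of_epi_freeMod {F : X.Modules} {k : ℕ} (p : FlatMod.freeMod X k ⟶ F)
    [Epi p] : Curv2.IsGloballyGenerated F := by
  let q : (∐ fun _ : ULift.{u} (Fin k) => Coh.structureModule X) ⟶ FlatMod.freeMod X k :=
    Sigma.desc (fun i => Sigma.ι (fun _ : Fin k => Coh.structureModule X) i.down)
  let r : FlatMod.freeMod X k ⟶ (∐ fun _ : ULift.{u} (Fin k) => Coh.structureModule X) :=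
    Sigma.desc (fun l => Sigma.ι (fun _ : ULift.{u} (Fin k) => Coh.structureModule X) (ULift.up l))
  have hrq : r ≫ q = 𝟙 _ := by
    apply Sigma.hom_ext
    intro l
    simp [r, q]
  have : IsSplitEpi q := ⟨⟨⟨r, hrq⟩⟩⟩
  exact ⟨ULift.{u} (Fin k), q ≫ p, epi_comp q p⟩

/-- Sections of the ideal vanish on the support (any open). -/
theorem basicOpen_incl_disjoint_support' (I : X.IdealSheafData) {W : X.Opens}
    (σ : Γ(ClSub.idealMod I, W)) (y : X) (hy : y ∈ I.support) : y ∉ X.basicOpen (incl I W σ) := by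
  intro h4
  have hyW : y ∈ W := X.basicOpen_le _ h4
  obtain ⟨_, ⟨V, hV, rfl⟩, hyV, hVW0⟩ :=
    X.isBasis_affineOpens.exists_subset_of_mem_open hyW W.isOpen
  have hVW : V ≤ W := hVW0
  have h1 := (Scheme.IdealSheafData.mem_support_iff_of_mem (I := I) (U := ⟨V, hV⟩) hyV).mp hy
  rw [Scheme.mem_zeroLocus_iff] at h1
  have h2 : X.presheaf.map (homOfLE (hVW : V ≤ W)).op (incl I W σ) ∈ I.ideal ⟨V, hV⟩ := by
    rw [← incl_res]
    exact (mem_ideal_iff I ⟨V, hV⟩ _).mpr ⟨_, rfl⟩
  have h3 := h1 _ h2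
  rw [Scheme.basicOpen_res] at h3
  exact h3 ⟨hyV, h4⟩

/-- A family of global sections of an invertible module whose restrictions span a local generator
at `x` contains a section generating at `x`. -/
theorem exists_section_of_span {M : X.Modules} (S : Set Γ(M, ⊤))
    (x : X) {W : X.Opens} (hxW : x ∈ W) {e : Γ(M, W)} (heW : IsGen M W e)
    (hmem : e ∈ Submodule.span Γ(X, W)
      ((fun σ : Γ(M, ⊤) => M.presheaf.map (homOfLE (le_top : W ≤ ⊤)).op σ) '' S)) :
    ∃ σ ∈ S, x ∈ CohB1.genLocus M (secHom M σ) := by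
  by_contra hcon
  push Not at hcon
  let I : Ideal Γ(X, W) := Ideal.comap (X.presheaf.germ W x hxW).hom
    (IsLocalRing.maximalIdeal (X.presheaf.stalk x))
  have hI : ∀ a : Γ(X, W), a ∈ I ↔ x ∉ X.basicOpen a := by
    intro a
    rw [Scheme.mem_basicOpen X a x hxW]
    exact Iff.rfl
  let N : Submodule Γ(X, W) Γ(M, W) :=
    { carrier := {y | heW.coeff le_rfl y ∈ I}
      add_mem' := fun {a b} ha hb => by
        change heW.coeff le_rfl (a + b) ∈ I
        rw [heW.coeff_add]
        exact I.add_mem ha hb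
      zero_mem' := by
        change heW.coeff le_rfl (0 : Γ(M, W)) ∈ I
        have h0 : heW.coeff le_rfl (0 : Γ(M, W)) = 0 := by
          have := heW.coeff_smul' le_rfl (0 : Γ(X, W)) (0 : Γ(M, W))
          rw [zero_smul, zero_mul] at this
          exact this
        rw [h0]
        exact I.zero_mem
      smul_mem' := fun r a ha => by
        change heW.coeff le_rfl (r • a) ∈ I
        rw [heW.coeff_smul']
        exact I.mul_mem_left r ha }
  have hle : Submodule.span Γ(X, W)
      ((fun σ : Γ(M, ⊤) => M.presheaf.map (homOfLE (le_top : W ≤ ⊤)).op σ) '' S) ≤ N := by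
    rw [Submodule.span_le]
    rintro _ ⟨σ, hσ, rfl⟩
    change heW.coeff le_rfl (M.presheaf.map (homOfLE (le_top : W ≤ ⊤)).op σ) ∈ I
    rw [hI]
    intro hxa
    apply hcon σ hσ
    refine (mem_genLocus_iff_of_isGen heW (secHom M σ) _ ?_ x hxW).mpr hxa
    rw [val_secHom]
    have := heW.coeff_smul le_rfl (M.presheaf.map (homOfLE (le_top : W ≤ ⊤)).op σ)
    rw [res_self] at this
    exact this
  have h1 : heW.coeff le_rfl e ∈ I := hle hmem
  have h2 : heW.coeff le_rfl e = 1 := by
    have := heW.coeff_self (le_refl W)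
    rw [res_self] at this
    exact this
  rw [h2, hI] at h1
  apply h1
  rw [Scheme.mem_basicOpen X (1 : Γ(X, W)) x hxW, map_one]
  exact isUnit_one

/-- `liftHom` on pure tensors. -/
theorem liftHom_tmul (M N K : X.Modules)
    (b : ∀ U : X.Opens, Γ(M, U) →ₗ[Γ(X, U)] Γ(N, U) →ₗ[Γ(X, U)] Γ(K, U))
    (hb : ∀ {U V : X.Opens} (i : V ⟶ U) (m : Γ(M, U)) (n : Γ(N, U)),
      K.presheaf.map i.op (b U m n) = b V (M.presheaf.map i.op m) (N.presheaf.map i.op n))
    {W : X.Opens} (m : Γ(M, W)) (n : Γ(N, W)) :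
    (liftHom (CohB1.tensorPre M N) K (tensorPreHom M N K b hb)).app W (tmul M N m n) =
      b W m n := by
  have h := toSheafify_liftHom (CohB1.tensorPre M N) K (tensorPreHom M N K b hb)
  have h2 := congrArg (fun ψ => (ψ.app (op W)).hom
    (show (CohB1.tensorPre M N).obj (op W) from
      (show TensorProduct Γ(X, W) Γ(M, W) Γ(N, W) from m ⊗ₜ[Γ(X, W)] n))) h
  exact h2

/-- The multiplication pairing `I × M → M`. -/
noncomputable def mulB (I : X.IdealSheafData) (M : X.Modules) (U : X.Opens) :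
    Γ(ClSub.idealMod I, U) →ₗ[Γ(X, U)] Γ(M, U) →ₗ[Γ(X, U)] Γ(M, U) :=
  (LinearMap.lsmul Γ(X, U) Γ(M, U)).comp (incl I U)

theorem mulB_natural (I : X.IdealSheafData) (M : X.Modules) {U V : X.Opens} (i : V ⟶ U)
    (a : Γ(ClSub.idealMod I, U)) (m : Γ(M, U)) :
    M.presheaf.map i.op (mulB I M U a m) =
      mulB I M V ((ClSub.idealMod I).presheaf.map i.op a) (M.presheaf.map i.op m) := by
  have hi : i = homOfLE (leOfHom i) := Subsingleton.elim _ _
  rw [hi]
  change M.presheaf.map (homOfLE (leOfHom i)).op (incl I U a • m) =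
    (incl I V ((ClSub.idealMod I).presheaf.map (homOfLE (leOfHom i)).op a) •
      M.presheaf.map (homOfLE (leOfHom i)).op m : Γ(M, V))
  rw [res_smul, incl_res]

/-- The multiplication map `I ⊗ M ⟶ M`. -/
noncomputable def mulHom (I : X.IdealSheafData) (M : X.Modules) :
    CohB1.tensorMod (ClSub.idealMod I) M ⟶ M :=
  liftHom (CohB1.tensorPre (ClSub.idealMod I) M) M
    (tensorPreHom (ClSub.idealMod I) M M (mulB I M) (fun i a m => mulB_natural I M i a m))

theorem mulHom_tmul (I : X.IdealSheafData) (M : X.Modules) {W : X.Opens}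
    (a : Γ(ClSub.idealMod I, W)) (m : Γ(M, W)) :
    (mulHom I M).app W (tmul (ClSub.idealMod I) M a m) = incl I W a • m :=
  liftHom_tmul _ _ _ (mulB I M) (fun i a m => mulB_natural I M i a m) a m

/-- sections of `I ⊗ M` give sections of `M` vanishing on the support of `I`. -/
theorem genLocus_mulHom_disjoint_support (I : X.IdealSheafData) {M : X.Modules}
    (hM : PicF.IsInvertible M) (τ : Γ(CohB1.tensorMod (ClSub.idealMod I) M, ⊤)) (y : X)
    (hy : y ∈ I.support) :
    y ∉ CohB1.genLocus M (secHom M ((mulHom I M).app ⊤ τ)) := by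
  intro hyg
  obtain ⟨W, hyW, e, he⟩ := (isInvertible_iff_exists_isGen.mp hM) y
  obtain ⟨a, ha⟩ := (tmulREquiv (ClSub.idealMod I) he le_rfl).surjective
    ((CohB1.tensorMod (ClSub.idealMod I) M).presheaf.map (homOfLE (le_top : W ≤ ⊤)).op τ)
  rw [tmulREquiv_apply, res_self] at ha
  have h1 : incl I W a • e = val (secHom M ((mulHom I M).app ⊤ τ)) W := by
    rw [val_secHom, hom_app_res (mulHom I M) (le_top : W ≤ ⊤) τ, ← ha, mulHom_tmul]
  have h2 := (mem_genLocus_iff_of_isGen he _ _ h1 y hyW).mp hyg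
  exact basicOpen_incl_disjoint_support' I a y hy h2

/-- the sections of a morphism as a linear map -/
noncomputable def appL {M N : X.Modules} (φ : M ⟶ N) (W : X.Opens) : Γ(M, W) →ₗ[Γ(X, W)] Γ(N, W) where
  toFun s := φ.app W s
  map_add' a b := map_add _ a b
  map_smul' c a := Scheme.Modules.Hom.app_smul _ c a

theorem exists_section_of_epi_freeMod {M : X.Modules} (hM : PicF.IsInvertible M)
    (I : X.IdealSheafData) {U : X.Opens} (hU : IsAffineOpen U)
    (hIsupp : (I.support : Set X) = (U : Set X)ᶜ) (h1I : (1 : Γ(X, U)) ∈ I.ideal ⟨U, hU⟩)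
    {k : ℕ} (p : FlatMod.freeMod X k ⟶ CohB1.tensorMod (ClSub.idealMod I) M) [Epi p]
    (x : X) (hxU : x ∈ U) :
    ∃ s : Coh.structureModule X ⟶ M, x ∈ CohB1.genLocus M s ∧
      IsAffineOpen (CohB1.genLocus M s) := by
  have hGG : GG (CohB1.tensorMod (ClSub.idealMod I) M) :=
    GG_of_isGloballyGenerated (isGloballyGenerated_of_epi_freeMod p)
  obtain ⟨t0, ht0⟩ := (mem_ideal_iff I ⟨U, hU⟩ 1).mp h1I
  obtain ⟨W0, hxW0, e0, he0⟩ := (isInvertible_iff_exists_isGen.mp hM) x
  have hxW1 : x ∈ U ⊓ W0 := ⟨hxU, hxW0⟩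
  have he1 : IsGen M (U ⊓ W0) (M.presheaf.map (homOfLE inf_le_right).op e0) := he0.res inf_le_right
  obtain ⟨W, hW, hxW, hmemW⟩ := hGG (U ⊓ W0)
    (tmul _ _ ((ClSub.idealMod I).presheaf.map (homOfLE (inf_le_left : U ⊓ W0 ≤ U)).op t0)
      (M.presheaf.map (homOfLE inf_le_right).op e0)) x hxW1
  have key := exists_section_of_span (Set.range (fun τ => (mulHom I M).app ⊤ τ)) x hxW
    (he1.res hW) ?_
  · obtain ⟨σ, ⟨τ, rfl⟩, hxσ⟩ := key
    refine ⟨secHom M ((mulHom I M).app ⊤ τ), hxσ, ?_⟩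
    have hle : CohB1.genLocus M (secHom M ((mulHom I M).app ⊤ τ)) ≤ U := by
      intro y hy
      by_contra hyU
      have hy' : y ∈ I.support := by
        change y ∈ (I.support : Set X)
        rw [hIsupp]
        exact hyU
      exact genLocus_mulHom_disjoint_support I hM τ y hy' hy
    have := isAffineOpen_inf_genLocus hM (secHom M ((mulHom I M).app ⊤ τ)) hU
    rwa [inf_eq_right.mpr hle] at this
  · have h3 := Submodule.apply_mem_span_image_of_mem_span (appL (mulHom I M) W) hmemW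
    have h4 : appL (mulHom I M) W ((CohB1.tensorMod (ClSub.idealMod I) M).presheaf.map (homOfLE hW).op
        (tmul _ _ ((ClSub.idealMod I).presheaf.map (homOfLE (inf_le_left : U ⊓ W0 ≤ U)).op t0)
          (M.presheaf.map (homOfLE inf_le_right).op e0))) =
        M.presheaf.map (homOfLE hW).op (M.presheaf.map (homOfLE inf_le_right).op e0) := by
      change (mulHom I M).app W _ = _
      rw [tmul_res, mulHom_tmul, incl_res, incl_res, ht0, map_one, map_one, one_smul]
    rw [h4] at h3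
    refine Submodule.span_mono ?_ h3
    rintro _ ⟨_, ⟨τ, rfl⟩, rfl⟩
    refine ⟨(mulHom I M).app ⊤ τ, ⟨τ, rfl⟩, ?_⟩
    exact hom_app_res (mulHom I M) (le_top : W ≤ ⊤) τ

/-- Let X be a quasi-compact separated scheme (the source also allows a prescheme with Noetherian
underlying space) and L an invertible module. Suppose that for every quasi-coherent ideal sheaf I of
finite type there are n > 0 and k > 0 with I ⊗ L^{⊗n} a quotient of O_X^k. Then L is ample. -/
theorem result (X : Scheme.{u}) [CompactSpace X] [X.IsSeparated] (L : X.Modules) (hL : PicF.IsInvertible L)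
    (h : ∀ I : X.IdealSheafData, BlowUp.IsFiniteTypeIdeal I →
      ∃ (n k : ℕ) (p : FlatMod.freeMod X k ⟶ CohB1.tensorMod (ClSub.idealMod I) (CohB1.tensorPow L (n + 1))), 0 < k ∧ Epi p) :
    CohB1.IsAmple L := by
  refine ⟨hL, inferInstance, fun x => ?_⟩
  obtain ⟨_, ⟨U, hU, rfl⟩, hxU, -⟩ :=
    X.isBasis_affineOpens.exists_subset_of_mem_open (Set.mem_univ x) isOpen_univ
  obtain ⟨I, hIft, hIsupp, h1I⟩ := exists_ft_ideal_support_eq_compl U hU
  obtain ⟨n, k, p, -, hp⟩ := h I hIft
  obtain ⟨s, hxs, hs⟩ := exists_section_of_epi_freeMod (isInvertible_tensorPow hL (n + 1)) I hU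
    hIsupp h1I p x hxU
  exact ⟨n, s, hxs, hs⟩

end Groth.Agent.S2326
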