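import Groth.Statements.S2329
import Groth.Agent.Lib.Lead.Tw6
import Groth.Agent.S2328

set_option autoImplicit false
universe u
open CategoryTheory CategoryTheory.Limits AlgebraicGeometry
open EGA2

namespace Groth.Agent.S2329

open Groth.Agent.Lib.Lead.Inv Groth.Agent.Lib.Helper60.TensorLib Groth.Agent.Lib.Helper35.GlobGen in
theorem aux (X : Scheme.{u}) (L L' : X.Modules) (hL : CohB1.IsAmple L)
    (hL' : PicF.IsInvertible L') :
    ∃ n₀ : ℕ, 0 < n₀ ∧ ∀ n, n₀ ≤ n →
      CohB1.IsAmple (CohB1.tensorMod (CohB1.tensorPow L n) L') ∧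
        Curv2.IsGloballyGenerated (CohB1.tensorMod (CohB1.tensorPow L n) L') := by
  obtain ⟨n₁, h₁⟩ := exists_forall_GG_twist hL L' (isCoh_of_isInvertible hL')
  refine ⟨n₁ + 1, Nat.succ_pos _, fun n hn => ?_⟩
  obtain ⟨k, rfl⟩ : ∃ k, n = k + 1 := ⟨n - 1, by omega⟩
  have hk : n₁ ≤ k := by omega
  have hInv := hL.1
  obtain ⟨c2⟩ := nonempty_comm L' (CohB1.tensorPow L (k + 1))
  constructor
  · have hM : PicF.IsInvertible (CohB1.tensorMod L' (CohB1.tensorPow L k)) :=
      isInvertible_tensorMod hL' (isInvertible_tensorPow hInv k)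
    have hpts : ∀ x : X, ∃ (n : ℕ) (s' : Coh.structureModule X ⟶
        CohB1.tensorPow (CohB1.tensorMod L' (CohB1.tensorPow L k)) (n + 1)),
        x ∈ CohB1.genLocus _ s' := by
      intro x
      obtain ⟨σ, hσ⟩ := exists_section_of_GG hM (h₁ k hk) x
      obtain ⟨e⟩ := nonempty_tensorMod_unit_left (CohB1.tensorMod L' (CohB1.tensorPow L k))
      obtain ⟨s', hs'⟩ := exists_section_of_iso ⟨e.symm⟩
        (secHom (CohB1.tensorMod L' (CohB1.tensorPow L k)) σ)
      have hx' : x ∈ CohB1.genLocus _ s' := by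
        rw [hs']
        exact hσ
      exact ⟨0, s', hx'⟩
    have hA := Groth.Agent.S2328.aux X L _ hL hM hpts
    obtain ⟨c1⟩ := nonempty_comm L (CohB1.tensorMod L' (CohB1.tensorPow L k))
    let α := assocIso (assocOK_of_mid_right (A := L') (isInvertible_tensorPow hInv k) hInv)
    exact Groth.Agent.Lib.Helper35.Ample.isAmple_of_iso (c1 ≪≫ α ≪≫ c2) hA
  · have := h₁ (k + 1) (by omega)
    exact isGloballyGenerated_of_iso c2 (isGloballyGenerated_of_GG this)

/-- Let X be a quasi-compact separated scheme, L an ample invertible module and L' an invertible module.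
Then there is n₀ > 0 such that L^{⊗n} ⊗ L' is ample and globally generated for every n ≥ n₀. -/
theorem result (X : Scheme.{u}) [CompactSpace X] [X.IsSeparated] (L L' : X.Modules) (hL : CohB1.IsAmple L) (hL' : PicF.IsInvertible L') :
    ∃ n₀ : ℕ, 0 < n₀ ∧ ∀ n, n₀ ≤ n →
      CohB1.IsAmple (CohB1.tensorMod (CohB1.tensorPow L n) L') ∧ Curv2.IsGloballyGenerated (CohB1.tensorMod (CohB1.tensorPow L n) L') := by
  exact aux X L L' hL hL'

end Groth.Agent.S2329
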