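import Groth.Statements.S2333
import Groth.Agent.Lib.Lead.RelAmp3

set_option autoImplicit false
universe u
open CategoryTheory CategoryTheory.Limits AlgebraicGeometry
open EGA2

namespace Groth.Agent.S2333

/-- Let f : X → Y and g : Y → Z be morphisms of schemes with f quasi-compact, and L an O_X-module which
is ample relative to the composite g ∘ f. Then L is ample relative to f. (No separatedness
hypothesis on g is imposed.) -/
theorem result {X Y Z : Scheme.{u}} (f : X ⟶ Y) (g : Y ⟶ Z) [QuasiCompact f]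
    (L : X.Modules) (hL : RelAmple.IsRelAmple (f ≫ g) L) : RelAmple.IsRelAmple f L := by
  refine ⟨inferInstance, fun V => ?_⟩
  refine Groth.Agent.Lib.Lead.Inv.isAmple_restrict_preimage_of_cover f V.1 V.2 L (fun y hy => ?_)
  obtain ⟨_, ⟨W, hW, rfl⟩, hyW, -⟩ :=
    Z.isBasis_affineOpens.exists_subset_of_mem_open (Set.mem_univ (g.base y)) isOpen_univ
  obtain ⟨a, haV, hya⟩ := V.2.exists_basicOpen_le (V := V.1 ⊓ g ⁻¹ᵁ W) ⟨y, ⟨hy, hyW⟩⟩ hy
  refine ⟨a, hya, ?_⟩
  have hle : f ⁻¹ᵁ (Y.basicOpen a) ≤ (f ≫ g) ⁻¹ᵁ W := by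
    intro x hx
    exact (haV hx).2
  have hc : IsCompact ((f ⁻¹ᵁ (Y.basicOpen a) : X.Opens) : Set X) :=
    QuasiCompact.isCompact_preimage (f := f) _ (Y.basicOpen a).2 (V.2.basicOpen a).isCompact
  exact Groth.Agent.Lib.Lead.Inv.isAmple_restrict_of_le L _ _ hle hc (hL.2 ⟨W, hW⟩)

end Groth.Agent.S2333
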