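import Groth.Statements.S2335
import Groth.Agent.Lib.Helper50.DvrSep
import Groth.Agent.S2334

set_option autoImplicit false
universe u
open CategoryTheory CategoryTheory.Limits AlgebraicGeometry
open EGA2

namespace Groth.Agent.S2335

/-- Let Y be locally Noetherian and f : X → Y of finite type. Then f is proper if and only if for every
discrete valuation ring A with fraction field K and every commutative square Spec K → X, Spec A → Y,
there is exactly one morphism Spec A → X making both triangles commute. -/
theorem result {X Y : Scheme.{u}} [IsLocallyNoetherian Y] (f : X ⟶ Y) [LocallyOfFiniteType f] [QuasiCompact f] :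
    IsProper f ↔ ∀ (A : Type u) [CommRing A] [IsDomain A] [IsDiscreteValuationRing A] (x : (Spec (CommRingCat.of (FractionRing A))) ⟶ X) (y : (Spec (CommRingCat.of A)) ⟶ Y),
      x ≫ f = (Spec.map (CommRingCat.ofHom (algebraMap A (FractionRing A)))) ≫ y → ∃! l : (Spec (CommRingCat.of A)) ⟶ X, l ≫ f = y ∧ (Spec.map (CommRingCat.ofHom (algebraMap A (FractionRing A)))) ≫ l = x := by
  constructor
  · intro hf A _ _ _ x y hxy
    have hV : ValuativeCriterion f := by
      have := hf
      rw [IsProper.eq_valuativeCriterion] at this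
      exact this.1.1.1
    have hc : CommSq x (Spec.map (CommRingCat.ofHom (algebraMap A (FractionRing A)))) f y := ⟨hxy⟩
    obtain ⟨hu⟩ := hV { R := A, K := FractionRing A, commSq := hc, .. }
    refine ⟨hu.default.l, ⟨hu.default.fac_right, hu.default.fac_left⟩, ?_⟩
    rintro l ⟨hl₁, hl₂⟩
    exact congrArg CommSq.LiftStruct.l (hu.uniq ⟨l, hl₂, hl₁⟩)
  · intro H
    haveI : IsSeparated f := by
      refine (Groth.Agent.S2334.result f).mpr (fun A _ _ _ g₁ g₂ hg hK => ?_)
      obtain ⟨l, -, hl⟩ := H A (Spec.map (CommRingCat.ofHom (algebraMap A (FractionRing A))) ≫ g₁)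
        (g₁ ≫ f) (by rw [Category.assoc])
      exact (hl g₁ ⟨rfl, rfl⟩).trans (hl g₂ ⟨hg.symm, hK.symm⟩).symm
    haveI : UniversallyClosed f := by
      refine Groth.Agent.Lib.Helper50.universallyClosed_of_dvrExistence f
        (Groth.Agent.Lib.Helper50.dvrExistence_of_fractionRing f (fun A _ _ _ x y hxy => ?_))
      obtain ⟨l, hl, -⟩ := H A x y hxy
      exact ⟨l, hl⟩
    exact {}

end Groth.Agent.S2335
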