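import Groth.Statements.S2336
import Groth.Agent.Lib.Helper35.Ample1

set_option autoImplicit false
universe u
open CategoryTheory CategoryTheory.Limits AlgebraicGeometry
open EGA2

namespace Groth.Agent.S2336

/-- Let X be a quasi-compact separated scheme (the source also allows a prescheme with Noetherian
underlying space). Then X is quasi-affine if and only if O_X is an ample invertible module. -/
theorem result (X : Scheme.{u}) [CompactSpace X] [X.IsSeparated] :
    X.IsQuasiAffine ↔ CohB1.IsAmple (Coh.structureModule X) := by
  constructor
  · intro h
    exact Groth.Agent.Lib.Helper35.Ample.isAmple_structureModule_of_isQuasiAffine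
  · intro h
    exact Groth.Agent.Lib.Helper35.Ample.isQuasiAffine_of_isAmple_structureModule h

end Groth.Agent.S2336
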