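import Groth.Statements.S2339
import Groth.Agent.Lib.Helper7.QuasiAffine

set_option autoImplicit false
universe u
open CategoryTheory CategoryTheory.Limits AlgebraicGeometry
open EGA2

namespace Groth.Agent.S2339

/-- If f : X → Y is quasi-affine then so is its base change along any morphism Y' → Y. -/
theorem result {X Y Y' : Scheme.{u}} (f : X ⟶ Y) (hf : Mor2.IsQuasiAffine f) (g : Y' ⟶ Y) :
    Mor2.IsQuasiAffine (pullback.snd f g) := by
  exact MorphismProperty.pullback_snd (P := Groth.Agent.Lib.Helper7.QA.QAffHom) f g hf

end Groth.Agent.S2339
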