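import Groth.Statements.S2342
import Mathlib.AlgebraicGeometry.Stalk
import Mathlib.AlgebraicGeometry.FunctionField
import Mathlib.AlgebraicGeometry.ResidueField
import Mathlib.RingTheory.Valuation.ValuationRing

set_option autoImplicit false
universe u
open CategoryTheory CategoryTheory.Limits AlgebraicGeometry
open EGA2

namespace Groth.Agent.S2342

theorem isField_stalk_of_eq_genericPoint {Y : Scheme.{u}} [IsIntegral Y] (y : Y)
    (hy : y = genericPoint Y) : IsField (Y.presheaf.stalk y) := by
  subst hy
  exact Field.toIsField Y.functionField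

theorem isIso_fromSpecStalk_of_eq_closedPoint (A : Type u) [CommRing A] [IsLocalRing A]
    (y : Spec (CommRingCat.of A)) (hy : y = IsLocalRing.closedPoint A) :
    IsIso ((Spec (CommRingCat.of A)).fromSpecStalk y) := by
  subst hy
  rw [← Spec_stalkClosedPointIso]
  infer_instance

theorem exists_germ_or (A : Type u) [CommRing A] [IsDomain A] [ValuationRing A]
    (y : Spec (CommRingCat.of A)) (hy : y = genericPoint (Spec (CommRingCat.of A)))
    (c : (Spec (CommRingCat.of A)).presheaf.stalk y) :
    ∃ s : Γ(Spec (CommRingCat.of A), ⊤),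
      c = (Spec (CommRingCat.of A)).presheaf.germ ⊤ y trivial s ∨
      c * (Spec (CommRingCat.of A)).presheaf.germ ⊤ y trivial s = 1 := by
  subst hy
  by_cases hc : c = 0
  · exact ⟨0, Or.inl (by rw [hc, map_zero])⟩
  haveI : Nonempty (⊤ : (Spec (CommRingCat.of A)).Opens) :=
    ⟨⟨genericPoint (Spec (CommRingCat.of A)), trivial⟩⟩
  haveI := functionField_isFractionRing_of_isAffineOpen (Spec (CommRingCat.of A)) ⊤
    (isAffineOpen_top _)
  haveI : ValuationRing Γ(Spec (CommRingCat.of A), ⊤) :=
    Function.Surjective.valuationRing (R := A) (Scheme.ΓSpecIso (CommRingCat.of A)).inv.hom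
      (fun b => ⟨(Scheme.ΓSpecIso (CommRingCat.of A)).hom.hom b, by
        change ((Scheme.ΓSpecIso (CommRingCat.of A)).hom ≫ (Scheme.ΓSpecIso (CommRingCat.of A)).inv).hom b = b
        rw [Iso.hom_inv_id]; rfl⟩)
  rcases ValuationRing.isInteger_or_isInteger Γ(Spec (CommRingCat.of A), ⊤)
    (c : (Spec (CommRingCat.of A)).functionField) with ⟨s, hs⟩ | ⟨s, hs⟩
  · exact ⟨s, Or.inl hs.symm⟩
  · refine ⟨s, Or.inr ?_⟩
    have : (Spec (CommRingCat.of A)).presheaf.germ ⊤ (genericPoint (Spec (CommRingCat.of A)))
        trivial s = c⁻¹ := hs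
    rw [this]
    exact mul_inv_cancel₀ hc

theorem bijective_stalkMap {X Y : Scheme.{u}} [IsIntegral X] [IsIntegral Y] (f : X ⟶ Y)
    (hY : ∀ (y : Y) (_ : y = genericPoint Y) (c : Y.presheaf.stalk y),
      ∃ s : Γ(Y, ⊤), c = Y.presheaf.germ ⊤ y trivial s ∨ c * Y.presheaf.germ ⊤ y trivial s = 1)
    (hξ : f.base (genericPoint X) = genericPoint Y)
    (hres : Function.Bijective (f.residueFieldMap (genericPoint X)).hom) (x₀ : X) :
    Function.Bijective (f.stalkMap x₀).hom := by
  have hspec : genericPoint X ⤳ x₀ := genericPoint_specializes x₀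
  have hfield : IsField (Y.presheaf.stalk (f.base (genericPoint X))) :=
    isField_stalk_of_eq_genericPoint _ hξ
  -- surjectivity of the stalk map at the generic point
  have hsurjξ : Function.Surjective (f.stalkMap (genericPoint X)).hom := by
    intro β
    obtain ⟨γ, hγ⟩ := hres.2 ((X.residue _).hom β)
    obtain ⟨c, rfl⟩ := Y.residue_surjective _ γ
    refine ⟨c, ?_⟩
    have h2 : (X.residue _).hom ((f.stalkMap (genericPoint X)).hom c) = (X.residue _).hom β := by
      rw [← hγ]
      exact (congrArg (fun m => m.hom c) (Scheme.residue_residueFieldMap f (genericPoint X))).symm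
    have h3 : (f.stalkMap (genericPoint X)).hom c - β ∈
        IsLocalRing.maximalIdeal (X.presheaf.stalk (genericPoint X)) := by
      rw [← IsLocalRing.ker_residue, RingHom.mem_ker, map_sub]
      exact sub_eq_zero.mpr h2
    have h4 : IsLocalRing.maximalIdeal (X.presheaf.stalk (genericPoint X)) = ⊥ :=
      IsLocalRing.maximalIdeal_eq_bot (R := X.functionField)
    rw [h4, Ideal.mem_bot] at h3
    exact sub_eq_zero.mp h3
  have hinjξ : Function.Injective (f.stalkMap (genericPoint X)).hom := by
    letI := hfield.toField
    exact RingHom.injective _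
  -- compatibility
  have hcompat : ∀ c : Y.presheaf.stalk (f.base x₀),
      algebraMap (X.presheaf.stalk x₀) X.functionField ((f.stalkMap x₀).hom c) =
      (f.stalkMap (genericPoint X)).hom
        ((Y.presheaf.stalkSpecializes (f.base.hom.map_specializes hspec)).hom c) := by
    intro c
    exact (Scheme.Hom.stalkSpecializes_stalkMap_apply f (genericPoint X) x₀ hspec c).symm
  have hinj' : Function.Injective (algebraMap (X.presheaf.stalk x₀) X.functionField) :=
    IsFractionRing.injective _ _
  constructor
  · -- injective
    intro c₁ c₂ h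
    have h1 := congrArg (algebraMap (X.presheaf.stalk x₀) X.functionField) h
    rw [hcompat, hcompat] at h1
    have h2 := hinjξ h1
    -- stalkSpecializes is injective on an integral scheme
    have h3 : ∀ c : Y.presheaf.stalk (f.base x₀),
        algebraMap (Y.presheaf.stalk (f.base x₀)) Y.functionField c =
        (Y.presheaf.stalkSpecializes (genericPoint_specializes (f.base (genericPoint X)))).hom
          ((Y.presheaf.stalkSpecializes (f.base.hom.map_specializes hspec)).hom c) := by
      intro c
      have := TopCat.Presheaf.stalkSpecializes_comp Y.presheaf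
        (genericPoint_specializes (f.base (genericPoint X))) (f.base.hom.map_specializes hspec)
      exact (congrArg (fun m => m.hom c) this).symm
    apply IsFractionRing.injective (Y.presheaf.stalk (f.base x₀)) Y.functionField
    rw [h3, h3, h2]
  · -- surjective
    intro b
    obtain ⟨c', hc'⟩ := hsurjξ (algebraMap (X.presheaf.stalk x₀) X.functionField b)
    obtain ⟨s, hs⟩ := hY _ hξ c'
    have hgerm : (f.stalkMap (genericPoint X)).hom
        (Y.presheaf.germ ⊤ (f.base (genericPoint X)) trivial s) =
        algebraMap (X.presheaf.stalk x₀) X.functionField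
          ((f.stalkMap x₀).hom (Y.presheaf.germ ⊤ (f.base x₀) trivial s)) := by
      rw [hcompat]
      congr 1
      exact (TopCat.Presheaf.germ_stalkSpecializes_apply Y.presheaf (U := ⊤) trivial
        (f.base.hom.map_specializes hspec) s).symm
    rcases hs with hs | hs
    · refine ⟨Y.presheaf.germ ⊤ (f.base x₀) trivial s, hinj' ?_⟩
      rw [← hgerm, ← hs, hc']
    · -- b * φ(germ s) = 1
      have h1 : b * (f.stalkMap x₀).hom (Y.presheaf.germ ⊤ (f.base x₀) trivial s) = 1 := by
        apply hinj'
        rw [map_mul, map_one, ← hgerm, ← hc', ← map_mul, hs, map_one]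
      have hu : IsUnit ((f.stalkMap x₀).hom (Y.presheaf.germ ⊤ (f.base x₀) trivial s)) :=
        IsUnit.of_mul_eq_one b (by rw [mul_comm]; exact h1)
      have hu' : IsUnit (Y.presheaf.germ ⊤ (f.base x₀) trivial s) :=
        (isUnit_map_iff (f.stalkMap x₀).hom _).mp hu
      obtain ⟨v, hv⟩ := hu'
      refine ⟨((v⁻¹ : (Y.presheaf.stalk (f.base x₀))ˣ) : Y.presheaf.stalk (f.base x₀)), ?_⟩
      have h2 : (f.stalkMap x₀).hom (v : Y.presheaf.stalk (f.base x₀)) *
          (f.stalkMap x₀).hom ((v⁻¹ : (Y.presheaf.stalk (f.base x₀))ˣ) : Y.presheaf.stalk (f.base x₀)) = 1 := by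
        rw [← map_mul, Units.mul_inv, map_one]
      rw [hv] at h2
      calc (f.stalkMap x₀).hom ((v⁻¹ : (Y.presheaf.stalk (f.base x₀))ˣ) : Y.presheaf.stalk (f.base x₀))
          = (b * (f.stalkMap x₀).hom (Y.presheaf.germ ⊤ (f.base x₀) trivial s)) *
            (f.stalkMap x₀).hom ((v⁻¹ : (Y.presheaf.stalk (f.base x₀))ˣ) : Y.presheaf.stalk (f.base x₀)) := by
              rw [h1, one_mul]
        _ = b := by rw [mul_assoc, h2, mul_one]


/-- Let A be a valuation ring with Y = Spec A, X an integral separated scheme and f : X → Y a morphism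
which is closed as a map of topological spaces, such that the fibre over the generic point of Y
consists of exactly one point x and the induced map from the residue field of the generic point of Y
to that of x is bijective. Then f is an isomorphism. -/
theorem result (A : Type u) [CommRing A] [IsDomain A] [ValuationRing A]
    (X : Scheme.{u}) [IsIntegral X] [X.IsSeparated] (f : X ⟶ Spec (CommRingCat.of A)) (hf : IsClosedMap f.base)
    (x : X) (hx : f.base ⁻¹' {genericPoint (Spec (CommRingCat.of A))} = {x})
    (hres : Function.Bijective (f.residueFieldMap x).hom) : IsIso f := by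
  have hfx : f.base x = genericPoint (Spec (CommRingCat.of A)) := by
    have : x ∈ f.base ⁻¹' {genericPoint (Spec (CommRingCat.of A))} := by rw [hx]; rfl
    exact this
  have hξ : f.base (genericPoint X) = genericPoint (Spec (CommRingCat.of A)) := by
    have h1 : f.base (genericPoint X) ⤳ f.base x := (genericPoint_specializes x).map f.continuous
    rw [hfx] at h1
    exact (h1.antisymm (genericPoint_specializes _)).eq
  have hxξ : x = genericPoint X := by
    have : genericPoint X ∈ f.base ⁻¹' {genericPoint (Spec (CommRingCat.of A))} := hξ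
    rw [hx] at this
    exact this.symm
  subst hxξ
  have hbij := bijective_stalkMap f (fun y hy c => exists_germ_or A y hy c) hξ hres
  -- point over the closed point
  have hrange : IsClosed (Set.range f.base) := hf.isClosed_range
  obtain ⟨x₀, hx₀⟩ : (IsLocalRing.closedPoint A : Spec (CommRingCat.of A)) ∈ Set.range f.base :=
    (genericPoint_specializes (IsLocalRing.closedPoint A : Spec (CommRingCat.of A))).mem_closed
      hrange ⟨genericPoint X, hξ⟩
  haveI : IsIso ((Spec (CommRingCat.of A)).fromSpecStalk (f.base x₀)) :=
    isIso_fromSpecStalk_of_eq_closedPoint A _ hx₀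
  haveI : IsIso (f.stalkMap x₀) := (ConcreteCategory.isIso_iff_bijective _).mpr (hbij x₀)
  let s : Spec (CommRingCat.of A) ⟶ X :=
    inv ((Spec (CommRingCat.of A)).fromSpecStalk (f.base x₀)) ≫
      Spec.map (inv (f.stalkMap x₀)) ≫ X.fromSpecStalk x₀
  have hsf : s ≫ f = 𝟙 _ := by
    simp only [s, Category.assoc]
    rw [← Scheme.SpecMap_stalkMap_fromSpecStalk, ← Spec.map_comp_assoc, IsIso.hom_inv_id,
      Spec.map_id, Category.id_comp, IsIso.inv_hom_id]
  -- s dominant
  have hsη : s.base (genericPoint _) = genericPoint X := by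
    have : s.base (genericPoint (Spec (CommRingCat.of A))) ∈
        f.base ⁻¹' {genericPoint (Spec (CommRingCat.of A))} := by
      change f.base (s.base _) = _
      have := congrArg (fun m => m.base (genericPoint (Spec (CommRingCat.of A)))) hsf
      exact this
    rw [hx] at this
    exact this
  haveI : IsDominant s := ⟨by
    intro z
    have h1 : closure ({genericPoint X} : Set X) ⊆ closure (Set.range s.base) :=
      closure_mono (by rintro _ rfl; exact ⟨_, hsη⟩)
    apply h1
    rw [genericPoint_closure]
    trivial⟩
  have hfs : f ≫ s = 𝟙 X := by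
    refine ext_of_isDominant s ?_
    rw [← Category.assoc, hsf, Category.id_comp, Category.comp_id]
  exact ⟨s, hfs, hsf⟩

end Groth.Agent.S2342
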