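import Groth.Statements.S2343
import Groth.Agent.Lib.Helper41.HensQF

set_option autoImplicit false
universe u
open CategoryTheory CategoryTheory.Limits AlgebraicGeometry
open EGA2

namespace Groth.Agent.S2343

/-- Let A be a complete Noetherian local ring, X a separated scheme locally of finite type over Spec A,
and x a point of X over the closed point which is isolated in its fibre. Then the local ring of X at
x is a finite A-module and the canonical morphism Spec O_{X,x} → X is both an open and a closed
immersion (X is the disjoint sum of Spec O_{X,x} and another open subscheme). -/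
theorem result (A : Type u) [CommRing A] [IsLocalRing A] [IsNoetherianRing A]
    [IsAdicComplete (IsLocalRing.maximalIdeal A) A] (X : Scheme.{u}) (f : X ⟶ Spec (CommRingCat.of A)) [LocallyOfFiniteType f] [IsSeparated f]
    (x : X) (hx : f.base x = IsLocalRing.closedPoint A)
    (hisol : IsOpen ((Subtype.val : (f.base ⁻¹' {IsLocalRing.closedPoint A}) → X) ⁻¹' {x})) :
    ((Scheme.ΓSpecIso (CommRingCat.of A)).inv ≫ f.appTop ≫ X.presheaf.germ ⊤ x trivial).hom.Finite ∧ IsOpenImmersion (X.fromSpecStalk x) ∧ IsClosedImmersion (X.fromSpecStalk x) := by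
  haveI : HenselianLocalRing A :=
    Groth.Agent.Lib.Helper41.HensQF.henselianLocalRing_of_isAdicComplete A
  have hqf : f.QuasiFiniteAt x := by
    rw [Scheme.Hom.quasiFiniteAt_iff_isOpen_singleton_asFiber,
      ← (f.fiberHomeo (f.base x)).isOpen_image]
    simp only [Set.image_singleton, Scheme.Hom.asFiber, Homeomorph.apply_symm_apply]
    have key : ∀ (y : ↥(Spec (CommRingCat.of A))) (hy : f.base x = y),
        IsOpen ((Subtype.val : (f.base ⁻¹' {y}) → X) ⁻¹' {x}) →
        IsOpen ({⟨x, hy⟩} : Set ↥(f.base ⁻¹' {y})) := by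
      intro y hy ho
      convert ho using 1
      ext ⟨a, ha⟩
      simp [Subtype.ext_iff]
    exact key _ rfl (by
      have := hisol
      rw [← hx] at this
      exact this)
  obtain ⟨W, hxW, hW, hclosed, hfinW, -, hspec⟩ :=
    Groth.Agent.Lib.Helper41.HensQF.exists_clopen_finite_nhd A f x hx hqf
  have hbij := Groth.Agent.Lib.Helper41.HensQF.germ_bijective_of_forall_specializes hW x hxW hspec
  haveI : IsIso (X.presheaf.germ W x hxW) := (ConcreteCategory.isIso_iff_bijective _).mpr hbij
  have hfs : X.fromSpecStalk x = Spec.map (X.presheaf.germ W x hxW) ≫ hW.fromSpec :=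
    (hW.fromSpecStalk_eq_fromSpecStalk hxW).symm
  have hopen : IsOpenImmersion (X.fromSpecStalk x) := by rw [hfs]; infer_instance
  refine ⟨?_, hopen, ?_⟩
  · have h1 := Groth.Agent.Lib.Helper41.HensQF.finite_of_isFinite_ι_comp f hW hfinW
    have h2 : (X.presheaf.germ W x hxW).hom.Finite := RingHom.Finite.of_surjective _ hbij.surjective
    have h3 : (Scheme.ΓSpecIso (CommRingCat.of A)).inv ≫ f.appTop ≫ X.presheaf.germ ⊤ x trivial =
        ((Scheme.ΓSpecIso (CommRingCat.of A)).inv ≫ f.appTop ≫
          X.presheaf.map (homOfLE (le_top : W ≤ ⊤)).op) ≫ X.presheaf.germ W x hxW := by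
      rw [Category.assoc, Category.assoc, TopCat.Presheaf.germ_res]
    rw [h3]
    exact h2.comp h1
  · apply IsClosedImmersion.of_isPreimmersion
    rw [Scheme.range_fromSpecStalk]
    have : {y : X | y ⤳ x} = (W : Set X) := by
      ext y
      exact ⟨fun hy => hy.mem_open W.2 hxW, fun hy => hspec y hy⟩
    rw [this]
    exact hclosed

end Groth.Agent.S2343
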