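import Groth.Statements.S4443
import Mathlib.AlgebraicGeometry.Noetherian
import Mathlib.AlgebraicGeometry.Stalk
import Mathlib.RingTheory.KrullDimension.Basic

set_option autoImplicit false
universe u
open CategoryTheory CategoryTheory.Limits AlgebraicGeometry
open EGA2

namespace Groth.Agent.S4443

theorem chain_false {X : Scheme.{u}} (z y₁ y₂ : X) (hz : ringKrullDim (X.presheaf.stalk z) = 1)
    (h₁ : y₁ ⤳ y₂) (h₂ : y₂ ⤳ z) (hne₁ : y₁ ≠ y₂) (hne₂ : y₂ ≠ z) : False := by
  have hr := Scheme.range_fromSpecStalk (X := X) (x := z)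
  obtain ⟨p₁, hp₁⟩ : y₁ ∈ Set.range (X.fromSpecStalk z) := by rw [hr]; exact h₁.trans h₂
  obtain ⟨p₂, hp₂⟩ : y₂ ∈ Set.range (X.fromSpecStalk z) := by rw [hr]; exact h₂
  obtain ⟨p₃, hp₃⟩ : z ∈ Set.range (X.fromSpecStalk z) := by rw [hr]; exact specializes_rfl
  have hind : Topology.IsInducing (X.fromSpecStalk z) :=
    (X.fromSpecStalk z).isEmbedding.isInducing
  have s₁ : p₁ ⤳ p₂ := by rw [← hind.specializes_iff, hp₁, hp₂]; exact h₁
  have s₂ : p₂ ⤳ p₃ := by rw [← hind.specializes_iff, hp₂, hp₃]; exact h₂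
  let q₁ : PrimeSpectrum (X.presheaf.stalk z) := p₁
  let q₂ : PrimeSpectrum (X.presheaf.stalk z) := p₂
  let q₃ : PrimeSpectrum (X.presheaf.stalk z) := p₃
  have l₁ : q₁ < q₂ := lt_of_le_of_ne ((PrimeSpectrum.le_iff_specializes _ _).mpr s₁)
    (fun h => hne₁ (hp₁.symm.trans ((congrArg (X.fromSpecStalk z) h).trans hp₂)))
  have l₂ : q₂ < q₃ := lt_of_le_of_ne ((PrimeSpectrum.le_iff_specializes _ _).mpr s₂)
    (fun h => hne₂ (hp₂.symm.trans ((congrArg (X.fromSpecStalk z) h).trans hp₃)))
  have hle : Order.krullDim (PrimeSpectrum (X.presheaf.stalk z)) ≤ 1 := le_of_eq hz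
  rcases Order.krullDim_le_one_iff.mp hle q₂ with h | h
  · exact h.not_lt l₁
  · exact h.not_lt l₂

theorem two_points {X : Scheme.{u}} (z : X) (hz : ringKrullDim (X.presheaf.stalk z) = 1) :
    ∃ y₁ y₂ : X, y₁ ≠ y₂ := by
  have hle : 1 ≤ Order.krullDim (PrimeSpectrum (X.presheaf.stalk z)) := le_of_eq hz.symm
  obtain ⟨q₁, q₂, hlt⟩ := Order.one_le_krullDim_iff.mp hle
  refine ⟨X.fromSpecStalk z q₁, X.fromSpecStalk z q₂, fun h => ?_⟩
  exact hlt.ne ((X.fromSpecStalk z).isEmbedding.injective h)


/-- Let X be an irreducible algebraic curve over a field k (separated and of finite type over k,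
nonempty, irreducible, local rings at closed points of dimension one). Then the generic point is the
only non-closed point of X, and the closed subsets of X distinct from X are exactly the finite sets
of closed points. (The published statement adds that these are also exactly the subsets of X that
are not dense in X, an immediate consequence; this row does not state it.) -/
theorem result (k : Type u) [Field k] (X : Scheme.{u})
    [X.Over (Spec (CommRingCat.of k))] [LocallyOfFiniteType (X ↘ (Spec (CommRingCat.of k)))]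
    [QuasiCompact (X ↘ (Spec (CommRingCat.of k)))] [IsSeparated (X ↘ (Spec (CommRingCat.of k)))]
    [Nonempty X] [IrreducibleSpace X] (hcurve : ∀ x : X, IsClosed ({x} : Set X) → ringKrullDim (X.presheaf.stalk x) = 1) :
    (∀ x : X, ¬ IsClosed ({x} : Set X) → x = genericPoint X) ∧
      ∀ F : Set X, IsClosed F → (F ≠ Set.univ ↔ (F.Finite ∧ ∀ x ∈ F, IsClosed ({x} : Set X))) := by
  haveI : CompactSpace X :=
    QuasiCompact.compactSpace_of_compactSpace (X ↘ (Spec (CommRingCat.of k)))
  haveI : IsLocallyNoetherian X :=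
    LocallyOfFiniteType.isLocallyNoetherian (X ↘ (Spec (CommRingCat.of k)))
  haveI : IsNoetherian X := {}
  have part1 : ∀ x : X, ¬ IsClosed ({x} : Set X) → x = genericPoint X := by
    intro x hx
    obtain ⟨z, hzx, hz⟩ := IsClosed.exists_closed_singleton (isClosed_closure (s := {x}))
      ⟨x, subset_closure rfl⟩
    have hxz : x ⤳ z := specializes_iff_mem_closure.mpr hzx
    have hne : x ≠ z := fun h => hx (h ▸ hz)
    by_contra hη
    exact chain_false z (genericPoint X) x (hcurve z hz) (genericPoint_specializes x) hxz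
      (fun h => hη h.symm) hne
  refine ⟨part1, fun F hF => ⟨fun hne => ?_, fun ⟨hfin, hcl⟩ hFu => ?_⟩⟩
  · have hcl : ∀ x ∈ F, IsClosed ({x} : Set X) := by
      intro x hxF
      by_contra hx
      have hη := part1 x hx
      apply hne
      rw [Set.eq_univ_iff_forall]
      intro y
      have : genericPoint X ⤳ y := genericPoint_specializes y
      exact (this.mem_closed hF (hη ▸ hxF))
    refine ⟨?_, hcl⟩
    obtain ⟨S, hSf, hSc, hSi, hSU⟩ :=
      TopologicalSpace.NoetherianSpace.exists_finite_set_isClosed_irreducible hF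
    rw [hSU]
    refine hSf.sUnion (fun t ht => ?_)
    obtain ⟨x, hx⟩ := QuasiSober.sober (hSi t ht) (hSc t ht)
    have hxt : x ∈ t := hx.mem
    have hxF : x ∈ F := by rw [hSU]; exact ⟨t, ht, hxt⟩
    have : t = {x} := by
      rw [← hx.def, (hcl x hxF).closure_eq]
    rw [this]
    exact Set.finite_singleton x
  · have hη : IsClosed ({genericPoint X} : Set X) := hcl _ (hFu ▸ Set.mem_univ _)
    obtain ⟨y₁, y₂, hy⟩ := two_points _ (hcurve _ hη)
    have h1 : ∀ y : X, y = genericPoint X := by
      intro y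
      have : y ∈ closure ({genericPoint X} : Set X) := by
        rw [genericPoint_closure]; trivial
      rw [hη.closure_eq] at this
      exact this
    exact hy ((h1 y₁).trans (h1 y₂).symm)

end Groth.Agent.S4443
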