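import Groth.Statements.S2346
import Groth.Agent.S4443
import Mathlib.AlgebraicGeometry.Morphisms.Finite

set_option autoImplicit false
universe u
open CategoryTheory CategoryTheory.Limits AlgebraicGeometry
open EGA2

namespace Groth.Agent.S2346

/-- Let X and Y be irreducible algebraic curves over k (separated, of finite type, local rings at closed
points one-dimensional) and f : X → Y a k-morphism. Then f is dominant if and only if every fibre
f⁻¹(y) is a finite set. -/
theorem result (k : Type u) [Field k] (X Y : Scheme.{u}) [X.Over (Spec (CommRingCat.of k))] [Y.Over (Spec (CommRingCat.of k))]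
    [LocallyOfFiniteType (X ↘ (Spec (CommRingCat.of k)))] [QuasiCompact (X ↘ (Spec (CommRingCat.of k)))] [IsSeparated (X ↘ (Spec (CommRingCat.of k)))] [LocallyOfFiniteType (Y ↘ (Spec (CommRingCat.of k)))] [QuasiCompact (Y ↘ (Spec (CommRingCat.of k)))] [IsSeparated (Y ↘ (Spec (CommRingCat.of k)))] [IrreducibleSpace X] [IrreducibleSpace Y]
    (hX : (∀ x : X, IsClosed ({x} : Set X) → ringKrullDim (X.presheaf.stalk x) = 1)) (hY : (∀ x : Y, IsClosed ({x} : Set Y) → ringKrullDim (Y.presheaf.stalk x) = 1))
    (f : X ⟶ Y) (hf : f ≫ (Y ↘ (Spec (CommRingCat.of k))) = X ↘ (Spec (CommRingCat.of k))) :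
    IsDominant f ↔ ∀ y : Y, (f.base ⁻¹' {y}).Finite := by
  obtain ⟨hX1, hX2⟩ := Groth.Agent.S4443.result k X hX
  obtain ⟨hY1, hY2⟩ := Groth.Agent.S4443.result k Y hY
  haveI : JacobsonSpace Y := LocallyOfFiniteType.jacobsonSpace (Y ↘ (Spec (CommRingCat.of k)))
  haveI : JacobsonSpace X := LocallyOfFiniteType.jacobsonSpace (X ↘ (Spec (CommRingCat.of k)))
  haveI : LocallyOfFiniteType f := by
    have : LocallyOfFiniteType (f ≫ (Y ↘ (Spec (CommRingCat.of k)))) := by rw [hf]; infer_instance
    exact locallyOfFiniteType_of_comp f (Y ↘ (Spec (CommRingCat.of k)))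
  have hXuniv : ¬ ((Set.univ : Set X).Finite ∧ ∀ x ∈ (Set.univ : Set X), IsClosed ({x} : Set X)) :=
    fun h => ((hX2 Set.univ isClosed_univ).mpr h) rfl
  have hYuniv : ¬ ((Set.univ : Set Y).Finite ∧ ∀ x ∈ (Set.univ : Set Y), IsClosed ({x} : Set Y)) :=
    fun h => ((hY2 Set.univ isClosed_univ).mpr h) rfl
  constructor
  · intro hdom y
    by_cases hy : IsClosed ({y} : Set Y)
    · have hcl : IsClosed (f.base ⁻¹' {y}) := hy.preimage f.continuous
      refine ((hX2 _ hcl).mp ?_).1
      intro huniv
      have hr : Set.range f.base ⊆ {y} := by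
        rintro _ ⟨x, rfl⟩
        have : x ∈ f.base ⁻¹' {y} := huniv ▸ Set.mem_univ x
        exact this
      have hd : closure (Set.range f.base) = Set.univ := hdom.1.closure_eq
      have h1 : (Set.univ : Set Y) ⊆ {y} := by
        rw [← hd]; exact closure_minimal hr hy
      apply hYuniv
      refine ⟨(Set.finite_singleton y).subset h1, fun z _ => ?_⟩
      have : z = y := h1 (Set.mem_univ z)
      rw [this]; exact hy
    · refine (Set.finite_singleton (genericPoint X)).subset ?_
      intro x hx
      by_contra hne
      have hxcl : IsClosed ({x} : Set X) := by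
        by_contra h; exact hne (hX1 x h)
      have := f.closePoints_subset_preimage_closedPoints hxcl
      have hx' : f.base x = y := hx
      apply hy
      rw [← hx']
      exact this
  · intro hfin
    refine ⟨?_⟩
    by_contra hnd
    have hne : closure (Set.range f.base) ≠ Set.univ := fun h => hnd (dense_iff_closure_eq.mpr h)
    obtain ⟨hF, -⟩ := (hY2 _ isClosed_closure).mp hne
    have hrf : (Set.range f.base).Finite := hF.subset subset_closure
    have hXfin : (Set.univ : Set X).Finite := by
      have : (Set.univ : Set X) = ⋃ y ∈ Set.range f.base, f.base ⁻¹' {y} := by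
        ext x; simp
      rw [this]
      exact hrf.biUnion (fun y _ => hfin y)
    haveI : Finite X := Set.finite_univ_iff.mp hXfin
    apply hXuniv
    refine ⟨hXfin, fun x _ => isClosed_singleton⟩

end Groth.Agent.S2346
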