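import Groth.Statements.S2347
import Groth.Agent.S9821
import Mathlib

set_option autoImplicit false
universe u
open CategoryTheory CategoryTheory.Limits AlgebraicGeometry
open EGA2

namespace Groth.Agent.S2347

lemma alg_key {A B : Type*} [CommRing A] [IsDomain A] [IsIntegrallyClosed A] [CommRing B]
    [IsDomain B] (φ : A →+* B) (hφ : φ.IsIntegral) (τ : B →+* FractionRing A)
    (hτ : τ.comp φ = algebraMap A (FractionRing A)) : Function.Bijective φ := by
  have hτ' : ∀ a, τ (φ a) = algebraMap A (FractionRing A) a := fun a => by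
    rw [← hτ]; rfl
  have hinj : Function.Injective φ := by
    intro a a' h
    apply IsFractionRing.injective A (FractionRing A)
    rw [← hτ', ← hτ', h]
  refine ⟨hinj, fun b => ?_⟩
  have hint : IsIntegral A (τ b) := by
    obtain ⟨p, hp, hpb⟩ := hφ b
    refine ⟨p, hp, ?_⟩
    rw [← hτ, ← Polynomial.hom_eval₂, hpb, map_zero]
  obtain ⟨a, ha⟩ := IsIntegrallyClosed.algebraMap_eq_of_integral hint
  refine ⟨a, ?_⟩
  let _ := φ.toAlgebra
  have : Algebra.IsIntegral A B := ⟨hφ⟩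
  have hker : RingHom.ker τ = ⊥ := by
    apply Ideal.eq_bot_of_comap_eq_bot (R := A)
    rw [eq_bot_iff]
    intro x hx
    rw [Ideal.mem_comap, RingHom.mem_ker] at hx
    have : τ (φ x) = 0 := hx
    rw [hτ'] at this
    rw [Ideal.mem_bot]
    exact (IsFractionRing.injective A (FractionRing A)) (by rw [this, map_zero])
  have h0 : τ (φ a - b) = 0 := by rw [map_sub, hτ', ha, sub_self]
  have := (RingHom.mem_ker).mpr h0
  rw [hker, Ideal.mem_bot] at this
  exact sub_eq_zero.mp this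

lemma appLE_congr_hom {X Y : Scheme.{u}} {f f' : X ⟶ Y} (e : f = f') (U : Y.Opens) (V : X.Opens)
    (h : V ≤ f ⁻¹ᵁ U) : f.appLE U V h = f'.appLE U V (e ▸ h) := by
  subst e; rfl

/-- Let X be an integral normal scheme, X' an integral scheme and g : X' → X an integral morphism. If g
has a rational section (a morphism s from a dense open U of X to X' with g ∘ s the inclusion of U),
then g is an isomorphism. -/
theorem result {X X' : Scheme.{u}} [IsIntegral X] [IsIntegral X'] (hX : Pi1.IsNormalScheme X)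
    (g : X' ⟶ X) [IsIntegralHom g] (U : X.Opens) (hU : Dense (U : Set X)) (s : (U : Scheme.{u}) ⟶ X') (hs : s ≫ g = U.ι) :
    IsIso g := by
  have hnorm := (Groth.Agent.S9821.result X).mp hX
  refine IsZariskiLocalAtTarget.of_forall_exists_morphismRestrict
    (P := MorphismProperty.isomorphisms Scheme) fun x => ?_
  obtain ⟨_, ⟨V, hV, rfl⟩, hxV, -⟩ :=
    X.isBasis_affineOpens.exists_subset_of_mem_open (Set.mem_univ x) isOpen_univ
  refine ⟨V, hxV, ?_⟩
  show IsIso (g ∣_ V)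
  rw [isIso_morphismRestrict_iff_isIso_app g hV, ConcreteCategory.isIso_iff_bijective]
  haveI : Nonempty V := ⟨⟨x, hxV⟩⟩
  haveI := hnorm V hV
  obtain ⟨y, hyV, hyU⟩ : ∃ y, y ∈ (V : Set X) ∧ y ∈ (U : Set X) :=
    hU.inter_open_nonempty V V.isOpen ⟨x, hxV⟩
  obtain ⟨h, hhU, hyh⟩ := hV.exists_basicOpen_le (V := U) ⟨y, hyU⟩ hyV
  have hh0 : h ≠ 0 := by
    rintro rfl
    rw [Scheme.basicOpen_zero] at hyh
    exact hyh
  have hmem : s ⟨y, hyU⟩ ∈ g ⁻¹ᵁ V := by
    show g (s ⟨y, hyU⟩) ∈ V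
    rw [← Scheme.Hom.comp_apply, hs]
    exact hyV
  haveI : IsDomain Γ(X', g ⁻¹ᵁ V) :=
    @IsIntegral.component_integral X' _ (g ⁻¹ᵁ V) ⟨⟨_, hmem⟩⟩
  -- the open W = D(h)
  set W : X.Opens := X.basicOpen h with hW
  have hWV : W ≤ V := X.basicOpen_le h
  let t : (W : Scheme.{u}) ⟶ X' := X.homOfLE hhU ≫ s
  have htg : t ≫ g = W.ι := by
    simp only [t, Category.assoc, hs, Scheme.homOfLE_ι]
  have hle : (⊤ : (W : Scheme.{u}).Opens) ≤ t ⁻¹ᵁ (g ⁻¹ᵁ V) := by
    intro z _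
    show g (t z) ∈ V
    rw [← Scheme.Hom.comp_apply, htg]
    exact hWV z.2
  have hle' : W.ι ''ᵁ ⊤ ≤ V := by
    rw [W.ι_image_top]; exact hWV
  let _ : Algebra Γ(X, V) Γ(X, W.ι ''ᵁ ⊤) := (X.presheaf.map (homOfLE hle').op).hom.toAlgebra
  haveI : IsLocalization.Away h Γ(X, W.ι ''ᵁ ⊤) :=
    hV.isLocalization_of_eq_basicOpen h (homOfLE hle') W.ι_image_top
  let τ₀ : Γ(X', g ⁻¹ᵁ V) ⟶ Γ(X, W.ι ''ᵁ ⊤) := t.appLE (g ⁻¹ᵁ V) ⊤ hle
  have hτφ : g.app V ≫ τ₀ = X.presheaf.map (homOfLE hle').op := by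
    show g.app V ≫ t.appLE (g ⁻¹ᵁ V) ⊤ hle = _
    rw [← Scheme.Hom.comp_appLE, appLE_congr_hom htg, Scheme.Opens.ι_appLE]
  have hunit : IsUnit (algebraMap Γ(X, V) (FractionRing Γ(X, V)) h) :=
    IsUnit.mk0 _ (by simpa using hh0)
  let ι' : Γ(X, W.ι ''ᵁ ⊤) →+* FractionRing Γ(X, V) :=
    IsLocalization.Away.lift h hunit
  refine alg_key (g.app V).hom (g.isIntegral_app V hV)
    (ι'.comp τ₀.hom) ?_
  rw [RingHom.comp_assoc, ← CommRingCat.hom_comp, hτφ]
  exact IsLocalization.Away.lift_comp h hunit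

end Groth.Agent.S2347
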