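import Groth.Statements.S2348
import Mathlib
import Groth.Agent.Lib.Helper82.EffCartier
import Groth.Agent.Lib.Helper82.EffCartierCompl

set_option autoImplicit false
universe u
open CategoryTheory CategoryTheory.Limits AlgebraicGeometry
open EGA2

namespace Groth.Agent.S2348


theorem genericPoint_notMem_support {Y : Scheme.{u}} [IsIntegral Y] (I : Y.IdealSheafData)
    (hI : I ≠ ⊥) : genericPoint Y ∉ I.support := by
  intro hη
  apply hI
  refine Scheme.IdealSheafData.ext ?_
  funext U
  rw [Scheme.IdealSheafData.ideal_bot]
  simp only [Pi.bot_apply]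
  rw [← le_bot_iff]
  intro a ha
  rw [Ideal.mem_bot]
  by_contra hne
  by_cases hU : Nonempty U.1
  · have hmem : genericPoint Y ∈ U.1 := by
      obtain ⟨⟨x, hx⟩⟩ := hU
      exact ((genericPoint_spec Y).mem_open_set_iff U.1.isOpen).mpr ⟨x, trivial, hx⟩
    rw [Scheme.IdealSheafData.mem_support_iff_of_mem hmem] at hη
    have h2 : genericPoint Y ∉ Y.basicOpen a := by
      have := hη
      rw [Scheme.mem_zeroLocus_iff] at this
      exact this a ha
    apply h2
    have hne' : (Y.basicOpen a : Set Y).Nonempty := by
      by_contra hemp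
      rw [Set.not_nonempty_iff_eq_empty] at hemp
      have : Y.basicOpen a = ⊥ := by
        ext x
        simp [hemp]
      rw [AlgebraicGeometry.basicOpen_eq_bot_iff] at this
      exact hne this
    obtain ⟨x, hx⟩ := hne'
    exact ((genericPoint_spec Y).mem_open_set_iff (Y.basicOpen a).isOpen).mpr ⟨x, trivial, hx⟩
  · apply hne
    have : Subsingleton Γ(Y, U.1) := by
      have hbot : U.1 = ⊥ := by
        ext x
        simp only [TopologicalSpace.Opens.coe_bot, Set.mem_empty_iff_false, iff_false]
        intro hx
        exact hU ⟨⟨x, hx⟩⟩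
      rw [hbot]
      infer_instance
    exact Subsingleton.elim _ _

/-- For an ideal of O_Y: let Y be an integral scheme, I a nonzero quasi-coherent ideal sheaf and b : X →
Y a blowing up of Y in I (characterised by its universal property). Then X is integral, b sends the
generic point of X to that of Y and induces a bijection on their residue fields (b is birational).
The printed statement also asserts that b is surjective; the proof does not show this and it fails
when I is not of finite type, so it is left out. -/
theorem result {X Y : Scheme.{u}} [IsIntegral Y] (I : Y.IdealSheafData) (hI : I ≠ ⊥)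
    (b : X ⟶ Y) (hb : BlowUp.IsBlowUp b I) :
    ∃ (_ : IsIntegral X), ∃ hgen : b.base (genericPoint X) = genericPoint Y,
      Function.Bijective (b.residueFieldMap (genericPoint X)).hom := by
  classical
  have hη := genericPoint_notMem_support I hI
  set U₀ : Y.Opens := I.support.compl with hU₀
  have hηU : genericPoint Y ∈ U₀ := hη
  haveI : Nonempty U₀ := ⟨⟨_, hηU⟩⟩
  haveI hiso : IsIso (b ∣_ U₀) :=
    Groth.Agent.Lib.Helper82.isIso_morphismRestrict_of_isBlowUp I b hb
  set V : X.Opens := b ⁻¹ᵁ U₀ with hV
  have hVeq : V = (I.comap b).support.compl := by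
    ext x
    simp only [hV, hU₀, Scheme.IdealSheafData.support_comap]
    rfl
  haveI hdom : IsSchemeTheoreticallyDominant V.ι := by
    rw [hVeq]
    exact Groth.Agent.Lib.Helper82.isSchemeTheoreticallyDominant_ι_compl_support _ hb.1
  haveI haff : IsAffineHom V.ι := by
    rw [hVeq]
    exact Groth.Agent.Lib.Helper82.isAffineHom_ι_compl_support _ hb.1
  haveI : IsIntegral U₀ := inferInstance
  haveI : Nonempty V := ⟨(inv (b ∣_ U₀)) ⟨_, hηU⟩⟩
  haveI hVint : IsIntegral V := isIntegral_of_isOpenImmersion (b ∣_ U₀)
  haveI hred : IsReduced X := IsSchemeTheoreticallyDominant.isReduced V.ι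
  haveI hirr : IrreducibleSpace X := by
    have hd : DenseRange V.ι := V.ι.denseRange
    have h1 : IsIrreducible (Set.range V.ι) := by
      rw [← Set.image_univ]
      exact (IrreducibleSpace.isIrreducible_univ V).image _ V.ι.continuous.continuousOn
    have h2 := h1.closure
    rw [hd.closure_eq] at h2
    exact (irreducibleSpace_def X).mpr h2
  have hX : IsIntegral X := isIntegral_of_irreducibleSpace_of_isReduced X
  refine ⟨hX, ?_, ?_⟩
  · have e1 : V.ι (genericPoint V) = genericPoint X := genericPoint_eq_of_isOpenImmersion V.ι
    have e2 : U₀.ι (genericPoint U₀) = genericPoint Y := genericPoint_eq_of_isOpenImmersion U₀.ι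
    have e3 : (b ∣_ U₀) (genericPoint V) = genericPoint U₀ :=
      genericPoint_eq_of_isOpenImmersion (b ∣_ U₀)
    rw [← e1, ← e2, ← e3]
    exact (morphismRestrict_base_coe b U₀ (genericPoint V)).symm
  · have key : ∀ v : V, Function.Bijective (b.residueFieldMap (V.ι v)).hom := by
      intro v
      have h1 : (V.ι ≫ b).residueFieldMap v = b.residueFieldMap (V.ι v) ≫ V.ι.residueFieldMap v :=
        Scheme.residueFieldMap_comp _ _ _
      haveI : IsOpenImmersion (V.ι ≫ b) := by
        rw [← morphismRestrict_ι b U₀]
        infer_instance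
      have h0 : IsIso ((V.ι ≫ b).residueFieldMap v) := by
        infer_instance
      haveI : IsIso (b.residueFieldMap (V.ι v) ≫ V.ι.residueFieldMap v) := by
        rw [← h1]; exact h0
      haveI : IsIso (b.residueFieldMap (V.ι v)) := IsIso.of_isIso_comp_right _ (V.ι.residueFieldMap v)
      exact ConcreteCategory.bijective_of_isIso (b.residueFieldMap (V.ι v))
    have hmem : genericPoint X ∈ V := by
      obtain ⟨v⟩ := (inferInstance : Nonempty V)
      exact ((genericPoint_spec X).mem_open_set_iff V.isOpen).mpr ⟨v.1, trivial, v.2⟩
    exact key ⟨genericPoint X, hmem⟩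

end Groth.Agent.S2348
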