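import Groth.Statements.S2349
import Mathlib.AlgebraicGeometry.Morphisms.Proper
import Mathlib.AlgebraicGeometry.PullbackCarrier

set_option autoImplicit false
universe u
open CategoryTheory CategoryTheory.Limits AlgebraicGeometry
open EGA2

namespace Groth.Agent.S2349

/-- A morphism is universally closed if it is so after precomposition with a finite jointly
surjective family of morphisms. -/
lemma universallyClosed_of_finite_cover {X Y : Scheme.{u}} (f : X ⟶ Y) {ι : Type*} [Finite ι]
    (Xi : ι → Scheme.{u}) (j : ∀ i, Xi i ⟶ X) (hj : ∀ i, UniversallyClosed (j i ≫ f))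
    (hcov : ∀ x : X, ∃ i, x ∈ Set.range (j i)) : UniversallyClosed f := by
  constructor
  intro X' Y' i₁ i₂ f' H
  have hcl : ∀ i, IsClosedMap (pullback.fst i₁ (j i) ≫ f') := fun i =>
    (hj i).universally_isClosedMap _ _ _ ((IsPullback.of_hasPullback i₁ (j i)).paste_horiz H)
  intro C hC
  have key : f' '' C = ⋃ i, (pullback.fst i₁ (j i) ≫ f') '' ((pullback.fst i₁ (j i)) ⁻¹' C) := by
    ext y
    simp only [Set.mem_image, Set.mem_iUnion, Set.mem_preimage]
    constructor
    · rintro ⟨x', hx', rfl⟩
      obtain ⟨i, xi, hxi⟩ := hcov (i₁ x')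
      obtain ⟨z, hz1, -⟩ := Scheme.Pullback.exists_preimage_pullback (f := i₁) (g := j i) x' xi
        hxi.symm
      exact ⟨i, z, by rw [hz1]; exact hx', by rw [Scheme.Hom.comp_apply, hz1]⟩
    · rintro ⟨i, z, hz, rfl⟩
      exact ⟨_, hz, by rw [Scheme.Hom.comp_apply]⟩
  rw [key]
  exact isClosed_iUnion_of_finite fun i =>
    hcl i _ (hC.preimage (pullback.fst i₁ (j i)).continuous)

/-- Let f : X → Y be separated and of finite type, and let j_i : X_i → X and h_i : Y_i → Y (i in a
finite index type) be closed immersions with morphisms f_i : X_i → Y_i satisfying j_i ≫ f = f_i ≫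
h_i, such that the images of the j_i cover X. Then f is proper if and only if every f_i is proper. -/
theorem result {X Y : Scheme.{u}} (f : X ⟶ Y) [IsSeparated f] [LocallyOfFiniteType f] [QuasiCompact f]
    (ι : Type u) [Finite ι] (Xi Yi : ι → Scheme.{u}) (j : ∀ i, Xi i ⟶ X) (h : ∀ i, Yi i ⟶ Y) (fi : ∀ i, Xi i ⟶ Yi i)
    [∀ i, IsClosedImmersion (j i)] [∀ i, IsClosedImmersion (h i)] (hcomm : ∀ i, j i ≫ f = fi i ≫ h i)
    (hcov : ∀ x : X, ∃ i, x ∈ Set.range (j i).base) : IsProper f ↔ ∀ i, IsProper (fi i) := by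
  constructor
  · intro hf i
    have h1 : IsProper (fi i ≫ h i) := by rw [← hcomm i]; infer_instance
    exact IsProper.of_comp (fi i) (h i)
  · intro hfi
    have hj : ∀ i, UniversallyClosed (j i ≫ f) := fun i => by
      have := hfi i
      rw [hcomm i]; infer_instance
    have := universallyClosed_of_finite_cover f Xi j hj hcov
    exact { }

end Groth.Agent.S2349
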