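import Groth.Statements.S2351
import Mathlib

set_option autoImplicit false
universe u
open CategoryTheory CategoryTheory.Limits AlgebraicGeometry
open EGA2

namespace Groth.Agent.S2351

set_option linter.style.haveILetI false

section helpers

variable (X : Scheme.{u}) [IsIntegral X]

lemma fromSpecStalk_generic_specializes (z : Spec (X.presheaf.stalk (genericPoint X))) :
    X.fromSpecStalk (genericPoint X) z ⤳ genericPoint X := by
  have : X.fromSpecStalk (genericPoint X) z ∈ Set.range (X.fromSpecStalk (genericPoint X)) :=
    ⟨z, rfl⟩
  rw [Scheme.range_fromSpecStalk] at this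
  exact this

instance isDominant_fromSpecStalk_generic : IsDominant (X.fromSpecStalk (genericPoint X)) := by
  constructor
  rw [DenseRange, Scheme.range_fromSpecStalk]
  have h : (genericPoint X) ∈ {y | y ⤳ genericPoint X} := specializes_rfl
  have := (genericPoint_spec X)
  rw [isGenericPoint_def] at this
  refine dense_iff_closure_eq.mpr ?_
  apply Set.eq_univ_of_univ_subset
  rw [← this]
  exact closure_mono (Set.singleton_subset_iff.mpr h)

variable [QuasiCompact (X.fromSpecStalk (genericPoint X))]
  [QuasiSeparated (X.fromSpecStalk (genericPoint X))]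

instance : IsDominant (Curv2.normalizationι X) := by
  have : IsDominant ((X.fromSpecStalk (genericPoint X)).toNormalization ≫ Curv2.normalizationι X) := by
    show IsDominant ((X.fromSpecStalk (genericPoint X)).toNormalization ≫
      (X.fromSpecStalk (genericPoint X)).fromNormalization)
    rw [Scheme.Hom.toNormalization_fromNormalization]
    infer_instance
  exact IsDominant.of_comp (X.fromSpecStalk (genericPoint X)).toNormalization _

instance : IsIntegralHom (Curv2.normalizationι X) := by
  show IsIntegralHom (X.fromSpecStalk (genericPoint X)).fromNormalization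
  infer_instance

instance : IsIntegral (Curv2.normalization X) := by
  show IsIntegral (X.fromSpecStalk (genericPoint X)).normalization
  infer_instance

lemma surj : Surjective (Curv2.normalizationι X) := inferInstance

lemma map_generic {N Y : Scheme.{u}} [IsIntegral N] [IsIntegral Y] (ν : N ⟶ Y) [IsDominant ν] :
    ν (genericPoint N) = genericPoint Y := by
  have h1 : IsGenericPoint (ν (genericPoint N)) (closure (ν '' Set.univ)) :=
    (genericPoint_spec N).image ν.continuous
  rw [Set.image_univ, ν.denseRange.closure_range] at h1
  exact h1.eq (genericPoint_spec Y)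


lemma normal : Pi1.IsNormalScheme (Curv2.normalization X) := by
  intro x
  refine ⟨inferInstance, ?_⟩
  let f := X.fromSpecStalk (genericPoint X)
  let ν : f.normalization ⟶ X := f.fromNormalization
  change IsIntegrallyClosed (f.normalization.presheaf.stalk x)
  obtain ⟨_, ⟨U, hU, rfl⟩, hxU, -⟩ :=
    X.isBasis_affineOpens.exists_subset_of_mem_open (Set.mem_univ (ν x)) isOpen_univ
  have hW : IsAffineOpen (ν ⁻¹ᵁ U) := hU.preimage ν
  have hηU : genericPoint X ∈ U :=
    ((genericPoint_spec X).specializes (Set.mem_univ (ν x))).mem_open U.isOpen hxU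
  have hfU : f ⁻¹ᵁ U = ⊤ := by
    ext z
    simp only [TopologicalSpace.Opens.coe_top, Set.mem_univ, iff_true]
    exact (fromSpecStalk_generic_specializes X z).mem_open U.isOpen hηU
  letI := (f.app U).hom.toAlgebra
  let e := f.normalizationObjIso hU
  let eL : Γ(Spec (X.presheaf.stalk (genericPoint X)), f ⁻¹ᵁ U) ≅ X.presheaf.stalk (genericPoint X) :=
    (Spec (X.presheaf.stalk (genericPoint X))).presheaf.mapIso (eqToIso (congrArg Opposite.op hfU)) ≪≫
      Scheme.ΓSpecIso _
  haveI : IsDomain Γ(Spec (X.presheaf.stalk (genericPoint X)), f ⁻¹ᵁ U) :=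
    MulEquiv.isDomain _ eL.commRingCatIsoToRingEquiv.toMulEquiv
  haveI : IsIntegrallyClosed Γ(Spec (X.presheaf.stalk (genericPoint X)), f ⁻¹ᵁ U) :=
    IsIntegrallyClosed.of_equiv eL.symm.commRingCatIsoToRingEquiv
  haveI : IsIntegrallyClosed (integralClosure Γ(X, U)
      Γ(Spec (X.presheaf.stalk (genericPoint X)), f ⁻¹ᵁ U)) :=
    IsIntegrallyClosed.of_isIntegrallyClosed_of_isIntegrallyClosedIn
      (R := integralClosure Γ(X, U) Γ(Spec (X.presheaf.stalk (genericPoint X)), f ⁻¹ᵁ U))
      (S := Γ(Spec (X.presheaf.stalk (genericPoint X)), f ⁻¹ᵁ U))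
  haveI : IsIntegrallyClosed Γ(f.normalization, ν ⁻¹ᵁ U) :=
    IsIntegrallyClosed.of_equiv e.symm.commRingCatIsoToRingEquiv
  have hxW : x ∈ ν ⁻¹ᵁ U := hxU
  haveI : IsIntegral f.normalization := inferInstance
  haveI : IsDomain Γ(f.normalization, ν ⁻¹ᵁ U) :=
    @IsIntegral.component_integral f.normalization _ (ν ⁻¹ᵁ U) ⟨⟨x, hxW⟩⟩
  letI := TopCat.Presheaf.algebra_section_stalk f.normalization.presheaf ⟨x, hxW⟩
  haveI : IsLocalization.AtPrime (f.normalization.presheaf.stalk x)
      (hW.primeIdealOf ⟨x, hxW⟩).asIdeal := hW.isLocalization_stalk ⟨x, hxW⟩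
  exact isIntegrallyClosed_of_isLocalization (f.normalization.presheaf.stalk x)
    (hW.primeIdealOf ⟨x, hxW⟩).asIdeal.primeCompl (Ideal.primeCompl_le_nonZeroDivisors _)


end helpers

/-- If `j ≫ ν` is surjective on stalks, then the residue field map of `ν` at `j pt` is surjective. -/
lemma resField_surj {S N Y : Scheme.{u}} (j : S ⟶ N) (ν : N ⟶ Y) [SurjectiveOnStalks (j ≫ ν)]
    (pt : S) : Function.Surjective (ν.residueFieldMap (j pt)).hom := by
  have h1 : Function.Surjective ((j ≫ ν).residueFieldMap pt).hom := by
    intro z
    obtain ⟨w, rfl⟩ := S.residue_surjective pt z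
    obtain ⟨v, rfl⟩ := (j ≫ ν).stalkMap_surjective pt w
    refine ⟨Y.residue _ v, ?_⟩
    exact ConcreteCategory.congr_hom (Scheme.residue_residueFieldMap (j ≫ ν) pt) v
  rw [Scheme.residueFieldMap_comp] at h1
  intro z
  obtain ⟨w, hw⟩ := h1 ((j.residueFieldMap pt).hom z)
  refine ⟨w, ?_⟩
  apply (j.residueFieldMap pt).hom.injective
  exact hw



/-- Let X be an integral scheme and X' → X its normalization (integral closure of X in its function
field). Then X' is integral with integrally closed local rings, the morphism X' → X is surjective,
maps the generic point to the generic point and induces a bijection between the residue fields of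
the generic points. (The quasi-compactness/quasi-separatedness binders on Spec K(X) → X always hold;
they are only needed to form Mathlib's relative normalization.) -/
theorem result (X : Scheme.{u}) [IsIntegral X]
    [QuasiCompact (X.fromSpecStalk (genericPoint X))] [QuasiSeparated (X.fromSpecStalk (genericPoint X))] :
    ∃ (_ : IsIntegral (Curv2.normalization X)), Pi1.IsNormalScheme (Curv2.normalization X) ∧ Surjective (Curv2.normalizationι X) ∧
      ∃ hgen : (Curv2.normalizationι X).base (genericPoint (Curv2.normalization X)) = genericPoint X,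
        Function.Bijective ((Curv2.normalizationι X).residueFieldMap (genericPoint (Curv2.normalization X))).hom := by
  let f := X.fromSpecStalk (genericPoint X)
  have hI : IsIntegral (Curv2.normalization X) := inferInstance
  refine ⟨hI, normal X, surj X, map_generic (Curv2.normalizationι X), ?_⟩
  have hpre : SurjectiveOnStalks (f.toNormalization ≫ f.fromNormalization) := by
    rw [Scheme.Hom.toNormalization_fromNormalization]; infer_instance
  have hI' : IsIntegral f.normalization := hI
  have hj : f.toNormalization (genericPoint (Spec (X.presheaf.stalk (genericPoint X)))) =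
      genericPoint f.normalization := map_generic f.toNormalization
  have hs := resField_surj f.toNormalization f.fromNormalization
    (genericPoint (Spec (X.presheaf.stalk (genericPoint X))))
  rw [hj] at hs
  exact ⟨(f.fromNormalization.residueFieldMap (genericPoint f.normalization)).hom.injective, hs⟩

end Groth.Agent.S2351
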