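import Groth.Statements.S2353
import Groth.Agent.Lib.Helper41.ValCenterExt
import Groth.Agent.Lib.Helper41.ValComap

set_option autoImplicit false
universe u
open CategoryTheory CategoryTheory.Limits AlgebraicGeometry
open EGA2

namespace Groth.Agent.S2353

/-- Let Y be an integral separated locally Noetherian scheme, X an integral separated scheme and f : X →
Y dominant and of finite type, with generic point ξ of X. Suppose that for every discrete valuation
subring R of the function field K(X) and every point y of Y such that R dominates the local ring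
O_{Y,y} (through O_{Y,y} → O_{Y,f(ξ)} → K(X): the image lies in R and the maximal ideal maps into
the maximal ideal of R), there is a point x of X whose local ring is dominated by R (through O_{X,x}
→ K(X)). Then f is proper. -/
theorem result {X Y : Scheme.{u}} [IsIntegral X] [IsIntegral Y] [X.IsSeparated] [Y.IsSeparated]
    [IsLocallyNoetherian Y] (f : X ⟶ Y) [IsDominant f] [LocallyOfFiniteType f] [QuasiCompact f]
    (h : ∀ (R : ValuationSubring X.functionField), IsDiscreteValuationRing R →
      ∀ (y : Y) (hy : f.base (genericPoint X) ⤳ y), ((∀ a : (Y.presheaf.stalk y), (Y.presheaf.stalkSpecializes hy ≫ f.stalkMap (genericPoint X)).hom a ∈ R) ∧ ∀ a ∈ IsLocalRing.maximalIdeal (Y.presheaf.stalk y), R.valuation ((Y.presheaf.stalkSpecializes hy ≫ f.stalkMap (genericPoint X)).hom a) < 1) →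
        ∃ x : X, ((∀ a : (X.presheaf.stalk x), algebraMap (X.presheaf.stalk x) X.functionField a ∈ R) ∧ ∀ a ∈ IsLocalRing.maximalIdeal (X.presheaf.stalk x), R.valuation (algebraMap (X.presheaf.stalk x) X.functionField a) < 1)) :
    IsProper f := by
  refine Groth.Agent.Lib.Helper41.ValCenter.isProper_of_dvrLiftAt f
    (fun x₁ => ⟨genericPoint X, genericPoint_specializes x₁, ?_⟩)
  intro A hA y hy
  have := hA
  let ξ : X := genericPoint X
  let e : X.functionField →+* X.residueField ξ := (X.residue ξ).hom
  have he : Function.Bijective e := ⟨e.injective, X.residue_surjective ξ⟩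
  let R : ValuationSubring X.functionField := A.comap e
  have hR : IsDiscreteValuationRing R :=
    Groth.Agent.Lib.Helper41.ValComap.isDiscreteValuationRing_comap e he A
  set y₀ := y.base (IsLocalRing.closedPoint A) with hy₀def
  have hgen : f.base ξ = y.base ((Spec.map (CommRingCat.ofHom A.subtype)).base
      (IsLocalRing.closedPoint (X.residueField ξ))) := by
    have h1 := congrArg (fun q => q.base (IsLocalRing.closedPoint (X.residueField ξ))) hy
    refine (Eq.trans ?_ h1.symm)
    change f.base ξ = f.base ((X.fromSpecResidueField ξ).base _)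
    rw [Scheme.fromSpecResidueField_apply]
  have hy₀ : f.base ξ ⤳ y₀ := by
    rw [hgen]
    exact (IsLocalRing.specializes_closedPoint _).map y.continuous
  let σ : Y.presheaf.stalk y₀ ⟶ CommRingCat.of A := Scheme.stalkClosedPointTo y
  have hσ : Spec.map σ ≫ Y.fromSpecStalk y₀ = y := Scheme.Spec_stalkClosedPointTo_fromSpecStalk y
  have hring : σ ≫ CommRingCat.ofHom A.subtype =
      Groth.Agent.Lib.Helper50.specResMap f ξ y₀ hy₀ := by
    apply Spec.map_injective
    apply (cancel_mono (Y.fromSpecStalk y₀)).1
    rw [Spec.map_comp, Category.assoc, hσ, hy,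
      Groth.Agent.Lib.Helper50.SpecMap_specResMap_fromSpecStalk]
  have hval : ∀ a : Y.presheaf.stalk y₀,
      e ((Y.presheaf.stalkSpecializes hy₀ ≫ f.stalkMap ξ).hom a) =
        ((σ.hom a : A) : X.residueField ξ) := fun a => (congr($hring a)).symm
  obtain ⟨x, hxmem, hxlt⟩ := h R hR y₀ hy₀ ⟨fun a => by
      change e ((Y.presheaf.stalkSpecializes hy₀ ≫ f.stalkMap ξ).hom a) ∈ A
      rw [hval]
      exact (σ.hom a).2, fun a ha => by
      rw [Groth.Agent.Lib.Helper41.ValComap.valuation_comap_lt_one_iff, hval]
      have hlocσ : IsLocalHom σ.hom :=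
        inferInstanceAs (IsLocalHom (Scheme.stalkClosedPointTo y).hom)
      have h1 : σ.hom a ∈ IsLocalRing.maximalIdeal A := by
        rw [IsLocalRing.mem_maximalIdeal, mem_nonunits_iff] at ha ⊢
        exact fun hu => ha (hlocσ.map_nonunit a hu)
      exact (A.valuation_lt_one_iff _).mp h1⟩
  have hx : ξ ⤳ x := genericPoint_specializes x
  have hcen : Groth.Agent.Lib.Helper41.ValCenter.HasCenterIn (⊤ : X.Opens) ξ A := by
    refine Groth.Agent.Lib.Helper41.ValCenter.hasCenterIn_of_stalk (X₀ := ⊤) hx trivial (fun a => ?_)
      (fun a ha => ?_)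
    · exact hxmem a
    · have := hxlt a ha
      rwa [Groth.Agent.Lib.Helper41.ValComap.valuation_comap_lt_one_iff] at this
  obtain ⟨l, hl, -⟩ := hcen
  refine ⟨l, ?_, hl⟩
  have hU := IsSeparated.valuativeCriterion (terminal.from Y)
  have hc : CommSq (X.fromSpecResidueField ξ ≫ f)
      (Spec.map (CommRingCat.ofHom (algebraMap A (X.residueField ξ)))) (terminal.from Y)
      (terminal.from (Spec (CommRingCat.of A))) := ⟨terminal.hom_ext _ _⟩
  have hsub := hU { R := A, K := X.residueField ξ, commSq := hc, .. }
  have := hsub.elim ⟨l ≫ f, by rw [← Category.assoc]; exact congrArg (· ≫ f) hl,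
    terminal.hom_ext _ _⟩ ⟨y, hy, terminal.hom_ext _ _⟩
  exact congrArg CommSq.LiftStruct.l this

end Groth.Agent.S2353
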