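import Groth.Statements.S2356
import Groth.Agent.Lib.Helper2.Semilocal
import Groth.Agent.S4436

set_option autoImplicit false
universe u
open CategoryTheory CategoryTheory.Limits AlgebraicGeometry
open EGA2

namespace Groth.Agent.S2356

open Groth.Agent.Lib.Helper2.RankSections Groth.Agent.Lib.Helper2.Semilocal
  Groth.Agent.Lib.Helper2.FinLocFreeAff Groth.Agent.Lib.Lead


/-- Let Y be a scheme, E a locally free O_Y-module of rank r, and Z a finite set of points of Y
contained in an affine open V. Then there is an open neighbourhood U ⊆ V of Z on which E is free of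
rank r. -/
theorem result (Y : Scheme.{u}) (r : ℕ) (E : Y.Modules) (hE : FlatMod.IsFinLocFreeOfRank r E)
    (Z : Set Y) (hZ : Z.Finite) (V : Y.Opens) (hV : IsAffineOpen V) (hZV : Z ⊆ V) :
    ∃ U : Y.Opens, Z ⊆ U ∧ U ≤ V ∧ Nonempty (E.restrict U.ι ≅ FlatMod.freeMod (U : Scheme.{u}) r) := by
  classical
  haveI : E.IsQuasicoherent := isQuasicoherent_of_isFinLocFree E (isFinLocFree_of_rank hE)
  haveI := finitePresentation_sections_of_isFinLocFree E (isFinLocFree_of_rank hE) hV
  haveI := projective_sections_of_isFinLocFree E (isFinLocFree_of_rank hE) hV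
  haveI : Fintype Z := hZ.fintype
  let s : Finset (Ideal Γ(Y, V)) :=
    Finset.univ.image (fun z : Z => (hV.primeIdealOf ⟨z.1, hZV z.2⟩).asIdeal)
  have hs : ∀ p ∈ s, p.IsPrime := by
    intro p hp
    obtain ⟨z, -, rfl⟩ := Finset.mem_image.1 hp
    exact (hV.primeIdealOf ⟨z.1, hZV z.2⟩).isPrime
  haveI := finite_maximalSpectrum_avoid s hs
  obtain ⟨b, hb, ⟨bs⟩⟩ := exists_basis_away_of_semilocal (B := Γ(Y, V)) (M := Γ(E, V)) r
    (fun q => rankAtStalk_sections_eq E r hE hV q) (avoid s hs)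
  refine ⟨Y.basicOpen b, ?_, Y.basicOpen_le b,
    Groth.Agent.S4436.iso_freeMod_basicOpen_of_basis E hV b r bs⟩
  intro z hz
  refine (QCohAff.mem_basicOpen_iff_notMem_primeIdealOf hV z (hZV hz) b).2 ?_
  exact hb _ (Finset.mem_image.2 ⟨⟨z, hz⟩, Finset.mem_univ _, rfl⟩)

end Groth.Agent.S2356
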