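import Groth.Statements.S2357
-- import your own Groth.Agent.* helpers here

set_option autoImplicit false
universe u
open CategoryTheory CategoryTheory.Limits AlgebraicGeometry
open EGA2

namespace Groth.Agent.S2357

open DirectSum in
theorem finiteType_of_noeth {R A : Type u} [CommRing R] [CommRing A] [Algebra R A]
    (𝒜 : ℕ → Submodule R A) [GradedAlgebra 𝒜] [IsNoetherianRing A] :
    Algebra.FiniteType (𝒜 0) A := by
  classical
  -- the irrelevant ideal is finitely generated by homogeneous elements of positive degree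
  have hfg : (Ideal.span (⋃ i > 0, (𝒜 i : Set A))).FG := IsNoetherian.noetherian _
  obtain ⟨T, hTsub, hT⟩ := (Submodule.fg_span_iff_fg_span_finset_subset _).mp hfg
  have hTdeg : ∀ t ∈ T, ∃ n : ℕ, 0 < n ∧ t ∈ 𝒜 n := by
    intro t ht
    have := hTsub ht
    simp only [Set.mem_iUnion, SetLike.mem_coe, exists_prop] at this
    exact this
  choose! n hn hnt using hTdeg
  refine ⟨⟨T, ?_⟩⟩
  set S := Algebra.adjoin (𝒜 0) (T : Set A) with hS
  have key : ∀ d : ℕ, ∀ x ∈ 𝒜 d, x ∈ S := by
    intro d
    induction d using Nat.strong_induction_on with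
    | _ d ih =>
      intro x hx
      rcases Nat.eq_zero_or_pos d with rfl | hd
      · exact Subalgebra.algebraMap_mem S (⟨x, hx⟩ : 𝒜 0)
      · have hxI : x ∈ Ideal.span (⋃ i > 0, (𝒜 i : Set A)) :=
          Ideal.subset_span (by simp only [Set.mem_iUnion, SetLike.mem_coe, exists_prop]; exact ⟨d, hd, hx⟩)
        have hxI' : x ∈ Submodule.span A (T : Set A) := hT ▸ hxI
        obtain ⟨a, -, ha⟩ := Submodule.mem_span_finset.mp hxI'
        have hx' : x = ((decompose 𝒜 x d : 𝒜 d) : A) := by
          rw [decompose_of_mem_same 𝒜 hx]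
        rw [hx', ← ha, decompose_sum, DFinsupp.finsetSum_apply, AddSubmonoidClass.coe_finsetSum]
        refine Subalgebra.sum_mem _ fun t ht => ?_
        rw [smul_eq_mul, coe_decompose_mul_of_right_mem 𝒜 d (hnt t ht)]
        split_ifs with hle
        · refine Subalgebra.mul_mem _ (ih (d - n t) ?_ _ (SetLike.coe_mem _)) (Algebra.subset_adjoin ht)
          have := hn t ht
          omega
        · exact Subalgebra.zero_mem _
  rw [eq_top_iff]
  intro x _
  rw [← sum_support_decompose 𝒜 x]
  exact Subalgebra.sum_mem _ fun i _ => key i _ (SetLike.coe_mem _)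

/-- If A is a graded ring which is Noetherian, then Proj A is a Noetherian scheme. -/
theorem result {R A : Type u} [CommRing R] [CommRing A] [Algebra R A] (𝒜 : ℕ → Submodule R A) [GradedAlgebra 𝒜] [IsNoetherianRing A] :
    IsNoetherian (Proj 𝒜) := by
  have := finiteType_of_noeth 𝒜
  have : IsNoetherianRing (𝒜 0) := isNoetherianRing_of_surjective
    A (𝒜 0) (GradedRing.projZeroRingHom' 𝒜) (GradedRing.projZeroRingHom'_surjective 𝒜)
  have : IsLocallyNoetherian (Proj 𝒜) := LocallyOfFiniteType.isLocallyNoetherian (Proj.toSpecZero 𝒜)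
  have : CompactSpace (Proj 𝒜) := QuasiCompact.compactSpace_of_compactSpace (Proj.toSpecZero 𝒜)
  exact {}

end Groth.Agent.S2357
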