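import Groth.Statements.S2358
-- import your own Groth.Agent.* helpers here

set_option autoImplicit false
universe u
open CategoryTheory CategoryTheory.Limits AlgebraicGeometry
open EGA2

namespace Groth.Agent.S2358

theorem affine_case {W Y : Scheme.{u}} [IsAffine W] [IsIntegral W]
    (hW : IsIntegrallyClosed Γ(W, ⊤)) (g : Y ⟶ W) [IsIntegralHom g]
    (U : W.Opens) [Nonempty U] (s : (U : Scheme.{u}) ⟶ Y) (hs : s ≫ g = U.ι) :
    ∃ t : W ⟶ Y, t ≫ g = 𝟙 W ∧ U.ι ≫ t = s := by
  have : IsAffine Y := isAffine_of_isAffineHom g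
  have : Nonempty (⊤ : W.Opens) := ⟨⟨(Classical.arbitrary U).1, trivial⟩⟩
  have hφσ : g.appTop ≫ s.appTop = U.ι.appTop := by rw [← Scheme.Hom.comp_appTop, hs]
  have hφint : g.appTop.hom.IsIntegral := by
    have := IsIntegralHom.isIntegral_app g ⊤ (isAffineOpen_top W)
    exact this
  let j : Γ(U, ⊤) ⟶ W.functionField := U.topIso.hom ≫ W.germToFunctionField U
  have hj : Function.Injective j := by
    intro a b hab
    have := W.germToFunctionField_injective U hab
    exact (ConcreteCategory.bijective_of_isIso U.topIso.hom).1 this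
  have hρj : U.ι.appTop ≫ j = W.germToFunctionField ⊤ := by
    simp only [j, Scheme.Opens.ι_appTop, Scheme.Opens.topIso_hom]
    erw [TopCat.Presheaf.germ_res, TopCat.Presheaf.germ_res]
  have := functionField_isFractionRing_of_isAffineOpen W ⊤ (isAffineOpen_top W)
  -- key: every σ b is in the range of ρ
  have key : ∀ b : Γ(Y, ⊤), ∃ a : Γ(W, ⊤), U.ι.appTop a = s.appTop b := by
    intro b
    obtain ⟨p, hp, hpb⟩ := hφint b
    have hint : IsIntegral Γ(W, ⊤) (j (s.appTop b)) := by
      refine ⟨p, hp, ?_⟩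
      have h1 : (algebraMap Γ(W, ⊤) W.functionField) =
          (j.hom.comp s.appTop.hom).comp g.appTop.hom := by
        change (W.germToFunctionField ⊤).hom = _
        rw [← hρj, ← hφσ]
        rfl
      rw [h1]
      have := Polynomial.hom_eval₂ p g.appTop.hom (j.hom.comp s.appTop.hom) b
      rw [hpb, map_zero] at this
      exact this.symm
    obtain ⟨a, ha⟩ := IsIntegrallyClosed.algebraMap_eq_of_integral hint
    refine ⟨a, hj ?_⟩
    rw [← ha]
    change (U.ι.appTop ≫ j) a = _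
    rw [hρj]
    rfl
  have hρinj : Function.Injective U.ι.appTop := by
    intro a b hab
    apply W.germToFunctionField_injective ⊤
    rw [← hρj]
    change j (U.ι.appTop a) = j (U.ι.appTop b)
    rw [hab]
  choose ψ hψ using key
  let ψ' : Γ(Y, ⊤) →+* Γ(W, ⊤) :=
    { toFun := ψ
      map_one' := hρinj (by rw [hψ, map_one, map_one])
      map_mul' := fun a b => hρinj (by rw [hψ, map_mul, map_mul, hψ, hψ])
      map_zero' := hρinj (by rw [hψ, map_zero, map_zero])
      map_add' := fun a b => hρinj (by rw [hψ, map_add, map_add, hψ, hψ]) }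
  let t : W ⟶ Y := W.toSpecΓ ≫ Spec.map (CommRingCat.ofHom ψ') ≫ Y.isoSpec.inv
  have hY : Y.isoSpec.inv.appTop = (Scheme.ΓSpecIso Γ(Y, ⊤)).inv := by
    have h1 := congr_arg Scheme.Hom.appTop Y.isoSpec.hom_inv_id
    rw [Scheme.Hom.comp_appTop, Scheme.isoSpec_hom, Scheme.toSpecΓ_appTop] at h1
    rw [← cancel_mono (Scheme.ΓSpecIso Γ(Y, ⊤)).hom, h1, Iso.inv_hom_id]
    rfl
  have ht : t.appTop = CommRingCat.ofHom ψ' := by
    simp only [t, Scheme.Hom.comp_appTop, hY, Scheme.toSpecΓ_appTop, Category.assoc]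
    rw [Scheme.ΓSpecIso_naturality]
    exact Iso.inv_hom_id_assoc (Scheme.ΓSpecIso Γ(Y, ⊤)) _
  refine ⟨t, ?_, ?_⟩
  · apply ext_of_isAffine
    rw [Scheme.Hom.comp_appTop, ht]
    ext a
    apply hρinj
    change U.ι.appTop (ψ (g.appTop a)) = U.ι.appTop a
    rw [hψ, ← hφσ]
    rfl
  · apply ext_of_isAffine
    rw [Scheme.Hom.comp_appTop, ht]
    ext b
    exact hψ b

theorem normal_chart {X : Scheme.{u}} [IsIntegral X] (hX : Pi1.IsNormalScheme X)
    (R : CommRingCat.{u}) (f : Spec R ⟶ X) [IsOpenImmersion f] [Nonempty (Spec R)] :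
    IsIntegral (Spec R) ∧ IsIntegrallyClosed Γ(Spec R, ⊤) := by
  have hint : IsIntegral (Spec R) := isIntegral_of_isOpenImmersion f
  refine ⟨hint, ?_⟩
  have : IsDomain R := (affine_isIntegral_iff R).mp hint
  suffices h : IsIntegrallyClosed R from
    IsIntegrallyClosed.of_equiv (Scheme.ΓSpecIso R).symm.commRingCatIsoToRingEquiv
  refine IsIntegrallyClosed.of_localization_maximal fun p _ hp => ?_
  let x : Spec R := ⟨p, hp.isPrime⟩
  letI k : Algebra ↑R ↑((Spec R).presheaf.stalk x) := StructureSheaf.stalkAlgebra (↑R) x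
  have : IsLocalization.AtPrime (↑((Spec R).presheaf.stalk x)) p :=
    StructureSheaf.IsLocalization.to_stalk R x
  have : IsIntegrallyClosed (X.presheaf.stalk (f x)) := (hX (f x)).2
  have : IsIntegrallyClosed ((Spec R).presheaf.stalk x) :=
    IsIntegrallyClosed.of_equiv (asIso (f.stalkMap x)).commRingCatIsoToRingEquiv
  exact IsIntegrallyClosed.of_equiv
    (IsLocalization.algEquiv p.primeCompl ((Spec R).presheaf.stalk x) (Localization.AtPrime p)).toRingEquiv

theorem chart {X X' : Scheme.{u}} [IsIntegral X] (hX : Pi1.IsNormalScheme X)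
    (g : X' ⟶ X) [IsIntegralHom g] (U : X.Opens) (hU : Dense (U : Set X))
    (s : (U : Scheme.{u}) ⟶ X') (hs : s ≫ g = U.ι)
    (R : CommRingCat.{u}) (f : Spec R ⟶ X) [IsOpenImmersion f] :
    ∃ t : Spec R ⟶ X', t ≫ g = f ∧ ∀ (T : Scheme.{u}) (a : T ⟶ Spec R) (b : T ⟶ U),
      a ≫ f = b ≫ U.ι → a ≫ t = b ≫ s := by
  by_cases hne : Nonempty (Spec R)
  · obtain ⟨hint, hic⟩ := normal_chart hX R f
    let V : (Spec R).Opens := f ⁻¹ᵁ U
    have : Nonempty V := by
      obtain ⟨y, ⟨x, rfl⟩, hyU⟩ := hU.inter_open_nonempty _ f.isOpenEmbedding.isOpen_range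
        (Set.range_nonempty _)
      exact ⟨⟨x, hyU⟩⟩
    let sV : (V : Scheme.{u}) ⟶ pullback g f :=
      pullback.lift ((f ∣_ U) ≫ s) V.ι (by rw [Category.assoc, hs, morphismRestrict_ι])
    obtain ⟨t0, ht0, ht0'⟩ := affine_case hic (pullback.snd g f) V sV (pullback.lift_snd _ _ _)
    refine ⟨t0 ≫ pullback.fst g f, ?_, ?_⟩
    · rw [Category.assoc, pullback.condition, ← Category.assoc, ht0, Category.id_comp]
    · intro T a b hab
      let a' : T ⟶ V := pullback.lift a b hab ≫ (pullbackRestrictIsoRestrict f U).hom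
      have ha1 : a' ≫ V.ι = a := by
        simp only [a', Category.assoc, V]
        rw [pullbackRestrictIsoRestrict_hom_ι, pullback.lift_fst]
      have ha2 : a' ≫ (f ∣_ U) = b := by
        simp only [a', Category.assoc]
        rw [pullbackRestrictIsoRestrict_hom_morphismRestrict, pullback.lift_snd]
      rw [← ha1, Category.assoc, ← Category.assoc V.ι, ht0', pullback.lift_fst,
        ← Category.assoc, ha2]
  · haveI : IsEmpty (Spec R) := not_nonempty_iff.mp hne
    refine ⟨(isInitialOfIsEmpty (X := Spec R)).to X', (isInitialOfIsEmpty).hom_ext _ _, ?_⟩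
    intro T a b _
    have : IsEmpty T := Function.isEmpty a.base
    exact (isInitialOfIsEmpty).hom_ext _ _

/-- Let X be an integral normal scheme, g : X' → X an integral morphism, U a dense open of X and s : U →
X' a section of g over U. Then there is a section of g over all of X extending s. -/
theorem result {X X' : Scheme.{u}} [IsIntegral X] (hX : Pi1.IsNormalScheme X)
    (g : X' ⟶ X) [IsIntegralHom g] (U : X.Opens) (hU : Dense (U : Set X)) (s : (U : Scheme.{u}) ⟶ X') (hs : s ≫ g = U.ι) :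
    ∃ s' : X ⟶ X', s' ≫ g = 𝟙 X ∧ U.ι ≫ s' = s := by
  let 𝒜 := X.affineOpenCover
  let 𝒰 : X.OpenCover := 𝒜.openCover
  have hchart : ∀ i : 𝒰.I₀, ∃ t : 𝒰.X i ⟶ X', t ≫ g = 𝒰.f i ∧
      ∀ (T : Scheme.{u}) (a : T ⟶ 𝒰.X i) (b : T ⟶ U), a ≫ 𝒰.f i = b ≫ U.ι → a ≫ t = b ≫ s :=
    fun i => by
      have : IsOpenImmersion (𝒜.f i) := 𝒜.map_prop i
      exact chart hX g U hU s hs (𝒜.X i) (𝒜.f i)
  choose t ht hP using hchart
  have compat : ∀ i j, pullback.fst (𝒰.f i) (𝒰.f j) ≫ t i = pullback.snd (𝒰.f i) (𝒰.f j) ≫ t j := by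
    intro i j
    let h : pullback (𝒰.f i) (𝒰.f j) ⟶ X := pullback.fst (𝒰.f i) (𝒰.f j) ≫ 𝒰.f i
    have : IsReduced (pullback (𝒰.f i) (𝒰.f j)) := isReduced_of_isOpenImmersion h
    have : IsDominant (pullback.fst h U.ι) := by
      refine ⟨?_⟩
      rw [DenseRange, Scheme.Pullback.range_fst, Scheme.Opens.range_ι]
      exact hU.preimage h.isOpenEmbedding.isOpenMap
    refine ext_of_isDominant_of_isSeparated g ?_ (pullback.fst h U.ι) ?_
    · rw [Category.assoc, Category.assoc, ht, ht]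
      exact pullback.condition
    · have e1 := hP i _ (pullback.fst h U.ι ≫ pullback.fst (𝒰.f i) (𝒰.f j)) (pullback.snd h U.ι)
          (by rw [Category.assoc]; exact pullback.condition)
      have e2 := hP j _ (pullback.fst h U.ι ≫ pullback.snd (𝒰.f i) (𝒰.f j)) (pullback.snd h U.ι)
          (by rw [Category.assoc, ← pullback.condition]; exact pullback.condition)
      rw [Category.assoc] at e1 e2
      rw [e1, e2]
  refine ⟨𝒰.glueMorphisms t compat, ?_, ?_⟩
  · refine 𝒰.hom_ext _ _ fun i => ?_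
    rw [← Category.assoc, Scheme.Cover.ι_glueMorphisms, Category.comp_id]
    exact ht i
  · refine Scheme.Cover.hom_ext (𝒰.pullback₂ U.ι) _ _ fun (i : 𝒰.I₀) => ?_
    change pullback.snd (𝒰.f i) U.ι ≫ U.ι ≫ _ = pullback.snd (𝒰.f i) U.ι ≫ s
    rw [← pullback.condition_assoc, Scheme.Cover.ι_glueMorphisms]
    exact hP i _ _ _ pullback.condition

end Groth.Agent.S2358
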