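import Groth.Statements.S2453
-- import your own Groth.Agent.* helpers here
import Groth.Agent.Lib.Helper49.FSRegular
import Groth.Agent.Lib.Helper61.FSAdicCompl
import Groth.Agent.Lib.Helper77.RegularPowerSeries
import Groth.Agent.S0548
import Groth.Agent.S0543
import Mathlib.RingTheory.AdicCompletion.LocalRing

set_option autoImplicit false
universe u
open EGA41

namespace Groth.Agent.S2453

open Groth.Agent.Lib.Helper49.FSRegular

open IsLocalRing in
theorem isRegularLocalRing_mvPowerSeries (K : Type u) [Field K] (n : ℕ) :
    IsRegularLocalRing (MvPowerSeries (Fin n) K) := by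
  have := Groth.Agent.Lib.Helper77.RegularPowerSeries.isRegularRing_mvPowerSeries K n
  exact IsRegularLocalRing.of_isRegularRing_of_isLocalRing _

open IsLocalRing in
/-- Let k be a field and A a Noetherian local k-algebra with maximal ideal 𝔪 and residue field K
separable over k; give A the 𝔪-adic topology (k discrete). The following are equivalent: (a) A is
formally smooth over k; (b) the 𝔪-adic completion of A is isomorphic to some K[[T_1, …, T_n]] by an
isomorphism carrying the image of k in A to the image of k under k → K → K[[T]]; (b') the completion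
is isomorphic as a ring to some K[[T_1, …, T_n]]; (c) A is a regular local ring. -/
theorem result {k A : Type u} [Field k] [CommRing A] [IsLocalRing A] [IsNoetherianRing A] [Algebra k A]
    [Algebra.IsGeometricallyReduced k (ResidueField A)] :
    [CAlgX.IsAdicFormallySmooth k A (maximalIdeal A),
     ∃ (n : ℕ) (e : AdicCompletion (maximalIdeal A) A ≃+* MvPowerSeries (Fin n) (ResidueField A)),
       ∀ x : k, e (algebraMap A (AdicCompletion (maximalIdeal A) A) (algebraMap k A x)) =
         algebraMap (ResidueField A) (MvPowerSeries (Fin n) (ResidueField A)) (algebraMap k (ResidueField A) x),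
     ∃ n : ℕ, Nonempty (AdicCompletion (maximalIdeal A) A ≃+* MvPowerSeries (Fin n) (ResidueField A)),
     IsRegularLocalRing A].TFAE := by
  haveI : IsNoetherianRing (AdicCompletion (maximalIdeal A) A) :=
    Groth.Agent.S0543.result A (maximalIdeal A)
  haveI : Algebra.FormallySmooth k (ResidueField A) :=
    Groth.Agent.Lib.Helper49.MacLane.formallySmooth_of_geomReduced
  let f : ResidueField A →ₐ[k]
      AdicCompletion (maximalIdeal A) A ⧸ maximalIdeal (AdicCompletion (maximalIdeal A) A) :=
    { toFun := fun x => ResidueField.map (algebraMap A (AdicCompletion (maximalIdeal A) A)) x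
      map_one' := map_one _
      map_mul' := map_mul _
      map_zero' := map_zero _
      map_add' := map_add _
      commutes' := fun x => by
        change ResidueField.map (algebraMap A (AdicCompletion (maximalIdeal A) A))
          (residue A (algebraMap k A x)) = _
        rw [ResidueField.map_residue, ← IsScalarTower.algebraMap_apply]
        rfl }
  have hf : Function.Surjective f := (AdicCompletion.residueField_map_bijective A).surjective
  have hmax := AdicCompletion.maximalIdeal_eq_map (R := A)
  have hfg : (maximalIdeal A).FG := IsNoetherian.noetherian _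
  tfae_have 1 → 4 := by
    intro h
    have h1 := Groth.Agent.Lib.Helper61.FSCompl.to_completion (maximalIdeal A) hfg h
    rw [← hmax] at h1
    have h2 := isRegularLocalRing_of_isAdicFormallySmooth f hf h1
    exact (Groth.Agent.S0548.result A).mpr h2
  tfae_have 4 → 1 := by
    intro h
    have h2 := (Groth.Agent.S0548.result A).mp h
    have h1 := isAdicFormallySmooth_of_isRegularLocalRing f hf h2
    rw [hmax] at h1
    exact Groth.Agent.Lib.Helper61.FSCompl.of_completion (maximalIdeal A) h1
  tfae_have 4 → 2 := by
    intro h
    have h2 := (Groth.Agent.S0548.result A).mp h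
    obtain ⟨d, ⟨e⟩⟩ := exists_algEquiv_of_isRegularLocalRing f hf h2
    refine ⟨d, e.symm.toRingEquiv, fun x => ?_⟩
    rw [← IsScalarTower.algebraMap_apply k A (AdicCompletion (maximalIdeal A) A),
      ← IsScalarTower.algebraMap_apply k (ResidueField A)
        (MvPowerSeries (Fin d) (ResidueField A))]
    exact e.symm.commutes x
  tfae_have 2 → 3 := by
    rintro ⟨n, e, -⟩
    exact ⟨n, ⟨e⟩⟩
  tfae_have 3 → 4 := by
    rintro ⟨n, ⟨e⟩⟩
    have h1 := isRegularLocalRing_mvPowerSeries (ResidueField A) n
    have h2 : IsRegularLocalRing (AdicCompletion (maximalIdeal A) A) :=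
      IsRegularLocalRing.of_ringEquiv e.symm
    exact (Groth.Agent.S0548.result A).mpr h2
  tfae_finish

end Groth.Agent.S2453
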