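import Groth.Statements.S2455
-- import your own Groth.Agent.* helpers here
import Groth.Agent.S2363
import Groth.Agent.S2454
import Groth.Agent.S0543
import Groth.Agent.Lib.Helper61.FSAdicComplete
import Groth.Agent.Lib.Helper6.LocalFlat3

set_option autoImplicit false
universe u
open EGA41

namespace Groth.Agent.S2455

open IsLocalRing

theorem unique {A : Type u} [CommRing A] [IsLocalRing A] (B B' : Type u) [CommRing B]
    [IsLocalRing B] [Algebra A B] [IsLocalHom (algebraMap A B)] [CommRing B'] [IsLocalRing B']
    [Algebra A B'] [IsLocalHom (algebraMap A B')] (hB : EGA41.IsCohenAlgebra A B)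
    (hB' : EGA41.IsCohenAlgebra A B')
    (ε : ResidueField B ≃ₐ[ResidueField A] ResidueField B') : Nonempty (B ≃ₐ[A] B') := by
  have hfs := Groth.Agent.S2454.result hB
  obtain ⟨hNA, hNB, hcB, hflatB, hmapB, -⟩ := hB
  obtain ⟨-, hNB', hcB', hflatB', hmapB', -⟩ := hB'
  have hlifts := (Groth.Agent.Lib.Helper61.FSAdic.ega_iff _ _).mp hfs
  let u : B →+* B' ⧸ maximalIdeal B' := (ε : ResidueField B →+* ResidueField B').comp (residue B)
  have hu : u.comp (algebraMap A B) = (Ideal.Quotient.mk (maximalIdeal B')).comp (algebraMap A B') := by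
    ext a
    change ε (residue B (algebraMap A B a)) = residue B' (algebraMap A B' a)
    rw [← ResidueField.algebraMap_residue, ← ResidueField.algebraMap_residue, ε.commutes]
  have hmapq : (maximalIdeal B').map (Ideal.Quotient.mk (maximalIdeal B')) = ⊥ :=
    Ideal.map_quotient_self _
  haveI : IsHausdorff ((maximalIdeal B').map (Ideal.Quotient.mk (maximalIdeal B')))
      (B' ⧸ maximalIdeal B') := by
    rw [hmapq]
    exact ⟨fun x hx => by
      have := hx 1
      rw [pow_one, SModEq.zero, Submodule.bot_smul, Submodule.mem_bot] at this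
      exact this⟩
  obtain ⟨v, hv1, hv2, -⟩ := Groth.Agent.Lib.Helper61.FSAdic.lift_to_complete hlifts
    (maximalIdeal B') (algebraMap A B')
    ⟨1, by rw [pow_one]; exact map_maximalIdeal_le (algebraMap A B')⟩
    (maximalIdeal B') ⟨1, by rw [pow_one]⟩ u hu
    ⟨1, by
      rw [pow_one, Ideal.map_le_iff_le_comap]
      intro x hx
      rw [Ideal.mem_comap]
      have : u x = 0 := by
        change ε (residue B x) = 0
        rw [(residue_eq_zero_iff x).mpr hx, map_zero]
      rw [this]
      exact Ideal.zero_mem _⟩
  have hvu : ∀ b, Ideal.Quotient.mk (maximalIdeal B') (v b) = u b := fun b => DFunLike.congr_fun hv2 b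
  have hmapv : (maximalIdeal B).map v = maximalIdeal B' := by
    rw [← hmapB, Ideal.map_map, hv1, hmapB']
  have hsurj : Function.Surjective v := by
    haveI : IsHausdorff ((maximalIdeal B).map v) B' := by
      rw [hmapv]
      infer_instance
    apply surjective_of_mk_map_comp_surjective (I := maximalIdeal B)
    intro y
    obtain ⟨b', rfl⟩ := Ideal.Quotient.mk_surjective y
    obtain ⟨z, hz⟩ := ε.surjective (residue B' b')
    obtain ⟨b, rfl⟩ := residue_surjective z
    refine ⟨b, ?_⟩
    rw [RingHom.comp_apply, Ideal.Quotient.eq, hmapv]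
    have h1 : Ideal.Quotient.mk (maximalIdeal B') (v b) = Ideal.Quotient.mk (maximalIdeal B') b' := by
      rw [hvu]
      exact hz
    exact Ideal.Quotient.eq.mp h1
  let vA : B →ₐ[A] B' := { v with commutes' := fun a => DFunLike.congr_fun hv1 a }
  let ul : B →ₗ[A] B' := vA.toLinearMap
  have hul : Function.Injective (LinearMap.lTensor (A ⧸ maximalIdeal A) ul) := by
    rw [injective_iff_map_eq_zero]
    intro z hz
    obtain ⟨x, rfl⟩ := TensorProduct.mk_surjective A B (A ⧸ maximalIdeal A)
      Ideal.Quotient.mk_surjective z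
    have h1 : TensorProduct.mk A (A ⧸ maximalIdeal A) B' 1 (ul x) = 0 := hz
    rw [← LinearMap.mem_ker, LinearMap.ker_tensorProductMk, Ideal.smul_top_eq_map, hmapB'] at h1
    have h2 : v x ∈ maximalIdeal B' := h1
    have h3 : u x = 0 := by
      rw [← hvu, Ideal.Quotient.eq_zero_iff_mem]
      exact h2
    have h4 : residue B x = 0 := by
      have : ε (residue B x) = ε 0 := by
        rw [map_zero]
        exact h3
      exact ε.injective this
    have h6 : x ∈ (maximalIdeal A • ⊤ : Submodule A B) := by
      rw [Ideal.smul_top_eq_map, hmapB]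
      exact (residue_eq_zero_iff x).mp h4
    rw [← LinearMap.ker_tensorProductMk, LinearMap.mem_ker] at h6
    exact h6
  have hinj : Function.Injective ul := Groth.Agent.Lib.Helper6.LocalFlat.injective_of_residue B ul hul
  exact ⟨AlgEquiv.ofBijective vA ⟨hinj, hsurj⟩⟩

theorem exists_cohen {A : Type u} [CommRing A] [IsLocalRing A] [IsNoetherianRing A]
    (K : Type u) [Field K] [Algebra (ResidueField A) K]
    [Algebra.IsGeometricallyReduced (ResidueField A) K] :
    ∃ (B : Type u) (_ : CommRing B) (_ : IsLocalRing B) (_ : Algebra A B)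
      (_ : IsLocalHom (algebraMap A B)),
      EGA41.IsCohenAlgebra A B ∧ Nonempty (ResidueField B ≃ₐ[ResidueField A] K) := by
  obtain ⟨S, _, _, hN, hloc, hlh, hflat, e, he⟩ := Groth.Agent.S2363.result (A := A) K
  let Shat := AdicCompletion (maximalIdeal S) S
  have hflat' : Module.Flat A Shat := Module.Flat.trans A S Shat
  have hlocA : IsLocalHom (algebraMap A Shat) := by
    rw [IsScalarTower.algebraMap_eq A S Shat]
    exact RingHom.isLocalHom_comp _ _
  have hmS : (maximalIdeal A).map (algebraMap A S) = maximalIdeal S := by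
    have hmax : ((maximalIdeal A).map (algebraMap A S)).IsMaximal := by
      rw [Ideal.Quotient.maximal_ideal_iff_isField_quotient]
      exact MulEquiv.isField (Field.toIsField K) e.toMulEquiv
    exact IsLocalRing.eq_maximalIdeal hmax
  have hmShat : (maximalIdeal A).map (algebraMap A Shat) = maximalIdeal Shat := by
    rw [IsScalarTower.algebraMap_eq A S Shat, ← Ideal.map_map, hmS,
      AdicCompletion.maximalIdeal_eq_map_of_fg (maximalIdeal S).fg_of_isNoetherianRing]
  have hbij : Function.Bijective (ResidueField.map (algebraMap S Shat)) :=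
    AdicCompletion.residueField_map_bijective_of_fg (maximalIdeal S).fg_of_isNoetherianRing
  let E1 : ResidueField S ≃+* ResidueField Shat := RingEquiv.ofBijective _ hbij
  let E2 : ResidueField S ≃+* K :=
    (Ideal.quotEquivOfEq hmS.symm).trans e
  let E : ResidueField Shat ≃+* K := E1.symm.trans E2
  have hE : ∀ x : ResidueField A, E (algebraMap (ResidueField A) (ResidueField Shat) x) =
      algebraMap (ResidueField A) K x := by
    intro x
    obtain ⟨a, rfl⟩ := residue_surjective x
    rw [ResidueField.algebraMap_residue]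
    have h1 : residue Shat (algebraMap A Shat a) = E1 (residue S (algebraMap A S a)) := by
      rw [IsScalarTower.algebraMap_apply A S Shat]
      rfl
    change E2 (E1.symm (residue Shat (algebraMap A Shat a))) = _
    rw [h1, RingEquiv.symm_apply_apply]
    change e (Ideal.Quotient.mk _ (algebraMap A S a)) = _
    exact he a
  let EA : ResidueField Shat ≃ₐ[ResidueField A] K := AlgEquiv.ofRingEquiv hE
  refine ⟨Shat, inferInstance, inferInstance, inferInstance, hlocA, ?_, ⟨EA⟩⟩
  refine ⟨inferInstance, Groth.Agent.S0543.result S (maximalIdeal S), inferInstance, hflat', hmShat, ?_⟩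
  exact Algebra.IsGeometricallyReduced.of_injective EA.toAlgHom EA.injective

open IsLocalRing in
/-- Let A be a Noetherian local ring with residue field k and K a separable extension field of k. Then
there is a Cohen A-algebra B whose residue field is k-isomorphic to K; and two Cohen A-algebras
whose residue fields are k-isomorphic to K are isomorphic as A-algebras. -/
theorem result {A : Type u} [CommRing A] [IsLocalRing A] [IsNoetherianRing A]
    (K : Type u) [Field K] [Algebra (ResidueField A) K] [Algebra.IsGeometricallyReduced (ResidueField A) K] :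
    (∃ (B : Type u) (_ : CommRing B) (_ : IsLocalRing B) (_ : Algebra A B) (_ : IsLocalHom (algebraMap A B)),
      EGA41.IsCohenAlgebra A B ∧ Nonempty (ResidueField B ≃ₐ[ResidueField A] K)) ∧
    ∀ (B B' : Type u) [CommRing B] [IsLocalRing B] [Algebra A B] [IsLocalHom (algebraMap A B)]
      [CommRing B'] [IsLocalRing B'] [Algebra A B'] [IsLocalHom (algebraMap A B')],
      EGA41.IsCohenAlgebra A B → EGA41.IsCohenAlgebra A B' →
      Nonempty (ResidueField B ≃ₐ[ResidueField A] K) → Nonempty (ResidueField B' ≃ₐ[ResidueField A] K) →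
      Nonempty (B ≃ₐ[A] B') := by
  refine ⟨exists_cohen K, ?_⟩
  intro B B' _ _ _ _ _ _ _ _ hB hB' ⟨e1⟩ ⟨e2⟩
  exact unique B B' hB hB' (e1.trans e2.symm)

end Groth.Agent.S2455
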