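import Groth.Statements.S2456
import Groth.Agent.Lib.Helper38.CohenUnique
import Groth.Agent.Lib.Helper38.CohenLift2
import Groth.Agent.Lib.Helper61.CompleteLE

set_option autoImplicit false
universe u
open EGA41

namespace Groth.Agent.S2456

open IsLocalRing in
/-- Let W be a Cohen ring (a field of characteristic zero, or a complete discrete valuation ring with
maximal ideal generated by the residue characteristic), C a complete Noetherian local ring and J ≠ C
an ideal of C. Then every local homomorphism u : W → C/J is induced by a local homomorphism v : W →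
C. -/
theorem result {W C : Type u} [CommRing W] [IsLocalRing W] (hW : EGA41.IsCohenRingEGA W)
    [CommRing C] [IsLocalRing C] [IsNoetherianRing C] [IsAdicComplete (maximalIdeal C) C]
    (J : Ideal C) (hJ : J ≠ ⊤) [IsLocalRing (C ⧸ J)] (u : W →+* C ⧸ J) [IsLocalHom u] :
    ∃ v : W →+* C, IsLocalHom v ∧ (Ideal.Quotient.mk J).comp v = u := by
  have hlocal : ∀ v : W →+* C, (Ideal.Quotient.mk J).comp v = u → IsLocalHom v := by
    intro v hv
    refine ⟨fun x hx => ?_⟩
    have h1 : IsUnit (u x) := by
      rw [← hv]
      exact hx.map (Ideal.Quotient.mk J)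
    exact isUnit_of_map_unit u x h1
  rcases hW with ⟨hf, hc0⟩ | hC
  · let _ : Field W := hf.toField
    have : IsAdicComplete J C :=
      Groth.Agent.Lib.Helper61.CompleteLE.isAdicComplete_of_le J (maximalIdeal C)
        (le_maximalIdeal hJ) (IsNoetherian.noetherian J)
    obtain ⟨v, hv⟩ := Groth.Agent.Lib.Helper49.CoeffField.exists_lift_charZero J u
    exact ⟨v, hlocal v hv, hv⟩
  · obtain ⟨hD, p, hDVR, hc, hp, hmax, hp0, hchar⟩ :=
      Groth.Agent.Lib.Helper38.CohenUnique.cohen_data hC
    have : Fact p.Prime := ⟨hp⟩
    have hpW : (p : W) ∈ maximalIdeal W := by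
      rw [hmax]; exact Ideal.mem_span_singleton_self _
    have hpC : (p : C) ∈ maximalIdeal C := by
      intro hu
      have h1 : IsUnit (u (p : W)) := by
        rw [map_natCast, ← map_natCast (Ideal.Quotient.mk J)]
        exact hu.map _
      exact hpW (isUnit_of_map_unit u _ h1)
    obtain ⟨v, hv⟩ := Groth.Agent.Lib.Helper38.CohenLift.exists_lift_of_complete_local p
      (residue W) residue_surjective
      (by
        intro b hb
        rw [residue_eq_zero_iff, hmax, Ideal.mem_span_singleton] at hb
        exact hb)
      (fun b hb => (mul_eq_zero.mp hb).resolve_left hp0) hpC J hJ u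
    exact ⟨v, hlocal v hv, hv⟩

end Groth.Agent.S2456
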