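import Groth.Statements.S2457
import Groth.Agent.Lib.Helper38.CohenUnique

set_option autoImplicit false
universe u
open EGA41

namespace Groth.Agent.S2457

open IsLocalRing in
/-- Let W and W' be Cohen rings with residue fields K and K' and u : K ≅ K' an isomorphism. Then u is
induced by some isomorphism v : W ≅ W'. -/
theorem result {W W' : Type u} [CommRing W] [IsLocalRing W] [CommRing W'] [IsLocalRing W']
    (hW : EGA41.IsCohenRingEGA W) (hW' : EGA41.IsCohenRingEGA W') (u : ResidueField W ≃+* ResidueField W') :
    ∃ v : W ≃+* W', ∀ x : W, residue W' (v x) = u (residue W x) := by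
  -- fields: the residue map is bijective
  have hfield : ∀ (V : Type u) [CommRing V] [IsLocalRing V], IsField V →
      Function.Bijective (residue V) := by
    intro V _ _ hf
    refine ⟨?_, residue_surjective⟩
    rw [injective_iff_map_eq_zero]
    intro x hx
    by_contra hx0
    obtain ⟨y, hy⟩ := hf.mul_inv_cancel hx0
    have : x ∈ maximalIdeal V := (residue_eq_zero_iff x).mp hx
    exact this (IsUnit.of_mul_eq_one y hy)
  have hcontra : ∀ (V V' : Type u) [CommRing V] [IsLocalRing V] [CommRing V'] [IsLocalRing V'],
      IsField V → CharZero V → CAlg.IsCohenRing V' →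
      (ResidueField V →+* ResidueField V') → False := by
    intro V V' _ _ _ _ hf hc0 hC' φ
    have h1 : CharZero (ResidueField V) :=
      charZero_of_injective_ringHom (hfield V hf).1
    have h2 : CharZero (ResidueField V') := charZero_of_injective_ringHom φ.injective
    obtain ⟨_, p, _, _, hp, _, _, hchar⟩ := Groth.Agent.Lib.Helper38.CohenUnique.cohen_data hC'
    have h3 : (p : ResidueField V') = 0 := CharP.cast_eq_zero _ p
    have h4 : (p : ResidueField V') ≠ 0 := Nat.cast_ne_zero.mpr hp.ne_zero
    exact h4 h3
  rcases hW with ⟨hf, hc0⟩ | hC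
  · rcases hW' with ⟨hf', hc0'⟩ | hC'
    · let eW : W ≃+* ResidueField W := RingEquiv.ofBijective (residue W) (hfield W hf)
      let eW' : W' ≃+* ResidueField W' := RingEquiv.ofBijective (residue W') (hfield W' hf')
      refine ⟨eW.trans (u.trans eW'.symm), fun x => ?_⟩
      change eW' (eW'.symm (u (eW x))) = _
      rw [RingEquiv.apply_symm_apply]
      rfl
    · exact (hcontra W W' hf hc0 hC' u.toRingHom).elim
  · rcases hW' with ⟨hf', hc0'⟩ | hC'
    · exact (hcontra W' W hf' hc0' hC u.symm.toRingHom).elim
    · obtain ⟨hD, p, hDVR, hc, hp, hmax, hp0, hchar⟩ :=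
        Groth.Agent.Lib.Helper38.CohenUnique.cohen_data hC
      obtain ⟨hD', p', hDVR', hc', hp', hmax', hp0', hchar'⟩ :=
        Groth.Agent.Lib.Helper38.CohenUnique.cohen_data hC'
      have hchar2 : CharP (ResidueField W) p' :=
        (RingHom.charP_iff u.toRingHom u.injective p').mpr hchar'
      have hpp : p = p' := CharP.eq (ResidueField W) hchar hchar2
      subst hpp
      have : Fact p.Prime := ⟨hp⟩
      have hpI : (p : W') ∈ maximalIdeal W' := by
        rw [hmax']; exact Ideal.mem_span_singleton_self _
      obtain ⟨g, hg⟩ := Groth.Agent.Lib.Helper38.CohenStructure.exists_lift_cohenRing p hmax hp0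
        (maximalIdeal W') hpI (u.toRingHom.comp (residue W))
      have hg' : ∀ x, residue W' (g x) = u (residue W x) := fun x => DFunLike.congr_fun hg x
      have hsurj : Function.Surjective ((residue W').comp g) := by
        intro y
        obtain ⟨x, hx⟩ := residue_surjective (u.symm y)
        exact ⟨x, by rw [RingHom.comp_apply, hg', hx, RingEquiv.apply_symm_apply]⟩
      have hbij := Groth.Agent.Lib.Helper38.CohenUnique.bijective_of_residue_bijective p hmax hmax'
        hp0' g hsurj
      exact ⟨RingEquiv.ofBijective g hbij, hg'⟩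

end Groth.Agent.S2457
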