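import Groth.Statements.S2458
-- import your own Groth.Agent.* helpers here
import Mathlib
import Groth.Agent.Lib.Helper49.CoeffFieldPS
import Groth.Agent.Lib.Helper49.FSRegular2
import Groth.Agent.Lib.Helper38.CohenStructure
import Groth.Agent.Lib.Helper61.MvPSComplete

set_option autoImplicit false
universe u
open EGA41

namespace Groth.Agent.S2458

open IsLocalRing

theorem isLocalHom_of_surjective {B A : Type*} [CommRing B] [CommRing A] [IsLocalRing B]
    [Nontrivial A] (f : B →+* A) (hf : Function.Surjective f) : IsLocalHom f := by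
  refine ⟨fun b hb => ?_⟩
  by_contra hnu
  have hbm : b ∈ maximalIdeal B := hnu
  obtain ⟨c, hc⟩ := hf (↑hb.unit⁻¹ : A)
  have h1 : f (b * c) = 1 := by
    rw [map_mul, hc]
    exact hb.mul_val_inv
  have h2 : b * c ∈ maximalIdeal B := Ideal.mul_mem_right _ _ hbm
  have h3 : IsUnit (1 - b * c) := by
    by_contra h3
    have h4 : (1 - b * c) ∈ maximalIdeal B := h3
    have : (1 : B) ∈ maximalIdeal B := by
      have := Ideal.add_mem _ h4 h2
      simp at this
    exact (Ideal.ne_top_iff_one _).mp (maximalIdeal.isMaximal B).ne_top this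
  have h5 : f (1 - b * c) = 0 := by rw [map_sub, map_one, h1, sub_self]
  have := h3.map f
  rw [h5] at this
  exact not_isUnit_zero this

theorem sq_le_ker {B A : Type*} [CommRing B] [CommRing A] [IsLocalRing B] [IsLocalRing A]
    (f : B →+* A) [IsLocalHom f] (h : maximalIdeal A ^ 2 = ⊥) :
    maximalIdeal B ^ 2 ≤ RingHom.ker f := by
  intro x hx
  rw [RingHom.mem_ker]
  have h1 : f x ∈ (maximalIdeal B ^ 2).map f := Ideal.mem_map_of_mem f hx
  rw [Ideal.map_pow] at h1
  have h2 : (maximalIdeal B).map f ≤ maximalIdeal A :=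
    ((IsLocalRing.local_hom_TFAE f).out 0 2).mp ‹IsLocalHom f›
  have h3 := Ideal.pow_right_mono h2 2 h1
  rw [h] at h3
  exact h3

theorem case1 {A : Type u} [CommRing A] [IsLocalRing A] [IsArtinianRing A]
    (h : maximalIdeal A ^ 2 = ⊥) (p : ℕ) [CharP (ResidueField A) p] (hp : (p : A) = 0) :
    ∃ (B : Type u) (_ : CommRing B) (_ : IsRegularLocalRing B),
      Nonempty (A ≃+* B ⧸ IsLocalRing.maximalIdeal B ^ 2) := by
  have : IsAdicComplete (maximalIdeal A) A :=
    Groth.Agent.Lib.Helper38.CohenLift.isAdicComplete_of_pow_eq_bot _ h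
  obtain ⟨σ, hσ⟩ := Groth.Agent.Lib.Helper49.CoeffField.exists_section p hp
  let : Algebra (ResidueField A) A := σ.toAlgebra
  have hR : Function.Surjective ((residue A).comp (algebraMap (ResidueField A) A)) := by
    intro x
    exact ⟨x, hσ x⟩
  obtain ⟨d, ψ, -, hsurj, hker, -⟩ := Groth.Agent.Lib.Helper49.CoeffField.exists_presentation hR
  have := Groth.Agent.Lib.Helper49.FSRegular.isRegularLocalRing_mvPowerSeries (ResidueField A) d
  refine ⟨MvPowerSeries (Fin d) (ResidueField A), inferInstance, inferInstance, ?_⟩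
  have : IsLocalHom ψ.toRingHom := isLocalHom_of_surjective ψ.toRingHom hsurj
  have hle : maximalIdeal (MvPowerSeries (Fin d) (ResidueField A)) ^ 2 ≤ RingHom.ker ψ.toRingHom :=
    sq_le_ker ψ.toRingHom h
  have heq : RingHom.ker ψ.toRingHom = maximalIdeal (MvPowerSeries (Fin d) (ResidueField A)) ^ 2 :=
    le_antisymm hker hle
  exact ⟨(RingHom.quotientKerEquivOfSurjective (f := ψ.toRingHom) hsurj).symm.trans
    (Ideal.quotEquivOfEq heq)⟩

theorem exists_gens {A : Type u} [CommRing A] [IsLocalRing A] [IsNoetherianRing A]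
    (h : maximalIdeal A ^ 2 = ⊥) (π : A) (hπm : π ∈ maximalIdeal A) (hπ : π ≠ 0) :
    ∃ (s : ℕ) (x : Fin s → A), (∀ i, x i ∈ maximalIdeal A) ∧
      (∀ (c₀ : A) (c : Fin s → A), c₀ * π + ∑ i, c i * x i = 0 →
        c₀ ∈ maximalIdeal A ∧ ∀ i, c i ∈ maximalIdeal A) ∧
      (∀ a ∈ maximalIdeal A, ∃ (c₀ : A) (c : Fin s → A), a = c₀ * π + ∑ i, c i * x i) := by
  classical
  let k := ResidueField A
  let V := CotangentSpace A
  let v₀ : V := (maximalIdeal A).toCotangent ⟨π, hπm⟩
  have hv₀ : v₀ ≠ 0 := by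
    intro h0
    rw [Ideal.toCotangent_eq_zero, h] at h0
    exact hπ h0
  let N : Submodule k V := Submodule.span k {v₀}
  let Q := V ⧸ N
  let s := Module.finrank k Q
  let bQ : Module.Basis (Fin s) k Q := Module.finBasis k Q
  have hmk : Function.Surjective N.mkQ := Submodule.mkQ_surjective N
  have hcot : Function.Surjective (maximalIdeal A).toCotangent := Ideal.toCotangent_surjective _
  choose y hy using fun i => hmk (bQ i)
  choose x hx using fun i => hcot (y i)
  have hzero : ∀ z : maximalIdeal A, (maximalIdeal A).toCotangent z = 0 → z = 0 := by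
    intro z hz
    rw [Ideal.toCotangent_eq_zero, h] at hz
    exact Subtype.ext hz
  have hsmul : ∀ (c : A) (v : V), c • v = residue A c • v := fun c v => rfl
  have hmm : ∀ a b : A, a ∈ maximalIdeal A → b ∈ maximalIdeal A → a * b = 0 := by
    intro a b ha hb
    have : a * b ∈ maximalIdeal A ^ 2 := by
      rw [pow_two]
      exact Ideal.mul_mem_mul ha hb
    rw [h] at this
    exact this
  refine ⟨s, fun i => (x i : A), fun i => (x i).2, ?_, ?_⟩
  · intro c₀ c hc
    have h1 : c₀ • (⟨π, hπm⟩ : maximalIdeal A) + ∑ i, c i • x i = 0 := by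
      apply Subtype.ext
      simp only [Submodule.coe_add, Submodule.coe_smul, Submodule.coe_sum, smul_eq_mul,
        Submodule.coe_zero]
      exact hc
    have h2 := congrArg (maximalIdeal A).toCotangent h1
    rw [map_add, map_smul, map_sum, map_zero] at h2
    simp only [map_smul, hx] at h2
    have h3 := congrArg N.mkQ h2
    rw [map_add, map_sum, map_zero] at h3
    have h4 : N.mkQ (c₀ • v₀) = 0 := by
      rw [hsmul, map_smul]
      have : N.mkQ v₀ = 0 := by
        rw [Submodule.mkQ_apply, Submodule.Quotient.mk_eq_zero]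
        exact Submodule.mem_span_singleton_self _
      rw [this, smul_zero]
    change N.mkQ (c₀ • v₀) + _ = 0 at h3
    rw [h4, zero_add] at h3
    have h5 : ∑ i, residue A (c i) • bQ i = 0 := by
      rw [← h3]
      refine Finset.sum_congr rfl fun i _ => ?_
      rw [hsmul, map_smul, hy]
    have h6 := Fintype.linearIndependent_iff.mp bQ.linearIndependent _ h5
    have h7 : ∀ i, c i ∈ maximalIdeal A := fun i => (residue_eq_zero_iff _).mp (h6 i)
    refine ⟨?_, h7⟩
    have h8 : ∑ i, c i * (x i : A) = 0 :=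
      Finset.sum_eq_zero fun i _ => hmm _ _ (h7 i) (x i).2
    rw [h8, add_zero] at hc
    have h9 : c₀ • v₀ = 0 := by
      have : c₀ • (⟨π, hπm⟩ : maximalIdeal A) = 0 := Subtype.ext hc
      change c₀ • (maximalIdeal A).toCotangent ⟨π, hπm⟩ = 0
      rw [← map_smul, this, map_zero]
    rw [hsmul] at h9
    rcases smul_eq_zero.mp h9 with h10 | h10
    · exact (residue_eq_zero_iff _).mp h10
    · exact absurd h10 hv₀
  · intro a ha
    let v : V := (maximalIdeal A).toCotangent ⟨a, ha⟩
    have h1 : N.mkQ v = ∑ i, bQ.repr (N.mkQ v) i • bQ i := (bQ.sum_repr _).symm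
    choose r hr using fun i => residue_surjective (R := A) (bQ.repr (N.mkQ v) i)
    have h2 : v - ∑ i, r i • y i ∈ N := by
      rw [← Submodule.Quotient.mk_eq_zero, ← Submodule.mkQ_apply, map_sub, map_sum, sub_eq_zero, h1]
      refine Finset.sum_congr rfl fun i _ => ?_
      rw [hsmul, map_smul, hy, hr]
    obtain ⟨r₀', hr₀'⟩ := Submodule.mem_span_singleton.mp h2
    obtain ⟨r₀, hr₀⟩ := residue_surjective (R := A) r₀'
    refine ⟨r₀, r, ?_⟩
    have h3 : (⟨a, ha⟩ : maximalIdeal A) - (r₀ • (⟨π, hπm⟩ : maximalIdeal A) + ∑ i, r i • x i) = 0 := by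
      apply hzero
      rw [map_sub, map_add, map_smul, map_sum]
      simp only [map_smul, hx]
      change v - (r₀ • v₀ + _) = 0
      rw [hsmul r₀, hr₀, hr₀', ]
      abel
    have h4 := congrArg Subtype.val (sub_eq_zero.mp h3)
    simp only [Submodule.coe_add, Submodule.coe_smul, Submodule.coe_sum, smul_eq_mul] at h4
    exact h4

theorem case2 {A : Type u} [CommRing A] [IsLocalRing A] [IsArtinianRing A]
    (h : maximalIdeal A ^ 2 = ⊥) (p : ℕ) [Fact p.Prime] [CharP (ResidueField A) p]
    (hp : (p : A) ≠ 0) :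
    ∃ (B : Type u) (_ : CommRing B) (_ : IsRegularLocalRing B),
      Nonempty (A ≃+* B ⧸ IsLocalRing.maximalIdeal B ^ 2) := by
  classical
  have : IsAdicComplete (maximalIdeal A) A :=
    Groth.Agent.Lib.Helper38.CohenLift.isAdicComplete_of_pow_eq_bot _ h
  obtain ⟨Λ, _, _, hD, hDVR, hc, hmax, hp0, ⟨e⟩⟩ :=
    Groth.Agent.Lib.Helper38.CohenCompl.exists_cohenRing' p (ResidueField A)
  have hpI : (p : A) ∈ maximalIdeal A := by
    rw [← residue_eq_zero_iff, map_natCast]
    exact CharP.cast_eq_zero _ p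
  obtain ⟨g, hg⟩ := Groth.Agent.Lib.Helper38.CohenStructure.exists_lift_cohenRing p hmax hp0
    (maximalIdeal A) hpI (e.toRingHom.comp (residue Λ))
  have hg' : ∀ w : Λ, residue A (g w) = e (residue Λ w) := fun w => DFunLike.congr_fun hg w
  have hgsurj : ∀ a : A, ∃ w : Λ, a - g w ∈ maximalIdeal A := by
    intro a
    obtain ⟨w, hw⟩ := residue_surjective (R := Λ) (e.symm (residue A a))
    refine ⟨w, ?_⟩
    rw [← residue_eq_zero_iff, map_sub, hg', hw, RingEquiv.apply_symm_apply, sub_self]
  have hmm : ∀ a b : A, a ∈ maximalIdeal A → b ∈ maximalIdeal A → a * b = 0 := by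
    intro a b ha hb
    have : a * b ∈ maximalIdeal A ^ 2 := by
      rw [pow_two]
      exact Ideal.mul_mem_mul ha hb
    rw [h] at this
    exact this
  obtain ⟨s, x, hxm, hP, hS⟩ := exists_gens h (p : A) hpI hp
  let : Algebra Λ A := g.toAlgebra
  have : IsAdicComplete (Ideal.span (Set.range x)) A := by
    apply Groth.Agent.Lib.Helper38.CohenLift.isAdicComplete_of_pow_eq_bot _ (n := 2)
    rw [← le_bot_iff, ← h]
    apply Ideal.pow_right_mono
    rw [Ideal.span_le]
    rintro _ ⟨i, rfl⟩
    exact hxm i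
  obtain ⟨ψ, hψ⟩ := Groth.Agent.Lib.Helper61.PSEval.exists_eval Λ A x
  have hC : ∀ c : Λ, ψ (MvPowerSeries.C c) = g c := fun c => ψ.commutes c
  have hCp : ψ (MvPowerSeries.C (p : Λ)) = (p : A) := by rw [hC, map_natCast]
  have hsurj : Function.Surjective ψ := by
    intro a
    obtain ⟨w, hw⟩ := hgsurj a
    obtain ⟨c₀, c, hc⟩ := hS _ hw
    obtain ⟨w₀, hw₀⟩ := hgsurj c₀
    choose wi hwi using fun i => hgsurj (c i)
    refine ⟨MvPowerSeries.C w + MvPowerSeries.C w₀ * MvPowerSeries.C (p : Λ) +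
      ∑ i, MvPowerSeries.C (wi i) * MvPowerSeries.X i, ?_⟩
    rw [map_add, map_add, map_mul, map_sum, hC, hC, hCp]
    simp only [map_mul, hC, hψ]
    have e1 : g w₀ * (p : A) = c₀ * (p : A) := by
      have := hmm _ _ hw₀ hpI
      linear_combination -this
    have e2 : ∀ i, g (wi i) * x i = c i * x i := by
      intro i
      have := hmm _ _ (hwi i) (hxm i)
      linear_combination -this
    rw [e1, Finset.sum_congr rfl fun i _ => e2 i, add_assoc, ← hc]
    ring
  let B := MvPowerSeries (Fin s) Λ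
  have : IsRegularRing B :=
    Groth.Agent.Lib.Helper77.RegularPowerSeries.isRegularRing_mvPowerSeries Λ s
  have : IsRegularLocalRing B := IsRegularLocalRing.of_isRegularRing_of_isLocalRing _
  have : IsLocalHom ψ.toRingHom := isLocalHom_of_surjective ψ.toRingHom hsurj
  have hn : ∀ b : B, ψ b ∈ maximalIdeal A → b ∈ maximalIdeal B := by
    intro b hb
    by_contra hnb
    have hu : IsUnit b := by
      by_contra hu
      exact hnb hu
    exact hb (hu.map ψ)
  have hker : RingHom.ker ψ.toRingHom ≤ maximalIdeal B ^ 2 := by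
    intro b hb
    have hb0 : ψ b = 0 := hb
    have hbn : b ∈ maximalIdeal B := hn b (by rw [hb0]; exact zero_mem _)
    have hcc : MvPowerSeries.constantCoeff b ∈ maximalIdeal Λ := by
      intro hu
      exact hbn (MvPowerSeries.isUnit_iff_constantCoeff.mpr hu)
    rw [hmax, Ideal.mem_span_singleton'] at hcc
    obtain ⟨c, hc⟩ := hcc
    have hb' : b - MvPowerSeries.C (c * (p : Λ)) ∈
        Ideal.span (Set.range (MvPowerSeries.X : Fin s → B)) := by
      have := Groth.Agent.Lib.Helper61.MvPSComplete.mem_pow_iff (σ := Fin s) (R := Λ) (M := 1)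
        (f := b - MvPowerSeries.C (c * (p : Λ)))
      rw [pow_one] at this
      rw [this, Nat.cast_one, MvPowerSeries.one_le_order_iff_constCoeff_eq_zero, map_sub,
        MvPowerSeries.constantCoeff_C, hc, sub_self]
    obtain ⟨ci, hci⟩ := (Ideal.mem_span_range_iff_exists_fun).mp hb'
    have hbeq : b = MvPowerSeries.C c * MvPowerSeries.C (p : Λ) + ∑ i, ci i * MvPowerSeries.X i := by
      rw [hci, map_mul]
      ring
    have h0 : ψ (MvPowerSeries.C c) * (p : A) + ∑ i, ψ (ci i) * x i = 0 := by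
      rw [← hb0, hbeq, map_add, map_mul, hCp, map_sum]
      simp only [map_mul, hψ]
    obtain ⟨hc₀, hci'⟩ := hP _ _ h0
    rw [hbeq, pow_two]
    refine Ideal.add_mem _ (Ideal.mul_mem_mul (hn _ hc₀) (hn _ (by rw [hCp]; exact hpI)))
      (Ideal.sum_mem _ fun i _ => Ideal.mul_mem_mul (hn _ (hci' i)) (hn _ (by rw [hψ]; exact hxm i)))
  have hle : maximalIdeal B ^ 2 ≤ RingHom.ker ψ.toRingHom := sq_le_ker ψ.toRingHom h
  have heq : RingHom.ker ψ.toRingHom = maximalIdeal B ^ 2 := le_antisymm hker hle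
  exact ⟨B, inferInstance, inferInstance,
    ⟨(RingHom.quotientKerEquivOfSurjective (f := ψ.toRingHom) hsurj).symm.trans
      (Ideal.quotEquivOfEq heq)⟩⟩

open IsLocalRing in
/-- Let A be an Artinian local ring whose maximal ideal 𝔪 satisfies 𝔪² = 0. Then there is a regular
local ring B with maximal ideal 𝔫 such that A ≅ B/𝔫². -/
theorem result {A : Type u} [CommRing A] [IsLocalRing A] [IsArtinianRing A]
    (h : maximalIdeal A ^ 2 = ⊥) :
    ∃ (B : Type u) (_ : CommRing B) (_ : IsRegularLocalRing B), Nonempty (A ≃+* B ⧸ IsLocalRing.maximalIdeal B ^ 2) := by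
  obtain ⟨p, hp⟩ := CharP.exists (ResidueField A)
  by_cases hpA : (p : A) = 0
  · exact case1 h p hpA
  · have hpp : p.Prime := by
      rcases CharP.char_is_prime_or_zero (ResidueField A) p with hpp | rfl
      · exact hpp
      · exact absurd Nat.cast_zero hpA
    have : Fact p.Prime := ⟨hpp⟩
    exact case2 h p hpA

end Groth.Agent.S2458
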