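import Groth.Statements.S2459
import Groth.Agent.Lib.Helper38.CohenUnique

set_option autoImplicit false
universe u
open EGA41

namespace Groth.Agent.S2459

open IsLocalRing in
/-- Let A be an Artinian local ring with maximal ideal 𝔪 and residue field of characteristic p (p = 0
allowed). Then A is isomorphic to a quotient of a Cohen ring if and only if 𝔪 is generated by p·1. -/
theorem result {A : Type u} [CommRing A] [IsLocalRing A] [IsArtinianRing A]
    (p : ℕ) [CharP (ResidueField A) p] :
    (∃ (W : Type u) (_ : CommRing W) (I : Ideal W), EGA41.IsCohenRingEGA W ∧ Nonempty (A ≃+* W ⧸ I)) ↔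
      maximalIdeal A = Ideal.span {(p : A)} := by
  have hcharp : CharP (ResidueField A) p := inferInstance
  constructor
  · rintro ⟨W, _, I, hW, ⟨e⟩⟩
    have hInt : Nontrivial (W ⧸ I) := e.injective.nontrivial
    have hItop : I ≠ ⊤ := Ideal.Quotient.nontrivial_iff.mp hInt
    rcases hW with ⟨hf, hc0⟩ | hC
    · -- `W` a field of characteristic zero
      let _ : Field W := hf.toField
      have hIbot : I = ⊥ := (Ideal.eq_bot_or_top I).resolve_right hItop
      subst hIbot
      let e' : A ≃+* W := e.trans (RingEquiv.quotientBot W)
      have hAf : IsField A := e'.toMulEquiv.isField (Field.toIsField W)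
      have hm : maximalIdeal A = ⊥ := isField_iff_maximalIdeal_eq.mp hAf
      have hcA : CharZero A := RingHom.charZero e'.toRingHom
      have hinj : Function.Injective (residue A) := by
        rw [injective_iff_map_eq_zero]
        intro x hx
        have : x ∈ maximalIdeal A := (residue_eq_zero_iff x).mp hx
        rw [hm] at this
        exact this
      have hck : CharZero (ResidueField A) := charZero_of_injective_ringHom hinj
      have hp0 : p = 0 := CharP.eq (ResidueField A) hcharp (CharP.ofCharZero _)
      rw [hm, hp0, Nat.cast_zero, Ideal.span_singleton_eq_bot.mpr rfl]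
    · obtain ⟨hD, hDVR, hc, q, hq, hmax⟩ := hC
      have hunit : ∀ w : W, IsUnit (Ideal.Quotient.mk I w) → IsUnit w := by
        intro w hw
        obtain ⟨y, hy⟩ := hw.exists_right_inv
        obtain ⟨w', rfl⟩ := Ideal.Quotient.mk_surjective y
        rw [← map_mul, ← map_one (Ideal.Quotient.mk I), Ideal.Quotient.eq] at hy
        have h1 : w * w' - 1 ∈ maximalIdeal W := le_maximalIdeal hItop hy
        by_contra hw0
        have h2 : w * w' ∈ maximalIdeal W := Ideal.mul_mem_right _ _ hw0
        have h3 : (1 : W) ∈ maximalIdeal W := by
          have := Ideal.sub_mem _ h2 h1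
          rwa [sub_sub_cancel] at this
        exact (Ideal.ne_top_iff_one _).mp Ideal.IsPrime.ne_top' h3
      have hqA : e.symm (Ideal.Quotient.mk I (q : W)) = (q : A) := by
        rw [map_natCast, map_natCast]
      have hqnu : (q : A) ∈ maximalIdeal A := by
        intro hu
        have h1 : IsUnit (e (q : A)) := hu.map e
        rw [map_natCast, ← map_natCast (Ideal.Quotient.mk I)] at h1
        have h2 := hunit _ h1
        have h3 : (q : W) ∈ maximalIdeal W := by rw [hmax]; exact Ideal.mem_span_singleton_self _
        exact h3 h2
      have hm : maximalIdeal A = Ideal.span {(q : A)} := by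
        apply le_antisymm
        · intro x hx
          obtain ⟨w, hw⟩ := Ideal.Quotient.mk_surjective (e x)
          have hwm : w ∈ maximalIdeal W := by
            intro hu
            have h1 : IsUnit (e x) := by rw [← hw]; exact hu.map _
            have h2 : IsUnit x := by
              have := h1.map e.symm
              rwa [RingEquiv.symm_apply_apply] at this
            exact hx h2
          rw [hmax, Ideal.mem_span_singleton] at hwm
          obtain ⟨c, rfl⟩ := hwm
          rw [Ideal.mem_span_singleton]
          refine ⟨e.symm (Ideal.Quotient.mk I c), ?_⟩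
          have : x = e.symm (e x) := (RingEquiv.symm_apply_apply e x).symm
          rw [this, ← hw, map_mul, map_mul, hqA]
        · rw [Ideal.span_le, Set.singleton_subset_iff]
          exact hqnu
      have hqk : (q : ResidueField A) = 0 := by
        rw [← map_natCast (residue A), residue_eq_zero_iff]
        exact hqnu
      have hcq : CharP (ResidueField A) q := (CharP.charP_iff_prime_eq_zero hq).mpr hqk
      have hpq : p = q := CharP.eq (ResidueField A) hcharp hcq
      rw [hpq]
      exact hm
  · intro hm
    rcases CharP.char_is_prime_or_zero (ResidueField A) p with hpp | hp0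
    · have : Fact p.Prime := ⟨hpp⟩
      obtain ⟨Λ, _, _, hD, hDVR, hc, hmax, hp0, ⟨e⟩⟩ :=
        Groth.Agent.Lib.Helper38.CohenCompl.exists_cohenRing' p (ResidueField A)
      have hpI : (p : A) ∈ maximalIdeal A := by
        rw [hm]; exact Ideal.mem_span_singleton_self _
      obtain ⟨g, hg⟩ := Groth.Agent.Lib.Helper38.CohenStructure.exists_lift_cohenRing p hmax hp0
        (maximalIdeal A) hpI (e.toRingHom.comp (residue Λ))
      have hg' : ∀ x, residue A (g x) = e (residue Λ x) := fun x => DFunLike.congr_fun hg x
      have hmap : (Ideal.span {(p : Λ)}).map g = maximalIdeal A := by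
        rw [Ideal.map_span, Set.image_singleton, map_natCast, hm]
      have hsurj : Function.Surjective g := by
        have : IsPrecomplete (Ideal.span {(p : Λ)}) Λ := by
          rw [← hmax]; infer_instance
        have : IsHausdorff ((Ideal.span {(p : Λ)}).map g) A := by
          rw [hmap]; infer_instance
        apply surjective_of_mk_map_comp_surjective (I := Ideal.span {(p : Λ)})
        intro y
        obtain ⟨r, rfl⟩ := Ideal.Quotient.mk_surjective y
        obtain ⟨c, hc⟩ := residue_surjective (e.symm (residue A r))
        refine ⟨c, ?_⟩
        rw [RingHom.comp_apply, Ideal.Quotient.eq, hmap]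
        have : residue A (g c - r) = 0 := by
          rw [map_sub, sub_eq_zero, hg', hc, RingEquiv.apply_symm_apply]
        exact (residue_eq_zero_iff _).mp this
      exact ⟨Λ, inferInstance, RingHom.ker g, Or.inr ⟨hD, hDVR, hc, p, hpp, hmax⟩,
        ⟨(RingHom.quotientKerEquivOfSurjective hsurj).symm⟩⟩
    · subst hp0
      rw [Nat.cast_zero, Ideal.span_singleton_eq_bot.mpr rfl] at hm
      have hAf : IsField A := isField_iff_maximalIdeal_eq.mpr hm
      have hck : CharZero (ResidueField A) := CharP.charP_to_charZero _
      have hcA : CharZero A := RingHom.charZero (residue A)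
      exact ⟨A, inferInstance, ⊥, Or.inl ⟨hAf, hcA⟩, ⟨(RingEquiv.quotientBot A).symm⟩⟩

end Groth.Agent.S2459
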