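import Groth.Statements.S2460
-- import your own Groth.Agent.* helpers here
import Mathlib
import Groth.Agent.S0544
import Groth.Agent.Lib.Helper61.PSEval
import Groth.Agent.Lib.Helper61.MvPSComplete
import Groth.Agent.Lib.Helper61.CompleteLE
import Groth.Agent.Lib.Helper49.FSRegular2
import Groth.Agent.Lib.Helper49.GeomRegFS1

set_option autoImplicit false
universe u
open EGA41

namespace Groth.Agent.S2460

open IsLocalRing TensorProduct

theorem finite_of_pow_smul_eq_bot {k B : Type*} [Field k] [CommRing B] [IsLocalRing B]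
    [IsNoetherianRing B] [Algebra k B] [Module.Finite k (ResidueField B)] (i : ℕ) :
    ∀ (M : Type*) [AddCommGroup M] [Module B M] [Module k M] [IsScalarTower k B M]
      [Module.Finite B M], (maximalIdeal B ^ i • (⊤ : Submodule B M) = ⊥) → Module.Finite k M := by
  induction i with
  | zero =>
    intro M _ _ _ _ _ h
    rw [pow_zero, Ideal.one_eq_top, Submodule.top_smul] at h
    have : Subsingleton M := by
      refine subsingleton_of_forall_eq 0 fun x => ?_
      have : x ∈ (⊤ : Submodule B M) := trivial
      rw [h] at this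
      exact this
    infer_instance
  | succ i ih =>
    intro M _ _ _ _ _ h
    let N : Submodule B M := maximalIdeal B • ⊤
    have hN : Module.Finite k N := by
      apply ih N
      rw [eq_bot_iff]
      intro x hx
      have h1 : (N.subtype x) ∈ (maximalIdeal B ^ i • N : Submodule B M) := by
        have := Submodule.mem_map_of_mem (f := N.subtype) hx
        rwa [Submodule.map_smul'', Submodule.map_top, Submodule.range_subtype] at this
      have h2 : (maximalIdeal B ^ i • N : Submodule B M) = ⊥ := by
        rw [← h, pow_succ, mul_smul]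
      rw [h2] at h1
      exact Subtype.ext h1
    have hQ : Module.Finite k (M ⧸ N) := by
      let e : (B ⧸ maximalIdeal B) ⊗[B] M ≃ₗ[B] M ⧸ N :=
        TensorProduct.quotTensorEquivQuotSMul M (maximalIdeal B)
      have h1 : Module.Finite k (B ⧸ maximalIdeal B) := ‹Module.Finite k (ResidueField B)›
      have h2 : Module.Finite k ((B ⧸ maximalIdeal B) ⊗[B] M) :=
        Module.Finite.trans (B ⧸ maximalIdeal B) _
      exact Module.Finite.of_surjective (e.toLinearMap.restrictScalars k) e.surjective
    have hN' : Module.Finite k (N.restrictScalars k) := hN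
    have hQ' : Module.Finite k (M ⧸ N.restrictScalars k) := hQ
    exact Module.Finite.of_submodule_quotient (N.restrictScalars k)

theorem finite_of_artinian {k B : Type*} [Field k] [CommRing B] [IsLocalRing B]
    [IsArtinianRing B] [Algebra k B] [Module.Finite k (ResidueField B)] : Module.Finite k B := by
  obtain ⟨N, hN⟩ := (isArtinianRing_iff_isNilpotent_maximalIdeal B).mp inferInstance
  apply finite_of_pow_smul_eq_bot (k := k) (B := B) N B
  rw [smul_eq_mul, Ideal.mul_top]
  exact hN

theorem maximalIdeal_mvPowerSeries (k : Type u) [Field k] (n : ℕ) :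
    maximalIdeal (MvPowerSeries (Fin n) k) =
      Ideal.span (Set.range (MvPowerSeries.X : Fin n → MvPowerSeries (Fin n) k)) := by
  ext f
  have := Groth.Agent.Lib.Helper61.MvPSComplete.mem_pow_iff (σ := Fin n) (R := k) (M := 1) (f := f)
  rw [pow_one] at this
  rw [this, Nat.cast_one, MvPowerSeries.one_le_order_iff_constCoeff_eq_zero, mem_maximalIdeal,
    mem_nonunits_iff, MvPowerSeries.isUnit_iff_constantCoeff, isUnit_iff_ne_zero, not_not]

theorem dim_le (k : Type u) [Field k] (n : ℕ) :
    ringKrullDim (MvPowerSeries (Fin n) k) ≤ n := by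
  have := Groth.Agent.Lib.Helper49.FSRegular.isRegularLocalRing_mvPowerSeries k n
  refine le_trans (ringKrullDim_le_spanFinrank_maximalIdeal _) ?_
  rw [maximalIdeal_mvPowerSeries]
  have h1 := Submodule.spanFinrank_span_le_ncard_of_finite (R := MvPowerSeries (Fin n) k)
    (Set.finite_range (MvPowerSeries.X : Fin n → MvPowerSeries (Fin n) k))
  have h2 : (Set.range (MvPowerSeries.X : Fin n → MvPowerSeries (Fin n) k)).ncard ≤ n := by
    have := Set.ncard_image_le (f := (MvPowerSeries.X : Fin n → MvPowerSeries (Fin n) k))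
      (Set.finite_univ (α := Fin n))
    rw [Set.image_univ, Set.ncard_univ, Nat.card_fin] at this
    exact this
  exact_mod_cast h1.trans h2

theorem exists_sop (A : Type u) [CommRing A] [IsLocalRing A] [IsNoetherianRing A] :
    ∃ (n : ℕ) (x : Fin n → A), (n : WithBot ℕ∞) = ringKrullDim A ∧
      Ideal.span (Set.range x) ≤ maximalIdeal A ∧
      IsArtinianRing (A ⧸ Ideal.span (Set.range x)) := by
  classical
  obtain ⟨s, hs, hcard⟩ :=
    Ideal.exists_finset_card_eq_height_of_isNoetherianRing (maximalIdeal A)
  let x : Fin s.card → A := fun i => (s.equivFin.symm i : A)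
  have hrange : Set.range x = (s : Set A) := by
    ext a
    constructor
    · rintro ⟨i, rfl⟩
      exact (s.equivFin.symm i).2
    · intro ha
      exact ⟨s.equivFin ⟨a, ha⟩, by simp [x]⟩
  refine ⟨s.card, x, ?_, ?_, ?_⟩
  · rw [← IsLocalRing.maximalIdeal_height_eq_ringKrullDim, ← hcard]
    rfl
  · rw [hrange]
    exact hs.1.2
  · rw [hrange]
    exact IsLocalRing.quotient_artinian_of_mem_minimalPrimes_of_isLocalRing _ hs

theorem finite_of_eval {k₀ A : Type u} [Field k₀] [CommRing A] [IsLocalRing A]
    [IsNoetherianRing A] [IsAdicComplete (maximalIdeal A) A] [Algebra k₀ A]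
    [Module.Finite k₀ (ResidueField A)] {n : ℕ} (x : Fin n → A)
    (hx : Ideal.span (Set.range x) ≤ maximalIdeal A)
    (hart : IsArtinianRing (A ⧸ Ideal.span (Set.range x)))
    (ψ : MvPowerSeries (Fin n) k₀ →ₐ[k₀] A) (hψ : ∀ i, ψ (MvPowerSeries.X i) = x i) :
    ψ.toRingHom.Finite := by
  let P := MvPowerSeries (Fin n) k₀
  let J : Ideal A := Ideal.span (Set.range x)
  let I : Ideal P := Ideal.span (Set.range (MvPowerSeries.X : Fin n → P))
  let : Algebra P A := ψ.toRingHom.toAlgebra
  have : IsScalarTower k₀ P A := IsScalarTower.of_algebraMap_eq' ψ.comp_algebraMap.symm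
  change Module.Finite P A
  have hImap : I.map (algebraMap P A) = J := by
    rw [Ideal.map_span, ← Set.range_comp]
    congr 2
    ext i
    exact hψ i
  have hsmul : ∀ m : ℕ, ((I ^ m • ⊤ : Submodule P A) : Set A) ⊆ ((J ^ m : Ideal A) : Set A) := by
    intro m a ha
    refine Submodule.smul_induction_on ha ?_ ?_
    · intro r hr b _
      rw [SetLike.mem_coe, Algebra.smul_def]
      refine Ideal.mul_mem_right _ _ ?_
      rw [← hImap, ← Ideal.map_pow]
      exact Ideal.mem_map_of_mem _ hr
    · intro a b ha hb
      exact Ideal.add_mem _ ha hb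
  have : IsHausdorff I A := by
    refine ⟨fun a ha => ?_⟩
    apply IsHausdorff.haus (inferInstance : IsHausdorff (maximalIdeal A) A)
    intro m
    have h1 := ha m
    rw [SModEq.zero] at h1 ⊢
    rw [smul_eq_mul, Ideal.mul_top]
    exact Ideal.pow_right_mono hx m (hsmul m h1)
  have : IsLocalRing (A ⧸ J) := by
    have : Nontrivial (A ⧸ J) := Ideal.Quotient.nontrivial_iff.mpr
      (fun h => (maximalIdeal.isMaximal A).ne_top (top_le_iff.mp (h ▸ hx)))
    exact IsLocalRing.of_surjective' (Ideal.Quotient.mk J) Ideal.Quotient.mk_surjective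
  have : IsLocalHom (Ideal.Quotient.mk J) :=
    IsLocalHom.of_surjective _ Ideal.Quotient.mk_surjective
  have : Module.Finite k₀ (ResidueField (A ⧸ J)) := by
    let f : ResidueField A →ₐ[k₀] ResidueField (A ⧸ J) :=
      { ResidueField.map (Ideal.Quotient.mk J) with
        commutes' := fun c => rfl }
    have hf : Function.Surjective f := by
      intro y
      obtain ⟨y, rfl⟩ := residue_surjective y
      obtain ⟨y, rfl⟩ := Ideal.Quotient.mk_surjective y
      exact ⟨residue A y, rfl⟩
    exact Module.Finite.of_surjective f.toLinearMap hf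
  have hfin : Module.Finite k₀ (A ⧸ J) := finite_of_artinian
  have hJle : (J : Set A) ⊆ ((I • ⊤ : Submodule P A) : Set A) := by
    intro a ha
    rw [SetLike.mem_coe, ← hImap] at ha
    refine Submodule.span_induction ?_ ?_ ?_ ?_ ha
    · rintro _ ⟨r, hr, rfl⟩
      have : algebraMap P A r = r • (1 : A) := by rw [Algebra.smul_def, mul_one]
      rw [SetLike.mem_coe, this]
      exact Submodule.smul_mem_smul hr trivial
    · exact zero_mem _
    · intro a b _ _ ha hb
      exact add_mem ha hb
    · intro c a _ ha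
      have h1 : c • a = a * c := by rw [smul_eq_mul, mul_comm]
      rw [SetLike.mem_coe] at ha ⊢
      refine Submodule.smul_induction_on ha ?_ ?_
      · intro r hr b _
        have : c • r • b = r • (c * b) := by
          rw [smul_eq_mul, Algebra.smul_def, Algebra.smul_def]
          ring
        rw [this]
        exact Submodule.smul_mem_smul hr trivial
      · intro a b ha hb
        rw [smul_add]
        exact add_mem ha hb
  have hq : Module.Finite P (A ⧸ (I • ⊤ : Submodule P A)) := by
    classical
    obtain ⟨t, ht⟩ := (Module.finite_def.mp hfin)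
    choose lift hlift using fun y : A ⧸ J => Ideal.Quotient.mk_surjective y
    refine ⟨Submodule.fg_def.mpr ⟨(fun y => (I • ⊤ : Submodule P A).mkQ (lift y)) '' (t : Set (A ⧸ J)),
      (t.finite_toSet).image _, ?_⟩⟩
    rw [eq_top_iff]
    rintro y -
    obtain ⟨a, rfl⟩ := (I • ⊤ : Submodule P A).mkQ_surjective y
    have h1 : Ideal.Quotient.mk J a ∈ Submodule.span k₀ (t : Set (A ⧸ J)) := by
      rw [ht]; trivial
    obtain ⟨c, -, hc⟩ := (Submodule.mem_span_finset.mp h1)
    have h2 : a - ∑ y ∈ t, c y • lift y ∈ J := by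
      rw [← Ideal.Quotient.eq_zero_iff_mem, map_sub, map_sum, ← hc, sub_eq_zero]
      refine Finset.sum_congr rfl fun y _ => ?_
      have e : Ideal.Quotient.mk J (c y • lift y) = c y • Ideal.Quotient.mk J (lift y) := rfl
      rw [e, hlift]
    have h3 : (I • ⊤ : Submodule P A).mkQ a =
        ∑ y ∈ t, c y • (I • ⊤ : Submodule P A).mkQ (lift y) := by
      have h4 : (I • ⊤ : Submodule P A).mkQ (a - ∑ y ∈ t, c y • lift y) = 0 := by
        rw [Submodule.mkQ_apply, Submodule.Quotient.mk_eq_zero]
        exact hJle h2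
      rw [map_sub, sub_eq_zero] at h4
      rw [h4, map_sum]
      refine Finset.sum_congr rfl fun y _ => ?_
      rw [← algebraMap_smul P (c y) (lift y), map_smul, algebraMap_smul]
    rw [h3]
    refine Submodule.sum_mem _ fun y hy => ?_
    rw [← algebraMap_smul P (c y)]
    exact Submodule.smul_mem _ _ (Submodule.subset_span ⟨y, hy, rfl⟩)
  exact Groth.Agent.S0544.result P I A hq

theorem injective_of_finite {k₀ A : Type u} [Field k₀] [CommRing A] [IsDomain A]
    {n : ℕ} (hn : (n : WithBot ℕ∞) = ringKrullDim A)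
    (ψ : MvPowerSeries (Fin n) k₀ →+* A) (hfin : ψ.Finite) :
    Function.Injective ψ := by
  let P := MvPowerSeries (Fin n) k₀
  rw [injective_iff_map_eq_zero]
  intro r hr
  by_contra hr0
  have hle : Ideal.span {r} ≤ RingHom.ker ψ := by
    rw [Ideal.span_le, Set.singleton_subset_iff]
    exact hr
  let φ : P ⧸ Ideal.span {r} →+* A := Ideal.Quotient.lift _ ψ (fun a ha => hle ha)
  have hφ : φ.comp (Ideal.Quotient.mk _) = ψ := Ideal.Quotient.lift_comp_mk _ _ _
  have hφfin : φ.Finite := by
    refine RingHom.Finite.of_comp_finite (f := Ideal.Quotient.mk (Ideal.span {r})) ?_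
    rw [hφ]
    exact hfin
  have h1 : ringKrullDim A ≤ ringKrullDim (P ⧸ Ideal.span {r}) :=
    Groth.Agent.Lib.Helper49.GeomRegFS.ringKrullDim_le_of_isIntegral φ hφfin.to_isIntegral
  have h2 : ringKrullDim (P ⧸ Ideal.span {r}) + 1 ≤ ringKrullDim P :=
    ringKrullDim_quotient_succ_le_of_nonZeroDivisor (mem_nonZeroDivisors_of_ne_zero hr0)
  have h3 := dim_le k₀ n
  have h4 : ((n : WithBot ℕ∞) + 1) ≤ n := by
    calc ((n : WithBot ℕ∞) + 1) = ringKrullDim A + 1 := by rw [hn]
      _ ≤ ringKrullDim (P ⧸ Ideal.span {r}) + 1 := by gcongr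
      _ ≤ ringKrullDim P := h2
      _ ≤ n := h3
  have h5 : ((n + 1 : ℕ) : WithBot ℕ∞) ≤ (n : ℕ) := by exact_mod_cast h4
  have h6 : n + 1 ≤ n := by exact_mod_cast h5
  omega

open IsLocalRing in
/-- Let A be a complete Noetherian local domain containing a field k₀ such that the residue field of A
is a finite extension of k₀. Then there are n and an injective local k₀-algebra homomorphism from
the power series ring k₀[[T_1, …, T_n]] into A making A a finite module over it. -/
theorem result {k₀ A : Type u} [Field k₀] [CommRing A] [IsDomain A] [IsLocalRing A] [IsNoetherianRing A]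
    [IsAdicComplete (maximalIdeal A) A] [Algebra k₀ A] [Module.Finite k₀ (ResidueField A)] :
    ∃ (n : ℕ) (w : MvPowerSeries (Fin n) k₀ →ₐ[k₀] A), Function.Injective w ∧ IsLocalHom w.toRingHom ∧ w.toRingHom.Finite := by
  obtain ⟨n, x, hn, hx, hart⟩ := exists_sop A
  have : IsAdicComplete (Ideal.span (Set.range x)) A :=
    Groth.Agent.Lib.Helper61.CompleteLE.isAdicComplete_of_le _ (maximalIdeal A) hx
      (IsNoetherian.noetherian _)
  obtain ⟨ψ, hψ⟩ := Groth.Agent.Lib.Helper61.PSEval.exists_eval k₀ A x
  have hfin := finite_of_eval x hx hart ψ hψ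
  refine ⟨n, ψ, injective_of_finite hn ψ.toRingHom hfin, ?_, hfin⟩
  constructor
  intro f hf
  by_contra hnu
  have hmem : f ∈ maximalIdeal (MvPowerSeries (Fin n) k₀) := hnu
  rw [maximalIdeal_mvPowerSeries] at hmem
  have h1 : ψ.toRingHom f ∈ (Ideal.span (Set.range (MvPowerSeries.X : Fin n → MvPowerSeries (Fin n) k₀))).map ψ.toRingHom :=
    Ideal.mem_map_of_mem _ hmem
  rw [Ideal.map_span, ← Set.range_comp] at h1
  have h2 : (ψ.toRingHom ∘ (MvPowerSeries.X : Fin n → MvPowerSeries (Fin n) k₀)) = x := by
    ext i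
    exact hψ i
  rw [h2] at h1
  exact (hx h1) hf

end Groth.Agent.S2460
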