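import Groth.Statements.S2461
-- import your own Groth.Agent.* helpers here
import Groth.Agent.Lib.Helper61.FSAdicCompl

set_option autoImplicit false
universe u
open EGA41

namespace Groth.Agent.S2461

open Groth.Agent.Lib.Helper61.FSCompl AdicCompletion

theorem of_completion {A B : Type u} [CommRing A] (𝔞 : Ideal A) [CommRing B] [Algebra A B] (𝔟 : Ideal B)
    (h : EGA41.IsFormallySmoothAdic A 𝔞 (AdicCompletion 𝔟 B) (𝔟.map (algebraMap B (AdicCompletion 𝔟 B)))) :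
    EGA41.IsFormallySmoothAdic A 𝔞 B 𝔟 := by
  intro C _ _ J hJ hC ψ hψ
  obtain ⟨k, hk⟩ := hψ
  let ψbar : B ⧸ 𝔟 ^ k →ₐ[A] C ⧸ J := Ideal.Quotient.liftₐ (𝔟 ^ k) ψ hk
  let ψhat : AdicCompletion 𝔟 B →ₐ[A] C ⧸ J := ψbar.comp ((evalₐ 𝔟 k).restrictScalars A)
  have hψhat : ∀ x, ψhat x = ψbar (evalₐ 𝔟 k x) := fun x => rfl
  obtain ⟨χhat, hχ⟩ := h C J hJ hC ψhat ⟨k, fun x hx => by
    rw [← Ideal.map_pow] at hx
    rw [hψhat, evalₐ_eq_zero_of_mem 𝔟 hx, _root_.map_zero]⟩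
  refine ⟨χhat.comp (IsScalarTower.toAlgHom A B (AdicCompletion 𝔟 B)), AlgHom.ext fun s => ?_⟩
  have h1 := DFunLike.congr_fun hχ (algebraMap B (AdicCompletion 𝔟 B) s)
  simp only [AlgHom.comp_apply] at h1 ⊢
  rw [IsScalarTower.coe_toAlgHom', h1, hψhat]
  change ψbar (evalₐ 𝔟 k (of 𝔟 B s)) = ψ s
  rw [evalₐ_of]
  rfl

theorem to_completion {A B : Type u} [CommRing A] (𝔞 : Ideal A) [CommRing B] [Algebra A B] (𝔟 : Ideal B)
    (h𝔫 : 𝔟.FG) (h : EGA41.IsFormallySmoothAdic A 𝔞 B 𝔟) :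
    EGA41.IsFormallySmoothAdic A 𝔞 (AdicCompletion 𝔟 B) (𝔟.map (algebraMap B (AdicCompletion 𝔟 B))) := by
  intro C _ _ J hJ hC ψhat hψ
  obtain ⟨k, hk⟩ := hψ
  obtain ⟨t, ht⟩ := hJ
  let ι : B →ₐ[A] AdicCompletion 𝔟 B := IsScalarTower.toAlgHom A B (AdicCompletion 𝔟 B)
  have hι : ∀ s, ι s = algebraMap B (AdicCompletion 𝔟 B) s := fun s => rfl
  let ψ : B →ₐ[A] C ⧸ J := ψhat.comp ι
  have hψk : ∀ x ∈ 𝔟 ^ k, ψ x = 0 := by
    intro x hx
    apply hk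
    rw [← Ideal.map_pow]
    exact Ideal.mem_map_of_mem _ hx
  obtain ⟨χ, hχ⟩ := h C J ⟨t, ht⟩ hC ψ ⟨k, hψk⟩
  have hχJ : ∀ x ∈ 𝔟 ^ k, χ x ∈ J := by
    intro x hx
    rw [← Ideal.Quotient.eq_zero_iff_mem]
    have := DFunLike.congr_fun hχ x
    simp only [AlgHom.comp_apply] at this
    exact this.trans (hψk x hx)
  have hχ2k : ∀ x ∈ 𝔟 ^ (k * (t + 1)), χ x = 0 := by
    intro x hx
    have h1 : (𝔟 ^ (k * (t + 1))).map (χ : B →+* C) ≤ ⊥ := by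
      have h2 : (𝔟 ^ k).map (χ : B →+* C) ≤ J := by
        rw [Ideal.map_le_iff_le_comap]
        intro y hy
        exact hχJ y hy
      rw [pow_mul, Ideal.map_pow]
      refine (Ideal.pow_right_mono h2 (t + 1)).trans ?_
      rw [pow_succ, ht]
      simp
    exact Ideal.mem_bot.mp (h1 (Ideal.mem_map_of_mem _ hx))
  let χbar : B ⧸ 𝔟 ^ (k * (t + 1)) →ₐ[A] C := Ideal.Quotient.liftₐ (𝔟 ^ (k * (t + 1))) χ hχ2k
  let χhat : AdicCompletion 𝔟 B →ₐ[A] C :=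
    χbar.comp ((evalₐ 𝔟 (k * (t + 1))).restrictScalars A)
  have hχhat : ∀ x, χhat x = χbar (evalₐ 𝔟 (k * (t + 1)) x) := fun x => rfl
  refine ⟨χhat, AlgHom.ext fun x => ?_⟩
  obtain ⟨s, hs1, hs2⟩ := exists_of_sub_mem 𝔟 h𝔫 (k * (t + 1)) x
  have h3 : ψhat (x - algebraMap B (AdicCompletion 𝔟 B) s) = 0 := by
    apply hk
    rw [← Ideal.map_pow]
    exact Ideal.map_mono (Ideal.pow_le_pow_right (by nlinarith)) hs2
  rw [map_sub, sub_eq_zero] at h3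
  simp only [AlgHom.comp_apply]
  rw [hχhat, hs1, h3]
  have h4 := DFunLike.congr_fun hχ s
  simp only [AlgHom.comp_apply] at h4
  exact h4

/-- Let A carry the 𝔞-adic topology and let B be a Noetherian A-algebra with the 𝔟-adic topology. Then B
is formally smooth over A if and only if the 𝔟-adic completion of B, with the adic topology of the
extended ideal, is formally smooth over A. -/
theorem result {A B : Type u} [CommRing A] (𝔞 : Ideal A) [CommRing B] [IsNoetherianRing B] [Algebra A B] (𝔟 : Ideal B) :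
    EGA41.IsFormallySmoothAdic A 𝔞 B 𝔟 ↔
      EGA41.IsFormallySmoothAdic A 𝔞 (AdicCompletion 𝔟 B) (𝔟.map (algebraMap B (AdicCompletion 𝔟 B))) := by
  exact ⟨to_completion 𝔞 𝔟 (IsNoetherian.noetherian 𝔟), of_completion 𝔞 𝔟⟩

end Groth.Agent.S2461
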