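import Groth.Statements.S2462
-- import your own Groth.Agent.* helpers here
import Groth.Agent.Lib.Helper61.FSAdicComplete
import Mathlib.RingTheory.AdicCompletion.Noetherian

set_option autoImplicit false
universe u
open EGA41

namespace Groth.Agent.S2462

open Groth.Agent.Lib.Helper61.FSAdic

open IsLocalRing in
/-- Let A carry the 𝔞-adic and B the 𝔟-adic topology with B formally smooth over A; let C be a complete
Noetherian local A-algebra with 𝔞C inside the maximal ideal (continuity of A → C) and J ≠ C an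
ideal. Then every A-algebra homomorphism u : B → C/J sending 𝔟 into the maximal ideal of C/J
(continuity) is induced by an A-algebra homomorphism v : B → C sending 𝔟 into the maximal ideal of
C. -/
theorem result {A B C : Type u} [CommRing A] (𝔞 : Ideal A) [CommRing B] [Algebra A B] (𝔟 : Ideal B)
    (hB : EGA41.IsFormallySmoothAdic A 𝔞 B 𝔟)
    [CommRing C] [IsLocalRing C] [IsNoetherianRing C] [IsAdicComplete (maximalIdeal C) C] [Algebra A C]
    (hA : 𝔞.map (algebraMap A C) ≤ maximalIdeal C) (J : Ideal C) (hJ : J ≠ ⊤)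
    (u : B →ₐ[A] C ⧸ J) (hu : 𝔟.map u.toRingHom ≤ (maximalIdeal C).map (Ideal.Quotient.mk J)) :
    ∃ v : B →ₐ[A] C, 𝔟.map v.toRingHom ≤ maximalIdeal C ∧ (Ideal.Quotient.mkₐ A J).comp v = u := by
  have hL := (ega_iff 𝔞 𝔟).mp hB
  have hJm : J ≤ maximalIdeal C := IsLocalRing.le_maximalIdeal hJ
  haveI : Nontrivial (C ⧸ J) := Ideal.Quotient.nontrivial_iff.mpr hJ
  haveI : IsLocalRing (C ⧸ J) :=
    IsLocalRing.of_surjective' (Ideal.Quotient.mk J) Ideal.Quotient.mk_surjective
  have hne : (maximalIdeal C).map (Ideal.Quotient.mk J) ≠ ⊤ := by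
    intro h
    have h2 := congrArg (Ideal.comap (Ideal.Quotient.mk J)) h
    rw [Ideal.comap_map_of_surjective _ Ideal.Quotient.mk_surjective, Ideal.comap_top,
      ← RingHom.ker_eq_comap_bot, Ideal.mk_ker, sup_eq_left.mpr hJm] at h2
    exact (maximalIdeal.isMaximal C).ne_top h2
  haveI : IsHausdorff ((maximalIdeal C).map (Ideal.Quotient.mk J)) (C ⧸ J) :=
    IsHausdorff.of_isLocalRing _ _ hne
  obtain ⟨v, hv1, hv2, k, hk⟩ := lift_to_complete hL (maximalIdeal C) (algebraMap A C)
    ⟨1, by simpa using hA⟩ J ⟨1, by simpa using hJm⟩ u.toRingHom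
    (by ext a; exact u.commutes a) ⟨1, by simpa using hu⟩
  refine ⟨{ v with commutes' := fun a => congrArg (fun g => g a) hv1 }, ?_, ?_⟩
  · rw [Ideal.map_le_iff_le_comap]
    intro x hx
    have h1 : v (x ^ k) ∈ maximalIdeal C :=
      hk (Ideal.mem_map_of_mem _ (Ideal.pow_mem_pow hx k))
    rw [map_pow] at h1
    exact (maximalIdeal.isMaximal C).isPrime.mem_of_pow_mem k h1
  · ext b
    exact congrArg (fun g => g b) hv2

end Groth.Agent.S2462
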