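import Groth.Statements.S2464
-- import your own Groth.Agent.* helpers here
import Groth.Agent.Lib.Helper49.PBasis

set_option autoImplicit false
universe u
open EGA41

namespace Groth.Agent.S2464

open Groth.Agent.Lib.Helper49.PBasis

/-- Let p be a prime, B a ring of characteristic p and A → B an injective ring map whose image contains
every p-th power, and (x_α) a p-basis of B over A. Let E be an A-algebra and q : E → B a surjective
A-algebra homomorphism whose kernel K has K^p = 0. (i) q admits an A-algebra right inverse if and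
only if, for all z ∈ E and a ∈ A with a ↦ q(z)^p in B, the image of a in E is z^p. (ii) When this
holds, for every family (z_α) in E with q(z_α) = x_α there is a unique A-algebra homomorphism v : B
→ E with v(x_α) = z_α for all α, and q ∘ v is the identity. -/
theorem result (p : ℕ) [Fact p.Prime] {A B : Type u} [CommRing A] [CommRing B] [Algebra A B] [CharP B p]
    (hinj : Function.Injective (algebraMap A B)) (hpow : ∀ b : B, b ^ p ∈ Set.range (algebraMap A B))
    {ι : Type u} (x : ι → B) (hx : EGA41.IsPBasis p A x)
    {E : Type u} [CommRing E] [Algebra A E] (q : E →ₐ[A] B) (hq : Function.Surjective q) (hK : RingHom.ker q.toRingHom ^ p = ⊥) :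
    ((∃ v : B →ₐ[A] E, q.comp v = AlgHom.id A B) ↔ ∀ (z : E) (a : A), algebraMap A B a = q z ^ p → algebraMap A E a = z ^ p) ∧
    ((∀ (z : E) (a : A), algebraMap A B a = q z ^ p → algebraMap A E a = z ^ p) →
      ∀ z : ι → E, (∀ i, q (z i) = x i) →
        (∃! v : B →ₐ[A] E, ∀ i, v (x i) = z i) ∧ ∀ v : B →ₐ[A] E, (∀ i, v (x i) = z i) → q.comp v = AlgHom.id A B) := by
  have part2 : (∀ (z : E) (a : A), algebraMap A B a = q z ^ p → algebraMap A E a = z ^ p) →
      ∀ z : ι → E, (∀ i, q (z i) = x i) →
        (∃! v : B →ₐ[A] E, ∀ i, v (x i) = z i) ∧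
          ∀ v : B →ₐ[A] E, (∀ i, v (x i) = z i) → q.comp v = AlgHom.id A B := by
    intro cond z hz
    have hz' : ∀ i (a : A), algebraMap A B a = x i ^ p → z i ^ p = algebraMap A E a := by
      intro i a ha
      exact (cond (z i) a (by rw [ha, hz i])).symm
    obtain ⟨v, hv⟩ := exists_algHom hinj hpow hx z hz'
    refine ⟨⟨v, hv, fun w hw => ?_⟩, fun w hw => ?_⟩
    · exact algHom_ext hpow hx.2 _ _ fun i => by rw [hw i, hv i]
    · refine algHom_ext hpow hx.2 _ _ fun i => ?_
      rw [AlgHom.comp_apply, hw i, hz i]
      rfl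
  refine ⟨⟨?_, ?_⟩, part2⟩
  · rintro ⟨v, hv⟩ z a ha
    have hp : p.Prime := Fact.out
    have hBnt : Nontrivial B := CharP.nontrivial_of_char_ne_one (R := B) hp.ne_one
    have hEnt : Nontrivial E := q.toRingHom.domain_nontrivial
    have hpB : (p : B) = 0 := CharP.cast_eq_zero B p
    have hpA : (p : A) = 0 := by
      apply hinj
      rw [map_natCast, map_zero, hpB]
    have hpE : (p : E) = 0 := by
      have := congrArg (algebraMap A E) hpA
      rwa [map_natCast, map_zero] at this
    have hcE : CharP E p := (CharP.charP_iff_prime_eq_zero hp).mpr hpE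
    have hw : z - v (q z) ∈ RingHom.ker q.toRingHom := by
      rw [RingHom.mem_ker]
      have h1 : q (v (q z)) = q z := by
        have := congrArg (fun w : B →ₐ[A] B => w (q z)) hv
        simpa using this
      change q (z - v (q z)) = 0
      rw [map_sub, h1, sub_self]
    have hwp : (z - v (q z)) ^ p = 0 := by
      have := Ideal.pow_mem_pow hw p
      rwa [hK, Ideal.mem_bot] at this
    rw [sub_pow_char, sub_eq_zero] at hwp
    rw [hwp, ← map_pow, ← ha, AlgHom.commutes]
  · intro cond
    choose z hz using fun i => hq (x i)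
    obtain ⟨⟨v, hv, -⟩, h2⟩ := part2 cond z hz
    exact ⟨v, h2 v hv⟩

end Groth.Agent.S2464
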