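import Groth.Statements.S2465
-- import your own Groth.Agent.* helpers here
import Groth.Agent.Lib.Helper49.PBasis

set_option autoImplicit false
universe u
open EGA41

namespace Groth.Agent.S2465

open Groth.Agent.Lib.Helper49.PBasis

/-- Let p be a prime, B a ring of characteristic p, A → B injective with image containing all p-th
powers, (x_α) a p-basis of B over A, and L a B-module. (i) An additive derivation D : A → L extends
to a derivation of B if and only if D vanishes on the elements of A mapping to p-th powers. (ii) In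
that case, for every family (y_α) in L there is a unique derivation D' of B into L extending D with
D'(x_α) = y_α for all α. -/
theorem result (p : ℕ) [Fact p.Prime] {A B : Type u} [CommRing A] [CommRing B] [Algebra A B] [CharP B p]
    (hinj : Function.Injective (algebraMap A B)) (hpow : ∀ b : B, b ^ p ∈ Set.range (algebraMap A B))
    {ι : Type u} (x : ι → B) (hx : EGA41.IsPBasis p A x)
    (L : Type u) [AddCommGroup L] [Module B L] [Module A L] [IsScalarTower A B L] (D : Derivation ℤ A L) :
    ((∃ D' : Derivation ℤ B L, ∀ a : A, D' (algebraMap A B a) = D a) ↔ ∀ (a : A) (b : B), algebraMap A B a = b ^ p → D a = 0) ∧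
    ((∀ (a : A) (b : B), algebraMap A B a = b ^ p → D a = 0) →
      ∀ y : ι → L, ∃! D' : Derivation ℤ B L, (∀ a : A, D' (algebraMap A B a) = D a) ∧ ∀ i, D' (x i) = y i) := by
  have hpL : ∀ l : L, p • l = 0 := fun l => by
    rw [← Nat.cast_smul_eq_nsmul B, CharP.cast_eq_zero, zero_smul]
  have part1 : (∃ D' : Derivation ℤ B L, ∀ a : A, D' (algebraMap A B a) = D a) →
      ∀ (a : A) (b : B), algebraMap A B a = b ^ p → D a = 0 := by
    rintro ⟨D', hD'⟩ a b hab
    rw [← hD', hab, Derivation.leibniz_pow, hpL]
  have part2 : (∀ (a : A) (b : B), algebraMap A B a = b ^ p → D a = 0) →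
      ∀ y : ι → L, ∃! D' : Derivation ℤ B L,
        (∀ a : A, D' (algebraMap A B a) = D a) ∧ ∀ i, D' (x i) = y i := by
    intro cond y
    obtain ⟨e, he⟩ := exists_equiv (p := p) hinj hpow
    have he' : ∀ c : EGA41.pPowerSubalgebra p A B, algebraMap A B (e.symm c) = c := by
      intro c
      rw [← he, e.apply_symm_apply]
    let d₀ : EGA41.pPowerSubalgebra p A B →+ L :=
      (D : A →ₗ[ℤ] L).toAddMonoidHom.comp e.symm.toAddMonoidHom
    have hd₀ : ∀ c, d₀ c = D (e.symm c) := fun c => rfl
    obtain ⟨δ, hδ, hδ0, hδx⟩ := exists_leibniz hx L d₀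
      (fun c c' => by
        rw [hd₀, hd₀, hd₀, map_mul, Derivation.leibniz, ← he' c, ← he' c', algebraMap_smul,
          algebraMap_smul])
      (fun i => by
        rw [hd₀]
        exact cond _ (x i) (he' _))
      y
    have hδA : ∀ a : A, δ (algebraMap A B a) = D a := by
      intro a
      rw [← he a, hδ0, hd₀, e.symm_apply_apply]
    refine ⟨Derivation.mk' δ.toIntLinearMap hδ, ⟨hδA, hδx⟩, ?_⟩
    rintro D'' ⟨h1, h2⟩
    have := leibniz_ext hx.2 (D'' : B →ₗ[ℤ] L).toAddMonoidHom δ
      (fun a b => D''.leibniz a b) hδ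
      (fun c => by
        change D'' c = δ c
        rw [← he' c, h1, hδA])
      (fun i => by
        change D'' (x i) = δ (x i)
        rw [h2, hδx])
    ext b
    exact congrArg (fun w : B →+ L => w b) this
  refine ⟨⟨part1, fun cond => ?_⟩, part2⟩
  obtain ⟨D', hD', -⟩ := part2 cond 0
  exact ⟨D', hD'.1⟩

end Groth.Agent.S2465
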