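import Groth.Statements.S2476
-- import your own Groth.Agent.* helpers here
import Mathlib
import Groth.Agent.Lib.Helper49.OmegaHat3
import Groth.Agent.Lib.Helper49.OmegaHat5
import Groth.Agent.Lib.Helper70.AdicFS4

set_option autoImplicit false
universe u
open EGA41

namespace Groth.Agent.S2476


open IsLocalRing in
/-- Let k₀ be a field and A a complete Noetherian local k₀-algebra, formally smooth over k₀ for the adic
topology, whose residue field K is a finitely generated extension of k₀. Then the 𝔪-adic completion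
Ω̂_{A/k₀} of Ω_{A/k₀} is a free A-module of rank dim A + trdeg_{k₀} K. -/
theorem result {k₀ A : Type u} [Field k₀] [CommRing A] [IsLocalRing A] [IsNoetherianRing A] [Algebra k₀ A]
    [IsAdicComplete (maximalIdeal A) A] (hfs : CAlgX.IsAdicFormallySmooth k₀ A (maximalIdeal A))
    [Algebra.EssFiniteType k₀ (ResidueField A)] :
    Module.Finite A (AdicCompletion (maximalIdeal A) (Ω[A⁄k₀])) ∧ Module.Free A (AdicCompletion (maximalIdeal A) (Ω[A⁄k₀])) ∧
      (Module.finrank A (AdicCompletion (maximalIdeal A) (Ω[A⁄k₀])) : WithBot ℕ∞) =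
        ringKrullDim A + (Cardinal.toNat (Algebra.trdeg k₀ (ResidueField A)) : WithBot ℕ∞) := by
  obtain ⟨hfin, hrank⟩ := Groth.Agent.Lib.Helper49.OmegaHat.finrank_tensor_kaehler hfs
  have hproj : ∀ j : ℕ, 1 ≤ j → Module.Projective (A ⧸ IsLocalRing.maximalIdeal A ^ j)
      (TensorProduct A (A ⧸ IsLocalRing.maximalIdeal A ^ j) (Ω[A⁄k₀])) := by
    intro j _
    apply Groth.Agent.Lib.Helper70.AdicFS4.projective_omega (IsLocalRing.maximalIdeal A ^ j)
    intro E _ _ N hN ψ hψ
    obtain ⟨k, hk⟩ := hψ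
    exact hfs E N hN ψ ⟨j * k, fun x hx => hk x (by rwa [← pow_mul])⟩
  let b := Module.finBasis (IsLocalRing.ResidueField A)
    (TensorProduct A (IsLocalRing.ResidueField A) (Ω[A⁄k₀]))
  obtain ⟨Φ⟩ := Groth.Agent.Lib.Helper49.OmegaHat.exists_equiv hproj b
  refine ⟨Module.Finite.equiv Φ, Module.Free.of_equiv Φ, ?_⟩
  rw [← Φ.finrank_eq, Module.finrank_fin_fun]
  exact hrank

end Groth.Agent.S2476
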