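import Groth.Statements.S2478
import Mathlib
import Groth.Agent.Lib.Helper46.ProConsInter
import Groth.Agent.Lib.Helper36.ProConsScheme3

set_option autoImplicit false
universe u
open EGA41

namespace Groth.Agent.S2478

open Topology in
/-- Equivalence of (a'') and (b) for X = Spec A affine: a subset E of Spec A is the image of the map
Spec B → Spec A induced by some ring homomorphism A → B if and only if E is an intersection of a
family of constructible subsets of Spec A. -/
theorem result {A : Type u} [CommRing A] (E : Set (PrimeSpectrum A)) :
    (∃ (B : Type u) (_ : CommRing B) (f : A →+* B), Set.range (PrimeSpectrum.comap f) = E) ↔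
      ∃ S : Set (Set (PrimeSpectrum A)), (∀ s ∈ S, IsConstructible s) ∧ E = ⋂₀ S := by
  open AlgebraicGeometry in
  constructor
  · rintro ⟨B, _, f, rfl⟩
    have h1 : ProCons.IsProConstructible (Set.univ : Set ↥(Spec (CommRingCat.of B))) :=
      Groth.Agent.Lib.Helper36.isProConstructible_of_isLocallyConstructible
        Topology.IsLocallyConstructible.univ
    have h2 := Groth.Agent.Lib.Helper36.scheme_isProConstructible_image
      (Spec.map (CommRingCat.ofHom f)) h1
    rw [Set.image_univ] at h2
    exact Groth.Agent.Lib.Helper46.exists_eq_sInter_of_isProConstructible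
      (X := PrimeSpectrum A) h2
  · intro h
    have hE : ProCons.IsProConstructible E :=
      Groth.Agent.Lib.Helper46.isProConstructible_of_eq_sInter h
    obtain ⟨B, φ, hφ⟩ :=
      Groth.Agent.Lib.Helper36.exists_affine_range_eq_of_isProConstructible_Spec
        (CommRingCat.of A) (E := E) hE
    exact ⟨B, inferInstance, φ.hom, hφ⟩

end Groth.Agent.S2478
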