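import Groth.Statements.S2481
-- import your own Groth.Agent.* helpers here
import Groth.Agent.Lib.Helper49.ArtTest4

set_option autoImplicit false
universe u
open EGA41

namespace Groth.Agent.S2481

open IsLocalRing Groth.Agent.Lib.Helper49.ArtTest

open IsLocalRing in
/-- Let A → B be a local homomorphism of Noetherian local rings with the adic topologies, K the residue
field of B. Then B is formally smooth over A if and only if: for every Artinian local ring C with a
local homomorphism A → C, every nilpotent ideal J of C and every local A-algebra homomorphism u : B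
→ C/J inducing a bijection of residue fields (so that C has residue field K and u induces the
identity on it), u is induced by a local A-algebra homomorphism B → C. -/
theorem result {A B : Type u} [CommRing A] [IsLocalRing A] [IsNoetherianRing A] [CommRing B] [IsLocalRing B] [IsNoetherianRing B]
    [Algebra A B] [IsLocalHom (algebraMap A B)] :
    EGA41.IsFormallySmoothAdic A (maximalIdeal A) B (maximalIdeal B) ↔
      ∀ (C : Type u) [CommRing C] [IsLocalRing C] [IsArtinianRing C] [Algebra A C] [IsLocalHom (algebraMap A C)]
        (J : Ideal C), IsNilpotent J → ∀ [IsLocalRing (C ⧸ J)] (u : B →ₐ[A] C ⧸ J) [IsLocalHom u.toRingHom],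
        Function.Bijective (ResidueField.map u.toRingHom) →
        ∃ f : B →ₐ[A] C, IsLocalHom f.toRingHom ∧ (Ideal.Quotient.mkₐ A J).comp f = u := by
  constructor
  · intro hfs C _ _ _ _ _ J hJ _ u _ _
    obtain ⟨k, hk⟩ := kills_pow_of_local u.toRingHom
    obtain ⟨k', hk'⟩ := kills_pow_of_local (algebraMap A C)
    obtain ⟨f, hf⟩ := hfs C J hJ ⟨k', hk'⟩ u ⟨k, fun x hx => by
      have h1 : u.toRingHom x ∈ (maximalIdeal B ^ k).map u.toRingHom := Ideal.mem_map_of_mem _ hx
      rw [hk, Ideal.mem_bot] at h1
      exact h1⟩
    refine ⟨f, ⟨fun x hx => ?_⟩, hf⟩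
    have h1 : IsUnit (Ideal.Quotient.mk J (f x)) := hx.map _
    have h2 : Ideal.Quotient.mk J (f x) = u x := DFunLike.congr_fun hf x
    rw [h2] at h1
    exact IsLocalHom.map_nonunit (f := u.toRingHom) x h1
  · intro H
    apply isFormallySmoothAdic_of_quot
    intro C _ _ _ _ _ J hJ2 _ _ ψ _ hbij
    obtain ⟨f, -, hf⟩ := H C J ⟨2, hJ2⟩ ψ hbij
    exact ⟨f, hf⟩

end Groth.Agent.S2481
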