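import Groth.Statements.S2482
-- import your own Groth.Agent.* helpers here
import Mathlib
import Groth.Agent.Lib.Helper49.FSQuot
import Groth.Agent.Lib.Helper49.MacLane
import Groth.Agent.Lib.Helper61.FSAdicComplete

set_option autoImplicit false
universe u
open EGA41

namespace Groth.Agent.S2482

open IsLocalRing

theorem injective_of_dvr {B B' : Type*} [CommRing B] [IsDomain B] [IsDiscreteValuationRing B]
    [CommRing B'] [IsDomain B'] [IsLocalRing B']
    (v : B →+* B') (hmap : (maximalIdeal B).map v = maximalIdeal B')
    (hne : maximalIdeal B' ≠ ⊥) : Function.Injective v := by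
  obtain ⟨ϖ, hϖ⟩ := IsDiscreteValuationRing.exists_irreducible B
  have hmax : maximalIdeal B = Ideal.span {ϖ} := hϖ.maximalIdeal_eq
  have hvϖ : v ϖ ≠ 0 := by
    intro h0
    apply hne
    rw [← hmap, hmax, Ideal.map_span, Set.image_singleton, h0]
    simp
  rw [injective_iff_map_eq_zero]
  intro x hx
  by_contra hx0
  obtain ⟨n, w, rfl⟩ := IsDiscreteValuationRing.eq_unit_mul_pow_irreducible hx0 hϖ
  rw [map_mul, map_pow] at hx
  rcases mul_eq_zero.mp hx with h1 | h1
  · exact (w.isUnit.map v).ne_zero h1
  · exact pow_ne_zero n hvϖ h1

theorem surjective_of_complete {B B' : Type*} [CommRing B] [IsLocalRing B]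
    [IsAdicComplete (maximalIdeal B) B]
    [CommRing B'] [IsLocalRing B'] [IsAdicComplete (maximalIdeal B') B']
    (v : B →+* B') (hmap : (maximalIdeal B).map v = maximalIdeal B')
    (hsurj : Function.Surjective ((residue B').comp v)) : Function.Surjective v := by
  have : IsHausdorff ((maximalIdeal B).map v) B' := by
    rw [hmap]; infer_instance
  apply surjective_of_mk_map_comp_surjective (I := maximalIdeal B)
  intro y
  obtain ⟨r, rfl⟩ := Ideal.Quotient.mk_surjective y
  obtain ⟨c, hc⟩ := hsurj (residue B' r)
  refine ⟨c, ?_⟩
  rw [RingHom.comp_apply, Ideal.Quotient.eq, hmap]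
  have : residue B' (v c - r) = 0 := by
    rw [map_sub, sub_eq_zero]; exact hc
  exact (residue_eq_zero_iff _).mp this

open Groth.Agent.Lib.Helper61.FSAdic in
theorem lifts_dvr {A B : Type u} [CommRing A] [IsDomain A] [IsDiscreteValuationRing A]
    [CommRing B] [IsDomain B] [IsDiscreteValuationRing B]
    (u : A →+* B) [IsLocalHom u] (hu : (maximalIdeal A).map u = maximalIdeal B)
    (hsep : letI := (ResidueField.map u).toAlgebra;
      Algebra.IsGeometricallyReduced (ResidueField A) (ResidueField B)) :
    Lifts (maximalIdeal A) u (maximalIdeal B) := by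
  let : Algebra A B := u.toAlgebra
  have : IsLocalHom (algebraMap A B) := ‹IsLocalHom u›
  have hinj : Function.Injective (algebraMap A B) :=
    injective_of_dvr u hu (IsDiscreteValuationRing.not_a_field B)
  have : Module.IsTorsionFree A B := Module.isTorsionFree_iff_algebraMap_injective.mpr hinj
  have : Module.Flat A B := inferInstance
  have hfs : Algebra.FormallySmooth (ResidueField A) (ResidueField B) := by
    have h1 : (ResidueField.map u).FormallySmooth := by
      let := (ResidueField.map u).toAlgebra
      have := hsep
      have : Algebra.FormallySmooth (ResidueField A) (ResidueField B) :=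
        Groth.Agent.Lib.Helper49.MacLane.formallySmooth_of_geomReduced
      exact this
    rw [← RingHom.formallySmooth_algebraMap]
    exact h1
  exact Groth.Agent.Lib.Helper49.FSQuot.lifts_of_flat_of_residueField hu hfs

open IsLocalRing in
/-- (a) ⟹ (b): let A, B be complete discrete valuation rings and u : A → B a ring homomorphism with
u(𝔪_A)B = 𝔪_B, such that the residue field L of B is separable over the residue field K of A. Then
for every complete discrete valuation ring B', every homomorphism u' : A → B' with u'(𝔪_A)B' =
𝔪_{B'} and every isomorphism σ of residue fields L ≅ L' compatible with the maps from K, there is an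
isomorphism w : B ≅ B' with u' = w ∘ u inducing σ on residue fields. -/
theorem result {A B B' : Type u} [CommRing A] [IsDomain A] [IsDiscreteValuationRing A] [IsAdicComplete (maximalIdeal A) A]
    [CommRing B] [IsDomain B] [IsDiscreteValuationRing B] [IsAdicComplete (maximalIdeal B) B]
    [CommRing B'] [IsDomain B'] [IsDiscreteValuationRing B'] [IsAdicComplete (maximalIdeal B') B']
    (u : A →+* B) [IsLocalHom u] (hu : (maximalIdeal A).map u = maximalIdeal B)
    (hsep : letI := (ResidueField.map u).toAlgebra; Algebra.IsGeometricallyReduced (ResidueField A) (ResidueField B))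
    (u' : A →+* B') [IsLocalHom u'] (hu' : (maximalIdeal A).map u' = maximalIdeal B')
    (σ : ResidueField B ≃+* ResidueField B') (hσ : (σ : ResidueField B →+* ResidueField B').comp (ResidueField.map u) = ResidueField.map u') :
    ∃ w : B ≃+* B', (w : B →+* B').comp u = u' ∧ ∀ b : B, residue B' (w b) = σ (residue B b) := by
  have hL := lifts_dvr u hu hsep
  let u₁ : B →+* B' ⧸ maximalIdeal B' := (σ : ResidueField B →+* ResidueField B').comp (residue B)
  have hH : IsHausdorff ((maximalIdeal B').map (Ideal.Quotient.mk (maximalIdeal B')))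
      (B' ⧸ maximalIdeal B') := by
    rw [Ideal.map_quotient_self]
    refine ⟨fun x hx => ?_⟩
    have := hx 1
    rw [SModEq.zero] at this
    simpa using this
  have hcomm : u₁.comp u = (Ideal.Quotient.mk (maximalIdeal B')).comp u' := by
    ext a
    have := DFunLike.congr_fun hσ (residue A a)
    exact this
  have hcont : ∃ k : ℕ, (maximalIdeal B ^ k).map u₁ ≤
      (maximalIdeal B').map (Ideal.Quotient.mk (maximalIdeal B')) := by
    refine ⟨1, ?_⟩
    rw [pow_one, Ideal.map_le_iff_le_comap]
    intro b hb
    rw [Ideal.mem_comap]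
    have h0 : u₁ b = 0 := by
      change σ (residue B b) = 0
      rw [(residue_eq_zero_iff b).mpr hb, map_zero]
    rw [h0]
    exact zero_mem _
  obtain ⟨v, hv1, hv2, -⟩ := Groth.Agent.Lib.Helper61.FSAdic.lift_to_complete hL
    (maximalIdeal B') u' ⟨1, by rw [pow_one, hu']⟩ (maximalIdeal B') ⟨1, by rw [pow_one]⟩
    u₁ hcomm hcont
  have hres : ∀ b : B, residue B' (v b) = σ (residue B b) := fun b => DFunLike.congr_fun hv2 b
  have hmapv : (maximalIdeal B).map v = maximalIdeal B' := by
    rw [← hu, Ideal.map_map, hv1, hu']
  have hbij : Function.Bijective v := by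
    refine ⟨injective_of_dvr v hmapv (IsDiscreteValuationRing.not_a_field B'),
      surjective_of_complete v hmapv ?_⟩
    intro y
    obtain ⟨b, hb⟩ := residue_surjective (R := B) (σ.symm y)
    refine ⟨b, ?_⟩
    rw [RingHom.comp_apply, hres, hb, RingEquiv.apply_symm_apply]
  refine ⟨RingEquiv.ofBijective v hbij, ?_, fun b => hres b⟩
  ext a
  exact DFunLike.congr_fun hv1 a

end Groth.Agent.S2482
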