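import Groth.Statements.S2483
-- import your own Groth.Agent.* helpers here
import Groth.Agent.Lib.Helper49.CoeffField
import Mathlib.RingTheory.Unramified.Basic
import Mathlib.LinearAlgebra.Dual.Lemmas

set_option autoImplicit false
universe u
open EGA41

namespace Groth.Agent.S2483

open Groth.Agent.Lib.Helper49.CoeffField

theorem exists_derivation_ne_zero (K : Type u) [Field K] (h : ¬ Subsingleton (Ω[K⁄ℤ])) :
    ∃ (D : Derivation ℤ K K) (x : K), D x ≠ 0 := by
  rw [not_subsingleton_iff_nontrivial] at h
  obtain ⟨ω, hω⟩ := exists_ne (0 : Ω[K⁄ℤ])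
  have h1 : ∃ φ : Module.Dual K (Ω[K⁄ℤ]), φ ω ≠ 0 := by
    by_contra hcon
    push_neg at hcon
    exact hω ((Module.forall_dual_apply_eq_zero_iff K ω).mp hcon)
  obtain ⟨φ, hφ⟩ := h1
  refine ⟨φ.compDer (KaehlerDifferential.D ℤ K), ?_⟩
  by_contra hcon
  push_neg at hcon
  apply hφ
  have h2 : φ = 0 := by
    apply LinearMap.ext_on (KaehlerDifferential.span_range_derivation ℤ K)
    rintro _ ⟨x, rfl⟩
    exact hcon x
  rw [h2]
  rfl

open IsLocalRing in
/-- Let C be a complete Noetherian local ring with maximal ideal 𝔍 ≠ 0 and residue field K, and u : K →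
C a ring homomorphism which is a section of the residue map. Then u is the only such section if and
only if Ω_{K/ℤ} = 0. -/
theorem result {C : Type u} [CommRing C] [IsLocalRing C] [IsNoetherianRing C] [IsAdicComplete (maximalIdeal C) C]
    (hm : maximalIdeal C ≠ ⊥) (u : ResidueField C →+* C) (hu : ∀ x, residue C (u x) = x) :
    (∀ v : ResidueField C →+* C, (∀ x, residue C (v x) = x) → v = u) ↔ Subsingleton (Ω[ResidueField C⁄ℤ]) := by
  have hkrull : ⨅ i, maximalIdeal C ^ i = ⊥ :=
    Ideal.iInf_pow_eq_bot_of_isLocalRing _ (maximalIdeal.isMaximal C).ne_top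
  constructor
  · intro huniq
    by_contra hns
    obtain ⟨D, x₀, hx₀⟩ := exists_derivation_ne_zero (ResidueField C) hns
    obtain ⟨t, htm, ht0⟩ := Submodule.exists_mem_ne_zero_of_ne_bot hm
    have hex : ∃ i, t ∉ maximalIdeal C ^ i := by
      by_contra hcon
      push_neg at hcon
      apply ht0
      have : t ∈ ⨅ i, maximalIdeal C ^ i := by
        rw [Ideal.mem_iInf]
        exact hcon
      rwa [hkrull, Ideal.mem_bot] at this
    classical
    let N := Nat.find hex
    have hN : t ∉ maximalIdeal C ^ N := Nat.find_spec hex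
    have hN2 : 2 ≤ N := by
      by_contra hlt
      push_neg at hlt
      apply hN
      interval_cases N
      · simp
      · simpa using htm
    have hNm : t ∈ maximalIdeal C ^ (N - 1) := by
      have := Nat.find_min hex (show N - 1 < N by omega)
      push_neg at this
      exact this
    have htt : t * t ∈ maximalIdeal C ^ N := by
      have h1 : t * t ∈ maximalIdeal C ^ (N - 1) * maximalIdeal C ^ (N - 1) := Ideal.mul_mem_mul hNm hNm
      rw [← pow_add] at h1
      exact Ideal.pow_le_pow_right (by omega) h1
    haveI : IsAdicComplete (maximalIdeal C ^ N) C := isAdicComplete_pow _ (by omega)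
    let v₀ : ResidueField C →+* C ⧸ maximalIdeal C ^ N :=
      { toFun := fun x => Ideal.Quotient.mk _ (u x + u (D x) * t)
        map_one' := by simp
        map_mul' := fun x y => by
          rw [← map_mul, Ideal.Quotient.eq]
          have h1 : u (x * y) + u (D (x * y)) * t - (u x + u (D x) * t) * (u y + u (D y) * t) =
              - (u (D x) * u (D y)) * (t * t) := by
            rw [Derivation.leibniz, smul_eq_mul, smul_eq_mul, map_mul, map_add, map_mul, map_mul]
            ring
          rw [h1]
          exact Ideal.mul_mem_left _ _ htt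
        map_zero' := by simp
        map_add' := fun x y => by
          rw [← map_add]
          congr 1
          rw [map_add, map_add, map_add]
          ring }
    obtain ⟨p, hp⟩ := CharP.exists (ResidueField C)
    have hpC : (p : C) = 0 := by
      have h1 : (p : ResidueField C) = 0 := CharP.cast_eq_zero _ p
      have h2 := congrArg u h1
      rwa [map_natCast, map_zero] at h2
    obtain ⟨v, hv⟩ := exists_lift p hpC (maximalIdeal C ^ N) v₀
    have hv' : ∀ x, v x - (u x + u (D x) * t) ∈ maximalIdeal C ^ N := by
      intro x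
      have h1 : Ideal.Quotient.mk (maximalIdeal C ^ N) (v x) =
          Ideal.Quotient.mk (maximalIdeal C ^ N) (u x + u (D x) * t) := DFunLike.congr_fun hv x
      exact Ideal.Quotient.eq.mp h1
    have hNle : maximalIdeal C ^ N ≤ maximalIdeal C := Ideal.pow_le_self (by omega)
    have hvsec : ∀ x, residue C (v x) = x := by
      intro x
      refine Eq.trans ?_ (hu x)
      change Ideal.Quotient.mk (maximalIdeal C) (v x) = Ideal.Quotient.mk (maximalIdeal C) (u x)
      rw [Ideal.Quotient.eq]
      have h1 : v x - u x = (v x - (u x + u (D x) * t)) + u (D x) * t := by ring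
      rw [h1]
      exact Ideal.add_mem _ (hNle (hv' x)) (Ideal.mul_mem_left _ _ htm)
    have hvu := huniq v hvsec
    have h2 := hv' x₀
    rw [hvu] at h2
    have h3 : u (D x₀) * t ∈ maximalIdeal C ^ N := by
      have : u (D x₀) * t = - (u x₀ - (u x₀ + u (D x₀) * t)) := by ring
      rw [this]
      exact Ideal.neg_mem_iff _ |>.mpr h2
    have hunit : IsUnit (u (D x₀)) := by
      rw [← IsLocalRing.notMem_maximalIdeal, ← IsLocalRing.residue_eq_zero_iff, hu]
      exact hx₀
    exact hN ((Ideal.unit_mul_mem_iff_mem _ hunit).mp h3)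
  · intro hsub v hv
    haveI : @Algebra.FormallyUnramified ℤ (ResidueField C) _ _ (Ring.toIntAlgebra _) := ⟨hsub⟩
    have h1 : v.toIntAlgHom = u.toIntAlgHom :=
      Algebra.FormallyUnramified.ext_of_iInf (maximalIdeal C) hkrull (fun x => by
        change residue C (v x) = residue C (u x)
        rw [hv, hu])
    ext x
    exact DFunLike.congr_fun h1 x

end Groth.Agent.S2483
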