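import Groth.Statements.S2484
-- import your own Groth.Agent.* helpers here
import Groth.Agent.Lib.Helper49.MacLane2

set_option autoImplicit false
universe u
open EGA41

namespace Groth.Agent.S2484

open Groth.Agent.Lib.Helper49.MacLane


/-- Let K ⊆ E ⊆ F be fields. (i) If F is a separable extension of E, then Υ_{F/E/K} = 0, i.e. the
canonical map Ω_{E/K} ⊗_E F → Ω_{F/K} is injective. (ii) Conversely, if F is separable over K and
this map is injective, then F is separable over E. (Separable means geometrically reduced.) -/
theorem result {K E F : Type u} [Field K] [Field E] [Field F] [Algebra K E] [Algebra E F] [Algebra K F] [IsScalarTower K E F] :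
    (Algebra.IsGeometricallyReduced E F → Function.Injective (KaehlerDifferential.mapBaseChange K E F)) ∧
    (Algebra.IsGeometricallyReduced K F → Function.Injective (KaehlerDifferential.mapBaseChange K E F) → Algebra.IsGeometricallyReduced E F) := by
  refine ⟨fun _ => ?_, fun hKF hinj => ?_⟩
  · exact Groth.Agent.Lib.Helper97.KaehlerColim.mapBaseChange_injective_of_isGeometricallyReduced
  · have : Algebra.FormallySmooth K F := formallySmooth_of_geomReduced
    have : Algebra.FormallySmooth E F := formallySmooth_of_injective (P := K) hinj
    exact geomReduced_of_formallySmooth

end Groth.Agent.S2484
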