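import Groth.Statements.S2485
import Mathlib.Algebra.Algebra.Epi
import Mathlib.RingTheory.Kaehler.Basic
import Mathlib.RingTheory.Noetherian.Nilpotent
import Mathlib.RingTheory.IntegralClosure.Algebra.Basic
import Mathlib.RingTheory.FiniteType
import Mathlib.Algebra.CharP.Lemmas
import Mathlib.Algebra.CharP.Algebra
import Mathlib.RingTheory.Ideal.Cotangent

set_option autoImplicit false
universe u
open EGA41

namespace Groth.Agent.S2485

open TensorProduct in
theorem isEpi_of_pow (p : ℕ) [Fact p.Prime] {A B : Type u} [CommRing A] [CommRing B] [Algebra A B]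
    [CharP B p] [Algebra.FiniteType A B] (s : ℕ)
    (hpow : ∀ b : B, b ^ p ^ s ∈ Set.range (algebraMap A B)) [Subsingleton (Ω[B⁄A])] :
    Algebra.IsEpi A B := by
  rw [Algebra.isEpi_iff_forall_one_tmul_eq]
  have hinj : Function.Injective (Algebra.TensorProduct.includeLeft : B →ₐ[A] B ⊗[A] B) := by
    intro x y hxy
    have := congrArg (Algebra.TensorProduct.lmul' A (S := B)) hxy
    simpa using this
  have hchar : CharP (B ⊗[A] B) p :=
    charP_of_injective_ringHom (f := (Algebra.TensorProduct.includeLeft : B →ₐ[A] B ⊗[A] B).toRingHom)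
      hinj p
  have hnil : ∀ b : B, IsNilpotent ((1 : B) ⊗ₜ[A] b - b ⊗ₜ[A] (1 : B)) := by
    intro b
    refine ⟨p ^ s, ?_⟩
    obtain ⟨a, ha⟩ := hpow b
    rw [sub_pow_char_pow, Algebra.TensorProduct.tmul_pow, Algebra.TensorProduct.tmul_pow, one_pow,
      ← ha, Algebra.algebraMap_eq_smul_one, TensorProduct.smul_tmul, sub_self]
  have hle : KaehlerDifferential.ideal A B ≤ nilradical (B ⊗[A] B) := by
    rw [← KaehlerDifferential.span_range_eq_ideal, Ideal.span_le]
    rintro _ ⟨b, rfl⟩
    exact hnil b
  have hfg : (KaehlerDifferential.ideal A B).FG := KaehlerDifferential.ideal_fg A B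
  obtain ⟨n, hn⟩ := hfg.isNilpotent_iff_le_nilradical.mpr hle
  have hidem : IsIdempotentElem (KaehlerDifferential.ideal A B) :=
    (KaehlerDifferential.ideal A B).cotangent_subsingleton_iff.mp
      (inferInstanceAs (Subsingleton (Ω[B⁄A])))
  have hbot : KaehlerDifferential.ideal A B = ⊥ := by
    rcases Nat.eq_zero_or_pos n with h0 | hpos
    · subst h0
      rw [pow_zero] at hn
      have h1 : (1 : B ⊗[A] B) ∈ (⊥ : Ideal (B ⊗[A] B)) := by
        have : (1 : B ⊗[A] B) ∈ (1 : Ideal (B ⊗[A] B)) := by
          rw [Ideal.one_eq_top]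
          exact Submodule.mem_top
        rw [hn] at this
        exact this
      rw [eq_bot_iff]
      intro x _
      have : x = x * 1 := (mul_one x).symm
      rw [this]
      exact Ideal.mul_mem_left _ _ h1
    · obtain ⟨m, rfl⟩ := Nat.exists_eq_succ_of_ne_zero hpos.ne'
      rw [← IsIdempotentElem.pow_succ_eq m hidem, hn]
      rfl
  intro b
  have hmem := KaehlerDifferential.one_smul_sub_smul_one_mem_ideal A b
  rw [hbot] at hmem
  exact sub_eq_zero.mp hmem

/-- Let p be a prime and A → B a ring homomorphism making B an A-algebra of finite type, with B of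
characteristic p, such that for some s ≥ 0 every p^s-th power of an element of B lies in the image
of A. If Ω_{B/A} = 0 then A → B is surjective. -/
theorem result (p : ℕ) [Fact p.Prime] {A B : Type u} [CommRing A] [CommRing B] [Algebra A B] [CharP B p]
    [Algebra.FiniteType A B] (s : ℕ) (hpow : ∀ b : B, b ^ p ^ s ∈ Set.range (algebraMap A B)) [Subsingleton (Ω[B⁄A])] :
    Function.Surjective (algebraMap A B) := by
  have hint : Algebra.IsIntegral A B := by
    refine ⟨fun b => ?_⟩
    obtain ⟨a, ha⟩ := hpow b
    refine ⟨Polynomial.X ^ p ^ s - Polynomial.C a,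
      Polynomial.monic_X_pow_sub_C a (pow_pos (Fact.out : p.Prime).pos s).ne', ?_⟩
    simp [ha]
  have hfin : Module.Finite A B := Algebra.IsIntegral.finite
  have hepi := isEpi_of_pow p s hpow
  exact Algebra.isEpi_iff_surjective_algebraMap_of_finite.mp hepi

end Groth.Agent.S2485
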