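import Groth.Statements.S2486
-- import your own Groth.Agent.* helpers here
import Groth.Agent.Lib.Helper49.PBasis
import Mathlib.RingTheory.Kaehler.Basic
import Mathlib.Algebra.Algebra.Epi
import Mathlib.RingTheory.Ideal.IdempotentFG
import Mathlib.RingTheory.Unramified.Basic
import Mathlib.RingTheory.FiniteType
import Mathlib.RingTheory.IntegralClosure.IsIntegralClosure.Basic

set_option autoImplicit false
universe u
open EGA41

namespace Groth.Agent.S2486

open Groth.Agent.Lib.Helper49.PBasis EGA41 TensorProduct

variable {p : ℕ} [Fact p.Prime] {A B : Type u} [CommRing A] [CommRing B] [Algebra A B] [CharP B p]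
  {ι : Type u}

theorem part2 (x : ι → B) (hx : IsPGenerating p A x) :
    Submodule.span B (Set.range fun i => KaehlerDifferential.D A B (x i)) = ⊤ := by
  rw [eq_top_iff]
  set N := Submodule.span B (Set.range fun i => KaehlerDifferential.D A B (x i)) with hN
  have h0 : N.mkQ.compDer (KaehlerDifferential.D A B) = 0 := by
    refine derivation_ext hx _ _ fun i => ?_
    change N.mkQ (KaehlerDifferential.D A B (x i)) = 0
    rw [Submodule.mkQ_apply, Submodule.Quotient.mk_eq_zero]
    exact Submodule.subset_span ⟨i, rfl⟩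
  rw [← KaehlerDifferential.span_range_derivation, Submodule.span_le]
  rintro _ ⟨b, rfl⟩
  have := congrArg (fun D : Derivation A B (Ω[B⁄A] ⧸ N) => D b) h0
  change N.mkQ (KaehlerDifferential.D A B b) = 0 at this
  rwa [Submodule.mkQ_apply, Submodule.Quotient.mk_eq_zero] at this

theorem part3 (x : ι → B) (hft : Algebra.FiniteType (pPowerSubalgebra p A B) B)
    (hspan : Submodule.span B (Set.range fun i => KaehlerDifferential.D A B (x i)) = ⊤) :
    IsPGenerating p A x := by
  rw [← pGenerating_iff_adjoin]
  have hp : p.Prime := Fact.out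
  set B' := Algebra.adjoin (pPowerSubalgebra p A B) (Set.range x) with hB'
  have hpowB' : ∀ b : B, b ^ p ∈ B' := fun b =>
    Subalgebra.algebraMap_mem B' (⟨b ^ p, pow_mem_pPower p A b⟩ : pPowerSubalgebra p A B)
  have hint : Algebra.IsIntegral B' B := by
    refine ⟨fun b => ⟨Polynomial.X ^ p - Polynomial.C (⟨b ^ p, hpowB' b⟩ : B'),
      Polynomial.monic_X_pow_sub_C _ hp.ne_zero, ?_⟩⟩
    simp
  have hft' : Algebra.FiniteType B' B :=
    Algebra.FiniteType.of_restrictScalars_finiteType (pPowerSubalgebra p A B) B' B
  have hfin : Module.Finite B' B := Algebra.finite_iff_isIntegral_and_finiteType.mpr ⟨hint, hft'⟩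
  have hxB' : ∀ i, x i ∈ B' := fun i => Algebra.subset_adjoin ⟨i, rfl⟩
  have hΩ : Subsingleton (Ω[B⁄B']) := by
    have hsurj := KaehlerDifferential.map_surjective A B' B
    have hzero : KaehlerDifferential.map A B' B B = 0 := by
      have hEq : Set.EqOn (KaehlerDifferential.map A B' B B) (0 : Ω[B⁄A] →ₗ[B] Ω[B⁄B'])
          (Submodule.span B (Set.range fun i => KaehlerDifferential.D A B (x i))) := by
        refine LinearMap.eqOn_span' ?_
        rintro _ ⟨i, rfl⟩
        change KaehlerDifferential.map A B' B B (KaehlerDifferential.D A B (x i)) = 0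
        rw [KaehlerDifferential.map_D]
        have : algebraMap B B (x i) = algebraMap B' B ⟨x i, hxB' i⟩ := rfl
        rw [this, Derivation.map_algebraMap]
      refine LinearMap.ext fun w => ?_
      exact hEq (by rw [hspan]; trivial)
    refine ⟨fun a b => ?_⟩
    obtain ⟨a', rfl⟩ := hsurj a
    obtain ⟨b', rfl⟩ := hsurj b
    rw [hzero]
    rfl
  have hBnt : Nontrivial B := CharP.nontrivial_of_char_ne_one (R := B) hp.ne_one
  have hepi : Algebra.IsEpi B' B := by
    rw [Algebra.isEpi_iff_forall_one_tmul_eq]
    obtain ⟨e, he, hsp⟩ : ∃ e, IsIdempotentElem e ∧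
        KaehlerDifferential.ideal B' B = Ideal.span {e} :=
      (Ideal.isIdempotentElem_iff_of_fg _ (KaehlerDifferential.ideal_fg B' B)).mp <|
        (Ideal.cotangent_subsingleton_iff _).mp hΩ
    have hnt : Nontrivial (B ⊗[B'] B) :=
      (Algebra.TensorProduct.lmul' B' (S := B)).toRingHom.domain_nontrivial
    have hpT : (p : B ⊗[B'] B) = 0 := by
      have h1 : ((p : B) ⊗ₜ[B'] (1 : B) : B ⊗[B'] B) = (p : B ⊗[B'] B) := by
        have := map_natCast (Algebra.TensorProduct.includeLeft (R := B') (S := B') (A := B) (B := B)) p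
        exact this
      rw [← h1, CharP.cast_eq_zero, zero_tmul]
    have hcT : CharP (B ⊗[B'] B) p := (CharP.charP_iff_prime_eq_zero hp).mpr hpT
    have hnil : KaehlerDifferential.ideal B' B ≤ nilradical (B ⊗[B'] B) := by
      rw [← KaehlerDifferential.span_range_eq_ideal, Ideal.span_le]
      rintro _ ⟨b, rfl⟩
      refine ⟨p, ?_⟩
      change _ = (0 : B ⊗[B'] B)
      rw [sub_pow_char, Algebra.TensorProduct.tmul_pow, Algebra.TensorProduct.tmul_pow, one_pow,
        sub_eq_zero]
      have h2 : b ^ p = (⟨b ^ p, hpowB' b⟩ : B') • (1 : B) := by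
        rw [Algebra.smul_def, mul_one]
        rfl
      conv_lhs => rw [h2, ← TensorProduct.smul_tmul, ← h2]
    have he0 : e = 0 := by
      have hemem : e ∈ KaehlerDifferential.ideal B' B := by
        rw [hsp]
        exact Ideal.mem_span_singleton_self e
      obtain ⟨n, hn⟩ := hnil hemem
      cases n with
      | zero =>
        rw [pow_zero] at hn
        exact absurd hn one_ne_zero
      | succ n => rwa [he.pow_succ_eq n] at hn
    intro b
    have hmem := KaehlerDifferential.one_smul_sub_smul_one_mem_ideal B' b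
    rw [hsp, he0, Ideal.mem_span_singleton, zero_dvd_iff] at hmem
    exact sub_eq_zero.mp hmem
  have hsurj := (Algebra.isEpi_iff_surjective_algebraMap_of_finite).mp hepi
  rw [eq_top_iff]
  intro b _
  obtain ⟨b', rfl⟩ := hsurj b
  exact b'.2


/-- Let p be a prime, B an A-algebra of characteristic p and (x_α) a family of elements of B. Then (a) B
is generated as an A[B^p]-algebra by the x_α if and only if (b) (x_α) is a system of p-generators of
B over A; these imply (c) Ω_{B/A} is generated by the d x_α; and if B is an A[B^p]-algebra of finite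
type, (c) implies (a). -/
theorem result (p : ℕ) [Fact p.Prime] {A B : Type u} [CommRing A] [CommRing B] [Algebra A B] [CharP B p]
    {ι : Type u} (x : ι → B) :
    (Algebra.adjoin (EGA41.pPowerSubalgebra p A B) (Set.range x) = ⊤ ↔ EGA41.IsPGenerating p A x) ∧
    (EGA41.IsPGenerating p A x → Submodule.span B (Set.range fun i => KaehlerDifferential.D A B (x i)) = ⊤) ∧
    (Algebra.FiniteType (EGA41.pPowerSubalgebra p A B) B →
      Submodule.span B (Set.range fun i => KaehlerDifferential.D A B (x i)) = ⊤ → EGA41.IsPGenerating p A x) := by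
  exact ⟨pGenerating_iff_adjoin x, part2 x, part3 x⟩

end Groth.Agent.S2486
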