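import Groth.Statements.S4667
import Mathlib.AlgebraicGeometry.Morphisms.SchemeTheoreticallyDominant

set_option autoImplicit false
open CategoryTheory AlgebraicGeometry
universe u
open FDesc

namespace Groth.Agent.S4667

open CategoryTheory.Limits

theorem toImage_app_injective' {X Y : Scheme.{u}} (f : X ⟶ Y) [QuasiCompact f]
    (V : f.image.Opens) : Function.Injective (f.toImage.app V) :=
  TopCat.Presheaf.app_injective_of_stalkFunctor_map_injective (F := f.image.sheaf)
    f.toImage.c V (fun x _ => f.stalkFunctor_toImage_injective x)

theorem ker_toImage_eq_bot {X Y : Scheme.{u}} (f : X ⟶ Y) [QuasiCompact f] :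
    f.toImage.ker = ⊥ := by
  rw [eq_bot_iff]
  intro U
  refine (f.toImage.ideal_ker_le U).trans ?_
  rw [(RingHom.injective_iff_ker_eq_bot _).mp (toImage_app_injective' f U)]
  exact bot_le

theorem isSchemeTheoreticallyDominant_toImage {X Y : Scheme.{u}} (f : X ⟶ Y) [QuasiCompact f] :
    IsSchemeTheoreticallyDominant f.toImage :=
  ⟨ker_toImage_eq_bot f⟩

theorem ker_snd_of_isClosedImmersion {Z Y Y' : Scheme.{u}} (i : Z ⟶ Y) (g : Y' ⟶ Y)
    [IsClosedImmersion i] : (pullback.snd i g).ker = i.ker.comap g := by
  rw [← Scheme.IdealSheafData.ker_fst_of_isClosedImmersion i g,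
    ← pullbackSymmetry_hom_comp_fst i g, Scheme.Hom.ker_comp_of_isIso]

open CategoryTheory.Limits in
/-- Let f : X → Y be a quasi-compact morphism of schemes and g : Y' → Y a flat morphism, and let f' : X
×_Y Y' → Y' be the base change of f. Then the scheme-theoretic image of f' is the inverse image
under g of the scheme-theoretic image of f: the quasi-coherent ideal sheaf cutting out the former is
the pull-back along g of the one cutting out the latter. (One published statement is phrased for a
quasi-compact and quasi-separated S-morphism f and a flat base change S′ → S, which reduces to this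
case; quasi-compactness of f suffices.) -/
theorem result {X Y Y' : Scheme.{u}} (f : X ⟶ Y) (g : Y' ⟶ Y)
    [QuasiCompact f] [Flat g] :
    (pullback.snd f g).ker = f.ker.comap g := by
  let ι := f.imageι
  let t := f.toImage
  have hfac : t ≫ ι = f := f.toImage_imageι
  let m : pullback f g ⟶ pullback ι g :=
    pullback.map f g ι g t (𝟙 Y') (𝟙 Y) (by simp [hfac]) (by simp)
  have hm1 : m ≫ pullback.fst ι g = pullback.fst f g ≫ t := pullback.lift_fst _ _ _
  have hm2 : m ≫ pullback.snd ι g = pullback.snd f g :=
    (pullback.lift_snd _ _ _).trans (Category.comp_id _)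
  have hbig : IsPullback (pullback.fst f g) (m ≫ pullback.snd ι g) (t ≫ ι) g := by
    rw [hm2, hfac]
    exact IsPullback.of_hasPullback f g
  have htop : IsPullback (pullback.fst f g) m t (pullback.fst ι g) :=
    IsPullback.of_bot hbig hm1.symm (IsPullback.of_hasPullback ι g)
  have hflat : Flat (pullback.fst ι g) := MorphismProperty.pullback_fst _ _ inferInstance
  have hdom : IsSchemeTheoreticallyDominant t := isSchemeTheoreticallyDominant_toImage f
  have hqc : QuasiCompact t := inferInstanceAs (QuasiCompact f.toImage)
  have hmdom : IsSchemeTheoreticallyDominant m :=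
    IsSchemeTheoreticallyDominant.of_isPullback htop
  rw [← hm2, Scheme.Hom.ker_comp, hmdom.ker_eq_bot, Scheme.IdealSheafData.map_bot,
    ker_snd_of_isClosedImmersion, Scheme.IdealSheafData.ker_subschemeι]

end Groth.Agent.S4667
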