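import Groth.Statements.S4639
import Groth.Agent.S4667
import Mathlib.AlgebraicGeometry.PullbackCarrier
import Mathlib.AlgebraicGeometry.IdealSheaf.Subscheme

set_option autoImplicit false
open CategoryTheory AlgebraicGeometry
universe u
open FDesc

namespace Groth.Agent.S4639

open CategoryTheory.Limits

section topology

variable {A X Y Z : Type*} [TopologicalSpace A] [TopologicalSpace X] [TopologicalSpace Y]
  [TopologicalSpace Z]

theorem isEmbedding_of_descent {f : X → Z} {g : Y → Z} {p₁ : A → X} {p₂ : A → Y}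
    (hg : Continuous g) (hp₂ : Continuous p₂)
    (hf : Function.Surjective f)
    (hjs : ∀ x y, f x = g y → ∃ a, p₁ a = x ∧ p₂ a = y)
    (hp₁ : Topology.IsEmbedding p₁)
    (hcl : ∀ C : Set Y, IsClosed C → closure (f ⁻¹' (g '' C)) = f ⁻¹' (closure (g '' C)))
    (hcomm : ∀ a, f (p₁ a) = g (p₂ a)) :
    Topology.IsEmbedding g := by
  have hinj : Function.Injective g := by
    intro y₁ y₂ h
    obtain ⟨x, hx⟩ := hf (g y₁)
    obtain ⟨a₁, ha₁, hb₁⟩ := hjs x y₁ hx
    obtain ⟨a₂, ha₂, hb₂⟩ := hjs x y₂ (hx.trans h)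
    have : a₁ = a₂ := hp₁.injective (ha₁.trans ha₂.symm)
    rw [← hb₁, ← hb₂, this]
  refine ⟨⟨?_⟩, hinj⟩
  apply le_antisymm
  · exact hg.le_induced
  · rw [TopologicalSpace.le_def]
    intro U hU'
    have hU : IsClosed Uᶜ := hU'.isClosed_compl
    rw [← @isClosed_compl_iff _ (TopologicalSpace.induced g _)]
    set C := Uᶜ with hC
    rw [isClosed_induced_iff]
    refine ⟨closure (g '' C), isClosed_closure, ?_⟩
    apply subset_antisymm
    · intro y hy
      obtain ⟨x, hx⟩ := hf (g y)
      obtain ⟨a, ha, hb⟩ := hjs x y hx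
      have hxmem : x ∈ f ⁻¹' (closure (g '' C)) := by
        rw [Set.mem_preimage, hx]
        exact hy
      rw [← hcl C hU] at hxmem
      have hset : f ⁻¹' (g '' C) = p₁ '' (p₂ ⁻¹' C) := by
        ext x'
        constructor
        · rintro ⟨y', hy', hxy⟩
          obtain ⟨a', ha', hb'⟩ := hjs x' y' hxy.symm
          exact ⟨a', by rw [Set.mem_preimage, hb']; exact hy', ha'⟩
        · rintro ⟨a', ha', rfl⟩
          exact ⟨p₂ a', ha', (hcomm a').symm⟩
      rw [hset] at hxmem
      have hC' : IsClosed (p₂ ⁻¹' C) := hU.preimage hp₂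
      have : a ∈ closure (p₂ ⁻¹' C) := by
        rw [hp₁.isInducing.closure_eq_preimage_closure_image, Set.mem_preimage, ha]
        exact hxmem
      rw [hC'.closure_eq] at this
      rw [← hb]
      exact this
    · intro y hy
      exact subset_closure ⟨y, hy, rfl⟩

end topology

theorem closure_preimage_range {X Z C : Scheme.{u}} (f : X ⟶ Z) (h : C ⟶ Z) [Flat f]
    [QuasiCompact h] :
    closure (f ⁻¹' (Set.range h)) = f ⁻¹' (closure (Set.range h)) := by
  have key := Groth.Agent.S4667.result h f
  have h1 : ((pullback.snd h f).ker.support : Set X) = ((h.ker.comap f).support : Set X) := by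
    rw [key]
  rw [Scheme.Hom.support_ker, Scheme.IdealSheafData.support_comap,
    TopologicalSpace.Closeds.coe_preimage, Scheme.Hom.support_ker, Scheme.Pullback.range_snd] at h1
  exact h1

theorem quasiCompact_of_isPullback {A X Y Z : Scheme.{u}} {fst : A ⟶ X} {snd : A ⟶ Y}
    {f : X ⟶ Z} {g : Y ⟶ Z} (hpb : IsPullback fst snd f g) [Surjective f] [QuasiCompact f]
    [QuasiCompact fst] : QuasiCompact g := by
  have hsnd : Surjective snd := MorphismProperty.of_isPullback hpb ‹Surjective f›
  rw [quasiCompact_iff]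
  intro U hUo hUc
  have h1 : IsCompact (f ⁻¹' U) := QuasiCompact.isCompact_preimage U hUo hUc
  have h2 : IsCompact (fst ⁻¹' (f ⁻¹' U)) :=
    QuasiCompact.isCompact_preimage _ (hUo.preimage f.continuous) h1
  have h3 : fst ⁻¹' (f ⁻¹' U) = snd ⁻¹' (g ⁻¹' U) := by
    ext a
    simp only [Set.mem_preimage, ← Scheme.Hom.comp_apply, hpb.w]
  rw [h3] at h2
  have h4 : g ⁻¹' U = snd '' (snd ⁻¹' (g ⁻¹' U)) :=
    (Set.image_preimage_eq _ snd.surjective).symm
  rw [h4]
  exact h2.image snd.continuous

theorem isEmbedding_of_isPullback {A X Y Z : Scheme.{u}} {fst : A ⟶ X} {snd : A ⟶ Y}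
    {f : X ⟶ Z} {g : Y ⟶ Z} (hpb : IsPullback fst snd f g) [Surjective f] [Flat f]
    [QuasiCompact g] (hfst : Topology.IsEmbedding fst) : Topology.IsEmbedding g := by
  refine isEmbedding_of_descent (f := f) (g := g) (p₁ := fst) (p₂ := snd)
    g.continuous snd.continuous f.surjective ?_ hfst ?_ ?_
  · intro x y hxy
    obtain ⟨a, ha, hb⟩ := Scheme.Pullback.exists_preimage_pullback x y hxy
    refine ⟨hpb.isoPullback.inv a, ?_, ?_⟩
    · rw [← Scheme.Hom.comp_apply, hpb.isoPullback_inv_fst, ha]
    · rw [← Scheme.Hom.comp_apply, hpb.isoPullback_inv_snd, hb]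
  · intro C hC
    let I : Y.IdealSheafData := Scheme.IdealSheafData.vanishingIdeal ⟨C, hC⟩
    let i : I.subscheme ⟶ Y := I.subschemeι
    have hrange : Set.range i = C := by
      rw [Scheme.IdealSheafData.range_subschemeι,
        Scheme.IdealSheafData.coe_support_vanishingIdeal]
      rfl
    have hrange' : Set.range (i ≫ g) = g '' C := by
      rw [Scheme.Hom.comp_base, TopCat.coe_comp, Set.range_comp, hrange]
    rw [← hrange']
    exact closure_preimage_range f (i ≫ g)
  · intro a
    rw [← Scheme.Hom.comp_apply, ← Scheme.Hom.comp_apply, hpb.w]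

/-- The property of being quasi-compact and universally bicontinuous (every base change is a
homeomorphism onto its image) descends along a surjective, flat and quasi-compact base change. -/
theorem result :
    MorphismProperty.DescendsAlong
      (MorphismProperty.universally (topologically (fun f => Topology.IsEmbedding f)) ⊓ @QuasiCompact : MorphismProperty Scheme.{u})
      (@Surjective ⊓ @Flat ⊓ @QuasiCompact : MorphismProperty Scheme.{u}) := by
  refine ⟨?_⟩
  intro A X Y Z fst snd f g hpb hf hfst
  obtain ⟨⟨hfs, hff⟩, hfq⟩ := hf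
  obtain ⟨hfstu, hfstq⟩ := hfst
  have hfs' : Surjective f := hfs
  have hff' : Flat f := hff
  have hfq' : QuasiCompact f := hfq
  have hfstq' : QuasiCompact fst := hfstq
  have hgq : QuasiCompact g := quasiCompact_of_isPullback hpb
  refine ⟨?_, hgq⟩
  intro Y' Z' i₁ i₂ g' H
  let f' : pullback f i₂ ⟶ Z' := pullback.snd f i₂
  have hf's : Surjective f' := MorphismProperty.pullback_snd _ _ hfs'
  have hf'f : Flat f' := MorphismProperty.pullback_snd _ _ hff'
  have hg'q : QuasiCompact g' := MorphismProperty.of_isPullback H.flip hgq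
  have hS4 : IsPullback (pullback.snd g' f') (pullback.fst g' f') f' g' :=
    (IsPullback.of_hasPullback g' f').flip
  have hbig : IsPullback (pullback.snd g' f') (pullback.fst g' f' ≫ i₁) (f' ≫ i₂) g :=
    hS4.paste_vert H
  have hcomm : (pullback.snd g' f' ≫ pullback.fst f i₂) ≫ f = (pullback.fst g' f' ≫ i₁) ≫ g := by
    rw [Category.assoc, pullback.condition, ← Category.assoc]
    exact hbig.w
  let u : pullback g' f' ⟶ A := hpb.lift _ _ hcomm
  have hu1 : u ≫ fst = pullback.snd g' f' ≫ pullback.fst f i₂ := hpb.lift_fst _ _ _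
  have hu2 : u ≫ snd = pullback.fst g' f' ≫ i₁ := hpb.lift_snd _ _ _
  have hbig' : IsPullback (u ≫ snd) (pullback.snd g' f') g (pullback.fst f i₂ ≫ f) := by
    rw [hu2, pullback.condition]
    exact hbig.flip
  have hsq : IsPullback u (pullback.snd g' f') fst (pullback.fst f i₂) :=
    IsPullback.of_right hbig' hu1 hpb.flip
  have hemb : Topology.IsEmbedding (pullback.snd g' f') := hfstu _ _ _ hsq.flip
  exact isEmbedding_of_isPullback hS4 hemb

end Groth.Agent.S4639
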