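import Groth.Statements.S4960
import Groth.Agent.Lib.Helper73.SkMod.CodepthChart

set_option autoImplicit false
open CategoryTheory AlgebraicGeometry
universe u v w
open EGA43

namespace Groth.Agent.S4960

/-- Let f : X ⟶ Y be a morphism locally of finite presentation, F a finitely presented O_X-module which
is f-flat, and k a natural number. The set of points x of X such that the stalk at x of the
restriction of F to the fibre through x has codepth at most k over the local ring of that fibre at x
(the dimension of its support is at most its depth plus k) is open in X; that is, the codepth of the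
fibre stalk is an upper semicontinuous function of x. -/
theorem result {X Y : Scheme.{u}} (f : X ⟶ Y) [LocallyOfFinitePresentation f]
    (F : X.Modules) (hF : CohB1.IsFP F) (hflat : FlatMod.IsFlatOver f F) (k : ℕ) :
    IsOpen {x : X | Module.supportDim ((f.fiber (f.base x)).presheaf.stalk (f.asFiber x)) (((Scheme.Modules.pullback (f.fiberι (f.base x))).obj F).presheaf.stalk (f.asFiber x)) ≤
      ((LocCoh.depth ((f.fiber (f.base x)).presheaf.stalk (f.asFiber x)) (((Scheme.Modules.pullback (f.fiberι (f.base x))).obj F).presheaf.stalk (f.asFiber x)) : ℕ∞) : WithBot ℕ∞) + k} := by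
  open Groth.Agent.Lib.Helper73 in
  haveI : SheafOfModules.IsFinitePresentation (R := X.ringCatSheaf) F := hF
  haveI hq : F.IsQuasicoherent :=
    SheafOfModules.QuasicoherentData.isQuasicoherent (R := X.ringCatSheaf) (M := F)
      (SheafOfModules.IsFinitePresentation.exists_quasicoherentData
        (R := X.ringCatSheaf) F).choose
  rw [isOpen_iff_mem_nhds]
  intro x₀ hx₀
  obtain ⟨U, hU, V, hV, hUV, m, hm, ρ, hx₀U, hρ, hρA, hfin, hfp, hfl⟩ :=
    exists_chart_data f F hF hflat x₀
  letI : Module (MvPolynomial m Γ(Y, V)) Γ(F, U) := Module.compHom Γ(F, U) ρ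
  letI : Module Γ(Y, V) Γ(F, U) := Module.compHom Γ(F, U) (f.appLE V U hUV).hom
  haveI := chart_isScalarTower f F hUV m ρ hρA
  haveI : Module.Finite (MvPolynomial m Γ(Y, V)) Γ(F, U) := chart_finite F m ρ hρ
  have hopen := isOpen_codepthCond Γ(Y, V) m Γ(F, U) k
  let g : U → PrimeSpectrum (MvPolynomial m Γ(Y, V)) :=
    fun y => PrimeSpectrum.comap ρ (hU.primeIdealOf y)
  have hg : Continuous g :=
    (PrimeSpectrum.continuous_comap ρ).comp hU.isoSpec.hom.continuous
  have hW := U.isOpen.isOpenMap_subtype_val _ (hopen.preimage hg)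
  refine Filter.mem_of_superset (hW.mem_nhds ⟨⟨x₀, hx₀U⟩, ?_, rfl⟩) ?_
  · exact (codepth_le_iff_chart f F hU hV hUV m ρ hρ hρA x₀ hx₀U k).1 hx₀
  · rintro _ ⟨⟨y, hy⟩, hmem, rfl⟩
    exact (codepth_le_iff_chart f F hU hV hUV m ρ hρ hρA y hy k).2 hmem

end Groth.Agent.S4960
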