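import Groth.Statements.S2557
import Groth.Agent.Lib.Helper87.FiniteOpenScheme
import Groth.Agent.Lib.Helper87.UnivOpenAtSpecialize

set_option autoImplicit false
open CategoryTheory AlgebraicGeometry
universe u
open EGA43

namespace Groth.Agent.S2557

open CategoryTheory.Limits in
/-- Let Y be a Noetherian scheme and f : X ⟶ Y locally of finite type. Then f is universally open if and
only if, for every finite morphism Y₁ ⟶ Y, the base change X ×_Y Y₁ ⟶ Y₁ is an open map. -/
theorem result {X Y : Scheme.{u}} [IsNoetherian Y] (f : X ⟶ Y)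
    [LocallyOfFiniteType f] :
    UniversallyOpen f ↔
      ∀ (Y₁ : Scheme.{u}) (g : Y₁ ⟶ Y) [IsFinite g], IsOpenMap (pullback.snd f g).base := by
  constructor
  · intro h Y₁ g _
    exact (pullback.snd f g).isOpenMap
  · intro H
    apply Groth.Agent.Lib.Helper87.UnivOpenAtSpecialize.universallyOpen_of_forall_isUnivOpenAt
    intro x
    obtain ⟨z, hzx, hfz, hzmax⟩ :=
      Groth.Agent.Lib.Helper87.ChevalleyPointwise.exists_fiber_maximal_generization f x
    refine Groth.Agent.Lib.Helper87.UnivOpenAtSpecialize.isUnivOpenAt_of_specializes hzx hfz ?_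
    have hmax : ∀ x' : X, f.base x' = f.base z → z ∈ closure {x'} → x' = z :=
      fun t hft ht => hzmax t (specializes_iff_mem_closure.mpr ht) hft
    exact Groth.Agent.Lib.Helper87.FiniteOpenScheme.isUnivOpenAt_of_finite_isOpenAt f z hmax
      (fun Y' g _ x' _ =>
        Groth.Agent.Lib.Helper80.UnivOpenAt.isOpenAt_of_isOpenMap (H Y' g) x')

end Groth.Agent.S2557
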