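import Groth.Statements.S2558
import Mathlib
import Groth.Agent.S1373

set_option autoImplicit false
open CategoryTheory AlgebraicGeometry
universe u
open EGA43

namespace Groth.Agent.S2558

open CategoryTheory.Limits in
/-- Let f : X ⟶ Y be locally of finite presentation. Suppose that for every irreducible scheme Y' and
every morphism of finite type g : Y' ⟶ Y, each irreducible component of X ×_Y Y' has dense image in
Y'. Then f is universally open. -/
theorem result {X Y : Scheme.{u}} (f : X ⟶ Y) [LocallyOfFinitePresentation f]
    (h : ∀ (Y' : Scheme.{u}) (g : Y' ⟶ Y) [IrreducibleSpace Y'] [LocallyOfFiniteType g] [QuasiCompact g],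
      ∀ Z ∈ irreducibleComponents (↥(pullback f g) : Type u), Dense ((pullback.snd f g).base '' Z)) :
    UniversallyOpen f := by
  rw [Groth.Agent.S1373.result]
  intro n
  set F := AffineSpace.map (ULift.{u} (Fin n)) f with hF
  have hpb : IsPullback F (𝔸(ULift.{u} (Fin n); X) ↘ X) (𝔸(ULift.{u} (Fin n); Y) ↘ Y) f :=
    AffineSpace.isPullback_map (n := ULift.{u} (Fin n)) f
  have : LocallyOfFinitePresentation F :=
    MorphismProperty.of_isPullback hpb.flip inferInstance
  apply isOpenMap_of_generalizingMap
  intro x' y hy
  -- the reduced closed subscheme on `closure {y}`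
  let I := Scheme.IdealSheafData.vanishingIdeal
    (X := 𝔸(ULift.{u} (Fin n); Y)) ⟨closure {y}, isClosed_closure⟩
  let ι : I.subscheme ⟶ 𝔸(ULift.{u} (Fin n); Y) := I.subschemeι
  have hrange : Set.range ι = closure {y} := by
    rw [Scheme.IdealSheafData.range_subschemeι]
    exact Scheme.IdealSheafData.coe_support_vanishingIdeal _
  have hemb : Topology.IsEmbedding ι := ι.isEmbedding
  haveI : IrreducibleSpace I.subscheme := by
    have hirr : IsIrreducible (Set.range ι) := by
      rw [hrange]; exact isIrreducible_singleton.closure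
    haveI : IrreducibleSpace (Set.range ι) := Subtype.irreducibleSpace hirr
    exact (hemb.toHomeomorph.irreducibleSpace_iff).mpr inferInstance
  let g : I.subscheme ⟶ Y := ι ≫ (𝔸(ULift.{u} (Fin n); Y) ↘ Y)
  -- the comparison map and the left pullback square
  have hleft := IsPullback.of_right' (IsPullback.of_hasPullback f g) hpb.flip
  set j := hpb.flip.lift (pullback.fst f g) (pullback.snd f g ≫ ι)
    (by rw [(IsPullback.of_hasPullback f g).w, Category.assoc]) with hj
  -- points
  obtain ⟨y'₀, hy'₀⟩ : F x' ∈ Set.range ι := by
    rw [hrange]; exact specializes_iff_mem_closure.mp hy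
  obtain ⟨η', hη'⟩ : y ∈ Set.range ι := by
    rw [hrange]; exact subset_closure rfl
  obtain ⟨p, hp1, hp2⟩ := Scheme.exists_preimage_of_isPullback hleft x' y'₀ hy'₀.symm
  -- an irreducible component through `p` and its generic point
  let Z := irreducibleComponent p
  have hZmem : Z ∈ irreducibleComponents (↥(pullback f g) : Type u) :=
    irreducibleComponent_mem_irreducibleComponents p
  have hZirr : IsIrreducible Z := isIrreducible_irreducibleComponent
  have hZcl : IsClosed Z := isClosed_irreducibleComponent
  obtain ⟨ζ, hζ⟩ := QuasiSober.sober hZirr hZcl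
  have hdense := h I.subscheme g Z hZmem
  -- `snd ζ` is generic in `I.subscheme`
  have hgen : closure {pullback.snd f g ζ} = Set.univ := by
    apply Set.eq_univ_of_univ_subset
    rw [← hdense.closure_eq]
    apply closure_minimal _ isClosed_closure
    rintro _ ⟨z, hz, rfl⟩
    have hz' : ζ ⤳ z := by
      rw [specializes_iff_mem_closure, hζ.def]; exact hz
    exact specializes_iff_mem_closure.mp (hz'.map (pullback.snd f g).continuous)
  have hsp1 : pullback.snd f g ζ ⤳ η' := by
    rw [specializes_iff_mem_closure, hgen]; trivial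
  have hsp2 : ι (pullback.snd f g ζ) ⤳ y := by
    rw [← hη']; exact hsp1.map ι.continuous
  have hsp3 : y ⤳ ι (pullback.snd f g ζ) := by
    rw [specializes_iff_mem_closure, ← hrange]; exact ⟨_, rfl⟩
  have hyeq : ι (pullback.snd f g ζ) = y := (hsp2.antisymm hsp3).eq
  have hζp : ζ ⤳ p := by
    rw [specializes_iff_mem_closure, hζ.def]; exact mem_irreducibleComponent
  refine ⟨j ζ, ?_, ?_⟩
  · change j ζ ⤳ x'
    rw [← hp1]
    exact hζp.map j.continuous
  · rw [← hyeq, ← Scheme.Hom.comp_apply, ← Scheme.Hom.comp_apply, hleft.w]

end Groth.Agent.S2558
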