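import Groth.Statements.S2563
import Mathlib.LinearAlgebra.TensorProduct.Quotient
import Mathlib.Algebra.Module.Projective
import Mathlib.LinearAlgebra.FreeModule.Basic
import Mathlib.RingTheory.Ideal.Maps
import Mathlib.RingTheory.Ideal.Quotient.Operations
import Mathlib.RingTheory.TensorProduct.Basic

set_option autoImplicit false
open TensorProduct
universe u
open EGA43

namespace Groth.Agent.S2563

section aux

variable {R : Type*} [CommRing R] {N : Type*} [AddCommGroup N] [Module R N]

theorem le_pow_smul (I : Ideal R) (K : Submodule R N) (h : K ≤ I • K) (n : ℕ) :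
    K ≤ (I ^ n) • K := by
  induction n with
  | zero => simp
  | succ n ih =>
    calc K ≤ I • K := h
      _ ≤ I • ((I ^ n) • K) := Submodule.smul_mono le_rfl ih
      _ = (I ^ (n + 1)) • K := by rw [← mul_smul, ← pow_succ']

theorem eq_bot_of_le_smul (I : Ideal R) (hI : IsNilpotent I) (K : Submodule R N) (h : K ≤ I • K) :
    K = ⊥ := by
  obtain ⟨n, hn⟩ := hI
  have := le_pow_smul I K h n
  rw [hn, Ideal.zero_eq_bot, Submodule.bot_smul] at this
  exact le_bot_iff.mp this

theorem sup_pow_smul_top (I : Ideal R) (P : Submodule R N)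
    (h : P ⊔ I • (⊤ : Submodule R N) = ⊤) (n : ℕ) :
    P ⊔ (I ^ n) • (⊤ : Submodule R N) = ⊤ := by
  induction n with
  | zero => simp
  | succ n ih =>
    rw [eq_top_iff]
    calc ⊤ = P ⊔ I • (⊤ : Submodule R N) := h.symm
      _ = P ⊔ I • (P ⊔ (I ^ n) • (⊤ : Submodule R N)) := by rw [ih]
      _ = P ⊔ (I • P ⊔ I • ((I ^ n) • (⊤ : Submodule R N))) := by rw [Submodule.smul_sup]
      _ ≤ P ⊔ (I ^ (n + 1)) • (⊤ : Submodule R N) := by
        rw [← mul_smul, ← pow_succ']
        exact sup_le le_sup_left (sup_le (Submodule.smul_le_right.trans le_sup_left) le_sup_right)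

theorem eq_top_of_sup_smul_top (I : Ideal R) (hI : IsNilpotent I) (P : Submodule R N)
    (h : P ⊔ I • (⊤ : Submodule R N) = ⊤) : P = ⊤ := by
  obtain ⟨n, hn⟩ := hI
  have := sup_pow_smul_top I P h n
  rwa [hn, Ideal.zero_eq_bot, Submodule.bot_smul, sup_bot_eq] at this

theorem injective_of_surjective_of_ker_le (I : Ideal R) (hI : IsNilpotent I)
    {F F' : Type*} [AddCommGroup F] [Module R F] [AddCommGroup F'] [Module R F']
    [Module.Projective R F']
    (ψ : F →ₗ[R] F') (hs : Function.Surjective ψ)
    (hk : LinearMap.ker ψ ≤ I • (⊤ : Submodule R F)) : Function.Injective ψ := by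
  obtain ⟨s, hs'⟩ := Module.projective_lifting_property ψ LinearMap.id hs
  let π : F →ₗ[R] F := LinearMap.id - s ∘ₗ ψ
  have hπK : ∀ y, π y ∈ LinearMap.ker ψ := by
    intro y
    have : ψ (s (ψ y)) = ψ y := LinearMap.congr_fun hs' (ψ y)
    simp [π, this]
  have hπid : ∀ y ∈ LinearMap.ker ψ, π y = y := by
    intro y hy
    have : ψ y = 0 := hy
    simp [π, this]
  have hK : LinearMap.ker ψ ≤ I • LinearMap.ker ψ := by
    calc LinearMap.ker ψ ≤ Submodule.map π (LinearMap.ker ψ) := by
          intro y hy
          exact ⟨y, hy, hπid y hy⟩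
      _ ≤ Submodule.map π (I • (⊤ : Submodule R F)) := Submodule.map_mono hk
      _ = I • Submodule.map π ⊤ := Submodule.map_smul'' _ _ _
      _ ≤ I • LinearMap.ker ψ := by
          apply Submodule.smul_mono le_rfl
          rintro _ ⟨y, -, rfl⟩
          exact hπK y
  rw [← LinearMap.ker_eq_bot]
  exact eq_bot_of_le_smul I hI _ hK

theorem finsupp_mem_smul_top (I : Ideal R) {κ : Type*} (y : κ →₀ R) (hy : ∀ k, y k ∈ I) :
    y ∈ I • (⊤ : Submodule R (κ →₀ R)) := by
  classical
  rw [← Finsupp.sum_single y]
  apply Submodule.sum_mem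
  intro k _
  have : Finsupp.single k (y k) = (y k) • (Finsupp.single k (1 : R)) := by
    rw [Finsupp.smul_single, smul_eq_mul, mul_one]
  rw [this]
  exact Submodule.smul_mem_smul (hy k) Submodule.mem_top

end aux

section main

variable {A : Type u} [CommRing A] (J : Ideal A) (M : Type u) [AddCommGroup M] [Module A M]

theorem ker_mk_one : LinearMap.ker (TensorProduct.mk A (A ⧸ J) M 1) = J • (⊤ : Submodule A M) := by
  have h := TensorProduct.quotTensorEquivQuotSMul_comp_mk (M := M) J
  ext x
  constructor
  · intro hx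
    have hx' : TensorProduct.mk A (A ⧸ J) M 1 x = 0 := hx
    have := LinearMap.congr_fun h x
    simp only [LinearMap.coe_comp, LinearEquiv.coe_coe, Function.comp_apply, hx', map_zero] at this
    exact (Submodule.Quotient.mk_eq_zero _).mp this.symm
  · intro hx
    have := LinearMap.congr_fun h x
    simp only [LinearMap.coe_comp, LinearEquiv.coe_coe, Function.comp_apply] at this
    rw [Submodule.mkQ_apply, (Submodule.Quotient.mk_eq_zero _).mpr hx] at this
    exact (LinearEquiv.map_eq_zero_iff _).mp this

variable {J M}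

theorem surjective_linearCombination (hJ : IsNilpotent J) {κ : Type*}
    (b : Module.Basis κ (A ⧸ J) ((A ⧸ J) ⊗[A] M)) (m : κ → M)
    (hm : ∀ k, (1 : A ⧸ J) ⊗ₜ[A] m k = b k) :
    Function.Surjective (Finsupp.linearCombination A m) := by
  classical
  set φ := Finsupp.linearCombination A m with hφ
  let g : (κ →₀ A) →ₗ[A] (A ⧸ J) ⊗[A] M := (TensorProduct.mk A (A ⧸ J) M 1) ∘ₗ φ
  have hg : LinearMap.range g = ⊤ := by
    rw [eq_top_iff]
    have h1 : (⊤ : Submodule A ((A ⧸ J) ⊗[A] M)) = Submodule.span A (Set.range b) := by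
      rw [← Submodule.restrictScalars_span A (A ⧸ J) Ideal.Quotient.mk_surjective, b.span_eq]
      rfl
    rw [h1, Submodule.span_le]
    rintro _ ⟨k, rfl⟩
    refine ⟨Finsupp.single k 1, ?_⟩
    simp [g, φ, hm]
  rw [← LinearMap.range_eq_top]
  apply eq_top_of_sup_smul_top J hJ
  rw [eq_top_iff]
  intro x _
  have : TensorProduct.mk A (A ⧸ J) M 1 x ∈ LinearMap.range g := by rw [hg]; trivial
  obtain ⟨a, ha⟩ := this
  have hker : x - φ a ∈ LinearMap.ker (TensorProduct.mk A (A ⧸ J) M 1) := by
    rw [LinearMap.mem_ker, map_sub, ← ha]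
    simp [g]
  rw [ker_mk_one] at hker
  have : x = φ a + (x - φ a) := by abel
  rw [this]
  exact Submodule.add_mem_sup ⟨a, rfl⟩ hker

theorem injective_baseChange (hJ : IsNilpotent J) {κ : Type*}
    (b : Module.Basis κ (A ⧸ J) ((A ⧸ J) ⊗[A] M)) (m : κ → M)
    (hm : ∀ k, (1 : A ⧸ J) ⊗ₜ[A] m k = b k)
    (B : Type*) [CommRing B] [Algebra A B] [Module.Free B (B ⊗[A] M)] :
    Function.Injective (Finsupp.linearCombination B (fun k => (1 : B) ⊗ₜ[A] m k)) := by
  classical
  set ψ := Finsupp.linearCombination B (fun k => (1 : B) ⊗ₜ[A] m k) with hψ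
  have hφ := surjective_linearCombination hJ b m hm
  have hψs : Function.Surjective ψ := by
    intro z
    change z ∈ LinearMap.range ψ
    induction z using TensorProduct.induction_on with
    | zero => exact zero_mem _
    | add x y hx hy => exact add_mem hx hy
    | tmul β x =>
      obtain ⟨a, rfl⟩ := hφ x
      induction a using Finsupp.induction_linear with
      | zero => simp
      | add f g hf hg => rw [map_add, tmul_add]; exact add_mem hf hg
      | single k r =>
        refine ⟨Finsupp.single k (β * algebraMap A B r), ?_⟩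
        simp [ψ, TensorProduct.smul_tmul', Algebra.smul_def, mul_comm]
  have hk : LinearMap.ker ψ ≤ (J.map (algebraMap A B)) • (⊤ : Submodule B (κ →₀ B)) := by
    intro y hy
    apply finsupp_mem_smul_top
    intro k
    let c : M →ₗ[A] A ⧸ J :=
      ((b.coord k).restrictScalars A) ∘ₗ (TensorProduct.mk A (A ⧸ J) M 1)
    have hc : ∀ l, c (m l) = if l = k then 1 else 0 := by
      intro l
      simp [c, hm, Finsupp.single_apply]
    let d : B ⊗[A] M →ₗ[B] B ⊗[A] (A ⧸ J) := c.baseChange B
    have hd : d ∘ₗ ψ = (LinearMap.toSpanSingleton B (B ⊗[A] (A ⧸ J)) (1 ⊗ₜ 1)) ∘ₗ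
        (Finsupp.lapply k) := by
      ext l
      simp [d, ψ, hc, Finsupp.single_apply]
      split_ifs <;> simp
    have h0 : (y k) ⊗ₜ[A] (1 : A ⧸ J) = 0 := by
      have := LinearMap.congr_fun hd y
      have hy' : ψ y = 0 := hy
      simp [hy', TensorProduct.smul_tmul'] at this
      exact this.symm
    have h1 := congrArg (TensorProduct.tensorQuotEquivQuotSMul B J) h0
    rw [← map_one (Ideal.Quotient.mk J), TensorProduct.tensorQuotEquivQuotSMul_tmul_mk, map_zero,
      one_smul, Submodule.Quotient.mk_eq_zero, Ideal.smul_top_eq_map] at h1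
    exact h1
  have hnil : IsNilpotent (J.map (algebraMap A B)) := by
    obtain ⟨n, hn⟩ := hJ
    exact ⟨n, by rw [← Ideal.map_pow, hn, Ideal.zero_eq_bot, Ideal.map_bot]; rfl⟩
  exact injective_of_surjective_of_ker_le (J.map (algebraMap A B)) hnil ψ hψs hk

end main

/-- Let A be a commutative ring, J a nilpotent ideal of A, and (B_i) a family of commutative A-algebras
such that an element of A vanishing in every B_i is zero. Let M be an A-module such that each B_i
⊗_A M is a free B_i-module and (A/J) ⊗_A M is a free (A/J)-module. Then M is a free A-module. -/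
theorem result {A : Type u} [CommRing A] (J : Ideal A) (hJ : IsNilpotent J)
    {ι : Type u} (B : ι → Type u) [∀ i, CommRing (B i)] [∀ i, Algebra A (B i)]
    (hB : ∀ a : A, (∀ i, algebraMap A (B i) a = 0) → a = 0)
    (M : Type u) [AddCommGroup M] [Module A M]
    (hfree : ∀ i, Module.Free (B i) (B i ⊗[A] M)) (hfreeJ : Module.Free (A ⧸ J) ((A ⧸ J) ⊗[A] M)) :
    Module.Free A M := by
  classical
  let b := Module.Free.chooseBasis (A ⧸ J) ((A ⧸ J) ⊗[A] M)
  have hmk : Function.Surjective (TensorProduct.mk A (A ⧸ J) M 1) :=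
    TensorProduct.mk_surjective A M (A ⧸ J) Ideal.Quotient.mk_surjective
  choose m hm using fun k => hmk (b k)
  have hm' : ∀ k, (1 : A ⧸ J) ⊗ₜ[A] m k = b k := hm
  have hsurj := surjective_linearCombination hJ b m hm'
  have key : ∀ (i : ι) (x : _ →₀ A),
      Finsupp.linearCombination (B i) (fun k => (1 : B i) ⊗ₜ[A] m k)
        (Finsupp.mapRange (algebraMap A (B i)) (map_zero _) x) =
      (1 : B i) ⊗ₜ[A] (Finsupp.linearCombination A m x) := by
    intro i x
    induction x using Finsupp.induction_linear with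
    | zero => simp
    | add f g hf hg => rw [Finsupp.mapRange_add (map_add _), map_add, hf, hg, map_add, tmul_add]
    | single k r => simp [TensorProduct.smul_tmul', Algebra.smul_def]
  have hinj : Function.Injective (Finsupp.linearCombination A m) := by
    rw [injective_iff_map_eq_zero]
    intro x hx
    ext k
    apply hB
    intro i
    have := hfree i
    have hψ := injective_baseChange hJ b m hm' (B i)
    have h0 : Finsupp.mapRange (algebraMap A (B i)) (map_zero _) x = 0 := by
      apply hψ
      rw [key, hx, tmul_zero, map_zero]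
    have := DFunLike.congr_fun h0 k
    simpa using this
  exact Module.Free.of_equiv (LinearEquiv.ofBijective _ ⟨hinj, hsurj⟩)

end Groth.Agent.S2563
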