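import Groth.Statements.S2584
import Groth.Agent.S3426
import Groth.Agent.Lib.Helper69.FibreLocusSm

set_option autoImplicit false
open CategoryTheory AlgebraicGeometry
universe u
open EGA43

namespace Groth.Agent.S2584

open AlgebraicGeometry CategoryTheory CategoryTheory.Limits

theorem isOpenImmersion_iff_etale_and_mono {X Y : Scheme.{u}} (f : X ⟶ Y) :
    IsOpenImmersion f ↔ Etale f ∧ Mono f := by
  constructor
  · intro h
    exact ⟨inferInstance, inferInstance⟩
  · rintro ⟨h1, h2⟩
    exact IsOpenImmersion.of_flat_of_mono f


open CategoryTheory.Limits in
/-- Let g : Y ⟶ S and f : X ⟶ Y be such that X and Y are of finite presentation over S (locally of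
finite presentation, quasi-compact and quasi-separated). For each point s of S let f_s be the
induced morphism from the fibre of f ≫ g over s to the fibre of g over s. Then the set of s for
which f_s is an open immersion is locally constructible in S. -/
theorem result {X Y S : Scheme.{u}} (f : X ⟶ Y) (g : Y ⟶ S)
    [LocallyOfFinitePresentation g] [QuasiCompact g] [QuasiSeparated g]
    [LocallyOfFinitePresentation (f ≫ g)] [QuasiCompact (f ≫ g)] [QuasiSeparated (f ≫ g)] :
    Topology.IsLocallyConstructible {s : S |
      IsOpenImmersion (pullback.lift (pullback.fst (f ≫ g) (S.fromSpecResidueField s) ≫ f) (pullback.snd (f ≫ g) (S.fromSpecResidueField s))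
          ((Category.assoc _ _ _).trans pullback.condition) :
        pullback (f ≫ g) (S.fromSpecResidueField s) ⟶ pullback g (S.fromSpecResidueField s))} := by
  have h1 := Groth.Agent.Lib.Helper69.FibreLocus.isLocallyConstructible_etale f g
  have h2 := Groth.Agent.S3426.result f g
  convert h1.inter h2 using 1
  ext s
  exact isOpenImmersion_iff_etale_and_mono (MoreMor.fiberMap f g s)


end Groth.Agent.S2584
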