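import Groth.Statements.S2579
import Groth.Agent.Lib.Helper50.LimStageFP

set_option autoImplicit false
universe u
open CategoryTheory AlgebraicGeometry
open EGA43

namespace Groth.Agent.S2579

/-- Let S = lim S_i be a cofiltered limit of schemes with affine transition morphisms, S_{i₀} a
quasi-compact quasi-separated stage (the source needs S_{i₀} only quasi-compact; quasi-separatedness
is assumed here), f₀ : X₀ ⟶ Y₀ an S_{i₀}-morphism between schemes of finite presentation over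
S_{i₀}, and f : X ⟶ Y its base change to S (base changes expressed by pullback squares). If f is a
monomorphism, then the base change f_i : X_i ⟶ Y_i of f₀ to some stage S_i is a monomorphism. -/
theorem result {I : Type u} [SmallCategory I] [IsCofiltered I]
    (D : I ⥤ Scheme.{u}) (c : Limits.Cone D) (hc : Limits.IsLimit c)
    [∀ (i j : I) (f : i ⟶ j), IsAffineHom (D.map f)] (i₀ : I) [CompactSpace (D.obj i₀)]
    [QuasiSeparatedSpace (D.obj i₀)] {X₀ Y₀ : Scheme.{u}} (f₀ : X₀ ⟶ Y₀) (g₀ : Y₀ ⟶ D.obj i₀)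
    [LocallyOfFinitePresentation g₀] [QuasiCompact g₀] [QuasiSeparated g₀]
    [LocallyOfFinitePresentation (f₀ ≫ g₀)] [QuasiCompact (f₀ ≫ g₀)] [QuasiSeparated (f₀ ≫ g₀)]
    {X Y : Scheme.{u}} (f : X ⟶ Y) (g : Y ⟶ c.pt) (qY : Y ⟶ Y₀) (qX : X ⟶ X₀)
    (hY : IsPullback qY g g₀ (c.π.app i₀)) (hX : IsPullback qX f f₀ qY) [Mono f] :
    ∃ (i : I) (φ : i ⟶ i₀) (Xi Yi : Scheme.{u}) (fi : Xi ⟶ Yi) (gi : Yi ⟶ D.obj i) (pY : Yi ⟶ Y₀)
      (pX : Xi ⟶ X₀), IsPullback pY gi g₀ (D.map φ) ∧ IsPullback pX fi f₀ pY ∧ Mono fi := by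
  open Groth.Agent.Lib.Helper50 Groth.Agent.Lib.Helper50.StageSetup Limits in
  have : CompactSpace Y₀ := QuasiCompact.compactSpace_of_compactSpace g₀
  have : QuasiSeparatedSpace Y₀ := quasiSeparatedSpace_of_quasiSeparated g₀
  have : CompactSpace X₀ := QuasiCompact.compactSpace_of_compactSpace (f₀ ≫ g₀)
  have : QuasiSeparatedSpace X₀ := quasiSeparatedSpace_of_quasiSeparated (f₀ ≫ g₀)
  have : LocallyOfFiniteType f₀ := locallyOfFiniteType_of_comp f₀ g₀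
  have : LocallyOfFinitePresentation (pullback.diagonal f₀) :=
    locallyOfFinitePresentation_diagonal D i₀ f₀ g₀
  suffices H : ∃ (i : I) (φ : i ⟶ i₀) (Xi Yi : Scheme.{u}) (fi : Xi ⟶ Yi) (gi : Yi ⟶ D.obj i)
      (pY : Yi ⟶ Y₀) (pX : Xi ⟶ X₀), IsPullback pY gi g₀ (D.map φ) ∧ IsPullback pX fi f₀ pY ∧
        (MorphismProperty.isomorphisms Scheme.{u}) (pullback.diagonal fi) by
    obtain ⟨i, φ, Xi, Yi, fi, gi, pY, pX, h1, h2, h3⟩ := H
    exact ⟨i, φ, Xi, Yi, fi, gi, pY, pX, h1, h2, (pullback.isIso_diagonal_iff fi).mp h3⟩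
  refine exists_stage_diagonal D i₀ f₀ g₀ (MorphismProperty.isomorphisms Scheme.{u}) ?_
  have hZ := hYΔ D c i₀ f₀ g₀ f g qY qX hY hX
  have hΔ := hXΔ f₀ f qY qX hX
  have : CompactSpace ↥(pullback f₀ f₀) := compactSpace_diagonalObj f₀
  have : QuasiSeparatedSpace ↥(pullback f₀ f₀) := quasiSeparatedSpace_diagonalObj f₀
  have h1 := compactSpace_E D i₀ (gΔ₀ D i₀ f₀ g₀)
  have h2 := quasiSeparatedSpace_E D i₀ (gΔ₀ D i₀ f₀ g₀)
  have h3 := compactSpace_F D i₀ (pullback.diagonal f₀) (gΔ₀ D i₀ f₀ g₀)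
  have h5 := locallyOfFinitePresentation_τ D i₀ (pullback.diagonal f₀) (gΔ₀ D i₀ f₀ g₀)
  have hf0 : IsIso (pullback.diagonal f) := inferInstance
  have hf' : IsIso
      (X := (cF D c i₀ (pullback.diagonal f₀) (gΔ₀ D i₀ f₀ g₀) (pullback.diagonal f)
        (gΔ D c f g) (qΔ f₀ f qY qX hX) qX hZ hΔ).pt)
      (Y := (cE D c i₀ (gΔ₀ D i₀ f₀ g₀) (gΔ D c f g) (qΔ f₀ f qY qX hX) hZ).pt)
      (pullback.diagonal f) := hf0
  obtain ⟨j, _, hj⟩ := exists_forall_isIso_app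
    (τ D i₀ (pullback.diagonal f₀) (gΔ₀ D i₀ f₀ g₀))
    (cF D c i₀ (pullback.diagonal f₀) (gΔ₀ D i₀ f₀ g₀) (pullback.diagonal f)
        (gΔ D c f g) (qΔ f₀ f qY qX hX) qX hZ hΔ)
    (hcF D c hc i₀ (pullback.diagonal f₀) (gΔ₀ D i₀ f₀ g₀) (pullback.diagonal f)
        (gΔ D c f g) (qΔ f₀ f qY qX hX) qX hZ hΔ)
    (cE D c i₀ (gΔ₀ D i₀ f₀ g₀) (gΔ D c f g) (qΔ f₀ f qY qX hX) hZ)
    (hcE D c hc i₀ (gΔ₀ D i₀ f₀ g₀) (gΔ D c f g) (qΔ f₀ f qY qX hX) hZ) (pullback.diagonal f)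
    (hf D c i₀ (pullback.diagonal f₀) (gΔ₀ D i₀ f₀ g₀) (pullback.diagonal f)
        (gΔ D c f g) (qΔ f₀ f qY qX hX) qX hZ hΔ)
    (fun φ ↦ isPullback_τ D i₀ (pullback.diagonal f₀) (gΔ₀ D i₀ f₀ g₀) φ) (Over.mk (𝟙 i₀))
  exact ⟨j, hj j (𝟙 j)⟩

end Groth.Agent.S2579
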