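import Groth.Statements.S2593
import Groth.Agent.S3386
import Groth.Agent.Lib.Helper87.UnivOpenScheme
import Groth.Agent.Lib.Helper87.AffineSpaceSmooth

set_option autoImplicit false
open CategoryTheory AlgebraicGeometry
universe u
open EGA43

namespace Groth.Agent.S2593

/-- Chevalley's criterion for universal openness: let Y be a locally Noetherian scheme all of whose
local rings are geometrically unibranch and f : X ⟶ Y a morphism locally of finite type which is
equidimensional at every point of X. Then f is universally open. (The published statement has an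
arbitrary base; a locally Noetherian base is assumed here, and without it the statement fails, e.g.
for the inclusion of a non-open closed point of the spectrum of an infinite product of copies of
𝔽₂.) -/
theorem result {X Y : Scheme.{u}} [IsLocallyNoetherian Y]
    (hY : ∀ y : Y, CAlg2.IsGeomUnibranch (Y.presheaf.stalk y)) (f : X ⟶ Y) [LocallyOfFiniteType f]
    (h : ∀ x : X, EGA43.IsEquidimAt f x) : UniversallyOpen f := by
  have key : ∀ x : X, ∃ U : X.Opens, x ∈ U ∧ UniversallyOpen (U.ι ≫ f) := by
    intro x
    obtain ⟨e, U, g, hxU, hgover, hgQF, hcomp⟩ := (Groth.Agent.S3386.result f x).1 (h x)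
    refine ⟨U, hxU, ?_⟩
    rw [← hgover]
    have hLN : IsLocallyNoetherian 𝔸(ULift.{u} (Fin e); Y) :=
      LocallyOfFiniteType.isLocallyNoetherian (𝔸(ULift.{u} (Fin e); Y) ↘ Y)
    have hglft : LocallyOfFiniteType g := by
      have : LocallyOfFiniteType (g ≫ (𝔸(ULift.{u} (Fin e); Y) ↘ Y)) := by
        rw [hgover]; infer_instance
      exact locallyOfFiniteType_of_comp g (𝔸(ULift.{u} (Fin e); Y) ↘ Y)
    have hgu : ∀ z : 𝔸(ULift.{u} (Fin e); Y),
        CAlg2.IsGeomUnibranch ((𝔸(ULift.{u} (Fin e); Y)).presheaf.stalk z) := fun z =>
      Groth.Agent.Lib.Helper87.AffineSpaceSmooth.isGeomUnibranch_stalk_affineSpace _ z (hY _)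
    have hg : UniversallyOpen g := by
      apply Groth.Agent.Lib.Helper87.UnivOpen.universallyOpen_of_locallyQuasiFinite g hgu
      intro ξ hξ
      have h1 := hcomp (closure {ξ}) hξ
      have h2 := Groth.Agent.Lib.Helper73.closure_image_closure_singleton g ξ
      show closure {g ξ} ∈ irreducibleComponents _
      exact h2 ▸ h1
    infer_instance
  choose U hxU hU using key
  refine IsZariskiLocalAtSource.of_iSup_eq_top U ?_ hU
  exact top_le_iff.mp fun x _ => TopologicalSpace.Opens.mem_iSup.mpr ⟨x, hxU x⟩

end Groth.Agent.S2593
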