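import Groth.Statements.S2596
import Groth.Agent.Lib.Helper41.ValCenterNhd
import Groth.Agent.Lib.Helper50.DvrCrit

set_option autoImplicit false
open CategoryTheory AlgebraicGeometry
universe u
open EGA43

namespace Groth.Agent.S2596

open CategoryTheory.Limits in
/-- Let Y be locally Noetherian, f : X ⟶ Y separated and of finite type, and y a point of Y. Suppose
that for every discrete valuation ring A with fraction field K and every morphism g : Spec A ⟶ Y
sending the closed point to y, every K-point σ of X ×_Y Spec A lying over the generic point Spec K ⟶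
Spec A extends to a section of X ×_Y Spec A ⟶ Spec A. Then f is proper over some open neighbourhood
of y. -/
theorem result {X Y : Scheme.{u}} [IsLocallyNoetherian Y]
    (f : X ⟶ Y) [IsSeparated f] [LocallyOfFiniteType f] [QuasiCompact f] (y : Y)
    (h : ∀ (A : Type u) [CommRing A] [IsDomain A] [IsDiscreteValuationRing A]
      (g : Spec (CommRingCat.of A) ⟶ Y), g.base (IsLocalRing.closedPoint A) = y →
      ∀ σ : Spec (CommRingCat.of (FractionRing A)) ⟶ pullback f g,
        σ ≫ pullback.snd f g = Spec.map (CommRingCat.ofHom (algebraMap A (FractionRing A))) →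
        ∃ s : Spec (CommRingCat.of A) ⟶ pullback f g, s ≫ pullback.snd f g = 𝟙 _ ∧
          Spec.map (CommRingCat.ofHom (algebraMap A (FractionRing A))) ≫ s = σ) :
    ∃ U : Y.Opens, y ∈ U ∧ IsProper (f ∣_ U) := by
  refine Groth.Agent.Lib.Helper41.ValCenter.exists_isProper_nhd_of_dvr f y
    (fun ξ _ A hA g hgcl hgK => ?_)
  haveI := hA
  let σ : Spec (CommRingCat.of (FractionRing A)) ⟶ pullback f g :=
    pullback.lift
      (Spec.map (CommRingCat.ofHom ((Groth.Agent.Lib.Helper50.fracEquiv A).symm :
        X.residueField ξ →+* FractionRing A)) ≫ X.fromSpecResidueField ξ)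
      (Spec.map (CommRingCat.ofHom (algebraMap A (FractionRing A)))) (by
        rw [Category.assoc, ← hgK, Groth.Agent.Lib.Helper50.SpecMap_algebraMap_fractionRing,
          Category.assoc])
  obtain ⟨s, hs₁, hs₂⟩ := h A g hgcl σ (pullback.lift_snd _ _ _)
  refine ⟨s ≫ pullback.fst f g, ?_, ?_⟩
  · rw [Category.assoc, pullback.condition, ← Category.assoc, hs₁, Category.id_comp]
  · rw [Groth.Agent.Lib.Helper50.SpecMap_subtype_eq, Category.assoc, ← Category.assoc _ s, hs₂,
      pullback.lift_fst, ← Category.assoc, Groth.Agent.Lib.Helper50.SpecMap_fracEquiv_symm_comp,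
      Category.id_comp]

end Groth.Agent.S2596
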