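import Groth.Statements.S9812
import Mathlib.RingTheory.LocalRing.RingHom.Basic
import Mathlib.RingTheory.Ideal.Quotient.Operations

set_option autoImplicit false
universe u
open CAlg2

namespace Groth.Agent.S9812

/-- At the level of the local ring: an integrally closed local domain is geometrically unibranch.
Consequently a normal scheme is geometrically unibranch. -/
theorem result (A : Type u) [CommRing A] [IsLocalRing A]
    [IsDomain A] [IsIntegrallyClosed A] : CAlg2.IsGeomUnibranch A := by
  have hnil : nilradical A = ⊥ := nilradical_eq_zero A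
  let e : A ≃+* CAlg2.red A :=
    (RingEquiv.quotientBot A).symm.trans (Ideal.quotEquivOfEq hnil.symm)
  have he : ∀ a : A, e a = Ideal.Quotient.mk (nilradical A) a := fun a => rfl
  have hdom : IsDomain (CAlg2.red A) := e.symm.toMulEquiv.isDomain
  have hic : IsIntegrallyClosed (CAlg2.red A) := IsIntegrallyClosed.of_equiv e
  have hsurj : Function.Surjective (algebraMap (CAlg2.red A) (CAlg2.normRed A)) := by
    rintro ⟨x, hx⟩
    obtain ⟨y, hy⟩ := IsIntegrallyClosed.isIntegral_iff.1 hx
    exact ⟨y, Subtype.ext hy⟩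
  have hsurj' : Function.Surjective
      ((algebraMap (CAlg2.red A) (CAlg2.normRed A)).comp (Ideal.Quotient.mk (nilradical A))) :=
    hsurj.comp Ideal.Quotient.mk_surjective
  have hloc : IsLocalRing (CAlg2.normRed A) := IsLocalRing.of_surjective' _ hsurj'
  refine ⟨⟨hdom, hloc⟩, ?_⟩
  intro m' _ x
  refine ⟨0, ?_⟩
  rw [pow_zero, pow_one]
  obtain ⟨z, rfl⟩ := Ideal.Quotient.mk_surjective x
  obtain ⟨a, rfl⟩ := hsurj' z
  exact ⟨a, rfl⟩

end Groth.Agent.S9812
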