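import Groth.Statements.S2906
import Groth.Agent.Lib.Helper5.DescProps
import Groth.Agent.Lib.Helper5.DescSepLQF
import Groth.Agent.Lib.Helper5.DescQAffHom
import Groth.Agent.Lib.Helper37.EtaleFibres

set_option autoImplicit false
open CategoryTheory CategoryTheory.Limits AlgebraicGeometry Opposite
universe u
open SGA1

namespace Groth.Agent.S2906

/-- Let g : S' ⟶ S be flat, surjective and quasi-compact. Then every descent datum relative to g whose
underlying scheme is etale, separated and quasi-compact over S' is isomorphic to the canonical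
descent datum of a scheme etale, separated and quasi-compact over S. (Descent data relative to g are
taken in functor-of-points form.) -/
theorem result {S' S : Scheme.{u}} (g : S' ⟶ S) [Flat g] [Surjective g] [QuasiCompact g]
    (D : Desc.SchDD g) [QuasiCompact D.obj.hom] [IsSeparated D.obj.hom] [Etale D.obj.hom] :
    ∃ U : Over S, QuasiCompact U.hom ∧ IsSeparated U.hom ∧ Etale U.hom ∧ Nonempty ((Desc.toDD g).obj U ≅ D) := by
  haveI : LocallyQuasiFinite D.obj.hom :=
    Groth.Agent.Lib.Helper37.EtaleFibres.locallyQuasiFinite_of_etale D.obj.hom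
  have hqa : Mor2.IsQuasiAffine D.obj.hom :=
    Groth.Agent.Lib.Helper5.DescSepLQF.isQuasiAffine_of_sep_lqf D.obj.hom
  obtain ⟨U, ⟨θ⟩⟩ := Groth.Agent.Lib.Helper5.DescQAffHom.effective_of_isQuasiAffine g D hqa
  refine ⟨U, ?_, ?_, ?_, ⟨θ⟩⟩
  · exact Groth.Agent.Lib.Helper5.DescProps.of_iso_toDD @QuasiCompact θ inferInstance
  · exact Groth.Agent.Lib.Helper5.DescProps.of_iso_toDD @IsSeparated θ inferInstance
  · exact Groth.Agent.Lib.Helper5.DescProps.of_iso_toDD @Etale θ inferInstance

end Groth.Agent.S2906
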