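import Groth.Statements.S2907
import Groth.Agent.Lib.Helper81.QuotExists

set_option autoImplicit false
open CategoryTheory CategoryTheory.Limits AlgebraicGeometry
universe u
open SGA1

namespace Groth.Agent.S2907

/-- Let a finite group G act on a scheme X by automorphisms and suppose every orbit of G is contained in
some affine open of X. Then the quotient of X by G exists: there is an affine G-invariant morphism p
: X ⟶ Y identifying the sections of O_Y over each open with the G-invariant sections of O_X over its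
preimage. -/
theorem result {X : Scheme.{u}} {G : Type u} [Group G] [Finite G] (ρ : G →* Aut X)
    (h : ∀ x : X, ∃ U : X.Opens, IsAffineOpen U ∧ ∀ g : G, (ρ g).hom.base x ∈ U) :
    ∃ (Y : Scheme.{u}) (p : X ⟶ Y), SGA1.IsQuot ρ p := by
  classical
  have hcov : ∀ x : X, ∃ W : Groth.Agent.Lib.Helper81.QuotExists.J ρ, x ∈ W.1 := by
    intro x
    obtain ⟨U, hU, hxU⟩ := h x
    obtain ⟨Ω, hΩ⟩ : ∃ Ω : X.Opens, ∀ y, y ∈ Ω ↔ ∀ g : G, (ρ g).hom.base y ∈ U :=
      ⟨⟨⋂ g : G, (((ρ g).hom ⁻¹ᵁ U : X.Opens) : Set X),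
        isOpen_iInter_of_finite (fun g => ((ρ g).hom ⁻¹ᵁ U).isOpen)⟩, fun y => by
          change y ∈ ⋂ g : G, (((ρ g).hom ⁻¹ᵁ U : X.Opens) : Set X) ↔ _
          rw [Set.mem_iInter]
          rfl⟩
    have hΩU : Ω ≤ U := by
      intro y hy
      have := (hΩ y).1 hy 1
      rwa [Groth.Agent.Lib.Helper81.QuotExists.rho_one_base] at this
    have hΩs : ∀ g, Ω ≤ (ρ g).hom ⁻¹ᵁ Ω := by
      intro g y hy
      change (ρ g).hom.base y ∈ Ω
      rw [hΩ]
      intro g'
      rw [← Groth.Agent.Lib.Helper81.QuotExists.rho_mul_base]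
      exact (hΩ y).1 hy _
    obtain ⟨W, hWa, hWs, hxW, -⟩ :=
      Groth.Agent.Lib.Helper81.QuotExists.exists_stable_affine ρ hU Ω hΩs hΩU x ((hΩ x).2 hxU)
    exact ⟨⟨W, hWa, hWs⟩, hxW⟩
  exact ⟨_, _, Groth.Agent.Lib.Helper81.QuotExists.isQuot_quotMap ρ hcov⟩

end Groth.Agent.S2907
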