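import Groth.Statements.S2909
import Groth.Agent.Lib.Helper81.IsQuotAffine
import Mathlib.AlgebraicGeometry.Morphisms.Finite
import Mathlib.AlgebraicGeometry.Morphisms.Separated
import Mathlib.AlgebraicGeometry.Morphisms.Immersion
import Mathlib.AlgebraicGeometry.Noetherian
import Mathlib.RingTheory.Adjoin.Tower

set_option autoImplicit false
set_option linter.style.haveILetI false
open CategoryTheory CategoryTheory.Limits AlgebraicGeometry
universe u
open SGA1

namespace Groth.Agent.S2909

/-- Let a finite group G act on a scheme X by automorphisms over a scheme Z (structure morphism f), and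
let p : X ⟶ Y be a quotient of X by G with Y ⟶ Z the induced morphism q (so p ≫ q = f). Then X is
affine over Z iff Y is, X is separated over Z iff Y is; if f is locally of finite type then p is
finite; and if moreover Z is locally Noetherian and f quasi-compact then q is of finite type
(locally of finite type and quasi-compact). -/
theorem result {X Y Z : Scheme.{u}} {G : Type u} [Group G] [Finite G] (ρ : G →* Aut X)
    (p : X ⟶ Y) (hp : SGA1.IsQuot ρ p) (f : X ⟶ Z) (q : Y ⟶ Z) (hq : p ≫ q = f) (hρ : ∀ g : G, (ρ g).hom ≫ f = f) :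
    (IsAffineHom f ↔ IsAffineHom q) ∧ (IsSeparated f ↔ IsSeparated q) ∧
    (LocallyOfFiniteType f → IsFinite p) ∧
    (IsLocallyNoetherian Z → LocallyOfFiniteType f → QuasiCompact f → LocallyOfFiniteType q ∧ QuasiCompact q) := by
  subst hq
  haveI := hp.affine
  haveI hint : IsIntegralHom p := Groth.Agent.Lib.Helper81.Quot.isIntegralHom hp
  have hsurj := Groth.Agent.Lib.Helper81.Quot.surjective hp
  refine ⟨⟨fun hf => ⟨fun W hW => ?_⟩, fun hq => inferInstance⟩,
    ⟨fun hf => ?_, fun hq => inferInstance⟩, fun hf => ?_, fun hZ hf hqc => ⟨?_, ?_⟩⟩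
  · exact Groth.Agent.Lib.Helper81.Quot.isAffineOpen_of_preimage hp (q ⁻¹ᵁ W) (hW.preimage (p ≫ q))
  · have hP : IsIntegralHom (pullback.map (p ≫ q) (p ≫ q) q q p p (𝟙 Z)
        ((Category.comp_id _).trans rfl) ((Category.comp_id _).trans rfl)) :=
      MorphismProperty.pullbackMap (P := @IsIntegralHom) hint hint rfl rfl
    have hcl : IsClosed (Set.range (pullback.diagonal q).base) := by
      have h1 : Set.range (pullback.diagonal q).base =
          (pullback.map (p ≫ q) (p ≫ q) q q p p (𝟙 Z)
            ((Category.comp_id _).trans rfl) ((Category.comp_id _).trans rfl)).base ''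
            (Set.range (pullback.diagonal (p ≫ q)).base) := by
        have e := pullback.comp_diagonal p q
        have e' : ∀ x, (pullback.diagonal q).base (p.base x) =
            (pullback.map (p ≫ q) (p ≫ q) q q p p (𝟙 Z)
              ((Category.comp_id _).trans rfl) ((Category.comp_id _).trans rfl)).base
              ((pullback.diagonal (p ≫ q)).base x) := fun x => by
          have := congr(($e).base x)
          simpa using this
        ext z
        constructor
        · rintro ⟨y, rfl⟩
          obtain ⟨x, rfl⟩ := hsurj y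
          exact ⟨_, ⟨x, rfl⟩, (e' x).symm⟩
        · rintro ⟨_, ⟨x, rfl⟩, rfl⟩
          exact ⟨p.base x, e' x⟩
      rw [h1]
      exact (Scheme.Hom.isClosedMap _) _ (pullback.diagonal (p ≫ q)).isClosedEmbedding.isClosed_range
    exact ⟨IsClosedImmersion.of_isPreimmersion _ hcl⟩
  · have : LocallyOfFiniteType p := locallyOfFiniteType_of_comp p q
    exact (IsFinite.iff_isIntegralHom_and_locallyOfFiniteType p).mpr ⟨hint, this⟩
  · rw [HasRingHomProperty.iff_appLE (P := @LocallyOfFiniteType)]
    intro W U e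
    have hV : IsAffineOpen (p ⁻¹ᵁ U.1) := U.2.preimage p
    have hle : p ⁻¹ᵁ U.1 ≤ (p ≫ q) ⁻¹ᵁ W.1 := ((TopologicalSpace.Opens.map p.base).map (homOfLE e)).le
    have hfW := (HasRingHomProperty.iff_appLE (P := @LocallyOfFiniteType)).mp hf W
      ⟨p ⁻¹ᵁ U.1, hV⟩ hle
    have hcomp : (p ≫ q).appLE W.1 (p ⁻¹ᵁ U.1) hle = q.appLE W.1 U.1 e ≫ p.app U.1 := by
      rw [Scheme.Hom.app_eq_appLE, Scheme.Hom.appLE_comp_appLE]
    have hfW' : ((p.app U.1).hom.comp (q.appLE W.1 U.1 e).hom).FiniteType := by
      have := hfW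
      simp only [] at this
      rw [hcomp] at this
      exact this
    have hpft : (p.app U.1).hom.FiniteType := RingHom.FiniteType.of_comp_finiteType hfW'
    have hpint : (p.app U.1).hom.IsIntegral := Groth.Agent.Lib.Helper81.Quot.app_isIntegral hp U.1
    have hpfin : (p.app U.1).hom.Finite := hpint.to_finite hpft
    haveI : IsNoetherianRing Γ(Z, W.1) := hZ.component_noetherian W
    letI algAB := (q.appLE W.1 U.1 e).hom.toAlgebra
    letI algBC := (p.app U.1).hom.toAlgebra
    letI algAC := ((p.app U.1).hom.comp (q.appLE W.1 U.1 e).hom).toAlgebra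
    haveI : IsScalarTower Γ(Z, W.1) Γ(Y, U.1) Γ(X, p ⁻¹ᵁ U.1) :=
      IsScalarTower.of_algebraMap_eq (fun x => rfl)
    have hAC : (⊤ : Subalgebra Γ(Z, W.1) Γ(X, p ⁻¹ᵁ U.1)).FG := hfW'.out
    have hBC : (⊤ : Submodule Γ(Y, U.1) Γ(X, p ⁻¹ᵁ U.1)).FG := hpfin.fg_top
    exact ⟨fg_of_fg_of_fg _ _ _ hAC hBC (hp.injective U.1)⟩
  · rw [quasiCompact_iff_forall_isAffineOpen]
    intro W hW
    have h1 : IsCompact ((p ≫ q) ⁻¹ᵁ W : Set X) := (p ≫ q).isCompact_preimage hW.isCompact
    have h2 : (q ⁻¹ᵁ W : Set Y) = p.base '' ((p ≫ q) ⁻¹ᵁ W : Set X) := by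
      ext y
      constructor
      · intro hy
        obtain ⟨x, rfl⟩ := hsurj y
        exact ⟨x, hy, rfl⟩
      · rintro ⟨x, hx, rfl⟩
        exact hx
    rw [h2]
    exact h1.image p.continuous

end Groth.Agent.S2909
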