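import Groth.Statements.S2910
import Groth.Agent.Lib.Helper81.FreeQuotEtale

set_option autoImplicit false
open CategoryTheory CategoryTheory.Limits AlgebraicGeometry
universe u
open SGA1

namespace Groth.Agent.S2910

/-- Let a finite group G act faithfully on a connected scheme X, let p : X ⟶ Y be a quotient of X by G
with Y locally Noetherian and p finite, and suppose p is etale. Then G acts freely on the geometric
points of X (all inertia groups are trivial), and every automorphism of X over Y is the action of
exactly one element of G. -/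
theorem result {X Y : Scheme.{u}} {G : Type u} [Group G] [Finite G] (ρ : G →* Aut X)
    (p : X ⟶ Y) (hp : SGA1.IsQuot ρ p) [IsLocallyNoetherian Y] [IsFinite p] [ConnectedSpace X]
    (hfaith : Function.Injective ρ) [Etale p] :
    (∀ (K : Type u) [Field K] [IsAlgClosed K] (ξ : Spec (CommRingCat.of K) ⟶ X) (g : G), ξ ≫ (ρ g).hom = ξ → g = 1) ∧
    ∀ u : Aut X, u.hom ≫ p = p → ∃! g : G, ρ g = u := by
  have hfree : Groth.Agent.Lib.Helper81.FreeQuot.GeomFree ρ :=
    Groth.Agent.Lib.Helper81.FreeQuot.geomFree_of_unramified hp hfaith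
  refine ⟨hfree, fun u hu => ?_⟩
  obtain ⟨g, hg⟩ := Groth.Agent.Lib.Helper81.FreeQuot.exists_rho_eq_of_free hp hfree u hu
  exact ⟨g, hg, fun g' hg' => hfaith (hg'.trans hg.symm)⟩

end Groth.Agent.S2910
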