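import Groth.Statements.S2911
import Mathlib
import Groth.Agent.Lib.Helper81.EtaleInv
import Groth.Agent.Lib.Helper81.IsQuotAffine

set_option autoImplicit false
open CategoryTheory CategoryTheory.Limits AlgebraicGeometry
universe u
open SGA1

namespace Groth.Agent.S2911


open Groth.Agent.Lib.Helper81 in
theorem etale_stable :
    RingHom.StableUnderCompositionWithLocalizationAwaySource RingHom.Etale := by
  intro R S T _ _ _ _ r _ f hf
  exact RingHom.Etale.stableUnderComposition _ _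
    (RingHom.etale_algebraMap.mpr (Algebra.Etale.of_isLocalizationAway r)) hf

open Groth.Agent.Lib.Helper81 TopologicalSpace in
theorem etale_q {X X' Y : Scheme.{u}} {G : Type u} [Group G] [Finite G] (ρ : G →* Aut X)
    [IsLocallyNoetherian Y] (f : X ⟶ Y) [Etale f] (p : X ⟶ X') (hp : SGA1.IsQuot ρ p)
    (q : X' ⟶ Y) (hq : p ≫ q = f) : Etale q := by
  haveI := hp.affine
  rw [HasRingHomProperty.iff_exists_appLE (P := @Etale) etale_stable]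
  intro x'
  obtain ⟨V, hV, hxV, -⟩ := Opens.isBasis_iff_nbhd.mp Y.isBasis_affineOpens
    (Opens.mem_top (q x'))
  obtain ⟨W, hW, hxW, hWV⟩ := Opens.isBasis_iff_nbhd.mp X'.isBasis_affineOpens
    (show x' ∈ q ⁻¹ᵁ V from hxV)
  refine ⟨⟨V, hV⟩, ⟨W, hW⟩, hxW, hWV, ?_⟩
  have hU : IsAffineOpen (p ⁻¹ᵁ W) := hW.preimage p
  subst hq
  have hUV : p ⁻¹ᵁ W ≤ (p ≫ q) ⁻¹ᵁ V := fun x hx => hWV hx
  have hfe : ((p ≫ q).appLE V (p ⁻¹ᵁ W) hUV).hom.Etale :=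
    Scheme.Hom.etale_appLE (p ≫ q) hV hU hUV
  have hcomp : (p ≫ q).appLE V (p ⁻¹ᵁ W) hUV = q.appLE V W hWV ≫ p.app W := by
    rw [Scheme.Hom.app_eq_appLE, Scheme.Hom.appLE_comp_appLE]
  letI := Quot.action ρ (p ⁻¹ᵁ W) (Quot.stable hp W)
  letI algBC := (p.app W).hom.toAlgebra
  letI algRB := (q.appLE V W hWV).hom.toAlgebra
  letI algRC := ((p ≫ q).appLE V (p ⁻¹ᵁ W) hUV).hom.toAlgebra
  haveI : IsScalarTower Γ(Y, V) Γ(X', W) Γ(X, p ⁻¹ᵁ W) := IsScalarTower.of_algebraMap_eq' (by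
    show ((p ≫ q).appLE V (p ⁻¹ᵁ W) hUV).hom = (p.app W).hom.comp (q.appLE V W hWV).hom
    rw [hcomp]; rfl)
  haveI := Quot.isInvariant hp W
  haveI := Quot.smulCommClass hp W
  haveI : FaithfulSMul Γ(X', W) Γ(X, p ⁻¹ᵁ W) :=
    (faithfulSMul_iff_algebraMap_injective _ _).mpr (hp.injective W)
  haveI : IsNoetherianRing Γ(Y, V) := IsLocallyNoetherian.component_noetherian ⟨V, hV⟩
  haveI : Algebra.Etale Γ(Y, V) Γ(X, p ⁻¹ᵁ W) := RingHom.etale_algebraMap.mp hfe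
  have := EtaleInv.etale_of_isInvariant Γ(Y, V) Γ(X', W) Γ(X, p ⁻¹ᵁ W) G
  exact RingHom.etale_algebraMap.mpr this

open Groth.Agent.Lib.Helper81 in
theorem finite_q {X X' Y : Scheme.{u}} {G : Type u} [Group G] [Finite G] (ρ : G →* Aut X)
    [IsLocallyNoetherian Y] (p : X ⟶ X') (hp : SGA1.IsQuot ρ p)
    (q : X' ⟶ Y) (hf : IsFinite (p ≫ q)) : IsFinite q := by
  have haff : ∀ V : Y.Opens, IsAffineOpen V → IsAffineOpen (q ⁻¹ᵁ V) := by
    intro V hV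
    have : IsAffineOpen (p ⁻¹ᵁ (q ⁻¹ᵁ V)) := hV.preimage (p ≫ q)
    exact Quot.isAffineOpen_of_preimage hp (q ⁻¹ᵁ V) this
  refine { toIsAffineHom := ⟨haff⟩, finite_app := fun V hV => ?_ }
  have hfin : ((p ≫ q).app V).hom.Finite := Scheme.Hom.finite_app (p ≫ q) V hV
  have hcomp : (p ≫ q).app V = q.app V ≫ p.app (q ⁻¹ᵁ V) := Scheme.Hom.comp_app p q V
  letI algBC := (p.app (q ⁻¹ᵁ V)).hom.toAlgebra
  letI algRB := (q.app V).hom.toAlgebra
  letI algRC : Algebra Γ(Y, V) Γ(X, p ⁻¹ᵁ (q ⁻¹ᵁ V)) := ((p ≫ q).app V).hom.toAlgebra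
  haveI : IsScalarTower Γ(Y, V) Γ(X', q ⁻¹ᵁ V) Γ(X, p ⁻¹ᵁ (q ⁻¹ᵁ V)) :=
    IsScalarTower.of_algebraMap_eq' (by
      show ((p ≫ q).app V).hom = (p.app (q ⁻¹ᵁ V)).hom.comp (q.app V).hom
      rw [hcomp]; rfl)
  haveI : IsNoetherianRing Γ(Y, V) := IsLocallyNoetherian.component_noetherian ⟨V, hV⟩
  haveI : Module.Finite Γ(Y, V) Γ(X, p ⁻¹ᵁ (q ⁻¹ᵁ V)) := hfin
  haveI : IsNoetherian Γ(Y, V) Γ(X, p ⁻¹ᵁ (q ⁻¹ᵁ V)) := isNoetherian_of_isNoetherianRing_of_finite _ _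
  show Module.Finite Γ(Y, V) Γ(X', q ⁻¹ᵁ V)
  exact Module.Finite.of_injective
    (IsScalarTower.toAlgHom Γ(Y, V) Γ(X', q ⁻¹ᵁ V) Γ(X, p ⁻¹ᵁ (q ⁻¹ᵁ V))).toLinearMap
    (hp.injective (q ⁻¹ᵁ V))

/-- With the existence of the quotient taken as a hypothesis: Let Y be locally Noetherian, f : X ⟶ Y
etale, separated and quasi-compact, G a finite group acting on X by Y-automorphisms, p : X ⟶ X' a
quotient of X by G and q : X' ⟶ Y the induced morphism. Then p and q are etale, and if f is finite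
then q is finite. -/
theorem result {X X' Y : Scheme.{u}} {G : Type u} [Group G] [Finite G] (ρ : G →* Aut X)
    [IsLocallyNoetherian Y] (f : X ⟶ Y) [Etale f] [IsSeparated f] [QuasiCompact f] (hρ : ∀ g : G, (ρ g).hom ≫ f = f)
    (p : X ⟶ X') (hp : SGA1.IsQuot ρ p) (q : X' ⟶ Y) (hq : p ≫ q = f) :
    Etale p ∧ Etale q ∧ (IsFinite f → IsFinite q) := by
  subst hq
  have hq' : Etale q := etale_q ρ (p ≫ q) p hp q rfl
  refine ⟨?_, hq', fun hfin => finite_q ρ p hp q hfin⟩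
  exact Etale.of_comp p q

end Groth.Agent.S2911
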