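import Groth.Statements.S2913
-- import your own Groth.Agent.* helpers here

set_option autoImplicit false
open CategoryTheory CategoryTheory.Limits AlgebraicGeometry Opposite
universe u
open SGA1

namespace Groth.Agent.S2913

/-- Let g : S' ⟶ S be a surjective morphism of schemes such that for every open U of S the map O_S(U) →
O_{S'}(g⁻¹U) is injective. Then g is an epimorphism in the category of schemes. -/
theorem result {S' S : Scheme.{u}} (g : S' ⟶ S) [Surjective g]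
    (hinj : ∀ U : S.Opens, Function.Injective (g.app U).hom) : Epi g := by
  constructor
  intro T f₁ f₂ h
  have hpt : ∀ x : S, f₁ x = f₂ x := by
    intro x
    obtain ⟨x', rfl⟩ := g.surjective x
    have := congrArg (fun φ : S' ⟶ T => φ x') h
    simpa using this
  have hb : f₁.base = f₂.base := by
    ext x
    exact hpt x
  refine Scheme.Hom.ext hb ?_
  intro U
  have hinj' := hinj (f₂ ⁻¹ᵁ U)
  have hmono : Mono (g.app (f₂ ⁻¹ᵁ U)) :=
    ConcreteCategory.mono_of_injective _ hinj'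
  rw [← cancel_mono (g.app (f₂ ⁻¹ᵁ U))]
  have hle : f₂ ⁻¹ᵁ U ≤ f₁ ⁻¹ᵁ U := by
    intro x hx
    show f₁ x ∈ U
    rw [hpt x]; exact hx
  have key : ∀ (φ : S' ⟶ T) (_ : φ = g ≫ f₂) (e : g ⁻¹ᵁ f₂ ⁻¹ᵁ U ≤ φ ⁻¹ᵁ U),
      φ.appLE U (g ⁻¹ᵁ f₂ ⁻¹ᵁ U) e = (g ≫ f₂).appLE U (g ⁻¹ᵁ f₂ ⁻¹ᵁ U) le_rfl := by
    rintro _ rfl _; rfl
  have h2 : f₁.app U ≫ S.presheaf.map (eqToHom congr((TopologicalSpace.Opens.map $hb.symm).obj U)).op =
      f₁.appLE U (f₂ ⁻¹ᵁ U) hle := rfl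
  rw [h2, Scheme.Hom.app_eq_appLE (f := g), Scheme.Hom.appLE_comp_appLE,
    Scheme.Hom.app_eq_appLE (f := f₂), Scheme.Hom.appLE_comp_appLE]
  exact key _ h _

end Groth.Agent.S2913
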