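import Groth.Statements.S2914
import Groth.Agent.Lib.Helper81.QuotDesc
import Mathlib.AlgebraicGeometry.EffectiveEpi

set_option autoImplicit false
open CategoryTheory CategoryTheory.Limits AlgebraicGeometry Opposite
universe u
open SGA1

namespace Groth.Agent.S2914

/-- Let g : S' ⟶ S be a morphism of schemes whose underlying map is a quotient map, and such that for
every open U of S the sequence O_S(U) → O_{S'}(g⁻¹U) ⇉ O_{S''}(h⁻¹U) is an equalizer, where S'' = S'
×_S S' with structure map h and the two arrows are restriction along the projections. Then g is an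
effective epimorphism in the category of schemes. -/
theorem result {S' S : Scheme.{u}} (g : S' ⟶ S) (hq : Topology.IsQuotientMap g.base)
    (hinj : ∀ U : S.Opens, Function.Injective (g.app U).hom)
    (heq : ∀ (U : S.Opens) (s' : Γ(S', g ⁻¹ᵁ U)), (SGA1.overlapFstApp g U).hom s' = (SGA1.overlapSndApp g U).hom s' →
      s' ∈ Set.range (g.app U).hom) :
    EffectiveEpi g := by
  have : Epi g := Groth.Agent.Lib.Helper81.epi_of_surjective_of_app_injective g hq.surjective hinj
  have : IsRegularEpi g := by
    refine .of_epi_of_exists fun Z h hh => ?_
    apply Groth.Agent.Lib.Helper81.exists_desc g h hq hinj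
    · intro x x' hx
      obtain ⟨z, rfl, rfl⟩ := Scheme.Pullback.exists_preimage_pullback x x' hx
      have := congr(($hh).base z)
      simpa using this
    · intro U W e t
      apply heq
      unfold SGA1.overlapFstApp SGA1.overlapSndApp
      rw [← CommRingCat.comp_apply, ← CommRingCat.comp_apply]
      rw [Scheme.Hom.app_eq_appLE, Scheme.Hom.appLE_comp_appLE, Scheme.Hom.appLE_comp_appLE]
      simp only [hh]
  infer_instance

end Groth.Agent.S2914
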