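import Groth.Statements.S2916
import Groth.Agent.Lib.Helper81.EtRigid

set_option autoImplicit false
open CategoryTheory CategoryTheory.Limits AlgebraicGeometry Opposite
universe u
open SGA1

namespace Groth.Agent.S2916

/-- Let g : S' ⟶ S be universally submersive with geometrically connected fibres (the base change of S'
to any algebraically closed field valued point of S is connected). Then S' is connected whenever S
is, and for schemes X, Y etale over S every S'-morphism between their base changes comes from
exactly one S-morphism X ⟶ Y. -/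
theorem result {S' S : Scheme.{u}} (g : S' ⟶ S)
    (hg : SGA1.UnivSubmersive g)
    (hconn : ∀ (K : Type u) [Field K] [IsAlgClosed K] (ξ : Spec (CommRingCat.of K) ⟶ S), ConnectedSpace ↑(pullback g ξ)) :
    (ConnectedSpace S → ConnectedSpace S') ∧
    ∀ (X Y : Over S) [Etale X.hom] [Etale Y.hom], Function.Bijective ((Over.pullback g).map : (X ⟶ Y) → _) := by
  have hgc : Groth.Agent.Lib.Helper81.EtRigid.GeomConn g := hconn
  refine ⟨fun _ => Groth.Agent.Lib.Helper81.EtRigid.connectedSpace_of_geomConn g hgc
    (Groth.Agent.Lib.Helper81.Submersive.isQuotientMap hg), ?_⟩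
  intro X Y _ _
  have hπ : SGA1.UnivSubmersive (pullback.fst X.hom g) :=
    Groth.Agent.Lib.Helper81.Submersive.univSubmersive_of_isPullback
      (IsPullback.of_hasPullback X.hom g) hg
  have hsurj : Function.Surjective (pullback.fst X.hom g) :=
    (Groth.Agent.Lib.Helper81.Submersive.isQuotientMap hπ).surjective
  have : LocallyQuasiFinite Y.hom :=
    Groth.Agent.Lib.Helper81.EtRigid.locallyQuasiFinite_of_unramified Y.hom
  constructor
  · intro f₁ f₂ h
    have h1 : ((Over.pullback g).map f₁).left ≫ pullback.fst Y.hom g =
        ((Over.pullback g).map f₂).left ≫ pullback.fst Y.hom g := by rw [h]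
    simp only [Over.pullback_map_left, pullback.lift_fst] at h1
    apply Over.OverMorphism.ext
    exact Groth.Agent.Lib.Helper81.EtDescent.eq_of_comp_eq_of_surjective (pullback.fst X.hom g)
      hsurj Y.hom f₁.left f₂.left ((Over.w f₁).trans (Over.w f₂).symm) h1
  · intro f'
    have hw : f'.left ≫ pullback.snd Y.hom g = pullback.snd X.hom g := Over.w f'
    have hF : (f'.left ≫ pullback.fst Y.hom g) ≫ Y.hom = pullback.fst X.hom g ≫ X.hom := by
      rw [Category.assoc, pullback.condition, ← Category.assoc, hw, pullback.condition]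
    have hcoc := Groth.Agent.Lib.Helper81.EtRigid.cocycle_of_geomConn (pullback.fst X.hom g)
      (Groth.Agent.Lib.Helper81.EtRigid.geomConn_fst X.hom g hgc) X.hom Y.hom
      (f'.left ≫ pullback.fst Y.hom g) hF
    obtain ⟨u, ⟨hu1, hu2⟩, -⟩ := Groth.Agent.Lib.Helper81.EtDescent.exists_unique_desc
      (pullback.fst X.hom g) X.hom Y.hom (f'.left ≫ pullback.fst Y.hom g) hF hcoc hπ
    refine ⟨Over.homMk u hu1, ?_⟩
    apply Over.OverMorphism.ext
    simp only [Over.pullback_map_left, Over.homMk_left]
    apply pullback.hom_ext
    · rw [pullback.lift_fst, hu2]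
    · rw [pullback.lift_snd, hw]

end Groth.Agent.S2916
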