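import Groth.Statements.S2917
import Groth.Agent.Lib.Helper81.Submersive
import Mathlib.AlgebraicGeometry.Morphisms.Proper

set_option autoImplicit false
set_option linter.style.haveILetI false
open CategoryTheory CategoryTheory.Limits AlgebraicGeometry Opposite
universe u
open SGA1

namespace Groth.Agent.S2917

/-- Let g : S' ⟶ S be universally submersive, f : X ⟶ Y a morphism of S-schemes (Y ⟶ S the structure
map) and f' its base change along S' ⟶ S, realised as X ×_S S' ⟶ Y ×_S S'. If f' is open (resp.
closed) then so is f; if f' is universally open (resp. universally closed, resp. separated) then so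
is f; and if moreover g is quasi-compact and f locally of finite type, then f is proper as soon as
f' is. -/
theorem result {S' S X Y : Scheme.{u}} (g : S' ⟶ S) (hg : SGA1.UnivSubmersive g)
    (f : X ⟶ Y) (q : Y ⟶ S) :
    (IsOpenMap (pullback.map (f ≫ q) g q g f (𝟙 S') (𝟙 S) (Category.comp_id _) ((Category.comp_id _).trans (Category.id_comp _).symm)).base → IsOpenMap f.base) ∧
    (IsClosedMap (pullback.map (f ≫ q) g q g f (𝟙 S') (𝟙 S) (Category.comp_id _) ((Category.comp_id _).trans (Category.id_comp _).symm)).base → IsClosedMap f.base) ∧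
    (UniversallyOpen (pullback.map (f ≫ q) g q g f (𝟙 S') (𝟙 S) (Category.comp_id _) ((Category.comp_id _).trans (Category.id_comp _).symm)) → UniversallyOpen f) ∧
    (UniversallyClosed (pullback.map (f ≫ q) g q g f (𝟙 S') (𝟙 S) (Category.comp_id _) ((Category.comp_id _).trans (Category.id_comp _).symm)) → UniversallyClosed f) ∧
    (IsSeparated (pullback.map (f ≫ q) g q g f (𝟙 S') (𝟙 S) (Category.comp_id _) ((Category.comp_id _).trans (Category.id_comp _).symm)) → IsSeparated f) ∧
    (QuasiCompact g → LocallyOfFiniteType f →
      IsProper (pullback.map (f ≫ q) g q g f (𝟙 S') (𝟙 S) (Category.comp_id _) ((Category.comp_id _).trans (Category.id_comp _).symm)) → IsProper f) := by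
  have hsq : IsPullback (pullback.fst (f ≫ q) g)
      (pullback.map (f ≫ q) g q g f (𝟙 S') (𝟙 S) (Category.comp_id _)
        ((Category.comp_id _).trans (Category.id_comp _).symm)) f (pullback.fst q g) := by
    have h1 : IsPullback (pullback.snd (f ≫ q) g) (pullback.fst (f ≫ q) g) g (f ≫ q) :=
      (IsPullback.of_hasPullback (f ≫ q) g).flip
    have h2 : IsPullback (pullback.snd q g) (pullback.fst q g) g q :=
      (IsPullback.of_hasPullback q g).flip
    have e1 : pullback.map (f ≫ q) g q g f (𝟙 S') (𝟙 S) (Category.comp_id _)
        ((Category.comp_id _).trans (Category.id_comp _).symm) ≫ pullback.snd q g =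
        pullback.snd (f ≫ q) g := (pullback.lift_snd _ _ _).trans (Category.comp_id _)
    have e2 : pullback.map (f ≫ q) g q g f (𝟙 S') (𝟙 S) (Category.comp_id _)
        ((Category.comp_id _).trans (Category.id_comp _).symm) ≫ pullback.fst q g =
        pullback.fst (f ≫ q) g ≫ f := pullback.lift_fst _ _ _
    rw [← e1] at h1
    exact (IsPullback.of_right h1 e2 h2).flip
  have hb : SGA1.UnivSubmersive (pullback.fst q g) :=
    Groth.Agent.Lib.Helper81.Submersive.univSubmersive_of_isPullback
      (IsPullback.of_hasPullback q g) hg
  have hbq := Groth.Agent.Lib.Helper81.Submersive.isQuotientMap hb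
  refine ⟨fun h => Groth.Agent.Lib.Helper81.Submersive.isOpenMap_of_isPullback hsq hbq h,
    fun h => Groth.Agent.Lib.Helper81.Submersive.isClosedMap_of_isPullback hsq hbq h,
    fun h => Groth.Agent.Lib.Helper81.Submersive.universallyOpen_of_isPullback hsq hb,
    fun h => Groth.Agent.Lib.Helper81.Submersive.universallyClosed_of_isPullback hsq hb,
    fun h => Groth.Agent.Lib.Helper81.Submersive.isSeparated_of_isPullback hsq hb,
    fun _ hft h => ?_⟩
  haveI := Groth.Agent.Lib.Helper81.Submersive.isSeparated_of_isPullback hsq hb
  haveI := Groth.Agent.Lib.Helper81.Submersive.universallyClosed_of_isPullback hsq hb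
  exact {}

end Groth.Agent.S2917
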