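import Groth.Statements.S2921
import Mathlib
import Groth.Agent.Lib.Helper73.DimFT.Basic

set_option autoImplicit false
universe u
open IsLocalRing
open SGA1

namespace Groth.Agent.S2921

open MvPolynomial

section Retract
variable {A : Type u} [CommRing A] {r : ℕ} (f : Fin r → A) (n : Fin r → ℕ)

/-- weight of a monomial under the retraction -/
noncomputable def wt (s : Fin r →₀ ℕ) : A :=
  if ∀ j, n j ∣ s j then ∏ j, f j ^ (s j / n j) else 0

theorem wt_add_single (hn : ∀ i, 1 ≤ n i) (s : Fin r →₀ ℕ) (i : Fin r) :
    wt f n (s + Finsupp.single i (n i)) = f i * wt f n s := by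
  have hcond : (∀ j, n j ∣ (s + Finsupp.single i (n i)) j) ↔ ∀ j, n j ∣ s j := by
    refine forall_congr' fun j => ?_
    rw [Finsupp.add_apply, Finsupp.single_apply]
    split_ifs with h
    · subst h
      exact Nat.dvd_add_self_right
    · simp
  unfold wt
  by_cases h : ∀ j, n j ∣ s j
  · rw [if_pos h, if_pos (hcond.mpr h)]
    have : ∀ j ∈ (Finset.univ : Finset (Fin r)),
        f j ^ ((s + Finsupp.single i (n i)) j / n j) =
          f j ^ (s j / n j) * (if i = j then f i else 1) := by
      intro j _
      rw [Finsupp.add_apply, Finsupp.single_apply]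
      split_ifs with hij
      · subst hij
        rw [Nat.add_div_right _ (hn i), pow_succ]
      · simp
    rw [Finset.prod_congr rfl this, Finset.prod_mul_distrib, Finset.prod_ite_eq]
    simp [mul_comm]
  · rw [if_neg h, if_neg (fun h' => h (hcond.mp h')), mul_zero]

/-- the `A`-linear retraction `A[T] → A` -/
noncomputable def retr : MvPolynomial (Fin r) A →ₗ[A] A :=
  (MvPolynomial.basisMonomials (Fin r) A).constr A (wt f n)

theorem retr_monomial (s : Fin r →₀ ℕ) (c : A) : retr f n (monomial s c) = c * wt f n s := by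
  have h1 : (monomial s c : MvPolynomial (Fin r) A) = c • (MvPolynomial.basisMonomials (Fin r) A s) := by
    rw [MvPolynomial.coe_basisMonomials, MvPolynomial.smul_monomial, smul_eq_mul, mul_one]
  rw [h1, map_smul, retr, Module.Basis.constr_basis, smul_eq_mul]

theorem retr_C (c : A) : retr f n (C c) = c := by
  rw [MvPolynomial.C_apply, retr_monomial]
  simp [wt]

theorem retr_mul_gen (hn : ∀ i, 1 ≤ n i) (i : Fin r) (p : MvPolynomial (Fin r) A) :
    retr f n (p * (X i ^ n i - C (f i))) = 0 := by
  induction p using MvPolynomial.induction_on' with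
  | monomial s c =>
    rw [mul_sub, map_sub, MvPolynomial.X_pow_eq_monomial, MvPolynomial.monomial_mul,
      MvPolynomial.C_apply, MvPolynomial.monomial_mul, retr_monomial, retr_monomial,
      wt_add_single f n hn]
    simp only [add_zero, mul_one]
    ring
  | add p q hp hq =>
    rw [add_mul, map_add, hp, hq, add_zero]

theorem retr_eq_zero_of_mem (hn : ∀ i, 1 ≤ n i) (p : MvPolynomial (Fin r) A)
    (hp : p ∈ Ideal.span (Set.range fun i => (X i : MvPolynomial (Fin r) A) ^ n i - C (f i))) :
    retr f n p = 0 := by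
  obtain ⟨c, rfl⟩ := (Ideal.mem_span_range_iff_exists_fun).mp hp
  rw [map_sum]
  exact Finset.sum_eq_zero fun i _ => retr_mul_gen f n hn i (c i)

theorem algebraMap_injective (hn : ∀ i, 1 ≤ n i) :
    Function.Injective (algebraMap A (kummerAlg A f n)) := by
  rw [injective_iff_map_eq_zero]
  intro a ha
  have h1 : (Ideal.Quotient.mk _ (C a) : kummerAlg A f n) = 0 := ha
  rw [Ideal.Quotient.eq_zero_iff_mem] at h1
  have := retr_eq_zero_of_mem f n hn _ h1
  rwa [retr_C] at this

end Retract

section Basic
variable {A : Type u} [CommRing A] {r : ℕ} (f : Fin r → A) (n : Fin r → ℕ)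

/-- the class of `T_i` -/
noncomputable def T (i : Fin r) : kummerAlg A f n := Ideal.Quotient.mk _ (X i)

theorem T_pow (i : Fin r) : T f n i ^ n i = algebraMap A (kummerAlg A f n) (f i) := by
  have h : (Ideal.Quotient.mk (Ideal.span (Set.range fun i =>
      (X i : MvPolynomial (Fin r) A) ^ n i - C (f i)))) (X i ^ n i - C (f i)) = 0 :=
    Ideal.Quotient.eq_zero_iff_mem.mpr (Ideal.subset_span ⟨i, rfl⟩)
  rw [map_sub, sub_eq_zero] at h
  rw [T, ← map_pow, h]
  rfl

/-- every element is a constant plus an element of the ideal generated by the `T_i` -/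
theorem mk_sub_const_mem (g : MvPolynomial (Fin r) A) :
    (Ideal.Quotient.mk _ g : kummerAlg A f n) - algebraMap A _ (constantCoeff g) ∈
      Ideal.span (Set.range (T f n)) := by
  induction g using MvPolynomial.induction_on with
  | C a =>
    have : (Ideal.Quotient.mk _ (C a) : kummerAlg A f n) = algebraMap A _ a := rfl
    rw [this, constantCoeff_C, sub_self]
    exact Ideal.zero_mem _
  | add p q hp hq =>
    have := Ideal.add_mem _ hp hq
    rw [map_add, map_add, map_add]
    convert this using 1
    ring
  | mul_X p i _ =>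
    rw [map_mul, map_mul, constantCoeff_X, mul_zero, map_zero, sub_zero]
    exact Ideal.mul_mem_left _ _ (Ideal.subset_span ⟨i, rfl⟩)

theorem isIntegral_kummer (hn : ∀ i, 1 ≤ n i) : Algebra.IsIntegral A (kummerAlg A f n) := by
  have hT : ∀ i, IsIntegral A (T f n i) := by
    intro i
    refine ⟨Polynomial.X ^ n i - Polynomial.C (f i),
      Polynomial.monic_X_pow_sub_C _ (Nat.one_le_iff_ne_zero.mp (hn i)), ?_⟩
    simp [T_pow]
  have htop : integralClosure A (kummerAlg A f n) = ⊤ := by
    rw [eq_top_iff]
    have hadj : Algebra.adjoin A (Set.range (T f n)) = ⊤ := by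
      have h1 := MvPolynomial.adjoin_range_X (R := A) (σ := Fin r)
      have h2 : (⊤ : Subalgebra A (kummerAlg A f n)) =
          Subalgebra.map (Ideal.Quotient.mkₐ A _) (⊤ : Subalgebra A (MvPolynomial (Fin r) A)) := by
        rw [Algebra.map_top, eq_comm, AlgHom.range_eq_top]
        exact Ideal.Quotient.mkₐ_surjective A _
      rw [h2, ← h1, AlgHom.map_adjoin, ← Set.range_comp]
      rfl
    rw [← hadj]
    exact Algebra.adjoin_le (by rintro _ ⟨i, rfl⟩; exact hT i)
  exact ⟨fun x => by
    have : x ∈ integralClosure A (kummerAlg A f n) := htop ▸ Algebra.mem_top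
    exact this⟩

end Basic

section Ext
variable {A : Type u} [CommRing A] [IsLocalRing A] [IsNoetherianRing A] {r : ℕ} (f : Fin r → A)

theorem ncard_range_le_fin {α : Type*} {e : ℕ} (g : Fin e → α) : (Set.range g).ncard ≤ e := by
  rw [← Set.image_univ]
  refine (Set.ncard_image_le (Set.toFinite _)).trans ?_
  rw [Set.ncard_univ, Nat.card_fin]

theorem exists_extension (hm : ∀ i, f i ∈ maximalIdeal A)
    (hf : LinearIndependent (ResidueField A) (fun i => (maximalIdeal A).toCotangent ⟨f i, hm i⟩)) :
    ∃ S₂ : Set A, S₂.Finite ∧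
      S₂.ncard + r ≤ Module.finrank (ResidueField A) (CotangentSpace A) ∧
      Ideal.span (Set.range f ∪ S₂) = maximalIdeal A := by
  set v : Fin r → CotangentSpace A := fun i => (maximalIdeal A).toCotangent ⟨f i, hm i⟩ with hv
  set U : Submodule (ResidueField A) (CotangentSpace A) := Submodule.span _ (Set.range v) with hU
  have hUr : Module.finrank (ResidueField A) U = r := by
    rw [hU, finrank_span_eq_card hf, Fintype.card_fin]
  have hsum := U.finrank_quotient_add_finrank
  rw [hUr] at hsum
  set e := Module.finrank (ResidueField A) (CotangentSpace A ⧸ U) with he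
  let b := Module.finBasis (ResidueField A) (CotangentSpace A ⧸ U)
  choose y hy using fun j : Fin e => U.mkQ_surjective (b j)
  choose z hz using fun j : Fin e => (maximalIdeal A).toCotangent_surjective (y j)
  refine ⟨Set.range fun j => (z j : A), Set.finite_range _, ?_, ?_⟩
  · have := ncard_range_le_fin (fun j => (z j : A))
    omega
  · set s : Set (maximalIdeal A) := Set.range (fun i => (⟨f i, hm i⟩ : maximalIdeal A)) ∪ Set.range z
      with hs
    have himg : (maximalIdeal A).toCotangent '' s = Set.range v ∪ Set.range y := by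
      rw [hs, Set.image_union, ← Set.range_comp, ← Set.range_comp]
      congr 1
      ext x
      simp only [Set.mem_range, Function.comp_apply]
      constructor
      · rintro ⟨j, rfl⟩; exact ⟨j, (hz j).symm⟩
      · rintro ⟨j, rfl⟩; exact ⟨j, hz j⟩
    have htop : Submodule.span (ResidueField A) ((maximalIdeal A).toCotangent '' s) = ⊤ := by
      rw [himg, Submodule.span_union, ← hU, ← Submodule.map_mkQ_eq_top, Submodule.map_span,
        ← Set.range_comp]
      have : (U.mkQ ∘ y) = b := funext hy
      rw [this]
      exact b.span_eq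
    have h2 := CotangentSpace.span_image_eq_top_iff.mp htop
    have h3 := congrArg (Submodule.map (maximalIdeal A).subtype) h2
    rw [Submodule.map_span, Submodule.map_top, Submodule.range_subtype] at h3
    have h4 : (maximalIdeal A).subtype '' s = Set.range f ∪ Set.range fun j => (z j : A) := by
      rw [hs, Set.image_union, ← Set.range_comp, ← Set.range_comp]
      rfl
    rw [h4] at h3
    exact h3

end Ext


section Local
variable {A : Type u} [CommRing A] [IsLocalRing A] {r : ℕ} (f : Fin r → A) (n : Fin r → ℕ)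

/-- the augmentation to the residue field -/
noncomputable def aug (hm : ∀ i, f i ∈ maximalIdeal A) (hn : ∀ i, 1 ≤ n i) :
    kummerAlg A f n →+* ResidueField A :=
  Ideal.Quotient.lift _ (eval₂Hom (residue A) (fun _ => 0)) (by
    intro a ha
    rw [← RingHom.mem_ker]
    refine (Ideal.span_le (I := RingHom.ker _)).mpr ?_ ha
    rintro _ ⟨i, rfl⟩
    rw [SetLike.mem_coe, RingHom.mem_ker, map_sub, map_pow, eval₂Hom_X', eval₂Hom_C,
      zero_pow (Nat.one_le_iff_ne_zero.mp (hn i)), (residue_eq_zero_iff _).mpr (hm i), sub_zero])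

theorem aug_mk (hm : ∀ i, f i ∈ maximalIdeal A) (hn : ∀ i, 1 ≤ n i) (g : MvPolynomial (Fin r) A) :
    aug f n hm hn (Ideal.Quotient.mk _ g) = residue A (constantCoeff g) := by
  rw [aug, Ideal.Quotient.lift_mk, eval₂Hom_zero']
  rfl

theorem aug_algebraMap (hm : ∀ i, f i ∈ maximalIdeal A) (hn : ∀ i, 1 ≤ n i) (a : A) :
    aug f n hm hn (algebraMap A _ a) = residue A a := by
  have : (algebraMap A (kummerAlg A f n) a) = Ideal.Quotient.mk _ (C a) := rfl
  rw [this, aug_mk, constantCoeff_C]

theorem aug_T (hm : ∀ i, f i ∈ maximalIdeal A) (hn : ∀ i, 1 ≤ n i) (i : Fin r) :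
    aug f n hm hn (T f n i) = 0 := by
  rw [T, aug_mk, constantCoeff_X, map_zero]

theorem aug_surjective (hm : ∀ i, f i ∈ maximalIdeal A) (hn : ∀ i, 1 ≤ n i) :
    Function.Surjective (aug f n hm hn) := by
  intro x
  obtain ⟨a, rfl⟩ := residue_surjective x
  exact ⟨algebraMap A _ a, aug_algebraMap f n hm hn a⟩

theorem ker_aug_le (hm : ∀ i, f i ∈ maximalIdeal A) (hn : ∀ i, 1 ≤ n i)
    (M : Ideal (kummerAlg A f n)) [M.IsMaximal] : RingHom.ker (aug f n hm hn) ≤ M := by
  have hint := isIntegral_kummer f n hn
  have hcomap : M.comap (algebraMap A (kummerAlg A f n)) = maximalIdeal A :=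
    eq_maximalIdeal (Ideal.isMaximal_comap_of_isIntegral_of_isMaximal M)
  have hT : ∀ i, T f n i ∈ M := by
    intro i
    have h1 : T f n i ^ n i ∈ M := by
      rw [T_pow]
      have : f i ∈ M.comap (algebraMap A (kummerAlg A f n)) := hcomap ▸ hm i
      exact this
    exact (Ideal.IsMaximal.isPrime inferInstance).mem_of_pow_mem _ h1
  intro x hx
  obtain ⟨g, rfl⟩ := Ideal.Quotient.mk_surjective x
  rw [RingHom.mem_ker, aug_mk, residue_eq_zero_iff] at hx
  have h1 := mk_sub_const_mem f n g
  have h2 : Ideal.span (Set.range (T f n)) ≤ M :=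
    Ideal.span_le.mpr (by rintro _ ⟨i, rfl⟩; exact hT i)
  have h3 : algebraMap A (kummerAlg A f n) (constantCoeff g) ∈ M := by
    have : constantCoeff g ∈ M.comap (algebraMap A (kummerAlg A f n)) := hcomap ▸ hx
    exact this
  have := M.add_mem (h2 h1) h3
  simpa using this

theorem isLocalRing_kummer (hm : ∀ i, f i ∈ maximalIdeal A) (hn : ∀ i, 1 ≤ n i) :
    IsLocalRing (kummerAlg A f n) := by
  have hmax : (RingHom.ker (aug f n hm hn)).IsMaximal :=
    RingHom.ker_isMaximal_of_surjective _ (aug_surjective f n hm hn)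
  refine IsLocalRing.of_unique_max_ideal ⟨RingHom.ker (aug f n hm hn), hmax, ?_⟩
  intro M hM
  exact (hmax.eq_of_le hM.ne_top (ker_aug_le f n hm hn M)).symm

theorem maximalIdeal_kummer_le (hm : ∀ i, f i ∈ maximalIdeal A) (hn : ∀ i, 1 ≤ n i)
    (hloc : IsLocalRing (kummerAlg A f n)) (S₂ : Set A)
    (hS : Ideal.span (Set.range f ∪ S₂) = maximalIdeal A) :
    maximalIdeal (kummerAlg A f n) ≤
      Ideal.span (Set.range (T f n) ∪ algebraMap A (kummerAlg A f n) '' S₂) := by
  have hmax : (RingHom.ker (aug f n hm hn)).IsMaximal :=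
    RingHom.ker_isMaximal_of_surjective _ (aug_surjective f n hm hn)
  have hker : maximalIdeal (kummerAlg A f n) = RingHom.ker (aug f n hm hn) :=
    (eq_maximalIdeal hmax).symm
  rw [hker]
  intro x hx
  obtain ⟨g, rfl⟩ := Ideal.Quotient.mk_surjective x
  rw [RingHom.mem_ker, aug_mk, residue_eq_zero_iff] at hx
  have h1 := mk_sub_const_mem f n g
  have h2 : Ideal.span (Set.range (T f n)) ≤
      Ideal.span (Set.range (T f n) ∪ algebraMap A (kummerAlg A f n) '' S₂) :=
    Ideal.span_mono Set.subset_union_left
  have h3 : algebraMap A (kummerAlg A f n) (constantCoeff g) ∈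
      Ideal.span (Set.range (T f n) ∪ algebraMap A (kummerAlg A f n) '' S₂) := by
    have h4 : algebraMap A (kummerAlg A f n) (constantCoeff g) ∈
        Ideal.map (algebraMap A (kummerAlg A f n)) (Ideal.span (Set.range f ∪ S₂)) :=
      Ideal.mem_map_of_mem _ (hS ▸ hx)
    rw [Ideal.map_span] at h4
    refine (Ideal.span_le.mpr ?_) h4
    rintro _ ⟨a, ha | ha, rfl⟩
    · obtain ⟨i, rfl⟩ := ha
      rw [← T_pow, SetLike.mem_coe]
      obtain ⟨k, hk⟩ := Nat.exists_eq_add_of_le (hn i)
      rw [hk, add_comm, pow_succ]
      exact Ideal.mul_mem_left _ _ (Ideal.subset_span (Or.inl ⟨i, rfl⟩))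
    · exact Ideal.subset_span (Or.inr ⟨a, ha, rfl⟩)
  have := Ideal.add_mem _ (h2 h1) h3
  simpa using this

end Local

section Regular
variable {A : Type u} [CommRing A] [IsRegularLocalRing A] {r : ℕ} (f : Fin r → A) (n : Fin r → ℕ)

theorem isRegularLocalRing_kummer (hm : ∀ i, f i ∈ maximalIdeal A)
    (hf : LinearIndependent (ResidueField A) (fun i => (maximalIdeal A).toCotangent ⟨f i, hm i⟩))
    (hn : ∀ i, 1 ≤ n i) : IsRegularLocalRing (kummerAlg A f n) := by
  have hloc := isLocalRing_kummer f n hm hn
  have hint := isIntegral_kummer f n hn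
  have hinj := algebraMap_injective f n hn
  obtain ⟨S₂, hfin, hcard, hspan⟩ := exists_extension f hm hf
  apply IsRegularLocalRing.of_spanFinrank_maximalIdeal_le
  rw [Groth.Agent.Lib.Helper73.ringKrullDim_eq_of_isIntegral_of_injective hinj,
    ← IsRegularLocalRing.spanFinrank_maximalIdeal,
    spanFinrank_maximalIdeal_eq_finrank_cotangentSpace (R := A), Nat.cast_le]
  refine le_trans ?_ hcard
  have hle := maximalIdeal_kummer_le f n hm hn hloc S₂ hspan
  have hge : Ideal.span (Set.range (T f n) ∪ algebraMap A (kummerAlg A f n) '' S₂) ≤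
      maximalIdeal (kummerAlg A f n) := by
    have hmax : (RingHom.ker (aug f n hm hn)).IsMaximal :=
      RingHom.ker_isMaximal_of_surjective _ (aug_surjective f n hm hn)
    rw [← eq_maximalIdeal hmax]
    refine Ideal.span_le.mpr ?_
    rintro _ (⟨i, rfl⟩ | ⟨a, ha, rfl⟩)
    · exact aug_T f n hm hn i
    · rw [SetLike.mem_coe, RingHom.mem_ker, aug_algebraMap, residue_eq_zero_iff, ← hspan]
      exact Ideal.subset_span (Or.inr ha)
  have heq := le_antisymm hle hge
  rw [heq]
  have hfin' : (Set.range (T f n) ∪ algebraMap A (kummerAlg A f n) '' S₂).Finite :=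
    (Set.finite_range _).union (hfin.image _)
  refine (Submodule.spanFinrank_span_le_ncard_of_finite hfin').trans ?_
  refine (Set.ncard_union_le _ _).trans ?_
  have h1 := ncard_range_le_fin (T f n)
  have h2 := Set.ncard_image_le (f := algebraMap A (kummerAlg A f n)) hfin
  omega

end Regular

section Etale
variable {A : Type u} [CommRing A] {r : ℕ} (f : Fin r → A) (n : Fin r → ℕ)

open Algebra

/-- the naive presentation of the Kummer algebra -/
noncomputable def P₀ : PreSubmersivePresentation A (kummerAlg A f n) (Fin r) (Fin r) :=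
  PreSubmersivePresentation.naive
    (v := fun i => (X i : MvPolynomial (Fin r) A) ^ n i - C (f i)) id Function.injective_id

theorem P₀_jacobian :
    (P₀ f n).jacobian =
      ∏ i, (algebraMap A (kummerAlg A f n) (n i : A) * T f n i ^ (n i - 1)) := by
  classical
  rw [PreSubmersivePresentation.jacobian_eq_jacobiMatrix_det]
  have hM : (P₀ f n).jacobiMatrix =
      Matrix.diagonal (fun j => C (n j : A) * (X j : MvPolynomial (Fin r) A) ^ (n j - 1)) := by
    ext i j
    rw [P₀, PreSubmersivePresentation.jacobiMatrix_naive]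
    simp only [id_eq, map_sub, pderiv_C, sub_zero, pderiv_pow, pderiv_X, Matrix.diagonal_apply]
    by_cases h : i = j
    · subst h
      simp
    · rw [if_neg h, Pi.single_eq_of_ne' h]
      simp
  rw [hM, Matrix.det_diagonal, map_prod]
  refine Finset.prod_congr rfl fun i _ => ?_
  rw [Generators.algebraMap_apply, map_mul, map_pow, aeval_C, aeval_X]
  rfl

theorem etale_away (hnu : ∀ i, IsUnit ((n i : ℕ) : A)) (hn : ∀ i, 1 ≤ n i) (g : A)
    (hg : ∀ i, f i ∣ g) (B' : Type u) [CommRing B'] [Algebra (kummerAlg A f n) B'] [Algebra A B']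
    [IsScalarTower A (kummerAlg A f n) B']
    [IsLocalization.Away (algebraMap A (kummerAlg A f n) g) B'] : Algebra.Etale A B' := by
  let Q := PreSubmersivePresentation.localizationAway B' (algebraMap A (kummerAlg A f n) g)
  let PP := Q.comp (P₀ f n)
  have hgu : IsUnit (algebraMap (kummerAlg A f n) B' (algebraMap A (kummerAlg A f n) g)) :=
    IsLocalization.Away.algebraMap_isUnit _
  have hTu : ∀ i, IsUnit (algebraMap (kummerAlg A f n) B' (T f n i)) := by
    intro i
    have h1 : IsUnit (algebraMap (kummerAlg A f n) B' (T f n i) ^ n i) := by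
      rw [← map_pow, T_pow]
      refine isUnit_of_dvd_unit ?_ hgu
      exact map_dvd _ (map_dvd _ (hg i))
    exact (isUnit_pow_iff (Nat.one_le_iff_ne_zero.mp (hn i))).mp h1
  have hjac : IsUnit PP.jacobian := by
    rw [PreSubmersivePresentation.comp_jacobian_eq_jacobian_smul_jacobian,
      PreSubmersivePresentation.localizationAway_jacobian, P₀_jacobian, Algebra.smul_def]
    refine IsUnit.mul ?_ hgu
    rw [map_prod]
    refine IsUnit.prod_univ_iff.mpr fun i => ?_
    rw [map_mul, map_pow]
    refine IsUnit.mul ?_ ((hTu i).pow _)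
    rw [← IsScalarTower.algebraMap_apply]
    exact (hnu i).map _
  let SP : SubmersivePresentation A B' (Unit ⊕ Fin r) (Unit ⊕ Fin r) :=
    { toPreSubmersivePresentation := PP, jacobian_isUnit := hjac }
  have : IsStandardSmoothOfRelativeDimension 0 A B' :=
    SP.isStandardSmoothOfRelativeDimension (by simp [Presentation.dimension])
  infer_instance

end Etale

/-- Regularity and etaleness; the tameness assertion is not stated: Let A be a regular local ring, f_1,
…, f_r elements of the maximal ideal whose images in the cotangent space are linearly independent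
(part of a regular system of parameters), and n_1, …, n_r ≥ 1. Then A' = A[T_1, …, T_r]/(T_i^{n_i} −
f_i) is a regular local ring; and if each n_i is invertible in the residue field of A, then A'
becomes etale over A after inverting f_1 ⋯ f_r. -/
theorem result (A : Type u) [CommRing A] [IsRegularLocalRing A] (r : ℕ) (f : Fin r → A)
    (hm : ∀ i, f i ∈ maximalIdeal A)
    (hf : LinearIndependent (ResidueField A) (fun i => (maximalIdeal A).toCotangent ⟨f i, hm i⟩))
    (n : Fin r → ℕ) (hn : ∀ i, 1 ≤ n i) :
    IsRegularLocalRing (SGA1.kummerAlg A f n) ∧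
    ((∀ i, IsUnit ((n i : ℕ) : ResidueField A)) →
      letI := (Localization.awayMap (algebraMap A (SGA1.kummerAlg A f n)) (∏ i, f i)).toAlgebra
      Algebra.Etale (Localization.Away (∏ i, f i)) (Localization.Away (algebraMap A (SGA1.kummerAlg A f n) (∏ i, f i)))) := by
  refine ⟨isRegularLocalRing_kummer f n hm hf hn, fun hu => ?_⟩
  have hnu : ∀ i, IsUnit ((n i : ℕ) : A) := by
    intro i
    have h := hu i
    rw [← map_natCast (residue A)] at h
    exact isUnit_of_map_unit (residue A) _ h
  set g : A := ∏ i, f i with hg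
  have h1 : Algebra.Etale A (Localization.Away (algebraMap A (SGA1.kummerAlg A f n) g)) :=
    etale_away f n hnu hn g (fun i => Finset.dvd_prod_of_mem f (Finset.mem_univ i)) _
  letI := (Localization.awayMap (algebraMap A (SGA1.kummerAlg A f n)) g).toAlgebra
  have htower : IsScalarTower A (Localization.Away g)
      (Localization.Away (algebraMap A (SGA1.kummerAlg A f n) g)) := by
    refine IsScalarTower.of_algebraMap_eq (fun x => ?_)
    have : algebraMap (Localization.Away g)
        (Localization.Away (algebraMap A (SGA1.kummerAlg A f n) g)) =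
        Localization.awayMap (algebraMap A (SGA1.kummerAlg A f n)) g := rfl
    rw [this, Localization.awayMap, IsLocalization.Away.map, IsLocalization.map_eq,
      ← IsScalarTower.algebraMap_apply]
  have hfe : Algebra.FormallyEtale (Localization.Away g)
      (Localization.Away (algebraMap A (SGA1.kummerAlg A f n) g)) :=
    Algebra.FormallyEtale.localization_base (Submonoid.powers g)
  have hfp : Algebra.FinitePresentation (Localization.Away g)
      (Localization.Away (algebraMap A (SGA1.kummerAlg A f n) g)) :=
    Algebra.FinitePresentation.of_restrict_scalars_finitePresentation A _ _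
  exact { formallyEtale := hfe, finitePresentation := hfp }

end Groth.Agent.S2921
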