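import Mathlib
import Groth.Agent.Lib.Helper9.KummerRegular

set_option autoImplicit false
universe u
open IsLocalRing
open SGA1

namespace Groth.Agent.S2924

/-- Let A be a regular local ring, f_1, …, f_r part of a regular system of parameters and n_i ≥ 1
invertible in the residue field. Then the Kummer algebra A[T_1, …, T_r]/(T_i^{n_i} − f_i) is tamely
ramified along each f_i (at every point of its generic fibre, with respect to the discrete valuation
rings A_{(f_i)}). -/
theorem result (A : Type u) [CommRing A] [IsRegularLocalRing A] [IsDomain A] (r : ℕ) (f : Fin r → A)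
    (hm : ∀ i, f i ∈ maximalIdeal A)
    (hf : LinearIndependent (ResidueField A) (fun i => (maximalIdeal A).toCotangent ⟨f i, hm i⟩))
    [∀ i, (Ideal.span {f i}).IsPrime] (n : Fin r → ℕ) (hn : ∀ i, 1 ≤ n i) (hu : ∀ i, IsUnit ((n i : ℕ) : ResidueField A)) :
    SGA1.IsTameAlong f (algebraMap A (SGA1.kummerAlg A f n)) := by
  classical
  -- basic facts on the `f j`
  have hf0 : ∀ j, f j ≠ 0 := by
    intro j h0
    apply hf.ne_zero j
    have : (⟨f j, hm j⟩ : maximalIdeal A) = 0 := Subtype.ext h0
    rw [this, map_zero]
  have hfj : ∀ i j, j ≠ i → f j ∉ Ideal.span {f i} := by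
    intro i j hji hmem
    obtain ⟨a, ha⟩ := Ideal.mem_span_singleton'.1 hmem
    have h1 : (maximalIdeal A).toCotangent ⟨f j, hm j⟩ =
        IsLocalRing.residue A a • (maximalIdeal A).toCotangent ⟨f i, hm i⟩ := by
      have h2 : (⟨f j, hm j⟩ : maximalIdeal A) = a • ⟨f i, hm i⟩ := Subtype.ext (by
        show f j = a • f i
        rw [smul_eq_mul, ha])
      rw [h2, map_smul]
      exact (algebraMap_smul (ResidueField A) a _).symm
    have h3 := linearIndependent_iff.1 hf
      (Finsupp.single j 1 - Finsupp.single i (IsLocalRing.residue A a)) (by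
        rw [map_sub, Finsupp.linearCombination_single, Finsupp.linearCombination_single, one_smul,
          h1, sub_self])
    have h4 := DFunLike.congr_fun h3 j
    rw [Finsupp.sub_apply, Finsupp.single_eq_same, Finsupp.single_eq_of_ne hji,
      sub_zero, Finsupp.zero_apply] at h4
    exact one_ne_zero h4
  intro i q hqprime hq
  exact Groth.Agent.Lib.Helper9.KummerRegular.main A r f hf0 hfj n hn hu i q hq

end Groth.Agent.S2924
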