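import Groth.Statements.S2925
import Groth.Agent.Lib.Helper81.IsQuot

set_option autoImplicit false
open CategoryTheory CategoryTheory.Limits AlgebraicGeometry
universe u
open SGA1

namespace Groth.Agent.S2925

/-- Let a finite group G act on a scheme X and let p : X ⟶ Y be a quotient of X by G. Then every
G-invariant morphism X ⟶ Z factors uniquely through p. -/
theorem result {X Y : Scheme.{u}} {G : Type u} [Group G] [Finite G] (ρ : G →* Aut X)
    (p : X ⟶ Y) (hp : SGA1.IsQuot ρ p) (Z : Scheme.{u}) (h : X ⟶ Z) (hh : ∀ g : G, (ρ g).hom ≫ h = h) :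
    ∃! h' : Y ⟶ Z, p ≫ h' = h := by
  have hepi : Epi p := Groth.Agent.Lib.Helper81.epi_of_surjective_of_app_injective p
    (Groth.Agent.Lib.Helper81.Quot.surjective hp) hp.injective
  obtain ⟨h', hh'⟩ := Groth.Agent.Lib.Helper81.exists_desc p h
    (Groth.Agent.Lib.Helper81.Quot.isQuotientMap hp) hp.injective
    (by
      intro x x' hx
      obtain ⟨g, rfl⟩ := Groth.Agent.Lib.Helper81.Quot.exists_eq_of_base_eq hp x x' hx
      have := congr(($(hh g)).base x)
      simpa using this.symm)
    (by
      intro U W e t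
      rw [Groth.Agent.Lib.Helper81.Quot.mem_range_iff hp]
      intro g
      unfold Groth.Agent.Lib.Helper81.Quot.sec
      rw [← CommRingCat.comp_apply, Scheme.Hom.appLE_comp_appLE,
        Groth.Agent.Lib.Helper81.Quot.appLE_congr_hom (hh g)])
  exact ⟨h', hh', fun h'' hh'' => by rw [← cancel_epi p, hh', hh'']⟩

end Groth.Agent.S2925
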