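import Groth.Statements.S2933
-- import your own Groth.Agent.* helpers here
import Groth.Agent.Lib.Helper85.Hartshorne

set_option autoImplicit false
universe u
open LocCoh

namespace Groth.Agent.S2933

/-- Let A be a Noetherian ring with connected spectrum and d ≥ 1 an integer such that every prime p with
dim A_p ≥ d has depth A_p ≥ 2. Then for any two minimal primes p', p'' of A there is a finite
sequence of minimal primes starting at p' and ending at p'' such that any two consecutive members
are both contained in some prime of height at most d − 1 (Spec A is connected in codimension d − 1). -/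
theorem result (A : Type u) [CommRing A] [IsNoetherianRing A] [ConnectedSpace (PrimeSpectrum A)] (d : ℕ) (hd : 1 ≤ d) (h : ∀ p : PrimeSpectrum A, (d : ℕ∞) ≤ p.asIdeal.height → (2 : ℕ∞) ≤ LocCoh.depth (Localization.AtPrime p.asIdeal) (Localization.AtPrime p.asIdeal)) (p' p'' : PrimeSpectrum A) (hp' : p'.asIdeal ∈ minimalPrimes A) (hp'' : p''.asIdeal ∈ minimalPrimes A) : ∃ l : List (PrimeSpectrum A), l.head? = some p' ∧ l.getLast? = some p'' ∧ (∀ p ∈ l, p.asIdeal ∈ minimalPrimes A) ∧ List.IsChain (fun p q => ∃ r : PrimeSpectrum A, p ≤ r ∧ q ≤ r ∧ r.asIdeal.height ≤ (d - 1 : ℕ)) l := by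
  have hchain := Groth.Agent.Lib.Helper85.Hartshorne.reflTransGen_adj p'.asIdeal p''.asIdeal hp' hp''
  have key : ∀ q : Ideal A, Relation.ReflTransGen (Groth.Agent.Lib.Helper85.Hartshorne.Adj A)
      p'.asIdeal q → ∃ hq : q.IsPrime, Relation.ReflTransGen
        (fun x y : PrimeSpectrum A => y.asIdeal ∈ minimalPrimes A ∧
          ∃ r : PrimeSpectrum A, x ≤ r ∧ y ≤ r ∧ r.asIdeal.height ≤ (d - 1 : ℕ)) p' ⟨q, hq⟩ := by
    intro q hq
    induction hq with
    | refl => exact ⟨p'.2, Relation.ReflTransGen.refl⟩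
    | @tail b c _ hbc ih =>
      obtain ⟨hb, hch⟩ := ih
      obtain ⟨hcmin, Q, hQ, hbQ, hcQ, hdepth⟩ := hbc
      refine ⟨hcmin.1.1, hch.tail ⟨hcmin, ⟨Q, hQ⟩, hbQ, hcQ, ?_⟩⟩
      have h1 : ¬ (d : ℕ∞) ≤ Q.height := fun h2 => hdepth (h ⟨Q, hQ⟩ h2)
      change Q.height ≤ ((d - 1 : ℕ) : ℕ∞)
      revert h1
      generalize Q.height = t
      induction t using ENat.recTopCoe with
      | top => intro h1; exact absurd le_top h1
      | coe t =>
        intro h1
        have : ¬ (d ≤ t) := by
          intro h4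
          apply h1
          exact_mod_cast h4
        exact_mod_cast (by omega : t ≤ d - 1)
  obtain ⟨hq, hch⟩ := key p''.asIdeal hchain
  exact Groth.Agent.Lib.Helper85.Hartshorne.exists_list_of_reflTransGen
    (fun x y : PrimeSpectrum A => ∃ r : PrimeSpectrum A, x ≤ r ∧ y ≤ r ∧
      r.asIdeal.height ≤ (d - 1 : ℕ))
    (fun x => x.asIdeal ∈ minimalPrimes A) hch hp'

end Groth.Agent.S2933
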