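import Groth.Statements.S2937
import Mathlib
import Groth.Agent.Lib.Helper46.PureFinal

set_option autoImplicit false
universe u
open CategoryTheory AlgebraicGeometry
open Pi1

namespace Groth.Agent.S2937

/-- Let X be a locally Noetherian scheme and U an open subscheme such that O_X → i_*O_U is an
isomorphism, equivalently, every local ring of X at a point outside U has depth ≥ 2. Let f : X_1 → X
be faithfully flat and quasi-compact. If the pair (X_1, X_1 − f⁻¹U) is pure (restriction of finite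
étale covers from every open V to V ∩ f⁻¹U is an equivalence), then so is (X, X − U). -/
theorem result (X X₁ : Scheme.{u}) [IsLocallyNoetherian X] (U : X.Opens) (hU : ∀ x : X, x ∉ U → (2 : ℕ∞) ≤ LocCoh.depth (X.presheaf.stalk x) (X.presheaf.stalk x)) (f : X₁ ⟶ X) [Flat f] [Surjective f] [QuasiCompact f] (h : SGA2.IsPurePair X₁ (f ⁻¹ᵁ U)) : SGA2.IsPurePair X U := by
  intro V
  have hX : Groth.Agent.Lib.Helper46.FlatHartogs.ResBij X U :=
    Groth.Agent.Lib.Helper46.FlatHartogs.resBij_of_hreg U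
      (fun x hx => Groth.Agent.Lib.Helper64.HartogsRing.hasRegPair_of_two_le_depth (hU x hx))
  have hV : Groth.Agent.Lib.Helper46.FlatHartogs.ResBij (V : Scheme.{u}) (V.ι ⁻¹ᵁ U) :=
    Groth.Agent.Lib.Helper46.FlatHartogs.resBij_of_flat U hX V.ι
  obtain ⟨ju, hju⟩ : ∃ ju : ((V ⊓ U : X.Opens) : Scheme.{u}) ⟶ (V : Scheme.{u}),
    ju = X.homOfLE (inf_le_left : V ⊓ U ≤ V) := ⟨_, rfl⟩
  haveI : IsOpenImmersion ju := by rw [hju]; infer_instance
  have hjuι : ju ≫ V.ι = (V ⊓ U).ι := by rw [hju]; exact Scheme.homOfLE_ι _ _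
  have hr : ju.opensRange = V.ι ⁻¹ᵁ U := by
    subst hju
    rw [Scheme.opensRange_homOfLE]
    ext x
    constructor
    · intro hx
      exact hx.2
    · intro hx
      exact ⟨x.2, hx⟩
  have hS : Groth.Agent.Lib.Helper46.FlatHartogs.ResBij (V : Scheme.{u}) ju.opensRange := by
    rw [hr]; exact hV
  obtain ⟨ju', hju'⟩ : ∃ ju' : ((f ⁻¹ᵁ V ⊓ f ⁻¹ᵁ U : X₁.Opens) : Scheme.{u}) ⟶
      ((f ⁻¹ᵁ V : X₁.Opens) : Scheme.{u}),
    ju' = X₁.homOfLE (inf_le_left : f ⁻¹ᵁ V ⊓ f ⁻¹ᵁ U ≤ f ⁻¹ᵁ V) := ⟨_, rfl⟩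
  haveI : IsOpenImmersion ju' := by rw [hju']; infer_instance
  have hju'ι : ju' ≫ (f ⁻¹ᵁ V).ι = (f ⁻¹ᵁ V ⊓ f ⁻¹ᵁ U).ι := by
    rw [hju']; exact Scheme.homOfLE_ι _ _
  obtain ⟨g, hg⟩ : ∃ g : ((f ⁻¹ᵁ V : X₁.Opens) : Scheme.{u}) ⟶ (V : Scheme.{u}), g = f ∣_ V :=
    ⟨_, rfl⟩
  haveI : Flat g := by rw [hg]; exact IsZariskiLocalAtTarget.restrict (P := @Flat) ‹_› V
  haveI : Surjective g := by
    rw [hg]; exact IsZariskiLocalAtTarget.restrict (P := @Surjective) ‹_› V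
  haveI : QuasiCompact g := by
    rw [hg]; exact IsZariskiLocalAtTarget.restrict (P := @QuasiCompact) ‹_› V
  have hgι : g ≫ V.ι = (f ⁻¹ᵁ V).ι ≫ f := by rw [hg]; exact morphismRestrict_ι f V
  have hmem : ∀ z : ((f ⁻¹ᵁ V ⊓ f ⁻¹ᵁ U : X₁.Opens) : Scheme.{u}), V.ι (g (ju' z)) ∈ U := by
    intro z
    have e : V.ι (g (ju' z)) = f ((f ⁻¹ᵁ V ⊓ f ⁻¹ᵁ U).ι z) := by
      rw [← Scheme.Hom.comp_apply, ← Scheme.Hom.comp_apply, hgι, ← Category.assoc,
        hju'ι, Scheme.Hom.comp_apply]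
    rw [e]
    exact z.2.2
  have H0 : Set.range (ju' ≫ g) ⊆ Set.range ju := by
    rintro _ ⟨z, rfl⟩
    have h1 : (ju' ≫ g) z ∈ ju.opensRange := by
      rw [hr]
      exact hmem z
    exact h1
  obtain ⟨gU, hgU⟩ : ∃ gU : ((f ⁻¹ᵁ V ⊓ f ⁻¹ᵁ U : X₁.Opens) : Scheme.{u}) ⟶
      ((V ⊓ U : X.Opens) : Scheme.{u}), gU ≫ ju = ju' ≫ g :=
    ⟨IsOpenImmersion.lift ju (ju' ≫ g) H0, IsOpenImmersion.lift_fac _ _ _⟩
  have hr' : ju'.opensRange = (f ⁻¹ᵁ V).ι ⁻¹ᵁ (f ⁻¹ᵁ V ⊓ f ⁻¹ᵁ U) := by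
    subst hju'
    exact Scheme.opensRange_homOfLE _
  have H' : g ⁻¹ᵁ ju.opensRange = ju'.opensRange := by
    rw [hr, hr']
    ext y
    have e : V.ι (g y) = f ((f ⁻¹ᵁ V).ι y) := by
      rw [← Scheme.Hom.comp_apply, hgι, Scheme.Hom.comp_apply]
    constructor
    · intro hy
      have hy' : V.ι (g y) ∈ U := hy
      rw [e] at hy'
      exact ⟨y.2, hy'⟩
    · intro hy
      have hy' : f ((f ⁻¹ᵁ V).ι y) ∈ U := hy.2
      rw [← e] at hy'
      exact hy'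
  have hsq : IsPullback ju' gU g ju := (IsOpenImmersion.isPullback gU ju' ju g hgU.symm H').flip
  have hpure : (FEt.restrict ju').EssSurj := by
    rw [hju']
    haveI := h (f ⁻¹ᵁ V)
    infer_instance
  have := Groth.Agent.Lib.Helper46.PureFinal.restrict_isEquivalence ju hS g ju' gU hsq hpure
  rw [hju] at this
  exact this

end Groth.Agent.S2937
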