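import Groth.Statements.S2946
import Mathlib
import Groth.Agent.Lib.Lead.Inv4
import Groth.Agent.Lib.Helper35.FinLocFreeSum

set_option autoImplicit false
set_option linter.style.haveILetI false
universe u
open CategoryTheory CategoryTheory.Limits AlgebraicGeometry
open Lef

namespace Groth.Agent.S2946


open Groth.Agent.Lib.Lead.Inv Groth.Agent.Lib.Helper35.GlobGen Groth.Agent.Lib.Lead.SheafGlue
open Opposite

theorem unitToPush_app {X Y : Scheme.{u}} (f : X ⟶ Y) (V : Y.Opens) (r : Γ(Y, V)) :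
    ((ClSub.unitToPush f).app V).hom r = (f.app V).hom r := rfl

theorem key_app {U : Scheme.{u}} {I J : U.IdealSheafData} (h : I ≤ J) (V : U.Opens) :
    J.subschemeι.app V = I.subschemeι.app V ≫ (Scheme.IdealSheafData.inclusion h).app (I.subschemeι ⁻¹ᵁ V) ≫
      J.subscheme.presheaf.map (eqToHom (by rw [← Scheme.IdealSheafData.inclusion_subschemeι h]; rfl)).op := by
  rw [Scheme.Hom.congr_app (Scheme.IdealSheafData.inclusion_subschemeι h).symm V, Scheme.Hom.comp_app]
  exact Category.assoc _ _ _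

theorem toSubscheme_quotMap {U : Scheme.{u}} {I J : U.IdealSheafData} (h : I ≤ J) :
    ClSub.toSubscheme I ≫ Lef.quotMap h = ClSub.toSubscheme J := by
  apply Scheme.Modules.hom_ext
  intro V
  ext r
  exact (congr($(key_app h V) r)).symm


section core

variable {U : Scheme.{u}}

theorem app_res {M N : U.Modules} (g : M ⟶ N) {W W' : U.Opens} (h : W' ≤ W) (x : Γ(M, W)) :
    N.presheaf.map (homOfLE h).op ((g.app W).hom x) =
      (g.app W').hom (M.presheaf.map (homOfLE h).op x) := by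
  have := congrArg (fun f => f.hom x) (g.mapPresheaf.naturality (homOfLE h).op)
  simp only [Scheme.Modules.mapPresheaf_app] at this
  exact this.symm

theorem val_comp {M N : U.Modules} (s : Coh.structureModule U ⟶ M) (g : M ⟶ N) (W : U.Opens) :
    val (s ≫ g) W = (g.app W).hom (val s W) := rfl

theorem hom_eq_of_val {M : U.Modules} (s s' : Coh.structureModule U ⟶ M)
    (h : val s ⊤ = val s' ⊤) : s = s' := by
  rw [← secHom_val s, ← secHom_val s', h]

theorem val_secHom_top {M : U.Modules} (σ : Γ(M, ⊤)) : val (secHom M σ) ⊤ = σ := by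
  rw [val_secHom]
  exact Groth.Agent.Lib.Lead.QCohAff.res_self M _ σ

theorem exists_glue_top (F : U.Modules) {V W : U.Opens} (hVW : ⊤ ≤ V ⊔ W) (a : Γ(F, V)) (b : Γ(F, W))
    (h0 : ∀ s : Γ(F, V ⊓ W), s = 0) :
    ∃ e : Γ(F, ⊤), F.presheaf.map (homOfLE (le_top : V ≤ ⊤)).op e = a ∧
      F.presheaf.map (homOfLE (le_top : W ≤ ⊤)).op e = b := by
  obtain ⟨s, h1, h2⟩ := exists_glue₂ F a b ((h0 _).trans (h0 _).symm)
  refine ⟨F.presheaf.map (homOfLE hVW).op s, ?_, ?_⟩
  · rw [map_map' F _ _ (homOfLE (le_sup_left : V ≤ V ⊔ W)).op]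
    exact h1
  · rw [map_map' F _ _ (homOfLE (le_sup_right : W ≤ V ⊔ W)).op]
    exact h2

theorem eq_of_res_top (F : U.Modules) {V W : U.Opens} (hVW : ⊤ ≤ V ⊔ W) (s t : Γ(F, ⊤))
    (e₁ : F.presheaf.map (homOfLE (le_top : V ≤ ⊤)).op s = F.presheaf.map (homOfLE (le_top : V ≤ ⊤)).op t)
    (e₂ : F.presheaf.map (homOfLE (le_top : W ≤ ⊤)).op s = F.presheaf.map (homOfLE (le_top : W ≤ ⊤)).op t) :
    s = t :=
  eq_of_res₂ F le_top le_top hVW s t e₁ e₂

variable (𝓙 : U.IdealSheafData)

theorem preimage_eq_bot (n : ℕ) (V : U.Opens) (hV : Disjoint (V : Set U) (𝓙.support : Set U)) :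
    (𝓙 ^ (n + 1)).subschemeι ⁻¹ᵁ V = ⊥ := by
  ext y
  simp only [TopologicalSpace.Opens.coe_bot, Set.mem_empty_iff_false, iff_false]
  intro hy
  have h1 : (𝓙 ^ (n + 1)).subschemeι y ∈ (𝓙.support : Set U) := by
    have : (𝓙 ^ (n + 1)).subschemeι y ∈ Set.range (𝓙 ^ (n + 1)).subschemeι := ⟨y, rfl⟩
    rw [Scheme.IdealSheafData.range_subschemeι, Scheme.IdealSheafData.support_pow_succ] at this
    exact this
  exact Set.disjoint_left.mp hV hy h1

theorem quot_eq_zero (n : ℕ) (V : U.Opens) (hV : Disjoint (V : Set U) (𝓙.support : Set U))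
    (s : Γ(ClSub.quotMod (𝓙 ^ (n + 1)), V)) : s = 0 :=
  eq_zero_of_bot (Coh.structureModule (𝓙 ^ (n + 1)).subscheme) (preimage_eq_bot 𝓙 n V hV) s


theorem disjoint_of_basicOpen_eq_bot (n : ℕ) (f : Γ(U, ⊤)) (hf : U.basicOpen f = ⊥) (V : U.Opens)
    (hres : (ClSub.quotMod (𝓙 ^ (n + 1))).presheaf.map (homOfLE (le_top : V ≤ ⊤)).op
        (((ClSub.toSubscheme (𝓙 ^ (n + 1))).app ⊤).hom f) = val (ClSub.toSubscheme (𝓙 ^ (n + 1))) V) :
    Disjoint (V : Set U) (𝓙.support : Set U) := by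
  rw [Set.disjoint_left]
  intro x hxV hxs
  have hx : x ∈ Set.range (𝓙 ^ (n + 1)).subschemeι := by
    rw [Scheme.IdealSheafData.range_subschemeι, Scheme.IdealSheafData.support_pow_succ]
    exact hxs
  obtain ⟨y, rfl⟩ := hx
  have h1 : ((𝓙 ^ (n + 1)).subschemeι.app V).hom (U.presheaf.map (homOfLE (le_top : V ≤ ⊤)).op f) = 1 := by
    have h3 := app_res (ClSub.toSubscheme (𝓙 ^ (n + 1))) (le_top : V ≤ ⊤) f
    rw [h3] at hres
    exact hres.trans (map_one ((𝓙 ^ (n + 1)).subschemeι.app V).hom)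
  have h2 := Scheme.preimage_basicOpen (𝓙 ^ (n + 1)).subschemeι
    (U.presheaf.map (homOfLE (le_top : V ≤ ⊤)).op f)
  rw [h1, Scheme.basicOpen_one, Scheme.basicOpen_res, hf, inf_bot_eq] at h2
  have h4 : y ∈ (𝓙 ^ (n + 1)).subschemeι ⁻¹ᵁ V := hxV
  rw [← h2] at h4
  exact h4


theorem backward (hbij : HomToFormalBijective 𝓙 (Coh.structureModule U)) [PreconnectedSpace U]
    (V W : U.Opens) (hVW : ⊤ ≤ V ⊔ W)
    (hd : Disjoint ((V ⊓ W : U.Opens) : Set U) (𝓙.support : Set U)) :
    Disjoint (V : Set U) (𝓙.support : Set U) ∨ Disjoint (W : Set U) (𝓙.support : Set U) := by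
  obtain ⟨hinj, hsurj⟩ := hbij
  have hglue : ∀ n : ℕ, ∃ e : Γ(ClSub.quotMod (𝓙 ^ (n + 1)), ⊤),
      (ClSub.quotMod (𝓙 ^ (n + 1))).presheaf.map (homOfLE (le_top : V ≤ ⊤)).op e =
        val (ClSub.toSubscheme (𝓙 ^ (n + 1))) V ∧
      (ClSub.quotMod (𝓙 ^ (n + 1))).presheaf.map (homOfLE (le_top : W ≤ ⊤)).op e = 0 := fun n =>
    exists_glue_top _ hVW _ _ (quot_eq_zero 𝓙 n _ hd)
  choose e heV heW using hglue
  let y : ∀ n : ℕ, Coh.structureModule U ⟶ ClSub.quotMod (𝓙 ^ (n + 1)) := fun n => secHom _ (e n)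
  have hy : IsFormalHom 𝓙 _ y := by
    intro n
    apply hom_eq_of_val
    rw [val_comp, val_secHom_top, val_secHom_top]
    apply eq_of_res_top _ hVW
    · rw [app_res, heV, heV, ← val_comp, toSubscheme_quotMap]
    · rw [app_res, heW, heW, map_zero]
  obtain ⟨φ, hφ⟩ := hsurj y hy
  have hφφ : φ ≫ φ = φ := by
    apply hinj
    intro n
    rw [Category.assoc, hφ n]
    apply hom_eq_of_val
    rw [val_comp]
    have h1 : ((y n).app ⊤).hom (val φ ⊤) = (show Γ(U, ⊤) from val φ ⊤) • val (y n) ⊤ :=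
      app_eq_smul (y n) ⊤ _
    refine h1.trans ?_
    rw [val_secHom_top]
    apply eq_of_res_top _ hVW
    · have hr : U.presheaf.map (homOfLE (le_top : V ≤ ⊤)).op (val φ ⊤) = val φ V :=
        val_res φ (le_top : V ≤ ⊤)
      calc (ClSub.quotMod (𝓙 ^ (n + 1))).presheaf.map (homOfLE (le_top : V ≤ ⊤)).op ((show Γ(U, ⊤) from val φ ⊤) • e n)
          = (U.presheaf.map (homOfLE (le_top : V ≤ ⊤)).op (val φ ⊤)) •
            (ClSub.quotMod (𝓙 ^ (n + 1))).presheaf.map (homOfLE (le_top : V ≤ ⊤)).op (e n) :=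
              Groth.Agent.Lib.Lead.QCohAff.res_smul _ _ _ _
        _ = (show Γ(U, V) from val φ V) • val (ClSub.toSubscheme (𝓙 ^ (n + 1))) V := by rw [hr, heV]
        _ = ((ClSub.toSubscheme (𝓙 ^ (n + 1))).app V).hom (val φ V) := (app_eq_smul _ V _).symm
        _ = val (φ ≫ ClSub.toSubscheme (𝓙 ^ (n + 1))) V := rfl
        _ = val (y n) V := by rw [hφ n]
        _ = _ := val_secHom (e n) V
    · rw [Groth.Agent.Lib.Lead.QCohAff.res_smul, heW, smul_zero]
  obtain ⟨ε, hεdef⟩ : ∃ ε : Γ(U, ⊤), ε = val φ ⊤ := ⟨_, rfl⟩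
  have hε : ε * ε = ε := by
    have h1 := congrArg (fun s => val s ⊤) hφφ
    have h2 : (φ.app ⊤).hom (val φ ⊤) = ε • val φ ⊤ := by
      rw [hεdef]; exact app_eq_smul φ ⊤ _
    have h3 : ε • val φ ⊤ = val φ ⊤ := h2.symm.trans h1
    rw [← hεdef] at h3
    exact h3
  have he0 : ((ClSub.toSubscheme (𝓙 ^ (0 + 1))).app ⊤).hom ε = e 0 := by
    have h1 : val (φ ≫ ClSub.toSubscheme (𝓙 ^ (0 + 1))) ⊤ = val (y 0) ⊤ := by rw [hφ 0]
    rw [val_secHom_top] at h1
    rw [hεdef]
    exact h1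
  have hPQ : U.basicOpen ε ⊓ U.basicOpen (1 - ε) = ⊥ := by
    rw [← Scheme.basicOpen_mul, mul_sub, mul_one, hε, sub_self, Scheme.basicOpen_zero]
  have hPQ' : ⊤ ≤ U.basicOpen ε ⊔ U.basicOpen (1 - ε) := by
    have := U.basicOpen_add_le ε (1 - ε)
    rwa [add_sub_cancel, Scheme.basicOpen_one] at this
  have hc : ((U.basicOpen ε : U.Opens) : Set U)ᶜ = (U.basicOpen (1 - ε) : Set U) := by
    ext x
    constructor
    · intro hx
      have h1 : x ∈ U.basicOpen ε ⊔ U.basicOpen (1 - ε) := hPQ' trivial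
      rcases h1 with h1 | h1
      · exact absurd h1 hx
      · exact h1
    · intro hx hx'
      have h1 : x ∈ U.basicOpen ε ⊓ U.basicOpen (1 - ε) := ⟨hx', hx⟩
      rw [hPQ] at h1
      exact h1
  have hclopen : IsClopen ((U.basicOpen ε : U.Opens) : Set U) := by
    refine ⟨?_, (U.basicOpen ε).isOpen⟩
    rw [← isOpen_compl_iff, hc]
    exact (U.basicOpen (1 - ε)).isOpen
  rcases isClopen_iff.mp hclopen with h | h
  · left
    refine disjoint_of_basicOpen_eq_bot 𝓙 0 ε (TopologicalSpace.Opens.ext h) V ?_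
    rw [he0]
    exact heV 0
  · right
    have hQ : U.basicOpen (1 - ε) = ⊥ := by
      apply TopologicalSpace.Opens.ext
      rw [← hc, h]
      simp
    refine disjoint_of_basicOpen_eq_bot 𝓙 0 (1 - ε) hQ W ?_
    have hsub : ((ClSub.toSubscheme (𝓙 ^ (0 + 1))).app ⊤).hom (1 - ε) =
        val (ClSub.toSubscheme (𝓙 ^ (0 + 1))) ⊤ - e 0 := by
      rw [← he0]
      exact map_sub ((ClSub.toSubscheme (𝓙 ^ (0 + 1))).app ⊤).hom (1 : Γ(U, ⊤)) ε
    refine (congrArg ((ClSub.quotMod (𝓙 ^ (0 + 1))).presheaf.map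
      (homOfLE (le_top : W ≤ ⊤)).op) hsub).trans ?_
    rw [map_sub, heW 0, sub_zero]
    exact val_res (ClSub.toSubscheme (𝓙 ^ (0 + 1))) (le_top : W ≤ ⊤)


theorem forward (hbij : HomToFormalBijective 𝓙 (Coh.structureModule U))
    (V W : U.Opens) (hVW : ⊤ ≤ V ⊔ W) (hd : V ⊓ W = ⊥) (hs : (𝓙.support : Set U) ⊆ V) :
    W = ⊥ := by
  obtain ⟨hinj, -⟩ := hbij
  obtain ⟨ε, hεV, hεW⟩ := exists_glue_top (Coh.structureModule U) hVW
    (val (𝟙 (Coh.structureModule U)) V) 0 (fun s => eq_zero_of_bot _ hd s)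
  have hW : Disjoint (W : Set U) (𝓙.support : Set U) := by
    rw [Set.disjoint_left]
    intro x hxW hxs
    have h1 : x ∈ V ⊓ W := ⟨hs hxs, hxW⟩
    rw [hd] at h1
    exact h1
  have h1 : secHom _ ε = 𝟙 (Coh.structureModule U) := by
    apply hinj
    intro n
    apply hom_eq_of_val
    rw [val_comp, val_comp, val_secHom_top]
    apply eq_of_res_top _ hVW
    · rw [app_res, app_res, hεV, val_res]
    · exact (quot_eq_zero 𝓙 n W hW _).trans (quot_eq_zero 𝓙 n W hW _).symm
  have h2 : ε = val (𝟙 (Coh.structureModule U)) ⊤ := by rw [← h1, val_secHom_top]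
  have h3 : (0 : Γ(Coh.structureModule U, W)) = val (𝟙 (Coh.structureModule U)) W := by
    rw [← hεW, h2, val_res]
  have h4 : (1 : Γ(U, W)) = 0 := h3.symm
  have h5 := U.basicOpen_one (U := W)
  rw [h4, Scheme.basicOpen_zero] at h5
  exact h5.symm

end core


/-- Let X be a locally Noetherian scheme and 𝓘 a quasi-coherent ideal sheaf with Y = V(𝓘), and suppose
Lef(X, Y) holds (this prelude's Lef.LefCond). Then for every open U of X containing Y, Y is
connected if and only if U is connected. -/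
theorem result (X : Scheme.{u}) [IsLocallyNoetherian X] (𝓘 : X.IdealSheafData) (h : Lef.LefCond X 𝓘) (U : X.Opens) (hU : (𝓘.support : Set X) ⊆ (U : Set X)) : ConnectedSpace (𝓘.support : Set X) ↔ ConnectedSpace U := by
  have hbij : HomToFormalBijective (𝓘.comap U.ι) (Coh.structureModule (U : Scheme.{u})) :=
    h U hU _ (Groth.Agent.Lib.Helper35.FinLocFreeSum.isFinLocFree_of_isInvertible
      (Groth.Agent.Lib.Helper35.InvPush.isInvertible_structureModule _))
  have hsupp : ∀ x : U, x ∈ ((𝓘.comap U.ι).support : Set (U : Scheme.{u})) ↔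
      (x : X) ∈ (𝓘.support : Set X) := by
    intro x
    rw [Scheme.IdealSheafData.support_comap]
    rfl
  constructor
  · intro hc
    have hconn : _root_.IsConnected (𝓘.support : Set X) := isConnected_iff_connectedSpace.mpr hc
    obtain ⟨x0, hx0⟩ := hconn.nonempty
    have hpre : _root_.IsPreconnected ((𝓘.comap U.ι).support : Set (U : Scheme.{u})) := by
      have h1 : (Subtype.val '' ((𝓘.comap U.ι).support : Set (U : Scheme.{u}))) =
          (𝓘.support : Set X) := by
        ext x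
        constructor
        · rintro ⟨y, hy, rfl⟩
          exact (hsupp y).mp hy
        · intro hx
          exact ⟨⟨x, hU hx⟩, (hsupp _).mpr hx, rfl⟩
      have h2 := (Topology.IsInducing.subtypeVal (t := (U : Set X))).isPreconnected_image
        (s := ((𝓘.comap U.ι).support : Set (U : Scheme.{u})))
      refine h2.mp ?_
      exact h1 ▸ hconn.isPreconnected
    rw [connectedSpace_iff_clopen]
    refine ⟨⟨⟨x0, hU hx0⟩⟩, ?_⟩
    intro s hs
    by_cases hne : (((𝓘.comap U.ι).support : Set (U : Scheme.{u})) ∩ s).Nonempty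
    · right
      have hsub := hpre.subset_isClopen hs hne
      have h1 := forward (𝓘.comap U.ι) hbij ⟨s, hs.isOpen⟩ ⟨sᶜ, hs.compl.isOpen⟩
        (by
          intro x _
          by_cases hx : x ∈ s
          · exact Or.inl hx
          · exact Or.inr hx)
        (by
          apply TopologicalSpace.Opens.ext
          simp) hsub
      have h2 : sᶜ = ∅ := congrArg (fun O : (U : Scheme.{u}).Opens => (O : Set (U : Scheme.{u}))) h1
      exact Set.compl_empty_iff.mp h2
    · left
      have hsub : ((𝓘.comap U.ι).support : Set (U : Scheme.{u})) ⊆ sᶜ :=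
        fun x hx hxs => hne ⟨x, hx, hxs⟩
      have h1 := forward (𝓘.comap U.ι) hbij ⟨sᶜ, hs.compl.isOpen⟩ ⟨s, hs.isOpen⟩
        (by
          intro x _
          by_cases hx : x ∈ s
          · exact Or.inr hx
          · exact Or.inl hx)
        (by
          apply TopologicalSpace.Opens.ext
          simp) hsub
      exact congrArg (fun O : (U : Scheme.{u}).Opens => (O : Set (U : Scheme.{u}))) h1
  · intro hc
    rw [← isConnected_iff_connectedSpace]
    constructor
    · by_contra hne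
      rw [Set.not_nonempty_iff_eq_empty] at hne
      have h1 := forward (𝓘.comap U.ι) hbij ⊥ ⊤ (by simp) (by simp)
        (by
          intro x hx
          have := (hsupp x).mp hx
          rw [hne] at this
          exact this.elim)
      obtain ⟨x⟩ := hc.toNonempty
      have h2 : x ∈ (⊤ : (U : Scheme.{u}).Opens) := trivial
      rw [h1] at h2
      exact h2
    · rw [isPreconnected_iff_subset_of_fully_disjoint_closed 𝓘.support.isClosed]
      intro u v hu hv huv hd
      have hV : IsOpen {x : U | (x : X) ∉ v} := hv.isOpen_compl.preimage continuous_subtype_val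
      have hW : IsOpen {x : U | (x : X) ∉ u} := hu.isOpen_compl.preimage continuous_subtype_val
      have hpc : PreconnectedSpace (U : Scheme.{u}) := hc.toPreconnectedSpace
      rcases backward (𝓘.comap U.ι) hbij ⟨_, hV⟩ ⟨_, hW⟩
        (by
          intro (x : U) _
          by_cases hx : (x : X) ∈ v
          · exact Or.inr (fun hxu : (x : X) ∈ u => Set.disjoint_left.mp hd hxu hx)
          · exact Or.inl hx)
        (by
          rw [Set.disjoint_left]
          rintro x ⟨hxv, hxu⟩ hxs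
          rcases huv ((hsupp x).mp hxs) with h1 | h1
          · exact hxu h1
          · exact hxv h1) with h1 | h1
      · right
        intro x hx
        by_contra hxv
        exact Set.disjoint_left.mp h1 (show (⟨x, hU hx⟩ : U) ∈ {x : U | (x : X) ∉ v} from hxv)
          ((hsupp ⟨x, hU hx⟩).mpr hx)
      · left
        intro x hx
        by_contra hxu
        exact Set.disjoint_left.mp h1 (show (⟨x, hU hx⟩ : U) ∈ {x : U | (x : X) ∉ u} from hxu)
          ((hsupp ⟨x, hU hx⟩).mpr hx)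

end Groth.Agent.S2946
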