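import Groth.Statements.S2955
-- import your own Groth.Agent.* helpers here

set_option autoImplicit false
open RootPairing
open scoped Pointwise Classical
universe u
open RootD

namespace Groth.Agent.S2955

/-- Let P be a finite crystallographic reduced root pairing over a domain of characteristic zero, with a
base b, and write 2ρ for the sum of the positive roots with respect to b. Then for every simple root
β (an index in the support of b) the reflection in β sends 2ρ to 2ρ − 2β (equivalently, the coroot
of β pairs to 1 with ρ; only the reflection identity is asserted). -/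
theorem result {ι R M N : Type*} [CommRing R] [CharZero R] [IsDomain R] [AddCommGroup M] [Module R M]
    [AddCommGroup N] [Module R N] (P : RootPairing ι R M N) [Finite ι] [P.IsCrystallographic] [P.IsReduced]
    [Fintype ι] (b : P.Base) (j : ι) (hj : j ∈ b.support) :
    P.reflection j (∑ i, if b.IsPos i then P.root i else 0) =
      (∑ i, if b.IsPos i then P.root i else 0) - (2 : R) • P.root j := by
  have hjpos : b.IsPos j := b.isPos_of_mem_support hj
  have hne : ∀ i, b.IsPos i → i ≠ j → P.reflectionPerm j i ≠ j := by
    intro i hi hij h
    have h2 : i = P.reflectionPerm j j := by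
      have := P.reflectionPerm_self j i
      rw [h] at this
      exact this.symm
    have h3 := b.height_reflectionPerm_self j
    have h4 : b.height i = - b.height j := by rw [h2]; exact h3
    rw [Base.isPos_iff] at hi hjpos
    omega
  have hmaps : ∀ i, (b.IsPos i ∧ i ≠ j) → (b.IsPos (P.reflectionPerm j i) ∧ P.reflectionPerm j i ≠ j) :=
    fun i ⟨hi, hij⟩ => ⟨hi.reflectionPerm hj hij, hne i hi hij⟩
  have hsplit : ∀ f : ι → M, (∑ i, if b.IsPos i then f i else 0) =
      f j + ∑ i ∈ Finset.univ.filter (fun i => b.IsPos i ∧ i ≠ j), f i := by
    intro f
    rw [← Finset.sum_filter]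
    have : Finset.univ.filter (fun i => b.IsPos i) =
        insert j (Finset.univ.filter (fun i => b.IsPos i ∧ i ≠ j)) := by
      ext i
      simp only [Finset.mem_filter, Finset.mem_univ, true_and, Finset.mem_insert]
      constructor
      · intro hi
        by_cases hij : i = j
        · exact Or.inl hij
        · exact Or.inr ⟨hi, hij⟩
      · rintro (rfl | ⟨hi, _⟩)
        · exact hjpos
        · exact hi
    rw [this, Finset.sum_insert]
    simp
  rw [map_sum]
  have h1 : ∀ i, P.reflection j (if b.IsPos i then P.root i else 0) =
      if b.IsPos i then P.root (P.reflectionPerm j i) else 0 := by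
    intro i
    split_ifs
    · rw [P.root_reflectionPerm]
    · simp
  simp_rw [h1]
  rw [hsplit (fun i => P.root (P.reflectionPerm j i)), hsplit (fun i => P.root i)]
  have h2 : ∑ i ∈ Finset.univ.filter (fun i => b.IsPos i ∧ i ≠ j), P.root (P.reflectionPerm j i) =
      ∑ i ∈ Finset.univ.filter (fun i => b.IsPos i ∧ i ≠ j), P.root i := by
    apply Finset.sum_equiv (P.reflectionPerm j)
    · intro i
      simp only [Finset.mem_filter, Finset.mem_univ, true_and]
      constructor
      · exact hmaps i
      · intro h
        have := hmaps _ h
        rwa [P.reflectionPerm_self] at this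
    · intro i _
      rfl
  rw [h2, P.root_reflectionPerm, P.reflection_apply_self, two_smul]
  abel

end Groth.Agent.S2955
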