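import Groth.Statements.S2964
import Mathlib

set_option autoImplicit false
universe u
open scoped TensorProduct
open SGA3t2b

namespace Groth.Agent.S2964
set_option maxHeartbeats 400000
open scoped TensorProduct

section
variable {A : Type u} [CommRing A] {L : Type u} [AddCommGroup L] [Module A L]

lemma fibre_ker (P : Ideal A) [P.IsPrime] (y : L)
    (hy : (1 : P.ResidueField) ⊗ₜ[A] y = 0) : ∃ s ∉ P, s • y ∈ P • (⊤ : Submodule A L) := by
  let g : (A ⧸ P) →ₗ[A ⧸ P] P.ResidueField := Algebra.linearMap (A ⧸ P) P.ResidueField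
  have hg : IsLocalizedModule (nonZeroDivisors (A ⧸ P)) g := inferInstance
  have := IsLocalizedModule.rTensor (R := A) (A ⧸ P) (N := L) (nonZeroDivisors (A ⧸ P)) g
  have h0 : (TensorProduct.AlgebraTensorModule.rTensor A L g) ((1 : A ⧸ P) ⊗ₜ[A] y) = 0 := by
    simpa [g] using hy
  rw [IsLocalizedModule.eq_zero_iff (nonZeroDivisors (A ⧸ P))
    (TensorProduct.AlgebraTensorModule.rTensor A L g)] at h0
  obtain ⟨⟨c, hc⟩, hc0⟩ := h0
  obtain ⟨s, rfl⟩ := Ideal.Quotient.mk_surjective c
  refine ⟨s, ?_, ?_⟩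
  · intro hs
    have : (Ideal.Quotient.mk P s) = 0 := Ideal.Quotient.eq_zero_iff_mem.mpr hs
    rw [this] at hc
    exact zero_notMem_nonZeroDivisors hc
  · have h1 : (Ideal.Quotient.mk P s) • ((1 : A ⧸ P) ⊗ₜ[A] y) = (Ideal.Quotient.mk P 1) ⊗ₜ[A] (s • y) := by
      rw [TensorProduct.smul_tmul', smul_eq_mul, mul_one, ← TensorProduct.smul_tmul]
      congr 1
      rw [Algebra.smul_def, map_one, mul_one]; rfl
    change (Ideal.Quotient.mk P s) • ((1 : A ⧸ P) ⊗ₜ[A] y) = 0 at hc0
    rw [h1] at hc0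
    have h2 := congrArg (TensorProduct.quotTensorEquivQuotSMul L P) hc0
    rw [TensorProduct.quotTensorEquivQuotSMul_mk_tmul, map_zero, one_smul,
      Submodule.Quotient.mk_eq_zero] at h2
    exact h2

lemma fibre_surj (P : Ideal A) [P.IsPrime] (z : P.ResidueField ⊗[A] L) :
    ∃ (c : P.ResidueField) (x : L), z = c • ((1 : P.ResidueField) ⊗ₜ[A] x) := by
  let g : (A ⧸ P) →ₗ[A ⧸ P] P.ResidueField := Algebra.linearMap (A ⧸ P) P.ResidueField
  have hg : IsLocalizedModule (nonZeroDivisors (A ⧸ P)) g := inferInstance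
  have := IsLocalizedModule.rTensor (R := A) (A ⧸ P) (N := L) (nonZeroDivisors (A ⧸ P)) g
  obtain ⟨⟨m, ⟨c, hc⟩⟩, hm⟩ := IsLocalizedModule.surj (nonZeroDivisors (A ⧸ P))
    (TensorProduct.AlgebraTensorModule.rTensor A L g) z
  have hm1 : ∃ x : L, m = (1 : A ⧸ P) ⊗ₜ[A] x := by
    clear hm
    induction m using TensorProduct.induction_on with
    | zero => exact ⟨0, by simp⟩
    | tmul a l =>
      obtain ⟨a, rfl⟩ := Ideal.Quotient.mk_surjective a
      refine ⟨a • l, ?_⟩
      rw [← TensorProduct.smul_tmul]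
      congr 1
      rw [Algebra.smul_def, mul_one]; rfl
    | add m₁ m₂ h₁ h₂ =>
      obtain ⟨x₁, rfl⟩ := h₁
      obtain ⟨x₂, rfl⟩ := h₂
      exact ⟨x₁ + x₂, by rw [TensorProduct.tmul_add]⟩
  obtain ⟨x, rfl⟩ := hm1
  have hc' : algebraMap (A ⧸ P) P.ResidueField c ≠ 0 := by
    intro h0
    have := (IsFractionRing.injective (A ⧸ P) P.ResidueField) (h0.trans (map_zero _).symm)
    rw [this] at hc
    exact zero_notMem_nonZeroDivisors hc
  refine ⟨(algebraMap (A ⧸ P) P.ResidueField c)⁻¹, x, ?_⟩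
  have hm' : (algebraMap (A ⧸ P) P.ResidueField c) • z = (1 : P.ResidueField) ⊗ₜ[A] x := by
    have e1 : (TensorProduct.AlgebraTensorModule.rTensor A L g) ((1 : A ⧸ P) ⊗ₜ[A] x)
        = (1 : P.ResidueField) ⊗ₜ[A] x := by simp [g]
    rw [← e1, ← hm]
    change _ = c • z
    rw [algebraMap_smul]
  rw [← hm', smul_smul, inv_mul_cancel₀ hc', one_smul]
end

section
variable {A : Type u} [CommRing A] {L : Type u} [LieRing L] [LieAlgebra A L]

/-- The bracket as a bilinear map. -/
noncomputable def β (A : Type u) [CommRing A] (L : Type u) [LieRing L] [LieAlgebra A L] :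
    L →ₗ[A] L →ₗ[A] L := (LieModule.toEnd A L L : L →ₗ[A] Module.End A L)

@[simp] lemma β_apply (x y : L) : β A L x y = ⁅x, y⁆ := rfl

/-- `D P = [L, P]` as a plain submodule. -/
noncomputable def D (P : Submodule A L) : Submodule A L := Submodule.map₂ (β A L) ⊤ P

lemma D_mono : Monotone (D (A := A) (L := L)) := fun _ _ h => Submodule.map₂_le_map₂_right h

lemma lie_mem_D {P : Submodule A L} (x : L) {y : L} (hy : y ∈ P) : ⁅x, y⁆ ∈ D P :=
  Submodule.apply_mem_map₂ (β A L) (Submodule.mem_top) hy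

lemma D_le_iff {P Q : Submodule A L} : D P ≤ Q ↔ ∀ x : L, ∀ y ∈ P, ⁅x, y⁆ ∈ Q := by
  unfold D
  rw [Submodule.map₂_le]
  constructor
  · intro h x y hy; exact h x Submodule.mem_top y hy
  · intro h x _ y hy; exact h x y hy

lemma D_smul_le (I : Ideal A) (P : Submodule A L) : D (I • P) ≤ I • D P := by
  rw [D_le_iff]
  intro x y hy
  refine Submodule.smul_induction_on (p := fun y => ⁅x, y⁆ ∈ I • D P) hy ?_ ?_
  · intro a ha n hn
    rw [lie_smul]
    exact Submodule.smul_mem_smul ha (lie_mem_D x hn)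
  · intro y z hy hz
    rw [lie_add]; exact add_mem hy hz

lemma Dn_mono (n : ℕ) : Monotone (D (A := A) (L := L))^[n] := D_mono.iterate n

lemma Dn_smul_le (I : Ideal A) (P : Submodule A L) (n : ℕ) : D^[n] (I • P) ≤ I • D^[n] P := by
  induction n with
  | zero => simp
  | succ n ih =>
    rw [Function.iterate_succ_apply', Function.iterate_succ_apply']
    exact (D_mono ih).trans (D_smul_le I _)

/-- the lower central series as plain submodules -/
noncomputable def C (A : Type u) [CommRing A] (L : Type u) [LieRing L] [LieAlgebra A L] (k : ℕ) :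
    Submodule A L := D^[k] ⊤

lemma C_zero : C A L 0 = ⊤ := rfl
lemma C_succ (k : ℕ) : C A L (k + 1) = D (C A L k) := by
  unfold C; rw [Function.iterate_succ_apply']
lemma C_add (m n : ℕ) : C A L (m + n) = D^[n] (C A L m) := by
  unfold C; rw [add_comm, Function.iterate_add_apply]

lemma C_eq (k : ℕ) : C A L k = (LieModule.lowerCentralSeries A L L k).toSubmodule := by
  induction k with
  | zero => simp [C_zero]
  | succ k ih =>
    rw [C_succ, ih, LieModule.lowerCentralSeries_succ, LieSubmodule.lieIdeal_oper_eq_linear_span',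
      D, Submodule.map₂_eq_span_image2]
    congr 1

lemma C_fg [Module.Finite A L] (k : ℕ) : (C A L k).FG := by
  induction k with
  | zero => rw [C_zero]; exact Module.Finite.fg_top
  | succ k ih =>
    rw [C_succ]; exact Submodule.FG.map₂ _ Module.Finite.fg_top ih

lemma isNilpotent_iff_C : LieRing.IsNilpotent L ↔ ∃ k, C A L k = ⊥ := by
  rw [LieRing.IsNilpotent, LieModule.isNilpotent_iff A]
  refine exists_congr fun k => ?_
  rw [C_eq, LieSubmodule.toSubmodule_eq_bot]


lemma chain_compact [Module.Finite A L] (k : ℕ) (c : Set (Ideal A)) (hc : IsChain (· ≤ ·) c)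
    (hne : c.Nonempty) (hk : C A L k ≤ (sSup c) • (⊤ : Submodule A L)) :
    ∃ I ∈ c, C A L k ≤ I • (⊤ : Submodule A L) := by
  have hcomp : IsCompactElement (C A L k) := (Submodule.fg_iff_compact _).mp (C_fg k)
  rw [CompleteLattice.isCompactElement_iff_le_of_directed_sSup_le] at hcomp
  have hdir : DirectedOn (· ≤ ·) ((fun I : Ideal A => I • (⊤ : Submodule A L)) '' c) := by
    rintro _ ⟨I, hI, rfl⟩ _ ⟨J, hJ, rfl⟩
    rcases hc.total hI hJ with h | h
    · exact ⟨_, ⟨J, hJ, rfl⟩, Submodule.smul_mono_left h, le_rfl⟩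
    · exact ⟨_, ⟨I, hI, rfl⟩, le_rfl, Submodule.smul_mono_left h⟩
  have hle : C A L k ≤ sSup ((fun I : Ideal A => I • (⊤ : Submodule A L)) '' c) := by
    refine hk.trans ?_
    rw [sSup_eq_iSup', Submodule.iSup_smul, sSup_image']
  obtain ⟨x, ⟨I, hI, rfl⟩, hx⟩ := hcomp _ (hne.image _) hdir hle
  exact ⟨I, hI, hx⟩

theorem exists_C_eq_bot [Module.Finite A L]
    (h : ∀ (P : Ideal A), P.IsPrime →
      ∃ n, ∀ y ∈ C A L n, ∃ s ∉ P, s • y ∈ P • (⊤ : Submodule A L)) :
    ∃ k, C A L k = ⊥ := by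
  by_contra hcon
  push Not at hcon
  let S : Set (Ideal A) := {I | ∀ k, ¬ (C A L k ≤ I • (⊤ : Submodule A L))}
  have hbot : (⊥ : Ideal A) ∈ S := by
    intro k hk
    apply hcon k
    rw [eq_bot_iff]
    simpa using hk
  obtain ⟨P, -, hP⟩ := zorn_le_nonempty₀ S (by
    intro c hcS hc y hy
    refine ⟨sSup c, ?_, fun z hz => le_sSup hz⟩
    intro k hk
    obtain ⟨I, hI, hIk⟩ := chain_compact k c hc ⟨y, hy⟩ hk
    exact hcS hI k hIk) ⊥ hbot
  have hPS : P ∈ S := hP.prop
  have hmax : ∀ I : Ideal A, P < I → ∃ k, C A L k ≤ I • (⊤ : Submodule A L) := by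
    intro I hI
    by_contra hcon2
    push Not at hcon2
    have : I ∈ S := hcon2
    exact absurd (hP.le_of_ge this hI.le) (not_le_of_gt hI)
  -- P is prime
  have hPprime : P.IsPrime := by
    rw [Ideal.isPrime_iff]
    refine ⟨?_, ?_⟩
    · rintro rfl
      apply hPS 0
      rw [C_zero]; simp
    · intro a b hab
      by_contra hcon3
      push Not at hcon3
      obtain ⟨ha, hb⟩ := hcon3
      have hlta : P < P ⊔ Ideal.span {a} := by
        refine lt_of_le_of_ne le_sup_left fun heq => ha ?_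
        rw [heq]; exact Ideal.mem_sup_right (Ideal.mem_span_singleton_self a)
      have hltb : P < P ⊔ Ideal.span {b} := by
        refine lt_of_le_of_ne le_sup_left fun heq => hb ?_
        rw [heq]; exact Ideal.mem_sup_right (Ideal.mem_span_singleton_self b)
      obtain ⟨ka, hka⟩ := hmax _ hlta
      obtain ⟨kb, hkb⟩ := hmax _ hltb
      apply hPS (ka + kb)
      rw [C_add]
      refine (Dn_mono kb hka).trans ((Dn_smul_le _ _ kb).trans ?_)
      change (P ⊔ Ideal.span {a}) • C A L kb ≤ _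
      refine (Submodule.smul_mono le_rfl hkb).trans ?_
      rw [← Submodule.mul_smul]
      refine Submodule.smul_mono_left ?_
      rw [Ideal.sup_mul, Ideal.mul_sup, Ideal.mul_sup]
      refine sup_le (sup_le Ideal.mul_le_left Ideal.mul_le_left) (sup_le Ideal.mul_le_right ?_)
      rw [Ideal.span_singleton_mul_span_singleton, Ideal.span_singleton_le_iff_mem]
      exact hab
  obtain ⟨n, hn⟩ := h P hPprime
  -- common denominator
  obtain ⟨s, hsP, hs⟩ : ∃ s ∉ P, ∀ y ∈ C A L n, s • y ∈ P • (⊤ : Submodule A L) := by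
    obtain ⟨T, hT⟩ := C_fg (A := A) (L := L) n
    classical
    have : ∀ t ∈ T, ∃ s ∉ P, s • t ∈ P • (⊤ : Submodule A L) := fun t ht =>
      hn t (hT ▸ Submodule.subset_span ht)
    choose! σ hσ1 hσ2 using this
    refine ⟨∏ t ∈ T, σ t, ?_, ?_⟩
    · intro hmem
      obtain ⟨t, ht, htP⟩ := (Ideal.IsPrime.prod_mem_iff).mp hmem
      exact hσ1 t ht htP
    · intro y hy
      rw [← hT] at hy
      refine Submodule.span_induction (p := fun y _ => (∏ t ∈ T, σ t) • y ∈ P • (⊤ : Submodule A L))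
        ?_ ?_ ?_ ?_ hy
      · intro t ht
        rw [← Finset.mul_prod_erase T σ ht, mul_comm, mul_smul]
        exact Submodule.smul_mem _ _ (hσ2 t ht)
      · simp
      · intro x y _ _ hx hy; rw [smul_add]; exact add_mem hx hy
      · intro a x _ hx; rw [smul_comm]; exact Submodule.smul_mem _ _ hx
  have hlts : P < P ⊔ Ideal.span {s} := by
    refine lt_of_le_of_ne le_sup_left fun heq => hsP ?_
    rw [heq]; exact Ideal.mem_sup_right (Ideal.mem_span_singleton_self s)
  obtain ⟨m, hm⟩ := hmax _ hlts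
  apply hPS (m + n)
  rw [C_add]
  refine (Dn_mono n hm).trans ((Dn_smul_le _ _ n).trans ?_)
  change (P ⊔ Ideal.span {s}) • C A L n ≤ _
  rw [Submodule.sup_smul]
  refine sup_le (Submodule.smul_mono le_rfl le_top) ?_
  rw [Submodule.smul_le]
  intro r hr y hy
  obtain ⟨a, rfl⟩ := Ideal.mem_span_singleton'.mp hr
  rw [mul_smul]
  exact Submodule.smul_mem _ _ (hs y hy)


lemma one_tmul_mem_lcs (K : Type u) [CommRing K] [Algebra A K] (k : ℕ) :
    ∀ y ∈ C A L k, (1 : K) ⊗ₜ[A] y ∈ LieModule.lowerCentralSeries K (K ⊗[A] L) (K ⊗[A] L) k := by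
  induction k with
  | zero => intro y _; simp
  | succ k ih =>
    intro y hy
    rw [C_succ] at hy
    let Q : Submodule A L := Submodule.comap (TensorProduct.mk A K L 1)
      ((LieModule.lowerCentralSeries K (K ⊗[A] L) (K ⊗[A] L) (k + 1)).toSubmodule.restrictScalars A)
    have hQ : D (C A L k) ≤ Q := by
      rw [D_le_iff]
      intro x n hn
      change (1 : K) ⊗ₜ[A] ⁅x, n⁆ ∈ LieModule.lowerCentralSeries K (K ⊗[A] L) (K ⊗[A] L) (k + 1)
      have e : (1 : K) ⊗ₜ[A] ⁅x, n⁆ = ⁅(1 : K) ⊗ₜ[A] x, (1 : K) ⊗ₜ[A] n⁆ := by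
        rw [LieAlgebra.ExtendScalars.bracket_tmul, mul_one]
      rw [e, LieModule.lowerCentralSeries_succ]
      exact LieSubmodule.lie_mem_lie (LieSubmodule.mem_top _) (ih n hn)
    exact hQ hy

theorem part1 [Module.Finite A L]
    (h : ∀ p : PrimeSpectrum A, LieRing.IsNilpotent (p.asIdeal.ResidueField ⊗[A] L)) :
    LieRing.IsNilpotent L := by
  rw [isNilpotent_iff_C (A := A)]
  apply exists_C_eq_bot
  intro P hP
  have hnil := h ⟨P, hP⟩
  obtain ⟨n, hn⟩ := (LieModule.isNilpotent_iff P.ResidueField _ _).mp hnil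
  refine ⟨n, fun y hy => ?_⟩
  apply fibre_ker P y
  have := one_tmul_mem_lcs P.ResidueField n y hy
  rw [hn] at this
  simpa using this

theorem part2 [Module.Finite A L] (h : ∀ x : L, IsNilpotent (LieAlgebra.ad A L x)) :
    LieRing.IsNilpotent L := by
  apply part1 (A := A)
  intro p
  rw [LieAlgebra.isNilpotent_iff_forall (R := p.asIdeal.ResidueField)]
  intro z
  obtain ⟨c, x, rfl⟩ := fibre_surj p.asIdeal z
  rw [map_smul]
  apply IsNilpotent.smul
  have e : LieAlgebra.ad p.asIdeal.ResidueField (p.asIdeal.ResidueField ⊗[A] L)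
      ((1 : p.asIdeal.ResidueField) ⊗ₜ[A] x)
      = (LieAlgebra.ad A L x).baseChange p.asIdeal.ResidueField := by
    ext y
    simp [LieAlgebra.ExtendScalars.bracket_tmul]
  rw [e]
  obtain ⟨n, hn⟩ := h x
  exact ⟨n, by rw [← LinearMap.baseChange_pow, hn, LinearMap.baseChange_zero]⟩

end
end Groth.Agent.S2964

namespace Groth.Agent.S2964

/-- (i) ⇒ (iii): let d be a Lie algebra over a commutative ring A which is finitely presented as an
A-module. If for every prime p of A the fibre Lie algebra κ(p) ⊗_A d is nilpotent, then d is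
nilpotent (its lower central series vanishes, i.e. there is N with ad(x_1) ⋯ ad(x_N) = 0 for all
x_i); and the same conclusion holds if ad(x) is nilpotent for every x in d. -/
theorem result {A : Type u} [CommRing A] {L : Type u} [LieRing L] [LieAlgebra A L]
    [Module.FinitePresentation A L] :
    ((∀ p : PrimeSpectrum A, LieRing.IsNilpotent (p.asIdeal.ResidueField ⊗[A] L)) → LieRing.IsNilpotent L) ∧
    ((∀ x : L, IsNilpotent (LieAlgebra.ad A L x)) → LieRing.IsNilpotent L) := by
  exact ⟨fun h => part1 (A := A) h, fun h => part2 (A := A) h⟩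

end Groth.Agent.S2964
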