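import Groth.Statements.S2965
import Mathlib.Tactic
import Mathlib.RingTheory.Polynomial.Basic
import Mathlib.LinearAlgebra.Charpoly.Basic

set_option autoImplicit false
universe u
open SGA3t2b

namespace Groth.Agent.S2965

open Polynomial in
theorem stable_ker {A : Type u} [CommRing A] {M : Type u} [AddCommGroup M] [Module A M]
    (u : M →ₗ[A] M) (P R : A[X]) (x : M) (hx : x ∈ LinearMap.ker (aeval u P)) :
    aeval u R x ∈ LinearMap.ker (aeval u P) := by
  rw [LinearMap.mem_ker] at hx ⊢
  have : aeval u P (aeval u R x) = aeval u R (aeval u P x) := by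
    rw [← Module.End.mul_apply, ← Module.End.mul_apply, ← map_mul, ← map_mul, mul_comm]
  rw [this, hx, map_zero]

open Polynomial in
theorem comm_apply {A : Type u} [CommRing A] {M : Type u} [AddCommGroup M] [Module A M]
    (u : M →ₗ[A] M) (P : A[X]) (z : M) : aeval u P (u z) = u (aeval u P z) := by
  have h1 : aeval u P * aeval u (X : A[X]) = aeval u (X : A[X]) * aeval u P := by
    rw [← map_mul, ← map_mul, mul_comm]
  have h2 := LinearMap.congr_fun h1 z
  rw [Module.End.mul_apply, Module.End.mul_apply, aeval_X] at h2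
  exact h2

open Polynomial in
theorem main {A : Type u} [CommRing A] {M : Type u} [AddCommGroup M] [Module A M]
    [Module.Free A M] [Module.Finite A M] (u : M →ₗ[A] M) (r : ℕ) (Q : A[X]) (hQ : IsUnit (Q.coeff 0))
    (h : u.charpoly = X ^ r * Q) :
    ∃ M' M'' : Submodule A M, IsCompl M' M'' ∧ (∀ x ∈ M', u x ∈ M') ∧ (∀ x ∈ M'', u x ∈ M'') ∧
      (∃ n : ℕ, ∀ x ∈ M', (u ^ n) x = 0) ∧ Set.BijOn u M'' M'' := by
  obtain ⟨c, hc⟩ := hQ
  obtain ⟨D, hD⟩ : ∃ D : A[X], X * D + C (c : A) = Q := ⟨divX Q, by rw [hc]; exact X_mul_divX_add Q⟩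
  have hcop1 : IsCoprime (X : A[X]) Q := by
    refine ⟨- C ((c⁻¹ : Aˣ) : A) * D, C ((c⁻¹ : Aˣ) : A), ?_⟩
    rw [← hD]
    have : C ((c⁻¹ : Aˣ) : A) * C (c : A) = 1 := by
      rw [← C_mul, Units.inv_mul, C_1]
    linear_combination this
  have hcop : IsCoprime (X ^ r : A[X]) Q := hcop1.pow_left
  have hstab : ∀ (P : A[X]) (x : M), x ∈ LinearMap.ker (aeval u P) →
      u x ∈ LinearMap.ker (aeval u P) := by
    intro P x hx
    have := stable_ker u P X x hx
    rwa [aeval_X] at this
  refine ⟨LinearMap.ker (aeval u (X ^ r)), LinearMap.ker (aeval u Q), ⟨?_, ?_⟩,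
    hstab _, hstab _, ⟨r, ?_⟩, ?_⟩
  · exact disjoint_ker_aeval_of_isCoprime u hcop
  · rw [codisjoint_iff, sup_ker_aeval_eq_ker_aeval_mul_of_coprime u hcop, ← h,
      LinearMap.aeval_self_charpoly, LinearMap.ker_zero]
  · intro x hx
    rw [LinearMap.mem_ker, map_pow, aeval_X] at hx
    exact hx
  · -- key identity
    have key : ∀ z : M, aeval u Q z = u (aeval u D z) + (c : A) • z := by
      intro z
      rw [← hD, map_add, map_mul, aeval_X, aeval_C, LinearMap.add_apply, Module.End.mul_apply,
        Module.algebraMap_end_apply]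
    have key2 : ∀ z : M, aeval u Q z = aeval u D (u z) + (c : A) • z := by
      intro z
      rw [key, comm_apply]
    refine ⟨fun x hx => hstab _ x hx, ?_, ?_⟩
    · intro x hx y hy hxy
      have hz : x - y ∈ LinearMap.ker (aeval u Q) := Submodule.sub_mem _ hx hy
      rw [LinearMap.mem_ker, key2, map_sub, hxy, sub_self, map_zero, zero_add] at hz
      have : x - y = 0 := by
        have := congrArg (fun w => ((c⁻¹ : Aˣ) : A) • w) hz
        simpa [smul_smul] using this
      exact sub_eq_zero.mp this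
    · intro y hy
      refine ⟨-(((c⁻¹ : Aˣ) : A) • aeval u D y), ?_, ?_⟩
      · exact Submodule.neg_mem _ (Submodule.smul_mem _ _ (stable_ker u Q D y hy))
      · have hy' := hy
        rw [SetLike.mem_coe, LinearMap.mem_ker, key] at hy'
        have h1 : u (aeval u D y) = -((c : A) • y) := eq_neg_of_add_eq_zero_left hy'
        rw [map_neg, map_smul, h1, smul_neg, neg_neg, smul_smul, Units.inv_mul, one_smul]

open Polynomial in
/-- Implication (iv) ⇒ (i) (global form, finite free module): let u be an endomorphism of a finite free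
module M over a commutative ring A whose characteristic polynomial is X^r · Q with Q(0) invertible.
Then M is the direct sum of two u-stable submodules M', M'' such that u is nilpotent on M' and
bijective on M''. -/
theorem result {A : Type u} [CommRing A] {M : Type u} [AddCommGroup M] [Module A M]
    [Module.Free A M] [Module.Finite A M] (u : M →ₗ[A] M) (r : ℕ) (Q : A[X]) (hQ : IsUnit (Q.coeff 0))
    (h : u.charpoly = X ^ r * Q) :
    ∃ M' M'' : Submodule A M, IsCompl M' M'' ∧ (∀ x ∈ M', u x ∈ M') ∧ (∀ x ∈ M'', u x ∈ M'') ∧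
      (∃ n : ℕ, ∀ x ∈ M', (u ^ n) x = 0) ∧ Set.BijOn u M'' M'' := by
  exact main u r Q hQ h

end Groth.Agent.S2965
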