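import Groth.Statements.S2967
import Mathlib.Tactic

set_option autoImplicit false
universe u
open SGA3t2b

namespace Groth.Agent.S2967

theorem iter_smul {k : Type u} [Field k] (p : ℕ) [Fact p.Prime] [CharP k p]
    {V : Type u} [AddCommGroup V] [Module k V]
    (φ : V →ₛₗ[frobenius k p] V) (n : ℕ) (c : k) (x : V) :
    φ^[n] (c • x) = c ^ (p ^ n) • φ^[n] x := by
  induction n generalizing c x with
  | zero => simp
  | succ n ih =>
    rw [Function.iterate_succ_apply, Function.iterate_succ_apply, map_smulₛₗ, ih, frobenius_def,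
      ← pow_mul, pow_succ']

theorem iter_add {k : Type u} [Field k] (p : ℕ) [Fact p.Prime] [CharP k p]
    {V : Type u} [AddCommGroup V] [Module k V]
    (φ : V →ₛₗ[frobenius k p] V) (n : ℕ) (x y : V) :
    φ^[n] (x + y) = φ^[n] x + φ^[n] y := by
  induction n generalizing x y with
  | zero => simp
  | succ n ih =>
    rw [Function.iterate_succ_apply, Function.iterate_succ_apply, Function.iterate_succ_apply,
      map_add, ih]

theorem iter_zero {k : Type u} [Field k] (p : ℕ) [Fact p.Prime] [CharP k p]
    {V : Type u} [AddCommGroup V] [Module k V]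
    (φ : V →ₛₗ[frobenius k p] V) (n : ℕ) : φ^[n] 0 = 0 := by
  induction n with
  | zero => simp
  | succ n ih => rw [Function.iterate_succ_apply, map_zero, ih]

/-- the set of x killed by φ^[N] is a subspace -/
def kerIter {k : Type u} [Field k] (p : ℕ) [Fact p.Prime] [CharP k p]
    {V : Type u} [AddCommGroup V] [Module k V]
    (φ : V →ₛₗ[frobenius k p] V) (N : ℕ) : Submodule k V where
  carrier := {x | φ^[N] x = 0}
  add_mem' {x y} hx hy := by
    show φ^[N] (x + y) = 0
    rw [iter_add, hx, hy, add_zero]
  zero_mem' := iter_zero p φ N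
  smul_mem' c x hx := by
    show φ^[N] (c • x) = 0
    rw [iter_smul, hx, smul_zero]

theorem exists_iter_eq_zero {k : Type u} [Field k] (p : ℕ) [Fact p.Prime] [CharP k p]
    {V : Type u} [AddCommGroup V] [Module k V] [FiniteDimensional k V]
    (φ : V →ₛₗ[frobenius k p] V) (hφ : ∀ x : V, ∃ n : ℕ, φ^[n] x = 0) :
    ∃ N : ℕ, ∀ x : V, φ^[N] x = 0 := by
  classical
  let b := Module.finBasis k V
  choose n hn using hφ
  let N := Finset.univ.sup (fun i => n (b i))
  refine ⟨N, fun x => ?_⟩
  have hb : ∀ i, b i ∈ kerIter p φ N := by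
    intro i
    show φ^[N] (b i) = 0
    have hle : n (b i) ≤ N := Finset.le_sup (f := fun i => n (b i)) (Finset.mem_univ i)
    obtain ⟨d, hd⟩ := Nat.exists_eq_add_of_le hle
    rw [hd, add_comm, Function.iterate_add_apply, hn, iter_zero]
  have htop : kerIter p φ N = ⊤ := by
    rw [eq_top_iff, ← b.span_eq, Submodule.span_le]
    rintro _ ⟨i, rfl⟩
    exact hb i
  have : x ∈ kerIter p φ N := htop ▸ Submodule.mem_top
  exact this

/-- preimage of a subspace under φ^[n] is a subspace -/
def preIter {k : Type u} [Field k] (p : ℕ) [Fact p.Prime] [CharP k p]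
    {V : Type u} [AddCommGroup V] [Module k V]
    (φ : V →ₛₗ[frobenius k p] V) (N : ℕ) (U : Submodule k V) : Submodule k V where
  carrier := {x | φ^[N] x ∈ U}
  add_mem' {x y} hx hy := by
    show φ^[N] (x + y) ∈ U
    rw [iter_add]; exact U.add_mem hx hy
  zero_mem' := by
    show φ^[N] 0 ∈ U
    rw [iter_zero]; exact U.zero_mem
  smul_mem' c x hx := by
    show φ^[N] (c • x) ∈ U
    rw [iter_smul]; exact U.smul_mem _ hx

theorem span_iter_top {k : Type u} [Field k] (p : ℕ) [Fact p.Prime] [CharP k p]
    {V : Type u} [AddCommGroup V] [Module k V]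
    (φ : V →ₛₗ[frobenius k p] V) (h : Submodule.span k (Set.range φ) = ⊤) (n : ℕ) :
    Submodule.span k (Set.range (φ^[n])) = ⊤ := by
  induction n with
  | zero => simp
  | succ n ih =>
    rw [eq_top_iff, ← ih, Submodule.span_le]
    rintro _ ⟨v, rfl⟩
    have h1 : Submodule.span k (Set.range φ) ≤
        preIter p φ n (Submodule.span k (Set.range (φ^[n+1]))) := by
      rw [Submodule.span_le]
      rintro _ ⟨w, rfl⟩
      show φ^[n] (φ w) ∈ Submodule.span k (Set.range (φ^[n+1]))
      rw [← Function.iterate_succ_apply]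
      exact Submodule.subset_span ⟨w, rfl⟩
    have h2 : v ∈ preIter p φ n (Submodule.span k (Set.range (φ^[n+1]))) :=
      h1 (h ▸ Submodule.mem_top)
    exact h2

theorem main {k : Type u} [Field k] (p : ℕ) [Fact p.Prime] [CharP k p]
    {V : Type u} [AddCommGroup V] [Module k V] [FiniteDimensional k V] [Nontrivial V]
    (φ : V →ₛₗ[frobenius k p] V) (hφ : ∀ x : V, ∃ n : ℕ, φ^[n] x = 0) :
    Submodule.span k (Set.range φ) ≠ ⊤ := by
  intro h
  obtain ⟨N, hN⟩ := exists_iter_eq_zero p φ hφ
  have h1 := span_iter_top p φ h N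
  have h2 : Submodule.span k (Set.range (φ^[N])) = ⊥ := by
    rw [Submodule.span_eq_bot]
    rintro _ ⟨v, rfl⟩
    exact hN v
  rw [h2] at h1
  exact bot_ne_top h1

/-- A commutative p-Lie algebra over a field k of characteristic p is recorded as a k-vector space g
together with its p-th power map φ, which is additive and Frobenius-semilinear. Let g be
finite-dimensional and non-zero, and assume every element of g is killed by some iterate of φ (g is
unipotent). Then the k-subspace of g spanned by the image φ(g) is a proper subspace. -/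
theorem result {k : Type u} [Field k] (p : ℕ) [Fact p.Prime] [CharP k p]
    {V : Type u} [AddCommGroup V] [Module k V] [FiniteDimensional k V] [Nontrivial V]
    (φ : V →ₛₗ[frobenius k p] V) (hφ : ∀ x : V, ∃ n : ℕ, φ^[n] x = 0) :
    Submodule.span k (Set.range φ) ≠ ⊤ := by
  exact main p φ hφ

end Groth.Agent.S2967
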