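import Groth.Statements.S2978
-- import your own Groth.Agent.* helpers here

set_option autoImplicit false
universe u
open SGA3b

namespace Groth.Agent.S2978

/-- Let A be a Noetherian ring, M a set and a : M × M → A a family vanishing off the diagonal which is a
finite sum of decomposable families: a(m, m') = Σ_i b_i(m) c_i(m') for finitely many b_i, c_i : M →
A. Then a has finite support. -/
theorem result (A : Type u) [CommRing A] [IsNoetherianRing A] (M : Type u)
    (a : M × M → A) (hdiag : ∀ m m', m ≠ m' → a (m, m') = 0)
    (ι : Type u) [Fintype ι] (b c : ι → M → A) (hdec : ∀ m m', a (m, m') = ∑ i, b i m * c i m') :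
    Set.Finite {p : M × M | a p ≠ 0} := by
  classical
  let B : M → (ι → A) := fun m i => b i m
  let S : Submodule A (ι → A) := Submodule.span A (Set.range B)
  have hfg : S.FG := IsNoetherian.noetherian S
  obtain ⟨T, hTsub, hT⟩ := Submodule.fg_span_iff_fg_span_finset_subset (Set.range B) |>.mp hfg
  have hTfin : ∀ v ∈ T, ∃ m, B m = v := fun v hv => hTsub hv
  choose g hg using hTfin
  let F : Finset M := T.attach.image (fun v => g v.1 v.2)
  have key : ∀ m, m ∉ F → a (m, m) = 0 := by
    intro m hm
    have hBm : B m ∈ Submodule.span A (T : Set (ι → A)) := by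
      rw [← hT]; exact Submodule.subset_span ⟨m, rfl⟩
    let φ : (ι → A) →ₗ[A] A :=
      { toFun := fun v => ∑ i, v i * c i m
        map_add' := by intro v w; simp [add_mul, Finset.sum_add_distrib]
        map_smul' := by intro r v; simp [Finset.mul_sum, mul_assoc] }
    have hφ : ∀ v ∈ Submodule.span A (T : Set (ι → A)), φ v = 0 := by
      intro v hv
      induction hv using Submodule.span_induction with
      | mem v hv =>
        have h1 : B (g v hv) = v := hg v hv
        have h2 : g v hv ≠ m := by
          intro h; apply hm; rw [← h]
          exact Finset.mem_image.mpr ⟨⟨v, hv⟩, Finset.mem_attach _ _, rfl⟩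
        have := hdec (g v hv) m
        rw [hdiag _ _ h2] at this
        show ∑ i, v i * c i m = 0
        rw [← h1]; exact this.symm
      | zero => simp
      | add x y _ _ hx hy => rw [map_add, hx, hy, add_zero]
      | smul r x _ hx => rw [map_smul, hx, smul_zero]
    have := hφ _ hBm
    rw [hdec m m]; exact this
  apply Set.Finite.subset (F.image (fun m => (m, m))).finite_toSet
  rintro ⟨m, m'⟩ hp
  simp only [Set.mem_ofPred_eq] at hp
  by_cases hmm : m = m'
  · subst hmm
    have : m ∈ F := by
      by_contra h; exact hp (key m h)
    simp only [Finset.coe_image, Set.mem_image, Finset.mem_coe]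
    exact ⟨m, this, rfl⟩
  · exact absurd (hdiag m m' hmm) hp

end Groth.Agent.S2978
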