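import Groth.Statements.S3022
import Groth.Agent.Lib.Helper73.DimFormula.GrpFibreDim

set_option autoImplicit false
universe u
open CategoryTheory MonoidalCategory CartesianMonoidalCategory MonObj GrpObj AlgebraicGeometry TensorProduct
open SGA3

namespace Groth.Agent.S3022

/-- Let S be a scheme and G a group scheme over S which is flat and locally of finite presentation. Then
s ↦ dim G_s (the dimension of the fibre, i.e. of the subspace of G lying over s) is a locally
constant function on S. -/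
theorem result (S : Scheme.{u}) (G : Over S) [GrpObj G] [Flat G.hom]
    [LocallyOfFinitePresentation G.hom] :
    IsLocallyConstant (fun s : S => topologicalKrullDim ↥(G.hom.base ⁻¹' {s})) := by
  open Groth.Agent.Lib.Helper73 AlgebraicGeometry CategoryTheory CategoryTheory.Limits TopologicalSpace in
  set f := G.hom with hf
  set e : S ⟶ G.left := (η[G] : 𝟙_ (Over S) ⟶ G).left with he
  have hef : e ≫ f = 𝟙 S := Over.w (η[G] : 𝟙_ (Over S) ⟶ G)
  have hefa : ∀ s : S, f (e s) = s := fun s => by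
    rw [← Scheme.Hom.comp_apply, hef]; rfl
  -- dimension of the set-theoretic fibre = dimension of the scheme-theoretic fibre
  have hd : ∀ s : S, topologicalKrullDim ↥(f.base ⁻¹' {s}) = topologicalKrullDim (f.fiber s) :=
    fun s => (IsHomeomorph.topologicalKrullDim_eq _ (f.fiberHomeo s).isHomeomorph).symm
  -- dimension of the fibre = fibre dimension at the unit section
  have hde : ∀ s : S, topologicalKrullDim (f.fiber s) = FlatMor.fibreDimAt f (e s) := by
    intro s
    have := dim_fiber_eq_fibreDimAt_of_grpObj S G (e s)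
    rw [← this, hefa s]
  -- finiteness
  have hfin : ∀ s : S, ∃ n : ℕ, FlatMor.fibreDimAt f (e s) = ((n : ℕ) : WithBot ℕ∞) := by
    intro s
    obtain ⟨ξ, -, -, -, hξ⟩ := exists_maximal_fiber_resTrdegNat_eq_fibreDimAt f (e s)
    exact ⟨_, hξ⟩
  rw [IsLocallyConstant.iff_exists_open]
  intro s
  obtain ⟨n, hn⟩ := hfin s
  -- upper semicontinuity
  have hU : IsOpen {t : S | FlatMor.fibreDimAt f (e t) ≤ ((n : ℕ) : WithBot ℕ∞)} :=
    (isOpen_fibreDimAt_le n G.left S f).preimage e.continuous
  -- lower semicontinuity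
  have hL : ∀ c : WithBot ℕ∞, IsOpen {t : S | c < topologicalKrullDim (f.fiber t)} := by
    intro c
    rw [isOpen_iff_mem_nhds]
    intro s hs
    obtain ⟨z, hz⟩ := exists_lt_localDim_of_lt_topologicalKrullDim c hs
    have hfz : f (f.fiberι s z) = s := by
      have : f.fiberι s z ∈ Set.range (f.fiberι s) := ⟨_, rfl⟩
      rw [f.range_fiberι s] at this
      exact this
    rw [localDim_fiber_eq_fibreDimAt f (f.fiberι s z) s hfz z rfl] at hz
    obtain ⟨ξ, W, hξx, hfξ, hξW, hW⟩ := exists_open_fibreDimAt_eq_of_flat_fp f (f.fiberι s z)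
    have hopen : IsOpen (f '' (W : Set G.left)) := f.isOpenMap _ W.2
    refine Filter.mem_of_superset (hopen.mem_nhds ⟨ξ, hξW, hfξ.trans hfz⟩) ?_
    rintro _ ⟨w, hw, rfl⟩
    show c < topologicalKrullDim (f.fiber (f w))
    refine lt_of_lt_of_le ?_ (Groth.Agent.Lib.Helper84.localDim_le_dim (f.asFiber w))
    have := hW w hw
    unfold FlatMor.fibreDimAt at this
    rw [this]
    exact hz
  by_cases hn0 : n = 0
  · refine ⟨{t : S | FlatMor.fibreDimAt f (e t) ≤ ((n : ℕ) : WithBot ℕ∞)} ∩
      {t : S | ⊥ < topologicalKrullDim (f.fiber t)}, hU.inter (hL _), ⟨hn.le, ?_⟩, ?_⟩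
    · show ⊥ < topologicalKrullDim (f.fiber s)
      rw [hde s, hn]
      exact WithBot.bot_lt_coe _
    · rintro t ⟨ht1, ht2⟩
      show topologicalKrullDim ↥(f.base ⁻¹' {t}) = topologicalKrullDim ↥(f.base ⁻¹' {s})
      rw [hd, hd, hde s, hn]
      rw [Set.mem_setOf_eq, ← hde t] at ht1
      rw [Set.mem_setOf_eq] at ht2
      subst hn0
      refine le_antisymm ht1 ?_
      exact withBot_enat_zero_le_of_bot_lt _ ht2
  · obtain ⟨m, rfl⟩ := Nat.exists_eq_succ_of_ne_zero hn0
    refine ⟨{t : S | FlatMor.fibreDimAt f (e t) ≤ ((m.succ : ℕ) : WithBot ℕ∞)} ∩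
      {t : S | ((m : ℕ) : WithBot ℕ∞) < topologicalKrullDim (f.fiber t)},
      hU.inter (hL _), ⟨hn.le, ?_⟩, ?_⟩
    · show ((m : ℕ) : WithBot ℕ∞) < topologicalKrullDim (f.fiber s)
      rw [hde s, hn]
      exact_mod_cast Nat.lt_succ_self m
    · rintro t ⟨ht1, ht2⟩
      show topologicalKrullDim ↥(f.base ⁻¹' {t}) = topologicalKrullDim ↥(f.base ⁻¹' {s})
      rw [hd, hd, hde s, hn]
      rw [Set.mem_setOf_eq, ← hde t] at ht1
      rw [Set.mem_setOf_eq] at ht2
      refine le_antisymm ht1 ?_
      exact withBot_enat_succ_le_of_lt _ _ ht2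

end Groth.Agent.S3022
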