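import Groth.Statements.S3025
import Groth.Agent.Lib.Helper78.ConnQC

set_option autoImplicit false
universe u
open CategoryTheory MonoidalCategory CartesianMonoidalCategory MonObj GrpObj AlgebraicGeometry TensorProduct
open SGA3

namespace Groth.Agent.S3025

open Groth.Agent.Lib.Helper78 in

/-- Let S be a scheme and G a group scheme over S which is locally of finite presentation and
universally open over S and whose fibres are connected. Then G is separated and quasi-compact (hence
of finite presentation) over S. -/
theorem result (S : Scheme.{u}) (G : Over S) [GrpObj G]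
    [LocallyOfFinitePresentation G.hom] [UniversallyOpen G.hom]
    (hconn : ∀ s : S, _root_.IsConnected (G.hom.base ⁻¹' {s})) :
    IsSeparated G.hom ∧ QuasiCompact G.hom := by
  refine ⟨?_, ConnQC.quasiCompact_of_connected_fibres G hconn⟩
  let a : AlgGrp.Action G G :=
    { act := μ[G]
      one_act := MonObj.one_mul G
      mul_act := MonObj.mul_assoc G }
  refine HomogSep.isSeparated_of_transitive hconn a ?_
  -- `(g, x) ↦ (g x, x)` has the inverse `(y, x) ↦ (y x⁻¹, x)`
  let Φinv : G ⊗ G ⟶ G ⊗ G := lift (fst G G * (snd G G)⁻¹) (snd G G)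
  have hcomp : Φinv ≫ lift a.act (snd G G) = 𝟙 _ := by
    have h1 : Φinv ≫ μ[G] = fst G G := by
      have : Φinv ≫ μ[G] = (fst G G * (snd G G)⁻¹) * snd G G := by
        rw [Hom.mul_def (fst G G * (snd G G)⁻¹)]
      rw [this, inv_mul_cancel_right]
    have h2 : Φinv ≫ snd G G = snd G G := lift_snd _ _
    rw [comp_lift, h2]
    show lift (Φinv ≫ μ[G]) (snd G G) = 𝟙 _
    rw [h1, lift_fst_snd]
  refine ⟨fun z => ⟨Φinv.left z, ?_⟩⟩
  rw [HomogSep.left_apply_of_eq hcomp]
  rfl

end Groth.Agent.S3025
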