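import Groth.Statements.S3029
import Groth.Agent.Lib.Helper72.TransT
import Groth.Agent.Lib.Helper72.GrpCompQC
import Groth.Agent.Lib.Helper51.CMAtBC
import Groth.Agent.Lib.Helper77.FlatDepth4

set_option autoImplicit false
universe u
open CategoryTheory MonoidalCategory CartesianMonoidalCategory MonObj GrpObj AlgebraicGeometry TensorProduct
open SGA3

namespace Groth.Agent.S3029

open Groth.Agent.Lib.Helper72.TransT Groth.Agent.Lib.Helper72.GrpCompQC IsLocalRing

/-- A point without proper generizations exists on a nonempty scheme. -/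
lemma exists_maximal_point (X : Scheme.{u}) [Nonempty X] :
    ∃ ge : X, ∀ t : X, t ⤳ ge → t = ge := by
  obtain ⟨x⟩ := ‹Nonempty X›
  have hZ := irreducibleComponent_mem_irreducibleComponents x
  obtain ⟨ge, hge⟩ := QuasiSober.sober hZ.1 (isClosed_of_mem_irreducibleComponents _ hZ)
  refine ⟨ge, fun t ht => ?_⟩
  have hsub : irreducibleComponent x ⊆ closure {t} := by
    rw [← hge.def]
    exact specializes_iff_closure_subset.1 ht
  have hirr : IsIrreducible (closure ({t} : Set X)) := isIrreducible_singleton.closure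
  have heq : closure ({t} : Set X) = irreducibleComponent x :=
    (hZ.2 hirr hsub).antisymm hsub |>.symm |> fun h => h.symm
  have hgen : IsGenericPoint t (irreducibleComponent x) := heq
  exact hgen.eq hge

/-- The local ring at a point without proper generizations has dimension zero. -/
lemma ringKrullDim_stalk_eq_zero (X : Scheme.{u}) (ge : X) (hge : ∀ t : X, t ⤳ ge → t = ge) :
    ringKrullDim (X.presheaf.stalk ge) = 0 := by
  have hsub : Subsingleton (PrimeSpectrum (X.presheaf.stalk ge)) := by
    refine ⟨fun p q => ?_⟩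
    have hp : X.fromSpecStalk ge p = ge := hge _ (by
      have : X.fromSpecStalk ge p ∈ Set.range (X.fromSpecStalk ge) := ⟨p, rfl⟩
      rwa [Scheme.range_fromSpecStalk] at this)
    have hq : X.fromSpecStalk ge q = ge := hge _ (by
      have : X.fromSpecStalk ge q ∈ Set.range (X.fromSpecStalk ge) := ⟨q, rfl⟩
      rwa [Scheme.range_fromSpecStalk] at this)
    exact (X.fromSpecStalk ge).isEmbedding.injective (hp.trans hq.symm)
  have h0 : Ring.KrullDimLE 0 (X.presheaf.stalk ge) := by
    rw [Ring.krullDimLE_zero_iff]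
    intro I hI
    have : (⟨I, hI⟩ : PrimeSpectrum (X.presheaf.stalk ge)) = closedPoint _ := Subsingleton.elim _ _
    have hIm : I = maximalIdeal (X.presheaf.stalk ge) := congrArg PrimeSpectrum.asIdeal this
    rw [hIm]
    infer_instance
  exact ringKrullDimZero_iff_ringKrullDim_eq_zero.mp h0

/-- Cohen–Macaulayness is transported between two points with values in a common field
extension. -/
theorem cm_transfer {k K : Type u} [Field k] [Field K] [Algebra k K]
    (G : Over (Spec (CommRingCat.of k))) [GrpObj G] [LocallyOfFiniteType G.hom]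
    (ξ ζ : Over.mk (Spec.map (CommRingCat.ofHom (algebraMap k K))) ⟶ G)
    (h : LocCoh.IsCohenMacaulayLocalRing (G.left.presheaf.stalk (ζ.left (closedPoint K)))) :
    LocCoh.IsCohenMacaulayLocalRing (G.left.presheaf.stalk (ξ.left (closedPoint K))) := by
  let t := Spec.map (CommRingCat.ofHom (algebraMap k K))
  let T : Over (Spec (CommRingCat.of k)) := Over.mk t
  let τ : G ⊗ T ≅ G ⊗ T := trTIso (leftMul G) (ξ * ζ⁻¹)
  have hτ : lift ζ (𝟙 T) ≫ τ.hom = lift ξ (𝟙 T) := by
    rw [trTIso_hom, lift_trT, lift_leftMul, inv_mul_cancel_right]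
  let pt : T.left := closedPoint K
  let π : (G ⊗ T).left ⟶ G.left := Limits.pullback.fst G.hom t
  haveI : IsIso τ.hom.left := inferInstanceAs (IsIso ((Over.forget _).map τ.hom))
  have h12 : τ.hom.left ((lift ζ (𝟙 T)).left pt) = (lift ξ (𝟙 T)).left pt :=
    app_eq (a := (lift ζ (𝟙 T)).left) (b := τ.hom.left) (congrArg Over.Hom.left hτ) pt
  have hπ1 : π ((lift ζ (𝟙 T)).left pt) = ζ.left pt := by
    have h1 : lift ζ (𝟙 T) ≫ fst G T = ζ := lift_fst _ _
    exact app_eq (a := (lift ζ (𝟙 T)).left) (b := (fst G T).left) (congrArg Over.Hom.left h1) pt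
  have hπ2 : π ((lift ξ (𝟙 T)).left pt) = ξ.left pt := by
    have h1 : lift ξ (𝟙 T) ≫ fst G T = ξ := lift_fst _ _
    exact app_eq (a := (lift ξ (𝟙 T)).left) (b := (fst G T).left) (congrArg Over.Hom.left h1) pt
  have hP : IsPullback π (Limits.pullback.snd G.hom t) G.hom t := IsPullback.of_hasPullback _ _
  have key := fun w' => Groth.Agent.Lib.Helper51.isCM_stalk_iff_of_isPullback_of_lft G.hom hP w'
  have c1 : LocCoh.IsCohenMacaulayLocalRing
      ((G ⊗ T).left.presheaf.stalk ((lift ζ (𝟙 T)).left pt)) := by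
    rw [key, hπ1]; exact h
  have c2 : LocCoh.IsCohenMacaulayLocalRing
      ((G ⊗ T).left.presheaf.stalk (τ.hom.left ((lift ζ (𝟙 T)).left pt))) :=
    Groth.Agent.Lib.Helper56.isCohenMacaulayLocalRing_of_ringEquiv
      (asIso (τ.hom.left.stalkMap ((lift ζ (𝟙 T)).left pt))).commRingCatIsoToRingEquiv.symm c1
  rw [h12, key, hπ2] at c2
  exact c2

/-- Two points of a `k`-scheme are both images of points with values in a common field extension
of `k`. -/
lemma exists_common_field {k : Type u} [Field k] (G : Over (Spec (CommRingCat.of k)))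
    (x y : G.left) :
    ∃ (K : Type u) (_ : Field K) (_ : Algebra k K)
      (ξ ζ : Over.mk (Spec.map (CommRingCat.ofHom (algebraMap k K))) ⟶ G),
      ξ.left (closedPoint K) = x ∧ ζ.left (closedPoint K) = y := by
  obtain ⟨a, ha⟩ : ∃ a : Spec (G.left.residueField x) ⟶ Spec (CommRingCat.of k),
      a = G.left.fromSpecResidueField x ≫ G.hom := ⟨_, rfl⟩
  obtain ⟨b, hb⟩ : ∃ b : Spec (G.left.residueField y) ⟶ Spec (CommRingCat.of k),
      b = G.left.fromSpecResidueField y ≫ G.hom := ⟨_, rfl⟩
  obtain ⟨z, -, -⟩ := Scheme.Pullback.exists_preimage_pullback (f := a) (g := b)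
    (closedPoint (G.left.residueField x)) (closedPoint (G.left.residueField y))
    (Subsingleton.elim (α := ↥(Spec (CommRingCat.of k))) _ _)
  obtain ⟨ξ₀, hξ₀⟩ : ∃ ξ₀ : Spec (CommRingCat.of ((Limits.pullback a b).residueField z)) ⟶ G.left,
      ξ₀ = (Limits.pullback a b).fromSpecResidueField z ≫ Limits.pullback.fst a b ≫
        G.left.fromSpecResidueField x := ⟨_, rfl⟩
  obtain ⟨ζ₀, hζ₀⟩ : ∃ ζ₀ : Spec (CommRingCat.of ((Limits.pullback a b).residueField z)) ⟶ G.left,
      ζ₀ = (Limits.pullback a b).fromSpecResidueField z ≫ Limits.pullback.snd a b ≫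
        G.left.fromSpecResidueField y := ⟨_, rfl⟩
  have hcomm : ξ₀ ≫ G.hom = ζ₀ ≫ G.hom := by
    rw [hξ₀, hζ₀, Category.assoc, Category.assoc, Category.assoc, Category.assoc, ← ha, ← hb,
      Limits.pullback.condition]
  have hξpt : ∀ p, ξ₀ p = x := by
    intro p
    rw [hξ₀, Scheme.Hom.comp_apply, Scheme.Hom.comp_apply]
    exact Scheme.fromSpecResidueField_apply _ _
  have hζpt : ∀ p, ζ₀ p = y := by
    intro p
    rw [hζ₀, Scheme.Hom.comp_apply, Scheme.Hom.comp_apply]
    exact Scheme.fromSpecResidueField_apply _ _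

  refine ⟨(Limits.pullback a b).residueField z, inferInstance,
    (Spec.preimage (ξ₀ ≫ G.hom)).hom.toAlgebra, ?_⟩
  letI : Algebra k ((Limits.pullback a b).residueField z) :=
    (Spec.preimage (ξ₀ ≫ G.hom)).hom.toAlgebra
  have ht : Spec.map (CommRingCat.ofHom (algebraMap k ((Limits.pullback a b).residueField z))) =
      ξ₀ ≫ G.hom := Spec.map_preimage _
  exact ⟨Over.homMk ξ₀ ht.symm, Over.homMk ζ₀ (hcomm.symm.trans ht.symm), hξpt _, hζpt _⟩

/-- Let G be a group scheme locally of finite type over a field k and x a point of G. Then the local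
ring of G at x is Cohen–Macaulay. (This is the case of a base field; the published statement treats
flat groups over a local Artinian ring.) -/
theorem result (k : Type u) [Field k] (G : Over (Spec (CommRingCat.of k))) [GrpObj G]
    [LocallyOfFiniteType G.hom] (x : G.left) :
    LocCoh.IsCohenMacaulayLocalRing (G.left.presheaf.stalk x) := by
  haveI : IsLocallyNoetherian G.left := LocallyOfFiniteType.isLocallyNoetherian G.hom
  haveI : Nonempty G.left := ⟨x⟩
  obtain ⟨ge, hge⟩ := exists_maximal_point G.left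
  have hCMge : LocCoh.IsCohenMacaulayLocalRing (G.left.presheaf.stalk ge) :=
    Groth.Agent.Lib.Helper77.FlatDepth.isCM_of_dim_zero _ (ringKrullDim_stalk_eq_zero _ ge hge)
  obtain ⟨K, _, _, ξ, ζ, hξ, hζ⟩ := exists_common_field G x ge
  have := cm_transfer G ξ ζ (by rw [hζ]; exact hCMge)
  rwa [hξ] at this

end Groth.Agent.S3029
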