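import Groth.Statements.S3031
import Groth.Agent.Lib.Helper72.GrpIdentity

set_option autoImplicit false
universe u
open CategoryTheory MonoidalCategory CartesianMonoidalCategory MonObj GrpObj AlgebraicGeometry TensorProduct
open SGA3

namespace Groth.Agent.S3031

/-- With X connected and possessing a rational point over the identity, a case of 'geometrically
connected with e ∈ f(X)': let G be a group scheme over a field k, X a connected, geometrically
reduced k-scheme, x a k-point of X and f : X → G a k-morphism with f(x) the identity. Then the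
smallest closed subgroup scheme of G through which f factors is connected. -/
theorem result (k : Type u) [Field k] (G X : Over (Spec (CommRingCat.of k))) [GrpObj G]
    [GeometricallyReduced X.hom] [ConnectedSpace X.left] (x : 𝟙_ (Over (Spec (CommRingCat.of k))) ⟶ X) (f : X ⟶ G)
    (hx : x ≫ f = η[G])
    (Γ : Over (Spec (CommRingCat.of k))) [GrpObj Γ] (i : Γ ⟶ G) [IsMonHom i] [IsClosedImmersion i.left]
    (hf : ∃ f' : X ⟶ Γ, f' ≫ i = f)
    (hmin : ∀ (Γ' : Over (Spec (CommRingCat.of k))) (_ : GrpObj Γ') (i' : Γ' ⟶ G), IsMonHom i' → IsClosedImmersion i'.left →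
        (∃ f'' : X ⟶ Γ', f'' ≫ i' = f) → ∃ j : Γ ⟶ Γ', j ≫ i' = i) :
    ConnectedSpace Γ.left := by
  haveI : Mono i := Over.mono_of_mono_left i
  obtain ⟨f', hf'⟩ := hf
  obtain ⟨Γ₀, inst, incl, hmon, hcl, hflat, hrange, -, -⟩ :=
    Groth.Agent.Lib.Helper72.GrpConn.exists_identityComponent Γ
  have hxe : x ≫ f' = η[Γ] := by
    rw [← cancel_mono i, Category.assoc, hf', hx, IsMonHom.one_hom]
  have hsub : Set.range f'.left ⊆ Set.range incl.left := by
    rw [hrange]
    have hconn : _root_.IsPreconnected (Set.range f'.left) :=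
      isPreconnected_range f'.left.continuous
    have he : Groth.Agent.Lib.Helper72.GrpComp.ePt Γ ∈ Set.range f'.left := by
      refine ⟨x.left (IsLocalRing.closedPoint k), ?_⟩
      rw [← Scheme.Hom.comp_apply, ← Over.comp_left, hxe]
      rfl
    exact hconn.subset_connectedComponent he
  haveI : Flat (Limits.pullback.snd incl.left f'.left) := inferInstance
  haveI : IsClosedImmersion (Limits.pullback.snd incl.left f'.left) := inferInstance
  haveI : Surjective (Limits.pullback.snd incl.left f'.left) := ⟨fun y => by
    obtain ⟨g₀, hg₀⟩ := hsub ⟨y, rfl⟩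
    obtain ⟨z, hz1, hz2⟩ := Scheme.Pullback.exists_preimage_pullback g₀ y hg₀
    exact ⟨z, hz2⟩⟩
  haveI : IsIso (Limits.pullback.snd incl.left f'.left) := Flat.isIso_of_surjective_of_mono _
  let gl : X.left ⟶ Γ₀.left := inv (Limits.pullback.snd incl.left f'.left) ≫ Limits.pullback.fst incl.left f'.left
  have hgl : gl ≫ incl.left = f'.left := by
    simp only [gl, Category.assoc, Limits.pullback.condition, IsIso.inv_hom_id_assoc]
  let g : X ⟶ Γ₀ := Over.homMk gl (by
    rw [← Over.w incl, ← Category.assoc, hgl, Over.w])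
  have hg : g ≫ incl = f' := Over.OverMorphism.ext hgl
  haveI : IsClosedImmersion (incl ≫ i).left := by rw [Over.comp_left]; infer_instance
  obtain ⟨j, hj⟩ := hmin Γ₀ inst (incl ≫ i) inferInstance inferInstance
    ⟨g, by rw [← Category.assoc, hg, hf']⟩
  have hji : j ≫ incl = 𝟙 Γ := by
    rw [← cancel_mono i, Category.assoc, hj, Category.id_comp]
  have hsurj : Set.range incl.left = Set.univ := by
    ext y
    simp only [Set.mem_range, Set.mem_univ, iff_true]
    refine ⟨j.left y, ?_⟩
    rw [← Scheme.Hom.comp_apply, ← Over.comp_left, hji]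
    rfl
  rw [hrange] at hsurj
  exact connectedSpace_iff_connectedComponent.2 ⟨_, hsurj⟩

end Groth.Agent.S3031
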