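import Groth.Statements.S3032
import Groth.Agent.Lib.Helper10.ComodRing
import Mathlib.RingTheory.Noetherian.Basic
-- import your own Groth.Agent.* helpers here

set_option autoImplicit false
universe u
open CategoryTheory MonoidalCategory CartesianMonoidalCategory MonObj GrpObj AlgebraicGeometry TensorProduct
open SGA3

namespace Groth.Agent.S3032
open Groth.Agent.Lib.Helper10.ComodRing

section aux

variable {R : Type u} [CommRing R] {C V N' Q : Type u} [AddCommGroup C] [Module R C]
  [AddCommGroup V] [Module R V] [AddCommGroup N'] [Module R N'] [AddCommGroup Q] [Module R Q]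

lemma key_aux (f : N' →ₗ[R] V) (q : V →ₗ[R] Q) (hqf : ∀ n, q (f n) = 0)
    (Δ : C →ₗ[R] C ⊗[R] C) (z : N' ⊗[R] C) :
    ((q.rTensor C).rTensor C) ((TensorProduct.assoc R V C C).symm
      (Δ.lTensor V (f.rTensor C z))) = 0 := by
  induction z using TensorProduct.induction_on with
  | zero => simp
  | add x y hx hy => simp only [map_add, hx, hy, add_zero]
  | tmul n c =>
    rw [LinearMap.rTensor_tmul, LinearMap.lTensor_tmul]
    generalize Δ c = w
    induction w using TensorProduct.induction_on with
    | zero => simp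
    | add x y hx hy => simp only [TensorProduct.tmul_add, map_add, hx, hy, add_zero]
    | tmul a b =>
      rw [TensorProduct.assoc_symm_tmul, LinearMap.rTensor_tmul, LinearMap.rTensor_tmul, hqf,
        TensorProduct.zero_tmul, TensorProduct.zero_tmul]

lemma key (f : N' →ₗ[R] V) (q : V →ₗ[R] Q) (hqf : ∀ n, q (f n) = 0)
    (ρ : V →ₗ[R] V ⊗[R] C) (Δ : C →ₗ[R] C ⊗[R] C)
    (hco : (TensorProduct.assoc R V C C).toLinearMap ∘ₗ ρ.rTensor C ∘ₗ ρ = Δ.lTensor V ∘ₗ ρ)
    (v : V) (z : N' ⊗[R] C) (hz : ρ v = f.rTensor C z) :
    ((q.rTensor C ∘ₗ ρ).rTensor C) (ρ v) = 0 := by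
  have h1 : ρ.rTensor C (ρ v) = (TensorProduct.assoc R V C C).symm (Δ.lTensor V (ρ v)) := by
    have := LinearMap.congr_fun hco v
    simp only [LinearMap.coe_comp, Function.comp_apply, LinearEquiv.coe_coe] at this
    rw [← this, LinearEquiv.symm_apply_apply]
  rw [LinearMap.rTensor_comp, LinearMap.comp_apply, h1, hz]
  exact key_aux f q hqf Δ z

end aux

/-- Let R be a Noetherian commutative ring, C an R-coalgebra which is flat as an R-module, V a
C-comodule and M a finitely generated R-submodule of V. Then M is contained in a subcomodule of V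
which is finitely generated over R. -/
theorem result (R : Type u) [CommRing R] [IsNoetherianRing R] (C : Type u) [AddCommGroup C]
    [Module R C] [Coalgebra R C] [Module.Flat R C] (V : Type u) [AddCommGroup V] [Module R V] [HopfRep.Comod R C V]
    (M : Submodule R V) (hM : M.FG) :
    ∃ W : Submodule R V, HopfRep.IsSubcomod (k := R) (A := C) W ∧ M ≤ W ∧ W.FG := by
  classical
  let c : HopfRep.Comod R C V := inferInstance
  obtain ⟨t, ht⟩ := hM
  have hex : ∀ m : V, ∃ s : Finset V,
      c.coact m ∈ LinearMap.range ((Submodule.span R (s : Set V)).subtype.rTensor C) :=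
    fun m => exists_finset_mem_range (c.coact m)
  choose sm hsm using hex
  let N : Submodule R V := Submodule.span R ((t.biUnion sm : Finset V) : Set V)
  have hN : N.FG := ⟨_, rfl⟩
  have mono : ∀ {N₁ N₂ : Submodule R V}, N₁ ≤ N₂ →
      LinearMap.range (N₁.subtype.rTensor C) ≤ LinearMap.range (N₂.subtype.rTensor C) := by
    intro N₁ N₂ h
    rintro _ ⟨z, rfl⟩
    refine ⟨(Submodule.inclusion h).rTensor C z, ?_⟩
    rw [← LinearMap.rTensor_comp_apply]
    rfl
  have hMP : ∀ m ∈ M, c.coact m ∈ LinearMap.range (N.subtype.rTensor C) := by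
    intro m hm
    rw [← ht] at hm
    induction hm using Submodule.span_induction with
    | mem x hx =>
      refine mono (Submodule.span_mono ?_) (hsm x)
      intro v hv
      exact Finset.mem_coe.2 (Finset.mem_biUnion.2 ⟨x, hx, hv⟩)
    | zero => rw [map_zero]; exact Submodule.zero_mem _
    | add x y _ _ hx hy => rw [map_add]; exact Submodule.add_mem _ hx hy
    | smul a x _ hx => rw [map_smul]; exact Submodule.smul_mem _ a hx
  let W : Submodule R V := (LinearMap.range (N.subtype.rTensor C)).comap c.coact
  have hWN : W ≤ N := by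
    intro v hv
    have := slice_mem_of_mem_range N _ hv (CoalgebraStruct.counit (R := R) (A := C))
    rwa [slice_counit_coact] at this
  have hWfg : W.FG := by
    have : IsNoetherian R N := isNoetherian_of_fg_of_noetherian N hN
    have hW : W = (W.comap N.subtype).map N.subtype := by
      rw [Submodule.map_comap_subtype, inf_eq_right.2 hWN]
    rw [hW]
    exact Submodule.FG.map _ (IsNoetherian.noetherian _)
  refine ⟨W, ?_, hMP, hWfg⟩
  intro v hv
  let φ : V →ₗ[R] (V ⧸ N) ⊗[R] C := (N.mkQ.rTensor C) ∘ₗ c.coact
  have hWker : W = LinearMap.ker φ := by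
    ext x
    change c.coact x ∈ LinearMap.range (N.subtype.rTensor C) ↔ (N.mkQ.rTensor C) (c.coact x) = 0
    rw [← rTensor_mkQ, LinearMap.mem_ker]
  have hexact : Function.Exact (W.subtype.rTensor C) (φ.rTensor C) := by
    apply Module.Flat.rTensor_exact C
    rw [hWker]
    exact LinearMap.exact_subtype_ker_map φ
  apply (hexact (c.coact v)).1
  obtain ⟨z, hz⟩ := hv
  exact key N.subtype N.mkQ (fun n => by simp) c.coact _ c.coassoc v z hz.symm

end Groth.Agent.S3032
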