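import Groth.Statements.S3033
import Groth.Agent.Lib.Helper72.ArtinRed
import Groth.Agent.Lib.Helper72.HomogDim

set_option autoImplicit false
universe u
open CategoryTheory MonoidalCategory CartesianMonoidalCategory MonObj GrpObj AlgebraicGeometry TensorProduct
open SGA3

namespace Groth.Agent.S3033

/-- Let A be a local artinian ring and G a group scheme locally of finite type over A acting on a
nonempty A-scheme X locally of finite type, such that the morphism G ×_A X → X ×_A X, (g, x) ↦ (g·x,
x), is surjective. Then all connected components of X have the same dimension. The published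
statement also asserts that the connected components are irreducible; that is not asserted here (it
is stated separately). -/
theorem result (A : Type u) [CommRing A] [IsArtinianRing A] [IsLocalRing A]
    (G X : Over (Spec (CommRingCat.of A))) [GrpObj G] [LocallyOfFiniteType G.hom] [LocallyOfFiniteType X.hom] [Nonempty X.left]
    (a : AlgGrp.Action G X) (hΦ : Surjective (lift a.act (snd G X)).left) (x y : X.left) :
    topologicalKrullDim ↥(connectedComponent x) = topologicalKrullDim ↥(connectedComponent y) := by
  open Groth.Agent.Lib.Helper72 in
  let f := ArtinRed.clPt A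
  let h : (Red.bc f X).left ≃ₜ X.left := ArtinRed.homeo X
  -- the base-changed action is again "transitive"
  have hΦ₀ : ∀ x₀ y₀ : (Red.bc f X).left, ∃ w : (Red.bc f G ⊗ Red.bc f X).left,
      (a.bc f).act.left w = x₀ ∧ (snd (Red.bc f G) (Red.bc f X)).left w = y₀ := by
    intro x₀ y₀
    have hxy : X.hom (h x₀) = X.hom (h y₀) := (ArtinRed.subsingleton_spec A).elim _ _
    obtain ⟨z', hz'x, hz'y⟩ := Scheme.Pullback.exists_preimage_pullback (h x₀) (h y₀) hxy
    obtain ⟨w', hw'⟩ := hΦ.surj z'
    have hw'x : a.act.left w' = h x₀ := by
      have e : lift a.act (snd G X) ≫ fst X X = a.act := lift_fst _ _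
      have := GrpCompQC.app_eq (a := (lift a.act (snd G X)).left) (b := (fst X X).left)
        (congrArg Over.Hom.left e) w'
      rw [← this, hw']
      exact hz'x
    have hw'y : (snd G X).left w' = h y₀ := by
      have e : lift a.act (snd G X) ≫ snd X X = snd G X := lift_snd _ _
      have := GrpCompQC.app_eq (a := (lift a.act (snd G X)).left) (b := (snd X X).left)
        (congrArg Over.Hom.left e) w'
      rw [← this, hw']
      exact hz'y
    -- lift `w'` to the base change
    let c : (Red.bc f G ⊗ Red.bc f X).left ⟶ (G ⊗ X).left :=
      (Functor.LaxMonoidal.μ (Over.pullback f) G X).left ≫ Limits.pullback.fst (G ⊗ X).hom f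
    haveI : IsIso (Functor.LaxMonoidal.μ (Over.pullback f) G X).left :=
      inferInstanceAs (IsIso ((Over.forget _).map (Functor.LaxMonoidal.μ (Over.pullback f) G X)))
    haveI : Surjective (Limits.pullback.fst (G ⊗ X).hom f) := inferInstance
    have hc : Function.Surjective c := by
      intro q
      obtain ⟨q₁, hq₁⟩ := (Limits.pullback.fst (G ⊗ X).hom f).surjective q
      obtain ⟨q₂, hq₂⟩ :=
        (Functor.LaxMonoidal.μ (Over.pullback f) G X).left.surjective q₁
      exact ⟨q₂, by rw [Scheme.Hom.comp_apply, hq₂, hq₁]⟩
    obtain ⟨w, hw⟩ := hc w'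
    have hact : (a.bc f).act.left ≫ Limits.pullback.fst X.hom f = c ≫ a.act.left := by
      rw [AlgGrp.Action.bc_act, Over.comp_left, Category.assoc, ActBC.pullback_map_left_fst,
        Category.assoc]
    have hsnd : (snd (Red.bc f G) (Red.bc f X)).left ≫ Limits.pullback.fst X.hom f =
        c ≫ (snd G X).left := by
      rw [Category.assoc]
      exact (ActBC.μ_left_fst_snd f G X).symm
    refine ⟨w, h.injective ?_, h.injective ?_⟩
    · have e1 := GrpCompQC.app_eq hact w
      have e2 : a.act.left (c w) = h x₀ := by rw [hw, hw'x]
      exact e1.trans ((Scheme.Hom.comp_apply _ _ _).trans e2)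
    · have e1 := GrpCompQC.app_eq hsnd w
      have e2 : (snd G X).left (c w) = h y₀ := by rw [hw, hw'y]
      exact e1.trans ((Scheme.Hom.comp_apply _ _ _).trans e2)
  have key := HomogDim.dim_connectedComponent_eq (a.bc f) hΦ₀ (h.symm x) (h.symm y)
  -- transport along the homeomorphism
  have htr : ∀ z : X.left, topologicalKrullDim ↥(connectedComponent (h.symm z)) =
      topologicalKrullDim ↥(connectedComponent z) := by
    intro z
    have himg : h '' connectedComponent (h.symm z) = connectedComponent z := by
      rw [GrpCompQC.image_connectedComponent, h.apply_symm_apply]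
    rw [← himg]
    exact IsHomeomorph.topologicalKrullDim_eq _ (h.image (connectedComponent (h.symm z))).isHomeomorph
  rw [← htr x, ← htr y]
  exact key

end Groth.Agent.S3033
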