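import Groth.Statements.S3043
import Mathlib.Tactic

set_option autoImplicit false
universe u
open CategoryTheory MonoidalCategory CartesianMonoidalCategory MonObj GrpObj AlgebraicGeometry TensorProduct
open SGA3

namespace Groth.Agent.S3043

theorem sec_apply {X S : Scheme.{u}} (π : X ⟶ S) (ε : S ⟶ X) (hε : ε ≫ π = 𝟙 S)
    (hinj : Function.Injective π.base) (x : X) : ε.base (π.base x) = x := by
  apply hinj
  have := congr_arg (fun f : S ⟶ S => f.base (π.base x)) hε
  simpa using this

theorem key {V U : Scheme.{u}} [CompactSpace V] (p : V ⟶ U) (e : U ⟶ V) (he : e ≫ p = 𝟙 U)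
    (hinj : Function.Injective p.base) : RingHom.IsIntegral p.appTop.hom := by
  have hρφ : ∀ a : Γ(U, ⊤), e.appTop.hom (p.appTop.hom a) = a := by
    intro a
    have h1 : p.appTop ≫ e.appTop = 𝟙 _ := by
      rw [← Scheme.Hom.comp_appTop, he]; simp
    have := congr_arg (fun g => g.hom a) h1
    simpa using this
  have hnil : ∀ b : Γ(V, ⊤), e.appTop.hom b = 0 → IsNilpotent b := by
    intro b hb
    rw [Scheme.isNilpotent_iff_basicOpen_eq_bot]
    rw [eq_bot_iff]
    intro x hx
    have hx' : e.base (p.base x) = x := sec_apply p e he hinj x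
    have h2 : p.base x ∈ e ⁻¹ᵁ (V.basicOpen b) := by
      show e.base (p.base x) ∈ V.basicOpen b
      rw [hx']; exact hx
    rw [Scheme.preimage_basicOpen] at h2
    have h3 : e.app ⊤ b = 0 := hb
    rw [h3, Scheme.basicOpen_zero] at h2
    exact h2
  intro b
  have hb : b = p.appTop.hom (e.appTop.hom b) + (b - p.appTop.hom (e.appTop.hom b)) := by ring
  rw [hb]
  apply RingHom.IsIntegralElem.add
  · exact RingHom.isIntegralElem_map _
  · have hn : IsNilpotent (b - p.appTop.hom (e.appTop.hom b)) := by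
      apply hnil
      rw [map_sub, hρφ, sub_self]
    obtain ⟨n, hn⟩ := hn
    refine ⟨Polynomial.X ^ n, Polynomial.monic_X_pow n, ?_⟩
    simp [Polynomial.eval₂_pow, hn]



/-- Let π : X → S be a morphism of schemes admitting a section ε (ε followed by π is the identity). If π
is injective on underlying points, then π is an integral morphism. -/
theorem result (X S : Scheme.{u}) (π : X ⟶ S) (ε : S ⟶ X) (hε : ε ≫ π = 𝟙 S)
    (hinj : Function.Injective π.base) : IsIntegralHom π := by
  have hεπ := sec_apply π ε hε hinj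
  apply IsZariskiLocalAtTarget.of_forall_exists_morphismRestrict (P := @IsIntegralHom)
  intro s
  obtain ⟨_, ⟨U0, hU0, rfl⟩, hsU0, -⟩ :=
    S.isBasis_affineOpens.exists_subset_of_mem_open (Set.mem_univ s) isOpen_univ
  have hεs : ε.base s ∈ π ⁻¹ᵁ U0 := by
    show π.base (ε.base s) ∈ U0
    have := congr_arg (fun f : S ⟶ S => f.base s) hε
    simp only [Scheme.Hom.comp_base, Scheme.Hom.id_base] at this
    have h2 : π.base (ε.base s) = s := by simpa using this
    rw [h2]; exact hsU0
  obtain ⟨_, ⟨W, hW, rfl⟩, hεsW, hWle⟩ :=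
    X.isBasis_affineOpens.exists_subset_of_mem_open hεs (π ⁻¹ᵁ U0).isOpen
  obtain ⟨f, hfle, hsf⟩ := IsAffineOpen.exists_basicOpen_le hU0 (V := ε ⁻¹ᵁ W) ⟨s, hεsW⟩ hsU0
  refine ⟨S.basicOpen f, hsf, ?_⟩
  have hUaff : IsAffineOpen (S.basicOpen f) := hU0.basicOpen f
  have hpre : π ⁻¹ᵁ (S.basicOpen f) = X.basicOpen (X.presheaf.map (homOfLE hWle).op (π.app U0 f)) := by
    rw [Scheme.basicOpen_res, ← Scheme.preimage_basicOpen]
    apply le_antisymm
    · intro x hx
      refine ⟨?_, hx⟩
      have : ε.base (π.base x) ∈ W := hfle hx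
      rwa [hεπ] at this
    · exact inf_le_right
  have hVaff : IsAffineOpen (π ⁻¹ᵁ (S.basicOpen f)) := by
    rw [hpre]; exact hW.basicOpen _
  have : IsAffine (S.basicOpen f).toScheme := hUaff
  have : IsAffine (π ⁻¹ᵁ (S.basicOpen f)).toScheme := hVaff
  rw [HasAffineProperty.iff_of_isAffine (P := @IsIntegralHom)]
  refine ⟨hVaff, ?_⟩
  have hrange : Set.range ((S.basicOpen f).ι ≫ ε).base ⊆ Set.range (π ⁻¹ᵁ (S.basicOpen f)).ι.base := by
    rintro _ ⟨y, rfl⟩
    rw [Scheme.Opens.range_ι]
    show π.base (((S.basicOpen f).ι ≫ ε).base y) ∈ S.basicOpen f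
    have := congr_arg (fun g : S ⟶ S => g.base ((S.basicOpen f).ι.base y)) hε
    simp only [Scheme.Hom.comp_base, Scheme.Hom.id_base] at this
    have h2 : π.base (ε.base ((S.basicOpen f).ι.base y)) = (S.basicOpen f).ι.base y := by simpa using this
    simp only [Scheme.Hom.comp_base, TopCat.hom_comp, ContinuousMap.comp_apply]
    rw [h2]
    exact y.2
  let ε' : (S.basicOpen f).toScheme ⟶ (π ⁻¹ᵁ (S.basicOpen f)).toScheme :=
    IsOpenImmersion.lift (π ⁻¹ᵁ (S.basicOpen f)).ι ((S.basicOpen f).ι ≫ ε) hrange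
  have hε' : ε' ≫ (π ∣_ (S.basicOpen f)) = 𝟙 _ := by
    rw [← cancel_mono (S.basicOpen f).ι, Category.assoc, morphismRestrict_ι,
      IsOpenImmersion.lift_fac_assoc, Category.assoc, hε, Category.comp_id, Category.id_comp]
  have hinj' : Function.Injective (π ∣_ (S.basicOpen f)).base := by
    intro a b hab
    apply (π ⁻¹ᵁ (S.basicOpen f)).ι.injective
    apply hinj
    have h1 := congr_arg (fun g => g.base a) (morphismRestrict_ι π (S.basicOpen f))
    have h2 := congr_arg (fun g => g.base b) (morphismRestrict_ι π (S.basicOpen f))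
    simp only [Scheme.Hom.comp_base, TopCat.hom_comp, ContinuousMap.comp_apply] at h1 h2
    rw [← h1, ← h2, hab]
  exact key _ ε' hε' hinj'

end Groth.Agent.S3043
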