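import Groth.Statements.S3045
import Mathlib.Tactic
-- import your own Groth.Agent.* helpers here

set_option autoImplicit false
universe u
open TensorProduct
open SGA3

namespace Groth.Agent.S3045

section
variable (k : Type u) [CommRing k] (A : Type u) [CommRing A] [HopfAlgebra k A]

noncomputable def conv2 {C : Type u} [CommRing C] [Algebra k C] (f g : A →ₐ[k] C) : A →ₐ[k] C :=
  (Algebra.TensorProduct.lmul' (S := C) k).comp
    ((Algebra.TensorProduct.map f g).comp (Bialgebra.comulAlgHom k A))

lemma conv3_unit {C : Type u} [CommRing C] [Algebra k C] (f g : A →ₐ[k] C) (a : A) :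
    Dyn.conv3 k A f g ((Algebra.ofId k C).comp (Bialgebra.counitAlgHom k A)) a = conv2 k A f g a := by
  unfold Dyn.conv3 conv2
  simp only [AlgHom.comp_apply]
  have h1 : (Algebra.TensorProduct.map (AlgHom.id k A) (Bialgebra.counitAlgHom k A))
      (Bialgebra.comulAlgHom k A a) = a ⊗ₜ[k] (1 : k) := by
    have := Coalgebra.lTensor_counit_comul (R := k) a
    exact this
  set F := (Algebra.TensorProduct.lmul' (S := C) k).comp
    ((Algebra.TensorProduct.map f g)) with hF
  have h2 : ∀ z : A ⊗[k] A,
      (Algebra.TensorProduct.map ((Algebra.TensorProduct.lmul' (S := C) k).comp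
        (Algebra.TensorProduct.map f g)) ((Algebra.ofId k C).comp (Bialgebra.counitAlgHom k A)))
        ((Algebra.TensorProduct.map (Bialgebra.comulAlgHom k A) (AlgHom.id k A)) z) =
      (Algebra.TensorProduct.map (F.comp (Bialgebra.comulAlgHom k A)) (Algebra.ofId k C))
        ((Algebra.TensorProduct.map (AlgHom.id k A) (Bialgebra.counitAlgHom k A)) z) := by
    intro z
    induction z using TensorProduct.induction_on with
    | zero => simp
    | tmul x y => simp [hF]
    | add x y hx hy => simp only [map_add, hx, hy]
  rw [h2, h1]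
  simp [hF]

end

/-- Let A be a commutative Hopf algebra over a commutative ring k (the coordinate ring of an affine
group G = Spec A) and φ, ψ two k[ε]-valued points of G reducing to the unit point modulo ε (tangent
vectors at the identity). Then for every a ∈ A the ε-component of the product point φ · ψ at a — the
product of points being convolution, formed here as the triple convolution of φ, ψ and the unit
point — is the sum of the ε-components of φ(a) and ψ(a): on tangent vectors at the identity the
group law of G induces addition. -/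
theorem result (k : Type u) [CommRing k] (A : Type u) [CommRing A] [HopfAlgebra k A]
    (φ ψ : LieHopf.LiePts k A) (a : A) :
    TrivSqZeroExt.snd (Dyn.conv3 k A φ.1 ψ.1 ((Algebra.ofId k (DualNumber k)).comp (Bialgebra.counitAlgHom k A)) a) =
      LieHopf.LiePts.tangent k A φ a + LieHopf.LiePts.tangent k A ψ a := by
  rw [conv3_unit]
  unfold conv2
  simp only [AlgHom.comp_apply]
  let r := Coalgebra.Repr.arbitrary k a
  have hr : Bialgebra.comulAlgHom k A a = ∑ i ∈ r.index, r.left i ⊗ₜ[k] r.right i := r.eq.symm
  rw [hr]
  simp only [map_sum, Algebra.TensorProduct.map_tmul, Algebra.TensorProduct.lmul'_apply_tmul,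
    TrivSqZeroExt.snd_sum, TrivSqZeroExt.snd_mul, φ.2, ψ.2]
  let Dφ : A →ₗ[k] k := (TrivSqZeroExt.sndHom k k) ∘ₗ φ.1.toLinearMap
  let Dψ : A →ₗ[k] k := (TrivSqZeroExt.sndHom k k) ∘ₗ ψ.1.toLinearMap
  have e1 := Coalgebra.sum_counit_tmul_map_eq (R := k) Dψ a (repr := r)
  have e2 := Coalgebra.sum_map_tmul_counit_eq (R := k) Dφ a (repr := r)
  have e1' := congrArg (LinearMap.mul' k k) e1
  have e2' := congrArg (LinearMap.mul' k k) e2
  simp only [map_sum, LinearMap.mul'_apply, one_mul, mul_one] at e1' e2'
  rw [Finset.sum_add_distrib]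
  show _ = Dφ a + Dψ a
  rw [← e1', ← e2', add_comm]
  congr 1

end Groth.Agent.S3045
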