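import Groth.Statements.S3046
import Mathlib

set_option autoImplicit false
universe u
open TensorProduct
open SGA3

namespace Groth.Agent.S3046

section Aux

open WithConv

variable (k : Type u) [CommRing k] (A : Type u) [CommRing A] [HopfAlgebra k A]
  (R : Type u) [CommRing R] [Algebra k R]

/-- the convolution ring -/
abbrev CC := WithConv (A →ₗ[k] R)

variable {k A R}

/-- linear map underlying a point -/
noncomputable def L (f : A →ₐ[k] R) : CC k A R := toConv f.toLinearMap

theorem conv3_eq (f g h : A →ₐ[k] R) :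
    Dyn.conv3 k A f g h = (toConv f * toConv g * toConv h).ofConv := by
  simp only [AlgHom.convMul_def, Dyn.conv3, ofConv_toConv]
  congr 1
  rw [← AlgHom.comp_assoc, ← Algebra.TensorProduct.map_comp, AlgHom.comp_id, AlgHom.comp_assoc]

theorem L_conv3 (f g h : A →ₐ[k] R) : L (Dyn.conv3 k A f g h) = L f * L g * L h := by
  rw [conv3_eq]
  exact (AlgHom.toLinearMap_convMul _ _).trans (congrArg (· * L h) (AlgHom.toLinearMap_convMul _ _))

theorem L_one : L ((Algebra.ofId k R).comp (Bialgebra.counitAlgHom k A)) = 1 :=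
  AlgHom.toLinearMap_convOne

theorem L_inv_mul (f : A →ₐ[k] R) : L (f.comp (HopfAlgebra.antipodeAlgHom k A)) * L f = 1 := by
  have h := LinearMap.algHom_comp_convMul_distrib f
    (toConv (HopfAlgebra.antipode k (A := A))) (toConv LinearMap.id)
  rw [LinearMap.antipode_mul_id] at h
  apply WithConv.ext
  refine Eq.trans ?_ (h.symm.trans ?_)
  · rfl
  · apply LinearMap.ext
    intro a
    simp

/-- the linear map `a ↦ D a` as element of the convolution ring -/
noncomputable def dl (D : A →ₗ[k] k) : CC k A R := toConv (Algebra.linearMap k R ∘ₗ D)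

theorem dl_mul (D E : A →ₗ[k] k) :
    (dl D * dl E : CC k A R) = dl (LieHopf.conv D E) := by
  apply WithConv.ext
  simp only [LinearMap.convMul_def, dl, ofConv_toConv, LieHopf.conv]
  have : LinearMap.mul' k R ∘ₗ TensorProduct.map (Algebra.linearMap k R ∘ₗ D) (Algebra.linearMap k R ∘ₗ E) =
      Algebra.linearMap k R ∘ₗ LinearMap.mul' k k ∘ₗ TensorProduct.map D E := by
    apply TensorProduct.ext'
    intro x y
    simp
  rw [← LinearMap.comp_assoc, this]
  simp only [LinearMap.comp_assoc]

theorem L_pt (D : LieHopf.Lie k A) (t : R) (ht : t * t = 0) :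
    L (LieHopf.ptOfLie D R t ht) = 1 + t • (dl (LieHopf.dlin D) : CC k A R) := by
  apply WithConv.ext
  apply LinearMap.ext
  intro a
  simp [L, dl, LieHopf.ptOfLie, mul_comm]


theorem comm_expand {S : Type*} [Ring S] (a b : S) (haa : a * a = 0) (hbb : b * b = 0)
    (haba : a * b * a = 0) (hbab : b * a * b = 0) :
    (1 + a) * (1 + b) * (1 - a) * (1 - b) = 1 + (a * b - b * a) := by
  have h1 : (1 + a) * (1 + b) * (1 - a) = 1 + b + a * b - b * a - (a * a) - a * b * a := by
    noncomm_ring
  rw [h1, haa, haba, sub_zero, sub_zero]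
  have h2 : (1 + b + a * b - b * a) * (1 - b) =
      1 + (a * b - b * a) - b * b - a * (b * b) + b * a * b := by noncomm_ring
  rw [h2, hbb, hbab]; simp

theorem L_apply (f : A →ₐ[k] R) (a : A) : (L f) a = f a := rfl

theorem inv_pt (x : A →ₐ[k] R) (c : CC k A R) (hx : L x = 1 + c) (hcc : c * c = 0) :
    L (x.comp (HopfAlgebra.antipodeAlgHom k A)) = 1 - c := by
  have h1 : L (x.comp (HopfAlgebra.antipodeAlgHom k A)) * L x = 1 := L_inv_mul x
  have h2 : L x * (1 - c) = 1 := by
    rw [hx]
    have : (1 + c) * (1 - c) = 1 - c * c := by noncomm_ring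
    rw [this, hcc, sub_zero]
  exact left_inv_eq_right_inv h1 h2

theorem main (D E : LieHopf.Lie k A) (t t' : R) (ht : t * t = 0) (ht' : t' * t' = 0)
    (a : A) :
    Dyn.conv3 k A
        (Dyn.conv3 k A (LieHopf.ptOfLie D R t ht) (LieHopf.ptOfLie E R t' ht')
          ((LieHopf.ptOfLie D R t ht).comp (HopfAlgebra.antipodeAlgHom k A)))
        ((LieHopf.ptOfLie E R t' ht').comp (HopfAlgebra.antipodeAlgHom k A))
        ((Algebra.ofId k R).comp (Bialgebra.counitAlgHom k A)) a =
      algebraMap k R (Bialgebra.counitAlgHom k A a) +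
        algebraMap k R (LieHopf.bracketLin D E a) * (t * t') := by
  set δD : CC k A R := dl (LieHopf.dlin D) with hδD
  set δE : CC k A R := dl (LieHopf.dlin E) with hδE
  have hx : L (LieHopf.ptOfLie D R t ht) = 1 + t • δD := L_pt D t ht
  have hy : L (LieHopf.ptOfLie E R t' ht') = 1 + t' • δE := L_pt E t' ht'
  have haa : (t • δD) * (t • δD) = 0 := by rw [smul_mul_smul_comm, ht, zero_smul]
  have hbb : (t' • δE) * (t' • δE) = 0 := by rw [smul_mul_smul_comm, ht', zero_smul]
  have haba : (t • δD) * (t' • δE) * (t • δD) = 0 := by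
    rw [smul_mul_smul_comm, smul_mul_smul_comm, mul_right_comm, ht, zero_mul, zero_smul]
  have hbab : (t' • δE) * (t • δD) * (t' • δE) = 0 := by
    rw [smul_mul_smul_comm, smul_mul_smul_comm, mul_right_comm, ht', zero_mul, zero_smul]
  have hxi := inv_pt _ _ hx haa
  have hyi := inv_pt _ _ hy hbb
  have key : L (Dyn.conv3 k A
        (Dyn.conv3 k A (LieHopf.ptOfLie D R t ht) (LieHopf.ptOfLie E R t' ht')
          ((LieHopf.ptOfLie D R t ht).comp (HopfAlgebra.antipodeAlgHom k A)))
        ((LieHopf.ptOfLie E R t' ht').comp (HopfAlgebra.antipodeAlgHom k A))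
        ((Algebra.ofId k R).comp (Bialgebra.counitAlgHom k A))) =
      1 + (t * t') • (dl (LieHopf.conv (LieHopf.dlin D) (LieHopf.dlin E)) -
        dl (LieHopf.conv (LieHopf.dlin E) (LieHopf.dlin D)) : CC k A R) := by
    rw [L_conv3, L_conv3, L_one, mul_one, hx, hy, hxi, hyi, comm_expand _ _ haa hbb haba hbab,
      smul_mul_smul_comm, smul_mul_smul_comm, mul_comm t' t, ← smul_sub, dl_mul, dl_mul]
  rw [← L_apply, key]
  simp [dl, LieHopf.bracketLin, LieHopf.dlin]
  ring


end Aux

/-- Let A be a commutative Hopf algebra over a commutative ring k, D and E two ε-derivations A → k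
(tangent vectors at the identity of G = Spec A), R a commutative k-algebra and t, t' ∈ R with t² = 0
= t'². Let x = e + tD and y = e + t'E be the corresponding R-points of G. Then the commutator x y
x⁻¹ y⁻¹ (product of points; the inverse of a point is its composite with the antipode) is the point
a ↦ ε(a) + [D, E](a) · t t', where [D, E] = D ⋆ E − E ⋆ D is the convolution commutator. -/
theorem result (k : Type u) [CommRing k] (A : Type u) [CommRing A] [HopfAlgebra k A]
    (D E : LieHopf.Lie k A) (R : Type u) [CommRing R] [Algebra k R] (t t' : R) (ht : t * t = 0) (ht' : t' * t' = 0)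
    (a : A) :
    Dyn.conv3 k A
        (Dyn.conv3 k A (LieHopf.ptOfLie D R t ht) (LieHopf.ptOfLie E R t' ht')
          ((LieHopf.ptOfLie D R t ht).comp (HopfAlgebra.antipodeAlgHom k A)))
        ((LieHopf.ptOfLie E R t' ht').comp (HopfAlgebra.antipodeAlgHom k A))
        ((Algebra.ofId k R).comp (Bialgebra.counitAlgHom k A)) a =
      algebraMap k R (Bialgebra.counitAlgHom k A a) + algebraMap k R (LieHopf.bracketLin D E a) * (t * t') := by
  exact main D E t t' ht ht' a

end Groth.Agent.S3046
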