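import Groth.Statements.S3055
import Groth.Agent.Lib.Helper4.PointULift
import Groth.Agent.Lib.Helper4.ConstStalk
import Mathlib.AlgebraicGeometry.Sites.EtalePoint
import Mathlib.CategoryTheory.Monad.Adjunction

set_option autoImplicit false
open CategoryTheory CategoryTheory.Limits AlgebraicGeometry Opposite
universe u
open EtDesc

namespace Groth.Agent.S3055
open Groth.Agent.Lib.Helper4

section
variable (k : Type u) [Field k] [IsSepClosed k]

noncomputable abbrev X : Scheme.{u} := Spec (CommRingCat.of k)

noncomputable abbrev Φ : (X k).smallEtaleTopology.Point :=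
  Scheme.pointSmallEtale (𝟙 (X k))

noncomputable def corep : (Φ k).fiber.CorepresentableBy (EtCoh.top (X k)) where
  homEquiv {Y} := (Scheme.Etale.forgetFullyFaithful (X k)).homEquiv
  homEquiv_comp g f := rfl

noncomputable def presheafFiberIso (P : ((X k).Etale)ᵒᵖ ⥤ Type (u + 1)) :
    (Φ k).presheafFiber.obj P ≅ P.obj (op (EtCoh.top (X k))) :=
  (colimit.isColimit _).coconePointUniqueUpToIso
    (colimitOfDiagramTerminal (Functor.Elements.isInitialOfCorepresentableBy (corep k)).op _)

theorem presheafFiberIso_naturality {P P' : ((X k).Etale)ᵒᵖ ⥤ Type (u + 1)} (F : P ⟶ P') :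
    (Φ k).presheafFiber.map F ≫ (presheafFiberIso k P').hom =
      (presheafFiberIso k P).hom ≫ F.app (op (EtCoh.top (X k))) := by
  apply colimit.hom_ext
  intro j
  have h1 := IsColimit.comp_coconePointUniqueUpToIso_hom
    (colimit.isColimit ((CategoryOfElements.π (Φ k).fiber).op ⋙ P'))
    (colimitOfDiagramTerminal (Functor.Elements.isInitialOfCorepresentableBy (corep k)).op _) j
  have h2 := IsColimit.comp_coconePointUniqueUpToIso_hom
    (colimit.isColimit ((CategoryOfElements.π (Φ k).fiber).op ⋙ P))
    (colimitOfDiagramTerminal (Functor.Elements.isInitialOfCorepresentableBy (corep k)).op _) j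
  simp only [colimit.cocone_ι] at h1 h2
  simp only [presheafFiberIso, GrothendieckTopology.Point.presheafFiber, Functor.comp_map,
    colim_map, ι_colimMap_assoc]
  erw [h1, reassoc_of% h2]
  simp only [Functor.comp_obj, Functor.op_obj, coconeOfDiagramTerminal_pt,
    coconeOfDiagramTerminal_ι_app, Functor.comp_map, Functor.op_map]
  exact (F.naturality _).symm

noncomputable def sheafFiberIso :
    (Φ k).sheafFiber (A := Type (u + 1)) ≅
      (sheafSections (X k).smallEtaleTopology (Type (u + 1))).obj (op (EtCoh.top (X k))) :=
  NatIso.ofComponents (fun F => presheafFiberIso k F.obj)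
    (fun f => presheafFiberIso_naturality k f.hom)

noncomputable def constGsecIso :
    constantSheaf (X k).smallEtaleTopology (Type (u + 1)) ⋙
      (sheafSections (X k).smallEtaleTopology (Type (u + 1))).obj (op (EtCoh.top (X k))) ≅
      𝟭 (Type (u + 1)) :=
  Functor.isoWhiskerLeft _ (sheafFiberIso k).symm ≪≫
    ConstStalk.constFiberIso (Φ k) (Type (u + 1)) (EtCore.topIsTerminal (X k))

theorem hfam : (ObjectProperty.ofObj (fun _ : Unit => Φ k)).IsConservativeFamilyOfPoints :=
  Scheme.isConservative_pointSmallEtale (fun _ : Unit => 𝟙 (X k)) (by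
    ext s
    simp only [Set.mem_iUnion, Set.mem_range, Set.mem_univ, iff_true]
    exact ⟨(), s, rfl⟩)

theorem isIso_of_gsec {F G : Sheaf (X k).smallEtaleTopology (Type (u + 1))} (a : F ⟶ G)
    (h : IsIso (((sheafSections (X k).smallEtaleTopology (Type (u + 1))).obj
      (op (EtCoh.top (X k)))).map a)) : IsIso a := by
  rw [PointULift.isIso_iff_sheafFiber.{u, u + 1} (hfam k) (Type (u + 1)) a]
  rintro ⟨_, ⟨_⟩⟩
  exact (PointULift.isIso_map_iff_of_natIso (sheafFiberIso k) a).2 h

end


/-- For a separably closed field k and X = Spec k, the global sections functor from sheaves of sets on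
X_et (valued one universe up) to sets is an equivalence of categories. -/
theorem result (k : Type u) [Field k] [IsSepClosed k] :
    ((sheafSections (Spec (CommRingCat.of k)).smallEtaleTopology (Type (u + 1))).obj
      (op (EtCoh.top (Spec (CommRingCat.of k))))).IsEquivalence := by
  let adj := constantSheafAdj (X k).smallEtaleTopology (Type (u + 1)) (EtCore.topIsTerminal (X k))
  have hunit : IsIso adj.unit := adj.isIso_unit_of_iso (constGsecIso k)
  have hu : ∀ M, IsIso (adj.unit.app M) := fun M => inferInstance
  have hc : ∀ F, IsIso (adj.counit.app F) := by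
    intro F
    apply isIso_of_gsec k
    have h := adj.right_triangle_components F
    exact IsIso.of_isIso_fac_left h
  exact adj.toEquivalence.isEquivalence_inverse

end Groth.Agent.S3055
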