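import Groth.Statements.S3061
import Mathlib.CategoryTheory.Limits.Shapes.Diagonal
import Mathlib.CategoryTheory.Limits.Shapes.Pullback.Mono
-- import your own Groth.Agent.* helpers here

set_option autoImplicit false
open CategoryTheory CategoryTheory.Limits Opposite
universe u
open ToposFin

namespace Groth.Agent.S3061


variable {C : Type u} [SmallCategory C] {J : GrothendieckTopology C}

theorem isQC_of_iso {X X' : ToposFin.Sh J} (e : X ≅ X') (h : ToposFin.IsQC X) :
    ToposFin.IsQC X' := by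
  intro ι F π hπ
  have h1 : Sigma.desc (fun i => π i ≫ e.inv) = Sigma.desc π ≫ e.inv := by
    ext i
    simp
  have h2 : Epi (Sigma.desc (fun i => π i ≫ e.inv)) := by
    rw [h1]
    infer_instance
  obtain ⟨s, hs⟩ := h ι F (fun i => π i ≫ e.inv) h2
  refine ⟨s, ?_⟩
  have h3 : Sigma.desc (fun i : s => π i) = Sigma.desc (fun i : s => π i ≫ e.inv) ≫ e.hom := by
    ext i
    simp
  rw [h3]
  infer_instance

theorem isQC_of_isPullback {X Y Y' P : ToposFin.Sh J} {f : X ⟶ Y} (hf : ToposFin.IsQCHom f)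
    (s : Y' ⟶ Y) (hY' : ToposFin.IsQC Y') {a : P ⟶ X} {b : P ⟶ Y'}
    (sq : IsPullback a b f s) : ToposFin.IsQC P :=
  isQC_of_iso sq.isoPullback.symm (hf Y' s hY')

theorem isQCHom_of_isPullback {X Y W P : ToposFin.Sh J} {f : X ⟶ Y} (hf : ToposFin.IsQCHom f)
    {h : W ⟶ Y} {a : P ⟶ X} {b : P ⟶ W} (sq : IsPullback a b f h) : ToposFin.IsQCHom b := by
  intro Y' t hY'
  exact isQC_of_isPullback hf (t ≫ h) hY' ((IsPullback.of_hasPullback b t).paste_horiz sq)

theorem isQCHom_comp {X Y Z : ToposFin.Sh J} {f : X ⟶ Y} {g : Y ⟶ Z} (hf : ToposFin.IsQCHom f)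
    (hg : ToposFin.IsQCHom g) : ToposFin.IsQCHom (f ≫ g) := by
  intro Z' s hZ'
  have hP : ToposFin.IsQC (pullback g s) := hg Z' s hZ'
  exact isQC_of_isPullback hf (pullback.fst g s) hP
    (IsPullback.of_bot' (IsPullback.of_hasPullback (f ≫ g) s) (IsPullback.of_hasPullback g s))

theorem isQCHom_of_comp_mono {A B B' : ToposFin.Sh J} (k : A ⟶ B) (j : B ⟶ B') [Mono j]
    (h : ToposFin.IsQCHom (k ≫ j)) : ToposFin.IsQCHom k := by
  intro Y' t hY'
  have sq : IsPullback (pullback.fst k t) (pullback.snd k t) (k ≫ j) (t ≫ j) :=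
    IsPullback.of_isLimit (pullbackIsPullbackOfCompMono k t j)
  exact isQC_of_isPullback h (t ≫ j) hY' sq

/-- For a topos of sheaves of sets on a small site: if f : X -> Y and g : Y -> Z are morphisms and g o f
is quasi-separated (quasi-compact diagonal), then f is quasi-separated. -/
theorem result {C : Type u} [SmallCategory C] {J : GrothendieckTopology C} {X Y Z : ToposFin.Sh J}
    (f : X ⟶ Y) (g : Y ⟶ Z) (h : ToposFin.IsQSHom (f ≫ g)) : ToposFin.IsQSHom f := by
  unfold ToposFin.IsQSHom at h ⊢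
  rw [pullback.diagonal_comp] at h
  exact isQCHom_of_comp_mono _ _ h

end Groth.Agent.S3061
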