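import Groth.Statements.S3070
import Groth.Agent.Lib.Helper45.ToposFin2

set_option autoImplicit false
open CategoryTheory CategoryTheory.Limits Opposite
universe u
open ToposFin

namespace Groth.Agent.S3070

/-- For a topos of sheaves of sets on a small site admitting a generating family of quasi-compact
objects: let f : X -> Y and let (g_i : X_i -> X) be a jointly epimorphic family with every X_i
quasi-compact and every X_i x_Y X_j quasi-separated. If X is quasi-separated then f is a
quasi-separated morphism. -/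
theorem result {C : Type u} [SmallCategory C] {J : GrothendieckTopology C} (hE : ToposFin.HasQCGenerators J)
    {X Y : ToposFin.Sh J} (f : X ⟶ Y) {ι : Type u} (Xi : ι → ToposFin.Sh J) (g : ∀ i, Xi i ⟶ X)
    (hg : Epi (Sigma.desc g)) (hqc : ∀ i, ToposFin.IsQC (Xi i))
    (hqs : ∀ i j, ToposFin.IsQS (pullback (g i ≫ f) (g j ≫ f))) (hX : ToposFin.IsQS X) :
    ToposFin.IsQSHom f := by
  have hg' := (Groth.Agent.Lib.Helper45.epi_desc_iff g).1 hg
  refine Groth.Agent.Lib.Helper45.isQCHom_of_local_on_target hE (pullback.diagonal f)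
    (fun p : ι × ι => pullback.map (g p.1 ≫ f) (g p.2 ≫ f) f f (g p.1) (g p.2) (𝟙 Y)
      (by simp) (by simp)) (Groth.Agent.Lib.Helper45.jEpi_pullback_map f f g g hg' hg') fun p => ?_
  refine Groth.Agent.Lib.Helper45.isQCHom_of_isQC_of_isQS _ ?_ (hqs p.1 p.2)
  exact Groth.Agent.Lib.Helper45.isQC_of_iso (pullbackDiagonalMapIdIso (g p.1) (g p.2) f).symm
    (hX _ _ _ _ (hqc p.1) (hqc p.2))

end Groth.Agent.S3070
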