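import Groth.Statements.S3073
import Groth.Agent.Lib.Helper28.HensLoc4
import Groth.Agent.S0642
import Groth.Agent.S14451

set_option autoImplicit false
open CategoryTheory CategoryTheory.Limits AlgebraicGeometry Opposite
universe u
open EtDesc

namespace Groth.Agent.S3073

/-- Let A be a henselian local ring, Y = Spec A with closed point y, and F an abelian sheaf on Y_et (not
necessarily torsion). Then for every n the restriction map H^n(Y, F) -> H^n(Spec k(y), F|_{k(y)})
along the closed point is bijective. (Left exactness of the pullback functor carried as a binder.) -/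
theorem result (A : Type u) [CommRing A] [HenselianLocalRing A]
    (F : EtCoh.Ab (Spec (CommRingCat.of A)))
    [PreservesFiniteLimits (EtCoh.pull
      (Spec.map (CommRingCat.ofHom (IsLocalRing.residue A))))] (n : ℕ) :
    Function.Bijective (EtCore.Hpull (Spec.map (CommRingCat.ofHom (IsLocalRing.residue A))) F n) := by
  open Groth.Agent.Lib.Helper28.HensLoc in
  have h1 := comp_unit_bijective (R := A) F n
  have h2 : Function.Bijective (EtLim.HofPush (clI A) ((EtCoh.pull (clI A)).obj F) n) :=
    Groth.Agent.S14451.result (clI A) _
      (fun q hq => Groth.Agent.Lib.Helper57.EtPushExact.isZero_Rpush (clI A) _ q hq) n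
  have h3 : EtCore.Hpull (clI A) F n =
      (EtLim.HofPush (clI A) ((EtCoh.pull (clI A)).obj F) n) ∘
        (fun x : EtCoh.H (Spec (CommRingCat.of A)) F n =>
          x.comp (Abelian.Ext.mk₀ ((EtCoh.pullPushAdj (clI A)).unit.app F)) (add_zero n)) := by
    funext x
    exact Groth.Agent.S0642.Hpull_eq (clI A) F n x
  change Function.Bijective (EtCore.Hpull (clI A) F n)
  rw [h3]
  exact h2.comp h1

end Groth.Agent.S3073
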