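import Groth.Statements.S3082
import Groth.Agent.Lib.Helper45.ToposFin7

set_option autoImplicit false
universe u
open CategoryTheory
open SGA4

namespace Groth.Agent.S3082

open Opposite in
theorem aux {C : Type u} [SmallCategory C] (J : GrothendieckTopology C) (G : Set C)
    (hG : ∀ X : C, ∃ (ι : Type u) (Y : ι → C) (f : ∀ i, Y i ⟶ X), Sieve.ofArrows Y f ∈ J X ∧ ∀ i, Y i ∈ G) :
    (ObjectProperty.ofObj fun X : G => (presheafToSheaf J (Type u)).obj (yoneda.obj (X : C))).IsDetecting := by
  intro X Y f hf
  -- bijectivity on sections over members of `G`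
  have hsurj : ∀ V ∈ G, ∀ s : Y.obj.obj (op V), ∃ x : X.obj.obj (op V), f.hom.app (op V) x = s := by
    intro V hV s
    obtain ⟨h', hh', -⟩ := hf _ (ObjectProperty.ofObj_apply _ (⟨V, hV⟩ : G)) (Groth.Agent.Lib.Helper45.secMap s)
    refine ⟨h'.hom.app (op V) (Groth.Agent.Lib.Helper45.etaSec J V), ?_⟩
    have := congrArg (fun t => t.hom.app (op V) (Groth.Agent.Lib.Helper45.etaSec J V)) hh'
    simpa [Groth.Agent.Lib.Helper45.secMap_app_etaSec] using this
  have hinj : ∀ V ∈ G, ∀ x x' : X.obj.obj (op V), f.hom.app (op V) x = f.hom.app (op V) x' →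
      x = x' := by
    intro V hV x x' hxx'
    obtain ⟨h', -, huniq⟩ := hf _ (ObjectProperty.ofObj_apply _ (⟨V, hV⟩ : G))
      (Groth.Agent.Lib.Helper45.secMap (f.hom.app (op V) x))
    have h1 : Groth.Agent.Lib.Helper45.secMap x = h' := huniq _ (Groth.Agent.Lib.Helper45.secMap_comp x f)
    have h2 : Groth.Agent.Lib.Helper45.secMap x' = h' := huniq _ (by
      change _ ≫ f = _
      rw [Groth.Agent.Lib.Helper45.secMap_comp x' f, hxx'])
    have := congrArg (fun t => t.hom.app (op V) (Groth.Agent.Lib.Helper45.etaSec J V)) (h1.trans h2.symm)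
    simpa [Groth.Agent.Lib.Helper45.secMap_app_etaSec] using this
  have hepi : Epi f := by
    apply Groth.Agent.Lib.Helper45.epi_of_jEpi_punit.{0} f
    rw [Groth.Agent.Lib.Helper45.jEpi_iff_ljs]
    intro U y
    obtain ⟨ι, Yi, g, hcov, hYi⟩ := hG U
    refine ⟨_, hcov, fun V h hh => ?_⟩
    obtain ⟨i, a, rfl⟩ := (Sieve.mem_ofArrows_iff Yi g h).1 hh
    obtain ⟨x, hx⟩ := hsurj _ (hYi i) (Y.obj.map (g i).op y)
    refine ⟨PUnit.unit, X.obj.map a.op x, ?_⟩
    rw [Groth.Agent.Lib.Helper45.map_app_restrict, hx]
    simp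
  have hmono : Mono f := by
    refine ⟨fun {T} a b hab => ?_⟩
    ext U t
    obtain ⟨ι, Yi, g, hcov, hYi⟩ := hG U.unop
    apply (((isSheaf_iff_isSheaf_of_type _ _).1 X.2).isSeparated _ hcov).ext
    intro V h hh
    obtain ⟨i, c, rfl⟩ := (Sieve.mem_ofArrows_iff Yi g h).1 hh
    have h1 : X.obj.map (g i).op (a.hom.app U t) = X.obj.map (g i).op (b.hom.app U t) := by
      apply hinj _ (hYi i)
      have := congrArg (fun s => s.hom.app U t) hab
      simp only [ObjectProperty.FullSubcategory.comp_hom, NatTrans.comp_app,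
        types_comp_apply] at this
      rw [Groth.Agent.Lib.Helper45.map_app_restrict f, Groth.Agent.Lib.Helper45.map_app_restrict f, this]
    simp only [op_comp, Functor.map_comp, types_comp_apply]
    exact congrArg _ h1
  exact isIso_of_mono_of_epi f


/-- Let (C, J) be a small site and G a set of objects of C such that each object of C has a covering
family whose members all lie in G. Then the sheafifications of the presheaves represented by the
members of G form a detecting family in the category Sh(C, J) of set-valued sheaves on (C, J): any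
morphism of sheaves that is bijective on sections over each member of G is an isomorphism. -/
theorem result {C : Type u} [SmallCategory C] (J : GrothendieckTopology C) (G : Set C)
    (hG : ∀ X : C, ∃ (ι : Type u) (Y : ι → C) (f : ∀ i, Y i ⟶ X), Sieve.ofArrows Y f ∈ J X ∧ ∀ i, Y i ∈ G) :
    (ObjectProperty.ofObj fun X : G => (presheafToSheaf J (Type u)).obj (yoneda.obj (X : C))).IsDetecting := by
  exact aux J G hG
end Groth.Agent.S3082
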