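import Groth.Statements.S3886
import Mathlib
import Groth.Prelude.Def_Hyper2

set_option autoImplicit false
universe u
open CategoryTheory
open Hyper

namespace Groth.Agent.S3886

section Aux
open CategoryTheory CategoryTheory.Limits Opposite


variable {C : Type u} [SmallCategory C] (X : C)

/-- the evaluation functor -/
noncomputable abbrev GG (P : Cᵒᵖ ⥤ AddCommGrpCat.{u}) :
    (FormalCoproduct.{u} (Over X))ᵒᵖ ⥤ AddCommGrpCat.{u} :=
  (FormalCoproduct.evalOp.{u} (Over X) AddCommGrpCat.{u}).obj ((Over.forget X).op ⋙ P)

/-- simplicial object in Abᵒᵖ -/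
noncomputable abbrev SS (K : SimplicialObject (FormalCoproduct.{u} (Over X))) (P : Cᵒᵖ ⥤ AddCommGrpCat.{u}) :
    SimplicialObject AddCommGrpCat.{u}ᵒᵖ :=
  ((SimplicialObject.whiskering _ _).obj (GG X P).rightOp).obj K

/-- the unop of the alternating face map complex -/
noncomputable abbrev UU (K : SimplicialObject (FormalCoproduct.{u} (Over X))) (P : Cᵒᵖ ⥤ AddCommGrpCat.{u}) :
    CochainComplex AddCommGrpCat.{u} ℕ :=
  ((AlgebraicTopology.alternatingFaceMapComplex _).obj (SS X K P)).unop

/-- comparison iso -/
noncomputable def ee (K : SimplicialObject (FormalCoproduct.{u} (Over X))) (P : Cᵒᵖ ⥤ AddCommGrpCat.{u}) :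
    UU X K P ≅ Hyper.cechCx X K P :=
  HomologicalComplex.Hom.isoOfComponents (fun n => Iso.refl _) (by
    intro i j hij
    simp only [ComplexShape.up_Rel] at hij
    subst hij
    rw [Iso.refl_hom, Iso.refl_hom]
    refine Eq.trans (Category.id_comp _) (Eq.trans ?_ (Category.comp_id _).symm)
    change (AlgebraicTopology.AlternatingCofaceMapComplex.obj
        ((FormalCoproduct.cosimplicialObjectFunctor K).obj ((Over.forget X).op ⋙ P))).d i (i + 1) =
      (((AlgebraicTopology.alternatingFaceMapComplex _).obj (SS X K P)).d (i + 1) i).unop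
    have h1 : ((AlgebraicTopology.alternatingFaceMapComplex _).obj (SS X K P)).d (i + 1) i =
        AlgebraicTopology.AlternatingFaceMapComplex.objD (SS X K P) i :=
      AlgebraicTopology.AlternatingFaceMapComplex.obj_d_eq _ _
    have h2 : (AlgebraicTopology.AlternatingCofaceMapComplex.obj
        ((FormalCoproduct.cosimplicialObjectFunctor K).obj ((Over.forget X).op ⋙ P))).d i (i + 1) =
        AlgebraicTopology.AlternatingCofaceMapComplex.objD
          ((FormalCoproduct.cosimplicialObjectFunctor K).obj ((Over.forget X).op ⋙ P)) i :=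
      by
        simp only [AlgebraicTopology.AlternatingCofaceMapComplex.obj, CochainComplex.of_d]
    rw [h2, h1, AlgebraicTopology.AlternatingCofaceMapComplex.d_eq_unop_d]
    rfl)

/-- the map on unop complexes induced by `f : L ⟶ K` -/
noncomputable def uMap {K L : SimplicialObject (FormalCoproduct.{u} (Over X))} (f : L ⟶ K)
    (P : Cᵒᵖ ⥤ AddCommGrpCat.{u}) : UU X K P ⟶ UU X L P :=
  (HomologicalComplex.unopFunctor _ _).map
    ((AlgebraicTopology.alternatingFaceMapComplex _).map
      (((SimplicialObject.whiskering _ _).obj (GG X P).rightOp).map f)).op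

lemma cechMap_eq {K L : SimplicialObject (FormalCoproduct.{u} (Over X))} (f : L ⟶ K)
    (P : Cᵒᵖ ⥤ AddCommGrpCat.{u}) :
    Hyper.cechMap X f P = (ee X K P).inv ≫ uMap X f P ≫ (ee X L P).hom := by
  ext n : 1
  simp only [HomologicalComplex.comp_f]
  have h1 : ((ee X K P).inv).f n = 𝟙 _ := rfl
  have h2 : ((ee X L P).hom).f n = 𝟙 _ := rfl
  rw [h1, h2]
  refine Eq.trans ?_ (Category.id_comp _).symm
  refine Eq.trans ?_ (Category.comp_id _).symm
  rfl

noncomputable def uHomotopy {K L : SimplicialObject (FormalCoproduct.{u} (Over X))} (a b : L ⟶ K)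
    (H : SimplicialObject.Homotopy a b) (P : Cᵒᵖ ⥤ AddCommGrpCat.{u}) :
    Homotopy (uMap X a P) (uMap X b P) :=
  Homotopy.unop (H.whiskerRight (GG X P).rightOp).toChainHomotopy

theorem main {K L : SimplicialObject (FormalCoproduct.{u} (Over X))} (a b : L ⟶ K)
    (h : Nonempty (SimplicialObject.Homotopy a b)) (P : Cᵒᵖ ⥤ AddCommGrpCat.{u}) (p : ℕ) :
    Hyper.cechHMap X a P p = Hyper.cechHMap X b P p := by
  obtain ⟨H⟩ := h
  have h1 : HomologicalComplex.homologyMap (uMap X a P) p =
      HomologicalComplex.homologyMap (uMap X b P) p := (uHomotopy X a b H P).homologyMap_eq p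
  unfold Hyper.cechHMap
  rw [cechMap_eq, cechMap_eq, HomologicalComplex.homologyMap_comp,
    HomologicalComplex.homologyMap_comp, HomologicalComplex.homologyMap_comp,
    HomologicalComplex.homologyMap_comp, h1]


end Aux

open Opposite CategoryTheory.Limits in
/-- Let a, b : L -> K be two morphisms of simplicial semi-representable objects over an object X of a
small category (simplicial objects in formal coproducts of objects over X), homotopic in the
combinatorial (simplicial) sense. Then for every presheaf of abelian groups P and every p, a and b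
induce the same map from the p-th Cech cohomology group of P with respect to K to that with respect
to L. -/
theorem result {C : Type u} [SmallCategory C] (X : C)
    {K L : SimplicialObject (FormalCoproduct.{u} (Over X))} (a b : L ⟶ K)
    (h : Nonempty (SimplicialObject.Homotopy a b)) (P : Cᵒᵖ ⥤ AddCommGrpCat.{u}) (p : ℕ) :
    Hyper.cechHMap X a P p = Hyper.cechHMap X b P p := by
  exact main X a b h P p

end Groth.Agent.S3886
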