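import Groth.Statements.S3088
import Mathlib
import Groth.Prelude.Def_CohCx
import Groth.Prelude.Def_Hyper2
import Groth.Agent.S3886
import Groth.Agent.Lib.Helper86.HomotopyFamily

set_option autoImplicit false
universe u
open CategoryTheory
open CohSite

namespace Groth.Agent.S3088

section Aux
open CategoryTheory CategoryTheory.Limits Opposite Simplicial SimplexCategory
open Groth.Agent.Lib.Helper86.HomotopyFamily


variable {D : Type u} [Category.{u} D] [HasFiniteProducts D]

/-- pick one of two morphisms according to a value in `Fin 2`. -/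
def pick {A B : FormalCoproduct.{u} D} (f g : A ⟶ B) (e : Fin 2) : A ⟶ B := if e = 0 then f else g

/-- the mixed power map -/
noncomputable def mix {A B : FormalCoproduct.{u} D} (f g : A ⟶ B) {p : ℕ} (θ : ⦋p⦌ ⟶ ⦋1⦌) :
    A.power (ToType ⦋p⦌) ⟶ B.power (ToType ⦋p⦌) :=
  Fan.IsLimit.lift (FormalCoproduct.isLimitPowerFan B (ToType ⦋p⦌))
    (fun a => A.powerπ a ≫ pick f g (θ.toOrderHom a))

lemma mix_π {A B : FormalCoproduct.{u} D} (f g : A ⟶ B) {p : ℕ} (θ : ⦋p⦌ ⟶ ⦋1⦌) (a : ToType ⦋p⦌) :
    mix f g θ ≫ B.powerπ a = A.powerπ a ≫ pick f g (θ.toOrderHom a) :=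
  Fan.IsLimit.fac (FormalCoproduct.isLimitPowerFan B (ToType ⦋p⦌)) _ a

set_option backward.defeqAttrib.useBackward true in
set_option backward.isDefEq.respectTransparency false in
lemma powerMap_π {A B : FormalCoproduct.{u} D} (f : A ⟶ B) (α : Type) [HasProductsOfShape α D] (a : α) :
    FormalCoproduct.powerMap f α ≫ B.powerπ a = A.powerπ a ≫ f := by
  ext <;> simp

/-- the family -/
noncomputable def fam {A B : FormalCoproduct.{u} D} (f g : A ⟶ B) :
    Family (FormalCoproduct.cechFunctor.obj A) (FormalCoproduct.cechFunctor.obj B) where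
  H {p} θ := mix f g θ
  nat {p q} ψ θ := by
    apply Fan.IsLimit.hom_ext (FormalCoproduct.isLimitPowerFan B (ToType ⦋q⦌))
    intro a
    change (mix f g θ ≫ B.mapPower ψ.toOrderHom.toFun) ≫ B.powerπ a =
      (A.mapPower ψ.toOrderHom.toFun ≫ mix f g (ψ ≫ θ)) ≫ B.powerπ a
    rw [Category.assoc, Category.assoc, FormalCoproduct.mapPower_π, mix_π, mix_π,
      FormalCoproduct.mapPower_π_assoc]
    rfl

variable {C : Type u} [SmallCategory C] [HasPullbacks C]

theorem main (M : Cᵒᵖ ⥤ AddCommGrpCat.{u})
    {U : C} {𝒰 𝒰' : FormalCoproduct.{u} (Over U)} (f g : 𝒰 ⟶ 𝒰') (q : ℕ) :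
    HomologicalComplex.homologyMap (CohCx.cechRefine M f) q =
      HomologicalComplex.homologyMap (CohCx.cechRefine M g) q := by
  have H : SimplicialObject.Homotopy (FormalCoproduct.cechFunctor.map f)
      (FormalCoproduct.cechFunctor.map g) := by
    refine (fam f g).homotopy _ _ ?_ ?_
    · intro p
      apply Fan.IsLimit.hom_ext (FormalCoproduct.isLimitPowerFan 𝒰' (ToType ⦋p⦌))
      intro a
      change FormalCoproduct.powerMap f _ ≫ 𝒰'.powerπ a = mix f g _ ≫ 𝒰'.powerπ a
      rw [powerMap_π, mix_π]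
      have hp : pick f g ((toMk₁ (Fin.last (p + 1))).toOrderHom a) = f := by
        unfold pick
        exact if_pos (toMk₁_of_castSucc_lt _ _ (Fin.castSucc_lt_last a))
      rw [hp]
    · intro p
      apply Fan.IsLimit.hom_ext (FormalCoproduct.isLimitPowerFan 𝒰' (ToType ⦋p⦌))
      intro a
      change FormalCoproduct.powerMap g _ ≫ 𝒰'.powerπ a = mix f g _ ≫ 𝒰'.powerπ a
      rw [powerMap_π, mix_π]
      have hp : pick f g ((toMk₁ (0 : Fin (p + 2))).toOrderHom a) = g := by
        unfold pick
        have : (toMk₁ (0 : Fin (p + 2))).toOrderHom a = 1 :=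
          toMk₁_of_le_castSucc _ _ (Fin.zero_le _)
        rw [this]
        exact if_neg (by decide)
      rw [hp]
  have h1 := Groth.Agent.S3886.main U (FormalCoproduct.cechFunctor.map f)
    (FormalCoproduct.cechFunctor.map g) ⟨H⟩ M q
  apply AddCommGrpCat.hom_ext
  exact h1


end Aux

open CategoryTheory.Limits in
/-- With A = Z: let C be a u-small category with fibre products, 𝒰 and 𝒰' two families of objects over U
(formal coproducts in the over category) and f, g : 𝒰 -> 𝒰' two refinement morphisms. Then for every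
presheaf of abelian groups M and every q, the maps induced by f and g on the q-th Cech cohomology
groups (from that of 𝒰' to that of 𝒰) coincide. -/
theorem result {C : Type u} [SmallCategory C] [HasPullbacks C] (M : Cᵒᵖ ⥤ AddCommGrpCat.{u})
    {U : C} {𝒰 𝒰' : FormalCoproduct.{u} (Over U)} (f g : 𝒰 ⟶ 𝒰') (q : ℕ) :
    HomologicalComplex.homologyMap (CohCx.cechRefine M f) q = HomologicalComplex.homologyMap (CohCx.cechRefine M g) q := by
  exact main M f g q

end Groth.Agent.S3088
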