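import Groth.Statements.S3092
import Groth.Agent.Lib.Helper62.CoskQIg

set_option autoImplicit false
universe u
open CategoryTheory
open Hyper

namespace Groth.Agent.S3092

open Opposite CategoryTheory.Limits in
/-- In the topos of sheaves of sets on a small site; coskeleta assumed to exist: let v : K -> L be a
morphism of simplicial sheaves of sets and n ≥ 0 such that v_p is an isomorphism for p < n, v_n is
an epimorphism, and K, L are n-coskeletal (the units K -> cosk_n K, L -> cosk_n L are isomorphisms).
Then every v_p is an epimorphism and v induces a quasi-isomorphism between the chain complexes of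
free abelian sheaves Z[K] -> Z[L]. -/
theorem result {C : Type u} [SmallCategory C] (J : GrothendieckTopology C)
    [∀ (n : ℕ) (F : (SimplexCategory.Truncated n)ᵒᵖ ⥤ Sheaf J (Type u)),
      (SimplexCategory.Truncated.inclusion n).op.HasRightKanExtension F]
    {K L : SimplicialObject (Sheaf J (Type u))} (v : K ⟶ L) (n : ℕ)
    (h1 : ∀ p : ℕ, p < n → IsIso (v.app (op (SimplexCategory.mk p))))
    (h2 : Epi (v.app (op (SimplexCategory.mk n))))
    (h3 : IsIso ((SimplicialObject.coskAdj n).unit.app K) ∧ IsIso ((SimplicialObject.coskAdj n).unit.app L)) :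
    (∀ p : ℕ, Epi (v.app (op (SimplexCategory.mk p)))) ∧
    QuasiIso ((AlgebraicTopology.alternatingFaceMapComplex _).map
      (Functor.whiskerRight v (Sheaf.composeAndSheafify J AddCommGrpCat.free.{u}))) := by
  have hH : ∀ T : C, Groth.Agent.Lib.Helper62.CoskQI.Hyp
      (Functor.whiskerRight (Functor.whiskerRight v (sheafToPresheaf J (Type u)))
        (Groth.Agent.Lib.Helper62.CoskQI.ev T)) n := by
    intro T
    refine ⟨Groth.Agent.Lib.Helper62.CoskQI.U_of_cosk n K h3.1
        (sheafToPresheaf J (Type u) ⋙ Groth.Agent.Lib.Helper62.CoskQI.ev T),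
      Groth.Agent.Lib.Helper62.CoskQI.E_of_cosk n K h3.1
        (sheafToPresheaf J (Type u) ⋙ Groth.Agent.Lib.Helper62.CoskQI.ev T),
      Groth.Agent.Lib.Helper62.CoskQI.U_of_cosk n L h3.2
        (sheafToPresheaf J (Type u) ⋙ Groth.Agent.Lib.Helper62.CoskQI.ev T), ?_⟩
    intro a ha
    haveI : IsIso (v.app (op a)) := h1 a.len ha
    haveI : IsIso ((sheafToPresheaf J (Type u)).map (v.app (op a))) := inferInstance
    exact (isIso_iff_bijective
      (((sheafToPresheaf J (Type u)).map (v.app (op a))).app (op T))).1 inferInstance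
  have h2' : Presheaf.IsLocallySurjective J
      ((Functor.whiskerRight v (sheafToPresheaf J (Type u))).app (op (SimplexCategory.mk n))) :=
    (Sheaf.isLocallySurjective_iff_epi (v.app (op (SimplexCategory.mk n)))).2 h2
  have hcore := Groth.Agent.Lib.Helper62.CoskQI.core J
    (Functor.whiskerRight v (sheafToPresheaf J (Type u))) n hH h2'
  refine ⟨fun p => (Sheaf.isLocallySurjective_iff_epi (v.app (op (SimplexCategory.mk p)))).1
    (hcore.1 p), ?_⟩
  exact hcore.2

end Groth.Agent.S3092
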