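import Groth.Statements.S3105
import Groth.Agent.Lib.Helper57.ConstUnit3

set_option autoImplicit false
universe u
open CategoryTheory CategoryTheory.Limits AlgebraicGeometry Opposite
open EtPBC

namespace Groth.Agent.S3105

/-- Let X be a normal integral scheme with generic point η, g : Spec κ(η) → X the canonical morphism and
M an abelian group. Then the unit map from the constant sheaf M_X on X_ét to g_*g^*M_X is an
isomorphism. (The published statement is more general, allowing X geometrically unibranch and
sheaves of sets. Continuity of the functor of étale sites along g is carried as an instance binder.) -/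
theorem result (X : Scheme.{u}) [IsIntegral X] (hX : Pi1.IsNormalScheme X)
    [EtCoh.BCCont (X.fromSpecResidueField (genericPoint X))] (M : Type) [AddCommGroup M] :
    IsIso ((EtCoh.pullPushAdj (X.fromSpecResidueField (genericPoint X))).unit.app (EtCoh.const X M)) := by
  have hg : ∀ s : Spec (X.residueField (genericPoint X)),
      X.fromSpecResidueField (genericPoint X) s = genericPoint X := by
    intro s
    have h1 : X.fromSpecResidueField (genericPoint X) s ∈
        Set.range (X.fromSpecResidueField (genericPoint X)) := ⟨s, rfl⟩
    rw [Scheme.range_fromSpecResidueField] at h1
    exact h1
  exact Groth.Agent.Lib.Helper57.ConstUnit.isIso_unit_of_pointlike (fun x => (hX x).2) _ hg _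

end Groth.Agent.S3105
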