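import Groth.Statements.S3129
import Mathlib

set_option autoImplicit false
open BigOperators
open SGA4h

set_option linter.unusedSectionVars false

namespace Groth.Agent.S3129Aux
open BigOperators

variable {F : Type} [Field F] [Fintype F] [DecidableEq F] {R : Type} [CommRing R] [IsDomain R]

/-- Jacobi-type sum over all of `F^N`. -/
noncomputable def J {N : ℕ} (η : Fin N → MulChar F R) (s : F) : R :=
  ∑ x ∈ (Finset.univ : Finset (Fin N → F)).filter (fun x => ∑ i, x i = s), ∏ i, η i (x i)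

theorem addchar_sum {ι : Type*} (c : AddChar F R) (s : Finset ι) (f : ι → F) :
    c (∑ i ∈ s, f i) = ∏ i ∈ s, c (f i) := by
  classical
  induction s using Finset.induction_on with
  | empty => simp
  | insert i s hi ih =>
    rw [Finset.sum_insert hi, Finset.prod_insert hi, AddChar.map_add_eq_mul, ih]

theorem prod_gauss {N : ℕ} (η : Fin N → MulChar F R) (c : AddChar F R) :
    ∏ i, (∑ y, c y * η i y) = ∑ s, c s * J η s := by
  rw [Finset.prod_univ_sum]
  simp only [Fintype.piFinset_univ, J, Finset.mul_sum]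
  rw [← Finset.sum_fiberwise (Finset.univ) (fun x : Fin N → F => ∑ i, x i)]
  refine Finset.sum_congr rfl fun s _ => Finset.sum_congr rfl fun x hx => ?_
  rw [Finset.prod_mul_distrib, ← addchar_sum, (Finset.mem_filter.mp hx).2]

theorem sum_J {N : ℕ} (η : Fin N → MulChar F R) :
    ∑ s, J η s = ∏ i, ∑ y, η i y := by
  rw [Finset.prod_univ_sum]
  simp only [Fintype.piFinset_univ, J]
  rw [Finset.sum_fiberwise]

theorem J_smul {N : ℕ} (η : Fin N → MulChar F R) (t : Fˣ) (s : F) :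
    J η ((t : F) * s) = (∏ i, η i (t : F)) * J η s := by
  unfold J
  rw [Finset.mul_sum]
  symm
  refine Finset.sum_bij' (fun x _ => fun j => (t : F) * x j)
    (fun y _ => fun j => ((t⁻¹ : Fˣ) : F) * y j) ?_ ?_ ?_ ?_ ?_
  · intro x hx
    simp only [Finset.mem_filter, Finset.mem_univ, true_and] at hx ⊢
    rw [← Finset.mul_sum, hx]
  · intro y hy
    simp only [Finset.mem_filter, Finset.mem_univ, true_and] at hy ⊢
    rw [← Finset.mul_sum, hy, ← mul_assoc, Units.inv_mul, one_mul]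
  · intro x _; funext j; simp
  · intro y _; funext j; simp
  · intro x _
    rw [← Finset.prod_mul_distrib]
    refine Finset.prod_congr rfl fun i _ => ?_
    rw [map_mul]

theorem J_units {N : ℕ} (η : Fin N → MulChar F R) (s : F) :
    ∑ x ∈ (Finset.univ : Finset (Fin N → Fˣ)).filter (fun x => ∑ i, ((x i : Fˣ) : F) = s),
          ∏ i : Fin N, η i ((x i : Fˣ) : F) = J η s := by
  unfold J
  refine Finset.sum_of_injOn (fun x => fun i => ((x i : Fˣ) : F)) ?_ ?_ ?_ ?_
  · intro x _ y _ h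
    funext i
    exact Units.ext (congrFun h i)
  · intro x hx
    simpa using hx
  · intro y hy hnot
    by_cases h0 : ∃ i, y i = 0
    · obtain ⟨i, hi⟩ := h0
      exact Finset.prod_eq_zero (Finset.mem_univ i) (by rw [hi, MulChar.map_zero])
    · exfalso
      push Not at h0
      apply hnot
      refine ⟨fun i => Units.mk0 (y i) (h0 i), ?_, ?_⟩
      · simpa using hy
      · funext i; simp
  · intro x _; rfl

theorem prod_apply {ι : Type*} (s : Finset ι) (χ : ι → MulChar F R) (a : Fˣ) :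
    (∏ i ∈ s, χ i) (a : F) = ∏ i ∈ s, χ i (a : F) := by
  classical
  induction s using Finset.induction_on with
  | empty => simp [MulChar.one_apply_coe]
  | insert i s hi ih => rw [Finset.prod_insert hi, Finset.prod_insert hi, MulChar.mul_apply, ih]

theorem key_sum {N : ℕ} (η : Fin N → MulChar F R) (χ0 : MulChar F R)
    (hsc : ∀ t : Fˣ, ∏ i, η i (t : F) = χ0 (t : F)) (c : F → R) :
    ∑ s, c s * J η s = c 0 * J η 0 + J η (-1) * ∑ s, c s * χ0 (-s) := by
  have h : ∀ s, c s * J η s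
      = (if s = 0 then c 0 * J η 0 else 0) + J η (-1) * (c s * χ0 (-s)) := by
    intro s
    by_cases hs : s = 0
    · subst hs; rw [if_pos rfl, neg_zero, MulChar.map_zero, mul_zero, mul_zero, add_zero]
    · rw [if_neg hs, zero_add]
      have := J_smul η (Units.mk0 (-s) (neg_ne_zero.mpr hs)) (-1)
      rw [hsc] at this
      simp only [Units.val_mk0] at this
      rw [mul_neg_one, neg_neg] at this
      rw [this]; ring
  rw [Finset.sum_congr rfl (fun s _ => h s), Finset.sum_add_distrib, ← Finset.mul_sum]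
  simp

theorem main (N : ℕ) (χ : Fin (N + 1) → MulChar F R) (hprod : ∏ i, χ i = 1)
    (hnt : ∃ i, χ i ≠ 1) (Ψ : AddChar F R) (hΨ : Ψ ≠ 1) :
    (Fintype.card F : R) * J (fun i : Fin N => (χ i.succ)⁻¹) (-1)
      = ∏ i : Fin (N + 1), (∑ y : F, Ψ y * (χ i)⁻¹ y) := by
  set η : Fin N → MulChar F R := fun i => (χ i.succ)⁻¹ with hη
  have hsc : ∀ t : Fˣ, ∏ i, η i (t : F) = χ 0 (t : F) := by
    intro t
    have h1 : ∏ i : Fin (N+1), χ i (t : F) = 1 := by
      rw [← prod_apply, hprod, MulChar.one_apply_coe]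
    rw [Fin.prod_univ_succ] at h1
    have h2 : (∏ i, η i (t : F)) * ∏ i : Fin N, χ i.succ (t : F) = 1 := by
      rw [← Finset.prod_mul_distrib]
      refine Finset.prod_eq_one fun i _ => ?_
      rw [hη]; simp only
      rw [← MulChar.mul_apply, inv_mul_cancel, MulChar.one_apply_coe]
    calc ∏ i, η i (t : F)
        = (∏ i, η i (t : F)) * (χ 0 (t:F) * ∏ i : Fin N, χ i.succ (t : F)) := by
          rw [h1, mul_one]
      _ = χ 0 (t : F) * ((∏ i, η i (t : F)) * ∏ i : Fin N, χ i.succ (t : F)) := by ring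
      _ = χ 0 (t : F) := by rw [h2, mul_one]
  rw [Fin.prod_univ_succ]
  have hP : ∏ i : Fin N, (∑ y : F, Ψ y * (χ i.succ)⁻¹ y) = ∑ s, Ψ s * J η s := prod_gauss η Ψ
  rw [hP, key_sum η (χ 0) hsc Ψ]
  have hG : ∑ s, Ψ s * χ 0 (-s) = χ 0 (-1) * gaussSum (χ 0) Ψ := by
    rw [gaussSum, Finset.mul_sum]
    refine Finset.sum_congr rfl fun s _ => ?_
    rw [← neg_one_mul s, map_mul]; ring
  have hG0 : ∑ y : F, Ψ y * (χ 0)⁻¹ y = gaussSum (χ 0)⁻¹ Ψ := by
    rw [gaussSum]; exact Finset.sum_congr rfl fun s _ => mul_comm _ _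
  rw [hG, hG0, AddChar.map_zero_eq_one, one_mul]
  by_cases h0 : χ 0 = 1
  · -- trivial χ 0
    obtain ⟨i, hi⟩ := hnt
    have hi0 : i ≠ 0 := fun h => hi (h ▸ h0)
    obtain ⟨j, rfl⟩ := Fin.exists_succ_eq.mpr hi0
    have hηj : η j ≠ 1 := by
      rw [hη]; simp only
      intro h; exact hi (inv_eq_one.mp h)
    have hsum : ∑ s, J η s = 0 := by
      rw [sum_J]
      exact Finset.prod_eq_zero (Finset.mem_univ j) (MulChar.sum_eq_zero_of_ne_one hηj)
    have hk := key_sum η (χ 0) hsc (fun _ => (1 : R))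
    simp only [one_mul] at hk
    rw [hsum, h0] at hk
    have hcard : ∑ s : F, (1 : MulChar F R) (-s) = (Fintype.card F : R) - 1 := by
      have hneg : ∑ s : F, (1 : MulChar F R) (-s) = ∑ s : F, (1 : MulChar F R) s :=
        Fintype.sum_equiv (Equiv.neg F) _ _ (fun s => rfl)
      rw [hneg, MulChar.sum_one_eq_card_units, Fintype.card_eq_card_units_add_one (α := F)]
      push_cast; ring
    rw [hcard] at hk
    rw [h0, inv_one, gaussSum_one_left hΨ, MulChar.one_apply (isUnit_one.neg)]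
    linear_combination -hk
  · -- nontrivial χ 0
    obtain ⟨t, ht⟩ := MulChar.ne_one_iff.mp h0
    have hJ0 : J η 0 = 0 := by
      have := J_smul η t 0
      rw [mul_zero, hsc] at this
      have h' : (1 - χ 0 (t : F)) * J η 0 = 0 := by linear_combination this
      rcases mul_eq_zero.mp h' with h'' | h''
      · exact absurd (sub_eq_zero.mp h'').symm ht
      · exact h''
    have hq := gaussSum_mul_gaussSum_eq_card h0 (AddChar.IsPrimitive.of_ne_one hΨ)
    have hm := mul_gaussSum_inv_eq_gaussSum (χ 0)⁻¹ Ψ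
    have hu : χ 0 (-1) * (χ 0)⁻¹ (-1) = 1 := by
      rw [← MulChar.mul_apply, mul_inv_cancel, MulChar.one_apply (isUnit_one.neg)]
    rw [hJ0, ← hm]
    linear_combination (-(J η (-1))) * hq
      - (J η (-1) * gaussSum (χ 0) Ψ * gaussSum (χ 0)⁻¹ Ψ⁻¹) * hu

end Groth.Agent.S3129Aux

namespace Groth.Agent.S3129

/-- Let F be a finite field with q elements, N ≥ 1, χ₀, …, χ_N multiplicative characters of F with
values in a domain, not all trivial and with product 1, and Ψ a nontrivial additive character of F.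
Put τ(χ, Ψ) = −Σ_{x ∈ F} Ψ(x) χ⁻¹(x) and J(χ) = (−1)^{N−1} Σ χ₁⁻¹(x₁) ⋯ χ_N⁻¹(x_N), the sum over x₁,
…, x_N ∈ F^* with x₁ + ⋯ + x_N = −1. Then q · J(χ) = τ(χ₀, Ψ) ⋯ τ(χ_N, Ψ). -/
theorem result (F : Type) [Field F] [Fintype F] [DecidableEq F] (R : Type) [CommRing R] [IsDomain R]
    (N : ℕ) (hN : 1 ≤ N) (χ : Fin (N + 1) → MulChar F R) (hprod : ∏ i, χ i = 1) (hnt : ∃ i, χ i ≠ 1)
    (Ψ : AddChar F R) (hΨ : Ψ ≠ 1) :
    (Fintype.card F : R) * ((-1) ^ (N - 1) *
        ∑ x ∈ (Finset.univ : Finset (Fin N → Fˣ)).filter (fun x => ∑ i, ((x i : Fˣ) : F) = -1),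
          ∏ i : Fin N, (χ i.succ)⁻¹ ((x i : Fˣ) : F)) =
      ∏ i : Fin (N + 1), (-(∑ y : F, Ψ y * (χ i)⁻¹ y)) := by
  have hmain := Groth.Agent.S3129Aux.main N χ hprod hnt Ψ hΨ
  rw [Finset.prod_neg, ← hmain, Groth.Agent.S3129Aux.J_units (fun i : Fin N => (χ i.succ)⁻¹) (-1)]
  have hpow : ((-1 : R)) ^ (Finset.univ : Finset (Fin (N + 1))).card = (-1) ^ (N - 1) := by
    rw [Finset.card_univ, Fintype.card_fin]
    obtain ⟨k, rfl⟩ : ∃ k, N = k + 1 := ⟨N - 1, by omega⟩
    rw [Nat.add_sub_cancel, pow_succ, pow_succ]; ring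
  rw [hpow]; ring

end Groth.Agent.S3129
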