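import Groth.Statements.S3133
import Mathlib.LinearAlgebra.Matrix.Block
import Mathlib.LinearAlgebra.Matrix.Charpoly.Coeff

set_option autoImplicit false
open Polynomial
open SGA4h

set_option linter.unusedSectionVars false

namespace Groth.Agent.S3133Aux
open Matrix

variable {R : Type} [CommRing R] {m : Type} [Fintype m] [DecidableEq m]

/-- the block-cyclic matrix -/
noncomputable def Bm (A : Matrix m m R) (n : ℕ) : Matrix (Fin n × m) (Fin n × m) R :=
  Matrix.of fun (p q : Fin n × m) =>
        if p.1.val = 0 then (if q.1.val = n - 1 then A p.2 q.2 else 0)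
        else (if q.1.val + 1 = p.1.val ∧ p.2 = q.2 then 1 else 0)

/-- the unitriangular multiplier -/
noncomputable def Mm (m : Type) [Fintype m] [DecidableEq m] (R : Type) [CommRing R] (n : ℕ) :
    Matrix (Fin n × m) (Fin n × m) R[X] :=
  Matrix.of fun (p q : Fin n × m) =>
    if q.1 ≤ p.1 ∧ p.2 = q.2 then (X : R[X]) ^ (p.1.val - q.1.val) else 0

/-- the product -/
noncomputable def Tm (A : Matrix m m R) (n : ℕ) : Matrix (Fin n × m) (Fin n × m) R[X] :=
  Matrix.of fun (p q : Fin n × m) =>
    if p.1.val = 0 then ((if q.1.val = 0 ∧ p.2 = q.2 then 1 else 0)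
        - (X : R[X]) ^ (n - q.1.val) * C (A p.2 q.2))
    else (if p = q then 1 else 0)

lemma det_Mm (n : ℕ) : (Mm m R n).det = 1 := by
  have hbt : BlockTriangular (Mm m R n) (fun p : Fin n × m => OrderDual.toDual p.1) := by
    intro p q h
    have h' : p.1 < q.1 := h
    simp only [Mm, Matrix.of_apply]
    rw [if_neg]
    rintro ⟨h1, -⟩
    exact absurd h' (not_lt.mpr h1)
  rw [hbt.det_fintype]
  apply Finset.prod_eq_one
  intro k _
  have : (Mm m R n).toSquareBlock (fun p : Fin n × m => OrderDual.toDual p.1) k = 1 := by
    ext ⟨p, hp⟩ ⟨q, hq⟩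
    simp only [toSquareBlock_def, Matrix.of_apply, Mm, Matrix.one_apply, Subtype.mk.injEq]
    have hpq : p.1 = q.1 := by
      have := hp.trans hq.symm
      exact this
    by_cases h2 : p.2 = q.2
    · have : p = q := Prod.ext hpq h2
      subst this
      simp
    · have : p ≠ q := fun h => h2 (by rw [h])
      simp [h2, this]
  rw [this, det_one]

lemma mul_eq (A : Matrix m m R) (n : ℕ) (hn : 1 ≤ n) :
    (1 - (X : R[X]) • (Bm A n).map C) * Mm m R n = Tm A n := by
  refine Matrix.ext fun p q => ?_
  rw [Matrix.sub_mul, Matrix.one_mul, Matrix.sub_apply, Matrix.smul_mul, Matrix.smul_apply,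
    Matrix.mul_apply, Fintype.sum_prod_type]
  obtain ⟨i, a⟩ := p
  obtain ⟨j, b⟩ := q
  simp only [Matrix.map_apply, Bm, Mm, Tm, Matrix.of_apply, smul_eq_mul]
  by_cases hi : i.val = 0
  · simp only [hi, if_true]
    -- the sum: only r = (n-1, b) contributes
    have hlast : n - 1 < n := by omega
    rw [Finset.sum_eq_single (⟨n - 1, hlast⟩ : Fin n)]
    · rw [Finset.sum_eq_single b]
      · have hj : j ≤ (⟨n - 1, hlast⟩ : Fin n) := by
          rw [Fin.le_def]; simp only; omega
        simp only [if_true, hj, true_and]
        have e1 : (j ≤ i) ↔ j.val = 0 := by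
          rw [Fin.le_def, hi]; simp
        simp only [e1]
        by_cases hj0 : j.val = 0
        · by_cases hab : a = b
          · subst hab
            simp only [hj0, and_self, if_true]
            have : n - 1 - 0 + 1 = n - 0 := by omega
            rw [← this, pow_succ]; simp; ring
          · simp only [hj0, hab, and_false, if_false, true_and]
            have : n - 1 - 0 + 1 = n - 0 := by omega
            rw [← this, pow_succ]; ring
        · have : ¬ (j.val = 0 ∧ a = b) := fun h => hj0 h.1
          simp only [this, if_false]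
          have : n - 1 - j.val + 1 = n - j.val := by omega
          rw [← this, pow_succ]; ring
      · intro c _ hc
        simp [hc]
      · intro h; exact absurd (Finset.mem_univ _) h
    · intro r _ hr
      have : r.val ≠ n - 1 := fun h => hr (Fin.ext h)
      simp [this]
    · intro h; exact absurd (Finset.mem_univ _) h
  · simp only [hi, if_false]
    have hpred : i.val - 1 < n := by omega
    rw [Finset.sum_eq_single (⟨i.val - 1, hpred⟩ : Fin n)]
    · rw [Finset.sum_eq_single a]
      · have e0 : i.val - 1 + 1 = i.val := by omega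
        simp only [e0, true_and, if_true, C_1, one_mul]
        have e1 : (j ≤ (⟨i.val - 1, hpred⟩ : Fin n)) ↔ j.val ≤ i.val - 1 := by
          rw [Fin.le_def]
        have e2 : (j ≤ i) ↔ j.val ≤ i.val := Fin.le_def
        simp only [e1, e2, Prod.mk.injEq]
        by_cases hab : a = b
        · subst hab
          simp only [and_true]
          by_cases hji : j.val ≤ i.val - 1
          · have h1 : j.val ≤ i.val := by omega
            have h2 : i ≠ j := fun h => by rw [h] at hji; omega
            simp only [hji, h1, h2, if_true, if_false]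
            have : i.val - j.val = i.val - 1 - j.val + 1 := by omega
            rw [this, pow_succ]; ring
          · by_cases h1 : j.val ≤ i.val
            · have h2 : i = j := Fin.ext (by omega)
              subst h2
              simp [hji]
            · have h2 : i ≠ j := fun h => by rw [h] at h1; omega
              simp [hji, h1, h2]
        · simp [hab]
      · intro c _ hc
        have : ¬ (a = c) := fun h => hc h.symm
        simp [this]
      · intro h; exact absurd (Finset.mem_univ _) h
    · intro r _ hr
      have : ¬ (r.val + 1 = i.val) := fun h => hr (Fin.ext (by simp only; omega))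
      simp [this]
    · intro h; exact absurd (Finset.mem_univ _) h

lemma det_Tm (A : Matrix m m R) (n : ℕ) (hn : 1 ≤ n) :
    (Tm A n).det = (1 - (X : R[X]) ^ n • A.map C).det := by
  have hbt : BlockTriangular (Tm A n) (fun p : Fin n × m => p.1) := by
    intro p q h
    have h' : q.1 < p.1 := h
    simp only [Tm, Matrix.of_apply]
    have h1 : p.1.val ≠ 0 := by
      have := Fin.lt_def.mp h'
      omega
    have h2 : p ≠ q := fun h => by rw [h] at h'; exact lt_irrefl _ h'
    simp [h1, h2]
  rw [hbt.det_fintype]
  have h0 : 0 < n := hn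
  rw [Finset.prod_eq_single (⟨0, h0⟩ : Fin n)]
  · let e : {p : Fin n × m // p.1 = (⟨0, h0⟩ : Fin n)} ≃ m :=
      { toFun := fun p => p.1.2
        invFun := fun x => ⟨(⟨0, h0⟩, x), rfl⟩
        left_inv := by
          rintro ⟨⟨i, a⟩, h⟩
          simp only at h
          subst h
          rfl
        right_inv := fun x => rfl }
    have : (Tm A n).toSquareBlock (fun p : Fin n × m => p.1) (⟨0, h0⟩ : Fin n) =
        (1 - (X : R[X]) ^ n • A.map C).submatrix e e := by
      ext ⟨⟨i, a⟩, hp⟩ ⟨⟨j, b⟩, hq⟩
      simp only at hp hq
      subst hp hq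
      simp [toSquareBlock_def, Tm, e, Matrix.one_apply]
    rw [this, det_submatrix_equiv_self]
  · intro k _ hk
    have hk' : k.val ≠ 0 := fun h => hk (Fin.ext h)
    have : (Tm A n).toSquareBlock (fun p : Fin n × m => p.1) k = 1 := by
      ext ⟨p, hp⟩ ⟨q, hq⟩
      have h1 : p.1.val ≠ 0 := by rw [hp]; exact hk'
      simp [toSquareBlock_def, Tm, h1, Matrix.one_apply]
    rw [this, det_one]
  · intro h; exact absurd (Finset.mem_univ _) h

lemma expand_det (A : Matrix m m R) (n : ℕ) :
    Polynomial.expand R n (1 - (X : R[X]) • A.map C).det = (1 - (X : R[X]) ^ n • A.map C).det := by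
  rw [AlgHom.map_det]
  congr 1
  ext i j
  simp [Matrix.one_apply, AlgHom.mapMatrix_apply]

theorem main (A : Matrix m m R) (n : ℕ) (hn : 1 ≤ n) :
    (Bm A n).charpolyRev = Polynomial.expand R n A.charpolyRev := by
  unfold Matrix.charpolyRev
  rw [expand_det, ← det_Tm A n hn, ← mul_eq A n hn, Matrix.det_mul, det_Mm, mul_one]

end Groth.Agent.S3133Aux

namespace Groth.Agent.S3133

/-- Let A be a square matrix over a commutative ring and n ≥ 1, and let B be the matrix on n blocks of
the endomorphism (x_1, …, x_n) ↦ (A x_n, x_1, …, x_{n-1}). Then det(1 − B·T) = det(1 − A·Tⁿ), i.e.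
the reverse characteristic polynomial of B is that of A expanded by n. -/
theorem result (R : Type) [CommRing R] (m : Type) [Fintype m] [DecidableEq m]
    (A : Matrix m m R) (n : ℕ) (hn : 1 ≤ n) :
    (Matrix.of fun (p q : Fin n × m) =>
        if p.1.val = 0 then (if q.1.val = n - 1 then A p.2 q.2 else 0)
        else (if q.1.val + 1 = p.1.val ∧ p.2 = q.2 then 1 else 0)).charpolyRev =
      Polynomial.expand R n A.charpolyRev := by
  exact Groth.Agent.S3133Aux.main A n hn

end Groth.Agent.S3133
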