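import Groth.Statements.S3134
import Mathlib.Algebra.TrivSqZeroExt.Basic
import Mathlib.Algebra.Polynomial.Taylor

set_option autoImplicit false
open Polynomial
open SGA4h

set_option linter.unusedSectionVars false

namespace Groth.Agent.S3134Aux
open Matrix TrivSqZeroExt

variable {R : Type} [CommRing R] {m : Type} [Fintype m] [DecidableEq m]

/-- the geometric series matrix `Σ_k t^k M^k` over `R⟦X⟧`. -/
noncomputable def Nm (M : Matrix m m R) : Matrix m m (PowerSeries R) :=
  Matrix.of fun i j => PowerSeries.mk fun k => (M ^ k) i j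

/-- `1 - t M` over `R⟦X⟧`. -/
noncomputable def Dm (M : Matrix m m R) : Matrix m m (PowerSeries R) :=
  1 - (PowerSeries.X : PowerSeries R) • M.map (PowerSeries.C : R →+* PowerSeries R)

lemma Nm_mul_Dm (M : Matrix m m R) : Nm M * Dm M = 1 := by
  refine Matrix.ext fun i j => PowerSeries.ext fun k => ?_
  rw [Dm, Matrix.mul_sub, Matrix.mul_one, Matrix.sub_apply, Matrix.mul_smul, Matrix.smul_apply,
    Matrix.mul_apply, map_sub]
  simp only [Nm, Matrix.of_apply, Matrix.map_apply, smul_eq_mul]
  cases k with
  | zero =>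
    simp [Matrix.one_apply]
  | succ k =>
    rw [PowerSeries.coeff_succ_X_mul, map_sum]
    simp only [PowerSeries.coeff_mul_C, PowerSeries.coeff_mk]
    rw [pow_succ, Matrix.mul_apply, sub_self, Matrix.one_apply]
    split_ifs <;> simp

lemma det_Dm (M : Matrix m m R) : (Dm M).det = (M.charpolyRev : PowerSeries R) := by
  unfold Matrix.charpolyRev
  have h := RingHom.map_det (Polynomial.coeToPowerSeries.ringHom (R := R))
    (1 - (X : R[X]) • M.map C)
  rw [Polynomial.coeToPowerSeries.ringHom_apply] at h
  rw [h, Dm]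
  congr 1
  refine Matrix.ext fun i j => ?_
  simp only [RingHom.mapMatrix_apply, Matrix.map_apply, Matrix.sub_apply, Matrix.smul_apply,
    Matrix.one_apply, smul_eq_mul, Polynomial.coeToPowerSeries.ringHom_apply, Polynomial.coe_sub,
    Polynomial.coe_mul, Polynomial.coe_X, Polynomial.coe_C]
  split_ifs <;> simp

lemma trace_Nm_mul (M : Matrix m m R) :
    (Nm M * M.map (PowerSeries.C : R →+* PowerSeries R)).trace =
      PowerSeries.mk fun k => (M ^ (k + 1)).trace := by
  ext k
  simp only [Matrix.trace, Matrix.diag, Matrix.mul_apply, Nm, Matrix.of_apply, Matrix.map_apply,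
    map_sum, PowerSeries.coeff_mul_C, PowerSeries.coeff_mk, pow_succ]

/-- the dual-number ring over power series -/
abbrev S (R : Type) [CommRing R] := TrivSqZeroExt (PowerSeries R) (PowerSeries R)

noncomputable abbrev ι (R : Type) [CommRing R] : PowerSeries R →+* S R :=
  TrivSqZeroExt.inlHom (PowerSeries R) (PowerSeries R)

noncomputable def g (R : Type) [CommRing R] : R →+* S R :=
  (ι R).comp (PowerSeries.C : R →+* PowerSeries R)

lemma eps_sq (R : Type) [CommRing R] : ((inr 1 : S R)) ^ 2 = 0 := by
  rw [pow_two, inr_mul_inr]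

/-- Taylor expansion side. -/
lemma eval_side (P : R[X]) :
    (Polynomial.eval₂ (g R) (inl PowerSeries.X + inr 1) P : S R) =
      inl (P : PowerSeries R) + inl ((derivative P : R[X]) : PowerSeries R) * inr 1 := by
  have hx : ∀ Q : R[X], (Q.map (g R)).eval (inl PowerSeries.X : S R) = inl (Q : PowerSeries R) := by
    intro Q
    rw [Polynomial.eval_map, ← Polynomial.eval₂_C_X_eq_coe]
    have := Polynomial.hom_eval₂ Q (PowerSeries.C : R →+* PowerSeries R)
      (ι R) PowerSeries.X
    exact this.symm
  rw [← Polynomial.eval_map, Polynomial.eval_add_of_sq_eq_zero _ _ _ (eps_sq R), hx,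
    Polynomial.derivative_map, hx]

lemma map_g (M : Matrix m m R) :
    M.map (g R) = (ι R).mapMatrix (M.map (PowerSeries.C : R →+* PowerSeries R)) := by
  refine Matrix.ext fun i j => ?_
  rfl

lemma h1 (M : Matrix m m R) :
    (Polynomial.eval₂ (g R) (inl PowerSeries.X + inr 1) M.charpolyRev : S R) =
      (1 - (inl PowerSeries.X + inr 1 : S R) • M.map (g R)).det := by
  unfold Matrix.charpolyRev
  have h := RingHom.map_det (Polynomial.eval₂RingHom (g R) (inl PowerSeries.X + inr 1 : S R))
    (1 - (X : R[X]) • M.map C)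
  rw [Polynomial.coe_eval₂RingHom] at h
  rw [h]
  congr 1
  refine Matrix.ext fun i j => ?_
  simp only [RingHom.mapMatrix_apply, Matrix.map_apply, Matrix.sub_apply, Matrix.smul_apply,
    Matrix.one_apply, smul_eq_mul, Polynomial.coe_eval₂RingHom, Polynomial.eval₂_sub,
    Polynomial.eval₂_mul, Polynomial.eval₂_X, Polynomial.eval₂_C]
  split_ifs <;> simp

lemma hD (M : Matrix m m R) :
    (ι R).mapMatrix (Dm M) = 1 - (inl PowerSeries.X : S R) • M.map (g R) := by
  rw [map_g, Dm, map_sub, map_one]
  congr 1
  refine Matrix.ext fun i j => ?_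
  simp only [RingHom.mapMatrix_apply, Matrix.map_apply, Matrix.smul_apply, smul_eq_mul, map_mul]
  rfl

lemma det_side (M : Matrix m m R) :
    (Polynomial.eval₂ (g R) (inl PowerSeries.X + inr 1) M.charpolyRev : S R) =
      inl (M.charpolyRev : PowerSeries R) *
        (1 + inl (-(Nm M * M.map (PowerSeries.C : R →+* PowerSeries R)).trace) * inr 1) := by
  have hND : (ι R).mapMatrix (Nm M) * (ι R).mapMatrix (Dm M) = 1 := by
    rw [← map_mul, Nm_mul_Dm, map_one]
  have hDN : (ι R).mapMatrix (Dm M) * (ι R).mapMatrix (Nm M) = 1 := mul_eq_one_comm.mp hND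
  have h2 : (1 - (inl PowerSeries.X + inr 1 : S R) • M.map (g R)) =
      (ι R).mapMatrix (Dm M) * (1 + (inr 1 : S R) • (-((ι R).mapMatrix (Nm M) * M.map (g R)))) := by
    rw [Matrix.mul_add, Matrix.mul_one, Matrix.mul_smul, Matrix.mul_neg, ← Matrix.mul_assoc, hDN,
      Matrix.one_mul, hD, add_smul]
    simp only [smul_neg]
    abel
  rw [h1, h2, Matrix.det_mul, Matrix.det_one_add_smul]
  have h3 : ((ι R).mapMatrix (Dm M)).det = inl (M.charpolyRev : PowerSeries R) := by
    rw [← RingHom.map_det, det_Dm]
    rfl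
  have h4 : (-((ι R).mapMatrix (Nm M) * M.map (g R))).trace =
      inl (-(Nm M * M.map (PowerSeries.C : R →+* PowerSeries R)).trace) := by
    rw [map_g, ← map_mul, Matrix.trace_neg]
    have : ∀ W : Matrix m m (PowerSeries R), ((ι R).mapMatrix W).trace = ι R W.trace := by
      intro W
      simp [Matrix.trace, map_sum]
    rw [this, ← map_neg]
    rfl
  rw [h3, h4, eps_sq R, mul_zero, add_zero]

lemma key (M : Matrix m m R) :
    ((derivative M.charpolyRev : R[X]) : PowerSeries R) =
      -((M.charpolyRev : PowerSeries R) * PowerSeries.mk fun k => (M ^ (k + 1)).trace) := by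
  have h := (eval_side (R := R) M.charpolyRev).symm.trans (det_side M)
  have h' := congrArg TrivSqZeroExt.snd h
  rw [trace_Nm_mul] at h'
  simp only [snd_add, snd_mul, snd_inl, fst_inl, snd_inr, fst_inr, smul_zero, zero_add, add_zero,
    snd_one, fst_add, fst_one, fst_mul, MulOpposite.smul_eq_mul_unop, MulOpposite.unop_op,
    smul_eq_mul, mul_one, mul_zero, zero_mul, one_mul] at h'
  rw [h']
  ring

end Groth.Agent.S3134Aux

namespace Groth.Agent.S3134

/-- For a square matrix A over a commutative ring, with P(T) = det(1 − A·T), one has −T·P′(T) = P(T) ·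
Σ_{n ≥ 1} Tr(Aⁿ) Tⁿ as formal power series (equivalently T d/dT log P(T)⁻¹ = Σ_{n≥1} Tr(Aⁿ) Tⁿ). -/
theorem result (R : Type) [CommRing R] (m : Type) [Fintype m] [DecidableEq m]
    (A : Matrix m m R) :
    ((-(X * Polynomial.derivative A.charpolyRev) : R[X]) : PowerSeries R) =
      (A.charpolyRev : PowerSeries R) * PowerSeries.mk (fun n => if n = 0 then 0 else (A ^ n).trace) := by
  rw [Polynomial.coe_neg, Polynomial.coe_mul, Polynomial.coe_X, Groth.Agent.S3134Aux.key]
  have : PowerSeries.mk (fun n => if n = 0 then 0 else (A ^ n).trace) =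
      PowerSeries.X * PowerSeries.mk fun k => (A ^ (k + 1)).trace := by
    ext n
    cases n with
    | zero => simp
    | succ n => rw [PowerSeries.coeff_succ_X_mul]; simp
  rw [this]
  ring

end Groth.Agent.S3134
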