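import Groth.Statements.S3139
import Groth.Agent.Lib.Helper16.DetS7

set_option autoImplicit false
universe u
open CategoryTheory
attribute [local instance] HasDerivedCategory.standard
open SGA4h

namespace Groth.Agent.S3139

/-- Let A be a commutative ring, K and K' bounded cochain complexes of finite free A-modules with
endomorphisms u and u', and suppose (K, u) and (K', u') are isomorphic in the derived category D(A):
there is an isomorphism K ≅ K' in D(A) intertwining the images of u and u'. Then det(1 - u t, K) =
det(1 - u' t, K'), where det(1 - u t, K) = ∏ᵢ det(1 - u t, Kⁱ)^{(-1)^i}; the equality is stated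
cross-multiplied, as ∏_{i even} det(1 - u t, Kⁱ) · ∏_{i odd} det(1 - u' t, K'ⁱ) = ∏_{i odd} det(1 -
u t, Kⁱ) · ∏_{i even} det(1 - u' t, K'ⁱ) in A[t]. (The source works with finite projective modules;
finite free is the special case stated here.) -/
theorem result (A : Type u) [CommRing A]
    (K K' : CochainComplex (ModuleCat.{u} A) ℤ) (a b : ℤ) [K.IsStrictlyGE a] [K.IsStrictlyLE b] [K'.IsStrictlyGE a] [K'.IsStrictlyLE b]
    (hK : ∀ i : ℤ, Module.Finite A (K.X i) ∧ Module.Free A (K.X i)) (hK' : ∀ i : ℤ, Module.Finite A (K'.X i) ∧ Module.Free A (K'.X i))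
    (u : K ⟶ K) (u' : K' ⟶ K') (φ : DerivedCategory.Q.obj K ≅ DerivedCategory.Q.obj K')
    (hφ : DerivedCategory.Q.map u ≫ φ.hom = φ.hom ≫ DerivedCategory.Q.map u') :
    SGA4h.detEven K u * SGA4h.detOdd K' u' = SGA4h.detOdd K u * SGA4h.detEven K' u' := by
  haveI hP : ∀ n : ℤ, Projective (K.X n) := fun n => by
    haveI := (hK n).2
    exact ModuleCat.projective_of_categoryTheory_projective _
  haveI hP' : ∀ n : ℤ, Projective (K'.X n) := fun n => by
    haveI := (hK' n).2
    exact ModuleCat.projective_of_categoryTheory_projective _
  haveI : K.IsKProjective := CochainComplex.isKProjective_of_projective K b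
  haveI : K'.IsKProjective := CochainComplex.isKProjective_of_projective K' b
  -- lift `φ` to a morphism of complexes
  obtain ⟨g, hg⟩ := (CochainComplex.IsKProjective.Qh_map_bijective K
    ((HomotopyCategory.quotient _ _).obj K')).surjective
    ((DerivedCategory.quotientCompQhIso _).hom.app K ≫ φ.hom ≫
      (DerivedCategory.quotientCompQhIso _).inv.app K')
  obtain ⟨f, rfl⟩ := (HomotopyCategory.quotient _ _).map_surjective g
  have hQf : DerivedCategory.Q.map f = φ.hom := by
    have h1 := DerivedCategory.quotientCompQhIso_hom_naturality f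
    rw [hg] at h1
    simp only [Category.assoc, Iso.inv_hom_id_app, Category.comp_id] at h1
    exact ((cancel_epi _).1 h1).symm
  -- `f` is a homotopy equivalence
  have hqi : QuasiIso f := by
    rw [← DerivedCategory.isIso_Q_map_iff_quasiIso, hQf]
    infer_instance
  have hhe : IsIso ((HomotopyCategory.quotient _ _).map f) := by
    have h2 := (CochainComplex.IsKProjective.quasiIso_iff f).1 hqi
    rw [← HomotopyCategory.inverseImage_quotient_isomorphisms] at h2
    exact h2
  -- the homotopy
  have hQ : DerivedCategory.Q.map (f ≫ u') = DerivedCategory.Q.map (u ≫ f) := by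
    rw [Functor.map_comp, Functor.map_comp, hQf, hφ]
  have hq : (HomotopyCategory.quotient _ _).map (f ≫ u') =
      (HomotopyCategory.quotient _ _).map (u ≫ f) := by
    apply (CochainComplex.IsKProjective.Qh_map_bijective K _).injective
    have n1 := DerivedCategory.quotientCompQhIso_hom_naturality (f ≫ u')
    have n2 := DerivedCategory.quotientCompQhIso_hom_naturality (u ≫ f)
    rw [hQ] at n1
    exact (cancel_mono _).1 (n1.trans n2.symm)
  have ho : Homotopy (f ≫ u') (u ≫ f) := HomotopyCategory.homotopyOfEq _ _ hq
  exact Groth.Agent.Lib.Helper16.DetS.main_of_homotopyEquiv f u u' ho a b hK hK' hhe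

end Groth.Agent.S3139
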