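import Groth.Statements.S3140
import Mathlib

set_option autoImplicit false
universe u
open RingTheory.Sequence
open SGA4h

namespace Groth.Agent.S3140

section Helpers
open RingTheory.Sequence IsLocalRing

variable {A : Type u} [CommRing A] [IsLocalRing A] [IsNoetherianRing A]

def Step (z z' : List A) : Prop :=
  z.Perm z' ∨ (z.length = z'.length ∧ z.dropLast = z'.dropLast)

def Good (M : Type u) [AddCommGroup M] [Module A M] (𝔞 I : Ideal A) (z : List A) : Prop :=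
  IsRegular M z ∧ Ideal.ofList z ⊔ 𝔞 = I

def Rel (M : Type u) [AddCommGroup M] [Module A M] (𝔞 I : Ideal A) (z z' : List A) : Prop :=
  Step z z' ∧ Good M 𝔞 I z'

omit [IsLocalRing A] [IsNoetherianRing A] in
theorem exists_avoid_two (I N₁ N₂ : Ideal A) (h1 : ¬ I ≤ N₁) (h2 : ¬ I ≤ N₂) :
    ∃ w ∈ I, w ∉ N₁ ∧ w ∉ N₂ := by
  obtain ⟨x, hxI, hx1⟩ := SetLike.not_le_iff_exists.mp h1
  obtain ⟨y, hyI, hy2⟩ := SetLike.not_le_iff_exists.mp h2
  by_cases hx2 : x ∈ N₂
  · by_cases hy1 : y ∈ N₁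
    · refine ⟨x + y, I.add_mem hxI hyI, ?_, ?_⟩
      · intro h
        exact hx1 ((N₁.add_mem_iff_left hy1).mp h)
      · intro h
        exact hy2 ((N₂.add_mem_iff_right hx2).mp h)
    · exact ⟨y, hyI, hy1, hy2⟩
  · exact ⟨x, hxI, hx1, hx2⟩

section
variable (M : Type u) [AddCommGroup M] [Module A M] [Module.Finite A M]

omit [IsNoetherianRing A] [Module.Finite A M] in
theorem ofList_le_max {z : List A} (h : IsRegular M z) : Ideal.ofList z ≤ maximalIdeal A := by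
  apply IsLocalRing.le_maximalIdeal
  intro htop
  apply h.top_ne_smul
  rw [htop, Submodule.top_smul]

omit [IsNoetherianRing A] [Module.Finite A M] in
theorem ann_le_max [Nontrivial M] (𝔞 : Ideal A) (h𝔞 : ∀ a ∈ 𝔞, ∀ m : M, a • m = 0) :
    𝔞 ≤ maximalIdeal A := by
  apply IsLocalRing.le_maximalIdeal
  intro htop
  obtain ⟨m, hm⟩ := exists_ne (0 : M)
  apply hm
  have := h𝔞 1 (htop ▸ Submodule.mem_top) m
  simpa using this

omit [IsLocalRing A] [IsNoetherianRing A] [Module.Finite A M] in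
theorem smul_mk_eq (𝔞 : Ideal A) (h𝔞 : ∀ a ∈ 𝔞, ∀ m : M, a • m = 0) (J : Ideal A)
    (w b c α : A) (hw : w = b + c + α) (hb : b ∈ J) (hα : α ∈ 𝔞)
    (n : M ⧸ (J • ⊤ : Submodule A M)) : w • n = c • n := by
  obtain ⟨m, rfl⟩ := Submodule.Quotient.mk_surjective _ n
  rw [← Submodule.Quotient.mk_smul, ← Submodule.Quotient.mk_smul, hw, add_smul, add_smul, h𝔞 α hα m,
    add_zero, Submodule.Quotient.mk_add]
  have : Submodule.Quotient.mk (p := (J • ⊤ : Submodule A M)) (b • m) = 0 := by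
    rw [Submodule.Quotient.mk_eq_zero]
    exact Submodule.smul_mem_smul hb Submodule.mem_top
  rw [this, zero_add]

omit [IsNoetherianRing A] in
theorem replace_last (𝔞 : Ideal A) (h𝔞 : ∀ a ∈ 𝔞, ∀ m : M, a • m = 0) (u₀ : List A) (x w : A)
    (hreg : IsRegular M (u₀ ++ [x])) (hwI : w ∈ Ideal.ofList (u₀ ++ [x]) ⊔ 𝔞)
    (hwN : w ∉ maximalIdeal A • (Ideal.ofList (u₀ ++ [x]) ⊔ 𝔞) ⊔ Ideal.ofList u₀ ⊔ 𝔞) :
    IsRegular M (u₀ ++ [w]) ∧
      Ideal.ofList (u₀ ++ [w]) ⊔ 𝔞 = Ideal.ofList (u₀ ++ [x]) ⊔ 𝔞 := by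
  have hnt : Nontrivial M := hreg.nontrivial
  have hIle : Ideal.ofList (u₀ ++ [x]) ⊔ 𝔞 ≤ maximalIdeal A :=
    sup_le (ofList_le_max M hreg) (ann_le_max M 𝔞 h𝔞)
  have hxI : x ∈ Ideal.ofList (u₀ ++ [x]) ⊔ 𝔞 := by
    apply Ideal.mem_sup_left
    apply Ideal.subset_span
    simp
  have hu₀I : Ideal.ofList u₀ ≤ Ideal.ofList (u₀ ++ [x]) ⊔ 𝔞 := by
    refine le_trans ?_ le_sup_left
    rw [Ideal.ofList_append]
    exact le_sup_left
  -- decompose w
  have hwI' := hwI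
  rw [Ideal.ofList_append, Ideal.ofList_singleton] at hwI'
  obtain ⟨bc, hbc, α, hα, hw⟩ := Submodule.mem_sup.mp hwI'
  obtain ⟨b, hb, c, hc, rfl⟩ := Submodule.mem_sup.mp hbc
  obtain ⟨a, rfl⟩ := Ideal.mem_span_singleton'.mp hc
  have ha : IsUnit a := by
    by_contra hna
    have ham : a ∈ maximalIdeal A := (IsLocalRing.mem_maximalIdeal a).mpr hna
    apply hwN
    rw [← hw]
    refine Ideal.add_mem _ (Ideal.add_mem _ ?_ ?_) ?_
    · exact Ideal.mem_sup_left (Ideal.mem_sup_right hb)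
    · apply Ideal.mem_sup_left
      apply Ideal.mem_sup_left
      rw [smul_eq_mul]
      exact Ideal.mul_mem_mul ham hxI
    · exact Ideal.mem_sup_right hα
  obtain ⟨h1, h2⟩ := (isWeaklyRegular_append_iff M u₀ [x]).mp hreg.toIsWeaklyRegular
  rw [isWeaklyRegular_singleton_iff] at h2
  have h3 : IsSMulRegular (M ⧸ (Ideal.ofList u₀ • ⊤ : Submodule A M)) (a * x) :=
    (ha.isSMulRegular _).mul h2
  have h4 : IsSMulRegular (M ⧸ (Ideal.ofList u₀ • ⊤ : Submodule A M)) w := by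
    intro n₁ n₂ h
    apply h3
    simp only at h ⊢
    rw [← smul_mk_eq M 𝔞 h𝔞 (Ideal.ofList u₀) w b (a * x) α hw.symm hb hα,
      ← smul_mk_eq M 𝔞 h𝔞 (Ideal.ofList u₀) w b (a * x) α hw.symm hb hα]
    exact h
  have hwr : IsWeaklyRegular M (u₀ ++ [w]) :=
    (isWeaklyRegular_append_iff M u₀ [w]).mpr ⟨h1, (isWeaklyRegular_singleton_iff _ _).mpr h4⟩
  refine ⟨?_, ?_⟩
  · apply IsRegular.of_isWeaklyRegular_of_mem_maximalIdeal M _ hwr
    intro r hr
    rw [List.mem_append, List.mem_singleton] at hr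
    rcases hr with hr | rfl
    · exact hIle (hu₀I (Ideal.subset_span hr))
    · exact hIle hwI
  · apply le_antisymm
    · rw [Ideal.ofList_append, Ideal.ofList_singleton]
      refine sup_le (sup_le hu₀I ?_) le_sup_right
      rw [Ideal.span_singleton_le_iff_mem]
      exact hwI
    · rw [Ideal.ofList_append u₀ [x], Ideal.ofList_singleton]
      refine sup_le (sup_le ?_ ?_) le_sup_right
      · refine le_trans ?_ le_sup_left
        rw [Ideal.ofList_append]
        exact le_sup_left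
      · rw [Ideal.span_singleton_le_iff_mem]
        obtain ⟨a', ha'⟩ := ha.exists_left_inv
        have hx : x = a' * (b + a * x + α) - a' * b - a' * α := by
          linear_combination (-x) * ha'
        rw [hx, hw]
        refine Ideal.sub_mem _ (Ideal.sub_mem _ ?_ ?_) ?_
        · apply Ideal.mul_mem_left
          apply Ideal.mem_sup_left
          rw [Ideal.ofList_append, Ideal.ofList_singleton]
          exact Ideal.mem_sup_right (Ideal.mem_span_singleton_self w)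
        · apply Ideal.mul_mem_left
          apply Ideal.mem_sup_left
          rw [Ideal.ofList_append]
          exact Ideal.mem_sup_left hb
        · exact Ideal.mul_mem_left _ _ (Ideal.mem_sup_right hα)

omit [Module.Finite A M] in
theorem not_le_of_regular (𝔞 : Ideal A) (h𝔞 : ∀ a ∈ 𝔞, ∀ m : M, a • m = 0) (u₀ : List A) (x : A)
    (hreg : IsRegular M (u₀ ++ [x])) :
    ¬ (Ideal.ofList (u₀ ++ [x]) ⊔ 𝔞 ≤
      maximalIdeal A • (Ideal.ofList (u₀ ++ [x]) ⊔ 𝔞) ⊔ Ideal.ofList u₀ ⊔ 𝔞) := by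
  intro hle
  have hfg : (Ideal.ofList (u₀ ++ [x]) ⊔ 𝔞).FG := IsNoetherian.noetherian _
  have hle' : Ideal.ofList (u₀ ++ [x]) ⊔ 𝔞 ≤
      (Ideal.ofList u₀ ⊔ 𝔞) ⊔ maximalIdeal A • (Ideal.ofList (u₀ ++ [x]) ⊔ 𝔞) := by
    refine hle.trans ?_
    rw [sup_assoc, sup_comm]
  have hJ : Ideal.ofList (u₀ ++ [x]) ⊔ 𝔞 ≤ Ideal.ofList u₀ ⊔ 𝔞 :=
    Submodule.le_of_le_smul_of_le_jacobson_bot hfg (IsLocalRing.maximalIdeal_le_jacobson _) hle'
  have hx : x ∈ Ideal.ofList u₀ ⊔ 𝔞 := by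
    apply hJ
    apply Ideal.mem_sup_left
    apply Ideal.subset_span
    simp
  obtain ⟨b, hb, α, hα, hbx⟩ := Submodule.mem_sup.mp hx
  obtain ⟨h1, h2⟩ := (isWeaklyRegular_append_iff M u₀ [x]).mp hreg.toIsWeaklyRegular
  rw [isWeaklyRegular_singleton_iff] at h2
  have hsub : ∀ n : M ⧸ (Ideal.ofList u₀ • ⊤ : Submodule A M), n = 0 := by
    intro n
    apply h2
    simp only
    rw [smul_mk_eq M 𝔞 h𝔞 (Ideal.ofList u₀) x b 0 α (by rw [add_zero, hbx]) hb hα, zero_smul,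
      smul_zero]
  apply hreg.top_ne_smul
  apply le_antisymm _ le_top
  intro m _
  have hm : (Submodule.Quotient.mk m : M ⧸ (Ideal.ofList u₀ • ⊤ : Submodule A M)) = 0 := hsub _
  rw [Submodule.Quotient.mk_eq_zero] at hm
  refine Submodule.smul_mono_left ?_ hm
  rw [Ideal.ofList_append]
  exact le_sup_left

omit [IsLocalRing A] [IsNoetherianRing A] [Module.Finite A M] in
theorem nil_of_le (𝔞 : Ideal A) (h𝔞 : ∀ a ∈ 𝔞, ∀ m : M, a • m = 0) (v : List A)
    (hv : IsRegular M v) (h : Ideal.ofList v ≤ 𝔞) : v = [] := by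
  cases v with
  | nil => rfl
  | cons y v' =>
    exfalso
    have hnt : Nontrivial M := hv.nontrivial
    have hy : y ∈ 𝔞 := h (Ideal.subset_span (by simp))
    have hreg := ((isRegular_cons_iff M y v').mp hv).1
    obtain ⟨m, hm⟩ := exists_ne (0 : M)
    apply hm
    apply hreg
    simp only
    rw [h𝔞 y hy m, smul_zero]

end

omit [CommRing A] [IsLocalRing A] [IsNoetherianRing A] in
theorem step_cons (w : A) {z z' : List A} (h : Step z z') : Step (w :: z) (w :: z') := by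
  rcases h with h | ⟨h1, h2⟩
  · exact Or.inl (h.cons w)
  · right
    refine ⟨by simp [h1], ?_⟩
    cases z with
    | nil =>
      cases z' with
      | nil => rfl
      | cons _ _ => simp at h1
    | cons a l =>
      cases z' with
      | nil => simp at h1
      | cons a' l' =>
        show w :: (a :: l).dropLast = w :: (a' :: l').dropLast
        rw [h2]

theorem main : ∀ (r : ℕ) (M : Type u) [AddCommGroup M] [Module A M] [Module.Finite A M]
    (𝔞 : Ideal A) (_ : ∀ a ∈ 𝔞, ∀ m : M, a • m = 0) (u v : List A), u.length = r →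
    IsRegular M u → IsRegular M v → Ideal.ofList u ⊔ 𝔞 = Ideal.ofList v ⊔ 𝔞 →
    Relation.ReflTransGen (Rel M 𝔞 (Ideal.ofList u ⊔ 𝔞)) u v := by
  intro r
  induction r with
  | zero =>
    intro M _ _ _ 𝔞 h𝔞 u v hlen hu hv hI
    have hu0 : u = [] := List.length_eq_zero_iff.mp hlen
    subst hu0
    have hv0 : v = [] := by
      apply nil_of_le M 𝔞 h𝔞 v hv
      have : Ideal.ofList v ≤ Ideal.ofList v ⊔ 𝔞 := le_sup_left
      rw [← hI, Ideal.ofList_nil, bot_sup_eq] at this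
      exact this
    subst hv0
    exact Relation.ReflTransGen.refl
  | succ r ih =>
    intro M _ _ _ 𝔞 h𝔞 u v hlen hu hv hI
    have hnt : Nontrivial M := hu.nontrivial
    have hune : u ≠ [] := by
      intro h
      rw [h] at hlen
      simp at hlen
    have hvne : v ≠ [] := by
      intro h
      apply hune
      apply nil_of_le M 𝔞 h𝔞 u hu
      have : Ideal.ofList u ≤ Ideal.ofList u ⊔ 𝔞 := le_sup_left
      rw [hI, h, Ideal.ofList_nil, bot_sup_eq] at this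
      exact this
    obtain ⟨u₀, x, rfl⟩ : ∃ u₀ x, u = u₀ ++ [x] := by
      rcases List.eq_nil_or_concat' u with h | h
      · exact absurd h hune
      · exact h
    obtain ⟨v₀, y, rfl⟩ : ∃ v₀ y, v = v₀ ++ [y] := by
      rcases List.eq_nil_or_concat' v with h | h
      · exact absurd h hvne
      · exact h
    have hlen₀ : u₀.length = r := by simpa using hlen
    obtain ⟨w, hwI, hwNu, hwNv⟩ := exists_avoid_two (Ideal.ofList (u₀ ++ [x]) ⊔ 𝔞)
      (maximalIdeal A • (Ideal.ofList (u₀ ++ [x]) ⊔ 𝔞) ⊔ Ideal.ofList u₀ ⊔ 𝔞)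
      (maximalIdeal A • (Ideal.ofList (v₀ ++ [y]) ⊔ 𝔞) ⊔ Ideal.ofList v₀ ⊔ 𝔞)
      (not_le_of_regular M 𝔞 h𝔞 u₀ x hu)
      (by rw [hI]; exact not_le_of_regular M 𝔞 h𝔞 v₀ y hv)
    obtain ⟨hru, hIu⟩ := replace_last M 𝔞 h𝔞 u₀ x w hu hwI hwNu
    obtain ⟨hrv, hIv⟩ := replace_last M 𝔞 h𝔞 v₀ y w hv (hI ▸ hwI) hwNv
    have hpu : (u₀ ++ [w]).Perm (w :: u₀) := List.perm_append_singleton w u₀
    have hpv : (v₀ ++ [w]).Perm (w :: v₀) := List.perm_append_singleton w v₀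
    have hru' : IsRegular M (w :: u₀) := IsLocalRing.isRegular_of_perm hru hpu
    have hrv' : IsRegular M (w :: v₀) := IsLocalRing.isRegular_of_perm hrv hpv
    obtain ⟨hwreg, hu₀'⟩ := (isRegular_cons_iff M w u₀).mp hru'
    obtain ⟨-, hv₀'⟩ := (isRegular_cons_iff M w v₀).mp hrv'
    have h𝔞' : ∀ a ∈ 𝔞 ⊔ Ideal.span {w}, ∀ m : QuotSMulTop w M, a • m = 0 := by
      intro a ha m
      obtain ⟨α, hα, c, hc, rfl⟩ := Submodule.mem_sup.mp ha
      obtain ⟨c, rfl⟩ := Ideal.mem_span_singleton'.mp hc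
      obtain ⟨m, rfl⟩ := Submodule.Quotient.mk_surjective _ m
      rw [← Submodule.Quotient.mk_smul, Submodule.Quotient.mk_eq_zero, add_smul, h𝔞 α hα m, zero_add,
        mul_smul]
      exact Submodule.smul_mem _ _ (Submodule.smul_mem_pointwise_smul m w ⊤ Submodule.mem_top)
    have hI' : ∀ z : List A, Ideal.ofList z ⊔ (𝔞 ⊔ Ideal.span {w}) = Ideal.ofList (w :: z) ⊔ 𝔞 := by
      intro z
      rw [Ideal.ofList_cons, sup_comm 𝔞, ← sup_assoc, sup_comm (Ideal.ofList z)]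
    have hIeq : Ideal.ofList u₀ ⊔ (𝔞 ⊔ Ideal.span {w}) = Ideal.ofList (u₀ ++ [x]) ⊔ 𝔞 := by
      rw [← hIu, Ideal.ofList_append, Ideal.ofList_singleton, sup_comm 𝔞, sup_assoc]
    have hIeqv : Ideal.ofList v₀ ⊔ (𝔞 ⊔ Ideal.span {w}) = Ideal.ofList (u₀ ++ [x]) ⊔ 𝔞 := by
      rw [hI, ← hIv, Ideal.ofList_append, Ideal.ofList_singleton, sup_comm 𝔞, sup_assoc]
    have hmid := ih (QuotSMulTop w M) (𝔞 ⊔ Ideal.span {w}) h𝔞' u₀ v₀ hlen₀ hu₀' hv₀'
      (hIeq.trans hIeqv.symm)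
    have hlift : Relation.ReflTransGen (Rel M 𝔞 (Ideal.ofList (u₀ ++ [x]) ⊔ 𝔞)) (w :: u₀) (w :: v₀) := by
      refine Relation.ReflTransGen.lift (fun z => w :: z) ?_ _ _ hmid
      intro z z' ⟨hs, hg1, hg2⟩
      refine ⟨step_cons w hs, (isRegular_cons_iff M w z').mpr ⟨hwreg, hg1⟩, ?_⟩
      rw [← hI' z', hg2, hIeq]
    have hgoodv : Good M 𝔞 (Ideal.ofList (u₀ ++ [x]) ⊔ 𝔞) (v₀ ++ [y]) := ⟨hv, hI.symm⟩
    have s1 : Rel M 𝔞 (Ideal.ofList (u₀ ++ [x]) ⊔ 𝔞) (u₀ ++ [x]) (u₀ ++ [w]) :=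
      ⟨Or.inr ⟨by simp, by simp⟩, hru, hIu⟩
    have s2 : Rel M 𝔞 (Ideal.ofList (u₀ ++ [x]) ⊔ 𝔞) (u₀ ++ [w]) (w :: u₀) := by
      refine ⟨Or.inl hpu, hru', ?_⟩
      rw [← hI' u₀, hIeq]
    have s3 : Rel M 𝔞 (Ideal.ofList (u₀ ++ [x]) ⊔ 𝔞) (w :: v₀) (v₀ ++ [w]) := by
      refine ⟨Or.inl hpv.symm, hrv, ?_⟩
      rw [hIv, hI]
    have s4 : Rel M 𝔞 (Ideal.ofList (u₀ ++ [x]) ⊔ 𝔞) (v₀ ++ [w]) (v₀ ++ [y]) :=
      ⟨Or.inr ⟨by simp, by simp⟩, hgoodv⟩
    exact ((((Relation.ReflTransGen.single s1).tail s2).trans hlift).tail s3).tail s4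


end Helpers


/-- Let A be a Noetherian local ring and u, v two regular sequences of elements of A generating the same
ideal. Then there is a finite chain of regular sequences generating that same ideal, starting at u
and ending at v, in which each sequence is obtained from the previous one either by a permutation or
by changing only its last element. -/
theorem result (A : Type u) [CommRing A] [IsLocalRing A] [IsNoetherianRing A]
    (u v : List A) (hu : IsRegular A u) (hv : IsRegular A v) (huv : Ideal.span {x | x ∈ u} = Ideal.span {x | x ∈ v}) :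
    ∃ ws : List (List A), ws.head? = some u ∧ ws.getLast? = some v ∧
      (∀ w ∈ ws, IsRegular A w ∧ Ideal.span {x | x ∈ w} = Ideal.span {x | x ∈ u}) ∧
      List.IsChain (fun w w' : List A => w.Perm w' ∨ (w.length = w'.length ∧ w.dropLast = w'.dropLast)) ws := by
  have h := main (A := A) u.length A ⊥
    (by intro a ha m; rw [Ideal.mem_bot] at ha; rw [ha, zero_smul]) u v rfl hu hv
    (by rw [sup_bot_eq, sup_bot_eq]; exact huv)
  obtain ⟨l, hl1, hl2⟩ := List.exists_isChain_cons_of_relationReflTransGen h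
  have hgood : ∀ z ∈ u :: l, Good A ⊥ (Ideal.ofList u ⊔ ⊥) z := by
    refine List.IsChain.induction (r := Rel A ⊥ (Ideal.ofList u ⊔ ⊥))
      (fun z => Good A ⊥ (Ideal.ofList u ⊔ ⊥) z) _ hl1 ?_ ?_
    · intro x y hxy _
      exact hxy.2
    · intro _
      exact ⟨hu, rfl⟩
  refine ⟨u :: l, rfl, ?_, ?_, ?_⟩
  · rw [List.getLast?_eq_getLast_of_ne_nil (List.cons_ne_nil _ _), hl2]
  · intro z hz
    obtain ⟨h1, h2⟩ := hgood z hz
    refine ⟨h1, ?_⟩
    rw [sup_bot_eq, sup_bot_eq] at h2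
    exact h2
  · exact hl1.imp (fun _ _ h => h.1)

end Groth.Agent.S3140
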