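import Groth.Statements.S3206
import Groth.Agent.Lib.Helper99.Morse

set_option autoImplicit false
open SGA7

namespace Groth.Agent.S3206

open MvPowerSeries Groth.Agent.Lib.Helper99.PSInv Groth.Agent.Lib.Helper99.Morse

variable {k : Type} [Field k] {n : ℕ}

theorem mem_maximalIdeal_iff (g : MvPowerSeries (Fin n) k) :
    g ∈ IsLocalRing.maximalIdeal (MvPowerSeries (Fin n) k) ↔ constantCoeff g = 0 := by
  rw [IsLocalRing.mem_maximalIdeal, mem_nonunits_iff, isUnit_iff_constantCoeff, isUnit_iff_ne_zero,
    not_not]

/-- the linear coefficient of a product whose second factor has no constant term -/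
theorem coeff_single_mul (j : Fin n) (u v : MvPowerSeries (Fin n) k) (hv : constantCoeff v = 0) :
    coeff (Finsupp.single j 1) (u * v) = constantCoeff u * coeff (Finsupp.single j 1) v := by
  have hu : u = C (constantCoeff u) + (u - C (constantCoeff u)) := by ring
  have h0 : constantCoeff (u - C (constantCoeff u)) = 0 := by simp
  have h1 : ((1 + 1 : ℕ) : ℕ∞) ≤ ((u - C (constantCoeff u)) * v).order :=
    le_order_mul_of_le (by simpa using one_le_order_iff_constCoeff_eq_zero.2 h0)
      (by simpa using one_le_order_iff_constCoeff_eq_zero.2 hv)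
  have h2 : coeff (Finsupp.single j 1) ((u - C (constantCoeff u)) * v) = 0 := by
    apply coeff_of_lt_order
    refine lt_of_lt_of_le ?_ h1
    rw [Finsupp.degree_single]
    norm_num
  conv_lhs => rw [hu, add_mul, map_add, h2, add_zero, coeff_C_mul]

theorem exists_single_of_degree_eq_one (e : Fin n →₀ ℕ) (he : e.degree = 1) :
    ∃ i, e = Finsupp.single i 1 := by
  obtain ⟨i, hi⟩ := exists_ne_zero_of_degree_pos e (by omega)
  have h1 := tsub_single_add_single e i hi
  have hd : (e - Finsupp.single i 1).degree = 0 := by
    have := he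
    rw [← h1, map_add, Finsupp.degree_single] at this
    omega
  have h0 := (Finsupp.degree_eq_zero_iff _).1 hd
  exact ⟨i, by rw [← h1, h0, zero_add]⟩

/-- Let k be a field and f a formal power series in n variables over k without constant term whose
partial derivatives ∂f/∂x_1, …, ∂f/∂x_n generate the maximal ideal of k[[x_1, …, x_n]]. Then there
are power series ε_1, …, ε_n with no terms of degree < 2 and a quadratic form q such that f = q(x_1
+ ε_1, …, x_n + ε_n). -/
theorem result (k : Type) [Field k] (n : ℕ) (f : MvPowerSeries (Fin n) k)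
    (hf0 : MvPowerSeries.constantCoeff f = 0)
    (hJ : Ideal.span (Set.range fun i : Fin n => MvPowerSeries.pderiv k i f) = IsLocalRing.maximalIdeal (MvPowerSeries (Fin n) k)) :
    ∃ (ε : Fin n → MvPowerSeries (Fin n) k) (_ : ∀ i (m : Fin n →₀ ℕ), m.degree < 2 → MvPowerSeries.coeff m (ε i) = 0)
      (q : MvPolynomial (Fin n) k) (_ : q.IsHomogeneous 2)
      (_ : MvPowerSeries.HasSubst (fun i : Fin n => MvPowerSeries.X i + ε i)),
      f = MvPowerSeries.subst (fun i : Fin n => MvPowerSeries.X i + ε i) (q : MvPowerSeries (Fin n) k) := by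
  classical
  -- constant coefficients of the partial derivatives vanish
  have hpd0 : ∀ i, constantCoeff (pderiv k i f) = 0 := by
    intro i
    rw [← mem_maximalIdeal_iff, ← hJ]
    exact Ideal.subset_span ⟨i, rfl⟩
  -- the linear terms of f vanish
  have hlin : ∀ i, coeff (Finsupp.single i 1) f = 0 := by
    intro i
    have := hpd0 i
    rw [← coeff_zero_eq_constantCoeff_apply, coeff_pderiv] at this
    simpa using this
  set q := VanCyc.quadPart f with hq
  -- linear coefficients of the partial derivatives give the polar matrix
  have hB : ∀ i j, coeff (Finsupp.single j 1) (pderiv k i f) = VanCyc.polarMatrix q i j := by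
    intro i j
    rw [coeff_pderiv]
    unfold VanCyc.polarMatrix
    rcases lt_trichotomy i j with hij | hij | hij
    · rw [if_neg hij.ne, if_pos hij, hq]
      unfold VanCyc.quadPart
      rw [if_neg hij.ne, if_pos hij, Finsupp.single_eq_of_ne hij.ne, add_comm]
      simp
    · subst hij
      rw [if_pos rfl, hq]
      unfold VanCyc.quadPart
      rw [if_pos rfl, Finsupp.single_eq_same, ← Finsupp.single_add]
      norm_num
      ring
    · rw [if_neg hij.ne', if_neg (not_lt.2 hij.le), hq]
      unfold VanCyc.quadPart
      rw [if_neg hij.ne, if_pos hij, Finsupp.single_eq_of_ne hij.ne']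
      simp
  -- non-degeneracy
  have hnd : VanCyc.QuadNondeg q := by
    have hex : ∀ l : Fin n, ∃ c : Fin n → MvPowerSeries (Fin n) k,
        ∑ i, c i * pderiv k i f = X l := by
      intro l
      have hX : (X l : MvPowerSeries (Fin n) k) ∈
          Ideal.span (Set.range fun i : Fin n => pderiv k i f) := by
        rw [hJ, mem_maximalIdeal_iff, constantCoeff_X]
      exact (Ideal.mem_span_range_iff_exists_fun).1 hX
    choose c hc using hex
    let M : Matrix (Fin n) (Fin n) k := fun l i => constantCoeff (c l i)
    have hMB : M * VanCyc.polarMatrix q = 1 := by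
      ext l j
      rw [Matrix.mul_apply]
      have := congrArg (coeff (Finsupp.single j 1)) (hc l)
      rw [map_sum] at this
      simp only [coeff_single_mul j _ _ (hpd0 _), hB] at this
      rw [this, coeff_X, Matrix.one_apply]
      by_cases hlj : l = j
      · subst hlj; simp
      · rw [if_neg hlj, if_neg]
        intro h
        exact hlj ((Finsupp.single_left_inj one_ne_zero).1 h).symm
    exact Matrix.isUnit_det_of_left_inverse hMB
  set QA : MvPowerSeries (Fin n) k :=
    ((VanCyc.quadPoly q + MvPolynomial.C 0 : MvPolynomial (Fin n) k) : MvPowerSeries (Fin n) k)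
    with hQA
  have hhom : (VanCyc.quadPoly q + MvPolynomial.C 0 : MvPolynomial (Fin n) k).IsHomogeneous 2 := by
    rw [map_zero, add_zero]; exact isHomogeneous_quadPoly q
  set G : MvPowerSeries (Fin n) k := f - QA with hGdef
  have hG : ((2 + 1 : ℕ) : ℕ∞) ≤ G.order := by
    apply nat_le_order
    intro e he
    rw [hGdef, map_sub, sub_eq_zero, hQA, MvPolynomial.coeff_coe]
    have hcases : e.degree = 0 ∨ e.degree = 1 ∨ e.degree = 2 := by omega
    rcases hcases with h0 | h1 | h2
    · rw [hhom.coeff_eq_zero (by omega)]
      have : e = 0 := (Finsupp.degree_eq_zero_iff _).1 h0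
      rw [this, coeff_zero_eq_constantCoeff_apply, hf0]
    · rw [hhom.coeff_eq_zero (by omega)]
      obtain ⟨i, rfl⟩ := exists_single_of_degree_eq_one e h1
      exact hlin i
    · obtain ⟨i, j, hij, rfl⟩ := exists_single_add_single_of_degree_eq_two e h2
      rw [map_zero, add_zero, coeff_quadPoly_single_add_single q i j hij, hq]
      unfold VanCyc.quadPart
      rcases hij.lt_or_eq with hlt | heq
      · rw [if_neg hlt.ne, if_pos hlt]
      · subst heq
        rw [if_pos rfl, ← Finsupp.single_add]
  have hfG : f = QA + G := by rw [hGdef]; ring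
  obtain ⟨h, hh, htan, hsub⟩ := morse_quadPoly q hnd 2 le_rfl 0 G hG
  have hsubf : subst (fun i => X i + h i) f = QA := by rw [hfG]; exact hsub
  have hb := isTangentId_invSubst htan
  have hfun : (fun i : Fin n => X i + (invSubst htan i - X i)) = invSubst htan := by
    funext i; ring
  refine ⟨fun i => invSubst htan i - X i, ?_, VanCyc.quadPoly q + MvPolynomial.C 0, hhom, ?_, ?_⟩
  · intro i e he
    exact coeff_of_lt_order (lt_of_lt_of_le (by exact_mod_cast he) (hb i))
  · rw [hfun]; exact hb.hasSubst
  · rw [hfun]
    change f = subst (invSubst htan) QA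
    rw [← hsubf, subst_invSubst_subst]

end Groth.Agent.S3206
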