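import Groth.Statements.S3209
import Mathlib.LinearAlgebra.TensorProduct.RightExactness
-- import your own Groth.Agent.* helpers here

set_option autoImplicit false
universe u
open TensorProduct
open SGA7

namespace Groth.Agent.S3209

theorem map_eq_lTensor {R S X Y : Type u} [CommRing R] [CommRing S] [CommRing X] [CommRing Y]
    [Algebra R S] [Algebra R X] [Algebra R Y] (h : X →ₐ[R] Y) (z : S ⊗[R] X) :
    Algebra.TensorProduct.map (AlgHom.id R S) h z = LinearMap.lTensor S h.toLinearMap z := by
  induction z using TensorProduct.induction_on with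
  | zero => simp
  | tmul a x => simp
  | add x y hx hy => rw [map_add, map_add, hx, hy]


/-- Let f : B' → B be a surjective map of R-algebras with kernel J, g : C → B a map of R-algebras, P =
B' ×_B C their fibre product (the equalizer of f ∘ pr₁ and g ∘ pr₂ in B' × C) and S an R-algebra
such that S ⊗_R J → S ⊗_R B' is injective (this holds when Tor_1^R(B, S) = 0, the published
hypothesis, and in particular when S is flat). Then the canonical map S ⊗_R P → (S ⊗_R B') ×_{S ⊗_R
B} (S ⊗_R C) is bijective: it is injective, and every pair with the same image in S ⊗_R B comes from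
S ⊗_R P. -/
theorem result (R B' B C S : Type u) [CommRing R] [CommRing B'] [CommRing B] [CommRing C]
    [CommRing S] [Algebra R B'] [Algebra R B] [Algebra R C] [Algebra R S]
    (f : B' →ₐ[R] B) (hf : Function.Surjective f) (g : C →ₐ[R] B)
    (hJ : Function.Injective (LinearMap.lTensor S (LinearMap.ker f.toLinearMap).subtype)) :
    letI P := AlgHom.equalizer (f.comp (AlgHom.fst R B' C)) (g.comp (AlgHom.snd R B' C))
    letI φ₁ := Algebra.TensorProduct.map (AlgHom.id R S) ((AlgHom.fst R B' C).comp P.val)
    letI φ₂ := Algebra.TensorProduct.map (AlgHom.id R S) ((AlgHom.snd R B' C).comp P.val)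
    Function.Injective (fun z : S ⊗[R] ↥P => (φ₁ z, φ₂ z)) ∧
    ∀ (x : S ⊗[R] B') (y : S ⊗[R] C),
      Algebra.TensorProduct.map (AlgHom.id R S) f x = Algebra.TensorProduct.map (AlgHom.id R S) g y →
        ∃ z : S ⊗[R] ↥P, φ₁ z = x ∧ φ₂ z = y := by
  classical
  set P := AlgHom.equalizer (f.comp (AlgHom.fst R B' C)) (g.comp (AlgHom.snd R B' C)) with hP
  let J := LinearMap.ker f.toLinearMap
  let fstP : P →ₗ[R] B' := ((AlgHom.fst R B' C).comp P.val).toLinearMap
  let sndP : P →ₗ[R] C := ((AlgHom.snd R B' C).comp P.val).toLinearMap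
  have hPmem : ∀ p : P, f (p.1.1) = g (p.1.2) := fun p => p.2
  let jP : J →ₗ[R] P :=
    { toFun := fun j => ⟨(j.1, 0), by
        change f j.1 = g 0
        rw [map_zero]; exact j.2⟩
      map_add' := fun a b => by
        apply Subtype.ext; simp
      map_smul' := fun r a => by
        apply Subtype.ext; simp }
  have hfst_j : fstP ∘ₗ jP = J.subtype := by
    ext j; rfl
  have hsnd_j : sndP ∘ₗ jP = 0 := by
    ext j; rfl
  have hsnd_surj : Function.Surjective sndP := by
    intro c
    obtain ⟨b', hb'⟩ := hf (g c)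
    exact ⟨⟨(b', c), hb'⟩, rfl⟩
  have hex : Function.Exact jP sndP := by
    intro p
    constructor
    · intro hp
      have hp' : p.1.2 = 0 := hp
      refine ⟨⟨p.1.1, ?_⟩, ?_⟩
      · change f p.1.1 = 0
        rw [hPmem p, hp', map_zero]
      · apply Subtype.ext
        apply Prod.ext
        · rfl
        · exact hp'.symm
    · rintro ⟨j, rfl⟩
      rfl
  have hexS := lTensor_exact S hex hsnd_surj
  have hex2 : Function.Exact J.subtype f.toLinearMap := LinearMap.exact_subtype_ker_map _
  have hex2S := lTensor_exact S hex2 hf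
  have hφ₁ : ∀ z : S ⊗[R] ↥P, Algebra.TensorProduct.map (AlgHom.id R S)
      ((AlgHom.fst R B' C).comp P.val) z = LinearMap.lTensor S fstP z := fun z => map_eq_lTensor _ z
  have hφ₂ : ∀ z : S ⊗[R] ↥P, Algebra.TensorProduct.map (AlgHom.id R S)
      ((AlgHom.snd R B' C).comp P.val) z = LinearMap.lTensor S sndP z := fun z => map_eq_lTensor _ z
  have hcomm : f.toLinearMap ∘ₗ fstP = g.toLinearMap ∘ₗ sndP := by
    ext p; exact hPmem p
  have hfstS : ∀ w, LinearMap.lTensor S fstP (LinearMap.lTensor S jP w) =
      LinearMap.lTensor S J.subtype w := by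
    intro w
    rw [← LinearMap.comp_apply, ← LinearMap.lTensor_comp, hfst_j]
  have hcommS : ∀ z, LinearMap.lTensor S f.toLinearMap (LinearMap.lTensor S fstP z) =
      LinearMap.lTensor S g.toLinearMap (LinearMap.lTensor S sndP z) := by
    intro z
    rw [← LinearMap.comp_apply, ← LinearMap.comp_apply, ← LinearMap.lTensor_comp,
      ← LinearMap.lTensor_comp, hcomm]
  constructor
  · intro z₁ z₂ h
    have h1 : LinearMap.lTensor S fstP z₁ = LinearMap.lTensor S fstP z₂ := by
      have := congrArg Prod.fst h
      simpa only [hφ₁] using this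
    have h2 : LinearMap.lTensor S sndP z₁ = LinearMap.lTensor S sndP z₂ := by
      have := congrArg Prod.snd h
      simpa only [hφ₂] using this
    have h3 : LinearMap.lTensor S sndP (z₁ - z₂) = 0 := by rw [map_sub, h2, sub_self]
    obtain ⟨w, hw⟩ := (hexS (z₁ - z₂)).mp h3
    have h4 : LinearMap.lTensor S J.subtype w = 0 := by
      rw [← hfstS, hw, map_sub, h1, sub_self]
    have h5 : w = 0 := hJ (by rw [h4, map_zero])
    rw [h5, map_zero] at hw
    exact (sub_eq_zero.mp hw.symm)
  · intro x y hxy
    rw [map_eq_lTensor, map_eq_lTensor] at hxy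
    obtain ⟨z₀, hz₀⟩ := LinearMap.lTensor_surjective S hsnd_surj y
    have h1 : LinearMap.lTensor S f.toLinearMap (x - LinearMap.lTensor S fstP z₀) = 0 := by
      rw [map_sub, hcommS, hz₀, hxy, sub_self]
    obtain ⟨w, hw⟩ := (hex2S _).mp h1
    refine ⟨z₀ + LinearMap.lTensor S jP w, ?_, ?_⟩
    · rw [hφ₁, map_add, hfstS, hw]
      abel
    · rw [hφ₂, map_add, hz₀]
      have : LinearMap.lTensor S sndP (LinearMap.lTensor S jP w) = 0 := by
        rw [← LinearMap.comp_apply, ← LinearMap.lTensor_comp, hsnd_j]
        simp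
      rw [this, add_zero]

end Groth.Agent.S3209
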