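import Groth.Statements.S3214
import Mathlib.RingTheory.Polynomial.Vieta

set_option autoImplicit false
open Polynomial
universe u
open SGA7II

set_option linter.unusedSectionVars false

namespace Groth.Agent.S3214Aux

lemma P_eq (a : ℕ) :
    (∏ i : Fin a, ((X : (MvPolynomial (Fin a) ℤ)[X]) - C (MvPolynomial.X i))) =
      ∑ i ∈ Finset.range (a + 1), (-1 : (MvPolynomial (Fin a) ℤ)[X]) ^ i *
        (C (MvPolynomial.esymm (Fin a) ℤ i) * X ^ (a - i)) := by
  have h := Multiset.prod_X_sub_X_eq_sum_esymm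
    ((Finset.univ : Finset (Fin a)).val.map (MvPolynomial.X (R := ℤ)))
  rw [Multiset.map_map] at h
  simp only [Multiset.card_map, Finset.card_val, Finset.card_univ, Fintype.card_fin] at h
  rw [MvPolynomial.esymm_eq_multiset_esymm]
  exact h

lemma P_monic (a : ℕ) :
    (∏ i : Fin a, ((X : (MvPolynomial (Fin a) ℤ)[X]) - C (MvPolynomial.X i))).Monic :=
  monic_prod_of_monic _ _ fun i _ => monic_X_sub_C _

lemma P_natDegree (a : ℕ) :
    (∏ i : Fin a, ((X : (MvPolynomial (Fin a) ℤ)[X]) - C (MvPolynomial.X i))).natDegree = a := by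
  rw [natDegree_prod_of_monic _ _ fun i _ => monic_X_sub_C _]
  simp

lemma mod_small (a e : ℕ) (he : e < a) :
    ((X : (MvPolynomial (Fin a) ℤ)[X]) ^ e %ₘ
      (∏ i : Fin a, ((X : (MvPolynomial (Fin a) ℤ)[X]) - C (MvPolynomial.X i)))) = X ^ e := by
  rw [Polynomial.modByMonic_eq_self_iff (P_monic a)]
  rw [degree_eq_natDegree (P_monic a).ne_zero, P_natDegree]
  calc (X ^ e : (MvPolynomial (Fin a) ℤ)[X]).degree ≤ (e : WithBot ℕ) := degree_X_pow_le e
    _ < (a : WithBot ℕ) := by exact_mod_cast he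

end Groth.Agent.S3214Aux

namespace Groth.Agent.S3214

/-- In the recursive form established in its proof: let A = Z[X_1, ..., X_a] (a >= 1), P = prod_i (T -
X_i) in A[T] and S_i the i-th elementary symmetric function. Writing a_j for the coefficient of
T^{a-1} in the remainder of T^{a-1+j} modulo P, one has a_0 = 1 and sum_{i=0}^{a} (-1)^i S_i a_{j-i}
= 0 for every j > 0 (with a_m = 0 for m < 0); equivalently sum_j (-1)^j a_j is the inverse of sum_i
S_i. (The source works in formal power series; the identity involves only polynomials.) -/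
theorem result (a : ℕ) (ha : 0 < a) :
    let P : (MvPolynomial (Fin a) ℤ)[X] := ∏ i : Fin a, (X - C (MvPolynomial.X i))
    let coef : ℤ → MvPolynomial (Fin a) ℤ := fun j =>
      if j < 0 then 0 else ((X : (MvPolynomial (Fin a) ℤ)[X]) ^ (a - 1 + j.toNat) %ₘ P).coeff (a - 1)
    coef 0 = 1 ∧ ∀ j : ℕ, 0 < j →
      (∑ i ∈ Finset.range (a + 1), (-1 : MvPolynomial (Fin a) ℤ) ^ i * MvPolynomial.esymm (Fin a) ℤ i *
        coef ((j : ℤ) - i)) = 0 := by
  intro P coef
  refine ⟨?_, ?_⟩
  · simp only [coef, lt_self_iff_false, if_false, Int.toNat_zero, add_zero]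
    rw [Groth.Agent.S3214Aux.mod_small a (a - 1) (by omega)]
    simp
  · intro j hj
    have hmono := Groth.Agent.S3214Aux.P_monic a
    have h0 : ((X : (MvPolynomial (Fin a) ℤ)[X]) ^ (j - 1) * P) %ₘ P = 0 := by
      rw [Polynomial.modByMonic_eq_zero_iff_dvd hmono]
      exact dvd_mul_left _ _
    have h1 : (X : (MvPolynomial (Fin a) ℤ)[X]) ^ (j - 1) * P =
        ∑ i ∈ Finset.range (a + 1), ((-1 : MvPolynomial (Fin a) ℤ) ^ i *
          MvPolynomial.esymm (Fin a) ℤ i) • (X : (MvPolynomial (Fin a) ℤ)[X]) ^ (a - i + (j - 1)) := by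
      change _ * (∏ i : Fin a, (X - C (MvPolynomial.X i))) = _
      rw [Groth.Agent.S3214Aux.P_eq, Finset.mul_sum]
      refine Finset.sum_congr rfl fun i _ => ?_
      rw [smul_eq_C_mul, pow_add]
      simp only [map_mul, map_pow, map_neg, map_one]
      ring
    have h2 : (((X : (MvPolynomial (Fin a) ℤ)[X]) ^ (j - 1) * P) %ₘ P).coeff (a - 1) =
        ∑ i ∈ Finset.range (a + 1), (-1 : MvPolynomial (Fin a) ℤ) ^ i *
          MvPolynomial.esymm (Fin a) ℤ i * coef ((j : ℤ) - i) := by
      rw [h1]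
      have : ∀ (s : Finset ℕ) (f : ℕ → (MvPolynomial (Fin a) ℤ)[X]),
          (∑ i ∈ s, f i) %ₘ P = ∑ i ∈ s, (f i %ₘ P) := by
        intro s f
        exact map_sum (Polynomial.modByMonicHom P) f s
      rw [this, Polynomial.finsetSum_coeff]
      refine Finset.sum_congr rfl fun i hi => ?_
      rw [Polynomial.smul_modByMonic, Polynomial.coeff_smul, smul_eq_mul]
      congr 1
      have hia : i ≤ a := by
        have := Finset.mem_range.mp hi; omega
      simp only [coef]
      by_cases hij : i ≤ j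
      · have hneg : ¬ ((j : ℤ) - i < 0) := by omega
        rw [if_neg hneg]
        have : a - i + (j - 1) = a - 1 + ((j : ℤ) - i).toNat := by omega
        rw [this]
      · have hneg : ((j : ℤ) - i < 0) := by omega
        rw [if_pos hneg]
        rw [Groth.Agent.S3214Aux.mod_small a _ (by omega)]
        rw [Polynomial.coeff_X_pow, if_neg (by omega)]
    rw [← h2, h0, Polynomial.coeff_zero]

end Groth.Agent.S3214
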