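import Groth.Statements.S3243
import Groth.Agent.Lib.Helper28.ConstLift
import Groth.Agent.Lib.Helper28.GalH90Push
import Groth.Agent.Lib.Helper4.EtStalk

set_option autoImplicit false
universe u
open CategoryTheory AlgebraicGeometry
open Dix

namespace Groth.Agent.S3243

/-- Let X be quasi-compact and quasi-separated, x a point of X and M a torsion-free abelian group, M_x
the constant sheaf on Spec κ(x). Then H¹(X_ét, i_{x*} M_x) = 0. -/
theorem result (X : Scheme.{u}) [CompactSpace X] [QuasiSeparatedSpace X] (x : X) (M : Type) [AddCommGroup M] [IsAddTorsionFree M] : Subsingleton (EtCoh.H X ((Dix.skyPush X x).obj (EtCoh.const (Spec (X.residueField x)) M)) 1) := by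
  have : Limits.PreservesFiniteLimits (EtCoh.pull (X.fromSpecResidueField x)) :=
    Groth.Agent.Lib.Helper4.EtStalk.preservesFiniteLimits_pull _
  suffices h : ∀ α : EtCoh.H X ((Dix.skyPush X x).obj
      (EtCoh.const (Spec (X.residueField x)) M)) 1, α = 0 from
    ⟨fun a b => (h a).trans (h b).symm⟩
  intro α
  apply Groth.Agent.Lib.Helper28.ExtAdjEdge.eq_zero_of_θ₁'
    (EtCoh.pullPushAdj (X.fromSpecResidueField x)) (EtCoh.const X ℤ) _ α
  apply Groth.Agent.Lib.Helper28.GalH90Push.θ_eq_zero (X.fromSpecResidueField x)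
  exact Groth.Agent.Lib.Helper28.ConstLift.H1_field_eq_zero (X.residueField x) M _

end Groth.Agent.S3243
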