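import Groth.Statements.S3244
import Groth.Agent.S0108
import Groth.Prelude.Def_SixF3
import Mathlib.Algebra.Homology.DerivedCategory.Ext.ExactSequences

set_option autoImplicit false
universe u
open CategoryTheory AlgebraicGeometry
open Dix

namespace Groth.Agent.S3244

theorem isUnit_natCast (X : Scheme.{u}) (n : ℕ) (hX : Dix.InvertibleOn X n) :
    IsUnit (n : Γ(X, ⊤)) := by
  apply X.toRingedSpace.isUnit_of_isUnit_germ ⊤
  intro x hx
  have h1 : (X.presheaf.germ ⊤ x hx).hom (n : Γ(X, ⊤)) = (n : X.presheaf.stalk x) := map_natCast _ n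
  change IsUnit ((X.presheaf.germ ⊤ x hx).hom (n : Γ(X, ⊤)))
  rw [h1]
  by_contra hnu
  have h2 : (n : X.presheaf.stalk x) ∈ IsLocalRing.maximalIdeal (X.presheaf.stalk x) := hnu
  have h3 := (IsLocalRing.residue_eq_zero_iff _).mpr h2
  rw [map_natCast] at h3
  exact hX x h3

instance additive_HF (X : Scheme.{u}) (n : ℕ) : (EtCoh.HF X n).Additive :=
  ⟨fun {F G f g} => by
    ext x
    change Sheaf.H.map (f + g) n x = Sheaf.H.map f n x + Sheaf.H.map g n x
    exact Sheaf.H.map_add_apply f g x⟩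

theorem map_powMap (X : Scheme.{u}) (n i : ℕ) (ξ : (EtCoh.HF X i).obj (EtCoh.Gm X)) :
    (EtCoh.HF X i).map (EtCoh.powMap X n) ξ = n • ξ := by
  have h1 : (EtCoh.HF X i).map (EtCoh.powMap X n) = n • 𝟙 _ := by
    change (EtCoh.HF X i).map (n • 𝟙 (EtCoh.Gm X)) = _
    rw [Functor.map_nsmul, CategoryTheory.Functor.map_id]
  rw [h1]
  rfl


/-- Kummer theory at finite level: let n > 0 be an integer invertible on the scheme X (nonzero in every
residue field). Then for every i ≥ 1 the image of H^i(X_ét, μ_n) → H^i(X_ét, G_m), induced by the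
inclusion μ_n → G_m, is exactly the subgroup of elements of H^i(X_ét, G_m) killed by n; in
particular H²(X_ét, μ_n) maps onto the n-torsion of the cohomological Brauer group H²(X_ét, G_m).
(The published statement gives exact sequences obtained as the colimit of these over the powers n =
ℓ^m of a prime ℓ.) -/
theorem result (X : Scheme.{u}) (n : ℕ) (hn : 0 < n) (hX : Dix.InvertibleOn X n) (i : ℕ) (hi : 1 ≤ i) : Set.range ⇑((EtCoh.HF X i).map (EtCoh.muι X n)) = {ξ : (EtCoh.HF X i).obj (EtCoh.Gm X) | n • ξ = 0} := by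
  have hS := EtSix.kummerShortExact (Groth.Agent.S0108.result X n (isUnit_natCast X n hX))
  ext ξ
  simp only [Set.mem_range, Set.mem_setOf_eq]
  rw [← map_powMap]
  constructor
  · rintro ⟨η, rfl⟩
    have h1 : (EtCoh.HF X i).map (EtCoh.muι X n) ≫ (EtCoh.HF X i).map (EtCoh.powMap X n) = 0 := by
      rw [← Functor.map_comp]
      have : EtCoh.muι X n ≫ EtCoh.powMap X n = 0 := (EtSix.kummerSC X n).zero
      rw [this, Functor.map_zero]
    have h2 := congrArg (fun φ => φ η) h1
    exact h2
  · intro h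
    obtain ⟨x₁, hx₁⟩ := Abelian.Ext.covariant_sequence_exact₂ _ hS (ξ : Sheaf.H (EtCoh.Gm X) i) h
    exact ⟨x₁, hx₁⟩

end Groth.Agent.S3244
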