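import Groth.Statements.S3245
import Mathlib.RingTheory.TensorProduct.IsBaseChangeHom
import Mathlib.Algebra.Azumaya.Basic
import Mathlib.RingTheory.LocalRing.Module
import Groth.Agent.S7722
import Groth.Agent.S8128

set_option autoImplicit false
universe u
open TensorProduct
open Dix

namespace Groth.Agent.S3245

section partI

variable {R : Type u} [CommRing R] (S : Type u) [CommRing S] [Algebra R S]
    (A : Type u) [Ring A] [Algebra R A]

/-- `S ⊗ Aᵐᵒᵖ ≃ (S ⊗ A)ᵐᵒᵖ` -/
noncomputable def eOp : S ⊗[R] Aᵐᵒᵖ ≃ₗ[S] (S ⊗[R] A)ᵐᵒᵖ :=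
  (LinearEquiv.baseChange R S _ _ (MulOpposite.opLinearEquiv R (M := A)).symm) ≪≫ₗ
    MulOpposite.opLinearEquiv S

noncomputable def theta :
    S ⊗[R] (A ⊗[R] Aᵐᵒᵖ) ≃ₗ[S] (S ⊗[R] A) ⊗[S] (S ⊗[R] A)ᵐᵒᵖ :=
  TensorProduct.AlgebraTensorModule.distribBaseChange R S A Aᵐᵒᵖ ≪≫ₗ
    TensorProduct.congr (LinearEquiv.refl S _) (eOp S A)

theorem theta_tmul (c : S) (a : A) (b : Aᵐᵒᵖ) :
    theta S A (c ⊗ₜ (a ⊗ₜ b)) = (c ⊗ₜ[R] a) ⊗ₜ[S] MulOpposite.op ((1 : S) ⊗ₜ[R] b.unop) := rfl

theorem endHom_eq (f : A →ₗ[R] A) :
    (TensorProduct.isBaseChange R A S).endHom f = f.baseChange S := by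
  refine LinearMap.ext fun x => ?_
  induction x using TensorProduct.induction_on with
  | zero => simp
  | add x y hx hy => simp only [map_add, hx, hy]
  | tmul c y =>
    have h1 : c ⊗ₜ[R] y = c • (TensorProduct.mk R S A 1 y) := by
      rw [TensorProduct.mk_apply, TensorProduct.smul_tmul', smul_eq_mul, mul_one]
    rw [h1, map_smul, map_smul, IsBaseChange.endHom_comp_apply, TensorProduct.mk_apply,
      TensorProduct.mk_apply, LinearMap.baseChange_tmul]

variable [Module.Finite R A] [Module.Free R A]

noncomputable def EE : S ⊗[R] (A →ₗ[R] A) ≃ₗ[S] (S ⊗[R] A →ₗ[S] S ⊗[R] A) :=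
  ((TensorProduct.isBaseChange R A S).end).equiv

theorem EE_tmul (c : S) (f : A →ₗ[R] A) : EE S A (c ⊗ₜ f) = c • f.baseChange S := by
  rw [EE, IsBaseChange.equiv_tmul, endHom_eq]

theorem key (z : S ⊗[R] (A ⊗[R] Aᵐᵒᵖ)) :
    (AlgHom.mulLeftRight S (S ⊗[R] A)) (theta S A z) =
      EE S A ((AlgHom.mulLeftRight R A).toLinearMap.baseChange S z) := by
  induction z using TensorProduct.induction_on with
  | zero => simp
  | add x y hx hy => simp only [map_add, hx, hy]
  | tmul c t =>
    induction t using TensorProduct.induction_on with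
    | zero => simp
    | add x y hx hy => simp only [TensorProduct.tmul_add, map_add, hx, hy]
    | tmul a b =>
      rw [theta_tmul, LinearMap.baseChange_tmul, EE_tmul]
      refine LinearMap.ext fun x => ?_
      induction x using TensorProduct.induction_on with
      | zero => simp
      | add x y hx hy => simp only [map_add, hx, hy]
      | tmul c' y =>
        rw [AlgHom.mulLeftRight_apply, LinearMap.smul_apply, LinearMap.baseChange_tmul,
          AlgHom.toLinearMap_apply, AlgHom.mulLeftRight_apply, MulOpposite.unop_op,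
          Algebra.TensorProduct.tmul_mul_tmul, Algebra.TensorProduct.tmul_mul_tmul,
          TensorProduct.smul_tmul', smul_eq_mul, mul_one]

/-- Base change compatibility of the Azumaya map for a finite free algebra. -/
theorem mulLeftRight_bijective_iff :
    Function.Bijective (AlgHom.mulLeftRight S (S ⊗[R] A)) ↔
      Function.Bijective ((AlgHom.mulLeftRight R A).toLinearMap.baseChange S) := by
  have hfun : (AlgHom.mulLeftRight S (S ⊗[R] A)) ∘ (theta S A) =
      (EE S A) ∘ ((AlgHom.mulLeftRight R A).toLinearMap.baseChange S) := funext (key S A)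
  rw [← Function.Bijective.of_comp_iff _ (theta S A).bijective, hfun,
    Function.Bijective.of_comp_iff' (EE S A).bijective]

end partI

section partII

open IsLocalRing

/-- Over a local ring: a map from a finite module to a finite free module whose base change to the
residue field is bijective is bijective. -/
theorem bijective_of_baseChange_residueField {R : Type u} [CommRing R] [IsLocalRing R]
    {M N : Type u} [AddCommGroup M] [Module R M] [AddCommGroup N] [Module R N]
    [Module.Finite R M] [Module.Finite R N] [Module.Free R N] (l : M →ₗ[R] N)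
    (h : Function.Bijective (l.baseChange (ResidueField R))) : Function.Bijective l := by
  constructor
  · have hinj : Function.Injective (l.lTensor (ResidueField R)) := by
      rw [← LinearMap.baseChange_eq_ltensor]; exact h.1
    obtain ⟨l', hl'⟩ := (IsLocalRing.split_injective_iff_lTensor_residueField_injective l).mpr hinj
    exact Function.HasLeftInverse.injective ⟨l', LinearMap.congr_fun hl'⟩
  · rw [← LinearMap.range_eq_top, ← IsLocalRing.map_tensorProduct_mk_eq_top, eq_top_iff]
    intro y _
    obtain ⟨x, rfl⟩ := h.2 y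
    obtain ⟨t, rfl⟩ := TensorProduct.mk_surjective R M (ResidueField R) residue_surjective x
    refine ⟨l t, LinearMap.mem_range_self l t, ?_⟩
    rw [TensorProduct.mk_apply, TensorProduct.mk_apply, LinearMap.baseChange_tmul]

end partII

end Groth.Agent.S3245

namespace Groth.Agent.S3245

/-- (i) ⇔ (ii) over a local base: let R be a local ring with residue field k and A an R-algebra which is
finite and free as an R-module and nonzero. Then A is an Azumaya R-algebra (A ⊗_R A° → End_R(A)
bijective) if and only if k ⊗_R A is a central simple k-algebra. -/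
theorem result (R : Type u) [CommRing R] [IsLocalRing R] (A : Type u) [Ring A] [Algebra R A] [Module.Finite R A] [Module.Free R A] [Nontrivial A] : IsAzumaya R A ↔ (Algebra.IsCentral (IsLocalRing.ResidueField R) ((IsLocalRing.ResidueField R) ⊗[R] A) ∧ IsSimpleRing ((IsLocalRing.ResidueField R) ⊗[R] A)) := by
  have hntB : Nontrivial ((IsLocalRing.ResidueField R) ⊗[R] A) := by
    rw [← not_subsingleton_iff_nontrivial, IsLocalRing.subsingleton_tensorProduct]
    exact not_subsingleton A
  constructor
  · intro hAz
    have h1 : Function.Bijective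
        ((AlgHom.mulLeftRight R A).toLinearMap.baseChange (IsLocalRing.ResidueField R)) :=
      ((LinearEquiv.ofBijective (AlgHom.mulLeftRight R A).toLinearMap hAz.bij).baseChange R
        (IsLocalRing.ResidueField R) _ _).bijective
    have h2 := (mulLeftRight_bijective_iff (IsLocalRing.ResidueField R) A).mpr h1
    have hfaith : FaithfulSMul (IsLocalRing.ResidueField R) ((IsLocalRing.ResidueField R) ⊗[R] A) :=
      (faithfulSMul_iff_algebraMap_injective _ _).mpr
        (RingHom.injective (algebraMap (IsLocalRing.ResidueField R)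
          ((IsLocalRing.ResidueField R) ⊗[R] A)))
    have hAzk : IsAzumaya (IsLocalRing.ResidueField R) ((IsLocalRing.ResidueField R) ⊗[R] A) :=
      { bij := h2 }
    refine ⟨inferInstance, ?_⟩
    apply IsSimpleRing.of_eq_bot_or_eq_top
    intro I
    have hI := S8128.part_a (IsLocalRing.ResidueField R) ((IsLocalRing.ResidueField R) ⊗[R] A) I
    rcases Ideal.eq_bot_or_top ((TwoSidedIdeal.asIdeal I).comap
      (algebraMap (IsLocalRing.ResidueField R) ((IsLocalRing.ResidueField R) ⊗[R] A))) with h | h
    · left
      rw [h, Ideal.map_bot] at hI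
      rw [eq_bot_iff]
      intro x hx
      have : x ∈ TwoSidedIdeal.asIdeal I := TwoSidedIdeal.mem_asIdeal.mpr hx
      rw [hI] at this
      rw [Ideal.mem_bot.mp this]
      exact TwoSidedIdeal.zero_mem _
    · right
      have h1' : (1 : IsLocalRing.ResidueField R) ∈ (TwoSidedIdeal.asIdeal I).comap
          (algebraMap (IsLocalRing.ResidueField R) ((IsLocalRing.ResidueField R) ⊗[R] A)) := by
        rw [h]; trivial
      rw [Ideal.mem_comap, map_one, TwoSidedIdeal.mem_asIdeal] at h1'
      rw [eq_top_iff]
      intro x _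
      have := I.mul_mem_left x 1 h1'
      rwa [mul_one] at this
  · rintro ⟨hc, hs⟩
    have h2 := S7722.result (IsLocalRing.ResidueField R) ((IsLocalRing.ResidueField R) ⊗[R] A)
    have h1 := (mulLeftRight_bijective_iff (IsLocalRing.ResidueField R) A).mp h2
    have h0 := bijective_of_baseChange_residueField (AlgHom.mulLeftRight R A).toLinearMap h1
    exact { bij := h0 }

end Groth.Agent.S3245
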