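import Groth.Statements.S3246
import Groth.Agent.S3244

set_option autoImplicit false
universe u
open CategoryTheory AlgebraicGeometry
open Dix

namespace Groth.Agent.S3246
open CategoryTheory.Limits CategoryTheory.Abelian

theorem isPrimaryTorsion_of_nsmul_id {X : Scheme.{u}} (ℓ k : ℕ) (F : EtCoh.Ab X)
    (h : (ℓ ^ k) • 𝟙 F = 0) : Dix.IsPrimaryTorsion ℓ F := by
  intro U s x
  refine ⟨U, 𝟙 U, ⟨x, rfl⟩, k, ?_⟩
  have h1 : ((ℓ ^ k) • 𝟙 F : F ⟶ F).hom = (ℓ ^ k) • (𝟙 F : F ⟶ F).hom :=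
    (sheafToPresheaf X.smallEtaleTopology AddCommGrpCat.{u + 1}).map_nsmul
  have h2 : ((ℓ ^ k) • 𝟙 F : F ⟶ F).hom.app (Opposite.op U) s = (ℓ ^ k) • s := by
    rw [h1, NatTrans.app_nsmul]
    rfl
  have h3 : F.obj.map (𝟙 U).op s = s := by
    rw [op_id, F.obj.map_id]
    rfl
  rw [h3, ← h2, h]
  rfl

variable (X : Scheme.{u}) (N : ℕ)

instance mono_muι : Mono (EtCoh.muι X N) := inferInstanceAs (Mono (kernel.ι (EtCoh.powMap X N)))

theorem nsmul_id_mu : N • 𝟙 (EtCoh.mu X N) = 0 := by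
  rw [← cancel_mono (EtCoh.muι X N)]
  rw [Preadditive.nsmul_comp, Category.id_comp, zero_comp]
  have : EtCoh.muι X N ≫ EtCoh.powMap X N = 0 := kernel.condition _
  rw [← this]
  change _ = EtCoh.muι X N ≫ (N • 𝟙 _)
  rw [Preadditive.comp_nsmul, Category.comp_id]

theorem nsmul_id_coker : N • 𝟙 (cokernel (EtCoh.powMap X N)) = 0 := by
  rw [← cancel_epi (cokernel.π (EtCoh.powMap X N))]
  rw [Preadditive.comp_nsmul, Category.comp_id, comp_zero]
  have : EtCoh.powMap X N ≫ cokernel.π (EtCoh.powMap X N) = 0 := cokernel.condition _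
  rw [← this]
  change _ = (N • 𝟙 _) ≫ cokernel.π (EtCoh.powMap X N)
  rw [Preadditive.nsmul_comp, Category.id_comp]

noncomputable def sc1 : ShortComplex (EtCoh.Ab X) :=
  ShortComplex.mk (EtCoh.muι X N) (Abelian.factorThruImage (EtCoh.powMap X N)) (by
    rw [← cancel_mono (Abelian.image.ι (EtCoh.powMap X N))]
    rw [Category.assoc, Abelian.image.fac, zero_comp]
    exact kernel.condition _)

noncomputable def sc2 : ShortComplex (EtCoh.Ab X) :=
  ShortComplex.mk (Abelian.image.ι (EtCoh.powMap X N)) (cokernel.π (EtCoh.powMap X N)) (by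
    rw [← cancel_epi (Abelian.factorThruImage (EtCoh.powMap X N))]
    rw [← Category.assoc, Abelian.image.fac, comp_zero]
    exact cokernel.condition _)

theorem sc1_shortExact : (sc1 X N).ShortExact := by
  have : Mono (sc1 X N).f := inferInstanceAs (Mono (kernel.ι (EtCoh.powMap X N)))
  have : Epi (sc1 X N).g := inferInstanceAs (Epi (Abelian.factorThruImage (EtCoh.powMap X N)))
  refine ShortComplex.ShortExact.mk ?_
  let φ : sc1 X N ⟶ EtSix.kummerSC X N :=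
    { τ₁ := 𝟙 (EtCoh.mu X N)
      τ₂ := 𝟙 (EtCoh.Gm X)
      τ₃ := Abelian.image.ι (EtCoh.powMap X N)
      comm₁₂ := by
        change 𝟙 _ ≫ EtCoh.muι X N = EtCoh.muι X N ≫ 𝟙 _
        rw [Category.id_comp, Category.comp_id]
      comm₂₃ := by
        change 𝟙 _ ≫ EtCoh.powMap X N = Abelian.factorThruImage (EtCoh.powMap X N) ≫ _
        rw [Abelian.image.fac, Category.id_comp] }
  have h1 : Epi φ.τ₁ := inferInstanceAs (Epi (𝟙 _))
  have h2 : IsIso φ.τ₂ := inferInstanceAs (IsIso (𝟙 _))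
  have h3 : Mono φ.τ₃ := inferInstanceAs (Mono (Abelian.image.ι (EtCoh.powMap X N)))
  exact (ShortComplex.exact_iff_of_epi_of_isIso_of_mono φ).mpr (EtSix.kummerSC_exact X N)

theorem sc2_shortExact : (sc2 X N).ShortExact := by
  have : Mono (sc2 X N).f := inferInstanceAs (Mono (Abelian.image.ι (EtCoh.powMap X N)))
  have : Epi (sc2 X N).g := inferInstanceAs (Epi (cokernel.π (EtCoh.powMap X N)))
  refine ShortComplex.ShortExact.mk ?_
  let T : ShortComplex (EtCoh.Ab X) :=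
    ShortComplex.mk (EtCoh.powMap X N) (cokernel.π (EtCoh.powMap X N)) (cokernel.condition _)
  have hT : T.Exact := ShortComplex.exact_of_g_is_cokernel _ (cokernelIsCokernel _)
  let φ : T ⟶ sc2 X N :=
    { τ₁ := Abelian.factorThruImage (EtCoh.powMap X N)
      τ₂ := 𝟙 (EtCoh.Gm X)
      τ₃ := 𝟙 (cokernel (EtCoh.powMap X N))
      comm₁₂ := by
        change Abelian.factorThruImage (EtCoh.powMap X N) ≫ Abelian.image.ι _ = EtCoh.powMap X N ≫ 𝟙 _
        rw [Abelian.image.fac, Category.comp_id]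
      comm₂₃ := by
        change 𝟙 _ ≫ cokernel.π (EtCoh.powMap X N) = cokernel.π (EtCoh.powMap X N) ≫ 𝟙 _
        rw [Category.id_comp, Category.comp_id] }
  have h1 : Epi φ.τ₁ := inferInstanceAs (Epi (Abelian.factorThruImage (EtCoh.powMap X N)))
  have h2 : IsIso φ.τ₂ := inferInstanceAs (IsIso (𝟙 _))
  have h3 : Mono φ.τ₃ := inferInstanceAs (Mono (𝟙 _))
  exact (ShortComplex.exact_iff_of_epi_of_isIso_of_mono φ).mp hT

theorem invertibleOn_pow {X : Scheme.{u}} {ℓ : ℕ} (h : Dix.InvertibleOn X ℓ) (k : ℕ) :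
    Dix.InvertibleOn X (ℓ ^ k) := by
  intro x
  rw [Nat.cast_pow]
  exact pow_ne_zero k (h x)

theorem map_powMap_eq (i : ℕ) (ξ : EtCoh.H X (EtCoh.Gm X) i) :
    (ξ.comp (Abelian.Ext.mk₀ (Abelian.factorThruImage (EtCoh.powMap X N))) (add_zero i)).comp
      (Abelian.Ext.mk₀ (Abelian.image.ι (EtCoh.powMap X N))) (add_zero i) = N • ξ := by
  rw [Abelian.Ext.comp_assoc_of_third_deg_zero, Abelian.Ext.mk₀_comp_mk₀, Abelian.image.fac]
  exact Groth.Agent.S3244.map_powMap X N i ξ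


/-- Let X be a scheme, ℓ a prime and n an integer with cd_ℓ(X) ≤ n (étale cohomology of ℓ-primary
torsion sheaves vanishes above degree n). Then the ℓ-primary torsion of H^i(X_ét, G_m) is zero for i
> n + 1; if moreover ℓ is invertible on X, it is zero for i > n. -/
theorem result (X : Scheme.{u}) (ℓ : ℕ) (hℓ : ℓ.Prime) (n : ℕ) (hcd : Dix.CohDimLEAt X ℓ n) : (∀ i : ℕ, n + 1 < i → ∀ ξ : EtCoh.H X (EtCoh.Gm X) i, (∃ k : ℕ, ℓ ^ k • ξ = 0) → ξ = 0) ∧ (Dix.InvertibleOn X ℓ → ∀ i : ℕ, n < i → ∀ ξ : EtCoh.H X (EtCoh.Gm X) i, (∃ k : ℕ, ℓ ^ k • ξ = 0) → ξ = 0) := by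
  constructor
  · rintro i hi ξ ⟨k, hk⟩
    have hμ : Subsingleton (EtCoh.H X (EtCoh.mu X (ℓ ^ k)) i) :=
      hcd _ (isPrimaryTorsion_of_nsmul_id ℓ k _ (nsmul_id_mu X (ℓ ^ k))) i (by omega)
    obtain ⟨j, rfl⟩ : ∃ j, i = j + 1 := ⟨i - 1, by omega⟩
    have hQ : Subsingleton (EtCoh.H X (cokernel (EtCoh.powMap X (ℓ ^ k))) j) :=
      hcd _ (isPrimaryTorsion_of_nsmul_id ℓ k _ (nsmul_id_coker X (ℓ ^ k))) j (by omega)
    have h0 := map_powMap_eq X (ℓ ^ k) (j + 1) ξ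
    rw [hk] at h0
    obtain ⟨x₃, hx₃⟩ := Abelian.Ext.covariant_sequence_exact₁ _ (sc2_shortExact X (ℓ ^ k)) _ h0 rfl
    have hx₃0 : x₃ = 0 := @Subsingleton.elim _ hQ _ _
    rw [hx₃0, Abelian.Ext.zero_comp] at hx₃
    obtain ⟨x₁, hx₁⟩ := Abelian.Ext.covariant_sequence_exact₂ _ (sc1_shortExact X (ℓ ^ k)) ξ hx₃.symm
    have hx₁0 : x₁ = 0 := @Subsingleton.elim _ hμ _ _
    rw [hx₁0, Abelian.Ext.zero_comp] at hx₁
    exact hx₁.symm
  · rintro hinv i hi ξ ⟨k, hk⟩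
    have hμ : Subsingleton (EtCoh.H X (EtCoh.mu X (ℓ ^ k)) i) :=
      hcd _ (isPrimaryTorsion_of_nsmul_id ℓ k _ (nsmul_id_mu X (ℓ ^ k))) i hi
    have h1 := Groth.Agent.S3244.result X (ℓ ^ k) (pow_pos hℓ.pos k) (invertibleOn_pow hinv k) i (by omega)
    have h2 : ξ ∈ {ξ : (EtCoh.HF X i).obj (EtCoh.Gm X) | (ℓ ^ k) • ξ = 0} := hk
    rw [← h1] at h2
    obtain ⟨η, rfl⟩ := h2
    have hη : η = 0 := @Subsingleton.elim _ hμ _ _
    rw [hη]
    exact map_zero _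

end Groth.Agent.S3246
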