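import Groth.Statements.S3248
import Groth.Agent.Lib.Helper1.CSAIdeal
import Mathlib.RingTheory.TwoSidedIdeal.Kernel
import Mathlib.LinearAlgebra.Matrix.ToLin
import Mathlib.LinearAlgebra.Dimension.Constructions
import Mathlib.LinearAlgebra.FreeModule.Finite.Matrix
import Mathlib.FieldTheory.Tower
import Mathlib.LinearAlgebra.FiniteDimensional.Lemmas
import Mathlib.RingTheory.FiniteType

set_option autoImplicit false
universe u
open TensorProduct
open Dix

namespace Groth.Agent.S3248

open Groth.Agent.Lib.Helper1.CSA in
/-- An `L`-algebra hom out of `L ⊗ A` (`A` central simple over `k`) which is injective on `L ⊗ 1` is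
injective. -/
theorem injective_of_injective_left {k : Type u} [Field k] {A : Type u} [Ring A] [Algebra k A]
    [Algebra.IsCentral k A] [IsSimpleRing A] {L : Type u} [CommRing L] [Algebra k L]
    {C : Type u} [Ring C] (φ : (L ⊗[k] A) →+* C)
    (h : ∀ l : L, φ (l ⊗ₜ[k] (1 : A)) = 0 → l = 0) : Function.Injective φ := by
  rw [← TwoSidedIdeal.ker_eq_bot]
  rw [twoSidedIdeal_eq_span (k := k) (A := L) (D := A) (TwoSidedIdeal.ker φ)]
  rw [eq_bot_iff, TwoSidedIdeal.span_le]
  rintro _ ⟨l, hl, rfl⟩
  have hl' : φ (l ⊗ₜ[k] (1 : A)) = 0 := (TwoSidedIdeal.mem_ker φ).mp hl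
  rw [h l hl']
  change (0 : L) ⊗ₜ[k] (1 : A) ∈ (⊥ : TwoSidedIdeal (L ⊗[k] A))
  rw [TensorProduct.zero_tmul]
  exact TwoSidedIdeal.zero_mem _

end Groth.Agent.S3248

namespace Groth.Agent.S3248

/-- Stated for a commutative subalgebra: let A be a central simple algebra of dimension r² over a field
k and L a commutative k-algebra embedded in A by an injective k-algebra homomorphism ι, such that A
is free of rank r for the right L-module structure a · l = a ι(l) (given here as a module structure
together with that compatibility). Then L ⊗_k A is isomorphic as an L-algebra to the matrix algebra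
M_r(L). (Only the existence of an isomorphism is stated; the text names the map a ⊗ l ↦ (y ↦ a y
l).) -/
theorem result (k : Type u) [Field k] (A : Type u) [Ring A] [Algebra k A] [Algebra.IsCentral k A] [IsSimpleRing A] [FiniteDimensional k A] (L : Type u) [CommRing L] [Algebra k L] (ι : L →ₐ[k] A) (hι : Function.Injective ι) [Module L A] (hmod : ∀ (l : L) (a : A), l • a = a * ι l) [Module.Free L A] (r : ℕ) (hr : 0 < r) (hA : Module.finrank k A = r ^ 2) (hrank : Module.finrank L A = r) : Nonempty ((L ⊗[k] A) ≃ₐ[L] Matrix (Fin r) (Fin r) L) := by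
  classical
  have hntL : Nontrivial L := by
    refine ⟨⟨0, 1, fun h01 => ?_⟩⟩
    have : (0 : A) = 1 := by rw [← map_zero ι, h01, map_one]
    exact zero_ne_one this
  -- compatibility instances
  have hst : IsScalarTower k L A := ⟨fun c l a => by
    rw [hmod, hmod, map_smul, mul_smul_comm]⟩
  have hcomm : SMulCommClass A L A := ⟨fun a l v => by
    rw [hmod, hmod, smul_eq_mul, smul_eq_mul, mul_assoc]⟩
  have hcomm2 : SMulCommClass L k A := ⟨fun l c v => by
    rw [hmod, hmod, smul_mul_assoc]⟩
  -- finiteness
  have hfinL : Module.Finite k L := Module.Finite.of_injective ι.toLinearMap hι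
  have hfinA : Module.Finite L A := Module.finite_of_finrank_pos (by rw [hrank]; exact hr)
  have hLr : Module.finrank k L = r := by
    have h1 : Module.finrank k L * Module.finrank L A = Module.finrank k A :=
      Module.finrank_mul_finrank k L A
    rw [hrank, hA, pow_two] at h1
    exact Nat.eq_of_mul_eq_mul_right hr h1
  -- the map
  let φ : L ⊗[k] A →ₐ[L] Module.End L A :=
    Algebra.TensorProduct.lift (Algebra.ofId L (Module.End L A))
      (Algebra.lsmul k L A) (fun l a => by
        ext v
        change l • (a • v) = a • (l • v)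
        exact (smul_comm a l v).symm)
  have hinj : Function.Injective φ := by
    apply injective_of_injective_left (k := k) (A := A) (L := L) φ.toRingHom
    intro l hl
    have h1 : φ (l ⊗ₜ[k] (1 : A)) = 0 := hl
    have h2 : (φ (l ⊗ₜ[k] (1 : A))) (1 : A) = ι l := by
      simp only [φ, Algebra.TensorProduct.lift_tmul, map_one, mul_one]
      change l • (1 : A) = ι l
      rw [hmod, one_mul]
    rw [h1, LinearMap.zero_apply] at h2
    exact hι (by rw [← h2, map_zero])
  have hfinEnd : Module.Finite k (Module.End L A) := Module.Finite.trans L _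
  have hfinT : Module.Finite k (L ⊗[k] A) := inferInstance
  have hdim : Module.finrank k (L ⊗[k] A) = Module.finrank k (Module.End L A) := by
    have e1 : Module.finrank k (L ⊗[k] A) = Module.finrank k L * Module.finrank k A :=
      Module.finrank_tensorProduct
    have e2 : Module.finrank k L * Module.finrank L (Module.End L A) =
        Module.finrank k (Module.End L A) := Module.finrank_mul_finrank k L (Module.End L A)
    have e3 : Module.finrank L (Module.End L A) = r * r := by
      rw [Module.finrank_linearMap, hrank]
    rw [e1, ← e2, e3, hA, pow_two]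
  have hsurj : Function.Surjective φ :=
    (LinearMap.injective_iff_surjective_of_finrank_eq_finrank
      (f := (φ.toLinearMap.restrictScalars k)) hdim).mp hinj
  let b : Module.Basis (Fin r) L A := Module.finBasisOfFinrankEq L A hrank
  exact ⟨(AlgEquiv.ofBijective φ ⟨hinj, hsurj⟩).trans (LinearMap.toMatrixAlgEquiv b)⟩

end Groth.Agent.S3248
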