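import Groth.Statements.S3285
import Groth.Agent.Lib.Helper48.LambdaRing

set_option autoImplicit false
universe u
open Finset
open LambdaRing

namespace Groth.Agent.S3285

open Groth.Agent.Lib.Helper48 in
theorem result (K : Type u) [CommRing K] [LambdaRing.LambdaOps K] (P : LambdaRing.PosStructure K) (hK : LambdaRing.HasSplitting K P) (j : ℕ) :
    ∃ f : K →+* K, ∀ x : K, f x = LambdaRing.adams P j x :=
  ⟨{ toFun := LambdaRing.adams P j
     map_one' := adams_one P j
     map_mul' := adams_mul P hK j
     map_zero' := adams_zero P j
     map_add' := adams_add P j }, fun _ => rfl⟩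

end Groth.Agent.S3285
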