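import Groth.Statements.S3288
import Groth.Agent.Lib.Helper48.LambdaRing

set_option autoImplicit false
universe u
open Finset
open LambdaRing

namespace Groth.Agent.S3288

theorem result (K : Type u) [CommRing K] [LambdaRing.LambdaOps K] (P : LambdaRing.PosStructure K) (hK : LambdaRing.HasSplitting K P) (e : K) (he : e ∈ P.pos)
    (i : ℕ) : P.aug (LambdaRing.LambdaOps.lam i e) = ((P.aug e).toNat.choose i : ℤ) :=
  Groth.Agent.Lib.Helper48.aug_lam_eq_choose P hK e he i

end Groth.Agent.S3288
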