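import Groth.Statements.S3289
import Groth.Agent.Lib.Helper48.LambdaGamma

set_option autoImplicit false
universe u
open Finset
open LambdaRing

namespace Groth.Agent.S3289

theorem result (K : Type u) [CommRing K] [LambdaRing.LambdaOps K] (k : ℕ) (x y : K) :
    LambdaRing.gamma k (x + y) = ∑ i ∈ range (k + 1), LambdaRing.gamma i x * LambdaRing.gamma (k - i) y :=
  Groth.Agent.Lib.Helper48.gamma_add k x y

end Groth.Agent.S3289
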