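import Groth.Statements.S3292
import Groth.Agent.Lib.Helper95.GammaFil
import Groth.Agent.Lib.Helper48.LambdaGamma
import Groth.Agent.Lib.Helper26.LambdaGamma
-- import your own Groth.Agent.* helpers here

set_option autoImplicit false
universe u
open Finset
open LambdaRing

namespace Groth.Agent.S3292

open Groth.Agent.Lib.Helper95.GammaFil Groth.Agent.Lib.Helper48

variable {K : Type u} [CommRing K] [LambdaRing.LambdaOps K]

lemma CProp_gamma_neg (P : PosStructure K) (hK : HasSplitting K P) (j : ℕ) (z : K)
    (hz : ∀ l, CProp P j l (gamma l z)) : ∀ l, CProp P j l (gamma l (-z)) := by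
  intro l
  induction l using Nat.strong_induction_on with
  | _ l ih =>
    rcases Nat.eq_zero_or_pos l with rfl | hl
    · rw [Groth.Agent.Lib.Helper26.LambdaGamma.gamma_zero_left]
      exact CProp.one P j
    · have h0 : gamma l (z + -z) = 0 := by
        rw [add_neg_cancel, Groth.Agent.Lib.Helper26.LambdaGamma.gamma_zero_right,
          if_neg (by omega)]
      rw [gamma_add, Finset.sum_range_succ', Groth.Agent.Lib.Helper26.LambdaGamma.gamma_zero_left,
        one_mul, Nat.sub_zero] at h0
      have h1 : gamma l (-z) = -∑ i ∈ range l, gamma (i + 1) z * gamma (l - (i + 1)) (-z) := by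
        rw [eq_neg_iff_add_eq_zero, add_comm]; exact h0
      rw [h1]
      refine CProp.neg (CProp.sum _ _ fun i hi => ?_)
      have hi' := Finset.mem_range.mp hi
      have := CProp.mul hK (hz (i + 1)) (ih (l - (i + 1)) (by omega))
      rwa [show i + 1 + (l - (i + 1)) = l by omega] at this

lemma CProp_gamma_of_aug_zero (P : PosStructure K) (hK : HasSplitting K P) (j : ℕ) (y : K)
    (hy : P.aug y = 0) (r : ℕ) : CProp P j r (gamma r y) := by
  obtain ⟨e, f, he, hf, rfl⟩ := P.exists_sub y
  have haug : P.aug e = P.aug f := by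
    rw [map_sub] at hy; linarith
  have hy' : e - f = (e - ((P.aug e).toNat : K)) + -(f - ((P.aug f).toNat : K)) := by
    rw [haug]; ring
  rw [hy', gamma_add]
  refine CProp.sum _ _ fun i hi => ?_
  have hi' := Finset.mem_range.mp hi
  have := CProp.mul hK (CProp_gamma_pos P hK j e he i)
    (CProp_gamma_neg P hK j _ (fun l => CProp_gamma_pos P hK j f hf l) (r - i))
  rwa [show i + (r - i) = r by omega] at this

lemma CProp_list (P : PosStructure K) (hK : HasSplitting K P) (j : ℕ) (l : List (ℕ × K))
    (hl : ∀ p ∈ l, P.aug p.2 = 0) :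
    CProp P j (l.map Prod.fst).sum (l.map fun p => gamma p.1 p.2).prod := by
  induction l with
  | nil => simpa using CProp.one P j
  | cons a l ih =>
    simp only [List.map_cons, List.sum_cons, List.prod_cons]
    exact CProp.mul hK (CProp_gamma_of_aug_zero P hK j a.2 (hl a (List.mem_cons_self ..)) a.1)
      (ih fun p hp => hl p (List.mem_cons_of_mem _ hp))

lemma aug_adams_pos (P : PosStructure K) (hK : HasSplitting K P) (j : ℕ) (e : K)
    (he : e ∈ P.pos) : P.aug (adams P j e) = P.aug e := by
  obtain ⟨C, hKC, hC⟩ := hK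
  obtain ⟨L', hL', f, hf, s, hs, hsum⟩ := hC ⟨K, P⟩ hKC e he
  have h1 : L'.posStr.aug (f (adams P j e)) = P.aug (adams P j e) := hf.aug_comp _
  rw [← h1, map_adams P L'.posStr f hf]
  have h2 : f e = s.sum := hsum.symm
  rw [show (f e : L'.carrier) = s.sum from h2, adams_sum_lines L'.posStr j s hs]
  have h3 : L'.posStr.aug (s.map (· ^ j)).sum = (Multiset.card (s.map (· ^ j)) : ℤ) := by
    apply aug_sum_lines
    intro v hv
    obtain ⟨w, hw, rfl⟩ := Multiset.mem_map.mp hv
    exact isLine_pow L'.posStr (hs w hw) j
  rw [h3, Multiset.card_map, ← aug_sum_lines L'.posStr s hs, ← h2]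
  exact hf.aug_comp e

lemma aug_adams (P : PosStructure K) (hK : HasSplitting K P) (j : ℕ) (x : K) :
    P.aug (adams P j x) = P.aug x := by
  obtain ⟨e, f, he, hf, rfl⟩ := P.exists_sub x
  rw [adams_sub, map_sub, map_sub, aug_adams_pos P hK j e he, aug_adams_pos P hK j f hf]

lemma mem_fil_one (P : PosStructure K) (y : K) (hy : P.aug y = 0) : y ∈ gammaFiltration P 1 := by
  have := gamma_mem P y hy 1
  rwa [Groth.Agent.Lib.Helper26.LambdaGamma.gamma_one_left] at this

/-- In a λ-ring with positive structure having the splitting property, for j ≥ 1 and x in F^n K one has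
ψ^j(x) − j^n x ∈ F^(n+1) K. -/
theorem result (K : Type u) [CommRing K] [LambdaRing.LambdaOps K] (P : LambdaRing.PosStructure K) (hK : LambdaRing.HasSplitting K P)
    (j : ℕ) (hj : 1 ≤ j) (n : ℕ) (x : K) (hx : x ∈ LambdaRing.gammaFiltration P n) :
    LambdaRing.adams P j x - (j : K) ^ n * x ∈ LambdaRing.gammaFiltration P (n + 1) := by
  rcases Nat.eq_zero_or_pos n with rfl | hn
  · apply mem_fil_one
    rw [pow_zero, one_mul, map_sub, aug_adams P hK, sub_self]
  · unfold gammaFiltration at hx
    rw [if_neg (by omega)] at hx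
    induction hx using AddSubgroup.closure_induction with
    | mem y hy =>
      obtain ⟨l, hl, hsum, rfl⟩ := hy
      have hC := CProp_list P hK j l hl
      set R := (l.map Prod.fst).sum with hR
      set g := (l.map fun p => gamma p.1 p.2).prod with hg
      have e1 : adams P j g - (j : K) ^ n * g =
          (adams P j g - (j : K) ^ R * g) + ((j : K) ^ R - (j : K) ^ n) * g := by ring
      rw [e1]
      refine add_mem (gammaFiltration_anti P (by omega) hC.2) ?_
      rcases hsum.eq_or_lt with h | h
      · rw [h, sub_self, zero_mul]; exact zero_mem _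
      · exact fil_smul_mem P _ (gammaFiltration_anti P (by omega) hC.1)
    | zero => rw [adams_zero]; simp
    | add y z _ _ hy hz =>
      have : adams P j (y + z) - (j : K) ^ n * (y + z) =
          (adams P j y - (j : K) ^ n * y) + (adams P j z - (j : K) ^ n * z) := by
        rw [adams_add]; ring
      rw [this]; exact add_mem hy hz
    | neg y _ hy =>
      have : adams P j (-y) - (j : K) ^ n * (-y) = -(adams P j y - (j : K) ^ n * y) := by
        rw [adams_neg]; ring
      rw [this]; exact neg_mem hy


end Groth.Agent.S3292
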