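import Groth.Statements.S3350
import Mathlib.Tactic

set_option autoImplicit false
universe u
open Finset
open Models Models.NumericalType

namespace Groth.Agent.S3350

theorem row_split {n : ℕ} (T : Models.NumericalType n) (i j : Fin n) (hij : i ≠ j) :
    T.a i i * T.m i + T.a i j * T.m j + ∑ k ∈ (univ.erase i).erase j, T.a i k * T.m k = 0 := by
  have h := congrFun T.mulVec_m i
  simp only [Matrix.mulVec, dotProduct, Pi.zero_apply] at h
  rw [← Finset.add_sum_erase univ _ (Finset.mem_univ i),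
    ← Finset.add_sum_erase (univ.erase i) _ (Finset.mem_erase.mpr ⟨hij.symm, Finset.mem_univ j⟩)] at h
  linarith

theorem rest_nonneg {n : ℕ} (T : Models.NumericalType n) (i j : Fin n) :
    0 ≤ ∑ k ∈ (univ.erase i).erase j, T.a i k * T.m k := by
  apply Finset.sum_nonneg
  intro k hk
  have hki : k ≠ i := (Finset.mem_erase.mp (Finset.mem_erase.mp hk).2).1
  exact mul_nonneg (T.offDiag_nonneg i k hki.symm) (T.m_pos k).le

theorem rest_zero {n : ℕ} (T : Models.NumericalType n) (i j : Fin n)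
    (h : ∑ k ∈ (univ.erase i).erase j, T.a i k * T.m k = 0) (k : Fin n) (hki : k ≠ i) (hkj : k ≠ j) :
    T.a i k = 0 := by
  have h1 := (Finset.sum_eq_zero_iff_of_nonneg (fun k hk => by
    have hki : k ≠ i := (Finset.mem_erase.mp (Finset.mem_erase.mp hk).2).1
    exact mul_nonneg (T.offDiag_nonneg i k hki.symm) (T.m_pos k).le)).mp h k
    (Finset.mem_erase.mpr ⟨hkj, Finset.mem_erase.mpr ⟨hki, Finset.mem_univ k⟩⟩)
  rcases mul_eq_zero.mp h1 with h2 | h2
  · exact h2
  · have := T.m_pos k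
    omega

theorem result {n : ℕ} (T : Models.NumericalType n) (hn : 2 < n) (i j : Fin n)
    (hij : i ≠ j) (hi : T.IsMinusTwo i) (hj : T.IsMinusTwo j) (hpos : 0 < T.a i j) :
    ∃ i' j' : Fin n, ((i' = i ∧ j' = j) ∨ (i' = j ∧ j' = i)) ∧
      ((T.w j' = T.w i' ∧ T.a i' j' = T.w i' ∧ T.m j' ≤ 2 * T.m i' ∧ T.m i' ≤ 2 * T.m j') ∨
        (T.w j' = 2 * T.w i' ∧ T.a i' j' = 2 * T.w i' ∧ T.m j' ≤ T.m i' ∧ T.m i' ≤ 2 * T.m j') ∨
        (T.w j' = 3 * T.w i' ∧ T.a i' j' = 3 * T.w i' ∧ 3 * T.m j' ≤ 2 * T.m i' ∧ T.m i' ≤ 2 * T.m j')) := by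
  have hmi := T.m_pos i
  have hmj := T.m_pos j
  have hwi := T.w_pos i
  have hwj := T.w_pos j
  have hsymm : T.a j i = T.a i j := T.symm.apply i j
  obtain ⟨α, hα⟩ := T.w_dvd i j
  obtain ⟨β, hβ'⟩ := T.w_dvd j i
  have hβ : T.a i j = T.w j * β := by rw [← hsymm]; exact hβ'
  have hαpos : 0 < α := by
    by_contra h
    have : α ≤ 0 := by omega
    nlinarith
  have hβpos : 0 < β := by
    by_contra h
    have : β ≤ 0 := by omega
    nlinarith
  have hri := row_split T i j hij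
  have hrj := row_split T j i hij.symm
  have hni := rest_nonneg T i j
  have hnj := rest_nonneg T j i
  rw [hi.2] at hri
  rw [hj.2, hsymm] at hrj
  -- E1 : α m_j ≤ 2 m_i ; E2 : β m_i ≤ 2 m_j
  have hri' : T.w i * (α * T.m j - 2 * T.m i) + ∑ k ∈ (univ.erase i).erase j, T.a i k * T.m k = 0 := by
    rw [hα] at hri; linarith
  have hrj' : T.w j * (β * T.m i - 2 * T.m j) + ∑ k ∈ (univ.erase j).erase i, T.a j k * T.m k = 0 := by
    rw [hβ] at hrj; linarith
  have E1 : α * T.m j ≤ 2 * T.m i := by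
    by_contra h
    have : 1 ≤ α * T.m j - 2 * T.m i := by omega
    nlinarith
  have E2 : β * T.m i ≤ 2 * T.m j := by
    by_contra h
    have : 1 ≤ β * T.m i - 2 * T.m j := by omega
    nlinarith
  have hprod : α * β ≤ 4 := by
    by_contra h
    have h5 : 5 ≤ α * β := by omega
    have h1 : (α * T.m j) * (β * T.m i) ≤ (2 * T.m i) * (2 * T.m j) :=
      mul_le_mul E1 E2 (by positivity) (by positivity)
    have h2 : 0 < T.m i * T.m j := mul_pos hmi hmj
    nlinarith
  have hne4 : α * β ≠ 4 := by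
    intro h4
    have h1 : (α * T.m j) * (β * T.m i) = (2 * T.m i) * (2 * T.m j) := by
      have : (α * T.m j) * (β * T.m i) = (α * β) * (T.m i * T.m j) := by ring
      rw [this, h4]; ring
    have e1 : α * T.m j = 2 * T.m i := by
      by_contra hne
      have hlt : α * T.m j < 2 * T.m i := lt_of_le_of_ne E1 hne
      have hβm : 0 < β * T.m i := mul_pos hβpos hmi
      have : (α * T.m j) * (β * T.m i) < (2 * T.m i) * (β * T.m i) :=
        mul_lt_mul_of_pos_right hlt hβm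
      have : (2 * T.m i) * (β * T.m i) ≤ (2 * T.m i) * (2 * T.m j) :=
        mul_le_mul_of_nonneg_left E2 (by positivity)
      linarith
    have e2 : β * T.m i = 2 * T.m j := by
      have h2 : (2 * T.m i) * (β * T.m i) = (2 * T.m i) * (2 * T.m j) := by
        have h1' := h1
        rw [e1] at h1'
        exact h1'
      have h3 : (2 * T.m i) ≠ 0 := by positivity
      exact mul_left_cancel₀ h3 h2
    have hz1 : ∑ k ∈ (univ.erase i).erase j, T.a i k * T.m k = 0 := by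
      rw [e1] at hri'; simpa using hri'
    have hz2 : ∑ k ∈ (univ.erase j).erase i, T.a j k * T.m k = 0 := by
      rw [e2] at hrj'; simpa using hrj'
    obtain ⟨i', hi', j', hj', hne⟩ := T.connected {i, j} ⟨i, by simp⟩ (by
      intro h
      have h1 := congrArg Finset.card h
      rw [Finset.card_univ, Fintype.card_fin] at h1
      have h2 : ({i, j} : Finset (Fin n)).card ≤ 2 := Finset.card_le_two
      omega)
    have hj'i : j' ≠ i := fun h => hj' (by simp [h])
    have hj'j : j' ≠ j := fun h => hj' (by simp [h])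
    simp only [Finset.mem_insert, Finset.mem_singleton] at hi'
    rcases hi' with rfl | rfl
    · exact hne (rest_zero T _ _ hz1 j' hj'i hj'j)
    · exact hne (rest_zero T _ _ hz2 j' hj'j hj'i)
  have hcases : (α = 1 ∧ β = 1) ∨ (α = 2 ∧ β = 1) ∨ (α = 1 ∧ β = 2) ∨ (α = 3 ∧ β = 1) ∨
      (α = 1 ∧ β = 3) := by
    have hα4 : α ≤ 4 := by nlinarith
    have hβ4 : β ≤ 4 := by nlinarith
    interval_cases α <;> interval_cases β <;> simp_all
  rcases hcases with ⟨rfl, rfl⟩ | ⟨rfl, rfl⟩ | ⟨rfl, rfl⟩ | ⟨rfl, rfl⟩ | ⟨rfl, rfl⟩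
  · refine ⟨i, j, Or.inl ⟨rfl, rfl⟩, Or.inl ⟨?_, ?_, ?_, ?_⟩⟩ <;> [linarith; linarith; linarith; linarith]
  · refine ⟨i, j, Or.inl ⟨rfl, rfl⟩, Or.inr (Or.inl ⟨?_, ?_, ?_, ?_⟩)⟩ <;>
      [linarith; linarith; linarith; linarith]
  · refine ⟨j, i, Or.inr ⟨rfl, rfl⟩, Or.inr (Or.inl ⟨?_, ?_, ?_, ?_⟩)⟩ <;>
      [linarith; (rw [hsymm]; linarith); linarith; linarith]
  · refine ⟨i, j, Or.inl ⟨rfl, rfl⟩, Or.inr (Or.inr ⟨?_, ?_, ?_, ?_⟩)⟩ <;>
      [linarith; linarith; linarith; linarith]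
  · refine ⟨j, i, Or.inr ⟨rfl, rfl⟩, Or.inr (Or.inr ⟨?_, ?_, ?_, ?_⟩)⟩ <;>
      [linarith; (rw [hsymm]; linarith); linarith; linarith]

end Groth.Agent.S3350
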