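import Groth.Statements.S3351
import Mathlib.LinearAlgebra.FreeModule.PID
import Mathlib.LinearAlgebra.Matrix.ToLinearEquiv
import Mathlib.Algebra.Module.Projective
import Mathlib.LinearAlgebra.Matrix.Adjugate
import Mathlib.Algebra.Module.Torsion.Free
import Mathlib.LinearAlgebra.Dimension.Free
import Mathlib.RingTheory.Noetherian.Basic

set_option autoImplicit false
open Models

namespace Groth.Agent.S3351

section aux

variable {L : Type} [AddCommGroup L] [Module.Finite ℤ L] [Module.Free ℤ L]

lemma extend_of_saturated (A : Submodule ℤ L)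
    (hsat : ∀ (c : ℤ) (x : L), c ≠ 0 → c • x ∈ A → x ∈ A)
    (ψ : Module.Dual ℤ A) : ∃ φ : Module.Dual ℤ L, φ ∘ₗ A.subtype = ψ := by
  have : Module.IsTorsionFree ℤ (L ⧸ A) := by
    apply Module.IsTorsionFree.of_smul_eq_zero
    intro c m h
    induction m using Submodule.Quotient.induction_on with
    | _ x =>
      by_cases hc : c = 0
      · left; exact hc
      · right
        rw [← Submodule.Quotient.mk_smul, Submodule.Quotient.mk_eq_zero] at h
        exact (Submodule.Quotient.mk_eq_zero _).mpr (hsat c x hc h)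
  have : Module.Free ℤ (L ⧸ A) := Module.free_of_finite_type_torsion_free'
  obtain ⟨s, hs⟩ := Module.projective_lifting_property A.mkQ LinearMap.id A.mkQ_surjective
  have hmem : ∀ x : L, ((LinearMap.id : L →ₗ[ℤ] L) - s ∘ₗ A.mkQ) x ∈ A := by
    intro x
    rw [← Submodule.Quotient.mk_eq_zero]
    have := DFunLike.congr_fun hs (A.mkQ x)
    simp only [LinearMap.comp_apply, LinearMap.id_apply, Submodule.mkQ_apply] at this
    simp [this]
  let r : L →ₗ[ℤ] A := LinearMap.codRestrict A ((LinearMap.id : L →ₗ[ℤ] L) - s ∘ₗ A.mkQ) hmem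
  refine ⟨ψ ∘ₗ r, ?_⟩
  ext a
  simp only [LinearMap.comp_apply, Submodule.subtype_apply]
  congr 1
  apply Subtype.ext
  have h0 : (Submodule.Quotient.mk (a : L) : L ⧸ A) = 0 :=
    (Submodule.Quotient.mk_eq_zero A).mpr a.2
  simp [r, h0]

lemma exists_smul_sub_mem_orthogonal (B : LinearMap.BilinForm ℤ L)
    (hpos : ∀ x, x ≠ 0 → 0 < B x x) (A : Submodule ℤ L) (x : L) :
    ∃ n : ℤ, n ≠ 0 ∧ ∃ a ∈ A, n • x - a ∈ B.orthogonal A := by
  classical
  have : IsNoetherian ℤ L := isNoetherian_of_isNoetherianRing_of_finite ℤ L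
  have : Module.Finite ℤ A := Module.IsNoetherian.finite ℤ A
  have : Module.Free ℤ A := Module.free_of_finite_type_torsion_free'
  let b := Module.finBasis ℤ A
  let M : Matrix (Fin (Module.finrank ℤ A)) (Fin (Module.finrank ℤ A)) ℤ :=
    fun i j => B (b i : L) (b j : L)
  have hB_sum : ∀ (y : L) (v : Fin (Module.finrank ℤ A) → ℤ),
      B y ((b.equivFun.symm v : A) : L) = ∑ j, v j * B y (b j : L) := by
    intro y v
    rw [Module.Basis.equivFun_symm_apply]
    simp [map_sum]
  have hdet : M.det ≠ 0 := by
    intro h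
    obtain ⟨v, hv, hMv⟩ := Matrix.exists_mulVec_eq_zero_iff.mpr h
    set a : A := b.equivFun.symm v with ha
    have ha0 : a ≠ 0 := by
      intro h0
      apply hv
      exact b.equivFun.symm.injective (by rw [← ha, h0, map_zero])
    have h1 : ∀ i, B (b i : L) (a : L) = 0 := by
      intro i
      rw [hB_sum]
      have := congrFun hMv i
      simp only [Matrix.mulVec, dotProduct, Pi.zero_apply] at this
      rw [← this]
      apply Finset.sum_congr rfl
      intro j _
      simp [M, mul_comm]
    have h2 : B (a : L) (a : L) = 0 := by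
      have : (a : L) = ∑ i, v i • (b i : L) := by
        rw [ha, Module.Basis.equivFun_symm_apply]
        simp
      have e : B (a : L) = ∑ i, v i • B (b i : L) := by
        rw [this, map_sum]
        simp only [map_smul]
      rw [e, LinearMap.sum_apply]
      apply Finset.sum_eq_zero
      intro i _
      rw [LinearMap.smul_apply, h1 i, smul_zero]
    have h3 := hpos (a : L) (by simpa using ha0)
    rw [h2] at h3
    exact lt_irrefl _ h3
  let t : Fin (Module.finrank ℤ A) → ℤ := fun i => B (b i : L) x
  let c : Fin (Module.finrank ℤ A) → ℤ := M.adjugate.mulVec t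
  refine ⟨M.det, hdet, (b.equivFun.symm c : A), (b.equivFun.symm c).2, ?_⟩
  have hkey : ∀ i, B (b i : L) (M.det • x - ((b.equivFun.symm c : A) : L)) = 0 := by
    intro i
    rw [map_sub, map_smul, hB_sum]
    have h1 : M.mulVec c = M.det • t := by
      simp only [c]
      rw [Matrix.mulVec_mulVec, Matrix.mul_adjugate, Matrix.smul_mulVec, Matrix.one_mulVec]
    have h2 := congrFun h1 i
    simp only [Matrix.mulVec, dotProduct, Pi.smul_apply, smul_eq_mul] at h2
    have h3 : ∑ j, c j * B (b i : L) (b j : L) = M.det * t i := by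
      rw [← h2]
      apply Finset.sum_congr rfl
      intro j _
      simp [M, mul_comm]
    rw [h3]
    simp [t]
  intro a' ha'
  change B a' _ = 0
  have : a' = ∑ i, (b.repr ⟨a', ha'⟩ i) • (b i : L) := by
    have h := congrArg (Subtype.val) (b.sum_repr ⟨a', ha'⟩)
    simp only [Submodule.coe_sum, Submodule.coe_smul] at h
    exact h.symm
  rw [this, map_sum, LinearMap.sum_apply]
  apply Finset.sum_eq_zero
  intro i _
  rw [map_smul, LinearMap.smul_apply, hkey i, smul_zero]

lemma orthogonal_saturated (B : LinearMap.BilinForm ℤ L) (A : Submodule ℤ L) :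
    ∀ (c : ℤ) (x : L), c ≠ 0 → c • x ∈ B.orthogonal A → x ∈ B.orthogonal A := by
  intro c x hc hx a ha
  have := hx a ha
  change B a (c • x) = 0 at this
  rw [map_smul, smul_eq_mul] at this
  change B a x = 0
  rcases mul_eq_zero.mp this with h | h
  · exact absurd h hc
  · exact h

end aux


/-- Let L be a finite free Z-module with a positive definite symmetric integral bilinear form, A ⊆ L a
submodule with L/A torsion free and B the orthogonal complement of A. Write M^# for the dual lattice
of a sublattice M, identified here with the Z-dual Hom(M, Z) through the form. Then the natural maps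
L/(A ⊕ B) → B^#/B and L/(A ⊕ B) → A^#/A are injective: an element x of L whose functional ⟨x, -⟩ on
B (resp. on A) is represented by an element of B (resp. of A) lies in A ⊕ B. Moreover the
restriction maps L^# → B^# and L^# → A^# are surjective, so that the cokernels of the two injections
are quotients of L^#/L. -/
theorem result {L : Type} [AddCommGroup L] [Module.Finite ℤ L] [Module.Free ℤ L]
    (B : LinearMap.BilinForm ℤ L) (hsymm : B.IsSymm) (hpos : ∀ x, x ≠ 0 → 0 < B x x)
    (A : Submodule ℤ L) (htf : ∀ (c : ℤ) (x : L), c ≠ 0 → c • x ∈ A → x ∈ A) :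
    (∀ x : L, (∃ b ∈ B.orthogonal A, ∀ b' ∈ B.orthogonal A, B x b' = B b b') → x ∈ A ⊔ B.orthogonal A) ∧
      (∀ x : L, (∃ a ∈ A, ∀ a' ∈ A, B x a' = B a a') → x ∈ A ⊔ B.orthogonal A) ∧
      (∀ ψ : Module.Dual ℤ ↥(B.orthogonal A), ∃ φ : Module.Dual ℤ L, φ ∘ₗ (B.orthogonal A).subtype = ψ) ∧
      (∀ ψ : Module.Dual ℤ ↥A, ∃ φ : Module.Dual ℤ L, φ ∘ₗ A.subtype = ψ) := by
  refine ⟨?_, ?_, ?_, ?_⟩
  · rintro x ⟨b, hb, hxb⟩
    obtain ⟨n, hn, a, ha, hmem⟩ := exists_smul_sub_mem_orthogonal B hpos A (x - b)
    obtain ⟨b0, hb0⟩ : ∃ b0, b0 = n • (x - b) - a := ⟨_, rfl⟩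
    rw [← hb0] at hmem
    have h1 : B (x - b) b0 = 0 := by
      rw [map_sub, LinearMap.sub_apply, hxb b0 hmem, sub_self]
    have h2 : B a b0 = 0 := hmem a ha
    have h3 : B b0 b0 = 0 := by
      have h : B b0 = n • B (x - b) - B a := by rw [hb0, map_sub, map_smul]
      rw [h, LinearMap.sub_apply, LinearMap.smul_apply, h1, h2]
      simp
    have h4 : b0 = 0 := by
      by_contra h
      have := hpos b0 h
      rw [h3] at this
      exact lt_irrefl _ this
    have h5 : n • (x - b) = a := by
      rw [hb0, sub_eq_zero] at h4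
      exact h4
    have h6 : x - b ∈ A := htf n (x - b) hn (h5 ▸ ha)
    have : x = (x - b) + b := by abel
    rw [this]
    exact Submodule.add_mem_sup h6 hb
  · rintro x ⟨a, ha, hxa⟩
    have h1 : x - a ∈ B.orthogonal A := by
      intro a' ha'
      change B a' (x - a) = 0
      rw [← hsymm.eq, map_sub, LinearMap.sub_apply, hxa a' ha', sub_self]
    have : x = a + (x - a) := by abel
    rw [this]
    exact Submodule.add_mem_sup ha h1
  · intro ψ
    exact extend_of_saturated _ (orthogonal_saturated B A) ψ
  · intro ψ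
    exact extend_of_saturated A htf ψ

end Groth.Agent.S3351
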