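import Groth.Statements.S3352
import Groth.Agent.Lib.Helper83.LatticeDisc

set_option autoImplicit false
open Models

namespace Groth.Agent.S3352

/-- Let L₀, L₁ be finite free ℤ-modules with positive definite symmetric integral bilinear forms, the
form on L₀ unimodular (x ↦ ⟨x, −⟩ is a bijection L₀ → Hom(L₀, ℤ)), and let d : L₀ → L₁ and d* : L₁ →
L₀ be adjoint. Identify Im(d)^# (the dual lattice of Im(d)) with Hom(Im(d), ℤ) through the form on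
L₁. Then there is an isomorphism Φ from the torsion subgroup of Coker(d* d) onto Im(d)^#/Im(d),
determined by: for x ∈ L₀ whose class is torsion, Φ[x] is the class of the functional d(y') ↦ ⟨x,
y'⟩ (equivalently the class of (1/a)·d(y) when a·x = d* d(y)). -/
theorem result {L₀ L₁ : Type} [AddCommGroup L₀] [AddCommGroup L₁]
    [Module.Finite ℤ L₀] [Module.Free ℤ L₀] [Module.Finite ℤ L₁] [Module.Free ℤ L₁]
    (B₀ : LinearMap.BilinForm ℤ L₀) (B₁ : LinearMap.BilinForm ℤ L₁) (h₀s : B₀.IsSymm) (h₁s : B₁.IsSymm)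
    (h₀p : ∀ x, x ≠ 0 → 0 < B₀ x x) (h₁p : ∀ x, x ≠ 0 → 0 < B₁ x x) (huni : Function.Bijective B₀)
    (d : L₀ →ₗ[ℤ] L₁) (ds : L₁ →ₗ[ℤ] L₀) (hadj : ∀ x y, B₁ (d x) y = B₀ x (ds y)) :
    ∃ Φ : ↥(Submodule.torsion ℤ (L₀ ⧸ LinearMap.range (ds ∘ₗ d))) ≃ₗ[ℤ]
        (Module.Dual ℤ ↥(LinearMap.range d) ⧸
          LinearMap.range ((B₁.compl₂ (LinearMap.range d).subtype) ∘ₗ (LinearMap.range d).subtype)),
      ∀ (x : L₀) (hx : Submodule.Quotient.mk x ∈ Submodule.torsion ℤ (L₀ ⧸ LinearMap.range (ds ∘ₗ d)))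
        (ψ : Module.Dual ℤ ↥(LinearMap.range d)),
        (∀ y' : L₀, ψ ⟨d y', LinearMap.mem_range_self d y'⟩ = B₀ x y') →
          Φ ⟨Submodule.Quotient.mk x, hx⟩ = Submodule.Quotient.mk ψ := by
  classical
  refine ⟨Groth.Agent.Lib.Helper83.LatticeDisc.Φ h₀s h₁s h₀p h₁p huni hadj, ?_⟩
  intro x hx ψ hψ
  have hxP : x ∈ Groth.Agent.Lib.Helper83.LatticeDisc.P B₀ d :=
    Groth.Agent.Lib.Helper83.LatticeDisc.mem_P_of_torsion h₀s hadj hx
  have h1 : (⟨Submodule.Quotient.mk x, hx⟩ :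
      Submodule.torsion ℤ (L₀ ⧸ LinearMap.range (ds ∘ₗ d))) =
      Groth.Agent.Lib.Helper83.LatticeDisc.Θ h₀s h₁s h₀p h₁p hadj ⟨x, hxP⟩ := Subtype.ext rfl
  rw [h1, Groth.Agent.Lib.Helper83.LatticeDisc.Φ_apply]
  congr 1
  ext ⟨m, y, rfl⟩
  rw [Groth.Agent.Lib.Helper83.LatticeDisc.Ψ_apply, hψ]

end Groth.Agent.S3352
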