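import Groth.Statements.S3364
import Groth.Agent.Lib.Helper28.DepthHpull

set_option autoImplicit false
universe u
open CategoryTheory CategoryTheory.Limits AlgebraicGeometry Opposite
open EtDepth

namespace Groth.Agent.S3364

/-- Let X be a scheme, j : U → X an open immersion with closed complement Y, F an abelian sheaf on the
small étale site of X and n ≥ 0. Then the local cohomology sheaves H^p_Y(X, F) vanish for p < n if
and only if for every scheme X' étale over X, with U' = X' ×_X U, the restriction maps H^p(X', F) →
H^p(U', F) are bijective for p < n − 1 and injective for p = n − 1. (The restriction maps are the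
prelude's pull-back maps on étale cohomology, whose exactness instance is carried as a binder. The
published statement has further equivalent conditions and is not limited to a single sheaf; only
this equivalence, for one abelian sheaf, is stated here.) -/
theorem result {X U : Scheme.{u}} (j : U ⟶ X) [IsOpenImmersion j] [EtCoh.BCCont j] (F : EtCoh.Ab X) (n : ℕ) : EtDepth.DepthGE j F n ↔ ∀ (X' : Scheme.{u}) (g : X' ⟶ X) [Etale g] [PreservesFiniteLimits (EtCoh.pull (pullback.snd j g))], (∀ p : ℕ, p + 1 < n → Function.Bijective (EtCore.Hpull (pullback.snd j g) ((EtCoh.pull g).obj F) p)) ∧ (∀ p : ℕ, p + 1 = n → Function.Injective (EtCore.Hpull (pullback.snd j g) ((EtCoh.pull g).obj F) p)) := by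
  have pfl : ∀ {A B : Scheme.{u}} (a : A ⟶ B), PreservesFiniteLimits (EtCoh.pull a) :=
    fun a => Groth.Agent.Lib.Helper4.EtStalk.preservesFiniteLimits_pull a
  -- transport between the two presentations of the fibre product
  have tr : ∀ (X' : Scheme.{u}) (g : X' ⟶ X) [Etale g]
      [PreservesFiniteLimits (EtCoh.pull (pullback.snd j g))] (q : ℕ),
      (Function.Bijective (@EtCore.Hpull _ _ (pullback.fst (Scheme.Etale.mk g).hom j)
          (Groth.Agent.Lib.Helper28.AcycSingle.pflPull _)
          ((EtCoh.pull (Scheme.Etale.mk g).hom).obj F) q) ↔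
        Function.Bijective (EtCore.Hpull (pullback.snd j g) ((EtCoh.pull g).obj F) q)) ∧
      (Function.Injective (@EtCore.Hpull _ _ (pullback.fst (Scheme.Etale.mk g).hom j)
          (Groth.Agent.Lib.Helper28.AcycSingle.pflPull _)
          ((EtCoh.pull (Scheme.Etale.mk g).hom).obj F) q) ↔
        Function.Injective (EtCore.Hpull (pullback.snd j g) ((EtCoh.pull g).obj F) q)) := by
    intro X' g _ _ q
    have := Groth.Agent.Lib.Helper28.AcycSingle.pflPull (pullback.fst g j)
    exact Groth.Agent.Lib.Helper28.DepthHpull.hpull_symm_iff j g ((EtCoh.pull g).obj F) q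
  constructor
  · intro hD X' g _ _
    rcases n with _ | n
    · exact ⟨fun p hp => absurd hp (by omega), fun p hp => absurd hp (by omega)⟩
    have hmono : Mono ((EtCoh.pullPushAdj j).unit.app F) :=
      (Groth.Agent.Lib.Helper28.DepthHpull.isZero_locCoh_zero_iff j F).1 (hD 0 (by omega))
    rcases n with _ | n
    · refine ⟨fun p hp => absurd hp (by omega), fun p hp => ?_⟩
      obtain rfl : p = 0 := by omega
      exact (tr X' g 0).2.1
        (Groth.Agent.Lib.Helper28.AcycSingle.hpull_zero_injective_of_mono j F hmono
          (Scheme.Etale.mk g))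
    have hepi : Epi ((EtCoh.pullPushAdj j).unit.app F) :=
      (Groth.Agent.Lib.Helper28.DepthHpull.isZero_locCoh_one_iff j F).1 (hD 1 (by omega))
    have hiso : IsIso ((EtCoh.pullPushAdj j).unit.app F) := isIso_of_mono_of_epi _
    have hR : ∀ q : ℕ, 1 ≤ q → q ≤ n →
        IsZero ((EtCoh.Rpush j q).obj ((EtCoh.pull j).obj F)) := by
      intro q hq1 hqn
      exact (Groth.Agent.Lib.Helper28.DepthHpull.isZero_locCoh_succ_iff j F q hq1).1
        (hD (q + 1) (by omega))
    obtain ⟨hb, hi⟩ := Groth.Agent.Lib.Helper28.AcycSingle.hpull_of_unit j F n hiso hR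
      (Scheme.Etale.mk g)
    refine ⟨fun p hp => (tr X' g p).1.1 (hb p (by omega)), fun p hp => ?_⟩
    obtain rfl : p = n + 1 := by omega
    exact (tr X' g (n + 1)).2.1 hi
  · intro h p hp
    rcases n with _ | n
    · exact absurd hp (by omega)
    -- the unit is a monomorphism
    have hinj0 : ∀ W : X.Etale, Function.Injective
        (@EtCore.Hpull _ _ (pullback.fst W.hom j)
          (Groth.Agent.Lib.Helper28.AcycSingle.pflPull _) ((EtCoh.pull W.hom).obj F) 0) := by
      intro W
      have hW : Etale W.hom := W.prop
      have := pfl (pullback.snd j W.hom)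
      obtain ⟨h1, h2⟩ := h W.left W.hom
      rcases n with _ | n
      · exact (tr W.left W.hom 0).2.2 (h2 0 rfl)
      · exact (tr W.left W.hom 0).2.2 (h1 0 (by omega)).1
    have hmono : Mono ((EtCoh.pullPushAdj j).unit.app F) :=
      Groth.Agent.Lib.Helper28.AcycSingle.mono_of_hpull j F hinj0
    rcases p with _ | p
    · exact (Groth.Agent.Lib.Helper28.DepthHpull.isZero_locCoh_zero_iff j F).2 hmono
    rcases n with _ | n
    · exact absurd hp (by omega)
    have hbij : ∀ (W : X.Etale) (q : ℕ), q ≤ n → Function.Bijective
        (@EtCore.Hpull _ _ (pullback.fst W.hom j)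
          (Groth.Agent.Lib.Helper28.AcycSingle.pflPull _) ((EtCoh.pull W.hom).obj F) q) := by
      intro W q hq
      have hW : Etale W.hom := W.prop
      have := pfl (pullback.snd j W.hom)
      obtain ⟨h1, -⟩ := h W.left W.hom
      exact (tr W.left W.hom q).1.2 (h1 q (by omega))
    obtain ⟨hiso, hR⟩ := Groth.Agent.Lib.Helper28.AcycSingle.unit_of_hpull j F n hbij
    rcases p with _ | p
    · have : Epi ((EtCoh.pullPushAdj j).unit.app F) := inferInstance
      exact (Groth.Agent.Lib.Helper28.DepthHpull.isZero_locCoh_one_iff j F).2 this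
    · exact (Groth.Agent.Lib.Helper28.DepthHpull.isZero_locCoh_succ_iff j F (p + 1) (by omega)).2
        (hR (p + 1) (by omega) (by omega))

end Groth.Agent.S3364
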