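import Groth.Statements.S3387
import Groth.Agent.Lib.Helper73.DimFormula.FibreDimSemi

set_option autoImplicit false
open CategoryTheory AlgebraicGeometry
universe u
open EGA43

namespace Groth.Agent.S3387

/-- Let f : X ⟶ Y be locally of finite type and closed (as a map of underlying spaces). Then for every
natural number n the set of points y of Y whose fibre has dimension at least n is closed; that is,
the dimension of the fibre is upper semicontinuous on Y. -/
theorem result {X Y : Scheme.{u}} (f : X ⟶ Y) [LocallyOfFiniteType f]
    (hf : IsClosedMap f.base) (n : ℕ) :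
    IsClosed {y : Y | (n : WithBot ℕ∞) ≤ topologicalKrullDim ↥(f.fiber y)} := by
  open Groth.Agent.Lib.Helper73 in
  cases n with
  | zero =>
    have : {y : Y | ((0 : ℕ) : WithBot ℕ∞) ≤ topologicalKrullDim ↥(f.fiber y)} = Set.range f := by
      ext y
      rw [Set.mem_setOf_eq]
      constructor
      · intro h
        by_contra hy
        rw [← topologicalKrullDim_fiber_eq_bot_iff] at hy
        rw [hy] at h
        exact absurd h (by simp)
      · intro hy
        have hne : topologicalKrullDim ↥(f.fiber y) ≠ ⊥ := by
          rw [Ne, topologicalKrullDim_fiber_eq_bot_iff]; exact fun h => h hy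
        obtain ⟨m, hm⟩ := WithBot.ne_bot_iff_exists.mp hne
        rw [← hm]
        exact_mod_cast (zero_le : (0 : ℕ∞) ≤ m)
    rw [this]
    exact hf.isClosed_range
  | succ n =>
    have : {y : Y | ((n + 1 : ℕ) : WithBot ℕ∞) ≤ topologicalKrullDim ↥(f.fiber y)} =
        f '' {x : X | FlatMor.fibreDimAt f x ≤ ((n : ℕ) : WithBot ℕ∞)}ᶜ := by
      ext y
      have hiff := topologicalKrullDim_fiber_le_iff f y n
      have key : ((n + 1 : ℕ) : WithBot ℕ∞) ≤ topologicalKrullDim ↥(f.fiber y) ↔
          ¬ topologicalKrullDim ↥(f.fiber y) ≤ ((n : ℕ) : WithBot ℕ∞) := by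
        rw [not_le]
        induction topologicalKrullDim ↥(f.fiber y) with
        | bot => simp
        | coe d =>
          induction d with
          | top =>
            simp only [WithBot.coe_top]
            constructor
            · intro _; exact WithBot.coe_lt_coe.mpr (ENat.coe_lt_top n)
            · intro _; exact le_top
          | coe d =>
            constructor
            · intro h
              have : n + 1 ≤ d := by exact_mod_cast h
              exact_mod_cast (by omega : n < d)
            · intro h
              have : n < d := by exact_mod_cast h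
              exact_mod_cast (by omega : n + 1 ≤ d)
      rw [Set.mem_setOf_eq, key, hiff]
      simp only [Set.mem_image, Set.mem_compl_iff, Set.mem_setOf_eq, not_forall]
      constructor
      · rintro ⟨x, hfx, hx⟩; exact ⟨x, hx, hfx⟩
      · rintro ⟨x, hx, hfx⟩; exact ⟨x, hfx, hx⟩
    rw [this]
    exact hf _ (isOpen_fibreDimAt_le n X Y f).isClosed_compl

end Groth.Agent.S3387
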