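import Groth.Statements.S3388
import Groth.Agent.Lib.Helper73.DimFormula.FibreDimSemi

set_option autoImplicit false
open CategoryTheory AlgebraicGeometry
universe u
open EGA43

namespace Groth.Agent.S3388

/-- Let X and Y be irreducible schemes and f : X ⟶ Y a dominant morphism locally of finite type; let e
be the dimension of the fibre over the generic point of Y. Then for every point x of X the local
dimension at x of the fibre through x is at least e. -/
theorem result {X Y : Scheme.{u}} [IrreducibleSpace X] [IrreducibleSpace Y]
    (f : X ⟶ Y) [LocallyOfFiniteType f] [IsDominant f] (x : X) :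
    topologicalKrullDim ↥(f.fiber (genericPoint Y)) ≤ FlatMor.fibreDimAt f x := by
  open Groth.Agent.Lib.Helper73 in
  have hgen : IsGenericPoint (f (genericPoint X)) (Set.univ : Set Y) := by
    have h := (genericPoint_spec X).image f.continuous
    rwa [Set.image_univ, f.denseRange.closure_range] at h
  have hη : f (genericPoint X) = genericPoint Y := hgen.eq (genericPoint_spec Y)
  rw [topologicalKrullDim_fiber_genericPoint f (genericPoint Y) hη
    (resTrdegNat f (genericPoint X)) (resTrdeg_eq_resTrdegNat f _)]
  obtain ⟨d, hd⟩ := exists_fibreDimAt_eq_natCast f x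
  have hopen := isOpen_fibreDimAt_le d X Y f
  have hξ : genericPoint X ∈ {x' : X | FlatMor.fibreDimAt f x' ≤ ((d : ℕ) : WithBot ℕ∞)} :=
    (genericPoint_specializes x).mem_open hopen (by rw [Set.mem_setOf_eq, hd])
  rw [hd]
  exact (resTrdegNat_le_fibreDimAt f (genericPoint X)).trans hξ

end Groth.Agent.S3388
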