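import Groth.Statements.S3389
import Groth.Agent.Lib.Helper73.DimFormula.FibreDimSemi

set_option autoImplicit false
open CategoryTheory AlgebraicGeometry
universe u
open EGA43

namespace Groth.Agent.S3389

/-- Let Y be a quasi-compact scheme and f : X ⟶ Y a morphism of finite type. Then there is a natural
number n bounding the dimension of every fibre of f. -/
theorem result {X Y : Scheme.{u}} [CompactSpace Y] (f : X ⟶ Y)
    [LocallyOfFiniteType f] [QuasiCompact f] :
    ∃ n : ℕ, ∀ y : Y, topologicalKrullDim ↥(f.fiber y) ≤ n := by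
  open Groth.Agent.Lib.Helper73 in
  have hX : CompactSpace X := QuasiCompact.compactSpace_of_compactSpace f
  obtain ⟨n, hn⟩ := isCompact_univ.elim_directed_cover
    (fun n : ℕ => {x : X | FlatMor.fibreDimAt f x ≤ ((n : ℕ) : WithBot ℕ∞)})
    (fun n => isOpen_fibreDimAt_le n X Y f)
    (by
      intro x _
      obtain ⟨d, hd⟩ := exists_fibreDimAt_eq_natCast f x
      exact Set.mem_iUnion.mpr ⟨d, by rw [Set.mem_setOf_eq, hd]⟩)
    (by
      intro a b
      refine ⟨max a b, ?_, ?_⟩
      · intro x hx
        have hx' : FlatMor.fibreDimAt f x ≤ ((a : ℕ) : WithBot ℕ∞) := hx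
        exact le_trans hx' (by exact_mod_cast le_max_left a b)
      · intro x hx
        have hx' : FlatMor.fibreDimAt f x ≤ ((b : ℕ) : WithBot ℕ∞) := hx
        exact le_trans hx' (by exact_mod_cast le_max_right a b))
  refine ⟨n, fun y => ?_⟩
  rw [topologicalKrullDim_fiber_le_iff]
  intro x _
  exact hn (Set.mem_univ x)

end Groth.Agent.S3389
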