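import Groth.Statements.S3390
import Groth.Agent.Lib.Helper73.DimFormula.FibreDimSemi

set_option autoImplicit false
open CategoryTheory AlgebraicGeometry
universe u
open EGA43

namespace Groth.Agent.S3390

/-- Let Y be an irreducible locally Noetherian scheme with generic point η and X an irreducible scheme,
and let f : X ⟶ Y be dominant and locally of finite type. Take a point x of X and write y = f x.
Suppose dim O_{X,x} = dim O_{Y,y} + dim O_{X_y,x}. Then the local dimension of the fibre X_y at x
(FlatMor.fibreDimAt f x) equals the dimension of the generic fibre X_η (i.e. f is equidimensional at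
x). -/
theorem result {X Y : Scheme.{u}} [IrreducibleSpace X] [IrreducibleSpace Y]
    [IsLocallyNoetherian Y] (f : X ⟶ Y) [LocallyOfFiniteType f] [IsDominant f] (x : X)
    (h : ringKrullDim (X.presheaf.stalk x) =
        ringKrullDim (Y.presheaf.stalk (f.base x)) + ringKrullDim ((f.fiber (f.base x)).presheaf.stalk (f.asFiber x))) :
    FlatMor.fibreDimAt f x = topologicalKrullDim ↥(f.fiber (genericPoint Y)) := by
  open Groth.Agent.Lib.Helper73 in
  have hgen : IsGenericPoint (f (genericPoint X)) (Set.univ : Set Y) := by
    have h := (genericPoint_spec X).image f.continuous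
    rwa [Set.image_univ, f.denseRange.closure_range] at h
  have hη : f (genericPoint X) = genericPoint Y := hgen.eq (genericPoint_spec Y)
  have he := topologicalKrullDim_fiber_genericPoint f (genericPoint Y) hη
    (resTrdegNat f (genericPoint X)) (resTrdeg_eq_resTrdegNat f _)
  apply le_antisymm
  · -- dimension inequality
    obtain ⟨ξ, hξc, hξx, a, b, ha, hb, hab⟩ := exists_generic_stalk_dim_add_trdeg_le f x
    have hξ : ξ = genericPoint X := by
      rw [irreducibleComponents_eq_singleton, Set.mem_singleton_iff] at hξc
      have h2 : IsGenericPoint ξ Set.univ := hξc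
      exact h2.eq (genericPoint_spec X)
    subst hξ
    obtain ⟨n, hn⟩ := exists_ringKrullDim_fiber_stalk_eq_natCast f x
    have hb' : ringKrullDim (Y.presheaf.stalk (f.base x)) = b := hb
    rw [ha, hb', hn] at h
    have h1 : a = b + n := by exact_mod_cast h
    change (a : Cardinal.{u}) + resTrdeg f x ≤ (b : Cardinal.{u}) + resTrdeg f (genericPoint X) at hab
    rw [resTrdeg_eq_resTrdegNat, resTrdeg_eq_resTrdegNat] at hab
    have h2 : a + resTrdegNat f x ≤ b + resTrdegNat f (genericPoint X) := by exact_mod_cast hab
    rw [he, fibreDimAt_eq, hn]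
    have h3 : n + resTrdegNat f x ≤ resTrdegNat f (genericPoint X) := by omega
    exact_mod_cast h3
  · -- Chevalley
    rw [he]
    obtain ⟨d, hd⟩ := exists_fibreDimAt_eq_natCast f x
    have hopen := isOpen_fibreDimAt_le d X Y f
    have hξ : genericPoint X ∈ {x' : X | FlatMor.fibreDimAt f x' ≤ ((d : ℕ) : WithBot ℕ∞)} :=
      (genericPoint_specializes x).mem_open hopen (by rw [Set.mem_setOf_eq, hd])
    rw [hd]
    exact (resTrdegNat_le_fibreDimAt f (genericPoint X)).trans hξ

end Groth.Agent.S3390
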