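import Groth.Statements.S3391
import Groth.Agent.Lib.Helper73.DimFormula.FiberDim

set_option autoImplicit false
open CategoryTheory AlgebraicGeometry
universe u
open EGA43

namespace Groth.Agent.S3391

/-- With X, Y, f, x, y as in the first assertion, suppose O_{Y,y} is universally catenary and the local
dimension at x of the fibre through x equals the dimension of the generic fibre. Then dim O_{X,x} =
dim O_{Y,y} + dim O_{X_y,x}. -/
theorem result {X Y : Scheme.{u}} [IrreducibleSpace X] [IrreducibleSpace Y]
    [IsLocallyNoetherian Y] (f : X ⟶ Y) [LocallyOfFiniteType f] [IsDominant f] (x : X)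
    (hcat : CAlg.IsUniversallyCatenary (Y.presheaf.stalk (f.base x)))
    (h : FlatMor.fibreDimAt f x = topologicalKrullDim ↥(f.fiber (genericPoint Y))) :
    ringKrullDim (X.presheaf.stalk x) =
        ringKrullDim (Y.presheaf.stalk (f.base x)) + ringKrullDim ((f.fiber (f.base x)).presheaf.stalk (f.asFiber x)) := by
  open Groth.Agent.Lib.Helper73 in
  have hgen : IsGenericPoint (f (genericPoint X)) (Set.univ : Set Y) := by
    have h := (genericPoint_spec X).image f.continuous
    rwa [Set.image_univ, f.denseRange.closure_range] at h
  have hη : f (genericPoint X) = genericPoint Y := hgen.eq (genericPoint_spec Y)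
  have he := topologicalKrullDim_fiber_genericPoint f (genericPoint Y) hη
    (resTrdegNat f (genericPoint X)) (resTrdeg_eq_resTrdegNat f _)
  obtain ⟨n, hn⟩ := exists_ringKrullDim_fiber_stalk_eq_natCast f x
  rw [fibreDimAt_eq, he, hn] at h
  obtain ⟨a, b, ha, hb, hab⟩ := codim_add_resTrdeg_eq_local f (genericPoint X) x
    (genericPoint_specializes x) hcat
  rw [← ringKrullDim_stalk_eq_codim_genericPoint] at ha
  rw [hη, ← ringKrullDim_stalk_eq_codim_genericPoint] at hb
  rw [resTrdeg_eq_resTrdegNat, resTrdeg_eq_resTrdegNat] at hab
  have hb' : ringKrullDim (Y.presheaf.stalk (f.base x)) = b := hb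
  rw [ha, hb', hn]
  have h1 : n + resTrdegNat f x = resTrdegNat f (genericPoint X) := by exact_mod_cast h
  have h2 : a + resTrdegNat f x = b + resTrdegNat f (genericPoint X) := by exact_mod_cast hab
  have h3 : a = b + n := by omega
  rw [h3]; rfl

end Groth.Agent.S3391
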