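import Groth.Statements.S3392
import Groth.Agent.Lib.Helper73.DimFormula.FiberMax

set_option autoImplicit false
open CategoryTheory AlgebraicGeometry
universe u
open EGA43

namespace Groth.Agent.S3392

/-- Let Y be an irreducible locally Noetherian scheme, f : X ⟶ Y a morphism of finite type and y a point
of Y. Condition (a): for every point x of the fibre over y, dim O_{X,x} = dim O_{Y,y} + dim
O_{X_y,x}. Condition (b): for every point z of the fibre over y at which the local ring of the fibre
has dimension 0 (the generic points of the irreducible components of the fibre), dim O_{X,z} = dim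
O_{Y,y}. Then (a) implies (b), and (b) implies (a) if O_{Y,y} is universally catenary. -/
theorem result {X Y : Scheme.{u}} [IrreducibleSpace Y] [IsLocallyNoetherian Y]
    (f : X ⟶ Y) [LocallyOfFiniteType f] [QuasiCompact f] (y : Y) :
    ((∀ x : X, f.base x = y → ringKrullDim (X.presheaf.stalk x) =
        ringKrullDim (Y.presheaf.stalk (f.base x)) + ringKrullDim ((f.fiber (f.base x)).presheaf.stalk (f.asFiber x))) →
      (∀ z : X, f.base z = y → ringKrullDim ((f.fiber (f.base z)).presheaf.stalk (f.asFiber z)) = 0 →
        ringKrullDim (X.presheaf.stalk z) = ringKrullDim (Y.presheaf.stalk (f.base z)))) ∧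
    (CAlg.IsUniversallyCatenary (Y.presheaf.stalk y) →
      (∀ z : X, f.base z = y → ringKrullDim ((f.fiber (f.base z)).presheaf.stalk (f.asFiber z)) = 0 →
        ringKrullDim (X.presheaf.stalk z) = ringKrullDim (Y.presheaf.stalk (f.base z))) →
      (∀ x : X, f.base x = y → ringKrullDim (X.presheaf.stalk x) =
        ringKrullDim (Y.presheaf.stalk (f.base x)) + ringKrullDim ((f.fiber (f.base x)).presheaf.stalk (f.asFiber x)))) := by
  refine ⟨fun ha z hz h0 => ?_, fun _ hb x hx => ?_⟩
  · rw [ha z hz, h0, add_zero]
  · obtain ⟨n, hn⟩ := Lib.Helper73.exists_ringKrullDim_fiber_stalk_eq_natCast f x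
    obtain ⟨z, hfz, hzx, hmax, p, hp1, hp2, hp3⟩ := Lib.Helper73.exists_maximal_fiber_generization f x n hn
    have h0z : ringKrullDim ((f.fiber (f.base z)).presheaf.stalk (f.asFiber z)) = 0 := by
      rw [Lib.Helper73.ringKrullDim_fiber_stalk_eq_krullDim]
      have : Nonempty ↥{t : X | t ⤳ z ∧ f t = f z} := ⟨⟨z, specializes_rfl, rfl⟩⟩
      have : Subsingleton ↥{t : X | t ⤳ z ∧ f t = f z} :=
        ⟨fun a b => Subtype.ext ((hmax a.1 a.2.1 a.2.2).trans (hmax b.1 b.2.1 b.2.2).symm)⟩
      exact Order.krullDim_eq_zero
    have hz : ringKrullDim (X.presheaf.stalk z) = ringKrullDim (Y.presheaf.stalk (f.base z)) :=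
      hb z (hfz.trans hx) h0z
    refine le_antisymm (Lib.Helper73.ringKrullDim_stalk_le_add_fiber f x) ?_
    rw [hn, ringKrullDim_stalk_eq_coheight x]
    have hfz' : f.base z = f.base x := hfz
    rw [← hfz', ← hz, ringKrullDim_stalk_eq_coheight z]
    have := Lib.Helper73.coheight_last_add_length_le p
    rw [hp1, hp2, hp3] at this
    exact_mod_cast this

end Groth.Agent.S3392
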