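import Groth.Statements.S3393
import Groth.Agent.Lib.Helper73.DimFormula.PairLe

set_option autoImplicit false
open CategoryTheory AlgebraicGeometry
universe u
open EGA43

namespace Groth.Agent.S3393

/-- Let Y be an irreducible locally Noetherian scheme with generic point η, f : X ⟶ Y a morphism of
finite type and y a point of Y. Condition (b): for every point z of the fibre over y at which the
local ring of the fibre has dimension 0, dim O_{X,z} = dim O_{Y,y}. Condition (c): for every such z
there is an irreducible component X' of X containing z such that the dimension of X' ∩ f⁻¹(η)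
(topology induced from X) equals the local dimension at z of the fibre over y (the dimension of the
irreducible component of the fibre with generic point z). Then (b) implies (c), and (c) implies (b)
if O_{Y,y} is universally catenary. -/
theorem result {X Y : Scheme.{u}} [IrreducibleSpace Y] [IsLocallyNoetherian Y]
    (f : X ⟶ Y) [LocallyOfFiniteType f] [QuasiCompact f] (y : Y) :
    ((∀ z : X, f.base z = y → ringKrullDim ((f.fiber (f.base z)).presheaf.stalk (f.asFiber z)) = 0 →
        ringKrullDim (X.presheaf.stalk z) = ringKrullDim (Y.presheaf.stalk (f.base z))) →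
      (∀ z : X, f.base z = y → ringKrullDim ((f.fiber (f.base z)).presheaf.stalk (f.asFiber z)) = 0 →
        ∃ X' ∈ irreducibleComponents (X : Type u), z ∈ X' ∧
          topologicalKrullDim ↥(X' ∩ f.base ⁻¹' {genericPoint Y}) = FlatMor.fibreDimAt f z)) ∧
    (CAlg.IsUniversallyCatenary (Y.presheaf.stalk y) →
      (∀ z : X, f.base z = y → ringKrullDim ((f.fiber (f.base z)).presheaf.stalk (f.asFiber z)) = 0 →
        ∃ X' ∈ irreducibleComponents (X : Type u), z ∈ X' ∧
          topologicalKrullDim ↥(X' ∩ f.base ⁻¹' {genericPoint Y}) = FlatMor.fibreDimAt f z) →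
      (∀ z : X, f.base z = y → ringKrullDim ((f.fiber (f.base z)).presheaf.stalk (f.asFiber z)) = 0 →
        ringKrullDim (X.presheaf.stalk z) = ringKrullDim (Y.presheaf.stalk (f.base z)))) := by
  open Groth.Agent.Lib.Helper73 in
  constructor
  · intro hb z hzy hz0
    have hmaxz := maximal_of_ringKrullDim_fiber_stalk_eq_zero f z hz0
    obtain ⟨ξ, hξη, hξmax, hξz, hr⟩ := exists_maximal_over_genericPoint' f z hmaxz (hb z hzy hz0)
    refine ⟨closure {ξ}, closure_singleton_mem_irreducibleComponents_of_maximal ξ hξmax,
      specializes_iff_mem_closure.mp hξz, ?_⟩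
    have h1 := topologicalKrullDim_closure_inter_fiber f ξ (genericPoint Y) hξη
    have h2 := fibreDimAt_eq f z
    rw [hz0, zero_add] at h2
    rw [h2, ← hr]
    exact h1
  · intro hcat hc z hzy hz0
    subst hzy
    have hmaxz := maximal_of_ringKrullDim_fiber_stalk_eq_zero f z hz0
    obtain ⟨X', hX', hzX', hdim⟩ := hc z rfl hz0
    obtain ⟨ξ, hξX', hξmax⟩ := exists_maximal_of_mem_irreducibleComponents X' hX'
    have hξz : ξ ⤳ z := by
      rw [specializes_iff_mem_closure, hξX']; exact hzX'
    have h2 := fibreDimAt_eq f z
    rw [hz0, zero_add] at h2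
    rw [h2] at hdim
    -- the intersection is nonempty
    have hne : Nonempty ↥(X' ∩ f.base ⁻¹' {genericPoint Y}) := by
      by_contra hemp
      rw [not_nonempty_iff] at hemp
      have : topologicalKrullDim ↥(X' ∩ f.base ⁻¹' {genericPoint Y}) = ⊥ := by
        unfold topologicalKrullDim
        have : IsEmpty (TopologicalSpace.IrreducibleCloseds
            ↥(X' ∩ f.base ⁻¹' {genericPoint Y})) :=
          ⟨fun s => hemp.elim s.isIrreducible.nonempty.some⟩
        exact Order.krullDim_eq_bot
      rw [this] at hdim
      exact absurd hdim (by simp)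
    obtain ⟨⟨t, htX', htη⟩⟩ := hne
    have hξη : f ξ = genericPoint Y := by
      have hξt : ξ ⤳ t := by
        rw [specializes_iff_mem_closure, hξX']; exact htX'
      have h3 : f ξ ⤳ f t := hξt.map f.continuous
      have h4 : f t = genericPoint Y := htη
      rw [h4] at h3
      exact (Specializes.antisymm h3 (genericPoint_specializes (f ξ))).eq
    have h1 := topologicalKrullDim_closure_inter_fiber f ξ (genericPoint Y) hξη
    rw [hξX', hdim] at h1
    have hr : resTrdegNat f z = resTrdegNat f ξ := by exact_mod_cast h1
    obtain ⟨a, b, ha, hb, hab⟩ := codim_add_resTrdeg_eq_local f ξ z hξz hcat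
    rw [resTrdeg_eq_resTrdegNat, resTrdeg_eq_resTrdegNat] at hab
    have hab' : a + resTrdegNat f z = b + resTrdegNat f ξ := by exact_mod_cast hab
    have hab'' : a = b := by omega
    have hYz : ringKrullDim (Y.presheaf.stalk (f z)) = b := by
      rw [ringKrullDim_stalk_eq_codim_genericPoint, ← hξη, hb]
    apply le_antisymm
    · have := ringKrullDim_stalk_le_add_fiber f z
      rw [hz0, add_zero] at this
      exact this
    · have h5 := codim_le_ringKrullDim_stalk ξ z
      rw [ha, hab''] at h5
      change ringKrullDim (Y.presheaf.stalk (f z)) ≤ _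
      rw [hYz]
      exact h5

end Groth.Agent.S3393
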