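import Groth.Statements.S3397
import Groth.Agent.Lib.Helper73.DimFormula.EquidimLocal

set_option autoImplicit false
open CategoryTheory AlgebraicGeometry
universe u
open EGA43

namespace Groth.Agent.S3397

/-- Let Y be locally Noetherian, f : X ⟶ Y locally of finite type, x a point of X with y = f x, and
suppose O_{Y,y} is equidimensional. If O_{X,x} is equidimensional and dim O_{X,x} = dim O_{Y,y} +
dim O_{X_y,x}, then f is equidimensional at x. -/
theorem result {X Y : Scheme.{u}} [IsLocallyNoetherian Y] (f : X ⟶ Y)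
    [LocallyOfFiniteType f] (x : X) (hY : EGA4.IsEquidim (Y.presheaf.stalk (f.base x)))
    (hX : EGA4.IsEquidim (X.presheaf.stalk x))
    (h : ringKrullDim (X.presheaf.stalk x) =
        ringKrullDim (Y.presheaf.stalk (f.base x)) + ringKrullDim ((f.fiber (f.base x)).presheaf.stalk (f.asFiber x))) :
    EGA43.IsEquidimAt f x := by
  open Groth.Agent.Lib.Helper73 in
  obtain ⟨n, hn⟩ := exists_ringKrullDim_fiber_stalk_eq_natCast f x
  obtain ⟨d, hd⟩ := exists_ringKrullDim_stalk_eq_natCast (f x)
  have hfd := fibreDimAt_eq f x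
  rw [hn] at hfd
  have hfd' : FlatMor.fibreDimAt f x = ((n + resTrdegNat f x : ℕ) : WithBot ℕ∞) := by
    rw [hfd]; push_cast; rfl
  refine isEquidimAt_of_forall_maximal f x (n + resTrdegNat f x) hfd'.le ?_
  intro ξ hξx hξmax
  have hcod := (isEquidim_stalk_iff x).mp hX ξ hξx hξmax
  rw [h, hn] at hcod
  change codim ξ x = ringKrullDim (Y.presheaf.stalk (f x)) + _ at hcod
  rw [hd] at hcod
  obtain ⟨a, b, ha, hb, hab⟩ := codim_add_resTrdeg_le f ξ x hξx
  rw [resTrdeg_eq_resTrdegNat, resTrdeg_eq_resTrdegNat] at hab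
  have hab' : a + resTrdegNat f x ≤ b + resTrdegNat f ξ := by exact_mod_cast hab
  rw [ha] at hcod
  have hadn : a = d + n := by exact_mod_cast hcod
  have hble : b ≤ d := by
    have := codim_le_ringKrullDim_stalk (f ξ) (f x)
    rw [hb, hd] at this
    exact_mod_cast this
  have hche : resTrdegNat f ξ ≤ n + resTrdegNat f x := by
    have hopen := isOpen_fibreDimAt_le (n + resTrdegNat f x) X Y f
    have hξ : ξ ∈ {x' : X | FlatMor.fibreDimAt f x' ≤ ((n + resTrdegNat f x : ℕ) : WithBot ℕ∞)} :=
      hξx.mem_open hopen hfd'.le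
    have h2 := (resTrdegNat_le_fibreDimAt f ξ).trans hξ
    exact_mod_cast h2
  have hbd : b = d := by omega
  refine ⟨?_, by omega⟩
  -- `f ξ` is maximal
  have hfξz : f ξ ⤳ f x := hξx.map f.continuous
  have hco := coheight_add_le_of_krullDim_Icc_eq (x := f x) (z := f ξ) hfξz b hb
  have hcoz : Order.coheight (f x) = d := by
    rw [ringKrullDim_stalk_eq_coheight] at hd
    exact_mod_cast hd
  rw [hcoz, hbd] at hco
  have hco0 : Order.coheight (f ξ) = 0 := by
    by_contra hne
    have h1 : 1 ≤ Order.coheight (f ξ) := Order.one_le_iff_ne_zero.mpr hne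
    have h2 : (1 : ℕ∞) + d ≤ d := le_trans (by gcongr) hco
    have h3 : ((1 + d : ℕ) : ℕ∞) ≤ (d : ℕ∞) := by push_cast; exact h2
    have h4 : 1 + d ≤ d := by exact_mod_cast h3
    omega
  have hismax : IsMax (f ξ) := Order.coheight_eq_zero.mp hco0
  intro t ht
  have h1 : f ξ ≤ t := ht
  have h2 : t ≤ f ξ := hismax h1
  exact (Specializes.antisymm ht (show f ξ ⤳ t from h2)).eq

end Groth.Agent.S3397
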