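import Groth.Statements.S3401
-- import your own Groth.Agent.* helpers here
import Groth.Agent.Lib.Helper36.ProConsScheme2
import Mathlib.AlgebraicGeometry.Noetherian

set_option autoImplicit false
open CategoryTheory AlgebraicGeometry
universe u
open EGA41

namespace Groth.Agent.S3401

/-- Let X be a scheme and E a subset of X. If E is ind-constructible then for every point x of E the set
E ∩ cl{x} is a neighbourhood of x in cl{x}; when X is locally Noetherian the converse holds. (As
published, the necessity clause quantifies over all points x of X; for x outside E the condition
cannot hold, and the argument uses x ∈ E, so it is stated here for x ∈ E.) Stated as an equivalence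
for X locally Noetherian. -/
theorem result (X : Scheme.{u}) [IsLocallyNoetherian X]
    (E : Set X) :
    ProCons.IsIndConstructible E ↔
      ∀ x ∈ E, (Subtype.val ⁻¹' E : Set ↥(closure ({x} : Set X))) ∈ nhds (⟨x, subset_closure rfl⟩ : ↥(closure ({x} : Set X))) := by
  open Groth.Agent.Lib.Helper36 in
  constructor
  · intro hE x hx
    exact preimage_mem_nhds_closure_of_isIndConstructible (scheme_exists_isGoodOpen X) hE hx
  · intro h
    apply isIndConstructible_of_forall_mem_nhds_closure _ h
    intro x
    obtain ⟨W, hW1, hW2, _⟩ :=
      exists_isAffineOpen_mem_and_subset (TopologicalSpace.Opens.mem_top x)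
    haveI : IsNoetherianRing Γ(X, W) := IsLocallyNoetherian.component_noetherian ⟨W, hW1⟩
    exact ⟨W, W.isOpen, hW2, noetherianSpace_of_isAffineOpen W hW1⟩

end Groth.Agent.S3401
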