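import Groth.Statements.S3402
-- import your own Groth.Agent.* helpers here
import Groth.Agent.Lib.Helper36.ProConsScheme

set_option autoImplicit false
open CategoryTheory AlgebraicGeometry
universe u
open EGA41

namespace Groth.Agent.S3402

/-- A subset E of a scheme X is locally constructible if and only if it is both ind-constructible and
pro-constructible. -/
theorem result (X : Scheme.{u}) (E : Set X) :
    Topology.IsLocallyConstructible E ↔ ProCons.IsIndConstructible E ∧ ProCons.IsProConstructible E := by
  exact Groth.Agent.Lib.Helper36.scheme_isLocallyConstructible_iff_ind_and_pro X E

end Groth.Agent.S3402
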