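import Groth.Statements.S3411
import Groth.Agent.Lib.Helper57.Wt10

set_option autoImplicit false
open CategoryTheory AlgebraicGeometry
universe u
open EGA43

namespace Groth.Agent.S3411

/-- Let Y be locally Noetherian and f : X ⟶ Y separated and quasi-finite; for z in Y let n(z) be the
geometric number of points of the fibre over z (equivalently, since the fibres are finite, the
geometric number of its connected components). If y is a point such that f is universally open at
every point of the fibre over y, then n is lower semicontinuous at y: n(y) ≤ n(z) for all z in a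
neighbourhood of y. -/
theorem result {X Y : Scheme.{u}} [IsLocallyNoetherian Y] (f : X ⟶ Y)
    [IsSeparated f] [LocallyQuasiFinite f] [LocallyOfFiniteType f] [QuasiCompact f] (y : Y)
    (h : ∀ x : X, f.base x = y → EGA43.IsUnivOpenAt f x) :
    ∃ V ∈ nhds y, ∀ z ∈ V, MoreMor.nGeomConnComp f y ≤ MoreMor.nGeomConnComp f z := by
  have hfin : ∀ y : Y, (f ⁻¹' {y}).Finite := fun y => Scheme.Hom.finite_preimage_singleton f y
  have hopen : ∀ (V : Scheme.{u}) (a : V ⟶ Y) [Etale a]
      (u : ↑(CategoryTheory.Limits.pullback f a)),
      f (CategoryTheory.Limits.pullback.fst f a u) = y → ∀ S ∈ nhds u,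
        CategoryTheory.Limits.pullback.snd f a '' S ∈
          nhds (CategoryTheory.Limits.pullback.snd f a u) := by
    intro V a _ u hu S hS
    exact h (CategoryTheory.Limits.pullback.fst f a u) hu V a u rfl S hS
  have hn : ∀ z : Y, MoreMor.nGeomConnComp f z =
      ((MoreMor.fibreIntegral f (fun _ => 1) z).toNat : ℕ∞) :=
    fun z => (Groth.Agent.Lib.Helper57.Wt.nGeomConnComp_eq f z hfin).1
  obtain ⟨O, hyO, hO⟩ := Groth.Agent.Lib.Helper57.Wt.exists_nhds_le_count f hfin y hopen
  refine ⟨O, O.2.mem_nhds hyO, fun z hz => ?_⟩
  rw [hn, hn]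
  have h1 := hO z hz
  exact_mod_cast Int.toNat_le_toNat h1

end Groth.Agent.S3411
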