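import Groth.Statements.S3412
import Groth.Agent.Lib.Helper57.Wt10

set_option autoImplicit false
open CategoryTheory AlgebraicGeometry
universe u
open EGA43

namespace Groth.Agent.S3412

/-- Let Y be locally Noetherian, f : X ⟶ Y separated and quasi-finite, n(z) the geometric number of
points of the fibre over z, and y a point such that f is universally open at every point of the
fibre over y. If n is constant on a neighbourhood of y, then f is proper at y: there is an open
neighbourhood U of y such that the restriction of f over U is proper. -/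
theorem result {X Y : Scheme.{u}} [IsLocallyNoetherian Y] (f : X ⟶ Y)
    [IsSeparated f] [LocallyQuasiFinite f] [LocallyOfFiniteType f] [QuasiCompact f] (y : Y)
    (h : ∀ x : X, f.base x = y → EGA43.IsUnivOpenAt f x)
    (hc : ∃ V ∈ nhds y, ∀ z ∈ V, MoreMor.nGeomConnComp f z = MoreMor.nGeomConnComp f y) :
    ∃ U : Y.Opens, y ∈ U ∧ IsProper (f ∣_ U) := by
  have hfin : ∀ y : Y, (f ⁻¹' {y}).Finite := fun y => Scheme.Hom.finite_preimage_singleton f y
  have hopen : ∀ (V : Scheme.{u}) (a : V ⟶ Y) [Etale a]
      (u : ↑(CategoryTheory.Limits.pullback f a)),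
      f (CategoryTheory.Limits.pullback.fst f a u) = y → ∀ S ∈ nhds u,
        CategoryTheory.Limits.pullback.snd f a '' S ∈
          nhds (CategoryTheory.Limits.pullback.snd f a u) := by
    intro V a _ u hu S hS
    exact h (CategoryTheory.Limits.pullback.fst f a u) hu V a u rfl S hS
  have hn : ∀ z : Y, MoreMor.nGeomConnComp f z =
      ((MoreMor.fibreIntegral f (fun _ => 1) z).toNat : ℕ∞) :=
    fun z => (Groth.Agent.Lib.Helper57.Wt.nGeomConnComp_eq f z hfin).1
  obtain ⟨V, hV, hVc⟩ := hc
  apply Groth.Agent.Lib.Helper57.Wt.exists_isProper_restrict f hfin y hopen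
  refine ⟨V, hV, fun z hz => ?_⟩
  have h1 := hVc z hz
  rw [hn, hn] at h1
  have h2 : (MoreMor.fibreIntegral f (fun _ => 1) z).toNat =
      (MoreMor.fibreIntegral f (fun _ => 1) y).toNat := Nat.cast_injective h1
  have h3 := Groth.Agent.Lib.Helper57.Wt.fibreIntegral_one_nonneg f z
  have h4 := Groth.Agent.Lib.Helper57.Wt.fibreIntegral_one_nonneg f y
  omega

end Groth.Agent.S3412
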