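import Groth.Statements.S3418
import Groth.Agent.Lib.Helper57.Wt10

set_option autoImplicit false
open CategoryTheory AlgebraicGeometry
universe u
open EGA43

namespace Groth.Agent.S3418

/-- Let f : X ⟶ Y be flat, locally of finite presentation, separated and quasi-finite, and let n(y) be
the geometric number of points of the fibre over y. Then n is lower semicontinuous on Y, and if n is
constant on a neighbourhood of a point y₀ then f is proper over some open neighbourhood of y₀. -/
theorem result {X Y : Scheme.{u}} (f : X ⟶ Y) [Flat f]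
    [LocallyOfFinitePresentation f] [IsSeparated f] [LocallyQuasiFinite f] [QuasiCompact f] :
    LowerSemicontinuous (fun z : Y => MoreMor.nGeomConnComp f z) ∧
      ∀ y₀ : Y, (∃ V ∈ nhds y₀, ∀ z ∈ V, MoreMor.nGeomConnComp f z = MoreMor.nGeomConnComp f y₀) →
        ∃ U : Y.Opens, y₀ ∈ U ∧ IsProper (f ∣_ U) := by
  have hfin : ∀ y : Y, (f ⁻¹' {y}).Finite := fun y => Scheme.Hom.finite_preimage_singleton f y
  have hopen : ∀ (y : Y) (V : Scheme.{u}) (a : V ⟶ Y) [Etale a]
      (u : ↑(CategoryTheory.Limits.pullback f a)),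
      f (CategoryTheory.Limits.pullback.fst f a u) = y → ∀ S ∈ nhds u,
        CategoryTheory.Limits.pullback.snd f a '' S ∈
          nhds (CategoryTheory.Limits.pullback.snd f a u) := by
    intro y V a _ u _ S hS
    exact (CategoryTheory.Limits.pullback.snd f a).isOpenMap.image_mem_nhds hS
  have hn : ∀ z : Y, MoreMor.nGeomConnComp f z =
      ((MoreMor.fibreIntegral f (fun _ => 1) z).toNat : ℕ∞) :=
    fun z => (Groth.Agent.Lib.Helper57.Wt.nGeomConnComp_eq f z hfin).1
  constructor
  · intro y c hc
    obtain ⟨O, hyO, hO⟩ := Groth.Agent.Lib.Helper57.Wt.exists_nhds_le_count f hfin y (hopen y)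
    refine Filter.mem_of_superset (O.2.mem_nhds hyO) ?_
    intro z hz
    show c < MoreMor.nGeomConnComp f z
    have hc' : c < MoreMor.nGeomConnComp f y := hc
    refine lt_of_lt_of_le hc' ?_
    rw [hn, hn]
    exact Nat.cast_le.mpr (Int.toNat_le_toNat (hO z hz))
  · rintro y₀ ⟨V, hV, hVc⟩
    apply Groth.Agent.Lib.Helper57.Wt.exists_isProper_restrict f hfin y₀ (hopen y₀)
    refine ⟨V, hV, fun z hz => ?_⟩
    have h1 := hVc z hz
    rw [hn, hn] at h1
    have h2 : (MoreMor.fibreIntegral f (fun _ => 1) z).toNat =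
        (MoreMor.fibreIntegral f (fun _ => 1) y₀).toNat := Nat.cast_injective h1
    have h3 := Groth.Agent.Lib.Helper57.Wt.fibreIntegral_one_nonneg f z
    have h4 := Groth.Agent.Lib.Helper57.Wt.fibreIntegral_one_nonneg f y₀
    omega

end Groth.Agent.S3418
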