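import Groth.Statements.S3420
import Mathlib
import Groth.Agent.Lib.Helper78.SecCompUO

set_option autoImplicit false
open CategoryTheory AlgebraicGeometry
universe u
open EGA43

namespace Groth.Agent.S3420

open Groth.Agent.Lib.Helper78.SecCompUO Groth.Agent.Lib.Helper78.SecCompNbhd in

/-- Let Y be locally Noetherian, f : X ⟶ Y locally of finite type, g a section of f, X⁰_y the connected
component of f⁻¹(y) containing g(y) and X⁰ the union of the X⁰_y. If y is a point such that the
fibre over y is geometrically reduced at every point of X⁰_y and f is universally open at every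
point of X⁰_y, then X⁰ is a neighbourhood of X⁰_y in X. In particular, if f is universally open and
every fibre is geometrically reduced at the points of X⁰, then X⁰ is open in X. -/
theorem result {X Y : Scheme.{u}} [IsLocallyNoetherian Y] (f : X ⟶ Y)
    [LocallyOfFiniteType f] (g : Y ⟶ X) (hg : g ≫ f = 𝟙 Y) :
    (∀ y : Y, (∀ x ∈ connectedComponentIn (f.base ⁻¹' {y}) (g.base y), EGA43.IsUnivOpenAt f x ∧
        FBase.IsGeomReducedAt (f.fiberToSpecResidueField (f.base x)) (f.asFiber x)) →
      connectedComponentIn (f.base ⁻¹' {y}) (g.base y) ⊆ interior (MoreMor.sectionComponents f g)) ∧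
    (UniversallyOpen f → (∀ x ∈ MoreMor.sectionComponents f g,
        FBase.IsGeomReducedAt (f.fiberToSpecResidueField (f.base x)) (f.asFiber x)) →
      IsOpen (MoreMor.sectionComponents f g)) := by
  have part1 : ∀ y : Y, (∀ x ∈ connectedComponentIn (f.base ⁻¹' {y}) (g.base y),
      EGA43.IsUnivOpenAt f x ∧
        FBase.IsGeomReducedAt (f.fiberToSpecResidueField (f.base x)) (f.asFiber x)) →
      connectedComponentIn (f.base ⁻¹' {y}) (g.base y) ⊆
        interior (MoreMor.sectionComponents f g) := by
    intro y h
    exact subset_interior_sectionComponents_uo f g hg y (fun w hw => (h w hw).1)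
      (fun w hw => redAt_of_isGeomReducedAt f w (h w hw).2)
  refine ⟨part1, ?_⟩
  intro hUO hred
  rw [isOpen_iff_forall_mem_open]
  intro x hx
  have hx' : x ∈ connectedComponentIn (f.base ⁻¹' {f.base x}) (g.base (f.base x)) := hx
  have h1 := part1 (f.base x) (fun w hw => by
    have hfw : f w = f x := connectedComponentIn_subset (f ⁻¹' {f x}) (g (f x)) hw
    refine ⟨?_, hred w ((mem_sectionComponents_iff f g w (f x) hfw).2 hw)⟩
    intro Y' z x' _
    exact fun _ hU => (Limits.pullback.snd f z).isOpenMap.image_mem_nhds hU) hx'
  exact ⟨interior (MoreMor.sectionComponents f g), interior_subset, isOpen_interior, h1⟩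

end Groth.Agent.S3420
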