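import Groth.Statements.S3421
import Groth.Agent.Lib.Helper73.DimFormula.CMFlat.FibCMCons

set_option autoImplicit false
open CategoryTheory AlgebraicGeometry
universe u
open EGA43

namespace Groth.Agent.S3421

/-- Let f : X ⟶ S be locally of finite presentation. The set of points x of X such that the local ring
at x of the fibre of f through x is Cohen–Macaulay is locally constructible in X. -/
theorem result {X S : Scheme.{u}} (f : X ⟶ S)
    [LocallyOfFinitePresentation f] :
    Topology.IsLocallyConstructible {x : X |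
      LocCoh.IsCohenMacaulayLocalRing ((f.fiber (f.base x)).presheaf.stalk (f.asFiber x))} := by
  open Groth.Agent.Lib.Helper73 AlgebraicGeometry CategoryTheory CategoryTheory.Limits Topology in
  intro x
  obtain ⟨V, hV, hfxV, -⟩ :=
    exists_isAffineOpen_mem_and_subset (X := S) (x := f x) (U := ⊤) trivial
  obtain ⟨U, hU, hxU, hUle⟩ :=
    exists_isAffineOpen_mem_and_subset (X := X) (x := x) (U := f ⁻¹ᵁ V) hfxV
  refine ⟨U, U.2.mem_nhds hxU, U.2, ?_⟩
  have hrange : Set.range (U.ι ≫ f) ⊆ Set.range V.ι := by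
    rintro _ ⟨u, rfl⟩
    rw [Scheme.Opens.range_ι]
    exact hUle u.2
  let fU : (U : Scheme.{u}) ⟶ V := IsOpenImmersion.lift V.ι (U.ι ≫ f) hrange
  have hfU : fU ≫ V.ι = U.ι ≫ f := IsOpenImmersion.lift_fac _ _ _
  haveI : IsAffine (U : Scheme.{u}) := hU
  haveI : IsAffine (V : Scheme.{u}) := hV
  haveI : LocallyOfFinitePresentation (fU ≫ V.ι) := by rw [hfU]; infer_instance
  haveI : LocallyOfFinitePresentation fU := Groth.Agent.Lib.Helper54.CPF.lfp_of_comp fU V.ι
  have hc := isConstructible_setOf_fibCM_of_isAffine fU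
  have hset : {u : ↥(U : Scheme.{u}) | FibCM fU u} =
      {u : ↥(U : Scheme.{u}) | FibCM f (U.ι u)} := by
    ext u
    show FibCM fU u ↔ FibCM f (U.ι u)
    rw [fibCM_comp_mono_iff fU V.ι, ← fibCM_openImmersion_comp_iff U.ι f u]
    have : ∀ (g₁ g₂ : (U : Scheme.{u}) ⟶ S), g₁ = g₂ → (FibCM g₁ u ↔ FibCM g₂ u) := by
      rintro g₁ g₂ rfl; exact Iff.rfl
    exact this _ _ hfU
  rw [hset] at hc
  exact hc

end Groth.Agent.S3421
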