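import Groth.Statements.S3430
import Mathlib
import Groth.Agent.Lib.Helper80.DimNN

set_option autoImplicit false
open CategoryTheory AlgebraicGeometry
universe u
open EGA42

namespace Groth.Agent.S3430

open Groth.Agent.Lib.Helper80.DimNN Groth.Agent.Lib.Helper73

theorem noeth (k : Type u) [Field k] {X : Scheme.{u}}
    (f : X ⟶ Spec (CommRingCat.of k)) [LocallyOfFiniteType f] [QuasiCompact f] :
    TopologicalSpace.NoetherianSpace X := by
  have h1 : IsLocallyNoetherian X := LocallyOfFiniteType.isLocallyNoetherian f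
  have h2 : CompactSpace X := QuasiCompact.compactSpace_of_compactSpace f
  have : IsNoetherian X := {}
  infer_instance

/-- the key existence: a dense affine open with a Noether normalization -/
theorem key (k : Type u) [Field k] {X : Scheme.{u}}
    (f : X ⟶ Spec (CommRingCat.of k)) [LocallyOfFiniteType f] [QuasiCompact f] [Nonempty X] :
    ∃ (s : ℕ), topologicalKrullDim (X : Type u) = (s : WithBot ℕ∞) ∧
      (∀ n : ℕ, n ≤ s → ∃ (U : X.Opens)
        (g : (U : Scheme.{u}) ⟶ 𝔸(ULift.{u} (Fin n); Spec (CommRingCat.of k))),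
        Dense (U : Set X) ∧ g ≫ (𝔸(ULift.{u} (Fin n); Spec (CommRingCat.of k)) ↘
          Spec (CommRingCat.of k)) = U.ι ≫ f ∧ Function.Surjective g.base ∧
          (n = s → IsFinite g)) ∧
      (∀ n : ℕ, s ≤ n → ∃ (U : X.Opens)
        (g : (U : Scheme.{u}) ⟶ 𝔸(ULift.{u} (Fin n); Spec (CommRingCat.of k))),
        Dense (U : Set X) ∧ g ≫ (𝔸(ULift.{u} (Fin n); Spec (CommRingCat.of k)) ↘
          Spec (CommRingCat.of k)) = U.ι ≫ f ∧ IsFinite g) := by
  have hN := noeth k f
  obtain ⟨W, hW, hWd⟩ := exists_dense_affineOpen X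
  let := chartAlgebra f hW
  have hft : Algebra.FiniteType k Γ(X, W) := chart_finiteType f hW
  have hne : Nontrivial Γ(X, W) := by
    have : (W : Set X).Nonempty := hWd.nonempty
    obtain ⟨x, hx⟩ := this
    have : Nonempty (W : Scheme.{u}) := ⟨⟨x, hx⟩⟩
    infer_instance
  obtain ⟨s, g₀, hinj, hfin⟩ := exists_finite_inj_algHom_of_fg k Γ(X, W)
  have hsurj : ∀ n : ℕ, ∀ h : n ≤ s, Function.Surjective
      (toAffineSpace hW n (g₀.toRingHom.comp (inclPoly (k := k) h).toRingHom)).base :=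
    fun n h => surjective_toAffineSpace hW n _ (comap_comp_inclPoly_surjective g₀ hinj hfin h)
  have hover : ∀ n : ℕ, ∀ ψ : MvPolynomial (ULift.{u} (Fin n)) k →ₐ[k] MvPolynomial (Fin s) k,
      toAffineSpace hW n (g₀.toRingHom.comp ψ.toRingHom) ≫
        (𝔸(ULift.{u} (Fin n); Spec (CommRingCat.of k)) ↘ Spec (CommRingCat.of k)) = W.ι ≫ f :=
    fun n ψ => toAffineSpace_over f hW n _ (comp_C_eq g₀ ψ)
  have hfin1 : ∀ n : ℕ, ∀ h : n = s,
      IsFinite (toAffineSpace hW n (g₀.toRingHom.comp (inclPoly (k := k) h.le).toRingHom)) := by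
    intro n h
    apply isFinite_toAffineSpace
    exact RingHom.Finite.comp hfin (RingHom.Finite.of_surjective _ (inclPoly_surjective h))
  have hfin2 : ∀ n : ℕ, s ≤ n →
      IsFinite (toAffineSpace hW n (g₀.toRingHom.comp (projPoly (k := k) (s := s) n).toRingHom)) := by
    intro n h
    apply isFinite_toAffineSpace
    exact RingHom.Finite.comp hfin (RingHom.Finite.of_surjective _ (projPoly_surjective h))
  refine ⟨s, ?_, ?_, ?_⟩
  · rw [← dim_opens_eq_of_dense f W hWd]
    have hfs := hfin1 s rfl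
    exact le_antisymm
      (@dim_le_of_isFinite _ _ _ f _ s W
        (toAffineSpace hW s (g₀.toRingHom.comp (inclPoly (k := k) (le_refl s)).toRingHom))
        (hover s (inclPoly (le_refl s))) hfs)
      (le_dim_of_surjective f s W
        (toAffineSpace hW s (g₀.toRingHom.comp (inclPoly (k := k) (le_refl s)).toRingHom))
        (hover s (inclPoly (le_refl s))) (hsurj s le_rfl))
  · intro n h
    exact ⟨W, _, hWd, hover n _, hsurj n h, fun hns => hfin1 n hns⟩
  · intro n h
    exact ⟨W, _, hWd, hover n _, hfin2 n h⟩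

/-- Let X be a scheme of finite type over a field k and n a natural number. Then: dim X ≥ n if and only
if there are a dense open subscheme U of X and a surjective k-morphism from U to affine n-space over
k; dim X ≤ n if and only if there are such U and g with g finite; dim X = n if and only if there are
such U and g with g finite and surjective. -/
theorem result (k : Type u) [Field k] {X : Scheme.{u}}
    (f : X ⟶ Spec (CommRingCat.of k)) [LocallyOfFiniteType f] [QuasiCompact f] (n : ℕ) :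
    ((n : WithBot ℕ∞) ≤ topologicalKrullDim (X : Type u) ↔
      ∃ (U : X.Opens) (g : (U : Scheme.{u}) ⟶ 𝔸(ULift.{u} (Fin n); Spec (CommRingCat.of k))),
        Dense (U : Set X) ∧ g ≫ (𝔸(ULift.{u} (Fin n); Spec (CommRingCat.of k)) ↘ Spec (CommRingCat.of k)) = U.ι ≫ f ∧ Function.Surjective g.base) ∧
    (topologicalKrullDim (X : Type u) ≤ n ↔
      ∃ (U : X.Opens) (g : (U : Scheme.{u}) ⟶ 𝔸(ULift.{u} (Fin n); Spec (CommRingCat.of k))),
        Dense (U : Set X) ∧ g ≫ (𝔸(ULift.{u} (Fin n); Spec (CommRingCat.of k)) ↘ Spec (CommRingCat.of k)) = U.ι ≫ f ∧ IsFinite g) ∧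
    (topologicalKrullDim (X : Type u) = n ↔
      ∃ (U : X.Opens) (g : (U : Scheme.{u}) ⟶ 𝔸(ULift.{u} (Fin n); Spec (CommRingCat.of k))),
        Dense (U : Set X) ∧ g ≫ (𝔸(ULift.{u} (Fin n); Spec (CommRingCat.of k)) ↘ Spec (CommRingCat.of k)) = U.ι ≫ f ∧ IsFinite g ∧ Function.Surjective g.base) := by
  have hN := noeth k f
  -- the three converse directions
  have hA : ∀ (U : X.Opens) (g : (U : Scheme.{u}) ⟶ 𝔸(ULift.{u} (Fin n); Spec (CommRingCat.of k))),
      Dense (U : Set X) → g ≫ (𝔸(ULift.{u} (Fin n); Spec (CommRingCat.of k)) ↘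
        Spec (CommRingCat.of k)) = U.ι ≫ f → Function.Surjective g.base →
      (n : WithBot ℕ∞) ≤ topologicalKrullDim (X : Type u) := by
    intro U g hd hg hs
    rw [← dim_opens_eq_of_dense f U hd]
    exact le_dim_of_surjective f n U g hg hs
  have hB : ∀ (U : X.Opens) (g : (U : Scheme.{u}) ⟶ 𝔸(ULift.{u} (Fin n); Spec (CommRingCat.of k))),
      Dense (U : Set X) → g ≫ (𝔸(ULift.{u} (Fin n); Spec (CommRingCat.of k)) ↘
        Spec (CommRingCat.of k)) = U.ι ≫ f → IsFinite g →
      topologicalKrullDim (X : Type u) ≤ n := by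
    intro U g hd hg hfin
    rw [← dim_opens_eq_of_dense f U hd]
    exact dim_le_of_isFinite f n U g hg
  by_cases hX : Nonempty X
  · obtain ⟨s, hdim, h1, h2⟩ := key k f
    rw [hdim]
    refine ⟨⟨fun h => ?_, ?_⟩, ⟨fun h => ?_, ?_⟩, ⟨fun h => ?_, ?_⟩⟩
    · have hns : n ≤ s := by exact_mod_cast h
      obtain ⟨U, g, hd, hg, hs, -⟩ := h1 n hns
      exact ⟨U, g, hd, hg, hs⟩
    · rintro ⟨U, g, hd, hg, hs⟩
      rw [← hdim]
      exact hA U g hd hg hs
    · have hsn : s ≤ n := by exact_mod_cast h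
      exact h2 n hsn
    · rintro ⟨U, g, hd, hg, hfin⟩
      rw [← hdim]
      exact hB U g hd hg hfin
    · have hsn : n = s := by
        have : (s : WithBot ℕ∞) = (n : WithBot ℕ∞) := h
        exact_mod_cast this.symm
      obtain ⟨U, g, hd, hg, hs, hfin⟩ := h1 n hsn.le
      exact ⟨U, g, hd, hg, hfin hsn, hs⟩
    · rintro ⟨U, g, hd, hg, hfin, hs⟩
      rw [← hdim]
      exact le_antisymm (hB U g hd hg hfin) (hA U g hd hg hs)
  · rw [not_nonempty_iff] at hX
    have hdim : topologicalKrullDim (X : Type u) = ⊥ := by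
      have : IsEmpty (TopologicalSpace.IrreducibleCloseds X) :=
        ⟨fun Z => hX.false Z.isIrreducible'.nonempty.some⟩
      exact Order.krullDim_eq_bot
    -- the trivial morphism from the empty open
    have hfinE : ∃ (U : X.Opens) (g : (U : Scheme.{u}) ⟶ 𝔸(ULift.{u} (Fin n); Spec (CommRingCat.of k))),
        Dense (U : Set X) ∧ g ≫ (𝔸(ULift.{u} (Fin n); Spec (CommRingCat.of k)) ↘ Spec (CommRingCat.of k)) = U.ι ≫ f ∧ IsFinite g := by
      refine ⟨⊤, AffineSpace.homOfVector ((⊤ : X.Opens).ι ≫ f) (fun _ => 0), ?_, ?_, ?_⟩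
      · simp
      · exact AffineSpace.homOfVector_over _ _
      · have : IsEmpty ((⊤ : X.Opens) : Scheme.{u}) := ⟨fun x => hX.false x.1⟩
        infer_instance
    refine ⟨⟨fun h => ?_, ?_⟩, ⟨fun _ => hfinE, ?_⟩, ⟨fun h => ?_, ?_⟩⟩
    · rw [hdim] at h
      simp at h
    · rintro ⟨U, g, hd, hg, hs⟩
      exact hA U g hd hg hs
    · rintro ⟨U, g, hd, hg, hfin⟩
      exact hB U g hd hg hfin
    · rw [hdim] at h
      simp at h
    · rintro ⟨U, g, hd, hg, hfin, hs⟩
      exact le_antisymm (hB U g hd hg hfin) (hA U g hd hg hs)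

end Groth.Agent.S3430
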