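import Groth.Statements.S3431
import Mathlib
import Groth.Agent.Lib.Helper63.JacobsonLC

set_option autoImplicit false
universe u
open EGA43

namespace Groth.Agent.S3431

/-- Let A be a Noetherian ring. Then A is a Jacobson ring if and only if there is no prime ideal p of A
such that A/p is semi-local (finitely many maximal ideals) of Krull dimension 1. -/
theorem result (A : Type u) [CommRing A] [IsNoetherianRing A] :
    IsJacobsonRing A ↔
      ∀ (p : Ideal A) [p.IsPrime], ¬ (Finite (MaximalSpectrum (A ⧸ p)) ∧ ringKrullDim (A ⧸ p) = 1) := by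
  constructor
  · intro hJ p hp ⟨hfin, hdim⟩
    have hJD : IsJacobsonRing (A ⧸ p) :=
      isJacobsonRing_of_surjective ⟨Ideal.Quotient.mk p, Ideal.Quotient.mk_surjective⟩
    have hjac : (⊥ : Ideal (A ⧸ p)).jacobson = ⊥ :=
      IsJacobsonRing.out' ⊥ (Ideal.IsPrime.isRadical Ideal.isPrime_bot)
    have : Fintype (MaximalSpectrum (A ⧸ p)) := Fintype.ofFinite _
    have hprod : ∏ m : MaximalSpectrum (A ⧸ p), m.asIdeal ≤ ⊥ := by
      rw [← hjac]
      refine le_trans Ideal.prod_le_inf ?_
      refine le_sInf ?_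
      rintro J ⟨-, hJmax⟩
      exact Finset.inf_le (Finset.mem_univ (⟨J, hJmax⟩ : MaximalSpectrum _))
    have hprod0 : ∏ m : MaximalSpectrum (A ⧸ p), m.asIdeal = 0 := le_bot_iff.mp hprod
    obtain ⟨m, -, hm⟩ := Finset.prod_eq_zero_iff.mp hprod0
    have hfield : IsField (A ⧸ p) := Ring.isField_iff_maximal_bot.mpr (by
      rw [← Ideal.zero_eq_bot, ← hm]
      exact m.isMaximal)
    rw [ringKrullDim_eq_zero_of_isField hfield] at hdim
    exact zero_ne_one hdim
  · intro H
    rw [PrimeSpectrum.isJacobsonRing_iff_jacobsonSpace]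
    refine Groth.Agent.Lib.Helper63.JacobsonLC.jacobsonSpace_of_forall_isClosed_singleton
      (fun x => ⟨Set.univ, isOpen_univ, trivial, inferInstance⟩) ?_
    intro x hx
    rw [PrimeSpectrum.isClosed_singleton_iff_isMaximal]
    by_contra hmax
    obtain ⟨g, hg, hall⟩ :=
      Groth.Agent.Lib.Helper63.JacobsonLC.exists_ne_zero_forall_mem_quotient x hx
    have := x.isPrime
    have hD : ¬ IsField (A ⧸ x.asIdeal) := by
      intro hf
      apply hmax
      exact Ideal.Quotient.maximal_of_isField _ hf
    exact H x.asIdeal (Groth.Agent.Lib.Helper63.JacobsonLC.semilocal_dim_one g hg hall hD)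

end Groth.Agent.S3431
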