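import Groth.Statements.S3433
import Mathlib
import Groth.Agent.S3432
import Groth.Agent.Lib.Helper63.JacobsonLC

set_option autoImplicit false
universe u
open EGA43

namespace Groth.Agent.S3433

open AlgebraicGeometry in
theorem jacobson_punctured (A : Type u) [CommRing A] [IsNoetherianRing A] [IsLocalRing A] :
    JacobsonSpace ↥({IsLocalRing.closedPoint A}ᶜ : Set (PrimeSpectrum A)) := by
  have h := Groth.Agent.S3432.result (Spec (CommRingCat.of A))
    ({IsLocalRing.closedPoint A} : Set (PrimeSpectrum A))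
    (IsLocalRing.isClosed_singleton_closedPoint (R := A)) (by
      intro Z hZ hne
      obtain ⟨z, hz⟩ := hne
      have hsp : (z : PrimeSpectrum A) ⤳ IsLocalRing.closedPoint A :=
        IsLocalRing.specializes_closedPoint z
      exact ⟨IsLocalRing.closedPoint A, hsp.mem_closed hZ hz, rfl⟩)
  exact h

/-- Let A be a Noetherian local ring with maximal ideal m and let Y be the punctured spectrum Spec A ∖
{m}. Then Y is a Jacobson space, and a point p of Y is closed in Y if and only if dim A/p = 1. -/
theorem result (A : Type u) [CommRing A] [IsNoetherianRing A] [IsLocalRing A] :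
    JacobsonSpace ↥({IsLocalRing.closedPoint A}ᶜ : Set (PrimeSpectrum A)) ∧
      ∀ p : ↥({IsLocalRing.closedPoint A}ᶜ : Set (PrimeSpectrum A)),
        IsClosed ({p} : Set ↥({IsLocalRing.closedPoint A}ᶜ : Set (PrimeSpectrum A))) ↔
          ringKrullDim (A ⧸ p.1.asIdeal) = 1 := by
  refine ⟨jacobson_punctured A, ?_⟩
  intro p
  have hpY : p.1 ≠ IsLocalRing.closedPoint A := p.2
  have := p.1.isPrime
  let π : A →+* A ⧸ p.1.asIdeal := Ideal.Quotient.mk p.1.asIdeal
  have hπ : Function.Surjective π := Ideal.Quotient.mk_surjective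
  have hD : ¬ IsField (A ⧸ p.1.asIdeal) := by
    intro hf
    have hmax : p.1.asIdeal.IsMaximal := Ideal.Quotient.maximal_of_isField _ hf
    apply hpY
    exact PrimeSpectrum.ext (IsLocalRing.eq_maximalIdeal hmax)
  have hdim0 : ¬ ringKrullDim (A ⧸ p.1.asIdeal) ≤ 0 := fun hle => by
    have h0 : Ring.KrullDimLE 0 (A ⧸ p.1.asIdeal) := Ring.krullDimLE_iff.mpr hle
    have hbot : (⊥ : Ideal (A ⧸ p.1.asIdeal)).IsMaximal := Ideal.isMaximal_of_isPrime ⊥
    exact hD (Ring.isField_iff_maximal_bot.mpr hbot)
  have hcomap_lt : ∀ Q : Ideal (A ⧸ p.1.asIdeal), Q ≠ ⊥ → p.1.asIdeal < Q.comap π := by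
    intro Q hQ0
    refine lt_of_le_of_ne ?_ ?_
    · intro a ha
      show π a ∈ Q
      rw [Ideal.Quotient.eq_zero_iff_mem.mpr ha]
      exact Q.zero_mem
    · intro heq
      apply hQ0
      rw [eq_bot_iff]
      intro d hd
      obtain ⟨a, rfl⟩ := hπ d
      have : a ∈ p.1.asIdeal := by
        rw [heq]
        exact hd
      rw [Ideal.Quotient.eq_zero_iff_mem.mpr this]
      exact Ideal.zero_mem _
  constructor
  · intro hcl
    have hmax : ∀ Q : Ideal (A ⧸ p.1.asIdeal), Q ≠ ⊥ → Q.IsPrime → Q.IsMaximal := by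
      intro Q hQ0 hQ
      have hlt := hcomap_lt Q hQ0
      have hqm : Q.comap π = IsLocalRing.maximalIdeal A := by
        by_contra hne
        let q : PrimeSpectrum A := ⟨Q.comap π, inferInstance⟩
        have hqY : q ∈ ({IsLocalRing.closedPoint A}ᶜ : Set (PrimeSpectrum A)) := by
          intro hq
          apply hne
          exact congrArg PrimeSpectrum.asIdeal hq
        have hsp : p.1 ⤳ q := (PrimeSpectrum.le_iff_specializes p.1 q).mp hlt.le
        have hsp' : p ⤳ (⟨q, hqY⟩ : ↥({IsLocalRing.closedPoint A}ᶜ : Set (PrimeSpectrum A))) :=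
          Topology.IsInducing.subtypeVal.specializes_iff.mp hsp
        have hmem := hsp'.mem_closed hcl rfl
        have hqp : q = p.1 := congrArg Subtype.val hmem
        exact hlt.ne (congrArg PrimeSpectrum.asIdeal hqp).symm
      have hmap : Q = (IsLocalRing.maximalIdeal A).map π := by
        rw [← hqm, Ideal.map_comap_of_surjective π hπ]
      rcases Ideal.map_eq_top_or_isMaximal_of_surjective π hπ
        (IsLocalRing.maximalIdeal.isMaximal A) with h1 | h1
      · exact absurd (hmap.trans h1) hQ.ne_top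
      · exact hmap ▸ h1
    have h1 : Ring.KrullDimLE 1 (A ⧸ p.1.asIdeal) := Ring.KrullDimLE.mk₁' hmax
    rw [Ring.krullDimLE_iff] at h1
    exact le_antisymm h1 (Order.succ_le_of_lt (lt_of_not_ge hdim0))
  · intro hdim
    have h1 : Ring.KrullDimLE 1 (A ⧸ p.1.asIdeal) := Ring.krullDimLE_iff.mpr hdim.le
    rw [← closure_subset_iff_isClosed]
    intro q hq
    by_contra hqp
    have hsp : p ⤳ q := specializes_iff_mem_closure.mpr hq
    have hsp' : p.1 ⤳ q.1 := hsp.map continuous_subtype_val
    have hle : p.1 ≤ q.1 := (PrimeSpectrum.le_iff_specializes p.1 q.1).mpr hsp'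
    have hlt : p.1 < q.1 := lt_of_le_of_ne hle (fun h => hqp (Subtype.ext h.symm))
    have hker : RingHom.ker π ≤ q.1.asIdeal := by
      rw [Ideal.mk_ker]
      exact hle
    have hprime : (q.1.asIdeal.map π).IsPrime := Ideal.map_isPrime_of_surjective hπ hker
    have hcomap : (q.1.asIdeal.map π).comap π = q.1.asIdeal := by
      rw [Ideal.comap_map_of_surjective π hπ]
      have : Ideal.comap π ⊥ ≤ q.1.asIdeal := hker
      exact sup_eq_left.mpr this
    have hne : q.1.asIdeal.map π ≠ ⊥ := by
      intro h0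
      have h3 : q.1.asIdeal ≤ p.1.asIdeal := by
        rw [← hcomap, h0]
        intro a ha
        exact Ideal.Quotient.eq_zero_iff_mem.mp ha
      exact (not_le_of_gt hlt) h3
    have hmax : (q.1.asIdeal.map π).IsMaximal := hprime.isMaximal_of_ne_bot hne
    have hmax' : q.1.asIdeal.IsMaximal := by
      rw [← hcomap]
      exact Ideal.comap_isMaximal_of_surjective π hπ
    exact q.2 (PrimeSpectrum.ext (IsLocalRing.eq_maximalIdeal hmax'))

end Groth.Agent.S3433
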