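import Groth.Statements.S3434
import Groth.Agent.Lib.Helper41.ValCenterPoint
import Groth.Agent.Lib.Helper41.ValComap

set_option autoImplicit false
open CategoryTheory AlgebraicGeometry
universe u
open EGA43

namespace Groth.Agent.S3434

/-- Let Y be an integral locally Noetherian scheme, X an integral scheme, f : X ⟶ Y separated, dominant
and of finite type, and y a point of Y; write K for the function field of X (the local ring at its
generic point ξ), into which O_{Y,y} maps through O_{Y,f ξ}. Then f is proper over some open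
neighbourhood of y if and only if every discrete valuation ring of K which dominates (the image of)
O_{Y,y} dominates (the image of) O_{X,x} for some point x of X; such an x lies over y. -/
theorem result {X Y : Scheme.{u}} [IsIntegral X] [IsIntegral Y] [IsLocallyNoetherian Y]
    (f : X ⟶ Y) [IsSeparated f] [IsDominant f] [LocallyOfFiniteType f] [QuasiCompact f] (y : Y)
    (hξ : f.base (genericPoint X) ⤳ y) :
    (∃ U : Y.Opens, y ∈ U ∧ IsProper (f ∣_ U)) ↔
      ∀ A : ValuationSubring X.functionField, IsDiscreteValuationRing A →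
        (∀ r : Y.presheaf.stalk y, A.valuation ((Y.presheaf.stalkSpecializes hξ ≫ f.stalkMap (genericPoint X)) r) ≤ 1) →
        (∀ r ∈ IsLocalRing.maximalIdeal (Y.presheaf.stalk y),
            A.valuation ((Y.presheaf.stalkSpecializes hξ ≫ f.stalkMap (genericPoint X)) r) < 1) →
        ∃ x : X, f.base x = y ∧
          (∀ r : X.presheaf.stalk x, A.valuation (X.presheaf.stalkSpecializes (genericPoint_specializes x) r) ≤ 1) ∧
          (∀ r ∈ IsLocalRing.maximalIdeal (X.presheaf.stalk x),
            A.valuation (X.presheaf.stalkSpecializes (genericPoint_specializes x) r) < 1) := by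
  let ξ : X := genericPoint X
  let e : X.functionField →+* X.residueField ξ := (X.residue ξ).hom
  have he : Function.Bijective e := ⟨e.injective, X.residue_surjective ξ⟩
  let θ' : Y.presheaf.stalk y ⟶ X.residueField ξ := Groth.Agent.Lib.Helper50.specResMap f ξ y hξ
  constructor
  · -- (⇒)
    rintro ⟨U, hyU, hprop⟩ A hA hle hlt
    have := hA
    let eE : X.functionField ≃+* X.residueField ξ := RingEquiv.ofBijective e he
    let A' : ValuationSubring (X.residueField ξ) :=
      A.comap (eE.symm : X.residueField ξ →+* X.functionField)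
    have hAA' : ∀ z : X.functionField, e z ∈ A' ↔ z ∈ A := by
      intro z
      change eE.symm (eE z) ∈ A ↔ _
      rw [eE.symm_apply_apply]
    have hcomap : A'.comap e = A := by ext z; exact hAA' z
    have hvalA : ∀ z, A'.valuation (e z) < 1 ↔ A.valuation z < 1 := by
      intro z
      rw [← Groth.Agent.Lib.Helper41.ValComap.valuation_comap_lt_one_iff e A' z, hcomap]
    have hmem : ∀ r, θ'.hom r ∈ A'.toSubring := fun r =>
      (hAA' _).mpr ((A.valuation_le_one_iff _).mp (hle r))
    let ρ' : Y.presheaf.stalk y →+* A' := θ'.hom.codRestrict A'.toSubring hmem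
    have hρ'loc : IsLocalHom ρ' := ⟨fun r hr => by
      by_contra hnu
      have h1 : A'.valuation (θ'.hom r) < 1 := (hvalA _).mpr (hlt r hnu)
      have h2 : A'.valuation ((ρ' r : A') : X.residueField ξ) = 1 :=
        (A'.valuation_eq_one_iff (ρ' r)).mp hr
      exact (ne_of_lt h1) h2⟩
    let yA : Spec (CommRingCat.of A') ⟶ Y := Spec.map (CommRingCat.ofHom ρ') ≫ Y.fromSpecStalk y
    have hyA : Spec.map (CommRingCat.ofHom A'.subtype) ≫ yA = X.fromSpecResidueField ξ ≫ f := by
      change _ ≫ Spec.map _ ≫ _ = _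
      rw [← Category.assoc, ← Spec.map_comp,
        ← Groth.Agent.Lib.Helper50.SpecMap_specResMap_fromSpecStalk f ξ y hξ]
      rfl
    have hyAcl : yA.base (IsLocalRing.closedPoint A') = y := by
      change (Spec.map (CommRingCat.ofHom ρ') ≫ Y.fromSpecStalk y).base _ = y
      rw [Scheme.Hom.comp_apply]
      have h1 : Spec.map (CommRingCat.ofHom ρ') (IsLocalRing.closedPoint A') =
          IsLocalRing.closedPoint (Y.presheaf.stalk y) := IsLocalRing.comap_closedPoint ρ'
      rw [h1, Scheme.fromSpecStalk_closedPoint]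
    -- lift through `U`
    have hrange₂ : Set.range yA.base ⊆ Set.range U.ι.base := by
      rintro _ ⟨p, rfl⟩
      rw [Scheme.Opens.range_ι]
      have h1 : yA.base p ⤳ y := hyAcl ▸ (IsLocalRing.specializes_closedPoint p).map yA.continuous
      exact h1.mem_open U.2 hyU
    let i₂ : Spec (CommRingCat.of A') ⟶ (U : Scheme.{u}) := IsOpenImmersion.lift U.ι yA hrange₂
    have hi₂ : i₂ ≫ U.ι = yA := IsOpenImmersion.lift_fac _ _ _
    have hξU : ξ ∈ f ⁻¹ᵁ U := hξ.mem_open U.2 hyU
    have hrange₁ : Set.range (X.fromSpecResidueField ξ).base ⊆ Set.range (f ⁻¹ᵁ U).ι.base := by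
      rintro _ ⟨p, rfl⟩
      rw [Scheme.Opens.range_ι, Scheme.fromSpecResidueField_apply]
      exact hξU
    let i₁ : Spec (X.residueField ξ) ⟶ ((f ⁻¹ᵁ U : X.Opens) : Scheme.{u}) :=
      IsOpenImmersion.lift (f ⁻¹ᵁ U).ι (X.fromSpecResidueField ξ) hrange₁
    have hi₁ : i₁ ≫ (f ⁻¹ᵁ U).ι = X.fromSpecResidueField ξ := IsOpenImmersion.lift_fac _ _ _
    have hc : CommSq i₁ (Spec.map (CommRingCat.ofHom (algebraMap A' (X.residueField ξ))))
        (f ∣_ U) i₂ := by
      refine ⟨?_⟩
      apply (cancel_mono U.ι).1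
      rw [Category.assoc, morphismRestrict_ι, ← Category.assoc, hi₁, Category.assoc, hi₂]
      exact hyA.symm
    have hE : (ValuativeCriterion.Existence ⊓ @QuasiCompact) (f ∣_ U) := by
      rw [← UniversallyClosed.eq_valuativeCriterion]; infer_instance
    let Sq : ValuativeCommSq (f ∣_ U) := { R := A', K := X.residueField ξ, commSq := hc, .. }
    obtain ⟨⟨l₀⟩⟩ := hE.1 Sq
    let l : Spec (CommRingCat.of A') ⟶ X := l₀.l ≫ (f ⁻¹ᵁ U).ι
    have hl : Spec.map (CommRingCat.ofHom A'.subtype) ≫ l = X.fromSpecResidueField ξ := by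
      change _ ≫ l₀.l ≫ _ = _
      rw [← Category.assoc]
      have := l₀.fac_left
      change Spec.map (CommRingCat.ofHom A'.subtype) ≫ l₀.l = i₁ at this
      rw [this, hi₁]
    have hlf : l ≫ f = yA := by
      change (l₀.l ≫ (f ⁻¹ᵁ U).ι) ≫ f = yA
      rw [Category.assoc, ← morphismRestrict_ι, ← Category.assoc]
      have := l₀.fac_right
      change l₀.l ≫ f ∣_ U = i₂ at this
      rw [this, hi₂]
    obtain ⟨hx, hxmem, hxlt⟩ := Groth.Agent.Lib.Helper41.ValCenter.stalk_of_lift l hl
    refine ⟨l.base (IsLocalRing.closedPoint A'), ?_, fun r => ?_, fun r hr => ?_⟩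
    · change (l ≫ f).base _ = y
      rw [hlf, hyAcl]
    · rw [A.valuation_le_one_iff, ← hAA']
      exact hxmem r
    · rw [← hvalA]
      exact hxlt r hr
  · -- (⇐)
    intro Hd
    obtain ⟨Y₀, hY₀, hyY₀, -⟩ := exists_isAffineOpen_mem_and_subset
      (show y ∈ (⊤ : Y.Opens) from trivial)
    have hξY₀ : ξ ∈ f ⁻¹ᵁ Y₀ := hξ.mem_open Y₀.2 hyY₀
    let ρ : Γ(Y, Y₀) ⟶ X.residueField ξ :=
      Groth.Agent.Lib.Helper41.ValCenter.baseEval f Y₀ ξ hξY₀
    have hρθ : ρ = Y.presheaf.germ Y₀ y hyY₀ ≫ θ' :=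
      Groth.Agent.Lib.Helper41.ValCenter.baseEval_eq_germ_specResMap f Y₀ ξ hξY₀ y hyY₀ hξ
    let 𝔭 : Ideal Γ(Y, Y₀) :=
      Ideal.comap (Y.presheaf.germ Y₀ y hyY₀).hom (IsLocalRing.maximalIdeal (Y.presheaf.stalk y))
    haveI : 𝔭.IsPrime := Ideal.comap_isPrime _ _
    have hθ'loc : ∀ r : Y.presheaf.stalk y, IsUnit r → θ'.hom r ≠ 0 := fun r hr =>
      (hr.map θ'.hom).ne_zero
    have hρ0 : ∀ s, s ∉ 𝔭 → ρ.hom s ≠ 0 := by
      intro s hs
      have h1 : IsUnit ((Y.presheaf.germ Y₀ y hyY₀).hom s) := by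
        by_contra hnu
        exact hs hnu
      rw [hρθ]
      exact hθ'loc _ h1
    -- Steps 1 and 2
    have H12 : ∀ V : ValuationSubring (X.residueField ξ), (∀ c, ρ.hom c ∈ V) →
        (∀ c, V.valuation (ρ.hom c) < 1 ↔ c ∈ 𝔭) →
        Groth.Agent.Lib.Helper41.ValCenter.HasCenterIn (f ⁻¹ᵁ Y₀) ξ V := by
      intro V hV hVc
      refine Groth.Agent.Lib.Helper41.ValCenter.hasCenterIn_of_forall_dvr f hY₀ ξ hξY₀ V hV
        (fun A' hA' hA'mem hA'c => ?_)
      have := hA'
      let A : ValuationSubring X.functionField := A'.comap e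
      have hA : IsDiscreteValuationRing A :=
        Groth.Agent.Lib.Helper41.ValComap.isDiscreteValuationRing_comap e he A'
      have hA'𝔭 : ∀ c, A'.valuation (ρ.hom c) < 1 ↔ c ∈ 𝔭 := fun c => (hA'c c).trans (hVc c)
      -- domination of the local ring at `y`
      letI : Algebra Γ(Y, Y₀) (Y.presheaf.stalk y) :=
        TopCat.Presheaf.algebra_section_stalk Y.presheaf (⟨y, hyY₀⟩ : Y₀)
      haveI : IsLocalization.AtPrime (Y.presheaf.stalk y)
          (hY₀.primeIdealOf ⟨y, hyY₀⟩).asIdeal := hY₀.isLocalization_stalk ⟨y, hyY₀⟩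
      have hdom : ∀ r : Y.presheaf.stalk y, θ'.hom r ∈ A' ∧
          (r ∈ IsLocalRing.maximalIdeal (Y.presheaf.stalk y) → A'.valuation (θ'.hom r) < 1) := by
        intro r
        obtain ⟨⟨a, b⟩, hab⟩ := IsLocalization.surj
          (hY₀.primeIdealOf ⟨y, hyY₀⟩).asIdeal.primeCompl r
        have hunit : IsUnit (Y.presheaf.germ Y₀ y hyY₀ b.1) :=
          IsLocalization.map_units (M := (hY₀.primeIdealOf ⟨y, hyY₀⟩).asIdeal.primeCompl)
            (Y.presheaf.stalk y) b
        have hab' : r * (Y.presheaf.germ Y₀ y hyY₀).hom b.1 =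
            (Y.presheaf.germ Y₀ y hyY₀).hom a := hab
        have hb𝔭 : b.1 ∉ 𝔭 := fun hb => hb hunit
        have h1 : θ'.hom r * ρ.hom b.1 = ρ.hom a := by
          rw [hρθ]
          change θ'.hom r * θ'.hom ((Y.presheaf.germ Y₀ y hyY₀).hom b.1) =
            θ'.hom ((Y.presheaf.germ Y₀ y hyY₀).hom a)
          rw [← map_mul, hab']
        have hvb : A'.valuation (ρ.hom b.1) = 1 := by
          have h2 : ¬ A'.valuation (ρ.hom b.1) < 1 := fun h => hb𝔭 ((hA'𝔭 _).mp h)
          exact le_antisymm ((A'.valuation_le_one_iff _).mpr (hA'mem _)) (not_lt.mp h2)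
        have hval : A'.valuation (θ'.hom r) = A'.valuation (ρ.hom a) := by
          rw [← h1, map_mul, hvb, mul_one]
        refine ⟨?_, fun hr => ?_⟩
        · rw [← A'.valuation_le_one_iff, hval, A'.valuation_le_one_iff]
          exact hA'mem a
        · rw [hval, hA'𝔭]
          change (Y.presheaf.germ Y₀ y hyY₀).hom a ∈ IsLocalRing.maximalIdeal _
          rw [← hab']
          exact Ideal.mul_mem_right _ _ hr
      obtain ⟨x, hfx, hxle, hxlt⟩ := Hd A hA
        (fun r => (A.valuation_le_one_iff _).mpr (hdom r).1)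
        (fun r hr => (Groth.Agent.Lib.Helper41.ValComap.valuation_comap_lt_one_iff e A' _).mpr
          ((hdom r).2 hr))
      have hxX₀ : x ∈ f ⁻¹ᵁ Y₀ := by
        change f.base x ∈ Y₀
        rw [hfx]; exact hyY₀
      refine Groth.Agent.Lib.Helper41.ValCenter.hasCenterIn_of_stalk
        (genericPoint_specializes x) hxX₀ (fun a => ?_) (fun a ha => ?_)
      · exact (A.valuation_le_one_iff _).mp (hxle a)
      · exact (Groth.Agent.Lib.Helper41.ValComap.valuation_comap_lt_one_iff e A' _).mp (hxlt a ha)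
    -- Step 3
    have H3 := Groth.Agent.Lib.Helper41.ValCenter.hasCenterIn_of_localization f ξ hξY₀ 𝔭 hρ0 H12
    -- Steps 4 and 5
    obtain ⟨t, ht, Ht⟩ := Groth.Agent.Lib.Helper41.ValCenter.exists_basicOpen_hasCenterIn f hY₀ ξ
      hξY₀ 𝔭 hρ0 H3
    have hyU : y ∈ Y.basicOpen t := by
      rw [Scheme.mem_basicOpen _ t y hyY₀]
      by_contra hnu
      exact ht hnu
    refine ⟨Y.basicOpen t, hyU, ?_⟩
    refine Groth.Agent.Lib.Helper41.ValCenter.isProper_morphismRestrict_of_hasCenterIn f
      (hY₀.basicOpen t) (fun x₁ hx₁ => ⟨ξ, genericPoint_specializes x₁, fun V hV => ?_⟩)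
    exact Ht _ V hV

end Groth.Agent.S3434
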