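import Groth.Statements.S3435
import Mathlib

set_option autoImplicit false
universe u
open EGA41

namespace Groth.Agent.S3435


open TensorProduct in
theorem tensor_kaehler_induction {R B C : Type u} [CommRing R] [CommRing B] [CommRing C]
    [Algebra R B] [Algebra B C]
    {P : C ⊗[B] Ω[B⁄R] → Prop} (h0 : P 0) (hadd : ∀ x y, P x → P y → P (x + y))
    (hD : ∀ (c : C) (b : B), P (c ⊗ₜ[B] KaehlerDifferential.D R B b)) : ∀ x, P x := by
  intro x
  induction x using TensorProduct.induction_on with
  | zero => exact h0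
  | add x y hx hy => exact hadd x y hx hy
  | tmul c w =>
    have hw : w ∈ Submodule.span B (Set.range (KaehlerDifferential.D R B)) := by
      rw [KaehlerDifferential.span_range_derivation]; trivial
    revert c
    induction hw using Submodule.span_induction with
    | mem w hw =>
      obtain ⟨b, rfl⟩ := hw
      exact fun c => hD c b
    | zero => intro c; rw [TensorProduct.tmul_zero]; exact h0
    | add w w' _ _ hw hw' =>
      intro c
      rw [TensorProduct.tmul_add]
      exact hadd _ _ (hw c) (hw' c)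
    | smul b w _ hw =>
      intro c
      rw [TensorProduct.tmul_smul, TensorProduct.smul_tmul']
      exact hw (b • c)

section chase

variable (Λ A B C : Type u) [CommRing Λ] [CommRing A] [CommRing B] [CommRing C]
    [Algebra Λ A] [Algebra Λ B] [Algebra Λ C] [Algebra A B] [Algebra A C] [Algebra B C]
    [IsScalarTower Λ A B] [IsScalarTower Λ A C] [IsScalarTower Λ B C] [IsScalarTower A B C]

open TensorProduct in
theorem square_comm (η : C ⊗[B] Ω[B⁄Λ]) :
    KaehlerDifferential.map Λ A C C (KaehlerDifferential.mapBaseChange Λ B C η) =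
      KaehlerDifferential.mapBaseChange A B C
        ((KaehlerDifferential.map Λ A B B).baseChange C η) := by
  induction η using tensor_kaehler_induction with
  | h0 => simp
  | hadd x y hx hy => simp only [map_add, hx, hy]
  | hD c b => simp

open TensorProduct in
theorem lift_exists (ζ : C ⊗[A] Ω[A⁄Λ]) :
    ∃ η₁ : C ⊗[B] Ω[B⁄Λ], (KaehlerDifferential.map Λ A B B).baseChange C η₁ = 0 ∧
      KaehlerDifferential.mapBaseChange Λ B C η₁ = KaehlerDifferential.mapBaseChange Λ A C ζ := by
  induction ζ using tensor_kaehler_induction with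
  | h0 => exact ⟨0, by simp, by simp⟩
  | hadd x y hx hy =>
    obtain ⟨a, ha1, ha2⟩ := hx
    obtain ⟨b, hb1, hb2⟩ := hy
    exact ⟨a + b, by simp [ha1, hb1], by simp [ha2, hb2]⟩
  | hD c a =>
    refine ⟨c ⊗ₜ[B] KaehlerDifferential.D Λ B (algebraMap A B a), ?_, ?_⟩
    · simp
    · simp [← IsScalarTower.algebraMap_apply]

end chase

open TensorProduct in
/-- Let Λ → A → B → C be ring homomorphisms. The homomorphism Ω_{B/Λ} ⊗_B C → Ω_{B/A} ⊗_B C maps the
imperfection module Υ_{C/B/Λ} (the kernel of Ω_{B/Λ} ⊗_B C → Ω_{C/Λ}) onto the imperfection module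
Υ_{C/B/A} (the kernel of Ω_{B/A} ⊗_B C → Ω_{C/A}): every element of Υ_{C/B/A} is the image of some
element of Υ_{C/B/Λ}. -/
theorem result (Λ A B C : Type u) [CommRing Λ] [CommRing A] [CommRing B] [CommRing C]
    [Algebra Λ A] [Algebra Λ B] [Algebra Λ C] [Algebra A B] [Algebra A C] [Algebra B C]
    [IsScalarTower Λ A B] [IsScalarTower Λ A C] [IsScalarTower Λ B C] [IsScalarTower A B C] :
    ∀ ω ∈ EGA41.imperfection A B C, ∃ η ∈ EGA41.imperfection Λ B C,
      (KaehlerDifferential.map Λ A B B).baseChange C η = ω := by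
  intro ω hω
  have hω' : KaehlerDifferential.mapBaseChange A B C ω = 0 := hω
  obtain ⟨η₀, hη₀⟩ := LinearMap.lTensor_surjective C
    (KaehlerDifferential.map_surjective Λ A B) ω
  have hη₀' : (KaehlerDifferential.map Λ A B B).baseChange C η₀ = ω := hη₀
  have hx : KaehlerDifferential.map Λ A C C (KaehlerDifferential.mapBaseChange Λ B C η₀) = 0 := by
    rw [square_comm, hη₀', hω']
  obtain ⟨ζ, hζ⟩ := (KaehlerDifferential.exact_mapBaseChange_map Λ A C _).mp hx
  obtain ⟨η₁, h1, h2⟩ := lift_exists Λ A B C ζ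
  refine ⟨η₀ - η₁, ?_, ?_⟩
  · change KaehlerDifferential.mapBaseChange Λ B C (η₀ - η₁) = 0
    rw [map_sub, h2, hζ, sub_self]
  · rw [map_sub, h1, sub_zero, hη₀']

end Groth.Agent.S3435
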