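import Groth.Statements.S3437
import Groth.Agent.S3421
import Groth.Agent.Lib.Helper73.DimFormula.CMFlat.FibCMCons
import Groth.Agent.Lib.Helper78.FibreCons

set_option autoImplicit false
open CategoryTheory AlgebraicGeometry
universe u
open EGA43

namespace Groth.Agent.S3437

/-- Let f : X ⟶ S be of finite presentation (locally of finite presentation, quasi-compact and
quasi-separated). Then the set of points s of S such that every local ring of the fibre X_s is
Cohen–Macaulay is locally constructible in S. -/
theorem result {X S : Scheme.{u}} (f : X ⟶ S)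
    [LocallyOfFinitePresentation f] [QuasiCompact f] [QuasiSeparated f] :
    Topology.IsLocallyConstructible {s : S |
      ∀ z : ↥(f.fiber s), LocCoh.IsCohenMacaulayLocalRing ((f.fiber s).presheaf.stalk z)} := by
  open Groth.Agent.Lib.Helper73 in
  have h1 : Topology.IsLocallyConstructible {x : X | FibCM f x} := Groth.Agent.S3421.result f
  have h2 := f.isLocallyConstructible_image
    (Groth.Agent.Lib.Helper78.FibreCons.isLocallyConstructible_compl h1)
  convert Groth.Agent.Lib.Helper78.FibreCons.isLocallyConstructible_compl h2 using 1
  ext s
  simp only [Set.mem_ofPred_eq, Set.mem_compl_iff, Set.mem_image, not_exists, not_and]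
  constructor
  · intro h x hx hxs
    apply hx
    have hz : f.fiberι s ((f.fiberHomeo s).symm ⟨x, hxs⟩) = x :=
      f.fiberι_fiberHomeo_symm s ⟨x, hxs⟩
    exact (fibCM_iff_of_fiber f x s _ hz).mpr (h _)
  · intro h z
    have hfz : f (f.fiberι s z) = s := by
      have : f.fiberι s z ∈ Set.range (f.fiberι s) := ⟨_, rfl⟩
      rw [f.range_fiberι s] at this
      exact this
    by_contra hcon
    exact h (f.fiberι s z) (fun hE => hcon ((fibCM_iff_of_fiber f _ s z rfl).mp hE)) hfz

end Groth.Agent.S3437
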