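import Groth.Statements.S3438
import Groth.Agent.Lib.Helper73.DimFormula.EquidimAt

set_option autoImplicit false
open CategoryTheory AlgebraicGeometry
universe u
open EGA43

namespace Groth.Agent.S3438

/-- Let Y be locally Noetherian, f : X ⟶ Y locally of finite type, x a point of X with y = f x, and
suppose O_{Y,y} is equidimensional and universally catenary. If f is equidimensional at x, then dim
O_{X,x} = dim O_{Y,y} + dim O_{X_y,x}. (That O_{X,x} is then also equidimensional is a separate
result, not asserted here.) -/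
theorem result {X Y : Scheme.{u}} [IsLocallyNoetherian Y] (f : X ⟶ Y)
    [LocallyOfFiniteType f] (x : X) (hY : EGA4.IsEquidim (Y.presheaf.stalk (f.base x)))
    (hcat : CAlg.IsUniversallyCatenary (Y.presheaf.stalk (f.base x))) (h : EGA43.IsEquidimAt f x) :
    ringKrullDim (X.presheaf.stalk x) =
        ringKrullDim (Y.presheaf.stalk (f.base x)) + ringKrullDim ((f.fiber (f.base x)).presheaf.stalk (f.asFiber x)) := by
  open Groth.Agent.Lib.Helper73 in
  have hLN : IsLocallyNoetherian X := LocallyOfFiniteType.isLocallyNoetherian f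
  obtain ⟨ξ, hξx, hξmax, hξc⟩ := exists_maximal_codim_eq_stalk x
  obtain ⟨a, b, e, ha, hb, hfd, hηmax, hab⟩ :=
    codim_add_resTrdegNat_eq_of_isEquidimAt f x h hcat ξ hξx hξmax
  obtain ⟨n, hn⟩ := exists_ringKrullDim_fiber_stalk_eq_natCast f x
  have h1 := fibreDimAt_eq f x
  rw [hfd, hn] at h1
  have h1' : e = n + resTrdegNat f x := by exact_mod_cast h1
  have h2 := (isEquidim_stalk_iff (f x)).mp hY (f ξ) (hξx.map f.continuous) hηmax
  rw [← hξc, ha, hn]
  change _ = ringKrullDim (Y.presheaf.stalk (f x)) + _
  rw [← h2, hb]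
  have : a = b + n := by omega
  rw [this]
  push_cast
  rfl

end Groth.Agent.S3438
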