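import Groth.Statements.S3441
-- import your own Groth.Agent.* helpers here
import Mathlib.Algebra.TrivSqZeroExt.Basic
import Mathlib.RingTheory.Kaehler.Basic
import Mathlib.RingTheory.Derivation.ToSquareZero
import Mathlib.Tactic

set_option autoImplicit false
universe u
open EGA41

namespace Groth.Agent.S3441

open TensorProduct

section Backward

variable (A B C : Type u) [CommRing A] [CommRing B]
    [CommRing C] [Algebra A B] [Algebra B C] [Algebra A C] [IsScalarTower A B C]

/-- The twisted structure map `b ↦ (b, 1 ⊗ db)`. -/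
noncomputable def twHom₀ : B →+* TrivSqZeroExt C (C ⊗[B] Ω[B⁄A]) where
  toFun b := TrivSqZeroExt.inl (algebraMap B C b) + TrivSqZeroExt.inr (1 ⊗ₜ KaehlerDifferential.D A B b)
  map_one' := by simp
  map_mul' := by
    intro x y
    apply TrivSqZeroExt.ext
    · simp
    · simp [TensorProduct.smul_tmul', TensorProduct.tmul_add, TensorProduct.tmul_smul,
        Algebra.algebraMap_eq_smul_one]
  map_zero' := by simp
  map_add' := by
    intro x y
    apply TrivSqZeroExt.ext
    · simp
    · simp [TensorProduct.tmul_add]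

/-- The twisted trivial square-zero extension. -/
def Tw : Type u := TrivSqZeroExt C (C ⊗[B] Ω[B⁄A])

noncomputable instance : CommRing (Tw A B C) :=
  inferInstanceAs (CommRing (TrivSqZeroExt C (C ⊗[B] Ω[B⁄A])))

noncomputable instance instAlgA : Algebra A (Tw A B C) :=
  inferInstanceAs (Algebra A (TrivSqZeroExt C (C ⊗[B] Ω[B⁄A])))

noncomputable instance instAlgB : Algebra B (Tw A B C) := (twHom₀ A B C).toAlgebra

theorem algebraMap_B_Tw (b : B) : algebraMap B (Tw A B C) b = twHom₀ A B C b := rfl

instance : IsScalarTower A B (Tw A B C) := by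
  apply IsScalarTower.of_algebraMap_eq
  intro a
  rw [algebraMap_B_Tw]
  show (algebraMap A (TrivSqZeroExt C (C ⊗[B] Ω[B⁄A])) a) = _
  rw [TrivSqZeroExt.algebraMap_eq_inl']
  apply TrivSqZeroExt.ext
  · simp [twHom₀, ← IsScalarTower.algebraMap_apply]
  · simp [twHom₀]

omit [Algebra A C] [IsScalarTower A B C] in
theorem tsze_mul_eq_zero (x y : TrivSqZeroExt C (C ⊗[B] Ω[B⁄A])) (hx : x.fst = 0)
    (hy : y.fst = 0) : x * y = 0 := by
  apply TrivSqZeroExt.ext
  · rw [TrivSqZeroExt.fst_mul, hx, zero_mul, TrivSqZeroExt.fst_zero]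
  · rw [TrivSqZeroExt.snd_mul, hx, hy, zero_smul, TrivSqZeroExt.snd_zero]
    simp

/-- The square-zero ideal. -/
noncomputable def twJ : Ideal (Tw A B C) :=
  RingHom.ker (TrivSqZeroExt.fstHom C C (C ⊗[B] Ω[B⁄A])).toRingHom

theorem twJ_sq : twJ A B C ^ 2 = ⊥ := by
  rw [pow_two, eq_bot_iff]
  rw [Ideal.mul_le]
  intro x hx y hy
  have hx' : TrivSqZeroExt.fst (R := C) (M := C ⊗[B] Ω[B⁄A]) x = 0 := hx
  have hy' : TrivSqZeroExt.fst (R := C) (M := C ⊗[B] Ω[B⁄A]) y = 0 := hy
  rw [Ideal.mem_bot]
  exact tsze_mul_eq_zero A B C x y hx' hy'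

theorem exists_leftInverse_of_rel (h : IsFormallySmoothRel A B C) :
    ∃ l : Ω[C⁄A] →ₗ[C] C ⊗[B] Ω[B⁄A],
      l ∘ₗ KaehlerDifferential.mapBaseChange A B C = LinearMap.id := by
  let M := C ⊗[B] Ω[B⁄A]
  let u : C →ₐ[A] Tw A B C := TrivSqZeroExt.inlAlgHom A C M
  have hJmem : ∀ x : Tw A B C, x ∈ twJ A B C ↔ TrivSqZeroExt.fst (R := C) (M := M) x = 0 :=
    fun x => Iff.rfl
  let u₀ : C →ₐ[B] (Tw A B C ⧸ twJ A B C) :=
    { toRingHom := (Ideal.Quotient.mk (twJ A B C)).comp u.toRingHom
      commutes' := fun b => by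
        show Ideal.Quotient.mk (twJ A B C) (u (algebraMap B C b)) =
          Ideal.Quotient.mk (twJ A B C) (algebraMap B (Tw A B C) b)
        rw [Ideal.Quotient.eq, hJmem, algebraMap_B_Tw]
        show TrivSqZeroExt.fst ((TrivSqZeroExt.inl (algebraMap B C b) : TrivSqZeroExt C M) -
          twHom₀ A B C b) = 0
        simp [twHom₀] }
  obtain ⟨v, hv⟩ := h (Tw A B C) (twJ A B C) (twJ_sq A B C) u₀ ⟨u, by ext c; rfl⟩
  have hfst : ∀ c : C, TrivSqZeroExt.fst (R := C) (M := M) (v c) = c := by
    intro c
    have h1 : Ideal.Quotient.mk (twJ A B C) (v c) = Ideal.Quotient.mk (twJ A B C) (u c) :=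
      congr($hv c)
    rw [Ideal.Quotient.eq, hJmem] at h1
    have h2 : TrivSqZeroExt.fst (R := C) (M := M) (v c) -
        TrivSqZeroExt.fst (R := C) (M := M) (u c) = 0 := h1
    rw [sub_eq_zero] at h2
    rw [h2]
    rfl
  have hvB : ∀ b : B, v (algebraMap B C b) = twHom₀ A B C b := fun b => v.commutes b
  let δ : Derivation A C M :=
    { toFun := fun c => TrivSqZeroExt.snd (R := C) (M := M) (v c)
      map_add' := fun x y => by
        rw [map_add]
        rfl
      map_smul' := fun a x => by
        have : v (a • x) = a • v x := map_smul (v.restrictScalars A) a x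
        rw [this]
        rfl
      map_one_eq_zero' := by
        show TrivSqZeroExt.snd (R := C) (M := M) (v 1) = 0
        rw [map_one]
        rfl
      leibniz' := fun x y => by
        show TrivSqZeroExt.snd (R := C) (M := M) (v (x * y)) =
          x • TrivSqZeroExt.snd (R := C) (M := M) (v y) +
            y • TrivSqZeroExt.snd (R := C) (M := M) (v x)
        rw [map_mul]
        have := TrivSqZeroExt.snd_mul (R := C) (M := M) (v x) (v y)
        rw [hfst, hfst] at this
        refine Eq.trans this ?_
        simp }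
  have hδ : ∀ c : C, δ c = TrivSqZeroExt.snd (R := C) (M := M) (v c) := fun c => rfl
  refine ⟨δ.liftKaehlerDifferential, ?_⟩
  have key : ∀ ω : Ω[B⁄A],
      δ.liftKaehlerDifferential (KaehlerDifferential.map A A B C ω) = (1 : C) ⊗ₜ[B] ω := by
    intro ω
    have hω : ω ∈ Submodule.span B (Set.range (KaehlerDifferential.D A B)) := by
      rw [KaehlerDifferential.span_range_derivation]
      trivial
    induction hω using Submodule.span_induction with
    | mem x hx =>
      obtain ⟨b, rfl⟩ := hx
      rw [KaehlerDifferential.map_D, Derivation.liftKaehlerDifferential_comp_D, hδ, hvB]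
      simp [twHom₀]
    | zero => simp
    | add x y _ _ hx hy => rw [map_add, map_add, hx, hy, TensorProduct.tmul_add]
    | smul b x _ hx =>
      rw [map_smul, ← algebraMap_smul C b, map_smul, hx, algebraMap_smul, TensorProduct.tmul_smul]
  apply TensorProduct.AlgebraTensorModule.ext
  intro c ω
  rw [LinearMap.comp_apply, KaehlerDifferential.mapBaseChange_tmul, map_smul, key,
    LinearMap.id_apply, TensorProduct.smul_tmul', smul_eq_mul, mul_one]

end Backward

section Forward

variable {A B C : Type u} [CommRing A] [CommRing B]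
    [CommRing C] [Algebra A B] [Algebra B C] [Algebra A C] [IsScalarTower A B C]

theorem rel_of_exists_leftInverse (l : Ω[C⁄A] →ₗ[C] C ⊗[B] Ω[B⁄A])
    (hl : l ∘ₗ KaehlerDifferential.mapBaseChange A B C = LinearMap.id) :
    IsFormallySmoothRel A B C := by
  intro C' _ _ _ _ J hJ u₀ ⟨u, hu⟩
  letI algC : Algebra C C' := u.toRingHom.toAlgebra
  have halg : ∀ c : C, algebraMap C C' c = u c := fun c => rfl
  haveI towerACC' : IsScalarTower A C C' :=
    IsScalarTower.of_algebraMap_eq (fun a => (u.commutes a).symm)
  let f : B →ₐ[A] C' := u.comp (IsScalarTower.toAlgHom A B C)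
  have hf : ∀ b, f b = u (algebraMap B C b) := fun b => rfl
  have e : (Ideal.Quotient.mkₐ A J).comp f = IsScalarTower.toAlgHom A B (C' ⧸ J) := by
    ext b
    have h1 : Ideal.Quotient.mk J (u (algebraMap B C b)) = u₀ (algebraMap B C b) :=
      congr($hu (algebraMap B C b))
    rw [u₀.commutes] at h1
    exact h1
  let D₀ : Derivation A B J := derivationToSquareZeroOfLift J hJ f e
  have hD₀ : ∀ b, (D₀ b : C') = u (algebraMap B C b) - algebraMap B C' b := fun b => rfl
  have hJJ : ∀ x y : C', x ∈ J → y ∈ J → x * y = 0 := by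
    intro x y hx hy
    have : x * y ∈ J ^ 2 := by
      rw [pow_two]
      exact Ideal.mul_mem_mul hx hy
    rwa [hJ, Ideal.mem_bot] at this
  haveI : IsScalarTower B C J := ⟨fun b c j => by
    apply Subtype.ext
    have e1 : (((b • c) • j : J) : C') = u (b • c) * (j : C') := rfl
    have e2 : ((b • c • j : J) : C') = algebraMap B C' b * (u c * (j : C')) := by
      have : ((b • c • j : J) : C') = b • ((c • j : J) : C') := rfl
      rw [this, Algebra.smul_def]
      rfl
    rw [e1, e2, Algebra.smul_def, map_mul]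
    show u (algebraMap B C b) * u c * (j : C') = _
    have h0 := hJJ _ _ (D₀ b).2 (J.mul_mem_left (u c) j.2)
    rw [hD₀, sub_mul, sub_eq_zero] at h0
    rw [mul_assoc, h0]⟩
  let g₀ : Ω[B⁄A] →ₗ[B] J := D₀.liftKaehlerDifferential
  let g₁ : C ⊗[B] Ω[B⁄A] →ₗ[C] J := LinearMap.liftBaseChange C g₀
  let g₂ : Ω[C⁄A] →ₗ[C] J := g₁ ∘ₗ l
  let δ : Derivation A C J := g₂.compDer (KaehlerDifferential.D A C)
  have hδ : ∀ b : B, δ (algebraMap B C b) = D₀ b := by
    intro b
    show g₁ (l (KaehlerDifferential.D A C (algebraMap B C b))) = D₀ b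
    have h1 : KaehlerDifferential.D A C (algebraMap B C b) =
        KaehlerDifferential.mapBaseChange A B C ((1 : C) ⊗ₜ[B] KaehlerDifferential.D A B b) := by
      rw [KaehlerDifferential.mapBaseChange_tmul, one_smul, KaehlerDifferential.map_D]
    have h2 : l (KaehlerDifferential.mapBaseChange A B C
        ((1 : C) ⊗ₜ[B] KaehlerDifferential.D A B b)) = (1 : C) ⊗ₜ[B] KaehlerDifferential.D A B b :=
      congr($hl _)
    rw [h1, h2]
    show LinearMap.liftBaseChange C g₀ ((1 : C) ⊗ₜ[B] KaehlerDifferential.D A B b) = D₀ b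
    rw [LinearMap.liftBaseChange_tmul, one_smul]
    exact Derivation.liftKaehlerDifferential_comp_D D₀ b
  let v' : C →ₐ[A] C' := liftOfDerivationToSquareZero J hJ (-δ)
  have hv' : ∀ c : C, v' c = u c - (δ c : C') := by
    intro c
    show ((-δ) c : C') + algebraMap C C' c = u c - (δ c : C')
    rw [halg]
    simp only [Derivation.neg_apply, NegMemClass.coe_neg]
    ring
  let v : C →ₐ[B] C' :=
    { toRingHom := v'.toRingHom
      commutes' := fun b => by
        show v' (algebraMap B C b) = algebraMap B C' b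
        rw [hv', hδ, hD₀]
        ring }
  refine ⟨v, ?_⟩
  ext c
  show Ideal.Quotient.mk J (v' c) = u₀ c
  rw [hv', map_sub, Ideal.Quotient.eq_zero_iff_mem.2 (δ c).2, sub_zero]
  exact congr($hu c)

end Forward

open TensorProduct in
/-- Let A → B → C be ring homomorphisms. The canonical C-linear map Ω_{B/A} ⊗_B C → Ω_{C/A} is left
invertible (has a C-linear left inverse) if and only if C is a formally smooth B-algebra relative to
A for the discrete topologies: every B-algebra homomorphism from C to a quotient C'/J of a B-algebra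
C' by an ideal J of square zero that lifts to C' as an A-algebra homomorphism also lifts to C' as a
B-algebra homomorphism. (The published definition of relative formal smoothness tests every
nilpotent ideal J; its reduction to ideals of square zero does not carry over to the relative
setting, and the square-zero form, which is what the published proof of this statement uses, is the
one taken here.) -/
theorem result (A B C : Type u) [CommRing A] [CommRing B]
    [CommRing C] [Algebra A B] [Algebra B C] [Algebra A C] [IsScalarTower A B C] :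
    (∃ l : Ω[C⁄A] →ₗ[C] C ⊗[B] Ω[B⁄A], l ∘ₗ KaehlerDifferential.mapBaseChange A B C = LinearMap.id) ↔
      EGA41.IsFormallySmoothRel A B C := by
  constructor
  · rintro ⟨l, hl⟩
    exact rel_of_exists_leftInverse l hl
  · intro h
    exact exists_leftInverse_of_rel A B C h

end Groth.Agent.S3441
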