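import Groth.Statements.S3448
import Groth.Agent.Lib.Helper73.DimFormula.FiberCodim

set_option autoImplicit false
open CategoryTheory AlgebraicGeometry
universe u
open EGA43

namespace Groth.Agent.S3448

/-- Let Y be locally Noetherian, f : X ⟶ Y of finite type, x a point of X with y = f x, and suppose
O_{Y,y} is universally catenary. Then dim O_{X,x} = dim O_{Y,y} + dim O_{X_y,x} if and only if there
is a point z of the fibre over y which is a generization of x, is maximal in the fibre (the generic
point of an irreducible component Z of X_y containing x), has local fibre dimension at z equal to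
that at x (dim Z = dim_x X_y), and satisfies dim O_{X,z} = dim O_{Y,y}. -/
theorem result {X Y : Scheme.{u}} [IsLocallyNoetherian Y]
    (f : X ⟶ Y) [LocallyOfFiniteType f] [QuasiCompact f] (x : X)
    (hcat : CAlg.IsUniversallyCatenary (Y.presheaf.stalk (f.base x))) :
    ringKrullDim (X.presheaf.stalk x) =
        ringKrullDim (Y.presheaf.stalk (f.base x)) + ringKrullDim ((f.fiber (f.base x)).presheaf.stalk (f.asFiber x)) ↔
      ∃ z : X, f.base z = f.base x ∧ z ⤳ x ∧ (∀ z' : X, f.base z' = f.base x → z' ⤳ z → z' = z) ∧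
        FlatMor.fibreDimAt f z = FlatMor.fibreDimAt f x ∧
        ringKrullDim (X.presheaf.stalk z) = ringKrullDim (Y.presheaf.stalk (f.base z)) := by
  open Groth.Agent.Lib.Helper73 in
  have hLN : IsLocallyNoetherian X := LocallyOfFiniteType.isLocallyNoetherian f
  obtain ⟨n, hn⟩ := exists_ringKrullDim_fiber_stalk_eq_natCast f x
  obtain ⟨b0, hb0⟩ := exists_ringKrullDim_stalk_eq_natCast (f x)
  have hb0' : ringKrullDim (Y.presheaf.stalk (f.base x)) = b0 := hb0
  constructor
  · intro heq
    obtain ⟨ξ, hξx, hξmax, hξc⟩ := exists_maximal_codim_eq_stalk x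
    obtain ⟨a1, b1, ha1, hb1, hab1⟩ := codim_add_resTrdeg_eq_local f ξ x hξx hcat
    rw [← hξc, ha1, hb0', hn] at heq
    have heq' : a1 = b0 + n := by exact_mod_cast heq
    have hb1le : b1 ≤ b0 := by
      have := codim_le_ringKrullDim_stalk (f ξ) (f x)
      rw [hb1, hb0] at this
      exact_mod_cast this
    obtain ⟨z, hξz, hzx, hfz, hzmax⟩ := exists_maximal_fiber_between f ξ x hξx
    have hcatz : CAlg.IsUniversallyCatenary (Y.presheaf.stalk (f z)) := by
      rw [hfz]; exact hcat
    obtain ⟨a2, b2, ha2, hb2, hab2⟩ := codim_add_resTrdeg_eq_local f ξ z hξz hcatz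
    have ha2le : a2 ≤ b2 := by
      have := codim_le_codim_of_maximal_in_fiber f ξ z hξz hzmax
      rw [ha2, hb2] at this
      exact_mod_cast this
    rw [hfz, hb1] at hb2
    have hb12 : b1 = b2 := by exact_mod_cast hb2
    obtain ⟨a3, b3, ha3, hb3, hab3⟩ := codim_add_resTrdeg_eq_local f z x hzx hcat
    rw [hfz, codim_self] at hb3
    have hb3' : b3 = 0 := by exact_mod_cast hb3.symm
    have ha3le : a3 ≤ n := by
      have := codim_le_ringKrullDim_fiber_stalk f z x hfz
      rw [ha3, hn] at this
      exact_mod_cast this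
    rw [resTrdeg_eq_resTrdegNat, resTrdeg_eq_resTrdegNat] at hab1 hab2 hab3
    have e1 : a1 + resTrdegNat f x = b1 + resTrdegNat f ξ := by exact_mod_cast hab1
    have e2 : a2 + resTrdegNat f z = b2 + resTrdegNat f ξ := by exact_mod_cast hab2
    have e3 : a3 + resTrdegNat f x = b3 + resTrdegNat f z := by exact_mod_cast hab3
    have ea3 : a3 = n := by omega
    have ea2 : a2 = b0 := by omega
    have erz : resTrdegNat f z = n + resTrdegNat f x := by omega
    have hzfmax : ∀ z' : X, f.base z' = f.base x → z' ⤳ z → z' = z := by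
      intro t hft htz
      by_contra hne
      have hft' : f t = f x := hft
      obtain ⟨a4, b4, ha4, hb4, hab4⟩ := codim_add_resTrdeg_eq_local f t z htz hcatz
      rw [hft', hfz, codim_self] at hb4
      have hb4' : b4 = 0 := by exact_mod_cast hb4.symm
      have h1a4 : 1 ≤ a4 := by
        have := one_le_codim t z htz hne
        rw [ha4] at this
        exact_mod_cast this
      obtain ⟨a5, b5, ha5, hb5, hab5⟩ := codim_add_resTrdeg_eq_local f t x (htz.trans hzx) hcat
      rw [hft', codim_self] at hb5
      have hb5' : b5 = 0 := by exact_mod_cast hb5.symm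
      have ha5le : a5 ≤ n := by
        have := codim_le_ringKrullDim_fiber_stalk f t x hft'
        rw [ha5, hn] at this
        exact_mod_cast this
      rw [resTrdeg_eq_resTrdegNat, resTrdeg_eq_resTrdegNat] at hab4 hab5
      have e4 : a4 + resTrdegNat f z = b4 + resTrdegNat f t := by exact_mod_cast hab4
      have e5 : a5 + resTrdegNat f x = b5 + resTrdegNat f t := by exact_mod_cast hab5
      omega
    have h0z := ringKrullDim_fiber_stalk_eq_zero_of_maximal f z
      (fun t ht hft => hzfmax t (hft.trans hfz) ht)
    refine ⟨z, hfz, hzx, hzfmax, ?_, ?_⟩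
    · rw [fibreDimAt_eq, fibreDimAt_eq, h0z, hn, zero_add, erz]
      push_cast
      rfl
    · apply le_antisymm
      · have := ringKrullDim_stalk_le_add_fiber f z
        rwa [h0z, add_zero] at this
      · have h1 := codim_le_ringKrullDim_stalk ξ z
        rw [ha2, ea2] at h1
        have h2 : ringKrullDim (Y.presheaf.stalk (f.base z)) = b0 := by
          rw [ringKrullDim_stalk_congr (show f.base z = f.base x from hfz), hb0']
        rw [h2]
        exact h1
  · rintro ⟨z, hfz, hzx, hmaxz, hfd, hdz⟩
    have hfz' : f z = f x := hfz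
    have h0z := ringKrullDim_fiber_stalk_eq_zero_of_maximal f z
      (fun t ht hft => hmaxz t (hft.trans hfz') ht)
    rw [fibreDimAt_eq, fibreDimAt_eq, h0z, hn, zero_add] at hfd
    have hfd' : resTrdegNat f z = n + resTrdegNat f x := by exact_mod_cast hfd
    obtain ⟨a3, b3, ha3, hb3, hab3⟩ := codim_add_resTrdeg_eq_local f z x hzx hcat
    rw [hfz', codim_self] at hb3
    have hb3' : b3 = 0 := by exact_mod_cast hb3.symm
    rw [resTrdeg_eq_resTrdegNat, resTrdeg_eq_resTrdegNat] at hab3
    have e3 : a3 + resTrdegNat f x = b3 + resTrdegNat f z := by exact_mod_cast hab3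
    have ea3 : a3 = n := by omega
    have h1 := ringKrullDim_stalk_add_codim_le z x hzx a3 ha3
    rw [hdz, ringKrullDim_stalk_congr (show f.base z = f.base x from hfz), ea3] at h1
    refine le_antisymm (ringKrullDim_stalk_le_add_fiber f x) ?_
    rw [hn]
    exact h1

end Groth.Agent.S3448
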