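import Groth.Statements.S3456
import Groth.Agent.Lib.Helper73.DimFormula.LocDimFiber

set_option autoImplicit false
open CategoryTheory AlgebraicGeometry
universe u
open EGA43

namespace Groth.Agent.S3456

/-- Let Y be locally Noetherian, f : X ⟶ Y locally of finite type and x a point of X; let X_j run over
the (finitely many) irreducible components of X containing x. Then f is equidimensional at x if and
only if there is a natural number e such that for every X_j: the closure Y_j of f(X_j) is an
irreducible component of Y; for every point η of Y whose closure equals Y_j (i.e. the generic point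
of Y_j), the fibre X_j ∩ f⁻¹(η) has topological Krull dimension e; and the local dimension at x of
X_j ∩ f⁻¹(f x) is e. All subsets of X carry the induced topology. -/
theorem result {X Y : Scheme.{u}} [IsLocallyNoetherian Y] (f : X ⟶ Y)
    [LocallyOfFiniteType f] (x : X) :
    EGA43.IsEquidimAt f x ↔
      ∃ e : ℕ, ∀ Xj ∈ irreducibleComponents (X : Type u), ∀ hx : x ∈ Xj,
        closure (f.base '' Xj) ∈ irreducibleComponents (Y : Type u) ∧
        (∀ η : Y, closure ({η} : Set Y) = closure (f.base '' Xj) →
          topologicalKrullDim ↥(Xj ∩ f.base ⁻¹' {η}) = e) ∧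
        FlatMor.localDim ↥(Xj ∩ f.base ⁻¹' {f.base x}) ⟨x, ⟨hx, Set.mem_singleton (f.base x)⟩⟩ = e := by
  open Groth.Agent.Lib.Helper73 in
  have hLN : IsLocallyNoetherian X := LocallyOfFiniteType.isLocallyNoetherian f
  constructor
  · intro h
    obtain ⟨e, U, hxU, hA, hB⟩ := (isEquidimAt_iff f x).mp h
    have hfd : FlatMor.fibreDimAt f x = e := by
      apply fibreDimAt_eq_of_forall_maximal
      intro ζ hζx _ hζmax
      exact hB ζ (hζx.mem_open U.isOpen hxU) hζmax
    refine ⟨e, ?_⟩
    intro Xj hXj hx
    obtain ⟨ξ, rfl, hξmax⟩ := exists_maximal_of_mem_irreducibleComponents Xj hXj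
    have hξx : ξ ⤳ x := specializes_iff_mem_closure.mpr hx
    have hξU : ξ ∈ U := hξx.mem_open U.isOpen hxU
    obtain ⟨hηmax, -⟩ := hA ξ hξU hξmax
    have hre : resTrdegNat f ξ = e := hB ξ hξU (fun t ht _ => hξmax t ht)
    have hcl : closure (f '' closure ({ξ} : Set X)) = closure ({f ξ} : Set Y) :=
      closure_image_closure_singleton f ξ
    refine ⟨?_, ?_, ?_⟩
    · change closure (f '' closure ({ξ} : Set X)) ∈ _
      rw [hcl]
      exact closure_singleton_mem_irreducibleComponents_of_maximal _ hηmax
    · intro η hη
      change closure ({η} : Set Y) = closure (f '' closure ({ξ} : Set X)) at hη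
      rw [hcl] at hη
      have h1 : η ⤳ f ξ := by
        rw [specializes_iff_mem_closure, hη]; exact subset_closure rfl
      have h2 : η = f ξ := hηmax η h1
      subst h2
      rw [← hre]
      exact topologicalKrullDim_closure_inter_fiber f ξ (f ξ) rfl
    · apply le_antisymm
      · apply localDim_interFiber_le f _ _ isClosed_closure
        intro ζ _ hfζ hζx
        have := resTrdegNat_le_fibreDimAt_of_specializes f x ζ hζx hfζ
        rw [hfd] at this
        exact_mod_cast this
      · obtain ⟨z, hξz, hzx, hfz, hzmax⟩ := exists_maximal_fiber_between f ξ x hξx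
        have h1 := resTrdegNat_le_of_maximal_in_closure_fiber f ξ z hξz hzmax
        rw [hre] at h1
        have h2 := resTrdegNat_le_localDim_interFiber f (closure {ξ}) (f x) isClosed_closure
          ⟨x, ⟨hx, Set.mem_singleton (f.base x)⟩⟩
          ⟨z, specializes_iff_mem_closure.mp hξz, hfz⟩ hzx
        refine le_trans ?_ h2
        exact_mod_cast h1
  · rintro ⟨e, he⟩
    apply isEquidimAt_of_forall_maximal f x e
    · apply fibreDimAt_le_of_forall_generization
      intro η hηx hfη
      obtain ⟨ξ, hξη, hξmax⟩ := exists_maximal_specializes η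
      have hXj := closure_singleton_mem_irreducibleComponents_of_maximal ξ hξmax
      have hx : x ∈ closure ({ξ} : Set X) := specializes_iff_mem_closure.mp (hξη.trans hηx)
      obtain ⟨-, -, h3⟩ := he _ hXj hx
      have h2 := resTrdegNat_le_localDim_interFiber f (closure {ξ}) (f x) isClosed_closure
          ⟨x, ⟨hx, Set.mem_singleton (f.base x)⟩⟩
          ⟨η, specializes_iff_mem_closure.mp hξη, hfη⟩ hηx
      rw [h3] at h2
      exact_mod_cast h2
    · intro ξ hξx hξmax
      have hXj := closure_singleton_mem_irreducibleComponents_of_maximal ξ hξmax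
      have hx : x ∈ closure ({ξ} : Set X) := specializes_iff_mem_closure.mp hξx
      obtain ⟨h1, h2, -⟩ := he _ hXj hx
      obtain ⟨hclη, hηmax⟩ :=
        maximal_image_of_closure_image_mem_irreducibleComponents f ξ _ h1 rfl
      refine ⟨hηmax, ?_⟩
      have h4 := h2 (f ξ) hclη
      rw [topologicalKrullDim_closure_inter_fiber f ξ (f ξ) rfl] at h4
      exact_mod_cast h4

end Groth.Agent.S3456
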