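import Groth.Statements.S3457
import Groth.Agent.Lib.Helper73.DimFormula.EquidimAt

set_option autoImplicit false
open CategoryTheory AlgebraicGeometry
universe u
open EGA43

namespace Groth.Agent.S3457

/-- Let Y be locally Noetherian, f : X ⟶ Y locally of finite type, x a point of X with y = f x, and
suppose f is equidimensional at x and O_{Y,y} is universally catenary. Let e be the local dimension
at x of the fibre X_y. Then for every minimal prime 𝔭 of O_{X,x} (that is, for every irreducible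
component X_j of X through x, with O_{X_j,x} = O_{X,x}/𝔭 and O_{Y_j,y} = O_{Y,y}/(𝔭 ∩ O_{Y,y})) one
has dim(O_{X,x}/𝔭) + trdeg_{κ(y)} κ(x) = dim(O_{Y,y}/(𝔭 ∩ O_{Y,y})) + e. -/
theorem result {X Y : Scheme.{u}} [IsLocallyNoetherian Y] (f : X ⟶ Y)
    [LocallyOfFiniteType f] (x : X) (h : EGA43.IsEquidimAt f x)
    (hcat : CAlg.IsUniversallyCatenary (Y.presheaf.stalk (f.base x))) :
    letI : Algebra (Y.residueField (f.base x)) (X.residueField x) := (f.residueFieldMap x).hom.toAlgebra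
    ∀ 𝔭 ∈ minimalPrimes (X.presheaf.stalk x),
      ringKrullDim (X.presheaf.stalk x ⧸ 𝔭) +
          (Cardinal.toNat (Algebra.trdeg (Y.residueField (f.base x)) (X.residueField x)) : WithBot ℕ∞) =
        ringKrullDim (Y.presheaf.stalk (f.base x) ⧸ 𝔭.comap (f.stalkMap x).hom) + FlatMor.fibreDimAt f x := by
  open Groth.Agent.Lib.Helper73 in
  intro 𝔭 h𝔭
  have hpp : 𝔭.IsPrime := h𝔭.1.1
  let P : PrimeSpectrum (X.presheaf.stalk x) := ⟨𝔭, hpp⟩
  obtain ⟨hξx, hξmax⟩ := maximal_fromSpecStalk_of_mem_minimalPrimes x P h𝔭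
  obtain ⟨a, b, e, ha, hb, hfd, hηmax, hab⟩ :=
    codim_add_resTrdegNat_eq_of_isEquidimAt f x h hcat _ hξx hξmax
  have h1 := ringKrullDim_stalk_quotient_eq_codim x P
  let Q : PrimeSpectrum (Y.presheaf.stalk (f x)) := PrimeSpectrum.comap (f.stalkMap x).hom P
  have h2 := ringKrullDim_stalk_quotient_eq_codim (f x) Q
  have hQ : (Y.fromSpecStalk (f x)) Q = f ((X.fromSpecStalk x) P) := by
    have := Scheme.SpecMap_stalkMap_fromSpecStalk f (x := x)
    have h3 := congrArg (fun g => g.base P) this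
    exact h3
  rw [hQ, hb] at h2
  rw [ha] at h1
  change ringKrullDim (X.presheaf.stalk x ⧸ P.asIdeal) + ((resTrdegNat f x : ℕ) : WithBot ℕ∞) =
    ringKrullDim (Y.presheaf.stalk (f x) ⧸ Q.asIdeal) + FlatMor.fibreDimAt f x
  rw [h1, h2, hfd]
  have : a + resTrdegNat f x = b + e := hab
  exact_mod_cast congrArg (fun n : ℕ => ((n : ℕ) : WithBot ℕ∞)) this

end Groth.Agent.S3457
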