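import Groth.Statements.S3460
-- import your own Groth.Agent.* helpers here

set_option autoImplicit false
open CategoryTheory AlgebraicGeometry
universe u
open EGA43

namespace Groth.Agent.S3460

/-- Let Y be locally Noetherian and f : X ⟶ Y of finite type. Then there exist a scheme Z, a proper
morphism g : X ⟶ Z and an immersion h : Z ⟶ Y with f = g ≫ h if and only if f is proper at every
point of f(X), i.e. every point of f(X) has an open neighbourhood U in Y over which the restriction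
of f is proper. -/
theorem result {X Y : Scheme.{u}} [IsLocallyNoetherian Y]
    (f : X ⟶ Y) [LocallyOfFiniteType f] [QuasiCompact f] :
    (∃ (Z : Scheme.{u}) (g : X ⟶ Z) (h : Z ⟶ Y), IsProper g ∧ IsImmersion h ∧ g ≫ h = f) ↔
      ∀ x : X, ∃ U : Y.Opens, f.base x ∈ U ∧ IsProper (f ∣_ U) := by
  constructor
  · rintro ⟨Z, g, h, hg, hh, rfl⟩ x
    refine ⟨h.coborderRange, ?_, ?_⟩
    · have : (g ≫ h).base x = h.coborderRange.ι.base ((g ≫ h.liftCoborder).base x) := by
        rw [← Scheme.Hom.comp_apply, Category.assoc, h.liftCoborder_ι]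
      rw [this]
      exact ((g ≫ h.liftCoborder).base x).2
    · set U := h.coborderRange with hUdef
      have hp : IsProper (g ≫ h.liftCoborder) := inferInstance
      have htop : (g ≫ h) ⁻¹ᵁ U = ⊤ := by
        rw [← h.liftCoborder_ι, ← Category.assoc, Scheme.Hom.comp_preimage]
        simp [U]
      have hiso : IsIso ((g ≫ h) ⁻¹ᵁ U).ι := by
        rw [htop]; exact (Scheme.topIso X).isIso_hom
      have heq : (g ≫ h) ∣_ U = ((g ≫ h) ⁻¹ᵁ U).ι ≫ (g ≫ h.liftCoborder) := by
        rw [← cancel_mono U.ι, morphismRestrict_ι]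
        simp only [Category.assoc, U, h.liftCoborder_ι]
      rw [heq]
      infer_instance
  · intro H
    choose U hxU hU using H
    have hr : Set.range f ⊆ ((⨆ i, U i : Y.Opens) : Set Y) := by
      rintro y ⟨x, rfl⟩
      simpa using ⟨x, hxU x⟩
    let g : X ⟶ (⨆ i, U i : Y.Opens) :=
      IsOpenImmersion.lift (Scheme.Opens.ι _) f (by simpa using hr)
    have hgf : g ≫ (⨆ i, U i : Y.Opens).ι = f :=
      IsOpenImmersion.lift_fac (⨆ i, U i).ι f (by simpa using hr)
    refine ⟨(⨆ i, U i : Y.Opens), g, (⨆ i, U i : Y.Opens).ι, ?_, inferInstance, hgf⟩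
    rw [IsZariskiLocalAtTarget.iff_of_iSup_eq_top (P := @IsProper)
      (U := fun i : X ↦ (⨆ i, U i).ι ⁻¹ᵁ U i)]
    · intro i
      have heq : g ⁻¹ᵁ (⨆ i, U i).ι ⁻¹ᵁ U i = f ⁻¹ᵁ U i := by
        change (g ≫ (⨆ i, U i).ι) ⁻¹ᵁ U i = _
        rw [hgf]
      let e : Arrow.mk (g ∣_ (⨆ i, U i).ι ⁻¹ᵁ U i) ≅ Arrow.mk (f ∣_ U i) :=
          Arrow.isoMk (X.isoOfEq heq) (Scheme.Opens.isoOfLE (le_iSup U i)) <| by
        simp [← CategoryTheory.cancel_mono (U i).ι, hgf]
      rw [MorphismProperty.arrow_mk_iso_iff @IsProper e]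
      exact hU i
    apply (⨆ i, U i).ι.image_injective
    dsimp
    rw [Scheme.Hom.image_iSup, Scheme.Hom.image_top_eq_opensRange, Scheme.Opens.opensRange_ι]
    simp [Scheme.Hom.image_preimage_eq_opensRange_inf, le_iSup U]

end Groth.Agent.S3460
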