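import Groth.Statements.S3510
import Groth.Agent.Lib.Helper28.AcycLocalB
import Groth.Agent.Lib.Helper28.AcycLeray
import Groth.Agent.Lib.Helper28.AcycComp

set_option autoImplicit false
universe u
open CategoryTheory CategoryTheory.Limits AlgebraicGeometry Opposite
open EtAcyc

namespace Groth.Agent.S3510

/-- (i) ⇔ (ii): let g : X → Y be a morphism of schemes, L a set of primes and n a natural number. Then g
is n-acyclic for L (form (ii): for every etale V → Y with projection g' : X ×_Y V → V and every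
abelian L-torsion sheaf F on V, H^q(V, F) → H^q(X ×_Y V, g'⁻¹F) is bijective for q ≤ n and injective
for q = n + 1) if and only if (form (i)) for every such V and F the unit F → g'_* g'⁻¹ F is an
isomorphism and R^q g'_* (g'⁻¹ F) = 0 for 1 ≤ q ≤ n. -/
theorem result {X Y : Scheme.{u}} (g : X ⟶ Y) (L : Set ℕ) (n : ℕ) :
    EtAcyc.IsAcyclicN g L n ↔
      ∀ (V : Y.Etale) (F : EtCoh.Ab V.left), EtAcyc.IsLTorsion L F →
        IsIso ((EtCoh.pullPushAdj (EtAcyc.prj g V)).unit.app F) ∧
          ∀ q : ℕ, 1 ≤ q → q ≤ n →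
            IsZero ((EtCoh.Rpush (EtAcyc.prj g V) q).obj ((EtCoh.pull (EtAcyc.prj g V)).obj F)) := by
  constructor
  · intro hA V F hF
    have hV : Etale V.hom := V.prop
    have hK : ∀ W : V.left.Etale,
        EtAcyc.CompN (pullback.fst W.hom (EtAcyc.prj g V)) L n := by
      intro W
      have hW : Etale W.hom := W.prop
      let V' : Y.Etale := Scheme.Etale.mk (W.hom ≫ V.hom)
      have hV' : EtAcyc.CompN (EtAcyc.prj g V') L n := hA V'
      let e := pullbackRightPullbackFstIso V.hom g W.hom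
      have he : e.hom ≫ EtAcyc.prj g V' = pullback.fst W.hom (EtAcyc.prj g V) :=
        pullbackRightPullbackFstIso_hom_fst V.hom g W.hom
      exact (Groth.Agent.Lib.Helper28.AcycComp.compN_comp_iff e.hom _ _ he L n
        (Groth.Agent.Lib.Helper28.AcycComp.compN_of_isIso e.hom L n)).1 hV'
    have hH : ∀ (W : V.left.Etale),
        (∀ q : ℕ, q ≤ n → Function.Bijective
          (@EtCore.Hpull _ _ (pullback.fst W.hom (EtAcyc.prj g V))
            (Groth.Agent.Lib.Helper28.AcycLocalA.pflPull _) ((EtCoh.pull W.hom).obj F) q)) := by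
      intro W q hq
      have := Groth.Agent.Lib.Helper28.AcycLocalA.pflPull (pullback.fst W.hom (EtAcyc.prj g V))
      have h1 := hK W ((EtCoh.pull W.hom).obj F)
        (Groth.Agent.Lib.Helper28.EtLTors.isLTorsion_pull W.hom L F hF)
      exact h1.1 q hq
    have hM : ∀ (W : V.left.Etale) (q : ℕ), q ≤ n → Function.Bijective
        (fun e : Abelian.Ext ((Groth.Agent.Lib.Helper28.EtFree.Zf V.left).obj W) F q =>
          @Abelian.Ext.mapExactFunctor _ _ _ _ _ _ (EtCoh.pull (EtAcyc.prj g V)) _
            (Groth.Agent.Lib.Helper28.AcycLocalA.pflPull _) _ _ _ _ _ _ e) := by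
      intro W q hq
      exact Groth.Agent.Lib.Helper28.AcycLocalA.mapPull_Zf_bijective (EtAcyc.prj g V) W F q
        (hH W q hq)
    refine ⟨?_, ?_⟩
    · exact Groth.Agent.Lib.Helper28.AcycLocalB.isIso_unit (EtAcyc.prj g V) F
        (fun W => hM W 0 (Nat.zero_le n))
    · intro q hq1 hqn
      obtain ⟨q, rfl⟩ : ∃ k, q = k + 1 := ⟨q - 1, by omega⟩
      exact Groth.Agent.Lib.Helper28.AcycLocalB.isZero_Rpush (EtAcyc.prj g V) F q
        (fun W => (hM W (q + 1) hqn).2)
  · intro h V F hF inst
    obtain ⟨hu, hR⟩ := h V F hF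
    exact Groth.Agent.Lib.Helper28.AcycLeray.comp_of_unit_iso (EtAcyc.prj g V) F n hu hR

end Groth.Agent.S3510
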