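import Groth.Statements.S3525
import Mathlib
import Groth.Agent.Lib.Helper10.FilteredHomology

set_option autoImplicit false
universe u
open HTor

namespace Groth.Agent.S3525

open CategoryTheory CategoryTheory.Limits MonoidalCategory
open Groth.Agent.Lib.Helper10.FilteredHomology

section Aux

variable (A : Type u) [CommRing A] (p : ℕ) (N : ModuleCat.{u} A)

/-- the chosen projective resolution -/
noncomputable abbrev P : ProjectiveResolution N := projectiveResolution N

/-- the three functors -/
noncomputable abbrev T (i : ℕ) : ModuleCat.{u} A ⥤ ModuleCat.{u} A :=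
  tensorRight ((P A N).complex.X i)

noncomputable abbrev dT (i j : ℕ) : T A N i ⟶ T A N j :=
  (tensoringRight (ModuleCat.{u} A)).map ((P A N).complex.d i j)

theorem dT_comp (i j k : ℕ) : dT A N i j ≫ dT A N j k = 0 := by
  rw [← Functor.map_comp, HomologicalComplex.d_comp_d, Functor.map_zero]

noncomputable abbrev Φ : ModuleCat.{u} A ⥤ ShortComplex (ModuleCat.{u} A) :=
  scFunctor (T A N ((ComplexShape.down ℕ).prev p)) (T A N p) (T A N ((ComplexShape.down ℕ).next p))
    (dT A N _ _) (dT A N _ _) (dT_comp A N _ _ _)

noncomputable def torIso : (CategoryTheory.Tor (ModuleCat.{u} A) p).flip.obj N ≅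
    Φ A p N ⋙ ShortComplex.homologyFunctor (ModuleCat.{u} A) :=
  NatIso.ofComponents
    (fun M => (P A N).isoLeftDerivedObj ((tensoringLeft (ModuleCat.{u} A)).obj M) p)
    (fun {M M'} f => by
      have key : (NatTrans.leftDerived ((tensoringLeft (ModuleCat.{u} A)).map f) p).app N ≫
          ((P A N).isoLeftDerivedObj ((tensoringLeft (ModuleCat.{u} A)).obj M') p).hom =
          ((P A N).isoLeftDerivedObj ((tensoringLeft (ModuleCat.{u} A)).obj M) p).hom ≫
          (HomologicalComplex.homologyFunctor (ModuleCat.{u} A) (ComplexShape.down ℕ) p).map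
            ((NatTrans.mapHomologicalComplex ((tensoringLeft (ModuleCat.{u} A)).map f)
              (ComplexShape.down ℕ)).app (P A N).complex) := by
        rw [ProjectiveResolution.leftDerived_app_eq _ (P A N), Category.assoc, Category.assoc,
          Iso.inv_hom_id, Category.comp_id]
      exact key)

end Aux

open CategoryTheory CategoryTheory.Limits in
/-- For a commutative ring A, an A-module N and p ≥ 0, the functor M ↦ Tor_p^A(M, N) preserves filtered
colimits. (Tor is Mathlib's, left derived in the second variable; this is the case of single modules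
rather than complexes.) -/
theorem result (A : Type u) [CommRing A] (p : ℕ) (N : ModuleCat.{u} A)
    (J : Type u) [SmallCategory J] [IsFiltered J] :
    PreservesColimitsOfShape J ((CategoryTheory.Tor (ModuleCat.{u} A) p).flip.obj N) := by
  haveI : PreservesColimitsOfShape J
      (Φ A p N ⋙ ShortComplex.homologyFunctor (ModuleCat.{u} A)) :=
    preservesColimitsOfShape_homology _ _ _ _ _ _
  exact preservesColimitsOfShape_of_natIso (torIso A p N).symm

end Groth.Agent.S3525
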