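import Groth.Statements.S3532
import Groth.Agent.Lib.Helper5.MLCore

set_option autoImplicit false
universe u
open HomAlg3

namespace Groth.Agent.S3532

section aux
open CategoryTheory

variable (F : ℕᵒᵖ ⥤ AddCommGrpCat.{u})

def tr {p k : ℕ} (h : p ≤ k) : F.obj (Opposite.op k) →+ F.obj (Opposite.op p) :=
  (F.map (homOfLE h).op).hom

theorem tr_comp {p q k : ℕ} (h1 : p ≤ q) (h2 : q ≤ k) (x : F.obj (Opposite.op k)) :
    tr F h1 (tr F h2 x) = tr F (h1.trans h2) x := by
  have : F.map (homOfLE (h1.trans h2)).op = F.map (homOfLE h2).op ≫ F.map (homOfLE h1).op := by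
    rw [← F.map_comp]
    congr 1
  simp [tr, this]

theorem ml_iff :
    (F ⋙ forget AddCommGrpCat).IsMittagLeffler ↔
      ∀ p, ∃ k₀, ∃ h₀ : p ≤ k₀, ∀ k (hk : k₀ ≤ k),
        (tr F (h₀.trans hk)).range = (tr F h₀).range := by
  constructor
  · intro h p
    obtain ⟨i, f, hf⟩ := h (Opposite.op p)
    have h₀ : p ≤ i.unop := leOfHom f.unop
    refine ⟨i.unop, h₀, fun k hk => ?_⟩
    apply le_antisymm
    · exact Groth.Agent.Lib.Helper5.ml_range_anti (tr F) (tr_comp F) h₀ hk
    · have := hf (homOfLE (h₀.trans hk)).op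
      rintro _ ⟨y, rfl⟩
      have hy : (F ⋙ forget AddCommGrpCat).map f y ∈
          Set.range ((F ⋙ forget AddCommGrpCat).map (homOfLE (h₀.trans hk)).op) :=
        this ⟨y, rfl⟩
      obtain ⟨z, hz⟩ := hy
      refine ⟨z, ?_⟩
      have hfeq : f = (homOfLE h₀).op := Subsingleton.elim _ _
      subst hfeq
      exact hz
  · intro h j
    obtain ⟨k₀, h₀, hk₀⟩ := h j.unop
    refine ⟨Opposite.op k₀, (homOfLE h₀).op, fun k g => ?_⟩
    have hk : j.unop ≤ k.unop := leOfHom g.unop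
    have hgeq : g = (homOfLE hk).op := Subsingleton.elim _ _
    subst hgeq
    rintro _ ⟨y, rfl⟩
    have h1 : tr F h₀ y ∈ (tr F h₀).range := ⟨y, rfl⟩
    rw [← hk₀ (max k₀ k.unop) (le_max_left _ _)] at h1
    have h2 := Groth.Agent.Lib.Helper5.ml_range_anti (tr F) (tr_comp F) hk
      (le_max_right k₀ k.unop) h1
    obtain ⟨z, hz⟩ := h2
    exact ⟨z, hz⟩

end aux

open CategoryTheory in
/-- Category of abelian groups, system indexed by the natural numbers: Let (A_k)_{k ≥ 0} be an inverse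
system of abelian groups. For p ≤ k write Im_k(A_p) for the image of A_k → A_p, and K_p for the
kernel of A_p → A_{p-1} (K_0 = A_0). Then (A_k) satisfies the Mittag-Leffler condition (for each p
the subgroups Im_k(A_p) are eventually constant in k) if and only if for each p the subgroups
Im_k(A_p) ∩ K_p are eventually constant in k. -/
theorem result (F : ℕᵒᵖ ⥤ AddCommGrpCat.{u}) :
    (F ⋙ forget AddCommGrpCat).IsMittagLeffler ↔
      ((∃ k₀ : ℕ, ∀ (k : ℕ) (hk : k₀ ≤ k),
          (F.map (homOfLE (Nat.zero_le k)).op).hom.range = (F.map (homOfLE (Nat.zero_le k₀)).op).hom.range) ∧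
        ∀ p : ℕ, ∃ k₀ : ℕ, ∃ h₀ : p + 1 ≤ k₀, ∀ (k : ℕ) (hk : k₀ ≤ k),
          (F.map (homOfLE (h₀.trans hk)).op).hom.range ⊓ (F.map (homOfLE (Nat.le_succ p)).op).hom.ker =
            (F.map (homOfLE h₀).op).hom.range ⊓ (F.map (homOfLE (Nat.le_succ p)).op).hom.ker) := by
  rw [ml_iff F]
  exact Groth.Agent.Lib.Helper5.ml_core (tr F) (tr_comp F)

end Groth.Agent.S3532
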