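import Groth.Statements.S3544
import Groth.Agent.Lib.Helper75.EulerChar2

set_option autoImplicit false
universe u
open HomAlg3

namespace Groth.Agent.S3544

open CategoryTheory CategoryTheory.Limits in
/-- Let E be a cohomological spectral sequence of modules over a ring A, starting at page 2, such that
the E₂ terms have finite length and only finitely many of them (all inside the finite set s of
bidegrees) are nonzero. Then for every r ≥ 2 the Euler–Poincaré characteristic of page r, the
alternating sum over s of (-1)^{p+q} times the length of E_r^{pq}, equals that of page 2. -/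
theorem result {A : Type u} [Ring A]
    (E : E₂CohomologicalSpectralSequence (ModuleCat.{u} A)) (s : Finset (ℤ × ℤ))
    (hs : ∀ pq : ℤ × ℤ, pq ∉ s → IsZero ((E.page 2).X pq))
    (hfl : ∀ pq : ℤ × ℤ, IsFiniteLength A ((E.page 2).X pq)) (r : ℤ) (hr : 2 ≤ r) :
    (s.sum fun pq => (((pq.1 + pq.2).negOnePow : ℤˣ) : ℤ) * ((Module.length A ((E.page r hr).X pq)).toNat : ℤ)) =
      s.sum fun pq => (((pq.1 + pq.2).negOnePow : ℤˣ) : ℤ) * ((Module.length A ((E.page 2).X pq)).toNat : ℤ) := by
  suffices H : ∀ (r : ℤ) (hr : 2 ≤ r), (∀ pq : ℤ × ℤ, pq ∉ s → IsZero ((E.page r hr).X pq)) ∧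
      (∀ pq : ℤ × ℤ, IsFiniteLength A ((E.page r hr).X pq)) ∧
      (s.sum fun pq => (((pq.1 + pq.2).negOnePow : ℤˣ) : ℤ) *
        ((Module.length A ((E.page r hr).X pq)).toNat : ℤ)) =
      s.sum fun pq => (((pq.1 + pq.2).negOnePow : ℤˣ) : ℤ) *
        ((Module.length A ((E.page 2).X pq)).toNat : ℤ) from (H r hr).2.2
  intro r hr
  induction r, hr using Int.leInduction with
  | base => exact ⟨hs, hfl, rfl⟩
  | succ r hr ih =>
    obtain ⟨ih1, ih2, ih3⟩ := ih
    have hr' : 2 ≤ r + 1 := by omega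
    refine ⟨fun pq hpq => ?_, fun pq => ?_, ?_⟩
    · exact IsZero.of_iso (Groth.Agent.Lib.Helper75.EulerChar.isZero_homology _ pq (ih1 pq hpq)) (E.iso r (r + 1) pq rfl hr).symm
    · exact IsFiniteLength.of_injective (Groth.Agent.Lib.Helper75.EulerChar.isFiniteLength_homology _ pq (ih2 pq))
        ((E.iso r (r + 1) pq rfl hr).symm.toLinearEquiv.injective)
    · rw [← ih3]
      have h1 := Groth.Agent.Lib.Helper75.EulerChar.euler' (⟨r, 1 - r⟩ : ℤ × ℤ)
        (fun pq => (((pq.1 + pq.2).negOnePow : ℤˣ) : ℤ)) (by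
          intro pq
          have : (pq + (⟨r, 1 - r⟩ : ℤ × ℤ)).1 + (pq + (⟨r, 1 - r⟩ : ℤ × ℤ)).2 =
            pq.1 + pq.2 + 1 := by simp; ring
          rw [this, Int.negOnePow_succ]
          simp) (E.page r hr) s ih1 ih2
      rw [h1]
      refine Finset.sum_congr rfl fun pq _ => ?_
      rw [(E.iso r (r + 1) pq rfl hr).toLinearEquiv.length_eq]

end Groth.Agent.S3544
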