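import Groth.Statements.S3555
import Groth.Agent.Lib.Lead.GrT2
import Mathlib.Tactic

set_option autoImplicit false
universe u
open CategoryTheory CategoryTheory.Limits AlgebraicGeometry
open EGA2

namespace Groth.Agent.S3555


theorem aux {R A : Type u} [CommRing R] [CommRing A] [Algebra R A] (𝒜 : ℕ → Submodule R A) [GradedAlgebra 𝒜]
    (hgen : (HomogeneousIdeal.irrelevant 𝒜).toIdeal = Ideal.span (𝒜 1 : Set A))
    {d : ℕ} (hd : 0 < d) (f : 𝒜 d) (p : ProjectiveSpectrum 𝒜) :
    p ∈ ProjectiveSpectrum.basicOpen 𝒜 (f : A) ↔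
      Submodule.span (Twist.A0 𝒜 p) {(Twist.globalOf 𝒜 f).1 ⟨p, trivial⟩} = ⊤ := by
  set F : Twist.twistAt 𝒜 (d : ℤ) p := (Twist.globalOf 𝒜 f).1 ⟨p, trivial⟩ with hF
  have hone : (1 : A) ∉ p.asHomogeneousIdeal := fun h =>
    p.isPrime.ne_top ((Ideal.eq_top_iff_one _).mpr h)
  have hFval : (F : Twist.Loc 𝒜 p) = Localization.mk f.1 ⟨1, hone⟩ := rfl
  constructor
  · intro hfp
    have hfp' : f.1 ∉ p.asHomogeneousIdeal := hfp
    rw [eq_top_iff]
    rintro ⟨q, hq⟩ -
    induction hq using Submodule.span_induction with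
    | mem q hq =>
      obtain ⟨i, j, a, s, hs, hij, rfl⟩ := hq
      have hij' : i = j + d := by exact_mod_cast hij
      subst hij'
      let c : Twist.A0 𝒜 p := HomogeneousLocalization.mk
        ⟨j + d, a, ⟨s.1 * f.1, SetLike.mul_mem_graded s.2 f.2⟩, fun hmem =>
          (p.isPrime.mem_or_mem hmem).elim hs hfp'⟩
      have hc : (⟨Localization.mk a.1 ⟨s.1, hs⟩, Submodule.subset_span
          ⟨j + d, j, a, s, hs, hij, rfl⟩⟩ : Twist.twistAt 𝒜 (d : ℤ) p) = c • F := by
        apply Subtype.ext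
        rw [Twist.coe_smul_val, hFval, HomogeneousLocalization.val_mk, Localization.mk_mul,
          Localization.mk_eq_mk_iff, Localization.r_iff_exists]
        refine ⟨1, ?_⟩
        simp only [OneMemClass.coe_one, one_mul, Submonoid.coe_mul, mul_one]
        ring
      rw [hc]
      exact Submodule.smul_mem _ c (Submodule.mem_span_singleton_self F)
    | zero => exact Submodule.zero_mem _
    | add x y hx hy ihx ihy => exact Submodule.add_mem _ ihx ihy
    | smul c x hx ih => exact Submodule.smul_mem _ c ih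
  · intro htop
    obtain ⟨g, hg1, hgp⟩ := Groth.Agent.Lib.Lead.GrT.exists_degree_one_notMem 𝒜 hgen p
    have hgd : g ^ d ∈ 𝒜 d := by
      have := SetLike.pow_mem_graded d hg1
      rwa [smul_eq_mul, mul_one] at this
    let G : Twist.twistAt 𝒜 (d : ℤ) p := ⟨Localization.mk (g ^ d) ⟨1, hone⟩,
      Submodule.subset_span ⟨d, 0, ⟨g ^ d, hgd⟩, ⟨1, SetLike.GradedOne.one_mem⟩, hone, by simp, rfl⟩⟩
    have hG : G ∈ Submodule.span (Twist.A0 𝒜 p) {F} := by rw [htop]; trivial
    obtain ⟨c, hc⟩ := Submodule.mem_span_singleton.1 hG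
    have hval := congrArg (fun y : Twist.twistAt 𝒜 (d : ℤ) p => (y : Twist.Loc 𝒜 p)) hc
    rw [Twist.coe_smul_val, hFval, c.eq_num_div_den, Localization.mk_mul,
      Localization.mk_eq_mk_iff, Localization.r_iff_exists] at hval
    obtain ⟨u, hu⟩ := hval
    simp only [Submonoid.coe_mul, OneMemClass.coe_one, mul_one, one_mul] at hu
    intro hfp
    have hfp' : f.1 ∈ p.asHomogeneousIdeal.toIdeal := hfp
    have hmem : (u : A) * (c.num * f.1) ∈ p.asHomogeneousIdeal.toIdeal :=
      Ideal.mul_mem_left _ _ (Ideal.mul_mem_left _ _ hfp')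
    rw [hu] at hmem
    rcases p.isPrime.mem_or_mem hmem with h1 | h1
    · exact u.2 h1
    · rcases p.isPrime.mem_or_mem h1 with h2 | h2
      · exact c.den_mem h2
      · exact hgp (p.isPrime.mem_of_pow_mem d h2)

/-- Let S be a graded ring whose irrelevant ideal S_+ is generated by the degree-one elements, X = Proj
S, and f homogeneous of degree d > 0. Then D_+(f) is the set of points p of X at which the global
section f/1 of O_X(d) does not vanish, i.e. at which its value generates the module of degree-d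
fractions at p. -/
theorem result {R A : Type u} [CommRing R] [CommRing A] [Algebra R A] (𝒜 : ℕ → Submodule R A) [GradedAlgebra 𝒜]
    (hgen : (HomogeneousIdeal.irrelevant 𝒜).toIdeal = Ideal.span (𝒜 1 : Set A))
    {d : ℕ} (hd : 0 < d) (f : 𝒜 d) (p : ProjectiveSpectrum 𝒜) :
    p ∈ ProjectiveSpectrum.basicOpen 𝒜 (f : A) ↔
      Submodule.span (Twist.A0 𝒜 p) {(Twist.globalOf 𝒜 f).1 ⟨p, trivial⟩} = ⊤ := by
  exact aux 𝒜 hgen hd f p

end Groth.Agent.S3555
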