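import Groth.Statements.S3561
import Groth.Agent.Lib.Helper60.TildeFT
-- import your own Groth.Agent.* helpers here

set_option autoImplicit false
universe u
open CategoryTheory CategoryTheory.Limits AlgebraicGeometry
open EGA2

namespace Groth.Agent.S3561

open TopologicalSpace Opposite
open Groth.Agent.Lib.Helper60.TildeSec Groth.Agent.Lib.Helper60.VeroneseFG Groth.Agent.Lib.Helper60.TildeFT

/-- Let S be a graded ring whose irrelevant ideal S_+ is finitely generated, and M a graded S-module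
satisfying (TF): for some n the submodule generated by the homogeneous elements of degree at least n
is a finitely generated S-module. Then the O_X-module M~ on X = Proj S is of finite type. -/
theorem result {R A : Type u} [CommRing R] [CommRing A] [Algebra R A] (𝒜 : ℕ → Submodule R A) [GradedAlgebra 𝒜]
    (hfg : (HomogeneousIdeal.irrelevant 𝒜).toIdeal.FG)
    {M : Type u} [AddCommGroup M] [Module R M] [Module A M] [IsScalarTower R A M] (ℳ : ℕ → Submodule R M) [DirectSum.Decomposition ℳ] [SetLike.GradedSMul 𝒜 ℳ]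
    (hTF : ∃ n : ℕ, (Submodule.span A (⋃ k ∈ Set.Ici n, (ℳ k : Set M))).FG) :
    CohB1.IsFT (GrTilde.tilde 𝒜 ℳ 0) := by
  classical
  obtain ⟨T, hT, hTspan⟩ := exists_homogeneous_finset 𝒜 hfg
  choose! dgT hdgT using hT
  obtain ⟨n, hn⟩ := hTF
  rw [Submodule.fg_span_iff_fg_span_finset_subset] at hn
  obtain ⟨Z, hZsub, hZspan⟩ := hn
  have hZdeg : ∀ w ∈ Z, ∃ k, n ≤ k ∧ w ∈ ℳ k := by
    intro w hw
    have := hZsub hw
    simpa using this
  choose! eZ heZ using hZdeg
  haveI : (GrMod.tilde 𝒜 ℳ 0).IsQuasicoherent := isQuasicoherent_tilde 𝒜 ℳ 0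
  apply Groth.Agent.Lib.Lead.CohAff.isFiniteType_of_finite_sections (F := GrMod.tilde 𝒜 ℳ 0)
  intro x
  obtain ⟨t, ht, htx⟩ : ∃ t ∈ T, t ∉ x.asHomogeneousIdeal := by
    by_contra hcon
    push Not at hcon
    apply x.not_irrelevant_le
    intro a ha
    have h1 : a ∈ Ideal.span (T : Set A) := by
      rw [← hTspan]
      exact ha
    exact (Ideal.span_le.2 (fun t ht => hcon t ht)) h1
  refine ⟨Proj.basicOpen 𝒜 t, Proj.isAffineOpen_basicOpen 𝒜 t (hdgT t ht).2 (hdgT t ht).1,
    (Proj.mem_basicOpen 𝒜 t x).2 htx, ?_⟩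
  refine finite_sections 𝒜 ℳ (ι := T) (κ := Z) (fun j => j.1) (fun j => dgT j.1) (fun l => l.1)
    (fun l => eZ l.1) (fun j => (hdgT j.1 j.2).2) (fun j => (hdgT j.1 j.2).1) ?_
    (fun l => (heZ l.1 l.2).2) n (fun k hk m hm => ?_) (hdgT t ht).1 (hdgT t ht).2
  · rw [hTspan]
    congr 1
    ext a
    simp
  · have h1 : m ∈ Submodule.span A (⋃ k ∈ Set.Ici n, (ℳ k : Set M)) :=
      Submodule.subset_span (Set.mem_biUnion (show k ∈ Set.Ici n from hk) hm)
    rw [hZspan] at h1
    have h2 : (Set.range (fun l : Z => l.1) : Set M) = (Z : Set M) := by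
      ext a
      simp
    rw [h2]
    exact h1

end Groth.Agent.S3561
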