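import Groth.Statements.S3567
import Mathlib

set_option autoImplicit false
universe u
open CategoryTheory CategoryTheory.Limits AlgebraicGeometry
open EGA2

namespace Groth.Agent.S3567

section helpers
open TopologicalSpace Opposite

theorem isIso_app_of_isIso_c {U V : Scheme.{u}} (h : U ⟶ V) [IsIso h.c] (O : V.Opens) :
    IsIso (h.app O) :=
  NatIso.isIso_app_of_isIso h.c (op O)

theorem part_a {U V W : Scheme.{u}} (h : U ⟶ V) [Surjective h] [IsIso h.c]
    (v₁ v₂ : V ⟶ W) (e : h ≫ v₁ = h ≫ v₂) : v₁ = v₂ := by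
  have hb : v₁.base = v₂.base := by
    have : Epi h.base := (TopCat.epi_iff_surjective h.base).mpr h.surjective
    have e' : h.base ≫ v₁.base = h.base ≫ v₂.base := congrArg (fun g : U ⟶ W => g.base) e
    exact (cancel_epi h.base).mp e'
  apply Scheme.Hom.ext hb
  intro O
  have := isIso_app_of_isIso_c h (v₂ ⁻¹ᵁ O)
  rw [← cancel_mono (h.app (v₂ ⁻¹ᵁ O))]
  simp only [Scheme.Hom.app_eq_appLE, Scheme.Hom.appLE_map, Scheme.Hom.appLE_comp_appLE]
  simp only [e]


section partb
variable {U V W : Scheme.{u}} (h : U ⟶ V)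
  (hq : Topology.IsQuotientMap h.base) (u : U ⟶ W)
  (hu : ∀ x y : U, h.base x = h.base y → u.base x = u.base y)

/-- The base map of the descended morphism. -/
noncomputable def vb : (V : TopCat) ⟶ (W : TopCat) :=
  TopCat.ofHom (hq.lift u.base.hom (fun x y hxy => hu x y hxy))

theorem vb_apply (x : U) : vb h hq u hu (h.base x) = u.base x := by
  have := DFunLike.congr_fun (hq.lift_comp u.base.hom (fun x y hxy => hu x y hxy)) x
  exact this

theorem vb_comp : h.base ≫ vb h hq u hu = u.base := by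
  ext x
  exact vb_apply h hq u hu x

theorem pre_eq (O : W.Opens) : h ⁻¹ᵁ ((Opens.map (vb h hq u hu)).obj O) = u ⁻¹ᵁ O := by
  ext x
  change vb h hq u hu (h.base x) ∈ O ↔ u.base x ∈ O
  rw [vb_apply]

variable [IsIso h.c]

/-- The sheaf map of the descended morphism. -/
noncomputable def vc : W.presheaf ⟶ (vb h hq u hu) _* V.presheaf where
  app O := u.appLE (unop O) (h ⁻¹ᵁ ((Opens.map (vb h hq u hu)).obj (unop O)))
      (le_of_eq (pre_eq h hq u hu (unop O))) ≫
    @inv _ _ _ _ (h.app ((Opens.map (vb h hq u hu)).obj (unop O))) (isIso_app_of_isIso_c h _)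
  naturality O O' i := by
    have := isIso_app_of_isIso_c h ((Opens.map (vb h hq u hu)).obj (unop O))
    have := isIso_app_of_isIso_c h ((Opens.map (vb h hq u hu)).obj (unop O'))
    dsimp only [TopCat.Presheaf.pushforward_obj_map]
    rw [← Category.assoc, IsIso.comp_inv_eq]
    simp only [Category.assoc]
    rw [h.naturality, IsIso.inv_hom_id_assoc, Scheme.Hom.map_appLE, Scheme.Hom.appLE_map]


/-- The descended morphism as a morphism of presheafed spaces. -/
noncomputable def v0 : V.toPresheafedSpace.Hom W.toPresheafedSpace :=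
  ⟨vb h hq u hu, vc h hq u hu⟩

theorem app_vc (O : W.Opens) (s : Γ(W, O)) :
    h.app ((Opens.map (vb h hq u hu)).obj O) ((vc h hq u hu).app (op O) s) =
      u.appLE O (h ⁻¹ᵁ ((Opens.map (vb h hq u hu)).obj O)) (le_of_eq (pre_eq h hq u hu O)) s := by
  have := isIso_app_of_isIso_c h ((Opens.map (vb h hq u hu)).obj O)
  change ((u.appLE O (h ⁻¹ᵁ ((Opens.map (vb h hq u hu)).obj O)) (le_of_eq (pre_eq h hq u hu O)) ≫
    inv (h.app ((Opens.map (vb h hq u hu)).obj O))) ≫ h.app ((Opens.map (vb h hq u hu)).obj O)) s = _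
  rw [Category.assoc, IsIso.inv_hom_id, Category.comp_id]

variable [Surjective h]

theorem vprop (y : V) : IsLocalHom ((v0 h hq u hu).stalkMap y).hom := by
  constructor
  intro a ha
  obtain ⟨x, rfl⟩ := h.surjective y
  obtain ⟨O, hO, s, rfl⟩ := TopCat.Presheaf.exists_germ_eq W.presheaf a
  erw [PresheafedSpace.stalkMap_germ_apply] at ha
  have h0 : h.base x ∈ V.basicOpen ((vc h hq u hu).app (op O) s) :=
    (Scheme.mem_basicOpen V ((vc h hq u hu).app (op O) s) (h.base x) hO).mpr ha
  have h1 : x ∈ h ⁻¹ᵁ V.basicOpen ((vc h hq u hu).app (op O) s) := h0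
  rw [Scheme.preimage_basicOpen, app_vc, Scheme.basicOpen_appLE] at h1
  have h3 : u.base x ∈ W.basicOpen s := h1.2
  rw [← vb_apply h hq u hu x] at h3
  exact (Scheme.mem_basicOpen W s _ hO).mp h3


/-- The descended morphism. -/
noncomputable def v : V ⟶ W :=
  Scheme.Hom.mk ⟨v0 h hq u hu, vprop h hq u hu⟩

theorem h_comp_v : h ≫ v h hq u hu = u := by
  apply Scheme.Hom.ext (vb_comp h hq u hu)
  intro O
  have := isIso_app_of_isIso_c h ((Opens.map (vb h hq u hu)).obj O)
  have e1 : (h ≫ v h hq u hu).app O =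
      (u.appLE O (h ⁻¹ᵁ ((Opens.map (vb h hq u hu)).obj O)) (le_of_eq (pre_eq h hq u hu O)) ≫
        inv (h.app ((Opens.map (vb h hq u hu)).obj O))) ≫ h.app ((Opens.map (vb h hq u hu)).obj O) := rfl
  rw [e1, Category.assoc, IsIso.inv_hom_id, Category.comp_id]
  erw [Scheme.Hom.appLE_map]
  rw [Scheme.Hom.app_eq_appLE]

end partb


end helpers

/-- Let h : U → V be a surjective morphism of schemes such that the map of sheaves of rings O_V → h_*O_U
is an isomorphism and the underlying space of V carries the quotient topology of that of U. Then for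
every scheme W, composition with h is a bijection from the morphisms V → W onto the morphisms U → W
whose underlying map is constant on each fibre of h. -/
theorem result {U V : Scheme.{u}} (h : U ⟶ V) [Surjective h]
    [IsIso h.c] (hq : Topology.IsQuotientMap h.base) (W : Scheme.{u}) :
    (∀ v₁ v₂ : V ⟶ W, h ≫ v₁ = h ≫ v₂ → v₁ = v₂) ∧
      ∀ u : U ⟶ W, (∀ x y : U, h.base x = h.base y → u.base x = u.base y) → ∃ v : V ⟶ W, h ≫ v = u := by
  refine ⟨fun v₁ v₂ e => part_a h v₁ v₂ e, fun u hu => ⟨v h hq u hu, h_comp_v h hq u hu⟩⟩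

end Groth.Agent.S3567
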