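import Groth.Statements.S3568
import Mathlib
import Groth.Agent.S4809
import Groth.Agent.S9821

set_option autoImplicit false
universe u
open CategoryTheory CategoryTheory.Limits AlgebraicGeometry
open EGA2

namespace Groth.Agent.S3568

open AlgebraicGeometry CategoryTheory Limits TopologicalSpace

theorem residue_bijective_of_isField {R : Type u} [CommRing R] [IsLocalRing R] (hR : IsField R) :
    Function.Bijective (IsLocalRing.residue R) := by
  refine ⟨?_, IsLocalRing.residue_surjective⟩
  rw [RingHom.injective_iff_ker_eq_bot, IsLocalRing.ker_residue]
  exact IsLocalRing.isField_iff_maximalIdeal_eq.mp hR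

theorem isField_stalk_of_eq_genericPoint {X : Scheme.{u}} [IsIntegral X] (x : X)
    (hx : x = genericPoint X) : IsField (X.presheaf.stalk x) := by
  subst hx
  exact (inferInstance : Field X.functionField).toIsField

theorem isIso_stalkMap_of_residueFieldMap {U V : Scheme.{u}} [IsIntegral U] [IsIntegral V]
    (h : U ⟶ V) (hgen : h (genericPoint U) = genericPoint V)
    (hbir : Function.Bijective (h.residueFieldMap (genericPoint U)).hom) :
    IsIso (h.stalkMap (genericPoint U)) := by
  rw [ConcreteCategory.isIso_iff_bijective]
  have h1 := residue_bijective_of_isField (isField_stalk_of_eq_genericPoint (genericPoint U) rfl)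
  have h2 := residue_bijective_of_isField (isField_stalk_of_eq_genericPoint _ hgen)
  have hcomm := Scheme.residue_residueFieldMap h (genericPoint U)
  have h3 : Function.Bijective ((h.stalkMap (genericPoint U)) ≫ U.residue (genericPoint U)).hom := by
    rw [← hcomm]
    exact hbir.comp h2
  have h4 : Function.Bijective
      ((U.residue (genericPoint U)).hom ∘ (h.stalkMap (genericPoint U)).hom) := h3
  exact (Function.Bijective.of_comp_iff' h1 _).mp h4

/-- Let U be an integral scheme, V a normal integral scheme (all local rings integrally closed domains)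
and h : U → V a morphism which is universally closed, radicial (universally injective) and
birational (it sends the generic point of U to that of V and induces an isomorphism of the residue
fields there). Then h is an isomorphism. (The source assumes only V normal; integrality of V, needed
here to speak of its generic point, follows from the other hypotheses.) -/
theorem result {U V : Scheme.{u}} [AlgebraicGeometry.IsIntegral U] [AlgebraicGeometry.IsIntegral V]
    (hN : Pi1.IsNormalScheme V) (h : U ⟶ V) [UniversallyClosed h]
    [UniversallyInjective h] (hgen : h.base (genericPoint U) = genericPoint V)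
    (hbir : Function.Bijective (h.residueFieldMap (genericPoint U)).hom) :
    IsIso h := by
  -- surjectivity
  have hclosed : IsClosedMap h := (inferInstance : UniversallyClosed h).universally_isClosedMap
    (𝟙 _) (𝟙 _) h IsPullback.of_id_snd
  have hsurj : Function.Surjective h := by
    have hr : IsClosed (Set.range h) := by
      rw [← Set.image_univ]; exact hclosed _ isClosed_univ
    have hmem : genericPoint V ∈ Set.range h := ⟨genericPoint U, hgen⟩
    have : Set.range h = Set.univ := by
      apply Set.eq_univ_of_univ_subset
      rw [← (genericPoint_spec V).def]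
      exact hr.closure_subset_iff.mpr (Set.singleton_subset_iff.mpr hmem)
    exact Set.range_eq_univ.mp this
  have hinj : Function.Injective h := (inferInstance : UniversallyInjective h).universally_injective
    (𝟙 _) (𝟙 _) h IsPullback.of_id_snd
  have hhomeo : IsHomeomorph h :=
    isHomeomorph_iff_continuous_isClosedMap_bijective.mpr ⟨h.continuous, hclosed, hinj, hsurj⟩
  have haff : IsAffineHom h := by
    apply isAffineHom_of_isInducing h hhomeo.isInducing
    rw [hhomeo.surjective.range_eq]
    exact isClosed_univ
  have hint : IsIntegralHom h :=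
    IsIntegralHom.iff_universallyClosed_and_isAffineHom.mpr ⟨inferInstance, haff⟩
  have hstalk : IsIso (h.stalkMap (genericPoint U)) := isIso_stalkMap_of_residueFieldMap h hgen hbir
  rw [← MorphismProperty.isomorphisms.iff,
    IsZariskiLocalAtTarget.iff_of_iSup_eq_top (P := MorphismProperty.isomorphisms Scheme) _
      (iSup_affineOpens_eq_top V)]
  intro W
  rw [MorphismProperty.isomorphisms.iff, isIso_morphismRestrict_iff_isIso_app _ W.2,
    ConcreteCategory.isIso_iff_bijective]
  by_cases hne : Nonempty W.1
  · have hηW : h (genericPoint U) ∈ W.1 := by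
      rw [hgen]
      exact ((genericPoint_spec V).mem_open_set_iff W.1.isOpen).mpr (by simpa using hne)
    have hη'W : genericPoint U ∈ h ⁻¹ᵁ W.1 := hηW
    have : IsIntegrallyClosed Γ(V, W.1) := (Groth.Agent.S9821.result V).mp hN W.1 W.2
    let := (V.presheaf.germ W.1 _ hηW).hom.toAlgebra
    have : IsFractionRing Γ(V, W.1) (V.presheaf.stalk (h (genericPoint U))) :=
      Groth.Agent.S4809.isFractionRing_germ W.1 W.2 _ hgen hηW
    have hcomm : (U.presheaf.germ (h ⁻¹ᵁ W.1) _ hη'W).hom.comp (h.app W.1).hom =
        (h.stalkMap (genericPoint U)).hom.comp (V.presheaf.germ W.1 _ hηW).hom := by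
      rw [← CommRingCat.hom_comp, ← CommRingCat.hom_comp, Scheme.Hom.germ_stalkMap]
    have hσ := ConcreteCategory.bijective_of_isIso (h.stalkMap (genericPoint U))
    have hdom : IsDomain (V.presheaf.stalk (h (genericPoint U))) := inferInstance
    refine ⟨?_, fun b => ?_⟩
    · intro a a' haa
      apply germ_injective_of_isIntegral V _ hηW
      apply hσ.1
      have e1 := congr($hcomm a)
      have e2 := congr($hcomm a')
      simp only [RingHom.coe_comp, Function.comp_apply] at e1 e2
      change (h.stalkMap (genericPoint U)).hom _ = (h.stalkMap (genericPoint U)).hom _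
      rw [← e1, ← e2]
      exact congrArg _ haa
    · exact Groth.Agent.S4809.core' (h.app W.1).hom (V.presheaf.germ W.1 _ hηW).hom
        (U.presheaf.germ (h ⁻¹ᵁ W.1) _ hη'W).hom (h.stalkMap (genericPoint U)).hom rfl hcomm hσ
        (germ_injective_of_isIntegral U _ hη'W) b
        (IsIntegralHom.isIntegral_app h W.1 W.2 b)
  · have hW' : W.1 = ⊥ := by
      ext x
      simp only [TopologicalSpace.Opens.coe_bot, Set.mem_empty_iff_false, iff_false]
      exact fun hx => hne ⟨⟨x, hx⟩⟩
    have e : h ⁻¹ᵁ W.1 = ⊥ := by rw [hW']; ext; simp
    have s1 : Subsingleton Γ(V, W.1) := hW' ▸ inferInstance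
    have s2 : Subsingleton Γ(U, h ⁻¹ᵁ W.1) := e ▸ inferInstance
    exact ⟨fun a b _ => Subsingleton.elim _ _, fun b => ⟨0, Subsingleton.elim _ _⟩⟩

end Groth.Agent.S3568
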