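import Groth.Statements.S3570
-- import your own Groth.Agent.* helpers here
import Mathlib.AlgebraicGeometry.Morphisms.IsIso
import Mathlib.AlgebraicGeometry.Restrict

set_option autoImplicit false
universe u
open CategoryTheory CategoryTheory.Limits AlgebraicGeometry
open EGA2

namespace Groth.Agent.S3570

/-- Let f : X → S and g : Y → S be affine morphisms and h : Y → X an S-morphism. Then h is an
isomorphism if and only if A(h) : f_*O_X → g_*O_Y is an isomorphism (of presheaves of rings on S). -/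
theorem result {X Y S : Scheme.{u}} (f : X ⟶ S) [IsAffineHom f] (g : Y ⟶ S)
    [IsAffineHom g] (h : Y ⟶ X) (w : h ≫ f = g) :
    IsIso h ↔ IsIso (AffAlg.algHom f g h w) := by
  subst w
  have hcomp : ∀ U : S.Opens,
      IsIso ((AffAlg.algHom f (h ≫ f) h rfl).app (Opposite.op U)) ↔ IsIso (h.app (f ⁻¹ᵁ U)) := by
    intro U
    have e : (AffAlg.algHom f (h ≫ f) h rfl).app (Opposite.op U) = h.app (f ⁻¹ᵁ U) := by
      simp only [AffAlg.algHom]
      rfl
    constructor
    · intro hi
      have := e ▸ hi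
      exact this
    · intro hi
      rw [e]
      exact hi
  constructor
  · intro hh
    have : ∀ U : (TopologicalSpace.Opens S)ᵒᵖ, IsIso ((AffAlg.algHom f (h ≫ f) h rfl).app U) := by
      intro U
      exact (hcomp U.unop).2 inferInstance
    exact NatIso.isIso_of_isIso_app _
  · intro hiso
    have hsup : ⨆ U : S.affineOpens, ((⟨f ⁻¹ᵁ U.1, U.2.preimage f⟩ : X.affineOpens) : X.Opens) = ⊤ :=
      f.iSup_preimage_eq_top (iSup_affineOpens_eq_top S)
    rw [← MorphismProperty.isomorphisms.iff,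
      HasAffineProperty.iff_of_iSup_eq_top (P := MorphismProperty.isomorphisms Scheme)
        (fun U : S.affineOpens => (⟨f ⁻¹ᵁ U.1, U.2.preimage f⟩ : X.affineOpens)) hsup]
    intro U
    refine ⟨?_, ?_⟩
    · have : IsAffineOpen ((h ≫ f) ⁻¹ᵁ U.1) := U.2.preimage (h ≫ f)
      exact this
    · rw [morphismRestrict_appTop]
      have h1 : IsIso (h.app (f ⁻¹ᵁ U.1)) :=
        (hcomp U.1).1 (NatIso.isIso_app_of_isIso (AffAlg.algHom f (h ≫ f) h rfl) (Opposite.op U.1))
      have h2 : IsIso (h.app ((f ⁻¹ᵁ U.1).ι ''ᵁ ⊤)) := by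
        rw [Scheme.Hom.app_eq h (Scheme.Opens.ι_image_top (f ⁻¹ᵁ U.1))]
        infer_instance
      have h3 : IsIso (Y.presheaf.map
          (eqToHom (image_morphismRestrict_preimage h (f ⁻¹ᵁ U.1) ⊤)).op) := inferInstance
      exact @IsIso.comp_isIso _ _ _ _ _ _ _ h2 h3

end Groth.Agent.S3570
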