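import Groth.Statements.S3578
import Mathlib.Topology.Irreducible

set_option autoImplicit false
universe u
open EGA2

namespace Groth.Agent.S3578

theorem result {R A : Type u} [CommRing R] [CommRing A] [Algebra R A] (𝒜 : ℕ → Submodule R A) [GradedAlgebra 𝒜]
    (Z : Set (ProjectiveSpectrum 𝒜)) (hZ : IsClosed Z) :
    IsIrreducible Z ↔
      (¬ (HomogeneousIdeal.irrelevant 𝒜).toIdeal ≤ (ProjectiveSpectrum.vanishingIdeal Z).toIdeal ∧
        ∀ f ∈ (HomogeneousIdeal.irrelevant 𝒜).toIdeal, ∀ g ∈ (HomogeneousIdeal.irrelevant 𝒜).toIdeal,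
          f * g ∈ (ProjectiveSpectrum.vanishingIdeal Z).toIdeal →
            f ∈ (ProjectiveSpectrum.vanishingIdeal Z).toIdeal ∨ g ∈ (ProjectiveSpectrum.vanishingIdeal Z).toIdeal) := by
  have hmem : ∀ f : A, f ∈ (ProjectiveSpectrum.vanishingIdeal Z).toIdeal ↔
      ∀ x : ProjectiveSpectrum 𝒜, x ∈ Z → f ∈ x.asHomogeneousIdeal.toIdeal := by
    intro f
    rw [HomogeneousIdeal.mem_iff, ProjectiveSpectrum.mem_vanishingIdeal]
    simp only [HomogeneousIdeal.mem_iff]
  have hrel : ∀ x : ProjectiveSpectrum 𝒜, ∃ h ∈ (HomogeneousIdeal.irrelevant 𝒜).toIdeal,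
      h ∉ x.asHomogeneousIdeal.toIdeal := by
    intro x
    have := x.not_irrelevant_le
    by_contra hcon
    push Not at hcon
    exact this (fun a ha => hcon a ha)
  constructor
  · rintro ⟨⟨p, hp⟩, hpre⟩
    refine ⟨fun hle => ?_, fun f _ g _ hfg => ?_⟩
    · obtain ⟨h, hh, hhp⟩ := hrel p
      exact hhp ((hmem h).mp (hle hh) p hp)
    · rw [isPreirreducible_iff_isClosed_union_isClosed] at hpre
      have hsub : Z ⊆ ProjectiveSpectrum.zeroLocus 𝒜 {f} ∪ ProjectiveSpectrum.zeroLocus 𝒜 {g} := by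
        intro x hx
        have := (hmem _).mp hfg x hx
        rcases (x.isPrime.mem_or_mem this) with h | h
        · left; simpa using h
        · right; simpa using h
      rcases hpre _ _ (ProjectiveSpectrum.isClosed_zeroLocus 𝒜 _)
        (ProjectiveSpectrum.isClosed_zeroLocus 𝒜 _) hsub with h | h
      · left
        rw [hmem]
        intro x hx
        simpa using h hx
      · right
        rw [hmem]
        intro x hx
        simpa using h hx
  · rintro ⟨hne, hprime⟩
    refine ⟨?_, ?_⟩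
    · by_contra hempty
      rw [Set.not_nonempty_iff_eq_empty] at hempty
      apply hne
      intro a _
      rw [hmem]
      intro x hx
      rw [hempty] at hx
      exact absurd hx (Set.notMem_empty x)
    · rw [isPreirreducible_iff_isClosed_union_isClosed]
      intro z₁ z₂ hz₁ hz₂ hsub
      by_contra hcon
      push Not at hcon
      obtain ⟨hn1, hn2⟩ := hcon
      obtain ⟨s₁, rfl⟩ := (ProjectiveSpectrum.isClosed_iff_zeroLocus 𝒜 z₁).mp hz₁
      obtain ⟨s₂, rfl⟩ := (ProjectiveSpectrum.isClosed_iff_zeroLocus 𝒜 z₂).mp hz₂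
      obtain ⟨p₁, hp₁Z, hp₁⟩ := Set.not_subset.mp hn1
      obtain ⟨p₂, hp₂Z, hp₂⟩ := Set.not_subset.mp hn2
      rw [ProjectiveSpectrum.mem_zeroLocus, Set.not_subset] at hp₁ hp₂
      obtain ⟨f₁, hf₁s, hf₁p⟩ := hp₁
      obtain ⟨f₂, hf₂s, hf₂p⟩ := hp₂
      obtain ⟨h₁, hh₁, hh₁p⟩ := hrel p₁
      obtain ⟨h₂, hh₂, hh₂p⟩ := hrel p₂
      have hf₁p' : f₁ ∉ p₁.asHomogeneousIdeal.toIdeal := hf₁p
      have hf₂p' : f₂ ∉ p₂.asHomogeneousIdeal.toIdeal := hf₂p
      have hprod : (f₁ * h₁) * (f₂ * h₂) ∈ (ProjectiveSpectrum.vanishingIdeal Z).toIdeal := by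
        rw [hmem]
        intro x hx
        rcases hsub hx with hx1 | hx2
        · have : f₁ ∈ x.asHomogeneousIdeal.toIdeal := hx1 hf₁s
          exact Ideal.mul_mem_right _ _ (Ideal.mul_mem_right _ _ this)
        · have : f₂ ∈ x.asHomogeneousIdeal.toIdeal := hx2 hf₂s
          exact Ideal.mul_mem_left _ _ (Ideal.mul_mem_right _ _ this)
      rcases hprime _ (Ideal.mul_mem_left _ _ hh₁) _ (Ideal.mul_mem_left _ _ hh₂) hprod with h | h
      · rcases p₁.isPrime.mem_or_mem ((hmem _).mp h p₁ hp₁Z) with h' | h'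
        · exact hf₁p' h'
        · exact hh₁p h'
      · rcases p₂.isPrime.mem_or_mem ((hmem _).mp h p₂ hp₂Z) with h' | h'
        · exact hf₂p' h'
        · exact hh₂p h'

end Groth.Agent.S3578
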