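import Groth.Statements.S3582
import Mathlib.AlgebraicGeometry.ProjectiveSpectrum.Basic
import Mathlib.AlgebraicGeometry.Morphisms.UnderlyingMap

set_option autoImplicit false
universe u
open CategoryTheory CategoryTheory.Limits AlgebraicGeometry
open EGA2

namespace Groth.Agent.S3582

open HomogeneousLocalization in
set_option backward.isDefEq.respectTransparency.types false in
theorem surjective_toSpec (r : ℕ) (R : Type u) [CommRing R] :
    Surjective (CohB1.ProjSpace.toSpec r R) := by
  have hdeg : (MvPolynomial.X 0 : MvPolynomial (Fin (r + 1)) R) ∈ CohB1.polyGrading r R 1 :=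
    MvPolynomial.isHomogeneous_X R 0
  let ev : MvPolynomial (Fin (r + 1)) R →+* R := MvPolynomial.eval (fun _ => (1 : R))
  have hev : IsUnit (ev (MvPolynomial.X 0)) := by simp [ev]
  let ρ : Away (CohB1.polyGrading r R) (MvPolynomial.X 0) →+* R :=
    (IsLocalization.Away.lift (S := Localization.Away (MvPolynomial.X 0 : MvPolynomial (Fin (r + 1)) R))
      (MvPolynomial.X 0) hev).comp
      (algebraMap (Away (CohB1.polyGrading r R) (MvPolynomial.X 0))
        (Localization.Away (MvPolynomial.X 0 : MvPolynomial (Fin (r + 1)) R)))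
  let θ : R →+* Away (CohB1.polyGrading r R) (MvPolynomial.X 0) :=
    (fromZeroRingHom (CohB1.polyGrading r R) _).comp (algebraMap R (CohB1.polyGrading r R 0))
  have hρθ : ρ.comp θ = RingHom.id R := by
    ext a
    show IsLocalization.Away.lift (MvPolynomial.X 0) hev
      ((fromZeroRingHom (CohB1.polyGrading r R) _ (algebraMap R (CohB1.polyGrading r R 0) a)).val) = a
    have : (fromZeroRingHom (CohB1.polyGrading r R)
        (Submonoid.powers (MvPolynomial.X 0 : MvPolynomial (Fin (r + 1)) R))
        (algebraMap R (CohB1.polyGrading r R 0) a)).val =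
        algebraMap (MvPolynomial (Fin (r + 1)) R) _ (MvPolynomial.C a) := by
      simp [fromZeroRingHom, Localization.mk_one_eq_algebraMap]
      rfl
    rw [this, IsLocalization.Away.lift_eq]
    simp [ev]
  have hcomp : Proj.awayι (CohB1.polyGrading r R) (MvPolynomial.X 0) hdeg Nat.one_pos ≫
      (Proj.toSpecZero (CohB1.polyGrading r R) ≫
        Spec.map (CommRingCat.ofHom (algebraMap R (CohB1.polyGrading r R 0)))) =
      Spec.map (CommRingCat.ofHom θ) := by
    rw [Proj.awayι_toSpecZero_assoc, ← Spec.map_comp]
    rfl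
  have hsurj : Surjective (Spec.map (CommRingCat.ofHom θ)) := by
    refine ⟨fun p => ⟨(Spec.map (CommRingCat.ofHom ρ)) p, ?_⟩⟩
    rw [← Scheme.Hom.comp_apply, ← Spec.map_comp, ← CommRingCat.ofHom_comp, hρθ]
    simp
  rw [← hcomp] at hsurj
  exact Surjective.of_comp (Proj.awayι (CohB1.polyGrading r R) (MvPolynomial.X 0) hdeg Nat.one_pos)
    (Proj.toSpecZero (CohB1.polyGrading r R) ≫
        Spec.map (CommRingCat.ofHom (algebraMap R (CohB1.polyGrading r R 0))))

/-- For every scheme Y and every r ≥ 0 the structure morphism from projective r-space over Y to Y is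
surjective. -/
theorem result (r : ℕ) (Y : Scheme.{u}) :
    Surjective (CohB1.ProjSpaceOver.toBase r Y) := by
  haveI := surjective_toSpec r (ULift.{u} ℤ)
  exact MorphismProperty.pullback_snd (P := @Surjective) _ _ inferInstance

end Groth.Agent.S3582
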