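import Groth.Statements.S3583
-- import your own Groth.Agent.* helpers here
import Mathlib.AlgebraicGeometry.Restrict

set_option autoImplicit false
universe u
open CategoryTheory AlgebraicGeometry Opposite
open EGA2

namespace Groth.Agent.S3583

theorem surj_comp_iso_left {A B C : CommRingCat.{u}} (e : A ⟶ B) [IsIso e] (φ : B ⟶ C)
    (h : Function.Surjective φ.hom) : Function.Surjective (e ≫ φ).hom := by
  rw [CommRingCat.hom_comp, RingHom.coe_comp]
  exact h.comp (ConcreteCategory.bijective_of_isIso e).2

theorem surj_comp_iso_right {A B C : CommRingCat.{u}} (φ : A ⟶ B) (e : B ⟶ C) [IsIso e]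
    (h : Function.Surjective φ.hom) : Function.Surjective (φ ≫ e).hom := by
  rw [CommRingCat.hom_comp, RingHom.coe_comp]
  exact (ConcreteCategory.bijective_of_isIso e).2.comp h

/-- In the form stated after its proof: let f : X → S and f' : X' → S be affine morphisms and h : X' → X
an S-morphism such that the O_S-algebra homomorphism A(h) : f_*O_X → f'_*O_{X'} is surjective (as a
map of quasi-coherent O_S-modules, i.e. on sections over every affine open of S). Then h is a closed
immersion. -/
theorem result {X X' S : Scheme.{u}} (f : X ⟶ S) [IsAffineHom f]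
    (f' : X' ⟶ S) [IsAffineHom f'] (h : X' ⟶ X) (w : h ≫ f = f')
    (hsurj : ∀ U : S.affineOpens, Function.Surjective ((AffAlg.algHom f f' h w).app (op U.1)).hom) :
    IsClosedImmersion h := by
  subst w
  have hsup : ⨆ U : S.affineOpens, ((⟨f ⁻¹ᵁ U.1, U.2.preimage f⟩ : X.affineOpens) : X.Opens) = ⊤ :=
    f.iSup_preimage_eq_top (iSup_affineOpens_eq_top S)
  rw [HasAffineProperty.iff_of_iSup_eq_top (P := @IsClosedImmersion)
      (fun U : S.affineOpens => (⟨f ⁻¹ᵁ U.1, U.2.preimage f⟩ : X.affineOpens)) hsup]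
  intro U
  refine ⟨?_, ?_⟩
  · have : IsAffineOpen ((h ≫ f) ⁻¹ᵁ U.1) := U.2.preimage (h ≫ f)
    exact this
  · rw [morphismRestrict_appTop]
    have h1 : Function.Surjective (h.app (f ⁻¹ᵁ U.1)).hom := by
      have e : (AffAlg.algHom f (h ≫ f) h rfl).app (Opposite.op U.1) = h.app (f ⁻¹ᵁ U.1) := by
        simp only [AffAlg.algHom]
        rfl
      have := hsurj U
      rw [e] at this
      exact this
    have h2 : Function.Surjective (h.app ((f ⁻¹ᵁ U.1).ι ''ᵁ ⊤)).hom := by
      rw [Scheme.Hom.app_eq h (Scheme.Opens.ι_image_top (f ⁻¹ᵁ U.1))]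
      exact surj_comp_iso_left _ _ (surj_comp_iso_right _ _ h1)
    have h3 : IsIso (X'.presheaf.map
        (eqToHom (image_morphismRestrict_preimage h (f ⁻¹ᵁ U.1) ⊤)).op) := inferInstance
    exact @surj_comp_iso_right _ _ _ _ _ h3 h2

end Groth.Agent.S3583
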