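import Groth.Statements.S3584
import Mathlib
import Groth.Agent.Lib.Helper60.Twist
-- import your own Groth.Agent.* helpers here

set_option autoImplicit false
universe u
open CategoryTheory CategoryTheory.Limits AlgebraicGeometry
open EGA2

namespace Groth.Agent.S3584

/-- Let S be a graded ring whose irrelevant ideal S_+ is generated by finitely many elements of degree
one. Then the twisting sheaf O_X(1) on X = Proj S is ample (X is quasi-compact and covered by the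
affine non-vanishing loci of sections of the positive powers of O_X(1)). -/
theorem result {R A : Type u} [CommRing R] [CommRing A] [Algebra R A] (𝒜 : ℕ → Submodule R A) [GradedAlgebra 𝒜]
    (s : Finset A) (hs1 : ∀ f ∈ s, f ∈ 𝒜 1)
    (hs : (HomogeneousIdeal.irrelevant 𝒜).toIdeal = Ideal.span (s : Set A)) :
    CohB1.IsAmple (Twist.twist 𝒜 1) := by
  classical
  have hex : ∀ x : ProjectiveSpectrum 𝒜, ∃ f ∈ s, f ∉ x.asHomogeneousIdeal := by
    intro x
    by_contra hcon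
    push Not at hcon
    apply x.not_irrelevant_le
    change (HomogeneousIdeal.irrelevant 𝒜).toIdeal ≤ x.asHomogeneousIdeal.toIdeal
    rw [hs, Ideal.span_le]
    exact fun f hf => hcon f hf
  have hgens : ∀ (x : Proj 𝒜) (k : ℤ), ∃ U : (Proj 𝒜).Opens, x ∈ U ∧
      ∃ (i j : ℕ) (g : 𝒜 i) (h : 𝒜 j), (i : ℤ) = j + k ∧
        ∀ y ∈ U, g.1 ∉ y.asHomogeneousIdeal ∧ h.1 ∉ y.asHomogeneousIdeal := by
    intro x k
    obtain ⟨f, hfs, hf⟩ := hex x
    obtain ⟨i, j, g, h, hij, hgh⟩ := Groth.Agent.Lib.Helper60.TwistLib.exists_gens_pow 𝒜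
      (⟨f, hs1 f hfs⟩ : 𝒜 1) k
    exact ⟨Proj.basicOpen 𝒜 f, hf, i, j, g, h, by simpa using hij,
      fun y hy => hgh y ((Proj.mem_basicOpen 𝒜 f y).mp hy)⟩
  refine ⟨?_, ?_, ?_⟩
  · intro y
    obtain ⟨U, hyU, i, j, g, h, hij, hU⟩ := hgens y 1
    refine ⟨U, hyU, ?_⟩
    exact Groth.Agent.Lib.Helper60.TwistLib.twist_restrict_iso 𝒜 U.ι 1 g h hij
      (fun z => (hU z.1 z.2).1) (fun z => (hU z.1 z.2).2)
  · have hcov : ⨆ f : s, Proj.basicOpen 𝒜 (f : A) = ⊤ :=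
      Proj.iSup_basicOpen_eq_top 𝒜 (fun f : s => (f : A)) (by rw [hs]; simp)
    refine ⟨?_⟩
    have h1 : (Set.univ : Set (Proj 𝒜)) = ⋃ f : s, (Proj.basicOpen 𝒜 (f : A) : Set (Proj 𝒜)) := by
      rw [← TopologicalSpace.Opens.coe_iSup, hcov]; rfl
    rw [h1]
    exact isCompact_iUnion (fun f =>
      (Proj.isAffineOpen_basicOpen 𝒜 (f : A) (hs1 f f.2) one_pos).isCompact)
  · intro x
    obtain ⟨f, hfs, hf⟩ := hex x
    obtain ⟨e⟩ := Groth.Agent.Lib.Helper60.TensorLib.nonempty_tensorMod_unit_left (Twist.twist 𝒜 1)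
    let φ : Coh.structureModule (Proj 𝒜) ⟶ Twist.twist 𝒜 1 :=
      Groth.Agent.Lib.Helper60.TwistLib.numHom 𝒜 (⟨f, hs1 f hfs⟩ : 𝒜 1)
    have key : CohB1.genLocus (CohB1.tensorPow (Twist.twist 𝒜 1) (0 + 1)) (φ ≫ e.inv) =
        Proj.basicOpen 𝒜 f := by
      have hiff : ∀ U : (Proj 𝒜).Opens,
          IsIso ((Scheme.Modules.restrictFunctor U.ι).map (φ ≫ e.inv)) ↔ U ≤ Proj.basicOpen 𝒜 f := by
        intro U
        rw [Functor.map_comp, isIso_comp_right_iff]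
        refine Groth.Agent.Lib.Helper60.TwistLib.isIso_restrict_numHom_iff 𝒜 (⟨f, hs1 f hfs⟩ : 𝒜 1) U ?_
        intro y hy
        obtain ⟨g, hgs, hg⟩ := hex y
        exact ⟨1, 0, ⟨g, hs1 g hgs⟩, ⟨1, SetLike.GradedOne.one_mem⟩, by simp, hg,
          Groth.Agent.Lib.Helper60.TwistLib.one_notMem 𝒜 y⟩
      apply le_antisymm
      · exact sSup_le (fun U hU => (hiff U).mp hU)
      · exact le_sSup ((hiff _).mpr le_rfl)
    refine ⟨0, φ ≫ e.inv, ?_, ?_⟩
    · rw [key]; exact hf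
    · rw [key]; exact Proj.isAffineOpen_basicOpen 𝒜 f (hs1 f hfs) one_pos

end Groth.Agent.S3584
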