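import Groth.Statements.S3587
import Mathlib.RingTheory.GradedAlgebra.Radical
import Mathlib.RingTheory.GradedAlgebra.Homogeneous.Ideal

set_option autoImplicit false
universe u
open CategoryTheory AlgebraicGeometry Opposite TopologicalSpace
open EGA2

namespace Groth.Agent.S3587

/-- Let S be a graded ring, M a graded S-module, f a homogeneous element of degree d > 0 and m a
homogeneous element of M. If the fraction m/f^k vanishes in the localized module M_x for every point
x of D_+(f), then f^N m = 0 for some N (so m/f^k = 0 in M_(f)); this is the injectivity half of the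
identification of the sections of M~ over D_+(f) with M_(f). -/
theorem result {R A : Type u} [CommRing R] [CommRing A] [Algebra R A] (𝒜 : ℕ → Submodule R A) [GradedAlgebra 𝒜]
    {M : Type u} [AddCommGroup M] [Module R M] [Module A M] [IsScalarTower R A M] (ℳ : ℕ → Submodule R M) [DirectSum.Decomposition ℳ] [SetLike.GradedSMul 𝒜 ℳ] {d : ℕ} (hd : 0 < d) {f : A} (hf : f ∈ 𝒜 d) (k i : ℕ) (m : ℳ i)
    (h : ∀ x : ProjectiveSpectrum.basicOpen 𝒜 f,
      (LocalizedModule.mk m.1 ⟨f ^ k, fun h => (ProjectiveSpectrum.mem_basicOpen 𝒜 f x.1).mp x.2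
        (x.1.isPrime.mem_of_pow_mem k h)⟩ : GrTilde.LocMod 𝒜 (M := M) x.1) = 0) :
    ∃ N : ℕ, f ^ N • m.1 = 0 := by
  classical
  let I : Ideal A := LinearMap.ker (LinearMap.toSpanSingleton A M m.1)
  have hImem : ∀ a, a ∈ I ↔ a • m.1 = 0 := fun a => by
    simp [I, LinearMap.mem_ker]
  have hIhom : I.IsHomogeneous 𝒜 := by
    intro j a ha
    rw [hImem] at ha ⊢
    have key : (DirectSum.decompose ℳ (a • m.1) (j + i) : M) =
        (DirectSum.decompose 𝒜 a j : A) • m.1 := by
      conv_lhs => rw [← DirectSum.sum_support_decompose 𝒜 a, Finset.sum_smul]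
      rw [DirectSum.decompose_sum, DFinsupp.finset_sum_apply, AddSubmonoidClass.coe_finset_sum]
      have hterm : ∀ j' : ℕ, ((DirectSum.decompose ℳ ((DirectSum.decompose 𝒜 a j' : A) • m.1))
          (j + i) : M) = if j' = j then (DirectSum.decompose 𝒜 a j' : A) • m.1 else 0 := by
        intro j'
        have hmem : (DirectSum.decompose 𝒜 a j' : A) • m.1 ∈ ℳ (j' + i) :=
          SetLike.GradedSMul.smul_mem (DirectSum.decompose 𝒜 a j').2 m.2
        split_ifs with hj
        · subst hj
          rw [DirectSum.decompose_of_mem_same ℳ hmem]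
        · rw [DirectSum.decompose_of_mem_ne ℳ hmem (by omega)]
      simp only [hterm]
      rw [Finset.sum_ite_eq']
      split_ifs with hj
      · rfl
      · have : (DirectSum.decompose 𝒜 a j : A) = 0 := by
          simpa [DFinsupp.mem_support_iff] using hj
        rw [this, zero_smul]
    rw [← key, ha, DirectSum.decompose_zero]
    rfl
  by_contra hN
  push_neg at hN
  have hfI : f ∉ I.radical := by
    rintro ⟨N, hN'⟩
    exact hN N ((hImem _).1 hN')
  have hfirr : f ∈ (HomogeneousIdeal.irrelevant 𝒜).toIdeal := by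
    show f ∈ HomogeneousIdeal.irrelevant 𝒜
    rw [HomogeneousIdeal.mem_irrelevant_iff, GradedRing.proj_apply,
      DirectSum.decompose_of_mem_ne 𝒜 hf (by omega)]
  rw [hIhom.radical_eq, Ideal.mem_sInf] at hfI
  push_neg at hfI
  obtain ⟨J, ⟨hJh, hIJ, hJp⟩, hfJ⟩ := hfI
  let x : ProjectiveSpectrum 𝒜 := ⟨⟨J, hJh⟩, hJp, fun hle => hfJ (hle hfirr)⟩
  have hxf : x ∈ ProjectiveSpectrum.basicOpen 𝒜 f :=
    (ProjectiveSpectrum.mem_basicOpen 𝒜 f x).2 hfJ
  have h0 := h ⟨x, hxf⟩
  rw [← LocalizedModule.zero_mk 1, LocalizedModule.mk_eq] at h0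
  obtain ⟨u, hu⟩ := h0
  rw [smul_zero, smul_zero, one_smul] at hu
  exact u.2 (hIJ ((hImem _).2 hu))

end Groth.Agent.S3587
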