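import Groth.Statements.S3586
import Groth.Agent.S3587
import Groth.Agent.Lib.Helper55.ProjGlue

set_option autoImplicit false
universe u
open CategoryTheory AlgebraicGeometry Opposite TopologicalSpace
open EGA2

namespace Groth.Agent.S3586

section

variable {R A : Type u} [CommRing R] [CommRing A] [Algebra R A] (𝒜 : ℕ → Submodule R A)
  [GradedAlgebra 𝒜]
  {M : Type u} [AddCommGroup M] [Module R M] [Module A M] [IsScalarTower R A M]
  (ℳ : ℕ → Submodule R M) [DirectSum.Decomposition ℳ] [SetLike.GradedSMul 𝒜 ℳ]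

lemma local_form (n : ℤ) {d : ℕ} (hd : 0 < d) {f : A} (hf : f ∈ 𝒜 d)
    (s : GrTilde.sect 𝒜 ℳ n (op (ProjectiveSpectrum.basicOpen 𝒜 f)))
    (x : ProjectiveSpectrum.basicOpen 𝒜 f) :
    ∃ (e i : ℕ) (g : A) (m : M), 0 < e ∧ g ∈ 𝒜 e ∧ m ∈ ℳ i ∧ (i : ℤ) = e + n ∧
      g ∉ x.1.asHomogeneousIdeal ∧
      (∀ y : ProjectiveSpectrum 𝒜, g ∉ y.asHomogeneousIdeal → f ∉ y.asHomogeneousIdeal) ∧
      ∀ (y : ProjectiveSpectrum.basicOpen 𝒜 f) (hy : g ∉ y.1.asHomogeneousIdeal),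
        ((s.1 y : GrTilde.tildeAt 𝒜 ℳ n y.1) : GrTilde.LocMod 𝒜 (M := M) y.1) =
          LocalizedModule.mk m ⟨g, hy⟩ := by
  obtain ⟨V, hxV, iV, i₀, j₀, m₀, t, t_nin, hdeg, hval⟩ := s.2 x
  obtain ⟨_, ⟨r, rfl⟩, hxr, hrV⟩ :=
    (ProjectiveSpectrum.isTopologicalBasis_basic_opens 𝒜).exists_subset_of_mem_open hxV V.2
  have hxr' : x.1 ∈ ProjectiveSpectrum.basicOpen 𝒜 r := hxr
  rw [ProjectiveSpectrum.basicOpen_eq_union_of_projection, Opens.mem_iSup] at hxr'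
  obtain ⟨k, hk⟩ := hxr'
  set r' : A := GradedRing.proj 𝒜 k r with hr'
  have hr'mem : r' ∈ 𝒜 k := by
    rw [hr', GradedRing.proj_apply]
    exact SetLike.coe_mem _
  have hr'x : r' ∉ x.1.asHomogeneousIdeal := (ProjectiveSpectrum.mem_basicOpen 𝒜 _ _).1 hk
  have hr'V : ∀ y : ProjectiveSpectrum 𝒜, r' ∉ y.asHomogeneousIdeal → y ∈ V := by
    intro y hy
    apply hrV
    have : y ∈ ProjectiveSpectrum.basicOpen 𝒜 r := by
      rw [ProjectiveSpectrum.basicOpen_eq_union_of_projection, Opens.mem_iSup]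
      exact ⟨k, (ProjectiveSpectrum.mem_basicOpen 𝒜 _ _).2 hy⟩
    exact this
  set P : ℕ := 1 + n.natAbs with hP
  have hfP : f ^ P ∈ 𝒜 (P * d) := Lib.Helper55.ProjGlue.pow_mem_graded' 𝒜 hf P
  have hc : r' * f ^ P ∈ 𝒜 (k + P * d) := SetLike.mul_mem_graded hr'mem hfP
  have hg : r' * f ^ P * t.1 ∈ 𝒜 (k + P * d + j₀) := SetLike.mul_mem_graded hc t.2
  have hfx : f ∉ x.1.asHomogeneousIdeal := (ProjectiveSpectrum.mem_basicOpen 𝒜 _ _).1 x.2
  have hgx : r' * f ^ P * t.1 ∉ x.1.asHomogeneousIdeal := by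
    intro h
    rcases x.1.isPrime.mem_or_mem h with h | h
    · rcases x.1.isPrime.mem_or_mem h with h | h
      · exact hr'x h
      · exact hfx (x.1.isPrime.mem_of_pow_mem _ h)
    · exact t_nin ⟨x.1, hxV⟩ h
  have hgf : ∀ y : ProjectiveSpectrum 𝒜, r' * f ^ P * t.1 ∉ y.asHomogeneousIdeal →
      f ∉ y.asHomogeneousIdeal := by
    intro y hy hfy
    apply hy
    apply Ideal.mul_mem_right
    apply Ideal.mul_mem_left
    rw [hP, pow_add, pow_one]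
    exact Ideal.mul_mem_right _ _ hfy
  have hgr : ∀ y : ProjectiveSpectrum 𝒜, r' * f ^ P * t.1 ∉ y.asHomogeneousIdeal →
      r' * f ^ P ∉ y.asHomogeneousIdeal := fun y hy h => hy (Ideal.mul_mem_right _ _ h)
  have hgV : ∀ y : ProjectiveSpectrum 𝒜, r' * f ^ P * t.1 ∉ y.asHomogeneousIdeal → y ∈ V :=
    fun y hy => hr'V y fun h => hy (Ideal.mul_mem_right _ _ (Ideal.mul_mem_right _ _ h))
  have hdpos : 0 < k + P * d + j₀ := by
    have : 0 < P * d := Nat.mul_pos (by omega) hd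
    omega
  rcases hdeg with hdeg | hdeg
  · refine ⟨k + P * d + j₀, k + P * d + i₀, r' * f ^ P * t.1, (r' * f ^ P) • m₀.1, hdpos, hg,
      SetLike.GradedSMul.smul_mem hc m₀.2, by push_cast; omega, hgx, hgf, fun y hy => ?_⟩
    have e1 := hval ⟨y.1, hgV y.1 hy⟩
    have e2 : (⟨r' * f ^ P * t.1, hy⟩ : y.1.asHomogeneousIdeal.toIdeal.primeCompl) =
        ⟨r' * f ^ P, hgr y.1 hy⟩ * ⟨t.1, t_nin ⟨y.1, hgV y.1 hy⟩⟩ := rfl
    rw [e2]
    exact e1.trans (LocalizedModule.mk_cancel_common_left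
      (⟨r' * f ^ P, hgr y.1 hy⟩ : y.1.asHomogeneousIdeal.toIdeal.primeCompl)
      ⟨t.1, t_nin ⟨y.1, hgV y.1 hy⟩⟩ m₀.1).symm
  · refine ⟨k + P * d + j₀, ((k + P * d + j₀ : ℕ) + n).toNat, r' * f ^ P * t.1, 0, hdpos, hg,
      zero_mem _, ?_, hgx, hgf, fun y hy => ?_⟩
    · have : n.natAbs ≤ P * d := by
        calc n.natAbs ≤ P := by omega
          _ ≤ P * d := Nat.le_mul_of_pos_right _ hd
      omega
    · have e1 := hval ⟨y.1, hgV y.1 hy⟩
      rw [LocalizedModule.zero_mk]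
      rw [hdeg, LocalizedModule.zero_mk] at e1
      exact e1

lemma main (n : ℤ) {d : ℕ} (hd : 0 < d) {f : A} (hf : f ∈ 𝒜 d)
    (s : GrTilde.sect 𝒜 ℳ n (op (ProjectiveSpectrum.basicOpen 𝒜 f))) :
    ∃ (k i : ℕ) (m : ℳ i), (i : ℤ) = k * d + n ∧
      ∀ x : ProjectiveSpectrum.basicOpen 𝒜 f,
        ((s.1 x : GrTilde.tildeAt 𝒜 ℳ n x.1) : GrTilde.LocMod 𝒜 (M := M) x.1) =
          (LocalizedModule.mk m.1 ⟨f ^ k, fun h => (ProjectiveSpectrum.mem_basicOpen 𝒜 f x.1).mp x.2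
            (x.1.isPrime.mem_of_pow_mem k h)⟩ : GrTilde.LocMod 𝒜 (M := M) x.1) := by
  classical
  choose e i g m he hg hm hdeg hgx hgf hval using local_form 𝒜 ℳ n hd hf s
  have hfrad : f ∈ (Ideal.span (Set.range g)).radical := by
    refine Lib.Helper55.ProjGlue.mem_radical_of_forall 𝒜 (Ideal.homogeneous_span 𝒜 _ ?_) hd hf ?_
    · rintro _ ⟨x, rfl⟩
      exact ⟨e x, hg x⟩
    · intro x hx hle
      exact hgx ⟨x, (ProjectiveSpectrum.mem_basicOpen 𝒜 _ _).2 hx⟩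
        (hle (Ideal.subset_span ⟨⟨x, (ProjectiveSpectrum.mem_basicOpen 𝒜 _ _).2 hx⟩, rfl⟩))
  obtain ⟨K, hK⟩ := hfrad
  obtain ⟨c, hc⟩ := Finsupp.mem_span_range_iff_exists_finsupp.1 hK
  have hcover : ∀ y : ProjectiveSpectrum 𝒜, f ∉ y.asHomogeneousIdeal →
      ∃ l : c.support, g l.1 ∉ y.asHomogeneousIdeal := by
    intro y hy
    by_contra hcon
    push Not at hcon
    apply hy
    apply y.isPrime.mem_of_pow_mem K
    rw [← hc]
    exact Ideal.sum_mem _ fun x hx => Ideal.mul_mem_left _ _ (hcon ⟨x, hx⟩)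
  have hcompat : ∀ l l' : c.support, ∃ N : ℕ,
      (g l.1 * g l'.1) ^ N • (g l'.1 • m l.1 - g l.1 • m l'.1) = 0 := by
    intro l l'
    have hw : g l'.1 • m l.1 - g l.1 • m l'.1 ∈ ℳ (e l'.1 + i l.1) := by
      refine Submodule.sub_mem _ (SetLike.GradedSMul.smul_mem (hg l'.1) (hm l.1)) ?_
      have h1 : e l'.1 + i l.1 = e l.1 + i l'.1 := by
        have := hdeg l.1
        have := hdeg l'.1
        omega
      rw [h1]
      exact SetLike.GradedSMul.smul_mem (hg l.1) (hm l'.1)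
    have hpos : 0 < e l.1 + e l'.1 := by
      have := he l.1
      omega
    have := Groth.Agent.S3587.result 𝒜 ℳ hpos (SetLike.mul_mem_graded (hg l.1) (hg l'.1)) 0
      (e l'.1 + i l.1) ⟨_, hw⟩ ?_
    · exact this
    · intro y
      have hy : g l.1 * g l'.1 ∉ y.1.asHomogeneousIdeal :=
        (ProjectiveSpectrum.mem_basicOpen 𝒜 _ _).1 y.2
      have hy1 : g l.1 ∉ y.1.asHomogeneousIdeal := fun h => hy (Ideal.mul_mem_right _ _ h)
      have hy2 : g l'.1 ∉ y.1.asHomogeneousIdeal := fun h => hy (Ideal.mul_mem_left _ _ h)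
      have hyf : y.1 ∈ ProjectiveSpectrum.basicOpen 𝒜 f :=
        (ProjectiveSpectrum.mem_basicOpen 𝒜 _ _).2 (hgf l.1 y.1 hy1)
      have e1 := hval l.1 ⟨y.1, hyf⟩ hy1
      have e2 := hval l'.1 ⟨y.1, hyf⟩ hy2
      rw [e1, LocalizedModule.mk_eq] at e2
      obtain ⟨u, hu⟩ := e2
      rw [← LocalizedModule.zero_mk 1, LocalizedModule.mk_eq]
      refine ⟨u, ?_⟩
      rw [smul_zero, smul_zero, one_smul]
      show u • (g l'.1 • m l.1 - g l.1 • m l'.1) = 0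
      rw [smul_sub, sub_eq_zero]
      exact hu
  obtain ⟨K', j, m', hm', hj, hfin⟩ := Lib.Helper55.ProjGlue.glue 𝒜 ℳ n hd hf
    (fun l : c.support => g l.1) (fun l => e l.1) (fun l => hg l.1) (fun l => m l.1)
    (fun l => i l.1) (fun l => hm l.1) (fun l => hdeg l.1) hcover hcompat
  refine ⟨K', j, ⟨m', hm'⟩, hj, fun x => ?_⟩
  obtain ⟨l, hl⟩ := hcover x.1 ((ProjectiveSpectrum.mem_basicOpen 𝒜 _ _).1 x.2)
  obtain ⟨P, hP⟩ := hfin l
  rw [hval l.1 x hl, LocalizedModule.mk_eq]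
  exact ⟨⟨g l.1 ^ P, fun h => hl (x.1.isPrime.mem_of_pow_mem P h)⟩, hP⟩

end

/-- Let S be a graded ring, M a graded S-module, f homogeneous of degree d > 0 and n an integer. Then
every section of the sheaf M(n)~ over D_+(f) is given on all of D_+(f) by one fraction m/f^k with m
homogeneous of degree kd + n. (This is the surjectivity half of the identification of the sections
of M(n)~ over D_+(f) with M(n)_(f).) -/
theorem result {R A : Type u} [CommRing R] [CommRing A] [Algebra R A] (𝒜 : ℕ → Submodule R A) [GradedAlgebra 𝒜]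
    {M : Type u} [AddCommGroup M] [Module R M] [Module A M] [IsScalarTower R A M] (ℳ : ℕ → Submodule R M) [DirectSum.Decomposition ℳ] [SetLike.GradedSMul 𝒜 ℳ] (n : ℤ) {d : ℕ} (hd : 0 < d) {f : A} (hf : f ∈ 𝒜 d)
    (s : GrTilde.sect 𝒜 ℳ n (op (ProjectiveSpectrum.basicOpen 𝒜 f))) :
    ∃ (k i : ℕ) (m : ℳ i), (i : ℤ) = k * d + n ∧
      ∀ x : ProjectiveSpectrum.basicOpen 𝒜 f,
        ((s.1 x : GrTilde.tildeAt 𝒜 ℳ n x.1) : GrTilde.LocMod 𝒜 (M := M) x.1) =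
          (LocalizedModule.mk m.1 ⟨f ^ k, fun h => (ProjectiveSpectrum.mem_basicOpen 𝒜 f x.1).mp x.2
            (x.1.isPrime.mem_of_pow_mem k h)⟩ : GrTilde.LocMod 𝒜 (M := M) x.1) :=
  main 𝒜 ℳ n hd hf s

end Groth.Agent.S3586
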