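import Groth.Statements.S3588
import Mathlib.AlgebraicGeometry.ProjectiveSpectrum.Functor
import Mathlib.AlgebraicGeometry.Morphisms.ClosedImmersion

set_option autoImplicit false
universe u
open CategoryTheory CategoryTheory.Limits AlgebraicGeometry
open EGA2

namespace Groth.Agent.S3588

section alg

variable {R A : Type u} [CommRing R] [CommRing A] [Algebra R A] (𝒜 : ℕ → Submodule R A)
  [GradedAlgebra 𝒜] {B : Type u} [CommRing B] [Algebra R B] (ℬ : ℕ → Submodule R B)
  [GradedAlgebra ℬ] (φ : 𝒜 →+*ᵍ ℬ)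

include 𝒜 in
lemma exists_homogeneous_preimage (hsurj : Function.Surjective φ) (k : ℕ) (b : B)
    (hb : b ∈ ℬ k) : ∃ a ∈ 𝒜 k, φ a = b := by
  obtain ⟨a', rfl⟩ := hsurj b
  refine ⟨DirectSum.decompose 𝒜 a' k, SetLike.coe_mem _, ?_⟩
  rw [GradedRingHom.map_directSumDecompose, DirectSum.decompose_of_mem_same ℬ hb]

lemma away_map_surjective (hsurj : Function.Surjective φ) {i : ℕ} (s : A) (hs : s ∈ 𝒜 i) :
    Function.Surjective (HomogeneousLocalization.Away.map φ s) := by
  intro y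
  obtain ⟨n, b, hb, rfl⟩ := HomogeneousLocalization.Away.mk_surjective ℬ (φ.map_mem hs) y
  obtain ⟨a, ha, rfl⟩ := exists_homogeneous_preimage 𝒜 ℬ φ hsurj _ b hb
  exact ⟨HomogeneousLocalization.Away.mk 𝒜 hs n a ha, by simp⟩

end alg

section geom

variable {R A : Type u} [CommRing R] [CommRing A] [Algebra R A] (𝒜 : ℕ → Submodule R A)
  [GradedAlgebra 𝒜] {B : Type u} [CommRing B] [Algebra R B] (ℬ : ℕ → Submodule R B)
  [GradedAlgebra ℬ] (φ : 𝒜 →+*ᵍ ℬ)

lemma isPullback_awayι (hφ : HomogeneousIdeal.irrelevant ℬ ≤ (HomogeneousIdeal.irrelevant 𝒜).map φ)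
    {i : ℕ} (hi : 0 < i) (s : A) (hs : s ∈ 𝒜 i) :
    IsPullback (Spec.map (CommRingCat.ofHom (HomogeneousLocalization.Away.map φ s)))
      (Proj.awayι ℬ (φ s) (φ.map_mem hs) hi) (Proj.awayι 𝒜 s hs hi) (Proj.map φ hφ) := by
  refine IsOpenImmersion.isPullback _ _ _ _ (Proj.awayι_comp_map φ hφ hi s hs) ?_
  rw [Proj.opensRange_awayι, Proj.opensRange_awayι, Proj.map_preimage_basicOpen]

lemma isClosedImmersion_map (hsurj : Function.Surjective φ)
    (hφ : HomogeneousIdeal.irrelevant ℬ ≤ (HomogeneousIdeal.irrelevant 𝒜).map φ) :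
    IsClosedImmersion (Proj.map φ hφ) := by
  refine IsZariskiLocalAtTarget.of_openCover (P := @IsClosedImmersion)
    (Proj.affineOpenCover 𝒜).openCover ?_
  rintro (i : Σ i : PNat, 𝒜 i)
  obtain ⟨n, ⟨s, hs⟩⟩ := i
  have hn : 0 < (n : ℕ) := n.pos
  have h := (isPullback_awayι 𝒜 ℬ φ hφ hn s hs).flip
  have hci : IsClosedImmersion
      (Spec.map (CommRingCat.ofHom (HomogeneousLocalization.Away.map φ s))) :=
    IsClosedImmersion.spec_of_surjective _ (away_map_surjective 𝒜 ℬ φ hsurj _ hs)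
  have e : pullback.snd (Proj.map φ hφ) (Proj.awayι 𝒜 s hs hn) =
      h.isoPullback.inv ≫
        Spec.map (CommRingCat.ofHom (HomogeneousLocalization.Away.map φ s)) := by
    rw [Iso.eq_inv_comp]
    exact h.isoPullback_hom_snd
  change IsClosedImmersion (pullback.snd (Proj.map φ hφ) (Proj.awayι 𝒜 s hs hn))
  rw [e]
  exact IsClosedImmersion.comp _ _

lemma map_base_surjective (hsurj : Function.Surjective φ)
    (hker : ∀ a : A, φ a = 0 ↔ a ∈ (HomogeneousIdeal.irrelevant 𝒜).toIdeal ∧ IsNilpotent a)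
    (hφ : HomogeneousIdeal.irrelevant ℬ ≤ (HomogeneousIdeal.irrelevant 𝒜).map φ) :
    Function.Surjective (Proj.map φ hφ).base := by
  intro p
  have hkp : RingHom.ker φ.toRingHom ≤ (p : ProjectiveSpectrum 𝒜).asHomogeneousIdeal.toIdeal := by
    intro a ha
    obtain ⟨_, ⟨k, hk⟩⟩ := (hker a).mp ha
    exact (p : ProjectiveSpectrum 𝒜).isPrime.mem_of_pow_mem k (hk ▸ zero_mem _)
  have hcomap : ((p : ProjectiveSpectrum 𝒜).asHomogeneousIdeal.map φ).comap φ =
      (p : ProjectiveSpectrum 𝒜).asHomogeneousIdeal := by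
    apply HomogeneousIdeal.toIdeal_injective
    rw [HomogeneousIdeal.toIdeal_comap, HomogeneousIdeal.toIdeal_map]
    exact (Ideal.comap_map_of_surjective' φ.toRingHom hsurj _).trans (sup_eq_left.mpr hkp)
  have hprime : ((p : ProjectiveSpectrum 𝒜).asHomogeneousIdeal.map φ).toIdeal.IsPrime := by
    rw [HomogeneousIdeal.toIdeal_map]
    exact Ideal.map_isPrime_of_surjective (f := φ.toRingHom) hsurj hkp
  have hrel : ¬ HomogeneousIdeal.irrelevant ℬ ≤ (p : ProjectiveSpectrum 𝒜).asHomogeneousIdeal.map φ := by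
    intro hle
    apply (p : ProjectiveSpectrum 𝒜).not_irrelevant_le
    rw [HomogeneousIdeal.irrelevant_le]
    intro i hi a ha
    have h1 : φ a ∈ HomogeneousIdeal.irrelevant ℬ :=
      HomogeneousIdeal.mem_irrelevant_of_mem ℬ hi (φ.map_mem ha)
    have h2 : a ∈ ((p : ProjectiveSpectrum 𝒜).asHomogeneousIdeal.map φ).comap φ := hle h1
    rw [hcomap] at h2
    exact h2
  exact ⟨(⟨_, hprime, hrel⟩ : ProjectiveSpectrum ℬ), ProjectiveSpectrum.ext hcomap⟩

include 𝒜 in
lemma eq_zero_of_mem_irrelevant_of_isNilpotent (hsurj : Function.Surjective φ)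
    (hker : ∀ a : A, φ a = 0 ↔ a ∈ (HomogeneousIdeal.irrelevant 𝒜).toIdeal ∧ IsNilpotent a)
    (b : B) (hb : b ∈ HomogeneousIdeal.irrelevant ℬ) (hnil : IsNilpotent b) : b = 0 := by
  obtain ⟨a', rfl⟩ := hsurj b
  obtain ⟨k, hk⟩ := hnil
  set a := a' - GradedRing.proj 𝒜 0 a' with ha_def
  have ha : a ∈ HomogeneousIdeal.irrelevant 𝒜 := by
    rw [HomogeneousIdeal.mem_irrelevant_iff, ha_def, map_sub]
    simp only [GradedRing.proj_apply]
    rw [DirectSum.decompose_of_mem_same 𝒜 (SetLike.coe_mem _), sub_self]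
  have hφa : φ a = φ a' := by
    rw [ha_def, map_sub, GradedRing.proj_apply, GradedRingHom.map_directSumDecompose]
    have : (DirectSum.decompose ℬ (φ a') 0 : B) = 0 := by
      have := (HomogeneousIdeal.mem_irrelevant_iff ℬ (φ a')).mp hb
      simpa [GradedRing.proj_apply] using this
    rw [this, sub_zero]
  rw [← hφa]
  have h1 : φ (a ^ (k + 1)) = 0 := by
    rw [map_pow, hφa, pow_succ, hk, zero_mul]
  obtain ⟨-, hnil'⟩ := (hker _).mp h1
  have hnil'' : IsNilpotent a := IsNilpotent.of_pow hnil'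
  exact (hker a).mpr ⟨ha, hnil''⟩

omit [Algebra R A] in
lemma isReduced_away (hred : ∀ b : B, b ∈ HomogeneousIdeal.irrelevant ℬ → IsNilpotent b → b = 0)
    {d : ℕ} (hd : 0 < d) (t : B) (ht : t ∈ ℬ d) :
    IsReduced (HomogeneousLocalization.Away ℬ t) := by
  refine ⟨fun x hx ↦ ?_⟩
  obtain ⟨k, hk⟩ := hx
  obtain ⟨n, b, hb, rfl⟩ := HomogeneousLocalization.Away.mk_surjective ℬ ht x
  have hk' := congr_arg HomogeneousLocalization.val hk
  rw [HomogeneousLocalization.val_pow, HomogeneousLocalization.Away.val_mk,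
    HomogeneousLocalization.val_zero, Localization.mk_pow, Localization.mk_eq_mk'_apply,
    IsLocalization.mk'_eq_zero_iff] at hk'
  obtain ⟨⟨_, m, rfl⟩, hm⟩ := hk'
  have hm' : t ^ m * b ^ k = 0 := hm
  have hc : t ^ (m + 1) * b = 0 := by
    apply hred
    · refine HomogeneousIdeal.mem_irrelevant_of_mem ℬ (i := (m + 1) • d + n • d) ?_
        (SetLike.mul_mem_graded (SetLike.pow_mem_graded _ ht) hb)
      have : 0 < (m + 1) * d := Nat.mul_pos (Nat.succ_pos m) hd
      simp only [smul_eq_mul]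
      omega
    · refine ⟨k + 1, ?_⟩
      rw [mul_pow, ← pow_mul, pow_succ (b), ← mul_assoc]
      have : t ^ ((m + 1) * (k + 1)) = t ^ (m * k + k + 1) * t ^ m := by
        rw [← pow_add]; congr 1; ring
      rw [this, mul_assoc (t ^ (m * k + k + 1)), hm', mul_zero, zero_mul]
  apply HomogeneousLocalization.val_injective
  rw [HomogeneousLocalization.Away.val_mk, HomogeneousLocalization.val_zero,
    Localization.mk_eq_mk'_apply, IsLocalization.mk'_eq_zero_iff]
  exact ⟨⟨t ^ (m + 1), m + 1, rfl⟩, hc⟩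

end geom

theorem result {R A : Type u} [CommRing R] [CommRing A] [Algebra R A] (𝒜 : ℕ → Submodule R A) [GradedAlgebra 𝒜]
    {B : Type u} [CommRing B] [Algebra R B] (ℬ : ℕ → Submodule R B) [GradedAlgebra ℬ]
    (φ : 𝒜 →+*ᵍ ℬ) (hsurj : Function.Surjective φ)
    (hker : ∀ a : A, φ a = 0 ↔ a ∈ (HomogeneousIdeal.irrelevant 𝒜).toIdeal ∧ IsNilpotent a)
    (hφ : HomogeneousIdeal.irrelevant ℬ ≤ (HomogeneousIdeal.irrelevant 𝒜).map φ) :
    IsClosedImmersion (Proj.map φ hφ) ∧ IsHomeomorph (Proj.map φ hφ).base ∧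
      AlgebraicGeometry.IsReduced (Proj ℬ) := by
  have hci : IsClosedImmersion (Proj.map φ hφ) := isClosedImmersion_map 𝒜 ℬ φ hsurj hφ
  refine ⟨hci, ?_, ?_⟩
  · rw [isHomeomorph_iff_isEmbedding_surjective]
    exact ⟨(Proj.map φ hφ).isClosedEmbedding.isEmbedding,
      map_base_surjective 𝒜 ℬ φ hsurj hker hφ⟩
  · have hred := eq_zero_of_mem_irrelevant_of_isNilpotent 𝒜 ℬ φ hsurj hker
    have : ∀ i : (Proj.affineOpenCover ℬ).openCover.I₀,
        AlgebraicGeometry.IsReduced ((Proj.affineOpenCover ℬ).openCover.X i) := by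
      rintro (i : Σ i : PNat, ℬ i)
      obtain ⟨n, ⟨t, ht⟩⟩ := i
      have : _root_.IsReduced (HomogeneousLocalization.Away ℬ t) :=
        isReduced_away ℬ hred n.pos t ht
      change AlgebraicGeometry.IsReduced
        (Spec (CommRingCat.of (HomogeneousLocalization.Away ℬ t)))
      infer_instance
    exact IsReduced.of_openCover (X := Proj ℬ) (Proj.affineOpenCover ℬ).openCover

end Groth.Agent.S3588
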