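import Groth.Statements.S3589
import Groth.Agent.Lib.Helper60.SecKer2
import Groth.Agent.S3573
-- import your own Groth.Agent.* helpers here

set_option autoImplicit false
universe u
open CategoryTheory CategoryTheory.Limits AlgebraicGeometry
open EGA2

namespace Groth.Agent.S3589

/-- For E = O_Y^{n+1} over an affine base Y = Spec R (injectivity of the correspondence): a section s of
projective n-space over R is determined by the submodule F(s) of R^{n+1} formed by the R-linear
relations among the pulled-back coordinates s^*T_0, …, s^*T_n in the global sections of s^*O(1). -/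
theorem result {R : Type u} [CommRing R] (n : ℕ)
    (s₁ s₂ : Spec (CommRingCat.of R) ⟶ CohB1.ProjSpace n R)
    (h₁ : s₁ ≫ CohB1.ProjSpace.toSpec n R = 𝟙 _) (h₂ : s₂ ≫ CohB1.ProjSpace.toSpec n R = 𝟙 _)
    (h : ProjUP.secKernel n R s₁ = ProjUP.secKernel n R s₂) :
    s₁ = s₂ := by
  open Groth.Agent.Lib.Helper60.SecKer Groth.Agent.Lib.Helper60.ProjUPLib in
  have key : ∀ (a b : Spec (CommRingCat.of R) ⟶ CohB1.ProjSpace n R),
      ProjUP.secKernel n R a = ProjUP.secKernel n R b →
      ∀ c : Fin (n + 1) → Γ(Spec (CommRingCat.of R), ⊤),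
        ∑ i, c i • tsec n a i = 0 → ∑ i, c i • tsec n b i = 0 := by
    intro a b hab c hc
    have hinv : ∀ i, (Scheme.ΓSpecIso (CommRingCat.of R)).inv.hom
        ((Scheme.ΓSpecIso (CommRingCat.of R)).hom.hom (c i)) = c i := fun i =>
      congrArg (fun φ => φ.hom (c i)) (Scheme.ΓSpecIso (CommRingCat.of R)).hom_inv_id
    have h1 : (fun i => (Scheme.ΓSpecIso (CommRingCat.of R)).hom.hom (c i)) ∈
        ProjUP.secKernel n R a := by
      rw [mem_secKernel_iff]
      simp only [hinv]
      exact hc
    rw [hab, mem_secKernel_iff] at h1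
    simp only [hinv] at h1
    exact h1
  have hq : ((Scheme.Modules.pullback s₁).obj (Twist.twistProjSpace n R 1)).IsQuasicoherent :=
    Groth.Agent.Lib.Helper35.Ample.isQuasicoherent_of_isInvertible
      (isInvertible_pullback_twist n s₁)
  obtain ⟨τ, hτ⟩ := exists_iso (tsec n s₁) (tsec n s₂) (key s₁ s₂ h)
    (exists_mem_genOpen_tsec n s₁) (exists_mem_genOpen_tsec n s₂)
  exact Groth.Agent.S3573.result n s₁ s₂ (h₁.trans h₂.symm) τ hτ

end Groth.Agent.S3589
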