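import Groth.Statements.S3593

set_option autoImplicit false
universe u
open CategoryTheory CategoryTheory.Limits AlgebraicGeometry
open EGA2

namespace Groth.Agent.S3593

section twist

variable {R B : Type u} [CommRing R] [CommRing B] [Algebra R B]
  (ℬ : ℕ → Submodule R B) [GradedAlgebra ℬ] {z : B} (hz : z ∈ ℬ 1)

noncomputable def twistAux (i : ℕ) : ℬ i →+ HomogeneousLocalization.Away ℬ z where
  toFun b := HomogeneousLocalization.Away.mk ℬ hz i b.1 (by simp [b.2])
  map_zero' := by
    apply HomogeneousLocalization.val_injective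
    simp [Localization.mk_zero]
  map_add' a b := by
    apply HomogeneousLocalization.val_injective
    simp [HomogeneousLocalization.val_add, Localization.add_mk_self]

lemma val_twistAux (i : ℕ) (b : ℬ i) :
    (twistAux ℬ hz i b).val = Localization.mk b.1 (⟨z ^ i, pow_mem (Submonoid.mem_powers z) i⟩ : Submonoid.powers z) := rfl

noncomputable def twist : B →+* HomogeneousLocalization.Away ℬ z :=
  (DirectSum.toSemiring (twistAux ℬ hz)
    (by
      apply HomogeneousLocalization.val_injective
      rw [val_twistAux, HomogeneousLocalization.val_one]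
      simp only [pow_zero]
      exact Localization.mk_one)
    (by
      intro i j ai aj
      apply HomogeneousLocalization.val_injective
      rw [HomogeneousLocalization.val_mul, val_twistAux, val_twistAux, val_twistAux,
        Localization.mk_mul]
      congr 1
      exact Subtype.ext (pow_add z i j))).comp (DirectSum.decomposeRingEquiv ℬ).toRingHom

lemma twist_apply_of_mem (n : ℕ) (b : B) (hb : b ∈ ℬ n) :
    twist ℬ hz b = HomogeneousLocalization.Away.mk ℬ hz n b (by simpa using hb) := by
  have h1 : DirectSum.decomposeRingEquiv ℬ b = DirectSum.of (fun i ↦ ℬ i) n ⟨b, hb⟩ :=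
    DirectSum.decompose_of_mem ℬ hb
  simp only [twist, RingHom.comp_apply, RingEquiv.toRingHom_eq_coe, RingEquiv.coe_toRingHom, h1,
    DirectSum.toSemiring_of]
  rfl

lemma val_twist_of_mem (n : ℕ) (b : B) (hb : b ∈ ℬ n) :
    (twist ℬ hz b).val = Localization.mk b (⟨z ^ n, pow_mem (Submonoid.mem_powers z) n⟩ : Submonoid.powers z) := by
  rw [twist_apply_of_mem ℬ hz n b hb]
  rfl

end twist

theorem result {R A : Type u} [CommRing R] [CommRing A] [Algebra R A] (𝒜 : ℕ → Submodule R A) [GradedAlgebra 𝒜]
    {B : Type u} [CommRing B] [Algebra R B] (ℬ : ℕ → Submodule R B) [GradedAlgebra ℬ]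
    [Algebra A B] [IsScalarTower R A B] (φ : 𝒜 →+*ᵍ ℬ) (hφ : ∀ a : A, φ a = algebraMap A B a)
    (z : B) (hz : z ∈ ℬ 1) (hhat : Function.Bijective (Polynomial.aeval (R := A) z)) :
    ∃ θ : A ≃+* HomogeneousLocalization.Away ℬ z,
      ∀ (n : ℕ) (a : A), a ∈ 𝒜 n → (θ a).val = Localization.mk (φ a) ⟨z ^ n, pow_mem (Submonoid.mem_powers z) n⟩ := by
  let e : Polynomial A ≃ₐ[A] B := AlgEquiv.ofBijective (Polynomial.aeval z) hhat
  have heX : e Polynomial.X = z := by simp [e]
  have heC : ∀ a : A, e (Polynomial.C a) = algebraMap A B a := by intro a; simp [e]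
  let ev : B →+* A := (Polynomial.eval₂RingHom (RingHom.id A) 1).comp (e.symm : B →+* Polynomial A)
  have hev_alg : ∀ a : A, ev (algebraMap A B a) = a := by
    intro a
    have : e.symm (algebraMap A B a) = Polynomial.C a := by
      rw [← heC, AlgEquiv.symm_apply_apply]
    simp [ev, this]
  have hev_z : ev z = 1 := by
    have : e.symm z = Polynomial.X := by rw [← heX, AlgEquiv.symm_apply_apply]
    simp [ev, this]
  let ev' : Localization.Away z →+* A :=
    IsLocalization.Away.lift z (g := ev) (by rw [hev_z]; exact isUnit_one)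
  have hev' : ∀ b, ev' (algebraMap B _ b) = ev b := fun b ↦ IsLocalization.Away.lift_eq z _ b
  have hmk : ∀ (b : B) (n : ℕ),
      ev' (Localization.mk b ⟨z ^ n, pow_mem (Submonoid.mem_powers z) n⟩) = ev b := by
    intro b n
    have h1 : Localization.mk b (⟨z ^ n, pow_mem (Submonoid.mem_powers z) n⟩ : Submonoid.powers z) *
        algebraMap B (Localization.Away z) (z ^ n) = algebraMap B _ b := by
      rw [← Localization.mk_one_eq_algebraMap, ← Localization.mk_one_eq_algebraMap,
        Localization.mk_mul, Localization.mk_eq_mk_iff, Localization.r_iff_exists]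
      exact ⟨1, by simp [mul_comm]⟩
    have h2 := congr_arg ev' h1
    rwa [map_mul, hev', hev', map_pow, hev_z, one_pow, mul_one] at h2
  let θ₁ : A →+* HomogeneousLocalization.Away ℬ z := (twist ℬ hz).comp (algebraMap A B)
  let ρ : HomogeneousLocalization.Away ℬ z →+* A :=
    ev'.comp (algebraMap (HomogeneousLocalization.Away ℬ z) (Localization.Away z))
  have hθval : ∀ (n : ℕ) (a : A), a ∈ 𝒜 n → (θ₁ a).val =
      Localization.mk (φ a) ⟨z ^ n, pow_mem (Submonoid.mem_powers z) n⟩ := by
    intro n a ha
    have hmem : φ a ∈ ℬ n := φ.map_mem ha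
    simp only [θ₁, RingHom.comp_apply, ← hφ]
    exact val_twist_of_mem ℬ hz n (φ a) hmem
  have h1 : ρ.comp θ₁ = RingHom.id A := by
    ext a
    induction a using DirectSum.Decomposition.inductionOn 𝒜 with
    | zero => simp
    | @homogeneous n a =>
      simp only [RingHom.comp_apply, RingHom.id_apply, ρ, HomogeneousLocalization.algebraMap_apply]
      rw [hθval n a a.2, hmk, hφ, hev_alg]
    | add a b ha hb => rw [map_add, ha, hb, map_add]
  have key2 : ∀ b : B, twist ℬ hz (algebraMap A B (ev b)) = twist ℬ hz b := by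
    intro b
    obtain ⟨p, rfl⟩ := e.surjective b
    have : (((twist ℬ hz).comp (algebraMap A B)).comp ev).comp (e : Polynomial A →+* B) =
        (twist ℬ hz).comp (e : Polynomial A →+* B) := by
      apply Polynomial.ringHom_ext
      · intro a
        simp only [RingHom.comp_apply, RingHom.coe_coe, heC, hev_alg]
      · simp only [RingHom.comp_apply, RingHom.coe_coe, heX, hev_z, map_one]
        rw [twist_apply_of_mem ℬ hz 1 z hz]
        apply HomogeneousLocalization.val_injective
        rw [HomogeneousLocalization.val_one, HomogeneousLocalization.Away.val_mk]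
        simp only [pow_one]
        exact (Localization.mk_self (⟨z, Submonoid.mem_powers z⟩ : Submonoid.powers z)).symm
    exact congr_arg (fun f : Polynomial A →+* _ ↦ f p) this
  have h2 : θ₁.comp ρ = RingHom.id _ := by
    ext y
    obtain ⟨n, b, hb, rfl⟩ := HomogeneousLocalization.Away.mk_surjective ℬ hz y
    simp only [RingHom.comp_apply, RingHom.id_apply, ρ, θ₁,
      HomogeneousLocalization.algebraMap_apply, HomogeneousLocalization.Away.val_mk]
    rw [hmk, key2, twist_apply_of_mem ℬ hz n b (by simpa using hb)]
    rfl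
  exact ⟨RingEquiv.ofRingHom θ₁ ρ h2 h1, hθval⟩

end Groth.Agent.S3593
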