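import Groth.Statements.S3597
import Groth.Agent.Lib.Helper3.PCone
-- import your own Groth.Agent.* helpers here

set_option autoImplicit false
universe u
open CategoryTheory CategoryTheory.Limits AlgebraicGeometry
open EGA2

namespace Groth.Agent.S3597

open Groth.Agent.Lib.Helper3.PConeLib TopologicalSpace

theorem aux_id {R A : Type u} [CommRing R] [CommRing A] [Algebra R A] (𝒜 : ℕ → Submodule R A) [GradedAlgebra 𝒜]
    (χ : 𝒜 →+*ᵍ 𝒜) (hχ : χ = .id 𝒜) {d : ℕ} (f : A) (hf : f ∈ 𝒜 d) (hd : 0 < d) :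
    Spec.map (CommRingCat.ofHom (HomogeneousLocalization.Away.map χ f)) ≫ Proj.awayι 𝒜 f hf hd =
      Proj.awayι 𝒜 (χ f) (χ.2 hf) hd := by
  subst hχ
  rw [HomogeneousLocalization.Away.map_id]
  exact (Spec.map_id _).symm ▸ Category.id_comp _

theorem aux_eq {R A : Type u} [CommRing R] [CommRing A] [Algebra R A] (𝒜 : ℕ → Submodule R A) [GradedAlgebra 𝒜]
    {d : ℕ} (f f' : A) (h : f' = f) (hf : f ∈ 𝒜 d) (hf' : f' ∈ 𝒜 d) (hd : 0 < d) :
    ∃ e : Spec (CommRingCat.of (HomogeneousLocalization.Away 𝒜 f)) ⟶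
        Spec (CommRingCat.of (HomogeneousLocalization.Away 𝒜 f')),
      e ≫ Proj.awayι 𝒜 f' hf' hd = Proj.awayι 𝒜 f hf hd := by
  subst h
  exact ⟨𝟙 _, Category.id_comp _⟩

/-- Let S be a graded algebra over a ring and Ŝ = S[z] the graded S-algebra obtained by adjoining a
variable z in degree 1 (an S-algebra with an element z of degree 1 such that S[T] → Ŝ, T ↦ z, is
bijective), with φ : S → Ŝ the graded structure map and ψ : Ŝ → S the graded retraction with ψ ∘ φ =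
id and ψ(z) = 0 (the irrelevant-ideal containment needed to define Proj(ψ) on all of X = Proj S
carried as a hypothesis). Let Ê ⊆ Ĉ = Proj Ŝ be the pointed projective cone, the open union of the
D_+(φ f) for f ∈ S homogeneous of positive degree, and p : Ê → X a morphism which on each chart
D_+(φ f) = Spec Ŝ_{(φ f)} is induced by S_{(f)} → Ŝ_{(φ f)} (the canonical retraction). Then p is
surjective, and the closed immersion j = Proj(ψ) : X → Ĉ factors through Ê with p ∘ j = id_X. -/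
theorem result {R A : Type u} [CommRing R] [CommRing A] [Algebra R A] (𝒜 : ℕ → Submodule R A) [GradedAlgebra 𝒜]
    {B : Type u} [CommRing B] [Algebra R B] (ℬ : ℕ → Submodule R B) [GradedAlgebra ℬ]
    [Algebra A B] [IsScalarTower R A B] (φ : 𝒜 →+*ᵍ ℬ) (hφ : ∀ a : A, φ a = algebraMap A B a)
    (z : B) (hz : z ∈ ℬ 1) (hhat : Function.Bijective (Polynomial.aeval (R := A) z))
    (ψ : ℬ →+*ᵍ 𝒜) (hψφ : ∀ a : A, ψ (φ a) = a) (hψz : ψ z = 0)
    (hψ : HomogeneousIdeal.irrelevant 𝒜 ≤ (HomogeneousIdeal.irrelevant ℬ).map ψ)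
    (p : (PCone.dom φ : Scheme.{u}) ⟶ Proj 𝒜) (hp : ∀ (d : ℕ) (f : A) (hd : 0 < d) (hf : f ∈ 𝒜 d),
        PCone.chart φ hf hd ≫ p =
          Spec.map (CommRingCat.ofHom (HomogeneousLocalization.Away.map φ f)) ≫ Proj.awayι 𝒜 f hf hd) :
    Surjective p ∧ ∃ j : Proj 𝒜 ⟶ (PCone.dom φ : Scheme.{u}), j ≫ (PCone.dom φ).ι = Proj.map ψ hψ ∧ j ≫ p = 𝟙 (Proj 𝒜) := by
  have hrange : Set.range (Proj.map ψ hψ).base ⊆ Set.range (PCone.dom φ).ι.base := by
    rw [Scheme.Opens.range_ι]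
    rintro _ ⟨x, rfl⟩
    obtain ⟨d, f, hd, hf, hx⟩ := exists_mem_basicOpen 𝒜 x
    refine Opens.mem_iSup.mpr ⟨⟨f, d, hd, hf⟩, ?_⟩
    change x ∈ (Proj.map ψ hψ) ⁻¹ᵁ (Proj.basicOpen ℬ (φ f))
    rw [Proj.map_preimage_basicOpen, hψφ]
    exact hx
  have hcomp : ψ.comp φ = .id 𝒜 := by
    ext a
    exact hψφ a
  have hj : IsOpenImmersion.lift (PCone.dom φ).ι (Proj.map ψ hψ) hrange ≫ p = 𝟙 (Proj 𝒜) := by
    have key : ∀ (d : ℕ) (f : A) (hd : 0 < d) (hf : f ∈ 𝒜 d), Proj.awayι 𝒜 f hf hd ≫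
        IsOpenImmersion.lift (PCone.dom φ).ι (Proj.map ψ hψ) hrange ≫ p = Proj.awayι 𝒜 f hf hd := by
      intro d f hd hf
      obtain ⟨e, he⟩ := aux_eq 𝒜 f (ψ (φ f)) (hψφ f) hf (ψ.2 (φ.2 hf)) hd
      rw [← he, Category.assoc]
      congr 1
      have h1 : Proj.awayι 𝒜 (ψ (φ f)) (ψ.2 (φ.2 hf)) hd ≫
          IsOpenImmersion.lift (PCone.dom φ).ι (Proj.map ψ hψ) hrange =
          Spec.map (CommRingCat.ofHom (HomogeneousLocalization.Away.map ψ (φ f))) ≫
            PCone.chart φ hf hd := by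
        rw [← cancel_mono (PCone.dom φ).ι, Category.assoc, Category.assoc, IsOpenImmersion.lift_fac,
          chart_ι, Proj.awayι_comp_map]
      rw [reassoc_of% h1, hp d f hd hf, ← Category.assoc, ← Spec.map_comp, ← CommRingCat.ofHom_comp,
        ← HomogeneousLocalization.Away.map_comp]
      exact aux_id 𝒜 (ψ.comp φ) hcomp f hf hd
    refine (Proj.affineOpenCover 𝒜).openCover.hom_ext _ _ fun s ↦ ?_
    rw [Category.comp_id]
    exact key s.1.1 s.2.1 s.1.2 s.2.2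
  refine ⟨⟨fun x ↦ ⟨(IsOpenImmersion.lift (PCone.dom φ).ι (Proj.map ψ hψ) hrange).base x, ?_⟩⟩,
    IsOpenImmersion.lift (PCone.dom φ).ι (Proj.map ψ hψ) hrange, IsOpenImmersion.lift_fac _ _ _, hj⟩
  rw [← Scheme.Hom.comp_apply, hj]
  rfl

end Groth.Agent.S3597
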