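import Groth.Statements.S3598
import Groth.Agent.Lib.Helper3.PCone
import Groth.Agent.Lib.Helper3.PConeAlg
import Groth.Agent.Lib.Helper3.PConeFibre
-- import your own Groth.Agent.* helpers here

set_option autoImplicit false
universe u
open CategoryTheory CategoryTheory.Limits AlgebraicGeometry
open EGA2

namespace Groth.Agent.S3598

open Groth.Agent.Lib.Helper3 TopologicalSpace

/-- Let S be a graded algebra over a ring (an affine base) whose irrelevant ideal is generated by its
degree-one elements, and let Ŝ = S[z] be the graded S-algebra obtained by adjoining a variable z of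
degree 1 (given as a graded S-algebra together with z of degree 1 such that S[T] → Ŝ, T ↦ z, is
bijective). Let Ê be the pointed projective cone, covered by the charts Spec Ŝ_(f) for f ∈ S
homogeneous of positive degree, and p : Ê → X = Proj S the canonical retraction, i.e. the morphism
which on each chart Spec Ŝ_(f) is induced by S_(f) → Ŝ_(f). Then p is of finite type (locally of
finite type and quasi-compact) and its fibre at every point x of X is isomorphic over k(x) to the
affine line Spec k(x)[T]. -/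
theorem result {R A : Type u} [CommRing R] [CommRing A] [Algebra R A] (𝒜 : ℕ → Submodule R A) [GradedAlgebra 𝒜]
    {B : Type u} [CommRing B] [Algebra R B] (ℬ : ℕ → Submodule R B) [GradedAlgebra ℬ]
    [Algebra A B] [IsScalarTower R A B] (φ : 𝒜 →+*ᵍ ℬ) (hφ : ∀ a : A, φ a = algebraMap A B a)
    (z : B) (hz : z ∈ ℬ 1) (hhat : Function.Bijective (Polynomial.aeval (R := A) z))
    (hgen : (HomogeneousIdeal.irrelevant 𝒜).toIdeal = Ideal.span (𝒜 1 : Set A))
    (p : (PCone.dom φ : Scheme.{u}) ⟶ Proj 𝒜) (hp : ∀ (d : ℕ) (f : A) (hd : 0 < d) (hf : f ∈ 𝒜 d),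
        PCone.chart φ hf hd ≫ p =
          Spec.map (CommRingCat.ofHom (HomogeneousLocalization.Away.map φ f)) ≫ Proj.awayι 𝒜 f hf hd) (x : Proj 𝒜) :
    LocallyOfFiniteType p ∧ QuasiCompact p ∧
      ∃ e : pullback p ((Proj 𝒜).fromSpecResidueField x) ≅
          Spec (CommRingCat.of (Polynomial ((Proj 𝒜).residueField x))),
        e.hom ≫ Spec.map (CommRingCat.ofHom (algebraMap ((Proj 𝒜).residueField x)
          (Polynomial ((Proj 𝒜).residueField x)))) = pullback.snd p ((Proj 𝒜).fromSpecResidueField x) := by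
  have haff : IsAffineHom p := PConeLib.isAffineHom φ p hp
  have hle : (HomogeneousIdeal.irrelevant 𝒜).toIdeal ≤
      Ideal.span (Set.range (fun f : 𝒜 1 => (f : A))) := by
    rw [hgen, Subtype.range_coe_subtype]
    rfl
  have hsq : ∀ (f : A) (hf : f ∈ 𝒜 1),
      IsPullback (Spec.map (CommRingCat.ofHom (HomogeneousLocalization.Away.map φ f)))
        (PCone.chart φ hf one_pos) (Proj.awayι 𝒜 f hf one_pos) p := by
    intro f hf
    apply IsOpenImmersion.isPullback
    · exact hp 1 f one_pos hf
    · rw [Proj.opensRange_awayι]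
      exact PConeLib.preimage_basicOpen φ p hp hf one_pos
  have hft : ∀ (f : A) (hf : f ∈ 𝒜 1), RingHom.FiniteType (HomogeneousLocalization.Away.map φ f) := by
    intro f hf
    have h1 : HomogeneousLocalization.Away.map φ f =
        (PConeAlg.α φ z hz hf).comp (Polynomial.C) := by
      ext c
      simp [PConeAlg.α_C]
    rw [h1]
    refine RingHom.FiniteType.comp
      (RingHom.FiniteType.of_surjective _ (PConeAlg.α_surjective φ hφ z hz hhat hf)) ?_
    rw [← Polynomial.algebraMap_eq, RingHom.finiteType_algebraMap]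
    infer_instance
  refine ⟨?_, inferInstance, ?_⟩
  · let 𝒰 := (Proj.affineOpenCoverOfIrrelevantLESpan 𝒜 (fun f : 𝒜 1 => (f : A)) (fun f => f.2)
      (fun _ => one_pos) hle).openCover
    apply IsZariskiLocalAtTarget.of_openCover (P := @LocallyOfFiniteType) 𝒰
    intro i
    have h := (hsq (i : 𝒜 1).1 (i : 𝒜 1).2).flip
    change LocallyOfFiniteType (pullback.snd p (Proj.awayι 𝒜 (i : 𝒜 1).1 (i : 𝒜 1).2 one_pos))
    have e1 : pullback.snd p (Proj.awayι 𝒜 (i : 𝒜 1).1 (i : 𝒜 1).2 one_pos) = h.isoPullback.inv ≫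
        Spec.map (CommRingCat.ofHom (HomogeneousLocalization.Away.map φ (i : 𝒜 1).1)) := by
      rw [Iso.eq_inv_comp]
      exact h.isoPullback_hom_snd
    rw [e1, MorphismProperty.cancel_left_of_respectsIso (P := @LocallyOfFiniteType),
      HasRingHomProperty.Spec_iff (P := @LocallyOfFiniteType)]
    exact hft (i : 𝒜 1).1 (i : 𝒜 1).2
  · obtain ⟨f, hf, hx⟩ : ∃ f, ∃ _ : f ∈ 𝒜 1, x ∈ Proj.basicOpen 𝒜 f := by
      have h := Proj.iSup_basicOpen_eq_top 𝒜 (fun f : 𝒜 1 => (f : A)) hle
      have hx : x ∈ (⨆ i : 𝒜 1, Proj.basicOpen 𝒜 (i : A)) := by rw [h]; trivial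
      obtain ⟨i, hi⟩ := Opens.mem_iSup.mp hx
      exact ⟨i.1, i.2, hi⟩
    have hrange : Set.range ((Proj 𝒜).fromSpecResidueField x).base ⊆
        Set.range (Proj.awayι 𝒜 f hf one_pos).base := by
      rw [Scheme.range_fromSpecResidueField]
      rintro _ rfl
      rw [← Proj.opensRange_awayι 𝒜 f hf one_pos] at hx
      exact hx
    let g := IsOpenImmersion.lift (Proj.awayι 𝒜 f hf one_pos) ((Proj 𝒜).fromSpecResidueField x) hrange
    have hg : g ≫ Proj.awayι 𝒜 f hf one_pos = (Proj 𝒜).fromSpecResidueField x :=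
      IsOpenImmersion.lift_fac _ _ _
    have hγ : Spec.map (CommRingCat.ofHom (Spec.preimage g).hom) = g := by
      simp
    exact PConeFibre.fibre_iso p (HomogeneousLocalization.Away.map φ f)
      (RingEquiv.ofBijective (PConeAlg.α φ z hz hf) (PConeAlg.α_bijective φ hφ z hz hhat hf))
      (fun c => PConeAlg.α_C φ z hz hf c) (Proj.awayι 𝒜 f hf one_pos) (PCone.chart φ hf one_pos)
      (hsq f hf) (Spec.preimage g).hom ((Proj 𝒜).fromSpecResidueField x) (by rw [hγ, hg])

end Groth.Agent.S3598
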