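import Groth.Statements.S3653
import Mathlib

set_option autoImplicit false
universe u
open CategoryTheory CategoryTheory.Limits AlgebraicGeometry
attribute [local instance] HasDerivedCategory.standard
open Dual3

namespace Groth.Agent.S3653

section
universe v₁ v₂ v₃ v₄ u₁ u₂ u₃ u₄

variable {CX : Type u₁} [Category.{v₁} CX] {CY : Type u₂} [Category.{v₂} CY]
  {CX' : Type u₃} [Category.{v₃} CX'] {CY' : Type u₄} [Category.{v₄} CY']
  {Rf : CX ⥤ CY} {Rf' : CX' ⥤ CY'} {Rg : CY' ⥤ CY} {Rg' : CX' ⥤ CX}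
  {Lg : CY ⥤ CY'} {Lg' : CX ⥤ CX'} {a : CY ⥤ CX} {a' : CY' ⥤ CX'}

def axi (adj : Rf ⊣ a) (adj' : Rf' ⊣ a') (e : Rg' ⋙ Rf ≅ Rf' ⋙ Rg) (M : CY') :
    Rg'.obj (a'.obj M) ⟶ a.obj (Rg.obj M) :=
  (adj.homEquiv _ _) (e.hom.app (a'.obj M) ≫ Rg.map (adj'.counit.app M))

noncomputable def abcMap (adj : Rf ⊣ a) (adj' : Rf' ⊣ a') (e : Rg' ⋙ Rf ≅ Rf' ⋙ Rg)
    (adjg : Lg ⊣ Rg) (adjg' : Lg' ⊣ Rg') (K : CY) (hξ : IsIso (axi adj adj' e (Lg.obj K))) :
    Lg'.obj (a.obj K) ⟶ a'.obj (Lg.obj K) :=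
  haveI := hξ
  Lg'.map (a.map (adjg.unit.app K)) ≫
    Lg'.map (inv (axi adj adj' e (Lg.obj K))) ≫
      adjg'.counit.app (a'.obj (Lg.obj K))

def abcPush (e : Rg' ⋙ Rf ≅ Rf' ⋙ Rg) (adjg : Lg ⊣ Rg) (adjg' : Lg' ⊣ Rg') (K : CX) :
    Lg.obj (Rf.obj K) ⟶ Rf'.obj (Lg'.obj K) :=
  (adjg.homEquiv _ _).symm (Rf.map (adjg'.unit.app K) ≫ e.hom.app (Lg'.obj K))

theorem axi_counit (adj : Rf ⊣ a) (adj' : Rf' ⊣ a') (e : Rg' ⋙ Rf ≅ Rf' ⋙ Rg) (M : CY') :
    Rf.map (axi adj adj' e M) ≫ adj.counit.app (Rg.obj M) =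
      e.hom.app (a'.obj M) ≫ Rg.map (adj'.counit.app M) := by
  have := (adj.homEquiv _ _).symm_apply_apply (e.hom.app (a'.obj M) ≫ Rg.map (adj'.counit.app M))
  rw [Adjunction.homEquiv_counit] at this
  exact this

theorem unit_map_counit (adjg' : Lg' ⊣ Rg') {A : CX} {B : CX'} (φ : A ⟶ Rg'.obj B) :
    adjg'.unit.app A ≫ Rg'.map (Lg'.map φ ≫ adjg'.counit.app B) = φ := by
  simp

theorem main1 (adj : Rf ⊣ a) (adj' : Rf' ⊣ a') (e : Rg' ⋙ Rf ≅ Rf' ⋙ Rg)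
    (adjg : Lg ⊣ Rg) (adjg' : Lg' ⊣ Rg') (K : CY) (hξ : IsIso (axi adj adj' e (Lg.obj K))) :
    abcPush e adjg adjg' (a.obj K) ≫ Rf'.map (abcMap adj adj' e adjg adjg' K hξ) ≫
      adj'.counit.app (Lg.obj K) = Lg.map (adj.counit.app K) := by
  have _ := hξ
  have key : adjg'.unit.app (a.obj K) ≫ Rg'.map (abcMap adj adj' e adjg adjg' K hξ) =
      a.map (adjg.unit.app K) ≫ inv (axi adj adj' e (Lg.obj K)) := by
    have := unit_map_counit adjg' (a.map (adjg.unit.app K) ≫ inv (axi adj adj' e (Lg.obj K)))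
    rw [← this]
    simp only [abcMap, Functor.map_comp, Category.assoc]
    rfl
  have hnat := e.hom.naturality (abcMap adj adj' e adjg adjg' K hξ)
  simp only [Functor.comp_map] at hnat
  apply (adjg.homEquiv _ _).injective
  calc adjg.homEquiv _ _ (abcPush e adjg adjg' (a.obj K) ≫
        Rf'.map (abcMap adj adj' e adjg adjg' K hξ) ≫ adj'.counit.app (Lg.obj K))
      = (Rf.map (adjg'.unit.app (a.obj K)) ≫ e.hom.app (Lg'.obj (a.obj K))) ≫
          Rg.map (Rf'.map (abcMap adj adj' e adjg adjg' K hξ)) ≫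
            Rg.map (adj'.counit.app (Lg.obj K)) := by
        rw [Adjunction.homEquiv_naturality_right, abcPush, Equiv.apply_symm_apply, Functor.map_comp]
    _ = Rf.map (adjg'.unit.app (a.obj K) ≫ Rg'.map (abcMap adj adj' e adjg adjg' K hξ)) ≫
          (e.hom.app (a'.obj (Lg.obj K)) ≫ Rg.map (adj'.counit.app (Lg.obj K))) := by
        rw [Functor.map_comp, Category.assoc, Category.assoc, ← Category.assoc (e.hom.app _),
          ← hnat, Category.assoc]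
    _ = Rf.map (a.map (adjg.unit.app K)) ≫ adj.counit.app (Rg.obj (Lg.obj K)) := by
        rw [key, ← axi_counit, Functor.map_comp, Category.assoc, ← Category.assoc (Rf.map (inv _)),
          ← Functor.map_comp, IsIso.inv_hom_id, CategoryTheory.Functor.map_id, Category.id_comp]
    _ = adj.counit.app K ≫ adjg.unit.app K := adj.counit_naturality _
    _ = adjg.homEquiv _ _ (Lg.map (adj.counit.app K)) := by
        rw [Adjunction.homEquiv_unit, adjg.unit_naturality]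
        rfl

end

/-- Consider a cartesian square X' = Y' ×_Y X of quasi-compact quasi-separated schemes with f or g flat
(a Tor independent square), derived direct images and derived pullbacks on D_QCoh with adjunctions
Lg^* ⊣ Rg_*, Lg'^* ⊣ Rg'_*, right adjoints a of Rf_* and a' of Rf'_*, and an identification e : Rf_*
∘ Rg'_* ≅ Rg_* ∘ Rf'_* for which ξ : Rg'_* a' → a Rg_* is an isomorphism. Let β : Lg^* Rf_* → Rf'_*
Lg'^* and α : Lg'^* a → a' Lg^* be the base change maps built from these data and Tr_f : Rf_* a →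
id, Tr_{f'} : Rf'_* a' → id the counits. Then for every K in D_QCoh(O_Y): β_{a(K)} followed by
Rf'_*(α_K) followed by Tr_{f'} at Lg^*K equals Lg^*(Tr_{f,K}). -/
theorem result (X Y X' Y' : Scheme.{u}) [CompactSpace X] [QuasiSeparatedSpace X] [CompactSpace Y] [QuasiSeparatedSpace Y] [CompactSpace X'] [QuasiSeparatedSpace X'] [CompactSpace Y'] [QuasiSeparatedSpace Y'] (f : X ⟶ Y) (g : Y' ⟶ Y) (f' : X' ⟶ Y') (g' : X' ⟶ X) (hsq : IsPullback g' f' f g) (hflat : Flat f ∨ Flat g) [DCoh.HasRpush f] [DCoh.HasRpush f'] [DCoh.HasRpush g] [DCoh.HasRpush g'] (hf : DCoh.RpushPreservesQCoh f) (hf' : DCoh.RpushPreservesQCoh f') (hg : DCoh.RpushPreservesQCoh g) (hg' : DCoh.RpushPreservesQCoh g') (a : DCoh.DQCoh Y ⥤ DCoh.DQCoh X) (a' : DCoh.DQCoh Y' ⥤ DCoh.DQCoh X') (adj : DCoh.RpushQ f hf ⊣ a) (adj' : DCoh.RpushQ f' hf' ⊣ a') [DCoh.HasLpull g] [DCoh.HasLpull g'] (hLg : Dual3.LpullPreservesQCoh g) (hLg' : Dual3.LpullPreservesQCoh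 g') (adjg : Dual3.LpullQ g hLg ⊣ DCoh.RpushQ g hg) (adjg' : Dual3.LpullQ g' hLg' ⊣ DCoh.RpushQ g' hg') (e : (DCoh.RpushQ g' hg' ⋙ DCoh.RpushQ f hf ≅ DCoh.RpushQ f' hf' ⋙ DCoh.RpushQ g hg)) (hξ : ∀ M : DCoh.DQCoh Y', IsIso (Dual3.xi adj adj' e M)) (K : DCoh.DQCoh Y) : Dual3.bcPush e adjg adjg' (a.obj K) ≫ (DCoh.RpushQ f' hf').map (Dual3.bcMap adj adj' e adjg adjg' K (hξ _)) ≫ adj'.counit.app ((Dual3.LpullQ g hLg).obj K) = (Dual3.LpullQ g hLg).map (adj.counit.app K) := by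
  exact main1 adj adj' e adjg adjg' K (hξ _)

end Groth.Agent.S3653
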