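import Groth.Statements.S3654
import Mathlib

set_option autoImplicit false
universe u
open CategoryTheory CategoryTheory.Limits AlgebraicGeometry
attribute [local instance] HasDerivedCategory.standard
open Dual3

namespace Groth.Agent.S3654

section
universe v₁ v₂ v₃ v₄ u₁ u₂ u₃ u₄

variable {CX : Type u₁} [Category.{v₁} CX] {CY : Type u₂} [Category.{v₂} CY]
  {CX' : Type u₃} [Category.{v₃} CX'] {CY' : Type u₄} [Category.{v₄} CY']
  {Rf : CX ⥤ CY} {Rf' : CX' ⥤ CY'} {Rg : CY' ⥤ CY} {Rg' : CX' ⥤ CX}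
  {Lg : CY ⥤ CY'} {Lg' : CX ⥤ CX'} {a : CY ⥤ CX} {a' : CY' ⥤ CX'}

def axi (adj : Rf ⊣ a) (adj' : Rf' ⊣ a') (e : Rg' ⋙ Rf ≅ Rf' ⋙ Rg) (M : CY') :
    Rg'.obj (a'.obj M) ⟶ a.obj (Rg.obj M) :=
  (adj.homEquiv _ _) (e.hom.app (a'.obj M) ≫ Rg.map (adj'.counit.app M))

noncomputable def abcMap (adj : Rf ⊣ a) (adj' : Rf' ⊣ a') (e : Rg' ⋙ Rf ≅ Rf' ⋙ Rg)
    (adjg : Lg ⊣ Rg) (adjg' : Lg' ⊣ Rg') (K : CY) (hξ : IsIso (axi adj adj' e (Lg.obj K))) :
    Lg'.obj (a.obj K) ⟶ a'.obj (Lg.obj K) :=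
  haveI := hξ
  Lg'.map (a.map (adjg.unit.app K)) ≫
    Lg'.map (inv (axi adj adj' e (Lg.obj K))) ≫
      adjg'.counit.app (a'.obj (Lg.obj K))

def abcPush (e : Rg' ⋙ Rf ≅ Rf' ⋙ Rg) (adjg : Lg ⊣ Rg) (adjg' : Lg' ⊣ Rg') (K : CX) :
    Lg.obj (Rf.obj K) ⟶ Rf'.obj (Lg'.obj K) :=
  (adjg.homEquiv _ _).symm (Rf.map (adjg'.unit.app K) ≫ e.hom.app (Lg'.obj K))

theorem unit_map_counit' (adjg' : Lg' ⊣ Rg') {A : CX} {B B' : CX'} (φ : A ⟶ Rg'.obj B) (ψ : B ⟶ B') :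
    adjg'.homEquiv _ _ (Lg'.map φ ≫ adjg'.counit.app B ≫ ψ) = φ ≫ Rg'.map ψ := by
  rw [Adjunction.homEquiv_unit]
  simp

theorem axi_nat (adj : Rf ⊣ a) (adj' : Rf' ⊣ a') (e : Rg' ⋙ Rf ≅ Rf' ⋙ Rg) {N N' : CY'} (φ : N ⟶ N') :
    Rg'.map (a'.map φ) ≫ axi adj adj' e N' = axi adj adj' e N ≫ a.map (Rg.map φ) := by
  have hnat := e.hom.naturality (a'.map φ)
  simp only [Functor.comp_map] at hnat
  unfold axi
  rw [← Adjunction.homEquiv_naturality_left, ← Adjunction.homEquiv_naturality_right]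
  congr 1
  rw [← Category.assoc, hnat, Category.assoc, Category.assoc, ← Functor.map_comp, ← Functor.map_comp,
    adj'.counit_naturality]

theorem main2 (adj : Rf ⊣ a) (adj' : Rf' ⊣ a') (e : Rg' ⋙ Rf ≅ Rf' ⋙ Rg)
    (adjg : Lg ⊣ Rg) (adjg' : Lg' ⊣ Rg') (M : CX)
    (hξ : IsIso (axi adj adj' e (Lg.obj (Rf.obj M))))
    (hξ' : IsIso (axi adj adj' e (Rf'.obj (Lg'.obj M)))) :
    adj'.unit.app (Lg'.obj M) = Lg'.map (adj.unit.app M) ≫
      abcMap adj adj' e adjg adjg' (Rf.obj M) hξ ≫ a'.map (abcPush e adjg adjg' M) := by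
  have _ := hξ
  have _ := hξ'
  apply (adjg'.homEquiv _ _).injective
  have hR : adjg'.homEquiv _ _ (Lg'.map (adj.unit.app M) ≫
      abcMap adj adj' e adjg adjg' (Rf.obj M) hξ ≫ a'.map (abcPush e adjg adjg' M)) =
      (adj.unit.app M ≫ a.map (adjg.unit.app (Rf.obj M)) ≫
        inv (axi adj adj' e (Lg.obj (Rf.obj M)))) ≫ Rg'.map (a'.map (abcPush e adjg adjg' M)) := by
    rw [← unit_map_counit' adjg']
    simp only [abcMap, Functor.map_comp, Category.assoc]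
  refine Eq.trans ?_ hR.symm
  rw [Adjunction.homEquiv_unit]
  rw [← cancel_mono (axi adj adj' e (Rf'.obj (Lg'.obj M)))]
  have hnatξ := axi_nat adj adj' e (abcPush e adjg adjg' M)
  have hβ : adjg.unit.app (Rf.obj M) ≫ Rg.map (abcPush e adjg adjg' M) =
      Rf.map (adjg'.unit.app M) ≫ e.hom.app (Lg'.obj M) := by
    have h := (adjg.homEquiv _ _).apply_symm_apply
      (Rf.map (adjg'.unit.app M) ≫ e.hom.app (Lg'.obj M))
    rw [Adjunction.homEquiv_unit] at h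
    exact h
  have hnat := e.hom.naturality (adj'.unit.app (Lg'.obj M))
  simp only [Functor.comp_map, Functor.comp_obj, Functor.id_obj] at hnat
  calc (adjg'.unit.app M ≫ Rg'.map (adj'.unit.app (Lg'.obj M))) ≫ axi adj adj' e (Rf'.obj (Lg'.obj M))
      = adj.homEquiv _ _ (Rf.map (adjg'.unit.app M ≫ Rg'.map (adj'.unit.app (Lg'.obj M))) ≫
          e.hom.app (a'.obj (Rf'.obj (Lg'.obj M))) ≫ Rg.map (adj'.counit.app (Rf'.obj (Lg'.obj M)))) := by
        rw [Adjunction.homEquiv_naturality_left]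
        rfl
    _ = adj.homEquiv _ _ (Rf.map (adjg'.unit.app M) ≫ e.hom.app (Lg'.obj M)) := by
        congr 1
        rw [Functor.map_comp, Category.assoc, ← Category.assoc (Rf.map (Rg'.map _)), hnat,
          Category.assoc, ← Functor.map_comp, adj'.left_triangle_components,
          CategoryTheory.Functor.map_id, Category.comp_id]
    _ = adj.unit.app M ≫ a.map (adjg.unit.app (Rf.obj M) ≫ Rg.map (abcPush e adjg adjg' M)) := by
        rw [hβ, Adjunction.homEquiv_unit]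
        rfl
    _ = ((adj.unit.app M ≫ a.map (adjg.unit.app (Rf.obj M)) ≫
          inv (axi adj adj' e (Lg.obj (Rf.obj M)))) ≫ Rg'.map (a'.map (abcPush e adjg adjg' M))) ≫
          axi adj adj' e (Rf'.obj (Lg'.obj M)) := by
        simp only [Category.assoc]
        rw [hnatξ, IsIso.inv_hom_id_assoc, Functor.map_comp]

end

/-- Let X, Y, X', Y' be quasi-compact quasi-separated schemes and f : X → Y, g : Y' → Y, f' : X' → Y',
g' : X' → X morphisms forming a cartesian square (X' = Y' ×_Y X), with f flat or g flat. Assume the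
derived pushforwards Rf_*, Rf'_*, Rg_*, Rg'_* exist and preserve D_QCoh, that Lg^* and Lg'^*
preserve D_QCoh and are left adjoint to Rg_* and Rg'_* on D_QCoh, let a : D_QCoh(O_Y) → D_QCoh(O_X)
and a' : D_QCoh(O_{Y'}) → D_QCoh(O_{X'}) be right adjoints of Rf_* and Rf'_*, fix an isomorphism
Rf_* ∘ Rg'_* ≅ Rg_* ∘ Rf'_*, and assume the comparison maps ξ_N built from these data are
isomorphisms for all N in D_QCoh(O_{Y'}), so that the base change map α : Lg'^* ∘ a → a' ∘ Lg^* is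
defined; let β_M : Lg^* Rf_* M → Rf'_* Lg'^* M denote the base change map for pushforward. Let η_f :
id → a Rf_* and η_{f'} : id → a' Rf'_* be the units. Then for every M in D_QCoh(O_X): η_{f'} at
Lg'^*M equals Lg'^*(η_{f,M}) followed by the base change map α at Rf_*M followed by a'(β_M). -/
theorem result (X Y X' Y' : Scheme.{u}) [CompactSpace X] [QuasiSeparatedSpace X] [CompactSpace Y] [QuasiSeparatedSpace Y] [CompactSpace X'] [QuasiSeparatedSpace X'] [CompactSpace Y'] [QuasiSeparatedSpace Y'] (f : X ⟶ Y) (g : Y' ⟶ Y) (f' : X' ⟶ Y') (g' : X' ⟶ X) (hsq : IsPullback g' f' f g) (hflat : Flat f ∨ Flat g) [DCoh.HasRpush f] [DCoh.HasRpush f'] [DCoh.HasRpush g] [DCoh.HasRpush g'] (hf : DCoh.RpushPreservesQCoh f) (hf' : DCoh.RpushPreservesQCoh f') (hg : DCoh.RpushPreservesQCoh g) (hg' : DCoh.RpushPreservesQCoh g') (a : DCoh.DQCoh Y ⥤ DCoh.DQCoh X) (a' : DCoh.DQCoh Y' ⥤ DCoh.DQCoh X') (adj : DCoh.RpushQ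 f hf ⊣ a) (adj' : DCoh.RpushQ f' hf' ⊣ a') [DCoh.HasLpull g] [DCoh.HasLpull g'] (hLg : Dual3.LpullPreservesQCoh g) (hLg' : Dual3.LpullPreservesQCoh g') (adjg : Dual3.LpullQ g hLg ⊣ DCoh.RpushQ g hg) (adjg' : Dual3.LpullQ g' hLg' ⊣ DCoh.RpushQ g' hg') (e : (DCoh.RpushQ g' hg' ⋙ DCoh.RpushQ f hf ≅ DCoh.RpushQ f' hf' ⋙ DCoh.RpushQ g hg)) (hξ : ∀ M : DCoh.DQCoh Y', IsIso (Dual3.xi adj adj' e M)) (M : DCoh.DQCoh X) : adj'.unit.app ((Dual3.LpullQ g' hLg').obj M) = (Dual3.LpullQ g' hLg').map (adj.unit.app M) ≫ Dual3.bcMap adj adj' e adjg adjg' ((DCoh.RpushQ f hf).obj M) (hξ _) ≫ a'.map (Dual3.bcPush e adjg adjg' M) := by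
  exact main2 adj adj' e adjg adjg' M (hξ _) (hξ _)

end Groth.Agent.S3654
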