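import Groth.Statements.S3682
import Groth.Agent.Lib.Helper51.GeomConn

set_option autoImplicit false
universe u
open Pi1

namespace Groth.Agent.S3682

set_option linter.style.haveILetI false
open AlgebraicGeometry CategoryTheory CategoryTheory.Limits

theorem geomConn_of_algClosed (k : Type u) [Field k] [IsAlgClosed k] {X : Scheme.{u}}
    (f : X ⟶ Spec (CommRingCat.of k)) [ConnectedSpace X] : GeometricallyConnected f := by
  obtain ⟨x⟩ := (inferInstance : Nonempty X)
  let φ : CommRingCat.of k ⟶ X.residueField x := Spec.preimage (X.fromSpecResidueField x ≫ f)
  letI : Algebra k (X.residueField x) := φ.hom.toAlgebra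
  have hφ : Spec.map (CommRingCat.ofHom (algebraMap k (X.residueField x))) =
      X.fromSpecResidueField x ≫ f := by
    have : CommRingCat.ofHom (algebraMap k (X.residueField x)) = φ := rfl
    rw [this, Spec.map_preimage]
  refine Groth.Agent.Lib.Helper51.geometricallyConnected_of_relSepClosed_point f x hφ ?_
  intro a ha
  have hint : IsIntegral k a := ha.isIntegral
  have hdeg : (minpoly k a).degree = 1 :=
    IsAlgClosed.degree_eq_one_of_irreducible k (minpoly.irreducible hint)
  exact minpoly.mem_range_of_degree_eq_one k a hdeg



open AlgebraicGeometry CategoryTheory CategoryTheory.Limits in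
/-- The part saying that the homomorphism from the fundamental group of X x_k Y to the product of the
fundamental groups is surjective, in terms of covers. Let k be algebraically closed, X proper and
connected over k, Y locally Noetherian and connected over k. If X' is a connected finite etale cover
of X and Y' a connected finite etale cover of Y, then the product of X' and Y' over k is connected. -/
theorem result (k : Type u) [Field k] [IsAlgClosed k] {X Y : Scheme.{u}}
    (pX : X ⟶ Spec (CommRingCat.of k)) (pY : Y ⟶ Spec (CommRingCat.of k)) [IsProper pX] [ConnectedSpace X]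
    [IsLocallyNoetherian Y] [ConnectedSpace Y]
    (X' : FEt.Cat X) [ConnectedSpace X'.left] (Y' : FEt.Cat Y) [ConnectedSpace Y'.left] :
    ConnectedSpace ↥(pullback (X'.hom ≫ pX) (Y'.hom ≫ pY)) := by
  haveI : IsFinite X'.hom := X'.prop.1
  let f : X'.left ⟶ Spec (CommRingCat.of k) := X'.hom ≫ pX
  let g : Y'.left ⟶ Spec (CommRingCat.of k) := Y'.hom ≫ pY
  show ConnectedSpace ↥(pullback f g)
  haveI : GeometricallyConnected f := geomConn_of_algClosed k (X := X'.left) f
  haveI : IsProper f := by
    haveI : IsProper (X'.hom : X'.left ⟶ X) := inferInstance
    exact (inferInstance : IsProper ((X'.hom : X'.left ⟶ X) ≫ pX))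
  haveI : Flat f := inferInstance
  haveI : LocallyOfFinitePresentation f := inferInstance
  haveI : UniversallyOpen f := inferInstance
  haveI : ConnectedSpace Y'.left := inferInstance
  exact GeometricallyConnected.connectedSpace (pullback.snd f g) (pullback.snd f g).isOpenMap


end Groth.Agent.S3682
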