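import Groth.Statements.S3694
import Mathlib.AlgebraicGeometry.Morphisms.FlatDescent
import Mathlib.AlgebraicGeometry.Morphisms.IsIso

set_option autoImplicit false
universe u
open SGA1

namespace Groth.Agent.S3694

open AlgebraicGeometry CategoryTheory CategoryTheory.Limits in
theorem result {X Y : Scheme.{u}} (f : X ⟶ Y) [Etale f] [UniversallyInjective f] :
    IsOpenImmersion f := by
  have hsurj : Surjective (pullback.diagonal f) :=
    (UniversallyInjective.iff_diagonal f).mp inferInstance
  have hopen : IsOpenImmersion (pullback.diagonal f) := inferInstance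
  have hiso : IsIso (pullback.diagonal f) :=
    (isIso_iff_isOpenImmersion_and_surjective _).mpr ⟨hopen, hsurj⟩
  have hmono : Mono f := (pullback.isIso_diagonal_iff f).mp hiso
  let U : Y.Opens := ⟨Set.range f.base, f.isOpenMap.isOpen_range⟩
  let f' : X ⟶ U := IsOpenImmersion.lift U.ι f (by simp [U])
  have hf' : f' ≫ U.ι = f := IsOpenImmersion.lift_fac _ _ _
  have hs : Surjective f' := ⟨fun ⟨x, ⟨y, hy⟩⟩ ↦
    ⟨y, by apply U.ι.injective; simp [← Scheme.Hom.comp_apply, f', hy]⟩⟩
  have he : Etale f' := by
    have : Etale (f' ≫ U.ι) := by rw [hf']; infer_instance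
    exact Etale.of_comp f' U.ι
  have hm : Mono f' := mono_of_mono_fac hf'
  have h1 : IsIso (pullback.fst f' f') := inferInstance
  have h2 : IsIso f' := by
    apply MorphismProperty.of_pullback_fst_of_descendsAlong
      (P := MorphismProperty.isomorphisms Scheme)
      (Q := @Surjective ⊓ @Flat ⊓ @LocallyOfFinitePresentation) (f := f') ?_ h1
    exact ⟨⟨inferInstance, inferInstance⟩, inferInstance⟩
  rw [← hf']
  infer_instance

end Groth.Agent.S3694
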