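import Groth.Statements.S3707
import Mathlib.AlgebraicGeometry.Morphisms.IsIso
import Mathlib.AlgebraicGeometry.PullbackCarrier

set_option autoImplicit false
universe u
open SGA1

namespace Groth.Agent.S3707

open AlgebraicGeometry CategoryTheory CategoryTheory.Limits in
theorem result {S S' X Y : Scheme.{u}} (g : S' ⟶ S) [Surjective g]
    (p : X ⟶ S) (q : Y ⟶ S) [FormallyUnramified q] [LocallyOfFiniteType q]
    (u v : X ⟶ Y) (hu : p ≫ 𝟙 S = u ≫ q) (hv : p ≫ 𝟙 S = v ≫ q)
    (h : pullback.map p g q g u (𝟙 S') (𝟙 S) hu ((Category.comp_id _).trans (Category.id_comp _).symm) =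
      pullback.map p g q g v (𝟙 S') (𝟙 S) hv ((Category.comp_id _).trans (Category.id_comp _).symm)) :
    u = v := by
  have huv : u ≫ q = v ≫ q := hu.symm.trans hv
  obtain ⟨w, hw⟩ : ∃ w : X ⟶ pullback q q, w = pullback.lift u v huv := ⟨_, rfl⟩
  have hw1 : w ≫ pullback.fst q q = u := by rw [hw, pullback.lift_fst]
  have hw2 : w ≫ pullback.snd q q = v := by rw [hw, pullback.lift_snd]
  let e := pullback.fst w (pullback.diagonal q)
  have heo : IsOpenImmersion e := inferInstance
  have heu : e ≫ u = pullback.snd w (pullback.diagonal q) := by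
    rw [← hw1, ← Category.assoc, pullback.condition, Category.assoc, pullback.diagonal_fst,
      Category.comp_id]
  have hev : e ≫ v = pullback.snd w (pullback.diagonal q) := by
    rw [← hw2, ← Category.assoc, pullback.condition, Category.assoc, pullback.diagonal_snd,
      Category.comp_id]
  have hfu : pullback.fst p g ≫ u = pullback.fst p g ≫ v := by
    have h1 : pullback.fst p g ≫ u = pullback.map p g q g u (𝟙 S') (𝟙 S) hu
        ((Category.comp_id _).trans (Category.id_comp _).symm) ≫ pullback.fst q g := by
      rw [pullback.map, pullback.lift_fst]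
    have h2 : pullback.fst p g ≫ v = pullback.map p g q g v (𝟙 S') (𝟙 S) hv
        ((Category.comp_id _).trans (Category.id_comp _).symm) ≫ pullback.fst q g := by
      rw [pullback.map, pullback.lift_fst]
    rw [h1, h2, h]
  let l : pullback p g ⟶ pullback w (pullback.diagonal q) :=
    pullback.lift (pullback.fst p g) (pullback.fst p g ≫ u) (by
      apply pullback.hom_ext
      · rw [Category.assoc, Category.assoc, hw1, pullback.diagonal_fst, Category.comp_id]
      · rw [Category.assoc, Category.assoc, hw2, pullback.diagonal_snd, Category.comp_id]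
        exact hfu.symm)
  have hl : l ≫ e = pullback.fst p g := pullback.lift_fst _ _ _
  have hes : Surjective e := by
    refine ⟨fun x ↦ ?_⟩
    obtain ⟨s', hs'⟩ := g.surjective (p x)
    obtain ⟨x', hx', -⟩ := Scheme.Pullback.exists_preimage_pullback (f := p) (g := g) x s' hs'.symm
    refine ⟨l x', ?_⟩
    rw [← Scheme.Hom.comp_apply, hl, hx']
  have hiso : IsIso e := (isIso_iff_isOpenImmersion_and_surjective _).mpr ⟨heo, hes⟩
  rw [← cancel_epi e, heu, hev]

end Groth.Agent.S3707
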