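import Groth.Statements.S3709
import Groth.Agent.Lib.Helper81.EtDescent

set_option autoImplicit false
universe u
open SGA1

namespace Groth.Agent.S3709

open AlgebraicGeometry CategoryTheory CategoryTheory.Limits in
/-- A universally submersive morphism is a descent morphism for etale schemes (exactness of Hom_S(X, Y)
-> Hom_S'(X', Y') => Hom_S''(X'', Y'')): let g : S' -> S be universally submersive, X and Y schemes
over S with Y etale over S, X' and Y' their base changes along g, and f' : X' -> Y' an S'-morphism
whose two pullbacks to S'' = S' x_S S' coincide (equivalently: the two composites X'' -> X' -> Y' ->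
Y along the two projections agree). Then there is exactly one S-morphism u : X -> Y whose base
change is f'. -/
theorem result {S S' X Y : Scheme.{u}} (g : S' ⟶ S) (hg : SGA1.UnivSubmersive g)
    (p : X ⟶ S) (q : Y ⟶ S) [Etale q]
    (f' : pullback p g ⟶ pullback q g) (hf' : f' ≫ pullback.snd q g = pullback.snd p g)
    (hcoc : pullback.map p (pullback.fst g g ≫ g) p g (𝟙 X) (pullback.fst g g) (𝟙 S)
        ((Category.comp_id _).trans (Category.id_comp _).symm) (Category.comp_id _) ≫ f' ≫ pullback.fst q g =
      pullback.map p (pullback.fst g g ≫ g) p g (𝟙 X) (pullback.snd g g) (𝟙 S)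
        ((Category.comp_id _).trans (Category.id_comp _).symm) ((Category.comp_id _).trans pullback.condition) ≫
        f' ≫ pullback.fst q g) :
    ∃! u : X ⟶ Y, u ≫ q = p ∧ f' ≫ pullback.fst q g = pullback.fst p g ≫ u := by
  have hπ : SGA1.UnivSubmersive (pullback.fst p g) :=
    Groth.Agent.Lib.Helper81.Submersive.univSubmersive_of_isPullback
      (IsPullback.of_hasPullback p g) hg
  have hF : (f' ≫ pullback.fst q g) ≫ q = pullback.fst p g ≫ p := by
    rw [Category.assoc, pullback.condition, ← Category.assoc, hf', pullback.condition]
  have hc1 : (pullback.fst (pullback.fst p g) (pullback.fst p g) ≫ pullback.snd p g) ≫ g =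
      (pullback.snd (pullback.fst p g) (pullback.fst p g) ≫ pullback.snd p g) ≫ g := by
    rw [Category.assoc, Category.assoc, ← pullback.condition (f := p) (g := g),
      ← Category.assoc, ← Category.assoc,
      pullback.condition (f := pullback.fst p g) (g := pullback.fst p g)]
  have hc2 : (pullback.fst (pullback.fst p g) (pullback.fst p g) ≫ pullback.fst p g) ≫ p =
      pullback.lift _ _ hc1 ≫ pullback.fst g g ≫ g := by
    rw [pullback.lift_fst_assoc, Category.assoc, Category.assoc, pullback.condition]
  have hk1 : pullback.lift _ _ hc2 ≫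
      pullback.map p (pullback.fst g g ≫ g) p g (𝟙 X) (pullback.fst g g) (𝟙 S)
        ((Category.comp_id _).trans (Category.id_comp _).symm) (Category.comp_id _) =
      pullback.fst (pullback.fst p g) (pullback.fst p g) := by
    apply pullback.hom_ext
    · rw [Category.assoc, pullback.lift_fst, pullback.lift_fst_assoc, Category.comp_id]
    · rw [Category.assoc, pullback.lift_snd, pullback.lift_snd_assoc, pullback.lift_fst]
  have hk2 : pullback.lift _ _ hc2 ≫
      pullback.map p (pullback.fst g g ≫ g) p g (𝟙 X) (pullback.snd g g) (𝟙 S)
        ((Category.comp_id _).trans (Category.id_comp _).symm)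
        ((Category.comp_id _).trans pullback.condition) =
      pullback.snd (pullback.fst p g) (pullback.fst p g) := by
    apply pullback.hom_ext
    · rw [Category.assoc, pullback.lift_fst, pullback.lift_fst_assoc, Category.comp_id,
        pullback.condition]
    · rw [Category.assoc, pullback.lift_snd, pullback.lift_snd_assoc, pullback.lift_snd]
  have hcoc' : pullback.fst (pullback.fst p g) (pullback.fst p g) ≫ f' ≫ pullback.fst q g =
      pullback.snd (pullback.fst p g) (pullback.fst p g) ≫ f' ≫ pullback.fst q g :=
    (congrArg (· ≫ f' ≫ pullback.fst q g) hk1.symm).trans ((Category.assoc _ _ _).trans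
      ((congrArg (pullback.lift _ _ hc2 ≫ ·) hcoc).trans ((Category.assoc _ _ _).symm.trans
        (congrArg (· ≫ f' ≫ pullback.fst q g) hk2))))
  obtain ⟨u, ⟨hu1, hu2⟩, huniq⟩ := Groth.Agent.Lib.Helper81.EtDescent.exists_unique_desc
    (pullback.fst p g) p q (f' ≫ pullback.fst q g) hF hcoc' hπ
  exact ⟨u, ⟨hu1, hu2.symm⟩, fun v hv => huniq v ⟨hv.1, hv.2.symm⟩⟩

end Groth.Agent.S3709
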