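import Groth.Statements.S3731
import Mathlib
import Groth.Agent.Lib.Helper86.TruncD

set_option autoImplicit false
universe u v
open CategoryTheory CategoryTheory.Limits
attribute [local instance] HasDerivedCategory.standard
open EtDl

namespace Groth.Agent.S3731

open DerivedCategory Groth.Agent.Lib.Helper86.TruncD

/-- Let A be an abelian category, k ≥ 0, and K_0 -> K_1 -> ... -> K_{2k} a chain of 2k morphisms in the
derived category of A such that every K_i has H^p(K_i) = 0 for p outside [0, k] and every morphism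
K_i -> K_{i+1} induces the zero map on H^p for all p < k. Let π : K_0 -> H^k(K_0)[-k] be the
morphism to the top cohomology object placed in degree k that induces the identity on H^k. Then the
composite K_0 -> K_{2k} factors through π. -/
theorem result {A : Type u} [Category.{v} A] [Abelian A] (k : ℕ)
    (K : ComposableArrows (DerivedCategory A) (2 * k))
    (hK : ∀ (i : ℕ) (hi : i ≤ 2 * k) (p : ℤ), p < 0 ∨ (k : ℤ) < p →
      IsZero ((DerivedCategory.homologyFunctor A p).obj (K.obj' i)))
    (hf : ∀ (i : ℕ) (hi : i < 2 * k) (p : ℤ), p < (k : ℤ) →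
      (DerivedCategory.homologyFunctor A p).map (K.map' i (i + 1)) = 0)
    (π : K.obj' 0 ⟶ (DerivedCategory.singleFunctor A (k : ℤ)).obj
      ((DerivedCategory.homologyFunctor A (k : ℤ)).obj (K.obj' 0)))
    (hπ : (DerivedCategory.homologyFunctor A (k : ℤ)).map π ≫
      (DerivedCategory.singleFunctorCompHomologyFunctorIso A (k : ℤ)).hom.app
        ((DerivedCategory.homologyFunctor A (k : ℤ)).obj (K.obj' 0)) = 𝟙 _) :
    ∃ φ : (DerivedCategory.singleFunctor A (k : ℤ)).obj
        ((DerivedCategory.homologyFunctor A (k : ℤ)).obj (K.obj' 0)) ⟶ K.obj' (2 * k),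
      K.map' 0 (2 * k) = π ≫ φ := by
  have hGE : ∀ (i : ℕ) (hi : i ≤ 2 * k), (K.obj' i).IsGE 0 := by
    intro i hi
    rw [isGE_iff]
    intro p hp
    exact hK i hi p (Or.inl hp)
  have hLE : ∀ (i : ℕ) (hi : i ≤ 2 * k), (K.obj' i).IsLE (k : ℤ) := by
    intro i hi
    rw [isLE_iff]
    intro p hp
    exact hK i hi p (Or.inr hp)
  have hπ' : IsIso ((DerivedCategory.homologyFunctor A (k : ℤ)).map π) :=
    IsIso.of_isIso_fac_right hπ
  have key : ∀ (j : ℕ) (hj : j ≤ k) (m : ℤ), m = (k : ℤ) - j →
      ∃ g : (TStructure.t.truncLT (k : ℤ)).obj (K.obj' 0) ⟶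
          (TStructure.t.truncLT m).obj (K.obj' j (by lia)),
        g ≫ (TStructure.t.truncLTι m).app (K.obj' j (by lia)) =
          (TStructure.t.truncLTι (k : ℤ)).app (K.obj' 0) ≫ K.map' 0 j (by lia) (by lia) := by
    intro j
    induction j with
    | zero =>
      intro hj m hm
      obtain rfl : m = k := by simpa using hm
      refine ⟨𝟙 _, ?_⟩
      rw [K.map'_self 0]
      exact (Category.id_comp _).trans (Category.comp_id _).symm
    | succ j ih =>
      intro hj m hm
      obtain ⟨g, hg⟩ := ih (by lia) (m + 1) (by push_cast at hm ⊢; lia)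
      have hf0 : (homologyFunctor A m).map
          ((TStructure.t.truncLTι (m + 1)).app (K.obj' j (by lia)) ≫
            K.map' j (j + 1) (by lia) (by lia)) = 0 := by
        rw [Functor.map_comp, hf j (by lia) m (by push_cast at hm; lia), comp_zero]
      obtain ⟨g', hg'⟩ := exists_lift_truncLT m _ hf0
      refine ⟨g ≫ g', ?_⟩
      rw [Category.assoc, hg', ← Category.assoc, hg, Category.assoc,
        ← K.map'_comp 0 j (j + 1) (by lia) (by lia) (by lia)]
  have hzero : (TStructure.t.truncLTι (k : ℤ)).app (K.obj' 0) ≫ K.map' 0 (2 * k) = 0 := by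
    obtain ⟨g, hg⟩ := key k le_rfl 0 (by simp)
    have : (K.obj' k (by lia)).IsGE 0 := hGE k (by lia)
    have hz : IsZero ((TStructure.t.truncLT 0).obj (K.obj' k (by lia))) :=
      TStructure.t.isZero_truncLT_obj_of_isGE 0 _
    rw [K.map'_comp 0 k (2 * k) (by lia) (by lia) (by lia), ← Category.assoc, ← hg,
      hz.eq_of_tgt g 0, zero_comp, zero_comp]
  have := hLE 0 (by lia)
  exact exists_factor_through_top (k : ℤ) π hπ' (K.map' 0 (2 * k)) hzero

end Groth.Agent.S3731
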