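import Groth.Statements.S3779
-- import your own Groth.Agent.* helpers here

set_option autoImplicit false
universe v u
open CategoryTheory CategoryTheory.Limits AlgebraicGeometry
attribute [local instance] HasDerivedCategory.standard
open KRR

namespace Groth.Agent.S3779

section
open LambdaRing Finset

variable {K : Type v} [CommRing K] [LambdaRing.LambdaOps K]

/-- a i = (-1)^i λ^i e -/
def acoef (e : K) (i : ℕ) : K := (-1 : K) ^ i * LambdaOps.lam i e

lemma acoef_zero (e : K) : acoef e 0 = 1 := by simp [acoef, LambdaOps.lam_zero]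

lemma sigma_rel (e : K) (n : ℕ) :
    ∑ i ∈ range (n + 1), acoef e i * KRR.sigma (n - i) e = if n = 0 then 1 else 0 := by
  have h : PowerSeries.rescale (-1 : K) (lamSeries e) * KRR.sigmaSeries e = 1 := by
    unfold KRR.sigmaSeries
    apply PowerSeries.mul_invOfUnit
    simp [← PowerSeries.coeff_zero_eq_constantCoeff_apply, PowerSeries.coeff_rescale, lamSeries,
      LambdaOps.lam_zero]
  have := congrArg (PowerSeries.coeff n) h
  rw [PowerSeries.coeff_mul, PowerSeries.coeff_one,
    Finset.Nat.sum_antidiagonal_eq_sum_range_succ_mk] at this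
  simpa [PowerSeries.coeff_rescale, lamSeries, KRR.sigma, acoef] using this

lemma acoef_eq_zero (P : PosStructure K) (e : K) (he : e ∈ P.pos) (m : ℕ) (hm : P.aug e = m)
    (i : ℕ) (hi : m < i) : acoef e i = 0 := by
  unfold acoef
  rw [P.lam_eq_zero e he i (by rw [hm]; exact_mod_cast hi), mul_zero]

lemma sigma_rel_trunc (P : PosStructure K) (e : K) (he : e ∈ P.pos) (m : ℕ) (hm : P.aug e = m)
    (n : ℕ) (hn : m ≤ n) :
    ∑ i ∈ range (m + 1), acoef e i * KRR.sigma (n - i) e = if n = 0 then 1 else 0 := by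
  rw [← sigma_rel e n]
  apply Finset.sum_subset (range_subset_range.2 (by omega))
  intro i hi hi'
  rw [acoef_eq_zero P e he m hm i (by simp at hi'; omega), zero_mul]

lemma root_rel (P : PosStructure K) (e : K) (m : ℕ) (hm : (P.aug e).toNat = m) :
    ∑ i ∈ range (m + 1), AdjoinRoot.of (KRR.extPoly P e) (acoef e i) *
      AdjoinRoot.root (KRR.extPoly P e) ^ (m - i) = 0 := by
  have h2 : KRR.extPoly P e =
      ∑ i ∈ range (m + 1), Polynomial.C (acoef e i) * Polynomial.X ^ (m - i) := by
    simp [KRR.extPoly, hm, acoef]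
  calc _ = Polynomial.eval₂ (AdjoinRoot.of (KRR.extPoly P e)) (AdjoinRoot.root (KRR.extPoly P e))
        (∑ i ∈ range (m + 1), Polynomial.C (acoef e i) * Polynomial.X ^ (m - i)) := by
        simp [Polynomial.eval₂_finsetSum]
    _ = Polynomial.eval₂ (AdjoinRoot.of (KRR.extPoly P e)) (AdjoinRoot.root (KRR.extPoly P e))
        (KRR.extPoly P e) := by rw [← h2]
    _ = 0 := AdjoinRoot.eval₂_root _

lemma f_of_mul (P : PosStructure K) (e : K) (f : AdjoinRoot (KRR.extPoly P e) →ₗ[K] K) (c : K)
    (x : AdjoinRoot (KRR.extPoly P e)) : f (AdjoinRoot.of (KRR.extPoly P e) c * x) = c * f x := by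
  rw [← AdjoinRoot.algebraMap_eq, ← Algebra.smul_def, map_smul, smul_eq_mul]

lemma f_rel (P : PosStructure K) (e : K) (m : ℕ) (hm : (P.aug e).toNat = m)
    (f : AdjoinRoot (KRR.extPoly P e) →ₗ[K] K) (y : AdjoinRoot (KRR.extPoly P e)) :
    ∑ i ∈ range (m + 1), acoef e i * f (AdjoinRoot.root (KRR.extPoly P e) ^ (m - i) * y) = 0 := by
  have := congrArg (fun x => f (x * y)) (root_rel P e m hm)
  simp only [Finset.sum_mul, map_sum, zero_mul, map_zero] at this
  rw [← this]
  refine Finset.sum_congr rfl fun i _ => ?_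
  rw [mul_assoc, f_of_mul]

theorem f_root_pow (P : PosStructure K) (e : K) (he : e ∈ P.pos) (r : ℕ) (hr : P.aug e = r + 1)
    (f : AdjoinRoot (KRR.extPoly P e) →ₗ[K] K)
    (hf : ∀ i : ℕ, i ≤ r → f (AdjoinRoot.root (KRR.extPoly P e) ^ i) = KRR.sigma i e) (n : ℕ) :
    f (AdjoinRoot.root (KRR.extPoly P e) ^ n) = KRR.sigma n e := by
  have hm : (P.aug e).toNat = r + 1 := by rw [hr]; omega
  have hr' : P.aug e = ((r + 1 : ℕ) : ℤ) := by rw [hr]; push_cast; rfl
  induction n using Nat.strong_induction_on with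
  | _ n ih =>
    rcases le_or_gt n r with h | h
    · exact hf n h
    · obtain ⟨k, rfl⟩ : ∃ k, n = r + 1 + k := ⟨n - (r + 1), by omega⟩
      have h1 := f_rel P e (r + 1) hm f (AdjoinRoot.root (KRR.extPoly P e) ^ k)
      have h3 := sigma_rel_trunc P e he (r + 1) hr' (r + 1 + k) (by omega)
      rw [if_neg (by omega)] at h3
      rw [Finset.sum_range_succ'] at h1 h3
      rw [acoef_zero, one_mul, Nat.sub_zero] at h1 h3
      rw [← pow_add] at h1
      have h4 : ∑ i ∈ range (r + 1), acoef e (i + 1) *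
          f (AdjoinRoot.root (KRR.extPoly P e) ^ (r + 1 - (i + 1)) *
            AdjoinRoot.root (KRR.extPoly P e) ^ k) =
          ∑ i ∈ range (r + 1), acoef e (i + 1) * KRR.sigma (r + 1 + k - (i + 1)) e := by
        refine Finset.sum_congr rfl fun i hi => ?_
        have hi' : i < r + 1 := by simpa using hi
        rw [← pow_add, ih _ (by omega)]
        congr 2; omega
      rw [h4] at h1
      exact (add_left_cancel (h1.trans h3.symm))

end

/-- Let K be a λ-ring with positive structure having the splitting property, e positive with ε(e) = r +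
1, K_e = K[T]/(p_e) with canonical generator ℓ (a unit), σ^i(e) the coefficients of σ_t(e) =
λ_{-t}(e)⁻¹, and f : K_e ⟶ K a K-linear map with f(ℓ^i) = σ^i(e) for 0 ≤ i ≤ r. Then f(ℓ^i) = σ^i(e)
for all i ≥ 0, and f(ℓ^{-n}) = 0 for 1 ≤ n ≤ r (stated with any inverse linv of ℓ). -/
theorem result (K : Type v) [CommRing K] [LambdaRing.LambdaOps K] (P : LambdaRing.PosStructure K) (hK : LambdaRing.HasSplitting K P) (e : K) (he : e ∈ P.pos) (r : ℕ) (hr : P.aug e = r + 1)
    (f : AdjoinRoot (KRR.extPoly P e) →ₗ[K] K)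
    (hf : ∀ i : ℕ, i ≤ r → f (AdjoinRoot.root (KRR.extPoly P e) ^ i) = KRR.sigma i e)
    (linv : AdjoinRoot (KRR.extPoly P e)) (hlinv : linv * AdjoinRoot.root (KRR.extPoly P e) = 1) :
    (∀ i : ℕ, f (AdjoinRoot.root (KRR.extPoly P e) ^ i) = KRR.sigma i e) ∧
    ∀ n : ℕ, 1 ≤ n → n ≤ r → f (linv ^ n) = 0 := by
  have part1 := f_root_pow P e he r hr f hf
  refine ⟨part1, ?_⟩
  have hm : (P.aug e).toNat = r + 1 := by rw [hr]; omega
  have hr' : P.aug e = ((r + 1 : ℕ) : ℤ) := by rw [hr]; push_cast; rfl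
  have hu : IsUnit (acoef e (r + 1)) := by
    have := P.isUnit_lam e he
    rw [hm] at this
    unfold acoef
    exact ((isUnit_neg_one (α := K)).pow _).mul this
  have hpow : ∀ a b : ℕ, AdjoinRoot.root (KRR.extPoly P e) ^ a * linv ^ (a + b) = linv ^ b := by
    intro a b
    rw [pow_add, ← mul_assoc, ← mul_pow, mul_comm _ linv, hlinv, one_pow, one_mul]
  have hpow2 : ∀ a b : ℕ, AdjoinRoot.root (KRR.extPoly P e) ^ (a + b) * linv ^ b =
      AdjoinRoot.root (KRR.extPoly P e) ^ a := by
    intro a b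
    rw [pow_add, mul_assoc, ← mul_pow, mul_comm _ linv, hlinv, one_pow, mul_one]
  intro n
  induction n using Nat.strong_induction_on with
  | _ n ih =>
    intro hn1 hnr
    have h1 := f_rel P e (r + 1) hm f (linv ^ n)
    have hsplit : r + 1 + 1 = (r + 1 - n + 1) + n := by omega
    rw [hsplit, Finset.sum_range_add] at h1
    have hA : ∑ i ∈ Finset.range (r + 1 - n + 1), acoef e i *
        f (AdjoinRoot.root (KRR.extPoly P e) ^ (r + 1 - i) * linv ^ n) = 0 := by
      have h3 := sigma_rel e (r + 1 - n)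
      rw [if_neg (by omega)] at h3
      rw [← h3]
      refine Finset.sum_congr rfl fun i hi => ?_
      have hi' : i < r + 1 - n + 1 := by simpa using hi
      have : r + 1 - i = (r + 1 - n - i) + n := by omega
      rw [this, hpow2, part1]
    rw [hA, zero_add] at h1
    rw [Finset.sum_eq_single (n - 1)] at h1
    · have h5 : r + 1 - n + 1 + (n - 1) = r + 1 := by omega
      have h6 : AdjoinRoot.root (KRR.extPoly P e) ^ (r + 1 - (r + 1)) * linv ^ n = linv ^ n := by
        simp
      rw [h5, h6] at h1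
      exact (hu.mul_right_eq_zero).1 h1
    · intro k hk hkn
      have hk' : k < n := by simpa using hk
      have h7 : r + 1 - (r + 1 - n + 1 + k) = n - 1 - k := by omega
      have h8 : n = (n - 1 - k) + (k + 1) := by omega
      have h9 := hpow (n - 1 - k) (k + 1)
      rw [← h8] at h9
      rw [h7, h9, ih (k + 1) (by omega) (by omega) (by omega), mul_zero]
    · intro h
      exact absurd (Finset.mem_range.2 (by omega)) h

end Groth.Agent.S3779
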