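import Groth.Statements.S3780
-- import your own Groth.Agent.* helpers here
import Groth.Agent.S3779

set_option autoImplicit false
universe v u
open CategoryTheory CategoryTheory.Limits AlgebraicGeometry
attribute [local instance] HasDerivedCategory.standard
open KRR

namespace Groth.Agent.S3780

/-- Let K be a λ-ring with positive structure admitting a splitting, e a positive element of
augmentation ε(e) = r + 1, K_e = K[T]/(p_e(T)) the elementary extension of K with ℓ the class of T,
and f : K_e → K a K-linear functional with f(ℓ^i) = σ^i(e) for i ≤ r. For any λ-operations on K_e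
extending those of K with λ^i(ℓ) = 0 for i ≥ 2, and q = e − ℓ ∈ K_e, one has f(λ^0(q)) = 1 and
f(λ^i(q)) = 0 for all i ≥ 1; that is, f(λ_t(q)) = 1. -/
theorem result (K : Type v) [CommRing K] [LambdaRing.LambdaOps K] (P : LambdaRing.PosStructure K) (hK : LambdaRing.HasSplitting K P) (e : K) (he : e ∈ P.pos) (r : ℕ) (hr : P.aug e = r + 1)
    (inst : LambdaRing.LambdaOps (AdjoinRoot (KRR.extPoly P e)))
    (hext : ∀ (i : ℕ) (x : K), @LambdaRing.LambdaOps.lam _ _ inst i (AdjoinRoot.of (KRR.extPoly P e) x) =
      AdjoinRoot.of (KRR.extPoly P e) (LambdaRing.LambdaOps.lam i x))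
    (hroot : ∀ i : ℕ, 2 ≤ i → @LambdaRing.LambdaOps.lam _ _ inst i (AdjoinRoot.root (KRR.extPoly P e)) = 0)
    (f : AdjoinRoot (KRR.extPoly P e) →ₗ[K] K)
    (hf : ∀ i : ℕ, i ≤ r → f (AdjoinRoot.root (KRR.extPoly P e) ^ i) = KRR.sigma i e) (i : ℕ) :
    f (@LambdaRing.LambdaOps.lam _ _ inst i (AdjoinRoot.of (KRR.extPoly P e) e - AdjoinRoot.root (KRR.extPoly P e))) =
      if i = 0 then 1 else 0 := by
  have part1 := Groth.Agent.S3779.f_root_pow P e he r hr f hf
  have hL : ∀ k, @LambdaRing.LambdaOps.lam _ _ inst (k + 1)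
      (AdjoinRoot.of (KRR.extPoly P e) e - AdjoinRoot.root (KRR.extPoly P e)) =
      AdjoinRoot.of (KRR.extPoly P e) (LambdaRing.LambdaOps.lam (k + 1) e) -
        AdjoinRoot.root (KRR.extPoly P e) * @LambdaRing.LambdaOps.lam _ _ inst k
          (AdjoinRoot.of (KRR.extPoly P e) e - AdjoinRoot.root (KRR.extPoly P e)) := by
    intro k
    have h := @LambdaRing.LambdaOps.lam_add _ _ inst (k + 1)
      (AdjoinRoot.of (KRR.extPoly P e) e - AdjoinRoot.root (KRR.extPoly P e))
      (AdjoinRoot.root (KRR.extPoly P e))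
    rw [sub_add_cancel, hext, Finset.sum_range_succ, Finset.sum_range_succ] at h
    rw [Finset.sum_eq_zero, zero_add] at h
    · rw [h]
      have h0 : k + 1 - (k + 1) = 0 := by omega
      have h1 : k + 1 - k = 1 := by omega
      rw [h0, h1, @LambdaRing.LambdaOps.lam_zero _ _ inst, @LambdaRing.LambdaOps.lam_one _ _ inst]
      ring
    · intro j hj
      have hj' : j < k := by simpa using hj
      rw [hroot _ (by omega), mul_zero]
  have hformula : ∀ k, @LambdaRing.LambdaOps.lam _ _ inst k
      (AdjoinRoot.of (KRR.extPoly P e) e - AdjoinRoot.root (KRR.extPoly P e)) =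
      ∑ j ∈ Finset.range (k + 1), AdjoinRoot.of (KRR.extPoly P e)
        ((-1 : K) ^ (k - j) * LambdaRing.LambdaOps.lam j e) *
          AdjoinRoot.root (KRR.extPoly P e) ^ (k - j) := by
    intro k
    induction k with
    | zero => simp [@LambdaRing.LambdaOps.lam_zero _ _ inst, LambdaRing.LambdaOps.lam_zero]
    | succ k ih =>
      rw [hL, ih, Finset.sum_range_succ _ (k + 1), Finset.mul_sum]
      have : ∀ j ∈ Finset.range (k + 1), AdjoinRoot.root (KRR.extPoly P e) *
          (AdjoinRoot.of (KRR.extPoly P e) ((-1 : K) ^ (k - j) * LambdaRing.LambdaOps.lam j e) *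
            AdjoinRoot.root (KRR.extPoly P e) ^ (k - j)) =
          - (AdjoinRoot.of (KRR.extPoly P e) ((-1 : K) ^ (k + 1 - j) * LambdaRing.LambdaOps.lam j e) *
            AdjoinRoot.root (KRR.extPoly P e) ^ (k + 1 - j)) := by
        intro j hj
        have hj' : j < k + 1 := by simpa using hj
        have : k + 1 - j = (k - j) + 1 := by omega
        rw [this, pow_succ, pow_succ]
        simp only [map_mul, map_neg, map_one, map_pow]
        ring
      rw [Finset.sum_congr rfl this, Finset.sum_neg_distrib]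
      simp
      ring
  rw [hformula, map_sum]
  have h2 : ∀ j ∈ Finset.range (i + 1), f (AdjoinRoot.of (KRR.extPoly P e)
        ((-1 : K) ^ (i - j) * LambdaRing.LambdaOps.lam j e) *
          AdjoinRoot.root (KRR.extPoly P e) ^ (i - j)) =
      (-1 : K) ^ i * (Groth.Agent.S3779.acoef e j * KRR.sigma (i - j) e) := by
    intro j hj
    have hj' : j < i + 1 := by simpa using hj
    rw [Groth.Agent.S3779.f_of_mul, part1]
    unfold Groth.Agent.S3779.acoef
    have : (-1 : K) ^ i = (-1) ^ (i - j) * (-1) ^ j := by rw [← pow_add]; congr 1; omega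
    rw [this]
    have h3 : ((-1 : K) ^ j) * (-1) ^ j = 1 := by rw [← mul_pow]; simp
    linear_combination (-(-1 : K) ^ (i - j) * LambdaRing.LambdaOps.lam j e * KRR.sigma (i - j) e) * h3
  rw [Finset.sum_congr rfl h2, ← Finset.mul_sum, Groth.Agent.S3779.sigma_rel]
  split_ifs with h
  · subst h; simp
  · simp

end Groth.Agent.S3780
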