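import Groth.Statements.S3781
import Groth.Agent.Lib.Helper11.LambdaBasic
import Groth.Agent.Lib.Helper48.LambdaGamma

set_option autoImplicit false
universe v u
open CategoryTheory CategoryTheory.Limits AlgebraicGeometry
attribute [local instance] HasDerivedCategory.standard
open KRR

namespace Groth.Agent.S3781

open LambdaRing Finset

section det

variable {K : Type u} [CommRing K] [LambdaOps K]

/-- `det e = λ^{ε(e)} e`. -/
def det (P : PosStructure K) (e : K) : K := LambdaOps.lam (P.aug e).toNat e

theorem aug_eq_toNat (P : PosStructure K) {e : K} (he : e ∈ P.pos) :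
    P.aug e = ((P.aug e).toNat : ℤ) := by
  have := P.aug_pos e he
  omega

theorem det_add (P : PosStructure K) {e f : K} (he : e ∈ P.pos) (hf : f ∈ P.pos) :
    det P (e + f) = det P e * det P f := by
  unfold det
  have h1 := aug_eq_toNat P he
  have h2 := aug_eq_toNat P hf
  have h3 : (P.aug (e + f)).toNat = (P.aug e).toNat + (P.aug f).toNat := by
    rw [map_add]; omega
  rw [h3, LambdaOps.lam_add, Finset.sum_eq_single (P.aug e).toNat]
  · rw [Nat.add_sub_cancel_left]
  · intro i hi hne
    rw [Finset.mem_range] at hi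
    rcases Nat.lt_or_gt_of_ne hne with h | h
    · rw [P.lam_eq_zero f hf ((P.aug e).toNat + (P.aug f).toNat - i) (by omega), mul_zero]
    · rw [P.lam_eq_zero e he i (by omega), zero_mul]
  · intro h
    exact absurd (Finset.mem_range.mpr (by omega)) h

theorem det_line (P : PosStructure K) {u : K} (hu : P.IsLine u) : det P u = u := by
  unfold det
  rw [hu.2]
  exact LambdaOps.lam_one u

theorem isUnit_det (P : PosStructure K) {e : K} (he : e ∈ P.pos) : IsUnit (det P e) :=
  P.isUnit_lam e he

theorem isUnit_line (P : PosStructure K) {u : K} (hu : P.IsLine u) : IsUnit u := by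
  have := isUnit_det P hu.1
  rwa [det_line P hu] at this

/-- The subgroup of elements all of whose presentations `e - f` have `det e = det f`. -/
def T (P : PosStructure K) : AddSubgroup K where
  carrier := {x | ∀ e f, e ∈ P.pos → f ∈ P.pos → x = e - f → det P e = det P f}
  zero_mem' := by
    intro e f _ _ h
    have : e = f := by linear_combination -h
    rw [this]
  add_mem' := by
    intro x x' hx hx' e'' f'' he'' hf'' h
    obtain ⟨e, f, he, hf, hxe⟩ := P.exists_sub x
    obtain ⟨e', f', he', hf', hxe'⟩ := P.exists_sub x'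
    have h1 := hx e f he hf hxe
    have h2 := hx' e' f' he' hf' hxe'
    have h3 : e'' + (f + f') = f'' + (e + e') := by
      linear_combination -h + hxe + hxe'
    have h4 := congrArg (det P) h3
    rw [det_add P he'' (P.add_mem _ _ hf hf'), det_add P hf'' (P.add_mem _ _ he he'),
      det_add P hf hf', det_add P he he', h1, h2] at h4
    exact ((isUnit_det P hf).mul (isUnit_det P hf')).mul_left_injective h4
  neg_mem' := by
    intro x hx e f he hf h
    exact (hx f e hf he (by linear_combination -h)).symm

theorem mem_T (P : PosStructure K) (x : K) :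
    x ∈ T P ↔ ∀ e f, e ∈ P.pos → f ∈ P.pos → x = e - f → det P e = det P f := Iff.rfl

/-- `(a - 1)(b - 1)c ∈ T` for line elements `a, b, c`. -/
theorem gen_mem_T (P : PosStructure K) {a b c : K} (ha : P.IsLine a) (hb : P.IsLine b)
    (hc : P.IsLine c) : (a - 1) * (b - 1) * c ∈ T P := by
  intro E F hE hF h
  have hac := H11Lam.isLine_mul P ha hc
  have hbc := H11Lam.isLine_mul P hb hc
  have habc := H11Lam.isLine_mul P (H11Lam.isLine_mul P ha hb) hc
  have h3 : E + (a * c + b * c) = F + (a * b * c + c) := by linear_combination -h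
  have h4 := congrArg (det P) h3
  rw [det_add P hE (P.add_mem _ _ hac.1 hbc.1), det_add P hF (P.add_mem _ _ habc.1 hc.1),
    det_add P hac.1 hbc.1, det_add P habc.1 hc.1, det_line P hac, det_line P hbc,
    det_line P habc, det_line P hc] at h4
  have hu : IsUnit (a * c * (b * c)) := (isUnit_line P hac).mul (isUnit_line P hbc)
  have h5 : det P E * (a * c * (b * c)) = det P F * (a * c * (b * c)) := by
    rw [h4]; ring
  exact hu.mul_left_injective h5

end det

section GH

variable {K : Type u} [CommRing K] [LambdaOps K]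

/-- The subgroup generated by `(a-1)(b-1)c`, `a, b, c` lines. -/
def G (P : PosStructure K) : AddSubgroup K :=
  AddSubgroup.closure {y | ∃ a b c, P.IsLine a ∧ P.IsLine b ∧ P.IsLine c ∧ y = (a - 1) * (b - 1) * c}

theorem G_le_T (P : PosStructure K) : G P ≤ T P := by
  unfold G
  rw [AddSubgroup.closure_le]
  rintro y ⟨a, b, c, ha, hb, hc, rfl⟩
  exact gen_mem_T P ha hb hc

theorem G_mul_line (P : PosStructure K) {y w : K} (hy : y ∈ G P) (hw : P.IsLine w) :
    y * w ∈ G P := by
  unfold G at hy ⊢
  induction hy using AddSubgroup.closure_induction with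
  | mem y hy =>
    obtain ⟨a, b, c, ha, hb, hc, rfl⟩ := hy
    apply AddSubgroup.subset_closure
    exact ⟨a, b, c * w, ha, hb, H11Lam.isLine_mul P hc hw, by ring⟩
  | zero => rw [zero_mul]; exact AddSubgroup.zero_mem _
  | add x y _ _ hx hy => rw [add_mul]; exact AddSubgroup.add_mem _ hx hy
  | neg x _ hx => rw [neg_mul]; exact AddSubgroup.neg_mem _ hx

theorem G_mul_sub_one (P : PosStructure K) {y w : K} (hy : y ∈ G P) (hw : P.IsLine w) :
    y * (w - 1) ∈ G P := by
  rw [mul_sub, mul_one]
  exact AddSubgroup.sub_mem _ (G_mul_line P hy hw) hy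

/-- `H d`: the subgroup generated by products of at least `d` factors `w - 1`, `w` a line. -/
def H (P : PosStructure K) (d : ℕ) : AddSubgroup K :=
  AddSubgroup.closure {y | ∃ l : List K, (∀ w ∈ l, P.IsLine w) ∧ d ≤ l.length ∧
    y = (l.map fun w => w - 1).prod}

theorem H_antitone (P : PosStructure K) {d d' : ℕ} (h : d ≤ d') : H P d' ≤ H P d := by
  unfold H
  apply AddSubgroup.closure_mono
  rintro y ⟨l, hl, hd, rfl⟩
  exact ⟨l, hl, h.trans hd, rfl⟩

theorem one_mem_H (P : PosStructure K) : (1 : K) ∈ H P 0 :=
  AddSubgroup.subset_closure ⟨[], by simp, le_rfl, by simp⟩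

theorem sub_one_mem_H (P : PosStructure K) {u : K} (hu : P.IsLine u) : u - 1 ∈ H P 1 :=
  AddSubgroup.subset_closure ⟨[u], by simpa using hu, le_rfl, by simp⟩

theorem H_mul (P : PosStructure K) {a b : ℕ} {x y : K} (hx : x ∈ H P a) (hy : y ∈ H P b) :
    x * y ∈ H P (a + b) := by
  unfold H at hx
  induction hx using AddSubgroup.closure_induction with
  | mem x hx =>
    obtain ⟨l, hl, hla, rfl⟩ := hx
    unfold H at hy
    induction hy using AddSubgroup.closure_induction with
    | mem y hy =>
      obtain ⟨l', hl', hlb, rfl⟩ := hy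
      apply AddSubgroup.subset_closure
      refine ⟨l ++ l', ?_, ?_, ?_⟩
      · intro w hw
        rcases List.mem_append.mp hw with h | h
        · exact hl w h
        · exact hl' w h
      · rw [List.length_append]; omega
      · rw [List.map_append, List.prod_append]
    | zero => rw [mul_zero]; exact AddSubgroup.zero_mem _
    | add x y _ _ hx hy => rw [mul_add]; exact AddSubgroup.add_mem _ hx hy
    | neg x _ hx => rw [mul_neg]; exact AddSubgroup.neg_mem _ hx
  | zero => rw [zero_mul]; exact AddSubgroup.zero_mem _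
  | add x y _ _ hx hy => rw [add_mul]; exact AddSubgroup.add_mem _ hx hy
  | neg x _ hx => rw [neg_mul]; exact AddSubgroup.neg_mem _ hx

theorem H_pow (P : PosStructure K) {x : K} (hx : x ∈ H P 1) (k : ℕ) : x ^ k ∈ H P k := by
  induction k with
  | zero => rw [pow_zero]; exact one_mem_H P
  | succ k ih => rw [pow_succ]; exact H_mul P ih hx

theorem H_two_le_G (P : PosStructure K) {d : ℕ} (hd : 2 ≤ d) : H P d ≤ G P := by
  unfold H
  rw [AddSubgroup.closure_le]
  rintro y ⟨l, hl, hld, rfl⟩
  match l, hl, hld with
  | [], _, h => simp at h; omega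
  | [_], _, h => simp at h; omega
  | a :: b :: rest, hl, _ =>
    have ha := hl a (by simp)
    have hb := hl b (by simp)
    have hrest : ∀ w ∈ rest, P.IsLine w := fun w hw => hl w (by simp [hw])
    have key : ∀ (rest : List K), (∀ w ∈ rest, P.IsLine w) →
        (a - 1) * (b - 1) * (rest.map fun w => w - 1).prod ∈ G P := by
      intro rest
      induction rest using List.reverseRecOn with
      | nil =>
        intro _
        apply AddSubgroup.subset_closure
        exact ⟨a, b, 1, ha, hb, H11Lam.isLine_one P, by simp⟩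
      | append_singleton rest w ih =>
        intro h
        rw [List.map_append, List.prod_append, ← mul_assoc]
        simp only [List.map_cons, List.map_nil, List.prod_cons, List.prod_nil, mul_one]
        exact G_mul_sub_one P (ih fun v hv => h v (by simp [hv])) (h w (by simp))
    have := key rest hrest
    simpa [mul_assoc] using this

/-- `InZ x`: every `γ^r x` lies in `H r`. -/
def InZ (P : PosStructure K) (x : K) : Prop := ∀ r, gamma r x ∈ H P r

theorem InZ_add (P : PosStructure K) {x y : K} (hx : InZ P x) (hy : InZ P y) : InZ P (x + y) := by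
  intro r
  rw [Groth.Agent.Lib.Helper48.gamma_add]
  apply AddSubgroup.sum_mem
  intro i hi
  rw [Finset.mem_range] at hi
  have := H_mul P (hx i) (hy (r - i))
  rwa [show i + (r - i) = r by omega] at this

end GH

section gammaLine

variable {K : Type u} [CommRing K] [LambdaOps K]

open Groth.Agent.Lib.Helper48 in
theorem gammaSeries_line_sub_one (P : PosStructure K) {u : K} (hu : P.IsLine u) :
    gammaSeries (u - 1) = 1 + PowerSeries.C (u - 1) * PowerSeries.X := by
  have h := gammaSeries_sub_aug P u hu.1
  have h1 : (P.aug u).toNat = 1 := by rw [hu.2]; rfl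
  unfold Qpoly at h
  rw [h1, Nat.cast_one] at h
  rw [h]
  simp [Finset.sum_range_succ, LambdaOps.lam_zero, LambdaOps.lam_one]
  ring

open Groth.Agent.Lib.Helper48 in
theorem gammaSeries_zero' (P : PosStructure K) : gammaSeries (0 : K) = 1 := by
  have := gammaSeries_natCast P 0
  simpa using this

open Groth.Agent.Lib.Helper48 in
theorem gammaSeries_neg_line_sub_one (P : PosStructure K) {u : K} (hu : P.IsLine u) :
    gammaSeries (-(u - 1)) = PowerSeries.mk fun k => (-(u - 1)) ^ k := by
  have h1 : gammaSeries (u - 1) * gammaSeries (-(u - 1)) = 1 := by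
    rw [← gammaSeries_add, add_neg_cancel, gammaSeries_zero' P]
  have h2 := geom_inv (-(u - 1))
  rw [gammaSeries_line_sub_one P hu] at h1
  have h3 : (1 - PowerSeries.C (-(u - 1)) * PowerSeries.X : PowerSeries K) =
      1 + PowerSeries.C (u - 1) * PowerSeries.X := by
    rw [map_neg]; ring
  rw [h3] at h2
  exact Groth.Agent.Lib.Helper48.inv_unique h1 h2

open Groth.Agent.Lib.Helper48 in
theorem InZ_line_sub_one (P : PosStructure K) {u : K} (hu : P.IsLine u) : InZ P (u - 1) := by
  intro r
  rw [← coeff_gammaSeries, gammaSeries_line_sub_one P hu]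
  rcases r with _ | _ | r
  · simp only [map_add, PowerSeries.coeff_one, PowerSeries.coeff_C_mul, PowerSeries.coeff_zero_X,
      mul_zero, add_zero, if_true]
    exact one_mem_H P
  · simp only [map_add, PowerSeries.coeff_one, PowerSeries.coeff_C_mul]
    simpa using sub_one_mem_H P hu
  · simp only [map_add, PowerSeries.coeff_one, PowerSeries.coeff_C_mul, PowerSeries.coeff_X]
    simp

open Groth.Agent.Lib.Helper48 in
theorem InZ_neg_line_sub_one (P : PosStructure K) {u : K} (hu : P.IsLine u) :
    InZ P (-(u - 1)) := by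
  intro r
  rw [← coeff_gammaSeries, gammaSeries_neg_line_sub_one P hu, PowerSeries.coeff_mk, neg_pow]
  have h := H_pow P (sub_one_mem_H P hu) r
  rcases neg_one_pow_eq_or K r with h' | h'
  · rw [h', one_mul]; exact h
  · rw [h', neg_one_mul]; exact AddSubgroup.neg_mem _ h

open Groth.Agent.Lib.Helper48 in
theorem InZ_zero (P : PosStructure K) : InZ P (0 : K) := by
  intro r
  rw [← coeff_gammaSeries, gammaSeries_zero' P, PowerSeries.coeff_one]
  split_ifs with h
  · subst h; exact one_mem_H P
  · exact AddSubgroup.zero_mem _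

theorem InZ_multiset_sum (P : PosStructure K) (m : Multiset K) (hm : ∀ x ∈ m, InZ P x) :
    InZ P m.sum := by
  induction m using Multiset.induction_on with
  | empty => rw [Multiset.sum_zero]; exact InZ_zero P
  | cons a m ih =>
    rw [Multiset.sum_cons]
    exact InZ_add P (hm a (Multiset.mem_cons_self a m))
      (ih fun x hx => hm x (Multiset.mem_cons_of_mem hx))

/-- `x` is a difference of two sums of equally many line elements. -/
def IsSplit (P : PosStructure K) (x : K) : Prop :=
  ∃ s t : Multiset K, (∀ u ∈ s, P.IsLine u) ∧ (∀ u ∈ t, P.IsLine u) ∧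
    Multiset.card s = Multiset.card t ∧ x = s.sum - t.sum

omit [LambdaOps K] in
theorem sum_map_sub_one (m : Multiset K) :
    (m.map fun u => u - 1).sum = m.sum - (Multiset.card m : K) := by
  induction m using Multiset.induction_on with
  | empty => simp
  | cons a m ih =>
    rw [Multiset.map_cons, Multiset.sum_cons, ih, Multiset.sum_cons, Multiset.card_cons]
    push_cast; ring

theorem InZ_of_isSplit (P : PosStructure K) {x : K} (hx : IsSplit P x) : InZ P x := by
  obtain ⟨s, t, hs, ht, hcard, rfl⟩ := hx
  have h1 : s.sum - t.sum = (s.map fun u => u - 1).sum + (t.map fun u => -(u - 1)).sum := by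
    have : (t.map fun u => -(u - 1)).sum = -(t.map fun u => u - 1).sum := by
      rw [← Multiset.sum_map_neg', Multiset.map_map]
      rfl
    rw [this, sum_map_sub_one, sum_map_sub_one, hcard]; ring
  rw [h1]
  apply InZ_add
  · apply InZ_multiset_sum
    intro x hx
    obtain ⟨u, hu, rfl⟩ := Multiset.mem_map.mp hx
    exact InZ_line_sub_one P (hs u hu)
  · apply InZ_multiset_sum
    intro x hx
    obtain ⟨u, hu, rfl⟩ := Multiset.mem_map.mp hx
    exact InZ_neg_line_sub_one P (ht u hu)

/-- Products of `γ^{r_i}(x_i)` with all `x_i ∈ Z` lie in `H (Σ r_i)`. -/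
theorem prod_gamma_mem_H (P : PosStructure K) (l : List (ℕ × K)) (hl : ∀ p ∈ l, InZ P p.2) :
    (l.map fun p => gamma p.1 p.2).prod ∈ H P (l.map Prod.fst).sum := by
  induction l with
  | nil => simpa using one_mem_H P
  | cons p l ih =>
    rw [List.map_cons, List.map_cons, List.prod_cons, List.sum_cons]
    exact H_mul P (hl p (by simp) p.1) (ih fun q hq => hl q (by simp [hq]))

end gammaLine

section split

theorem map_gamma {K L : Type u} [CommRing K] [LambdaOps K] [CommRing L] [LambdaOps L]
    (f : K →+* L) (hf : IsLambdaHom f) (k : ℕ) (x : K) : f (gamma k x) = gamma k (f x) := by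
  unfold gamma
  split_ifs with h
  · exact map_one f
  · rw [map_sum]
    apply Finset.sum_congr rfl
    intro j _
    rw [map_mul, map_natCast]
    split_ifs with hj
    · rw [map_zero]
    · rw [hf j x]

theorem isSplit_map {K L : Type u} [CommRing K] [LambdaOps K] [CommRing L] [LambdaOps L]
    (P : PosStructure K) (P' : PosStructure L) (f : K →+* L) (hf : IsExtension P P' f) {x : K}
    (hx : IsSplit P x) : IsSplit P' (f x) := by
  obtain ⟨s, t, hs, ht, hcard, rfl⟩ := hx
  refine ⟨s.map f, t.map f, ?_, ?_, ?_, ?_⟩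
  · intro u hu
    obtain ⟨v, hv, rfl⟩ := Multiset.mem_map.mp hu
    exact Groth.Agent.Lib.Helper48.isLine_map P P' f hf (hs v hv)
  · intro u hu
    obtain ⟨v, hv, rfl⟩ := Multiset.mem_map.mp hu
    exact Groth.Agent.Lib.Helper48.isLine_map P P' f hf (ht v hv)
  · rw [Multiset.card_map, Multiset.card_map, hcard]
  · rw [map_sub, map_multiset_sum, map_multiset_sum]

theorem isExtension_id {K : Type u} [CommRing K] [LambdaOps K] (P : PosStructure K) :
    IsExtension P P (RingHom.id K) where
  isLambdaHom := fun _ _ => rfl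
  injective := fun _ _ h => h
  aug_comp := fun _ => rfl
  pos_subset := fun _ he => he

theorem exists_split_sub {K : Type u} [CommRing K] [LambdaOps K] (P : PosStructure K)
    (hK : HasSplitting K P) (x : K) (hx : P.aug x = 0) :
    ∃ (L : Type u) (_ : CommRing L) (_ : LambdaOps L) (P' : PosStructure L) (f : K →+* L),
      IsExtension P P' f ∧ HasSplitting L P' ∧ IsSplit P' (f x) := by
  obtain ⟨e, f', he, hf', rfl⟩ := P.exists_sub x
  obtain ⟨L1, _, _, P1, f1, ext1, hK1, s, hs, hsum⟩ := H11Lam.exists_splitting P hK e he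
  obtain ⟨L2, _, _, P2, f2, ext2, hK2, t, ht, htsum⟩ :=
    H11Lam.exists_splitting P1 hK1 (f1 f') (ext1.pos_subset f' hf')
  refine ⟨L2, inferInstance, inferInstance, P2, f2.comp f1,
    Groth.Agent.Lib.Helper48.isExtension_comp P P1 P2 f1 f2 ext1 ext2, hK2, s.map f2, t, ?_, ht,
    ?_, ?_⟩
  · intro u hu
    obtain ⟨v, hv, rfl⟩ := Multiset.mem_map.mp hu
    exact Groth.Agent.Lib.Helper48.isLine_map P1 P2 f2 ext2 (hs v hv)
  · have h1 := H11Lam.aug_multiset_sum P1 s hs
    have h2 := H11Lam.aug_multiset_sum P2 t ht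
    rw [hsum, ext1.aug_comp] at h1
    rw [htsum, ext2.aug_comp, ext1.aug_comp] at h2
    rw [map_sub] at hx
    rw [Multiset.card_map]
    have : (Multiset.card s : ℤ) = Multiset.card t := by rw [← h1, ← h2]; linarith
    exact_mod_cast this
  · rw [RingHom.comp_apply, map_sub, map_sub, ← hsum, ← htsum, map_multiset_sum]

theorem exists_split_list (n : ℕ) : ∀ (K : Type u) [CommRing K] [LambdaOps K]
    (P : PosStructure K) (_ : HasSplitting K P) (l : List K), l.length = n →
    (∀ x ∈ l, P.aug x = 0) →
    ∃ (L : Type u) (_ : CommRing L) (_ : LambdaOps L) (P' : PosStructure L) (f : K →+* L),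
      IsExtension P P' f ∧ ∀ x ∈ l, IsSplit P' (f x) := by
  induction n with
  | zero =>
    intro K _ _ P _ l hl _
    refine ⟨K, inferInstance, inferInstance, P, RingHom.id K, isExtension_id P, ?_⟩
    intro x hx
    rw [List.length_eq_zero_iff] at hl
    rw [hl] at hx
    simp at hx
  | succ n ih =>
    intro K _ _ P hK l hl haug
    match l, hl, haug with
    | x :: l', hl, haug =>
      obtain ⟨L1, _, _, P1, f1, ext1, hK1, hx1⟩ :=
        exists_split_sub P hK x (haug x (by simp))
      obtain ⟨L2, _, _, P2, f2, ext2, h2⟩ := ih L1 P1 hK1 (l'.map f1)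
        (by simpa using hl)
        (by
          intro y hy
          obtain ⟨z, hz, rfl⟩ := List.mem_map.mp hy
          rw [ext1.aug_comp]
          exact haug z (by simp [hz]))
      refine ⟨L2, inferInstance, inferInstance, P2, f2.comp f1,
        Groth.Agent.Lib.Helper48.isExtension_comp P P1 P2 f1 f2 ext1 ext2, ?_⟩
      intro y hy
      rw [RingHom.comp_apply]
      rcases List.mem_cons.mp hy with rfl | hy
      · exact isSplit_map P1 P2 f2 ext2 hx1
      · exact h2 (f1 y) (List.mem_map_of_mem hy)

end split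

section main

variable {K : Type u} [CommRing K] [LambdaOps K]

theorem mem_gammaFiltration_of_gen (P : PosStructure K) (n : ℕ) (l : List (ℕ × K))
    (hl : ∀ p ∈ l, P.aug p.2 = 0) (hn : n ≤ (l.map Prod.fst).sum) :
    (l.map fun p => gamma p.1 p.2).prod ∈ gammaFiltration P n := by
  unfold gammaFiltration
  split_ifs with h
  · trivial
  · exact AddSubgroup.subset_closure ⟨l, hl, hn, rfl⟩

theorem gamma_one (x : K) : gamma 1 x = x := by
  unfold gamma
  simp [Finset.sum_range_succ, LambdaOps.lam_one]

theorem gamma_zero (x : K) : gamma 0 x = 1 := by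
  unfold gamma; simp

theorem F2_le_T (P : PosStructure K) (hK : HasSplitting K P) : gammaFiltration P 2 ≤ T P := by
  unfold gammaFiltration
  rw [if_neg (by norm_num), AddSubgroup.closure_le]
  rintro y ⟨l, hl, hsum, rfl⟩
  intro e f he hf hy
  obtain ⟨L, _, _, P', g, ext, hsplit⟩ := exists_split_list (l.map Prod.snd).length K P hK
    (l.map Prod.snd) rfl (by
      intro x hx
      obtain ⟨p, hp, rfl⟩ := List.mem_map.mp hx
      exact hl p hp)
  have h1 : g ((l.map fun p => gamma p.1 p.2).prod) =
      ((l.map (Prod.map id g)).map fun p => gamma p.1 p.2).prod := by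
    rw [map_list_prod, List.map_map, List.map_map]
    congr 1
    apply List.map_congr_left
    intro p _
    simp [map_gamma g ext.isLambdaHom]
  have h2 : ((l.map (Prod.map id g)).map fun p => gamma p.1 p.2).prod ∈
      H P' ((l.map (Prod.map id g)).map Prod.fst).sum := by
    apply prod_gamma_mem_H
    intro p hp
    obtain ⟨q, hq, rfl⟩ := List.mem_map.mp hp
    exact InZ_of_isSplit P' (hsplit q.2 (List.mem_map_of_mem hq))
  have hsum' : ((l.map (Prod.map id g)).map Prod.fst).sum = (l.map Prod.fst).sum := by
    rw [List.map_map]; rfl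
  rw [hsum', ← h1] at h2
  have h3 : g ((l.map fun p => gamma p.1 p.2).prod) ∈ T P' :=
    G_le_T P' (H_two_le_G P' hsum h2)
  have h4 := h3 (g e) (g f) (ext.pos_subset e he) (ext.pos_subset f hf) (by rw [hy, map_sub])
  have hdet : ∀ z, det P' (g z) = g (det P z) := by
    intro z; unfold det; rw [ext.aug_comp, ext.isLambdaHom]
  rw [hdet, hdet] at h4
  exact ext.injective h4

theorem mul_sub_one_mem_F2 (P : PosStructure K) {u v : K} (hu : P.IsLine u) (hv : P.IsLine v) :
    (u - 1) * (v - 1) ∈ gammaFiltration P 2 := by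
  have := mem_gammaFiltration_of_gen P 2 [(1, u - 1), (1, v - 1)]
    (by
      intro p hp
      simp only [List.mem_cons, List.not_mem_nil, or_false] at hp
      rcases hp with rfl | rfl
      · simp [hu.2]
      · simp [hv.2])
    (by simp)
  simpa [gamma_one] using this

/-- The subgroup of `x` congruent mod `F²` to some `u - 1`, `u` a line. -/
def S1 (P : PosStructure K) (hLinv : ∀ w : K, P.IsLine w → ∃ w' : K, P.IsLine w' ∧ w * w' = 1) :
    AddSubgroup K where
  carrier := {x | ∃ u, P.IsLine u ∧ x - (u - 1) ∈ gammaFiltration P 2}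
  zero_mem' := ⟨1, H11Lam.isLine_one P, by simp⟩
  add_mem' := by
    rintro x x' ⟨u, hu, hx⟩ ⟨v, hv, hx'⟩
    refine ⟨u * v, H11Lam.isLine_mul P hu hv, ?_⟩
    have : x + x' - (u * v - 1) = (x - (u - 1)) + (x' - (v - 1)) - (u - 1) * (v - 1) := by ring
    rw [this]
    exact AddSubgroup.sub_mem _ (AddSubgroup.add_mem _ hx hx') (mul_sub_one_mem_F2 P hu hv)
  neg_mem' := by
    rintro x ⟨u, hu, hx⟩
    obtain ⟨u', hu', huu'⟩ := hLinv u hu
    refine ⟨u', hu', ?_⟩
    have : -x - (u' - 1) = -(x - (u - 1)) + (u - 1) * (u' - 1) := by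
      linear_combination (-1 : K) * huu'
    rw [this]
    exact AddSubgroup.add_mem _ (AddSubgroup.neg_mem _ hx) (mul_sub_one_mem_F2 P hu hu')

theorem prod_of_sum_le_one (P : PosStructure K) (l : List (ℕ × K)) (hl : ∀ p ∈ l, P.aug p.2 = 0) :
    ((l.map Prod.fst).sum = 0 → (l.map fun p => gamma p.1 p.2).prod = 1) ∧
    ((l.map Prod.fst).sum = 1 → ∃ x, P.aug x = 0 ∧ (l.map fun p => gamma p.1 p.2).prod = x) := by
  induction l with
  | nil => simp
  | cons p l ih =>
    have ih' := ih fun q hq => hl q (by simp [hq])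
    simp only [List.map_cons, List.sum_cons, List.prod_cons]
    constructor
    · intro h
      have h1 : p.1 = 0 := by omega
      have h2 : (l.map Prod.fst).sum = 0 := by omega
      rw [ih'.1 h2, h1, gamma_zero, mul_one]
    · intro h
      rcases Nat.eq_zero_or_pos p.1 with h1 | h1
      · have h2 : (l.map Prod.fst).sum = 1 := by omega
        obtain ⟨x, hx, hx'⟩ := ih'.2 h2
        exact ⟨x, hx, by rw [hx', h1, gamma_zero, one_mul]⟩
      · have h1' : p.1 = 1 := by omega
        have h2 : (l.map Prod.fst).sum = 0 := by omega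
        exact ⟨p.2, hl p (by simp), by rw [ih'.1 h2, h1', gamma_one, mul_one]⟩

open Groth.Agent.Lib.Helper48 in
theorem lam_top_eq_sum_gamma (P : PosStructure K) (e : K) (he : e ∈ P.pos) :
    LambdaOps.lam (P.aug e).toNat e =
      ∑ i ∈ range ((P.aug e).toNat + 1), gamma i (e - ((P.aug e).toNat : K)) := by
  have h := congrArg (Polynomial.eval (1 : K)) (gamma_sub_aug_identity P e he)
  rw [Polynomial.eval_finsetSum, Polynomial.eval_finsetSum] at h
  simp only [Polynomial.eval_mul, Polynomial.eval_C, Polynomial.eval_pow, Polynomial.eval_X,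
    one_pow, mul_one, Polynomial.eval_sub, Polynomial.eval_one, sub_self] at h
  rw [h, Finset.sum_eq_single (P.aug e).toNat]
  · simp
  · intro i hi hne
    rw [Finset.mem_range] at hi
    rw [zero_pow (by omega), mul_zero]
  · intro h'
    exact absurd (Finset.mem_range.mpr (by omega)) h'

theorem pos_sub_aug_mem_S1 (P : PosStructure K) (hK : HasSplitting K P)
    (hLinv : ∀ w : K, P.IsLine w → ∃ w' : K, P.IsLine w' ∧ w * w' = 1)
    (hdet : ∀ e : K, e ∈ P.pos → LambdaOps.lam (P.aug e).toNat e ∈ P.pos)
    (e : K) (he : e ∈ P.pos) : e - ((P.aug e).toNat : K) ∈ S1 P hLinv := by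
  have hm := aug_eq_toNat P he
  have hpos := P.aug_pos e he
  refine ⟨LambdaOps.lam (P.aug e).toNat e, ⟨hdet e he, ?_⟩, ?_⟩
  · rw [Groth.Agent.Lib.Helper48.aug_lam_eq_choose P hK e he, Nat.choose_self]; rfl
  · rw [lam_top_eq_sum_gamma P e he]
    obtain ⟨m', hm'⟩ : ∃ m', (P.aug e).toNat = m' + 1 := ⟨(P.aug e).toNat - 1, by omega⟩
    have haug0 : P.aug (e - ((P.aug e).toNat : K)) = 0 := by
      rw [map_sub, map_natCast]; omega
    rw [hm'] at haug0 ⊢
    rw [Finset.sum_range_succ', Finset.sum_range_succ', gamma_zero, gamma_one]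
    have : e - ((m' + 1 : ℕ) : K) - (∑ k ∈ range m', gamma (k + 1 + 1) (e - ((m' + 1 : ℕ) : K)) +
        (e - ((m' + 1 : ℕ) : K)) + 1 - 1) =
        -∑ k ∈ range m', gamma (k + 1 + 1) (e - ((m' + 1 : ℕ) : K)) := by ring
    rw [this]
    apply AddSubgroup.neg_mem
    apply AddSubgroup.sum_mem
    intro k _
    have := mem_gammaFiltration_of_gen P 2 [(k + 1 + 1, e - ((m' + 1 : ℕ) : K))]
      (by simpa using haug0) (by simp)
    simpa using this

theorem F1_le_S1 (P : PosStructure K) (hK : HasSplitting K P)
    (hLinv : ∀ w : K, P.IsLine w → ∃ w' : K, P.IsLine w' ∧ w * w' = 1)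
    (hdet : ∀ e : K, e ∈ P.pos → LambdaOps.lam (P.aug e).toNat e ∈ P.pos) :
    gammaFiltration P 1 ≤ S1 P hLinv := by
  unfold gammaFiltration
  rw [if_neg (by norm_num), AddSubgroup.closure_le]
  rintro y ⟨l, hl, hsum, rfl⟩
  rcases Nat.lt_or_ge 1 (l.map Prod.fst).sum with h | h
  · refine ⟨1, H11Lam.isLine_one P, ?_⟩
    rw [sub_self, sub_zero]
    exact mem_gammaFiltration_of_gen P 2 l hl h
  · have h1 : (l.map Prod.fst).sum = 1 := by omega
    obtain ⟨x, hx, hx'⟩ := (prod_of_sum_le_one P l hl).2 h1
    rw [hx']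
    obtain ⟨e, f, he, hf, rfl⟩ := P.exists_sub x
    have h2 := pos_sub_aug_mem_S1 P hK hLinv hdet e he
    have h3 := pos_sub_aug_mem_S1 P hK hLinv hdet f hf
    have h4 : (P.aug e).toNat = (P.aug f).toNat := by
      rw [map_sub] at hx
      have : P.aug e = P.aug f := by linarith
      rw [this]
    have : e - f = (e - ((P.aug e).toNat : K)) - (f - ((P.aug f).toNat : K)) := by
      rw [h4]; ring
    rw [this]
    exact AddSubgroup.sub_mem _ h2 h3

end main

/-- Let K be a λ-ring with positive structure having the splitting property, L its group of line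
elements and F^n the γ-filtration. Assume moreover that the inverse of a line element is a line
element and that for a positive e with ε(e) = r the element det e = λ^r(e) is positive (hence a line
element); these are part of the published setting but are not implied by the axioms used here, so
they are hypotheses. Then u ↦ u − 1 induces an isomorphism L ≅ Gr^1 K = F^1/F^2: every x ∈ F^1 is
congruent modulo F^2 to u − 1 for some line element u, and line elements u, v with u − v ∈ F^2 are
equal. -/
theorem result (K : Type v) [CommRing K] [LambdaRing.LambdaOps K] (P : LambdaRing.PosStructure K) (hK : LambdaRing.HasSplitting K P)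
    (hLinv : ∀ w : K, P.IsLine w → ∃ w' : K, P.IsLine w' ∧ w * w' = 1)
    (hdet : ∀ e : K, e ∈ P.pos → LambdaRing.LambdaOps.lam (P.aug e).toNat e ∈ P.pos) :
    (∀ x : K, x ∈ LambdaRing.gammaFiltration P 1 → ∃ u : K, P.IsLine u ∧ x - (u - 1) ∈ LambdaRing.gammaFiltration P 2) ∧
    ∀ u v : K, P.IsLine u → P.IsLine v → u - v ∈ LambdaRing.gammaFiltration P 2 → u = v := by
  refine ⟨?_, ?_⟩
  · intro x hx
    exact F1_le_S1 P hK hLinv hdet hx
  · intro u v hu hv huv
    have h := F2_le_T P hK huv u v hu.1 hv.1 rfl
    rwa [det_line P hu, det_line P hv] at h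

end Groth.Agent.S3781
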