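import Groth.Statements.S3791
import Mathlib.RingTheory.Nilpotent.Basic
import Mathlib.Tactic.Ring
import Mathlib.Tactic.LinearCombination

set_option autoImplicit false
universe v u
open CategoryTheory CategoryTheory.Limits AlgebraicGeometry
attribute [local instance] HasDerivedCategory.standard
open KRR

namespace Groth.Agent.S3791

open LambdaRing Finset

section lam

variable {K : Type*} [CommRing K] [LambdaOps K]

/-- For `ℓ` with `λ^i ℓ = 0` for `i ≥ 2`: `λ^{k+1}(ℓ + y) = λ^{k+1} y + ℓ λ^k y`. -/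
theorem lam_succ_line_add (ℓ y : K) (hℓ : ∀ i, 2 ≤ i → LambdaOps.lam i ℓ = 0) (k : ℕ) :
    LambdaOps.lam (k + 1) (ℓ + y) = LambdaOps.lam (k + 1) y + ℓ * LambdaOps.lam k y := by
  rw [LambdaOps.lam_add, Finset.sum_range_succ', Finset.sum_range_succ']
  have h0 : ∑ i ∈ range k, LambdaOps.lam (i + 1 + 1) ℓ * LambdaOps.lam (k + 1 - (i + 1 + 1)) y = 0 := by
    apply Finset.sum_eq_zero
    intro i _
    rw [hℓ (i + 1 + 1) (by omega), zero_mul]
  rw [h0, zero_add, LambdaOps.lam_zero, LambdaOps.lam_one, one_mul]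
  simp only [zero_add, Nat.add_sub_cancel, Nat.sub_zero]
  ring

theorem lam_line_of_pos (P : PosStructure K) {ℓ : K} (hℓ : P.IsLine ℓ) (i : ℕ) (hi : 2 ≤ i) :
    LambdaOps.lam i ℓ = 0 := by
  apply P.lam_eq_zero ℓ hℓ.1 i
  rw [hℓ.2]
  exact_mod_cast hi

theorem isLine_one (P : PosStructure K) : P.IsLine (1 : K) := by
  refine ⟨?_, map_one _⟩
  have := P.natCast_mem 1 Nat.one_pos
  rwa [Nat.cast_one] at this

theorem lam_natCast_succ (P : PosStructure K) (n k : ℕ) :
    LambdaOps.lam k (((n + 1 : ℕ) : K)) = ((Nat.choose (n + 1) k : ℕ) : K) := by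
  induction n generalizing k with
  | zero =>
    rw [zero_add, Nat.cast_one]
    rcases k with _ | _ | k
    · rw [LambdaOps.lam_zero]; simp
    · rw [LambdaOps.lam_one]; simp
    · rw [lam_line_of_pos P (isLine_one P) (k + 1 + 1) (by omega),
        Nat.choose_eq_zero_of_lt (by omega)]
      simp
  | succ n ih =>
    rcases k with _ | k
    · rw [LambdaOps.lam_zero]; simp
    · have h1 : (((n + 1 + 1 : ℕ) : K)) = 1 + ((n + 1 : ℕ) : K) := by
        push_cast; ring
      rw [h1, lam_succ_line_add 1 _ (lam_line_of_pos P (isLine_one P)) k, ih, ih, one_mul,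
        Nat.choose_succ_succ (n + 1) k]
      push_cast
      ring

/-- Key: if `ℓ` is a line element and `ℓ + e = m` with `e` positive then `(1 - ℓ)^m = 0`. -/
theorem one_sub_pow_eq_zero (P : PosStructure K) {ℓ e : K} (hℓ : P.IsLine ℓ) (he : e ∈ P.pos)
    (m : ℕ) (hm : ℓ + e = (m : K)) : (1 - ℓ) ^ m = 0 := by
  have haug : P.aug e = (m : ℤ) - 1 := by
    have := congrArg P.aug hm
    rw [map_add, hℓ.2, map_natCast] at this
    linarith
  have hpos := P.aug_pos e he
  obtain ⟨m', rfl⟩ : ∃ m', m = m' + 1 := ⟨m - 1, by omega⟩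
  have hrec : ∀ k, ((Nat.choose (m' + 1) (k + 1) : ℕ) : K) =
      LambdaOps.lam (k + 1) e + ℓ * LambdaOps.lam k e := by
    intro k
    rw [← lam_natCast_succ P m' (k + 1), ← hm]
    exact lam_succ_line_add ℓ e (lam_line_of_pos P hℓ) k
  have hform : ∀ k, LambdaOps.lam k e =
      ∑ i ∈ range (k + 1), ((Nat.choose (m' + 1) i : ℕ) : K) * (-ℓ) ^ (k - i) := by
    intro k
    induction k with
    | zero => simp [LambdaOps.lam_zero]
    | succ k ih =>
      have h2 : LambdaOps.lam (k + 1) e =
          ((Nat.choose (m' + 1) (k + 1) : ℕ) : K) + (-ℓ) * LambdaOps.lam k e := by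
        rw [hrec k]; ring
      rw [h2, ih, Finset.sum_range_succ _ (k + 1), Finset.mul_sum, Nat.sub_self, pow_zero, mul_one,
        add_comm]
      congr 1
      apply Finset.sum_congr rfl
      intro i hi
      rw [Finset.mem_range] at hi
      have : k + 1 - i = (k - i) + 1 := by omega
      rw [this, pow_succ]
      ring
  have hzero : LambdaOps.lam (m' + 1) e = 0 := by
    apply P.lam_eq_zero e he
    rw [haug]; push_cast; linarith
  rw [hform] at hzero
  rw [sub_eq_add_neg, add_pow]
  rw [← hzero]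
  apply Finset.sum_congr rfl
  intro i _
  rw [one_pow, one_mul, mul_comm]

end lam


/-- Let K be a λ-ring with positive structure P and u an ample line element (for every x, u^n x is a
positive element minus a natural number for all large n). Then for every line element v, the element
v - 1 is nilpotent. -/
theorem result (K : Type v) [CommRing K] [LambdaRing.LambdaOps K] (P : LambdaRing.PosStructure K)
    (u : K) (hu : KRR.IsAmpleElt P u) (w : K) (hw : P.IsLine w) : IsNilpotent (w - 1) := by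
  obtain ⟨huL, hamp⟩ := hu
  have hpowline : ∀ n : ℕ, P.IsLine (u ^ n) := by
    intro n
    induction n with
    | zero => rw [pow_zero]; exact isLine_one P
    | succ n ih =>
      rw [pow_succ]
      exact ⟨P.mul_mem _ _ ih.1 huL.1, by rw [map_mul, ih.2, huL.2, mul_one]⟩
  obtain ⟨n1, h1⟩ := hamp (-w)
  obtain ⟨n2, h2⟩ := hamp (-1)
  obtain ⟨e1, m1, he1, heq1⟩ := h1 (max n1 n2) (le_max_left _ _)
  obtain ⟨e2, m2, he2, heq2⟩ := h2 (max n1 n2) (le_max_right _ _)
  have hl1 : P.IsLine (u ^ (max n1 n2) * w) :=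
    ⟨P.mul_mem _ _ (hpowline _).1 hw.1, by rw [map_mul, (hpowline _).2, hw.2, mul_one]⟩
  have hs1 : u ^ (max n1 n2) * w + e1 = (m1 : K) := by linear_combination -heq1
  have hs2 : u ^ (max n1 n2) + e2 = (m2 : K) := by linear_combination -heq2
  have hz1 := one_sub_pow_eq_zero P hl1 he1 m1 hs1
  have hz2 := one_sub_pow_eq_zero P (hpowline _) he2 m2 hs2
  have hn1 : IsNilpotent (u ^ (max n1 n2) * w - 1) :=
    ⟨m1, by rw [← neg_sub, neg_pow, hz1, mul_zero]⟩
  have hn2 : IsNilpotent (u ^ (max n1 n2) - 1) :=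
    ⟨m2, by rw [← neg_sub, neg_pow, hz2, mul_zero]⟩
  have hn3 : IsNilpotent (u ^ (max n1 n2) * (w - 1)) := by
    have h3 : u ^ (max n1 n2) * (w - 1) = (u ^ (max n1 n2) * w - 1) - (u ^ (max n1 n2) - 1) := by
      ring
    rw [h3]; exact Commute.isNilpotent_sub (Commute.all _ _) hn1 hn2
  have hunit : IsUnit (u ^ (max n1 n2)) := by
    have h4 := P.isUnit_lam _ (hpowline (max n1 n2)).1
    rw [(hpowline (max n1 n2)).2] at h4
    simpa [LambdaOps.lam_one] using h4
  obtain ⟨v, hv⟩ := hunit.exists_left_inv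
  have h5 : w - 1 = v * (u ^ (max n1 n2) * (w - 1)) := by rw [← mul_assoc, hv, one_mul]
  rw [h5]
  exact Commute.isNilpotent_mul_left (Commute.all _ _) hn3

end Groth.Agent.S3791
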