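import Groth.Statements.S3795
import Groth.Agent.S3292
import Groth.Agent.Lib.Helper11.LambdaBasic
import Mathlib.Tactic.Ring
import Mathlib.Tactic.LinearCombination

set_option autoImplicit false
universe v u
open CategoryTheory CategoryTheory.Limits AlgebraicGeometry
attribute [local instance] HasDerivedCategory.standard
open KRR

namespace Groth.Agent.S3795

/-- Let K be a λ-ring with positive structure having the splitting property, j ≥ 2, n ≥ 0 and x ∈ K. If
ψ^j(x) - j^n x lies in ℚF^{n+1} (some positive multiple lies in F^{n+1}, γ-filtration), then x lies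
in ℚF^n (some positive multiple of x lies in F^n). -/
theorem result (K : Type v) [CommRing K] [LambdaRing.LambdaOps K] (P : LambdaRing.PosStructure K) (hK : LambdaRing.HasSplitting K P) (j : ℕ) (hj : 2 ≤ j) (n : ℕ) (x : K)
    (hx : ∃ N : ℕ, 1 ≤ N ∧ (N : K) * (LambdaRing.adams P j x - (j : K) ^ n * x) ∈ LambdaRing.gammaFiltration P (n + 1)) :
    ∃ N : ℕ, 1 ≤ N ∧ (N : K) * x ∈ LambdaRing.gammaFiltration P n := by
  open Groth.Agent.Lib.Helper95.GammaFil in
  have adams_nat : ∀ (N : ℕ) (y : K), LambdaRing.adams P j ((N : K) * y) =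
      (N : K) * LambdaRing.adams P j y := by
    intro N y
    have h1 : (N : K) * y = N • y := by rw [nsmul_eq_mul]
    rw [h1, ← Groth.Agent.H11Lam.adamsHom_apply, map_nsmul, Groth.Agent.H11Lam.adamsHom_apply,
      nsmul_eq_mul]
  obtain ⟨N', hN', hx'⟩ := hx
  have key : ∀ m : ℕ, m ≤ n → ∃ N : ℕ, 1 ≤ N ∧ (N : K) * x ∈ LambdaRing.gammaFiltration P m := by
    intro m
    induction m with
    | zero =>
      intro _
      refine ⟨1, le_rfl, ?_⟩
      rw [Groth.Agent.Lib.Helper95.GammaFil.gammaFiltration_zero]
      trivial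
    | succ m ih =>
      intro hm
      obtain ⟨N, hN, hNx⟩ := ih (by omega)
      have hA := Groth.Agent.S3292.result K P hK j (by omega) m ((N : K) * x) hNx
      rw [adams_nat] at hA
      have hB : (N' : K) * (LambdaRing.adams P j x - (j : K) ^ n * x) ∈
          LambdaRing.gammaFiltration P (m + 1) :=
        Groth.Agent.Lib.Helper95.GammaFil.gammaFiltration_anti P (by omega) hx'
      have hA' := Groth.Agent.Lib.Helper95.GammaFil.fil_smul_mem P (N' : K) hA
      have hB' := Groth.Agent.Lib.Helper95.GammaFil.fil_smul_mem P (N : K) hB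
      have hsub := AddSubgroup.sub_mem _ hA' hB'
      have hpow : j ^ m < j ^ n := Nat.pow_lt_pow_right (by omega) (by omega)
      refine ⟨N * N' * (j ^ n - j ^ m), ?_, ?_⟩
      · have : 1 ≤ j ^ n - j ^ m := by omega
        exact Nat.one_le_iff_ne_zero.mpr (by positivity)
      · have e : ((N * N' * (j ^ n - j ^ m) : ℕ) : K) * x =
            (N' : K) * ((N : K) * LambdaRing.adams P j x - (j : K) ^ m * ((N : K) * x)) -
              (N : K) * ((N' : K) * (LambdaRing.adams P j x - (j : K) ^ n * x)) := by
          rw [Nat.cast_mul, Nat.cast_mul, Nat.cast_sub hpow.le, Nat.cast_pow, Nat.cast_pow]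
          ring
        rw [e]
        exact hsub
  exact key n le_rfl

end Groth.Agent.S3795
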