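import Groth.Statements.S3802
import Groth.Agent.S3779
import Groth.Agent.S3791
import Mathlib.RingTheory.AdjoinRoot
import Mathlib.Algebra.Polynomial.Div
import Mathlib.Tactic.Ring
import Mathlib.Tactic.LinearCombination

set_option autoImplicit false
universe v u
open CategoryTheory CategoryTheory.Limits AlgebraicGeometry
attribute [local instance] HasDerivedCategory.standard
open KRR

namespace Groth.Agent.S3802

open LambdaRing Finset Polynomial

section seq

variable {R : Type*} [CommRing R]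

/-- `A n := Σ_{j ≤ n} (-1)^j lam_j`. -/
def Asum (lam : ℕ → R) (n : ℕ) : R := ∑ j ∈ range (n + 1), (-1) ^ j * lam j

theorem Asum_succ (lam : ℕ → R) (n : ℕ) :
    Asum lam (n + 1) = Asum lam n + (-1) ^ (n + 1) * lam (n + 1) := sum_range_succ _ _

theorem Asum_zero (lam : ℕ → R) : Asum lam 0 = lam 0 := by simp [Asum]

theorem Asum_succ' (lam : ℕ → R) (n : ℕ) :
    Asum lam (n + 1) = ∑ i ∈ range (n + 1), (-1) ^ (i + 1) * lam (i + 1) + lam 0 := by
  unfold Asum
  rw [sum_range_succ']
  simp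

/-- `pP n = Σ_{i ≤ n} C((-1)^i lam_i) X^{n-i}`. -/
noncomputable def pP (lam : ℕ → R) (n : ℕ) : R[X] :=
  ∑ i ∈ range (n + 1), C ((-1) ^ i * lam i) * X ^ (n - i)

theorem pP_succ (lam : ℕ → R) (n : ℕ) :
    pP lam (n + 1) = X * pP lam n + C ((-1) ^ (n + 1) * lam (n + 1)) := by
  unfold pP
  rw [sum_range_succ _ (n + 1), Nat.sub_self, pow_zero, mul_one, mul_sum]
  congr 1
  apply sum_congr rfl
  intro i hi
  rw [mem_range] at hi
  have : n + 1 - i = (n - i) + 1 := by omega
  rw [this, pow_succ]; ring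

theorem pP_zero (lam : ℕ → R) : pP lam 0 = C (lam 0) := by simp [pP]

noncomputable def sP (lam : ℕ → R) : ℕ → R[X]
  | 0 => 1
  | n + 1 => C (Asum lam (n + 1)) + X * sP lam n

theorem eval_one_pP (lam : ℕ → R) (n : ℕ) : (pP lam n).eval 1 = Asum lam n := by
  unfold pP Asum; simp [eval_finsetSum]

theorem key_poly (lam : ℕ → R) (h0 : lam 0 = 1) (n : ℕ) :
    (X - 1) * sP lam n = pP lam (n + 1) - C (Asum lam (n + 1)) := by
  induction n with
  | zero =>
    rw [sP, pP_succ, pP_zero, Asum_succ, Asum_zero, h0]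
    simp only [map_add, map_one, map_mul, map_pow, map_neg]
    ring
  | succ n ih =>
    rw [sP, mul_add, ← mul_assoc, mul_comm (X - 1) X, mul_assoc, ih, pP_succ lam (n + 1),
      Asum_succ lam (n + 1)]
    simp only [map_add]
    ring

theorem sP_eq (lam : ℕ → R) (h0 : lam 0 = 1) (n : ℕ) :
    sP lam n = ∑ i ∈ range (n + 1), C (Asum lam i) * X ^ (n - i) := by
  induction n with
  | zero => simp [sP, Asum_zero, h0]
  | succ n ih =>
    rw [sP, ih, sum_range_succ _ (n + 1), Nat.sub_self, pow_zero, mul_one, mul_sum, add_comm]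
    congr 1
    apply sum_congr rfl
    intro i hi
    rw [mem_range] at hi
    have : n + 1 - i = (n - i) + 1 := by omega
    rw [this, pow_succ]; ring

/-- Polynomial step: if `pP (r+1) ∣ g * (1 - X)` then `g ≡ C a * sP r` modulo `pP (r+1)`. -/
theorem poly_step (lam : ℕ → R) (h0 : lam 0 = 1) (r : ℕ) (g : R[X])
    (hg : pP lam (r + 1) ∣ g * (1 - X)) : ∃ a : R, pP lam (r + 1) ∣ g - C a * sP lam r := by
  obtain ⟨h, hh⟩ := hg
  set b := h.eval 1 with hb
  obtain ⟨h', hh'⟩ : X - C (1 : R) ∣ h - C b := X_sub_C_dvd_sub_C_eval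
  have hkey := key_poly lam h0 r
  have hev : Asum lam (r + 1) * b = 0 := by
    have := congrArg (eval 1) hh
    rw [eval_mul, eval_mul, eval_one_pP, ← hb] at this
    simp at this
    exact this.symm
  have h1 : (X - C (1 : R)) * (g + pP lam (r + 1) * h' + C b * sP lam r) = 0 := by
    have e1 : (X - C (1 : R)) * (g + pP lam (r + 1) * h' + C b * sP lam r)
        = -(g * (1 - X)) + pP lam (r + 1) * ((X - C 1) * h') + C b * ((X - 1) * sP lam r) := by
      simp only [map_one]; ring
    rw [e1, hh, ← hh', hkey]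
    have : C b * C (Asum lam (r + 1)) = 0 := by rw [← C_mul, mul_comm, hev, C_0]
    linear_combination (-1 : R[X]) * this
  rw [(monic_X_sub_C (1 : R)).mul_right_eq_zero_iff] at h1
  refine ⟨-b, -h', ?_⟩
  rw [map_neg]
  linear_combination h1

end seq

section lam

variable {L : Type*} [CommRing L] [LambdaOps L]

/-- Recursion for the alternating sums of `λ^i(C0 - ℓ)` when `λ^i ℓ = 0` for `i ≥ 2`. -/
theorem Asum_sub_line (ℓ C0 : L) (hℓ : ∀ i, 2 ≤ i → LambdaOps.lam i ℓ = 0) (n : ℕ) :
    Asum (fun i => LambdaOps.lam i (C0 - ℓ)) (n + 1) =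
      Asum (fun i => LambdaOps.lam i C0) (n + 1) + ℓ * Asum (fun i => LambdaOps.lam i (C0 - ℓ)) n := by
  rw [Asum_succ', Asum_succ']
  simp only [LambdaOps.lam_zero]
  have hrec : ∀ i, LambdaOps.lam (i + 1) C0 =
      LambdaOps.lam (i + 1) (C0 - ℓ) + ℓ * LambdaOps.lam i (C0 - ℓ) := by
    intro i
    have := Groth.Agent.S3791.lam_succ_line_add ℓ (C0 - ℓ) hℓ i
    rwa [add_sub_cancel] at this
  have : ∑ i ∈ range (n + 1), (-1 : L) ^ (i + 1) * LambdaOps.lam (i + 1) C0 =
      ∑ i ∈ range (n + 1), (-1 : L) ^ (i + 1) * LambdaOps.lam (i + 1) (C0 - ℓ)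
        - ℓ * Asum (fun i => LambdaOps.lam i (C0 - ℓ)) n := by
    unfold Asum
    rw [mul_sum, ← sum_sub_distrib]
    apply sum_congr rfl
    intro i _
    rw [hrec i, pow_succ]; ring
  rw [this]; ring

end lam

section sig

variable {K : Type v} [CommRing K] [LambdaOps K]

theorem F_eq_one (c : K) (n : ℕ) :
    ∑ i ∈ range (n + 1), Asum (fun i => LambdaOps.lam i c) i * KRR.sigma (n - i) c = 1 := by
  induction n with
  | zero =>
    have := Groth.Agent.S3779.sigma_rel c 0
    simp only [zero_add, range_one, sum_singleton, Nat.sub_zero, if_true] at this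
    rw [Groth.Agent.S3779.acoef_zero, one_mul] at this
    simp [Asum_zero, LambdaOps.lam_zero, this]
  | succ n ih =>
    have h := Groth.Agent.S3779.sigma_rel c (n + 1)
    rw [if_neg (by omega), sum_range_succ'] at h
    rw [sum_range_succ', ← ih]
    have e : ∀ i ∈ range (n + 1), Asum (fun i => LambdaOps.lam i c) (i + 1) * KRR.sigma (n + 1 - (i + 1)) c
        = Asum (fun i => LambdaOps.lam i c) i * KRR.sigma (n - i) c +
          Groth.Agent.S3779.acoef c (i + 1) * KRR.sigma (n + 1 - (i + 1)) c := by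
      intro i _
      rw [Asum_succ, Nat.add_sub_add_right]
      unfold Groth.Agent.S3779.acoef
      ring
    rw [sum_congr rfl e, sum_add_distrib, add_assoc]
    have : Asum (fun i => LambdaOps.lam i c) 0 * KRR.sigma (n + 1 - 0) c =
        Groth.Agent.S3779.acoef c 0 * KRR.sigma (n + 1 - 0) c := by
      rw [Asum_zero, Groth.Agent.S3779.acoef_zero, LambdaOps.lam_zero]
    rw [this, h, add_zero]

end sig


/-- Let K be a λ-ring with positive structure having the splitting property, c positive with ε(c) = r +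
1, and K_c = K[T]/(p_c) with generator ℓ, equipped with a λ-structure extending that of K with
λ^i(ℓ) = 0 for i ≥ 2 and a positive structure making K ⟶ K_c an extension with ℓ a line element and
c - ℓ positive (when r ≥ 1), having the splitting property; let f : K_c ⟶ K be the associated
K-linear functional (f(ℓ^i) = σ^i(c) for i ≤ r). If z ∈ K_c satisfies z (1 - ℓ) = 0, then z = f(z) ·
λ_{-1}(c - ℓ), where λ_{-1}(c - ℓ) = Σ_{i ≤ r} (-1)^i λ^i(c - ℓ). -/
theorem result (K : Type v) [CommRing K] [LambdaRing.LambdaOps K] (P : LambdaRing.PosStructure K) (hK : LambdaRing.HasSplitting K P) (c : K) (hc : c ∈ P.pos) (r : ℕ) (hr : P.aug c = r + 1)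
    (inst : LambdaRing.LambdaOps (AdjoinRoot (KRR.extPoly P c))) (Pc : @LambdaRing.PosStructure _ _ inst)
    (hext : @LambdaRing.IsExtension K _ _ _ _ inst P Pc (AdjoinRoot.of (KRR.extPoly P c)))
    (hroot : ∀ i : ℕ, 2 ≤ i → @LambdaRing.LambdaOps.lam _ _ inst i (AdjoinRoot.root (KRR.extPoly P c)) = 0)
    (hline : @LambdaRing.PosStructure.IsLine _ _ inst Pc (AdjoinRoot.root (KRR.extPoly P c)))
    (hpos : 1 ≤ r → AdjoinRoot.of (KRR.extPoly P c) c - AdjoinRoot.root (KRR.extPoly P c) ∈ (@LambdaRing.PosStructure.pos _ _ inst Pc))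
    (hsplit : @LambdaRing.HasSplitting _ _ inst Pc)
    (f : AdjoinRoot (KRR.extPoly P c) →ₗ[K] K)
    (hf : ∀ i : ℕ, i ≤ r → f (AdjoinRoot.root (KRR.extPoly P c) ^ i) = KRR.sigma i c)
    (z : AdjoinRoot (KRR.extPoly P c)) (hz : z * (1 - AdjoinRoot.root (KRR.extPoly P c)) = 0) :
    z = AdjoinRoot.of (KRR.extPoly P c) (f z) *
      @KRR.lamAlt _ _ inst Pc (AdjoinRoot.of (KRR.extPoly P c) c - AdjoinRoot.root (KRR.extPoly P c)) := by
  classical
  letI := inst
  have hm : (P.aug c).toNat = r + 1 := by rw [hr]; omega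
  have hpP : KRR.extPoly P c = pP (fun i => LambdaOps.lam i c) (r + 1) := by
    simp [KRR.extPoly, hm, pP]
  have h0 : (fun i => LambdaOps.lam i c) 0 = 1 := LambdaOps.lam_zero c
  -- `mk (sP n) = Asum (λ^i (of c - ℓ)) n`
  have hof : ∀ n, AdjoinRoot.of (KRR.extPoly P c) (Asum (fun i => LambdaOps.lam i c) n) =
      Asum (fun i => LambdaOps.lam i (AdjoinRoot.of (KRR.extPoly P c) c)) n := by
    intro n
    unfold Asum
    rw [map_sum]
    apply Finset.sum_congr rfl
    intro i _
    rw [map_mul, map_pow, map_neg, map_one, hext.isLambdaHom i c]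
  have hS : ∀ n, AdjoinRoot.mk (KRR.extPoly P c) (sP (fun i => LambdaOps.lam i c) n) =
      Asum (fun i => LambdaOps.lam i
        (AdjoinRoot.of (KRR.extPoly P c) c - AdjoinRoot.root (KRR.extPoly P c))) n := by
    intro n
    induction n with
    | zero => rw [sP, map_one, Asum_zero, LambdaOps.lam_zero]
    | succ n ih =>
      rw [sP, map_add, map_mul, AdjoinRoot.mk_C, AdjoinRoot.mk_X, ih, hof,
        Asum_sub_line (AdjoinRoot.root (KRR.extPoly P c)) (AdjoinRoot.of (KRR.extPoly P c) c)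
          hroot n]
  have haug : (Pc.aug (AdjoinRoot.of (KRR.extPoly P c) c -
      AdjoinRoot.root (KRR.extPoly P c))).toNat = r := by
    rw [map_sub, hext.aug_comp, hline.2, hr]; omega
  have hlamAlt : KRR.lamAlt Pc (AdjoinRoot.of (KRR.extPoly P c) c -
      AdjoinRoot.root (KRR.extPoly P c)) =
      AdjoinRoot.mk (KRR.extPoly P c) (sP (fun i => LambdaOps.lam i c) r) := by
    rw [hS r]
    unfold KRR.lamAlt Asum
    rw [haug]
  -- f (mk (sP r)) = 1
  have hfS : f (AdjoinRoot.mk (KRR.extPoly P c) (sP (fun i => LambdaOps.lam i c) r)) = 1 := by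
    rw [sP_eq _ h0 r, map_sum, map_sum, ← F_eq_one c r]
    apply Finset.sum_congr rfl
    intro i _
    rw [map_mul, AdjoinRoot.mk_C, map_pow, AdjoinRoot.mk_X, Groth.Agent.S3779.f_of_mul,
      Groth.Agent.S3779.f_root_pow P c hc r hr f hf]
  -- polynomial step
  obtain ⟨g, rfl⟩ := AdjoinRoot.mk_surjective z
  have hdvd : pP (fun i => LambdaOps.lam i c) (r + 1) ∣ g * (1 - X) := by
    rw [← hpP, ← AdjoinRoot.mk_eq_zero, map_mul, map_sub, map_one, AdjoinRoot.mk_X]
    exact hz
  obtain ⟨a, ha⟩ := poly_step _ h0 r g hdvd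
  rw [← hpP, ← AdjoinRoot.mk_eq_mk, map_mul, AdjoinRoot.mk_C] at ha
  rw [hlamAlt, ha, Groth.Agent.S3779.f_of_mul, hfS, mul_one]

end Groth.Agent.S3802
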