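import Groth.Statements.S3807
-- import your own Groth.Agent.* helpers here
import Mathlib.RingTheory.Localization.BaseChange

set_option autoImplicit false
universe u
open scoped TensorProduct
attribute [local instance] PP16.mapAlgebra PP16.isScalarTower_mapAlgebra
open PP16

namespace Groth.Agent.S3807

section

set_option maxSynthPendingDepth 3

variable (n : ℕ) (A B B' : Type u) [CommRing A] [CommRing B] [Algebra A B]
    [CommRing B'] [Algebra B B'] [Algebra A B'] [IsScalarTower A B B']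

/-- the nilpotent ideal of `B' ⊗[B] P`. -/
noncomputable def K : Ideal (B' ⊗[B] PP16.P n A B) :=
  (augIdeal n A B).map (Algebra.TensorProduct.includeRight : P n A B →ₐ[B] B' ⊗[B] P n A B)

theorem augIdeal_pow : augIdeal n A B ^ (n + 1) = ⊥ := by
  rw [augIdeal, ← Ideal.map_pow, Ideal.map_quotient_self]

theorem K_pow : K n A B B' ^ (n + 1) = ⊥ := by
  have h := Ideal.map_pow
    (Algebra.TensorProduct.includeRight : P n A B →ₐ[B] B' ⊗[B] P n A B) (augIdeal n A B) (n + 1)
  rw [augIdeal_pow, Ideal.map_bot] at h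
  exact h.symm

theorem sub_mem_aug (b : B) :
    PP16.dn n A B b - algebraMap B (PP16.P n A B) b ∈ augIdeal n A B := by
  change Ideal.Quotient.mk _ ((1 : B) ⊗ₜ[A] b) - Ideal.Quotient.mk _ (b ⊗ₜ[A] (1 : B)) ∈ _
  rw [← map_sub]
  exact Ideal.mem_map_of_mem _ (KaehlerDifferential.one_smul_sub_smul_one_mem_ideal A b)

theorem algebraMap_B'_eq (b : B) :
    algebraMap B' (B' ⊗[B] P n A B) (algebraMap B B' b) =
      (1 : B') ⊗ₜ[B] algebraMap B (P n A B) b := by
  rw [Algebra.TensorProduct.algebraMap_apply, Algebra.algebraMap_self_apply,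
    Algebra.algebraMap_eq_smul_one, TensorProduct.smul_tmul, ← Algebra.algebraMap_eq_smul_one]

instance K_twoSided : (K n A B B').IsTwoSided :=
  @Ideal.instIsTwoSided_1 (B' ⊗[B] P n A B) _ (K n A B B')

theorem tmul_dn_sub_mem (b : B) :
    (1 : B') ⊗ₜ[B] dn n A B b - algebraMap B' (B' ⊗[B] P n A B) (algebraMap B B' b) ∈
      K n A B B' := by
  rw [algebraMap_B'_eq, ← TensorProduct.tmul_sub]
  exact Ideal.mem_map_of_mem _ (sub_mem_aug n A B b)

variable (S : Submonoid B) [IsLocalization S B']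

theorem isUnit_tmul_dn (s : S) : IsUnit ((1 : B') ⊗ₜ[B] dn n A B (s : B) : B' ⊗[B] P n A B) := by
  have h1 : IsNilpotent ((1 : B') ⊗ₜ[B] dn n A B (s : B) -
      algebraMap B' (B' ⊗[B] P n A B) (algebraMap B B' s)) := by
    refine ⟨n + 1, ?_⟩
    have := Ideal.pow_mem_pow (tmul_dn_sub_mem n A B B' (s : B)) (n + 1)
    rwa [K_pow, Ideal.mem_bot] at this
  have h2 : IsUnit (algebraMap B' (B' ⊗[B] P n A B) (algebraMap B B' s)) :=
    (IsLocalization.map_units B' s).map _
  have := h1.isUnit_add_right_of_commute h2 (Commute.all _ _)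
  rwa [sub_add_cancel] at this

noncomputable def g₀ : B' →+* B' ⊗[B] PP16.P n A B :=
  IsLocalization.lift (M := S) (S := B')
    (g := ((Algebra.TensorProduct.includeRight : P n A B →ₐ[B] B' ⊗[B] P n A B).toRingHom.comp
      (dn n A B).toRingHom))
    (fun s => isUnit_tmul_dn n A B B' S s)

theorem g₀_algebraMap_B (b : B) :
    g₀ n A B B' S (algebraMap B B' b) = (1 : B') ⊗ₜ[B] dn n A B b := by
  rw [g₀, IsLocalization.lift_eq]
  rfl


/-- the "right" map as an `A`-algebra map. -/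
noncomputable def g₁ : B' →ₐ[A] B' ⊗[B] PP16.P n A B :=
  { g₀ n A B B' S with
    commutes' := fun a => by
      change g₀ n A B B' S (algebraMap A B' a) = _
      rw [IsScalarTower.algebraMap_apply A B B', g₀_algebraMap_B, AlgHom.commutes,
        IsScalarTower.algebraMap_apply A B' (B' ⊗[B] P n A B),
        IsScalarTower.algebraMap_apply A B B', algebraMap_B'_eq,
        ← IsScalarTower.algebraMap_apply A B (P n A B)] }

theorem g₁_apply (c : B') : g₁ n A B B' S c = g₀ n A B B' S c := rfl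

noncomputable def ψ₀ : B' ⊗[A] B' →ₐ[B'] B' ⊗[B] PP16.P n A B :=
  Algebra.TensorProduct.lift (Algebra.ofId B' (B' ⊗[B] P n A B)) (g₁ n A B B' S)
    (fun _ _ => Commute.all (S := B' ⊗[B] P n A B) _ _)

theorem ψ₀_tmul (b c : B') :
    ψ₀ n A B B' S (b ⊗ₜ[A] c) = b • g₀ n A B B' S c := by
  rw [ψ₀, Algebra.TensorProduct.lift_tmul, g₁_apply, Algebra.ofId_apply]
  exact (Algebra.smul_def _ _).symm

theorem g₀_sub_mem (c : B') :
    g₀ n A B B' S c - algebraMap B' (B' ⊗[B] P n A B) c ∈ K n A B B' := by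
  have h : (Ideal.Quotient.mk (K n A B B')).comp (g₀ n A B B' S) =
      (Ideal.Quotient.mk (K n A B B')).comp (algebraMap B' (B' ⊗[B] P n A B)) := by
    apply IsLocalization.ringHom_ext S
    ext b
    simp only [RingHom.comp_apply, g₀_algebraMap_B]
    rw [Ideal.Quotient.eq]
    exact tmul_dn_sub_mem n A B B' b
  have h2 := RingHom.congr_fun h c
  simp only [RingHom.comp_apply] at h2
  rwa [Ideal.Quotient.eq] at h2

theorem map_ideal_le :
    (KaehlerDifferential.ideal A B').map (ψ₀ n A B B' S) ≤ K n A B B' := by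
  have h : KaehlerDifferential.ideal A B' =
      Ideal.span (Set.range fun s : B' => (1 : B') ⊗ₜ[A] s - s ⊗ₜ[A] (1 : B')) :=
    (KaehlerDifferential.span_range_eq_ideal A B').symm
  rw [h, Ideal.map_span, Ideal.span_le]
  rintro _ ⟨_, ⟨c, rfl⟩, rfl⟩
  rw [map_sub, ψ₀_tmul, ψ₀_tmul, one_smul, map_one, Algebra.smul_def, mul_one]
  exact g₀_sub_mem n A B B' S c

theorem ψ₀_eq_zero (x : B' ⊗[A] B') (hx : x ∈ KaehlerDifferential.ideal A B' ^ (n + 1)) :
    ψ₀ n A B B' S x = 0 := by
  have h1 : (KaehlerDifferential.ideal A B' ^ (n + 1)).map (ψ₀ n A B B' S) ≤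
      K n A B B' ^ (n + 1) := by
    rw [Ideal.map_pow]
    exact Ideal.pow_right_mono (map_ideal_le n A B B' S) _
  rw [K_pow] at h1
  exact (Ideal.mem_bot).mp (h1 (Ideal.mem_map_of_mem _ hx))

noncomputable def ψ : P n A B' →ₐ[B'] B' ⊗[B] PP16.P n A B :=
  Ideal.Quotient.liftₐ (KaehlerDifferential.ideal A B' ^ (n + 1)) (ψ₀ n A B B' S)
    (ψ₀_eq_zero n A B B' S)

theorem ψ_mk (x : B' ⊗[A] B') :
    ψ n A B B' S (Ideal.Quotient.mk _ x) = ψ₀ n A B B' S x := rfl

noncomputable def φ : B' ⊗[B] PP16.P n A B →ₐ[B'] P n A B' :=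
  Algebra.TensorProduct.lift (Algebra.ofId B' (P n A B'))
    (IsScalarTower.toAlgHom B (P n A B) (P n A B'))
    (fun _ _ => Commute.all (S := P n A B') _ _)

theorem φ_tmul (b : B') (p : P n A B) :
    φ n A B B' (b ⊗ₜ[B] p) = algebraMap B' (P n A B') b * PP16.map n A B A B' p := by
  rw [φ, Algebra.TensorProduct.lift_tmul]
  rfl

theorem φ_g₀ (c : B') : φ n A B B' (g₀ n A B B' S c) = dn n A B' c := by
  have h : (φ n A B B').toRingHom.comp (g₀ n A B B' S) = (dn n A B').toRingHom := by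
    apply IsLocalization.ringHom_ext S
    ext b
    simp only [RingHom.comp_apply, g₀_algebraMap_B]
    change φ n A B B' _ = dn n A B' _
    rw [φ_tmul, map_one, one_mul, map_dn]
  exact RingHom.congr_fun h c

theorem φ_comp_ψ : (φ n A B B').comp (ψ n A B B' S) = AlgHom.id B' (P n A B') := by
  apply Ideal.Quotient.algHom_ext
  apply Algebra.TensorProduct.ext'
  intro b c
  simp only [AlgHom.comp_apply, Ideal.Quotient.mkₐ_eq_mk, ψ_mk, ψ₀_tmul, map_smul, φ_g₀,
    AlgHom.id_apply]
  change b • Ideal.Quotient.mk _ ((1 : B') ⊗ₜ[A] c) = Ideal.Quotient.mk _ (b ⊗ₜ[A] c)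
  have h : b ⊗ₜ[A] c = b • ((1 : B') ⊗ₜ[A] c) := by
    rw [TensorProduct.smul_tmul', smul_eq_mul, mul_one]
  rw [h]
  rfl

theorem ψ_map (p : P n A B) :
    ψ n A B B' S (PP16.map n A B A B' p) = (1 : B') ⊗ₜ[B] p := by
  obtain ⟨w, rfl⟩ := Ideal.Quotient.mk_surjective p
  induction w using TensorProduct.induction_on with
  | zero => simp
  | tmul b c =>
    rw [map_mk, tensorMap_tmul, ψ_mk, ψ₀_tmul, g₀_algebraMap_B, Algebra.smul_def,
      algebraMap_B'_eq, Algebra.TensorProduct.tmul_mul_tmul, one_mul]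
    congr 1
    change Ideal.Quotient.mk _ (b ⊗ₜ[A] (1 : B)) * Ideal.Quotient.mk _ ((1 : B) ⊗ₜ[A] c) =
      Ideal.Quotient.mk _ (b ⊗ₜ[A] c)
    rw [← map_mul, Algebra.TensorProduct.tmul_mul_tmul, mul_one, one_mul]
  | add w₁ w₂ h₁ h₂ =>
    rw [map_add, map_add, map_add, h₁, h₂, TensorProduct.tmul_add]

theorem ψ_comp_φ : (ψ n A B B' S).comp (φ n A B B') = AlgHom.id B' (B' ⊗[B] P n A B) := by
  apply Algebra.TensorProduct.ext'
  intro b p
  simp only [AlgHom.comp_apply, AlgHom.id_apply, φ_tmul, map_mul, AlgHom.commutes, ψ_map]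
  rw [Algebra.TensorProduct.algebraMap_apply, Algebra.algebraMap_self_apply,
    Algebra.TensorProduct.tmul_mul_tmul, mul_one, one_mul]

noncomputable def e : (B' ⊗[B] P n A B) ≃ₐ[B'] P n A B' :=
  AlgEquiv.ofAlgHom (φ n A B B') (ψ n A B B' S) (φ_comp_ψ n A B B' S) (ψ_comp_φ n A B B' S)

include S in
theorem isPushout : Algebra.IsPushout B (PP16.P n A B) B' (PP16.P n A B') := by
  apply Algebra.IsPushout.symm
  constructor
  refine IsBaseChange.of_equiv (e n A B B' S).toLinearEquiv ?_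
  intro p
  change φ n A B B' ((1 : B') ⊗ₜ[B] p) = _
  rw [φ_tmul, map_one, one_mul]
  rfl

theorem main : IsLocalization (S.map (algebraMap B (PP16.P n A B))) (PP16.P n A B') := by
  have := isPushout n A B B' S
  exact (Algebra.isLocalization_iff_isPushout S B').mpr this

end

/-- Let B be an A-algebra, S a multiplicative subset of B and B' = S⁻¹B. Then the canonical map
S⁻¹P^n_{B/A} → P^n_{B'/A} induced by functoriality is an isomorphism: P^n_{B'/A} is the localization
of P^n_{B/A} at the image of S. -/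
theorem result (n : ℕ) (A B B' : Type u) [CommRing A] [CommRing B] [Algebra A B]
    [CommRing B'] [Algebra B B'] [Algebra A B'] [IsScalarTower A B B'] (S : Submonoid B) [IsLocalization S B'] :
    IsLocalization (S.map (algebraMap B (PP16.P n A B))) (PP16.P n A B') := by
  exact main n A B B' S

end Groth.Agent.S3807
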