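import Groth.Statements.S3808
import Groth.Agent.Lib.Helper70.PP16

set_option autoImplicit false
universe u
open scoped TensorProduct
open PP16

namespace Groth.Agent.S3808

/-- Let A → B be a ring map, R a multiplicative subset of A, S one of B containing the image of R, and
A' = R⁻¹A, B' = S⁻¹B with the induced map A' → B'. Then the canonical map P^n_{B'/A} → P^n_{B'/A'}
is bijective. -/
theorem result (n : ℕ) (A B A' B' : Type u) [CommRing A] [CommRing B] [Algebra A B]
    [CommRing A'] [CommRing B'] [Algebra A A'] [Algebra B B'] [Algebra A' B'] [Algebra A B']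
    [IsScalarTower A A' B'] [IsScalarTower A B B'] (R : Submonoid A) (S : Submonoid B) [IsLocalization R A']
    [IsLocalization S B'] (hRS : ∀ r ∈ R, algebraMap A B r ∈ S) :
    Function.Bijective (PP16.map n A B' A' B') := by
  open Groth.Agent.Lib.Helper70.PP16Lib in
  have hB : Function.Surjective (algebraMap B' B') := fun c => ⟨c, rfl⟩
  obtain ⟨h1, h2⟩ := map_surjective_and_ker n A B' A' B' hB
  refine ⟨?_, h1⟩
  rw [← RingHom.coe_coe (PP16.map n A B' A' B'), RingHom.injective_iff_ker_eq_bot]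
  change RingHom.ker (PP16.map n A B' A' B') = ⊥
  rw [h2, ker_tensorMap_tower A A' B', Ideal.map_eq_bot_iff_le_ker, Ideal.span_le]
  rintro _ ⟨a', rfl⟩
  obtain ⟨a, r, rfl⟩ := IsLocalization.exists_mk'_eq R a'
  have hzero : (algebraMap A' B' (IsLocalization.mk' A' a r)) ⊗ₜ[A] (1 : B') -
      (1 : B') ⊗ₜ[A] (algebraMap A' B' (IsLocalization.mk' A' a r)) = 0 := by
    set β := algebraMap A' B' (IsLocalization.mk' A' a r) with hβ
    set ρ := algebraMap A B' (r : A) with hρ
    have hρβ : ρ * β = algebraMap A B' a := by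
      rw [hρ, hβ, IsScalarTower.algebraMap_apply A A' B', ← map_mul, mul_comm,
        IsLocalization.mk'_spec, ← IsScalarTower.algebraMap_apply]
    have hunit : IsUnit ρ := by
      rw [hρ, IsScalarTower.algebraMap_apply A A' B']
      exact (IsLocalization.map_units A' r).map _
    have hunit' : IsUnit (ρ ⊗ₜ[A] (1 : B')) :=
      hunit.map (Algebra.TensorProduct.includeLeft : B' →ₐ[A] B' ⊗[A] B')
    have hx : (ρ ⊗ₜ[A] (1 : B')) * (β ⊗ₜ[A] (1 : B')) = a • ((1 : B') ⊗ₜ[A] (1 : B')) := by
      rw [Algebra.TensorProduct.tmul_mul_tmul, hρβ, mul_one, Algebra.algebraMap_eq_smul_one,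
        TensorProduct.smul_tmul']
    have hy : (ρ ⊗ₜ[A] (1 : B')) * ((1 : B') ⊗ₜ[A] β) = a • ((1 : B') ⊗ₜ[A] (1 : B')) := by
      rw [Algebra.TensorProduct.tmul_mul_tmul, mul_one, one_mul, hρ,
        Algebra.algebraMap_eq_smul_one, TensorProduct.smul_tmul,
        Algebra.smul_def, ← hρ, hρβ, Algebra.algebraMap_eq_smul_one, TensorProduct.tmul_smul]
    rw [sub_eq_zero]
    exact hunit'.mul_left_cancel (hx.trans hy.symm)
  change _ - _ ∈ _
  rw [hzero]
  exact Ideal.zero_mem _

end Groth.Agent.S3808
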