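import Groth.Statements.S3809
import Groth.Agent.Lib.Helper70.PP16

set_option autoImplicit false
universe u
open scoped TensorProduct
open PP16

namespace Groth.Agent.S3809

/-- Let A → B → C be ring maps. Then the canonical map P^n_{C/A} → P^n_{C/B} is surjective, and its
kernel is the ideal generated by the image, under the canonical map P^n_{B/A} → P^n_{C/A}, of the
augmentation ideal of P^n_{B/A}. -/
theorem result (n : ℕ) (A B C : Type u) [CommRing A] [CommRing B] [CommRing C]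
    [Algebra A B] [Algebra B C] [Algebra A C] [IsScalarTower A B C] :
    Function.Surjective (PP16.map n A C B C) ∧
      RingHom.ker (PP16.map n A C B C) = (PP16.augIdeal n A B).map (PP16.map n A B A C) := by
  open Groth.Agent.Lib.Helper70.PP16Lib in
  have hC : Function.Surjective (algebraMap C C) := fun c => ⟨c, rfl⟩
  obtain ⟨h1, h2⟩ := map_surjective_and_ker n A C B C hC
  refine ⟨h1, ?_⟩
  rw [h2, ker_tensorMap_tower, Ideal.map_span]
  have haug : PP16.augIdeal n A B = Ideal.span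
      ((Ideal.Quotient.mk (KaehlerDifferential.ideal A B ^ (n + 1))) ''
        Set.range fun b : B => (1 : B) ⊗ₜ[A] b - b ⊗ₜ[A] (1 : B)) := by
    unfold PP16.augIdeal
    rw [← Ideal.map_span, KaehlerDifferential.span_range_eq_ideal]
  rw [haug, Ideal.map_span]
  have key : ∀ b : B, Ideal.Quotient.mk (KaehlerDifferential.ideal A C ^ (n + 1))
      ((algebraMap B C b) ⊗ₜ[A] (1 : C) - (1 : C) ⊗ₜ[A] (algebraMap B C b)) =
      - PP16.map n A B A C (Ideal.Quotient.mk (KaehlerDifferential.ideal A B ^ (n + 1))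
        ((1 : B) ⊗ₜ[A] b - b ⊗ₜ[A] (1 : B))) := by
    intro b
    rw [PP16.map_mk, ← map_neg]
    congr 1
    rw [map_sub, PP16.tensorMap_tmul, PP16.tensorMap_tmul, map_one, neg_sub]
  apply le_antisymm
  · rw [Ideal.span_le]
    rintro _ ⟨_, ⟨b, rfl⟩, rfl⟩
    rw [key]
    exact (Ideal.neg_mem_iff _).2 (Ideal.subset_span ⟨_, ⟨_, ⟨b, rfl⟩, rfl⟩, rfl⟩)
  · rw [Ideal.span_le]
    rintro _ ⟨_, ⟨_, ⟨b, rfl⟩, rfl⟩, rfl⟩
    have hk : PP16.map n A B A C (Ideal.Quotient.mk (KaehlerDifferential.ideal A B ^ (n + 1))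
        ((1 : B) ⊗ₜ[A] b - b ⊗ₜ[A] (1 : B))) =
        - Ideal.Quotient.mk (KaehlerDifferential.ideal A C ^ (n + 1))
          ((algebraMap B C b) ⊗ₜ[A] (1 : C) - (1 : C) ⊗ₜ[A] (algebraMap B C b)) := by
      rw [key b, neg_neg]
    change PP16.map n A B A C (Ideal.Quotient.mk (KaehlerDifferential.ideal A B ^ (n + 1))
        ((1 : B) ⊗ₜ[A] b - b ⊗ₜ[A] (1 : B))) ∈ _
    rw [hk]
    exact (Ideal.neg_mem_iff _).2 (Ideal.subset_span ⟨_, ⟨b, rfl⟩, rfl⟩)

end Groth.Agent.S3809
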