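import Groth.Statements.S3811
import Groth.Agent.Lib.Helper70.PP16

set_option autoImplicit false
universe u
open scoped TensorProduct
open PP16

namespace Groth.Agent.S3811

open Groth.Agent.Lib.Helper70.PP16Lib

section

variable {A B : Type u} [CommRing A] [CommRing B] [Algebra A B] (g : B →ₐ[A] A)

noncomputable def psi : B ⊗[A] B →ₐ[A] B :=
  Algebra.TensorProduct.lift ((Algebra.ofId A B).comp g) (AlgHom.id A B) (fun _ _ => Commute.all _ _)

theorem psi_tmul (b c : B) : psi g (b ⊗ₜ[A] c) = algebraMap A B (g b) * c := by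
  simp [psi, Algebra.TensorProduct.lift_tmul, Algebra.ofId_apply]

theorem psi_one_tmul (x : B) : psi g ((1 : B) ⊗ₜ[A] x) = x := by
  rw [psi_tmul, map_one, map_one, one_mul]

theorem sub_mem_ker (b : B) : b - algebraMap A B (g b) ∈ RingHom.ker g := by
  rw [RingHom.mem_ker, map_sub, AlgHom.commutes, Algebra.algebraMap_self_apply, sub_self]

theorem sub_one_tmul_psi_mem (z : B ⊗[A] B) :
    z - (1 : B) ⊗ₜ[A] psi g z ∈
      (RingHom.ker g).map (Algebra.TensorProduct.includeLeft : B →ₐ[A] B ⊗[A] B) := by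
  induction z using TensorProduct.induction_on with
  | zero => simp
  | tmul b c =>
    have : b ⊗ₜ[A] c - (1 : B) ⊗ₜ[A] psi g (b ⊗ₜ[A] c) =
        (Algebra.TensorProduct.includeLeft : B →ₐ[A] B ⊗[A] B) (b - algebraMap A B (g b)) *
          ((1 : B) ⊗ₜ[A] c) := by
      rw [psi_tmul, Algebra.TensorProduct.includeLeft_apply, Algebra.TensorProduct.tmul_mul_tmul,
        mul_one, one_mul, TensorProduct.sub_tmul, Algebra.algebraMap_eq_smul_one, smul_mul_assoc,
        one_mul, TensorProduct.smul_tmul]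
    rw [this]
    exact Ideal.mul_mem_right _ _ (Ideal.mem_map_of_mem _ (sub_mem_ker g b))
  | add y z hy hz =>
    have : y + z - (1 : B) ⊗ₜ[A] psi g (y + z) =
        (y - (1 : B) ⊗ₜ[A] psi g y) + (z - (1 : B) ⊗ₜ[A] psi g z) := by
      rw [map_add, TensorProduct.tmul_add]; ring
    rw [this]
    exact Ideal.add_mem _ hy hz

theorem ker_psi : RingHom.ker (psi g) =
    (RingHom.ker g).map (Algebra.TensorProduct.includeLeft : B →ₐ[A] B ⊗[A] B) := by
  apply le_antisymm
  · intro z hz
    have h := sub_one_tmul_psi_mem g z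
    rw [RingHom.mem_ker] at hz
    rw [hz, TensorProduct.tmul_zero, sub_zero] at h
    exact h
  · rw [Ideal.map_le_iff_le_comap]
    intro k hk
    rw [Ideal.mem_comap, RingHom.mem_ker, Algebra.TensorProduct.includeLeft_apply, psi_tmul,
      (RingHom.mem_ker).1 hk, map_zero, zero_mul]

theorem psi_surjective : Function.Surjective (psi g) := fun x => ⟨_, psi_one_tmul g x⟩

theorem map_ideal_psi : (KaehlerDifferential.ideal A B).map (psi g) = RingHom.ker g := by
  apply le_antisymm
  · rw [← KaehlerDifferential.span_range_eq_ideal A B, Ideal.map_span, Ideal.span_le]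
    rintro _ ⟨_, ⟨b, rfl⟩, rfl⟩
    change psi g ((1 : B) ⊗ₜ[A] b - b ⊗ₜ[A] (1 : B)) ∈ _
    rw [map_sub, psi_one_tmul, psi_tmul, mul_one]
    exact sub_mem_ker g b
  · intro k hk
    have : k = psi g ((1 : B) ⊗ₜ[A] k - k ⊗ₜ[A] (1 : B)) := by
      rw [map_sub, psi_one_tmul, psi_tmul, (RingHom.mem_ker).1 hk, map_zero, zero_mul, sub_zero]
    rw [this]
    exact Ideal.mem_map_of_mem _ (KaehlerDifferential.one_smul_sub_smul_one_mem_ideal A k)

theorem mk_mk_eq (n : ℕ) (z : B ⊗[A] B) :
    Ideal.Quotient.mk ((RingHom.ker g).map (algebraMap B (PP16.P n A B)))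
      (Ideal.Quotient.mk (KaehlerDifferential.ideal A B ^ (n + 1)) z) =
    Ideal.Quotient.mk ((RingHom.ker g).map (algebraMap B (PP16.P n A B)))
      (PP16.dn n A B (psi g z)) := by
  rw [Ideal.Quotient.eq]
  have h := sub_one_tmul_psi_mem g z
  have h2 : (Ideal.Quotient.mk (KaehlerDifferential.ideal A B ^ (n + 1))) (z - (1 : B) ⊗ₜ[A] psi g z)
      ∈ ((RingHom.ker g).map
        (Algebra.TensorProduct.includeLeft : B →ₐ[A] B ⊗[A] B)).map
        (Ideal.Quotient.mk (KaehlerDifferential.ideal A B ^ (n + 1))) :=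
    Ideal.mem_map_of_mem _ h
  rw [map_map_of_eq _ _ (algebraMap B (PP16.P n A B)) _ (fun x => rfl), map_sub] at h2
  exact h2

theorem main (n : ℕ) :
    Function.Surjective ((Ideal.Quotient.mk ((RingHom.ker g).map (algebraMap B (PP16.P n A B)))).comp
        (PP16.dn n A B).toRingHom) ∧
      RingHom.ker ((Ideal.Quotient.mk ((RingHom.ker g).map (algebraMap B (PP16.P n A B)))).comp
        (PP16.dn n A B).toRingHom) = RingHom.ker g ^ (n + 1) := by
  constructor
  · intro y
    obtain ⟨y, rfl⟩ := Ideal.Quotient.mk_surjective y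
    obtain ⟨z, rfl⟩ := Ideal.Quotient.mk_surjective y
    exact ⟨psi g z, (mk_mk_eq g n z).symm⟩
  · have hKmap : (RingHom.ker g).map (algebraMap B (PP16.P n A B)) =
        ((RingHom.ker g).map (Algebra.TensorProduct.includeLeft : B →ₐ[A] B ⊗[A] B)).map
          (Ideal.Quotient.mk (KaehlerDifferential.ideal A B ^ (n + 1))) :=
      (map_map_of_eq _ _ (algebraMap B (PP16.P n A B)) _ (fun x => rfl)).symm
    have hpow : (KaehlerDifferential.ideal A B ^ (n + 1)).map (psi g) = RingHom.ker g ^ (n + 1) := by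
      rw [Ideal.map_pow, map_ideal_psi]
    ext x
    rw [RingHom.mem_ker, RingHom.comp_apply, Ideal.Quotient.eq_zero_iff_mem, hKmap]
    change Ideal.Quotient.mk _ ((1 : B) ⊗ₜ[A] x) ∈ _ ↔ _
    rw [Ideal.mem_quotient_iff_mem_sup]
    constructor
    · intro hx
      have h1 : psi g ((1 : B) ⊗ₜ[A] x) ∈
          ((RingHom.ker g).map (Algebra.TensorProduct.includeLeft : B →ₐ[A] B ⊗[A] B) ⊔
            KaehlerDifferential.ideal A B ^ (n + 1)).map (psi g) := Ideal.mem_map_of_mem _ hx
      rw [psi_one_tmul, Ideal.map_sup, hpow, ← ker_psi] at h1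
      have h2 : (RingHom.ker (psi g)).map (psi g) = ⊥ := by
        rw [Ideal.map_eq_bot_iff_le_ker]
      rw [h2, bot_sup_eq] at h1
      exact h1
    · intro hx
      rw [← hpow] at hx
      obtain ⟨y, hy, hyx⟩ := (Ideal.mem_map_iff_of_surjective _ (psi_surjective g)).1 hx
      have h1 : (1 : B) ⊗ₜ[A] x - y ∈ RingHom.ker (psi g) := by
        rw [RingHom.mem_ker, map_sub, psi_one_tmul, hyx, sub_self]
      rw [ker_psi] at h1
      have : (1 : B) ⊗ₜ[A] x = ((1 : B) ⊗ₜ[A] x - y) + y := by ring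
      rw [this]
      exact Submodule.add_mem_sup h1 hy

end


/-- Let B be an A-algebra with an A-algebra retraction g : B → A, and K the kernel of g. The composite
of d^n : B → P^n_{B/A} with the projection P^n_{B/A} → P^n_{B/A} / K P^n_{B/A} (base change of
P^n_{B/A} along g) is surjective with kernel K^(n+1); thus P^n_{B/A} ⊗_B A is identified with
B/K^(n+1), the class of d^n t corresponding to the class of t. -/
theorem result (n : ℕ) (A B : Type u) [CommRing A] [CommRing B] [Algebra A B]
    (g : B →ₐ[A] A) :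
    Function.Surjective ((Ideal.Quotient.mk ((RingHom.ker g).map (algebraMap B (PP16.P n A B)))).comp
        (PP16.dn n A B).toRingHom) ∧
      RingHom.ker ((Ideal.Quotient.mk ((RingHom.ker g).map (algebraMap B (PP16.P n A B)))).comp
        (PP16.dn n A B).toRingHom) = RingHom.ker g ^ (n + 1) := by
  exact main g n

end Groth.Agent.S3811
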