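import Groth.Statements.S3812
import Mathlib.RingTheory.TensorProduct.MvPolynomial
import Mathlib.RingTheory.MvPolynomial.Ideal

set_option autoImplicit false
universe u
open scoped TensorProduct
open PP16

namespace Groth.Agent.S3812

open MvPolynomial

section

variable (A : Type u) [CommRing A] (σ : Type u)

noncomputable def shift : MvPolynomial σ (MvPolynomial σ A) ≃ₐ[MvPolynomial σ A]
    MvPolynomial σ (MvPolynomial σ A) :=
  AlgEquiv.ofAlgHom (aeval fun i => X i + C (X i)) (aeval fun i => X i - C (X i))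
    (by ext i; simp) (by ext i; simp)

theorem shift_X (i : σ) : shift A σ (X i) = X i + C (X i) := by
  simp [shift]

noncomputable def e0 : MvPolynomial σ A ⊗[A] MvPolynomial σ A ≃ₐ[MvPolynomial σ A]
    MvPolynomial σ (MvPolynomial σ A) :=
  (algebraTensorAlgEquiv A (MvPolynomial σ A)).trans (shift A σ)

theorem e0_tmul (b p : MvPolynomial σ A) :
    e0 A σ (b ⊗ₜ[A] p) = b • shift A σ (MvPolynomial.map (algebraMap A (MvPolynomial σ A)) p) := by
  simp [e0]

noncomputable def eps : MvPolynomial σ (MvPolynomial σ A) →ₐ[MvPolynomial σ A] MvPolynomial σ A :=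
  aeval fun _ => 0

theorem eps_shift_map (p : MvPolynomial σ A) :
    eps A σ (shift A σ (MvPolynomial.map (algebraMap A (MvPolynomial σ A)) p)) = p := by
  induction p using MvPolynomial.induction_on with
  | C a =>
    rw [map_C]
    have : (C (algebraMap A (MvPolynomial σ A) a) : MvPolynomial σ (MvPolynomial σ A)) =
        algebraMap (MvPolynomial σ A) _ (C a) := rfl
    rw [this, AlgEquiv.commutes, AlgHom.commutes]
    rfl
  | add p q hp hq => rw [map_add, map_add, map_add, hp, hq]
  | mul_X p i hp =>
    rw [map_mul, map_mul, map_mul, hp, map_X, shift_X, map_add]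
    simp [eps]

theorem eps_e0 (w : MvPolynomial σ A ⊗[A] MvPolynomial σ A) :
    eps A σ (e0 A σ w) = Algebra.TensorProduct.lmul' A w := by
  induction w using TensorProduct.induction_on with
  | zero => simp
  | tmul b p =>
    rw [e0_tmul, map_smul, eps_shift_map, Algebra.TensorProduct.lmul'_apply_tmul, smul_eq_mul]
  | add x y hx hy => rw [map_add, map_add, map_add, hx, hy]

theorem ker_eps : RingHom.ker (eps A σ) =
    Ideal.span (Set.range (X : σ → MvPolynomial σ (MvPolynomial σ A))) := by
  apply le_antisymm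
  · intro p hp
    rw [RingHom.mem_ker] at hp
    have h1 : p ∈ idealOfVars σ (MvPolynomial σ A) ^ 1 := by
      rw [mem_pow_idealOfVars_iff']
      intro x hx
      have hx0 : x = 0 := by
        rw [Nat.lt_one_iff] at hx
        exact (Finsupp.degree_eq_zero_iff x).1 hx
      rw [hx0]
      have : eps A σ p = constantCoeff p := by
        simp [eps, aeval_zero']
      rw [← constantCoeff_eq, ← this, hp]
    rw [pow_one] at h1
    exact h1
  · rw [Ideal.span_le]
    rintro _ ⟨i, rfl⟩
    simp [eps]

theorem map_ideal_e0 :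
    (KaehlerDifferential.ideal A (MvPolynomial σ A)).map
      ((e0 A σ : _ ≃ₐ[MvPolynomial σ A] _) : _ →+* _) =
    Ideal.span (Set.range (X : σ → MvPolynomial σ (MvPolynomial σ A))) := by
  rw [← ker_eps]
  have hs : Function.Surjective (((e0 A σ : _ ≃ₐ[MvPolynomial σ A] _) :
      MvPolynomial σ A ⊗[A] MvPolynomial σ A →+* MvPolynomial σ (MvPolynomial σ A))) :=
    (e0 A σ).surjective
  ext y
  constructor
  · intro hy
    rw [Ideal.mem_map_iff_of_surjective _ hs] at hy
    obtain ⟨x, hx, rfl⟩ := hy
    rw [RingHom.mem_ker]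
    change eps A σ (e0 A σ x) = 0
    rw [eps_e0]
    exact hx
  · intro hy
    rw [Ideal.mem_map_iff_of_surjective _ hs]
    refine ⟨(e0 A σ).symm y, ?_, (e0 A σ).apply_symm_apply y⟩
    change Algebra.TensorProduct.lmul' A ((e0 A σ).symm y) = 0
    rw [← eps_e0, (e0 A σ).apply_symm_apply]
    exact hy

theorem main (n : ℕ) :
    ∃ e : PP16.P n A (MvPolynomial σ A) ≃ₐ[MvPolynomial σ A]
        (MvPolynomial σ (MvPolynomial σ A) ⧸
          Ideal.span (Set.range (MvPolynomial.X : σ → MvPolynomial σ (MvPolynomial σ A))) ^ (n + 1)),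
      ∀ i : σ, e (PP16.dn n A (MvPolynomial σ A) (MvPolynomial.X i)) =
        Ideal.Quotient.mk _ (MvPolynomial.C (MvPolynomial.X i : MvPolynomial σ A) +
          (MvPolynomial.X i : MvPolynomial σ (MvPolynomial σ A))) := by
  have hIJ : Ideal.span (Set.range (X : σ → MvPolynomial σ (MvPolynomial σ A))) ^ (n + 1) =
      (KaehlerDifferential.ideal A (MvPolynomial σ A) ^ (n + 1)).map
        ((e0 A σ : _ ≃ₐ[MvPolynomial σ A] _) : _ →+* _) := by
    rw [Ideal.map_pow, map_ideal_e0]
  refine ⟨Ideal.quotientEquivAlg _ _ (e0 A σ) hIJ, fun i => ?_⟩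
  change Ideal.Quotient.mk _ (e0 A σ ((1 : MvPolynomial σ A) ⊗ₜ[A] X i)) = _
  rw [e0_tmul, one_smul, map_X, shift_X,
    add_comm (X i : MvPolynomial σ (MvPolynomial σ A)) (C (X i))]

end


/-- Let B = A[T_i] be a polynomial algebra. There is an isomorphism of B-algebras from P^n_{B/A} onto
B[U_i]/(U)^(n+1), where (U) is the ideal generated by the new indeterminates, sending the principal
part d^n T_i to the class of T_i + U_i for every i (so d^n F(T) goes to the class of F(T + U)). -/
theorem result (n : ℕ) (A : Type u) [CommRing A] (σ : Type u) :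
    ∃ e : PP16.P n A (MvPolynomial σ A) ≃ₐ[MvPolynomial σ A]
        (MvPolynomial σ (MvPolynomial σ A) ⧸
          Ideal.span (Set.range (MvPolynomial.X : σ → MvPolynomial σ (MvPolynomial σ A))) ^ (n + 1)),
      ∀ i : σ, e (PP16.dn n A (MvPolynomial σ A) (MvPolynomial.X i)) =
        Ideal.Quotient.mk _ (MvPolynomial.C (MvPolynomial.X i : MvPolynomial σ A) +
          (MvPolynomial.X i : MvPolynomial σ (MvPolynomial σ A))) := by
  exact main A σ n

end Groth.Agent.S3812
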