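import Groth.Statements.S3813
import Mathlib.RingTheory.TensorProduct.Quotient

set_option autoImplicit false
universe u
open scoped TensorProduct
open PP16

namespace Groth.Agent.S3813

section

variable (A : Type u) [CommRing A] (E : Type u) [AddCommGroup E] [Module A E]

local notation "Sy" => SymmetricAlgebra A E

noncomputable def delta (sgn : A) : Sy →ₐ[A] Sy ⊗[A] Sy :=
  SymmetricAlgebra.lift
    (sgn • ((TensorProduct.mk A Sy Sy).flip 1 ∘ₗ SymmetricAlgebra.ι A E) +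
      (TensorProduct.mk A Sy Sy 1 ∘ₗ SymmetricAlgebra.ι A E))

theorem delta_ι (sgn : A) (t : E) :
    delta A E sgn (SymmetricAlgebra.ι A E t) =
      sgn • (SymmetricAlgebra.ι A E t ⊗ₜ[A] (1 : Sy)) + (1 : Sy) ⊗ₜ[A] SymmetricAlgebra.ι A E t := by
  simp [delta, SymmetricAlgebra.lift_ι_apply]

noncomputable def eHom (sgn : A) : Sy ⊗[A] Sy →ₐ[Sy] Sy ⊗[A] Sy :=
  Algebra.TensorProduct.lift (Algebra.ofId Sy (Sy ⊗[A] Sy)) (delta A E sgn)
    (fun _ _ => Commute.all _ _)

theorem eHom_tmul (sgn : A) (b c : Sy) :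
    eHom A E sgn (b ⊗ₜ[A] c) = (b ⊗ₜ[A] (1 : Sy)) * delta A E sgn c := by
  simp [eHom, Algebra.ofId_apply, Algebra.TensorProduct.algebraMap_apply]

theorem eHom_one_tmul (sgn : A) (c : Sy) :
    eHom A E sgn ((1 : Sy) ⊗ₜ[A] c) = delta A E sgn c := by
  rw [eHom_tmul, ← Algebra.TensorProduct.one_def, one_mul]

theorem eHom_tmul_one (sgn : A) (b : Sy) :
    eHom A E sgn (b ⊗ₜ[A] (1 : Sy)) = b ⊗ₜ[A] (1 : Sy) := by
  rw [eHom_tmul, map_one, mul_one]

theorem eHom_smul (sgn a : A) (x : Sy ⊗[A] Sy) :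
    eHom A E sgn (a • x) = a • eHom A E sgn x :=
  map_smul ((eHom A E sgn).restrictScalars A) a x

theorem eHom_comp (s₁ s₂ : A) (h : s₁ + s₂ = 0) :
    (eHom A E s₁).comp (eHom A E s₂) = AlgHom.id Sy (Sy ⊗[A] Sy) := by
  apply Algebra.TensorProduct.ext
  · ext
  · apply SymmetricAlgebra.algHom_ext
    ext t
    change eHom A E s₁ (eHom A E s₂ ((1 : Sy) ⊗ₜ[A] SymmetricAlgebra.ι A E t)) =
      (1 : Sy) ⊗ₜ[A] SymmetricAlgebra.ι A E t
    rw [eHom_one_tmul, delta_ι, map_add, eHom_smul, eHom_tmul_one, eHom_one_tmul, delta_ι,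
      ← add_assoc, ← add_smul, add_comm s₂, h, zero_smul, zero_add]

noncomputable def e0 : Sy ⊗[A] Sy ≃ₐ[Sy] Sy ⊗[A] Sy :=
  AlgEquiv.ofAlgHom (eHom A E 1) (eHom A E (-1))
    (eHom_comp A E 1 (-1) (by ring)) (eHom_comp A E (-1) 1 (by ring))

noncomputable def aug : Sy →ₐ[A] A := SymmetricAlgebra.lift (0 : E →ₗ[A] A)

theorem aug_ι (t : E) : aug A E (SymmetricAlgebra.ι A E t) = 0 := by
  simp [aug, SymmetricAlgebra.lift_ι_apply]

noncomputable def psi : Sy ⊗[A] Sy →ₐ[A] Sy :=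
  Algebra.TensorProduct.lift (AlgHom.id A Sy) ((Algebra.ofId A Sy).comp (aug A E))
    (fun _ _ => Commute.all _ _)

theorem psi_tmul (b c : Sy) : psi A E (b ⊗ₜ[A] c) = b * algebraMap A Sy (aug A E c) := by
  simp [psi, Algebra.TensorProduct.lift_tmul, Algebra.ofId_apply]

theorem psi_tmul_one (x : Sy) : psi A E (x ⊗ₜ[A] (1 : Sy)) = x := by
  rw [psi_tmul, map_one, map_one, mul_one]

theorem sub_mem_ker (c : Sy) : c - algebraMap A Sy (aug A E c) ∈ RingHom.ker (aug A E) := by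
  rw [RingHom.mem_ker, map_sub, AlgHom.commutes, Algebra.algebraMap_self_apply, sub_self]

theorem sub_psi_tmul_one_mem (z : Sy ⊗[A] Sy) :
    z - psi A E z ⊗ₜ[A] (1 : Sy) ∈
      (RingHom.ker (aug A E)).map (Algebra.TensorProduct.includeRight : Sy →ₐ[A] Sy ⊗[A] Sy) := by
  induction z using TensorProduct.induction_on with
  | zero => simp
  | tmul b c =>
    have : b ⊗ₜ[A] c - psi A E (b ⊗ₜ[A] c) ⊗ₜ[A] (1 : Sy) =
        (b ⊗ₜ[A] (1 : Sy)) *
          (Algebra.TensorProduct.includeRight : Sy →ₐ[A] Sy ⊗[A] Sy)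
            (c - algebraMap A Sy (aug A E c)) := by
      rw [psi_tmul, Algebra.TensorProduct.includeRight_apply, Algebra.TensorProduct.tmul_mul_tmul,
        mul_one, one_mul, TensorProduct.tmul_sub, Algebra.algebraMap_eq_smul_one, mul_smul_comm,
        mul_one, TensorProduct.smul_tmul]
    rw [this]
    exact Ideal.mul_mem_left _ _ (Ideal.mem_map_of_mem _ (sub_mem_ker A E c))
  | add y z hy hz =>
    have : y + z - psi A E (y + z) ⊗ₜ[A] (1 : Sy) =
        (y - psi A E y ⊗ₜ[A] (1 : Sy)) + (z - psi A E z ⊗ₜ[A] (1 : Sy)) := by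
      rw [map_add, TensorProduct.add_tmul]; ring
    rw [this]
    exact Ideal.add_mem _ hy hz

theorem ker_psi : RingHom.ker (psi A E) =
    (RingHom.ker (aug A E)).map (Algebra.TensorProduct.includeRight : Sy →ₐ[A] Sy ⊗[A] Sy) := by
  apply le_antisymm
  · intro z hz
    have h := sub_psi_tmul_one_mem A E z
    rw [RingHom.mem_ker] at hz
    rw [hz, TensorProduct.zero_tmul, sub_zero] at h
    exact h
  · rw [Ideal.map_le_iff_le_comap]
    intro k hk
    rw [Ideal.mem_comap, RingHom.mem_ker, Algebra.TensorProduct.includeRight_apply, psi_tmul,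
      (RingHom.mem_ker).1 hk, map_zero, mul_zero]

theorem psi_delta (c : Sy) : psi A E (delta A E 1 c) = c := by
  have : ((psi A E).comp (delta A E 1)) = AlgHom.id A Sy := by
    apply SymmetricAlgebra.algHom_ext
    ext t
    change psi A E (delta A E 1 (SymmetricAlgebra.ι A E t)) = SymmetricAlgebra.ι A E t
    rw [delta_ι, one_smul, map_add, psi_tmul_one, psi_tmul, aug_ι, map_zero, mul_zero, add_zero]
  exact AlgHom.congr_fun this c

theorem psi_e0 (w : Sy ⊗[A] Sy) : psi A E (e0 A E w) = Algebra.TensorProduct.lmul' A w := by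
  induction w using TensorProduct.induction_on with
  | zero => simp
  | tmul b c =>
    change psi A E (eHom A E 1 (b ⊗ₜ[A] c)) = _
    rw [eHom_tmul, map_mul, psi_tmul_one, psi_delta, Algebra.TensorProduct.lmul'_apply_tmul]
  | add x y hx hy => rw [map_add, map_add, map_add, hx, hy]

theorem map_ideal_e0 :
    (KaehlerDifferential.ideal A Sy).map ((e0 A E : _ ≃ₐ[Sy] _) : Sy ⊗[A] Sy →+* Sy ⊗[A] Sy) =
    (RingHom.ker (aug A E)).map (Algebra.TensorProduct.includeRight : Sy →ₐ[A] Sy ⊗[A] Sy) := by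
  rw [← ker_psi]
  have hs : Function.Surjective ((e0 A E : _ ≃ₐ[Sy] _) : Sy ⊗[A] Sy →+* Sy ⊗[A] Sy) :=
    (e0 A E).surjective
  ext y
  constructor
  · intro hy
    rw [Ideal.mem_map_iff_of_surjective _ hs] at hy
    obtain ⟨x, hx, rfl⟩ := hy
    rw [RingHom.mem_ker]
    change psi A E (e0 A E x) = 0
    rw [psi_e0]
    exact hx
  · intro hy
    rw [Ideal.mem_map_iff_of_surjective _ hs]
    refine ⟨(e0 A E).symm y, ?_, (e0 A E).apply_symm_apply y⟩
    change Algebra.TensorProduct.lmul' A ((e0 A E).symm y) = 0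
    rw [← psi_e0, (e0 A E).apply_symm_apply]
    exact hy

theorem main (n : ℕ) :
    ∃ e : PP16.P n A (SymmetricAlgebra A E) ≃ₐ[SymmetricAlgebra A E]
        (SymmetricAlgebra A E ⊗[A] (SymmetricAlgebra A E ⧸
          RingHom.ker (SymmetricAlgebra.lift (0 : E →ₗ[A] A)) ^ (n + 1))),
      ∀ t : E, e (PP16.dn n A (SymmetricAlgebra A E) (SymmetricAlgebra.ι A E t)) =
        SymmetricAlgebra.ι A E t ⊗ₜ 1 + 1 ⊗ₜ Ideal.Quotient.mk _ (SymmetricAlgebra.ι A E t) := by
  have hIJ : (RingHom.ker (aug A E) ^ (n + 1)).map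
        (Algebra.TensorProduct.includeRight : Sy →ₐ[A] Sy ⊗[A] Sy) =
      (KaehlerDifferential.ideal A Sy ^ (n + 1)).map
        ((e0 A E : _ ≃ₐ[Sy] _) : Sy ⊗[A] Sy →+* Sy ⊗[A] Sy) := by
    rw [Ideal.map_pow, Ideal.map_pow, map_ideal_e0]
  let e1 := Ideal.quotientEquivAlg (KaehlerDifferential.ideal A Sy ^ (n + 1)) _ (e0 A E) hIJ
  let e2 := (Algebra.TensorProduct.tensorQuotientEquiv (R := A) Sy Sy Sy
    (RingHom.ker (aug A E) ^ (n + 1))).symm
  refine ⟨e1.trans e2, fun t => ?_⟩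
  change e2 (Ideal.Quotient.mk _ (eHom A E 1 ((1 : Sy) ⊗ₜ[A] SymmetricAlgebra.ι A E t))) = _
  rw [eHom_one_tmul, delta_ι, one_smul, map_add, map_add]
  rfl

end


/-- Let E be an A-module, B = Sym_A(E) its symmetric algebra and K the augmentation ideal of B (the
kernel of the A-algebra map B → A killing E). For every n there is an isomorphism of B-algebras from
P^n_{B/A} onto B ⊗_A (B/K^(n+1)) sending the principal part d^n t of an element t of E to t ⊗ 1 + 1
⊗ (class of t). -/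
theorem result (n : ℕ) (A : Type u) [CommRing A] (E : Type u) [AddCommGroup E]
    [Module A E] :
    ∃ e : PP16.P n A (SymmetricAlgebra A E) ≃ₐ[SymmetricAlgebra A E]
        (SymmetricAlgebra A E ⊗[A] (SymmetricAlgebra A E ⧸
          RingHom.ker (SymmetricAlgebra.lift (0 : E →ₗ[A] A)) ^ (n + 1))),
      ∀ t : E, e (PP16.dn n A (SymmetricAlgebra A E) (SymmetricAlgebra.ι A E t)) =
        SymmetricAlgebra.ι A E t ⊗ₜ 1 + 1 ⊗ₜ Ideal.Quotient.mk _ (SymmetricAlgebra.ι A E t) := by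
  exact main A E n

end Groth.Agent.S3813
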