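import Groth.Statements.S3814
import Mathlib.RingTheory.FiniteStability
import Mathlib.RingTheory.Finiteness.ModuleFinitePresentation
import Mathlib.RingTheory.IntegralClosure.IsIntegralClosure.Basic

set_option autoImplicit false
universe u
open scoped TensorProduct
open PP16

namespace Groth.Agent.S3814

/-- If B is an A-algebra of finite presentation, then for every n the B-module P^n_{B/A} of principal
parts of order n is of finite presentation. -/
theorem result (n : ℕ) (A B : Type u) [CommRing A] [CommRing B]
    [Algebra A B] [Algebra.FinitePresentation A B] :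
    Module.FinitePresentation B (PP16.P n A B) := by
  have hfg : (KaehlerDifferential.ideal A B ^ (n + 1)).FG :=
    (KaehlerDifferential.ideal_fg A B).pow
  have hfp : Algebra.FinitePresentation B (PP16.P n A B) :=
    Algebra.FinitePresentation.quotient hfg
  have hint : Algebra.IsIntegral B (PP16.P n A B) := by
    constructor
    intro x
    obtain ⟨w, rfl⟩ := Ideal.Quotient.mk_surjective x
    set b : B := Algebra.TensorProduct.lmul' A w with hb
    have hmem : w - b ⊗ₜ[A] (1 : B) ∈ KaehlerDifferential.ideal A B := by
      rw [KaehlerDifferential.ideal, RingHom.mem_ker, map_sub, hb]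
      simp
    have hnil : IsIntegral B (Ideal.Quotient.mk (KaehlerDifferential.ideal A B ^ (n + 1))
        (w - b ⊗ₜ[A] (1 : B))) := by
      refine IsIntegral.of_pow (Nat.succ_pos n) ?_
      have : (Ideal.Quotient.mk (KaehlerDifferential.ideal A B ^ (n + 1))
          (w - b ⊗ₜ[A] (1 : B))) ^ (n + 1) = 0 := by
        rw [← map_pow, Ideal.Quotient.eq_zero_iff_mem]
        exact Ideal.pow_mem_pow hmem _
      rw [this]
      exact isIntegral_zero
    have hsum : Ideal.Quotient.mk (KaehlerDifferential.ideal A B ^ (n + 1)) w =
        Ideal.Quotient.mk _ (w - b ⊗ₜ[A] (1 : B)) + algebraMap B (PP16.P n A B) b := by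
      change _ = _ + Ideal.Quotient.mk _ (b ⊗ₜ[A] (1 : B))
      rw [← map_add, sub_add_cancel]
    rw [hsum]
    exact IsIntegral.add hnil isIntegral_algebraMap
  have hfin : Module.Finite B (PP16.P n A B) :=
    Algebra.finite_iff_isIntegral_and_finiteType.2 ⟨hint, inferInstance⟩
  exact Module.FinitePresentation.of_finite_of_finitePresentation B (PP16.P n A B)

end Groth.Agent.S3814
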