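import Groth.Statements.S3815
-- import your own Groth.Agent.* helpers here

set_option autoImplicit false
universe u
open scoped TensorProduct
open scoped BigOperators
open PP16

namespace Groth.Agent.S3815

section

variable {A B : Type u} [CommRing A] [CommRing B] [Algebra A B]
  {M N : Type u} [AddCommGroup M] [Module A M] [Module B M] [IsScalarTower A B M]
  [AddCommGroup N] [Module A N] [Module B N] [IsScalarTower A B N]

theorem commutator_apply (D : M →ₗ[A] N) (b : B) (m : M) :
    Diff16.commutator A B M N D b m = D (b • m) - b • D m := rfl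

variable (B) in
noncomputable def LL (D : M →ₗ[A] N) : B ⊗[A] B →ₗ[A] (M →ₗ[A] N) :=
  TensorProduct.lift
    (LinearMap.mk₂ A (fun (b c : B) => ((LinearMap.lsmul B N b).restrictScalars A) ∘ₗ D ∘ₗ
        ((LinearMap.lsmul B M c).restrictScalars A))
      (fun b b' c => by ext m; simp)
      (fun a b c => by ext m; simp)
      (fun b c c' => by ext m; simp)
      (fun a b c => by
        ext m
        simp only [LinearMap.comp_apply, LinearMap.restrictScalars_apply, LinearMap.lsmul_apply,
          LinearMap.smul_apply, smul_assoc, map_smul]))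

theorem LL_tmul (D : M →ₗ[A] N) (b c : B) (m : M) :
    LL B D (b ⊗ₜ[A] c) m = b • D (c • m) := by
  simp [LL]

theorem LL_mul_tmul (D : M →ₗ[A] N) (p q : B) (w : B ⊗[A] B) (m : M) :
    LL B D ((p ⊗ₜ[A] q) * w) m = p • LL B D w (q • m) := by
  induction w using TensorProduct.induction_on with
  | zero => simp
  | tmul b c =>
    rw [Algebra.TensorProduct.tmul_mul_tmul, LL_tmul, LL_tmul, mul_smul, mul_smul,
      smul_comm q c m]
  | add x y hx hy =>
    rw [mul_add, map_add, map_add, LinearMap.add_apply, LinearMap.add_apply, hx, hy, smul_add]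

noncomputable def ZZ (D : M →ₗ[A] N) : Ideal (B ⊗[A] B) where
  carrier := {w | LL B D w = 0}
  add_mem' := by
    intro x y hx hy
    simp only [Set.mem_ofPred_eq] at hx hy ⊢
    rw [map_add, hx, hy, add_zero]
  zero_mem' := by simp
  smul_mem' := by
    intro r w hw
    simp only [Set.mem_ofPred_eq] at hw ⊢
    rw [smul_eq_mul]
    induction r using TensorProduct.induction_on with
    | zero => simp
    | tmul p q =>
      ext m
      rw [LL_mul_tmul, hw]
      simp
    | add x y hx hy =>
      rw [add_mul, map_add, hx, hy, add_zero]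

theorem mem_ZZ (D : M →ₗ[A] N) (w : B ⊗[A] B) : w ∈ ZZ D ↔ LL B D w = 0 := Iff.rfl

theorem LL_comm (D : M →ₗ[A] N) (b : B) (w : B ⊗[A] B) :
    LL B D (((1 : B) ⊗ₜ[A] b - b ⊗ₜ[A] (1 : B)) * w) = LL B (Diff16.commutator A B M N D b) w := by
  induction w using TensorProduct.induction_on with
  | zero => simp
  | tmul p q =>
    ext m
    rw [sub_mul, Algebra.TensorProduct.tmul_mul_tmul, Algebra.TensorProduct.tmul_mul_tmul,
      map_sub, LinearMap.sub_apply, LL_tmul, LL_tmul, LL_tmul, commutator_apply, one_mul, one_mul,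
      smul_sub, mul_smul, mul_smul, smul_comm b p]
  | add x y hx hy =>
    rw [mul_add, map_add, map_add, hx, hy]

theorem pow_le_ZZ (k : ℕ) : ∀ (D : M →ₗ[A] N), Diff16.IsDiffOpLE A B M N k D →
    KaehlerDifferential.ideal A B ^ (k + 1) ≤ ZZ D := by
  induction k with
  | zero =>
    intro D hD
    rw [zero_add, pow_one]
    intro w hw
    rw [mem_ZZ]
    have key : ∀ w : B ⊗[A] B, ∀ m, LL B D w m = Algebra.TensorProduct.lmul' A w • D m := by
      intro w m
      induction w using TensorProduct.induction_on with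
      | zero => simp
      | tmul b c =>
        rw [LL_tmul, Algebra.TensorProduct.lmul'_apply_tmul, hD c m, mul_smul]
      | add x y hx hy =>
        rw [map_add, LinearMap.add_apply, hx, hy, map_add, add_smul]
    ext m
    rw [key]
    have : Algebra.TensorProduct.lmul' A w = 0 := hw
    rw [this, zero_smul]
    rfl
  | succ k ih =>
    intro D hD
    rw [pow_succ']
    rw [Ideal.mul_le]
    intro i hi j hj
    rw [← KaehlerDifferential.span_range_eq_ideal A B] at hi
    refine Submodule.span_induction (p := fun i _ => i * j ∈ ZZ D) ?_ ?_ ?_ ?_ hi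
    · rintro _ ⟨b, rfl⟩
      rw [mem_ZZ]
      change LL B D (((1 : B) ⊗ₜ[A] b - b ⊗ₜ[A] (1 : B)) * j) = 0
      rw [LL_comm]
      exact ih _ (hD b) hj
    · rw [zero_mul]; exact Ideal.zero_mem _
    · intro x y _ _ hx hy
      rw [add_mul]; exact Ideal.add_mem _ hx hy
    · intro r x _ hx
      rw [smul_eq_mul, mul_assoc]
      exact Ideal.mul_mem_left _ _ hx

variable (n : ℕ)

noncomputable def Lq (D : M →ₗ[A] N) (hD : KaehlerDifferential.ideal A B ^ (n + 1) ≤ ZZ D) :
    PP16.P n A B →ₗ[A] (M →ₗ[A] N) :=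
  (Submodule.liftQ ((KaehlerDifferential.ideal A B ^ (n + 1)).restrictScalars A) (LL B D)
      (fun w hw => hD hw)).comp
    (Submodule.Quotient.restrictScalarsEquiv A
      (KaehlerDifferential.ideal A B ^ (n + 1))).symm.toLinearMap

theorem Lq_mk (D : M →ₗ[A] N) (hD : KaehlerDifferential.ideal A B ^ (n + 1) ≤ ZZ D)
    (w : B ⊗[A] B) :
    Lq n D hD (Ideal.Quotient.mk (KaehlerDifferential.ideal A B ^ (n + 1)) w) = LL B D w := rfl

variable (A B) in
def toPr (x : PP16.P n A B) : PP16.Pr n A B := x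

theorem toPr_mk_surjective (x : PP16.Pr n A B) :
    ∃ w : B ⊗[A] B, x = toPr A B n (Ideal.Quotient.mk _ w) := by
  obtain ⟨w, hw⟩ := Ideal.Quotient.mk_surjective (show PP16.P n A B from x)
  exact ⟨w, hw.symm⟩

theorem smul_toPr (b : B) (x : PP16.P n A B) :
    b • toPr A B n x = toPr A B n (PP16.dn n A B b * x) := rfl

theorem P_smul_toPr (y x : PP16.P n A B) : y • toPr A B n x = toPr A B n (y * x) := rfl

theorem toPr_add (x y : PP16.P n A B) : toPr A B n (x + y) = toPr A B n x + toPr A B n y := rfl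

theorem toPr_zero : toPr A B n (0 : PP16.P n A B) = 0 := rfl

theorem dM_eq (m : M) : PP16.dM n A B M m = toPr A B n 1 ⊗ₜ[B] m := rfl

noncomputable def uu (D : M →ₗ[A] N) (hD : KaehlerDifferential.ideal A B ^ (n + 1) ≤ ZZ D) :
    PP16.PM n A B M →+ N :=
  TensorProduct.liftAddHom
    (show PP16.Pr n A B →+ M →+ N from
      LinearMap.toAddMonoidHom'.comp (Lq n D hD).toAddMonoidHom)
    (by
      intro b x m
      obtain ⟨w, rfl⟩ := toPr_mk_surjective n x
      rw [smul_toPr]
      change Lq n D hD (PP16.dn n A B b * Ideal.Quotient.mk _ w) m =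
        Lq n D hD (Ideal.Quotient.mk _ w) (b • m)
      have : PP16.dn n A B b * Ideal.Quotient.mk (KaehlerDifferential.ideal A B ^ (n + 1)) w =
          Ideal.Quotient.mk _ (((1 : B) ⊗ₜ[A] b) * w) := by
        rw [map_mul]; rfl
      rw [this, Lq_mk, Lq_mk, LL_mul_tmul, one_smul])

theorem uu_tmul (D : M →ₗ[A] N) (hD : KaehlerDifferential.ideal A B ^ (n + 1) ≤ ZZ D)
    (w : B ⊗[A] B) (m : M) :
    uu n D hD (toPr A B n (Ideal.Quotient.mk _ w) ⊗ₜ[B] m) = LL B D w m := rfl

theorem alg_smul_tmul (x y : PP16.P n A B) (m : M) :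
    x • (toPr A B n y ⊗ₜ[B] m : PP16.PM n A B M) = toPr A B n (x * y) ⊗ₜ[B] m := by
  rw [TensorProduct.smul_tmul', P_smul_toPr]

theorem tmul_smul_eq (b : B) (y : PP16.P n A B) (m : M) :
    (toPr A B n y ⊗ₜ[B] (b • m) : PP16.PM n A B M) =
      toPr A B n (PP16.dn n A B b * y) ⊗ₜ[B] m := by
  rw [← TensorProduct.smul_tmul, smul_toPr]

theorem mk_tmul_eq (b c : B) :
    Ideal.Quotient.mk (KaehlerDifferential.ideal A B ^ (n + 1)) (b ⊗ₜ[A] c) =
      algebraMap B (PP16.P n A B) b * PP16.dn n A B c := by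
  change _ = Ideal.Quotient.mk _ (b ⊗ₜ[A] (1 : B)) * Ideal.Quotient.mk _ ((1 : B) ⊗ₜ[A] c)
  rw [← map_mul, Algebra.TensorProduct.tmul_mul_tmul, mul_one, one_mul]

theorem key_tmul (b c : B) (m : M) :
    (toPr A B n (Ideal.Quotient.mk _ (b ⊗ₜ[A] c)) ⊗ₜ[B] m : PP16.PM n A B M) =
      algebraMap B (PP16.P n A B) b • PP16.dM n A B M (c • m) := by
  rw [dM_eq, tmul_smul_eq, alg_smul_tmul, mul_one, mk_tmul_eq]

theorem uu_linear (D : M →ₗ[A] N) (hD : KaehlerDifferential.ideal A B ^ (n + 1) ≤ ZZ D)
    (b : B) (t : PP16.PM n A B M) :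
    uu n D hD (algebraMap B (PP16.P n A B) b • t) = b • uu n D hD t := by
  induction t using TensorProduct.induction_on with
  | zero => simp
  | tmul x m =>
    obtain ⟨w, rfl⟩ := toPr_mk_surjective n x
    have h1 : algebraMap B (PP16.P n A B) b * Ideal.Quotient.mk _ w =
        Ideal.Quotient.mk (KaehlerDifferential.ideal A B ^ (n + 1)) ((b ⊗ₜ[A] (1 : B)) * w) := by
      rw [map_mul]; rfl
    rw [alg_smul_tmul, h1, uu_tmul, uu_tmul, LL_mul_tmul, one_smul]
  | add x y hx hy => rw [smul_add, map_add, map_add, hx, hy, smul_add]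

theorem uu_dM (D : M →ₗ[A] N) (hD : KaehlerDifferential.ideal A B ^ (n + 1) ≤ ZZ D) (m : M) :
    uu n D hD (PP16.dM n A B M m) = D m := by
  have h1 : (1 : PP16.P n A B) =
      Ideal.Quotient.mk (KaehlerDifferential.ideal A B ^ (n + 1)) ((1 : B) ⊗ₜ[A] (1 : B)) := rfl
  rw [dM_eq, h1, uu_tmul, LL_tmul, one_smul, one_smul]

theorem forward (D : M →ₗ[A] N) (hD : Diff16.IsDiffOpLE A B M N n D) :
    ∃! u : PP16.PM n A B M →+ N,
      (∀ (b : B) (t : PP16.PM n A B M), u (algebraMap B (PP16.P n A B) b • t) = b • u t) ∧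
        ∀ m : M, u (PP16.dM n A B M m) = D m := by
  have hle := pow_le_ZZ n D hD
  refine ⟨uu n D hle, ⟨uu_linear n D hle, uu_dM n D hle⟩, ?_⟩
  rintro u' ⟨h1, h2⟩
  apply AddMonoidHom.ext
  intro t
  induction t using TensorProduct.induction_on with
  | zero => simp
  | tmul x m =>
    obtain ⟨w, rfl⟩ := toPr_mk_surjective n x
    induction w using TensorProduct.induction_on with
    | zero =>
      rw [map_zero, toPr_zero, TensorProduct.zero_tmul, map_zero, map_zero]
    | tmul b c =>
      rw [key_tmul, h1, h2, uu_linear, uu_dM]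
    | add w₁ w₂ hw₁ hw₂ =>
      rw [map_add, toPr_add, TensorProduct.add_tmul, map_add, map_add, hw₁, hw₂]
  | add x y hx hy => rw [map_add, map_add, hx, hy]

noncomputable def Dx (u : PP16.PM n A B M →+ N)
    (hu : ∀ (b : B) (t : PP16.PM n A B M), u (algebraMap B (PP16.P n A B) b • t) = b • u t)
    (x : PP16.P n A B) : M →ₗ[A] N where
  toFun m := u (toPr A B n x ⊗ₜ[B] m)
  map_add' m m' := by rw [TensorProduct.tmul_add, map_add]
  map_smul' a m := by
    have h1 : a • m = algebraMap A B a • m := (algebraMap_smul B a m).symm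
    have h2 : PP16.dn n A B (algebraMap A B a) = algebraMap B (PP16.P n A B) (algebraMap A B a) := by
      rw [AlgHom.commutes, IsScalarTower.algebraMap_apply A B (PP16.P n A B)]
    rw [h1, tmul_smul_eq, h2, ← alg_smul_tmul, hu, algebraMap_smul, RingHom.id_apply]

theorem Dx_apply (u : PP16.PM n A B M →+ N)
    (hu : ∀ (b : B) (t : PP16.PM n A B M), u (algebraMap B (PP16.P n A B) b • t) = b • u t)
    (x : PP16.P n A B) (m : M) : Dx n u hu x m = u (toPr A B n x ⊗ₜ[B] m) := rfl

theorem comm_Dx (u : PP16.PM n A B M →+ N)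
    (hu : ∀ (b : B) (t : PP16.PM n A B M), u (algebraMap B (PP16.P n A B) b • t) = b • u t)
    (x : PP16.P n A B) (b : B) :
    Diff16.commutator A B M N (Dx n u hu x) b =
      Dx n u hu ((PP16.dn n A B b - algebraMap B (PP16.P n A B) b) * x) := by
  ext m
  rw [commutator_apply, Dx_apply, Dx_apply, Dx_apply, tmul_smul_eq, ← hu, alg_smul_tmul,
    ← map_sub, ← TensorProduct.sub_tmul, sub_mul]
  rfl

theorem sub_mem_aug (b : B) :
    PP16.dn n A B b - algebraMap B (PP16.P n A B) b ∈
      (KaehlerDifferential.ideal A B).map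
        (Ideal.Quotient.mk (KaehlerDifferential.ideal A B ^ (n + 1))) := by
  change Ideal.Quotient.mk _ ((1 : B) ⊗ₜ[A] b) - Ideal.Quotient.mk _ (b ⊗ₜ[A] (1 : B)) ∈ _
  rw [← map_sub]
  exact Ideal.mem_map_of_mem _ (KaehlerDifferential.one_smul_sub_smul_one_mem_ideal A b)

theorem isDiffOpLE_Dx (u : PP16.PM n A B M →+ N)
    (hu : ∀ (b : B) (t : PP16.PM n A B M), u (algebraMap B (PP16.P n A B) b • t) = b • u t)
    (j : ℕ) : ∀ x : PP16.P n A B,
      x ∈ (KaehlerDifferential.ideal A B ^ (n - j)).map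
        (Ideal.Quotient.mk (KaehlerDifferential.ideal A B ^ (n + 1))) →
      Diff16.IsDiffOpLE A B M N j (Dx n u hu x) := by
  induction j with
  | zero =>
    intro x hx b m
    have h0 : (PP16.dn n A B b - algebraMap B (PP16.P n A B) b) * x = 0 := by
      have h1 : (PP16.dn n A B b - algebraMap B (PP16.P n A B) b) * x ∈
          ((KaehlerDifferential.ideal A B) * (KaehlerDifferential.ideal A B ^ (n - 0))).map
            (Ideal.Quotient.mk (KaehlerDifferential.ideal A B ^ (n + 1))) := by
        rw [Ideal.map_mul]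
        exact Ideal.mul_mem_mul (sub_mem_aug n b) hx
      rw [Nat.sub_zero, ← pow_succ', Ideal.map_quotient_self] at h1
      exact h1
    have h2 := comm_Dx n u hu x b
    rw [h0] at h2
    have h3 : Dx n u hu (0 : PP16.P n A B) = 0 := by
      ext m
      rw [Dx_apply, toPr_zero, TensorProduct.zero_tmul, map_zero]
      rfl
    rw [h3] at h2
    have h4 := LinearMap.congr_fun h2 m
    rw [commutator_apply, LinearMap.zero_apply, sub_eq_zero] at h4
    exact h4
  | succ j ih =>
    intro x hx b
    rw [comm_Dx]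
    apply ih
    have h1 : (PP16.dn n A B b - algebraMap B (PP16.P n A B) b) * x ∈
        ((KaehlerDifferential.ideal A B) * (KaehlerDifferential.ideal A B ^ (n - (j + 1)))).map
          (Ideal.Quotient.mk (KaehlerDifferential.ideal A B ^ (n + 1))) := by
      rw [Ideal.map_mul]
      exact Ideal.mul_mem_mul (sub_mem_aug n b) hx
    rw [← pow_succ'] at h1
    refine Ideal.map_mono ?_ h1
    exact Ideal.pow_le_pow_right (by omega)

theorem backward (D : M →ₗ[A] N)
    (h : ∃! u : PP16.PM n A B M →+ N,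
      (∀ (b : B) (t : PP16.PM n A B M), u (algebraMap B (PP16.P n A B) b • t) = b • u t) ∧
        ∀ m : M, u (PP16.dM n A B M m) = D m) :
    Diff16.IsDiffOpLE A B M N n D := by
  obtain ⟨u, ⟨hu1, hu2⟩, -⟩ := h
  have hD : D = Dx n u hu1 1 := by
    ext m
    rw [Dx_apply, ← dM_eq, hu2]
  rw [hD]
  apply isDiffOpLE_Dx n u hu1 n
  rw [Nat.sub_self, pow_zero, Ideal.one_eq_top, Ideal.map_top]
  trivial

end

/-- Let B be an A-algebra, M and N two B-modules and D : M → N an A-linear map. Let P^n(M) = P^n_{B/A}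
⊗_B M, the tensor product formed with the B-module structure of P^n_{B/A} through d^n, regarded as a
B-module through the first factor of P^n_{B/A}, with d^n_M : M → P^n(M), m ↦ 1 ⊗ m. Then D is a
differential operator of order at most n relative to A (order defined through iterated commutators
with multiplication by elements of B) if and only if there is exactly one additive map u : P^n(M) →
N which is B-linear for the first-factor structure and satisfies u(1 ⊗ m) = D(m) for all m ∈ M. -/
theorem result (n : ℕ) (A B : Type u) [CommRing A] [CommRing B] [Algebra A B]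
    (M N : Type u) [AddCommGroup M] [Module A M] [Module B M] [IsScalarTower A B M]
    [AddCommGroup N] [Module A N] [Module B N] [IsScalarTower A B N] (D : M →ₗ[A] N) :
    Diff16.IsDiffOpLE A B M N n D ↔
      ∃! u : PP16.PM n A B M →+ N,
        (∀ (b : B) (t : PP16.PM n A B M), u (algebraMap B (PP16.P n A B) b • t) = b • u t) ∧
          ∀ m : M, u (PP16.dM n A B M m) = D m := by
  exact ⟨forward n D, backward n D⟩

end Groth.Agent.S3815
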