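import Groth.Statements.S3825
import Groth.Agent.S3824
import Mathlib.RingTheory.Nakayama
import Mathlib.LinearAlgebra.Dimension.StrongRankCondition
import Mathlib.LinearAlgebra.Dimension.Finrank

set_option autoImplicit false
universe u
open QReg16

namespace Groth.Agent.S3825

open MvPolynomial

lemma smul_toCotangent {A : Type u} [CommRing A] (I : Ideal A) (a : A) (x : I) :
    (Ideal.Quotient.mk I a) • I.toCotangent x = I.toCotangent (a • x) := by
  rw [map_smul]
  rfl

lemma sum_smul_toCotangent {A : Type u} [CommRing A] (I : Ideal A) {m : ℕ} (f : Fin m → I)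
    (a : Fin m → A) :
    ∑ i, (Ideal.Quotient.mk I (a i)) • I.toCotangent (f i) = I.toCotangent (∑ i, a i • f i) := by
  rw [map_sum]
  exact Finset.sum_congr rfl fun i _ => smul_toCotangent I (a i) (f i)

lemma fwd {A : Type u} [CommRing A] (I : Ideal A) {m : ℕ} (f : Fin m → I)
    (hf : CAlgX.IsQuasiRegular (fun i => (f i : A)))
    (hs : Ideal.span (Set.range fun i => (f i : A)) = I) :
    LinearIndependent (A ⧸ I) (fun i => I.toCotangent (f i)) ∧
      Submodule.span (A ⧸ I) (Set.range fun i => I.toCotangent (f i)) = ⊤ := by
  classical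
  constructor
  · rw [Fintype.linearIndependent_iff]
    intro c hc i
    choose a ha using fun i => Ideal.Quotient.mk_surjective (c i)
    have hc' : ∑ i, (Ideal.Quotient.mk I (a i)) • I.toCotangent (f i) = 0 := by
      simpa only [ha] using hc
    rw [sum_smul_toCotangent, Ideal.toCotangent_eq_zero] at hc'
    have hP := Groth.Agent.S3824.lin_isHomogeneous (fun (_ : Fin m) j => a j) i
    have hev : eval (fun i => (f i : A)) (Groth.Agent.S3824.lin (fun (_ : Fin m) j => a j) i) ∈
        Ideal.span (Set.range fun i => (f i : A)) ^ (1 + 1) := by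
      rw [Groth.Agent.S3824.eval_lin, hs]
      convert hc' using 1
      simp
    have := hf 1 _ hP hev (Finsupp.single i 1)
    rw [Groth.Agent.S3824.coeff_lin, hs] at this
    rw [← ha i]
    exact Ideal.Quotient.eq_zero_iff_mem.2 this
  · rw [eq_top_iff]
    intro x _
    obtain ⟨y, rfl⟩ := I.toCotangent_surjective x
    have hy : (y : A) ∈ Ideal.span (Set.range fun i => (f i : A)) := by rw [hs]; exact y.2
    obtain ⟨c, hc⟩ := Ideal.mem_span_range_iff_exists_fun.1 hy
    have : y = ∑ i, c i • f i := by
      ext
      rw [← hc]
      simp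
    rw [this, ← sum_smul_toCotangent]
    exact Submodule.sum_mem _ fun i _ =>
      Submodule.smul_mem _ _ (Submodule.subset_span (Set.mem_range_self i))

/-- a) iff c) (affine local form): let A be a local ring and I a proper ideal generated by some
quasi-regular sequence. For a finite family (f_i) of elements of I, the following are equivalent:
(a) (f_i) is a quasi-regular sequence generating I; (c) the classes of the f_i form a basis of the
A/I-module I/I² (equivalently, b): (f_i) is a minimal system of generators of I). -/
theorem result {A : Type u} [CommRing A] [IsLocalRing A]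
    (I : Ideal A) (hI : I ≤ IsLocalRing.maximalIdeal A)
    (hq : ∃ (r : ℕ) (g : Fin r → A), CAlgX.IsQuasiRegular g ∧ Ideal.span (Set.range g) = I)
    {m : ℕ} (f : Fin m → I) :
    (CAlgX.IsQuasiRegular (fun i => (f i : A)) ∧ Ideal.span (Set.range fun i => (f i : A)) = I) ↔
      (LinearIndependent (A ⧸ I) (fun i => I.toCotangent (f i)) ∧
        Submodule.span (A ⧸ I) (Set.range fun i => I.toCotangent (f i)) = ⊤) := by
  classical
  obtain ⟨r, g, hg, hgI⟩ := hq
  constructor
  · rintro ⟨h1, h2⟩
    exact fwd I f h1 h2
  · rintro ⟨hli, hsp⟩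
    have hgmem : ∀ i, g i ∈ I := fun i => hgI ▸ Ideal.subset_span (Set.mem_range_self i)
    obtain ⟨hli', hsp'⟩ := fwd I (fun i => (⟨g i, hgmem i⟩ : I)) hg hgI
    have hspan : Ideal.span (Set.range fun i => (f i : A)) = I := by
      apply le_antisymm
      · rw [Ideal.span_le]
        rintro _ ⟨i, rfl⟩
        exact (f i).2
      · apply Submodule.le_of_le_smul_of_le_jacobson_bot (I := I)
        · rw [← hgI]
          exact Submodule.fg_span (Set.finite_range g)
        · rw [IsLocalRing.jacobson_eq_maximalIdeal ⊥ bot_ne_top]
          exact hI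
        · intro x hx
          have hx' : I.toCotangent ⟨x, hx⟩ ∈
              Submodule.span (A ⧸ I) (Set.range fun i => I.toCotangent (f i)) :=
            hsp ▸ Submodule.mem_top
          obtain ⟨c, hc⟩ := (Submodule.mem_span_range_iff_exists_fun _).1 hx'
          choose a ha using fun i => Ideal.Quotient.mk_surjective (c i)
          simp only [← ha] at hc
          rw [sum_smul_toCotangent, ← sub_eq_zero, ← map_sub, Ideal.toCotangent_eq_zero] at hc
          have hx2 : x = (∑ i, a i • (f i : A)) + (x - ∑ i, a i • (f i : A)) := by ring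
          rw [hx2]
          refine Submodule.add_mem_sup ?_ ?_
          · exact Submodule.sum_mem _ fun i _ =>
              Submodule.smul_mem _ _ (Ideal.subset_span (Set.mem_range_self i))
          · rw [Ideal.smul_eq_mul, ← pow_two, ← neg_mem_iff]
            convert hc using 1
            simp
    refine ⟨?_, hspan⟩
    have hnt : Nontrivial (A ⧸ I) := Ideal.Quotient.nontrivial_iff.2
      (ne_top_of_le_ne_top (IsLocalRing.maximalIdeal.isMaximal A).ne_top hI)
    have hmr : m = r := by
      have h1 := Module.finrank_eq_card_basis (Module.Basis.mk hli hsp.ge)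
      have h2 := Module.finrank_eq_card_basis (Module.Basis.mk hli' hsp'.ge)
      rw [h1] at h2
      simpa using h2
    subst hmr
    exact Groth.Agent.S3824.result g (fun i => (f i : A)) hg (hspan.trans hgI.symm)

end Groth.Agent.S3825
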