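import Groth.Statements.S3830
import Mathlib.RingTheory.Unramified.LocalStructure
import Mathlib.RingTheory.QuasiFinite.Polynomial
import Mathlib.RingTheory.Ideal.GoingDown
import Mathlib.RingTheory.Smooth.Flat
import Mathlib.RingTheory.RingHom.Flat

set_option autoImplicit false
universe u
open Unram17

namespace Groth.Agent.S3830

open Polynomial in
lemma no_flat_poly {R S : Type*} [CommRing R] [CommRing S] [Algebra R S] [Algebra R[X] S]
    [IsScalarTower R R[X] S] [Module.Flat R[X] S] (Q : Ideal S) [Q.IsPrime]
    [Algebra.QuasiFiniteAt R Q] : False := by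
  have hlt := Polynomial.map_under_lt_comap_of_quasiFiniteAt (IsScalarTower.toAlgHom R R[X] S) Q
  have hp : ((Q.under R).map (C : R →+* R[X])).IsPrime := Ideal.isPrime_map_C_of_isPrime
  have hle : (Q.under R).map (C : R →+* R[X]) ≤ Q.under R[X] := hlt.le
  obtain ⟨Q', hQ'Q, hQ'prime, hQ'over⟩ :=
    Ideal.exists_ideal_le_liesOver_of_le (p := (Q.under R).map (C : R →+* R[X]))
      (q := Q.under R[X]) Q hle
  have h2 : Q'.under R[X] = (Q.under R).map (C : R →+* R[X]) := (Q'.over_def _).symm
  have h1 : Q'.under R = Q.under R := by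
    rw [← Ideal.under_under (B := R[X]) Q', h2]
    ext x
    simp only [Ideal.under, Ideal.mem_comap, algebraMap_eq]
    constructor
    · intro h
      have := Ideal.mem_map_C_iff.mp h 0
      simpa using this
    · intro h
      exact Ideal.mem_map_of_mem _ h
  have h3 := Algebra.QuasiFiniteAt.eq_of_le_of_under_eq (R := R) hQ'Q h1
  subst h3
  exact hlt.ne h2.symm

open Polynomial in
lemma no_flat_mvPoly {A T : Type u} [CommRing A] [CommRing T] [Algebra A T] (k : ℕ)
    [Algebra (MvPolynomial (Fin (k + 1)) A) T] [IsScalarTower A (MvPolynomial (Fin (k + 1)) A) T]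
    [Module.Flat (MvPolynomial (Fin (k + 1)) A) T] (Q : Ideal T) [Q.IsPrime]
    [Algebra.QuasiFiniteAt A Q] : False := by
  let e := MvPolynomial.finSuccEquiv A k
  let i1 : Algebra (MvPolynomial (Fin k) A)[X] T :=
    ((algebraMap (MvPolynomial (Fin (k + 1)) A) T).comp e.symm.toRingEquiv.toRingHom).toAlgebra
  let i2 : Algebra (MvPolynomial (Fin k) A) T :=
    ((algebraMap (MvPolynomial (Fin k) A)[X] T).comp C).toAlgebra
  have t1 : IsScalarTower (MvPolynomial (Fin k) A) (MvPolynomial (Fin k) A)[X] T :=
    .of_algebraMap_eq' rfl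
  have t2 : IsScalarTower A (MvPolynomial (Fin k) A) T := by
    refine .of_algebraMap_eq' ?_
    rw [IsScalarTower.algebraMap_eq A (MvPolynomial (Fin (k + 1)) A) T]
    ext a
    have h1 : (C (MvPolynomial.C a) : (MvPolynomial (Fin k) A)[X]) =
        algebraMap A (MvPolynomial (Fin k) A)[X] a := rfl
    simp only [RingHom.algebraMap_toAlgebra, RingHom.comp_apply, MvPolynomial.algebraMap_eq]
    change _ = (algebraMap (MvPolynomial (Fin (k + 1)) A) T) (e.symm (C (MvPolynomial.C a)))
    rw [h1, AlgEquiv.commutes]
    rfl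
  have f1 : Module.Flat (MvPolynomial (Fin k) A)[X] T := by
    rw [← RingHom.flat_algebraMap_iff]
    rw [RingHom.algebraMap_toAlgebra]
    exact RingHom.Flat.comp (RingHom.Flat.of_bijective e.symm.bijective)
      (RingHom.flat_algebraMap_iff.mpr inferInstance)
  have q1 : Algebra.QuasiFiniteAt (MvPolynomial (Fin k) A) Q :=
    Algebra.QuasiFinite.of_restrictScalars (R := A) (S := MvPolynomial (Fin k) A)
      (T := Localization.AtPrime Q)
  exact no_flat_poly (R := MvPolynomial (Fin k) A) (S := T) Q

theorem result (A B : Type u) [CommRing A] [CommRing B] [Algebra A B]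
    [Algebra.FinitePresentation A B] (q : Ideal B) [q.IsPrime] [Algebra.QuasiFiniteAt A q]
    (h : Algebra.IsSmoothAt A q) : Algebra.IsEtaleAt A q := by
  obtain ⟨g, hgq, n, alg, tower, hstd⟩ :=
    Algebra.IsSmoothAt.exists_isStandardEtale_mvPolynomial (R := A) (p := q)
  cases n with
  | zero =>
    have h0 : Algebra.FormallyEtale A (MvPolynomial (Fin 0) A) :=
      Algebra.FormallyEtale.of_equiv (MvPolynomial.isEmptyAlgEquiv A (Fin 0)).symm
    have h1 : Algebra.FormallyEtale A (Localization.Away g) :=
      Algebra.FormallyEtale.comp A (MvPolynomial (Fin 0) A) _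
    have h2 := (Algebra.basicOpen_subset_etaleLocus_iff (R := A) (f := g)).mpr h1
    exact h2 (show (⟨q, inferInstance⟩ : PrimeSpectrum B) ∈ PrimeSpectrum.basicOpen g from hgq)
  | succ k =>
    exfalso
    have hd : Disjoint (Submonoid.powers g : Set B) (q : Set B) :=
      (Ideal.disjoint_powers_iff_notMem_of_isPrime _).mpr hgq
    have hQ : (q.map (algebraMap B (Localization.Away g))).IsPrime :=
      IsLocalization.isPrime_of_isPrime_disjoint (.powers g) _ _ ‹_› hd
    have hover : (q.map (algebraMap B (Localization.Away g))).LiesOver q :=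
      ⟨(IsLocalization.under_map_of_isPrime_disjoint (.powers g) _ ‹_› hd).symm⟩
    have hqf : Algebra.QuasiFiniteAt A (q.map (algebraMap B (Localization.Away g))) :=
      Algebra.QuasiFiniteAt.of_surjectiveOnStalks_of_liesOver q
        (RingHom.surjectiveOnStalks_of_isLocalization (.powers g) _) _
    exact no_flat_mvPoly (A := A) k (q.map (algebraMap B (Localization.Away g)))

end Groth.Agent.S3830
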