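import Groth.Statements.S3831
import Groth.Agent.Lib.Helper67.GeomIntFib2

set_option autoImplicit false
universe u
open Hensel18

namespace Groth.Agent.S3831

/-- Let A be a henselian Noetherian local ring whose formal fibres are geometrically normal. Then the
formal fibres of A are geometrically integral: for every prime p of A and every field extension K of
the residue field k(p), the ring K ⊗_{k(p)} (k(p) ⊗_A Â) is an integral domain. -/
theorem result (A : Type u) [CommRing A] [HenselianLocalRing A]
    [IsNoetherianRing A] (hA : EGA4.HasGeomNormalFormalFibres A) (p : Ideal A) [p.IsPrime]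
    (K : Type u) [Field K] [Algebra p.ResidueField K] :
    IsDomain (TensorProduct p.ResidueField K (EGA4.formalFibre A p)) := by
  exact Groth.Agent.Lib.Helper67.GeomIntFib.isDomain_tensor_of_forall_finite p.ResidueField
    (EGA4.formalFibre A p)
    (fun k' _ _ hfin =>
      Groth.Agent.Lib.Helper67.GeomIntFib.isDomain_tensor_formalFibre_of_finite A hA p k' hfin) K

end Groth.Agent.S3831
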