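import Groth.Statements.S3833
-- import your own Groth.Agent.* helpers here

set_option autoImplicit false
universe u
open CategoryTheory CategoryTheory.Limits AlgebraicGeometry TopologicalSpace
open Rat20

namespace Groth.Agent.S3833

/-- Stated for a global section, the case of a section over an open subset U being the same statement
for the open subscheme U: let X be a scheme and s a global section of O_X which is regular in the
sense that its germ at every point x is a non-zero-divisor of the local ring O_{X,x} (on an affine
scheme this is the same as being a non-zero-divisor of Γ(X, O_X), but not in general). Then the open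
subset X_s where s is invertible is schematically dense in X. -/
theorem result (X : Scheme.{u}) (s : Γ(X, ⊤))
    (hs : ∀ x : ↥X, (X.presheaf.germ ⊤ x trivial s) ∈ nonZeroDivisors ↑(X.presheaf.stalk x)) :
    CInt.IsSchematicallyDense (X.basicOpen s) := by
  intro V
  rw [injective_iff_map_eq_zero]
  intro f hf
  apply TopCat.Presheaf.section_ext X.sheaf V f 0
  intro x hx
  rw [map_zero]
  obtain ⟨W, hW, hxW, hWV⟩ := exists_isAffineOpen_mem_and_subset (x := x) (U := V) hx
  have hWV' : W ≤ V := hWV
  set g : Γ(X, W) := X.presheaf.map (homOfLE (le_top : W ≤ ⊤)).op s with hg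
  set fW : Γ(X, W) := X.presheaf.map (homOfLE hWV').op f with hfW
  have hbo : X.basicOpen g = W ⊓ X.basicOpen s := Scheme.basicOpen_res _ _ _
  have hle : X.basicOpen g ≤ V ⊓ X.basicOpen s := by
    rw [hbo]; exact inf_le_inf_right _ hWV'
  have h0 : algebraMap Γ(X, W) Γ(X, X.basicOpen g) fW = 0 := by
    have h1 : algebraMap Γ(X, W) Γ(X, X.basicOpen g) fW =
        X.presheaf.map (homOfLE hle).op
          (X.presheaf.map (homOfLE (inf_le_left : V ⊓ X.basicOpen s ≤ V)).op f) := by
      change X.presheaf.map _ (X.presheaf.map _ f) = _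
      rw [← CommRingCat.comp_apply, ← CommRingCat.comp_apply, ← Functor.map_comp,
        ← Functor.map_comp]
      rfl
    rw [h1, hf, map_zero]
  haveI := hW.isLocalization_basicOpen g
  obtain ⟨⟨_, n, rfl⟩, hn⟩ :=
    (IsLocalization.map_eq_zero_iff (Submonoid.powers g) Γ(X, X.basicOpen g) fW).mp h0
  have h2 := congrArg (X.presheaf.germ W x hxW) hn
  rw [map_mul, map_pow, map_zero] at h2
  have h3 : X.presheaf.germ W x hxW g = X.presheaf.germ ⊤ x trivial s :=
    TopCat.Presheaf.germ_res_apply X.presheaf (homOfLE (le_top : W ≤ ⊤)) x hxW s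
  have h4 : X.presheaf.germ W x hxW fW = X.presheaf.germ V x hx f :=
    TopCat.Presheaf.germ_res_apply X.presheaf (homOfLE hWV') x hxW f
  rw [h3, h4] at h2
  have hnz : (X.presheaf.germ ⊤ x trivial s) ^ n ∈ nonZeroDivisors ↑(X.presheaf.stalk x) :=
    pow_mem (hs x) n
  exact (mul_left_mem_nonZeroDivisors_eq_zero_iff hnz).mp h2

end Groth.Agent.S3833
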