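import Groth.Statements.S3834
import Groth.Agent.S3833
import Mathlib.RingTheory.Ideal.AssociatedPrime.Finiteness
import Mathlib.RingTheory.Ideal.MinimalPrime.Basic

set_option autoImplicit false
universe u
open CategoryTheory CategoryTheory.Limits AlgebraicGeometry TopologicalSpace
open Rat20

namespace Groth.Agent.S3834

section alg

variable {A : Type*} [CommRing A]

theorem exists_ann_of_reduced [IsReduced A] (hfin : (minimalPrimes A).Finite) (I : Ideal A)
    (hI : Disjoint (I : Set A) (nonZeroDivisors A)) :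
    ∃ a : A, a ≠ 0 ∧ ∀ h ∈ I, a * h = 0 := by
  classical
  have hnil : sInf (minimalPrimes A) = (⊥ : Ideal A) := by
    have := Ideal.sInf_minimalPrimes (I := (⊥ : Ideal A))
    have h2 : (⊥ : Ideal A).radical = ⊥ := by
      have := nilradical_eq_zero A
      exact this
    rw [h2] at this
    exact this
  have step1 : (I : Set A) ⊆ ⋃ p ∈ minimalPrimes A, ((id p : Ideal A) : Set A) := by
    intro h hh
    have hnz : h ∉ nonZeroDivisors A := Set.disjoint_left.mp hI hh
    rw [mem_nonZeroDivisors_iff_right] at hnz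
    push Not at hnz
    obtain ⟨b, hb, hb0⟩ := hnz
    have : b ∉ sInf (minimalPrimes A) := by rw [hnil]; exact hb0
    rw [Ideal.mem_sInf] at this
    push Not at this
    obtain ⟨p, hp, hbp⟩ := this
    simp only [Set.mem_iUnion, id]
    refine ⟨p, hp, ?_⟩
    have h0 : b * h ∈ p := by rw [hb]; exact p.zero_mem
    exact (hp.1.1.mem_or_mem h0).resolve_left hbp
  obtain ⟨p, hp, hIp⟩ :=
    (Ideal.subset_union_prime_finite hfin 0 0 (fun q hq _ _ => hq.1.1)).mp step1
  set S' := hfin.toFinset.erase p with hS'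
  have hJ : ¬ (S'.inf id ≤ p) := by
    intro hle
    obtain ⟨q, hq, hqp⟩ := (hp.1.1.inf_le').mp hle
    rw [hS', Finset.mem_erase, Set.Finite.mem_toFinset] at hq
    simp only [id] at hqp
    have : p ≤ q := hp.2 ⟨hq.2.1.1, bot_le⟩ hqp
    exact hq.1 (le_antisymm hqp this)
  obtain ⟨a, haJ, hap⟩ := SetLike.not_le_iff_exists.mp hJ
  refine ⟨a, ?_, ?_⟩
  · rintro rfl
    exact hap p.zero_mem
  · intro h hh
    have : a * h ∈ sInf (minimalPrimes A) := by
      rw [Ideal.mem_sInf]
      intro q hq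
      by_cases hqp : q = p
      · subst hqp
        exact q.mul_mem_left _ (hIp hh)
      · have hqS : q ∈ S' := by
          rw [hS', Finset.mem_erase, Set.Finite.mem_toFinset]
          exact ⟨hqp, hq⟩
        have : S'.inf id ≤ q := Finset.inf_le hqS
        exact q.mul_mem_right _ (this haJ)
    rw [hnil] at this
    exact this

theorem exists_ann (h : IsNoetherianRing A ∨ (IsReduced A ∧ (minimalPrimes A).Finite))
    (I : Ideal A) (hI : Disjoint (I : Set A) (nonZeroDivisors A)) :
    ∃ a : A, a ≠ 0 ∧ ∀ h ∈ I, a * h = 0 := by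
  rcases h with h | ⟨h1, h2⟩
  · have hlt := Ideal.bot_lt_annihilator_of_disjoint_nonZeroDivisors hI
    obtain ⟨a, ha, ha0⟩ := SetLike.exists_of_lt hlt
    refine ⟨a, fun h0 => ha0 (by rw [h0]; exact Submodule.zero_mem _), ?_⟩
    intro h hh
    rw [Module.mem_annihilator] at ha
    have := ha ⟨h, hh⟩
    exact congrArg Subtype.val this
  · exact exists_ann_of_reduced h2 I hI

end alg

section geom

variable {X : Scheme.{u}}

theorem dense_of_le {U U' : X.Opens} (h : U ≤ U') (hU : CInt.IsSchematicallyDense U) :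
    CInt.IsSchematicallyDense U' := by
  intro V
  rw [injective_iff_map_eq_zero]
  intro f hf
  apply hU V
  rw [map_zero]
  have hle : V ⊓ U ≤ V ⊓ U' := inf_le_inf_left _ h
  have h1 : X.presheaf.map (homOfLE (inf_le_left : V ⊓ U ≤ V)).op f =
      X.presheaf.map (homOfLE hle).op
        (X.presheaf.map (homOfLE (inf_le_left : V ⊓ U' ≤ V)).op f) := by
    rw [← CommRingCat.comp_apply, ← Functor.map_comp]
    rfl
  rw [h1, hf, map_zero]

theorem germ_nzd [IsAffine X] (t : Γ(X, ⊤)) (ht : t ∈ nonZeroDivisors Γ(X, ⊤)) (x : X) :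
    X.presheaf.germ ⊤ x trivial t ∈ nonZeroDivisors ↑(X.presheaf.stalk x) := by
  letI := TopCat.Presheaf.algebra_section_stalk X.presheaf (⟨x, trivial⟩ : (⊤ : X.Opens))
  have hloc := (isAffineOpen_top X).isLocalization_stalk ⟨x, trivial⟩
  exact IsLocalization.map_nonZeroDivisors_le
    ((isAffineOpen_top X).primeIdealOf ⟨x, trivial⟩).asIdeal.primeCompl
    (X.presheaf.stalk x) (Submonoid.mem_map_of_mem _ ht)

theorem exists_nzd [IsAffine X]
    (halg : IsNoetherianRing Γ(X, ⊤) ∨ (_root_.IsReduced Γ(X, ⊤) ∧ (minimalPrimes Γ(X, ⊤)).Finite))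
    (U : X.Opens) (hU : CInt.IsSchematicallyDense U) :
    ∃ t : Γ(X, ⊤), t ∈ nonZeroDivisors Γ(X, ⊤) ∧ X.basicOpen t ≤ U := by
  let I : Ideal Γ(X, ⊤) :=
    { carrier := {h | X.basicOpen h ≤ U}
      add_mem' := fun {a b} ha hb => (X.basicOpen_add_le (f := a) (g := b)).trans (sup_le ha hb)
      zero_mem' := by
        change X.basicOpen (0 : Γ(X, ⊤)) ≤ U
        rw [Scheme.basicOpen_zero]; exact bot_le
      smul_mem' := fun c h hh => by
        change X.basicOpen (c * h) ≤ U
        rw [Scheme.basicOpen_mul]; exact inf_le_right.trans hh }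
  by_contra hcon
  push Not at hcon
  have hI : Disjoint (I : Set Γ(X, ⊤)) (nonZeroDivisors Γ(X, ⊤)) :=
    Set.disjoint_left.mpr fun t htI htn => hcon t htn htI
  obtain ⟨a, ha0, ha⟩ := exists_ann halg I hI
  apply ha0
  apply hU ⊤
  rw [map_zero]
  apply TopCat.Presheaf.section_ext X.sheaf (⊤ ⊓ U) _ 0
  intro x hx
  rw [map_zero]
  have hres : X.sheaf.presheaf.germ (⊤ ⊓ U) x hx
      (X.presheaf.map (homOfLE (inf_le_left : ⊤ ⊓ U ≤ ⊤)).op a) =
      X.presheaf.germ ⊤ x trivial a :=
    TopCat.Presheaf.germ_res_apply X.presheaf (homOfLE (inf_le_left : ⊤ ⊓ U ≤ ⊤)) x hx a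
  rw [hres]
  obtain ⟨_, ⟨h, rfl⟩, hxh, hhU⟩ := Opens.isBasis_iff_nbhd.mp (isBasis_basicOpen X) hx.2
  have hunit : IsUnit (X.presheaf.germ ⊤ x trivial h) := (X.mem_basicOpen_top h x).mp hxh
  have := congrArg (X.presheaf.germ ⊤ x trivial) (ha h hhU)
  rw [map_mul, map_zero] at this
  exact (hunit.mul_left_eq_zero).mp this

end geom

section transl

theorem halg_of (X : Scheme.{u}) [IsAffine X]
    (hX : IsNoetherian X ∨ (IsReduced X ∧ (irreducibleComponents ↥X).Finite)) :
    IsNoetherianRing Γ(X, ⊤) ∨ (_root_.IsReduced Γ(X, ⊤) ∧ (minimalPrimes Γ(X, ⊤)).Finite) := by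
  rcases hX with h | ⟨h1, h2⟩
  · left
    exact IsLocallyNoetherian.component_noetherian ⟨⊤, isAffineOpen_top X⟩
  · right
    refine ⟨inferInstance, ?_⟩
    let e : ↥X ≃ₜ PrimeSpectrum Γ(X, ⊤) := X.isoSpec.hom.homeomorph
    have eq1 := irreducibleComponentsEquivOfIsPreirreducibleFiber e e.continuous e.isOpenMap
      (fun x => (Set.subsingleton_singleton.preimage e.injective).isPreirreducible) e.surjective
    have eq2 := minimalPrimes.equivIrreducibleComponents Γ(X, ⊤)
    haveI : Finite ↥(irreducibleComponents ↥X) := h2.to_subtype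
    haveI : Finite ↥(irreducibleComponents (PrimeSpectrum Γ(X, ⊤))) :=
      Finite.of_equiv _ eq1.toEquiv.symm
    haveI : Finite (↥(irreducibleComponents (PrimeSpectrum Γ(X, ⊤))))ᵒᵈ :=
      inferInstanceAs (Finite ↥(irreducibleComponents (PrimeSpectrum Γ(X, ⊤))))
    haveI : Finite ↥(minimalPrimes Γ(X, ⊤)) := Finite.of_equiv _ eq2.toEquiv.symm
    exact Set.toFinite _

end transl

/-- Let X = Spec A be an affine scheme, with A Noetherian, or A reduced with finitely many minimal
primes. Then an open subset U of X is schematically dense if and only if it contains an open subset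
of the form X_t with t a regular element of A = Γ(X, O_X). -/
theorem result (X : Scheme.{u}) [IsAffine X]
    (hX : IsNoetherian X ∨ (IsReduced X ∧ (irreducibleComponents ↥X).Finite)) (U : X.Opens) :
    CInt.IsSchematicallyDense U ↔ ∃ t : Γ(X, ⊤), t ∈ nonZeroDivisors Γ(X, ⊤) ∧ X.basicOpen t ≤ U := by
  constructor
  · intro hU
    exact exists_nzd (halg_of X hX) U hU
  · rintro ⟨t, ht, htU⟩
    exact dense_of_le htU (Groth.Agent.S3833.result X t (germ_nzd t ht))

end Groth.Agent.S3834
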