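import Groth.Statements.S3835
-- import your own Groth.Agent.* helpers here
import Groth.Agent.S3843
import Groth.Agent.Lib.Helper32.SDP0
import Groth.Agent.Lib.Helper94.SDP1
import Groth.Agent.Lib.Helper56.SDCORE

set_option autoImplicit false
universe u
open CategoryTheory CategoryTheory.Limits AlgebraicGeometry TopologicalSpace
open Rat20

namespace Groth.Agent.S3835


/-- Let Y be separated over S, X an S-scheme with a schematically dense open subscheme U, h : U → Y an
S-morphism (a representative of a pseudo-morphism from X to Y over S), and f : X' → X a flat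
morphism locally of finite presentation, X' being regarded as an S-scheme through f. Let x' be a
point of X' with image x = f(x'). If there is an S-morphism from an open neighbourhood V' of x' to Y
agreeing with h ∘ f on f⁻¹(U) ∩ V' (the pulled-back pseudo-morphism is defined at x'), then there is
an S-morphism from an open neighbourhood V of x to Y agreeing with h on U ∩ V (the pseudo-morphism
is defined at x). -/
theorem result {X X' Y S : Scheme.{u}} (pX : X ⟶ S) (pY : Y ⟶ S)
    [IsSeparated pY] (U : X.Opens) (hU : CInt.IsSchematicallyDense U) (h : (U : Scheme.{u}) ⟶ Y)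
    (hh : h ≫ pY = U.ι ≫ pX) (f : X' ⟶ X) [Flat f] [LocallyOfFinitePresentation f] (x' : ↥X')
    (V' : X'.Opens) (hx' : x' ∈ V') (v' : (V' : Scheme.{u}) ⟶ Y) (hv'S : v' ≫ pY = V'.ι ≫ f ≫ pX)
    (hv' : X'.homOfLE (inf_le_right : f ⁻¹ᵁ U ⊓ V' ≤ V') ≫ v' =
      X'.homOfLE (inf_le_left : f ⁻¹ᵁ U ⊓ V' ≤ f ⁻¹ᵁ U) ≫ (f ∣_ U) ≫ h) :
    ∃ (V : X.Opens) (v : (V : Scheme.{u}) ⟶ Y), f x' ∈ V ∧ v ≫ pY = V.ι ≫ pX ∧
      X.homOfLE (inf_le_right : U ⊓ V ≤ V) ≫ v = X.homOfLE (inf_le_left : U ⊓ V ≤ U) ≫ h := by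
  obtain ⟨V, π, hV, hπ, hπ1, hπ2, hπ3⟩ := Groth.Agent.Lib.Helper94.SDP1.P1 f V'
  obtain ⟨v, hvS, hv⟩ := Groth.Agent.Lib.Helper56.SDCORE.CORE pX pY U hU h hh V.ι π v'
    (by rw [hv'S, ← Category.assoc, ← Category.assoc, hπ])
    (fun t u htu => Groth.Agent.Lib.Helper32.SDP0.P0 U h f V' v' hv' t u (by rw [← hπ]; exact htu))
  refine ⟨V, v, hV x' hx', hvS, hv _ _ ?_⟩
  simp

end Groth.Agent.S3835
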