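import Groth.Statements.S3836
import Groth.Agent.Lib.Helper41.BirGraph

set_option autoImplicit false
universe u
open CategoryTheory CategoryTheory.Limits AlgebraicGeometry TopologicalSpace
open Rat20

namespace Groth.Agent.S3836

/-- Let X be a locally integral S-scheme, Y an S-scheme locally of finite type and separated over S, and
h : U → Y an S-morphism on a dense open subset (a rational S-map ω). Let Γ be the closure in X ×_S Y
of the graph of h and p : Γ → X the projection. If x is a point of X whose local ring is integrally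
closed and the fibre p⁻¹(x) contains an isolated point, then ω is defined at x: some S-morphism from
an open neighbourhood of x to Y agrees with h on U. -/
theorem result {X Y S : Scheme.{u}} (pX : X ⟶ S) (pY : Y ⟶ S)
    [LocallyOfFiniteType pY] [IsSeparated pY] (hX : ∀ y : ↥X, ∃ W : X.Opens, y ∈ W ∧ IsIntegral (W : Scheme.{u}))
    (U : X.Opens) (hU : Dense (U : Set ↥X)) (h : (U : Scheme.{u}) ⟶ Y) (hh : U.ι ≫ pX = h ≫ pY)
    (x : ↥X) (hx : IsIntegrallyClosed (X.presheaf.stalk x))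
    (z : ↥(pullback pX pY)) (hz : pullback.fst pX pY z = x)
    (hzΓ : z ∈ closure (Set.range (pullback.lift U.ι h hh)))
    (hiso : ∃ W : (pullback pX pY).Opens, (W : Set ↥(pullback pX pY)) ∩ closure (Set.range (pullback.lift U.ι h hh)) ∩
      (pullback.fst pX pY) ⁻¹' {x} = {z}) :
    ∃ (V : X.Opens) (v : (V : Scheme.{u}) ⟶ Y), x ∈ V ∧ v ≫ pY = V.ι ≫ pX ∧
      X.homOfLE (inf_le_right : U ⊓ V ≤ V) ≫ v = X.homOfLE (inf_le_left : U ⊓ V ≤ U) ≫ h := by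
  classical
  obtain ⟨W, hW⟩ := hiso
  -- an affine integral open neighbourhood `X₀` of `x`
  obtain ⟨W₀, hxW₀, hW₀int⟩ := hX x
  obtain ⟨X₀, hX₀, hxX₀, hX₀W₀'⟩ : ∃ X₀ : X.Opens, IsAffineOpen X₀ ∧ x ∈ X₀ ∧ X₀ ≤ W₀ := by
    obtain ⟨_, ⟨X₀, hX₀, rfl⟩, hxX₀, hX₀W₀⟩ :=
      X.isBasis_affineOpens.exists_subset_of_mem_open hxW₀ W₀.isOpen
    exact ⟨X₀, hX₀, hxX₀, hX₀W₀⟩
  haveI : Nonempty X₀ := ⟨⟨x, hxX₀⟩⟩
  haveI : IsIntegral (X₀ : Scheme.{u}) := isIntegral_of_isOpenImmersion (X.homOfLE hX₀W₀')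
  haveI : IsAffine (X₀ : Scheme.{u}) := hX₀
  -- an affine open `U₁` inside `U ⊓ X₀`
  obtain ⟨u₀, hu₀U, hu₀X₀⟩ := hU.inter_open_nonempty _ X₀.isOpen ⟨x, hxX₀⟩
  obtain ⟨U₁, hU₁, hu₀U₁, hU₁U, hU₁X₀⟩ :
      ∃ U₁ : X.Opens, IsAffineOpen U₁ ∧ u₀ ∈ U₁ ∧ U₁ ≤ U ∧ U₁ ≤ X₀ := by
    obtain ⟨_, ⟨U₁, hU₁, rfl⟩, hu₀U₁, hU₁le⟩ :=
      X.isBasis_affineOpens.exists_subset_of_mem_open
        (show u₀ ∈ ((U ⊓ X₀ : X.Opens) : Set X) from ⟨hu₀X₀, hu₀U⟩) (U ⊓ X₀).isOpen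
    exact ⟨U₁, hU₁, hu₀U₁, fun a ha => (hU₁le ha).1, fun a ha => (hU₁le ha).2⟩
  haveI : Nonempty U₁ := ⟨⟨u₀, hu₀U₁⟩⟩
  haveI : IsAffine (U₁ : Scheme.{u}) := hU₁
  haveI : IsIntegral (U₁ : Scheme.{u}) := isIntegral_of_isOpenImmersion (X.homOfLE hU₁X₀)
  -- the restricted projection
  set q := pullback.fst pX pY with hq
  set γ := pullback.lift U.ι h hh with hγ
  have hγq : γ ≫ q = U.ι := pullback.lift_fst _ _ _
  have hγsnd : γ ≫ pullback.snd pX pY = h := pullback.lift_snd _ _ _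
  let P₀ : (pullback pX pY).Opens := q ⁻¹ᵁ X₀
  let q₀ : (P₀ : Scheme.{u}) ⟶ (X₀ : Scheme.{u}) := q ∣_ X₀
  haveI : IsSeparated q₀ :=
    IsZariskiLocalAtTarget.restrict (P := @IsSeparated) (inferInstance : IsSeparated q) X₀
  haveI : LocallyOfFiniteType q₀ :=
    IsZariskiLocalAtTarget.restrict (P := @LocallyOfFiniteType)
      (inferInstance : LocallyOfFiniteType q) X₀
  have hq₀ : q₀ ≫ X₀.ι = P₀.ι ≫ q := morphismRestrict_ι q X₀
  let j₁ : (U₁ : Scheme.{u}) ⟶ (X₀ : Scheme.{u}) := X.homOfLE hU₁X₀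
  have hj₁ : j₁ ≫ X₀.ι = U₁.ι := X.homOfLE_ι hU₁X₀
  have hrange₁ : Set.range (X.homOfLE hU₁U ≫ γ) ⊆ Set.range P₀.ι := by
    rintro _ ⟨a, rfl⟩
    rw [Scheme.Opens.range_ι]
    change q ((X.homOfLE hU₁U ≫ γ) a) ∈ X₀
    rw [← Scheme.Hom.comp_apply, Category.assoc, hγq, X.homOfLE_ι]
    exact hU₁X₀ a.2
  let g₁ : (U₁ : Scheme.{u}) ⟶ (P₀ : Scheme.{u}) :=
    IsOpenImmersion.lift P₀.ι (X.homOfLE hU₁U ≫ γ) hrange₁
  have hg₁ : g₁ ≫ P₀.ι = X.homOfLE hU₁U ≫ γ := IsOpenImmersion.lift_fac _ _ _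
  have hg : g₁ ≫ q₀ = j₁ := by
    rw [← cancel_mono X₀.ι, Category.assoc, hq₀, ← Category.assoc, hg₁, Category.assoc, hγq,
      X.homOfLE_ι, hj₁]
  haveI : QuasiCompact g₁ := by
    haveI : QuasiCompact (g₁ ≫ q₀) := by rw [hg]; infer_instance
    exact MorphismProperty.of_postcomp (W := @QuasiCompact) (W' := @QuasiSeparated) g₁ q₀
      inferInstance inferInstance
  -- the point `z₀` of `P₀` corresponding to `z`
  have hzP₀ : z ∈ P₀ := by change q z ∈ X₀; rw [hz]; exact hxX₀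
  let z₀ : (P₀ : Scheme.{u}) := ⟨z, hzP₀⟩
  have hq₀z₀ : (q₀ z₀).1 = x := by rw [morphismRestrict_base_coe]; exact hz
  have hx₀ : IsIntegrallyClosed ((X₀ : Scheme.{u}).presheaf.stalk (q₀ z₀)) := by
    have h1 : IsIntegrallyClosed (X.presheaf.stalk (q₀ z₀).1) := by rw [hq₀z₀]; exact hx
    exact IsIntegrallyClosed.of_equiv (X₀.stalkIso (q₀ z₀)).symm.commRingCatIsoToRingEquiv
  -- range of `g₁` inside `P`
  have hrange_g₁ : P₀.ι '' Set.range g₁ = γ '' (U.ι ⁻¹' (U₁ : Set X)) := by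
    ext p
    constructor
    · rintro ⟨_, ⟨a, rfl⟩, rfl⟩
      refine ⟨X.homOfLE hU₁U a, ?_, ?_⟩
      · change U.ι (X.homOfLE hU₁U a) ∈ U₁
        rw [← Scheme.Hom.comp_apply, X.homOfLE_ι]
        exact a.2
      · rw [← Scheme.Hom.comp_apply, ← Scheme.Hom.comp_apply, hg₁]
    · rintro ⟨a, ha, rfl⟩
      refine ⟨g₁ ⟨a.1, ha⟩, ⟨_, rfl⟩, ?_⟩
      rw [← Scheme.Hom.comp_apply, hg₁, Scheme.Hom.comp_apply]
      congr 1
      exact Subtype.ext (X.homOfLE_apply hU₁U _)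
  -- `z₀` lies in the closure of the range of `g₁`
  have hz₀cl : z₀ ∈ closure (Set.range g₁) := by
    rw [P₀.ι.isOpenEmbedding.isEmbedding.closure_eq_preimage_closure_image, Set.mem_preimage,
      hrange_g₁, mem_closure_iff]
    intro N hN hzN
    -- `N ∩ P₀` is an open neighbourhood of `z`, so it meets the graph
    obtain ⟨_, ⟨hpN, hpP₀⟩, ⟨a, rfl⟩⟩ :=
      mem_closure_iff.mp hzΓ (N ∩ (SetLike.coe P₀)) (hN.inter P₀.isOpen)
        ⟨hzN, hzP₀⟩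
    -- the set of points of `U` whose graph point lies in `N ∩ P₀` is open, nonempty and inside `X₀`
    let O : Set X := U.ι '' (γ ⁻¹' (N ∩ (SetLike.coe P₀)))
    have hOopen : IsOpen O :=
      U.ι.isOpenEmbedding.isOpenMap _ ((hN.inter P₀.isOpen).preimage γ.continuous)
    have hOX₀ : O ⊆ X₀ := by
      rintro _ ⟨b, ⟨-, hb⟩, rfl⟩
      have : q (γ b) ∈ X₀ := hb
      rwa [← Scheme.Hom.comp_apply, hγq] at this
    have hOne : O.Nonempty := ⟨_, a, ⟨hpN, hpP₀⟩, rfl⟩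
    -- irreducibility of `X₀`
    have hirr : IsPreirreducible (X₀ : Set X) := by
      have := (IrreducibleSpace.isIrreducible_univ (X₀ : Scheme.{u})).image X₀.ι
        X₀.ι.continuous.continuousOn
      rw [Set.image_univ, Scheme.Opens.range_ι] at this
      exact this.isPreirreducible
    obtain ⟨c, hcX₀, hcO, hcU₁⟩ := hirr O U₁ hOopen U₁.isOpen
      (by obtain ⟨o, ho⟩ := hOne; exact ⟨o, hOX₀ ho, ho⟩) ⟨u₀, hU₁X₀ hu₀U₁, hu₀U₁⟩
    obtain ⟨b, ⟨hbN, -⟩, rfl⟩ := hcO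
    exact ⟨γ b, hbN, b, hcU₁, rfl⟩
  -- isolatedness
  have hW₀ : ((P₀.ι ⁻¹ᵁ W : (P₀ : Scheme.{u}).Opens) : Set (P₀ : Scheme.{u})) ∩
      closure (Set.range g₁) ∩ q₀ ⁻¹' {q₀ z₀} = {z₀} := by
    apply Set.Subset.antisymm
    · rintro w ⟨⟨hwW, hwcl⟩, hwq⟩
      have h1 : P₀.ι w ∈ ({z} : Set ↥(pullback pX pY)) := by
        rw [← hW]
        refine ⟨⟨hwW, ?_⟩, ?_⟩
        · have h2 : P₀.ι w ∈ closure (P₀.ι '' Set.range g₁) :=
            image_closure_subset_closure_image P₀.ι.continuous ⟨w, hwcl, rfl⟩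
          rw [hrange_g₁] at h2
          exact closure_mono (Set.image_subset_range _ _) h2
        · change q (P₀.ι w) = x
          rw [← Scheme.Hom.comp_apply, ← hq₀, Scheme.Hom.comp_apply]
          have : q₀ w = q₀ z₀ := hwq
          rw [this]
          exact hq₀z₀
      exact Subtype.ext h1
    · rintro _ rfl
      refine ⟨⟨?_, hz₀cl⟩, rfl⟩
      have : z ∈ (SetLike.coe W) ∩ closure (Set.range γ) ∩ q ⁻¹' {x} := by
        rw [hW]; rfl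
      exact this.1.1
  obtain ⟨V₀, s, hxV₀, hsq, hsg⟩ := Groth.Agent.Lib.Helper41.exists_section_of_isolated q₀ j₁ g₁ hg
    z₀ hx₀ hz₀cl (P₀.ι ⁻¹ᵁ W) hW₀
  -- the neighbourhood and the extension
  let V : X.Opens := X₀.ι ''ᵁ V₀
  let eV : (V₀ : Scheme.{u}) ≅ (V : Scheme.{u}) := X₀.ι.isoImage V₀
  have heV : eV.inv ≫ V₀.ι ≫ X₀.ι = V.ι := X₀.ι.isoImage_inv_ι V₀
  let v : (V : Scheme.{u}) ⟶ Y := eV.inv ≫ s ≫ P₀.ι ≫ pullback.snd pX pY
  have hxV : x ∈ V := ⟨q₀ z₀, hxV₀, hq₀z₀⟩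
  have hv : v ≫ pY = V.ι ≫ pX := by
    simp only [v, Category.assoc]
    rw [← pullback.condition, ← hq, ← Category.assoc P₀.ι, ← hq₀, Category.assoc,
      ← Category.assoc s, hsq, ← heV]
    simp only [Category.assoc]
  refine ⟨V, v, hxV, hv, ?_⟩
  -- agreement on `U ⊓ V`: first on the dense open `j₁⁻¹ V₀`, then everywhere by separatedness
  have hVX₀ : V ≤ X₀ := X₀.ι_image_le V₀
  have hTX₀ : U ⊓ V ≤ X₀ := inf_le_right.trans hVX₀
  let W' : (U₁ : Scheme.{u}).Opens := j₁ ⁻¹ᵁ V₀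
  have hrangeδ : Set.range (W'.ι ≫ U₁.ι) ⊆ Set.range (U ⊓ V).ι := by
    rintro _ ⟨a, rfl⟩
    rw [Scheme.Opens.range_ι]
    refine ⟨hU₁U (W'.ι a).2, j₁ (W'.ι a), a.2, ?_⟩
    exact congr($hj₁ (W'.ι a))
  let δ : (W' : Scheme.{u}) ⟶ ((U ⊓ V : X.Opens) : Scheme.{u}) :=
    IsOpenImmersion.lift (U ⊓ V).ι (W'.ι ≫ U₁.ι) hrangeδ
  have hδ : δ ≫ (U ⊓ V).ι = W'.ι ≫ U₁.ι := IsOpenImmersion.lift_fac _ _ _
  haveI : IsOpenImmersion δ := by
    haveI : IsOpenImmersion (δ ≫ (U ⊓ V).ι) := by rw [hδ]; infer_instance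
    exact IsOpenImmersion.of_comp δ (U ⊓ V).ι
  -- nonemptiness
  obtain ⟨w⟩ : Nonempty W' := by
    have hirr := (IrreducibleSpace.isIrreducible_univ (X₀ : Scheme.{u})).isPreirreducible
    obtain ⟨c, -, hcV₀, ⟨b, rfl⟩⟩ := hirr (V₀ : Set (X₀ : Scheme.{u})) (Set.range j₁) V₀.isOpen
      j₁.isOpenEmbedding.isOpen_range ⟨q₀ z₀, trivial, hxV₀⟩
      ⟨j₁ ⟨u₀, hu₀U₁⟩, trivial, ⟨_, rfl⟩⟩
    exact ⟨⟨b, hcV₀⟩⟩
  haveI : Nonempty ((U ⊓ V : X.Opens) : Scheme.{u}) := ⟨δ w⟩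
  haveI : IsIntegral ((U ⊓ V : X.Opens) : Scheme.{u}) :=
    isIntegral_of_isOpenImmersion (X.homOfLE hTX₀)
  haveI : IsDominant δ := ⟨δ.isOpenEmbedding.isOpen_range.dense ⟨_, ⟨w, rfl⟩⟩⟩
  have claim1 : δ ≫ X.homOfLE (inf_le_right : U ⊓ V ≤ V) ≫ eV.inv = j₁ ∣_ V₀ := by
    rw [← cancel_mono V₀.ι, ← cancel_mono X₀.ι]
    simp only [Category.assoc]
    rw [heV, X.homOfLE_ι, hδ, morphismRestrict_ι_assoc, hj₁]
  have claim2 : δ ≫ X.homOfLE (inf_le_left : U ⊓ V ≤ U) = W'.ι ≫ X.homOfLE hU₁U := by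
    rw [← cancel_mono U.ι]
    simp only [Category.assoc]
    rw [X.homOfLE_ι, hδ, X.homOfLE_ι]
  apply ext_of_isDominant_of_isSeparated pY _ δ _
  · rw [Category.assoc, hv, Category.assoc, ← hh, X.homOfLE_ι_assoc, X.homOfLE_ι_assoc]
  · calc δ ≫ X.homOfLE (inf_le_right : U ⊓ V ≤ V) ≫ v
        = (δ ≫ X.homOfLE (inf_le_right : U ⊓ V ≤ V) ≫ eV.inv) ≫ s ≫ P₀.ι ≫
            pullback.snd pX pY := by simp only [v, Category.assoc]
      _ = W'.ι ≫ g₁ ≫ P₀.ι ≫ pullback.snd pX pY := by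
          rw [claim1, ← Category.assoc, hsg, Category.assoc]
      _ = W'.ι ≫ X.homOfLE hU₁U ≫ h := by
          rw [← Category.assoc g₁, hg₁, Category.assoc, hγsnd]
      _ = δ ≫ X.homOfLE (inf_le_left : U ⊓ V ≤ U) ≫ h := by
          rw [← Category.assoc, ← claim2, Category.assoc]

end Groth.Agent.S3836
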