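import Groth.Statements.S3837
import Groth.Agent.Lib.Helper41.RatMapDescent
import Groth.Agent.S3836

set_option autoImplicit false
universe u
open CategoryTheory CategoryTheory.Limits AlgebraicGeometry TopologicalSpace
open Rat20

namespace Groth.Agent.S3837

/-- Let X be a normal S-scheme (locally integral with integrally closed local rings), Y an S-scheme
locally of finite type and separated over S, h : U → Y an S-morphism on a dense open subset (a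
rational S-map ω), and f : X' → X a morphism locally of finite type and universally open with X'
reduced, so that f⁻¹(U) is dense and ω ∘ f is defined. Then for x' in X' with image x, ω is defined
at x if and only if ω ∘ f is defined at x': some S-morphism on an open neighbourhood of x agrees
with h on U if and only if some S-morphism on an open neighbourhood of x' agrees with h ∘ f on the
preimage of U. -/
theorem result {X X' Y S : Scheme.{u}} (pX : X ⟶ S) (pY : Y ⟶ S)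
    [LocallyOfFiniteType pY] [IsSeparated pY] (hX : ∀ y : ↥X, ∃ W : X.Opens, y ∈ W ∧ IsIntegral (W : Scheme.{u}))
    (hXn : ∀ y : ↥X, IsIntegrallyClosed (X.presheaf.stalk y))
    (U : X.Opens) (hU : Dense (U : Set ↥X)) (h : (U : Scheme.{u}) ⟶ Y) (hh : h ≫ pY = U.ι ≫ pX)
    (f : X' ⟶ X) [LocallyOfFiniteType f] [UniversallyOpen f] [IsReduced X'] (x' : ↥X') :
    (∃ (V : X.Opens) (v : (V : Scheme.{u}) ⟶ Y), f x' ∈ V ∧ v ≫ pY = V.ι ≫ pX ∧
        X.homOfLE (inf_le_right : U ⊓ V ≤ V) ≫ v = X.homOfLE (inf_le_left : U ⊓ V ≤ U) ≫ h) ↔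
      ∃ (V' : X'.Opens) (v' : (V' : Scheme.{u}) ⟶ Y), x' ∈ V' ∧ v' ≫ pY = V'.ι ≫ f ≫ pX ∧
        X'.homOfLE (inf_le_right : f ⁻¹ᵁ U ⊓ V' ≤ V') ≫ v' =
          X'.homOfLE (inf_le_left : f ⁻¹ᵁ U ⊓ V' ≤ f ⁻¹ᵁ U) ≫ (f ∣_ U) ≫ h := by
  constructor
  · rintro ⟨V, v, hxV, hvS, hv⟩
    refine ⟨f ⁻¹ᵁ V, (f ∣_ V) ≫ v, hxV, ?_, ?_⟩
    · rw [Category.assoc, hvS, ← Category.assoc, morphismRestrict_ι, Category.assoc]
    · have e1 : f ⁻¹ᵁ U ⊓ f ⁻¹ᵁ V ≤ f ⁻¹ᵁ (U ⊓ V) := le_of_eq (by rfl)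
      have h1 : X'.homOfLE (inf_le_right : f ⁻¹ᵁ U ⊓ f ⁻¹ᵁ V ≤ f ⁻¹ᵁ V) ≫ (f ∣_ V) =
          f.resLE (U ⊓ V) (f ⁻¹ᵁ U ⊓ f ⁻¹ᵁ V) e1 ≫ X.homOfLE (inf_le_right : U ⊓ V ≤ V) := by
        rw [← Scheme.Hom.resLE_eq_morphismRestrict, Scheme.Hom.map_resLE, Scheme.Hom.resLE_map]
      have h2 : X'.homOfLE (inf_le_left : f ⁻¹ᵁ U ⊓ f ⁻¹ᵁ V ≤ f ⁻¹ᵁ U) ≫ (f ∣_ U) =
          f.resLE (U ⊓ V) (f ⁻¹ᵁ U ⊓ f ⁻¹ᵁ V) e1 ≫ X.homOfLE (inf_le_left : U ⊓ V ≤ U) := by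
        rw [← Scheme.Hom.resLE_eq_morphismRestrict, Scheme.Hom.map_resLE, Scheme.Hom.resLE_map]
      rw [← Category.assoc, h1, Category.assoc, hv, ← Category.assoc, ← h2, Category.assoc]
  · rintro ⟨V', v', hx', hv'S, hv'⟩
    obtain ⟨z, hz, hzΓ, huniq⟩ :=
      Groth.Agent.Lib.Helper41.exists_unique_point_graph_closure_of_univOpen pX pY U hU h hh.symm
        f x' V' hx' v' hv'S hv'
    obtain ⟨V, v, hxV, hvS, hv⟩ := Groth.Agent.S3836.result pX pY hX U hU h hh.symm (f x')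
      (hXn (f x')) z hz hzΓ ⟨⊤, by
        ext p
        constructor
        · rintro ⟨⟨-, hp⟩, hq⟩
          exact huniq p hp hq
        · rintro rfl
          exact ⟨⟨trivial, hzΓ⟩, hz⟩⟩
    exact ⟨V, v, hxV, hvS, hv⟩

end Groth.Agent.S3837
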