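import Groth.Statements.S3841
import Mathlib
import Groth.Agent.Lib.Helper64.PrimeCyc5

set_option autoImplicit false
universe u
open CategoryTheory CategoryTheory.Limits AlgebraicGeometry TopologicalSpace
open Div21

namespace Groth.Agent.S3841


/-- Let X be a Noetherian (locally Noetherian and quasi-compact) integral scheme; points of codimension
1 are the points of coheight 1 in the specialization order. The following are equivalent. (1) For
every point ζ of codimension 1 there is a global section g of O_X cutting out the closure of ζ with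
its reduced structure: at each specialization x of ζ the ideal of that closure in O_{X,x} (the prime
ideal of O_{X,x} corresponding to ζ, the preimage of the maximal ideal of O_{X,ζ}) is generated by
the germ of g, and g is invertible at the points outside the closure. (2) X is normal and every
prime cycle of codimension 1 is principal: for every point x₀ of codimension 1 there is a nonzero
rational function with order of vanishing 1 at x₀ and 0 at every other point of codimension 1. (3)
Every local ring of X is a unique factorisation domain and every invertible O_X-module is trivial.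
(4) X is normal and for every open subset U of X every invertible O_U-module is trivial. (The
published statement assumes X only locally Noetherian; quasi-compactness, which its published proof
uses, is added here.) -/
theorem result (X : Scheme.{u}) [IsIntegral X]
    [IsLocallyNoetherian X] [CompactSpace X] :
    List.TFAE [
      ∀ ζ : ↥X, Order.coheight ζ = 1 → ∃ g : Γ(X, ⊤),
        (∀ (x : ↥X) (h : ζ ⤳ x),
          (IsLocalRing.maximalIdeal ↑(X.presheaf.stalk ζ)).comap (X.presheaf.stalkSpecializes h).hom =
            Ideal.span {X.presheaf.germ ⊤ x trivial g}) ∧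
        ∀ x : ↥X, ¬ ζ ⤳ x → IsUnit (X.presheaf.germ ⊤ x trivial g),
      Pi1.IsNormalScheme X ∧ ∀ x₀ : ↥X, Order.coheight x₀ = 1 → ∃ f : ↑X.functionField, f ≠ 0 ∧
        Scheme.ord f x₀ = 1 ∧ ∀ x : ↥X, x ≠ x₀ → Order.coheight x = 1 → Scheme.ord f x = 0,
      (∀ x : ↥X, UniqueFactorizationMonoid ↑(X.presheaf.stalk x)) ∧
        ∀ L : X.Modules, PicF.IsInvertible L → Nonempty (L ≅ Coh.structureModule X),
      Pi1.IsNormalScheme X ∧ ∀ (U : X.Opens) (L : (U : Scheme.{u}).Modules),
        PicF.IsInvertible L → Nonempty (L ≅ Coh.structureModule (U : Scheme.{u}))] := by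
    have h12 : (∀ ζ : ↥X, Order.coheight ζ = 1 → ∃ g : Γ(X, ⊤),
          (∀ (x : ↥X) (h : ζ ⤳ x),
            (IsLocalRing.maximalIdeal ↑(X.presheaf.stalk ζ)).comap (X.presheaf.stalkSpecializes h).hom =
              Ideal.span {X.presheaf.germ ⊤ x trivial g}) ∧
          ∀ x : ↥X, ¬ ζ ⤳ x → IsUnit (X.presheaf.germ ⊤ x trivial g)) →
        (Pi1.IsNormalScheme X ∧ ∀ x₀ : ↥X, Order.coheight x₀ = 1 → ∃ f : ↑X.functionField, f ≠ 0 ∧
          Scheme.ord f x₀ = 1 ∧ ∀ x : ↥X, x ≠ x₀ → Order.coheight x = 1 → Scheme.ord f x = 0) := by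
      intro H
      exact ⟨Groth.Agent.Lib.Helper64.PrimeCyc.isNormalScheme_of_ufd
        (Groth.Agent.Lib.Helper64.PrimeCyc.ufd_of_cutsOut H),
        Groth.Agent.Lib.Helper64.PrimeCyc.primePrincipal_of_cutsOut H⟩
    tfae_have 1 → 2 := h12
    tfae_have 2 → 1 := by
      rintro ⟨hX, H⟩ ζ hζ
      exact Groth.Agent.Lib.Helper64.PrimeCyc.exists_cutsOut_of_primePrincipal hX H ζ hζ
    tfae_have 2 → 3 := by
      rintro ⟨hX, H⟩
      exact ⟨Groth.Agent.Lib.Helper64.PrimeCyc.ufd_of_primePrincipal hX H,
        Groth.Agent.Lib.Helper64.PrimeCyc.picTrivial_of_primePrincipal hX H⟩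
    tfae_have 3 → 2 := by
      rintro ⟨hufd, hpic⟩
      exact ⟨Groth.Agent.Lib.Helper64.PrimeCyc.isNormalScheme_of_ufd hufd,
        Groth.Agent.Lib.Helper64.PrimeCyc.primePrincipal_of_ufd_of_picTrivial hufd hpic⟩
    tfae_have 2 → 4 := by
      rintro ⟨hX, H⟩
      exact ⟨hX, Groth.Agent.Lib.Helper64.PrimeCyc.picTrivial_opens_of_primePrincipal hX H⟩
    tfae_have 4 → 2 := by
      rintro ⟨hX, hpic⟩
      exact ⟨hX, Groth.Agent.Lib.Helper64.PrimeCyc.primePrincipal_of_picTrivial_opens hX hpic⟩
    tfae_finish

end Groth.Agent.S3841
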