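import Groth.Statements.S3842
import Mathlib.AlgebraicGeometry.Properties
import Mathlib.Topology.Sober

set_option autoImplicit false
universe u
open CategoryTheory CategoryTheory.Limits AlgebraicGeometry TopologicalSpace
open Rat20

namespace Groth.Agent.S3842


/-- Topological lemma: if the irreducible components are locally finite around a point `z` of an
irreducible component `Z`, then every dense open meets `Z`. -/
theorem inter_nonempty_of_dense {T : Type*} [TopologicalSpace T] (Z : Set T)
    (hZ : Z ∈ irreducibleComponents T) (z : T) (hz : z ∈ Z) (W : Set T) (hW : IsOpen W)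
    (hzW : z ∈ W)
    (hfin : {Z' ∈ irreducibleComponents T | (Z' ∩ W).Nonempty}.Finite)
    (V : Set T) (hV : Dense V) : (Z ∩ V).Nonempty := by
  classical
  set S : Set (Set T) := {Z' ∈ irreducibleComponents T | (Z' ∩ W).Nonempty} with hS
  set S' : Set (Set T) := S \ {Z} with hS'
  have hS'fin : S'.Finite := hfin.subset Set.sdiff_subset
  -- the open set O = W minus the other components
  set C : Set T := ⋃₀ S' with hC
  have hCclosed : IsClosed C := by
    rw [hC, Set.sUnion_eq_biUnion]
    apply Set.Finite.isClosed_biUnion hS'fin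
    intro Z' hZ'
    exact isClosed_of_mem_irreducibleComponents _ hZ'.1.1
  have hO : IsOpen (W \ C) := hW.sdiff hCclosed
  -- Z meets O
  have hZO : (Z ∩ (W \ C)).Nonempty := by
    by_contra hne
    rw [Set.not_nonempty_iff_eq_empty] at hne
    have hsub : Z ⊆ ⋃₀ ((insert Wᶜ hS'fin.toFinset : Finset (Set T)) : Set (Set T)) := by
      intro y hy
      by_cases hyW : y ∈ W
      · by_cases hyC : y ∈ C
        · obtain ⟨Z', hZ', hyZ'⟩ := hyC
          refine ⟨Z', ?_, hyZ'⟩
          simp only [Finset.coe_insert, Set.Finite.coe_toFinset]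
          exact Or.inr hZ'
        · exfalso
          have : y ∈ Z ∩ (W \ C) := ⟨hy, hyW, hyC⟩
          rw [hne] at this
          exact this
      · refine ⟨Wᶜ, ?_, hyW⟩
        simp
    obtain ⟨Z', hZ'mem, hZZ'⟩ := (isIrreducible_iff_sUnion_isClosed.1 hZ.1) _ (by
      intro Z' hZ'
      simp only [Finset.mem_insert, Set.Finite.mem_toFinset] at hZ'
      rcases hZ' with rfl | hZ'
      · exact hW.isClosed_compl
      · exact isClosed_of_mem_irreducibleComponents _ hZ'.1.1) hsub
    simp only [Finset.mem_insert, Set.Finite.mem_toFinset] at hZ'mem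
    rcases hZ'mem with rfl | hZ'mem
    · exact hZZ' hz hzW
    · have : Z' ≤ Z := hZ.2 hZ'mem.1.1.1 hZZ'
      exact hZ'mem.2 (le_antisymm this hZZ')
  obtain ⟨y, hyO, hyV⟩ := hV.inter_open_nonempty _ hO (hZO.mono Set.inter_subset_right)
  refine ⟨y, ?_, hyV⟩
  have hy1 : irreducibleComponent y ∈ S :=
    ⟨irreducibleComponent_mem_irreducibleComponents y, y, mem_irreducibleComponent, hyO.1⟩
  by_contra hyZ
  apply hyO.2
  refine ⟨irreducibleComponent y, ⟨hy1, ?_⟩, mem_irreducibleComponent⟩
  intro h
  rw [Set.mem_singleton_iff] at h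
  exact hyZ (h ▸ mem_irreducibleComponent)

theorem dense_of_isSchematicallyDense {X : Scheme.{u}} (V : X.Opens)
    (hV : CInt.IsSchematicallyDense V) : Dense (V : Set X) := by
  rw [dense_iff_inter_open]
  intro U hU hne
  by_contra h
  rw [Set.not_nonempty_iff_eq_empty] at h
  let W : X.Opens := ⟨U, hU⟩
  have hWV : W ⊓ V = ⊥ := by
    ext x
    simp only [Opens.coe_inf, Opens.coe_bot]
    rw [show ((W : Set X) ∩ V) = U ∩ V from rfl, h]
  have hinj := hV W
  have hsub : Subsingleton Γ(X, W ⊓ V) := by
    rw [hWV]
    infer_instance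
  have hsub' : Subsingleton Γ(X, W) := hinj.subsingleton
  have h1 : X.basicOpen (1 : Γ(X, W)) = W := Scheme.basicOpen_of_isUnit _ isUnit_one
  have h0 : X.basicOpen (0 : Γ(X, W)) = ⊥ := Scheme.basicOpen_zero _ _
  have : W = ⊥ := by
    rw [← h1, Subsingleton.elim (1 : Γ(X, W)) 0, h0]
  obtain ⟨x, hx⟩ := hne
  have : x ∈ (⊥ : X.Opens) := this ▸ (show x ∈ W from hx)
  exact this

theorem isSchematicallyDense_of_dense {X : Scheme.{u}} [IsReduced X] (V : X.Opens)
    (hV : Dense (V : Set X)) : CInt.IsSchematicallyDense V := by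
  intro W
  rw [injective_iff_map_eq_zero]
  intro s hs
  have h1 := Scheme.basicOpen_res X s (homOfLE (inf_le_left : W ⊓ V ≤ W)).op
  rw [hs, Scheme.basicOpen_zero] at h1
  have h2 : X.basicOpen s ⊓ V = ⊥ := by
    have hle : X.basicOpen s ≤ W := X.basicOpen_le s
    rw [eq_bot_iff]
    calc X.basicOpen s ⊓ V ≤ (W ⊓ V) ⊓ X.basicOpen s :=
          le_inf (le_inf (inf_le_left.trans hle) inf_le_right) inf_le_left
      _ = ⊥ := h1.symm
  have h3 : X.basicOpen s = ⊥ := by
    by_contra hne
    have hne' : (X.basicOpen s : Set X).Nonempty := by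
      rw [Set.nonempty_iff_ne_empty]
      intro h
      apply hne
      ext x
      simp [h]
    obtain ⟨x, hx1, hx2⟩ := hV.inter_open_nonempty _ (X.basicOpen s).isOpen hne'
    have : x ∈ X.basicOpen s ⊓ V := ⟨hx1, hx2⟩
    rw [h2] at this
    exact this
  exact (AlgebraicGeometry.basicOpen_eq_bot_iff s).1 h3

/-- For the open subset U = X; the general case is the same statement over the open subscheme U: let f :
X' → X be a morphism of schemes with X' reduced, suppose the irreducible components of X form a
locally finite family and that every irreducible component of X' dominates an irreducible component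
of X (the closure of its image is an irreducible component of X). Then for every schematically dense
open subset V of X, the preimage f⁻¹(V) is schematically dense in X'. -/
theorem result {X X' : Scheme.{u}} (f : X' ⟶ X) [IsReduced X']
    (hfin : ∀ x : ↥X, ∃ W : X.Opens, x ∈ W ∧ {Z ∈ irreducibleComponents ↥X | (Z ∩ (W : Set ↥X)).Nonempty}.Finite)
    (hdom : ∀ Z' ∈ irreducibleComponents ↥X', closure (f '' Z') ∈ irreducibleComponents ↥X)
    (V : X.Opens) (hV : CInt.IsSchematicallyDense V) : CInt.IsSchematicallyDense (f ⁻¹ᵁ V) := by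
  apply isSchematicallyDense_of_dense
  have hVd := dense_of_isSchematicallyDense V hV
  rw [dense_iff_inter_open]
  intro U' hU' hne
  obtain ⟨x', hx'⟩ := hne
  have hZ'mem := irreducibleComponent_mem_irreducibleComponents x'
  obtain ⟨η', hη'⟩ := QuasiSober.sober (isIrreducible_irreducibleComponent (x := x'))
    (isClosed_irreducibleComponent (x := x'))
  have hη'U : η' ∈ U' := (hη'.specializes mem_irreducibleComponent).mem_open hU' hx'
  have hgen := hη'.image f.continuous
  have hZ := hdom _ hZ'mem
  obtain ⟨W, hzW, hWfin⟩ := hfin (f η')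
  obtain ⟨y, hyZ, hyV⟩ := inter_nonempty_of_dense _ hZ (f η') hgen.mem W W.isOpen hzW hWfin V hVd
  have : f η' ∈ V := (hgen.specializes hyZ).mem_open V.isOpen hyV
  exact ⟨η', hη'U, this⟩

end Groth.Agent.S3842
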