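import Groth.Statements.S3845
import Mathlib
-- import your own Groth.Agent.* helpers here

set_option autoImplicit false
universe u
open CategoryTheory CategoryTheory.Limits AlgebraicGeometry TopologicalSpace
open Unram17

namespace Groth.Agent.S3845

lemma diag_comm {X Y : Scheme.{u}} (f : X ⟶ Y) (U : X.Opens) :
    U.ι ≫ pullback.diagonal f = pullback.diagonal (U.ι ≫ f) ≫
      pullback.map (U.ι ≫ f) (U.ι ≫ f) f f U.ι U.ι (𝟙 Y) ((Category.comp_id _).trans rfl)
        ((Category.comp_id _).trans rfl) := by
  apply pullback.hom_ext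
  · simp only [Category.assoc]
    rw [pullback.diagonal_fst, pullback.lift_fst, ← Category.assoc, pullback.diagonal_fst,
      Category.id_comp, Category.comp_id]
  · simp only [Category.assoc]
    rw [pullback.diagonal_snd, pullback.lift_snd, ← Category.assoc, pullback.diagonal_snd,
      Category.id_comp, Category.comp_id]

lemma map_isOpenImmersion {X Y : Scheme.{u}} (f : X ⟶ Y) (U : X.Opens) :
    IsOpenImmersion (pullback.map (U.ι ≫ f) (U.ι ≫ f) f f U.ι U.ι (𝟙 Y)
      ((Category.comp_id _).trans rfl) ((Category.comp_id _).trans rfl)) :=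
  MorphismProperty.pullbackMap (P := @IsOpenImmersion) (f := U.ι ≫ f) (g := U.ι ≫ f)
    (f' := f) (g' := f) (i₁ := U.ι) (i₂ := U.ι) inferInstance inferInstance rfl rfl

lemma main {X Y : Scheme.{u}} (f : X ⟶ Y) [LocallyOfFinitePresentation f] (U : X.Opens) :
    FormallyUnramified (U.ι ≫ f) ↔ IsOpenImmersion (U.ι ≫ pullback.diagonal f) := by
  haveI := map_isOpenImmersion f U
  constructor
  · intro h
    haveI : LocallyOfFiniteType (U.ι ≫ f) := inferInstance
    rw [diag_comm]
    infer_instance
  · intro h
    rw [diag_comm] at h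
    haveI : IsOpenImmersion (pullback.diagonal (U.ι ≫ f)) := IsOpenImmersion.of_comp _
      (pullback.map (U.ι ≫ f) (U.ι ≫ f) f f U.ι U.ι (𝟙 Y) ((Category.comp_id _).trans rfl)
        ((Category.comp_id _).trans rfl))
    infer_instance

/-- a) iff b): let f : X → Y be locally of finite presentation and x a point of X. Then f is unramified
on some open neighbourhood of x if and only if the diagonal X → X ×_Y X is a local isomorphism at x
(its restriction to some open neighbourhood of x is an open immersion). -/
theorem result {X Y : Scheme.{u}} (f : X ⟶ Y)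
    [LocallyOfFinitePresentation f] (x : ↥X) :
    (∃ U : X.Opens, x ∈ U ∧ FormallyUnramified (U.ι ≫ f)) ↔
      SchLoc.IsLocalIsoAt (pullback.diagonal f) x := by
  constructor
  · rintro ⟨U, hxU, hU⟩
    exact ⟨U, hxU, (main f U).1 hU⟩
  · rintro ⟨U, hxU, hU⟩
    exact ⟨U, hxU, (main f U).2 hU⟩

end Groth.Agent.S3845
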