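import Groth.Statements.S3846
import Mathlib
import Groth.Agent.S3845
-- import your own Groth.Agent.* helpers here

set_option autoImplicit false
universe u
open CategoryTheory CategoryTheory.Limits AlgebraicGeometry TopologicalSpace
open Unram17

namespace Groth.Agent.S3846

/-- a) iff b''): let f : X → Y be locally of finite presentation and x a point of X. Then f is
unramified on some open neighbourhood of x if and only if, for every base change g : Y' → Y and
every section s' of X ×_Y Y' → Y', s' is a local isomorphism at every point y' of Y' such that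
s'(y') lies over x. -/
theorem result {X Y : Scheme.{u}} (f : X ⟶ Y) [LocallyOfFinitePresentation f]
    (x : ↥X) :
    (∃ U : X.Opens, x ∈ U ∧ FormallyUnramified (U.ι ≫ f)) ↔
      ∀ (Y' : Scheme.{u}) (g : Y' ⟶ Y) (s' : Y' ⟶ pullback f g), s' ≫ pullback.snd f g = 𝟙 Y' →
        ∀ y' : ↥Y', pullback.fst f g (s' y') = x → SchLoc.IsLocalIsoAt s' y' := by
  constructor
  · rintro ⟨U, hxU, hU⟩ Y' g s' hs' y' hy'
    let ι' : pullback (U.ι ≫ f) g ⟶ pullback f g :=
      pullback.map (U.ι ≫ f) g f g U.ι (𝟙 Y') (𝟙 Y) ((Category.comp_id _).trans rfl)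
        ((Category.comp_id _).trans (Category.id_comp g).symm)
    haveI hι' : IsOpenImmersion ι' :=
      MorphismProperty.pullbackMap (P := @IsOpenImmersion) (f := U.ι ≫ f) (g := g)
        (f' := f) (g' := g) (i₁ := U.ι) (i₂ := 𝟙 Y') inferInstance inferInstance rfl
        (Category.id_comp g).symm
    have hrange : Set.range ι' = pullback.fst f g ⁻¹' (U : Set X) := by
      rw [Scheme.Pullback.range_map]
      simp [Scheme.Opens.range_ι]
    let V : Y'.Opens := s' ⁻¹ᵁ ι'.opensRange
    have hy'V : y' ∈ V := by
      change s' y' ∈ Set.range ι'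
      rw [hrange]
      change pullback.fst f g (s' y') ∈ U
      rw [hy']
      exact hxU
    refine ⟨V, hy'V, ?_⟩
    let t : (V : Scheme) ⟶ pullback (U.ι ≫ f) g := IsOpenImmersion.lift ι' (V.ι ≫ s') (by
      rintro _ ⟨v, rfl⟩
      have : (V.ι ≫ s') v = s' (V.ι v) := Scheme.Hom.comp_apply _ _ _
      rw [this]
      exact v.2)
    have ht : t ≫ ι' = V.ι ≫ s' := IsOpenImmersion.lift_fac _ _ _
    have hι'snd : ι' ≫ pullback.snd f g = pullback.snd (U.ι ≫ f) g := by
      simp only [ι']
      rw [pullback.lift_snd, Category.comp_id]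
    have ht2 : t ≫ pullback.snd (U.ι ≫ f) g = V.ι := by
      rw [← hι'snd, ← Category.assoc, ht, Category.assoc, hs', Category.comp_id]
    haveI : LocallyOfFiniteType (U.ι ≫ f) := inferInstance
    haveI := hU
    have hdiag : (MorphismProperty.diagonal @IsOpenImmersion) (pullback.snd (U.ι ≫ f) g) :=
      MorphismProperty.pullback_snd (P := .diagonal @IsOpenImmersion) _ _
        (inferInstance : IsOpenImmersion (pullback.diagonal (U.ι ≫ f)))
    haveI : (@IsOpenImmersion).HasOfPostcompProperty (MorphismProperty.diagonal @IsOpenImmersion) :=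
      (MorphismProperty.hasOfPostcompProperty_iff_le_diagonal).2 le_rfl
    have htopen : IsOpenImmersion t :=
      MorphismProperty.of_postcomp (W := @IsOpenImmersion) (W' := .diagonal @IsOpenImmersion) t
        (pullback.snd _ _) hdiag (by rw [ht2]; infer_instance)
    rw [← ht]
    infer_instance
  · intro h
    have := h X f (pullback.diagonal f) (pullback.diagonal_snd f) x (by
      rw [← Scheme.Hom.comp_apply, pullback.diagonal_fst]
      rfl)
    exact (Groth.Agent.S3845.result f x).2 this

end Groth.Agent.S3846
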