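import Groth.Statements.S3847
import Groth.Agent.Lib.Helper52.CompDiffDim

set_option autoImplicit false
universe u
open EGA418

namespace Groth.Agent.S3847

/-- Let k be a field, A a complete Noetherian local k-algebra whose residue field is a finite extension
of k, p a prime ideal of A and q a minimal prime ideal of A contained in p. Let Ω̂ be the completion
of the module of differentials of A over k for the topology of the maximal ideal. Then the minimal
number of generators of the A_p-module Ω̂_p (the rank of its fibre at p) is at least dim(A/q). -/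
theorem result (k A : Type u) [Field k] [CommRing A]
    [IsLocalRing A] [IsNoetherianRing A] [Algebra k A]
    [IsAdicComplete (IsLocalRing.maximalIdeal A) A]
    [Module.Finite k (IsLocalRing.ResidueField A)]
    (p q : Ideal A) [p.IsPrime] (hq : q ∈ minimalPrimes A) (hqp : q ≤ p) :
    ringKrullDim (A ⧸ q) ≤
      (Cardinal.toENat (Module.rank p.ResidueField
        (TensorProduct A p.ResidueField
          (AdicCompletion (IsLocalRing.maximalIdeal A) (KaehlerDifferential k A)))) : WithBot ℕ∞) := by
  classical
  have hqprime : q.IsPrime := hq.1.1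
  have hfinΩ : Module.Finite A (AdicCompletion (IsLocalRing.maximalIdeal A)
      (KaehlerDifferential k A)) := Groth.Agent.Lib.Helper52.CompDiff.main
  have hloc : IsLocalRing (A ⧸ q) :=
    IsLocalRing.of_surjective' (Ideal.Quotient.mk q) Ideal.Quotient.mk_surjective
  obtain ⟨n, hn⟩ : ∃ n : ℕ, ringKrullDim (A ⧸ q) = n := by
    have hbot := ringKrullDim_ne_bot (R := A ⧸ q)
    have htop := ringKrullDim_ne_top (R := A ⧸ q)
    obtain ⟨a, ha⟩ := WithBot.ne_bot_iff_exists.mp hbot
    rw [← ha] at htop
    have : a ≠ ⊤ := fun h => htop (by rw [h]; rfl)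
    obtain ⟨d, hd⟩ := ENat.ne_top_iff_exists.mp this
    exact ⟨d, by rw [← ha, ← hd]; rfl⟩
  rw [hn, ← Module.finrank_eq_rank, Cardinal.toENat_nat]
  have key : n ≤ Module.finrank p.ResidueField (TensorProduct A p.ResidueField
      (AdicCompletion (IsLocalRing.maximalIdeal A) (KaehlerDifferential k A))) := by
    obtain ⟨v, hv⟩ := Groth.Agent.Lib.Helper52.CompDiffLocal.exists_fibre_family
      (N := AdicCompletion (IsLocalRing.maximalIdeal A) (KaehlerDifferential k A)) p
    have hfull := Groth.Agent.Lib.Helper52.CompDiffLocal.full_of_fibre p v hv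
    by_cases hp : p = IsLocalRing.maximalIdeal A
    · by_cases hn0 : n = 0
      · rw [hn0]; exact Nat.zero_le _
      · have hqm : q ≠ IsLocalRing.maximalIdeal A := by
          intro h
          apply hn0
          have hmax : q.IsMaximal := h ▸ IsLocalRing.maximalIdeal.isMaximal A
          have hfield : IsField (A ⧸ q) := (Ideal.Quotient.maximal_ideal_iff_isField_quotient q).mp hmax
          have h0 : ringKrullDim (A ⧸ q) = 0 := ringKrullDim_eq_zero_of_isField hfield
          rw [hn] at h0
          exact_mod_cast h0
        exact Groth.Agent.Lib.Helper52.CompDiffDim.le_of_full k A q q le_rfl hqm n _ hn v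
          (hfull.mono_prime hqp)
    · exact Groth.Agent.Lib.Helper52.CompDiffDim.le_of_full k A p q hqp hp n _ hn v hfull
  exact_mod_cast key

end Groth.Agent.S3847
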