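import Groth.Statements.S3848
import Groth.Agent.Lib.Helper41.DvrPoint
import Groth.Agent.Lib.Helper41.IntegralNhd
import Groth.Agent.Lib.Helper41.GlueSup

set_option autoImplicit false
universe u
open CategoryTheory CategoryTheory.Limits AlgebraicGeometry TopologicalSpace
open Rat20

namespace Groth.Agent.S3848

open Groth.Agent.Lib.Helper41 IsLocalRing

/-- The valuative hypothesis of the statement. -/
def ValHyp {X Y : Scheme.{u}} (q : Y ⟶ X) (U : X.Opens) (h : (U : Scheme.{u}) ⟶ Y) (x : X)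
    (y₀ : Y) : Prop :=
  ∀ (R : Type u) [CommRing R] [IsDomain R] [IsDiscreteValuationRing R]
    (u : Spec (CommRingCat.of R) ⟶ X), u (IsLocalRing.closedPoint R) = x →
    ∀ ub : Spec (CommRingCat.of (FractionRing R)) ⟶ (U : Scheme.{u}),
      ub ≫ U.ι = Spec.map (CommRingCat.ofHom (algebraMap R (FractionRing R))) ≫ u →
      ∃ h₁ : Spec (CommRingCat.of R) ⟶ Y, h₁ ≫ q = u ∧ h₁ (IsLocalRing.closedPoint R) = y₀ ∧
        Spec.map (CommRingCat.ofHom (algebraMap R (FractionRing R))) ≫ h₁ = ub ≫ h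

theorem exists_local_hom_of_dvr {X Y : Scheme.{u}} (q : Y ⟶ X) (U : X.Opens)
    (h : (U : Scheme.{u}) ⟶ Y) (x : X) [IsDomain ↑(X.presheaf.stalk x)] (y₀ : Y)
    (H : ValHyp q U h x y₀)
    (cK : Spec (CommRingCat.of (FractionRing ↑(X.presheaf.stalk x))) ⟶ (U : Scheme.{u}))
    (hcK : cK ≫ U.ι = Spec.map (CommRingCat.ofHom (algebraMap ↑(X.presheaf.stalk x)
      (FractionRing ↑(X.presheaf.stalk x)))) ≫ X.fromSpecStalk x)
    (O : ValuationSubring (FractionRing ↑(X.presheaf.stalk x))) (hO : IsDiscreteValuationRing O)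
    (hmem : ∀ a : ↑(X.presheaf.stalk x),
      algebraMap ↑(X.presheaf.stalk x) (FractionRing ↑(X.presheaf.stalk x)) a ∈ O)
    (hlt : ∀ a ∈ maximalIdeal ↑(X.presheaf.stalk x),
      O.valuation (algebraMap ↑(X.presheaf.stalk x) (FractionRing ↑(X.presheaf.stalk x)) a) < 1) :
    ∃ θ : Y.presheaf.stalk y₀ ⟶ CommRingCat.of O, IsLocalHom θ.hom ∧
      Spec.map (CommRingCat.ofHom O.subtype) ≫ Spec.map θ ≫ Y.fromSpecStalk y₀ = cK ≫ h := by
  let A : Type u := ↑(X.presheaf.stalk x)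
  let K : Type u := FractionRing A
  let φ : A →+* O := (algebraMap A K).codRestrict O hmem
  have hloc : IsLocalHom φ := ⟨fun a ha => by
    by_contra hna
    have hv := hlt a hna
    have h1 : O.valuation ((φ a : O) : K) = 1 := (O.valuation_eq_one_iff (φ a)).1 ha
    exact (ne_of_lt hv) h1⟩
  let φc : X.presheaf.stalk x ⟶ CommRingCat.of O := CommRingCat.ofHom φ
  let u : Spec (CommRingCat.of O) ⟶ X := Spec.map φc ≫ X.fromSpecStalk x
  have hux : u (closedPoint O) = x := by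
    change (Spec.map φc ≫ X.fromSpecStalk x) (closedPoint O) = x
    rw [Scheme.Hom.comp_apply]
    have h1 : Spec.map φc (closedPoint O) = closedPoint A := IsLocalRing.comap_closedPoint φ
    rw [h1]
    exact Scheme.fromSpecStalk_closedPoint
  let ε : FractionRing O ≃ₐ[O] K := FractionRing.algEquiv O K
  let εs : K →+* FractionRing O := (ε.symm : K ≃ₐ[O] FractionRing O).toRingEquiv.toRingHom
  let ub : Spec (CommRingCat.of (FractionRing O)) ⟶ (U : Scheme.{u}) :=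
    Spec.map (CommRingCat.ofHom εs) ≫ cK
  have hring : εs.comp (algebraMap A K) = (algebraMap O (FractionRing O)).comp φ := by
    ext a
    change ε.symm (algebraMap A K a) = algebraMap O (FractionRing O) (φ a)
    have : algebraMap A K a = algebraMap O K (φ a) := rfl
    rw [this, AlgEquiv.commutes]
  have hub : ub ≫ U.ι = Spec.map (CommRingCat.ofHom (algebraMap O (FractionRing O))) ≫ u := by
    change (Spec.map (CommRingCat.ofHom εs) ≫ cK) ≫ U.ι = _ ≫ Spec.map φc ≫ X.fromSpecStalk x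
    rw [Category.assoc, hcK, ← Category.assoc, ← Category.assoc, ← Spec.map_comp,
      ← Spec.map_comp]
    congr 2
    exact congrArg CommRingCat.ofHom hring
  obtain ⟨h₁, -, hcl, hgen⟩ := H O u hux ub hub
  subst hcl
  refine ⟨Scheme.stalkClosedPointTo h₁, inferInstance, ?_⟩
  rw [Scheme.Spec_stalkClosedPointTo_fromSpecStalk]
  let ε' : FractionRing O →+* K := ε.toRingEquiv.toRingHom
  have h1 : ε'.comp (algebraMap O (FractionRing O)) = O.subtype := by
    ext a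
    change ε (algebraMap O (FractionRing O) a) = _
    rw [AlgEquiv.commutes]
    rfl
  have h2 : ε'.comp εs = RingHom.id K := by
    ext a
    change ε (ε.symm a) = a
    exact ε.apply_symm_apply a
  have h3 := congrArg (Spec.map (CommRingCat.ofHom ε') ≫ ·) hgen
  simp only [ub] at h3
  rw [← Category.assoc, ← Spec.map_comp, ← CommRingCat.ofHom_comp, h1, Category.assoc,
    ← Category.assoc, ← Spec.map_comp, ← CommRingCat.ofHom_comp, h2] at h3
  rw [h3]
  simp



theorem exists_retraction {X Y : Scheme.{u}} [IsLocallyNoetherian X] (q : Y ⟶ X) (U : X.Opens)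
    (hU : Dense (U : Set ↥X)) (h : (U : Scheme.{u}) ⟶ Y) (hh : h ≫ q = U.ι) (y₀ : Y)
    (hxU : q y₀ ∉ U) [IsDomain ↑(X.presheaf.stalk (q y₀))]
    (hx : IsIntegrallyClosed ↑(X.presheaf.stalk (q y₀))) (H : ValHyp q U h (q y₀) y₀)
    (cK : Spec (CommRingCat.of (FractionRing ↑(X.presheaf.stalk (q y₀)))) ⟶ (U : Scheme.{u}))
    (hcK : cK ≫ U.ι = Spec.map (CommRingCat.ofHom (algebraMap ↑(X.presheaf.stalk (q y₀))
      (FractionRing ↑(X.presheaf.stalk (q y₀))))) ≫ X.fromSpecStalk (q y₀)) :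
    ∃ ψA : Y.presheaf.stalk y₀ ⟶ X.presheaf.stalk (q y₀), IsLocalHom ψA.hom ∧
      Spec.map ψA ≫ Y.fromSpecStalk y₀ ≫ q = X.fromSpecStalk (q y₀) ∧
      Spec.map (CommRingCat.ofHom (algebraMap ↑(X.presheaf.stalk (q y₀))
        (FractionRing ↑(X.presheaf.stalk (q y₀))))) ≫ Spec.map ψA ≫ Y.fromSpecStalk y₀ =
        cK ≫ h := by
  let A : Type u := ↑(X.presheaf.stalk (q y₀))
  let K : Type u := FractionRing A
  haveI : IsIntegrallyClosed A := hx
  have hξU := fromSpecStalk_bot_mem_of_dense (q y₀) U hU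
  have hnf : ¬ IsField A := by
    intro hf
    have h0 : (⟨⊥, Ideal.isPrime_bot⟩ : PrimeSpectrum A) = IsLocalRing.closedPoint A := by
      apply PrimeSpectrum.ext
      exact (IsLocalRing.isField_iff_maximalIdeal_eq.1 hf).symm
    have h1 : X.fromSpecStalk (q y₀) (⟨⊥, Ideal.isPrime_bot⟩ : PrimeSpectrum A) = q y₀ := by
      rw [h0]; exact Scheme.fromSpecStalk_closedPoint
    exact hxU (h1 ▸ hξU)
  obtain ⟨O₀, hO₀, hmem₀, hlt₀⟩ :=
    Groth.Agent.Lib.Helper14.DvrDominate.exists_dvr_dominating A hnf K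
  obtain ⟨θ₀, hθ₀loc, hθ₀⟩ := exists_local_hom_of_dvr q U h (q y₀) y₀ H cK hcK O₀ hO₀ hmem₀ hlt₀
  let ψ : Y.presheaf.stalk y₀ ⟶ CommRingCat.of K := θ₀ ≫ CommRingCat.ofHom O₀.subtype
  have hψ : Spec.map ψ ≫ Y.fromSpecStalk y₀ = cK ≫ h := by
    rw [Spec.map_comp, Category.assoc]; exact hθ₀
  have hmemO : ∀ (O : ValuationSubring K), IsDiscreteValuationRing O →
      (∀ a : A, algebraMap A K a ∈ O) →
      (∀ a ∈ maximalIdeal A, O.valuation (algebraMap A K a) < 1) →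
      ∀ b : ↑(Y.presheaf.stalk y₀), ψ.hom b ∈ O := by
    intro O hO hmem hlt b
    obtain ⟨θ, -, hθ⟩ := exists_local_hom_of_dvr q U h (q y₀) y₀ H cK hcK O hO hmem hlt
    have h1 : Spec.map (θ ≫ CommRingCat.ofHom O.subtype) ≫ Y.fromSpecStalk y₀ =
        Spec.map ψ ≫ Y.fromSpecStalk y₀ := by
      rw [hψ, Spec.map_comp, Category.assoc]; exact hθ
    have h2 : θ ≫ CommRingCat.ofHom O.subtype = ψ :=
      Spec.map_injective ((cancel_mono (Y.fromSpecStalk y₀)).1 h1)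
    rw [← h2]
    exact (θ.hom b).2
  have hrange : ∀ b : ↑(Y.presheaf.stalk y₀), ψ.hom b ∈ (algebraMap A K).range := by
    intro b
    by_contra hb
    obtain ⟨O, hO, hmem, hlt, hbO⟩ := exists_dvr_dominating_not_mem A K (ψ.hom b) hb
    exact hbO (hmemO O hO hmem hlt b)
  have hinj : Function.Injective (algebraMap A K) := IsFractionRing.injective A K
  let ψr : ↑(Y.presheaf.stalk y₀) →+* (algebraMap A K).range :=
    ψ.hom.codRestrict (algebraMap A K).range hrange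
  let e : A ≃+* (algebraMap A K).range :=
    RingEquiv.ofBijective (algebraMap A K).rangeRestrict
      ⟨fun a b hab => hinj (congrArg Subtype.val hab),
        (algebraMap A K).rangeRestrict_surjective⟩
  let ψA' : ↑(Y.presheaf.stalk y₀) →+* A := e.symm.toRingHom.comp ψr
  have hψA' : ∀ b, algebraMap A K (ψA' b) = ψ.hom b := by
    intro b
    have h1 : e (ψA' b) = ψr b := e.apply_symm_apply (ψr b)
    exact congrArg Subtype.val h1
  let ψA : Y.presheaf.stalk y₀ ⟶ X.presheaf.stalk (q y₀) := CommRingCat.ofHom ψA'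
  have hψAK : ψA ≫ CommRingCat.ofHom (algebraMap A K) = ψ := by
    ext b
    exact hψA' b
  have hii : Spec.map (CommRingCat.ofHom (algebraMap A K)) ≫ Spec.map ψA ≫ Y.fromSpecStalk y₀ =
      cK ≫ h := by
    have h1 : Spec.map (CommRingCat.ofHom (algebraMap A K)) ≫ Spec.map ψA = Spec.map ψ := by
      rw [← Spec.map_comp]
      exact congrArg Spec.map hψAK
    rw [← Category.assoc, h1, hψ]
  refine ⟨ψA, ?_, ?_, hii⟩
  · -- local
    constructor
    intro b hb
    by_contra hnb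
    have h1 : ¬ IsUnit (θ₀.hom b) := fun hu => hnb (hθ₀loc.map_nonunit b hu)
    apply h1
    let φ₀ : A →+* O₀ := (algebraMap A K).codRestrict O₀ hmem₀
    have h2 : φ₀ (ψA' b) = θ₀.hom b := Subtype.ext (hψA' b)
    rw [← h2]
    exact hb.map φ₀
  · -- compatibility with q
    rw [← Scheme.SpecMap_stalkMap_fromSpecStalk, ← Category.assoc, ← Spec.map_comp]
    have h1 : q.stalkMap y₀ ≫ ψA = 𝟙 _ := by
      have h2 : Spec.map (q.stalkMap y₀ ≫ ψ) ≫ X.fromSpecStalk (q y₀) =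
          Spec.map (CommRingCat.ofHom (algebraMap A K)) ≫ X.fromSpecStalk (q y₀) := by
        rw [Spec.map_comp, Category.assoc, Scheme.SpecMap_stalkMap_fromSpecStalk,
          ← Category.assoc, hψ, Category.assoc, hh, hcK]
      have h3 : q.stalkMap y₀ ≫ ψ = CommRingCat.ofHom (algebraMap A K) :=
        Spec.map_injective ((cancel_mono (X.fromSpecStalk (q y₀))).1 h2)
      ext a
      apply hinj
      have h4 := congrArg (fun f => f.hom a) h3
      simp only [CommRingCat.hom_comp, RingHom.comp_apply] at h4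
      change algebraMap A K (ψA' ((q.stalkMap y₀).hom a)) = algebraMap A K a
      rw [hψA']
      exact h4
    rw [h1, Spec.map_id, Category.id_comp]



theorem exists_extension {X Y : Scheme.{u}} [IsLocallyNoetherian X] (q : Y ⟶ X)
    [LocallyOfFiniteType q] (U : X.Opens) (hU : Dense (U : Set ↥X)) (h : (U : Scheme.{u}) ⟶ Y)
    (hh : h ≫ q = U.ι) (y₀ : Y) (hxU : q y₀ ∉ U) [IsDomain ↑(X.presheaf.stalk (q y₀))]
    (hx : IsIntegrallyClosed ↑(X.presheaf.stalk (q y₀))) (H : ValHyp q U h (q y₀) y₀) :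
    ∃ (U' : X.Opens) (hUU' : U ≤ U') (hxU' : q y₀ ∈ U') (h' : (U' : Scheme.{u}) ⟶ Y),
        h' ≫ q = U'.ι ∧ X.homOfLE hUU' ≫ h' = h ∧ h' ⟨q y₀, hxU'⟩ = y₀ := by
  let x : X := q y₀
  let A : Type u := ↑(X.presheaf.stalk x)
  let K : Type u := FractionRing A
  obtain ⟨W, hxW, hWaff, hWint, -, -⟩ := exists_isIntegral_nhd_of_isDomain_stalk x
  haveI := hWint
  let ξ : X := X.fromSpecStalk x (⟨⊥, Ideal.isPrime_bot⟩ : PrimeSpectrum A)
  have hξ : ∀ w ∈ W, ξ ⤳ w := fromSpecStalk_bot_specializes_of_isIntegral x W hxW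
  have hξU : ξ ∈ U := fromSpecStalk_bot_mem_of_dense x U hU
  let ιK : Spec (CommRingCat.of K) ⟶ Spec (X.presheaf.stalk x) :=
    Spec.map (CommRingCat.ofHom (algebraMap A K))
  have hιK : ∀ t : ↥(Spec (CommRingCat.of K)), (ιK ≫ X.fromSpecStalk x) t = ξ := by
    intro t
    rw [Scheme.Hom.comp_apply]
    congr 1
    apply PrimeSpectrum.ext
    change Ideal.comap (algebraMap A K) t.asIdeal = ⊥
    have ht : t.asIdeal = ⊥ := Ideal.eq_bot_of_prime t.asIdeal
    rw [ht, ← RingHom.ker_eq_comap_bot]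
    exact (RingHom.injective_iff_ker_eq_bot _).1 (IsFractionRing.injective A K)
  have hrangeU : Set.range (ιK ≫ X.fromSpecStalk x) ⊆ Set.range U.ι := by
    rintro _ ⟨t, rfl⟩
    rw [Scheme.Opens.range_ι, hιK t]
    exact hξU
  let cK : Spec (CommRingCat.of K) ⟶ (U : Scheme.{u}) :=
    IsOpenImmersion.lift U.ι (ιK ≫ X.fromSpecStalk x) hrangeU
  have hcK : cK ≫ U.ι = ιK ≫ X.fromSpecStalk x := IsOpenImmersion.lift_fac _ _ _
  obtain ⟨ψA, hloc, hψq, hψK⟩ := exists_retraction q U hU h hh y₀ hxU hx H cK hcK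
  let φ : Spec (X.presheaf.stalk x) ⟶ Y := Spec.map ψA ≫ Y.fromSpecStalk y₀
  have hφq : φ ≫ q = X.fromSpecStalk x ≫ 𝟙 X := by
    rw [Category.comp_id, Category.assoc]; exact hψq
  have hφK : ιK ≫ φ = cK ≫ h := hψK
  obtain ⟨V, hxV, v, hφv, hvq⟩ := spread_out_of_isGermInjective' (𝟙 X) q φ hφq
  have hvq' : v ≫ q = V.ι := by rw [hvq, Category.comp_id]
  have hvx : v ⟨x, hxV⟩ = y₀ := by
    have h1 : (V.fromSpecStalkOfMem x hxV) (closedPoint A) = ⟨x, hxV⟩ := by
      apply Subtype.ext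
      change V.ι ((V.fromSpecStalkOfMem x hxV) (closedPoint A)) = x
      rw [← Scheme.Hom.comp_apply, Scheme.Opens.fromSpecStalkOfMem_ι]
      exact Scheme.fromSpecStalk_closedPoint
    rw [← h1, ← Scheme.Hom.comp_apply, ← hφv]
    change (Spec.map ψA ≫ Y.fromSpecStalk y₀) (closedPoint A) = y₀
    rw [Scheme.Hom.comp_apply]
    have h2 : Spec.map ψA (closedPoint A) = closedPoint ↑(Y.presheaf.stalk y₀) :=
      IsLocalRing.comap_closedPoint ψA.hom
    rw [h2]
    exact Scheme.fromSpecStalk_closedPoint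
  -- an affine open neighbourhood of `y₀`
  obtain ⟨Y₀, hY₀aff, hy₀Y₀⟩ : ∃ Y₀ : Y.Opens, IsAffineOpen Y₀ ∧ y₀ ∈ Y₀ := by
    obtain ⟨_, ⟨Y₀, hY₀, rfl⟩, hy, -⟩ :=
      Y.isBasis_affineOpens.exists_subset_of_mem_open (Set.mem_univ y₀) isOpen_univ
    exact ⟨Y₀, hY₀, hy⟩
  haveI : IsAffine (Y₀ : Scheme.{u}) := hY₀aff
  let N : X.Opens := U.ι ''ᵁ (h ⁻¹ᵁ Y₀)
  let V₂ : X.Opens := (V.ι ''ᵁ (v ⁻¹ᵁ Y₀)) ⊓ W
  have hNU : N ≤ U := by
    rintro _ ⟨p, -, rfl⟩
    exact p.2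
  have hV₂V : V₂ ≤ V := by
    rintro _ ⟨⟨p, -, rfl⟩, -⟩
    exact p.2
  have hxV₂ : x ∈ V₂ := ⟨⟨⟨x, hxV⟩, by change v ⟨x, hxV⟩ ∈ Y₀; rw [hvx]; exact hy₀Y₀, rfl⟩, hxW⟩
  let T : X.Opens := N ⊓ V₂
  have hTU : T ≤ U := inf_le_left.trans hNU
  have hTV : T ≤ V := inf_le_right.trans hV₂V
  have hTW : T ≤ W := inf_le_right.trans inf_le_right
  let f₁ : (T : Scheme.{u}) ⟶ Y := X.homOfLE hTU ≫ h
  let f₂ : (T : Scheme.{u}) ⟶ Y := X.homOfLE hTV ≫ v
  have hr₁ : Set.range f₁ ⊆ Set.range Y₀.ι := by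
    rintro _ ⟨p, rfl⟩
    rw [Scheme.Opens.range_ι]
    obtain ⟨⟨u', hu', hu'p⟩, -⟩ := p.2
    have : X.homOfLE hTU p = u' := Subtype.ext (by
      rw [X.homOfLE_apply]; exact hu'p.symm)
    change h (X.homOfLE hTU p) ∈ Y₀
    rw [this]; exact hu'
  have hr₂ : Set.range f₂ ⊆ Set.range Y₀.ι := by
    rintro _ ⟨p, rfl⟩
    rw [Scheme.Opens.range_ι]
    obtain ⟨-, ⟨v', hv', hv'p⟩, -⟩ := p.2
    have : X.homOfLE hTV p = v' := Subtype.ext (by
      rw [X.homOfLE_apply]; exact hv'p.symm)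
    change v (X.homOfLE hTV p) ∈ Y₀
    rw [this]; exact hv'
  let f₁' : (T : Scheme.{u}) ⟶ (Y₀ : Scheme.{u}) := IsOpenImmersion.lift Y₀.ι f₁ hr₁
  let f₂' : (T : Scheme.{u}) ⟶ (Y₀ : Scheme.{u}) := IsOpenImmersion.lift Y₀.ι f₂ hr₂
  have hf₁' : f₁' ≫ Y₀.ι = f₁ := IsOpenImmersion.lift_fac _ _ _
  have hf₂' : f₂' ≫ Y₀.ι = f₂ := IsOpenImmersion.lift_fac _ _ _
  -- the generic point lies in `T`
  let t₀ : ↥(Spec (CommRingCat.of K)) := (⟨⊥, Ideal.isPrime_bot⟩ : PrimeSpectrum K)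
  have hξx : ξ ⤳ x := hξ x hxW
  have hξN : ξ ∈ N := by
    refine ⟨cK t₀, ?_, ?_⟩
    · change h (cK t₀) ∈ Y₀
      rw [← Scheme.Hom.comp_apply, ← hφK, Scheme.Hom.comp_apply]
      change (Spec.map ψA ≫ Y.fromSpecStalk y₀) (ιK t₀) ∈ Y₀
      rw [Scheme.Hom.comp_apply]
      have h1 : Y.fromSpecStalk y₀ (Spec.map ψA (ιK t₀)) ∈ Set.range (Y.fromSpecStalk y₀) :=
        ⟨_, rfl⟩
      rw [Scheme.range_fromSpecStalk] at h1
      exact h1.mem_open Y₀.isOpen hy₀Y₀
    · change U.ι (cK t₀) = ξ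
      rw [← Scheme.Hom.comp_apply, hcK, hιK]
  have hξT : ξ ∈ T := ⟨hξN, hξx.mem_open V₂.isOpen hxV₂⟩
  have hrangeT : Set.range (ιK ≫ X.fromSpecStalk x) ⊆ Set.range T.ι := by
    rintro _ ⟨t, rfl⟩
    rw [Scheme.Opens.range_ι, hιK t]
    exact hξT
  let b : Spec (CommRingCat.of K) ⟶ (T : Scheme.{u}) :=
    IsOpenImmersion.lift T.ι (ιK ≫ X.fromSpecStalk x) hrangeT
  have hb : b ≫ T.ι = ιK ≫ X.fromSpecStalk x := IsOpenImmersion.lift_fac _ _ _
  haveI : IsReduced (T : Scheme.{u}) := isReduced_of_isOpenImmersion (X.homOfLE hTW)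
  haveI : IsDominant b := by
    constructor
    intro t
    have hind : Topology.IsInducing (T.ι : ↥(T : Scheme.{u}) → X) :=
      T.ι.isOpenEmbedding.isEmbedding.isInducing
    have h1 : T.ι (b t₀) = ξ := by
      rw [← Scheme.Hom.comp_apply, hb, hιK]
    have h2 : b t₀ ⤳ t := by
      rw [← hind.specializes_iff, h1]
      exact hξ _ (hTW t.2)
    have h3 : ({b t₀} : Set ↥(T : Scheme.{u})) ⊆ Set.range b :=
      Set.singleton_subset_iff.2 ⟨t₀, rfl⟩
    exact closure_mono h3 (specializes_iff_mem_closure.1 h2)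
  have hf₁₂ : f₁ = f₂ := by
    have hb₁ : b ≫ X.homOfLE hTU = cK := by
      rw [← cancel_mono U.ι, Category.assoc, X.homOfLE_ι, hb, hcK]
    have hb₂ : b ≫ X.homOfLE hTV = ιK ≫ V.fromSpecStalkOfMem x hxV := by
      rw [← cancel_mono V.ι, Category.assoc, X.homOfLE_ι, hb, Category.assoc,
        Scheme.Opens.fromSpecStalkOfMem_ι]
    have hbf : b ≫ f₁ = b ≫ f₂ := by
      change b ≫ X.homOfLE hTU ≫ h = b ≫ X.homOfLE hTV ≫ v
      rw [← Category.assoc, hb₁, ← Category.assoc, hb₂, Category.assoc, ← hφv, hφK]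
    have h' : f₁' = f₂' := by
      refine ext_of_isDominant_of_isSeparated (terminal.from (Y₀ : Scheme.{u}))
        (Subsingleton.elim _ _) b ?_
      rw [← cancel_mono Y₀.ι, Category.assoc, Category.assoc, hf₁', hf₂', hbf]
    rw [← hf₁', ← hf₂', h']
  -- shrinking: near `x`, the section `h` stays inside `Y₀`
  haveI : IsAffine (W : Scheme.{u}) := hWaff
  haveI : IsNoetherian (W : Scheme.{u}) := { }
  let xW : ↥(W : Scheme.{u}) := ⟨x, hxW⟩
  let G : Set ↥(W : Scheme.{u}) := W.ι ⁻¹' (U : Set ↥X)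
  let F : Set ↥(W : Scheme.{u}) := (W.ι ⁻¹' (N : Set ↥X))ᶜ
  have hGo : IsOpen G := U.isOpen.preimage W.ι.continuous
  have hFc : IsClosed F := (N.isOpen.preimage W.ι.continuous).isClosed_compl
  have hncl : xW ∉ closure (G ∩ F) := by
    intro hcl
    obtain ⟨ζW, ⟨hζG, hζF⟩, hζx⟩ := exists_specializes_of_mem_closure_inter hGo hFc hcl
    let ζ : X := W.ι ζW
    have hζU : ζ ∈ U := hζG
    have hζN : ζ ∉ N := hζF
    have hζx' : ζ ⤳ x := hζx.map W.ι.continuous
    have hne : ζ ≠ x := fun e => hxU (by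
      have h0 : x ∈ U := e ▸ hζU
      exact h0)
    obtain ⟨R, _, _, _, u, hux, hgen⟩ := exists_dvr_through x ζ hζx' hne
    let ιR : Spec (CommRingCat.of (FractionRing R)) ⟶ Spec (CommRingCat.of R) :=
      Spec.map (CommRingCat.ofHom (algebraMap R (FractionRing R)))
    have hrangeR : Set.range (ιR ≫ u) ⊆ Set.range U.ι := by
      rintro _ ⟨t, rfl⟩
      rw [Scheme.Opens.range_ι, hgen t]
      exact hζU
    let ub : Spec (CommRingCat.of (FractionRing R)) ⟶ (U : Scheme.{u}) :=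
      IsOpenImmersion.lift U.ι (ιR ≫ u) hrangeR
    have hub : ub ≫ U.ι = ιR ≫ u := IsOpenImmersion.lift_fac _ _ _
    obtain ⟨h₁, -, hcl₁, hgen₁⟩ := H R u hux ub hub
    let t : ↥(Spec (CommRingCat.of (FractionRing R))) :=
      (⟨⊥, Ideal.isPrime_bot⟩ : PrimeSpectrum (FractionRing R))
    have h1 : h₁ (ιR t) = h (ub t) := by
      rw [← Scheme.Hom.comp_apply, ← Scheme.Hom.comp_apply]
      exact congrArg (fun m => m t) hgen₁
    have h2 : h₁ (ιR t) ⤳ y₀ := by
      rw [← hcl₁]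
      exact (IsLocalRing.specializes_closedPoint (ιR t)).map h₁.continuous
    have h3 : h₁ (ιR t) ∈ Y₀ := h2.mem_open Y₀.isOpen hy₀Y₀
    apply hζN
    refine ⟨ub t, ?_, ?_⟩
    · change h (ub t) ∈ Y₀
      rw [← h1]; exact h3
    · change U.ι (ub t) = ζ
      rw [← Scheme.Hom.comp_apply, hub, hgen t]
  let C : (W : Scheme.{u}).Opens := ⟨(closure (G ∩ F))ᶜ, isClosed_closure.isOpen_compl⟩
  let V₃ : X.Opens := (W.ι ''ᵁ C) ⊓ V₂
  have hxV₃ : x ∈ V₃ := ⟨⟨xW, hncl, rfl⟩, hxV₂⟩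
  have hV₃V : V₃ ≤ V := inf_le_right.trans hV₂V
  have hUV₃N : U ⊓ V₃ ≤ N := by
    rintro p ⟨hpU, ⟨w, hwC, hwp⟩, -⟩
    have hwp' : W.ι w = p := hwp
    have hwG : w ∈ G := by change W.ι w ∈ U; rw [hwp']; exact hpU
    have hwF : w ∉ F := fun hwF => hwC (subset_closure ⟨hwG, hwF⟩)
    have : W.ι w ∈ N := not_not.1 hwF
    rw [hwp'] at this
    exact this
  have hUV₃T : U ⊓ V₃ ≤ T := le_inf hUV₃N (inf_le_right.trans inf_le_right)
  let v₃ : (V₃ : Scheme.{u}) ⟶ Y := X.homOfLE hV₃V ≫ v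
  have hcompat : X.homOfLE (inf_le_left : U ⊓ V₃ ≤ U) ≫ h =
      X.homOfLE (inf_le_right : U ⊓ V₃ ≤ V₃) ≫ v₃ := by
    have e1 : X.homOfLE (inf_le_left : U ⊓ V₃ ≤ U) = X.homOfLE hUV₃T ≫ X.homOfLE hTU := by
      rw [Scheme.homOfLE_homOfLE]
    have e2 : X.homOfLE (inf_le_right : U ⊓ V₃ ≤ V₃) ≫ X.homOfLE hV₃V =
        X.homOfLE hUV₃T ≫ X.homOfLE hTV := by
      rw [Scheme.homOfLE_homOfLE, Scheme.homOfLE_homOfLE]
    change _ = _ ≫ X.homOfLE hV₃V ≫ v
    rw [e1, Category.assoc, ← Category.assoc _ _ v, e2, Category.assoc]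
    exact congrArg (X.homOfLE hUV₃T ≫ ·) hf₁₂
  obtain ⟨k, hk1, hk2⟩ := exists_glue_sup U V₃ h v₃ hcompat
  refine ⟨U ⊔ V₃, le_sup_left, Or.inr hxV₃, k, ?_, hk1, ?_⟩
  · apply hom_ext_sup U V₃
    · rw [← Category.assoc, hk1, hh, X.homOfLE_ι]
    · rw [← Category.assoc, hk2, X.homOfLE_ι]
      change (X.homOfLE hV₃V ≫ v) ≫ q = _
      rw [Category.assoc, hvq', X.homOfLE_ι]
  · have h1 : (⟨q y₀, Or.inr hxV₃⟩ : ↥((U ⊔ V₃ : X.Opens) : Scheme.{u})) =
        X.homOfLE (le_sup_right : V₃ ≤ U ⊔ V₃) ⟨x, hxV₃⟩ := Subtype.ext (by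
      rw [X.homOfLE_apply])
    rw [h1, ← Scheme.Hom.comp_apply, hk2]
    change v (X.homOfLE hV₃V ⟨x, hxV₃⟩) = y₀
    have h2 : X.homOfLE hV₃V ⟨x, hxV₃⟩ = ⟨x, hxV⟩ := Subtype.ext (by rw [X.homOfLE_apply])
    rw [h2, hvx]



/-- In the case S = X (valuative criterion for a rational map to be defined at a point): let X be a
locally Noetherian scheme, q : Y → X a morphism locally of finite type, U a dense open subset of X,
h : U → Y a section of q over U, x a point of X outside U whose local ring is an integrally closed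
domain, and y₀ a point of Y over x with trivial residue field extension (an X-morphism Spec k(x) →
Y). Then h extends to a section h' of q over an open subset U' containing U and x with h'(x) = y₀ if
and only if: for every discrete valuation ring R and every morphism u : Spec R → X sending the
closed point to x and the generic point into U, there is a morphism h₁ : Spec R → Y over X sending
the closed point to y₀ and agreeing with h at the generic point. -/
theorem result {X Y : Scheme.{u}} [IsLocallyNoetherian X] (q : Y ⟶ X)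
    [LocallyOfFiniteType q] (U : X.Opens) (hU : Dense (U : Set ↥X)) (h : (U : Scheme.{u}) ⟶ Y)
    (hh : h ≫ q = U.ι) (x : ↥X) (hxU : x ∉ U) [IsDomain ↑(X.presheaf.stalk x)]
    (hx : IsIntegrallyClosed ↑(X.presheaf.stalk x)) (y₀ : ↥Y) (hy₀ : q y₀ = x)
    (hk : Function.Bijective (q.residueFieldMap y₀)) :
    (∃ (U' : X.Opens) (hUU' : U ≤ U') (hxU' : x ∈ U') (h' : (U' : Scheme.{u}) ⟶ Y),
        h' ≫ q = U'.ι ∧ X.homOfLE hUU' ≫ h' = h ∧ h' ⟨x, hxU'⟩ = y₀) ↔
      ∀ (R : Type u) [CommRing R] [IsDomain R] [IsDiscreteValuationRing R]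
        (u : Spec (CommRingCat.of R) ⟶ X), u (IsLocalRing.closedPoint R) = x →
        ∀ ub : Spec (CommRingCat.of (FractionRing R)) ⟶ (U : Scheme.{u}),
          ub ≫ U.ι = Spec.map (CommRingCat.ofHom (algebraMap R (FractionRing R))) ≫ u →
          ∃ h₁ : Spec (CommRingCat.of R) ⟶ Y, h₁ ≫ q = u ∧ h₁ (IsLocalRing.closedPoint R) = y₀ ∧
            Spec.map (CommRingCat.ofHom (algebraMap R (FractionRing R))) ≫ h₁ = ub ≫ h := by
  constructor
  · rintro ⟨U', hUU', hxU', h', hq', hres, hy⟩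
    intro R _ _ _ u hux ub hub
    have hrange' : Set.range u ⊆ Set.range U'.ι := by
      rintro _ ⟨p, rfl⟩
      rw [Scheme.Opens.range_ι]
      have h1 : u p ⤳ x := hux ▸ (IsLocalRing.specializes_closedPoint p).map u.continuous
      exact h1.mem_open U'.isOpen hxU'
    let u' : Spec (CommRingCat.of R) ⟶ (U' : Scheme.{u}) := IsOpenImmersion.lift U'.ι u hrange'
    have hu' : u' ≫ U'.ι = u := IsOpenImmersion.lift_fac _ _ _
    refine ⟨u' ≫ h', ?_, ?_, ?_⟩
    · rw [Category.assoc, hq', hu']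
    · have h1 : u' (IsLocalRing.closedPoint R) = ⟨x, hxU'⟩ := Subtype.ext (by
        change U'.ι (u' (IsLocalRing.closedPoint R)) = x
        rw [← Scheme.Hom.comp_apply, hu', hux])
      rw [Scheme.Hom.comp_apply, h1, hy]
    · rw [← hres, ← Category.assoc, ← Category.assoc]
      congr 1
      rw [← cancel_mono U'.ι, Category.assoc, Category.assoc, hu', X.homOfLE_ι, hub]
  · intro H
    subst hy₀
    exact exists_extension q U hU h hh y₀ hxU hx H

end Groth.Agent.S3848
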