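import Groth.Statements.S3849
import Groth.Agent.Lib.Helper41.ValCritSection
import Groth.Agent.Lib.Helper41.GlueSup
import Groth.Agent.Lib.Helper14.DvrDominate
import Groth.Agent.S3836

set_option autoImplicit false
universe u
open CategoryTheory CategoryTheory.Limits AlgebraicGeometry TopologicalSpace
open Rat20

namespace Groth.Agent.S3849

open Groth.Agent.Lib.Helper41

theorem exists_dvr_of_extension {X Y : Scheme.{u}} [IsLocallyNoetherian X] (q : Y ⟶ X)
    (U : X.Opens) (hU : Dense (U : Set ↥X))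
    (h : (U : Scheme.{u}) ⟶ Y) (x : ↥X) (hxU : x ∉ U) [IsDomain ↑(X.presheaf.stalk x)]
    (U' : X.Opens) (hUU' : U ≤ U') (h' : (U' : Scheme.{u}) ⟶ Y) (hxU' : x ∈ U')
    (hh' : h' ≫ q = U'.ι) (hres : X.homOfLE hUU' ≫ h' = h) :
    ∃ (R : Type u) (_ : CommRing R) (_ : IsDomain R) (_ : IsDiscreteValuationRing R)
        (u : Spec (CommRingCat.of R) ⟶ X) (ub : Spec (CommRingCat.of (FractionRing R)) ⟶ (U : Scheme.{u}))
        (h₁ : Spec (CommRingCat.of R) ⟶ Y),
        u (IsLocalRing.closedPoint R) = x ∧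
          ub ≫ U.ι = Spec.map (CommRingCat.ofHom (algebraMap R (FractionRing R))) ≫ u ∧
          h₁ ≫ q = u ∧ Spec.map (CommRingCat.ofHom (algebraMap R (FractionRing R))) ≫ h₁ = ub ≫ h := by
  let A : Type u := ↑(X.presheaf.stalk x)
  let K : Type u := FractionRing A
  have hξU := fromSpecStalk_bot_mem_of_dense x U hU
  have hnf : ¬ IsField A := by
    intro hf
    have h0 : (⟨⊥, Ideal.isPrime_bot⟩ : PrimeSpectrum A) = IsLocalRing.closedPoint A := by
      apply PrimeSpectrum.ext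
      exact (IsLocalRing.isField_iff_maximalIdeal_eq.1 hf).symm
    have h1 : X.fromSpecStalk x (⟨⊥, Ideal.isPrime_bot⟩ : PrimeSpectrum A) = x := by
      rw [h0]; exact Scheme.fromSpecStalk_closedPoint
    exact hxU (h1 ▸ hξU)
  obtain ⟨O, hO, hmem, hlt⟩ := Groth.Agent.Lib.Helper14.DvrDominate.exists_dvr_dominating A hnf K
  let φ : A →+* O := (algebraMap A K).codRestrict O hmem
  have hφinj : Function.Injective φ := by
    intro a b hab
    apply IsFractionRing.injective A K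
    exact congrArg Subtype.val hab
  have hloc : IsLocalHom φ := ⟨fun a ha => by
    by_contra hna
    have hv := hlt a hna
    have h1 : O.valuation ((φ a : O) : K) = 1 := (O.valuation_eq_one_iff (φ a)).1 ha
    exact (ne_of_lt hv) h1⟩
  let KO : Type u := FractionRing O
  let φ' : X.presheaf.stalk x ⟶ CommRingCat.of O := CommRingCat.ofHom φ
  let u : Spec (CommRingCat.of O) ⟶ X := Spec.map φ' ≫ X.fromSpecStalk x
  let ιK : Spec (CommRingCat.of KO) ⟶ Spec (CommRingCat.of O) :=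
    Spec.map (CommRingCat.ofHom (algebraMap O KO))
  have hpt : ∀ p : ↥(Spec (CommRingCat.of KO)),
      (ιK ≫ u) p = X.fromSpecStalk x (⟨⊥, Ideal.isPrime_bot⟩ : PrimeSpectrum A) := by
    intro p
    rw [Scheme.Hom.comp_apply, Scheme.Hom.comp_apply]
    congr 1
    apply PrimeSpectrum.ext
    change Ideal.comap φ (Ideal.comap (algebraMap O KO) p.asIdeal) = ⊥
    have hp : p.asIdeal = ⊥ := Ideal.eq_bot_of_prime p.asIdeal
    rw [hp, Ideal.comap_comap, ← RingHom.ker_eq_comap_bot]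
    exact (RingHom.injective_iff_ker_eq_bot _).1
      ((IsFractionRing.injective O KO).comp hφinj)
  have hrange : Set.range (ιK ≫ u) ⊆ Set.range U.ι := by
    rintro _ ⟨p, rfl⟩
    rw [Scheme.Opens.range_ι, hpt p]
    exact hξU
  let ub : Spec (CommRingCat.of KO) ⟶ (U : Scheme.{u}) := IsOpenImmersion.lift U.ι (ιK ≫ u) hrange
  have hub : ub ≫ U.ι = ιK ≫ u := IsOpenImmersion.lift_fac _ _ _
  have hrange' : Set.range u ⊆ Set.range U'.ι := by
    rintro _ ⟨p, rfl⟩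
    rw [Scheme.Opens.range_ι]
    have h1 : u p ∈ Set.range (X.fromSpecStalk x) := ⟨_, rfl⟩
    rw [Scheme.range_fromSpecStalk] at h1
    exact h1.mem_open U'.isOpen hxU'
  let u' : Spec (CommRingCat.of O) ⟶ (U' : Scheme.{u}) := IsOpenImmersion.lift U'.ι u hrange'
  have hu' : u' ≫ U'.ι = u := IsOpenImmersion.lift_fac _ _ _
  refine ⟨O, inferInstance, inferInstance, hO, u, ub, u' ≫ h', ?_, hub, ?_, ?_⟩
  · change (Spec.map φ' ≫ X.fromSpecStalk x) (IsLocalRing.closedPoint O) = x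
    rw [Scheme.Hom.comp_apply]
    have h1 : Spec.map φ' (IsLocalRing.closedPoint O) = IsLocalRing.closedPoint A :=
      IsLocalRing.comap_closedPoint φ
    rw [h1]
    exact Scheme.fromSpecStalk_closedPoint
  · rw [Category.assoc, hh', hu']
  · rw [← hres, ← Category.assoc, ← Category.assoc]
    congr 1
    rw [← cancel_mono U'.ι, Category.assoc, Category.assoc, hu', X.homOfLE_ι, hub]



theorem exists_extension_of_dvr {X Y : Scheme.{u}} [IsLocallyNoetherian X] (q : Y ⟶ X)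
    [LocallyOfFiniteType q] [IsSeparated q] [LocallyQuasiFinite q] (U : X.Opens)
    (hU : Dense (U : Set ↥X))
    (h : (U : Scheme.{u}) ⟶ Y) (hh : h ≫ q = U.ι) (x : ↥X) [IsDomain ↑(X.presheaf.stalk x)]
    (hx : IsIntegrallyClosed ↑(X.presheaf.stalk x))
    (R : Type u) [CommRing R] [IsDomain R] [IsLocalRing R]
    (u : Spec (CommRingCat.of R) ⟶ X) (ub : Spec (CommRingCat.of (FractionRing R)) ⟶ (U : Scheme.{u}))
    (h₁ : Spec (CommRingCat.of R) ⟶ Y)
    (hux : u (IsLocalRing.closedPoint R) = x)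
    (hub : ub ≫ U.ι = Spec.map (CommRingCat.ofHom (algebraMap R (FractionRing R))) ≫ u)
    (hh₁ : h₁ ≫ q = u)
    (hgen : Spec.map (CommRingCat.ofHom (algebraMap R (FractionRing R))) ≫ h₁ = ub ≫ h) :
    ∃ (U' : X.Opens) (hUU' : U ≤ U') (h' : (U' : Scheme.{u}) ⟶ Y),
        x ∈ U' ∧ h' ≫ q = U'.ι ∧ X.homOfLE hUU' ≫ h' = h := by
  obtain ⟨X₀, hxX₀, hX₀, hint, -, -⟩ := exists_isIntegral_nhd_of_isDomain_stalk x
  let x₀ : ↥(X₀ : Scheme.{u}) := ⟨x, hxX₀⟩
  let U₀ : (X₀ : Scheme.{u}).Opens := X₀.ι ⁻¹ᵁ U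
  have hU₀ : Dense (U₀ : Set ↥(X₀ : Scheme.{u})) := hU.preimage X₀.ι.isOpenEmbedding.isOpenMap
  let h₀ : (U₀ : Scheme.{u}) ⟶ Y := (X₀.ι ∣_ U) ≫ h
  have hh₀ : U₀.ι ≫ X₀.ι = h₀ ≫ q := by rw [Category.assoc, hh, morphismRestrict_ι]
  have hX : ∀ y : ↥(X₀ : Scheme.{u}), ∃ W : (X₀ : Scheme.{u}).Opens, y ∈ W ∧
      IsIntegral (W : Scheme.{u}) := fun y => ⟨⊤, trivial, by
    have : Nonempty ↥((⊤ : (X₀ : Scheme.{u}).Opens) : Scheme.{u}) := ⟨⟨y, trivial⟩⟩
    infer_instance⟩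
  have hx₀ : IsIntegrallyClosed ((X₀ : Scheme.{u}).presheaf.stalk x₀) :=
    IsIntegrallyClosed.of_equiv ((X₀.stalkIso x₀).commRingCatIsoToRingEquiv.symm)
  -- the point `z`
  let c : ↥(Spec (CommRingCat.of R)) := IsLocalRing.closedPoint R
  let y : ↥Y := h₁ c
  have hqy : q y = x := by
    change q (h₁ c) = x
    rw [← Scheme.Hom.comp_apply, hh₁, hux]
  obtain ⟨z, hz1, hz2⟩ := Scheme.Pullback.exists_preimage_pullback (f := X₀.ι) (g := q) x₀ y
    (by rw [hqy]; rfl)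
  -- the generic point
  let ηK : ↥(Spec (CommRingCat.of (FractionRing R))) :=
    (⟨⊥, Ideal.isPrime_bot⟩ : PrimeSpectrum (FractionRing R))
  let ιK : Spec (CommRingCat.of (FractionRing R)) ⟶ Spec (CommRingCat.of R) :=
    Spec.map (CommRingCat.ofHom (algebraMap R (FractionRing R)))
  let η : ↥(Spec (CommRingCat.of R)) := ιK ηK
  have hηc : η ⤳ c := IsLocalRing.specializes_closedPoint η
  have hyη : h₁ η ⤳ y := hηc.map h₁.continuous
  have huη : u η ∈ X₀ := by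
    have h1 : u η ⤳ x := hux ▸ hηc.map u.continuous
    exact h1.mem_open X₀.isOpen hxX₀
  have hubη : (ub ηK).1 = u η := by
    change U.ι (ub ηK) = u (ιK ηK)
    rw [← Scheme.Hom.comp_apply, hub, Scheme.Hom.comp_apply]
  let t : ↥(U₀ : Scheme.{u}) := ⟨⟨u η, huη⟩, by
    change X₀.ι ⟨u η, huη⟩ ∈ U
    change u η ∈ U
    rw [← hubη]; exact (ub ηK).2⟩
  have ht : (X₀.ι ∣_ U) t = ub ηK := by
    apply Subtype.ext
    change U.ι ((X₀.ι ∣_ U) t) = (ub ηK).1
    rw [← Scheme.Hom.comp_apply, morphismRestrict_ι, hubη]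
    rfl
  have hh₁η : h₁ η = h₀ t := by
    change h₁ (ιK ηK) = ((X₀.ι ∣_ U) ≫ h) t
    rw [Scheme.Hom.comp_apply, ht, ← Scheme.Hom.comp_apply, ← Scheme.Hom.comp_apply, hgen]
  have hzΓ : z ∈ closure (Set.range (pullback.lift U₀.ι h₀ hh₀)) := by
    have hind : Topology.IsInducing (pullback.snd X₀.ι q) :=
      (pullback.snd X₀.ι q).isOpenEmbedding.isEmbedding.isInducing
    rw [hind.closure_eq_preimage_closure_image, Set.mem_preimage, ← Set.range_comp, hz2]
    have h2 : (pullback.snd X₀.ι q : _ → _) ∘ (pullback.lift U₀.ι h₀ hh₀ : _ → _) = h₀ := by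
      ext p
      change (pullback.snd X₀.ι q) ((pullback.lift U₀.ι h₀ hh₀) p) = h₀ p
      rw [← Scheme.Hom.comp_apply, pullback.lift_snd]
    rw [h2]
    have h3 : ({h₁ η} : Set ↥Y) ⊆ Set.range h₀ :=
      Set.singleton_subset_iff.2 ⟨t, hh₁η.symm⟩
    exact closure_mono h3 (specializes_iff_mem_closure.1 hyη)
  have hiso : ∃ W : (pullback X₀.ι q).Opens,
      (W : Set ↥(pullback X₀.ι q)) ∩ closure (Set.range (pullback.lift U₀.ι h₀ hh₀)) ∩
        (pullback.fst X₀.ι q) ⁻¹' {x₀} = {z} := by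
    have hd := (pullback.fst X₀.ι q).isDiscrete_preimage_singleton x₀
    obtain ⟨W, hWo, hW⟩ := (isDiscrete_iff_forall_mem_exists_isOpen.1 hd) z hz1
    refine ⟨⟨W, hWo⟩, ?_⟩
    ext p
    constructor
    · rintro ⟨⟨hpW, -⟩, hpx⟩
      have : p ∈ W ∩ (pullback.fst X₀.ι q) ⁻¹' {x₀} := ⟨hpW, hpx⟩
      rw [hW] at this
      exact this
    · rintro rfl
      have : p ∈ W ∩ (pullback.fst X₀.ι q) ⁻¹' {x₀} := by rw [hW]; rfl
      exact ⟨⟨this.1, hzΓ⟩, this.2⟩
  obtain ⟨V, v, hxV, hvS, hv⟩ :=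
    Groth.Agent.S3836.result X₀.ι q hX U₀ hU₀ h₀ hh₀ x₀ hx₀ z hz1 hzΓ hiso
  let V' : X.Opens := X₀.ι ''ᵁ V
  let v' : (V' : Scheme.{u}) ⟶ Y := (X₀.ι.isoImage V).inv ≫ v
  have hv'q : v' ≫ q = V'.ι := by
    rw [Category.assoc, hvS, Scheme.Hom.isoImage_inv_ι]
  have hrange : Set.range (U ⊓ V').ι ⊆ Set.range ((U₀ ⊓ V).ι ≫ X₀.ι) := by
    rintro _ ⟨p, rfl⟩
    obtain ⟨hpU, w, hwV, hw⟩ := p.2
    have hw' : X₀.ι w = p.1 := hw
    have hwU : w ∈ U₀ := by
      change X₀.ι w ∈ U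
      rw [hw']; exact hpU
    exact ⟨⟨w, hwU, hwV⟩, hw'⟩
  let e : ((U ⊓ V' : X.Opens) : Scheme.{u}) ⟶ ((U₀ ⊓ V : (X₀ : Scheme.{u}).Opens) : Scheme.{u}) :=
    IsOpenImmersion.lift ((U₀ ⊓ V).ι ≫ X₀.ι) (U ⊓ V').ι hrange
  have he : e ≫ (U₀ ⊓ V).ι ≫ X₀.ι = (U ⊓ V').ι := IsOpenImmersion.lift_fac _ _ _
  have e1 : X.homOfLE (inf_le_right : U ⊓ V' ≤ V') ≫ (X₀.ι.isoImage V).inv =
      e ≫ (X₀ : Scheme.{u}).homOfLE (inf_le_right : U₀ ⊓ V ≤ V) := by
    rw [← cancel_mono (V.ι ≫ X₀.ι), Category.assoc, Scheme.Hom.isoImage_inv_ι, X.homOfLE_ι,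
      Category.assoc, ← Category.assoc _ V.ι, Scheme.homOfLE_ι, he]
  have e2 : X.homOfLE (inf_le_left : U ⊓ V' ≤ U) =
      e ≫ (X₀ : Scheme.{u}).homOfLE (inf_le_left : U₀ ⊓ V ≤ U₀) ≫ (X₀.ι ∣_ U) := by
    rw [← cancel_mono U.ι, X.homOfLE_ι, Category.assoc, Category.assoc, morphismRestrict_ι,
      ← Category.assoc _ U₀.ι, Scheme.homOfLE_ι, he]
  have hcompat : X.homOfLE (inf_le_left : U ⊓ V' ≤ U) ≫ h =
      X.homOfLE (inf_le_right : U ⊓ V' ≤ V') ≫ v' := by
    change _ = _ ≫ (X₀.ι.isoImage V).inv ≫ v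
    rw [e2, ← Category.assoc _ _ v, e1, Category.assoc, Category.assoc, Category.assoc, hv]
  obtain ⟨k, hk1, hk2⟩ := exists_glue_sup U V' h v' hcompat
  refine ⟨U ⊔ V', le_sup_left, k, ?_, ?_, hk1⟩
  · exact Or.inr ⟨x₀, hxV, rfl⟩
  · apply hom_ext_sup U V'
    · rw [← Category.assoc, hk1, hh, X.homOfLE_ι]
    · rw [← Category.assoc, hk2, hv'q, X.homOfLE_ι]



/-- In the case S = X (sections of q : Y → X): let X be a locally Noetherian scheme, q : Y → X
separated, locally of finite type and locally quasi-finite, U a dense open subset of X, h : U → Y a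
section of q over U, and x a point of X outside U whose local ring is an integrally closed domain.
Then h extends to a section of q over an open subset containing U and x if and only if there exist a
discrete valuation ring R, a morphism u : Spec R → X sending the closed point to x and the generic
point into U, and a morphism Spec R → Y over X agreeing with h at the generic point. -/
theorem result {X Y : Scheme.{u}} [IsLocallyNoetherian X] (q : Y ⟶ X)
    [LocallyOfFiniteType q] [IsSeparated q] [LocallyQuasiFinite q] (U : X.Opens) (hU : Dense (U : Set ↥X))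
    (h : (U : Scheme.{u}) ⟶ Y) (hh : h ≫ q = U.ι) (x : ↥X) (hxU : x ∉ U) [IsDomain ↑(X.presheaf.stalk x)]
    (hx : IsIntegrallyClosed ↑(X.presheaf.stalk x)) :
    (∃ (U' : X.Opens) (hUU' : U ≤ U') (h' : (U' : Scheme.{u}) ⟶ Y),
        x ∈ U' ∧ h' ≫ q = U'.ι ∧ X.homOfLE hUU' ≫ h' = h) ↔
      ∃ (R : Type u) (_ : CommRing R) (_ : IsDomain R) (_ : IsDiscreteValuationRing R)
        (u : Spec (CommRingCat.of R) ⟶ X) (ub : Spec (CommRingCat.of (FractionRing R)) ⟶ (U : Scheme.{u}))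
        (h₁ : Spec (CommRingCat.of R) ⟶ Y),
        u (IsLocalRing.closedPoint R) = x ∧
          ub ≫ U.ι = Spec.map (CommRingCat.ofHom (algebraMap R (FractionRing R))) ≫ u ∧
          h₁ ≫ q = u ∧ Spec.map (CommRingCat.ofHom (algebraMap R (FractionRing R))) ≫ h₁ = ub ≫ h := by
  constructor
  · rintro ⟨U', hUU', h', hxU', hh', hres⟩
    exact exists_dvr_of_extension q U hU h x hxU U' hUU' h' hxU' hh' hres
  · rintro ⟨R, _, _, _, u, ub, h₁, hux, hub, hh₁, hgen⟩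
    exact exists_extension_of_dvr q U hU h hh x hx R u ub h₁ hux hub hh₁ hgen

end Groth.Agent.S3849
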