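import Groth.Statements.S3850
import Groth.Agent.Lib.Helper52.CompDiffMain

set_option autoImplicit false
universe u
open EGA418

namespace Groth.Agent.S3850

/-- b) iff c), in the case n = dim A: let k be a field, A a complete Noetherian local k-algebra whose
residue field is finite over k, of dimension n, p a non-maximal prime ideal of A contained in an
irreducible component of dimension n (there is a minimal prime q ⊆ p with dim A/q = n), and Ω̂ the
completion of the module of differentials of A over k for the topology of the maximal ideal. Then
Ω̂_p is a free A_p-module of rank n if and only if there is a local k-algebra map u : k[[T_1, …,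
T_n]] → A making A a finite algebra over the power series ring and étale over it at p. -/
theorem result (k A : Type u) [Field k] [CommRing A]
    [IsLocalRing A] [IsNoetherianRing A] [Algebra k A] [IsAdicComplete (IsLocalRing.maximalIdeal A) A]
    [Module.Finite k (IsLocalRing.ResidueField A)] (n : ℕ) (hn : ringKrullDim A = n)
    (p : Ideal A) [p.IsPrime] (hp : p ≠ IsLocalRing.maximalIdeal A)
    (hq : ∃ q ∈ minimalPrimes A, q ≤ p ∧ ringKrullDim (A ⧸ q) = n) :
    (Module.Free (Localization.AtPrime p)
        (LocalizedModule p.primeCompl (AdicCompletion (IsLocalRing.maximalIdeal A) (KaehlerDifferential k A))) ∧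
      Module.finrank (Localization.AtPrime p)
        (LocalizedModule p.primeCompl (AdicCompletion (IsLocalRing.maximalIdeal A) (KaehlerDifferential k A))) = n) ↔
      ∃ (_ : Algebra (MvPowerSeries (Fin n) k) A) (_ : IsScalarTower k (MvPowerSeries (Fin n) k) A),
        IsLocalHom (algebraMap (MvPowerSeries (Fin n) k) A) ∧ Module.Finite (MvPowerSeries (Fin n) k) A ∧
          Algebra.IsEtaleAt (MvPowerSeries (Fin n) k) p := by
  classical
  obtain ⟨q, hqmin, hqp, hdim⟩ := hq
  have hqprime : q.IsPrime := hqmin.1.1
  have hfinΩ : Module.Finite A (AdicCompletion (IsLocalRing.maximalIdeal A)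
      (KaehlerDifferential k A)) := Groth.Agent.Lib.Helper52.CompDiff.main
  have hfinN : Module.Finite (Localization.AtPrime p) (LocalizedModule p.primeCompl
      (AdicCompletion (IsLocalRing.maximalIdeal A) (KaehlerDifferential k A))) :=
    Module.Finite.of_isLocalizedModule p.primeCompl
      (LocalizedModule.mkLinearMap p.primeCompl
        (AdicCompletion (IsLocalRing.maximalIdeal A) (KaehlerDifferential k A)))
  constructor
  · rintro ⟨hfree, hrank⟩
    have hgen : ∃ s : Fin n → LocalizedModule p.primeCompl
        (AdicCompletion (IsLocalRing.maximalIdeal A) (KaehlerDifferential k A)),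
        Submodule.span (Localization.AtPrime p) (Set.range s) = ⊤ :=
      ⟨_, (Module.finBasisOfFinrankEq (Localization.AtPrime p) _ hrank).span_eq⟩
    obtain ⟨φ, hfin, hloc, hFE, -⟩ :=
      Groth.Agent.Lib.Helper52.CompDiffMain.exists_etale_algHom k A p q hp hqp n hn hdim hgen
    exact ⟨φ.toRingHom.toAlgebra,
      @IsScalarTower.of_algebraMap_eq k (MvPowerSeries (Fin n) k) A _ _ _ _
        φ.toRingHom.toAlgebra _ (fun c => (φ.commutes c).symm), hloc, hfin, hFE⟩
  · rintro ⟨inst1, inst2, -, hfin, hFE⟩
    exact Groth.Agent.Lib.Helper52.CompDiffFree.free_of_formallyEtale k n A p hFE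

end Groth.Agent.S3850
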