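import Groth.Statements.S3852

set_option autoImplicit false
universe u
open FCompl

namespace Groth.Agent.S3852

open AlgebraicGeometry in
lemma aux_local (X : Scheme.{u}) [IsNoetherian X] (I J : X.IdealSheafData)
    (h : (J.support : Set X) ⊆ I.support) (U : X.affineOpens) :
    ∃ n : ℕ, (I.ideal U) ^ n ≤ J.ideal U := by
  have hN : IsNoetherianRing Γ(X, U) := IsLocallyNoetherian.component_noetherian U
  have h1 : U.2.fromSpec '' PrimeSpectrum.zeroLocus (J.ideal U : Set Γ(X, U)) ⊆
      U.2.fromSpec '' PrimeSpectrum.zeroLocus (I.ideal U : Set Γ(X, U)) := by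
    rw [U.2.fromSpec_image_zeroLocus, U.2.fromSpec_image_zeroLocus,
      ← J.coe_support_inter U, ← I.coe_support_inter U]
    exact Set.inter_subset_inter_left _ h
  have h2 : PrimeSpectrum.zeroLocus (J.ideal U : Set Γ(X, U)) ⊆
      PrimeSpectrum.zeroLocus (I.ideal U : Set Γ(X, U)) := by
    rwa [Set.image_subset_image_iff U.2.fromSpec.isOpenEmbedding.injective] at h1
  rw [PrimeSpectrum.zeroLocus_subset_zeroLocus_iff] at h2
  exact Ideal.exists_pow_le_of_le_radical_of_fg h2 (IsNoetherian.noetherian _)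

open AlgebraicGeometry in
theorem result
    (X : Scheme.{u}) [IsNoetherian X] (I J : X.IdealSheafData)
    (h : (J.support : Set X) ⊆ I.support) :
    ∃ n : ℕ, I ^ (n + 1) ≤ J := by
  choose n hn using aux_local X I J h
  obtain ⟨t, ht⟩ := isCompact_univ.elim_finite_subcover
    (fun U : X.affineOpens ↦ ((U : X.Opens) : Set X)) (fun U ↦ U.1.2)
    (by
      have := congr_arg (fun V : X.Opens ↦ (V : Set X)) (iSup_affineOpens_eq_top X)
      simpa using this.ge)
  refine ⟨t.sup n, ?_⟩
  refine Scheme.IdealSheafData.le_of_iSup_eq_top (fun U : t ↦ U.1) ?_ ?_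
  · apply TopologicalSpace.Opens.ext
    apply Set.eq_univ_of_univ_subset
    intro x hx
    obtain ⟨U, hU, hxU⟩ := Set.mem_iUnion₂.mp (ht hx)
    simp only [TopologicalSpace.Opens.coe_iSup, Set.mem_iUnion]
    exact ⟨⟨U, hU⟩, hxU⟩
  · rintro ⟨U, hU⟩
    rw [Scheme.IdealSheafData.ideal_pow]
    refine le_trans (Ideal.pow_le_pow_right ?_) (hn U)
    exact (Finset.le_sup hU).trans (Nat.le_succ _)

end Groth.Agent.S3852
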