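import Groth.Statements.S3859
-- import your own Groth.Agent.* helpers here

set_option autoImplicit false
universe u
open FCompl

namespace Groth.Agent.S3859

open AlgebraicGeometry CategoryTheory CategoryTheory.Limits

section aux
variable {𝔛 𝔜 𝔖 : FSch.Sys.{u}} (f : 𝔛 ⟶ 𝔖) (g : 𝔜 ⟶ 𝔖)

theorem app_congr {𝔚 ℨ : FSch.Sys.{u}} {a b : 𝔚 ⟶ ℨ} (h : a = b) (n : ℕ) :
    (a : FSch.Hom 𝔚 ℨ).app n = (b : FSch.Hom 𝔚 ℨ).app n := by rw [h]

/-- the lift -/
noncomputable def lift {𝔚 : FSch.Sys.{u}} (a : 𝔚 ⟶ 𝔛) (b : 𝔚 ⟶ 𝔜) (h : a ≫ f = b ≫ g) :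
    𝔚 ⟶ FSch.pullbackSys f g :=
  ⟨fun n => pullback.lift ((a : FSch.Hom _ _).app n) ((b : FSch.Hom _ _).app n) (app_congr h n),
   fun n => by
    show pullback.lift ((a : FSch.Hom _ _).app n) ((b : FSch.Hom _ _).app n) (app_congr h n) ≫
      pullback.map ((f : FSch.Hom _ _).app n) ((g : FSch.Hom _ _).app n)
        ((f : FSch.Hom _ _).app (n + 1)) ((g : FSch.Hom _ _).app (n + 1)) (𝔛.ι n) (𝔜.ι n) (𝔖.ι n)
        ((f : FSch.Hom _ _).comm n) ((g : FSch.Hom _ _).comm n) =
      𝔚.ι n ≫ pullback.lift ((a : FSch.Hom _ _).app (n + 1)) ((b : FSch.Hom _ _).app (n + 1))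
        (app_congr h (n + 1))
    apply pullback.hom_ext
    · rw [Category.assoc, Category.assoc, pullback.lift_fst, pullback.lift_fst_assoc,
        pullback.lift_fst]
      exact (a : FSch.Hom _ _).comm n
    · rw [Category.assoc, Category.assoc, pullback.lift_snd, pullback.lift_snd_assoc,
        pullback.lift_snd]
      exact (b : FSch.Hom _ _).comm n⟩

theorem lift_app {𝔚 : FSch.Sys.{u}} (a : 𝔚 ⟶ 𝔛) (b : 𝔚 ⟶ 𝔜) (h : a ≫ f = b ≫ g) (n : ℕ) :
    (lift f g a b h : FSch.Hom _ _).app n =
      pullback.lift ((a : FSch.Hom _ _).app n) ((b : FSch.Hom _ _).app n) (app_congr h n) := rfl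

theorem main : IsPullback (FSch.pullbackFst f g) (FSch.pullbackSnd f g) f g := by
  refine ⟨⟨?_⟩, ⟨PullbackCone.IsLimit.mk _ (fun s => lift f g s.fst s.snd s.condition) ?_ ?_ ?_⟩⟩
  · apply FSch.Hom.ext
    funext n
    exact pullback.condition
  · intro s
    apply FSch.Hom.ext
    funext n
    exact pullback.lift_fst _ _ _
  · intro s
    apply FSch.Hom.ext
    funext n
    exact pullback.lift_snd _ _ _
  · intro s m h1 h2
    apply FSch.Hom.ext
    funext n
    have e1 : (m : FSch.Hom _ _).app n ≫ pullback.fst ((f : FSch.Hom _ _).app n)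
        ((g : FSch.Hom _ _).app n) = (s.fst : FSch.Hom _ _).app n := app_congr h1 n
    have e2 : (m : FSch.Hom _ _).app n ≫ pullback.snd ((f : FSch.Hom _ _).app n)
        ((g : FSch.Hom _ _).app n) = (s.snd : FSch.Hom _ _).app n := app_congr h2 n
    rw [lift_app]
    apply pullback.hom_ext
    · exact e1.trans (pullback.lift_fst _ _ _).symm
    · exact e2.trans (pullback.lift_snd _ _ _).symm

end aux

open AlgebraicGeometry in
open CategoryTheory in
/-- In the presentation by systems of thickenings: For morphisms of systems X -> S and Y -> S, the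
levelwise fibre product with its two projections is a fibre product in the category of systems; it
presents the fibre product of formal schemes when one factor is adic over the base, and otherwise
only up to cofinality of the levels. -/
theorem result {𝔛 𝔜 𝔖 : FSch.Sys.{u}} (f : 𝔛 ⟶ 𝔖) (g : 𝔜 ⟶ 𝔖) :
    IsPullback (FSch.pullbackFst f g) (FSch.pullbackSnd f g) f g := by
  exact main f g

end Groth.Agent.S3859
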