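import Groth.Statements.S3860
import Groth.Agent.Lib.Helper54.FSchSpf2
-- import your own Groth.Agent.* helpers here

set_option autoImplicit false
universe u
open FCompl

namespace Groth.Agent.S3860

open AlgebraicGeometry CategoryTheory CategoryTheory.Limits
open Groth.Agent.Lib.Helper54.FSchSpf

section aux
variable {A B : Type u} [CommRing A] [CommRing B] (I : Ideal A) (K : Ideal B)

section surj
variable (F : FSch.spf A I ⟶ FSch.spf B K)

/-- the level-`n` morphism as a morphism of spectra -/
noncomputable def Fapp (n : ℕ) :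
    Spec (CommRingCat.of (A ⧸ I ^ (n + 1))) ⟶ Spec (CommRingCat.of (B ⧸ K ^ (n + 1))) :=
  (F : FSch.Hom _ _).app n

/-- ring map at level n -/
noncomputable def g (n : ℕ) : B ⧸ K ^ (n + 1) →+* A ⧸ I ^ (n + 1) :=
  (Spec.preimage (Fapp I K F n)).hom

theorem map_g (n : ℕ) : Spec.map (CommRingCat.ofHom (g I K F n)) = Fapp I K F n :=
  Spec.map_preimage _

theorem Fapp_comm (n : ℕ) :
    Fapp I K F n ≫ spfTrans B K (Nat.le_add_right n 1) =
      spfTrans A I (Nat.le_add_right n 1) ≫ Fapp I K F (n + 1) :=
  (F : FSch.Hom _ _).comm n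

theorem g_comm (n : ℕ) :
    (g I K F n).comp (Ideal.Quotient.factor (pow_le_aux B K (Nat.le_add_right n 1))) =
      (Ideal.Quotient.factor (pow_le_aux A I (Nat.le_add_right n 1))).comp (g I K F (n + 1)) := by
  have h := Fapp_comm I K F n
  rw [← map_g, ← map_g] at h
  unfold spfTrans at h
  rw [← Spec.map_comp, ← Spec.map_comp] at h
  have h2 := Spec.map_injective h
  have h3 := congrArg CommRingCat.Hom.hom h2
  simpa using h3

/-- `B → A ⧸ I^(n+1)` -/
noncomputable def phiN (n : ℕ) : B →+* A ⧸ I ^ (n + 1) :=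
  (g I K F n).comp (Ideal.Quotient.mk (K ^ (n + 1)))

theorem phiN_succ (n : ℕ) :
    (Ideal.Quotient.factor (pow_le_aux A I (Nat.le_add_right n 1))).comp (phiN I K F (n + 1)) =
      phiN I K F n := by
  unfold phiN
  rw [← RingHom.comp_assoc, ← g_comm, RingHom.comp_assoc]
  congr 1

theorem phiN_le {m n : ℕ} (h : m ≤ n) :
    (Ideal.Quotient.factor (pow_le_aux A I h)).comp (phiN I K F n) = phiN I K F m := by
  induction n, h using Nat.le_induction with
  | base =>
    rw [Ideal.Quotient.factor_eq]
    rfl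
  | succ n hmn ih =>
    rw [← ih, ← phiN_succ I K F n, ← RingHom.comp_assoc, Ideal.Quotient.factor_comp]

/-- the compatible family `B → A ⧸ I^n` -/
noncomputable def fN (n : ℕ) : B →+* A ⧸ I ^ n :=
  (Ideal.Quotient.factorPow I (Nat.le_succ n)).comp (phiN I K F n)

theorem fN_compat {m n : ℕ} (hle : m ≤ n) :
    (Ideal.Quotient.factorPow I hle).comp (fN I K F n) = fN I K F m := by
  unfold fN
  rw [← phiN_le I K F hle]
  rw [← RingHom.comp_assoc, ← RingHom.comp_assoc]
  unfold Ideal.Quotient.factorPow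
  rw [Ideal.Quotient.factor_comp, Ideal.Quotient.factor_comp]

variable [IsAdicComplete I A]

/-- the lifted ring map -/
noncomputable def phi : B →+* A :=
  IsAdicComplete.liftRingHom I (fN I K F) (fun hle => fN_compat I K F hle)

theorem mk_phi (n : ℕ) (b : B) :
    Ideal.Quotient.mk (I ^ (n + 1)) (phi I K F b) = phiN I K F n b := by
  unfold phi
  rw [IsAdicComplete.mk_liftRingHom]
  show (Ideal.Quotient.factorPow I (Nat.le_succ (n + 1))) (phiN I K F (n + 1) b) = _
  rw [← phiN_succ I K F n]
  rfl

theorem phi_le : K ≤ I.comap (phi I K F) := by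
  intro b hb
  rw [Ideal.mem_comap]
  have h := mk_phi I K F 0 b
  have h2 : phiN I K F 0 b = 0 := by
    unfold phiN
    rw [RingHom.comp_apply]
    have : Ideal.Quotient.mk (K ^ (0 + 1)) b = 0 := by
      rw [Ideal.Quotient.eq_zero_iff_mem]
      simpa using hb
    rw [this, map_zero]
  rw [h2, Ideal.Quotient.eq_zero_iff_mem] at h
  simpa using h

theorem spfMap_phi : FSch.spfMap I K (phi I K F) (phi_le I K F) = F := by
  apply FSch.Hom.ext
  funext n
  rw [FSch.spfMap_app]
  show _ = Fapp I K F n
  rw [← map_g]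
  congr 2
  apply Ideal.Quotient.ringHom_ext
  ext b
  show Ideal.Quotient.mk (I ^ (n + 1)) (phi I K F b) = _
  rw [mk_phi]
  rfl

end surj

theorem main [IsAdicComplete I A] :
    Function.Bijective (fun φ : {φ : B →+* A // K ≤ I.comap φ} ↦ FSch.spfMap I K φ.1 φ.2) := by
  constructor
  · rintro ⟨φ, hφ⟩ ⟨ψ, hψ⟩ heq
    apply Subtype.ext
    show φ = ψ
    apply DFunLike.coe_injective
    apply IsHausdorff.funext' I
    intro n b
    have h1 : (FSch.spfMap I K φ hφ : FSch.Hom _ _).app n = (FSch.spfMap I K ψ hψ : FSch.Hom _ _).app n :=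
      congrArg (fun G : FSch.Hom _ _ => G.app n) heq
    rw [FSch.spfMap_app, FSch.spfMap_app] at h1
    have h2 := congrArg CommRingCat.Hom.hom (Spec.map_injective h1)
    have h3 : FSch.quotPowMap I K φ hφ n (Ideal.Quotient.mk _ b) =
        FSch.quotPowMap I K ψ hψ n (Ideal.Quotient.mk _ b) := by
      have : FSch.quotPowMap I K φ hφ n = FSch.quotPowMap I K ψ hψ n := h2
      rw [this]
    have h4 : Ideal.Quotient.mk (I ^ (n + 1)) (φ b) = Ideal.Quotient.mk (I ^ (n + 1)) (ψ b) := h3
    have h5 := congrArg (Ideal.Quotient.factorPow I (Nat.le_succ n)) h4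
    exact h5
  · intro F
    exact ⟨⟨phi I K F, phi_le I K F⟩, spfMap_phi I K F⟩

end aux

open AlgebraicGeometry in
/-- (Affine adic case; the formal spectra presented as the systems Spec(A/I^(n+1)) and Spec(B/K^(n+1)).)
Let I be an ideal of a ring A which is complete and separated for the I-adic topology, and K an
ideal of a ring B. Then φ ↦ (Spec of the induced maps B/K^(n+1) -> A/I^(n+1)) is a bijection from
the ring homomorphisms φ : B -> A with φ(K) ⊆ I onto the morphisms of systems from Spf(A) to Spf(B),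
i.e. the compatible families of morphisms Spec(A/I^(n+1)) -> Spec(B/K^(n+1)). -/
theorem result (A B : Type u) [CommRing A] [CommRing B] (I : Ideal A) (K : Ideal B)
    [IsAdicComplete I A] :
    Function.Bijective (fun φ : {φ : B →+* A // K ≤ I.comap φ} ↦ FSch.spfMap I K φ.1 φ.2) := by
  exact main I K

end Groth.Agent.S3860
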