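import Groth.Statements.S3861

set_option autoImplicit false
universe u
open FCompl

namespace Groth.Agent.S3861

lemma comap_mul_of_bijective {R S : Type*} [CommRing R] [CommRing S] (f : R →+* S)
    (hf : Function.Bijective f) (a b : Ideal S) :
    (a * b).comap f = a.comap f * b.comap f := by
  have key : ∀ I : Ideal S, I.comap f = I.map (RingEquiv.ofBijective f hf).symm := fun I =>
    (Ideal.map_symm (RingEquiv.ofBijective f hf)).symm
  rw [key, key, key, Ideal.map_mul]

open AlgebraicGeometry CategoryTheory in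
lemma comap_mul_of_isOpenImmersion {X Y : Scheme.{u}} (f : X ⟶ Y) [IsOpenImmersion f]
    (K₁ K₂ : Y.IdealSheafData) :
    (K₁ * K₂).comap f = K₁.comap f * K₂.comap f := by
  ext U : 2
  change _ = (K₁.comap f).ideal U * (K₂.comap f).ideal U
  rw [Scheme.IdealSheafData.ideal_comap_of_isOpenImmersion,
    Scheme.IdealSheafData.ideal_comap_of_isOpenImmersion,
    Scheme.IdealSheafData.ideal_comap_of_isOpenImmersion, Scheme.IdealSheafData.ideal_mul]
  exact comap_mul_of_bijective _ (ConcreteCategory.bijective_of_isIso (f.appIso U).inv) _ _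

open AlgebraicGeometry CategoryTheory in
lemma ideal_top_comap_of_isAffine {X Y : Scheme.{u}} [IsAffine X] [IsAffine Y] (g : X ⟶ Y)
    (J : Y.IdealSheafData) :
    (J.comap g).ideal ⟨⊤, isAffineOpen_top X⟩ =
      (J.ideal ⟨⊤, isAffineOpen_top Y⟩).map g.appTop.hom := by
  refine eq_of_forall_ge_iff fun c ↦ ?_
  have hK : (Scheme.IdealSheafData.ofIdealTop c).ideal ⟨⊤, isAffineOpen_top X⟩ = c := by simp
  have h1 : (J.comap g).ideal ⟨⊤, isAffineOpen_top X⟩ ≤ c ↔
      J.comap g ≤ Scheme.IdealSheafData.ofIdealTop c := by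
    constructor
    · intro h
      exact Scheme.IdealSheafData.le_of_isAffine (hK.symm ▸ h)
    · intro h
      exact hK ▸ h ⟨⊤, isAffineOpen_top X⟩
  have h2 : J ≤ (Scheme.IdealSheafData.ofIdealTop c).map g ↔
      J.ideal ⟨⊤, isAffineOpen_top Y⟩ ≤
        ((Scheme.IdealSheafData.ofIdealTop c).map g).ideal ⟨⊤, isAffineOpen_top Y⟩ :=
    ⟨fun h ↦ h _, Scheme.IdealSheafData.le_of_isAffine⟩
  have h3 : ((Scheme.IdealSheafData.ofIdealTop c).map g).ideal ⟨⊤, isAffineOpen_top Y⟩ =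
      c.comap g.appTop.hom := by
    rw [Scheme.IdealSheafData.ideal_map_of_isAffineHom]
    exact congr_arg (Ideal.comap g.appTop.hom) hK
  rw [h1, ← Scheme.IdealSheafData.le_map_iff_comap_le, h2, h3, Ideal.map_le_iff_le_comap]

open AlgebraicGeometry CategoryTheory in
lemma comap_mul_of_isAffine {X Y : Scheme.{u}} [IsAffine X] [IsAffine Y] (g : X ⟶ Y)
    (K₁ K₂ : Y.IdealSheafData) :
    (K₁ * K₂).comap g = K₁.comap g * K₂.comap g := by
  apply Scheme.IdealSheafData.ext_of_isAffine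
  change _ = (K₁.comap g).ideal _ * (K₂.comap g).ideal _
  rw [ideal_top_comap_of_isAffine, ideal_top_comap_of_isAffine, ideal_top_comap_of_isAffine,
    Scheme.IdealSheafData.ideal_mul]
  exact Ideal.map_mul _ _ _

open AlgebraicGeometry CategoryTheory in
lemma ideal_eq_of_comap_ι_eq {X : Scheme.{u}} (L R : X.IdealSheafData) (U : X.affineOpens)
    (h : L.comap U.1.ι = R.comap U.1.ι) : L.ideal U = R.ideal U := by
  have h1 := congr_arg (fun I : (U.1 : Scheme.{u}).IdealSheafData ↦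
    I.ideal ⟨⊤, isAffineOpen_top _⟩) h
  simp only [Scheme.IdealSheafData.ideal_comap_of_isOpenImmersion] at h1
  have h2 := Ideal.comap_injective_of_surjective _
    (ConcreteCategory.bijective_of_isIso (U.1.ι.appIso ⊤).inv).2 h1
  have h3 : (⟨U.1.ι ''ᵁ ⊤, (isAffineOpen_top _).image_of_isOpenImmersion U.1.ι⟩ : X.affineOpens)
      = U := Subtype.ext (by simp)
  have h4 : ∀ W : X.affineOpens, W = U → L.ideal W = R.ideal W → L.ideal U = R.ideal U := by
    rintro W rfl h
    exact h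
  exact h4 _ h3 h2

open AlgebraicGeometry CategoryTheory in
theorem result {X Y : Scheme.{u}} (f : X ⟶ Y) (K₁ K₂ : Y.IdealSheafData) :
    (K₁ * K₂).comap f = K₁.comap f * K₂.comap f := by
  have key : ∀ (U : X.affineOpens) (V : Y.affineOpens) (e : U.1 ≤ f ⁻¹ᵁ V.1),
      ((K₁ * K₂).comap f).comap U.1.ι = (K₁.comap f * K₂.comap f).comap U.1.ι := by
    intro U V e
    have hU : IsAffine U.1 := U.2
    have hV : IsAffine V.1 := V.2
    have hc : ∀ K : Y.IdealSheafData, (K.comap f).comap U.1.ι =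
        (K.comap V.1.ι).comap (f.resLE V.1 U.1 e) := by
      intro K
      rw [← Scheme.IdealSheafData.comap_comp, ← Scheme.IdealSheafData.comap_comp,
        Scheme.Hom.resLE_comp_ι f e]
    rw [comap_mul_of_isOpenImmersion U.1.ι, hc, hc, hc, comap_mul_of_isOpenImmersion V.1.ι,
      comap_mul_of_isAffine]
  refine Scheme.IdealSheafData.ext_of_iSup_eq_top
    (ι := { p : X.affineOpens × Y.affineOpens // p.1.1 ≤ f ⁻¹ᵁ p.2.1 }) (fun p ↦ p.1.1) ?_ ?_
  · apply TopologicalSpace.Opens.ext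
    apply Set.eq_univ_of_univ_subset
    intro x _
    obtain ⟨V, hV, hxV⟩ : ∃ V : Y.Opens, IsAffineOpen V ∧ f x ∈ V := by
      obtain ⟨_, ⟨V, hV : IsAffineOpen V, rfl⟩, hxV, -⟩ :=
        Y.isBasis_affineOpens.exists_subset_of_mem_open (Set.mem_univ (f x)) isOpen_univ
      exact ⟨V, hV, hxV⟩
    obtain ⟨_, ⟨U, hU : IsAffineOpen U, rfl⟩, hxU, hUV⟩ :=
      X.isBasis_affineOpens.exists_subset_of_mem_open (show x ∈ (f ⁻¹ᵁ V : Set X) from hxV)
        (f ⁻¹ᵁ V).2
    simp only [TopologicalSpace.Opens.coe_iSup, Set.mem_iUnion]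
    exact ⟨⟨(⟨U, hU⟩, ⟨V, hV⟩), hUV⟩, hxU⟩
  · rintro ⟨⟨U, V⟩, e⟩
    exact ideal_eq_of_comap_ι_eq _ _ U (key U V e)

end Groth.Agent.S3861
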