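import Groth.Statements.S3865
import Groth.Agent.Lib.Helper54.FSchAdic
-- import your own Groth.Agent.* helpers here

set_option autoImplicit false
universe u
open FCompl

namespace Groth.Agent.S3865

open AlgebraicGeometry CategoryTheory CategoryTheory.Limits
open Groth.Agent.Lib.Helper54.FSchSpf

section aux
variable (𝔛 : FSch.Sys.{u}) (𝒜 : ∀ n, (𝔛.X n).IdealSheafData)
  (h : ∀ n, (𝒜 (n + 1)).comap (𝔛.ι n) = 𝒜 n)

theorem isAdicHom_subSysι : FSch.IsAdicHom (FSch.subSysι 𝔛 𝒜 (fun n ↦ (h n).le)) := by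
  intro n
  refine (isPullback_of_isClosedImmersion (𝒜 n).subschemeι (𝒜 (n + 1)).subschemeι
    ((FSch.subSys 𝔛 𝒜 (fun n ↦ (h n).le)).ι n) (𝔛.ι n) ?_ ?_).flip
  · exact (FSch.subSysι 𝔛 𝒜 (fun n ↦ (h n).le) : FSch.Hom _ _).comm n
  · rw [Scheme.IdealSheafData.ker_subschemeι, Scheme.IdealSheafData.ker_subschemeι]
    exact h n

theorem main (h𝔛 : 𝔛.IsLocNoethFormal) :
    (FSch.subSys 𝔛 𝒜 (fun n ↦ (h n).le)).IsLocNoethFormal ∧
      FSch.IsAdicHom (FSch.subSysι 𝔛 𝒜 (fun n ↦ (h n).le)) := by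
  have hadic := isAdicHom_subSysι 𝔛 𝒜 h
  refine ⟨⟨isFormal_of_isAdicHom _ hadic h𝔛.1, isAdic_of_isAdicHom _ hadic h𝔛.1 h𝔛.2.1,
    fun n => ?_⟩, hadic⟩
  have := h𝔛.2.2 n
  show IsLocallyNoetherian (𝒜 n).subscheme
  exact LocallyOfFiniteType.isLocallyNoetherian (𝒜 n).subschemeι

end aux

open AlgebraicGeometry in
/-- A formal scheme is presented as a system of thickenings (X_n)_n, and a coherent ideal of it as a
family of ideal sheaves A_n on the levels X_n, each A_n equal to the inverse image ideal of A_(n+1)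
under X_n → X_(n+1). Let (X_n) be a locally Noetherian adic formal system and (A_n) such a family.
Then the closed subschemes Y_n cut out by the A_n, with the induced transition maps, form a locally
Noetherian adic formal system, and its inclusion into (X_n) is adic: every square Y_n → Y_(n+1), X_n
→ X_(n+1) is cartesian. -/
theorem result (𝔛 : FSch.Sys.{u}) (h𝔛 : 𝔛.IsLocNoethFormal)
    (𝒜 : ∀ n, (𝔛.X n).IdealSheafData) (h : ∀ n, (𝒜 (n + 1)).comap (𝔛.ι n) = 𝒜 n) :
    (FSch.subSys 𝔛 𝒜 (fun n ↦ (h n).le)).IsLocNoethFormal ∧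
      FSch.IsAdicHom (FSch.subSysι 𝔛 𝒜 (fun n ↦ (h n).le)) := by
  exact main 𝔛 𝒜 h h𝔛

end Groth.Agent.S3865
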