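import Groth.Statements.S3868
import Groth.Agent.Lib.Helper54.AdicLimit
import Groth.Agent.Lib.Helper54.FSchThick
import Groth.Agent.Lib.Helper6.ThickIsAffine
import Groth.Agent.S3856

set_option autoImplicit false
universe u
open FCompl

namespace Groth.Agent.S3868

open AlgebraicGeometry CategoryTheory
open Groth.Agent.Lib.Helper54 Groth.Agent.Lib.Helper54.FSchSpf

/-- a morphism of systems which is levelwise an isomorphism is an isomorphism -/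
noncomputable def isoOfApp {𝔛 𝔜 : FSch.Sys.{u}} (f : 𝔛 ⟶ 𝔜)
    (h : ∀ n, IsIso ((f : FSch.Hom 𝔛 𝔜).app n)) : 𝔛 ≅ 𝔜 where
  hom := f
  inv := ⟨fun n => inv ((f : FSch.Hom 𝔛 𝔜).app n), fun n => by
    rw [IsIso.inv_comp_eq, ← Category.assoc, IsIso.eq_comp_inv]
    exact ((f : FSch.Hom 𝔛 𝔜).comm n).symm⟩
  hom_inv_id := FSch.Hom.ext (funext fun n => IsIso.hom_inv_id _)
  inv_hom_id := FSch.Hom.ext (funext fun n => IsIso.inv_hom_id _)

theorem surjective_toX' {𝔖 : FSch.Sys.{u}} (h𝔖 : 𝔖.IsFormal) (n : ℕ) :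
    Function.Surjective (𝔖.toX n) := by
  induction n with
  | zero => exact fun x => ⟨x, rfl⟩
  | succ n ih =>
    show Function.Surjective (𝔖.toX n ≫ 𝔖.ι n)
    rw [Scheme.Hom.comp_base, TopCat.coe_comp]
    exact (h𝔖 n).2.comp ih

theorem isAffine_level (𝔛 : FSch.Sys.{u}) (hF : 𝔛.IsFormal) [IsAffine (𝔛.X 0)] (n : ℕ) :
    IsAffine (𝔛.X n) := by
  have := isClosedImmersion_toX hF n
  exact Groth.Agent.Lib.Helper6.ThickIsAffine.isAffine_of_thickening (𝔛.toX n)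
    (surjective_toX' hF n)

section Rings

variable (𝔛 : FSch.Sys.{u})

/-- the ring of global sections at level `n` -/
abbrev R (n : ℕ) : Type u := Γ(𝔛.X n, ⊤)

/-- transition maps on global sections -/
noncomputable abbrev ρ (n : ℕ) : R 𝔛 (n + 1) →+* R 𝔛 n := (𝔛.ι n).appTop.hom

theorem toZero_eq (n : ℕ) : AdicLimit.toZero (ρ 𝔛) n = (𝔛.toX n).appTop.hom := by
  induction n with
  | zero =>
    show RingHom.id _ = (𝟙 (𝔛.X 0) : 𝔛.X 0 ⟶ 𝔛.X 0).appTop.hom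
    rw [Scheme.Hom.id_appTop]
    rfl
  | succ n ih =>
    show (AdicLimit.toZero (ρ 𝔛) n).comp (ρ 𝔛 n) = (𝔛.toX n ≫ 𝔛.ι n).appTop.hom
    rw [ih, Scheme.Hom.comp_appTop, CommRingCat.hom_comp]

variable (hF : 𝔛.IsFormal) (hA : 𝔛.IsAdic) [IsAffine (𝔛.X 0)]

theorem K_eq (n : ℕ) (hn : IsAffine (𝔛.X n)) :
    AdicLimit.K (ρ 𝔛) n = (𝔛.toX n).ker.ideal ⟨⊤, isAffineOpen_top _⟩ := by
  rw [AdicLimit.K, toZero_eq, Scheme.Hom.ker_apply]
  rfl

include hF in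
theorem ρ_surjective (n : ℕ) : Function.Surjective (ρ 𝔛 n) := by
  have := (hF n).1
  have := isAffine_level 𝔛 hF (n + 1)
  exact (IsClosedImmersion.isAffine_surjective_of_isAffine (𝔛.ι n)).2

include hF hA in
theorem hadic (n : ℕ) : RingHom.ker (ρ 𝔛 n) = AdicLimit.K (ρ 𝔛) (n + 1) ^ (n + 1) := by
  have h1 := isAffine_level 𝔛 hF (n + 1)
  have hci := (hF n).1
  rw [K_eq 𝔛 (n + 1) h1]
  have h2 : (𝔛.ι n).ker.ideal ⟨⊤, isAffineOpen_top _⟩ = RingHom.ker (ρ 𝔛 n) := by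
    rw [Scheme.Hom.ker_apply]
    rfl
  rw [← h2, hA n]
  rfl

include hF in
theorem hfg (hft : FSch.IdealFT (𝔛.ι 0).ker) : (RingHom.ker (ρ 𝔛 0)).FG := by
  have h1 := isAffine_level 𝔛 hF (0 + 1)
  have hci := (hF 0).1
  have h2 : (𝔛.ι 0).ker.ideal ⟨⊤, isAffineOpen_top _⟩ = RingHom.ker (ρ 𝔛 0) := by
    rw [Scheme.Hom.ker_apply]
    rfl
  rw [← h2]
  exact hft _

end Rings

section Assembly

variable (𝔛 : FSch.Sys.{u}) (hF : 𝔛.IsFormal) (hA : 𝔛.IsAdic) [IsAffine (𝔛.X 0)]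
  (hft : FSch.IdealFT (𝔛.ι 0).ker)

/-- the limit ring -/
abbrev L : Type u := AdicLimit.Lim (ρ 𝔛)

/-- the ideal of definition -/
noncomputable abbrev J : Ideal (L 𝔛) := RingHom.ker (AdicLimit.proj (ρ 𝔛) 0)

/-- the comparison `L/J^(n+1) → Γ(X_n)` -/
noncomputable abbrev q (n : ℕ) : L 𝔛 ⧸ J 𝔛 ^ (n + 1) →+* R 𝔛 n :=
  AdicLimit.q (ρ 𝔛) (ρ_surjective 𝔛 hF) (hadic 𝔛 hF hA) (hfg 𝔛 hF hft) n

/-- the levelwise comparison morphism -/
noncomputable def appn (n : ℕ) (hn : IsAffine (𝔛.X n)) :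
    𝔛.X n ⟶ Spec (CommRingCat.of (L 𝔛 ⧸ J 𝔛 ^ (n + 1))) :=
  (𝔛.X n).isoSpec.hom ≫ Spec.map (CommRingCat.ofHom (q 𝔛 hF hA hft n))

theorem isIso_appn (n : ℕ) (hn : IsAffine (𝔛.X n)) : IsIso (appn 𝔛 hF hA hft n hn) := by
  have h1 : IsIso (CommRingCat.ofHom (q 𝔛 hF hA hft n)) := by
    rw [ConcreteCategory.isIso_iff_bijective]
    exact AdicLimit.q_bijective (ρ 𝔛) (ρ_surjective 𝔛 hF) (hadic 𝔛 hF hA) (hfg 𝔛 hF hft) n
  unfold appn
  infer_instance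

theorem appn_comm (n : ℕ) (hn : IsAffine (𝔛.X n)) (hn1 : IsAffine (𝔛.X (n + 1))) :
    appn 𝔛 hF hA hft n hn ≫ spfTrans (L 𝔛) (J 𝔛) (Nat.le_succ n) =
      𝔛.ι n ≫ appn 𝔛 hF hA hft (n + 1) hn1 := by
  unfold appn
  rw [spfTrans, Category.assoc, ← Spec.map_comp, ← Category.assoc,
    ← Scheme.isoSpec_hom_naturality, Category.assoc, ← Spec.map_comp]
  congr 2
  ext1
  exact AdicLimit.q_comm (ρ 𝔛) (ρ_surjective 𝔛 hF) (hadic 𝔛 hF hA) (hfg 𝔛 hF hft) n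
    (pow_le_aux (L 𝔛) (J 𝔛) (Nat.le_succ n))

end Assembly

open AlgebraicGeometry in
open CategoryTheory in

open AlgebraicGeometry in
open CategoryTheory in
/-- (Systems of thickenings.) Let (X_n) be a system of schemes whose transition maps are surjective
closed immersions, with the kernel ideal of X_n -> X_(n+1) the (n+1)-st power of that of X_0 ->
X_(n+1), X_0 affine and locally Noetherian, and the kernel ideal of X_0 -> X_1 of finite type. Then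
the system is isomorphic to the formal spectrum Spec(A/J) -> Spec(A/J^2) -> ... of some Noetherian
ring A complete and separated for the J-adic topology, J an ideal of A. -/
theorem result (𝔛 : FSch.Sys.{u}) (hF : 𝔛.IsFormal) (hA : 𝔛.IsAdic)
    [IsAffine (𝔛.X 0)] [IsLocallyNoetherian (𝔛.X 0)] (hft : FSch.IdealFT (𝔛.ι 0).ker) :
    ∃ (A : Type u) (_ : CommRing A) (J : Ideal A),
      IsNoetherianRing A ∧ IsAdicComplete J A ∧ Nonempty (𝔛 ≅ FSch.spf A J) := by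
  have haff : ∀ n, IsAffine (𝔛.X n) := isAffine_level 𝔛 hF
  have hnoeth1 : IsNoetherianRing (R 𝔛 1) := by
    have h1 : IsLocallyNoetherian (𝔛.X 1) := isLocallyNoetherian_of_idealFT 𝔛 hF hA hft 1
    have h2 := haff 1
    exact IsLocallyNoetherian.component_noetherian (X := 𝔛.X 1) ⟨⊤, isAffineOpen_top _⟩
  refine ⟨L 𝔛, inferInstance, J 𝔛, ?_, ?_, ⟨?_⟩⟩
  · exact AdicLimit.isNoetherianRing_lim (ρ 𝔛) (ρ_surjective 𝔛 hF) (hadic 𝔛 hF hA) (hfg 𝔛 hF hft)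
  · exact AdicLimit.isAdicComplete (ρ 𝔛) (ρ_surjective 𝔛 hF) (hadic 𝔛 hF hA) (hfg 𝔛 hF hft)
  · let f : 𝔛 ⟶ FSch.spf (L 𝔛) (J 𝔛) :=
      (⟨fun n => appn 𝔛 hF hA hft n (haff n),
        fun n => appn_comm 𝔛 hF hA hft n (haff n) (haff (n + 1))⟩ : FSch.Hom 𝔛 (FSch.spf (L 𝔛) (J 𝔛)))
    exact isoOfApp f (fun n => isIso_appn 𝔛 hF hA hft n (haff n))

end Groth.Agent.S3868
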