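import Groth.Statements.S3872
import Mathlib.Tactic
import Mathlib.RingTheory.AdicCompletion.Algebra
import Mathlib.RingTheory.LocalRing.ResidueField.Basic
import Mathlib.RingTheory.Localization.AtPrime.Basic
-- import your own Groth.Agent.* helpers here

set_option autoImplicit false
universe u
open FCompl

namespace Groth.Agent.S3872


/-- `complMap` on elements coming from the ring. -/
lemma complMap_of {S T : Type u} [CommRing S] [CommRing T] (I : Ideal S) (K : Ideal T) (g : S →+* T)
    (h : I.map g ≤ K) (z : S) :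
    FSch.complMap I K g h (AdicCompletion.of I S z) = AdicCompletion.of K T (g z) := by
  apply AdicCompletion.ext_evalₐ
  intro n
  have e1 : AdicCompletion.evalₐ K n (FSch.complMap I K g h (AdicCompletion.of I S z)) =
      ((Ideal.quotientMap (K ^ n) g (FSch.pow_le_comap_pow_of_map_le I K g h n)).comp
        (AdicCompletion.evalₐ I n).toRingHom) (AdicCompletion.of I S z) := by
    unfold FSch.complMap
    rw [AdicCompletion.evalₐ_liftRingHom]
    intro m n hle
    apply RingHom.ext
    intro x
    obtain ⟨y, rfl⟩ := AdicCompletion.mk_surjective I S x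
    simp only [RingHom.coe_comp, Function.comp_apply, AlgHom.toRingHom_eq_coe, AlgHom.coe_toRingHom,
      AdicCompletion.evalₐ_mk, Ideal.quotientMap_mk, Ideal.Quotient.factorPow, Ideal.Quotient.factor_mk]
    rw [Ideal.Quotient.eq]
    have hy := y.2 hle
    rw [SModEq.sub_mem] at hy
    simp only [smul_eq_mul, Ideal.mul_top] at hy
    rw [← map_sub]
    have hy' : (y : ℕ → S) n - (y : ℕ → S) m ∈ I ^ m := by
      rw [← neg_sub]; exact (I ^ m).neg_mem hy
    exact FSch.pow_le_comap_pow_of_map_le I K g h m hy'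
  rw [e1]
  simp

/-- Every element of `A_𝔭` comes from some `A_s`, `s ∉ 𝔭`. -/
lemma exists_away (A : Type u) [CommRing A] (𝔭 : Ideal A) [𝔭.IsPrime] (l : Localization.AtPrime 𝔭) :
    ∃ (s : A) (hs : s ∉ 𝔭) (z : Localization.Away s), FSch.awayToAtPrime A 𝔭 s hs z = l := by
  obtain ⟨a, ⟨s, hs⟩, rfl⟩ := IsLocalization.exists_mk'_eq 𝔭.primeCompl l
  refine ⟨s, hs, IsLocalization.mk' (Localization.Away s) a
    (⟨s, Submonoid.mem_powers s⟩ : Submonoid.powers s), ?_⟩
  rw [IsLocalization.eq_mk'_iff_mul_eq]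
  have h1 : FSch.awayToAtPrime A 𝔭 s hs (algebraMap A (Localization.Away s) s) =
      algebraMap A (Localization.AtPrime 𝔭) s := by
    simp [FSch.awayToAtPrime]
  have h2 : FSch.awayToAtPrime A 𝔭 s hs (algebraMap A (Localization.Away s) a) =
      algebraMap A (Localization.AtPrime 𝔭) a := by
    simp [FSch.awayToAtPrime]
  rw [← h1, ← map_mul, ← h2]
  congr 1
  exact IsLocalization.mk'_spec _ _ _

/-- The image of `A_𝔭` in its completion lies in the stalk subring. -/
lemma of_mem_stalkSubring (A : Type u) [CommRing A] (J : Ideal A) (𝔭 : Ideal A) [𝔭.IsPrime]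
    (l : Localization.AtPrime 𝔭) :
    algebraMap (Localization.AtPrime 𝔭) (FSch.cAtPrime A J 𝔭) l ∈ FSch.stalkSubring A J 𝔭 := by
  obtain ⟨s, hs, z, rfl⟩ := exists_away A 𝔭 l
  unfold FSch.stalkSubring
  refine (le_iSup (fun f : {f : A // f ∉ 𝔭} => (FSch.cAwayToAtPrime A J 𝔭 f.1 f.2).range)
    ⟨s, hs⟩) ?_
  refine ⟨AdicCompletion.of _ _ z, ?_⟩
  unfold FSch.cAwayToAtPrime
  rw [complMap_of]
  rfl

/-- For a ring A, an ideal J and a prime ideal 𝔭 with J ⊆ 𝔭, let A{S⁻¹}, S = A ∖ 𝔭, be the completion of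
A_𝔭 for the topology defined by the extension of J, and A_{S} the subring of A{S⁻¹} generated by the
images of the completed localizations A_{f}, f ∉ 𝔭 (the stalk ring of Spf(A) at 𝔭). Given that A_{S}
and A{S⁻¹} are local rings and that the inclusion A_{S} → A{S⁻¹} and the canonical map A_𝔭 → A{S⁻¹}
are local homomorphisms (all four are carried here as instance hypotheses; the two about A_{S} are
stated separately), both maps induce bijections on residue fields; so the residue field of A_{S} is
the residue field κ(𝔭) of A_𝔭. -/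
theorem result (A : Type u) [CommRing A] (J : Ideal A) (𝔭 : Ideal A)
    [𝔭.IsPrime] (hJ : J ≤ 𝔭) [IsLocalRing (FSch.stalkSubring A J 𝔭)] [IsLocalRing (FSch.cAtPrime A J 𝔭)]
    [IsLocalHom (FSch.stalkSubring A J 𝔭).subtype]
    [IsLocalHom (algebraMap (Localization.AtPrime 𝔭) (FSch.cAtPrime A J 𝔭))] :
    Function.Bijective (IsLocalRing.ResidueField.map (FSch.stalkSubring A J 𝔭).subtype) ∧
      Function.Bijective
        (IsLocalRing.ResidueField.map (algebraMap (Localization.AtPrime 𝔭) (FSch.cAtPrime A J 𝔭))) := by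
  classical
  -- key: every element of the completion is congruent to an element of `A_𝔭` modulo the maximal ideal
  have key : ∀ x : FSch.cAtPrime A J 𝔭, ∃ l : Localization.AtPrime 𝔭,
      IsLocalRing.residue (FSch.cAtPrime A J 𝔭) x =
        IsLocalRing.residue (FSch.cAtPrime A J 𝔭)
          (algebraMap (Localization.AtPrime 𝔭) (FSch.cAtPrime A J 𝔭) l) := by
    intro x
    set IL : Ideal (Localization.AtPrime 𝔭) := J.map (algebraMap A (Localization.AtPrime 𝔭)) with hIL
    obtain ⟨l, hl⟩ := Ideal.Quotient.mk_surjective (AdicCompletion.evalOneₐ IL x)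
    refine ⟨l, ?_⟩
    rw [← sub_eq_zero, ← map_sub, IsLocalRing.residue_eq_zero_iff]
    have hker : RingHom.ker (AdicCompletion.evalOneₐ IL).toRingHom ≤
        IsLocalRing.maximalIdeal (FSch.cAtPrime A J 𝔭) := by
      apply IsLocalRing.le_maximalIdeal
      intro htop
      have h1 : (1 : FSch.cAtPrime A J 𝔭) ∈ RingHom.ker (AdicCompletion.evalOneₐ IL).toRingHom := by
        rw [htop]; trivial
      rw [RingHom.mem_ker] at h1
      have h2 : (AdicCompletion.evalOneₐ IL).toRingHom 1 = 1 := map_one _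
      rw [h2] at h1
      have h3 : (1 : Localization.AtPrime 𝔭) ∈ IL := by
        rw [← Ideal.Quotient.eq_zero_iff_mem]
        exact h1
      have h4 : IL ≤ IsLocalRing.maximalIdeal (Localization.AtPrime 𝔭) := by
        rw [← Localization.AtPrime.map_eq_maximalIdeal]
        exact Ideal.map_mono hJ
      exact (IsLocalRing.maximalIdeal.isMaximal _).ne_top
        ((Ideal.eq_top_iff_one _).2 (h4 h3))
    apply hker
    rw [RingHom.mem_ker, map_sub, sub_eq_zero]
    change AdicCompletion.evalOneₐ IL x = AdicCompletion.evalOneₐ IL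
      (algebraMap (Localization.AtPrime 𝔭) (FSch.cAtPrime A J 𝔭) l)
    rw [AdicCompletion.algebraMap_apply, ← hl]
    rfl
  refine ⟨⟨RingHom.injective _, ?_⟩, ⟨RingHom.injective _, ?_⟩⟩
  · intro y
    obtain ⟨x, rfl⟩ := IsLocalRing.residue_surjective y
    obtain ⟨l, hl⟩ := key x
    refine ⟨IsLocalRing.residue _ ⟨_, of_mem_stalkSubring A J 𝔭 l⟩, ?_⟩
    rw [IsLocalRing.ResidueField.map_residue, hl]
    rfl
  · intro y
    obtain ⟨x, rfl⟩ := IsLocalRing.residue_surjective y
    obtain ⟨l, hl⟩ := key x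
    refine ⟨IsLocalRing.residue _ l, ?_⟩
    rw [IsLocalRing.ResidueField.map_residue, hl]

end Groth.Agent.S3872
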