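import Groth.Statements.S3873
import Mathlib.Tactic
import Mathlib.AlgebraicGeometry.Pullbacks
import Mathlib.AlgebraicGeometry.IdealSheaf.Functorial
-- import your own Groth.Agent.* helpers here

set_option autoImplicit false
universe u
open FCompl

namespace Groth.Agent.S3873


open AlgebraicGeometry CategoryTheory CategoryTheory.Limits in
/-- The pushout square `B → A`, `B → B/𝔟`, `A → A/𝔟A`, `B/𝔟 → A/𝔟A` in commutative rings. -/
lemma isPushout_quot (A B : Type u) [CommRing A] [CommRing B] (φ : B →+* A) (𝔟 : Ideal B) :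
    IsPushout (CommRingCat.ofHom φ) (CommRingCat.ofHom (Ideal.Quotient.mk 𝔟))
      (CommRingCat.ofHom (Ideal.Quotient.mk (𝔟.map φ)))
      (CommRingCat.ofHom (Ideal.quotientMap (𝔟.map φ) φ Ideal.le_comap_map)) := by
  refine ⟨⟨?_⟩, ⟨PushoutCocone.IsColimit.mk _ (fun s => CommRingCat.ofHom
    (Ideal.Quotient.lift (𝔟.map φ) s.inl.hom ?_)) ?_ ?_ ?_⟩⟩
  · ext b
    simp
  · intro a ha
    have hle : 𝔟.map φ ≤ RingHom.ker s.inl.hom := by
      rw [Ideal.map_le_iff_le_comap]
      intro b hb
      rw [Ideal.mem_comap, RingHom.mem_ker]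
      have h1 := congrArg (fun k => k.hom b) s.condition
      simp only [CommRingCat.hom_comp, CommRingCat.hom_ofHom, RingHom.coe_comp,
        Function.comp_apply] at h1
      rw [h1, (Ideal.Quotient.eq_zero_iff_mem).2 hb, map_zero]
    exact hle ha
  · intro s
    ext a
    simp
  · intro s
    ext b
    have h1 := congrArg (fun k => k.hom b) s.condition
    simp only [CommRingCat.hom_comp, CommRingCat.hom_ofHom, RingHom.coe_comp,
      Function.comp_apply] at h1
    simp [h1]
  · intro s m hm1 _
    ext a
    have h1 := congrArg (fun k => k.hom a) hm1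
    simpa using h1

open AlgebraicGeometry in
/-- Its content on the affine schemes underlying the formal spectra: the inverse image ideal of b^Δ is
(bA)^Δ, read on Spec: For a ring homomorphism φ : B -> A and an ideal b of B, the inverse image
along Spec(φ) of the ideal sheaf of b on Spec B is the ideal sheaf on Spec A of the ideal generated
by φ(b). -/
theorem result (A B : Type u) [CommRing A] [CommRing B] (φ : B →+* A) (𝔟 : Ideal B) :
    (FSch.idealSpec B 𝔟).comap (Spec.map (CommRingCat.ofHom φ)) = FSch.idealSpec A (𝔟.map φ) := by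
  classical
  have hpb := AlgebraicGeometry.isPullback_SpecMap_of_isPushout _ _ _ _ (isPushout_quot A B φ 𝔟)
  unfold FSch.idealSpec
  have : AlgebraicGeometry.IsClosedImmersion
      (AlgebraicGeometry.Spec.map (CommRingCat.ofHom (Ideal.Quotient.mk 𝔟))) :=
    AlgebraicGeometry.IsClosedImmersion.spec_of_surjective _ Ideal.Quotient.mk_surjective
  rw [← AlgebraicGeometry.Scheme.IdealSheafData.ker_fst_of_isClosedImmersion]
  rw [← AlgebraicGeometry.Scheme.Hom.ker_comp_of_isIso hpb.isoPullback.hom, hpb.isoPullback_hom_fst]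

end Groth.Agent.S3873
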