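import Groth.Statements.S3874
import Mathlib.Tactic
import Mathlib.RingTheory.AdicCompletion.Completeness
import Mathlib.RingTheory.Localization.Ideal
import Mathlib.RingTheory.Localization.Away.Basic
-- import your own Groth.Agent.* helpers here

set_option autoImplicit false
universe u
open FCompl

namespace Groth.Agent.S3874


/-- For a finitely generated ideal, the kernel of `Â → R/I^n` is `(I Â)^n`. -/
lemma ker_evalₐ_eq {R : Type u} [CommRing R] (I : Ideal R) (hI : I.FG) (n : ℕ) :
    RingHom.ker (AdicCompletion.evalₐ I n).toRingHom =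
      (I.map (algebraMap R (AdicCompletion I R))) ^ n := by
  ext x
  rw [RingHom.mem_ker, ← Ideal.map_pow]
  have h1 : x ∈ (I ^ n).map (algebraMap R (AdicCompletion I R)) ↔
      x ∈ (I ^ n • ⊤ : Submodule R (AdicCompletion I R)) := by
    rw [Ideal.smul_top_eq_map]; rfl
  rw [h1, AdicCompletion.pow_smul_top_eq_ker_eval hI, LinearMap.mem_ker]
  have h2 : (I ^ n • ⊤ : Ideal R) = I ^ n := by ext x; simp
  constructor
  · intro hx
    have := AdicCompletion.factor_evalₐ_eq_eval I x (le_of_eq h2.symm)
    rw [← this]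
    change Ideal.Quotient.factor _ ((AdicCompletion.evalₐ I n) x) = 0
    have hx' : (AdicCompletion.evalₐ I n) x = 0 := hx
    rw [hx', map_zero]
  · intro hx
    change (AdicCompletion.evalₐ I n) x = 0
    rw [← AdicCompletion.factor_eval_eq_evalₐ I x (le_of_eq h2), hx, map_zero]

/-- Let A be a Noetherian ring, J an ideal, f ∈ A and n ≥ 0, and let A_{f} be the completion of the
localization A_f for the topology defined by the extension of J. There is a ring isomorphism from
the localization of A/J^(n+1) away from the class of f onto A_{f} modulo the (n+1)-st power of the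
extension of J to A_{f}, compatible with the canonical maps from A (and hence unique). In terms of
formal spectra: the open D(f) of Spf(A) is Spf(A_{f}), and at level n its ring is the ring
(A/J^(n+1))_f of the open D(f) of Spec(A/J^(n+1)). -/
theorem result (A : Type u) [CommRing A] [IsNoetherianRing A] (J : Ideal A)
    (f : A) (n : ℕ) :
    ∃ e : Localization.Away (Ideal.Quotient.mk (J ^ (n + 1)) f) ≃+*
        FSch.cAway A J f ⧸ (J.map (algebraMap A (FSch.cAway A J f))) ^ (n + 1),
      ∀ a : A, e (algebraMap (A ⧸ J ^ (n + 1)) _ (Ideal.Quotient.mk (J ^ (n + 1)) a)) =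
        Ideal.Quotient.mk _ (algebraMap A (FSch.cAway A J f) a) := by
  classical
  set L := Localization.Away f with hL
  set IL : Ideal L := J.map (algebraMap A L) with hIL
  have hLN : IsNoetherianRing L := IsLocalization.isNoetherianRing (Submonoid.powers f) L inferInstance
  have hfg : IL.FG := (isNoetherianRing_iff_ideal_fg L).1 hLN IL
  -- e₁
  have hloc : IsLocalization.Away (Ideal.Quotient.mk (J ^ (n + 1)) f)
      (L ⧸ (J ^ (n + 1)).map (algebraMap A L)) := by
    have h0 : IsLocalization (Algebra.algebraMapSubmonoid (A ⧸ J ^ (n + 1)) (Submonoid.powers f))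
        (L ⧸ (J ^ (n + 1)).map (algebraMap A L)) := inferInstance
    have h1 : Algebra.algebraMapSubmonoid (A ⧸ J ^ (n + 1)) (Submonoid.powers f) =
        Submonoid.powers (Ideal.Quotient.mk (J ^ (n + 1)) f) := by
      unfold Algebra.algebraMapSubmonoid
      rw [Submonoid.map_powers]
      rfl
    rw [h1] at h0
    exact h0
  let e₁ : Localization.Away (Ideal.Quotient.mk (J ^ (n + 1)) f) ≃ₐ[A ⧸ J ^ (n + 1)]
      (L ⧸ (J ^ (n + 1)).map (algebraMap A L)) :=
    IsLocalization.algEquiv (Submonoid.powers (Ideal.Quotient.mk (J ^ (n + 1)) f)) _ _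
  let e₂ : (L ⧸ (J ^ (n + 1)).map (algebraMap A L)) ≃+* (L ⧸ IL ^ (n + 1)) :=
    Ideal.quotEquivOfEq (Ideal.map_pow _ _ _)
  let ev : FSch.cAway A J f →+* L ⧸ IL ^ (n + 1) := (AdicCompletion.evalₐ IL (n + 1)).toRingHom
  have hev : Function.Surjective ev := AdicCompletion.surjective_evalₐ IL (n + 1)
  let e₃ : (FSch.cAway A J f ⧸ RingHom.ker ev) ≃+* (L ⧸ IL ^ (n + 1)) :=
    RingHom.quotientKerEquivOfSurjective hev
  have hker : RingHom.ker ev = (J.map (algebraMap A (FSch.cAway A J f))) ^ (n + 1) := by
    have h1 := ker_evalₐ_eq IL hfg (n + 1)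
    have h2 : J.map (algebraMap A (FSch.cAway A J f)) = IL.map (algebraMap L (FSch.cAway A J f)) := by
      rw [hIL, Ideal.map_map]
      rfl
    rw [h2]
    exact h1
  let e₄ : (FSch.cAway A J f ⧸ RingHom.ker ev) ≃+*
      (FSch.cAway A J f ⧸ (J.map (algebraMap A (FSch.cAway A J f))) ^ (n + 1)) :=
    Ideal.quotEquivOfEq hker
  refine ⟨(e₁.toRingEquiv.trans e₂).trans (e₃.symm.trans e₄), fun a => ?_⟩
  simp only [RingEquiv.trans_apply, AlgEquiv.coe_ringEquiv]
  have s1 : e₁ (algebraMap (A ⧸ J ^ (n + 1)) _ (Ideal.Quotient.mk (J ^ (n + 1)) a)) =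
      Ideal.Quotient.mk _ (algebraMap A L a) := by
    rw [AlgEquiv.commutes]
    rfl
  rw [s1]
  have s2 : e₂ (Ideal.Quotient.mk _ (algebraMap A L a)) = Ideal.Quotient.mk _ (algebraMap A L a) := by
    exact Ideal.quotEquivOfEq_mk _ _
  rw [s2]
  have s3 : e₃.symm (Ideal.Quotient.mk _ (algebraMap A L a)) =
      Ideal.Quotient.mk _ (algebraMap A (FSch.cAway A J f) a) := by
    rw [RingEquiv.symm_apply_eq]
    change _ = ev (algebraMap A (FSch.cAway A J f) a)
    rw [AdicCompletion.algebraMap_apply]
    exact (AdicCompletion.evalₐ_of IL (n + 1) _).symm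
  rw [s3]
  exact Ideal.quotEquivOfEq_mk _ _

end Groth.Agent.S3874
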