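import Groth.Statements.S3875
import Groth.Agent.S3862

set_option autoImplicit false
universe u
open FCompl

namespace Groth.Agent.S3875

open AlgebraicGeometry CategoryTheory CategoryTheory.Limits

section aux

theorem app_congr {𝔚 ℨ : FSch.Sys.{u}} {a b : 𝔚 ⟶ ℨ} (h : a = b) (n : ℕ) :
    (a : FSch.Hom 𝔚 ℨ).app n = (b : FSch.Hom 𝔚 ℨ).app n := by rw [h]

variable {𝔚 𝔛 𝔜 𝔖 : FSch.Sys.{u}} (p : 𝔚 ⟶ 𝔛) (q : 𝔚 ⟶ 𝔜) (f : 𝔛 ⟶ 𝔖) (g : 𝔜 ⟶ 𝔖)
  (H : ∀ n, IsPullback ((p : FSch.Hom _ _).app n) ((q : FSch.Hom _ _).app n)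
    ((f : FSch.Hom _ _).app n) ((g : FSch.Hom _ _).app n))

/-- the lift -/
noncomputable def lift {𝔗 : FSch.Sys.{u}} (a : 𝔗 ⟶ 𝔛) (b : 𝔗 ⟶ 𝔜) (h : a ≫ f = b ≫ g) :
    𝔗 ⟶ 𝔚 :=
  ⟨fun n => (H n).lift ((a : FSch.Hom _ _).app n) ((b : FSch.Hom _ _).app n) (app_congr h n),
   fun n => by
    apply (H (n + 1)).hom_ext
    · rw [Category.assoc, Category.assoc, (H (n + 1)).lift_fst, ← (p : FSch.Hom _ _).comm n,
        ← Category.assoc, (H n).lift_fst]
      exact (a : FSch.Hom _ _).comm n
    · rw [Category.assoc, Category.assoc, (H (n + 1)).lift_snd, ← (q : FSch.Hom _ _).comm n,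
        ← Category.assoc, (H n).lift_snd]
      exact (b : FSch.Hom _ _).comm n⟩

theorem lift_app {𝔗 : FSch.Sys.{u}} (a : 𝔗 ⟶ 𝔛) (b : 𝔗 ⟶ 𝔜) (h : a ≫ f = b ≫ g) (n : ℕ) :
    (lift p q f g H a b h : FSch.Hom _ _).app n =
      (H n).lift ((a : FSch.Hom _ _).app n) ((b : FSch.Hom _ _).app n) (app_congr h n) := rfl

include H in
theorem isPullback_of_levelwise : IsPullback p q f g := by
  refine ⟨⟨?_⟩, ⟨PullbackCone.IsLimit.mk _ (fun s => lift p q f g H s.fst s.snd s.condition) ?_ ?_ ?_⟩⟩
  · apply FSch.Hom.ext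
    funext n
    exact (H n).w
  · intro s
    apply FSch.Hom.ext
    funext n
    exact (H n).lift_fst _ _ _
  · intro s
    apply FSch.Hom.ext
    funext n
    exact (H n).lift_snd _ _ _
  · intro s m h1 h2
    apply FSch.Hom.ext
    funext n
    have e1 : (m : FSch.Hom _ _).app n ≫ (p : FSch.Hom _ _).app n = (s.fst : FSch.Hom _ _).app n :=
      app_congr h1 n
    have e2 : (m : FSch.Hom _ _).app n ≫ (q : FSch.Hom _ _).app n = (s.snd : FSch.Hom _ _).app n :=
      app_congr h2 n
    rw [lift_app]
    apply (H n).hom_ext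
    · exact e1.trans ((H n).lift_fst _ _ _).symm
    · exact e2.trans ((H n).lift_snd _ _ _).symm

end aux

section levels

theorem completionMap_sq' {X Y : Scheme.{u}} (f : X ⟶ Y) (𝓘 : X.IdealSheafData) (𝓚 : Y.IdealSheafData)
    (hc : FSch.PowCompat f 𝓘 𝓚) (n : ℕ) :
    FSch.completionToX X 𝓘 n ≫ f =
      (FSch.completionMap f 𝓘 𝓚 hc : FSch.Hom _ _).app n ≫ FSch.completionToX Y 𝓚 n :=
  (Scheme.IdealSheafData.subschemeMap_subschemeι _ _ f
    (Scheme.IdealSheafData.le_map_iff_comap_le.mpr (hc n))).symm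

variable {X Y S : Scheme.{u}} (g : X ⟶ S) (h : Y ⟶ S)
    (𝓡 : X.IdealSheafData) (𝓙 : S.IdealSheafData)
    (hg : FSch.PowCompat g 𝓡 𝓙) (hh : FSch.PowCompat h (𝓙.comap h) 𝓙)
    (hp : FSch.PowCompat (pullback.fst g h) (𝓡.comap (pullback.fst g h)) 𝓡)
    (hq : FSch.PowCompat (pullback.snd g h) (𝓡.comap (pullback.fst g h)) (𝓙.comap h))

theorem level (n : ℕ) :
    IsPullback
      ((FSch.completionMap (pullback.fst g h) (𝓡.comap (pullback.fst g h)) 𝓡 hp : FSch.Hom _ _).app n)
      ((FSch.completionMap (pullback.snd g h) (𝓡.comap (pullback.fst g h)) (𝓙.comap h) hq :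
        FSch.Hom _ _).app n)
      ((FSch.completionMap g 𝓡 𝓙 hg : FSch.Hom _ _).app n)
      ((FSch.completionMap h (𝓙.comap h) 𝓙 hh : FSch.Hom _ _).app n) := by
  have A := Groth.Agent.S3862.part1 (pullback.fst g h) 𝓡 hp n
  have B := Groth.Agent.S3862.part1 h 𝓙 hh n
  have C : IsPullback (pullback.fst g h) (pullback.snd g h) g h := IsPullback.of_hasPullback g h
  have AC := A.paste_horiz C.flip
  have sqg := completionMap_sq' g 𝓡 𝓙 hg n
  have sqq := completionMap_sq' (pullback.snd g h) (𝓡.comap (pullback.fst g h)) (𝓙.comap h) hq n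
  have sqh := completionMap_sq' h (𝓙.comap h) 𝓙 hh n
  have sqp := completionMap_sq' (pullback.fst g h) (𝓡.comap (pullback.fst g h)) 𝓡 hp n
  rw [sqg, sqq] at AC
  have i2 : Mono (FSch.completionToX S 𝓙 n) := by
    have : IsClosedImmersion (FSch.completionToX S 𝓙 n) :=
      inferInstanceAs (IsClosedImmersion (𝓙 ^ (n + 1)).subschemeι)
    infer_instance
  have comm : (FSch.completionMap (pullback.snd g h) (𝓡.comap (pullback.fst g h)) (𝓙.comap h) hq :
        FSch.Hom _ _).app n ≫ (FSch.completionMap h (𝓙.comap h) 𝓙 hh : FSch.Hom _ _).app n =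
      (FSch.completionMap (pullback.fst g h) (𝓡.comap (pullback.fst g h)) 𝓡 hp : FSch.Hom _ _).app n ≫
        (FSch.completionMap g 𝓡 𝓙 hg : FSch.Hom _ _).app n := by
    rw [← cancel_mono (FSch.completionToX S 𝓙 n), Category.assoc, Category.assoc, ← sqh, ← sqg,
      ← Category.assoc, ← Category.assoc, ← sqq, ← sqp, Category.assoc, Category.assoc,
      pullback.condition]
  exact (IsPullback.of_right AC comm B).flip

end levels


open AlgebraicGeometry in
open CategoryTheory in
open CategoryTheory.Limits in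
/-- Let g : X → S and h : Y → S be morphisms of schemes, R an ideal sheaf on X and J an ideal sheaf on
S, and consider the completions of S along J, of X along R, of Y along the inverse image of J under
h, and of X x_S Y along the inverse image of R under the first projection (completions presented by
the subschemes of the powers of these ideal sheaves); this is the case where the closed subset of Y
is the full preimage of that of S. The four compatibility hypotheses between the powers of the ideal
sheaves (for g, for h, and for the two projections of X x_S Y): for each n, the inverse image of the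
(n+1)-st power of the target ideal sheaf is contained in the (n+1)-st power of the source ideal
sheaf. These are hypotheses, carried as data for the completed morphisms; the published statement
assumes the schemes locally Noetherian, which this identity does not need. Then the square of
completed morphisms from the completion of X x_S Y along the preimage of the closed subset of X, to
the completions of X and of Y, over the completion of S, is cartesian in the category of systems. -/
theorem result {X Y S : Scheme.{u}} (g : X ⟶ S) (h : Y ⟶ S)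
    (𝓡 : X.IdealSheafData) (𝓙 : S.IdealSheafData)
    (hg : FSch.PowCompat g 𝓡 𝓙) (hh : FSch.PowCompat h (𝓙.comap h) 𝓙)
    (hp : FSch.PowCompat (pullback.fst g h) (𝓡.comap (pullback.fst g h)) 𝓡)
    (hq : FSch.PowCompat (pullback.snd g h) (𝓡.comap (pullback.fst g h)) (𝓙.comap h)) :
    IsPullback (FSch.completionMap (pullback.fst g h) (𝓡.comap (pullback.fst g h)) 𝓡 hp)
      (FSch.completionMap (pullback.snd g h) (𝓡.comap (pullback.fst g h)) (𝓙.comap h) hq)
      (FSch.completionMap g 𝓡 𝓙 hg) (FSch.completionMap h (𝓙.comap h) 𝓙 hh) := by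
  exact isPullback_of_levelwise _ _ _ _ (level g h 𝓡 𝓙 hg hh hp hq)

end Groth.Agent.S3875
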