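import Groth.Statements.S3878
import Groth.Agent.Lib.Helper28.TopCoh

set_option autoImplicit false
open CategoryTheory CategoryTheory.Limits Opposite
universe u
open ToposFin

namespace Groth.Agent.S3878

open Groth.Agent.Lib.Helper28 in
/-- Evaluating `(V ↦ Ext^q(ℤ_{u V}, -))` at `V`. -/
noncomputable def evIso {C D : Type u} [SmallCategory C] [SmallCategory D]
    (J : GrothendieckTopology C) (u : D ⥤ C) (q : ℕ) (V : Dᵒᵖ) :
    (ExtPsh.extPsh.{u} (RpushIso.freeSheaf J) q ⋙
      (Functor.whiskeringLeft Dᵒᵖ Cᵒᵖ AddCommGrpCat.{u}).obj u.op) ⋙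
        (evaluation Dᵒᵖ AddCommGrpCat.{u}).obj V ≅
      Abelian.extFunctorObj.{u} ((RpushIso.freeSheaf J).obj (u.obj V.unop)) q :=
  NatIso.ofComponents (fun _ => Iso.refl _) (fun {G G'} φ => by
    change ((ExtPsh.extPsh.{u} (RpushIso.freeSheaf J) q).map φ).app (op (u.obj V.unop)) ≫ 𝟙 _ =
      𝟙 _ ≫ (Abelian.extFunctorObj.{u} ((RpushIso.freeSheaf J).obj (u.obj V.unop)) q).map φ
    rw [Category.comp_id, Category.id_comp, ExtPsh.extPsh_map_app])

/-- Let (C, J) and (D, K) be small sites and u : D ⥤ C a continuous functor, giving a morphism of topoi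
whose direct image on sheaves is F ↦ F ∘ u, with right derived functors R^q on abelian sheaves.
Assume that the topos of sheaves on (C, J) is algebraic and that for every object V of D the sheaf
on C attached to u(V), which is the inverse image of the sheaf attached to V, is coherent. Then for
every q the higher direct image functor R^q on abelian sheaves preserves colimits indexed by any
small filtered category. The published hypotheses (a coherent morphism from an algebraic topos to a
locally coherent topos) give this situation with D the site of coherent algebraic objects of the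
target. -/
theorem result {C D : Type u} [SmallCategory C]
    [SmallCategory D] (J : GrothendieckTopology C) (K : GrothendieckTopology D) (hE : ToposFin.IsAlgebraic J)
    (u : D ⥤ C) [u.IsContinuous K J] (hu : ∀ V : D, ToposFin.IsCoherent (ToposFin.eps J (u.obj V)))
    (Λ : Type u) [SmallCategory Λ] [IsFiltered Λ] (q : ℕ) :
    PreservesColimitsOfShape Λ (CohSite.Rpush J K u q) := by
  have hS := Groth.Agent.Lib.Helper28.TopCoh.good_coh hE
  obtain ⟨e⟩ := Groth.Agent.Lib.Helper28.RpushIso.nonempty_natIso J K u q
  have h1 : PreservesColimitsOfShape Λ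
      (Groth.Agent.Lib.Helper28.ExtPsh.extPsh.{u} (Groth.Agent.Lib.Helper28.RpushIso.freeSheaf J) q ⋙
        (Functor.whiskeringLeft Dᵒᵖ Cᵒᵖ AddCommGrpCat.{u}).obj u.op) := by
    apply preservesColimitsOfShape_of_evaluation
    intro V
    have h0 : PreservesColimitsOfShape Λ (Abelian.extFunctorObj.{u}
        (Groth.Agent.Lib.Helper28.TopCartan.zSh (ToposFin.eps J (u.obj V.unop))) q) :=
      ⟨fun {F} => Groth.Agent.Lib.Helper28.TopColim.preservesColimit_ext hS (hu V.unop) F q⟩
    have h0' : PreservesColimitsOfShape Λ (Abelian.extFunctorObj.{u}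
        ((Groth.Agent.Lib.Helper28.RpushIso.freeSheaf J).obj (u.obj V.unop)) q) :=
      preservesColimitsOfShape_of_natIso (Groth.Agent.Lib.Helper28.TopCoh.extFunctorObjIso
        (Groth.Agent.Lib.Helper28.TopCoh.freeIso (J := J) (u.obj V.unop)) q).symm
    exact preservesColimitsOfShape_of_natIso (evIso J u q V).symm
  have h2 : PreservesColimitsOfShape Λ
      (Groth.Agent.Lib.Helper28.ExtPsh.extPsh.{u} (Groth.Agent.Lib.Helper28.RpushIso.freeSheaf J) q ⋙
        Groth.Agent.Lib.Helper28.RpushIso.E K u) :=
    inferInstanceAs (PreservesColimitsOfShape Λ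
      ((Groth.Agent.Lib.Helper28.ExtPsh.extPsh.{u}
        (Groth.Agent.Lib.Helper28.RpushIso.freeSheaf J) q ⋙
          (Functor.whiskeringLeft Dᵒᵖ Cᵒᵖ AddCommGrpCat.{u}).obj u.op) ⋙
            presheafToSheaf K AddCommGrpCat.{u}))
  exact preservesColimitsOfShape_of_natIso e

end Groth.Agent.S3878
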