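import Groth.Statements.S3879
import Groth.Agent.Lib.Helper28.TopCoh

set_option autoImplicit false
open CategoryTheory CategoryTheory.Limits Opposite
universe u
open ToposFin

namespace Groth.Agent.S3879

/-- In the topos of sheaves on a small site, let S be a generating set of quasi-compact objects, stable
under fibre products (so the topos is locally coherent). Let (F_i) be a diagram of abelian sheaves
indexed by a small filtered category such that H^q(K, F_i) = 0 for every K in S, every i and every q
> 0 (the F_i are S-acyclic). Then H^q(K, colim F_i) = 0 for every K in S and every q > 0. -/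
theorem result {C : Type u} [SmallCategory C]
    {J : GrothendieckTopology C} (S : Set (ToposFin.Sh J)) (hqc : ∀ K ∈ S, ToposFin.IsQC K)
    (hgen : ToposFin.IsGenerating S) (hpb : ToposFin.ClosedUnderPullbacks S)
    {Λ : Type u} [SmallCategory Λ] [IsFiltered Λ] (D : Λ ⥤ Sheaf J AddCommGrpCat.{u})
    (hD : ∀ (i : Λ) (K : ToposFin.Sh J), K ∈ S → ∀ q : ℕ, Subsingleton (CohCx.HK K (D.obj i) (q + 1)))
    (K : ToposFin.Sh J) (hK : K ∈ S) (q : ℕ) :
    Subsingleton (CohCx.HK K (colimit D) (q + 1)) := by
  have hS := Groth.Agent.Lib.Helper28.TopCoh.good_isoClosure hqc hgen hpb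
  have hK' : K ∈ Groth.Agent.Lib.Helper28.TopCoh.isoClosure S :=
    Groth.Agent.Lib.Helper28.TopCoh.subset_isoClosure S hK
  have hp := Groth.Agent.Lib.Helper28.TopColim.preservesColimit_ext hS hK' D (q + 1)
  have hz : IsZero (D ⋙ Abelian.extFunctorObj.{u}
      (Groth.Agent.Lib.Helper28.TopCartan.zSh K) (q + 1)) := by
    apply Functor.isZero
    intro i
    have : Subsingleton (Abelian.Ext.{u} (Groth.Agent.Lib.Helper28.TopCartan.zSh K) (D.obj i)
      (q + 1)) := hD i K hK q
    exact AddCommGrpCat.isZero_of_subsingleton (AddCommGrpCat.of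
      (Abelian.Ext.{u} (Groth.Agent.Lib.Helper28.TopCartan.zSh K) (D.obj i) (q + 1)))
  have hz' : IsZero ((colim : (Λ ⥤ AddCommGrpCat.{u}) ⥤ AddCommGrpCat.{u}).obj
      (D ⋙ Abelian.extFunctorObj.{u} (Groth.Agent.Lib.Helper28.TopCartan.zSh K) (q + 1))) :=
    Functor.map_isZero _ hz
  have hz'' : IsZero ((Abelian.extFunctorObj.{u}
      (Groth.Agent.Lib.Helper28.TopCartan.zSh K) (q + 1)).obj (colimit D)) :=
    hz'.of_iso (preservesColimitIso _ D)
  exact AddCommGrpCat.subsingleton_of_isZero hz''

end Groth.Agent.S3879
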