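import Groth.Statements.S3894
import Mathlib

set_option autoImplicit false
universe u
open CategoryTheory CategoryTheory.Limits Opposite
open Tors

namespace Groth.Agent.S3894

variable {C : Type u} [SmallCategory C] {J : GrothendieckTopology C}
    {G : Sheaf J AddCommGrpCat.{u}}

theorem hasSection_of_isTrivial (T : Tors.Torsor G) (h : T.IsTrivial) : T.HasSection := by
  obtain ⟨e, -⟩ := h
  let z : (⊤_ (Sheaf J (Type u))).obj ⟶ ((sheafCompose J (forget AddCommGrpCat.{u})).obj G).obj :=
    { app := fun U => TypeCat.ofHom (fun _ => (0 : G.obj.obj U))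
      naturality := by
        intro U V f
        ext x
        exact (map_zero (G.obj.map f).hom).symm }
  exact ⟨ObjectProperty.homMk z ≫ e.hom⟩

theorem isTrivial_of_hasSection (T : Tors.Torsor G) (h : T.HasSection) : T.IsTrivial := by
  obtain ⟨s⟩ := h
  let T₁ : Sheaf J (Type u) := Sheaf.terminal J Types.isTerminalPunit
  let s' : T₁ ⟶ T.P := terminal.from T₁ ≫ s
  let p : ∀ U : Cᵒᵖ, T.P.obj.obj U := fun U => s'.hom.app U PUnit.unit
  have hp : ∀ {U V : Cᵒᵖ} (f : U ⟶ V), T.P.obj.map f (p U) = p V := by
    intro U V f
    have := congrArg (fun φ => φ PUnit.unit) (s'.hom.naturality f)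
    exact this.symm
  let Gs := (sheafCompose J (forget AddCommGrpCat.{u})).obj G
  let E : ∀ U : Cᵒᵖ, (Gs.obj.obj U) ≃ (T.P.obj.obj U) := fun U =>
    { toFun := fun g => T.vadd g (p U)
      invFun := fun q => (T.free_transitive (p U) q).choose
      left_inv := fun g => ((T.free_transitive (p U) (T.vadd g (p U))).choose_spec.2 g rfl).symm
      right_inv := fun q => (T.free_transitive (p U) q).choose_spec.1 }
  let e : Gs.obj ≅ T.P.obj := NatIso.ofComponents (fun U => (E U).toIso) (by
    intro U V f
    ext g
    change T.vadd (G.obj.map f g) (p V) = T.P.obj.map f (T.vadd g (p U))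
    rw [T.map_vadd, hp])
  refine ⟨ObjectProperty.isoMk _ e, ?_⟩
  intro U g h
  change T.vadd (g + h) (p U) = T.vadd g (T.vadd h (p U))
  exact T.add_vadd g h (p U)


/-- A torsor P under an abelian sheaf G is trivial, i.e. equivariantly isomorphic to G acting on itself
by translations, if and only if P has a global section (a morphism from the final sheaf of sets). -/
theorem result {C : Type u} [SmallCategory C] {J : GrothendieckTopology C}
    {G : Sheaf J AddCommGrpCat.{u}} (T : Tors.Torsor G) : T.IsTrivial ↔ T.HasSection := by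
  exact ⟨hasSection_of_isTrivial T, isTrivial_of_hasSection T⟩

end Groth.Agent.S3894
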