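import Groth.Statements.S3896
-- import your own Groth.Agent.* helpers here
import Mathlib

set_option autoImplicit false
open CategoryTheory CategoryTheory.Limits AlgebraicGeometry Opposite
universe u
open EtDesc

namespace Groth.Agent.S3896

variable {X : Scheme.{u}}

/-- sections-wise subsingleton -/
def IsSub (F : EtDesc.Sh X) : Prop := ∀ W : X.Etale, Subsingleton (F.obj.obj (op W))

theorem subsingleton_hom_of_isSub {F : EtDesc.Sh X} (hF : IsSub F) (G : EtDesc.Sh X) :
    Subsingleton (G ⟶ F) := by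
  refine ⟨fun a b => ?_⟩
  apply Sheaf.hom_ext
  apply NatTrans.ext
  funext W
  refine ConcreteCategory.hom_ext _ _ (fun x => ?_)
  haveI := hF W.unop
  exact Subsingleton.elim _ _

theorem mono_of_isSub {F : EtDesc.Sh X} (hF : IsSub F) : Mono (terminal.from F) :=
  ⟨fun a b _ => (subsingleton_hom_of_isSub hF _).elim a b⟩

theorem nonempty_hom_of_isSub {F G : EtDesc.Sh X} (hG : IsSub G)
    (h : ∀ W : X.Etale, Nonempty (F.obj.obj (op W)) → Nonempty (G.obj.obj (op W))) :
    Nonempty (F ⟶ G) := by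
  refine ⟨⟨{ app := fun W => TypeCat.ofHom (fun x => Classical.choice (h W.unop ⟨x⟩))
             naturality := ?_ }⟩⟩
  intro W W' a
  refine ConcreteCategory.hom_ext _ _ (fun x => ?_)
  haveI := hG W'.unop
  exact Subsingleton.elim _ _

theorem nonempty_iso_of_isSub {F G : EtDesc.Sh X} (hF : IsSub F) (hG : IsSub G)
    (h : ∀ W : X.Etale, Nonempty (F.obj.obj (op W)) ↔ Nonempty (G.obj.obj (op W))) :
    Nonempty (F ≅ G) := by
  obtain ⟨a⟩ := nonempty_hom_of_isSub (F := F) hG (fun W => (h W).1)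
  obtain ⟨b⟩ := nonempty_hom_of_isSub (F := G) hF (fun W => (h W).2)
  exact ⟨⟨a, b, (subsingleton_hom_of_isSub hF _).elim _ _,
    (subsingleton_hom_of_isSub hG _).elim _ _⟩⟩

theorem isSub_of_mono {F : EtDesc.Sh X} (hF : Mono (terminal.from F)) : IsSub F := by
  intro W
  refine ⟨fun x y => ?_⟩
  let P : X.Etaleᵒᵖ ⥤ Type (u+1) := yoneda.obj W ⋙ uliftFunctor.{u+1, u}
  let ψ : F.obj.obj (op W) → (P ⟶ F.obj) := fun z =>
    { app := fun Z => TypeCat.ofHom (fun g => F.obj.map g.down.op z)
      naturality := by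
        intro Z Z' a
        refine ConcreteCategory.hom_ext _ _ (fun g => ?_)
        show F.obj.map (a.unop ≫ g.down).op z = F.obj.map a (F.obj.map g.down.op z)
        rw [op_comp, F.obj.map_comp]
        rfl }
  let α : F.obj.obj (op W) →
      ((presheafToSheaf X.smallEtaleTopology (Type (u+1))).obj P ⟶ F) :=
    fun z => ⟨sheafifyLift _ (ψ z) F.2⟩
  have hαeq : α x = α y := (cancel_mono (terminal.from F)).1 (terminal.hom_ext _ _)
  have h2 : ψ x = ψ y := by
    rw [← toSheafify_sheafifyLift _ (ψ x) F.2, ← toSheafify_sheafifyLift _ (ψ y) F.2]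
    congr 1
    exact congr_arg (fun k => k.hom) hαeq
  have h3 : F.obj.map (𝟙 W).op x = F.obj.map (𝟙 W).op y :=
    congr_arg (fun k => (k.app (op W)) (ULift.up (𝟙 W))) h2
  simpa using h3

theorem nonempty_hom_ofOpen_iff (U : X.Opens) (W : X.Etale) :
    Nonempty (W ⟶ EtDesc.ofOpen U) ↔ Set.range W.hom ⊆ (U : Set X) := by
  constructor
  · rintro ⟨g⟩ _ ⟨w, rfl⟩
    obtain ⟨gl, hgl⟩ : ∃ gl : W.left ⟶ (U : Scheme.{u}), gl = g.left := ⟨_, rfl⟩
    have hw : gl ≫ U.ι = W.hom := by rw [hgl]; exact MorphismProperty.Over.w g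
    have : W.hom w = U.ι (gl w) := by rw [← hw]; rfl
    rw [this]
    exact (gl w).2
  · intro h
    have hr : Set.range W.hom ⊆ Set.range U.ι := by rw [Scheme.Opens.range_ι]; exact h
    let l : W.left ⟶ (U : Scheme.{u}) := IsOpenImmersion.lift U.ι W.hom hr
    have hl : l ≫ U.ι = W.hom := IsOpenImmersion.lift_fac _ _ _
    exact ⟨MorphismProperty.Over.homMk l hl trivial⟩

theorem subsingleton_hom_ofOpen (U : X.Opens) (W : X.Etale) :
    Subsingleton (W ⟶ EtDesc.ofOpen U) := by
  refine ⟨fun a b => ?_⟩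
  apply MorphismProperty.Over.Hom.ext
  obtain ⟨al, hal⟩ : ∃ al : W.left ⟶ (U : Scheme.{u}), al = a.left := ⟨_, rfl⟩
  obtain ⟨bl, hbl⟩ : ∃ bl : W.left ⟶ (U : Scheme.{u}), bl = b.left := ⟨_, rfl⟩
  have ha : al ≫ U.ι = W.hom := by rw [hal]; exact MorphismProperty.Over.w a
  have hb : bl ≫ U.ι = W.hom := by rw [hbl]; exact MorphismProperty.Over.w b
  have : al = bl := by rw [← cancel_mono U.ι, ha, hb]
  rw [← hal, ← hbl, this]

set_option backward.isDefEq.respectTransparency false in
theorem exists_arrow_of_mem {W : X.Etale} {R : Sieve W} (hR : R ∈ X.smallEtaleTopology W)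
    (w : W.left) : ∃ (Z : X.Etale) (a : Z ⟶ W), R a ∧ w ∈ Set.range a.left := by
  obtain ⟨𝒰, _, h, hU⟩ := (Scheme.mem_smallGrothendieckTopology _ _).1 hR
  obtain ⟨i, z, rfl⟩ := 𝒰.exists_eq w
  exact ⟨_, _, hU _ _ ⟨i⟩, ⟨z, rfl⟩⟩

theorem isSub_repSh (U : X.Opens) : IsSub (EtDesc.repSh (EtDesc.ofOpen U)) := by
  intro W
  refine ⟨fun s s' => ?_⟩
  let P : X.Etaleᵒᵖ ⥤ Type (u+1) := yoneda.obj (EtDesc.ofOpen U) ⋙ uliftFunctor.{u+1, u}
  have hsh : Presieve.IsSheaf X.smallEtaleTopology (EtDesc.repSh (EtDesc.ofOpen U)).obj :=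
    (isSheaf_iff_isSheaf_of_type _ _).1 (EtDesc.repSh (EtDesc.ofOpen U)).2
  have h1 := Presheaf.imageSieve_mem X.smallEtaleTopology
    (toSheafify X.smallEtaleTopology P) (U := op W) s
  have h2 := Presheaf.imageSieve_mem X.smallEtaleTopology
    (toSheafify X.smallEtaleTopology P) (U := op W) s'
  have h12 := X.smallEtaleTopology.intersection_covering h1 h2
  refine (hsh _ h12).isSeparatedFor.ext (fun Z a ha => ?_)
  obtain ⟨⟨t, ht⟩, ⟨t', ht'⟩⟩ := ha
  have htt : t = t' := by
    haveI := subsingleton_hom_ofOpen U Z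
    exact ULift.ext _ _ (Subsingleton.elim _ _)
  rw [← ht, ← ht', htt]

theorem nonempty_repSh_iff (U : X.Opens) (W : X.Etale) :
    Nonempty ((EtDesc.repSh (EtDesc.ofOpen U)).obj.obj (op W)) ↔
      Set.range W.hom ⊆ (U : Set X) := by
  let P : X.Etaleᵒᵖ ⥤ Type (u+1) := yoneda.obj (EtDesc.ofOpen U) ⋙ uliftFunctor.{u+1, u}
  constructor
  · rintro ⟨s⟩ _ ⟨w, rfl⟩
    have h1 := Presheaf.imageSieve_mem X.smallEtaleTopology
      (toSheafify X.smallEtaleTopology P) (U := op W) s
    obtain ⟨Z, a, ⟨t, _⟩, ⟨z, rfl⟩⟩ := exists_arrow_of_mem h1 w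
    have hZ := (nonempty_hom_ofOpen_iff U Z).1 ⟨t.down⟩
    have hw : a.left ≫ W.hom = Z.hom := MorphismProperty.Over.w a
    have : W.hom (a.left z) = Z.hom z := by rw [← hw]; rfl
    rw [this]
    exact hZ ⟨z, rfl⟩
  · intro h
    obtain ⟨g⟩ := (nonempty_hom_ofOpen_iff U W).2 h
    exact ⟨(toSheafify X.smallEtaleTopology P).app (op W) (ULift.up g)⟩


/-- Let X be a scheme. Sending a Zariski open U of X to the etale sheaf of sets attached to the open
immersion U -> X gives an isomorphism of ordered sets from the opens of X onto the subobjects of the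
final object of the etale topos of X: (a) each such sheaf is a subobject of the final sheaf; (b) U ≤
V if and only if there is a morphism between the attached sheaves; (c) every subobject of the final
sheaf is isomorphic to the sheaf attached to some open. -/
theorem result (X : Scheme.{u}) :
    (∀ U : X.Opens, Mono (terminal.from (EtDesc.repSh (EtDesc.ofOpen U)))) ∧
    (∀ U V : X.Opens, U ≤ V ↔ Nonempty (EtDesc.repSh (EtDesc.ofOpen U) ⟶ EtDesc.repSh (EtDesc.ofOpen V))) ∧
    (∀ F : EtDesc.Sh X, Mono (terminal.from F) → ∃ U : X.Opens, Nonempty (F ≅ EtDesc.repSh (EtDesc.ofOpen U))) := by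
  refine ⟨fun U => mono_of_isSub (isSub_repSh U), fun U V => ⟨fun hUV => ?_, ?_⟩, ?_⟩
  · refine nonempty_hom_of_isSub (isSub_repSh V) (fun W hW => ?_)
    rw [nonempty_repSh_iff] at hW ⊢
    exact hW.trans hUV
  · rintro ⟨φ⟩
    have hU : Set.range (EtDesc.ofOpen U).hom ⊆ (U : Set X) := by
      rintro _ ⟨z, rfl⟩
      exact z.2
    obtain ⟨s⟩ := (nonempty_repSh_iff U (EtDesc.ofOpen U)).2 hU
    have hV := (nonempty_repSh_iff V (EtDesc.ofOpen U)).1 ⟨φ.hom.app _ s⟩
    intro x hx
    exact hV ⟨⟨x, hx⟩, rfl⟩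
  · intro F hF
    have hsub := isSub_of_mono hF
    have hsh : Presieve.IsSheaf X.smallEtaleTopology F.obj :=
      (isSheaf_iff_isSheaf_of_type _ _).1 F.2
    let U : X.Opens := sSup {O | ∃ W : X.Etale, Nonempty (F.obj.obj (op W)) ∧
      (O : Set X) = Set.range W.hom}
    have key : ∀ W : X.Etale, Nonempty (F.obj.obj (op W)) ↔ Set.range W.hom ⊆ (U : Set X) := by
      intro W
      constructor
      · intro hne
        let O : X.Opens := ⟨Set.range W.hom, W.hom.isOpenMap.isOpen_range⟩
        have hO : O ≤ U := le_sSup ⟨W, hne, rfl⟩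
        exact fun x hx => hO hx
      · intro h
        have h' : ∀ w : W.left, ∃ (W' : X.Etale), Nonempty (F.obj.obj (op W')) ∧
            ∃ w' : W'.left, W'.hom w' = W.hom w := by
          intro w
          have hw : W.hom w ∈ U := h ⟨w, rfl⟩
          obtain ⟨O, ⟨W', hne, hO⟩, hwO⟩ := TopologicalSpace.Opens.mem_sSup.1 hw
          have : W.hom w ∈ Set.range W'.hom := by rw [← hO]; exact hwO
          obtain ⟨w', hw'⟩ := this
          exact ⟨W', hne, w', hw'⟩
        choose W' hne w' hw' using h'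
        let Z : W.left → X.Etale := fun w =>
          Scheme.Etale.mk (pullback.fst W.hom (W' w).hom ≫ W.hom)
        let a : ∀ w, Z w ⟶ W := fun w =>
          MorphismProperty.Over.homMk (pullback.fst W.hom (W' w).hom) rfl trivial
        let b : ∀ w, Z w ⟶ W' w := fun w =>
          MorphismProperty.Over.homMk (pullback.snd W.hom (W' w).hom)
            pullback.condition.symm trivial
        have hZne : ∀ w, Nonempty (F.obj.obj (op (Z w))) := fun w =>
          (hne w).map (F.obj.map (b w).op)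
        have hcov : Sieve.ofArrows Z a ∈ X.smallEtaleTopology W := by
          rw [Scheme.ofArrows_mem_smallEtaleTopology_iff]
          ext w
          simp only [Set.mem_iUnion, Set.mem_univ, iff_true]
          obtain ⟨z, hz, _⟩ := Scheme.Pullback.exists_preimage_pullback w (w' w) (hw' w).symm
          exact ⟨w, z, hz⟩
        have hne' : ∀ ⦃T : X.Etale⦄ (f : T ⟶ W), (Sieve.ofArrows Z a) f →
            Nonempty (F.obj.obj (op T)) := by
          rintro T f ⟨_, c, _, ⟨w⟩, rfl⟩
          exact (hZne w).map (F.obj.map c.op)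
        let fam : Presieve.FamilyOfElements F.obj (Sieve.ofArrows Z a).arrows :=
          fun T f hf => Classical.choice (hne' f hf)
        have compat : fam.Compatible := by
          intro Y₁ Y₂ T g₁ g₂ f₁ f₂ h₁ h₂ _
          haveI := hsub T
          exact Subsingleton.elim _ _
        exact ⟨(hsh _ hcov).amalgamate fam compat⟩
    exact ⟨U, nonempty_iso_of_isSub hsub (isSub_repSh U)
      (fun W => (key W).trans (nonempty_repSh_iff U W).symm)⟩

end Groth.Agent.S3896
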