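import Groth.Statements.S4024
import Mathlib

set_option autoImplicit false
universe u
open CategoryTheory CategoryTheory.Limits AlgebraicGeometry
open LefPen

set_option linter.unusedSectionVars false

namespace Groth.Agent.S4024Aux
open MvPolynomial

variable {k : Type u} [Field k] {n : ℕ}

/-- directional derivative of `G` at `v` in direction `w`. -/
noncomputable def D (G : MvPolynomial (Fin n) k) (v w : Fin n → k) : k :=
  ∑ i, w i * aeval v (pderiv i G)

lemma D_add (G H : MvPolynomial (Fin n) k) (v w : Fin n → k) :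
    D (G + H) v w = D G v w + D H v w := by
  simp [D, mul_add, Finset.sum_add_distrib]

lemma D_smul (c : k) (G : MvPolynomial (Fin n) k) (v w : Fin n → k) :
    D (c • G) v w = c * D G v w := by
  simp only [D, Derivation.map_smul, map_smul, smul_eq_mul, Finset.mul_sum]
  refine Finset.sum_congr rfl fun i _ => by ring

lemma D_add_right (G : MvPolynomial (Fin n) k) (v w w' : Fin n → k) :
    D G v (w + w') = D G v w + D G v w' := by
  simp [D, add_mul, Finset.sum_add_distrib]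

lemma D_smul_right (c : k) (G : MvPolynomial (Fin n) k) (v w : Fin n → k) :
    D G v (c • w) = c * D G v w := by
  simp only [D, Pi.smul_apply, smul_eq_mul, Finset.mul_sum]
  refine Finset.sum_congr rfl fun i _ => by ring

lemma D_mul (G H : MvPolynomial (Fin n) k) (v w : Fin n → k) :
    D (G * H) v w = aeval v G * D H v w + aeval v H * D G v w := by
  simp only [D, pderiv_mul, map_add, map_mul, Finset.mul_sum, ← Finset.sum_add_distrib]
  refine Finset.sum_congr rfl fun i _ => by ring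

lemma D_pow (G : MvPolynomial (Fin n) k) (e : ℕ) (v w : Fin n → k) :
    D (G ^ e) v w = e * aeval v G ^ (e - 1) * D G v w := by
  simp only [D, pderiv_pow, map_mul, map_pow, map_natCast, Finset.mul_sum]
  refine Finset.sum_congr rfl fun i _ => by ring

/-- Euler -/
lemma D_self {d : ℕ} {G : MvPolynomial (Fin n) k} (hG : G.IsHomogeneous d) (v : Fin n → k) :
    D G v v = d * aeval v G := by
  have h := congrArg (aeval v) hG.sum_X_mul_pderiv
  simp only [map_sum, map_mul, aeval_X, nsmul_eq_mul, map_natCast] at h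
  exact h

lemma pderiv_comm (i j : Fin n) (G : MvPolynomial (Fin n) k) :
    pderiv i (pderiv j G) = pderiv j (pderiv i G) := by
  have h : ⁅(pderiv i : Derivation k (MvPolynomial (Fin n) k) (MvPolynomial (Fin n) k)),
      (pderiv j : Derivation k (MvPolynomial (Fin n) k) (MvPolynomial (Fin n) k))⁆ = 0 := by
    apply MvPolynomial.derivation_ext
    intro l
    simp [Derivation.commutator_apply, pderiv_X, Pi.single_apply]
    split_ifs <;> simp
  have := congrArg (fun D => D G) h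
  simpa [Derivation.commutator_apply, sub_eq_zero] using this

lemma aeval_const_of_hom0 {p : MvPolynomial (Fin n) k} (hp : p.IsHomogeneous 0) (v w : Fin n → k) :
    aeval v p = aeval w p := by
  rw [← totalDegree_zero_iff_isHomogeneous, totalDegree_eq_zero_iff_eq_C] at hp
  rw [hp]; simp

/-- symmetry of the polar form of a quadratic form -/
lemma D_symm {G : MvPolynomial (Fin n) k} (hG : G.IsHomogeneous 2) (v w : Fin n → k) :
    D G v w = D G w v := by
  have key : ∀ (u : Fin n → k) (i : Fin n),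
      aeval u (pderiv i G) = ∑ j, u j * aeval v (pderiv j (pderiv i G)) := by
    intro u i
    have h1 : (pderiv i G).IsHomogeneous 1 := hG.pderiv
    have h := congrArg (aeval u) h1.sum_X_mul_pderiv
    simp only [map_sum, map_mul, aeval_X, one_smul] at h
    rw [← h]
    refine Finset.sum_congr rfl fun j _ => ?_
    congr 1
    exact aeval_const_of_hom0 (h1.pderiv) u v
  simp only [D]
  simp_rw [key v, key w, Finset.mul_sum]
  rw [Finset.sum_comm]
  refine Finset.sum_congr rfl fun i _ => Finset.sum_congr rfl fun j _ => ?_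
  rw [pderiv_comm i j]; ring

/-- linear form attached to a functional -/
noncomputable def lin (ψ : (Fin n → k) →ₗ[k] k) : MvPolynomial (Fin n) k :=
  ∑ i, C (ψ (Pi.single i 1)) * X i

lemma lin_hom (ψ : (Fin n → k) →ₗ[k] k) : (lin ψ).IsHomogeneous 1 := by
  unfold lin
  apply IsHomogeneous.sum
  intro i _
  have := (isHomogeneous_C (Fin n) (ψ (Pi.single i 1))).mul (isHomogeneous_X k i)
  simpa using this

lemma aeval_lin (ψ : (Fin n → k) →ₗ[k] k) (v : Fin n → k) : aeval v (lin ψ) = ψ v := by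
  simp only [lin, map_sum, map_mul, aeval_C, aeval_X, Algebra.algebraMap_self, RingHom.id_apply]
  conv_rhs => rw [LinearMap.pi_apply_eq_sum_univ ψ v]
  refine Finset.sum_congr rfl fun i _ => ?_
  rw [smul_eq_mul, mul_comm]
  congr 2
  ext j; simp [Pi.single_apply, eq_comm]

lemma D_lin (ψ : (Fin n → k) →ₗ[k] k) (v w : Fin n → k) : D (lin ψ) v w = ψ w := by
  have : ∀ i, pderiv i (lin ψ) = C (ψ (Pi.single i 1)) := by
    intro i
    simp [lin, pderiv_X, Pi.single_apply]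
  simp only [D, this, aeval_C, Algebra.algebraMap_self, RingHom.id_apply]
  conv_rhs => rw [LinearMap.pi_apply_eq_sum_univ ψ w]
  refine Finset.sum_congr rfl fun i _ => ?_
  rw [smul_eq_mul]
  congr 2
  ext j; simp [Pi.single_apply, eq_comm]


/-- `G` has value `a` at `v` and differential `φ` on `W` at `v`. -/
def Hits (W : Submodule k (Fin n → k)) (v : Fin n → k) (G : MvPolynomial (Fin n) k)
    (a : k) (φ : ↥W →ₗ[k] k) : Prop :=
  aeval v G = a ∧ ∀ w : ↥W, D G v w.1 = φ w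

lemma Hits.add {W : Submodule k (Fin n → k)} {v : Fin n → k} {G H : MvPolynomial (Fin n) k}
    {a b : k} {φ χ : ↥W →ₗ[k] k} (h : Hits W v G a φ) (h' : Hits W v H b χ) :
    Hits W v (G + H) (a + b) (φ + χ) := by
  refine ⟨by rw [map_add, h.1, h'.1], fun w => ?_⟩
  rw [D_add, h.2, h'.2, LinearMap.add_apply]

lemma Hits.smul {W : Submodule k (Fin n → k)} {v : Fin n → k} {G : MvPolynomial (Fin n) k}
    {a : k} {φ : ↥W →ₗ[k] k} (h : Hits W v G a φ) (c : k) :
    Hits W v (c • G) (c * a) (c • φ) := by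
  refine ⟨by rw [map_smul, h.1, smul_eq_mul], fun w => ?_⟩
  rw [D_smul, h.2, LinearMap.smul_apply, smul_eq_mul]

/-- computation for the form `λ^e ψ`. -/
lemma constr (lam ψ : (Fin n → k) →ₗ[k] k) (e : ℕ) (he : 1 ≤ e) (v₁ v₂ : Fin n → k)
    (W₂ : Submodule k (Fin n → k)) (hl1 : lam v₁ = 1) (hl2 : lam v₂ = 0)
    (side : 2 ≤ e ∨ (∀ w ∈ W₂, lam w = 0) ∨ ψ v₂ = 0) :
    (lin lam ^ e * lin ψ).IsHomogeneous (e + 1) ∧
    aeval v₁ (lin lam ^ e * lin ψ) = ψ v₁ ∧
    (∀ w, D (lin lam ^ e * lin ψ) v₁ w = ψ w + e * ψ v₁ * lam w) ∧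
    aeval v₂ (lin lam ^ e * lin ψ) = 0 ∧
    (∀ w ∈ W₂, D (lin lam ^ e * lin ψ) v₂ w = 0) := by
  refine ⟨?_, ?_, ?_, ?_, ?_⟩
  · have := ((lin_hom lam).pow e).mul (lin_hom ψ)
    simpa using this
  · rw [map_mul, map_pow, aeval_lin, aeval_lin, hl1, one_pow, one_mul]
  · intro w
    simp only [D_mul, D_pow, D_lin, map_pow, aeval_lin, hl1, one_pow]
    ring
  · have : e ≠ 0 := by omega
    rw [map_mul, map_pow, aeval_lin, aeval_lin, hl2, zero_pow this, zero_mul]
  · intro w hw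
    simp only [D_mul, D_pow, D_lin, map_pow, aeval_lin, hl2]
    have h0 : (0 : k) ^ e = 0 := by
      apply zero_pow; omega
    rw [h0, zero_mul, zero_add]
    rcases side with h | h | h
    · have : (0 : k) ^ (e - 1) = 0 := by
        apply zero_pow; omega
      rw [this]; ring
    · rw [h w hw]; ring
    · rw [h]; ring

/-- existence of a form with prescribed first-order data at `v₁` and vanishing first-order data at `v₂`. -/
lemma exists_form {W₁ W₂ : Submodule k (Fin n → k)} {v₁ v₂ : Fin n → k} (h₁ : v₁ ∈ W₁) (h₂ : v₂ ∈ W₂)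
    (hlam : ∃ lam : (Fin n → k) →ₗ[k] k, lam v₁ = 1 ∧ lam v₂ = 0)
    (e : ℕ) (he : 1 ≤ e) (a : k) (φ : ↥W₁ →ₗ[k] k) (hφ : φ ⟨v₁, h₁⟩ = ((e : k) + 1) * a)
    (side : 2 ≤ e ∨ v₁ ∉ W₂ ∨ ∀ h : v₂ ∈ W₁, φ ⟨v₂, h⟩ = 0) :
    ∃ G : MvPolynomial (Fin n) k, G.IsHomogeneous (e + 1) ∧ Hits W₁ v₁ G a φ ∧ Hits W₂ v₂ G 0 0 := by
  obtain ⟨lam, hl1, hl2, hl3⟩ : ∃ lam : (Fin n → k) →ₗ[k] k, lam v₁ = 1 ∧ lam v₂ = 0 ∧
      (v₁ ∉ W₂ → ∀ w ∈ W₂, lam w = 0) := by
    by_cases hm : v₁ ∈ W₂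
    · obtain ⟨lam, hl1, hl2⟩ := hlam
      exact ⟨lam, hl1, hl2, fun h => absurd hm h⟩
    · obtain ⟨f, hf, hle⟩ := Submodule.exists_le_ker_of_notMem hm
      have hz : ∀ w ∈ W₂, f w = 0 := fun w hw => by
        have := hle hw
        simpa using this
      refine ⟨(f v₁)⁻¹ • f, ?_, ?_, fun _ w hw => ?_⟩
      · simp [hf]
      · simp [hz v₂ h₂]
      · simp [hz w hw]
  set φ' : ↥W₁ →ₗ[k] k := φ - ((e : k) * a) • (lam.comp W₁.subtype) with hφ'
  obtain ⟨ψ, hψ, side'⟩ : ∃ ψ : (Fin n → k) →ₗ[k] k, ψ.comp W₁.subtype = φ' ∧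
      (2 ≤ e ∨ (∀ w ∈ W₂, lam w = 0) ∨ ψ v₂ = 0) := by
    by_cases hm2 : v₂ ∈ W₁
    · obtain ⟨ψ, hψ⟩ := LinearMap.exists_extend φ'
      refine ⟨ψ, hψ, ?_⟩
      rcases side with h | h | h
      · exact Or.inl h
      · exact Or.inr (Or.inl (hl3 h))
      · refine Or.inr (Or.inr ?_)
        have := congrArg (fun f => f ⟨v₂, hm2⟩) hψ
        simp only [LinearMap.comp_apply, Submodule.subtype_apply] at this
        rw [this, hφ']
        simp [h hm2, hl2]
    · obtain ⟨ψ, hψ, hψ2⟩ := LinearMap.exists_extend_of_notMem φ' hm2 0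
      exact ⟨ψ, hψ, Or.inr (Or.inr hψ2)⟩
  have hψw : ∀ w : ↥W₁, ψ w.1 = φ w - (e : k) * a * lam w.1 := by
    intro w
    have := congrArg (fun f => f w) hψ
    simp only [LinearMap.comp_apply, Submodule.subtype_apply] at this
    rw [this, hφ']
    simp
  obtain ⟨c1, c2, c3, c4, c5⟩ := constr lam ψ e he v₁ v₂ W₂ hl1 hl2 side'
  have hψ1 : ψ v₁ = a := by
    have := hψw ⟨v₁, h₁⟩
    simp only at this
    rw [this, hφ, hl1]; ring
  refine ⟨lin lam ^ e * lin ψ, c1, ⟨?_, ?_⟩, ⟨c4, ?_⟩⟩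
  · rw [c2, hψ1]
  · intro w
    rw [c3, hψ1, hψw w]; ring
  · intro w
    rw [c5 w.1 w.2]; simp


/-- the differential at `v` as a bilinear map. -/
noncomputable def DL (v : Fin n → k) : MvPolynomial (Fin n) k →ₗ[k] ((Fin n → k) →ₗ[k] k) :=
  LinearMap.mk₂ k (fun G w => D G v w) (fun G H w => D_add G H v w)
    (fun c G w => by simpa using D_smul c G v w) (fun G w w' => D_add_right G v w w')
    (fun c G w => by simpa using D_smul_right c G v w)

@[simp] lemma DL_apply (v : Fin n → k) (G : MvPolynomial (Fin n) k) (w : Fin n → k) :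
    DL v G w = D G v w := rfl

/-- first-order data of a degree `d` form at `v` along `W`. -/
noncomputable def T1 (d : ℕ) (W : Submodule k (Fin n → k)) (v : Fin n → k) :
    ↥(homogeneousSubmodule (Fin n) k d) →ₗ[k] k × (↥W →ₗ[k] k) :=
  LinearMap.prod ((aeval v).toLinearMap ∘ₗ (homogeneousSubmodule (Fin n) k d).subtype)
    ((LinearMap.lcomp k k W.subtype) ∘ₗ DL v ∘ₗ (homogeneousSubmodule (Fin n) k d).subtype)

lemma T1_eq_iff (d : ℕ) (W : Submodule k (Fin n → k)) (v : Fin n → k)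
    (G : ↥(homogeneousSubmodule (Fin n) k d)) (a : k) (φ : ↥W →ₗ[k] k) :
    T1 d W v G = (a, φ) ↔ Hits W v G.1 a φ := by
  have hT : T1 d W v G = (aeval v G.1, (DL v G.1).comp W.subtype) := rfl
  rw [hT, Prod.mk.injEq, Hits]
  refine and_congr Iff.rfl ?_
  constructor
  · intro h w
    have := congrArg (fun f => f w) h
    simpa using this
  · intro h
    ext w
    simpa using h w


lemma mem_ker_tangLin {r d : ℕ} (W : Submodule k (Fin (r + 1) → k)) (v : Fin (r + 1) → k)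
    (G : LefPen.Form r k d) :
    G ∈ LinearMap.ker (LefPen.tangLin k W v (d := d)) ↔ T1 d W v G = 0 := by
  have h0 : (0 : k × (↥W →ₗ[k] k)) = (0, 0) := rfl
  rw [h0, T1_eq_iff, LinearMap.mem_ker, Hits]
  have hT : LefPen.tangLin k W v G = (aeval v G.1, fun w : ↥W => D G.1 v w.1) := by
    simp only [LefPen.tangLin, LinearMap.prod_apply, Function.prod]
    refine Prod.ext rfl ?_
    funext w
    simp [D, LinearMap.sum_apply]
  rw [hT]
  constructor
  · intro h
    have h1 := congrArg Prod.fst h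
    have h2 := congrArg Prod.snd h
    simp only at h1 h2
    refine ⟨h1, fun w => ?_⟩
    have := congrFun h2 w
    simpa using this
  · rintro ⟨h1, h2⟩
    refine Prod.ext h1 ?_
    funext w
    simpa using h2 w


lemma count {F E Q : Type*} [AddCommGroup F] [Module k F] [AddCommGroup E] [Module k E]
    [AddCommGroup Q] [Module k Q] [Module.Finite k F] [Module.Finite k E] [Module.Finite k Q]
    (T : F →ₗ[k] E) (c : E →ₗ[k] Q) (hc : Function.Surjective c)
    (hr : LinearMap.range T = LinearMap.ker c) :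
    Module.finrank k F + Module.finrank k Q = Module.finrank k (LinearMap.ker T) + Module.finrank k E := by
  have h1 := LinearMap.finrank_range_add_finrank_ker T
  have h2 := LinearMap.finrank_range_add_finrank_ker c
  have h3 : Module.finrank k (LinearMap.range c) = Module.finrank k Q := by
    rw [LinearMap.range_eq_top.mpr hc, finrank_top]
  rw [hr] at h1
  omega

section main
variable {r : ℕ} (d : ℕ) (W₁ W₂ : Submodule k (Fin (r + 1) → k)) (v₁ v₂ : Fin (r + 1) → k)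

/-- the total first-order data map. -/
noncomputable def TT : ↥(homogeneousSubmodule (Fin (r + 1)) k d) →ₗ[k]
    (k × (↥W₁ →ₗ[k] k)) × (k × (↥W₂ →ₗ[k] k)) :=
  (T1 d W₁ v₁).prod (T1 d W₂ v₂)

lemma ker_TT : LinearMap.ker (TT d W₁ W₂ v₁ v₂) = LefPen.tangentForms k d W₁ v₁ W₂ v₂ := by
  ext G
  rw [LefPen.tangentForms, Submodule.mem_inf, mem_ker_tangLin, mem_ker_tangLin, LinearMap.mem_ker]
  have : TT d W₁ W₂ v₁ v₂ G = (T1 d W₁ v₁ G, T1 d W₂ v₂ G) := rfl
  rw [this, Prod.mk_eq_zero]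

lemma mem_range_TT (x : (k × (↥W₁ →ₗ[k] k)) × (k × (↥W₂ →ₗ[k] k))) :
    x ∈ LinearMap.range (TT d W₁ W₂ v₁ v₂) ↔ ∃ G : MvPolynomial (Fin (r + 1)) k,
      G.IsHomogeneous d ∧ Hits W₁ v₁ G x.1.1 x.1.2 ∧ Hits W₂ v₂ G x.2.1 x.2.2 := by
  constructor
  · rintro ⟨G, rfl⟩
    refine ⟨G.1, (mem_homogeneousSubmodule d G.1).mp G.2, ?_, ?_⟩
    · rw [← T1_eq_iff]; rfl
    · rw [← T1_eq_iff]; rfl
  · rintro ⟨G, hG, hA, hB⟩
    refine ⟨⟨G, (mem_homogeneousSubmodule d G).mpr hG⟩, ?_⟩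
    have : TT d W₁ W₂ v₁ v₂ ⟨G, (mem_homogeneousSubmodule d G).mpr hG⟩ =
        (T1 d W₁ v₁ ⟨G, (mem_homogeneousSubmodule d G).mpr hG⟩,
          T1 d W₂ v₂ ⟨G, (mem_homogeneousSubmodule d G).mpr hG⟩) := rfl
    rw [this]
    refine Prod.ext ?_ ?_
    · exact (T1_eq_iff d W₁ v₁ _ x.1.1 x.1.2).mpr hA
    · exact (T1_eq_iff d W₂ v₂ _ x.2.1 x.2.2).mpr hB

/-- the Euler constraint. -/
noncomputable def c1 (W : Submodule k (Fin (r + 1) → k)) (v : Fin (r + 1) → k) (h : v ∈ W) :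
    k × (↥W →ₗ[k] k) →ₗ[k] k :=
  (LinearMap.applyₗ (⟨v, h⟩ : ↥W)) ∘ₗ LinearMap.snd k k (↥W →ₗ[k] k) -
    (d : k) • LinearMap.fst k k (↥W →ₗ[k] k)

lemma c1_apply (W : Submodule k (Fin (r + 1) → k)) (v : Fin (r + 1) → k) (h : v ∈ W)
    (x : k × (↥W →ₗ[k] k)) : c1 d W v h x = x.2 ⟨v, h⟩ - d * x.1 := by
  simp [c1]


lemma exists_dual_pair {v₁ v₂ : Fin (r + 1) → k} (hv : LinearIndependent k ![v₁, v₂]) :
    ∃ lam mu : (Fin (r + 1) → k) →ₗ[k] k, lam v₁ = 1 ∧ lam v₂ = 0 ∧ mu v₁ = 0 ∧ mu v₂ = 1 := by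
  have inj := linearIndependent_iff_injective_fintypeLinearCombination.mp hv
  obtain ⟨g, hg⟩ := LinearMap.exists_leftInverse_of_injective _ (LinearMap.ker_eq_bot.mpr inj)
  have e1 : Fintype.linearCombination k ![v₁, v₂] (Pi.single 0 1) = v₁ := by
    simp [Fintype.linearCombination_apply_single]
  have e2 : Fintype.linearCombination k ![v₁, v₂] (Pi.single 1 1) = v₂ := by
    simp [Fintype.linearCombination_apply_single]
  have g1 : g v₁ = Pi.single 0 1 := by
    rw [← e1]; exact congrArg (fun f => f (Pi.single 0 1)) hg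
  have g2 : g v₂ = Pi.single 1 1 := by
    rw [← e2]; exact congrArg (fun f => f (Pi.single 1 1)) hg
  refine ⟨LinearMap.proj 0 ∘ₗ g, LinearMap.proj 1 ∘ₗ g, ?_, ?_, ?_, ?_⟩ <;>
    simp [g1, g2]

instance : Module.Finite k ↥(homogeneousSubmodule (Fin (r + 1)) k d) :=
  Module.Finite.iff_fg.mpr (homogeneousSubmodule_fg _ _ d)

lemma finrank_E : Module.finrank k ((k × (↥W₁ →ₗ[k] k)) × (k × (↥W₂ →ₗ[k] k))) =
    2 + (Module.finrank k ↥W₁ + Module.finrank k ↥W₂) := by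
  have h1 : Module.finrank k (↥W₁ →ₗ[k] k) = Module.finrank k ↥W₁ := Subspace.dual_finrank_eq
  have h2 : Module.finrank k (↥W₂ →ₗ[k] k) = Module.finrank k ↥W₂ := Subspace.dual_finrank_eq
  rw [Module.finrank_prod, Module.finrank_prod, Module.finrank_prod, Module.finrank_self, h1, h2]
  ring


theorem general (hd : 2 ≤ d) (h₁ : v₁ ∈ W₁) (h₂ : v₂ ∈ W₂) (hv : LinearIndependent k ![v₁, v₂])
    (H : 3 ≤ d ∨ ¬ (v₂ ∈ W₁ ∧ v₁ ∈ W₂)) :
    Module.finrank k ↥(homogeneousSubmodule (Fin (r + 1)) k d) =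
      Module.finrank k ↥(LefPen.tangentForms k d W₁ v₁ W₂ v₂) +
        (Module.finrank k ↥W₁ + Module.finrank k ↥W₂) := by
  classical
  obtain ⟨lam, mu, l1, l2, m1, m2⟩ := exists_dual_pair hv
  obtain ⟨e, rfl⟩ : ∃ e, d = e + 1 := ⟨d - 1, by omega⟩
  have he : 1 ≤ e := by omega
  let c : (k × (↥W₁ →ₗ[k] k)) × (k × (↥W₂ →ₗ[k] k)) →ₗ[k] k × k :=
    (c1 (e + 1) W₁ v₁ h₁ ∘ₗ LinearMap.fst k _ _).prod (c1 (e + 1) W₂ v₂ h₂ ∘ₗ LinearMap.snd k _ _)
  have hcx : ∀ x, c x = (x.1.2 ⟨v₁, h₁⟩ - ((e + 1 : ℕ) : k) * x.1.1,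
      x.2.2 ⟨v₂, h₂⟩ - ((e + 1 : ℕ) : k) * x.2.1) := by
    intro x
    refine Prod.ext ?_ ?_
    · exact c1_apply (e + 1) W₁ v₁ h₁ x.1
    · exact c1_apply (e + 1) W₂ v₂ h₂ x.2
  have hc : Function.Surjective c := by
    rintro ⟨x, y⟩
    refine ⟨((0, x • lam.comp W₁.subtype), (0, y • mu.comp W₂.subtype)), ?_⟩
    rw [hcx]
    simp [l1, m2]
  have hr : LinearMap.range (TT (e + 1) W₁ W₂ v₁ v₂) = LinearMap.ker c := by
    ext x
    rw [mem_range_TT, LinearMap.mem_ker, hcx]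
    constructor
    · rintro ⟨G, hG, hA, hB⟩
      have e1 := D_self hG v₁
      have e2 := D_self hG v₂
      rw [hA.2 ⟨v₁, h₁⟩, hA.1] at e1
      rw [hB.2 ⟨v₂, h₂⟩, hB.1] at e2
      rw [e1, e2]
      simp
    · intro hx
      have hx1 : x.1.2 ⟨v₁, h₁⟩ = ((e : k) + 1) * x.1.1 := by
        have := congrArg Prod.fst hx
        simp only [Prod.fst_zero, sub_eq_zero] at this
        rw [this]; push_cast; ring
      have hx2 : x.2.2 ⟨v₂, h₂⟩ = ((e : k) + 1) * x.2.1 := by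
        have := congrArg Prod.snd hx
        simp only [Prod.snd_zero, sub_eq_zero] at this
        rw [this]; push_cast; ring
      obtain ⟨G₁, hG₁, hA₁, hB₁⟩ := exists_form h₁ h₂ ⟨lam, l1, l2⟩ e he x.1.1 x.1.2 hx1 (by
        rcases H with H | H
        · exact Or.inl (by omega)
        · by_cases hm : v₁ ∈ W₂
          · exact Or.inr (Or.inr fun h => absurd ⟨h, hm⟩ H)
          · exact Or.inr (Or.inl hm))
      obtain ⟨G₂, hG₂, hA₂, hB₂⟩ := exists_form h₂ h₁ ⟨mu, m2, m1⟩ e he x.2.1 x.2.2 hx2 (by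
        rcases H with H | H
        · exact Or.inl (by omega)
        · by_cases hm : v₂ ∈ W₁
          · exact Or.inr (Or.inr fun h => absurd ⟨hm, h⟩ H)
          · exact Or.inr (Or.inl hm))
      refine ⟨G₁ + G₂, hG₁.add hG₂, ?_, ?_⟩
      · have := hA₁.add hB₂
        simpa using this
      · have := hB₁.add hA₂
        simpa using this
  have hcount := count (TT (e + 1) W₁ W₂ v₁ v₂) c hc hr
  rw [ker_TT, finrank_E, Module.finrank_prod, Module.finrank_self] at hcount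
  have h3 : Module.finrank k ↥(homogeneousSubmodule (Fin (r + 1)) k (e + 1)) + (1 + 1) =
      Module.finrank k ↥(LefPen.tangentForms k (e + 1) W₁ v₁ W₂ v₂) +
        (2 + (Module.finrank k ↥W₁ + Module.finrank k ↥W₂)) := hcount
  omega


theorem special (h₁ : v₁ ∈ W₁) (h₂ : v₂ ∈ W₂) (hv : LinearIndependent k ![v₁, v₂])
    (hm2 : v₂ ∈ W₁) (hm1 : v₁ ∈ W₂) :
    Module.finrank k ↥(homogeneousSubmodule (Fin (r + 1)) k 2) + 1 =
      Module.finrank k ↥(LefPen.tangentForms k 2 W₁ v₁ W₂ v₂) +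
        (Module.finrank k ↥W₁ + Module.finrank k ↥W₂) := by
  classical
  obtain ⟨lam, mu, l1, l2, m1, m2⟩ := exists_dual_pair hv
  let c : (k × (↥W₁ →ₗ[k] k)) × (k × (↥W₂ →ₗ[k] k)) →ₗ[k] (k × k) × k :=
    ((c1 2 W₁ v₁ h₁ ∘ₗ LinearMap.fst k _ _).prod (c1 2 W₂ v₂ h₂ ∘ₗ LinearMap.snd k _ _)).prod
      ((LinearMap.applyₗ (⟨v₂, hm2⟩ : ↥W₁)) ∘ₗ LinearMap.snd k k (↥W₁ →ₗ[k] k) ∘ₗ LinearMap.fst k _ _ -
        (LinearMap.applyₗ (⟨v₁, hm1⟩ : ↥W₂)) ∘ₗ LinearMap.snd k k (↥W₂ →ₗ[k] k) ∘ₗ LinearMap.snd k _ _)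
  have hcx : ∀ x, c x = ((x.1.2 ⟨v₁, h₁⟩ - ((2 : ℕ) : k) * x.1.1,
      x.2.2 ⟨v₂, h₂⟩ - ((2 : ℕ) : k) * x.2.1), x.1.2 ⟨v₂, hm2⟩ - x.2.2 ⟨v₁, hm1⟩) := by
    intro x
    refine Prod.ext (Prod.ext ?_ ?_) ?_
    · exact c1_apply 2 W₁ v₁ h₁ x.1
    · exact c1_apply 2 W₂ v₂ h₂ x.2
    · rfl
  have hc : Function.Surjective c := by
    rintro ⟨⟨x, y⟩, z⟩
    refine ⟨((0, x • lam.comp W₁.subtype + z • mu.comp W₁.subtype), (0, y • mu.comp W₂.subtype)), ?_⟩
    rw [hcx]
    simp [l1, l2, m1, m2]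
  have hr : LinearMap.range (TT 2 W₁ W₂ v₁ v₂) = LinearMap.ker c := by
    ext x
    rw [mem_range_TT, LinearMap.mem_ker, hcx]
    constructor
    · rintro ⟨G, hG, hA, hB⟩
      have e1 := D_self hG v₁
      have e2 := D_self hG v₂
      have e3 := D_symm hG v₁ v₂
      rw [hA.2 ⟨v₁, h₁⟩, hA.1] at e1
      rw [hB.2 ⟨v₂, h₂⟩, hB.1] at e2
      rw [hA.2 ⟨v₂, hm2⟩, hB.2 ⟨v₁, hm1⟩] at e3
      rw [e1, e2, e3]
      simp
    · intro hx
      have hx1 : x.1.2 ⟨v₁, h₁⟩ = (((1 : ℕ) : k) + 1) * x.1.1 := by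
        have := congrArg (fun p => p.1.1) hx
        simp only [Prod.fst_zero, sub_eq_zero] at this
        rw [this]; push_cast; ring
      have hx2 : x.2.2 ⟨v₂, h₂⟩ = (((1 : ℕ) : k) + 1) * x.2.1 := by
        have := congrArg (fun p => p.1.2) hx
        simp only [Prod.fst_zero, Prod.snd_zero, sub_eq_zero] at this
        rw [this]; push_cast; ring
      have hx3 : x.1.2 ⟨v₂, hm2⟩ = x.2.2 ⟨v₁, hm1⟩ := by
        have := congrArg (fun p => p.2) hx
        simpa only [Prod.snd_zero, sub_eq_zero] using this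
      obtain ⟨b, hb⟩ : ∃ b : k, b = x.1.2 ⟨v₂, hm2⟩ := ⟨_, rfl⟩
      -- the mixed form
      have hG₀ : (lin lam * lin mu).IsHomogeneous 2 := (lin_hom lam).mul (lin_hom mu)
      have hA₀ : Hits W₁ v₁ (lin lam * lin mu) 0 (mu.comp W₁.subtype) := by
        refine ⟨by rw [map_mul, aeval_lin, aeval_lin, m1, mul_zero], fun w => ?_⟩
        rw [D_mul, D_lin, D_lin, aeval_lin, aeval_lin, l1, m1]
        simp
      have hB₀ : Hits W₂ v₂ (lin lam * lin mu) 0 (lam.comp W₂.subtype) := by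
        refine ⟨by rw [map_mul, aeval_lin, aeval_lin, l2, zero_mul], fun w => ?_⟩
        rw [D_mul, D_lin, D_lin, aeval_lin, aeval_lin, l2, m2]
        simp
      obtain ⟨G₁, hG₁, hA₁, hB₁⟩ := exists_form h₁ h₂ ⟨lam, l1, l2⟩ 1 le_rfl x.1.1
        (x.1.2 - b • mu.comp W₁.subtype) (by simp [hx1, m1])
        (Or.inr (Or.inr fun h => by simp [m2, hb]))
      obtain ⟨G₂, hG₂, hA₂, hB₂⟩ := exists_form h₂ h₁ ⟨mu, m2, m1⟩ 1 le_rfl x.2.1
        (x.2.2 - b • lam.comp W₂.subtype) (by simp [hx2, l2])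
        (Or.inr (Or.inr fun h => by simp [l1, hb, hx3]))
      refine ⟨b • (lin lam * lin mu) + (G₁ + G₂), ?_, ?_, ?_⟩
      · exact ((homogeneousSubmodule (Fin (r + 1)) k 2).smul_mem b
          ((mem_homogeneousSubmodule 2 _).mpr hG₀) : _).add (hG₁.add hG₂)
      · have := (hA₀.smul b).add (hA₁.add hB₂)
        simpa using this
      · have := (hB₀.smul b).add (hB₁.add hA₂)
        simpa using this
  have hcount := count (TT 2 W₁ W₂ v₁ v₂) c hc hr
  rw [ker_TT, finrank_E, Module.finrank_prod, Module.finrank_prod, Module.finrank_self] at hcount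
  have h3 : Module.finrank k ↥(homogeneousSubmodule (Fin (r + 1)) k 2) + (1 + 1 + 1) =
      Module.finrank k ↥(LefPen.tangentForms k 2 W₁ v₁ W₂ v₂) +
        (2 + (Module.finrank k ↥W₁ + Module.finrank k ↥W₂)) := hcount
  omega

end main

end Groth.Agent.S4024Aux

namespace Groth.Agent.S4024

/-- Let k be a field (the source works over an algebraically closed field; the count is the same over
any field), d ≥ 2, x₁ = [v₁] and x₂ = [v₂] two distinct points of projective r-space and P(W₁) ∋ x₁,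
P(W₂) ∋ x₂ linear subspaces. In the space of degree-d forms, those whose hypersurface passes through
x₁ tangentially to P(W₁) and through x₂ tangentially to P(W₂) form a linear subspace of codimension
dim P(W₁) + dim P(W₂) + 2 = dim W₁ + dim W₂ when d ≥ 3 or when the line x₁x₂ is not contained in
both P(W₁) and P(W₂), and of codimension dim W₁ + dim W₂ - 1 when d = 2 and the line x₁x₂ lies in
P(W₁) ∩ P(W₂). -/
theorem result (k : Type u) [Field k] (r d : ℕ) (hd : 2 ≤ d)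
    (W₁ W₂ : Submodule k (Fin (r + 1) → k)) (v₁ v₂ : Fin (r + 1) → k) (h₁ : v₁ ∈ W₁) (h₂ : v₂ ∈ W₂)
    (hv : LinearIndependent k ![v₁, v₂]) :
    ((3 ≤ d ∨ ¬ (v₂ ∈ W₁ ∧ v₁ ∈ W₂)) →
      Module.finrank k (LefPen.Form r k d) =
        Module.finrank k ↥(LefPen.tangentForms k d W₁ v₁ W₂ v₂) + (Module.finrank k ↥W₁ + Module.finrank k ↥W₂)) ∧
    ((d = 2 ∧ v₂ ∈ W₁ ∧ v₁ ∈ W₂) →
      Module.finrank k (LefPen.Form r k d) + 1 =
        Module.finrank k ↥(LefPen.tangentForms k d W₁ v₁ W₂ v₂) + (Module.finrank k ↥W₁ + Module.finrank k ↥W₂)) := by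
  refine ⟨fun H => Groth.Agent.S4024Aux.general d W₁ W₂ v₁ v₂ hd h₁ h₂ hv H, ?_⟩
  rintro ⟨rfl, hm2, hm1⟩
  exact Groth.Agent.S4024Aux.special W₁ W₂ v₁ v₂ h₁ h₂ hv hm2 hm1

end Groth.Agent.S4024
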