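import Groth.Statements.S4027
import Mathlib

set_option autoImplicit false
universe u
open LefPen

namespace Groth.Agent.S4027
open LefPen

open Polynomial

variable (k : Type u) [Field k] (r : ℕ)

/-- `Y_i ↦ X_i T` on coefficients. -/
noncomputable def phi0 : MvPolynomial (Fin r) k →+* Polynomial (MvPolynomial (Fin r) k) :=
  MvPolynomial.eval₂Hom (Polynomial.C.comp MvPolynomial.C)
    (fun j => Polynomial.C (MvPolynomial.X j) * Polynomial.X)

@[simp] theorem phi0_C (c : k) : phi0 k r (MvPolynomial.C c) = C (MvPolynomial.C c) := by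
  simp [phi0]

@[simp] theorem phi0_X (i : Fin r) : phi0 k r (MvPolynomial.X i) = C (MvPolynomial.X i) * X := by
  simp [phi0]

/-- `Y_i ↦ X_i T`, `T ↦ T`. -/
noncomputable def delta : Polynomial (MvPolynomial (Fin r) k) →+*
    Polynomial (MvPolynomial (Fin r) k) :=
  Polynomial.eval₂RingHom (phi0 k r) Polynomial.X

@[simp] theorem delta_C (a : MvPolynomial (Fin r) k) : delta k r (C a) = phi0 k r a := by
  simp [delta]

@[simp] theorem delta_X : delta k r X = X := by
  simp [delta]

theorem e1_phi0 (a : MvPolynomial (Fin r) k) :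
    Polynomial.evalRingHom (1 : MvPolynomial (Fin r) k) (phi0 k r a) = a := by
  have : (Polynomial.evalRingHom (1 : MvPolynomial (Fin r) k)).comp (phi0 k r) =
      RingHom.id _ := by
    refine MvPolynomial.ringHom_ext (fun c => ?_) (fun i => ?_)
    · simp
    · simp
  exact RingHom.congr_fun this a

theorem e0_phi0 (a : MvPolynomial (Fin r) k) :
    Polynomial.evalRingHom (0 : MvPolynomial (Fin r) k) (phi0 k r a) =
      MvPolynomial.C (MvPolynomial.eval (fun _ => (0 : k)) a) := by
  have : (Polynomial.evalRingHom (0 : MvPolynomial (Fin r) k)).comp (phi0 k r) =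
      MvPolynomial.C.comp (MvPolynomial.eval (fun _ => (0 : k))) := by
    refine MvPolynomial.ringHom_ext (fun c => ?_) (fun i => ?_)
    · simp
    · simp
  exact RingHom.congr_fun this a

theorem delta_injective : Function.Injective (delta k r) := by
  obtain ⟨psi0, hpsi0⟩ : ∃ psi0 : MvPolynomial (Fin r) k →+*
      FractionRing (Polynomial (MvPolynomial (Fin r) k)),
      psi0 = MvPolynomial.eval₂Hom ((algebraMap (Polynomial (MvPolynomial (Fin r) k))
        (FractionRing (Polynomial (MvPolynomial (Fin r) k)))).comp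
          (Polynomial.C.comp MvPolynomial.C))
        (fun i => algebraMap (Polynomial (MvPolynomial (Fin r) k))
          (FractionRing (Polynomial (MvPolynomial (Fin r) k))) (C (MvPolynomial.X i)) /
          algebraMap (Polynomial (MvPolynomial (Fin r) k))
          (FractionRing (Polynomial (MvPolynomial (Fin r) k))) X) := ⟨_, rfl⟩
  obtain ⟨eps, heps⟩ : ∃ eps : Polynomial (MvPolynomial (Fin r) k) →+*
      FractionRing (Polynomial (MvPolynomial (Fin r) k)),
      eps = Polynomial.eval₂RingHom psi0 (algebraMap (Polynomial (MvPolynomial (Fin r) k))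
          (FractionRing (Polynomial (MvPolynomial (Fin r) k))) X) := ⟨_, rfl⟩
  have hX0 : algebraMap (Polynomial (MvPolynomial (Fin r) k))
      (FractionRing (Polynomial (MvPolynomial (Fin r) k))) X ≠ 0 := by
    rw [Ne, IsFractionRing.to_map_eq_zero_iff]
    exact Polynomial.X_ne_zero
  have hcomp : eps.comp (delta k r) = algebraMap (Polynomial (MvPolynomial (Fin r) k))
      (FractionRing (Polynomial (MvPolynomial (Fin r) k))) := by
    refine Polynomial.ringHom_ext (fun a => ?_) ?_
    · have h2 : (eps.comp (delta k r)).comp Polynomial.C =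
          (algebraMap (Polynomial (MvPolynomial (Fin r) k))
            (FractionRing (Polynomial (MvPolynomial (Fin r) k)))).comp Polynomial.C := by
        refine MvPolynomial.ringHom_ext (fun c => ?_) (fun i => ?_)
        · simp [heps, hpsi0]
        · simp only [RingHom.comp_apply, delta_C, phi0_X, map_mul, heps,
            Polynomial.coe_eval₂RingHom, Polynomial.eval₂_C, Polynomial.eval₂_X, hpsi0,
            MvPolynomial.coe_eval₂Hom, MvPolynomial.eval₂_X]
          rw [div_mul_cancel₀ _ hX0]
      exact RingHom.congr_fun h2 a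
    · simp [heps]
  intro a b hab
  have := congrArg eps hab
  rw [← RingHom.comp_apply, ← RingHom.comp_apply, hcomp] at this
  exact IsFractionRing.injective _ _ this

theorem clear_add {P₁ P₂ : Polynomial (MvPolynomial (Fin r) k)}
    (h₁ : ∃ (N : ℕ) (A : Polynomial (MvPolynomial (Fin r) k)), X ^ N * P₁ = delta k r A)
    (h₂ : ∃ (N : ℕ) (A : Polynomial (MvPolynomial (Fin r) k)), X ^ N * P₂ = delta k r A) :
    ∃ (N : ℕ) (A : Polynomial (MvPolynomial (Fin r) k)), X ^ N * (P₁ + P₂) = delta k r A := by
  obtain ⟨N₁, A₁, h₁⟩ := h₁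
  obtain ⟨N₂, A₂, h₂⟩ := h₂
  refine ⟨N₁ + N₂, X ^ N₂ * A₁ + X ^ N₁ * A₂, ?_⟩
  rw [map_add, map_mul, map_mul, map_pow, map_pow, delta_X, ← h₁, ← h₂]
  ring

theorem clear_C (a : MvPolynomial (Fin r) k) :
    ∃ (N : ℕ) (A : Polynomial (MvPolynomial (Fin r) k)), X ^ N * (C a) = delta k r A := by
  induction a using MvPolynomial.induction_on with
  | C c => exact ⟨0, C (MvPolynomial.C c), by simp⟩
  | add p q hp hq =>
    rw [map_add]
    exact clear_add k r hp hq
  | mul_X p i hp =>
    obtain ⟨N, A, h⟩ := hp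
    refine ⟨N + 1, A * C (MvPolynomial.X i), ?_⟩
    rw [map_mul (delta k r), delta_C, phi0_X, ← h, map_mul]
    ring

theorem clear (P : Polynomial (MvPolynomial (Fin r) k)) :
    ∃ (N : ℕ) (A : Polynomial (MvPolynomial (Fin r) k)), X ^ N * P = delta k r A := by
  induction P using Polynomial.induction_on with
  | C a => exact clear_C k r a
  | add p q hp hq => exact clear_add k r hp hq
  | monomial n a h =>
    obtain ⟨N, A, h⟩ := h
    refine ⟨N, A * X, ?_⟩
    rw [map_mul, delta_X, ← h]
    ring

theorem isCoprime_X (F : MvPolynomial (Fin r) k)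
    (hF0 : MvPolynomial.eval (fun _ => (0 : k)) F ≠ 0) : IsCoprime (phi0 k r F) X := by
  obtain ⟨q, hq⟩ := Polynomial.X_dvd_sub_C (p := phi0 k r F)
  have h0 : (phi0 k r F).coeff 0 = MvPolynomial.C (MvPolynomial.eval (fun _ => (0 : k)) F) := by
    rw [Polynomial.coeff_zero_eq_eval_zero, ← e0_phi0]
    rfl
  rw [h0] at hq
  refine ⟨C (MvPolynomial.C (MvPolynomial.eval (fun _ => (0 : k)) F)⁻¹),
    - (C (MvPolynomial.C (MvPolynomial.eval (fun _ => (0 : k)) F)⁻¹) * q), ?_⟩
  have h1 : phi0 k r F = C (MvPolynomial.C (MvPolynomial.eval (fun _ => (0 : k)) F)) + X * q := by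
    rw [← hq]; ring
  rw [h1]
  have h2 : C (MvPolynomial.C (MvPolynomial.eval (fun _ => (0 : k)) F)⁻¹) *
      C (MvPolynomial.C (MvPolynomial.eval (fun _ => (0 : k)) F)) =
      (1 : Polynomial (MvPolynomial (Fin r) k)) := by
    rw [← map_mul, ← map_mul, inv_mul_cancel₀ hF0, map_one, map_one]
  linear_combination h2

theorem prime_G (F : MvPolynomial (Fin r) k) (hF : Irreducible F)
    (hF0 : MvPolynomial.eval (fun _ => (0 : k)) F ≠ 0) : Prime (phi0 k r F) := by
  have hFp : Prime F := hF.prime
  have hCF : Prime (C F : Polynomial (MvPolynomial (Fin r) k)) := Polynomial.prime_C_iff.mpr hFp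
  have hG : phi0 k r F = delta k r (C F) := (delta_C k r F).symm
  refine ⟨?_, ?_, ?_⟩
  · rw [hG]
    intro h
    rw [← map_zero (delta k r)] at h
    exact hCF.ne_zero (delta_injective k r h)
  · intro hu
    have := hu.map (Polynomial.evalRingHom (1 : MvPolynomial (Fin r) k))
    rw [e1_phi0] at this
    exact hF.not_isUnit this
  · intro a b hab
    obtain ⟨w, hw⟩ := hab
    obtain ⟨N₁, A₁, h₁⟩ := clear k r a
    obtain ⟨N₂, A₂, h₂⟩ := clear k r b
    obtain ⟨N₃, W, h₃⟩ := clear k r w
    have h4 : delta k r (A₁ * A₂ * X ^ N₃) = delta k r (X ^ (N₁ + N₂) * C F * W) := by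
      simp only [map_mul, map_pow, delta_X, ← h₁, ← h₂, ← h₃, ← hG]
      calc X ^ N₁ * a * (X ^ N₂ * b) * X ^ N₃ = X ^ (N₁ + N₂) * X ^ N₃ * (a * b) := by ring
        _ = X ^ (N₁ + N₂) * X ^ N₃ * (phi0 k r F * w) := by rw [hw]
        _ = X ^ (N₁ + N₂) * phi0 k r F * (X ^ N₃ * w) := by ring
    have h5 := delta_injective k r h4
    have h6 : C F ∣ A₁ * A₂ * X ^ N₃ := ⟨X ^ (N₁ + N₂) * W, by rw [h5]; ring⟩
    have hnX : ¬ (C F ∣ (X : Polynomial (MvPolynomial (Fin r) k)) ^ N₃) := by
      intro h
      have h7 := hCF.dvd_of_dvd_pow h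
      rw [Polynomial.C_dvd_iff_dvd_coeff] at h7
      have h8 := h7 1
      rw [Polynomial.coeff_X_one] at h8
      exact hF.not_isUnit (isUnit_of_dvd_one h8)
    have hcop : ∀ N : ℕ, IsCoprime (phi0 k r F) (X ^ N) := fun N =>
      (isCoprime_X k r F hF0).pow_right
    rcases hCF.dvd_or_dvd h6 with h | h
    · rcases hCF.dvd_or_dvd h with h | h
      · left
        have h9 : delta k r (C F) ∣ delta k r A₁ := map_dvd (delta k r) h
        rw [← hG, ← h₁] at h9
        exact (hcop N₁).dvd_of_dvd_mul_left h9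
      · right
        have h9 : delta k r (C F) ∣ delta k r A₂ := map_dvd (delta k r) h
        rw [← hG, ← h₂] at h9
        exact (hcop N₂).dvd_of_dvd_mul_left h9
    · exact absurd h hnX

theorem primitive_G (F : MvPolynomial (Fin r) k)
    (hF0 : MvPolynomial.eval (fun _ => (0 : k)) F ≠ 0) : (phi0 k r F).IsPrimitive := by
  rw [Polynomial.isPrimitive_iff_isUnit_of_C_dvd]
  intro c hc
  have h1 := map_dvd (Polynomial.evalRingHom (0 : MvPolynomial (Fin r) k)) hc
  rw [e0_phi0] at h1
  simp only [Polynomial.coe_evalRingHom, Polynomial.eval_C] at h1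
  refine isUnit_of_dvd_unit h1 ?_
  exact (IsUnit.mk0 _ hF0).map MvPolynomial.C

theorem main (F : MvPolynomial (Fin r) k) (hF : Irreducible F)
    (hF0 : MvPolynomial.eval (fun _ => (0 : k)) F ≠ 0) :
    Irreducible ((phi0 k r F).map
      (algebraMap (MvPolynomial (Fin r) k) (FractionRing (MvPolynomial (Fin r) k)))) := by
  letI : StrongNormalizationMonoid (MvPolynomial (Fin r) k) :=
    UniqueFactorizationMonoid.strongNormalizationMonoid
  letI : NormalizedGCDMonoid (MvPolynomial (Fin r) k) :=
    UniqueFactorizationMonoid.toNormalizedGCDMonoid _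
  exact ((primitive_G k r F hF0).irreducible_iff_irreducible_map_fraction_map).mp
    (prime_G k r F hF hF0).irreducible

end Groth.Agent.S4027

namespace Groth.Agent.S4027

/-- Let k be an algebraically closed field, r ≥ 2, and F ∈ k[X_1, …, X_r] an irreducible polynomial with
F(0) ≠ 0 (in the source the origin is the base point of the lines considered and lies off the
hypersurface F = 0; without this the claim fails, e.g. for X_1 - X_2^2). Then the polynomial G(T) =
F(X_1 T, …, X_r T), with coefficients in the field of rational functions k(X_1, …, X_r), is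
irreducible. -/
theorem result (k : Type u) [Field k] [IsAlgClosed k] (r : ℕ) (hr : 2 ≤ r)
    (F : MvPolynomial (Fin r) k) (hF : Irreducible F) (hF0 : MvPolynomial.eval (fun _ => (0 : k)) F ≠ 0) :
    Irreducible ((MvPolynomial.eval₂ (Polynomial.C.comp MvPolynomial.C)
        (fun j => Polynomial.C (MvPolynomial.X j) * Polynomial.X) F).map
      (algebraMap (MvPolynomial (Fin r) k) (FractionRing (MvPolynomial (Fin r) k)))) := by
  exact main k r F hF hF0

end Groth.Agent.S4027
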