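import Groth.Statements.S4064
import Groth.Agent.Lib.Helper89.ExtOne

set_option autoImplicit false
set_option linter.style.haveILetI false
universe w v v'
open CategoryTheory CategoryTheory.Abelian
open SGA7

namespace Groth.Agent.S4064

open CategoryTheory.Limits CategoryTheory.Pretriangulated DerivedCategory in
theorem result' {C : Type w} [Category.{v} C] [Abelian C]
    [HasExt.{v'} C] {P F R E Q : C} (a : P ⟶ F) (b : F ⟶ R) (wF : a ≫ b = 0)
    (hF : (ShortComplex.mk a b wF).ShortExact) (c : R ⟶ E) (d : E ⟶ Q) (wE : c ≫ d = 0)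
    (hE : (ShortComplex.mk c d wE).ShortExact) :
    (∃ (X : C) (i : F ⟶ X) (p : X ⟶ E), i ≫ p = b ≫ c ∧
        (∃ w : (a ≫ i) ≫ p = 0, (ShortComplex.mk (a ≫ i) p w).ShortExact) ∧
        (∃ w : i ≫ (p ≫ d) = 0, (ShortComplex.mk i (p ≫ d) w).ShortExact)) ↔
      hE.extClass.comp hF.extClass (rfl : 1 + 1 = 2) = 0 := by
  constructor
  · rintro ⟨X, i, p, hip, -, ⟨w2, hS2⟩⟩
    let φ : ShortComplex.mk i (p ≫ d) w2 ⟶ ShortComplex.mk c d wE :=
      { τ₁ := b
        τ₂ := p
        τ₃ := 𝟙 Q
        comm₁₂ := hip.symm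
        comm₂₃ := (Category.comp_id _).symm }
    have nat := ShortComplex.ShortExact.extClass_naturality hS2 hE φ
    rw [show (Ext.mk₀ φ.τ₃) = Ext.mk₀ (𝟙 Q) from rfl, Ext.mk₀_id_comp] at nat
    rw [← nat, Ext.comp_assoc _ _ _ (add_zero 1) (zero_add 1) (rfl : 1 + 1 = 2)]
    rw [show (Ext.mk₀ φ.τ₁) = Ext.mk₀ b from rfl]
    have h0 : (Ext.mk₀ b).comp hF.extClass (zero_add 1) = 0 := hF.comp_extClass
    rw [h0, Ext.comp_zero]
  · intro h0
    obtain ⟨x₂, hx₂⟩ := Ext.covariant_sequence_exact₃ Q hF hE.extClass rfl h0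
    obtain ⟨X, i, π, w, hS, hcls⟩ := Helper89.ExtOne.exists_extClass_eq x₂
    letI := HasDerivedCategory.standard C
    have comm : hS.singleδ ≫ ((singleFunctor C 0).map b)⟦(1 : ℤ)⟧' =
        𝟙 ((singleFunctor C 0).obj Q) ≫ hE.singleδ := by
      have h1 := congrArg Ext.hom hx₂
      rw [← hcls] at h1
      rw [Category.id_comp]
      simp only [Ext.comp_hom, Ext.mk₀_hom, ShiftedHom.comp_mk₀] at h1
      rw [ShortComplex.ShortExact.extClass_hom, ShortComplex.ShortExact.extClass_hom] at h1
      exact h1
    obtain ⟨p', hp₁, hp₂⟩ : ∃ p' : (singleFunctor C 0).obj X ⟶ (singleFunctor C 0).obj E,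
        (singleFunctor C 0).map i ≫ p' = (singleFunctor C 0).map b ≫ (singleFunctor C 0).map c ∧
        (singleFunctor C 0).map π ≫ 𝟙 _ = p' ≫ (singleFunctor C 0).map d :=
      complete_distinguished_triangle_morphism₂ _ _ hS.singleTriangle_distinguished
        hE.singleTriangle_distinguished ((singleFunctor C 0).map b) (𝟙 _) comm
    obtain ⟨p, rfl⟩ := (singleFunctor C 0).map_surjective p'
    have hip : i ≫ p = b ≫ c := by
      apply (singleFunctor C 0).map_injective
      rw [Functor.map_comp, Functor.map_comp, hp₁]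
    have hpd : p ≫ d = π := by
      apply (singleFunctor C 0).map_injective
      rw [Functor.map_comp, ← hp₂, Category.comp_id]
    haveI := hF.mono_f
    haveI := hF.epi_g
    haveI := hE.mono_f
    haveI := hE.epi_g
    haveI := hS.mono_f
    haveI := hS.epi_g
    have w1 : (a ≫ i) ≫ p = 0 := by
      rw [Category.assoc, hip, ← Category.assoc, wF, zero_comp]
    refine ⟨X, i, p, hip, ⟨w1, ?_⟩, ⟨by rw [hpd]; exact w, ?_⟩⟩
    · -- `a ≫ i` is a kernel of `p` and `p` is an epimorphism
      have hmono : Mono (a ≫ i) := mono_comp a i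
      have hepi : Epi p := by
        rw [Preadditive.epi_iff_cancel_zero]
        intro Z q hq
        have h1 : c ≫ q = 0 := by
          rw [← cancel_epi b, comp_zero, ← Category.assoc, ← hip, Category.assoc, hq, comp_zero]
        obtain ⟨q', hq'⟩ : ∃ q' : Q ⟶ Z, d ≫ q' = q := ⟨hE.gIsCokernel.desc (CokernelCofork.ofπ q h1),
          hE.gIsCokernel.fac _ WalkingParallelPair.one⟩
        have h2 : π ≫ q' = 0 := by rw [← hpd, Category.assoc, hq', hq]
        have h3 : q' = 0 := by rw [← cancel_epi π, h2, comp_zero]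
        rw [← hq', h3, comp_zero]
      refine { exact := ?_, mono_f := hmono, epi_g := hepi }
      apply ShortComplex.exact_of_f_is_kernel
      refine KernelFork.IsLimit.ofι _ _ (fun {Z} x hx => ?_) (fun {Z} x hx => ?_)
        (fun {Z} x hx m hm => ?_)
      · -- lift
        have h1 : x ≫ π = 0 := by rw [← hpd, ← Category.assoc, hx, zero_comp]
        exact hF.fIsKernel.lift (KernelFork.ofι (hS.fIsKernel.lift (KernelFork.ofι x h1)) (by
          have h2 : hS.fIsKernel.lift (KernelFork.ofι x h1) ≫ i = x :=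
            hS.fIsKernel.fac _ WalkingParallelPair.zero
          rw [← cancel_mono c, zero_comp, Category.assoc, ← hip, ← Category.assoc, h2, hx]))
      · have h1 : x ≫ π = 0 := by rw [← hpd, ← Category.assoc, hx, zero_comp]
        have h2 : hS.fIsKernel.lift (KernelFork.ofι x h1) ≫ i = x :=
          hS.fIsKernel.fac _ WalkingParallelPair.zero
        rw [← Category.assoc]
        erw [hF.fIsKernel.fac _ WalkingParallelPair.zero]
        exact h2
      · rw [← cancel_mono (a ≫ i)]
        rw [hm]
        have h1 : x ≫ π = 0 := by rw [← hpd, ← Category.assoc, hx, zero_comp]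
        have h2 : hS.fIsKernel.lift (KernelFork.ofι x h1) ≫ i = x :=
          hS.fIsKernel.fac _ WalkingParallelPair.zero
        rw [← Category.assoc]
        erw [hF.fIsKernel.fac _ WalkingParallelPair.zero]
        exact h2.symm
    · have : ShortComplex.mk i (p ≫ d) (by rw [hpd]; exact w) = ShortComplex.mk i π w := by
        congr 1
      rw [this]
      exact hS

/-- Let P -> F -> R and R -> E -> Q be short exact sequences in an abelian category (F an extension of R
by P, E an extension of Q by R). A blended extension of E by F is an object X with a monomorphism i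
: F -> X and an epimorphism p : X -> E such that P -> X -> E (via i) and F -> X -> Q (via p) are
short exact and F -> X -> E is the composite F -> R -> E. Such an X exists if and only if the
composite of the two extension classes, an element of Ext^2(Q, P), is zero. -/
theorem result {C : Type w} [Category.{v} C] [Abelian C]
    [HasExt.{v'} C] {P F R E Q : C} (a : P ⟶ F) (b : F ⟶ R) (wF : a ≫ b = 0)
    (hF : (ShortComplex.mk a b wF).ShortExact) (c : R ⟶ E) (d : E ⟶ Q) (wE : c ≫ d = 0)
    (hE : (ShortComplex.mk c d wE).ShortExact) :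
    (∃ (X : C) (i : F ⟶ X) (p : X ⟶ E), i ≫ p = b ≫ c ∧
        (∃ w : (a ≫ i) ≫ p = 0, (ShortComplex.mk (a ≫ i) p w).ShortExact) ∧
        (∃ w : i ≫ (p ≫ d) = 0, (ShortComplex.mk i (p ≫ d) w).ShortExact)) ↔
      hE.extClass.comp hF.extClass (rfl : 1 + 1 = 2) = 0 := by
  exact result' a b wF hF c d wE hE

end Groth.Agent.S4064
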