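import Groth.Statements.S4086
import Mathlib
import Groth.Agent.Lib.Helper61.GQ12

set_option autoImplicit false
universe u
open CategoryTheory MonoidalCategory CartesianMonoidalCategory MonObj GrpObj AlgebraicGeometry CategoryTheory.Limits
open GrpQ

namespace Groth.Agent.S4086
open CategoryTheory CategoryTheory.Limits AlgebraicGeometry Grpd
set_option backward.isDefEq.respectTransparency.types false
open Groth.Agent.Lib.Helper61.GQ

theorem main (S : Scheme.{u}) (G : Grpd.GroupoidScheme S)
    (ha : Mor2.IsFinLocFree G.s)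
    (hb : ∀ x : G.U, ∃ V : G.U.Opens, IsAffineOpen V ∧ G.t.base '' (G.s.base ⁻¹' {x}) ⊆ (V : Set G.U))
    [Mono G.j] (Y : Scheme.{u}) (p : G.U ⟶ Y) (w : G.t ≫ p = G.s ≫ p) (hc : IsColimit (Cofork.ofπ p w)) :
    IsPullback G.t G.s p p ∧ Mor2.IsFinLocFree p := by
  obtain ⟨h1, h2, h3⟩ := ha
  haveI := h1
  haveI := h2
  haveI := h3
  have hcov := hcov_of_haff hb
  set e := IsColimit.coconePointUniqueUpToIso (isColimit_ts hcov) hc with he
  have hq : q hcov ≫ e.hom = p :=
    IsColimit.comp_coconePointUniqueUpToIso_hom (isColimit_ts hcov) hc WalkingParallelPair.one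
  haveI := isFinite_q hcov
  haveI := flat_q hcov
  haveI := lfp_q hcov
  haveI := isIso_ψ hcov (s_q hcov).symm
  have hp : IsPullback G.t G.s (q hcov) (q hcov) :=
    IsPullback.of_iso_pullback ⟨(s_q hcov).symm⟩ (asIso (pullback.lift G.t G.s (s_q hcov).symm))
      (pullback.lift_fst _ _ _) (pullback.lift_snd _ _ _)
  have hp' := isPullback_comp_mono hp e.hom
  rw [hq] at hp'
  refine ⟨hp', ?_⟩
  rw [← hq]
  exact ⟨inferInstance, inferInstance, inferInstance⟩

end Groth.Agent.S4086

namespace Groth.Agent.S4086

/-- Let (U, R, s, t, c) be a groupoid scheme over S with s finite locally free and every set t(s⁻¹(x))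
contained in an affine open of U, and assume that j = (t, s) : R → U ×_S U is a monomorphism. Then
for every coequalizer p : U → Y of (t, s) in schemes, the square formed by t, s, p, p is cartesian
(R ≅ U ×_Y U) and p is finite locally free. (The source adds that Y is then the quotient sheaf for
the fppf topology and that its formation commutes with base change on Y.) -/
theorem result (S : Scheme.{u}) (G : Grpd.GroupoidScheme S)
    (ha : Mor2.IsFinLocFree G.s)
    (hb : ∀ x : G.U, ∃ V : G.U.Opens, IsAffineOpen V ∧ G.t.base '' (G.s.base ⁻¹' {x}) ⊆ (V : Set G.U))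
    [Mono G.j] (Y : Scheme.{u}) (p : G.U ⟶ Y) (w : G.t ≫ p = G.s ≫ p) (hc : IsColimit (Cofork.ofπ p w)) :
    IsPullback G.t G.s p p ∧ Mor2.IsFinLocFree p := by
  exact main S G ha hb Y p w hc

end Groth.Agent.S4086
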