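import Groth.Statements.S4091
import Mathlib
import Groth.Agent.Lib.Helper46.FppfSourceSch

set_option autoImplicit false
universe u
open CategoryTheory MonoidalCategory CartesianMonoidalCategory MonObj GrpObj AlgebraicGeometry CategoryTheory.Limits
open GrpQ

namespace Groth.Agent.S4091

open AlgebraicGeometry CategoryTheory Limits in
private lemma qc_of_comp_surj {X Y S : Scheme.{u}} (p : X ⟶ Y) (q : Y ⟶ S) [Surjective p]
    [QuasiCompact (p ≫ q)] : QuasiCompact q := by
  constructor
  intro U hU hUc
  have h1 : IsCompact ((p ≫ q) ⁻¹' U) := QuasiCompact.isCompact_preimage U hU hUc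
  have h2 : q ⁻¹' U = p '' ((p ≫ q) ⁻¹' U) := by
    ext y
    constructor
    · intro hy
      obtain ⟨x, rfl⟩ := p.surjective y
      exact ⟨x, by simpa using hy, rfl⟩
    · rintro ⟨x, hx, rfl⟩
      simpa using hx
  rw [h2]
  exact h1.image p.continuous

open AlgebraicGeometry CategoryTheory Limits in
private lemma qs_of_comp_surj {X Y S : Scheme.{u}} (p : X ⟶ Y) (q : Y ⟶ S) [Surjective p]
    [QuasiCompact p] [QuasiSeparated (p ≫ q)] : QuasiSeparated q := by
  constructor
  have h2 : QuasiCompact (pullback.map (p ≫ q) (p ≫ q) q q p p (𝟙 S)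
      ((Category.comp_id _).trans rfl) ((Category.comp_id _).trans rfl)) :=
    MorphismProperty.pullbackMap (P := @QuasiCompact) (f := p ≫ q) (g := p ≫ q) (f' := q) (g' := q)
      (i₁ := p) (i₂ := p) inferInstance inferInstance rfl rfl
  have h1 : p ≫ pullback.diagonal q = pullback.diagonal (p ≫ q) ≫
      pullback.map (p ≫ q) (p ≫ q) q q p p (𝟙 S)
      ((Category.comp_id _).trans rfl) ((Category.comp_id _).trans rfl) := by
    apply pullback.hom_ext
    · simp only [Category.assoc, pullback.diagonal_fst, pullback.lift_fst, Category.comp_id]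
      rw [pullback.diagonal_fst_assoc]
    · simp only [Category.assoc, pullback.diagonal_snd, pullback.lift_snd, Category.comp_id]
      rw [pullback.diagonal_snd_assoc]
  have h3 : QuasiCompact (p ≫ pullback.diagonal q) := by
    rw [h1]
    infer_instance
  exact qc_of_comp_surj p (pullback.diagonal q)

/-- Let p : X → Y and q : Y → S be morphisms of schemes with p surjective, flat and of finite
presentation. If p ≫ q is of finite type then q is of finite type; if p ≫ q is of finite
presentation then q is of finite presentation. -/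
theorem result {X Y S : Scheme.{u}} (p : X ⟶ Y) (q : Y ⟶ S)
    [Surjective p] [Flat p] [LocallyOfFinitePresentation p] [QuasiCompact p] [QuasiSeparated p] :
    ((LocallyOfFiniteType (p ≫ q) ∧ QuasiCompact (p ≫ q)) → (LocallyOfFiniteType q ∧ QuasiCompact q)) ∧
    ((LocallyOfFinitePresentation (p ≫ q) ∧ QuasiCompact (p ≫ q) ∧ QuasiSeparated (p ≫ q)) →
      (LocallyOfFinitePresentation q ∧ QuasiCompact q ∧ QuasiSeparated q)) := by
  refine ⟨?_, ?_⟩
  · rintro ⟨h1, h2⟩
    exact ⟨Groth.Agent.Lib.Helper46.FppfSourceSch.locallyOfFiniteType_of_fppf_surjective_comp p q,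
      qc_of_comp_surj p q⟩
  · rintro ⟨h1, h2, h3⟩
    exact ⟨Groth.Agent.Lib.Helper46.FppfSourceSch.locallyOfFinitePresentation_of_fppf_surjective_comp p q,
      qc_of_comp_surj p q, qs_of_comp_surj p q⟩

end Groth.Agent.S4091
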