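import Groth.Statements.S4110
import Mathlib
import Groth.Agent.Lib.Helper66.TruncPoly
open Groth.Agent.Lib.Helper66.TruncPoly TensorProduct

set_option autoImplicit false
universe u
open CategoryTheory MonoidalCategory CartesianMonoidalCategory MonObj GrpObj AlgebraicGeometry CategoryTheory.Limits
open SGA3

namespace Groth.Agent.S4110


section
variable (p : ℕ) [Fact p.Prime] (R : Type u) [CommRing R]
    [IsLocalRing R] [CharP R p] (A : Type u) [CommRing A] [HopfAlgebra R A]


theorem charP_residue : CharP (IsLocalRing.ResidueField R) p := by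
  obtain ⟨q, hq⟩ := CharP.exists (IsLocalRing.ResidueField R)
  have h1 : ((p : ℕ) : IsLocalRing.ResidueField R) = 0 := by
    have : ((p : ℕ) : R) = 0 := CharP.cast_eq_zero R p
    rw [← map_natCast (algebraMap R (IsLocalRing.ResidueField R)), this, map_zero]
  rw [CharP.cast_eq_zero_iff (IsLocalRing.ResidueField R) q] at h1
  have h3 : q = p := by
    rcases (Nat.dvd_prime (Fact.out : p.Prime)).1 h1 with h | h
    · exact absurd h (CharP.char_ne_one (IsLocalRing.ResidueField R) q)
    · exact h
  exact h3 ▸ hq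

theorem counit_one_tmul (a : A) :
    Coalgebra.counit (R := IsLocalRing.ResidueField R) ((1 : IsLocalRing.ResidueField R) ⊗ₜ[R] a)
      = algebraMap R (IsLocalRing.ResidueField R) (Coalgebra.counit (R := R) a) := by
  rw [TensorProduct.counit_tmul]
  simp [Algebra.smul_def]

end

section
variable (p : ℕ) [Fact p.Prime] (R : Type u) [CommRing R]
    [IsLocalRing R] [CharP R p] (A : Type u) [CommRing A] [HopfAlgebra R A]

theorem exists_lift (f : IsLocalRing.ResidueField R ⊗[R] A)
    (hf : Coalgebra.counit (R := IsLocalRing.ResidueField R) f = 0) :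
    ∃ a : A, Coalgebra.counit (R := R) a = 0 ∧ (1 : IsLocalRing.ResidueField R) ⊗ₜ[R] a = f := by
  obtain ⟨a₀, rfl⟩ := TensorProduct.mk_surjective R A (IsLocalRing.ResidueField R)
    Ideal.Quotient.mk_surjective f
  simp only [TensorProduct.mk_apply] at hf ⊢
  rw [counit_one_tmul] at hf
  refine ⟨a₀ - algebraMap R A (Coalgebra.counit (R := R) a₀), ?_, ?_⟩
  · rw [map_sub, Bialgebra.counit_algebraMap, sub_self]
  · rw [TensorProduct.tmul_sub, Algebra.algebraMap_eq_smul_one, ← TensorProduct.smul_tmul,
      ← Algebra.algebraMap_eq_smul_one, hf, TensorProduct.zero_tmul, sub_zero]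

end


section
variable (p : ℕ) [Fact p.Prime] (R : Type u) [CommRing R]
    [IsLocalRing R] [CharP R p] (A : Type u) [CommRing A] [HopfAlgebra R A]

theorem finite_of_height_one [Algebra.FinitePresentation R A]
    (h1 : ∀ a : A, Bialgebra.counitAlgHom R A a = 0 → a ^ p = 0) : Module.Finite R A := by
  have hp : 0 < p := (Fact.out : p.Prime).pos
  set I : Ideal A := RingHom.ker (Bialgebra.counitAlgHom R A).toRingHom with hIdef
  have hI : ∀ a, a ∈ I ↔ (Bialgebra.counitAlgHom R A) a = 0 := fun a => by
    rw [hIdef, RingHom.mem_ker]; rfl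
  have hfg : I.FG := Algebra.FinitePresentation.ker_fG_of_surjective (Bialgebra.counitAlgHom R A)
    (fun r => ⟨algebraMap R A r, by simp⟩)
  have hnil : I ≤ nilradical A := by
    intro a ha
    rw [mem_nilradical]
    exact ⟨p, h1 a ((hI a).1 ha)⟩
  obtain ⟨N, hN⟩ := (Ideal.FG.isNilpotent_iff_le_nilradical hfg).2 hnil
  rw [Ideal.zero_eq_bot] at hN
  obtain ⟨m, z, hz⟩ := Submodule.fg_iff_exists_fin_generating_family.1 hfg
  have hzI : ∀ i, z i ∈ I := fun i => by rw [← hz]; exact Submodule.subset_span ⟨i, rfl⟩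
  refine Module.Finite.of_surjective
    ((MvPolynomial.aeval z : MvPolynomial (Fin m) R →ₐ[R] A).toLinearMap ∘ₗ
      (MvPolynomial.restrictDegree (Fin m) R (p - 1)).subtype) ?_
  intro a
  obtain ⟨Q, hQ, hQa⟩ := exists_reduced_aeval (Bialgebra.counitAlgHom R A) I hI z hz.symm N hN ⊥ p hp
    (fun i => by rw [Ideal.mem_bot]; exact h1 _ ((hI _).1 (hzI i))) a
  rw [Ideal.mem_bot, sub_eq_zero] at hQa
  exact ⟨⟨Q, hQ⟩, hQa.symm⟩

end

/-- (iv) ⟹ (ii), over a local base: let R be a local ring of prime characteristic p and A a commutative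
Hopf algebra over R which is of finite presentation and flat over R (an R-group G locally of finite
presentation and flat; finiteness is then a consequence) and of height ≤ 1: every element a of the
augmentation ideal satisfies a^p = 0 (the Frobenius of G is trivial). Then A is isomorphic as an
R-algebra to R[X₁, …, Xₙ]/(X₁^p, …, Xₙ^p) for some n (n is the rank of the conormal module ω_G,
which is free). -/
theorem result (p : ℕ) [Fact p.Prime] (R : Type u) [CommRing R]
    [IsLocalRing R] [CharP R p] (A : Type u) [CommRing A] [HopfAlgebra R A] [Algebra.FinitePresentation R A] [Module.Flat R A]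
    (h1 : ∀ a : A, Bialgebra.counitAlgHom R A a = 0 → a ^ p = 0) :
    ∃ n : ℕ, Nonempty (A ≃ₐ[R] (MvPolynomial (Fin n) R ⧸
      Ideal.span (Set.range fun i : Fin n => (MvPolynomial.X i : MvPolynomial (Fin n) R) ^ p))) := by
  have hp : 0 < p := (Fact.out : p.Prime).pos
  haveI : Module.Finite R A := finite_of_height_one p R A h1
  haveI : CharP (IsLocalRing.ResidueField R) p := charP_residue p R
  have h1k : ∀ f : IsLocalRing.ResidueField R ⊗[R] A,
      Coalgebra.counit (R := IsLocalRing.ResidueField R) f = 0 → f ^ p = 0 := by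
    intro f hf
    obtain ⟨a, ha, rfl⟩ := exists_lift R A f hf
    rw [Algebra.TensorProduct.tmul_pow, h1 a ha, TensorProduct.tmul_zero]
  set Ik : Ideal (IsLocalRing.ResidueField R ⊗[R] A) :=
    RingHom.ker (Bialgebra.counitAlgHom (IsLocalRing.ResidueField R)
      (IsLocalRing.ResidueField R ⊗[R] A)).toRingHom with hIkdef
  have hIk : ∀ f, f ∈ Ik ↔ Coalgebra.counit (R := IsLocalRing.ResidueField R) f = 0 := fun f => by
    rw [hIkdef, RingHom.mem_ker]; rfl
  haveI := finite_cotangent Ik hIk
  obtain ⟨n, ⟨b⟩⟩ : ∃ n : ℕ, Nonempty (Module.Basis (Fin n) (IsLocalRing.ResidueField R) Ik.Cotangent) :=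
    ⟨_, ⟨Module.finBasis (IsLocalRing.ResidueField R) Ik.Cotangent⟩⟩
  choose y hy using fun i => Ik.toCotangent_surjective (b i)
  choose x hx0 hxy using fun i => exists_lift R A (y i : IsLocalRing.ResidueField R ⊗[R] A)
    ((hIk _).1 (y i).2)
  have hbijk := field_reduced_bijective p h1k Ik hIk b
    (fun i => (1 : IsLocalRing.ResidueField R) ⊗ₜ[R] x i)
    (fun i => by rw [hxy]; exact (y i).2)
    (fun i => by rw [← hy i]; congr 1; exact Subtype.ext (hxy i))
  -- the reduced monomials in the x i
  let S : Set (Fin n →₀ ℕ) := {d | ∀ i, d i ≤ p - 1}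
  let v : S → A := fun d => MvPolynomial.aeval x (MvPolynomial.monomial d.1 (1 : R))
  have hvk : Finsupp.linearCombination (IsLocalRing.ResidueField R)
      (TensorProduct.mk R (IsLocalRing.ResidueField R) A 1 ∘ v) =
      ((MvPolynomial.aeval (fun i => (1 : IsLocalRing.ResidueField R) ⊗ₜ[R] x i) :
        MvPolynomial (Fin n) (IsLocalRing.ResidueField R) →ₐ[_] _).toLinearMap ∘ₗ
        (MvPolynomial.restrictDegree (Fin n) (IsLocalRing.ResidueField R) (p - 1)).subtype) ∘ₗ
      (reducedBasis (IsLocalRing.ResidueField R) p n).repr.symm.toLinearMap := by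
    refine Finsupp.lhom_ext' fun d => LinearMap.ext_ring ?_
    simp only [LinearMap.comp_apply, Finsupp.lsingle_apply, Finsupp.linearCombination_single,
      one_smul, Function.comp_apply, TensorProduct.mk_apply,
      Submodule.subtype_apply, AlgHom.toLinearMap_apply]
    rw [repr_symm_toLinearMap_single, reducedBasis_coe]
    exact one_tmul_aeval_monomial x d.1
  have hvR : Finsupp.linearCombination R v =
      ((MvPolynomial.aeval x : MvPolynomial (Fin n) R →ₐ[R] A).toLinearMap ∘ₗ
        (MvPolynomial.restrictDegree (Fin n) R (p - 1)).subtype) ∘ₗ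
      (reducedBasis R p n).repr.symm.toLinearMap := by
    refine Finsupp.lhom_ext' fun d => LinearMap.ext_ring ?_
    simp only [LinearMap.comp_apply, Finsupp.lsingle_apply, Finsupp.linearCombination_single,
      one_smul, Submodule.subtype_apply, AlgHom.toLinearMap_apply]
    rw [repr_symm_toLinearMap_single, reducedBasis_coe]
  have hbij1 : Function.Bijective (Finsupp.linearCombination (IsLocalRing.ResidueField R)
      (TensorProduct.mk R (IsLocalRing.ResidueField R) A 1 ∘ v)) := by
    rw [hvk]
    exact hbijk.comp (reducedBasis (IsLocalRing.ResidueField R) p n).repr.symm.bijective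
  have hbij2 := Module.IsLocalRing.linearCombination_bijective_of_flat v hbij1
  rw [hvR] at hbij2
  have hbij3 : Function.Bijective ((MvPolynomial.aeval x : MvPolynomial (Fin n) R →ₐ[R] A).toLinearMap ∘ₗ
        (MvPolynomial.restrictDegree (Fin n) R (p - 1)).subtype) := by
    have := hbij2.comp (reducedBasis R p n).repr.bijective
    convert this using 1
    ext q
    simp
  obtain ⟨e⟩ := algEquiv_of_reduced (R := R) x (⊥ : Ideal A) p hp
    (fun i => by rw [Ideal.mem_bot]; exact h1 _ (hx0 i))
    (fun a => by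
      obtain ⟨Q, hQ⟩ := hbij3.2 a
      exact ⟨Q, by rw [← hQ]; simp⟩)
    (fun P hP hPJ => by
      rw [Ideal.mem_bot] at hPJ
      have := hbij3.1 (a₁ := ⟨P, hP⟩) (a₂ := 0) (by simpa using hPJ)
      exact congrArg Subtype.val this)
  exact ⟨n, ⟨(AlgEquiv.quotientBot R A).symm.trans e⟩⟩

end Groth.Agent.S4110
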