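import Groth.Statements.S6626
import Mathlib
import Groth.Agent.Lib.Helper79.EtSiteGlue
import Groth.Agent.S6629

set_option autoImplicit false
open CategoryTheory CategoryTheory.Limits AlgebraicGeometry Opposite
universe u
open EtCore

namespace Groth.Agent.S6626

open Groth.Agent.Lib.Helper79.EtSiteGlue Groth.Agent.S6629

set_option backward.isDefEq.respectTransparency false in
set_option backward.isDefEq.respectTransparency.types false in
/-- the data produced by condition (A), in the language of the small etale sites -/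
theorem propA_data {X Y : Scheme.{u}} (f : X ⟶ Y) (hA : BigSite.PropA f) (U : X.Etale)
    (u : U.left) :
    ∃ (V : Y.Etale) (W1 W2 : X.Etale) (i1 : W1 ⟶ (EtCoh.bc f).obj V)
      (i2 : W2 ⟶ (EtCoh.bc f).obj V) (h : W1 ⟶ U),
      Mono i1.left ∧ Mono i2.left ∧ Disjoint (Set.range i1.left) (Set.range i2.left) ∧
      (∀ x : ((EtCoh.bc f).obj V).left, x ∈ Set.range i1.left ∨ x ∈ Set.range i2.left) ∧
      u ∈ Set.range h.left := by
  obtain ⟨V, v, hv, W, hWc, h, hh, hu⟩ := hA U.left U.hom u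
  haveI := hv
  let Vo : Y.Etale := Scheme.Etale.mk v
  let σ := pullbackSymmetry v f
  let Wc : (pullback f v).Opens := ⟨(W : Set ↥(pullback f v))ᶜ, hWc.isOpen_compl⟩
  let W1 : X.Etale := Scheme.Etale.mk (W.ι ≫ σ.inv ≫ ((EtCoh.bc f).obj Vo).hom)
  let W2 : X.Etale := Scheme.Etale.mk (Wc.ι ≫ σ.inv ≫ ((EtCoh.bc f).obj Vo).hom)
  let i1 : W1 ⟶ (EtCoh.bc f).obj Vo := MorphismProperty.Over.homMk (W.ι ≫ σ.inv) (by simp [W1]) trivial
  let i2 : W2 ⟶ (EtCoh.bc f).obj Vo := MorphismProperty.Over.homMk (Wc.ι ≫ σ.inv) (by simp [W2]) trivial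
  have hpt1 : ∀ w : (W : Scheme.{u}), σ.hom (i1.left w) = W.ι w := by
    intro w
    change σ.hom ((W.ι ≫ σ.inv) w) = _
    rw [Scheme.Hom.comp_apply]
    exact iso_hom_inv_apply σ _
  have hpt2 : ∀ w : (Wc : Scheme.{u}), σ.hom (i2.left w) = Wc.ι w := by
    intro w
    change σ.hom ((Wc.ι ≫ σ.inv) w) = _
    rw [Scheme.Hom.comp_apply]
    exact iso_hom_inv_apply σ _
  refine ⟨Vo, W1, W2, i1, i2, MorphismProperty.Over.homMk h ?_ trivial, ?_, ?_, ?_, ?_, hu⟩
  · change h ≫ U.hom = W.ι ≫ σ.inv ≫ pullback.snd v f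
    rw [hh, pullbackSymmetry_inv_comp_snd]
  · change Mono (W.ι ≫ σ.inv)
    infer_instance
  · change Mono (Wc.ι ≫ σ.inv)
    infer_instance
  · refine Set.disjoint_left.2 ?_
    rintro z ⟨x, rfl⟩ ⟨y, hy⟩
    have h1 : σ.hom (i1.left x) ∈ W := by
      rw [hpt1]; exact x.2
    have h2 : σ.hom (i1.left x) ∈ Wc := by
      rw [← hy, hpt2]; exact y.2
    exact h2 h1
  · intro z
    by_cases hz : σ.hom z ∈ W
    · left
      refine ⟨⟨σ.hom z, hz⟩, ?_⟩
      change (W.ι ≫ σ.inv) ⟨σ.hom z, hz⟩ = z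
      rw [Scheme.Hom.comp_apply]
      exact iso_inv_hom_apply σ z
    · right
      refine ⟨⟨σ.hom z, hz⟩, ?_⟩
      change (Wc.ι ≫ σ.inv) ⟨σ.hom z, hz⟩ = z
      rw [Scheme.Hom.comp_apply]
      exact iso_inv_hom_apply σ z

section ab
variable {X : Scheme.{u}} (F : EtCoh.Ab X)

/-- the underlying sheaf of types -/
theorem isSheaf_forget :
    Presieve.IsSheaf X.smallEtaleTopology (F.obj ⋙ forget AddCommGrpCat.{u + 1}) := by
  rw [← isSheaf_iff_isSheaf_of_type]
  exact ((sheafCompose X.smallEtaleTopology (forget AddCommGrpCat.{u + 1})).obj F).property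

theorem exists_extend {P W1 W2 : X.Etale} (i1 : W1 ⟶ P) (i2 : W2 ⟶ P) (hm1 : Mono i1.left)
    (hm2 : Mono i2.left) (hd : Disjoint (Set.range i1.left) (Set.range i2.left))
    (hs : ∀ x : P.left, x ∈ Set.range i1.left ∨ x ∈ Set.range i2.left)
    (t : F.obj.obj (op W1)) :
    ∃ t' : F.obj.obj (op P), F.obj.map i1.op t' = t ∧ F.obj.map i2.op t' = 0 := by
  obtain ⟨s, hs, -⟩ := existsUnique_glue_two (isSheaf_forget F) P i1 i2 hm1 hm2 hd hs t
    (0 : F.obj.obj (op W2))
  exact ⟨s, hs.1, hs.2⟩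

theorem eq_zero_of_restrict {P W1 W2 : X.Etale} (i1 : W1 ⟶ P) (i2 : W2 ⟶ P) (hm1 : Mono i1.left)
    (hm2 : Mono i2.left) (hd : Disjoint (Set.range i1.left) (Set.range i2.left))
    (hs : ∀ x : P.left, x ∈ Set.range i1.left ∨ x ∈ Set.range i2.left)
    (t' : F.obj.obj (op P)) (h1 : F.obj.map i1.op t' = 0) (h2 : F.obj.map i2.op t' = 0) :
    t' = 0 := by
  obtain ⟨s, -, huniq⟩ := existsUnique_glue_two (isSheaf_forget F) P i1 i2 hm1 hm2 hd hs
    (0 : F.obj.obj (op W1)) (0 : F.obj.obj (op W2))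
  exact (huniq t' ⟨h1, h2⟩).trans
    (huniq (0 : F.obj.obj (op P))
      ⟨map_zero (F.obj.map i1.op).hom, map_zero (F.obj.map i2.op).hom⟩).symm

end ab

theorem map_comp_apply' {X : Scheme.{u}} (G : X.Etaleᵒᵖ ⥤ AddCommGrpCat.{u + 1}) {A B C : X.Etale}
    (p : A ⟶ B) (q : B ⟶ C) (s : G.obj (op C)) :
    G.map (p ≫ q).op s = G.map p.op (G.map q.op s) := by
  rw [op_comp, Functor.map_comp]
  rfl

set_option backward.isDefEq.respectTransparency false in
set_option backward.isDefEq.respectTransparency.types false in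
theorem reflects_mono {X Y : Scheme.{u}} (f : X ⟶ Y) (hA : BigSite.PropA f) {F G : EtCoh.Ab X}
    (a : F ⟶ G) (ha : Mono ((EtCoh.push f).map a)) : Mono a := by
  apply Sheaf.mono_of_injective
  intro U
  -- injectivity of the push on sections
  have hinj : ∀ V : Y.Etale, Function.Injective (a.hom.app (op ((EtCoh.bc f).obj V))) := by
    intro V
    have h1 : Mono ((sheafToPresheaf _ _).map ((EtCoh.push f).map a)) := inferInstance
    have h2 : Mono (((sheafToPresheaf _ _).map ((EtCoh.push f).map a)).app (op V)) :=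
      inferInstance
    exact (AddCommGrpCat.mono_iff_injective _).1 h2
  have hFs := isSheaf_forget F
  choose V W1 W2 i1 i2 h hm1 hm2 hd hs hu using fun u => propA_data f hA U.unop u
  have key : ∀ x : F.obj.obj U, a.hom.app U x = 0 → x = 0 := by
    intro x hx
    refine eq_of_forall_map_eq hFs U.unop W1 h (fun u => ⟨u, hu u⟩) x (0 : F.obj.obj U) ?_
    intro u
    -- extend by zero
    obtain ⟨x', hx1, hx2⟩ := exists_extend F (i1 u) (i2 u) (hm1 u) (hm2 u) (hd u) (hs u)
      (F.obj.map (h u).op x)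
    have hax' : a.hom.app _ x' = 0 := by
      apply eq_zero_of_restrict G (i1 u) (i2 u) (hm1 u) (hm2 u) (hd u) (hs u)
      · rw [← NatTrans.naturality_apply a.hom, hx1, NatTrans.naturality_apply a.hom, hx, map_zero]
      · rw [← NatTrans.naturality_apply a.hom, hx2, map_zero]
    have hx'0 : x' = 0 := hinj (V u) (hax'.trans (map_zero _).symm)
    change F.obj.map (h u).op x = F.obj.map (h u).op 0
    rw [← hx1, hx'0, map_zero, map_zero]
  exact (injective_iff_map_eq_zero (a.hom.app U).hom).2 key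

set_option backward.isDefEq.respectTransparency false in
set_option backward.isDefEq.respectTransparency.types false in
theorem reflects_epi {X Y₀ : Scheme.{u}} (f : X ⟶ Y₀) (hA : BigSite.PropA f) {F G : EtCoh.Ab X}
    (a : F ⟶ G) (ha : Epi ((EtCoh.push f).map a)) : Epi a := by
  rw [← Sheaf.isLocallySurjective_iff_epi'] at ha ⊢
  refine ⟨fun {U} s => ?_⟩
  choose V W1 W2 i1 i2 h hm1 hm2 hd hs hu using fun u => propA_data f hA U u
  have hcov : Sieve.ofArrows W1 h ∈ X.smallEtaleTopology U :=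
    ofArrows_mem h (fun u => ⟨u, hu u⟩)
  refine X.smallEtaleTopology.transitive hcov _ ?_
  rintro T k ⟨Z0, k', k0, ⟨u⟩, rfl⟩
  rw [Sieve.pullback_comp]
  refine X.smallEtaleTopology.pullback_stable k' ?_
  -- extend the restriction of `s` by zero
  obtain ⟨s', hs1, hs2⟩ := exists_extend G (i1 u) (i2 u) (hm1 u) (hm2 u) (hd u) (hs u)
    (G.obj.map (h u).op s)
  have hR : Presheaf.imageSieve ((EtCoh.push f).map a).hom
      (show ToType (((EtCoh.push f).obj G).obj.obj (op (V u))) from s') ∈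
      Y₀.smallEtaleTopology (V u) :=
    haveI : Presheaf.IsLocallySurjective Y₀.smallEtaleTopology ((EtCoh.push f).map a).hom := ha
    Presheaf.imageSieve_mem Y₀.smallEtaleTopology ((EtCoh.push f).map a).hom _
  have hR' := (EtCoh.coverPreserving_bc f).cover_preserve hR
  have hR'' := X.smallEtaleTopology.pullback_stable (i1 u) hR'
  refine X.smallEtaleTopology.superset_covering ?_ hR''
  rintro T m ⟨V', k, l, ⟨t, ht⟩, hfac⟩
  have ht' : a.hom.app (op ((EtCoh.bc f).obj V')) t =
      G.obj.map ((EtCoh.bc f).map k).op s' := ht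
  refine ⟨F.obj.map l.op t, ?_⟩
  change a.hom.app _ (F.obj.map l.op t) = G.obj.map (m ≫ h u).op s
  rw [NatTrans.naturality_apply a.hom, ht', ← map_comp_apply', ← hfac, map_comp_apply', hs1,
    ← map_comp_apply']

/-- Let f : X ⟶ Y be a morphism of schemes satisfying condition (A) (for every etale U ⟶ X and every
point u of U there are an etale V ⟶ Y, an open and closed subscheme W of X ×_Y V and an X-morphism W
⟶ U whose image contains u). Then, on abelian sheaves on the small etale sites, f_* reflects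
monomorphisms and epimorphisms, the counit f⁻¹ f_* F ⟶ F is an epimorphism for every F, and f_* is
faithful. -/
theorem result {X Y : Scheme.{u}} (f : X ⟶ Y) (hA : BigSite.PropA f) :
    (EtCoh.push f).ReflectsMonomorphisms ∧ (EtCoh.push f).ReflectsEpimorphisms ∧
      (∀ F : EtCoh.Ab X, Epi ((EtCoh.pullPushAdj f).counit.app F)) ∧ (EtCoh.push f).Faithful := by
  have h1 : (EtCoh.push f).ReflectsMonomorphisms := ⟨fun a ha => reflects_mono f hA a ha⟩
  have h2 : (EtCoh.push f).ReflectsEpimorphisms := ⟨fun a ha => reflects_epi f hA a ha⟩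
  have h3 : ∀ F : EtCoh.Ab X, Epi ((EtCoh.pullPushAdj f).counit.app F) := by
    intro F
    haveI : IsSplitEpi ((EtCoh.push f).map ((EtCoh.pullPushAdj f).counit.app F)) :=
      ⟨⟨⟨(EtCoh.pullPushAdj f).unit.app ((EtCoh.push f).obj F),
        (EtCoh.pullPushAdj f).right_triangle_components F⟩⟩⟩
    exact (EtCoh.push f).epi_of_epi_map inferInstance
  refine ⟨h1, h2, h3, ?_⟩
  haveI := h3
  exact (EtCoh.pullPushAdj f).faithful_R_of_epi_counit_app

end Groth.Agent.S6626
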