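import Groth.Statements.S4205
import Groth.Agent.Lib.Helper67.AnProper
import Groth.Agent.Lib.Helper67.AnVal

set_option autoImplicit false
open CategoryTheory AlgebraicGeometry Topology TopologicalSpace
open An

namespace Groth.Agent.S4205

/-- Let X be a scheme of finite type over ℂ (locally of finite type and quasi-compact over ℂ, carried as
two instance hypotheses). Then X is proper over ℂ if and only if X(ℂ) with the complex topology is
compact and Hausdorff. -/
theorem result (X : Scheme.{0}) [X.Over An.SC] [LocallyOfFiniteType (X ↘ An.SC)] [QuasiCompact (X ↘ An.SC)] :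
    IsProper (X ↘ An.SC) ↔ CompactSpace (An.Pts X) ∧ T2Space (An.Pts X) := by
  haveI : LocallyOfFiniteType (SC ↘ SC) := inferInstanceAs (LocallyOfFiniteType (𝟙 SC))
  let y₀ : Pts SC := ⟨𝟙 SC, Category.id_comp _⟩
  have hsub : ∀ y : Pts SC, y = y₀ := fun y => Subtype.ext (by
    have := y.2
    change y.1 ≫ 𝟙 SC = 𝟙 SC at this
    rwa [Category.comp_id] at this)
  have hconst : Pts.map (X ↘ SC) = fun _ => y₀ := by
    funext x
    exact Subtype.ext x.2
  have hcomp : IsProperMap (Pts.map (X ↘ SC)) ↔ CompactSpace (Pts X) := by
    constructor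
    · intro h
      have h1 := h.isCompact_preimage (isCompact_singleton (x := y₀))
      have h2 : Pts.map (X ↘ SC) ⁻¹' {y₀} = Set.univ := by
        ext x
        simp [hconst]
      rw [h2] at h1
      exact isCompact_univ_iff.mp h1
    · intro h
      rw [isProperMap_iff_isClosedMap_and_compact_fibers]
      refine ⟨Pts.continuous_map _, ?_, fun y => ?_⟩
      · intro K _
        have hcl : ∀ T : Set (Pts SC), IsClosed T := by
          intro T
          by_cases hT : y₀ ∈ T
          · have : T = Set.univ := Set.eq_univ_of_forall fun y => (hsub y) ▸ hT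
            rw [this]
            exact isClosed_univ
          · have : T = ∅ := Set.eq_empty_of_forall_notMem fun y hy => hT ((hsub y) ▸ hy)
            rw [this]
            exact isClosed_empty
        exact hcl _
      · have h2 : Pts.map (X ↘ SC) ⁻¹' {y} = Set.univ := by
          ext x
          simp [hconst, hsub y]
        rw [h2]
        exact isCompact_univ
  constructor
  · intro hf
    haveI : IsProper (X ↘ SC) := hf
    refine ⟨hcomp.mp (Groth.Agent.Lib.Helper67.AnVal.isProperMap_of_universallyClosed (X ↘ SC)),
      Groth.Agent.Lib.Helper19.AnB.t2Space_iff.mp inferInstance⟩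
  · rintro ⟨hC, hT⟩
    haveI := hC
    haveI := hT
    exact Groth.Agent.Lib.Helper67.AnProper.isProper_of_isProperMap (X ↘ SC) (hcomp.mpr hC)
      ((Groth.Agent.Lib.Helper19.AnB.isSeparated_iff (X ↘ SC)).mp
        (Groth.Agent.Lib.Helper19.AnB.t2Space_iff.mpr hT))

end Groth.Agent.S4205
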