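import Groth.Statements.S4211
import Mathlib

set_option autoImplicit false
universe u
open An

namespace Groth.Agent.S4211

open CategoryTheory TopologicalSpace Topology Opposite

variable (T : Type u) [TopologicalSpace T]

theorem coverPreserving_opensToCl :
    CoverPreserving (Opens.grothendieckTopology T) (An.Cl.topology T) (An.opensToCl T) := by
  constructor
  intro U S hS a
  obtain ⟨V, f, hSf, haV⟩ := hS a.1 a.2
  refine ⟨(An.opensToCl T).obj V, (An.opensToCl T).map f, ?_, ?_, ?_⟩
  · exact Sieve.image_mem_functorPushforward _ _ hSf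
  · exact IsOpenEmbedding.inclusion f.le (V.2.preimage continuous_subtype_val)
  · exact ⟨⟨a.1, haV⟩, rfl⟩

theorem compatiblePreserving_opensToCl :
    CompatiblePreserving.{u + 1} (An.Cl.topology T) (An.opensToCl T) := by
  constructor
  intro ℱ Z Tp x hx Y₁ Y₂ X f₁ f₂ g₁ g₂ hg₁ hg₂ _
  have h1 : ∀ a : X.E, X.p a ∈ Y₁ := by
    intro a
    have := f₁.over a
    rw [← this]
    exact (f₁.toFun a).2
  have h2 : ∀ a : X.E, X.p a ∈ Y₂ := by
    intro a
    have := f₂.over a
    rw [← this]
    exact (f₂.toFun a).2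
  let l₁ : Y₁ ⊓ Y₂ ⟶ Y₁ := homOfLE inf_le_left
  let l₂ : Y₁ ⊓ Y₂ ⟶ Y₂ := homOfLE inf_le_right
  let h : X ⟶ (An.opensToCl T).obj (Y₁ ⊓ Y₂) :=
    ⟨fun a => ⟨X.p a, h1 a, h2 a⟩, Continuous.subtype_mk X.lh.continuous _, fun _ => rfl⟩
  have e1 : f₁ = h ≫ (An.opensToCl T).map l₁ := by
    apply An.Cl.hom_ext
    funext a
    apply Subtype.ext
    exact f₁.over a
  have e2 : f₂ = h ≫ (An.opensToCl T).map l₂ := by
    apply An.Cl.hom_ext
    funext a
    apply Subtype.ext
    exact f₂.over a
  have hc := hx l₁ l₂ hg₁ hg₂ (Subsingleton.elim _ _)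
  rw [e1, e2, op_comp, op_comp, Functor.map_comp, Functor.map_comp]
  change ℱ.obj.map h.op (((An.opensToCl T).op ⋙ ℱ.obj).map l₁.op (x g₁ hg₁)) =
    ℱ.obj.map h.op (((An.opensToCl T).op ⋙ ℱ.obj).map l₂.op (x g₂ hg₂))
  rw [hc]


/-- For a topological space T, the inclusion of the opens of T into the site of local homeomorphisms
over T is continuous. This is the hypothesis An.OpCont carried by statements that restrict classical
sheaves to opens. -/
theorem result (T : Type u) [TopologicalSpace T] :
    An.OpCont T := by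
  exact Functor.isContinuous_of_coverPreserving (compatiblePreserving_opensToCl T)
    (coverPreserving_opensToCl T)

end Groth.Agent.S4211
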