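import Groth.Statements.S4212
import Groth.Agent.Lib.Helper19.An.OpensDense

set_option autoImplicit false
universe u
open An

namespace Groth.Agent.S4212

/-- For a topological space T, the topos of the site of local homeomorphisms over T is equivalent to
that of T: restriction of abelian sheaves along the inclusion of the opens of T is an equivalence of
categories. -/
theorem result (T : Type u) [TopologicalSpace T] [An.OpCont T] :
    (An.resOpens T).IsEquivalence :=
  Groth.Agent.Lib.Helper19.OpensDense.isEquivalence_resOpens T

end Groth.Agent.S4212
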