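import Groth.Statements.S4243
import Mathlib

set_option autoImplicit false
open SGA4h

namespace Groth.Agent.S4243

/-- Let k be a finite field with q elements and P a nonzero homogeneous polynomial of degree d in r+1
variables over k. If P vanishes at every point of k^{r+1} (that is, the hypersurface P = 0 in
projective r-space passes through every rational point), then d ≥ q + 1. -/
theorem result (k : Type) [Field k] [Fintype k] (r d : ℕ)
    (P : MvPolynomial (Fin (r + 1)) k) (hP : P.IsHomogeneous d) (hP0 : P ≠ 0)
    (hvan : ∀ x : Fin (r + 1) → k, MvPolynomial.eval x P = 0) :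
    Fintype.card k + 1 ≤ d := by
  classical
  by_contra hlt
  push Not at hlt
  have hq2 : 2 ≤ Fintype.card k := Fintype.one_lt_card
  set q := Fintype.card k with hq
  have hdq : d ≤ q := by omega
  set c : Fin (r + 1) → k := fun i => MvPolynomial.coeff (Finsupp.single i q) P with hc
  have hsingle_eq : ∀ (s : Fin (r + 1) →₀ ℕ) (i : Fin (r + 1)), q ≤ s i → s.degree ≤ q →
      s = Finsupp.single i q := by
    intro s i hi hs
    rw [Finsupp.degree_eq_sum, ← Finset.add_sum_erase _ _ (Finset.mem_univ i)] at hs
    have h1 : s i = q := by omega
    have h2 : ∑ j ∈ Finset.univ.erase i, s j = 0 := by omega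
    ext j
    by_cases hj : j = i
    · subst hj
      simp [h1]
    · rw [Finsupp.single_apply, if_neg (Ne.symm hj)]
      exact Finset.sum_eq_zero_iff.mp h2 j (Finset.mem_erase.mpr ⟨hj, Finset.mem_univ _⟩)
  have hQ : P - ∑ j, MvPolynomial.C (c j) * MvPolynomial.X j ^ q ∈
      MvPolynomial.restrictDegree (Fin (r + 1)) k (q - 1) := by
    rw [MvPolynomial.mem_restrictDegree]
    intro s hs i
    by_contra hsi
    push Not at hsi
    have hcoef : MvPolynomial.coeff s (P - ∑ j, MvPolynomial.C (c j) * MvPolynomial.X j ^ q) =
        MvPolynomial.coeff s P - ∑ j, c j * (if Finsupp.single j q = s then 1 else 0) := by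
      rw [MvPolynomial.coeff_sub, MvPolynomial.coeff_sum]
      congr 1
      refine Finset.sum_congr rfl fun j _ => ?_
      rw [MvPolynomial.coeff_C_mul, MvPolynomial.coeff_X_pow]
    rw [MvPolynomial.mem_support_iff, hcoef] at hs
    by_cases hP0' : MvPolynomial.coeff s P = 0
    · apply hs
      rw [hP0', zero_sub, neg_eq_zero]
      refine Finset.sum_eq_zero fun j _ => ?_
      split_ifs with hj
      · rw [← hj] at hP0'
        rw [show c j = 0 from hP0', zero_mul]
      · rw [mul_zero]
    · have hdeg : s.degree = d := by
        by_contra hne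
        exact hP0' (hP.coeff_eq_zero hne)
      have hs' := hsingle_eq s i (by omega) (by omega)
      apply hs
      rw [hs', Finset.sum_eq_single i]
      · simp [hc]
      · intro j _ hji
        rw [if_neg, mul_zero]
        intro h
        exact hji ((Finsupp.single_left_inj (by omega)).mp h)
      · intro h
        exact absurd (Finset.mem_univ i) h
  have hL : ∑ j, MvPolynomial.C (c j) * MvPolynomial.X j ∈
      MvPolynomial.restrictDegree (Fin (r + 1)) k (q - 1) := by
    refine Submodule.sum_mem _ fun j _ => ?_
    rw [MvPolynomial.mem_restrictDegree]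
    intro s hs i
    rw [MvPolynomial.mem_support_iff, MvPolynomial.coeff_C_mul, MvPolynomial.coeff_X'] at hs
    split_ifs at hs with hj
    · rw [← hj, Finsupp.single_apply]
      split_ifs <;> omega
    · simp at hs
  have hsum := Submodule.add_mem _ hQ hL
  have hvan' : ∀ x : Fin (r + 1) → k, MvPolynomial.eval x
      (P - ∑ j, MvPolynomial.C (c j) * MvPolynomial.X j ^ q +
        ∑ j, MvPolynomial.C (c j) * MvPolynomial.X j) = 0 := by
    intro x
    rw [map_add, map_sub, hvan x, map_sum, map_sum, zero_sub, neg_add_eq_zero]
    refine Finset.sum_congr rfl fun j _ => ?_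
    simp only [map_mul, MvPolynomial.eval_C, map_pow, MvPolynomial.eval_X]
    rw [hq, FiniteField.pow_card]
  have hzero := MvPolynomial.eq_zero_of_eval_eq_zero (Fin (r + 1)) k _ hvan' hsum
  have hc0 : ∀ j, c j = 0 := by
    intro j
    by_cases hdq' : d = q
    · have h1 : MvPolynomial.coeff (Finsupp.single j 1) P = 0 := by
        apply hP.coeff_eq_zero
        rw [Finsupp.degree_single]
        omega
      have h2 := congrArg (MvPolynomial.coeff (Finsupp.single j 1)) hzero
      rw [MvPolynomial.coeff_add, MvPolynomial.coeff_sub, MvPolynomial.coeff_sum,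
        MvPolynomial.coeff_sum, h1, MvPolynomial.coeff_zero] at h2
      simp only [MvPolynomial.coeff_C_mul, MvPolynomial.coeff_X_pow, MvPolynomial.coeff_X'] at h2
      rw [Finset.sum_eq_zero, Finset.sum_eq_single j] at h2
      · simpa using h2
      · intro i _ hij
        rw [if_neg, mul_zero]
        intro h
        exact hij ((Finsupp.single_left_inj (by omega)).mp h)
      · intro h
        exact absurd (Finset.mem_univ j) h
      · intro i _
        rw [if_neg, mul_zero]
        intro h
        have := congrArg (fun t => t.degree) h
        simp only [Finsupp.degree_single] at this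
        omega
    · apply hP.coeff_eq_zero
      rw [Finsupp.degree_single]
      exact fun h => hdq' h.symm
  apply hP0
  simpa [hc0] using hzero

end Groth.Agent.S4243
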