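import Groth.Statements.S4256
import Mathlib.NumberTheory.LegendreSymbol.AddCharacter
import Mathlib.Algebra.BigOperators.Ring.Finset
-- import your own Groth.Agent.* helpers here

set_option autoImplicit false
open scoped BigOperators
open SGA4h

namespace Groth.Agent.S4256

theorem map_sum' {k R ι : Type} [AddCommGroup k] [CommRing R] (ψ : AddChar k R) (s : Finset ι)
    (f : ι → k) : ψ (∑ i ∈ s, f i) = ∏ i ∈ s, ψ (f i) := by
  classical
  induction s using Finset.induction_on with
  | empty => simp
  | insert a s ha ih =>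
    rw [Finset.sum_insert ha, Finset.prod_insert ha, AddChar.map_add_eq_mul, ih]

/-- Let k be a finite field, ψ a nontrivial additive character of k with values in a domain R, and n ≥
1. Then the generalised Kloosterman sum with parameter 0, Σ ψ(x_1 + ⋯ + x_n) over all (x_1, …, x_n)
∈ k^n with x_1 ⋯ x_n = 0, equals (-1)^{n-1}. -/
theorem result (k : Type) [Field k] [Fintype k] [DecidableEq k] (R : Type) [CommRing R] [IsDomain R]
    (ψ : AddChar k R) (hψ : ψ ≠ 1) (n : ℕ) (hn : 1 ≤ n) :
    ∑ x ∈ (Finset.univ : Finset (Fin n → k)).filter (fun x => ∏ i, x i = 0), ψ (∑ i, x i) = (-1) ^ (n - 1) := by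
  have hsum : ∑ a : k, ψ a = 0 := AddChar.sum_eq_zero_of_ne_one hψ
  have hall : ∑ x : Fin n → k, ψ (∑ i, x i) = 0 := by
    simp_rw [map_sum']
    have h1 := Finset.prod_univ_sum (fun _ : Fin n => (Finset.univ : Finset k))
      (fun _ a => ψ a)
    rw [Fintype.piFinset_univ] at h1
    rw [← h1, Finset.prod_const, hsum, Finset.card_univ, Fintype.card_fin, zero_pow (by omega)]
  have hunits : ∑ a ∈ (Finset.univ : Finset k).filter (fun a => a ≠ 0), ψ a = -1 := by
    have h2 := Finset.sum_filter_add_sum_filter_not (Finset.univ : Finset k) (fun a => a ≠ 0)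
      (fun a => ψ a)
    rw [hsum] at h2
    have h3 : (Finset.univ : Finset k).filter (fun a => ¬ a ≠ 0) = {0} := by
      ext a
      simp
    rw [h3, Finset.sum_singleton, AddChar.map_zero_eq_one] at h2
    exact eq_neg_of_add_eq_zero_left h2
  have hnz : ∑ x ∈ (Finset.univ : Finset (Fin n → k)).filter (fun x => ¬ ∏ i, x i = 0),
      ψ (∑ i, x i) = (-1) ^ n := by
    simp_rw [map_sum']
    have h1 := Finset.prod_univ_sum (fun _ : Fin n => (Finset.univ : Finset k).filter (fun a => a ≠ 0))
      (fun _ a => ψ a)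
    have h4 : (Finset.univ : Finset (Fin n → k)).filter (fun x => ¬ ∏ i, x i = 0) =
        Fintype.piFinset (fun _ : Fin n => (Finset.univ : Finset k).filter (fun a => a ≠ 0)) := by
      ext x
      simp [Finset.prod_eq_zero_iff]
    rw [h4, ← h1, Finset.prod_const, hunits, Finset.card_univ, Fintype.card_fin]
  have htot := Finset.sum_filter_add_sum_filter_not (Finset.univ : Finset (Fin n → k))
    (fun x => ∏ i, x i = 0) (fun x => ψ (∑ i, x i))
  rw [hall, hnz] at htot
  obtain ⟨m, rfl⟩ : ∃ m, n = m + 1 := ⟨n - 1, by omega⟩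
  rw [Nat.add_sub_cancel]
  have := eq_neg_of_add_eq_zero_left htot
  rw [this, pow_succ]
  ring

end Groth.Agent.S4256
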