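import Groth.Statements.S4269
import Groth.Agent.Lib.Helper35.ResFam

set_option autoImplicit false
universe u
open CategoryTheory CategoryTheory.Limits AlgebraicGeometry
attribute [local instance] HasDerivedCategory.standard
open KSix

namespace Groth.Agent.S4269

/-- Let X be a quasi-compact quasi-separated scheme and (L_i) an ample family of invertible O_X-modules
(the affine opens X_s, for s a global section of some L_i^{⊗ n}, n ≥ 1, cover X). Then every
quasi-coherent O_X-module of finite type F receives an epimorphism from a finite direct sum of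
modules of the form L_i^{⊗ -n} with n > 0. (The printed statement uses a single exponent n_i for
each member L_i; the form here, allowing several powers of the same member, is slightly weaker.) -/
theorem result (X : Scheme.{u}) {ι : Type u} (L : ι → X.Modules)
    (hL : KSix.IsAmpleFamily L) (F : X.Modules) (hF : Coh.IsQCoh F) (hF' : CohB1.IsFT F) :
    ∃ (M : X.Modules) (π : M ⟶ F), KSix.InAddL L M ∧ Epi π := by
  classical
  obtain ⟨hc, hq, hinv, hcov⟩ := hL
  haveI := hc
  haveI := hq
  choose i n s hx haff using hcov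
  obtain ⟨t, ht⟩ := isCompact_univ.elim_finite_subcover
    (fun x : X => (CohB1.genLocus _ (s x) : Set X)) (fun x => (CohB1.genLocus _ (s x)).2)
    (fun x _ => Set.mem_iUnion.mpr ⟨x, hx x⟩)
  let pt : Fin t.card → X := fun a => (t.equivFin.symm a).1
  have hpt : ∀ x ∈ t, ∃ a, pt a = x := fun x hxt => ⟨t.equivFin ⟨x, hxt⟩, by simp [pt]⟩
  obtain ⟨nn, hnn, k, π, hπ⟩ := Groth.Agent.Lib.Helper35.ResProp.exists_epi_of_finite_cover F
    ⟨hF, hF'⟩ (fun a => CohB1.tensorPow (L (i (pt a))) (n (pt a) + 1))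
    (fun a => Groth.Agent.Lib.Helper35.Gen.isInvertible_tensorPow (hinv _) _)
    (fun a => s (pt a)) (fun a => haff (pt a)) (fun x => by
      have h1 := ht (Set.mem_univ x)
      obtain ⟨y, hy⟩ := Set.mem_iUnion.mp h1
      obtain ⟨hyt, hxy⟩ := Set.mem_iUnion.mp hy
      obtain ⟨a, ha⟩ := hpt y hyt
      exact ⟨a, by rw [ha]; exact hxy⟩)
  let D : Fin t.card → X.Modules := fun a => Groth.Agent.Lib.Helper35.Dual.dual
    (CohB1.tensorPow (CohB1.tensorPow (L (i (pt a))) (n (pt a) + 1)) nn)
  haveI : Finite (Σ a : Fin t.card, Fin (k a)) := inferInstance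
  obtain ⟨K, ⟨e⟩⟩ := Finite.exists_equiv_fin (Σ a : Fin t.card, Fin (k a))
  let N : Fin K → X.Modules := (fun p : Σ a : Fin t.card, Fin (k a) => D p.1) ∘ e.symm
  have hN : ∀ j, KSix.IsNegPower L (N j) := by
    intro j
    refine ⟨i (pt (e.symm j).1), (n (pt (e.symm j).1) + 1) * nn, Nat.mul_pos (Nat.succ_pos _) hnn, ?_⟩
    have hA : PicF.IsInvertible (CohB1.tensorPow (CohB1.tensorPow (L (i (pt (e.symm j).1)))
        (n (pt (e.symm j).1) + 1)) nn) :=
      Groth.Agent.Lib.Helper35.Gen.isInvertible_tensorPow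
        (Groth.Agent.Lib.Helper35.Gen.isInvertible_tensorPow (hinv _) _) _
    obtain ⟨m⟩ := Groth.Agent.Lib.Lead.Inv.nonempty_tensorPow_mul (hinv (i (pt (e.symm j).1)))
      (n (pt (e.symm j).1) + 1) nn
    obtain ⟨d⟩ := Groth.Agent.Lib.Helper35.Dual.isInverseOf_dual hA
    exact ⟨Groth.Agent.Lib.Helper60.TensorLib.tensorModCongrRight _ m.symm ≪≫ d⟩
  let φ : (⨁ N) ≅ (∐ fun a : Fin t.card => ∐ fun _ : Fin (k a) => D a) :=
    biproduct.isoCoproduct N ≪≫
      Sigma.reindex e.symm (fun p : Σ a : Fin t.card, Fin (k a) => D p.1) ≪≫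
      (sigmaSigmaIso (fun a : Fin t.card => Fin (k a)) (fun a _ => D a)).symm
  refine ⟨⨁ N, φ.hom ≫ π, ⟨K, N, hN, ⟨Iso.refl _⟩⟩, ?_⟩
  exact epi_comp _ _

end Groth.Agent.S4269
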