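import Groth.Statements.S4270
import Groth.Agent.S4269
import Groth.Agent.Lib.Helper35.FinLocFreeSum

set_option autoImplicit false
universe u
open CategoryTheory CategoryTheory.Limits AlgebraicGeometry
attribute [local instance] HasDerivedCategory.standard
open KSix

namespace Groth.Agent.S4270

/-- A scheme admitting an ample family of invertible modules has the resolution property: every
quasi-coherent module of finite type is a quotient of a finite locally free module. -/
theorem result (X : Scheme.{u}) (hX : MoreMor.HasAmpleFamily X) :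
    PerfAux.HasResolutionProperty X := by
  classical
  obtain ⟨hc, hpts⟩ := hX
  haveI := hc
  choose L n s hinv hn hx haff using hpts
  have hq : QuasiSeparatedSpace X := by
    apply Groth.Agent.Lib.Helper35.AffDiag.quasiSeparatedSpace_of_cover
    intro x
    exact ⟨_, hx x, haff x, Groth.Agent.Lib.Helper35.GenLocus.isAffineHom_genLocus_ι _
      (Groth.Agent.Lib.Helper35.Gen.isInvertible_tensorPow (hinv x) (n x)) (s x)⟩
  have hfam : KSix.IsAmpleFamily L := by
    refine ⟨hc, hq, hinv, fun x => ?_⟩
    have key : ∀ (m : ℕ) (_ : 1 ≤ m) (σ : Coh.structureModule X ⟶ CohB1.tensorPow (L x) m),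
        x ∈ CohB1.genLocus _ σ → IsAffineOpen (CohB1.genLocus _ σ) →
        ∃ (i : X) (n' : ℕ) (s' : Coh.structureModule X ⟶ CohB1.tensorPow (L i) (n' + 1)),
          x ∈ CohB1.genLocus _ s' ∧ IsAffineOpen (CohB1.genLocus _ s') := by
      intro m hm σ h1 h2
      cases m with
      | zero => omega
      | succ m' => exact ⟨x, m', σ, h1, h2⟩
    exact key (n x) (hn x) (s x) (hx x) (haff x)
  intro M hM hft
  obtain ⟨E, π, ⟨k, N, hN, ⟨e⟩⟩, hπ⟩ := Groth.Agent.S4269.result X L hfam M hM hft
  refine ⟨E, π, ?_, hπ⟩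
  refine Groth.Agent.Lib.Helper7.FinLocFree.isFinLocFree_of_iso e.symm ?_
  refine Groth.Agent.Lib.Helper35.FinLocFreeSum.isFinLocFree_biproduct N (fun j => ?_)
  obtain ⟨i, m, hm, ⟨ε⟩⟩ := hN j
  exact Groth.Agent.Lib.Helper35.FinLocFreeSum.isFinLocFree_of_isInvertible
    (Groth.Agent.Lib.Helper35.TensorInv.isInvertible_of_tensor_iso _ _ ε)

end Groth.Agent.S4270
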