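import Groth.Statements.S4275
import Groth.Agent.Lib.Helper2.PerfAmp
import Groth.Agent.Lib.Helper15.TildePerf
import Groth.Agent.Lib.Helper12.StalkExact2

set_option autoImplicit false
universe u
open CategoryTheory CategoryTheory.Limits AlgebraicGeometry
attribute [local instance] HasDerivedCategory.standard
open KSix

namespace Groth.Agent.S4275

open Groth.Agent.Lib.Helper2.PerfAmp Groth.Agent.Lib.Helper2.DCohBase
  Groth.Agent.Lib.Helper2.DCohPC


/-- For the ringed space underlying a scheme: let E ∈ D(O_X) and m ≤ n. Then E has perfect amplitude in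
[m, n] (locally isomorphic to a complex of finite locally free modules placed in degrees [m, n]) if
and only if E is (m-1)-pseudo-coherent and has tor amplitude in [m, n] (is isomorphic to a complex
of flat modules placed in degrees [m, n]). (The source states this on an arbitrary ringed topos,
with tor amplitude defined through Tor sheaves.) -/
theorem result (X : Scheme.{u}) (E : DCoh.D X) (m n : ℤ) (hmn : m ≤ n) :
    KSix.HasPerfectAmplitudeIn m n E ↔ DCoh.IsPseudoCoherentD (m - 1) E ∧ DCoh.HasFlatAmplitudeIn m n E := by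
  constructor
  · intro h
    refine ⟨?_, ?_⟩
    · intro x
      obtain ⟨V, hxV, hV⟩ := h x
      refine ⟨V, hxV, fun F hF => ?_⟩
      obtain ⟨E', hE0, hEf, ⟨ε⟩⟩ := hV F hF
      exact ⟨E', ε.inv, ⟨⟨m, n, hE0⟩, hEf⟩, fun i _ => inferInstance, inferInstance⟩
    · obtain ⟨F, ⟨e⟩⟩ := exists_rep E
      have hT : DerSch.HasTorAmplitude (𝟙 X) m n F := by
        intro x
        obtain ⟨V, hxV, hV⟩ := h x
        obtain ⟨E', hE0, hEf, ⟨ε⟩⟩ := hV F ⟨e⟩
        exact Groth.Agent.Lib.Helper15.TildePerf.hasTorAmplitudeAt_id_of_local F V E'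
          ⟨⟨m, n, hE0⟩, hEf⟩ m n hE0 ε ⟨x, hxV⟩
      obtain ⟨G, hG0, hGfl, ⟨e'⟩⟩ :=
        Groth.Agent.Lib.Helper12.StalkExact.hasFlatAmplitudeIn_of_hasTorAmplitude_id F m n hT
      exact ⟨G, hG0, hGfl, ⟨e' ≪≫ e⟩⟩
  · rintro ⟨hpc, hfl⟩
    rw [hasPerfectAmplitudeIn_iff]
    intro x
    obtain ⟨G, hG0, hGfl, ⟨e⟩⟩ := hfl
    exact perfAmpAt_of_flat_of_pcAt E G m n hmn hG0 hGfl e x ((isPseudoCoherentD_iff _ _).1 hpc x)

end Groth.Agent.S4275
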