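import Groth.Statements.S4329
import Groth.Agent.Lib.Helper12.RDer
import Groth.Agent.Lib.Helper4.EtStalk
import Groth.Agent.Lib.Helper13.KInjDerAdj

set_option autoImplicit false
universe u
open CategoryTheory CategoryTheory.Limits AlgebraicGeometry Opposite
attribute [local instance] HasDerivedCategory.standard
open EtSix

namespace Groth.Agent.S4329

section Helpers
open Groth.Agent.Lib.Helper13 in
theorem isRightDerived_compUnit {X Y Z : Scheme.{u}} (f : X ⟶ Y) (g : Y ⟶ Z)
    [DCoh.HasRpushEt X f] [DCoh.HasRpushEt Y g] :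
    (DCoh.RpushEt X f ⋙ DCoh.RpushEt Y g).IsRightDerivedFunctor (EtSix.compUnit f g)
      (HomotopyCategory.quasiIso (EtCoh.Ab X) (ComplexShape.up ℤ)) := by
  apply Groth.Agent.Lib.Helper12.RDer.isRightDerivedFunctor_of_isIso
  intro I hI
  haveI := hI
  haveI := Groth.Agent.Lib.Helper4.EtStalk.preservesFiniteLimits_pull f
  haveI : PreservesColimitsOfSize.{0, 0} (EtCoh.pull f) :=
    (EtCoh.pullPushAdj f).leftAdjoint_preservesColimits
  haveI : PreservesFiniteColimits (EtCoh.pull f) :=
    PreservesColimitsOfSize.preservesFiniteColimits _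
  haveI : (EtCoh.pull f).Additive := (EtCoh.pullPushAdj f).left_adjoint_additive
  haveI hfI : CochainComplex.IsKInjective
      (((EtCoh.push f).mapHomologicalComplex (ComplexShape.up ℤ)).obj I) :=
    KInjDerAdj.isKInjective_map (EtCoh.pullPushAdj f) I
  haveI h1 : IsIso (((DCoh.pushEtKh X f).totalRightDerivedUnit DerivedCategory.Qh
      (HomotopyCategory.quasiIso (EtCoh.Ab X) (ComplexShape.up ℤ))).app
        ((HomotopyCategory.quotient _ _).obj I)) :=
    Groth.Agent.Lib.Helper25.KInjDerived.isIso_unit_homotopyCategory _ _ _ _ I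
  haveI h2 : IsIso (((DCoh.pushEtKh Y g).totalRightDerivedUnit DerivedCategory.Qh
      (HomotopyCategory.quasiIso (EtCoh.Ab Y) (ComplexShape.up ℤ))).app
        (((EtCoh.push f).mapHomotopyCategory (ComplexShape.up ℤ)).obj
            ((HomotopyCategory.quotient (EtCoh.Ab X) (ComplexShape.up ℤ)).obj I))) :=
    Groth.Agent.Lib.Helper25.KInjDerived.isIso_unit_homotopyCategory _ _ _ _
      (((EtCoh.push f).mapHomologicalComplex (ComplexShape.up ℤ)).obj I)
  haveI h0 : IsIso (NatTrans.mapHomotopyCategory (EtCoh.pushComp g f).inv (ComplexShape.up ℤ)) :=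
    ⟨NatTrans.mapHomotopyCategory (EtCoh.pushComp g f).hom (ComplexShape.up ℤ),
      by rw [← NatTrans.mapHomotopyCategory_comp, Iso.inv_hom_id, NatTrans.mapHomotopyCategory_id],
      by rw [← NatTrans.mapHomotopyCategory_comp, Iso.hom_inv_id, NatTrans.mapHomotopyCategory_id]⟩
  dsimp [EtSix.compUnit]
  simp only [Category.id_comp, Category.comp_id]
  infer_instance

end Helpers

/-- Composition of derived direct images: for the small etale sites of schemes and abelian sheaves: let
f : X -> Y and g : Y -> Z be morphisms of schemes and assume the unbounded derived direct images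
Rf_*, Rg_* and R(g ∘ f)_* exist (they do; the existence is recorded as instance hypotheses). Then
the canonical morphism R(g ∘ f)_* -> Rg_* ∘ Rf_* of functors D(X_et) -> D(Z_et), induced by (g ∘
f)_* ≅ g_* ∘ f_* through the universal property of R(g ∘ f)_* as a right derived functor, is an
isomorphism. -/
theorem result {X Y Z : Scheme.{u}} (f : X ⟶ Y) (g : Y ⟶ Z)
    [DCoh.HasRpushEt X f] [DCoh.HasRpushEt Y g] [DCoh.HasRpushEt X (f ≫ g)] :
    IsIso (EtSix.compMap f g) := by
  haveI := isRightDerived_compUnit f g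
  exact (Functor.isRightDerivedFunctor_iff_isIso_rightDerivedDesc (DCoh.RpushEt X (f ≫ g))
    ((DCoh.pushEtKh X (f ≫ g)).totalRightDerivedUnit DerivedCategory.Qh
      (HomotopyCategory.quasiIso (EtCoh.Ab X) (ComplexShape.up ℤ)))
    (HomotopyCategory.quasiIso (EtCoh.Ab X) (ComplexShape.up ℤ))
    (DCoh.RpushEt X f ⋙ DCoh.RpushEt Y g) (EtSix.compUnit f g)).1 inferInstance

end Groth.Agent.S4329
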