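import Groth.Statements.S4337
import Groth.Agent.Lib.Helper61.LinTopLib
import Mathlib.RingTheory.Nakayama
import Mathlib.LinearAlgebra.TensorProduct.Quotient

set_option autoImplicit false
universe u
open LinTop

namespace Groth.Agent.S4337

/-- Let A be an admissible ring, J an ideal of definition, and u : M -> N a homomorphism of A-modules
with N of finite type. Then u is surjective if and only if u tensored with A/J is surjective. -/
theorem result
    (A : Type u) [CommRing A] [UniformSpace A] [IsUniformAddGroup A] [IsTopologicalRing A]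
    (hA : LinTop.IsAdmissible A) (J : Ideal A) (hJ : LinTop.IsIdealOfDefinition A J)
    (M N : Type u) [AddCommGroup M] [Module A M] [AddCommGroup N] [Module A N] [Module.Finite A N]
    (u : M →ₗ[A] N) :
    Function.Surjective u ↔ Function.Surjective (u.rTensor (A ⧸ J)) := by
  refine ⟨fun h => LinearMap.rTensor_surjective _ h, fun h => ?_⟩
  have hjac := Groth.Agent.Lib.Helper61.LinTopLib.le_jacobson_bot hA hJ
  have key : ∀ t : TensorProduct A M (A ⧸ J), ∃ m : M,
      TensorProduct.tensorQuotEquivQuotSMul N J (u.rTensor (A ⧸ J) t) =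
        Submodule.Quotient.mk (u m) := by
    intro t
    induction t using TensorProduct.induction_on with
    | zero => exact ⟨0, by simp⟩
    | tmul m r =>
      obtain ⟨r, rfl⟩ := Ideal.Quotient.mk_surjective r
      exact ⟨r • m, by simp⟩
    | add x y hx hy =>
      obtain ⟨a, ha⟩ := hx
      obtain ⟨b, hb⟩ := hy
      exact ⟨a + b, by simp [ha, hb]⟩
  have htop : (⊤ : Submodule A N) ≤ LinearMap.range u ⊔ J • (⊤ : Submodule A N) := by
    intro n _
    obtain ⟨t, ht⟩ := h (n ⊗ₜ[A] (1 : A ⧸ J))
    obtain ⟨m, hm⟩ := key t
    rw [ht] at hm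
    have h1 : TensorProduct.tensorQuotEquivQuotSMul N J (n ⊗ₜ[A] (1 : A ⧸ J)) =
        Submodule.Quotient.mk n := by
      rw [← map_one (Ideal.Quotient.mk J), TensorProduct.tensorQuotEquivQuotSMul_tmul_mk, one_smul]
    rw [h1, Submodule.Quotient.eq] at hm
    have : n = u m + (n - u m) := by abel
    rw [this]
    exact Submodule.add_mem_sup (LinearMap.mem_range_self u m) hm
  have := Submodule.le_of_le_smul_of_le_jacobson_bot (Module.Finite.fg_top) hjac htop
  exact LinearMap.range_eq_top.mp (top_le_iff.mp this)

end Groth.Agent.S4337
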