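import Groth.Statements.S4338
import Groth.Agent.Lib.Helper61.LinTopLib

set_option autoImplicit false
universe u
open LinTop

namespace Groth.Agent.S4338

/-- For a finitely generated ideal. Let A be an admissible ring and I a finitely generated ideal
contained in an ideal of definition of A. Then A is separated and complete for the I-adic topology.
(The published statement has no finiteness hypothesis on I and is then not correct: the completion
of a polynomial ring in countably many variables over a field along the ideal generated by the
variables, with its inverse-limit topology, is admissible, the kernel of its projection onto the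
field is an ideal of definition, and the ring is not adically complete for that kernel.) -/
theorem result
    (A : Type u) [CommRing A] [UniformSpace A] [IsUniformAddGroup A] [IsTopologicalRing A]
    (hA : LinTop.IsAdmissible A) (J : Ideal A) (hJ : LinTop.IsIdealOfDefinition A J)
    (I : Ideal A) (hI : I.FG) (hIJ : I ≤ J) :
    IsAdicComplete I A := by
  obtain ⟨⟨hlin, _⟩, hT2, hC⟩ := hA
  have := Groth.Agent.Lib.Helper61.LinTopLib.nonarchimedeanRing_of_isLinearTopology A hlin
  have htend : ∀ d : ℕ → A, (∀ m, d m ∈ I ^ m) → Filter.Tendsto d Filter.atTop (nhds 0) := by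
    intro d hd
    rw [Filter.tendsto_def]
    intro U hU
    obtain ⟨n, _, hn⟩ := hJ.2 U hU
    rw [Filter.mem_atTop_sets]
    exact ⟨n, fun m hm => hn (Ideal.pow_le_pow_right hm (Ideal.pow_right_mono hIJ m (hd m)))⟩
  refine { toIsHausdorff := ⟨?_⟩, toIsPrecomplete := ⟨?_⟩ }
  · intro x hx
    have hx' : ∀ n, x ∈ I ^ n := by
      intro n
      have := hx n
      rw [SModEq.zero, smul_eq_mul, Ideal.mul_top] at this
      exact this
    by_contra hne
    have hU : ({x}ᶜ : Set A) ∈ nhds (0 : A) :=
      isOpen_compl_singleton.mem_nhds (by simpa using Ne.symm hne)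
    obtain ⟨n, _, hn⟩ := hJ.2 _ hU
    exact hn (Ideal.pow_right_mono hIJ n (hx' n)) rfl
  · intro f hf
    have hf' : ∀ m n, m ≤ n → f n - f m ∈ I ^ m := by
      intro m n hmn
      have := (hf hmn).symm
      rw [SModEq.sub_mem, smul_eq_mul, Ideal.mul_top] at this
      exact this
    have hcs : CauchySeq f := by
      apply NonarchimedeanAddGroup.cauchySeq_of_tendsto_sub_nhds_zero
      exact htend _ (fun m => hf' m (m + 1) (Nat.le_succ m))
    obtain ⟨L, hL⟩ := cauchySeq_tendsto_of_complete hcs
    refine ⟨L, fun n => ?_⟩
    rw [SModEq.sub_mem, smul_eq_mul, Ideal.mul_top]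
    obtain ⟨k, g, hg⟩ := Submodule.fg_iff_exists_fin_generating_family.mp (hI.pow (n := n))
    have hdec : ∀ m : ℕ, ∃ a : Fin k → A, (∀ j, a j ∈ I ^ m) ∧
        f (m + 1 + n) - f (m + n) = ∑ j, a j * g j := by
      intro m
      have h1 : f (m + 1 + n) - f (m + n) ∈ I ^ (m + n) := hf' _ _ (by omega)
      rw [pow_add, ← smul_eq_mul, ← hg, Submodule.mem_ideal_smul_span_iff_exists_sum] at h1
      obtain ⟨a, ha, hsum⟩ := h1
      refine ⟨a, ha, ?_⟩
      rw [← hsum, Finsupp.sum_fintype _ _ (fun i => by simp)]
      simp
    choose d hd1 hd2 using hdec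
    set S : ℕ → Fin k → A := fun N j => ∑ m ∈ Finset.range N, d m j with hS
    have hSf : ∀ N, f (N + n) - f n = ∑ j, S N j * g j := by
      intro N
      induction N with
      | zero => simp [hS]
      | succ N ih =>
        have : f (N + 1 + n) - f n = (f (N + 1 + n) - f (N + n)) + (f (N + n) - f n) := by ring
        rw [this, ih, hd2, ← Finset.sum_add_distrib]
        refine Finset.sum_congr rfl fun j _ => ?_
        simp only [hS, Finset.sum_range_succ]
        ring
    have hSc : ∀ j, ∃ C, Filter.Tendsto (fun N => S N j) Filter.atTop (nhds C) := by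
      intro j
      apply cauchySeq_tendsto_of_complete
      apply NonarchimedeanAddGroup.cauchySeq_of_tendsto_sub_nhds_zero
      have : (fun N => S (N + 1) j - S N j) = fun N => d N j := by
        funext N
        simp [hS, Finset.sum_range_succ]
      rw [this]
      exact htend _ (fun m => hd1 m j)
    choose C hC' using hSc
    have h1 : Filter.Tendsto (fun N => ∑ j, S N j * g j) Filter.atTop (nhds (∑ j, C j * g j)) :=
      tendsto_finsetSum _ (fun j _ => (hC' j).mul_const (g j))
    have h2 : Filter.Tendsto (fun N => f (N + n) - f n) Filter.atTop (nhds (L - f n)) :=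
      ((Filter.tendsto_add_atTop_iff_nat n).mpr hL).sub_const (f n)
    have h3 : (fun N => f (N + n) - f n) = fun N => ∑ j, S N j * g j := funext hSf
    rw [h3] at h2
    have h4 := tendsto_nhds_unique h2 h1
    have h5 : L - f n ∈ I ^ n := by
      rw [h4, ← hg]
      exact Submodule.sum_mem _ fun j _ =>
        Submodule.smul_mem _ _ (Submodule.subset_span (Set.mem_range_self j))
    have : f n - L = -(L - f n) := by ring
    rw [this]
    exact (I ^ n).neg_mem h5

end Groth.Agent.S4338
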