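import Groth.Statements.S4342
import Groth.Agent.Lib.Helper40.SubSh7
import Groth.Agent.S2250

set_option autoImplicit false
universe u
open QCohSup

namespace Groth.Agent.S4342

open AlgebraicGeometry CategoryTheory Opposite
open Groth.Agent.Lib.Helper40.SSh Groth.Agent.Lib.Helper40.SSh.SubSh

open AlgebraicGeometry in
open CategoryTheory in
open Opposite in
/-- In the sectionwise form its proof gives. Let X be a scheme whose underlying space is locally
Noetherian and F a quasi-coherent O_X-module. For every affine open U and every section s of F over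
U there is a quasi-coherent sub-O_X-module of finite type of F having s among its sections over U;
hence F is the inductive limit of its quasi-coherent submodules of finite type. -/
theorem result
    {X : Scheme.{u}}
    (hX : ∀ x : X, ∃ U : X.Opens, x ∈ U ∧ TopologicalSpace.NoetherianSpace (U : Set X))
    (F : X.Modules) [Coh.IsQCoh F]
    (U : X.affineOpens) (s : F.val.obj (op (U : X.Opens))) :
    ∃ (G' : X.Modules) (i' : G' ⟶ F), Mono i' ∧ Coh.IsQCoh G' ∧ CohB1.IsFT G' ∧
      ∃ g : G'.val.obj (op (U : X.Opens)), (i'.val.app (op (U : X.Opens))).hom g = s := by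
  obtain ⟨inst, hwf⟩ := exists_wellFoundedLT X.affineOpens
  let s' : Γ(F, U.1) := s
  let M : Submodule Γ(X, U.1) Γ(F, U.1) := Submodule.span Γ(X, U.1) {s'}
  obtain ⟨G', i', hmono, hq, hft, hmem⟩ := exists_extension_subSh (L := X.affineOpens)
    (fun l => l.1) (fun l => l.2) (iSup_affineOpens_eq_top X) U.1
    (fun l => Groth.Agent.S2250.isCompact_of_subset hX l.2.isCompact (fun x hx => hx.1))
    F (gen U.1 (M : Set Γ(F, U.1))) (isLocal_gen _ _) (fun T s hs => gen_closed _ _ s hs)
    (fun V' hV'a hV' => ⟨qcOn_gen_of_le _ _ hV'a hV',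
      fg_gen_of_le _ M (Submodule.fg_span_singleton s') hV'a hV'⟩)
  obtain ⟨g, hg⟩ := (hmem U.1 le_rfl s').1 (subset_gen _ _ (Submodule.mem_span_singleton_self s'))
  exact ⟨G', i', hmono, hq, hft, g, hg⟩

end Groth.Agent.S4342
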