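import Groth.Statements.S4344
import Mathlib.AlgebraicGeometry.Birational.RationalMap

set_option autoImplicit false
universe u
open RatMapD

namespace Groth.Agent.S4344

section

open AlgebraicGeometry CategoryTheory Scheme

variable (S : Scheme.{u}) {X Y : Scheme.{u}} [X.Over S] [Y.Over S]

abbrev Idx (f : X ⤏ Y) : Type u := {h : X.PartialMap Y // h.IsOver S ∧ h.toRationalMap = f}

def dom (f : X ⤏ Y) : X.Opens := ⨆ h : Idx S f, h.1.domain

theorem le_dom (f : X ⤏ Y) (h : Idx S f) : h.1.domain ≤ dom S f :=
  le_iSup (fun h : Idx S f => h.1.domain) h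

set_option backward.isDefEq.respectTransparency false in
noncomputable def cover (f : X ⤏ Y) : (dom S f).toScheme.OpenCover where
  I₀ := Idx S f
  X h := h.1.domain.toScheme
  f h := X.homOfLE (le_dom S f h)
  mem₀ := by
    rw [presieve₀_mem_precoverage_iff]
    refine ⟨fun x ↦ ?_, inferInstance⟩
    obtain ⟨h, hx⟩ := TopologicalSpace.Opens.mem_iSup.mp x.2
    exact ⟨h, ⟨x.1, hx⟩, Subtype.ext (by simp)⟩

set_option backward.isDefEq.respectTransparency false in
noncomputable def glued [IsReduced X] [IsSeparated (Y ↘ S)] (f : X ⤏ Y) :
    (dom S f).toScheme ⟶ Y :=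
  (cover S f).glueMorphisms (fun h => h.1.hom) (by
    intro x y
    have hx : x.1.IsOver S := x.2.1
    have hy : y.1.IsOver S := y.2.1
    refine (cancel_epi (isPullback_opens_inf_le (le_dom S f x) (le_dom S f y)).isoPullback.hom).mp ?_
    simp only [cover, IsPullback.isoPullback_hom_fst_assoc, IsPullback.isoPullback_hom_snd_assoc]
    have := (PartialMap.equiv_iff_of_isSeparated (S := S) (f := x.1) (g := y.1)).mp
      (by rw [← PartialMap.toRationalMap_eq_iff, x.2.2, y.2.2])
    simpa using this)

set_option backward.isDefEq.respectTransparency false in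
theorem ι_glued [IsReduced X] [IsSeparated (Y ↘ S)] (f : X ⤏ Y) (h : Idx S f) :
    X.homOfLE (le_dom S f h) ≫ glued S f = h.1.hom :=
  (cover S f).ι_glueMorphisms _ _ h

end

set_option backward.isDefEq.respectTransparency.types false in
set_option backward.defeqAttrib.useBackward true in
open AlgebraicGeometry in
open CategoryTheory in
/-- Let X be a reduced S-scheme, Y an S-scheme separated over S and f an S-rational map from X to Y.
There is a representative g of f which is an S-morphism and of which every S-morphism representing f
is a restriction; in particular g is the unique S-morphism of the class of f defined on the largest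
open where some S-representative is defined. (The published statement speaks of the domain of
definition among all representatives; over a base that is not separated that domain can be larger
than the one on which an S-representative exists, and this row takes the latter.) -/
theorem result
    (S X Y : Scheme.{u}) [X.Over S] [Y.Over S] [IsReduced X] [IsSeparated (Y ↘ S)]
    (f : X ⤏ Y) [f.IsOver S] :
    ∃ g : X.PartialMap Y, g.IsOver S ∧ g.toRationalMap = f ∧
      ∀ h : X.PartialMap Y, h.IsOver S → h.toRationalMap = f →
        ∃ hle : h.domain ≤ g.domain, h = g.restrict h.domain h.dense_domain hle := by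
  obtain ⟨h₀, hh₀, rfl⟩ := f.exists_partialMap_over S
  let i₀ : Idx S h₀.toRationalMap := ⟨h₀, hh₀, rfl⟩
  have hdense : Dense (X := X) (dom S h₀.toRationalMap) :=
    h₀.dense_domain.mono (le_dom S _ i₀)
  let g : X.PartialMap Y := ⟨dom S h₀.toRationalMap, hdense, glued S h₀.toRationalMap⟩
  have key : ∀ h : Idx S h₀.toRationalMap,
      h.1 = g.restrict h.1.domain h.1.dense_domain (le_dom S _ h) := by
    intro h
    refine Scheme.PartialMap.ext _ _ rfl ?_
    simpa using (ι_glued S _ h).symm
  have hg : g.IsOver S := by
    rw [Scheme.PartialMap.isOver_iff]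
    simp only [Scheme.PartialMap.compHom_hom]
    refine (cover S h₀.toRationalMap).hom_ext _ _ fun h => ?_
    have hh : h.1.IsOver S := h.2.1
    have := (Scheme.PartialMap.isOver_iff (S := S) (f := h.1)).mp hh
    simp only [Scheme.PartialMap.compHom_hom] at this
    show X.homOfLE (le_dom S _ h) ≫ glued S _ ≫ (Y ↘ S) =
      X.homOfLE (le_dom S _ h) ≫ (dom S _).ι ≫ (X ↘ S)
    rw [← Category.assoc, ι_glued, this]
    simp
  refine ⟨g, hg, ?_, ?_⟩
  · have h1 := key i₀
    have h2 : h₀ = g.restrict h₀.domain h₀.dense_domain (le_dom S _ i₀) := h1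
    conv_rhs => rw [h2]
    exact (Scheme.PartialMap.restrict_toRationalMap ..).symm
  · intro h hh hf
    exact ⟨le_dom S _ ⟨h, hh, hf⟩, key ⟨h, hh, hf⟩⟩

end Groth.Agent.S4344
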