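import Groth.Statements.S4345
import Groth.Agent.S2281
import Mathlib.RingTheory.LocalRing.LocalSubring
import Mathlib.Tactic.TFAE

set_option autoImplicit false
universe u
open SchLoc

namespace Groth.Agent.S4345

section

open IsLocalRing

variable {R : Type u} [Field R]

theorem ofPrime_congr {A : Subring R} {P P' : Ideal A} [P.IsPrime] [P'.IsPrime] (h : P = P') :
    LocalSubring.ofPrime A P = LocalSubring.ofPrime A P' := by
  subst h
  rfl

theorem ofPrime_comap_le (A : Subring R) (M : LocalSubring R) (hA : A ≤ M.toSubring) :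
    LocalSubring.ofPrime A ((maximalIdeal M.toSubring).comap (Subring.inclusion hA)) ≤ M :=
  Groth.Agent.S2281.ofPrime_comap_le R A M hA

theorem eq_comap_of_le (A : Subring R) (M : LocalSubring R) (P : Ideal A) [P.IsPrime]
    (hA : A ≤ M.toSubring) (h : LocalSubring.ofPrime A P ≤ M) :
    P = (maximalIdeal M.toSubring).comap (Subring.inclusion hA) :=
  (Groth.Agent.S2281.result R A M).2 P hA h

theorem comap_ofPrime (C : Subring R) (r : Ideal C) [r.IsPrime] (A : Subring R) (hAC : A ≤ C)
    (hA : A ≤ (LocalSubring.ofPrime C r).toSubring) :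
    (maximalIdeal (LocalSubring.ofPrime C r).toSubring).comap (Subring.inclusion hA) =
      r.comap (Subring.inclusion hAC) := by
  have h1 := IsLocalization.AtPrime.under_maximalIdeal (LocalSubring.ofPrime C r).toSubring r
  ext x
  rw [Ideal.mem_comap, Ideal.mem_comap]
  conv_rhs => rw [← h1]
  rfl

theorem comap_of_le {D Q : LocalSubring R} (h : D ≤ Q) (A : Subring R) (hAD : A ≤ D.toSubring)
    (hAQ : A ≤ Q.toSubring) :
    (maximalIdeal Q.toSubring).comap (Subring.inclusion hAQ) =
      (maximalIdeal D.toSubring).comap (Subring.inclusion hAD) := by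
  obtain ⟨hle, hloc⟩ := h
  have := IsLocalRing.maximalIdeal_comap (Subring.inclusion hle)
  rw [← this, Ideal.comap_comap]
  rfl

end


/-- Let A and B be subrings of a field R, C the subring generated by A and B, and for a subring E let
L(E) be the set of local subrings E_p of R, p a prime ideal of E. The following are equivalent: (i)
for every local subring Q of R containing A and B, the localizations of A and of B at the traces of
the maximal ideal of Q coincide; (ii) for every prime ideal r of C the localizations of A and B at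
the traces of r coincide; (iii) two members of L(A) and L(B) dominated by a common local subring of
R are equal; (iv) the intersection of L(A) and L(B) is L(C). -/
theorem result
    (R : Type u) [Field R] (A B : Subring R) :
    [ ∀ (Q : LocalSubring R) (hA : A ≤ Q.toSubring) (hB : B ≤ Q.toSubring),
        LocalSubring.ofPrime A ((IsLocalRing.maximalIdeal Q.toSubring).comap (Subring.inclusion hA)) =
          LocalSubring.ofPrime B ((IsLocalRing.maximalIdeal Q.toSubring).comap (Subring.inclusion hB)),
      ∀ r : PrimeSpectrum ↥(A ⊔ B),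
        LocalSubring.ofPrime A (r.asIdeal.comap (Subring.inclusion (le_sup_left : A ≤ A ⊔ B))) =
          LocalSubring.ofPrime B (r.asIdeal.comap (Subring.inclusion (le_sup_right : B ≤ A ⊔ B))),
      ∀ (p : PrimeSpectrum A) (q : PrimeSpectrum B),
        (∃ Q : LocalSubring R, LocalSubring.ofPrime A p.asIdeal ≤ Q ∧ LocalSubring.ofPrime B q.asIdeal ≤ Q) →
          LocalSubring.ofPrime A p.asIdeal = LocalSubring.ofPrime B q.asIdeal,
      Set.range (fun p : PrimeSpectrum A ↦ LocalSubring.ofPrime A p.asIdeal) ∩
          Set.range (fun q : PrimeSpectrum B ↦ LocalSubring.ofPrime B q.asIdeal) =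
        Set.range (fun r : PrimeSpectrum ↥(A ⊔ B) ↦ LocalSubring.ofPrime (A ⊔ B) r.asIdeal) ].TFAE := by
  tfae_have 1 → 2 := by
    intro h1 r
    have hA : A ≤ (LocalSubring.ofPrime (A ⊔ B) r.asIdeal).toSubring :=
      le_sup_left.trans (LocalSubring.le_ofPrime _ _)
    have hB : B ≤ (LocalSubring.ofPrime (A ⊔ B) r.asIdeal).toSubring :=
      le_sup_right.trans (LocalSubring.le_ofPrime _ _)
    have := h1 (LocalSubring.ofPrime (A ⊔ B) r.asIdeal) hA hB
    exact (ofPrime_congr (comap_ofPrime (A ⊔ B) r.asIdeal A le_sup_left hA)).symm.trans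
      (this.trans (ofPrime_congr (comap_ofPrime (A ⊔ B) r.asIdeal B le_sup_right hB)))
  tfae_have 2 → 1 := by
    intro h2 Q hA hB
    have hC : A ⊔ B ≤ Q.toSubring := sup_le hA hB
    have := h2 ⟨(IsLocalRing.maximalIdeal Q.toSubring).comap (Subring.inclusion hC), inferInstance⟩
    refine (ofPrime_congr ?_).trans (this.trans (ofPrime_congr ?_))
    · rw [Ideal.comap_comap]
      rfl
    · rw [Ideal.comap_comap]
      rfl
  tfae_have 1 → 3 := by
    rintro h1 p q ⟨Q, hp, hq⟩
    have hA : A ≤ Q.toSubring := (LocalSubring.le_ofPrime A p.asIdeal).trans hp.1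
    have hB : B ≤ Q.toSubring := (LocalSubring.le_ofPrime B q.asIdeal).trans hq.1
    exact (ofPrime_congr (eq_comap_of_le A Q p.asIdeal hA hp)).trans
      ((h1 Q hA hB).trans (ofPrime_congr (eq_comap_of_le B Q q.asIdeal hB hq)).symm)
  tfae_have 3 → 1 := by
    intro h3 Q hA hB
    exact h3 ⟨(IsLocalRing.maximalIdeal Q.toSubring).comap (Subring.inclusion hA), inferInstance⟩
      ⟨(IsLocalRing.maximalIdeal Q.toSubring).comap (Subring.inclusion hB), inferInstance⟩
      ⟨Q, ofPrime_comap_le A Q hA, ofPrime_comap_le B Q hB⟩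
  tfae_have 2 → 4 := by
    intro h2
    apply Set.Subset.antisymm
    · rintro D ⟨⟨p, rfl⟩, ⟨q, hq⟩⟩
      simp only at hq
      have hA : A ≤ (LocalSubring.ofPrime A p.asIdeal).toSubring := LocalSubring.le_ofPrime _ _
      have hB : B ≤ (LocalSubring.ofPrime A p.asIdeal).toSubring := by
        rw [← hq]
        exact LocalSubring.le_ofPrime _ _
      have hC : A ⊔ B ≤ (LocalSubring.ofPrime A p.asIdeal).toSubring := sup_le hA hB
      refine ⟨⟨(IsLocalRing.maximalIdeal (LocalSubring.ofPrime A p.asIdeal).toSubring).comap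
        (Subring.inclusion hC), inferInstance⟩, ?_⟩
      simp only
      apply le_antisymm
      · exact ofPrime_comap_le (A ⊔ B) _ hC
      · have hA' : A ≤ (LocalSubring.ofPrime (A ⊔ B)
            ((IsLocalRing.maximalIdeal (LocalSubring.ofPrime A p.asIdeal).toSubring).comap
              (Subring.inclusion hC))).toSubring :=
          le_sup_left.trans (LocalSubring.le_ofPrime _ _)
        have h3 := ofPrime_comap_le A _ hA'
        have h4 := comap_ofPrime (A ⊔ B)
          ((IsLocalRing.maximalIdeal (LocalSubring.ofPrime A p.asIdeal).toSubring).comap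
              (Subring.inclusion hC)) A le_sup_left hA'
        have h5 : p.asIdeal = (IsLocalRing.maximalIdeal
            (LocalSubring.ofPrime A p.asIdeal).toSubring).comap (Subring.inclusion hA) :=
          eq_comap_of_le A _ p.asIdeal hA le_rfl
        have h6 : p.asIdeal = (IsLocalRing.maximalIdeal (LocalSubring.ofPrime (A ⊔ B)
            ((IsLocalRing.maximalIdeal (LocalSubring.ofPrime A p.asIdeal).toSubring).comap
              (Subring.inclusion hC))).toSubring).comap (Subring.inclusion hA') := by
          rw [h4, Ideal.comap_comap]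
          exact h5
        exact (ofPrime_congr h6).le.trans h3
    · rintro D ⟨r, rfl⟩
      simp only
      have hA : A ≤ (LocalSubring.ofPrime (A ⊔ B) r.asIdeal).toSubring :=
        le_sup_left.trans (LocalSubring.le_ofPrime _ _)
      have hB : B ≤ (LocalSubring.ofPrime (A ⊔ B) r.asIdeal).toSubring :=
        le_sup_right.trans (LocalSubring.le_ofPrime _ _)
      have hAr := comap_ofPrime (A ⊔ B) r.asIdeal A le_sup_left hA
      have hBr := comap_ofPrime (A ⊔ B) r.asIdeal B le_sup_right hB
      have hDA : LocalSubring.ofPrime A (r.asIdeal.comap (Subring.inclusion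
          (le_sup_left : A ≤ A ⊔ B))) ≤ LocalSubring.ofPrime (A ⊔ B) r.asIdeal :=
        (ofPrime_congr hAr).symm.le.trans (ofPrime_comap_le A _ hA)
      have hAD : A ≤ (LocalSubring.ofPrime A (r.asIdeal.comap (Subring.inclusion
          (le_sup_left : A ≤ A ⊔ B)))).toSubring := LocalSubring.le_ofPrime _ _
      have hBD : B ≤ (LocalSubring.ofPrime A (r.asIdeal.comap (Subring.inclusion
          (le_sup_left : A ≤ A ⊔ B)))).toSubring := by
        rw [h2 r]
        exact LocalSubring.le_ofPrime _ _
      have hCD : A ⊔ B ≤ (LocalSubring.ofPrime A (r.asIdeal.comap (Subring.inclusion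
          (le_sup_left : A ≤ A ⊔ B)))).toSubring := sup_le hAD hBD
      have h7 := comap_of_le hDA (A ⊔ B) hCD (LocalSubring.le_ofPrime _ _)
      have h8 := comap_ofPrime (A ⊔ B) r.asIdeal (A ⊔ B) le_rfl (LocalSubring.le_ofPrime _ _)
      have h9 : r.asIdeal = (IsLocalRing.maximalIdeal (LocalSubring.ofPrime A
          (r.asIdeal.comap (Subring.inclusion (le_sup_left : A ≤ A ⊔ B)))).toSubring).comap
          (Subring.inclusion hCD) := by
        rw [← h7, h8]
        ext x
        rfl
      have hle : LocalSubring.ofPrime (A ⊔ B) r.asIdeal ≤ LocalSubring.ofPrime A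
          (r.asIdeal.comap (Subring.inclusion (le_sup_left : A ≤ A ⊔ B))) :=
        (ofPrime_congr h9).le.trans (ofPrime_comap_le (A ⊔ B) _ hCD)
      have heq := le_antisymm hle hDA
      refine ⟨⟨⟨r.asIdeal.comap (Subring.inclusion (le_sup_left : A ≤ A ⊔ B)), inferInstance⟩,
        heq.symm⟩, ⟨⟨r.asIdeal.comap (Subring.inclusion (le_sup_right : B ≤ A ⊔ B)),
        inferInstance⟩, ?_⟩⟩
      simp only
      rw [← h2 r]
      exact heq.symm
  tfae_have 4 → 2 := by
    intro h4 r
    have hr : LocalSubring.ofPrime (A ⊔ B) r.asIdeal ∈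
        Set.range (fun r : PrimeSpectrum ↥(A ⊔ B) ↦ LocalSubring.ofPrime (A ⊔ B) r.asIdeal) :=
      ⟨r, rfl⟩
    rw [← h4] at hr
    obtain ⟨⟨p, hp⟩, ⟨q, hq⟩⟩ := hr
    simp only at hp hq
    have hA : A ≤ (LocalSubring.ofPrime (A ⊔ B) r.asIdeal).toSubring :=
      le_sup_left.trans (LocalSubring.le_ofPrime _ _)
    have hB : B ≤ (LocalSubring.ofPrime (A ⊔ B) r.asIdeal).toSubring :=
      le_sup_right.trans (LocalSubring.le_ofPrime _ _)
    have hAr := comap_ofPrime (A ⊔ B) r.asIdeal A le_sup_left hA
    have hBr := comap_ofPrime (A ⊔ B) r.asIdeal B le_sup_right hB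
    have hp' := eq_comap_of_le A _ p.asIdeal hA hp.le
    have hq' := eq_comap_of_le B _ q.asIdeal hB hq.le
    rw [hAr] at hp'
    rw [hBr] at hq'
    exact (ofPrime_congr hp').symm.trans (hp.trans (hq.symm.trans (ofPrime_congr hq')))
  tfae_finish

end Groth.Agent.S4345
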