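import Groth.Statements.S4346
import Groth.Agent.Lib.Lead.Allied

set_option autoImplicit false
universe u
open SchLoc

namespace Groth.Agent.S4346

open AlgebraicGeometry in
/-- On an integral separated scheme distinct points have distinct local rings inside the function field. -/
theorem result (X : Scheme.{u}) [IsIntegral X] [X.IsSeparated] :
    Function.Injective (fun x : X ↦ (algebraMap (X.presheaf.stalk x) X.functionField).range) := by
  intro x y hxy
  have hxy' : (algebraMap (X.presheaf.stalk x) X.functionField).range =
      (algebraMap (X.presheaf.stalk y) X.functionField).range := hxy
  have h : LocalSubring.range (algebraMap (X.presheaf.stalk y) X.functionField) =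
      LocalSubring.range (algebraMap (X.presheaf.stalk x) X.functionField) :=
    LocalSubring.toSubring_injective hxy'.symm
  exact Groth.Agent.Lib.Lead.eq_of_allied x y
    (LocalSubring.range (algebraMap (X.presheaf.stalk x) X.functionField)) le_rfl h.le

end Groth.Agent.S4346
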