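import Groth.Statements.S4349
import Mathlib.Algebra.Category.Ring.FilteredColimits
import Mathlib.CategoryTheory.Limits.ConcreteCategory.Basic

set_option autoImplicit false
universe u
open RatFun

namespace Groth.Agent.S4349

open AlgebraicGeometry CategoryTheory TopologicalSpace Opposite in
/-- The dense opens of a scheme form a cofiltered category. -/
instance isFiltered_denseOpens (X : Scheme.{u}) :
    IsFiltered ((RatFun.IsDenseOpen X).FullSubcategory)ᵒᵖ where
  cocone_objs U V :=
    ⟨op ⟨U.unop.obj ⊓ V.unop.obj,
        (U.unop.property.inter_of_isOpen_left V.unop.property U.unop.obj.isOpen :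
          Dense ((U.unop.obj : Set X) ∩ (V.unop.obj : Set X)))⟩,
      (ObjectProperty.homMk (homOfLE inf_le_left)).op,
      (ObjectProperty.homMk (homOfLE inf_le_right)).op, trivial⟩
  cocone_maps U V f g :=
    ⟨V, 𝟙 V, by
      have : f = g := Quiver.Hom.unop_inj (ObjectProperty.hom_ext _ (Subsingleton.elim _ _))
      rw [this]⟩
  nonempty := ⟨op ⟨⊤, by
    show Dense ((⊤ : X.Opens) : Set X)
    simp⟩⟩

open AlgebraicGeometry in
/-- Second assertion (in the form: sections over a dense open inject into the ring of rational
functions). Let X be a reduced scheme and V a dense open subset of X. The canonical map from the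
sections of O_X over V to the ring R(X) of rational functions on X is injective. (The published
statement also assumes X locally integral or locally Noetherian; that hypothesis serves the
quasi-coherence of the sheaf of rational functions and is not needed here.) -/
theorem result (X : Scheme.{u}) [IsReduced X]
    (V : X.Opens) (hV : Dense (V : Set X)) :
    Function.Injective (RatFun.toRing X V hV) := by
  refine (injective_iff_map_eq_zero (RatFun.toRing X V hV).hom).mpr ?_
  intro x hx
  obtain ⟨k, f, g, hfg⟩ := CategoryTheory.Limits.Concrete.colimit_exists_of_rep_eq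
    (RatFun.sectionsOnDense X) (i := Opposite.op ⟨V, hV⟩) (j := Opposite.op ⟨V, hV⟩) x 0
    (by rw [map_zero]; exact hx)
  rw [map_zero] at hfg
  have hW : Dense ((k.unop.obj : X.Opens) : Set X) := k.unop.property
  have h1 : X.basicOpen (X.presheaf.map (f.unop.hom).op x) = k.unop.obj ⊓ X.basicOpen x :=
    AlgebraicGeometry.Scheme.basicOpen_res _ x _
  have h0 : X.presheaf.map (f.unop.hom).op x = 0 := hfg
  rw [h0, AlgebraicGeometry.Scheme.basicOpen_zero] at h1
  rw [← AlgebraicGeometry.basicOpen_eq_bot_iff]
  by_contra hne
  have hne' : ((X.basicOpen x : X.Opens) : Set X).Nonempty := by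
    rw [Set.nonempty_iff_ne_empty]
    intro h
    exact hne (TopologicalSpace.Opens.ext (by simpa using h))
  obtain ⟨y, hy1, hy2⟩ := hW.inter_open_nonempty _ (X.basicOpen x).isOpen hne'
  have : y ∈ (k.unop.obj ⊓ X.basicOpen x : X.Opens) := ⟨hy2, hy1⟩
  rw [← h1] at this
  exact this

end Groth.Agent.S4349
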