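import Groth.Statements.S4352
import Groth.Agent.Lib.Helper40.QCAlgSub2

set_option autoImplicit false
universe u
open QCohSup

namespace Groth.Agent.S4352

open AlgebraicGeometry CategoryTheory Opposite
open Groth.Agent.Lib.Helper40.QCAlgGen Groth.Agent.Lib.Helper40.SSh Groth.Agent.Lib.Lead.CohAff

open AlgebraicGeometry in
open CategoryTheory in
open Opposite in
/-- Case b), in the sectionwise form its proof gives. Let X be a scheme that is quasi-compact and
separated and B a quasi-coherent O_X-algebra. Every section of B over an affine open U lies in a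
quasi-coherent sub-O_X-algebra of B whose sections over every affine open form an algebra of finite
type over the functions; hence B is the inductive limit of its quasi-coherent sub-O_X-algebras of
finite type. -/
theorem result
    {X : Scheme.{u}} [CompactSpace X] [X.IsSeparated] (B : RelSpec.QCAlg X)
    (U : X.affineOpens) (b : B.presheaf.obj (op (U : X.Opens))) :
    ∃ (B' : RelSpec.QCAlg X) (φ : B' ⟶ B),
      (∀ V : X.Opens, Function.Injective (φ.hom.app (op V)).hom) ∧
      (∀ V : X.affineOpens, (B'.str.app (op (V : X.Opens))).hom.FiniteType) ∧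
      b ∈ Set.range (φ.hom.app (op (U : X.Opens))).hom := by
  haveI := Groth.Agent.Lib.Helper2.QCAlgMod.toModule_isQuasicoherent B
  obtain ⟨E, j, hmono, hq, hft, hmem⟩ := exists_ft_sub_of_fg_qcqs B.toModule U.2
    (Submodule.span Γ(X, U.1) {(show Γ(B.toModule, U.1) from b)}) (Submodule.fg_span_singleton _)
  haveI := hq
  obtain ⟨g, hg⟩ := hmem _ (Submodule.mem_span_singleton_self _)
  refine ⟨subAlg B j, subAlgι B j, fun V => subAlgι_injective B j V,
    fun V => subAlg_finiteType B j V.2 (finite_sections_of_isFiniteType E hft V.2), ?_⟩
  have := mem_range_subAlgι B j g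
  rwa [hg] at this

end Groth.Agent.S4352
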