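import Groth.Statements.S4353
import Groth.Agent.Lib.Helper40.QCAlgGen

set_option autoImplicit false
universe u
open QCohSup

namespace Groth.Agent.S4353

open AlgebraicGeometry CategoryTheory Opposite

theorem quasiSeparatedSpace_of_noetherianSpace (α : Type*) [TopologicalSpace α]
    [TopologicalSpace.NoetherianSpace α] : QuasiSeparatedSpace α :=
  ⟨fun U V _ _ _ _ => TopologicalSpace.NoetherianSpace.isCompact (U ∩ V)⟩

open AlgebraicGeometry in
open CategoryTheory in
open Opposite in
/-- Case b). Let X be a scheme whose underlying space is Noetherian and B a quasi-coherent O_X-algebra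
of finite type (finite type being asked on every affine open, which is equivalent to the local
condition). There is a quasi-coherent sub-O_X-module of finite type E of B that generates B as an
O_X-algebra (over every affine open U, the ring B(U) is generated by the images of O_X(U) and of
E(U)). -/
theorem result
    {X : Scheme.{u}} [TopologicalSpace.NoetherianSpace X] (B : RelSpec.QCAlg X)
    (hB : ∀ U : X.affineOpens, (B.str.app (op (U : X.Opens))).hom.FiniteType) :
    ∃ (E : X.Modules) (j : E ⟶ B.toModule), Mono j ∧ Coh.IsQCoh E ∧ CohB1.IsFT E ∧
      ∀ U : X.affineOpens,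
        Subring.closure (Set.range (B.str.app (op (U : X.Opens))).hom ∪
          Set.range (fun e : E.val.obj (op (U : X.Opens)) ↦
            (show B.presheaf.obj (op (U : X.Opens)) from (j.val.app (op (U : X.Opens))).hom e))) = ⊤ := by
  haveI : QuasiSeparatedSpace X := quasiSeparatedSpace_of_noetherianSpace X
  obtain ⟨E, j, h1, h2, h3, h4⟩ := Groth.Agent.Lib.Helper40.QCAlgGen.exists_generating_sub B hB
  exact ⟨E, j, h1, h2, h3, h4⟩

end Groth.Agent.S4353
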