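import Groth.Statements.S4355
import Groth.Agent.Lib.Helper40.SubSh6

set_option autoImplicit false
universe u v
open QCohSup

namespace Groth.Agent.S4355

open AlgebraicGeometry CategoryTheory

open AlgebraicGeometry in
open CategoryTheory in
/-- Let X be a scheme, L a well-ordered set and (V_l) a cover of X by affine opens indexed by L such
that, for every l, the intersection of V_l with the union of the V_m, m < l, is quasi-compact; let U
be an open subset of X whose inclusion morphism is quasi-compact. Then for every quasi-coherent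
O_X-module F and every quasi-coherent subsheaf of finite type G of F restricted to U there is a
quasi-coherent subsheaf of finite type G' of F whose restriction to U is G. -/
theorem result
    {X : Scheme.{u}} {L : Type v} [LinearOrder L] [WellFoundedLT L]
    (V : L → X.Opens) (hV : ∀ l, IsAffineOpen (V l)) (hcov : ⨆ l, V l = ⊤)
    (hW : ∀ l, IsCompact ((V l : Set X) ∩ ⋃ m ∈ Set.Iio l, (V m : Set X)))
    (U : X.Opens) [QuasiCompact U.ι] (F : X.Modules) [Coh.IsQCoh F]
    (G : (U : Scheme.{u}).Modules) (i : G ⟶ F.restrict U.ι) [Mono i]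
    [Coh.IsQCoh G] (hG : CohB1.IsFT G) :
    ∃ (G' : X.Modules) (i' : G' ⟶ F) (e : G'.restrict U.ι ≅ G), Mono i' ∧ Coh.IsQCoh G' ∧ CohB1.IsFT G' ∧
      e.hom ≫ i = (Scheme.Modules.restrictFunctor U.ι).map i' := by
  refine Groth.Agent.Lib.Helper40.SSh.exists_extension_module V hV hcov U ?_ F G i hG
  intro l
  have h1 : IsCompact ((V l : Set X) ∩ (U : Set X)) := by
    have hc : IsCompact ((U.ι ⁻¹ᵁ V l : (U : Scheme.{u}).Opens) : Set U) :=
      U.ι.isCompact_preimage (hV l).isCompact
    have := hc.image U.ι.continuous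
    convert this using 1
    ext x
    constructor
    · rintro ⟨hxV, hxU⟩
      exact ⟨⟨x, hxU⟩, hxV, rfl⟩
    · rintro ⟨y, hy, rfl⟩
      exact ⟨hy, y.2⟩
  have h2 := h1.union (hW l)
  convert h2 using 1
  ext x
  simp only [Groth.Agent.Lib.Helper40.SSh.SubSh.Wl, TopologicalSpace.Opens.coe_inf,
    TopologicalSpace.Opens.coe_sup, TopologicalSpace.Opens.coe_iSup, Set.mem_inter_iff,
    Set.mem_union, Set.mem_iUnion, SetLike.mem_coe, Set.mem_Iio, Subtype.exists, exists_prop]
  tauto

end Groth.Agent.S4355
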