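import Groth.Statements.S4359
import Mathlib.AlgebraicGeometry.Noetherian
import Mathlib.AlgebraicGeometry.Morphisms.FiniteType
-- import your own Groth.Agent.* helpers here

set_option autoImplicit false
universe u
open FinCond

namespace Groth.Agent.S4359

open AlgebraicGeometry in
open CategoryTheory in
/-- Let S be a locally Noetherian scheme, p : X -> S a morphism of finite type (locally of finite type
and quasi-compact) and q : Y -> S any morphism. Then every morphism f : X -> Y with f followed by q
equal to p is of finite type, that is, locally of finite type and quasi-compact. -/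
theorem result
    {X Y S : Scheme.{u}} [IsLocallyNoetherian S] (p : X ⟶ S) (q : Y ⟶ S)
    [LocallyOfFiniteType p] [QuasiCompact p] (f : X ⟶ Y) (hf : f ≫ q = p) :
    LocallyOfFiniteType f ∧ QuasiCompact f := by
  subst hf
  refine ⟨locallyOfFiniteType_of_comp f q, ?_⟩
  have : IsLocallyNoetherian X := LocallyOfFiniteType.isLocallyNoetherian (f ≫ q)
  constructor
  intro U hUo hUc
  have hqU : IsCompact (q '' U) := hUc.image q.continuous
  have hcov : q '' U ⊆ ⋃ W : S.affineOpens, ((W : S.Opens) : Set S) := by
    intro s _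
    have : s ∈ (⊤ : S.Opens) := trivial
    rw [← iSup_affineOpens_eq_top S] at this
    obtain ⟨W, hW⟩ := TopologicalSpace.Opens.mem_iSup.mp this
    exact Set.mem_iUnion.mpr ⟨W, hW⟩
  obtain ⟨t, ht⟩ := hqU.elim_finite_subcover (fun W : S.affineOpens => ((W : S.Opens) : Set S))
    (fun W => W.1.2) hcov
  have heq : f ⁻¹' U = ⋃ W ∈ t, (f ⁻¹' U ∩ ((f ≫ q) ⁻¹ᵁ (W : S.Opens) : Set X)) := by
    ext x
    simp only [Set.mem_iUnion, Set.mem_inter_iff, exists_prop]
    constructor
    · intro hx
      have h1 : (f ≫ q) x ∈ q '' U := ⟨f x, hx, by simp⟩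
      obtain ⟨W, hW, hxW⟩ := Set.mem_iUnion₂.mp (ht h1)
      exact ⟨W, hW, hx, hxW⟩
    · rintro ⟨W, _, hx, _⟩
      exact hx
  rw [heq]
  refine t.finite_toSet.isCompact_biUnion fun W _ => ?_
  set V : X.Opens := (f ≫ q) ⁻¹ᵁ (W : S.Opens) with hV
  have hVc : IsCompact (V : Set X) :=
    QuasiCompact.isCompact_preimage (f := f ≫ q) _ W.1.2 W.2.isCompact
  have : CompactSpace V := isCompact_iff_compactSpace.mp hVc
  have : IsNoetherian (V : Scheme) := {}
  have h1 : IsCompact (V.ι ⁻¹' (f ⁻¹' U)) := TopologicalSpace.NoetherianSpace.isCompact _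
  have h2 := h1.image V.ι.continuous
  rw [Set.image_preimage_eq_inter_range, Scheme.Opens.range_ι] at h2
  exact h2

end Groth.Agent.S4359
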