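import Groth.Statements.S4360
import Mathlib.AlgebraicGeometry.Morphisms.Immersion
import Mathlib.Topology.NoetherianSpace
-- import your own Groth.Agent.* helpers here

set_option autoImplicit false
universe u
open FinCond

namespace Groth.Agent.S4360

open AlgebraicGeometry in
open CategoryTheory in
/-- Let f : X -> Y be an immersion and suppose that the underlying space of Y is locally Noetherian,
i.e. every point of Y has an open neighbourhood which is a Noetherian topological space. Then f is
quasi-compact (and hence of finite type, an immersion being locally of finite type). -/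
theorem result
    {X Y : Scheme.{u}} (f : X ⟶ Y) [IsImmersion f]
    (hY : ∀ y : Y, ∃ U : Y.Opens, y ∈ U ∧ TopologicalSpace.NoetherianSpace U) :
    QuasiCompact f := by
  constructor
  intro U hUo hUc
  have hf : Topology.IsEmbedding f := f.isEmbedding
  rw [hf.isInducing.isCompact_iff, Set.image_preimage_eq_inter_range]
  choose V hyV hV using hY
  have hcov : U ⊆ ⋃ y : Y, ((V y : Y.Opens) : Set Y) := fun y _ => Set.mem_iUnion.mpr ⟨y, hyV y⟩
  obtain ⟨t, ht⟩ := hUc.elim_finite_subcover (fun y => ((V y : Y.Opens) : Set Y))
    (fun y => (V y).2) hcov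
  have heq : U ∩ Set.range f = ⋃ y ∈ t, (U ∩ Set.range f ∩ ((V y : Y.Opens) : Set Y)) := by
    ext z
    simp only [Set.mem_inter_iff, Set.mem_iUnion, exists_prop]
    constructor
    · rintro ⟨hzU, hzr⟩
      obtain ⟨y, hy, hzy⟩ := Set.mem_iUnion₂.mp (ht hzU)
      exact ⟨y, hy, ⟨hzU, hzr⟩, hzy⟩
    · rintro ⟨y, _, h, _⟩
      exact h
  rw [heq]
  refine t.finite_toSet.isCompact_biUnion fun y _ => ?_
  have h1 := @TopologicalSpace.NoetherianSpace.isCompact _ _ (hV y)
    (Subtype.val ⁻¹' (U ∩ Set.range f))
  have h2 := h1.image continuous_subtype_val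
  have h3 := Subtype.image_preimage_coe ((V y : Y.Opens) : Set Y) (U ∩ Set.range f)
  rw [Set.inter_comm]
  exact h3 ▸ h2

end Groth.Agent.S4360
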