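import Groth.Statements.S4361

set_option autoImplicit false
universe u
open FinCond

namespace Groth.Agent.S4361

open AlgebraicGeometry in
open CategoryTheory in
/-- Let f : X -> Y and g : Y -> Z be morphisms whose composite is quasi-compact, and suppose the
underlying space of X is locally Noetherian (every point has an open neighbourhood which is a
Noetherian topological space). Then f is quasi-compact. (The published statement also covers the
case g separated, which is the standard cancellation property; this row states only the case of a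
locally Noetherian source.) -/
theorem result
    {X Y Z : Scheme.{u}} (f : X ⟶ Y) (g : Y ⟶ Z) [QuasiCompact (f ≫ g)]
    (hX : ∀ x : X, ∃ U : X.Opens, x ∈ U ∧ TopologicalSpace.NoetherianSpace U) :
    QuasiCompact f := by
  constructor
  intro U hU hUc
  have hK : IsCompact (g '' U) := hUc.image g.continuous
  have hZ : ∀ z : Z, ∃ W : Z.Opens, IsAffineOpen W ∧ z ∈ W := fun z ↦ by
    obtain ⟨W, hW, hz, -⟩ := exists_isAffineOpen_mem_and_subset (x := z) (U := ⊤) trivial
    exact ⟨W, hW, hz⟩
  choose W hWa hzW using hZ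
  obtain ⟨s, hs⟩ := hK.elim_finite_subcover (fun z ↦ (W z : Set Z)) (fun z ↦ (W z).isOpen)
    (fun z _ ↦ Set.mem_iUnion.2 ⟨z, hzW z⟩)
  have hWc : IsCompact (⋃ i ∈ s, (W i : Set Z)) :=
    s.isCompact_biUnion fun i _ ↦ (hWa i).isCompact
  have hWo : IsOpen (⋃ i ∈ s, (W i : Set Z)) :=
    isOpen_biUnion fun i _ ↦ (W i).isOpen
  have hc : IsCompact ((f ≫ g) ⁻¹' (⋃ i ∈ s, (W i : Set Z))) :=
    QuasiCompact.isCompact_preimage _ hWo hWc
  choose V hxV hV using hX
  obtain ⟨t, ht⟩ := hc.elim_finite_subcover (fun x ↦ (V x : Set X)) (fun x ↦ (V x).isOpen)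
    (fun x _ ↦ Set.mem_iUnion.2 ⟨x, hxV x⟩)
  have key : f ⁻¹' U = ⋃ i ∈ t, (f ⁻¹' U ∩ (V i : Set X)) := by
    rw [← Set.inter_iUnion₂]
    refine (Set.inter_eq_left.2 ?_).symm
    refine subset_trans ?_ ht
    intro x hx
    exact hs ⟨f x, hx, rfl⟩
  rw [key]
  exact t.isCompact_biUnion fun i _ ↦
    ((TopologicalSpace.noetherianSpace_set_iff _).1 (hV i) _ Set.inter_subset_right)

end Groth.Agent.S4361
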