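import Groth.Statements.S4362
import Mathlib.Data.DFinsupp.WellFounded

set_option autoImplicit false
universe u
open FinCond

namespace Groth.Agent.S4362

open AlgebraicGeometry in
open CategoryTheory in
/-- If X is a Noetherian scheme, every increasing sequence of quasi-coherent sheaves of ideals of the
structure sheaf is eventually constant; equivalently the ordered set of quasi-coherent ideal sheaves
of X is well-founded for the reverse order. (On a locally Noetherian scheme quasi-coherent and
coherent ideal sheaves coincide.) -/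
theorem result
    (X : Scheme.{u}) [IsNoetherian X] : WellFoundedGT X.IdealSheafData := by
  obtain ⟨s, hs, hs'⟩ := (isCompact_iff_finite_and_eq_biUnion_affineOpens (U := (⊤ : X.Opens))).1
    (by simpa using isCompact_univ)
  have hfin : Finite s := hs.to_subtype
  have hcov : ⨆ i : s, (i.1 : X.Opens) = ⊤ := by
    rw [hs', iSup_subtype]
  have hN : ∀ i : s, IsNoetherianRing Γ(X, i.1) := fun i ↦
    IsLocallyNoetherian.component_noetherian i.1
  have hwf : WellFoundedGT (∀ i : s, Ideal Γ(X, i.1)) := by
    have h1 : WellFoundedLT (∀ i : s, (Ideal Γ(X, i.1))ᵒᵈ) := Pi.wellFoundedLT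
    exact ⟨h1.wf⟩
  let φ : X.IdealSheafData → (∀ i : s, Ideal Γ(X, i.1)) := fun I i ↦ I.ideal i.1
  have hφ : StrictMono φ := by
    intro I J hIJ
    refine lt_of_le_of_ne (fun i ↦ hIJ.le i.1) ?_
    intro h
    refine hIJ.ne (Scheme.IdealSheafData.ext_of_iSup_eq_top (fun i : s ↦ i.1) hcov fun i ↦ ?_)
    exact congrFun h i
  exact hφ.wellFoundedGT

end Groth.Agent.S4362
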