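import Groth.Statements.S4363
import Mathlib.AlgebraicGeometry.Morphisms.Separated
import Mathlib.AlgebraicGeometry.Morphisms.Affine

set_option autoImplicit false
universe u v
open RedSep

namespace Groth.Agent.S4363

open AlgebraicGeometry CategoryTheory CategoryTheory.Limits

theorem closure_eq_top_of_isPushout {A B C P : CommRingCat.{u}} {f : A ⟶ B} {g : A ⟶ C}
    {inl : B ⟶ P} {inr : C ⟶ P} (h : IsPushout f g inl inr) :
    Subring.closure (Set.range inl.hom ∪ Set.range inr.hom) = ⊤ := by
  let G := Subring.closure (Set.range inl.hom ∪ Set.range inr.hom)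
  let inl' : B ⟶ CommRingCat.of G := CommRingCat.ofHom
    (inl.hom.codRestrict G (fun b ↦ Subring.subset_closure (Or.inl ⟨b, rfl⟩)))
  let inr' : C ⟶ CommRingCat.of G := CommRingCat.ofHom
    (inr.hom.codRestrict G (fun c ↦ Subring.subset_closure (Or.inr ⟨c, rfl⟩)))
  let incl : CommRingCat.of G ⟶ P := CommRingCat.ofHom G.subtype
  have h1 : inl' ≫ incl = inl := by ext; rfl
  have h2 : inr' ≫ incl = inr := by ext; rfl
  have hw : f ≫ inl' = g ≫ inr' := by
    have : Mono incl := ConcreteCategory.mono_of_injective _ Subtype.val_injective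
    rw [← cancel_mono incl, Category.assoc, Category.assoc, h1, h2, h.w]
  have hd : h.desc inl' inr' hw ≫ incl = 𝟙 P := by
    apply h.hom_ext
    · rw [← Category.assoc, h.inl_desc, h1, Category.comp_id]
    · rw [← Category.assoc, h.inr_desc, h2, Category.comp_id]
  rw [eq_top_iff]
  intro x _
  have hx : incl (h.desc inl' inr' hw x) = x := congr($hd x)
  rw [← hx]
  exact (h.desc inl' inr' hw x).2

theorem surjective_appTop_iff {A B C E : Scheme.{u}} [IsAffine A] [IsAffine B] [IsAffine C]
    (a : A ⟶ C) (b : B ⟶ C) (g : E ⟶ pullback a b) :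
    Function.Surjective g.appTop ↔
      Subring.closure (Set.range (g ≫ pullback.fst a b).appTop.hom ∪
        Set.range (g ≫ pullback.snd a b).appTop.hom) = ⊤ := by
  have hgen := closure_eq_top_of_isPushout
    (isPushout_appTop_of_isPullback (IsPullback.of_hasPullback a b))
  have h1 : Set.range (g ≫ pullback.fst a b).appTop.hom ∪
      Set.range (g ≫ pullback.snd a b).appTop.hom =
      g.appTop.hom '' (Set.range (pullback.fst a b).appTop.hom ∪
        Set.range (pullback.snd a b).appTop.hom) := by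
    rw [Set.image_union, ← Set.range_comp, ← Set.range_comp]
    simp only [Scheme.Hom.comp_appTop, CommRingCat.hom_comp, RingHom.coe_comp]
  rw [h1, ← RingHom.map_closure, hgen, ← RingHom.range_eq_map, RingHom.range_eq_top]

set_option backward.isDefEq.respectTransparency false in
theorem key {X Y : Scheme.{u}} [IsAffine Y] (f : X ⟶ Y) (U₁ U₂ : X.Opens)
    (h₁ : IsAffineOpen U₁) (h₂ : IsAffineOpen U₂) :
    IsClosedImmersion (pullback.snd (pullback.diagonal f)
      (pullback.map (U₁.ι ≫ f) (U₂.ι ≫ f) f f U₁.ι U₂.ι (𝟙 Y)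
        (Category.comp_id _) (Category.comp_id _))) ↔
    IsAffineOpen (U₁ ⊓ U₂) ∧
      Subring.closure (Set.range (X.homOfLE (inf_le_left : U₁ ⊓ U₂ ≤ U₁)).appTop.hom ∪
        Set.range (X.homOfLE (inf_le_right : U₁ ⊓ U₂ ≤ U₂)).appTop.hom) = ⊤ := by
  haveI : IsAffine U₁.toScheme := h₁
  haveI : IsAffine U₂.toScheme := h₂
  have hpb := pullback_map_diagonal_isPullback U₁.ι U₂.ι f
  let e := (isPullback_opens_inf U₁ U₂).isoPullback
  let δ : (U₁ ⊓ U₂).toScheme ⟶ pullback (U₁.ι ≫ f) (U₂.ι ≫ f) :=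
    e.hom ≫ pullback.mapDesc U₁.ι U₂.ι f
  have hδ1 : δ ≫ pullback.fst _ _ = X.homOfLE inf_le_left := by simp [δ, e]
  have hδ2 : δ ≫ pullback.snd _ _ = X.homOfLE inf_le_right := by simp [δ, e]
  have step1 : IsClosedImmersion (pullback.snd (pullback.diagonal f)
      (pullback.map (U₁.ι ≫ f) (U₂.ι ≫ f) f f U₁.ι U₂.ι (𝟙 Y)
        (Category.comp_id _) (Category.comp_id _))) ↔ IsClosedImmersion δ := by
    have := hpb.isoPullback_hom_snd
    rw [← MorphismProperty.cancel_left_of_respectsIso @IsClosedImmersion hpb.isoPullback.hom, this]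
    exact (MorphismProperty.cancel_left_of_respectsIso @IsClosedImmersion e.hom _).symm
  rw [step1, HasAffineProperty.iff_of_isAffine (P := @IsClosedImmersion),
    surjective_appTop_iff, hδ1, hδ2]
  rfl

theorem transport {X : Scheme.{u}} {V V₁ V₂ V' V₁' V₂' : X.Opens} (h : V = V') (h₁ : V₁ = V₁')
    (h₂ : V₂ = V₂') (l₁ : V ≤ V₁) (l₂ : V ≤ V₂) (l₁' : V' ≤ V₁') (l₂' : V' ≤ V₂') :
    Subring.closure (Set.range (X.presheaf.map (homOfLE l₁).op).hom ∪
      Set.range (X.presheaf.map (homOfLE l₂).op).hom) = ⊤ ↔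
    Subring.closure (Set.range (X.presheaf.map (homOfLE l₁').op).hom ∪
      Set.range (X.presheaf.map (homOfLE l₂').op).hom) = ⊤ := by
  subst h h₁ h₂
  rfl

theorem key' {X Y : Scheme.{u}} [IsAffine Y] (f : X ⟶ Y) (U₁ U₂ : X.Opens)
    (h₁ : IsAffineOpen U₁) (h₂ : IsAffineOpen U₂) :
    IsClosedImmersion (pullback.snd (pullback.diagonal f)
      (pullback.map (U₁.ι ≫ f) (U₂.ι ≫ f) f f U₁.ι U₂.ι (𝟙 Y)
        (Category.comp_id _) (Category.comp_id _))) ↔
    IsAffineOpen (U₁ ⊓ U₂) ∧
      Subring.closure (Set.range (X.presheaf.map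
          (homOfLE (inf_le_left : U₁ ⊓ U₂ ≤ U₁)).op).hom ∪
        Set.range (X.presheaf.map (homOfLE (inf_le_right : U₁ ⊓ U₂ ≤ U₂)).op).hom) = ⊤ := by
  rw [key f U₁ U₂ h₁ h₂, Scheme.homOfLE_appTop, Scheme.homOfLE_appTop]
  refine and_congr Iff.rfl ?_
  exact transport (Scheme.Opens.ι_image_top _) (Scheme.Opens.ι_image_top _)
    (Scheme.Opens.ι_image_top _) _ _ _ _

open AlgebraicGeometry in
open CategoryTheory in
/-- Let Y be an affine scheme, f : X -> Y a morphism and (U i) a cover of X by affine open subschemes.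
Then f is separated if and only if, for every pair of indices i, j, the intersection of U i and U j
is an affine open and its ring of sections is generated, as a ring, by the images of the rings of
sections of U i and of U j under the restriction maps. -/
theorem result
    {X Y : Scheme.{u}} [IsAffine Y] (f : X ⟶ Y) {ι : Type v} (U : ι → X.Opens)
    (hU : ∀ i, IsAffineOpen (U i)) (hcov : ⨆ i, U i = ⊤) :
    IsSeparated f ↔ ∀ i j, IsAffineOpen (U i ⊓ U j) ∧
      Subring.closure (Set.range (X.presheaf.map (homOfLE (inf_le_left : U i ⊓ U j ≤ U i)).op).hom ∪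
        Set.range (X.presheaf.map (homOfLE (inf_le_right : U i ⊓ U j ≤ U j)).op).hom) = ⊤ := by
  rw [isSeparated_iff, IsZariskiLocalAtTarget.iff_of_openCover (P := @IsClosedImmersion)
    (Scheme.Pullback.openCoverOfLeftRight (X.openCoverOfIsOpenCover U (.mk hcov))
      (X.openCoverOfIsOpenCover U (.mk hcov)) f f)]
  constructor
  · intro H i j
    exact (key' f (U i) (U j) (hU i) (hU j)).1 (H (i, j))
  · rintro H ⟨i, j⟩
    exact (key' f (U i) (U j) (hU i) (hU j)).2 (H i j)

end Groth.Agent.S4363
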