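import Groth.Statements.S4364

set_option autoImplicit false
universe u
open FinCond

namespace Groth.Agent.S4364

open AlgebraicGeometry CategoryTheory

theorem appLE_congr' {X S : Scheme.{u}} {p q : X ⟶ S} (h : p = q) (W : S.Opens) (U : X.Opens)
    (e₁ : U ≤ p ⁻¹ᵁ W) (e₂ : U ≤ q ⁻¹ᵁ W) : p.appLE W U e₁ = q.appLE W U e₂ := by
  subst h; rfl

set_option backward.isDefEq.respectTransparency.types false in
theorem key {X Y S : Scheme.{u}} (sX : X ⟶ S) (sY : Y ⟶ S) [LocallyOfFiniteType sY]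
    (f g : X ⟶ Y) (hf : f ≫ sY = sX) (hg : g ≫ sY = sX) {x : X} (e : f x = g x)
    (H : f.stalkMap x =
      Y.presheaf.stalkSpecializes (Inseparable.of_eq e.symm).specializes ≫ g.stalkMap x) :
    ∃ (V : Y.Opens) (U : X.Opens) (_ : IsAffineOpen V) (_ : x ∈ U)
      (h1 : U ≤ f ⁻¹ᵁ V) (h2 : U ≤ g ⁻¹ᵁ V), f.appLE V U h1 = g.appLE V U h2 := by
  classical
  obtain ⟨_, ⟨W : S.Opens, hW, rfl⟩, hxW, -⟩ :=
    S.isBasis_affineOpens.exists_subset_of_mem_open (Set.mem_univ (sY (f x))) isOpen_univ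
  obtain ⟨_, ⟨V : Y.Opens, hV, rfl⟩, hxV, hVW⟩ :=
    Y.isBasis_affineOpens.exists_subset_of_mem_open
      (show f x ∈ (sY ⁻¹ᵁ W : Set Y) from hxW) (sY ⁻¹ᵁ W).isOpen
  have hVW' : V ≤ sY ⁻¹ᵁ W := hVW
  have hxV' : g x ∈ V := e ▸ hxV
  have hxU₀ : x ∈ f ⁻¹ᵁ V ⊓ g ⁻¹ᵁ V := ⟨hxV, hxV'⟩
  have hgerm : f.appLE V (f ⁻¹ᵁ V ⊓ g ⁻¹ᵁ V) inf_le_left ≫
      X.presheaf.germ (f ⁻¹ᵁ V ⊓ g ⁻¹ᵁ V) x hxU₀ =
      g.appLE V (f ⁻¹ᵁ V ⊓ g ⁻¹ᵁ V) inf_le_right ≫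
        X.presheaf.germ (f ⁻¹ᵁ V ⊓ g ⁻¹ᵁ V) x hxU₀ := by
    simp only [Scheme.Hom.appLE, Category.assoc, X.presheaf.germ_res', ← Scheme.Hom.germ_stalkMap, H]
    simp only [TopCat.Presheaf.germ_stalkSpecializes_assoc, Scheme.Hom.germ_stalkMap]
  have hft : (sY.appLE W V hVW').hom.FiniteType := sY.finiteType_appLE hW hV hVW'
  let _ := (sY.appLE W V hVW').hom.toAlgebra
  obtain ⟨t, ht⟩ := hft
  have hb : ∀ b : Γ(Y, V), ∃ (Ub : X.Opens) (_ : x ∈ Ub) (i : Ub ≤ f ⁻¹ᵁ V ⊓ g ⁻¹ᵁ V),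
      X.presheaf.map (homOfLE i).op (f.appLE V (f ⁻¹ᵁ V ⊓ g ⁻¹ᵁ V) inf_le_left b) =
      X.presheaf.map (homOfLE i).op (g.appLE V (f ⁻¹ᵁ V ⊓ g ⁻¹ᵁ V) inf_le_right b) := by
    intro b
    have := congr($hgerm b)
    obtain ⟨Ub, hxUb, i₁, i₂, hU⟩ := X.presheaf.germ_eq x hxU₀ hxU₀ _ _ this
    exact ⟨Ub, hxUb, i₁.le, hU⟩
  choose Ub hxUb hUb hres using hb
  have hxU : x ∈ t.inf Ub ⊓ (f ⁻¹ᵁ V ⊓ g ⁻¹ᵁ V) := by
    rw [← SetLike.mem_coe, TopologicalSpace.Opens.coe_inf, TopologicalSpace.Opens.coe_finset_inf]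
    exact ⟨by simpa using fun b _ ↦ hxUb b, hxU₀⟩
  refine ⟨V, t.inf Ub ⊓ (f ⁻¹ᵁ V ⊓ g ⁻¹ᵁ V), hV, hxU, inf_le_right.trans inf_le_left,
    inf_le_right.trans inf_le_right, ?_⟩
  ext b
  have hbt : b ∈ Algebra.adjoin Γ(S, W) (t : Set Γ(Y, V)) := ht ▸ Algebra.mem_top
  induction hbt using Algebra.adjoin_induction with
  | mem b hb =>
    have h1 := hres b
    have h2 := congrArg (X.presheaf.map (homOfLE (show t.inf Ub ⊓ (f ⁻¹ᵁ V ⊓ g ⁻¹ᵁ V) ≤ Ub b from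
      inf_le_left.trans (Finset.inf_le hb))).op) h1
    simp only [← CommRingCat.comp_apply, Scheme.Hom.appLE_map] at h2
    exact h2
  | algebraMap r =>
    change (sY.appLE W V hVW' ≫ f.appLE V _ _) r = (sY.appLE W V hVW' ≫ g.appLE V _ _) r
    rw [Scheme.Hom.appLE_comp_appLE, Scheme.Hom.appLE_comp_appLE]
    exact congr($(appLE_congr' (hf.trans hg.symm) W _ _ _) r)
  | add a b _ _ ha hb => rw [map_add, map_add, ha, hb]
  | mul a b _ _ ha hb => rw [map_mul, map_mul, ha, hb]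

set_option backward.isDefEq.respectTransparency.types false in
theorem finish {X Y : Scheme.{u}} (f g : X ⟶ Y) (V : Y.Opens) (U : X.Opens) (hV : IsAffineOpen V)
    (h1 : U ≤ f ⁻¹ᵁ V) (h2 : U ≤ g ⁻¹ᵁ V) (happ : f.appLE V U h1 = g.appLE V U h2) :
    U.ι ≫ f = U.ι ≫ g := by
  rw [← Scheme.Hom.resLE_comp_ι _ h1, ← Scheme.Hom.resLE_comp_ι _ h2]
  congr 1
  have : IsAffine V := hV
  suffices ∀ (U₀ V₀) (eU : U = U₀) (eV : V = V₀),
      f.appLE V₀ U₀ (eU ▸ eV ▸ h1) =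
        g.appLE V₀ U₀ (eU ▸ eV ▸ h2) by
    rw [← cancel_mono V.toScheme.isoSpec.hom]
    simp only [Scheme.isoSpec, asIso_hom, Scheme.toSpecΓ_naturality,
      Scheme.Hom.app_eq_appLE, Scheme.Hom.resLE_appLE]
    congr 2
    apply this <;> simp
  rintro U V rfl rfl
  exact happ

open AlgebraicGeometry in
open CategoryTheory in
/-- Let X and Y be S-schemes with Y locally of finite type over S, and let f, g : X -> Y be S-morphisms.
If f x = g x for some point x and the two induced homomorphisms of local rings O_{Y, f x} -> O_{X,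
x} coincide, then f and g coincide on an open neighbourhood of x. No condition is imposed on X. (The
published statement assumes Y of finite type over S; this row assumes Y only locally of finite type
over S, which is all the published proof uses.) -/
theorem result
    {X Y S : Scheme.{u}} (sX : X ⟶ S) (sY : Y ⟶ S) [LocallyOfFiniteType sY]
    (f g : X ⟶ Y) (hf : f ≫ sY = sX) (hg : g ≫ sY = sX) {x : X} (e : f x = g x)
    (H : f.stalkMap x =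
      Y.presheaf.stalkSpecializes (Inseparable.of_eq e.symm).specializes ≫ g.stalkMap x) :
    ∃ U : X.Opens, x ∈ U ∧ U.ι ≫ f = U.ι ≫ g := by
  obtain ⟨V, U, hV, hxU, h1, h2, happ⟩ := key sX sY f g hf hg e H
  exact ⟨U, hxU, finish f g V U hV h1 h2 happ⟩

end Groth.Agent.S4364
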