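import Groth.Statements.S4365
import Groth.Agent.Lib.Helper53.EmbedAlgClosed
import Mathlib.AlgebraicGeometry.AlgClosed.Basic

set_option autoImplicit false
universe u
open FinCond

namespace Groth.Agent.S4365

open AlgebraicGeometry CategoryTheory CategoryTheory.Limits

theorem exists_lift_of_surjective (Ω : Type u) [Field Ω] [IsAlgClosed Ω]
    {X Y : Scheme.{u}} (f : X ⟶ Y) [LocallyOfFiniteType f] [Surjective f]
    (y : Spec (CommRingCat.of Ω) ⟶ Y) :
    ∃ x : Spec (CommRingCat.of Ω) ⟶ X, x ≫ f = y := by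
  obtain ⟨z, -⟩ := (pullback.snd f y).surjective (IsLocalRing.closedPoint Ω)
  haveI : JacobsonSpace ↥(pullback f y) := LocallyOfFiniteType.jacobsonSpace (pullback.snd f y)
  obtain ⟨z', hz'⟩ : ∃ z', IsClosed ({z'} : Set ↥(pullback f y)) := by
    have hcl := closure_closedPoints (X := ↥(pullback f y))
    by_contra hcon
    push Not at hcon
    have hempty : closedPoints ↥(pullback f y) = ∅ :=
      Set.eq_empty_of_forall_notMem fun w hw ↦ hcon w hw
    rw [hempty, closure_empty] at hcl
    exact Set.notMem_empty z (hcl ▸ Set.mem_univ z)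
  refine ⟨pointOfClosedPoint (pullback.snd f y) z' hz' ≫ pullback.fst f y, ?_⟩
  rw [Category.assoc, pullback.condition, ← Category.assoc, pointOfClosedPoint_comp,
    Category.id_comp]

theorem exists_point (K Ω : Type u) [Field K] [Field Ω] [IsAlgClosed Ω] [Algebra K Ω]
    (t : ℕ → Ω) (ht : AlgebraicIndependent K t)
    {Y : Scheme.{u}} (pY : Y ⟶ Spec (CommRingCat.of K)) [LocallyOfFiniteType pY] (y₀ : Y) :
    ∃ y : Spec (CommRingCat.of Ω) ⟶ Y,
      y ≫ pY = Spec.map (CommRingCat.ofHom (algebraMap K Ω)) ∧ y₀ ∈ Set.range y := by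
  obtain ⟨_, ⟨V, hV, rfl⟩, hyV, -⟩ :=
    Y.isBasis_affineOpens.exists_subset_of_mem_open (Set.mem_univ y₀) isOpen_univ
  let ψ : CommRingCat.of K ⟶ Γ(Y, V) :=
    (Scheme.ΓSpecIso (CommRingCat.of K)).inv ≫ pY.appLE ⊤ V le_top
  have hψ : ψ.hom.FiniteType := by
    have h1 := pY.finiteType_appLE (isAffineOpen_top _) hV le_top
    have h2 : (Scheme.ΓSpecIso (CommRingCat.of K)).inv.hom.FiniteType :=
      RingHom.FiniteType.of_surjective _
        (Scheme.ΓSpecIso (CommRingCat.of K)).symm.commRingCatIsoToRingEquiv.surjective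
    exact h1.comp h2
  letI : Algebra K Γ(Y, V) := ψ.hom.toAlgebra
  haveI : Algebra.FiniteType K Γ(Y, V) := hψ
  haveI : Algebra.FiniteType K (Γ(Y, V) ⧸ (hV.primeIdealOf ⟨y₀, hyV⟩).asIdeal) :=
    Algebra.FiniteType.of_surjective (Ideal.Quotient.mkₐ K _) (Ideal.Quotient.mkₐ_surjective K _)
  obtain ⟨φ, hφ⟩ := Groth.Agent.Lib.Helper53.exists_injective_algHom_of_finiteType K
    (Γ(Y, V) ⧸ (hV.primeIdealOf ⟨y₀, hyV⟩).asIdeal) Ω t ht
  let χ : Γ(Y, V) →+* Ω :=
    φ.toRingHom.comp (Ideal.Quotient.mk (hV.primeIdealOf ⟨y₀, hyV⟩).asIdeal)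
  have hχK : ψ ≫ CommRingCat.ofHom χ = CommRingCat.ofHom (algebraMap K Ω) := by
    ext k
    exact φ.commutes k
  have hker : RingHom.ker χ = (hV.primeIdealOf ⟨y₀, hyV⟩).asIdeal := by
    ext b
    rw [RingHom.mem_ker]
    change φ (Ideal.Quotient.mk _ b) = 0 ↔ _
    rw [map_eq_zero_iff φ hφ, Ideal.Quotient.eq_zero_iff_mem]
  have hpY : hV.fromSpec ≫ pY = Spec.map ψ := by
    rw [← IsAffineOpen.SpecMap_appLE_fromSpec pY (isAffineOpen_top _) hV le_top,
      IsAffineOpen.fromSpec_top, Scheme.isoSpec_Spec_inv, ← Spec.map_comp]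
  refine ⟨Spec.map (CommRingCat.ofHom χ) ≫ hV.fromSpec, ?_, ?_⟩
  · rw [Category.assoc, hpY, ← Spec.map_comp, hχK]
  · refine ⟨IsLocalRing.closedPoint Ω, ?_⟩
    rw [Scheme.Hom.comp_apply]
    have h1 : Spec.map (CommRingCat.ofHom χ) (IsLocalRing.closedPoint Ω) =
        hV.primeIdealOf ⟨y₀, hyV⟩ := by
      apply PrimeSpectrum.ext
      change Ideal.comap χ (IsLocalRing.maximalIdeal Ω) = _
      rw [IsLocalRing.maximalIdeal_eq_bot, ← RingHom.ker_eq_comap_bot, hker]
    rw [h1]
    exact hV.fromSpec_primeIdealOf ⟨y₀, hyV⟩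

open AlgebraicGeometry in
open CategoryTheory in
/-- Let K be a field, X and Y schemes locally of finite type over K, f : X -> Y a K-morphism and Ω an
algebraically closed extension field of K of infinite transcendence degree over K (there is an
algebraically independent sequence in Ω). Then f is surjective if and only if the map it induces
from the K-points of X with values in Ω to those of Y is surjective, i.e. every K-morphism Spec Ω ->
Y factors through f. (The published proposition assumes X and Y of finite type over K, and a later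
remark of the same text extends it to X and Y locally of finite type over K, the form stated here.) -/
theorem result
    (K Ω : Type u) [Field K] [Field Ω] [IsAlgClosed Ω] [Algebra K Ω]
    (t : ℕ → Ω) (ht : AlgebraicIndependent K t)
    {X Y : Scheme.{u}} (pX : X ⟶ Spec (CommRingCat.of K)) (pY : Y ⟶ Spec (CommRingCat.of K))
    [LocallyOfFiniteType pX] [LocallyOfFiniteType pY] (f : X ⟶ Y) (hf : f ≫ pY = pX) :
    Surjective f ↔ ∀ y : Spec (CommRingCat.of Ω) ⟶ Y,
      y ≫ pY = Spec.map (CommRingCat.ofHom (algebraMap K Ω)) →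
        ∃ x : Spec (CommRingCat.of Ω) ⟶ X, x ≫ f = y := by
  have hlft : LocallyOfFiniteType f := by
    have : LocallyOfFiniteType (f ≫ pY) := hf ▸ inferInstance
    exact locallyOfFiniteType_of_comp f pY
  constructor
  · intro hsurj y _
    exact exists_lift_of_surjective Ω f y
  · intro H
    refine ⟨fun y₀ ↦ ?_⟩
    obtain ⟨y, hy, w, hw⟩ := exists_point K Ω t ht pY y₀
    obtain ⟨x, hx⟩ := H y hy
    refine ⟨x w, ?_⟩
    rw [← Scheme.Hom.comp_apply, hx, hw]

end Groth.Agent.S4365
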