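import Groth.Statements.S4369

set_option autoImplicit false
universe u
open AffSch

namespace Groth.Agent.S4369

/-- Let φ : A' -> A be a ring homomorphism such that every f in A can be written f = h φ(f') with h
invertible in A (this holds in particular when φ is surjective). Then the associated continuous map
Spec A -> Spec A' is a homeomorphism onto its image. -/
theorem result
    {A' A : Type u} [CommRing A'] [CommRing A] (φ : A' →+* A)
    (h : ∀ f : A, ∃ (u : Aˣ) (f' : A'), f = (u : A) * φ f') :
    Topology.IsEmbedding (PrimeSpectrum.comap φ) := by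
  refine (Topology.isEmbedding_iff _).2 ⟨⟨?_⟩, ?_⟩
  · refine TopologicalSpace.ext_isClosed fun Z ↦ ?_
    simp_rw [isClosed_induced_iff, PrimeSpectrum.isClosed_iff_zeroLocus,
      @eq_comm _ _ (PrimeSpectrum.zeroLocus _),
      exists_exists_eq_and, PrimeSpectrum.preimage_comap_zeroLocus]
    constructor
    · rintro ⟨s, rfl⟩
      refine ⟨{f' | ∃ u : Aˣ, (u : A) * φ f' ∈ s}, ?_⟩
      ext p
      rw [PrimeSpectrum.mem_zeroLocus, PrimeSpectrum.mem_zeroLocus]
      constructor
      · intro hp f hf
        obtain ⟨u, f', rfl⟩ := h f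
        exact (p.asIdeal.unit_mul_mem_iff_mem u.isUnit).2 (hp ⟨f', ⟨u, hf⟩, rfl⟩)
      · rintro hp _ ⟨f', ⟨u, hu⟩, rfl⟩
        have := hp hu
        exact (p.asIdeal.unit_mul_mem_iff_mem u.isUnit).1 this
    · rintro ⟨s, rfl⟩
      exact ⟨_, rfl⟩
  · intro p q hpq
    ext f
    obtain ⟨u, f', rfl⟩ := h f
    rw [Ideal.unit_mul_mem_iff_mem _ u.isUnit, Ideal.unit_mul_mem_iff_mem _ u.isUnit]
    have := congrArg (fun r : PrimeSpectrum A' ↦ f' ∈ r.asIdeal) hpq
    simpa using this

end Groth.Agent.S4369
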