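import Groth.Statements.S4370
import Mathlib.AlgebraicGeometry.Morphisms.ClosedImmersion
import Mathlib.RingTheory.Ideal.Quotient.Nilpotent

set_option autoImplicit false
universe u
open RedSep

namespace Groth.Agent.S4370

open AlgebraicGeometry in
theorem isReduced_subscheme_iff' (X : Scheme.{u}) (I : X.IdealSheafData) :
    IsReduced I.subscheme ↔ ∀ U : X.affineOpens, (I.ideal U).IsRadical := by
  rw [IsReduced.iff_of_openCover _ I.subschemeCover.openCover]
  refine forall_congr' fun U ↦ ?_
  rw [Ideal.isRadical_iff_quotient_reduced]
  exact affine_isReduced_iff _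

open AlgebraicGeometry in
open CategoryTheory in
open CategoryTheory.Limits in
/-- Let f : X -> Y be an open immersion and let g : X_red -> Y_red be the morphism of reduced schemes
induced by f, i.e. the morphism between the closed subschemes defined by the nilradicals whose
composite with the inclusion of Y_red in Y is the inclusion of X_red in X followed by f. Then g is
an open immersion. -/
theorem result
    {X Y : Scheme.{u}} (f : X ⟶ Y) [IsOpenImmersion f]
    (g : X.nilradical.subscheme ⟶ Y.nilradical.subscheme)
    (hg : g ≫ Y.nilradical.subschemeι = X.nilradical.subschemeι ≫ f) :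
    IsOpenImmersion g := by
  have hYred : IsReduced Y.nilradical.subscheme :=
    (isReduced_subscheme_iff' Y Y.nilradical).2 fun U ↦ Ideal.radical_isRadical _
  let k : X.nilradical.subscheme ⟶ pullback Y.nilradical.subschemeι f :=
    pullback.lift g X.nilradical.subschemeι hg
  have hk1 : k ≫ pullback.fst _ _ = g := pullback.lift_fst ..
  have hk2 : k ≫ pullback.snd _ _ = X.nilradical.subschemeι := pullback.lift_snd ..
  have : IsReduced (pullback Y.nilradical.subschemeι f) :=
    isReduced_of_isOpenImmersion (pullback.fst Y.nilradical.subschemeι f)
  have : IsClosedImmersion (k ≫ pullback.snd Y.nilradical.subschemeι f) := by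
    rw [hk2]; infer_instance
  have : IsClosedImmersion k :=
    IsClosedImmersion.of_comp_isClosedImmersion k (pullback.snd Y.nilradical.subschemeι f)
  have : Surjective k := by
    refine ⟨fun p ↦ ?_⟩
    have hsurj : Function.Surjective X.nilradical.subschemeι := by
      rw [← Set.range_eq_univ, Scheme.IdealSheafData.range_subschemeι]
      simp
    obtain ⟨x, hx⟩ := hsurj (pullback.snd Y.nilradical.subschemeι f p)
    refine ⟨x, ?_⟩
    apply (pullback.snd Y.nilradical.subschemeι f).isClosedEmbedding.injective
    rw [← hx, ← hk2]
    rfl
  have : IsIso k := isIso_of_isClosedImmersion_of_surjective k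
  rw [← hk1]
  infer_instance

end Groth.Agent.S4370
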