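import Groth.Statements.S4371
import Mathlib.AlgebraicGeometry.Properties
import Mathlib.Algebra.MvPolynomial.Division
import Mathlib.RingTheory.Polynomial.Basic

set_option autoImplicit false
universe u
open RedSep

namespace Groth.Agent.S4371

open AlgebraicGeometry CategoryTheory

theorem res_res {X : Scheme.{u}} {W₁ W₂ W₃ : X.Opens} (h12 : W₁ ≤ W₂) (h23 : W₂ ≤ W₃)
    (s : Γ(X, W₃)) :
    X.presheaf.map (homOfLE h12).op (X.presheaf.map (homOfLE h23).op s) =
      X.presheaf.map (homOfLE (h12.trans h23)).op s := by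
  rw [← CommRingCat.comp_apply, ← Functor.map_comp]
  rfl

theorem nonempty_basicOpen {X : Scheme.{u}} [IsReduced X] {U : X.Opens} (f : Γ(X, U))
    (hf : f ≠ 0) : Nonempty (X.basicOpen f) := by
  have h : X.basicOpen f ≠ ⊥ := fun h ↦ hf ((basicOpen_eq_bot_iff f).1 h)
  obtain ⟨x, hx⟩ := (TopologicalSpace.Opens.ne_bot_iff_nonempty _).1 h
  exact ⟨⟨x, hx⟩⟩

theorem res_surjective {X : Scheme.{u}} [IsAffine X] [IsIntegral X]
    (f g : Γ(X, ⊤)) (hfg : f * g ≠ 0)
    (H : ∀ (p q : Γ(X, ⊤)) (m n : ℕ), p * g ^ n = q * f ^ m → f ^ m ∣ p)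
    (t : Γ(X, X.basicOpen f ⊔ X.basicOpen g)) :
    ∃ p : Γ(X, ⊤),
      X.presheaf.map (homOfLE (le_top : X.basicOpen f ⊔ X.basicOpen g ≤ ⊤)).op p = t := by
  have hf0 : f ≠ 0 := left_ne_zero_of_mul hfg
  have hDf : Nonempty (X.basicOpen f) := nonempty_basicOpen f hf0
  have hV : Nonempty (X.basicOpen f ⊓ X.basicOpen g : X.Opens) := by
    rw [← Scheme.basicOpen_mul]
    exact nonempty_basicOpen _ hfg
  obtain ⟨m, p, hp⟩ := IsLocalization.Away.surj f
    (X.presheaf.map (homOfLE (le_sup_left : X.basicOpen f ≤ X.basicOpen f ⊔ X.basicOpen g)).op t)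
  obtain ⟨n, q, hq⟩ := IsLocalization.Away.surj g
    (X.presheaf.map (homOfLE (le_sup_right : X.basicOpen g ≤ X.basicOpen f ⊔ X.basicOpen g)).op t)
  have hp' : X.presheaf.map (homOfLE (le_sup_left :
        X.basicOpen f ≤ X.basicOpen f ⊔ X.basicOpen g)).op t *
      (X.presheaf.map (homOfLE (le_top : X.basicOpen f ≤ ⊤)).op f) ^ m =
      X.presheaf.map (homOfLE (le_top : X.basicOpen f ≤ ⊤)).op p := hp
  have hq' : X.presheaf.map (homOfLE (le_sup_right :
        X.basicOpen g ≤ X.basicOpen f ⊔ X.basicOpen g)).op t *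
      (X.presheaf.map (homOfLE (le_top : X.basicOpen g ≤ ⊤)).op g) ^ n =
      X.presheaf.map (homOfLE (le_top : X.basicOpen g ≤ ⊤)).op q := hq
  have hp'' := congrArg (X.presheaf.map (homOfLE (inf_le_left :
    X.basicOpen f ⊓ X.basicOpen g ≤ X.basicOpen f)).op) hp'
  have hq'' := congrArg (X.presheaf.map (homOfLE (inf_le_right :
    X.basicOpen f ⊓ X.basicOpen g ≤ X.basicOpen g)).op) hq'
  simp only [map_mul, map_pow, res_res] at hp'' hq''
  have hinjV := map_injective_of_isIntegral X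
    (homOfLE (le_top : X.basicOpen f ⊓ X.basicOpen g ≤ ⊤))
  have hrel : p * g ^ n = q * f ^ m := by
    apply hinjV
    simp only [map_mul, map_pow]
    rw [← hp'', ← hq'']
    ring
  obtain ⟨p', rfl⟩ := H p q m n hrel
  refine ⟨p', ?_⟩
  have hunit : IsUnit (X.presheaf.map (homOfLE (le_top : X.basicOpen f ≤ ⊤)).op f) :=
    IsLocalization.Away.algebraMap_isUnit (S := Γ(X, X.basicOpen f)) f
  rw [map_mul, map_pow, mul_comm] at hp'
  have h1 := (hunit.pow m).mul_left_cancel hp'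
  apply map_injective_of_isIntegral X (homOfLE (le_sup_left :
        X.basicOpen f ≤ X.basicOpen f ⊔ X.basicOpen g))
  rw [h1, res_res]

theorem span_eq_top_of_isAffineOpen {X : Scheme.{u}} [IsAffine X] [IsIntegral X]
    (f g : Γ(X, ⊤)) (hfg : f * g ≠ 0)
    (H : ∀ (p q : Γ(X, ⊤)) (m n : ℕ), p * g ^ n = q * f ^ m → f ^ m ∣ p)
    (hU : IsAffineOpen (X.basicOpen f ⊔ X.basicOpen g)) :
    Ideal.span ({f, g} : Set Γ(X, ⊤)) = ⊤ := by
  have hspan : Ideal.span ({X.presheaf.map (homOfLE (le_top :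
      X.basicOpen f ⊔ X.basicOpen g ≤ ⊤)).op f, X.presheaf.map (homOfLE (le_top :
      X.basicOpen f ⊔ X.basicOpen g ≤ ⊤)).op g} : Set Γ(X, X.basicOpen f ⊔ X.basicOpen g)) = ⊤ := by
    rw [← hU.self_le_iSup_basicOpen_iff]
    apply sup_le
    · refine le_trans ?_ (le_iSup _ ⟨X.presheaf.map (homOfLE (le_top :
        X.basicOpen f ⊔ X.basicOpen g ≤ ⊤)).op f, by simp⟩)
      rw [Scheme.basicOpen_res]
      exact le_inf le_sup_left le_rfl
    · refine le_trans ?_ (le_iSup _ ⟨X.presheaf.map (homOfLE (le_top :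
        X.basicOpen f ⊔ X.basicOpen g ≤ ⊤)).op g, by simp⟩)
      rw [Scheme.basicOpen_res]
      exact le_inf le_sup_right le_rfl
  rw [Ideal.eq_top_iff_one, Ideal.mem_span_pair] at hspan ⊢
  obtain ⟨a, b, hab⟩ := hspan
  obtain ⟨a', rfl⟩ := res_surjective f g hfg H a
  obtain ⟨b', rfl⟩ := res_surjective f g hfg H b
  refine ⟨a', b', ?_⟩
  have hf0 : f ≠ 0 := left_ne_zero_of_mul hfg
  have hUne : Nonempty (X.basicOpen f ⊔ X.basicOpen g : X.Opens) := by
    obtain ⟨x, hx⟩ := nonempty_basicOpen f hf0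
    exact ⟨⟨x, Or.inl hx⟩⟩
  apply map_injective_of_isIntegral X (homOfLE (le_top : X.basicOpen f ⊔ X.basicOpen g ≤ ⊤))
  simp only [map_add, map_mul, map_one]
  exact hab

open AlgebraicGeometry in
open CategoryTheory in
/-- Let K be a field and Y = Spec K[s, t] the affine plane over K. The open subset D(s) ∪ D(t) of Y, the
complement of the closed point s = t = 0, is not affine. -/
theorem result
    (K : Type u) [Field K] :
    ¬ IsAffineOpen (X := Spec (CommRingCat.of (MvPolynomial (Fin 2) K)))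
      (PrimeSpectrum.basicOpen (MvPolynomial.X 0 : MvPolynomial (Fin 2) K) ⊔
        PrimeSpectrum.basicOpen (MvPolynomial.X 1 : MvPolynomial (Fin 2) K)) := by
  intro hU
  let R : CommRingCat.{u} := CommRingCat.of (MvPolynomial (Fin 2) K)
  let e := (Scheme.ΓSpecIso R).commRingCatIsoToRingEquiv
  have he0 : (Spec R).basicOpen (e.symm (MvPolynomial.X 0)) =
      PrimeSpectrum.basicOpen (MvPolynomial.X 0 : MvPolynomial (Fin 2) K) :=
    basicOpen_eq_of_affine (R := R) (MvPolynomial.X 0)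
  have he1 : (Spec R).basicOpen (e.symm (MvPolynomial.X 1)) =
      PrimeSpectrum.basicOpen (MvPolynomial.X 1 : MvPolynomial (Fin 2) K) :=
    basicOpen_eq_of_affine (R := R) (MvPolynomial.X 1)
  rw [← he0, ← he1] at hU
  have hne : e.symm (MvPolynomial.X 0) * e.symm (MvPolynomial.X 1) ≠ 0 := by
    rw [← map_mul, Ne, map_eq_zero_iff _ e.symm.injective]
    exact mul_ne_zero (MvPolynomial.X_ne_zero 0) (MvPolynomial.X_ne_zero 1)
  have H : ∀ (p q : Γ(Spec R, ⊤)) (m n : ℕ),
      p * e.symm (MvPolynomial.X 1) ^ n = q * e.symm (MvPolynomial.X 0) ^ m →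
        e.symm (MvPolynomial.X 0) ^ m ∣ p := by
    intro p q m n hpq
    have h1 := congrArg e hpq
    simp only [map_mul, map_pow, RingEquiv.apply_symm_apply] at h1
    have h2 : (MvPolynomial.X 0 : MvPolynomial (Fin 2) K) ^ m ∣ e p := by
      refine (MvPolynomial.X_prime (R := K) (i := (0 : Fin 2))).pow_dvd_of_dvd_mul_right m ?_
        (Dvd.intro_left _ h1.symm)
      intro hdvd
      have := (MvPolynomial.X_prime (R := K) (i := (0 : Fin 2))).dvd_of_dvd_pow hdvd
      rw [MvPolynomial.X_dvd_X] at this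
      exact absurd this (by decide)
    have h3 := map_dvd e.symm h2
    simpa using h3
  have htop := span_eq_top_of_isAffineOpen (X := Spec R) _ _ hne H hU
  rw [Ideal.eq_top_iff_one, Ideal.mem_span_pair] at htop
  obtain ⟨a, b, hab⟩ := htop
  have h1 := congrArg e hab
  simp only [map_add, map_mul, map_one, RingEquiv.apply_symm_apply] at h1
  have h2 := congrArg (MvPolynomial.constantCoeff) h1
  simp at h2

end Groth.Agent.S4371
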