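import Groth.Statements.S4372
import Groth.Agent.S4367
import Groth.Agent.S4368

set_option autoImplicit false
universe u
open RedSep

namespace Groth.Agent.S4372

open AlgebraicGeometry in
open CategoryTheory in
open CategoryTheory.Limits in
/-- Let h : Z -> X be an immersion with Z reduced (a reduced subscheme of X), and let W be the reduced
closed subscheme of X whose underlying space is the closure of h(Z). Then Z is an open subscheme of
W: h factors as an open immersion Z -> W followed by the closed immersion W -> X. Stated as the
existence of such a factorization through a reduced scheme W closed-immersed onto the closure of the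
image. -/
theorem result
    {Z X : Scheme.{u}} (h : Z ⟶ X) [IsImmersion h] [IsReduced Z] :
    ∃ (W : Scheme.{u}) (j : Z ⟶ W) (i : W ⟶ X), IsOpenImmersion j ∧ IsClosedImmersion i ∧
      IsReduced W ∧ Set.range i = closure (Set.range h) ∧ j ≫ i = h := by
  let C : TopologicalSpace.Closeds X := ⟨closure (Set.range h), isClosed_closure⟩
  let I := Scheme.IdealSheafData.vanishingIdeal C
  have hrange : Set.range I.subschemeι = closure (Set.range h) := by
    rw [I.range_subschemeι]
    simp [I, C]
  have hWred : IsReduced I.subscheme :=
    (Groth.Agent.S4368.isReduced_subscheme_iff X I).2 fun U ↦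
      PrimeSpectrum.isRadical_vanishingIdeal _
  obtain ⟨j, hj⟩ := Groth.Agent.S4367.result h I.subschemeι
    (by rw [hrange]; exact subset_closure)
  refine ⟨I.subscheme, j, I.subschemeι, ?_, inferInstance, hWred, hrange, hj⟩
  let j' : Z ⟶ pullback I.subschemeι h.coborderRange.ι :=
    pullback.lift j h.liftCoborder (by rw [hj, h.liftCoborder_ι])
  have h1 : j' ≫ pullback.fst I.subschemeι h.coborderRange.ι = j := pullback.lift_fst ..
  have h2 : j' ≫ pullback.snd I.subschemeι h.coborderRange.ι = h.liftCoborder :=
    pullback.lift_snd ..
  have : IsReduced (pullback I.subschemeι h.coborderRange.ι) :=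
    isReduced_of_isOpenImmersion (pullback.fst I.subschemeι h.coborderRange.ι)
  have : IsClosedImmersion (j' ≫ pullback.snd I.subschemeι h.coborderRange.ι) := by
    rw [h2]; infer_instance
  have : IsClosedImmersion j' :=
    IsClosedImmersion.of_comp_isClosedImmersion j' (pullback.snd I.subschemeι h.coborderRange.ι)
  have : Surjective j' := by
    refine ⟨fun p ↦ ?_⟩
    have hp : h.coborderRange.ι (pullback.snd I.subschemeι h.coborderRange.ι p) ∈ Set.range h := by
      rw [← closure_inter_coborder (s := Set.range h)]
      refine ⟨?_, (pullback.snd I.subschemeι h.coborderRange.ι p).2⟩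
      rw [← Scheme.Hom.comp_apply, ← pullback.condition, Scheme.Hom.comp_apply, ← hrange]
      exact ⟨_, rfl⟩
    obtain ⟨z, hz⟩ := hp
    refine ⟨z, ?_⟩
    apply (pullback.snd I.subschemeι h.coborderRange.ι).isClosedEmbedding.injective
    apply h.coborderRange.ι.isOpenEmbedding.injective
    rw [← Scheme.Hom.comp_apply j', h2, ← Scheme.Hom.comp_apply, h.liftCoborder_ι, hz]
  have : IsIso j' := isIso_of_isClosedImmersion_of_surjective j'
  rw [← h1]
  infer_instance

end Groth.Agent.S4372
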