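import Groth.Statements.S4378

set_option autoImplicit false
universe u
open CategoryTheory CategoryTheory.Limits AlgebraicGeometry
open EGA2

namespace Groth.Agent.S4378

set_option backward.isDefEq.respectTransparency false in
theorem universallyClosed_of_forall {X Y S : Scheme.{u}} (q : Y ⟶ S) (f : X ⟶ Y)
    [IsSeparated q]
    (H : ∀ (S' : Scheme.{u}) (g : S' ⟶ S),
      IsClosedMap (pullback.map (f ≫ q) g q g f (𝟙 S') (𝟙 S) (Category.comp_id (f ≫ q))
        ((Category.comp_id g).trans (Category.id_comp g).symm)).base) :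
    UniversallyClosed f := by
  rw [universallyClosed_eq]
  intro X' Y' i₁ i₂ f' h
  have hm := H Y' (i₂ ≫ q)
  set m := pullback.map (f ≫ q) (i₂ ≫ q) q (i₂ ≫ q) f (𝟙 Y') (𝟙 S) (Category.comp_id (f ≫ q))
        ((Category.comp_id (i₂ ≫ q)).trans (Category.id_comp (i₂ ≫ q)).symm) with hm_def
  let Γ : Y' ⟶ pullback q (i₂ ≫ q) := pullback.lift i₂ (𝟙 Y') (by simp)
  let a : X' ⟶ pullback (f ≫ q) (i₂ ≫ q) := h.flip.isoPullback.hom ≫ pullback.mapDesc f i₂ q
  have ha : IsClosedImmersion a := by
    dsimp only [a]; infer_instance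
  have hcomm : a ≫ m = f' ≫ Γ := by
    apply pullback.hom_ext
    · simp [a, m, Γ, h.w]
    · simp [a, m, Γ]
  have hΓ : Γ ≫ pullback.snd q (i₂ ≫ q) = 𝟙 Y' := by simp [Γ]
  have hΓinj : Function.Injective Γ := by
    intro y₁ y₂ hy
    have := congrArg (pullback.snd q (i₂ ≫ q)) hy
    rwa [← Scheme.Hom.comp_apply, ← Scheme.Hom.comp_apply, hΓ] at this
  intro Z hZ
  have h1 : IsClosed (m '' (a '' Z)) := hm _ (a.isClosedEmbedding.isClosedMap _ hZ)
  have h2 : f' '' Z = Γ ⁻¹' (m '' (a '' Z)) := by
    ext y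
    constructor
    · rintro ⟨z, hz, rfl⟩
      refine ⟨a z, ⟨z, hz, rfl⟩, ?_⟩
      rw [← Scheme.Hom.comp_apply, hcomm, Scheme.Hom.comp_apply]
    · rintro ⟨_, ⟨z, hz, rfl⟩, hy⟩
      refine ⟨z, hz, hΓinj ?_⟩
      rw [← hy, ← Scheme.Hom.comp_apply, ← Scheme.Hom.comp_apply, hcomm]
  show IsClosed (f' '' Z)
  rw [h2]
  exact h1.preimage Γ.continuous

/-- Let q : Y → S be separated and of finite type, and f : X → Y a morphism such that X is also
separated and of finite type over S through f ≫ q. Then f is proper if and only if for every scheme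
S' over S the morphism X ×_S S' → Y ×_S S' induced by f is closed (as a map of topological spaces). -/
theorem result {X Y S : Scheme.{u}} (q : Y ⟶ S) (f : X ⟶ Y)
    [IsSeparated q] [LocallyOfFiniteType q] [QuasiCompact q]
    [IsSeparated (f ≫ q)] [LocallyOfFiniteType (f ≫ q)] [QuasiCompact (f ≫ q)] :
    IsProper f ↔ ∀ (S' : Scheme.{u}) (g : S' ⟶ S),
      IsClosedMap (pullback.map (f ≫ q) g q g f (𝟙 S') (𝟙 S) (Category.comp_id (f ≫ q))
        ((Category.comp_id g).trans (Category.id_comp g).symm)).base := by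
  constructor
  · intro hf S' g
    have : UniversallyClosed (pullback.map (f ≫ q) g q g f (𝟙 S') (𝟙 S) (Category.comp_id (f ≫ q))
        ((Category.comp_id g).trans (Category.id_comp g).symm)) :=
      MorphismProperty.pullbackMap (P := @UniversallyClosed) (f := f ≫ q) (g := g) (f' := q)
        (g' := g) (i₁ := f) (i₂ := 𝟙 S') inferInstance inferInstance rfl (Category.id_comp g).symm
    exact Scheme.Hom.isClosedMap _
  · intro H
    have h1 : IsSeparated f := IsSeparated.of_comp f q
    have h2 : LocallyOfFiniteType f := locallyOfFiniteType_of_comp f q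
    have h3 : UniversallyClosed f := universallyClosed_of_forall q f H
    exact { }

end Groth.Agent.S4378
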