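import Groth.Statements.S4383
import Groth.Agent.S2326
import Groth.Agent.Lib.Lead.EpiCounitAmple

set_option autoImplicit false
universe u
open CategoryTheory CategoryTheory.Limits AlgebraicGeometry
open EGA2

namespace Groth.Agent.S4383

open Groth.Agent.Lib.Lead.QCohAff Groth.Agent.Lib.Helper22.IdealModAff Groth.Agent.Lib.Lead.Inv
  Groth.Agent.Lib.Helper40.SSh TopologicalSpace Opposite Groth.Agent.Lib.Helper60.TensorLib
  Groth.Agent.Lib.Helper35.GlobGen Groth.Agent.Lib.Helper40.FTIdeal Groth.Agent.S2326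
  Scheme.Modules

set_option backward.isDefEq.respectTransparency.types false

variable {X Y : Scheme.{u}} (f : X ⟶ Y)

/-- If the counit at `I ⊗ M` is an epimorphism, `M` invertible, and `1 ∈ I` near `x`, then near
`x` the module `M` is generated by the image of a section of `I ⊗ M` over the preimage of an open
of `Y`. -/
theorem exists_isGen_mulHom_of_epi_counit (I : X.IdealSheafData) (M : X.Modules)
    [Epi ((pullbackPushforwardAdjunction f).counit.app (CohB1.tensorMod (ClSub.idealMod I) M))]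
    {U : X.Opens} {e : Γ(M, U)} (he : IsGen M U e) (t0 : Γ(ClSub.idealMod I, U))
    (ht0 : incl I U t0 = 1) (x : X) (hx : x ∈ U) :
    ∃ (V' : Y.Opens) (τ : Γ(CohB1.tensorMod (ClSub.idealMod I) M, f ⁻¹ᵁ V')) (W : X.Opens)
      (hW : W ≤ f ⁻¹ᵁ V'), x ∈ W ∧
      IsGen M W (M.presheaf.map (homOfLE hW).op ((mulHom I M).app (f ⁻¹ᵁ V') τ)) := by
  by_contra hcon
  push Not at hcon
  obtain ⟨x', rfl⟩ : ∃ x' : (↑U : Scheme.{u}), U.ι x' = x := ⟨⟨x, hx⟩, rfl⟩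
  have hzero : (pushforward f).map (mulHom I M ≫ evGen he x') = 0 := by
    apply Scheme.Modules.hom_ext
    intro V'
    ext τ0
    suffices key : ∀ τ : Γ(CohB1.tensorMod (ClSub.idealMod I) M, f ⁻¹ᵁ V'),
        ((evGen he x').app (f ⁻¹ᵁ V')).hom ((mulHom I M).app (f ⁻¹ᵁ V') τ) = 0 from key τ0
    intro τ
    set σ : Γ(M, f ⁻¹ᵁ V') := (mulHom I M).app (f ⁻¹ᵁ V') τ with hσ
    refine (evGen_app he x' (f ⁻¹ᵁ V') σ).trans ?_
    apply evPt_eq_zero_of_notMem_basicOpen (X := (↑U : Scheme.{u}))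
    intro hxc0
    set W' : X.Opens := U.ι ''ᵁ (U.ι ⁻¹ᵁ (f ⁻¹ᵁ V')) with hW'
    have hW'U : W' ≤ U := U.ι_image_le _
    have hW'V : W' ≤ f ⁻¹ᵁ V' := U.ι.image_preimage_le _
    set c : Γ(X, W') := he.coeff hW'U (M.presheaf.map (homOfLE hW'V).op σ) with hc
    have hxc : U.ι x' ∈ X.basicOpen c :=
      (Scheme.Opens.mem_basicOpen_toScheme (U := U) (V := U.ι ⁻¹ᵁ (f ⁻¹ᵁ V'))
        (r := (show Γ(↑U, U.ι ⁻¹ᵁ (f ⁻¹ᵁ V')) from c)) (x := x')).mp hxc0
    have hcs : c • M.presheaf.map (homOfLE hW'U).op e = M.presheaf.map (homOfLE hW'V).op σ :=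
      he.coeff_smul hW'U _
    have hgen := ((he.res hW'U).isGen_smul_iff c (X.basicOpen_le c)).mpr le_rfl
    rw [hcs, res_res] at hgen
    exact hcon V' τ (X.basicOpen c) ((X.basicOpen_le c).trans hW'V) hxc hgen
  have hg := eq_zero_of_pushforward_map_eq_zero f _ _ hzero
  have h2 := congrArg (fun ψ => (Scheme.Modules.Hom.app ψ U).hom
    (tmul (ClSub.idealMod I) M t0 e)) hg
  have h3 : ((evGen he x').app U).hom e = 0 := by
    have h4 : (mulHom I M).app U (tmul (ClSub.idealMod I) M t0 e) = e := by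
      rw [mulHom_tmul, ht0, one_smul]
    exact (congrArg ((evGen he x').app U).hom h4).symm.trans h2
  have h2' := (evGen_app he x' U e).symm.trans h3
  have h4 : he.coeff (U.ι_image_le (U.ι ⁻¹ᵁ U))
      (M.presheaf.map (homOfLE (U.ι.image_preimage_le U)).op e) = 1 := he.coeff_self _
  have h5 : x' ∈ (↑U : Scheme.{u}).basicOpen (1 : Γ(↑U, U.ι ⁻¹ᵁ U)) := by
    rw [Scheme.basicOpen_of_isUnit _ isUnit_one]
    exact hx
  have h6 := evPt_ne_zero_of_mem_basicOpen (X := (↑U : Scheme.{u})) x' _ h5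
  apply h6
  refine Eq.trans ?_ h2'
  exact (congrArg ((evPt (X := (↑U : Scheme.{u})) x').app (U.ι ⁻¹ᵁ U)).hom h4).symm

/-- Under an epimorphic counit at `I ⊗ M`, near every point of `f⁻¹ V` (`V` affine) where `1 ∈ I`,
`M` is generated by the image of a section of `I ⊗ M` over `f⁻¹ V`. -/
theorem exists_isGen_mulHom_preimage_of_epi_counit (I : X.IdealSheafData) (M : X.Modules)
    (hM : PicF.IsInvertible M)
    [Epi ((pullbackPushforwardAdjunction f).counit.app (CohB1.tensorMod (ClSub.idealMod I) M))]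
    (V : Y.Opens) (hV : IsAffineOpen V)
    (hc : IsCompact (f ⁻¹ᵁ V : Set X)) (hqs : IsQuasiSeparated (f ⁻¹ᵁ V : Set X))
    {U₁ : X.Opens} (t0 : Γ(ClSub.idealMod I, U₁)) (ht0 : incl I U₁ t0 = 1)
    (x : X) (hxU₁ : x ∈ U₁) (hx : x ∈ f ⁻¹ᵁ V) :
    ∃ (τ : Γ(CohB1.tensorMod (ClSub.idealMod I) M, f ⁻¹ᵁ V)) (W : X.Opens) (hW : W ≤ f ⁻¹ᵁ V),
      x ∈ W ∧ IsGen M W (M.presheaf.map (homOfLE hW).op ((mulHom I M).app (f ⁻¹ᵁ V) τ)) := by
  haveI : (CohB1.tensorMod (ClSub.idealMod I) M).IsQuasicoherent :=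
    isQuasicoherent_tensorMod_right (ClSub.idealMod I) hM
  obtain ⟨U₀, hxU₀, e₀, he₀⟩ := isInvertible_iff_exists_isGen.mp hM x
  have hxU : x ∈ U₀ ⊓ U₁ := ⟨hxU₀, hxU₁⟩
  have he : IsGen M (U₀ ⊓ U₁) (M.presheaf.map (homOfLE inf_le_left).op e₀) := he₀.res inf_le_left
  have ht1 : incl I (U₀ ⊓ U₁) ((ClSub.idealMod I).presheaf.map
      (homOfLE (inf_le_right : U₀ ⊓ U₁ ≤ U₁)).op t0) = 1 := by
    rw [incl_res, ht0, map_one]
  obtain ⟨V', τ0, W, hW, hxW, hgen⟩ :=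
    exists_isGen_mulHom_of_epi_counit f I M he _ ht1 x hxU
  have hfx : f x ∈ V' ⊓ V := ⟨hW hxW, hx⟩
  obtain ⟨a, haV, hxa⟩ := hV.exists_basicOpen_le (V := V' ⊓ V) ⟨f x, hfx⟩ hfx.2
  set g : Γ(X, f ⁻¹ᵁ V) := f.app V a with hg
  have hDg : X.basicOpen g = f ⁻¹ᵁ (Y.basicOpen a) := (Scheme.preimage_basicOpen f a).symm
  have hDV' : X.basicOpen g ≤ f ⁻¹ᵁ V' := by
    rw [hDg]
    exact f.preimage_mono (haV.trans inf_le_left)
  have hxg : x ∈ X.basicOpen g := by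
    rw [hDg]
    exact hxa
  obtain ⟨n, τ, hτ⟩ := Groth.Agent.Lib.Lead.QcqsLoc.exists_res_eq_pow_smul_of_qcqs
    (CohB1.tensorMod (ClSub.idealMod I) M) hc hqs g
    ((CohB1.tensorMod (ClSub.idealMod I) M).presheaf.map (homOfLE hDV').op τ0)
  have hW₀g : W ⊓ X.basicOpen g ≤ X.basicOpen g := inf_le_right
  have hW₀W : W ⊓ X.basicOpen g ≤ W := inf_le_left
  have hW₀V : W ⊓ X.basicOpen g ≤ f ⁻¹ᵁ V := hW₀g.trans (X.basicOpen_le g)
  refine ⟨τ, W ⊓ X.basicOpen g, hW₀V, ⟨hxW, hxg⟩, ?_⟩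
  have h1 := congrArg ((CohB1.tensorMod (ClSub.idealMod I) M).presheaf.map (homOfLE hW₀g).op) hτ
  rw [res_res, res_smul, map_pow, res_resX, res_res] at h1
  have h1' : M.presheaf.map (homOfLE hW₀V).op ((mulHom I M).app (f ⁻¹ᵁ V) τ) =
      (X.presheaf.map (homOfLE hW₀V).op g) ^ n •
        M.presheaf.map (homOfLE (hW₀g.trans hDV')).op ((mulHom I M).app (f ⁻¹ᵁ V') τ0) := by
    rw [hom_app_res (mulHom I M) hW₀V τ, h1, hom_app_res (mulHom I M) (hW₀g.trans hDV') τ0]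
    exact Scheme.Modules.Hom.app_smul _ _ _
  rw [h1']
  have h2 : IsGen M (W ⊓ X.basicOpen g)
      (M.presheaf.map (homOfLE (hW₀g.trans hDV')).op ((mulHom I M).app (f ⁻¹ᵁ V') τ0)) := by
    have := hgen.res hW₀W
    rw [res_res] at this
    exact this
  refine h2.smul_of_isUnit _ (IsUnit.pow n ?_)
  have h3 : X.presheaf.map (homOfLE hW₀V).op g =
      X.presheaf.map (homOfLE hW₀g).op (X.presheaf.map (homOfLE (X.basicOpen_le g)).op g) := by
    rw [res_resX]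
  rw [h3]
  exact (isUnit_res_basicOpen g).map _

/-- The image of a section of `I ⊗ M` over an open `Ω` does not generate `M` at points of the
support of `I`. -/
theorem notMem_genLocus_genHom_mulHom (I : X.IdealSheafData) {M : X.Modules}
    (hM : PicF.IsInvertible M) (Ω : X.Opens)
    (τ : Γ(CohB1.tensorMod (ClSub.idealMod I) M, Ω)) (y₁ : (↑Ω : Scheme.{u}))
    (hy : Ω.ι y₁ ∈ I.support) :
    y₁ ∉ CohB1.genLocus (M.restrict Ω.ι) (genHom ((mulHom I M).app Ω τ)) := by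
  intro hyg
  set σ : Γ(M, Ω) := (mulHom I M).app Ω τ with hσ
  set G₁ := CohB1.genLocus (M.restrict Ω.ι) (genHom σ) with hG₁
  have hG : IsGen (M.restrict Ω.ι) G₁ (val (genHom σ) G₁) :=
    (le_genLocus_iff_isGen (genHom σ) G₁).mp le_rfl
  obtain ⟨W₀, hyW₀, e₀, he₀⟩ := isInvertible_iff_exists_isGen.mp hM (Ω.ι y₁)
  set W₁ : (↑Ω : Scheme.{u}).Opens := G₁ ⊓ Ω.ι ⁻¹ᵁ W₀ with hW₁
  have hy₁W₁ : y₁ ∈ W₁ := ⟨hyg, hyW₀⟩
  set W : X.Opens := Ω.ι ''ᵁ W₁ with hWdef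
  have hWΩ : W ≤ Ω := Ω.ι_image_le W₁
  have hWW₀ : W ≤ W₀ := (Ω.ι.image_mono inf_le_right).trans (Ω.ι.image_preimage_le W₀)
  have hyW : Ω.ι y₁ ∈ W := ⟨y₁, hy₁W₁, rfl⟩
  have he : IsGen M W (M.presheaf.map (homOfLE hWW₀).op e₀) := he₀.res hWW₀
  obtain ⟨r, hr⟩ := (hG W₁ inf_le_left).2
    (show Γ(M.restrict Ω.ι, W₁) from M.presheaf.map (homOfLE hWW₀).op e₀)
  have hval : (val (genHom σ) W₁ : Γ(M, W)) = M.presheaf.map (homOfLE hWΩ).op σ := by
    refine (genHom_app σ W₁ 1).trans ?_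
    exact one_smul Γ(X, W) (M.presheaf.map (homOfLE hWΩ).op σ)
  have hr' : ((show Γ(X, W) from r) • M.presheaf.map (homOfLE hWΩ).op σ : Γ(M, W)) =
      M.presheaf.map (homOfLE hWW₀).op e₀ := by
    rw [← hval, ← restrict_smul, ← val_res (genHom σ) (inf_le_left : W₁ ≤ G₁)]
    exact hr
  obtain ⟨a, ha⟩ := (tmulREquiv (ClSub.idealMod I) he le_rfl).surjective
    ((CohB1.tensorMod (ClSub.idealMod I) M).presheaf.map (homOfLE hWΩ).op τ)
  rw [tmulREquiv_apply, res_self] at ha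
  have h1 : M.presheaf.map (homOfLE hWΩ).op σ =
      incl I W a • M.presheaf.map (homOfLE hWW₀).op e₀ := by
    rw [hσ, hom_app_res (mulHom I M) hWΩ τ, ← ha, mulHom_tmul]
  rw [h1, smul_smul] at hr'
  have h2 : (show Γ(X, W) from r) * incl I W a = 1 := by
    apply (he W le_rfl).1
    change ((show Γ(X, W) from r) * incl I W a) • M.presheaf.map (homOfLE (le_refl W)).op _ =
      (1 : Γ(X, W)) • M.presheaf.map (homOfLE (le_refl W)).op _
    rw [res_self, hr', one_smul]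
  have h3 : IsUnit (incl I W a) := IsUnit.of_mul_eq_one_right _ h2
  have h4 : Ω.ι y₁ ∈ X.basicOpen (incl I W a) := by
    rw [Scheme.basicOpen_of_isUnit _ h3]
    exact hyW
  exact S2326.basicOpen_incl_disjoint_support' I a _ hy h4

/-- Let X be a quasi-compact separated scheme, f : X → Y a separated quasi-compact morphism and L an
invertible O_X-module. Suppose that for every quasi-coherent submodule J of O_X of finite type there
is n > 0 such that the canonical morphism f^*(f_*(J ⊗ L^{⊗n})) → J ⊗ L^{⊗n} is an epimorphism. Then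
L is ample relative to f. (The published statement also allows X to be a scheme whose underlying
space is Noetherian; this row assumes X quasi-compact and separated.) -/
theorem result {X Y : Scheme.{u}} [CompactSpace X] [X.IsSeparated] (f : X ⟶ Y)
    [IsSeparated f] [QuasiCompact f] (L : X.Modules) (hL : PicF.IsInvertible L)
    (h : ∀ (J : X.Modules) (i : J ⟶ Coh.structureModule X), Mono i → Coh.IsQCoh J → CohB1.IsFT J →
      ∃ n : ℕ, 0 < n ∧
        Epi ((Scheme.Modules.pullbackPushforwardAdjunction f).counit.app (CohB1.tensorMod J (CohB1.tensorPow L n)))) :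
    RelAmple.IsRelAmple f L := by
  refine ⟨inferInstance, fun V => ?_⟩
  have hLΩ : PicF.IsInvertible (L.restrict (f ⁻¹ᵁ V.1).ι) :=
    Groth.Agent.Lib.Helper35.ModRestrict.isInvertible_restrict _ L hL
  have hc : IsCompact ((f ⁻¹ᵁ V.1 : X.Opens) : Set X) := f.isCompact_preimage V.2.isCompact
  have hcs : CompactSpace (↑(f ⁻¹ᵁ V.1) : Scheme.{u}) := isCompact_iff_compactSpace.mp hc
  have hqs : IsQuasiSeparated ((f ⁻¹ᵁ V.1 : X.Opens) : Set X) :=
    IsQuasiSeparated.of_quasiSeparatedSpace _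
  refine ⟨hLΩ, hcs, fun x₁ => ?_⟩
  obtain ⟨_, ⟨U, hU, rfl⟩, hxU, hUΩ0⟩ :=
    X.isBasis_affineOpens.exists_subset_of_mem_open x₁.2 (f ⁻¹ᵁ V.1).isOpen
  have hUΩ : U ≤ f ⁻¹ᵁ V.1 := hUΩ0
  obtain ⟨I, hIft, hIsupp, h1I⟩ := exists_ft_ideal_support_eq_compl U hU
  obtain ⟨n, hn, hepi⟩ := h (ClSub.idealMod I) (ClSub.idealModι I) (S4408.mono_idealModι I)
    inferInstance (isFT_idealMod I hIft)
  obtain ⟨m, rfl⟩ : ∃ m, n = m + 1 := ⟨n - 1, by omega⟩
  have hM : PicF.IsInvertible (CohB1.tensorPow L (m + 1)) := isInvertible_tensorPow hL _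
  obtain ⟨t0, ht0⟩ := (mem_ideal_iff I ⟨U, hU⟩ 1).mp h1I
  obtain ⟨τ, W, hW, hxW, hgen⟩ := exists_isGen_mulHom_preimage_of_epi_counit f I
    (CohB1.tensorPow L (m + 1)) hM V.1 V.2 hc hqs t0 ht0 x₁.1 hxU x₁.2
  refine ⟨m, genHom ((mulHom I (CohB1.tensorPow L (m + 1))).app (f ⁻¹ᵁ V.1) τ) ≫
    (Groth.Agent.Lib.Helper60.TensorRestrict.restrictTensorPowIso (f ⁻¹ᵁ V.1).ι L (m + 1)).hom, ?_⟩
  rw [genLocus_comp_iso]
  refine ⟨mem_genLocus_genHom _ W hW hgen x₁ hxW, ?_⟩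
  have hU₁ : IsAffineOpen ((f ⁻¹ᵁ V.1).ι ⁻¹ᵁ U) :=
    hU.preimage_of_isOpenImmersion _ (by rw [Scheme.Opens.opensRange_ι]; exact hUΩ)
  have hle : CohB1.genLocus ((CohB1.tensorPow L (m + 1)).restrict (f ⁻¹ᵁ V.1).ι)
      (genHom ((mulHom I (CohB1.tensorPow L (m + 1))).app (f ⁻¹ᵁ V.1) τ)) ≤
      (f ⁻¹ᵁ V.1).ι ⁻¹ᵁ U := by
    intro y₁ hy₁
    by_contra hyU
    have hy' : (f ⁻¹ᵁ V.1).ι y₁ ∈ I.support := by
      change _ ∈ (I.support : Set X)
      rw [hIsupp]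
      exact hyU
    exact notMem_genLocus_genHom_mulHom I hM (f ⁻¹ᵁ V.1) τ y₁ hy' hy₁
  have := isAffineOpen_inf_genLocus
    (Groth.Agent.Lib.Helper35.ModRestrict.isInvertible_restrict (f ⁻¹ᵁ V.1).ι _ hM)
    (genHom ((mulHom I (CohB1.tensorPow L (m + 1))).app (f ⁻¹ᵁ V.1) τ)) hU₁
  rwa [inf_eq_right.mpr hle] at this

end Groth.Agent.S4383
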