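import Groth.Statements.S4382
import Groth.Agent.S4383
import Groth.Agent.Lib.Helper21.CohPullback
import Groth.Agent.Lib.Helper21.CohNoeth

set_option autoImplicit false
universe u
open CategoryTheory CategoryTheory.Limits AlgebraicGeometry
open EGA2

namespace Groth.Agent.S4382

open Groth.Agent.Lib.Lead.QCohAff Groth.Agent.Lib.Helper22.IdealModAff Groth.Agent.Lib.Lead.Inv
  Groth.Agent.Lib.Helper40.SSh TopologicalSpace Opposite Groth.Agent.Lib.Helper60.TensorLib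
  Groth.Agent.Lib.Helper35.GlobGen Groth.Agent.Lib.Helper40.FTIdeal Groth.Agent.S2326
  Scheme.Modules Groth.Agent.Lib.Lead.SheafGlue

set_option backward.isDefEq.respectTransparency.types false

variable {X Y : Scheme.{u}} (f : X ⟶ Y)

/-- If, locally on `Y`, the restriction of `T` to `f⁻¹ V` is generated by its global sections,
the counit `f^* f_* T ⟶ T` is an epimorphism. -/
theorem epi_counit_of_GG_restrict (T : X.Modules)
    (h : ∀ x : X, ∃ V : Y.Opens, f x ∈ V ∧ GG (T.restrict (f ⁻¹ᵁ V).ι)) :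
    Epi ((pullbackPushforwardAdjunction f).counit.app T) := by
  apply epi_counit_of_faithful
  intro T' g hg
  apply Scheme.Modules.hom_ext
  intro W
  ext t
  change (g.app W).hom t = 0
  apply eq_of_locally_eq_pts T' _ 0
  intro x hxW
  obtain ⟨V, hxV, hGG⟩ := h x
  set Ω : X.Opens := f ⁻¹ᵁ V with hΩ
  have hxΩ : x ∈ Ω := hxV
  set W₁ : (↑Ω : Scheme.{u}).Opens := Ω.ι ⁻¹ᵁ W with hW₁
  have hW₁W : Ω.ι ''ᵁ W₁ ≤ W := Ω.ι.image_preimage_le W
  obtain ⟨W₁', hW₁', hxW₁', hmem⟩ := hGG W₁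
    (show Γ(T.restrict Ω.ι, W₁) from T.presheaf.map (homOfLE hW₁W).op t) ⟨x, hxΩ⟩ hxW
  have hW'W : Ω.ι ''ᵁ W₁' ≤ W := (Ω.ι.image_mono hW₁').trans hW₁W
  refine ⟨Ω.ι ''ᵁ W₁', hW'W, ⟨⟨x, hxΩ⟩, hxW₁', rfl⟩, ?_⟩
  rw [map_zero, hom_app_res g hW'W t]
  -- the kernel of `g` on `Ω.ι ''ᵁ W₁'` as a submodule for the restricted structure
  let K : Submodule Γ(↑Ω, W₁') Γ(T.restrict Ω.ι, W₁') :=
    { carrier := {m | (g.app (Ω.ι ''ᵁ W₁')).hom (show Γ(T, Ω.ι ''ᵁ W₁') from m) = 0}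
      add_mem' := fun {a b} ha hb => by
        change (g.app (Ω.ι ''ᵁ W₁')).hom (_ + _) = 0
        rw [map_add]
        change (g.app (Ω.ι ''ᵁ W₁')).hom (show Γ(T, Ω.ι ''ᵁ W₁') from a) +
          (g.app (Ω.ι ''ᵁ W₁')).hom (show Γ(T, Ω.ι ''ᵁ W₁') from b) = 0
        rw [ha, hb, add_zero]
      zero_mem' := map_zero _
      smul_mem' := fun r m hm => by
        change (g.app (Ω.ι ''ᵁ W₁')).hom (show Γ(T, Ω.ι ''ᵁ W₁') from (r • m)) = 0
        rw [restrict_smul]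
        refine (Scheme.Modules.Hom.app_smul g _ _).trans ?_
        have : (g.app (Ω.ι ''ᵁ W₁')).hom (show Γ(T, Ω.ι ''ᵁ W₁') from m) = 0 := hm
        rw [this, smul_zero] }
  have hle : Submodule.span Γ(↑Ω, W₁') (Set.range fun τ : Γ(T.restrict Ω.ι, ⊤) =>
      (T.restrict Ω.ι).presheaf.map (homOfLE (le_top : W₁' ≤ ⊤)).op τ) ≤ K := by
    rw [Submodule.span_le]
    rintro _ ⟨τ, rfl⟩
    change (g.app (Ω.ι ''ᵁ W₁')).hom (T.presheaf.map
      (homOfLE (Ω.ι.image_mono (le_top : W₁' ≤ ⊤))).op (show Γ(T, Ω.ι ''ᵁ ⊤) from τ)) = 0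
    rw [← hom_app_res g]
    obtain ⟨τ', hτ'⟩ := (res_bijective_of_eq T (Ω.ι_image_top)).2 (show Γ(T, Ω.ι ''ᵁ ⊤) from τ)
    rw [← hτ', ← hom_app_res g]
    have hτ0 : (g.app (f ⁻¹ᵁ V)).hom τ' = 0 :=
      congrArg (fun ψ => (Scheme.Modules.Hom.app ψ V).hom τ') hg
    rw [hτ0, map_zero, map_zero]
  have := hle hmem
  change (g.app (Ω.ι ''ᵁ W₁')).hom (T.presheaf.map (homOfLE (Ω.ι.image_mono hW₁')).op
    (T.presheaf.map (homOfLE hW₁W).op t)) = 0 at this
  rw [res_res] at this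
  exact this

theorem isFiniteType_restrict' {X : Scheme.{u}} (U : X.Opens) (G : X.Modules)
    [G.IsQuasicoherent] (hG : SheafOfModules.IsFiniteType (R := X.ringCatSheaf) G) :
    SheafOfModules.IsFiniteType (R := (U : Scheme.{u}).ringCatSheaf) (G.restrict U.ι) := by
  have h1 := Groth.Agent.Lib.Helper21.CohPullback.isFiniteType_pullback U.ι G hG
  let e : (Scheme.Modules.restrictFunctor U.ι).obj G ≅ (Scheme.Modules.pullback U.ι).obj G :=
    (Scheme.Modules.restrictFunctorIsoPullback U.ι).app G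
  exact Groth.Agent.Lib.Helper21.CohNoeth.isFiniteType_of_epi e.inv h1

theorem forward {X Y : Scheme.{u}} [CompactSpace X] (f : X ⟶ Y) (L : X.Modules)
    (hA : RelAmple.IsRelAmple f L) (F : X.Modules) (hFq : Coh.IsQCoh F) (hFt : CohB1.IsFT F) :
    ∃ n₀ : ℕ, 0 < n₀ ∧ ∀ n : ℕ, n₀ ≤ n →
      Epi ((Scheme.Modules.pullbackPushforwardAdjunction f).counit.app
        (CohB1.tensorMod F (CohB1.tensorPow L n))) := by
  haveI : F.IsQuasicoherent := hFq
  -- affine neighbourhoods in `Y`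
  have hV : ∀ x : X, ∃ V : Y.affineOpens, f x ∈ V.1 := by
    intro x
    obtain ⟨_, ⟨V, hV, rfl⟩, hxV, -⟩ :=
      Y.isBasis_affineOpens.exists_subset_of_mem_open (Set.mem_univ (f x)) isOpen_univ
    exact ⟨⟨V, hV⟩, hxV⟩
  choose V hxV using hV
  -- exponents
  have hn : ∀ x : X, ∃ n₀ : ℕ, ∀ n, n₀ ≤ n →
      GG ((CohB1.tensorMod F (CohB1.tensorPow L n)).restrict (f ⁻¹ᵁ (V x).1).ι) := by
    intro x
    have hcoh : Coh.IsCoh (F.restrict (f ⁻¹ᵁ (V x).1).ι) :=
      ⟨inferInstance, isFiniteType_restrict' _ F hFt⟩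
    obtain ⟨n₀, hn₀⟩ := exists_forall_GG_twist (hA.2 (V x)) _ hcoh
    refine ⟨n₀, fun n hn => ?_⟩
    refine GG_of_iso ?_ (hn₀ n hn)
    exact (Groth.Agent.Lib.Helper60.TensorRestrict.restrictTensorIso (f ⁻¹ᵁ (V x).1).ι F
      (CohB1.tensorPow L n) ≪≫ tensorModCongrRight _
        (Groth.Agent.Lib.Helper60.TensorRestrict.restrictTensorPowIso (f ⁻¹ᵁ (V x).1).ι L n)).symm
  choose N hN using hn
  obtain ⟨t, ht⟩ := (isCompact_univ (X := X)).elim_finite_subcover
    (fun x : X => ((f ⁻¹ᵁ (V x).1 : X.Opens) : Set X)) (fun x => (f ⁻¹ᵁ (V x).1).isOpen)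
    (fun x _ => Set.mem_iUnion.2 ⟨x, hxV x⟩)
  refine ⟨t.sup N + 1, Nat.succ_pos _, fun n hn => ?_⟩
  apply epi_counit_of_GG_restrict
  intro x'
  have := ht (Set.mem_univ x')
  simp only [Set.mem_iUnion, exists_prop] at this
  obtain ⟨x, hxt, hx'⟩ := this
  refine ⟨(V x).1, hx', hN x n ?_⟩
  exact (Finset.le_sup (f := N) hxt).trans ((Nat.le_succ _).trans hn)

/-- Let X be a quasi-compact separated scheme, f : X → Y a separated quasi-compact morphism and L an
invertible O_X-module. Then L is ample relative to f if and only if for every quasi-coherent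
O_X-module F of finite type there is n₀ > 0 such that for every n ≥ n₀ the canonical morphism
f^*(f_*(F ⊗ L^{⊗n})) → F ⊗ L^{⊗n} (the counit of the adjunction between f^* and f_*) is an
epimorphism. (The published statement also allows X to be a scheme whose underlying space is
Noetherian; this row assumes X quasi-compact and separated.) -/
theorem result {X Y : Scheme.{u}} [CompactSpace X] [X.IsSeparated] (f : X ⟶ Y)
    [IsSeparated f] [QuasiCompact f] (L : X.Modules) (hL : PicF.IsInvertible L) :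
    RelAmple.IsRelAmple f L ↔ ∀ F : X.Modules, Coh.IsQCoh F → CohB1.IsFT F →
      ∃ n₀ : ℕ, 0 < n₀ ∧ ∀ n : ℕ, n₀ ≤ n →
        Epi ((Scheme.Modules.pullbackPushforwardAdjunction f).counit.app (CohB1.tensorMod F (CohB1.tensorPow L n))) := by
  constructor
  · intro hA F hFq hFt
    exact forward f L hA F hFq hFt
  · intro h
    refine Groth.Agent.S4383.result f L hL (fun J i _ hJq hJt => ?_)
    obtain ⟨n₀, hn₀, hn⟩ := h J hJq hJt
    exact ⟨n₀, hn₀, hn n₀ le_rfl⟩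

end Groth.Agent.S4382
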