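import Groth.Statements.S4395
import Mathlib.RingTheory.GradedAlgebra.Radical

set_option autoImplicit false
universe u
open EGA2

namespace Groth.Agent.S4395

section
open DirectSum

variable {R A : Type u} [CommRing R] [CommRing A] [Algebra R A] (𝒜 : ℕ → Submodule R A)
  [GradedAlgebra 𝒜]

def tailIdeal (n₀ : ℕ) (p : ℕ → AddSubgroup A) (d : ℕ) (f : A) (hd : n₀ ≤ d)
    (hC1 : ∀ m n : ℕ, n₀ ≤ n → ∀ a ∈ 𝒜 m, ∀ b ∈ p n, a * b ∈ p (m + n)) : Ideal A where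
  carrier := {x | ∀ m, f * (decompose 𝒜 x m : A) ∈ p (d + m)}
  zero_mem' := by
    intro m
    simp
  add_mem' := by
    intro x y hx hy m
    have : ((decompose 𝒜 (x + y) m : 𝒜 m) : A) =
        (decompose 𝒜 x m : A) + (decompose 𝒜 y m : A) := by
      simp [decompose_add]
    rw [this, mul_add]
    exact add_mem (hx m) (hy m)
  smul_mem' := by
    intro a x hx
    induction a using DirectSum.Decomposition.inductionOn 𝒜 with
    | zero =>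
      intro m
      simp
    | @homogeneous i a =>
      intro m
      rw [smul_eq_mul, coe_decompose_mul_of_left_mem 𝒜 m a.2]
      split_ifs with him
      · have h1 := hC1 i (d + (m - i)) (by omega) a a.2 _ (hx (m - i))
        have h2 : i + (d + (m - i)) = d + m := by omega
        rw [h2] at h1
        have h3 : f * ((a : A) * (decompose 𝒜 x (m - i) : A)) =
            (a : A) * (f * (decompose 𝒜 x (m - i) : A)) := by ring
        rw [h3]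
        exact h1
      · simp
    | add a b ha hb =>
      intro m
      have h1 := ha m
      have h2 := hb m
      have : ((decompose 𝒜 ((a + b) • x) m : 𝒜 m) : A) =
          (decompose 𝒜 (a • x) m : A) + (decompose 𝒜 (b • x) m : A) := by
        rw [add_smul]
        simp [decompose_add]
      rw [this, mul_add]
      exact add_mem h1 h2

theorem mem_tailIdeal_iff (n₀ : ℕ) (p : ℕ → AddSubgroup A) (d : ℕ) (f : A) (hd : n₀ ≤ d)
    (hC1 : ∀ m n : ℕ, n₀ ≤ n → ∀ a ∈ 𝒜 m, ∀ b ∈ p n, a * b ∈ p (m + n)) (x : A) :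
    x ∈ tailIdeal 𝒜 n₀ p d f hd hC1 ↔ ∀ m, f * (decompose 𝒜 x m : A) ∈ p (d + m) := Iff.rfl

theorem mem_tailIdeal_of_homogeneous (n₀ : ℕ) (p : ℕ → AddSubgroup A) (d : ℕ) (f : A) (hd : n₀ ≤ d)
    (hC1 : ∀ m n : ℕ, n₀ ≤ n → ∀ a ∈ 𝒜 m, ∀ b ∈ p n, a * b ∈ p (m + n)) {m : ℕ} {x : A}
    (hx : x ∈ 𝒜 m) :
    x ∈ tailIdeal 𝒜 n₀ p d f hd hC1 ↔ f * x ∈ p (d + m) := by
  rw [mem_tailIdeal_iff]
  constructor
  · intro h
    have := h m
    rwa [decompose_of_mem_same 𝒜 hx] at this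
  · intro h k
    by_cases hk : m = k
    · subst hk
      rwa [decompose_of_mem_same 𝒜 hx]
    · rw [decompose_of_mem_ne 𝒜 hx hk]
      simp

theorem tailIdeal_isHomogeneous (n₀ : ℕ) (p : ℕ → AddSubgroup A) (d : ℕ) (f : A) (hd : n₀ ≤ d)
    (hC1 : ∀ m n : ℕ, n₀ ≤ n → ∀ a ∈ 𝒜 m, ∀ b ∈ p n, a * b ∈ p (m + n)) :
    (tailIdeal 𝒜 n₀ p d f hd hC1).IsHomogeneous 𝒜 := by
  intro i x hx
  rw [mem_tailIdeal_of_homogeneous 𝒜 n₀ p d f hd hC1 (SetLike.coe_mem _)]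
  exact hx i

end

section
open DirectSum

variable {R A : Type u} [CommRing R] [CommRing A] [Algebra R A] (𝒜 : ℕ → Submodule R A)
  [GradedAlgebra 𝒜]

theorem exists_homogeneous_notMem (𝔭 : HomogeneousIdeal 𝒜) (hprime : 𝔭.toIdeal.IsPrime)
    (hirr : ¬ HomogeneousIdeal.irrelevant 𝒜 ≤ 𝔭) (n₀ : ℕ) :
    ∃ e, n₀ ≤ e ∧ ∃ g ∈ 𝒜 e, g ∉ 𝔭.toIdeal := by
  classical
  obtain ⟨x, hx, hxp⟩ := SetLike.not_le_iff_exists.mp hirr
  have hx0 : (decompose 𝒜 x 0 : A) = 0 := by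
    have := (HomogeneousIdeal.mem_irrelevant_iff 𝒜 x).mp hx
    rwa [GradedRing.proj_apply] at this
  have hex : ∃ i, (decompose 𝒜 x i : A) ∉ 𝔭.toIdeal := by
    by_contra hall
    push Not at hall
    apply hxp
    rw [← DirectSum.sum_support_decompose 𝒜 x]
    exact Ideal.sum_mem _ (fun i _ => hall i)
  obtain ⟨i, hi⟩ := hex
  have hi0 : i ≠ 0 := by
    rintro rfl
    rw [hx0] at hi
    exact hi (Ideal.zero_mem _)
  refine ⟨n₀ • i, ?_, (decompose 𝒜 x i : A) ^ n₀, SetLike.pow_mem_graded n₀ (SetLike.coe_mem _), ?_⟩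
  · have : 1 ≤ i := Nat.one_le_iff_ne_zero.mpr hi0
    calc n₀ = n₀ * 1 := (Nat.mul_one _).symm
      _ ≤ n₀ * i := Nat.mul_le_mul_left _ this
      _ = n₀ • i := (smul_eq_mul _ _).symm
  · intro h
    exact hi (hprime.mem_of_pow_mem _ h)

theorem le_of_tail_eq (n₀ : ℕ) (𝔭 𝔮 : HomogeneousIdeal 𝒜) (hq : 𝔮.toIdeal.IsPrime)
    (hirr : ¬ HomogeneousIdeal.irrelevant 𝒜 ≤ 𝔮)
    (h : ∀ n : ℕ, n₀ ≤ n → (𝔭.toIdeal : Set A) ∩ 𝒜 n = (𝔮.toIdeal : Set A) ∩ 𝒜 n) :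
    𝔭 ≤ 𝔮 := by
  classical
  obtain ⟨e, he, g, hg, hgq⟩ := exists_homogeneous_notMem 𝒜 𝔮 hq hirr n₀
  intro x hx
  have hx' : x ∈ 𝔭.toIdeal := hx
  change x ∈ 𝔮.toIdeal
  rw [← DirectSum.sum_support_decompose 𝒜 x]
  refine Ideal.sum_mem _ (fun i _ => ?_)
  have h1 : (decompose 𝒜 x i : A) ∈ 𝔭.toIdeal := 𝔭.isHomogeneous i hx'
  have h2 : g * (decompose 𝒜 x i : A) ∈ (𝔭.toIdeal : Set A) ∩ 𝒜 (e + i) :=
    ⟨Ideal.mul_mem_left _ _ h1, SetLike.mul_mem_graded hg (SetLike.coe_mem _)⟩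
  rw [h (e + i) (by omega)] at h2
  rcases hq.mem_or_mem h2.1 with h3 | h3
  · exact absurd h3 hgq
  · exact h3

end

/-- Let S be a ring graded in nonnegative degrees, n₀ > 0 an integer and, for every n ≥ n₀, p_n an
additive subgroup of S_n. Then there is a graded prime ideal p of S not containing S_+ with p ∩ S_n
= p_n for all n ≥ n₀ if and only if: (1) S_m p_n ⊆ p_{m+n} for all m ≥ 0 and n ≥ n₀; (2) for m ≥ n₀,
n ≥ n₀, f ∈ S_m, g ∈ S_n, fg ∈ p_{m+n} implies f ∈ p_m or g ∈ p_n; (3) p_n ≠ S_n for at least one n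
≥ n₀. Moreover such a graded prime ideal is unique. -/
theorem result {R A : Type u} [CommRing R] [CommRing A] [Algebra R A] (𝒜 : ℕ → Submodule R A) [GradedAlgebra 𝒜]
    (n₀ : ℕ) (hn₀ : 0 < n₀) (p : ℕ → AddSubgroup A) (hp : ∀ n : ℕ, n₀ ≤ n → (p n : Set A) ⊆ 𝒜 n) :
    ((∃ 𝔭 : HomogeneousIdeal 𝒜, 𝔭.toIdeal.IsPrime ∧ ¬ HomogeneousIdeal.irrelevant 𝒜 ≤ 𝔭 ∧
        ∀ n : ℕ, n₀ ≤ n → (𝔭.toIdeal : Set A) ∩ 𝒜 n = p n) ↔
      ((∀ m n : ℕ, n₀ ≤ n → ∀ a ∈ 𝒜 m, ∀ b ∈ p n, a * b ∈ p (m + n)) ∧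
        (∀ m n : ℕ, n₀ ≤ m → n₀ ≤ n → ∀ f ∈ 𝒜 m, ∀ g ∈ 𝒜 n, f * g ∈ p (m + n) → f ∈ p m ∨ g ∈ p n) ∧
        ∃ n : ℕ, n₀ ≤ n ∧ (p n : Set A) ≠ 𝒜 n)) ∧
    ∀ 𝔭 𝔮 : HomogeneousIdeal 𝒜, 𝔭.toIdeal.IsPrime → 𝔮.toIdeal.IsPrime →
      ¬ HomogeneousIdeal.irrelevant 𝒜 ≤ 𝔭 → ¬ HomogeneousIdeal.irrelevant 𝒜 ≤ 𝔮 →
      (∀ n : ℕ, n₀ ≤ n → (𝔭.toIdeal : Set A) ∩ 𝒜 n = p n) → (∀ n : ℕ, n₀ ≤ n → (𝔮.toIdeal : Set A) ∩ 𝒜 n = p n) →
      𝔭 = 𝔮 := by
  classical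
  refine ⟨⟨?_, ?_⟩, ?_⟩
  · rintro ⟨𝔭, hprime, hirr, hint⟩
    have hmem : ∀ n, n₀ ≤ n → ∀ x, x ∈ p n ↔ (x ∈ 𝔭.toIdeal ∧ x ∈ 𝒜 n) := by
      intro n hn x
      have := Set.ext_iff.mp (hint n hn) x
      exact this.symm
    refine ⟨?_, ?_, ?_⟩
    · intro m n hn a ha b hb
      obtain ⟨hb1, hb2⟩ := (hmem n hn b).mp hb
      exact (hmem (m + n) (by omega) _).mpr
        ⟨Ideal.mul_mem_left _ _ hb1, SetLike.mul_mem_graded ha hb2⟩
    · intro m n hm hn f hf g hg hfg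
      obtain ⟨h1, -⟩ := (hmem (m + n) (by omega) _).mp hfg
      rcases hprime.mem_or_mem h1 with h | h
      · exact Or.inl ((hmem m hm f).mpr ⟨h, hf⟩)
      · exact Or.inr ((hmem n hn g).mpr ⟨h, hg⟩)
    · obtain ⟨e, he, g, hg, hgp⟩ := exists_homogeneous_notMem 𝒜 𝔭 hprime hirr n₀
      refine ⟨e, he, ?_⟩
      intro heq
      have : g ∈ (p e : Set A) := by rw [heq]; exact hg
      exact hgp ((hmem e he g).mp this).1
  · rintro ⟨hC1, hC2, d, hd, hne⟩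
    have hexf : ∃ f ∈ 𝒜 d, f ∉ p d := by
      by_contra hall
      push Not at hall
      exact hne (Set.Subset.antisymm (hp d hd) (fun x hx => hall x hx))
    obtain ⟨f, hf, hfp⟩ := hexf
    have key : ∀ m, n₀ ≤ m → ∀ x ∈ 𝒜 m, (f * x ∈ p (d + m) ↔ x ∈ p m) := by
      intro m hm x hx
      constructor
      · intro h
        rcases hC2 d m hd hm f hf x hx h with h1 | h1
        · exact absurd h1 hfp
        · exact h1
      · intro h
        exact hC1 d m hm f hf x h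
    have hhom := tailIdeal_isHomogeneous 𝒜 n₀ p d f hd hC1
    have hfI : f ∉ tailIdeal 𝒜 n₀ p d f hd hC1 := by
      rw [mem_tailIdeal_of_homogeneous 𝒜 n₀ p d f hd hC1 hf]
      intro h
      rcases hC2 d d hd hd f hf f hf h with h1 | h1 <;> exact hfp h1
    have hd0 : 0 < d := by omega
    refine ⟨⟨tailIdeal 𝒜 n₀ p d f hd hC1, hhom⟩, ?_, ?_, ?_⟩
    · apply Ideal.IsHomogeneous.isPrime_of_homogeneous_mem_or_mem hhom
      · intro htop
        apply hfI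
        rw [htop]
        exact Submodule.mem_top
      · rintro x y ⟨i, hx⟩ ⟨j, hy⟩ hxy
        have hxy' : x * y ∈ 𝒜 (i + j) := SetLike.mul_mem_graded hx hy
        rw [mem_tailIdeal_of_homogeneous 𝒜 n₀ p d f hd hC1 hxy'] at hxy
        have h1 := hC1 d (d + (i + j)) (by omega) f hf _ hxy
        have h2 : f * (f * (x * y)) = (f * x) * (f * y) := by ring
        have h3 : d + (d + (i + j)) = (d + i) + (d + j) := by omega
        rw [h2, h3] at h1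
        rcases hC2 (d + i) (d + j) (by omega) (by omega) (f * x) (SetLike.mul_mem_graded hf hx)
          (f * y) (SetLike.mul_mem_graded hf hy) h1 with h4 | h4
        · left
          rw [mem_tailIdeal_of_homogeneous 𝒜 n₀ p d f hd hC1 hx]
          exact h4
        · right
          rw [mem_tailIdeal_of_homogeneous 𝒜 n₀ p d f hd hC1 hy]
          exact h4
    · intro hle
      exact hfI (hle (HomogeneousIdeal.mem_irrelevant_of_mem 𝒜 hd0 hf))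
    · intro n hn
      ext x
      constructor
      · rintro ⟨hxI, hxn⟩
        have hxI' : x ∈ tailIdeal 𝒜 n₀ p d f hd hC1 := hxI
        rw [mem_tailIdeal_of_homogeneous 𝒜 n₀ p d f hd hC1 hxn] at hxI'
        exact (key n hn x hxn).mp hxI'
      · intro hx
        have hxn : x ∈ 𝒜 n := hp n hn hx
        refine ⟨?_, hxn⟩
        change x ∈ tailIdeal 𝒜 n₀ p d f hd hC1
        rw [mem_tailIdeal_of_homogeneous 𝒜 n₀ p d f hd hC1 hxn]
        exact (key n hn x hxn).mpr hx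
  · intro 𝔭 𝔮 hp' hq' hirrp hirrq h1 h2
    apply le_antisymm
    · exact le_of_tail_eq 𝒜 n₀ 𝔭 𝔮 hq' hirrq (fun n hn => (h1 n hn).trans (h2 n hn).symm)
    · exact le_of_tail_eq 𝒜 n₀ 𝔮 𝔭 hp' hirrp (fun n hn => (h2 n hn).trans (h1 n hn).symm)

end Groth.Agent.S4395
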