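import Groth.Statements.S4396
-- import your own Groth.Agent.* helpers here

set_option autoImplicit false
universe u
open AlgebraicGeometry
open EGA2

namespace Groth.Agent.S4396

section
open DirectSum HomogeneousLocalization

variable {R A : Type u} [CommRing R] [CommRing A] [Algebra R A] (𝒜 : ℕ → Submodule R A)
  [GradedAlgebra 𝒜]
  {B : Type u} [CommRing B] [Algebra R B] (ℬ : ℕ → Submodule R B) [GradedAlgebra ℬ]
  (d : ℕ) (φ : B →ₐ[R] A)
  (hdeg : ∀ n : ℕ, Submodule.map φ.toLinearMap (ℬ n) = 𝒜 (n * d))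

omit [GradedAlgebra 𝒜] [GradedAlgebra ℬ] in
include hdeg in
theorem map_mem_deg (n : ℕ) (x : B) (hx : x ∈ ℬ n) : φ x ∈ 𝒜 (n • d) := by
  rw [smul_eq_mul, ← hdeg n]
  exact ⟨x, hx, rfl⟩

/-- the additive maps on graded pieces -/
noncomputable def pieceHom {f : A} (hf : f ∈ 𝒜 d) (n : ℕ) : ℬ n →+ Away 𝒜 f where
  toFun x := Away.mk 𝒜 hf n (φ x) (map_mem_deg 𝒜 ℬ d φ hdeg n x x.2)
  map_zero' := by
    apply HomogeneousLocalization.val_injective
    simp [Localization.mk_zero]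
  map_add' x y := by
    apply HomogeneousLocalization.val_injective
    simp [Localization.add_mk_self]

/-- the ring hom from the direct sum -/
noncomputable def dsHom {f : A} (hf : f ∈ 𝒜 d) : (⨁ i, ℬ i) →+* Away 𝒜 f :=
  DirectSum.toSemiring (pieceHom 𝒜 ℬ d φ hdeg hf)
    (by
      apply HomogeneousLocalization.val_injective
      simp [pieceHom])
    (by
      intro i j ai aj
      apply HomogeneousLocalization.val_injective
      simp [pieceHom, Localization.mk_mul, pow_add])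

/-- the ring hom ψ : B → S_(f) -/
noncomputable def psi {f : A} (hf : f ∈ 𝒜 d) : B →+* Away 𝒜 f :=
  (dsHom 𝒜 ℬ d φ hdeg hf).comp (DirectSum.decomposeRingEquiv ℬ).toRingHom

theorem psi_of_mem {f : A} (hf : f ∈ 𝒜 d) (n : ℕ) (x : B) (hx : x ∈ ℬ n) :
    psi 𝒜 ℬ d φ hdeg hf x = Away.mk 𝒜 hf n (φ x) (map_mem_deg 𝒜 ℬ d φ hdeg n x hx) := by
  change dsHom 𝒜 ℬ d φ hdeg hf (DirectSum.decompose ℬ x) = _
  rw [DirectSum.decompose_of_mem ℬ hx]
  exact DirectSum.toSemiring_of _ _ _ _ _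

theorem psi_f' (f' : B) (hf' : f' ∈ ℬ 1) (hf : φ f' ∈ 𝒜 d) :
    psi 𝒜 ℬ d φ hdeg hf f' = 1 := by
  apply HomogeneousLocalization.val_injective
  rw [psi_of_mem 𝒜 ℬ d φ hdeg hf 1 f' hf', Away.val_mk, HomogeneousLocalization.val_one]
  have := Localization.mk_self (⟨φ f' ^ 1, 1, rfl⟩ : Submonoid.powers (φ f'))
  simp only [pow_one] at this ⊢
  exact this

theorem mk_f'_eq_one (f' : B) :
    Ideal.Quotient.mk (Ideal.span {f' - 1}) f' = 1 := by
  rw [← map_one (Ideal.Quotient.mk (Ideal.span {f' - 1})), Ideal.Quotient.eq]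
  exact Ideal.subset_span rfl

theorem key (f' : B) (hf : φ f' ∈ 𝒜 d) (x : B) : ∃ N : ℕ, ∀ M : ℕ, N ≤ M → ∃ y : B,
    (psi 𝒜 ℬ d φ hdeg hf x).val = Localization.mk (φ y) (⟨φ f' ^ M, M, rfl⟩ : Submonoid.powers (φ f')) ∧
    Ideal.Quotient.mk (Ideal.span {f' - 1}) y = Ideal.Quotient.mk (Ideal.span {f' - 1}) x := by
  induction x using DirectSum.Decomposition.inductionOn ℬ with
  | zero =>
    refine ⟨0, fun M _ => ⟨0, ?_, rfl⟩⟩
    simp [Localization.mk_zero]
  | @homogeneous n x =>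
    refine ⟨n, fun M hM => ⟨(x : B) * f' ^ (M - n), ?_, ?_⟩⟩
    · rw [psi_of_mem 𝒜 ℬ d φ hdeg hf n x x.2, Away.val_mk, Localization.mk_eq_mk_iff,
        Localization.r_iff_exists]
      refine ⟨1, ?_⟩
      simp only [OneMemClass.coe_one, one_mul, map_mul, map_pow]
      have : φ f' ^ M = φ f' ^ n * φ f' ^ (M - n) := by
        rw [← pow_add, Nat.add_sub_cancel' hM]
      rw [this]
      ring
    · rw [map_mul, map_pow, mk_f'_eq_one, one_pow, mul_one]
  | add x₁ x₂ h₁ h₂ =>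
    obtain ⟨N₁, h₁⟩ := h₁
    obtain ⟨N₂, h₂⟩ := h₂
    refine ⟨max N₁ N₂, fun M hM => ?_⟩
    obtain ⟨y₁, hy₁, hy₁'⟩ := h₁ M (le_trans (le_max_left _ _) hM)
    obtain ⟨y₂, hy₂, hy₂'⟩ := h₂ M (le_trans (le_max_right _ _) hM)
    refine ⟨y₁ + y₂, ?_, ?_⟩
    · rw [map_add, HomogeneousLocalization.val_add, hy₁, hy₂, map_add, Localization.add_mk_self]
    · rw [map_add, map_add, hy₁', hy₂']

end

/-- Let S be a ring graded in nonnegative degrees, d > 0, and S^{(d)} the graded ring whose degree-n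
part is S_{nd} (given here as any graded ring S' with an injective algebra homomorphism φ : S' → S
carrying S'_n onto S_{nd} for every n); let f' ∈ S'_1, with image f = φ(f') ∈ S_d. Then there is a
ring isomorphism between the degree-zero homogeneous localization S_(f) and the quotient S'/(f' -
1)S', whose inverse sends the class of an element x of S'_n to the fraction φ(x)/f^n. (The module
part of the published statement is not stated here.) -/
theorem result {R A : Type u} [CommRing R] [CommRing A] [Algebra R A] (𝒜 : ℕ → Submodule R A) [GradedAlgebra 𝒜]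
    {B : Type u} [CommRing B] [Algebra R B] (ℬ : ℕ → Submodule R B) [GradedAlgebra ℬ]
    (d : ℕ) (hd : 0 < d) (φ : B →ₐ[R] A) (hφ : Function.Injective φ)
    (hdeg : ∀ n : ℕ, Submodule.map φ.toLinearMap (ℬ n) = 𝒜 (n * d)) (f' : B) (hf' : f' ∈ ℬ 1) :
    ∃ e : HomogeneousLocalization.Away 𝒜 (φ f') ≃+* B ⧸ Ideal.span {f' - 1},
      ∀ (n : ℕ) (x : B), x ∈ ℬ n →
        (e.symm (Ideal.Quotient.mk (Ideal.span {f' - 1}) x)).val =
          Localization.mk (φ x) ⟨φ f' ^ n, pow_mem (Submonoid.mem_powers (φ f')) n⟩ := by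
  classical
  have hf : φ f' ∈ 𝒜 d := by
    have := map_mem_deg 𝒜 ℬ d φ hdeg 1 f' hf'
    rwa [one_smul] at this
  have hψI : ∀ a ∈ Ideal.span {f' - 1}, psi 𝒜 ℬ d φ hdeg hf a = 0 := by
    intro a ha
    obtain ⟨c, rfl⟩ := Ideal.mem_span_singleton'.mp ha
    rw [map_mul, map_sub, psi_f' 𝒜 ℬ d φ hdeg f' hf' hf, map_one, sub_self, mul_zero]
  have hinj : Function.Injective (Ideal.Quotient.lift (Ideal.span {f' - 1})
      (psi 𝒜 ℬ d φ hdeg hf) hψI) := by
    apply RingHom.lift_injective_of_ker_le_ideal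
    intro x hx
    rw [RingHom.mem_ker] at hx
    obtain ⟨N, hN⟩ := key 𝒜 ℬ d φ hdeg f' hf x
    obtain ⟨y, hy, hy'⟩ := hN N le_rfl
    rw [hx, HomogeneousLocalization.val_zero] at hy
    have hy2 := hy.symm
    rw [Localization.mk_eq_mk', IsLocalization.mk'_eq_zero_iff] at hy2
    obtain ⟨⟨_, k, rfl⟩, hk⟩ := hy2
    have h1 : f' ^ k * y = 0 := hφ (by simpa using hk)
    have h2 : Ideal.Quotient.mk (Ideal.span {f' - 1}) y = 0 := by
      have h3 := congrArg (Ideal.Quotient.mk (Ideal.span {f' - 1})) h1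
      rwa [map_mul, map_pow, mk_f'_eq_one, one_pow, one_mul, map_zero] at h3
    rw [← Ideal.Quotient.eq_zero_iff_mem, ← hy', h2]
  have hsurj : Function.Surjective (Ideal.Quotient.lift (Ideal.span {f' - 1})
      (psi 𝒜 ℬ d φ hdeg hf) hψI) := by
    intro z
    obtain ⟨n, a, ha, rfl⟩ := HomogeneousLocalization.Away.mk_surjective 𝒜 hf z
    have ha' : a ∈ Submodule.map φ.toLinearMap (ℬ n) := by
      rw [hdeg n, ← smul_eq_mul]; exact ha
    obtain ⟨x, hx, rfl⟩ := ha'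
    refine ⟨Ideal.Quotient.mk _ x, ?_⟩
    rw [Ideal.Quotient.lift_mk]
    exact psi_of_mem 𝒜 ℬ d φ hdeg hf n x hx
  refine ⟨(RingEquiv.ofBijective _ ⟨hinj, hsurj⟩).symm, ?_⟩
  intro n x hx
  rw [RingEquiv.symm_symm, RingEquiv.ofBijective_apply, Ideal.Quotient.lift_mk,
    psi_of_mem 𝒜 ℬ d φ hdeg hf n x hx, HomogeneousLocalization.Away.val_mk]

end Groth.Agent.S4396
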