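import Groth.Statements.S4398
import Mathlib.AlgebraicGeometry.Morphisms.IsIso
-- import your own Groth.Agent.* helpers here

set_option autoImplicit false
universe u
open AlgebraicGeometry
open EGA2

namespace Groth.Agent.S4398

section
open DirectSum HomogeneousLocalization

variable {R A : Type u} [CommRing R] [CommRing A] [Algebra R A] (𝒜 : ℕ → Submodule R A)
  [GradedAlgebra 𝒜]
  {B : Type u} [CommRing B] [Algebra R B] (ℬ : ℕ → Submodule R B) [GradedAlgebra ℬ]

theorem away_map_bijective (φ : ℬ →+*ᵍ 𝒜) (hbij : ∀ n : ℕ, 0 < n → Set.BijOn φ (ℬ n) (𝒜 n))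
    {n : ℕ} (hn : 0 < n) (s : B) (hs : s ∈ ℬ n) :
    Function.Bijective (HomogeneousLocalization.Away.map φ s) := by
  have hφs : φ s ∈ 𝒜 n := φ.map_mem hs
  constructor
  · rw [injective_iff_map_eq_zero]
    intro x hx
    obtain ⟨k, b, hb, rfl⟩ := Away.mk_surjective ℬ hs x
    rw [Away.map_mk] at hx
    have hx' := congrArg HomogeneousLocalization.val hx
    rw [Away.val_mk, HomogeneousLocalization.val_zero, Localization.mk_eq_mk',
      IsLocalization.mk'_eq_zero_iff] at hx'
    obtain ⟨⟨_, j, rfl⟩, hj⟩ := hx'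
    have h1 : φ (s ^ (j + 1) * b) = 0 := by
      rw [map_mul, map_pow, pow_succ', mul_assoc]
      simp only at hj
      rw [hj, mul_zero]
    have hmem : s ^ (j + 1) * b ∈ ℬ ((j + 1) • n + k • n) :=
      SetLike.mul_mem_graded (SetLike.pow_mem_graded _ hs) hb
    have hpos : 0 < (j + 1) • n + k • n := by
      simp only [smul_eq_mul]
      have : 0 < (j + 1) * n := Nat.mul_pos (Nat.succ_pos j) hn
      omega
    have h2 : s ^ (j + 1) * b = 0 :=
      (hbij _ hpos).injOn hmem (zero_mem _) (by rw [h1, map_zero])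
    apply HomogeneousLocalization.val_injective
    rw [Away.val_mk, HomogeneousLocalization.val_zero, Localization.mk_eq_mk',
      IsLocalization.mk'_eq_zero_iff]
    exact ⟨⟨s ^ (j + 1), j + 1, rfl⟩, h2⟩
  · intro y
    obtain ⟨k, a, ha, rfl⟩ := Away.mk_surjective 𝒜 hφs y
    have ha' : a * φ s ∈ 𝒜 ((k + 1) • n) := by
      rw [add_smul, one_smul]
      exact SetLike.mul_mem_graded ha hφs
    have hpos : 0 < (k + 1) • n := by
      simp only [smul_eq_mul]
      exact Nat.mul_pos (Nat.succ_pos k) hn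
    obtain ⟨b, hb, hφb⟩ := (hbij _ hpos).surjOn ha'
    refine ⟨Away.mk ℬ hs (k + 1) b hb, ?_⟩
    rw [Away.map_mk]
    apply HomogeneousLocalization.val_injective
    rw [Away.val_mk, Away.val_mk, Localization.mk_eq_mk_iff, Localization.r_iff_exists]
    refine ⟨1, ?_⟩
    simp only [OneMemClass.coe_one, one_mul, hφb, pow_succ]
    ring

end

section
open CategoryTheory

variable {R A : Type u} [CommRing R] [CommRing A] [Algebra R A] (𝒜 : ℕ → Submodule R A)
  [GradedAlgebra 𝒜]
  {B : Type u} [CommRing B] [Algebra R B] (ℬ : ℕ → Submodule R B) [GradedAlgebra ℬ]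

theorem isIso_map (φ : ℬ →+*ᵍ 𝒜) (hbij : ∀ n : ℕ, 0 < n → Set.BijOn φ (ℬ n) (𝒜 n))
    (hφ : HomogeneousIdeal.irrelevant 𝒜 ≤ (HomogeneousIdeal.irrelevant ℬ).map φ) :
    CategoryTheory.IsIso (Proj.map φ hφ) := by
  classical
  rw [← CategoryTheory.MorphismProperty.isomorphisms.iff]
  rw [IsZariskiLocalAtTarget.iff_of_openCover (P := CategoryTheory.MorphismProperty.isomorphisms Scheme)
    (Proj.affineOpenCover ℬ).openCover]
  intro i
  rw [CategoryTheory.MorphismProperty.isomorphisms.iff]
  have hbijα : Function.Bijective (HomogeneousLocalization.Away.map φ (i.2 : B)) :=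
    away_map_bijective 𝒜 ℬ φ hbij i.1.2 i.2 i.2.2
  have hα : CategoryTheory.IsIso (Spec.map (CommRingCat.ofHom
      (HomogeneousLocalization.Away.map φ (i.2 : B)))) := by
    rw [isIso_SpecMap_iff]
    exact hbijα
  have hpb : CategoryTheory.IsPullback
      (Spec.map (CommRingCat.ofHom (HomogeneousLocalization.Away.map φ (i.2 : B))))
      (Proj.awayι 𝒜 (φ i.2) (φ.map_mem i.2.2) i.1.2)
      (Proj.awayι ℬ (i.2 : B) i.2.2 i.1.2) (Proj.map φ hφ) := by
    apply IsOpenImmersion.isPullback
    · exact Proj.awayι_comp_map φ hφ i.1.2 (i.2 : B) i.2.2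
    · rw [Proj.opensRange_awayι, Proj.opensRange_awayι]
      rfl
  have h1 := hpb.flip.isoPullback_hom_snd
  change CategoryTheory.IsIso (CategoryTheory.Limits.pullback.snd (Proj.map φ hφ)
    (Proj.awayι ℬ (i.2 : B) i.2.2 i.1.2))
  have h2 : CategoryTheory.Limits.pullback.snd (Proj.map φ hφ)
      (Proj.awayι ℬ (i.2 : B) i.2.2 i.1.2) = hpb.flip.isoPullback.inv ≫
      Spec.map (CommRingCat.ofHom (HomogeneousLocalization.Away.map φ (i.2 : B))) := by
    exact (CategoryTheory.Iso.eq_inv_comp _).mpr h1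
  rw [h2]
  infer_instance

end

/-- Let φ : S' → S be a homomorphism of rings graded in nonnegative degrees which maps S'_n bijectively
onto S_n for every n > 0, so that S_+ lies in the ideal generated by φ(S'_+) (stated as a hypothesis
because the induced morphism is built from it). Then the induced morphism Proj S → Proj S' is an
isomorphism of schemes. (The published statement treats the cases S'_0 = ℤ and S'_0 = A with S'_n =
S_n for n > 0; this row allows any graded φ that is bijective in positive degrees.) -/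
theorem result {R A : Type u} [CommRing R] [CommRing A] [Algebra R A] (𝒜 : ℕ → Submodule R A) [GradedAlgebra 𝒜]
    {B : Type u} [CommRing B] [Algebra R B] (ℬ : ℕ → Submodule R B) [GradedAlgebra ℬ]
    (φ : ℬ →+*ᵍ 𝒜) (hbij : ∀ n : ℕ, 0 < n → Set.BijOn φ (ℬ n) (𝒜 n))
    (hφ : HomogeneousIdeal.irrelevant 𝒜 ≤ (HomogeneousIdeal.irrelevant ℬ).map φ) :
    CategoryTheory.IsIso (Proj.map φ hφ) := by
  exact isIso_map 𝒜 ℬ φ hbij hφ

end Groth.Agent.S4398
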