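import Groth.Statements.S4399
import Mathlib
import Groth.Agent.Lib.Helper60.Twist
-- import your own Groth.Agent.* helpers here

set_option autoImplicit false
universe u
open CategoryTheory CategoryTheory.Limits AlgebraicGeometry
open EGA2

namespace Groth.Agent.S4399

/-- Let S be a ring graded in nonnegative degrees, X = Proj S, d > 0, and U the union of the opens
D_+(f) for f running through S_d. Then for every integer n the restriction of the twisting sheaf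
O_X(nd) to U is an invertible O_U-module. -/
theorem result {R A : Type u} [CommRing R] [CommRing A] [Algebra R A] (𝒜 : ℕ → Submodule R A) [GradedAlgebra 𝒜]
    (d : ℕ) (hd : 0 < d) (n : ℤ) :
    PicF.IsInvertible ((Twist.twist 𝒜 (n * d)).restrict (⨆ f : 𝒜 d, Proj.basicOpen 𝒜 (f : A)).ι) := by
  intro y
  have hy : y.1 ∈ ⨆ f : 𝒜 d, Proj.basicOpen 𝒜 (f : A) := y.2
  rw [TopologicalSpace.Opens.mem_iSup] at hy
  obtain ⟨f, hf⟩ := hy
  set U : (Proj 𝒜).Opens := ⨆ f : 𝒜 d, Proj.basicOpen 𝒜 (f : A) with hU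
  let W : (U : Scheme.{u}).Opens := U.ι ⁻¹ᵁ (Proj.basicOpen 𝒜 (f : A))
  refine ⟨W, hf, ?_⟩
  have hW : ∀ w : ↥W, (f : A) ∉ ((W.ι ≫ U.ι) w).asHomogeneousIdeal := fun w =>
    (Proj.mem_basicOpen 𝒜 (f : A) _).mp w.2
  have key : Nonempty ((Twist.twist 𝒜 (n * d)).restrict (W.ι ≫ U.ι) ≅ Coh.structureModule (W : Scheme.{u})) := by
    obtain ⟨k, rfl | rfl⟩ := Int.eq_nat_or_neg n
    · refine Groth.Agent.Lib.Helper60.TwistLib.twist_restrict_iso 𝒜 (W.ι ≫ U.ι) _
        (⟨(f : A) ^ k, SetLike.pow_mem_graded k f.2⟩ : 𝒜 (k • d)) (⟨1, SetLike.GradedOne.one_mem⟩ : 𝒜 0)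
        (by simp) ?_ ?_
      · intro w hmem
        exact hW w ((((W.ι ≫ U.ι) w).isPrime.mem_of_pow_mem k) hmem)
      · intro w hmem
        exact ((W.ι ≫ U.ι) w).isPrime.ne_top ((Ideal.eq_top_iff_one _).mpr hmem)
    · refine Groth.Agent.Lib.Helper60.TwistLib.twist_restrict_iso 𝒜 (W.ι ≫ U.ι) _
        (⟨1, SetLike.GradedOne.one_mem⟩ : 𝒜 0) (⟨(f : A) ^ k, SetLike.pow_mem_graded k f.2⟩ : 𝒜 (k • d))
        (by simp) ?_ ?_
      · intro w hmem
        exact ((W.ι ≫ U.ι) w).isPrime.ne_top ((Ideal.eq_top_iff_one _).mpr hmem)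
      · intro w hmem
        exact hW w ((((W.ι ≫ U.ι) w).isPrime.mem_of_pow_mem k) hmem)
  obtain ⟨e⟩ := key
  exact ⟨((Scheme.Modules.restrictFunctorComp W.ι U.ι).symm.app (Twist.twist 𝒜 (n * d))) ≪≫ e⟩

end Groth.Agent.S4399
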