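import Groth.Statements.S4401
import Mathlib
import Groth.Agent.Lib.Helper60.Twist
-- import your own Groth.Agent.* helpers here

set_option autoImplicit false
universe u
open CategoryTheory CategoryTheory.Limits AlgebraicGeometry
open EGA2

namespace Groth.Agent.S4401

/-- Let S be a ring graded in nonnegative degrees whose irrelevant ideal S_+ is generated by finitely
many elements of degree one, and X = Proj S. Then for every integer n ≥ 0 there exist an integer k
and an epimorphism of O_X-modules O_X^k → O_X(n). -/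
theorem result {R A : Type u} [CommRing R] [CommRing A] [Algebra R A] (𝒜 : ℕ → Submodule R A) [GradedAlgebra 𝒜]
    (s : Finset A) (hs1 : ∀ f ∈ s, f ∈ 𝒜 1)
    (hs : (HomogeneousIdeal.irrelevant 𝒜).toIdeal = Ideal.span (s : Set A)) (n : ℕ) :
    ∃ (k : ℕ) (p : FlatMod.freeMod (Proj 𝒜) k ⟶ Twist.twist 𝒜 (n : ℤ)), Epi p := by
  classical
  have hmem : ∀ f ∈ s, f ^ n ∈ 𝒜 n := fun f hf => by
    simpa using SetLike.pow_mem_graded n (hs1 f hf)
  refine ⟨s.card, Sigma.desc (fun i => Groth.Agent.Lib.Helper60.TwistLib.numHom 𝒜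
    (⟨(s.equivFin.symm i).1 ^ n, hmem _ (s.equivFin.symm i).2⟩ : 𝒜 n)), ?_⟩
  refine Groth.Agent.Lib.Helper60.TwistLib.epi_desc_numHom 𝒜
    (fun i => (⟨(s.equivFin.symm i).1 ^ n, hmem _ (s.equivFin.symm i).2⟩ : 𝒜 n)) ?_
  intro x
  by_contra hcon
  push Not at hcon
  apply ProjectiveSpectrum.not_irrelevant_le (show ProjectiveSpectrum 𝒜 from x)
  change (HomogeneousIdeal.irrelevant 𝒜).toIdeal ≤ (show ProjectiveSpectrum 𝒜 from x).asHomogeneousIdeal.toIdeal
  rw [hs, Ideal.span_le]
  intro f hf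
  have := hcon (s.equivFin ⟨f, hf⟩)
  simp only [Equiv.symm_apply_apply] at this
  exact (show ProjectiveSpectrum 𝒜 from x).isPrime.mem_of_pow_mem n this

end Groth.Agent.S4401
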