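import Groth.Statements.S4405
import Mathlib.RingTheory.GradedAlgebra.Radical
-- import your own Groth.Agent.* helpers here

set_option autoImplicit false
universe u
open EGA2

namespace Groth.Agent.S4405

/-- Let S be a ring graded in nonnegative degrees and E any subset of the irrelevant ideal S_+. Then the
intersection of S_+ with the vanishing ideal of the closed subset V_+(E) of Proj S equals the
intersection of S_+ with the radical of the graded ideal generated by E (the smallest homogeneous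
ideal containing E). -/
theorem result {R A : Type u} [CommRing R] [CommRing A] [Algebra R A] (𝒜 : ℕ → Submodule R A) [GradedAlgebra 𝒜]
    (E : Set A) (hE : E ⊆ (HomogeneousIdeal.irrelevant 𝒜).toIdeal) :
    (HomogeneousIdeal.irrelevant 𝒜).toIdeal ⊓
        (ProjectiveSpectrum.vanishingIdeal (ProjectiveSpectrum.zeroLocus 𝒜 E)).toIdeal =
      (HomogeneousIdeal.irrelevant 𝒜).toIdeal ⊓ (Ideal.homogeneousHull 𝒜 (Ideal.span E)).toIdeal.radical := by
  classical
  have hJh : ((Ideal.homogeneousHull 𝒜 (Ideal.span E)).toIdeal).IsHomogeneous 𝒜 :=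
    (Ideal.homogeneousHull 𝒜 (Ideal.span E)).isHomogeneous
  ext x
  simp only [Ideal.mem_inf]
  constructor
  · rintro ⟨hx, hv⟩
    refine ⟨hx, ?_⟩
    rw [Ideal.IsHomogeneous.radical_eq hJh, Ideal.mem_sInf]
    rintro J ⟨hJ, hle, hJp⟩
    by_cases hirr : HomogeneousIdeal.irrelevant 𝒜 ≤ (⟨J, hJ⟩ : HomogeneousIdeal 𝒜)
    · exact hirr hx
    · have hv' := (ProjectiveSpectrum.mem_vanishingIdeal _ x).mp hv
      refine hv' (⟨⟨J, hJ⟩, hJp, hirr⟩ : ProjectiveSpectrum 𝒜) ?_
      intro e he
      exact hle (Ideal.le_toIdeal_homogeneousHull 𝒜 _ (Ideal.subset_span he))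
  · rintro ⟨hx, hr⟩
    refine ⟨hx, ?_⟩
    refine (ProjectiveSpectrum.mem_vanishingIdeal _ x).mpr ?_
    intro y hy
    have hle : (Ideal.homogeneousHull 𝒜 (Ideal.span E)).toIdeal ≤ y.asHomogeneousIdeal.toIdeal := by
      have h1 : Ideal.span E ≤ y.asHomogeneousIdeal.toIdeal := Ideal.span_le.mpr hy
      have h2 := Ideal.homogeneousHull_mono 𝒜 h1
      have h3 : (Ideal.homogeneousHull 𝒜 y.asHomogeneousIdeal.toIdeal) = y.asHomogeneousIdeal :=
        HomogeneousIdeal.homogeneousHull_toIdeal_eq_self _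
      rw [h3] at h2
      exact h2
    obtain ⟨n, hn⟩ := hr
    exact y.isPrime.mem_of_pow_mem n (hle hn)

end Groth.Agent.S4405
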