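import Groth.Statements.S4408
import Groth.Agent.Lib.Lead.IdealGG
import Groth.Agent.Lib.Helper40.SubSh8

set_option autoImplicit false
universe u
open CategoryTheory CategoryTheory.Limits AlgebraicGeometry
open EGA2

namespace Groth.Agent.S4408

open Groth.Agent.Lib.Lead.QCohAff Groth.Agent.Lib.Helper22.IdealModAff Groth.Agent.Lib.Lead.Inv
  Groth.Agent.Lib.Helper40.SSh TopologicalSpace Opposite

set_option backward.isDefEq.respectTransparency.types false

theorem one_mem_vanishingIdeal_compl {X : Scheme.{u}} (U : X.Opens) (hU : IsAffineOpen U) :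
    (1 : Γ(X, U)) ∈ (Scheme.IdealSheafData.vanishingIdeal
      ⟨(U : Set X)ᶜ, U.isOpen.isClosed_compl⟩).ideal ⟨U, hU⟩ := by
  rw [Scheme.IdealSheafData.vanishingIdeal_ideal]
  have : (hU.fromSpec ⁻¹' ((⟨(U : Set X)ᶜ, U.isOpen.isClosed_compl⟩ : Closeds X) : Set X)) = ∅ := by
    ext p
    simp only [Set.mem_preimage, Set.mem_empty_iff_false, iff_false]
    intro hp
    apply hp
    have : hU.fromSpec p ∈ Set.range hU.fromSpec := ⟨p, rfl⟩
    rw [hU.range_fromSpec] at this
    exact this
  erw [this, PrimeSpectrum.vanishingIdeal_empty]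
  trivial

theorem mono_idealModι {X : Scheme.{u}} (I0 : X.IdealSheafData) : Mono (ClSub.idealModι I0) := by
  unfold ClSub.idealModι
  exact equalizer.ι_mono

/-- sections of a submodule of the ideal module, as functions. -/
noncomputable def ii {X : Scheme.{u}} (I0 : X.IdealSheafData) {G : X.Modules}
    (j : G ⟶ ClSub.idealMod I0) (V : X.Opens) : Γ(G, V) →ₗ[Γ(X, V)] Γ(X, V) :=
  (incl I0 V).comp
    ({ toFun := fun s => j.app V s
       map_add' := fun a b => map_add _ a b
       map_smul' := fun c a => Scheme.Modules.Hom.app_smul _ c a } :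
      Γ(G, V) →ₗ[Γ(X, V)] Γ(ClSub.idealMod I0, V))

theorem ii_apply {X : Scheme.{u}} (I0 : X.IdealSheafData) {G : X.Modules}
    (j : G ⟶ ClSub.idealMod I0) (V : X.Opens) (s : Γ(G, V)) :
    ii I0 j V s = incl I0 V (j.app V s) := rfl

theorem ii_res {X : Scheme.{u}} (I0 : X.IdealSheafData) {G : X.Modules}
    (j : G ⟶ ClSub.idealMod I0) {V V' : X.Opens} (hVV : V' ≤ V) (s : Γ(G, V)) :
    ii I0 j V' (G.presheaf.map (homOfLE hVV).op s) =
      X.presheaf.map (homOfLE hVV).op (ii I0 j V s) := by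
  rw [ii_apply, ii_apply, ← hom_app_res j hVV s, incl_res]

/-- (e') ⇒ (a): let X be a quasi-compact separated scheme such that every quasi-coherent submodule of
finite type of O_X is generated by its global sections. Then X is quasi-affine. (The published
statement also allows X to be a scheme whose underlying space is Noetherian; this row assumes it
quasi-compact and separated.) -/
theorem result (X : Scheme.{u}) [CompactSpace X] [X.IsSeparated]
    (h : ∀ (J : X.Modules) (i : J ⟶ Coh.structureModule X), Mono i → Coh.IsQCoh J → CohB1.IsFT J →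
      Curv2.IsGloballyGenerated J) :
    X.IsQuasiAffine := by
  refine Scheme.IsQuasiAffine.of_forall_exists_mem_basicOpen X fun x => ?_
  obtain ⟨_, ⟨U, hU, rfl⟩, hxU, -⟩ :=
    X.isBasis_affineOpens.exists_subset_of_mem_open (Set.mem_univ x) isOpen_univ
  let Z : Closeds X := ⟨(U : Set X)ᶜ, U.isOpen.isClosed_compl⟩
  let I0 : X.IdealSheafData := Scheme.IdealSheafData.vanishingIdeal Z
  have hsupp : (I0.support : Set X) = (U : Set X)ᶜ :=
    Scheme.IdealSheafData.coe_support_vanishingIdeal Z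
  obtain ⟨t0, ht0⟩ := (mem_ideal_iff I0 ⟨U, hU⟩ 1).mp (one_mem_vanishingIdeal_compl U hU)
  obtain ⟨G, j, hmono, hq, hft, hmem⟩ := exists_ft_sub_of_fg_qcqs (ClSub.idealMod I0) hU
    (Submodule.span _ {t0}) (Submodule.fg_span_singleton _)
  obtain ⟨g, hg⟩ := hmem t0 (Submodule.mem_span_singleton_self _)
  have hm0 : Mono (ClSub.idealModι I0) := mono_idealModι I0
  have hGG := GG_of_isGloballyGenerated
    (h G (j ≫ ClSub.idealModι I0) (mono_comp _ _) hq hft)
  obtain ⟨W, hW, hxW, hmemW⟩ := hGG U g x hxU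
  have key : ∃ σ : Γ(G, ⊤), x ∈ X.basicOpen (ii I0 j ⊤ σ) := by
    by_contra hcon
    simp only [not_exists] at hcon
    let J : Ideal Γ(X, W) := Ideal.comap (X.presheaf.germ W x hxW).hom
      (IsLocalRing.maximalIdeal (X.presheaf.stalk x))
    have hJ : ∀ b : Γ(X, W), b ∈ J ↔ x ∉ X.basicOpen b := by
      intro b
      rw [Scheme.mem_basicOpen X b x hxW]
      exact Iff.rfl
    let N : Submodule Γ(X, W) Γ(G, W) := Submodule.comap (ii I0 j W) J
    have hle : Submodule.span Γ(X, W) (Set.range fun σ : Γ(G, ⊤) =>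
        G.presheaf.map (homOfLE (le_top : W ≤ ⊤)).op σ) ≤ N := by
      rw [Submodule.span_le]
      rintro _ ⟨σ, rfl⟩
      change ii I0 j W _ ∈ J
      rw [ii_res, hJ, Scheme.basicOpen_res]
      exact fun h => hcon σ h.2
    have h2 : ii I0 j W (G.presheaf.map (homOfLE hW).op g) ∈ J := hle hmemW
    rw [ii_res, ii_apply, hg, ht0, map_one] at h2
    exact (Ideal.comap_ne_top _ (IsLocalRing.maximalIdeal.isMaximal _).ne_top)
      ((Ideal.eq_top_iff_one _).mpr h2)
  obtain ⟨σ, hσ⟩ := key
  refine ⟨ii I0 j ⊤ σ, ?_, hσ⟩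
  have hle : X.basicOpen (ii I0 j ⊤ σ) ≤ U := by
    intro y hy
    by_contra hyU
    have hy' : y ∈ I0.support := by
      change y ∈ (I0.support : Set X)
      rw [hsupp]
      exact hyU
    rw [ii_apply] at hy
    exact basicOpen_incl_disjoint_support I0 (j.app ⊤ σ) y hy' hy
  have : X.basicOpen (ii I0 j ⊤ σ) =
      X.basicOpen (X.presheaf.map (homOfLE (le_top : U ≤ ⊤)).op (ii I0 j ⊤ σ)) := by
    rw [Scheme.basicOpen_res]
    exact (inf_eq_right.mpr hle).symm
  rw [this]
  exact hU.basicOpen _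

end Groth.Agent.S4408
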