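import Groth.Statements.S4409
import Groth.Agent.Lib.Lead.QAffCounit

set_option autoImplicit false
universe u
open CategoryTheory CategoryTheory.Limits AlgebraicGeometry
open EGA2

namespace Groth.Agent.S4409

/-- (a) ⇔ (d): let f : X → Y be a quasi-compact morphism. Then f is quasi-affine (the preimage of every
affine open of Y is a quasi-affine scheme) if and only if f is separated and, for every
quasi-coherent O_X-module F, the canonical morphism f^*(f_*(F)) → F (counit of the adjunction
between f^* and f_*) is an epimorphism. -/
theorem result {X Y : Scheme.{u}} (f : X ⟶ Y) [QuasiCompact f] :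
    Mor2.IsQuasiAffine f ↔ (IsSeparated f ∧ ∀ F : X.Modules, Coh.IsQCoh F →
      Epi ((Scheme.Modules.pullbackPushforwardAdjunction f).counit.app F)) := by
  open Groth.Agent.Lib.Lead.Inv in
  constructor
  · rintro ⟨-, hqa⟩
    refine ⟨?_, fun F hF => ?_⟩
    · rw [HasAffineProperty.eq_targetAffineLocally (P := @IsSeparated)]
      intro U
      haveI := hqa U.1 U.2
      exact inferInstanceAs (Scheme.IsSeparated (f ⁻¹ᵁ U.1 : Scheme.{u}))
    · haveI := hF
      exact epi_counit_of_faithful f F (fun T g hg =>
        eq_zero_of_pushforward_map_eq_zero_of_isQuasiAffine f hqa F g hg)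
  · rintro ⟨hsep, hepi⟩
    refine ⟨inferInstance, fun V hV => ?_⟩
    exact isQuasiAffine_of_forall_exists (f ⁻¹ᵁ V)
      (QuasiCompact.isCompact_preimage (f := f) _ V.isOpen hV.isCompact)
      (fun x hx => exists_affine_basicOpen_of_epi_counit f hepi V hV x hx)

end Groth.Agent.S4409
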