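import Groth.Statements.S4410
import Groth.Agent.Lib.Helper50.ImmSub
import Groth.Agent.Lib.Helper74.SymQCAlgProps
import Groth.Agent.Lib.Helper50.AffSpecIso

set_option autoImplicit false
universe u
open CategoryTheory CategoryTheory.Limits AlgebraicGeometry
open EGA2

namespace Groth.Agent.S4410

/-- Let Y be a quasi-compact separated scheme and f : X → Y a quasi-affine morphism of finite type. Then
there are a scheme X'', an affine morphism of finite type g : X'' → Y and an immersion j : X → X''
with j ≫ g = f. (The published statement also allows Y to be a scheme whose underlying space is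
Noetherian; this row assumes it quasi-compact and separated. The published statement realises X'' as
the relative spectrum of a quasi-coherent sub-algebra of finite type of f_*O_X, and says every
larger such sub-algebra also works; only the resulting factorisation is stated here.) -/
theorem result {X Y : Scheme.{u}} [CompactSpace Y] [Y.IsSeparated]
    (f : X ⟶ Y) (hf : Mor2.IsQuasiAffine f) [LocallyOfFiniteType f] :
    ∃ (X'' : Scheme.{u}) (g : X'' ⟶ Y) (j : X ⟶ X''), IsAffineHom g ∧ LocallyOfFiniteType g ∧ IsImmersion j ∧ j ≫ g = f := by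
  classical
  obtain ⟨hqcf, hqa⟩ := hf
  haveI := hqcf
  haveI : QuasiSeparated f := by
    rw [HasAffineProperty.eq_targetAffineLocally (P := @QuasiSeparated)]
    intro U
    haveI := hqa U.1 U.2
    change QuasiSeparatedSpace (f ⁻¹ᵁ U.1 : Scheme.{u})
    infer_instance
  set C := RelSpec.QCAlg.directImage f with hC
  haveI hiso : IsIso C.gammaMap := Groth.Agent.S8255.result C
  have hcomm : C.π.c ≫ C.gammaMap = f.c := C.π_c_gammaMap
  set g := Groth.Agent.Lib.Helper6.AffUniv.lift C.π f C.gammaMap with hg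
  have e : g ≫ C.π = f := Groth.Agent.Lib.Helper6.AffUniv.lift_comp C.π f C.gammaMap hcomm
  have key : ∀ (U : Y.AffineZariskiSite) (V : X.Opens), V = f ⁻¹ᵁ U.toOpens →
      IsOpenImmersion (V.ι ≫ g) := by
    rintro U V rfl
    rw [hg, Groth.Agent.Lib.Helper6.AffUniv.ι_lift]
    unfold Groth.Agent.Lib.Helper6.AffUniv.piece
    haveI := hqa U.toOpens U.2
    have h1 : IsOpenImmersion (f ⁻¹ᵁ U.toOpens).toSpecΓ := by
      delta Scheme.Opens.toSpecΓ; infer_instance
    haveI : IsIso (C.gammaMap.app (Opposite.op U.toOpens)) := inferInstance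
    haveI : IsIso (Spec.map (C.gammaMap.app (Opposite.op U.toOpens))) := inferInstance
    have h2 : IsOpenImmersion (Spec.map (C.gammaMap.app (Opposite.op U.toOpens)) ≫
        (U.2.preimage C.π).fromSpec) := inferInstance
    exact @IsOpenImmersion.comp _ _ _ _ _ h1 h2
  have hopen : IsOpenImmersion g := by
    apply IsZariskiLocalAtTarget.of_iSup_eq_top (P := @IsOpenImmersion)
      (fun U : Y.AffineZariskiSite => C.π ⁻¹ᵁ U.toOpens)
    · have h1 : (⨆ U : Y.AffineZariskiSite, U.toOpens) = ⊤ := by
        rw [eq_top_iff]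
        rintro y -
        obtain ⟨U, hyU⟩ := TopologicalSpace.Opens.mem_iSup.mp
          ((iSup_affineOpens_eq_top Y).ge (Set.mem_univ y))
        exact TopologicalSpace.Opens.mem_iSup.mpr ⟨⟨U.1, U.2⟩, hyU⟩
      rw [← Scheme.Hom.preimage_iSup, h1, Scheme.Hom.preimage_top]
    · intro U
      haveI : IsOpenImmersion ((g ⁻¹ᵁ (C.π ⁻¹ᵁ U.toOpens)).ι ≫ g) :=
        key U _ (by rw [← Scheme.Hom.comp_preimage, e])
      haveI : IsOpenImmersion ((g ∣_ (C.π ⁻¹ᵁ U.toOpens)) ≫ (C.π ⁻¹ᵁ U.toOpens).ι) := by
        rw [morphismRestrict_ι]; infer_instance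
      exact IsOpenImmersion.of_comp (g ∣_ (C.π ⁻¹ᵁ U.toOpens)) (C.π ⁻¹ᵁ U.toOpens).ι
  haveI : IsImmersion g := inferInstance
  haveI : LocallyOfFiniteType (g ≫ C.π) := by rw [e]; infer_instance
  haveI : CompactSpace X := QuasiCompact.compactSpace_of_compactSpace f
  obtain ⟨C', φ, hinj, hft, him⟩ :=
    Groth.Agent.Lib.Helper50.ImmSub.exists_ft_subalgebra_isImmersion C g
  refine ⟨C'.spec, C'.π, g ≫ RelSpec.QCAlg.specMap φ, inferInstance, ?_, him, ?_⟩
  · exact Groth.Agent.Lib.Helper74.SymQ.spec_π_of_forall @LocallyOfFiniteType C' fun U hU =>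
      (HasRingHomProperty.Spec_iff (P := @LocallyOfFiniteType)).mpr (hft ⟨U, hU⟩)
  · rw [Category.assoc, RelSpec.QCAlg.specMap_π, e]

end Groth.Agent.S4410
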