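import Groth.Statements.S4412
import Groth.Agent.Lib.Helper75.Veronese

set_option autoImplicit false
universe u
open EGA2

namespace Groth.Agent.S4412

/-- Let S be a ring graded in nonnegative degrees which is Noetherian, d > 0, and S^{(d)} the graded
ring with degree-n part S_{nd} (given as a graded ring S' with an injective algebra homomorphism φ :
S' → S carrying S'_n onto S_{nd} for every n). Then S^{(d)} is Noetherian. -/
theorem result {R A : Type u} [CommRing R] [CommRing A] [Algebra R A] (𝒜 : ℕ → Submodule R A) [GradedAlgebra 𝒜] [IsNoetherianRing A]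
    {B : Type u} [CommRing B] [Algebra R B] (ℬ : ℕ → Submodule R B) [GradedAlgebra ℬ]
    (d : ℕ) (hd : 0 < d) (φ : B →ₐ[R] A) (hφ : Function.Injective φ)
    (hdeg : ∀ n : ℕ, Submodule.map φ.toLinearMap (ℬ n) = 𝒜 (n * d)) :
    IsNoetherianRing B := by
  have h1 : Algebra.FiniteType (𝒜 0) A := Groth.Agent.Lib.Helper75.finiteType_of_isNoetherianRing 𝒜
  have h2 : Algebra.FiniteType (ℬ 0) B :=
    Groth.Agent.Lib.Helper75.veronese_finiteType 𝒜 ℬ d hd φ hφ hdeg
  have h0 : ∀ b : ℬ 0, φ (b : B) ∈ 𝒜 0 := by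
    intro b
    have h := hdeg 0
    rw [Nat.zero_mul] at h
    rw [← h]
    exact ⟨b.1, b.2, rfl⟩
  let ψ : ℬ 0 →+* 𝒜 0 :=
    { toFun := fun b => ⟨φ b, h0 b⟩
      map_one' := Subtype.ext (map_one φ)
      map_mul' := fun x y => Subtype.ext (map_mul φ (x : B) (y : B))
      map_zero' := Subtype.ext (map_zero φ)
      map_add' := fun x y => Subtype.ext (map_add φ (x : B) (y : B)) }
  have hψ : Function.Bijective ψ := by
    constructor
    · intro x y hxy
      apply Subtype.ext
      apply hφ
      exact congrArg Subtype.val hxy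
    · intro a
      have h := hdeg 0
      rw [Nat.zero_mul] at h
      have ha : (a : A) ∈ Submodule.map φ.toLinearMap (ℬ 0) := by rw [h]; exact a.2
      obtain ⟨b, hb, hφb⟩ := ha
      exact ⟨⟨b, hb⟩, Subtype.ext hφb⟩
  have h3 : IsNoetherianRing (ℬ 0) :=
    isNoetherianRing_of_ringEquiv (𝒜 0) (RingEquiv.ofBijective ψ hψ).symm
  exact Algebra.FiniteType.isNoetherianRing (ℬ 0) B

end Groth.Agent.S4412
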