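import Groth.Statements.S4418
import Groth.Agent.Lib.Helper74.RelProjUC
import Groth.Agent.Lib.Helper35.RVD2
import Groth.Agent.S8259

set_option autoImplicit false
universe u
open CategoryTheory CategoryTheory.Limits AlgebraicGeometry
open EGA2

namespace Groth.Agent.S4418

/-- Every projective morphism f : X → Y is quasi-projective (of finite type with an f-ample module) and
proper. -/
theorem result {X Y : Scheme.{u}} (f : X ⟶ Y) (hf : RelProj.IsProjective f) :
    RelProj.IsQuasiProjective f ∧ IsProper f := by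
  classical
  obtain ⟨𝒮, P, p, chart, e, hgen, hft, hP, he⟩ := hf
  have hfin := Groth.Agent.Lib.Helper74.RelProjLib.finiteType_of_genDegOne hP hgen hft
  haveI : LocallyOfFiniteType p := hfin.1
  haveI : QuasiCompact p := hfin.2
  haveI : UniversallyClosed p :=
    Groth.Agent.Lib.Helper74.RelProjLib.universallyClosed_of_genDegOne hP hgen hft
  haveI : IsSeparated p := Groth.Agent.S8259.result 𝒮 p chart hP
  haveI : IsProper p := {}
  subst he
  haveI : QuasiCompact (e.hom ≫ p) := inferInstance
  refine ⟨⟨inferInstance, inferInstance, ?_⟩, inferInstance⟩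
  obtain ⟨O1, lam, hG⟩ := (Groth.Agent.Lib.Helper74.TwistNat.twistSys hP ((1 : ℕ) : ℤ)).exists_isGlued
  have hO1 : RelProj.IsRelTwist 𝒮 p chart ((1 : ℕ) : ℤ) O1 lam :=
    (Groth.Agent.Lib.Helper74.TwistNat.isGluedTw_iff hP ((1 : ℕ) : ℤ) O1 lam).1 hG
  refine ⟨(Scheme.Modules.pullback e.hom).obj O1, inferInstance, ?_⟩
  intro V
  exact Groth.Agent.Lib.Helper35.RVD.isAmple_restrict_pullback_relTwist (e.hom ≫ p) Nat.one_pos hO1
    e.hom rfl (Scheme.Hom.isOpenEmbedding e.hom).isEmbedding V.1 V.2
    (fun z => Groth.Agent.Lib.Helper74.TwistGen.exists_deg_one_notMem (hgen V.1 V.2) z)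

end Groth.Agent.S4418
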