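import Groth.Statements.S4429
import Mathlib.LinearAlgebra.Charpoly.BaseChange
import Mathlib.LinearAlgebra.Eigenspace.Charpoly
import Mathlib.LinearAlgebra.Eigenspace.Minpoly
import Mathlib.RingTheory.Polynomial.GaussLemma
import Mathlib.FieldTheory.SplittingField.Construction
-- import your own Groth.Agent.* helpers here

set_option autoImplicit false
universe u
open EGA2

namespace Groth.Agent.S4429

theorem aeval_baseChange {R B M : Type*} [CommRing R] [CommRing B] [Algebra R B]
    [AddCommGroup M] [Module R M] (f : M →ₗ[R] M) (P : Polynomial R) :
    Polynomial.aeval (f.baseChange B) (P.map (algebraMap R B)) =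
      (Polynomial.aeval f P).baseChange B := by
  rw [Polynomial.aeval_map_algebraMap]
  exact Polynomial.aeval_algHom_apply (Module.End.baseChangeHom R B M) f P

theorem isIntegral_charpoly_coeff (A : Type u) [CommRing A] (K : Type u) [Field K]
    [Algebra A K] (E : Type u) [AddCommGroup E] [Module A E] [Module.Finite A E]
    (u : E →ₗ[A] E) (i : ℕ) :
    IsIntegral A (((u.baseChange K).charpoly).coeff i) := by
  classical
  set g := (u.baseChange K).charpoly with hg
  have hgm : g.Monic := LinearMap.charpoly_monic _
  obtain ⟨Q, hQm, hQ⟩ := LinearMap.exists_monic_and_aeval_eq_zero A u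
  set uK := u.baseChange K with huK
  set uL := uK.baseChange g.SplittingField with huL
  have hgL : uL.charpoly = g.map (algebraMap K g.SplittingField) :=
    LinearMap.charpoly_baseChange _ _
  have hQL : Polynomial.aeval uL (Q.map (algebraMap A g.SplittingField)) = 0 := by
    rw [IsScalarTower.algebraMap_eq A K g.SplittingField, ← Polynomial.map_map, huL,
      aeval_baseChange, huK, aeval_baseChange, hQ]
    simp
  have hroots : ∀ a ∈ (g.map (algebraMap K g.SplittingField)).roots,
      a ∈ (algebraMap (integralClosure A g.SplittingField) g.SplittingField).range := by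
    intro μ hμ
    rw [← hgL] at hμ
    have hroot : uL.charpoly.IsRoot μ := Polynomial.isRoot_of_mem_roots hμ
    have hev := (Module.End.hasEigenvalue_iff_isRoot_charpoly uL μ).mpr hroot
    obtain ⟨x, hx⟩ := hev.exists_hasEigenvector
    have h1 := Module.End.aeval_apply_of_hasEigenvector (p := Q.map (algebraMap A g.SplittingField)) hx
    rw [hQL] at h1
    simp only [LinearMap.zero_apply] at h1
    have h2 : (Q.map (algebraMap A g.SplittingField)).eval μ = 0 := by
      rcases smul_eq_zero.mp h1.symm with h | h
      · exact h
      · exact absurd h hx.2
    have hint : IsIntegral A μ := ⟨Q, hQm, by rw [Polynomial.eval₂_eq_eval_map]; exact h2⟩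
    exact (SetLike.ext_iff.mp (integralClosure A g.SplittingField).range_algebraMap _).mpr hint
  have := (Polynomial.SplittingField.splits g).mem_lift_of_roots_mem_range (hgm.map _)
    (algebraMap (integralClosure A g.SplittingField) g.SplittingField) hroots
  rw [Polynomial.lifts_iff_coeff_lifts] at this
  have h3 := this i
  rw [← RingHom.coe_range, Subalgebra.range_algebraMap, Polynomial.coeff_map] at h3
  have h4 : IsIntegral A (algebraMap K g.SplittingField (g.coeff i)) := h3
  exact (isIntegral_algebraMap_iff (algebraMap K g.SplittingField).injective).mp h4

/-- For an integral domain A with fraction field K, a finitely generated A-module E and an endomorphism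
u of E, the coefficients of the characteristic polynomial of u ⊗ 1 acting on the K-vector space K
⊗_A E (the elementary symmetric functions of u, among them its trace and determinant) are integral
over A. -/
theorem result (A : Type u) [CommRing A] [IsDomain A] (K : Type u) [Field K]
    [Algebra A K] [IsFractionRing A K] (E : Type u) [AddCommGroup E] [Module A E] [Module.Finite A E]
    (u : E →ₗ[A] E) (i : ℕ) :
    IsIntegral A (((u.baseChange K).charpoly).coeff i) := by
  exact isIntegral_charpoly_coeff A K E u i

end Groth.Agent.S4429
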