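import Groth.Statements.S4430
import Groth.Agent.S4429

set_option autoImplicit false
universe u
open EGA2

namespace Groth.Agent.S4430

theorem isUnit_of_mul_eq_one_of_isIntegral {A K : Type*} [CommRing A] [Field K] [Algebra A K]
    (hinj : Function.Injective (algebraMap A K)) (a : A) (b : K)
    (hab : algebraMap A K a * b = 1) (hb : IsIntegral A b) : IsUnit a := by
  obtain ⟨p, hpm, hp⟩ := hb
  have hb0 : b ≠ 0 := by
    rintro rfl
    simp at hab
  let _ : Invertible b := ⟨algebraMap A K a, hab, by rw [mul_comm]; exact hab⟩
  have h1 := Polynomial.eval₂_reverse_mul_pow (algebraMap A K) b p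
  rw [hp] at h1
  have h2 : Polynomial.eval₂ (algebraMap A K) (algebraMap A K a) p.reverse = 0 := by
    rcases mul_eq_zero.mp h1 with h | h
    · exact h
    · exact absurd h (pow_ne_zero _ hb0)
  rw [Polynomial.eval₂_at_apply] at h2
  have h3 : Polynomial.eval a p.reverse = 0 := hinj (by rw [h2, map_zero])
  have h4 : p.reverse.coeff 0 = 1 := by
    rw [Polynomial.coeff_zero_reverse]
    exact hpm
  have h5 := Polynomial.divX_mul_X_add p.reverse
  rw [h4] at h5
  have h6 : Polynomial.eval a p.reverse.divX * a + 1 = 0 := by
    have := congrArg (Polynomial.eval a) h5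
    rw [h3] at this
    simpa using this
  refine ⟨⟨a, -(Polynomial.eval a p.reverse.divX), ?_, ?_⟩, rfl⟩
  · linear_combination (-1 : A) * h6
  · linear_combination (-1 : A) * h6

/-- Let A be an integral domain with fraction field K, E a finitely generated A-module and u an
endomorphism of E whose characteristic-polynomial coefficients (those of u ⊗ 1 on K ⊗_A E) all lie
in A. If u is an automorphism of E, then its determinant, as an element of A, is invertible in A. -/
theorem result (A : Type u) [CommRing A] [IsDomain A] (K : Type u) [Field K]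
    [Algebra A K] [IsFractionRing A K] (E : Type u) [AddCommGroup E] [Module A E] [Module.Finite A E]
    (u : E →ₗ[A] E) (hcoeff : ∀ i : ℕ, ((u.baseChange K).charpoly).coeff i ∈ (algebraMap A K).range)
    (a : A) (ha : algebraMap A K a = LinearMap.det (u.baseChange K)) (hu : Function.Bijective u) :
    IsUnit a := by
  classical
  set w : E →ₗ[A] E := ((LinearEquiv.ofBijective u hu).symm : E →ₗ[A] E) with hw
  have huw : u ∘ₗ w = LinearMap.id := by
    ext x
    simp [hw]
  have h1 : (u.baseChange K) ∘ₗ (w.baseChange K) = LinearMap.id := by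
    rw [← LinearMap.baseChange_comp, huw, LinearMap.baseChange_id]
  have h2 : LinearMap.det (u.baseChange K) * LinearMap.det (w.baseChange K) = 1 := by
    rw [← LinearMap.det_comp, h1, LinearMap.det_id]
  have h3 : IsIntegral A (LinearMap.det (w.baseChange K)) := by
    rw [LinearMap.det_eq_sign_charpoly_coeff]
    exact IsIntegral.mul (IsIntegral.pow (isIntegral_one.neg) _)
      (Groth.Agent.S4429.isIntegral_charpoly_coeff A K E w 0)
  rw [← ha] at h2
  exact isUnit_of_mul_eq_one_of_isIntegral (IsFractionRing.injective A K) a _ h2 h3

end Groth.Agent.S4430
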