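import Groth.Statements.S4431
import Mathlib.LinearAlgebra.Charpoly.BaseChange
-- import your own Groth.Agent.* helpers here

set_option autoImplicit false
universe u
open EGA2

namespace Groth.Agent.S4431

/-- Let A be an integral domain with fraction field K, E a finitely generated torsion-free A-module and
u an endomorphism of E whose characteristic-polynomial coefficients (those of u ⊗ 1 on K ⊗_A E) all
lie in A. If the determinant of u is the image of a unit of A, then u is an automorphism of E. -/
theorem result (A : Type u) [CommRing A] [IsDomain A] (K : Type u) [Field K]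
    [Algebra A K] [IsFractionRing A K] (E : Type u) [AddCommGroup E] [Module A E] [Module.Finite A E]
    [Module.IsTorsionFree A E]
    (u : E →ₗ[A] E) (hcoeff : ∀ i : ℕ, ((u.baseChange K).charpoly).coeff i ∈ (algebraMap A K).range)
    (a : A) (ha : algebraMap A K a = LinearMap.det (u.baseChange K)) (hunit : IsUnit a) :
    Function.Bijective u := by
  classical
  have hinj : Function.Injective (TensorProduct.mk A K E 1) := by
    have : IsLocalizedModule (nonZeroDivisors A) (TensorProduct.mk A K E 1) :=
      IsLocalization.tensorProduct_isLocalizedModule (nonZeroDivisors A) K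
    rw [← LinearMap.ker_eq_bot, LinearMap.ker_eq_bot']
    intro x hx
    obtain ⟨c, hc⟩ := (IsLocalizedModule.eq_zero_iff (nonZeroDivisors A) (TensorProduct.mk A K E 1)).mp hx
    have hreg : IsRegular (c : A) := isRegular_iff_mem_nonZeroDivisors.mpr c.2
    exact (hreg.smul_eq_zero_iff_right (M := E)).mp hc
  obtain ⟨P, hP⟩ : ∃ P : Polynomial A, P.map (algebraMap A K) = (u.baseChange K).charpoly := by
    have : (u.baseChange K).charpoly ∈ Polynomial.lifts (algebraMap A K) := by
      rw [Polynomial.lifts_iff_coeff_lifts]
      intro n
      exact hcoeff n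
    exact (Polynomial.mem_lifts _).mp this
  have hcomm : ∀ (Q : Polynomial A),
      (Polynomial.aeval (u.baseChange K) (Q.map (algebraMap A K))) =
        (Polynomial.aeval u Q).baseChange K := by
    intro Q
    rw [Polynomial.aeval_map_algebraMap]
    exact Polynomial.aeval_algHom_apply (Module.End.baseChangeHom A K E) u Q
  have hzero : Polynomial.aeval u P = 0 := by
    have h1 : (Polynomial.aeval u P).baseChange K = 0 := by
      rw [← hcomm, hP]
      exact LinearMap.aeval_self_charpoly _
    ext x
    apply hinj
    have := congrArg (fun g => g ((1 : K) ⊗ₜ[A] x)) h1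
    simpa using this
  set c := P.coeff 0 with hc
  have hcK : algebraMap A K c = (u.baseChange K).charpoly.coeff 0 := by
    rw [← hP, Polynomial.coeff_map]
  have hca : c = (-1) ^ Module.finrank K (TensorProduct A K E) * a := by
    apply IsFractionRing.injective A K
    rw [hcK, map_mul, ha, LinearMap.det_eq_sign_charpoly_coeff, map_pow, map_neg, map_one,
      ← mul_assoc, ← pow_add, ← two_mul, pow_mul]
    simp
  have hcu : IsUnit c := by
    rw [hca]
    exact (IsUnit.pow _ (isUnit_one.neg)).mul hunit
  obtain ⟨c', hc'⟩ := hcu.exists_right_inv
  set v := Polynomial.aeval u P.divX with hv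
  have hvu : v * u + c • (1 : Module.End A E) = 0 := by
    have := hzero
    rw [← Polynomial.divX_mul_X_add P, map_add, map_mul, Polynomial.aeval_X, Polynomial.aeval_C,
      Algebra.algebraMap_eq_smul_one] at this
    exact this
  have hcommute : Commute v u := by
    have := Polynomial.aeval_X u (R := A)
    have h2 : Commute (Polynomial.aeval u P.divX) (Polynomial.aeval u Polynomial.X) :=
      (Commute.all P.divX Polynomial.X).map (Polynomial.aeval u)
    rw [Polynomial.aeval_X] at h2
    exact h2
  have hunitu : IsUnit u := by
    have h1 : u * ((-c') • v) = 1 := by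
      rw [mul_smul_comm, ← hcommute.eq]
      have : v * u = -(c • (1 : Module.End A E)) := eq_neg_of_add_eq_zero_left hvu
      rw [this, smul_neg, neg_smul, neg_neg, smul_smul, mul_comm, hc', one_smul]
    have h2 : ((-c') • v) * u = 1 := by
      rw [smul_mul_assoc]
      have : v * u = -(c • (1 : Module.End A E)) := eq_neg_of_add_eq_zero_left hvu
      rw [this, smul_neg, neg_smul, neg_neg, smul_smul, mul_comm, hc', one_smul]
    exact ⟨⟨u, (-c') • v, h1, h2⟩, rfl⟩
  exact (Module.End.isUnit_iff u).mp hunitu

end Groth.Agent.S4431
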