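import Groth.Statements.S4432
import Mathlib

set_option autoImplicit false
universe u
open EGA2

namespace Groth.Agent.S4432
open EGA2

open Polynomial Matrix TensorProduct

theorem charpoly_mul_det {R : Type*} [CommRing R] {ι : Type*} [Fintype ι] [DecidableEq ι]
    (M P : Matrix ι ι R) :
    M.charpoly * C P.det = ∑ s : Finset ι,
      C ((-1) ^ (Fintype.card ι - s.card) *
        (Matrix.det (s.piecewise (fun i => P i) (fun i => (P * Mᵀ) i)))) * X ^ s.card := by
  obtain ⟨L, hL⟩ : ∃ L : Matrix ι ι R[X], L = (P.map (C : R → R[X])) * (charmatrix M)ᵀ := ⟨_, rfl⟩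
  obtain ⟨m₁, hm₁⟩ : ∃ m₁ : ι → ι → R[X], m₁ = fun i : ι => (X : R[X]) • (fun k : ι => (C (P i k) : R[X])) :=
    ⟨fun i : ι => (X : R[X]) • (fun k : ι => (C (P i k) : R[X])), rfl⟩
  obtain ⟨m₂, hm₂⟩ : ∃ m₂ : ι → ι → R[X], m₂ = fun i : ι => -(fun k : ι => (C ((P * Mᵀ) i k) : R[X])) :=
    ⟨fun i : ι => -(fun k : ι => (C ((P * Mᵀ) i k) : R[X])), rfl⟩
  have h1 : M.charpoly * C P.det = Matrix.det L := by
    rw [hL, Matrix.det_mul, Matrix.det_transpose, Matrix.charpoly, mul_comm,
      ← RingHom.mapMatrix_apply, ← RingHom.map_det]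
  have h2 : L = m₁ + m₂ := by
    funext i k
    rw [hL, hm₁, hm₂]
    simp only [Matrix.mul_apply, Matrix.transpose_apply, charmatrix_apply,
      Matrix.map_apply, Pi.add_apply, Pi.smul_apply, Pi.neg_apply, smul_eq_mul, map_sum, map_mul,
      Matrix.diagonal_apply, mul_sub, Finset.sum_sub_distrib]
    simp only [mul_ite, mul_zero, Finset.sum_ite_eq, Finset.mem_univ, if_true]
    ring
  have h3 := (Matrix.detRowAlternating (R := R[X]) (n := ι)).toMultilinearMap.map_add_univ m₁ m₂
  have h4 : ∀ A : Matrix ι ι R[X],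
      A.det = (Matrix.detRowAlternating (R := R[X]) (n := ι)).toMultilinearMap A :=
    fun A => rfl
  rw [h1, h2]
  refine Eq.trans (h4 (m₁ + m₂)) ?_
  rw [h3]
  refine Finset.sum_congr rfl (fun s _ => ?_)
  obtain ⟨N, hN⟩ : ∃ N : ι → ι → R[X], N = fun i k =>
      (C ((s.piecewise (fun i => P i) (fun i => (P * Mᵀ) i)) i k) : R[X]) := ⟨_, rfl⟩
  obtain ⟨c, hc⟩ : ∃ c : ι → R[X], c = s.piecewise (fun _ => (X : R[X])) (fun _ => (-1 : R[X])) :=
    ⟨_, rfl⟩
  have h5 : s.piecewise m₁ m₂ = fun i => c i • N i := by
    funext i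
    rw [hm₁, hm₂, hc, hN]
    by_cases hi : i ∈ s
    · simp only [Finset.piecewise_eq_of_mem _ _ _ hi]
    · simp only [Finset.piecewise_eq_of_notMem _ _ _ hi]
      funext k
      simp
  have h6 := (Matrix.detRowAlternating (R := R[X]) (n := ι)).toMultilinearMap.map_smul_univ c N
  have h7 : (Matrix.detRowAlternating (R := R[X]) (n := ι)).toMultilinearMap N =
      C (Matrix.det (s.piecewise (fun i => P i) (fun i => (P * Mᵀ) i))) := by
    refine (h4 N).symm.trans ?_
    subst hN
    exact (RingHom.map_det (C : R →+* R[X])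
      (s.piecewise (fun i => P i) (fun i => (P * Mᵀ) i) : Matrix ι ι R)).symm
  rw [h5, h6, h7, hc, Finset.prod_piecewise,
    Finset.univ_inter, Finset.prod_const, Finset.prod_const, Finset.card_univ_sdiff, smul_eq_mul,
    map_mul, map_pow, map_neg, map_one]
  ring

theorem key_coeff {K V ι : Type*} [CommRing K] [AddCommGroup V] [Module K V] [Fintype ι]
    [DecidableEq ι] [Module.Free K V] [Module.Finite K V]
    (β : Module.Basis ι K V) (f : V →ₗ[K] V) (x : ι → V) (j : ℕ) :
    f.charpoly.coeff j * β.det x = ∑ s : Finset ι,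
      if j = s.card then
        (-1) ^ (Fintype.card ι - s.card) * β.det (s.piecewise x (f ∘ x)) else 0 := by
  have h := charpoly_mul_det (LinearMap.toMatrix β β f) (fun i k => β.repr (x i) k)
  rw [LinearMap.charpoly_toMatrix] at h
  have hdet : ∀ y : ι → V, β.det y = Matrix.det (fun i k => β.repr (y i) k) := by
    intro y
    rw [Module.Basis.det_apply, ← Matrix.det_transpose]
    rfl
  have h2 := congrArg (fun q => q.coeff j) h
  simp only [coeff_mul_C, finsetSum_coeff, coeff_C_mul_X_pow] at h2
  rw [hdet, h2]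
  refine Finset.sum_congr rfl (fun s _ => ?_)
  split_ifs with hj
  · congr 1
    rw [hdet]
    congr 1
    funext i
    by_cases hi : i ∈ s
    · simp only [Finset.piecewise_eq_of_mem _ _ _ hi]
    · simp only [Finset.piecewise_eq_of_notMem _ _ _ hi]
      funext k
      have h3 := LinearMap.toMatrix_mulVec_repr β β f (x i)
      have h4 := congrFun h3 k
      rw [Function.comp_apply, ← h4]
      simp only [Matrix.mul_apply, Matrix.transpose_apply, Matrix.mulVec, dotProduct]
      refine Finset.sum_congr rfl (fun l _ => ?_)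
      show (β.repr (x i)) l * (LinearMap.toMatrix β β) f k l = _
      ring
  · rfl

theorem main_aux (A : Type u) [CommRing A] [IsNoetherianRing A] (K : Type u) [CommRing K]
    [Algebra A K] [IsLocalization (nonZeroDivisors A) K]
    (E : Type u) [AddCommGroup E] [Module A E] [Module.Finite A E]
    {ι : Type*} [Fintype ι] [DecidableEq ι] (β : Module.Basis ι K (K ⊗[A] E))
    [Module.Free K (K ⊗[A] E)] [Module.Finite K (K ⊗[A] E)] :
    (Algebra.adjoin A {c : K | ∃ (v : E →ₗ[A] E) (j : ℕ),
        c = ((v.baseChange K).charpoly).coeff j}).toSubmodule.FG := by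
  obtain ⟨μ, hμ⟩ : ∃ μ : MultilinearMap A (fun _ : ι => E) K,
      ∀ e, μ e = β.det (fun i => (1 : K) ⊗ₜ[A] e i) :=
    ⟨(β.det.toMultilinearMap.restrictScalars A).compLinearMap
      (fun _ => TensorProduct.mk A K E 1), fun e => rfl⟩
  obtain ⟨W, hW⟩ : ∃ W : Submodule A K, W = Submodule.span A (Set.range μ) := ⟨_, rfl⟩
  have hWfg : W.FG := by
    have : W = Submodule.map (PiTensorProduct.lift μ) ⊤ := by
      rw [hW, ← PiTensorProduct.span_tprod_eq_top, Submodule.map_span, ← Set.range_comp]
      congr 2
      funext e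
      simp
    rw [this]
    exact Module.Finite.fg_top.map _
  have hunit : ∃ w0 ∈ W, IsUnit w0 := by
    have hs : ∀ i, ∃ (e : E) (s : nonZeroDivisors A), (s : A) • β i = (1 : K) ⊗ₜ[A] e := by
      intro i
      obtain ⟨⟨e, s⟩, h⟩ := IsLocalizedModule.surj (nonZeroDivisors A)
        (TensorProduct.mk A K E 1) (β i)
      exact ⟨e, s, h⟩
    choose e s hes using hs
    refine ⟨μ e, hW ▸ Submodule.subset_span ⟨e, rfl⟩, ?_⟩
    rw [hμ]
    have h1 : (fun i => (1 : K) ⊗ₜ[A] e i) = fun i => (algebraMap A K (s i)) • β i := by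
      funext i
      rw [← hes i, algebraMap_smul]
    rw [h1, β.det.map_smul_univ, β.det_self, smul_eq_mul, mul_one, ← map_prod]
    exact IsLocalization.map_units K
      (⟨∏ i, (s i : A), Submonoid.prod_mem _ (fun i _ => (s i).2)⟩ : nonZeroDivisors A)
  have hstab : ∀ (v : E →ₗ[A] E) (j : ℕ), ∀ w ∈ W,
      ((v.baseChange K).charpoly).coeff j * w ∈ W := by
    intro v j w hw
    rw [hW] at hw ⊢
    induction hw using Submodule.span_induction with
    | mem y hy =>
      obtain ⟨e, rfl⟩ := hy
      rw [hμ, key_coeff β]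
      refine Submodule.sum_mem _ (fun s _ => ?_)
      split_ifs
      · have h1 : β.det (s.piecewise (fun i => (1 : K) ⊗ₜ[A] e i)
            ((v.baseChange K) ∘ fun i => (1 : K) ⊗ₜ[A] e i)) = μ (s.piecewise e (v ∘ e)) := by
          rw [hμ]
          congr 1
          funext i
          by_cases hi : i ∈ s
          · simp [hi]
          · simp [hi]
        rw [h1]
        have h2 : ((-1 : K)) ^ (Fintype.card ι - s.card) * μ (s.piecewise e (v ∘ e)) =
            ((-1 : A) ^ (Fintype.card ι - s.card)) • μ (s.piecewise e (v ∘ e)) := by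
          rw [Algebra.smul_def]
          simp
        rw [h2]
        exact Submodule.smul_mem _ _ (Submodule.subset_span ⟨_, rfl⟩)
      · exact zero_mem _
    | zero => rw [mul_zero]; exact zero_mem _
    | add y z _ _ hy hz => rw [mul_add]; exact add_mem hy hz
    | smul a y _ hy => rw [mul_smul_comm]; exact Submodule.smul_mem _ _ hy
  have hadj : ∀ c ∈ Algebra.adjoin A {c : K | ∃ (v : E →ₗ[A] E) (j : ℕ),
      c = ((v.baseChange K).charpoly).coeff j}, ∀ w ∈ W, c * w ∈ W := by
    intro c hc
    induction hc using Algebra.adjoin_induction with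
    | mem c hc =>
      obtain ⟨v, j, rfl⟩ := hc
      exact hstab v j
    | algebraMap a =>
      intro w hw
      rw [← Algebra.smul_def]
      exact W.smul_mem a hw
    | add c d _ _ hc hd =>
      intro w hw
      rw [add_mul]
      exact add_mem (hc w hw) (hd w hw)
    | mul c d _ _ hc hd =>
      intro w hw
      rw [mul_assoc]
      exact hc _ (hd w hw)
  obtain ⟨w0, hw0, hu⟩ := hunit
  haveI : IsNoetherian A W := isNoetherian_of_fg_of_noetherian W hWfg
  have hle : Submodule.map (LinearMap.mulRight A w0) (Algebra.adjoin A {c : K |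
      ∃ (v : E →ₗ[A] E) (j : ℕ), c = ((v.baseChange K).charpoly).coeff j}).toSubmodule ≤ W := by
    rintro _ ⟨c, hc, rfl⟩
    exact hadj c hc w0 hw0
  have hfg := (isNoetherian_submodule.mp ‹IsNoetherian A W›) _ hle
  refine Submodule.fg_of_fg_map_injective (LinearMap.mulRight A w0) ?_ hfg
  intro a b hab
  exact hu.mul_left_injective hab

theorem main (A : Type u) [CommRing A] [IsNoetherianRing A]
    (E : Type u) [AddCommGroup E] [Module A E] [Module.Finite A E]
    [Module.Free (FractionRing A) (TensorProduct A (FractionRing A) E)] :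
    (Algebra.adjoin A {c : FractionRing A | ∃ (v : E →ₗ[A] E) (j : ℕ),
        c = ((v.baseChange (FractionRing A)).charpoly).coeff j}).toSubmodule.FG := by
  classical
  exact main_aux A (FractionRing A) E
    (Module.Free.chooseBasis (FractionRing A) (TensorProduct A (FractionRing A) E))

end Groth.Agent.S4432

namespace Groth.Agent.S4432

/-- Let A be a reduced Noetherian ring, K its total ring of fractions, and E a finitely generated
A-module with K ⊗_A E free over K. The A-subalgebra of K generated by the coefficients of the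
characteristic polynomials of v ⊗ 1 (v running through all endomorphisms of E), i.e. by all
elementary symmetric functions of all endomorphisms of E, is a finitely generated A-module. -/
theorem result (A : Type u) [CommRing A] [IsNoetherianRing A] [IsReduced A]
    (E : Type u) [AddCommGroup E] [Module A E] [Module.Finite A E]
    [Module.Free (FractionRing A) (TensorProduct A (FractionRing A) E)] :
    (Algebra.adjoin A {c : FractionRing A | ∃ (v : E →ₗ[A] E) (j : ℕ),
        c = ((v.baseChange (FractionRing A)).charpoly).coeff j}).toSubmodule.FG := by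
  exact main A E

end Groth.Agent.S4432
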