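import Groth.Statements.S4434
import Groth.Agent.Lib.Helper14.DvrDominate

set_option autoImplicit false
universe u
open EGA2

namespace Groth.Agent.S4434

open Groth.Agent.Lib.Helper14.DvrDominate IsLocalRing Polynomial

/-- Let A be a Noetherian domain with field of fractions K and L a finitely generated field extension of
K. The integral closure of A in L is the intersection of the discrete valuation subrings of L (with
fraction field L) containing the image of A: an element of L is integral over A exactly when it
belongs to all of them. -/
theorem result (A : Type u) [CommRing A] [IsDomain A] [IsNoetherianRing A]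
    (K : Type u) [Field K] [Algebra A K] [IsFractionRing A K]
    (L : Type u) [Field L] [Algebra K L] [Algebra A L] [IsScalarTower A K L] (hfg : (⊤ : IntermediateField K L).FG) (x : L) :
    IsIntegral A x ↔ ∀ R : ValuationSubring L, IsDiscreteValuationRing R → (∀ a : A, algebraMap A L a ∈ R) → x ∈ R := by
  constructor
  · intro hx R _ hAR
    let φ : A →+* R := (algebraMap A L).codRestrict R.toSubring hAR
    let _ : Algebra A R := φ.toAlgebra
    have : IsScalarTower A R L := IsScalarTower.of_algebraMap_eq (fun _ => rfl)
    have hx' : IsIntegral R x := hx.tower_top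
    obtain ⟨y, hy⟩ := (IsIntegrallyClosed.isIntegral_iff (R := R) (K := L)).1 hx'
    rw [← hy]
    exact y.2
  · intro h
    by_contra hx
    have hx0 : x ≠ 0 := fun h0 => hx (h0 ▸ isIntegral_zero)
    have hy0 : x⁻¹ ≠ 0 := inv_ne_zero hx0
    let _ : Invertible x⁻¹ := invertibleOfNonzero hy0
    have hinv : ⅟(x⁻¹) = x := by rw [invOf_eq_inv, inv_inv]
    let B : Subalgebra A L := Algebra.adjoin A {x⁻¹}
    let yB : B := ⟨x⁻¹, Algebra.subset_adjoin rfl⟩
    have hspan : Ideal.span {yB} ≠ ⊤ := by
      intro heq
      obtain ⟨p, hp, hpx⟩ := Algebra.exists_aeval_invOf_eq_zero_of_idealMap_adjoin_sup_span_eq_top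
        (x⁻¹) (⊥ : Ideal A) bot_ne_top (top_unique (heq.ge.trans le_sup_right))
      rw [hinv] at hpx
      refine hx ⟨p, ?_, hpx⟩
      rw [Ideal.mem_bot, sub_eq_zero] at hp
      exact hp
    obtain ⟨M, hM, hle⟩ := Ideal.exists_le_maximal _ hspan
    have hyM : yB ∈ M := hle (Ideal.mem_span_singleton_self yB)
    have hyB0 : yB ≠ 0 := fun h0 => hy0 (congrArg Subtype.val h0)
    have hM0 : M ≠ ⊥ := by rintro rfl; exact hyB0 (by simpa using hyM)
    have hFT : Algebra.FiniteType A B :=
      (Subalgebra.fg_iff_finiteType _).1 ⟨{x⁻¹}, by simp [B]⟩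
    have hNB : IsNoetherianRing B := Algebra.FiniteType.isNoetherianRing A B
    have hinjB : Function.Injective (algebraMap B L) := Subtype.val_injective
    have : FaithfulSMul B L := (faithfulSMul_iff_algebraMap_injective _ _).2 hinjB
    let _ : Algebra (FractionRing B) L := FractionRing.liftAlgebra B L
    have hfgB : (⊤ : IntermediateField (FractionRing B) L).FG := by
      obtain ⟨S, hS⟩ := hfg
      refine ⟨S, eq_top_iff.2 fun z _ => ?_⟩
      have hz : z ∈ (IntermediateField.adjoin K (S : Set L)).toSubfield := by rw [hS]; trivial
      rw [IntermediateField.adjoin_toSubfield] at hz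
      have hsub : Set.range (algebraMap K L) ∪ (S : Set L) ⊆
          ((IntermediateField.adjoin (FractionRing B) (S : Set L)).toSubfield : Set L) := by
        rintro w (⟨k, rfl⟩ | hw)
        · obtain ⟨a, b, -, rfl⟩ := IsFractionRing.div_surjective (A := A) k
          rw [map_div₀, ← IsScalarTower.algebraMap_apply, ← IsScalarTower.algebraMap_apply]
          have hmemA : ∀ a : A, algebraMap A L a ∈
              IntermediateField.adjoin (FractionRing B) (S : Set L) := by
            intro a
            have : algebraMap A L a = algebraMap (FractionRing B) L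
                (algebraMap B (FractionRing B) (algebraMap A B a)) := by
              rw [← IsScalarTower.algebraMap_apply B (FractionRing B) L]
              rfl
            rw [this]
            exact IntermediateField.algebraMap_mem _ _
          exact div_mem (hmemA a) (hmemA b)
        · exact IntermediateField.subset_adjoin _ _ hw
      exact Subfield.closure_le.2 hsub hz
    obtain ⟨O, hO, hOmem, hOlt⟩ := exists_dvr_of_prime B M hM0 (FractionRing B) L hfgB
    have hxO : x ∈ O := h O hO (fun a => hOmem (algebraMap A B a))
    have hvy : O.valuation x⁻¹ < 1 := hOlt yB hyM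
    have hvx : O.valuation x ≤ 1 := (O.valuation_le_one_iff x).2 hxO
    have h1 : O.valuation x * O.valuation x⁻¹ = 1 := by
      rw [← map_mul, mul_inv_cancel₀ hx0, map_one]
    have h2 : O.valuation x * O.valuation x⁻¹ ≤ 1 * O.valuation x⁻¹ := mul_le_mul_left hvx _
    rw [h1, one_mul] at h2
    exact absurd hvy (not_lt.2 h2)

end Groth.Agent.S4434
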