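import Groth.Statements.S4435
import Mathlib.AlgebraicGeometry.FunctionField
import Mathlib.AlgebraicGeometry.Morphisms.Finite
import Mathlib.RingTheory.Algebraic.Integral
import Mathlib.RingTheory.Localization.Integral
import Mathlib.RingTheory.Localization.Finiteness

set_option autoImplicit false
universe u
open CategoryTheory CategoryTheory.Limits AlgebraicGeometry
open EGA2

namespace Groth.Agent.S4435

open scoped nonZeroDivisors

theorem core {A B K L : Type u} [CommRing A] [CommRing B] [IsDomain A] [IsDomain B]
    [Field K] [Field L] [Algebra A K] [IsFractionRing A K] [Algebra B L] [IsFractionRing B L]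
    (φ : A →+* B) (ψ : K →+* L)
    (h : ψ.comp (algebraMap A K) = (algebraMap B L).comp φ) :
    (φ.IsIntegral → ψ.IsIntegral) ∧ (φ.Finite → ψ.Finite) := by
  have hinj : Function.Injective φ := by
    have h1 : Function.Injective (ψ.comp (algebraMap A K)) :=
      ψ.injective.comp (IsFractionRing.injective A K)
    rw [h] at h1
    exact Function.Injective.of_comp h1
  let := φ.toAlgebra
  let := ψ.toAlgebra
  let : Algebra A L := (ψ.comp (algebraMap A K)).toAlgebra
  have : IsScalarTower A K L := .of_algebraMap_eq (fun _ => rfl)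
  have : IsScalarTower A B L := .of_algebraMap_eq (fun x => congr($h x))
  have : FaithfulSMul A B := (faithfulSMul_iff_algebraMap_injective A B).mpr hinj
  have key : ∀ [Algebra.IsIntegral A B], ψ.IsIntegral ∧ (Module.Finite A B → Module.Finite K L) := by
    intro hint
    have : Algebra.IsAlgebraic A B := inferInstance
    have : IsLocalization (Algebra.algebraMapSubmonoid B A⁰) L := inferInstance
    refine ⟨?_, fun hfin => Module.Finite.of_isLocalization A B A⁰⟩
    have h2 := isIntegral_localization (R := A) (S := B) (M := A⁰) (Rₘ := K) (Sₘ := L)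
    have h3 : ψ = IsLocalization.map L (algebraMap A B)
        (show A⁰ ≤ (Algebra.algebraMapSubmonoid B A⁰).comap _ from A⁰.le_comap_map) := by
      apply IsLocalization.ringHom_ext A⁰
      rw [IsLocalization.map_comp]
      exact h
    rw [h3]
    exact h2
  refine ⟨fun hφ => (@key ⟨hφ⟩).1, fun hφ => ?_⟩
  have hint : Algebra.IsIntegral A B := ⟨hφ.to_isIntegral⟩
  exact (@key hint).2 hφ

theorem aux {X S : Scheme.{u}} [IsIntegral X] [IsIntegral S] (f : X ⟶ S) [IsAffineHom f]
    (y : S) (hy : y = genericPoint S) (hfη : f (genericPoint X) = y)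
    (ψ : S.presheaf.stalk y ⟶ X.functionField)
    (hψ : ∀ (U : S.Opens) (hyU : y ∈ U) (hη : genericPoint X ∈ f ⁻¹ᵁ U),
      S.presheaf.germ U y hyU ≫ ψ = f.app U ≫ X.presheaf.germ (f ⁻¹ᵁ U) (genericPoint X) hη) :
    ((∀ U : S.Opens, IsAffineOpen U → (f.app U).hom.IsIntegral) → ψ.hom.IsIntegral) ∧
      ((∀ U : S.Opens, IsAffineOpen U → (f.app U).hom.Finite) → ψ.hom.Finite) := by
  subst hy
  obtain ⟨U, hU, hyU, -⟩ := exists_isAffineOpen_mem_and_subset
    (show genericPoint S ∈ (⊤ : S.Opens) from trivial)
  have hηV : genericPoint X ∈ f ⁻¹ᵁ U := by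
    change f (genericPoint X) ∈ U
    rw [hfη]; exact hyU
  have hV : IsAffineOpen (f ⁻¹ᵁ U) := hU.preimage f
  haveI : Nonempty U := ⟨⟨_, hyU⟩⟩
  haveI : Nonempty (f ⁻¹ᵁ U) := ⟨⟨_, hηV⟩⟩
  haveI := functionField_isFractionRing_of_isAffineOpen S U hU
  haveI := functionField_isFractionRing_of_isAffineOpen X (f ⁻¹ᵁ U) hV
  have hcore := core (A := Γ(S, U)) (B := Γ(X, f ⁻¹ᵁ U)) (K := S.functionField)
    (L := X.functionField) (f.app U).hom ψ.hom (by
      have := congrArg CommRingCat.Hom.hom (hψ U hyU hηV)
      exact this)
  exact ⟨fun h => hcore.1 (h U hU), fun h => hcore.2 (h U hU)⟩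


/-- Let X, S be integral schemes and f : X ⟶ S a dominant morphism. If f is integral, the field of
rational functions of X is algebraic over that of S; if f is finite, it is a finite extension. Here
the extension is given by the stalk map of f at the generic point of X, whose source is the local
ring of S at the generic point of S (f being dominant), i.e. the function field of S. -/
theorem result {X S : Scheme.{u}} [IsIntegral X] [IsIntegral S]
    (f : X ⟶ S) [IsDominant f] :
    (IsIntegralHom f → (f.stalkMap (genericPoint X)).hom.IsIntegral) ∧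
      (IsFinite f → (f.stalkMap (genericPoint X)).hom.Finite) := by
  have hfη : f (genericPoint X) = genericPoint S := by
    apply ((genericPoint_spec S).eq _).symm
    have h1 := (genericPoint_spec X).image f.continuous
    rwa [Set.image_univ, f.denseRange.closure_range] at h1
  constructor
  · intro hf
    exact (aux f _ hfη rfl (f.stalkMap (genericPoint X))
      (fun U hyU hη => f.germ_stalkMap U _ hyU)).1 (fun U hU => f.isIntegral_app U hU)
  · intro hf
    exact (aux f _ hfη rfl (f.stalkMap (genericPoint X))
      (fun U hyU hη => f.germ_stalkMap U _ hyU)).2 (fun U hU => f.finite_app U hU)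

end Groth.Agent.S4435
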