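import Groth.Statements.S4439
import Groth.Agent.Lib.Helper50.ValSection

set_option autoImplicit false
universe u
open CategoryTheory CategoryTheory.Limits AlgebraicGeometry
open EGA2

namespace Groth.Agent.S4439

/-- Let A be a valuation ring with field of fractions K and f : X ⟶ Spec A a separated morphism whose
underlying map is closed. Then restriction to the generic point is a bijection from sections of f to
K-rational points of the generic fibre: every morphism Spec K ⟶ X over Spec A extends to exactly one
section of f. -/
theorem result (A : Type u) [CommRing A] [IsDomain A]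
    [ValuationRing A] (K : Type u) [Field K] [Algebra A K] [IsFractionRing A K] (X : Scheme.{u})
    (f : X ⟶ Spec (CommRingCat.of A)) [IsSeparated f] (hf : IsClosedMap f.base)
    (x : Spec (CommRingCat.of K) ⟶ X) (hx : x ≫ f = Spec.map (CommRingCat.ofHom (algebraMap A K))) :
    ∃! s : Spec (CommRingCat.of A) ⟶ X, s ≫ f = 𝟙 _ ∧ Spec.map (CommRingCat.ofHom (algebraMap A K)) ≫ s = x := by
  obtain ⟨s, hs1, hs2⟩ := Lib.Helper50.exists_section_of_specializingMap A K X f
    hf.specializingMap x hx
  refine ⟨s, ⟨hs1, hs2⟩, fun s' hs' ↦ ?_⟩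
  have hU := IsSeparated.valuativeCriterion f
  let S : ValuativeCommSq f :=
    { R := A, K := K, i₁ := x, i₂ := 𝟙 _, commSq := ⟨by rw [hx, Category.comp_id]⟩ }
  have := hU S
  let l1 : S.commSq.LiftStruct := ⟨s, hs2, hs1⟩
  let l2 : S.commSq.LiftStruct := ⟨s', hs'.2, hs'.1⟩
  have h12 : l2 = l1 := Subsingleton.elim _ _
  exact congrArg CommSq.LiftStruct.l h12

end Groth.Agent.S4439
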