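import Groth.Statements.S4441
import Mathlib.AlgebraicGeometry.ValuativeCriterion

set_option autoImplicit false
universe u
open CategoryTheory CategoryTheory.Limits AlgebraicGeometry
open EGA2

namespace Groth.Agent.S4441

/-- Let X and Y be integral separated schemes and f : X ⟶ Y a dominant, quasi-compact, universally
closed morphism, ξ the generic point of X. Every valuation subring R of the function field K(X) of X
which dominates the local ring of Y at a point y (via O_{Y,y} → O_{Y,f(ξ)} → K(X): image inside R,
maximal ideal into the maximal ideal of R) also dominates the local ring of X at some point x (via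
O_{X,x} → K(X)). -/
theorem result {X Y : Scheme.{u}} [IsIntegral X] [IsIntegral Y]
    [X.IsSeparated] [Y.IsSeparated] (f : X ⟶ Y) [IsDominant f] [QuasiCompact f] [UniversallyClosed f]
    (R : ValuationSubring X.functionField) (y : Y) (hy : f.base (genericPoint X) ⤳ y)
    (hdom : (∀ a : Y.presheaf.stalk y, (Y.presheaf.stalkSpecializes hy ≫ f.stalkMap (genericPoint X)).hom a ∈ R) ∧
      ∀ a ∈ IsLocalRing.maximalIdeal (Y.presheaf.stalk y),
        R.valuation ((Y.presheaf.stalkSpecializes hy ≫ f.stalkMap (genericPoint X)).hom a) < 1) :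
    ∃ x : X, (∀ a : X.presheaf.stalk x, algebraMap (X.presheaf.stalk x) X.functionField a ∈ R) ∧
      ∀ a ∈ IsLocalRing.maximalIdeal (X.presheaf.stalk x), R.valuation (algebraMap (X.presheaf.stalk x) X.functionField a) < 1 := by
  obtain ⟨h1, h2⟩ := hdom
  let θ : Y.presheaf.stalk y ⟶ X.presheaf.stalk (genericPoint X) :=
    Y.presheaf.stalkSpecializes hy ≫ f.stalkMap (genericPoint X)
  let θR : Y.presheaf.stalk y ⟶ CommRingCat.of R :=
    CommRingCat.ofHom (θ.hom.codRestrict R.toSubring h1)
  have hE : ValuativeCriterion.Existence f := by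
    have hu : UniversallyClosed f := inferInstance
    rw [UniversallyClosed.eq_valuativeCriterion] at hu
    exact hu.1
  let i₁ : Spec (CommRingCat.of X.functionField) ⟶ X := X.fromSpecStalk (genericPoint X)
  let i₂ : Spec (CommRingCat.of R) ⟶ Y := Spec.map θR ≫ Y.fromSpecStalk y
  have w : i₁ ≫ f = Spec.map (CommRingCat.ofHom (algebraMap R X.functionField)) ≫ i₂ := by
    show X.fromSpecStalk (genericPoint X) ≫ f = _ ≫ Spec.map θR ≫ Y.fromSpecStalk y
    rw [← Scheme.SpecMap_stalkMap_fromSpecStalk,
      ← Scheme.SpecMap_stalkSpecializes_fromSpecStalk hy]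
    simp_rw [← Spec.map_comp_assoc]
    rfl
  obtain ⟨l, hl₁, hl₂⟩ := (hE { R := R, K := X.functionField, commSq := ⟨w⟩, .. }).exists_lift
  dsimp only at hl₁ hl₂
  refine ⟨l (IsLocalRing.closedPoint R), ?_⟩
  let φ : X.presheaf.stalk (l (IsLocalRing.closedPoint R)) ⟶ CommRingCat.of R :=
    Scheme.stalkClosedPointTo l
  have hsp : genericPoint X ⤳ l (IsLocalRing.closedPoint R) :=
    (genericPoint_spec X).specializes trivial
  have key : φ ≫ CommRingCat.ofHom (algebraMap R X.functionField) =
      X.presheaf.stalkSpecializes hsp := by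
    apply Spec.map_injective
    rw [← cancel_mono (X.fromSpecStalk (l (IsLocalRing.closedPoint R))), Spec.map_comp,
      Category.assoc, Scheme.Spec_stalkClosedPointTo_fromSpecStalk, hl₁,
      Scheme.SpecMap_stalkSpecializes_fromSpecStalk]
  have key' : ∀ a : X.presheaf.stalk (l (IsLocalRing.closedPoint R)),
      algebraMap (X.presheaf.stalk (l (IsLocalRing.closedPoint R))) X.functionField a =
        ((φ.hom a : R) : X.functionField) := by
    intro a
    have := congrArg (fun g ↦ g.hom a) key
    exact this.symm
  refine ⟨fun a ↦ ?_, fun a ha ↦ ?_⟩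
  · rw [key']
    exact (φ.hom a).2
  · rw [key']
    rw [← ValuationSubring.valuation_lt_one_iff]
    have hloc : IsLocalHom φ.hom := inferInstanceAs (IsLocalHom (Scheme.stalkClosedPointTo l).hom)
    exact (IsLocalRing.mem_maximalIdeal _).mpr
      (fun hu ↦ (IsLocalRing.mem_maximalIdeal _).mp ha (hloc.map_nonunit a hu))

end Groth.Agent.S4441
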