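import Groth.Statements.S4442
import Groth.Agent.Lib.Helper73.DimFT.Scheme

set_option autoImplicit false
universe u
open CategoryTheory CategoryTheory.Limits AlgebraicGeometry
attribute [local instance] Curv2.resAlgebra
open EGA2

namespace Groth.Agent.S4442

open Groth.Agent.Lib.Helper73

theorem exists_generic {X : Scheme.{u}} (y : X) :
    ∃ η : X, η ⤳ y ∧ closure ({η} : Set X) ∈ irreducibleComponents (X : Type u) := by
  obtain ⟨η, hη⟩ := QuasiSober.sober (isIrreducible_irreducibleComponent (x := y))
    isClosed_irreducibleComponent
  refine ⟨η, ?_, ?_⟩
  · rw [specializes_iff_mem_closure, hη.def]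
    exact mem_irreducibleComponent
  · rw [hη.def]
    exact irreducibleComponent_mem_irreducibleComponents y


/-- (a) ⇔ (b): let X be a scheme of finite type over a field k. The residue fields of the generic points
of the irreducible components of X all have transcendence degree one over k if and only if the local
ring of X at every closed point has dimension one. (The published statement has a third equivalent
condition: the irreducible closed subsets of X other than the irreducible components are exactly the
closed points of X. This row states only the equivalence of the first two.) -/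
theorem result (k : Type u) [Field k] (X : Scheme.{u})
    [X.Over (Spec (CommRingCat.of k))] [LocallyOfFiniteType (X ↘ (Spec (CommRingCat.of k)))]
    [QuasiCompact (X ↘ (Spec (CommRingCat.of k)))] :
    (∀ x : X, closure ({x} : Set X) ∈ irreducibleComponents (X : Type u) → Algebra.trdeg k (X.residueField x) = 1) ↔
      ∀ x : X, IsClosed ({x} : Set X) → ringKrullDim (X.presheaf.stalk x) = 1 := by
  haveI : CompactSpace X :=
    QuasiCompact.compactSpace_of_compactSpace (X ↘ (Spec (CommRingCat.of k)))
  set f := X ↘ (Spec (CommRingCat.of k)) with hf
  have hδ := isDimFun_trdegNat f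
  have htr : ∀ x : X, Algebra.trdeg k (X.residueField x) = (trdegNat f x : Cardinal) :=
    fun x => trdeg_eq_trdegNat f x
  have htr1 : ∀ x : X, Algebra.trdeg k (X.residueField x) = 1 ↔ trdegNat f x = 1 := by
    intro x
    rw [htr x]
    exact Nat.cast_eq_one
  constructor
  · intro H z hz
    rw [ringKrullDim_stalk_eq_coheight]
    have hz0 : trdegNat f z = 0 := trdegNat_eq_zero_of_isClosed f hz
    have h1 : Order.coheight z + (trdegNat f z : ℕ∞) ≤ 1 := by
      refine hδ.coheight_add_le (N := 1) (fun y hy => ?_)
      obtain ⟨η, hηy, hη⟩ := exists_generic y
      have := hδ.le_of_specializes hηy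
      rw [(htr1 η).mp (H η hη)] at this
      exact_mod_cast this
    obtain ⟨η, hηz, hη⟩ := exists_generic z
    have h2 := hδ.le_coheight_add hηz
    rw [(htr1 η).mp (H η hη)] at h2
    rw [hz0] at h1 h2
    simp only [Nat.cast_zero, add_zero, Nat.cast_one] at h1 h2
    have : Order.coheight z = 1 := le_antisymm h1 h2
    rw [this]; rfl
  · intro H η hη
    rw [htr1]
    obtain ⟨z, hzη, hz⟩ := IsClosed.exists_closed_singleton (isClosed_closure (s := {η}))
      ⟨η, subset_closure rfl⟩
    have hηz : η ⤳ z := specializes_iff_mem_closure.mpr hzη
    have hz0 : trdegNat f z = 0 := trdegNat_eq_zero_of_isClosed f hz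
    have hco : ∀ w : X, IsClosed ({w} : Set X) → Order.coheight w = 1 := by
      intro w hw
      have := H w hw
      rw [ringKrullDim_stalk_eq_coheight] at this
      exact_mod_cast this
    have h2 := hδ.le_coheight_add hηz
    rw [hz0, hco z hz] at h2
    simp only [Nat.cast_zero, add_zero] at h2
    have hle : trdegNat f η ≤ 1 := by exact_mod_cast h2
    have hne : trdegNat f η ≠ 0 := by
      intro h0
      have hηz' : η = z := by
        by_contra hne
        have := hδ.lt_of_specializes hηz hne
        omega
      subst hηz'
      have h3 := hco η hz
      have h4 : ¬ IsMax η := by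
        rw [← Order.coheight_pos, h3]; exact one_pos
      rw [not_isMax_iff] at h4
      obtain ⟨y, hy⟩ := h4
      have hyη : y ⤳ η := hy.le
      have hsub : closure ({η} : Set X) ⊆ closure ({y} : Set X) :=
        (isClosed_closure.closure_subset_iff).mpr
          (Set.singleton_subset_iff.mpr (specializes_iff_mem_closure.mp hyη))
      have hmax := hη.2 (isIrreducible_singleton.closure) hsub
      have : η ⤳ y := specializes_iff_mem_closure.mpr (hmax (subset_closure rfl))
      exact hy.not_ge this
    omega

end Groth.Agent.S4442
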