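import Groth.Statements.S4445
import Groth.Agent.Lib.Helper50.CurveReg

set_option autoImplicit false
universe u
open CategoryTheory CategoryTheory.Limits AlgebraicGeometry
attribute [local instance] Curv2.stalkAlgebra
open EGA2

namespace Groth.Agent.S4445

theorem fromSpecStalk_comp_toSpec {X : Scheme.{u}} {A : Type u} [CommRing A]
    (q : X ⟶ Spec (CommRingCat.of A)) (x : X) :
    X.fromSpecStalk x ≫ q =
      Spec.map (CommRingCat.ofHom ((X.presheaf.germ ⊤ x trivial).hom.comp (Coh.toGlobal q))) := by
  have h1 : q = X.toSpecΓ ≫ Spec.map ((Scheme.ΓSpecIso (CommRingCat.of A)).inv ≫ q.appTop) := by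
    rw [Spec.map_comp, ← Scheme.toSpecΓ_naturality_assoc, toSpecΓ_SpecMap_ΓSpecIso_inv,
      Category.comp_id]
  conv_lhs => rw [h1]
  rw [← Category.assoc, Scheme.fromSpecStalk_toSpecΓ, ← Spec.map_comp]
  rfl


/-- Let X be a normal irreducible algebraic curve over a field k with field of rational functions K, and
Y an integral complete (proper over k) algebraic curve with field of rational functions L. Dominant
k-morphisms X ⟶ Y correspond bijectively to k-embeddings L → K: for every k-algebra homomorphism φ :
L → K there is exactly one k-morphism u : X ⟶ Y mapping the generic point of X to the generic point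
of Y and inducing φ on the stalks at the generic points. -/
theorem result (k : Type u) [Field k] (X Y : Scheme.{u})
    [X.Over (Spec (CommRingCat.of k))] [LocallyOfFiniteType (X ↘ (Spec (CommRingCat.of k)))]
    [QuasiCompact (X ↘ (Spec (CommRingCat.of k)))] [IsSeparated (X ↘ (Spec (CommRingCat.of k)))] [IsIntegral X]
    (hX : ∀ x : X, IsClosed ({x} : Set X) → ringKrullDim (X.presheaf.stalk x) = 1) (hnorm : Pi1.IsNormalScheme X)
    [Y.Over (Spec (CommRingCat.of k))] [IsProper (Y ↘ (Spec (CommRingCat.of k)))] [IsIntegral Y]
    (hY : ∀ y : Y, IsClosed ({y} : Set Y) → ringKrullDim (Y.presheaf.stalk y) = 1)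
    (φ : Y.functionField →ₐ[k] X.functionField) :
    ∃! u : X ⟶ Y, u ≫ (Y ↘ (Spec (CommRingCat.of k))) = X ↘ (Spec (CommRingCat.of k)) ∧
      ∃ hu : u.base (genericPoint X) = genericPoint Y,
        (Y.presheaf.stalkSpecializes (specializes_of_eq hu) ≫ u.stalkMap (genericPoint X)).hom = (φ : Y.functionField →+* X.functionField) := by
  haveI : CompactSpace X :=
    QuasiCompact.compactSpace_of_compactSpace (X ↘ (Spec (CommRingCat.of k)))
  haveI : IsLocallyNoetherian X :=
    LocallyOfFiniteType.isLocallyNoetherian (X ↘ (Spec (CommRingCat.of k)))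
  set p := Y ↘ (Spec (CommRingCat.of k)) with hp
  set q := X ↘ (Spec (CommRingCat.of k)) with hq
  let φ' : Y.functionField ⟶ X.functionField :=
    CommRingCat.ofHom (φ : Y.functionField →+* X.functionField)
  let j : Spec (X.presheaf.stalk (genericPoint X)) ⟶ Y :=
    Spec.map φ' ≫ Y.fromSpecStalk (genericPoint Y)
  have hj : j ≫ p = X.fromSpecStalk (genericPoint X) ≫ q := by
    change (Spec.map φ' ≫ Y.fromSpecStalk (genericPoint Y)) ≫ p = _
    rw [Category.assoc, fromSpecStalk_comp_toSpec, fromSpecStalk_comp_toSpec, ← Spec.map_comp]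
    congr 1
    ext c
    exact φ.commutes c
  -- key characterisation
  have key : ∀ u : X ⟶ Y, X.fromSpecStalk (genericPoint X) ≫ u = j ↔
      ∃ hu : u.base (genericPoint X) = genericPoint Y,
        (Y.presheaf.stalkSpecializes (specializes_of_eq hu) ≫ u.stalkMap (genericPoint X)).hom =
          (φ : Y.functionField →+* X.functionField) := by
    intro u
    constructor
    · intro h
      have hu : u.base (genericPoint X) = genericPoint Y := by
        have h1 := congrArg (fun m => m.base (IsLocalRing.closedPoint _)) h
        have h2 : (X.fromSpecStalk (genericPoint X) ≫ u).base (IsLocalRing.closedPoint _) =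
            u.base (genericPoint X) := congrArg u.base Scheme.fromSpecStalk_closedPoint
        have h3 : j.base (IsLocalRing.closedPoint _) = genericPoint Y := by
          haveI : Subsingleton ↥(Spec Y.functionField) :=
            inferInstanceAs (Subsingleton (PrimeSpectrum Y.functionField))
          have : (Spec.map φ').base (IsLocalRing.closedPoint (X.presheaf.stalk (genericPoint X))) =
              IsLocalRing.closedPoint (Y.presheaf.stalk (genericPoint Y)) := Subsingleton.elim _ _
          change (Y.fromSpecStalk (genericPoint Y)).base ((Spec.map φ').base _) = _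
          rw [this]
          exact Scheme.fromSpecStalk_closedPoint
        exact h2.symm.trans (h1.trans h3)
      refine ⟨hu, ?_⟩
      have h4 : Spec.map (Y.presheaf.stalkSpecializes (specializes_of_eq hu) ≫
          u.stalkMap (genericPoint X)) ≫ Y.fromSpecStalk (genericPoint Y) =
          Spec.map φ' ≫ Y.fromSpecStalk (genericPoint Y) := by
        rw [Spec.map_comp, Category.assoc, Scheme.SpecMap_stalkSpecializes_fromSpecStalk,
          Scheme.SpecMap_stalkMap_fromSpecStalk, h]
      have h5 := Spec.map_injective ((cancel_mono _).mp h4)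
      exact congrArg CommRingCat.Hom.hom h5
    · rintro ⟨hu, h⟩
      have h5 : Y.presheaf.stalkSpecializes (specializes_of_eq hu) ≫
          u.stalkMap (genericPoint X) = φ' := CommRingCat.hom_ext h
      change _ = Spec.map φ' ≫ Y.fromSpecStalk (genericPoint Y)
      rw [← h5, Spec.map_comp, Category.assoc, Scheme.SpecMap_stalkSpecializes_fromSpecStalk,
        Scheme.SpecMap_stalkMap_fromSpecStalk]
  -- spreading out
  obtain ⟨U, hηU, g, hjg, hg⟩ := spread_out_of_isGermInjective' q p j hj
  have hU : Dense (U : Set X) :=
    U.2.dense ⟨genericPoint X, hηU⟩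
  obtain ⟨u, ⟨hu₁, hu₂⟩, -⟩ :=
    Groth.Agent.Lib.Helper50.existsUnique_extension_of_normal_curve p q hX hnorm U hU g hg
  have hKI : X.fromSpecStalk (genericPoint X) ≫ u = j := by
    rw [← U.fromSpecStalkOfMem_ι (genericPoint X) hηU, Category.assoc, hu₁, ← hjg]
  refine ⟨u, ⟨hu₂, (key u).mp hKI⟩, ?_⟩
  rintro u₂ ⟨hu₂', hu₂''⟩
  have hKI₂ := (key u₂).mpr hu₂''
  have : IsDominant (X.fromSpecStalk (genericPoint X)) := by
    refine ⟨?_⟩
    rw [DenseRange, Scheme.range_fromSpecStalk]
    intro x
    have h1 : closure ({genericPoint X} : Set X) ⊆ closure {y | y ⤳ genericPoint X} :=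
      closure_mono (Set.singleton_subset_iff.mpr specializes_rfl)
    apply h1
    rw [genericPoint_closure]
    trivial
  exact ext_of_isDominant_of_isSeparated p (hu₂'.trans hu₂.symm)
    (X.fromSpecStalk (genericPoint X)) (hKI₂.trans hKI.symm)

end Groth.Agent.S4445
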