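import Groth.Statements.S4447
import Mathlib.Tactic
import Mathlib.AlgebraicGeometry.ValuativeCriterion

set_option autoImplicit false
universe u
open CategoryTheory CategoryTheory.Limits AlgebraicGeometry
open EGA2

namespace Groth.Agent.S4447

/-- Let p : X ⟶ Y be a morphism, x a point of X, y = p(x) and y' a specialization of y distinct from y.
Then there are a valuation ring A which is not a field, with field of fractions the residue field
k(x), and a morphism Spec A ⟶ Y mapping the closed point to y' and restricting on Spec k(x) to the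
canonical morphism Spec k(x) ⟶ X ⟶ Y (in particular the generic point of Spec A goes to y). -/
theorem result {X Y : Scheme.{u}} (p : X ⟶ Y) (x : X) (y' : Y)
    (hsp : p.base x ⤳ y') (hne : y' ≠ p.base x) :
    ∃ (A : ValuationSubring (X.residueField x)) (h : Spec (CommRingCat.of A) ⟶ Y), A ≠ ⊤ ∧
      h.base (IsLocalRing.closedPoint A) = y' ∧
      Spec.map (CommRingCat.ofHom A.subtype) ≫ h = X.fromSpecResidueField x ≫ p := by
  let φ : Y.presheaf.stalk y' ⟶ X.residueField x :=
    Y.presheaf.stalkSpecializes hsp ≫ p.stalkMap x ≫ X.residue x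
  obtain ⟨A, hA, hA_local⟩ := IsLocalRing.exists_factor_valuationRing φ.hom
  let ψ : Y.presheaf.stalk y' ⟶ .of A := CommRingCat.ofHom (φ.hom.codRestrict _ hA)
  have w0 : X.fromSpecResidueField x ≫ p = Spec.map φ ≫ Y.fromSpecStalk y' := by
    rw [Scheme.fromSpecResidueField, Category.assoc, ← Scheme.SpecMap_stalkMap_fromSpecStalk,
      ← Scheme.SpecMap_stalkSpecializes_fromSpecStalk hsp]
    simp_rw [← Spec.map_comp_assoc]
    rfl
  have w : X.fromSpecResidueField x ≫ p =
      Spec.map (CommRingCat.ofHom (algebraMap A (X.residueField x))) ≫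
        Spec.map ψ ≫ Y.fromSpecStalk y' := by
    rw [w0, ← Spec.map_comp_assoc]
    rfl
  refine ⟨A, Spec.map ψ ≫ Y.fromSpecStalk y', ?_, ?_, w.symm⟩
  · intro hA_top
    have hloc : IsLocalHom φ.hom := ⟨fun a ha => by
      have hne0 : φ.hom a ≠ 0 := ha.ne_zero
      have hinv : (φ.hom a)⁻¹ ∈ A := hA_top ▸ ValuationSubring.mem_top _
      have hu : IsUnit (φ.hom.codRestrict A.toSubring hA a) := by
        refine ⟨⟨⟨φ.hom a, hA a⟩, ⟨(φ.hom a)⁻¹, hinv⟩, ?_, ?_⟩, rfl⟩
        · exact Subtype.ext (mul_inv_cancel₀ hne0)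
        · exact Subtype.ext (inv_mul_cancel₀ hne0)
      exact hA_local.map_nonunit a hu⟩
    apply hne
    have h1 : (X.fromSpecResidueField x ≫ p)
        (IsLocalRing.closedPoint (X.residueField x)) = p x := by
      rw [Scheme.Hom.comp_apply, Scheme.fromSpecResidueField_apply]
    have h2 : (Spec.map φ ≫ Y.fromSpecStalk y')
        (IsLocalRing.closedPoint (X.residueField x)) = y' := by
      rw [Scheme.Hom.comp_apply]
      have : Spec.map φ (IsLocalRing.closedPoint (X.residueField x)) =
          IsLocalRing.closedPoint (Y.presheaf.stalk y') :=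
        IsLocalRing.comap_closedPoint φ.hom
      rw [this, Y.fromSpecStalk_closedPoint]
    rw [← h2, ← w0, h1]
  · rw [Scheme.Hom.comp_apply]
    have : Spec.map ψ (IsLocalRing.closedPoint A) = IsLocalRing.closedPoint (Y.presheaf.stalk y') :=
      IsLocalRing.comap_closedPoint (S := A) (φ.hom.codRestrict A.toSubring hA)
    rw [this, Y.fromSpecStalk_closedPoint]

end Groth.Agent.S4447
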