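import Groth.Statements.S4449
import Groth.Agent.Lib.Helper41.ValCenterVal
import Groth.Agent.Lib.Helper41.ValComap

set_option autoImplicit false
universe u
open CategoryTheory CategoryTheory.Limits AlgebraicGeometry
open EGA2

namespace Groth.Agent.S4449

/-- Case of an arbitrary integral separated base: let Y and X be integral separated schemes and f : X ⟶
Y a dominant morphism of finite type, ξ the generic point of X. Suppose that every valuation subring
R of K(X) other than K(X) itself which dominates the local ring of Y at a point y (via O_{Y,y} →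
O_{Y,f(ξ)} → K(X)) dominates the local ring of X at some point x (via O_{X,x} → K(X)). Then f is
proper. (Compare the locally Noetherian variant with discrete valuation rings.) -/
theorem result {X Y : Scheme.{u}} [IsIntegral X] [IsIntegral Y]
    [X.IsSeparated] [Y.IsSeparated] (f : X ⟶ Y) [IsDominant f] [LocallyOfFiniteType f] [QuasiCompact f]
    (h : ∀ (R : ValuationSubring X.functionField), R ≠ ⊤ →
      ∀ (y : Y) (hy : f.base (genericPoint X) ⤳ y),
        ((∀ a : Y.presheaf.stalk y, (Y.presheaf.stalkSpecializes hy ≫ f.stalkMap (genericPoint X)).hom a ∈ R) ∧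
          ∀ a ∈ IsLocalRing.maximalIdeal (Y.presheaf.stalk y),
            R.valuation ((Y.presheaf.stalkSpecializes hy ≫ f.stalkMap (genericPoint X)).hom a) < 1) →
        ∃ x : X, (∀ a : X.presheaf.stalk x, algebraMap (X.presheaf.stalk x) X.functionField a ∈ R) ∧
          ∀ a ∈ IsLocalRing.maximalIdeal (X.presheaf.stalk x), R.valuation (algebraMap (X.presheaf.stalk x) X.functionField a) < 1) :
    IsProper f := by
  refine Groth.Agent.Lib.Helper41.ValCenter.isProper_of_valLiftAt f
    (fun x₁ => ⟨genericPoint X, genericPoint_specializes x₁, ?_⟩)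
  intro A y hy
  let ξ : X := genericPoint X
  let e : X.functionField →+* X.residueField ξ := (X.residue ξ).hom
  have he : Function.Bijective e := ⟨e.injective, X.residue_surjective ξ⟩
  let R : ValuationSubring X.functionField := A.comap e
  set y₀ := y.base (IsLocalRing.closedPoint A) with hy₀def
  have hgen : f.base ξ = y.base ((Spec.map (CommRingCat.ofHom A.subtype)).base
      (IsLocalRing.closedPoint (X.residueField ξ))) := by
    have h1 := congrArg (fun q => q.base (IsLocalRing.closedPoint (X.residueField ξ))) hy
    refine (Eq.trans ?_ h1.symm)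
    change f.base ξ = f.base ((X.fromSpecResidueField ξ).base _)
    rw [Scheme.fromSpecResidueField_apply]
  have hy₀ : f.base ξ ⤳ y₀ := by
    rw [hgen]
    exact (IsLocalRing.specializes_closedPoint _).map y.continuous
  let σ : Y.presheaf.stalk y₀ ⟶ CommRingCat.of A := Scheme.stalkClosedPointTo y
  have hσ : Spec.map σ ≫ Y.fromSpecStalk y₀ = y := Scheme.Spec_stalkClosedPointTo_fromSpecStalk y
  have hring : σ ≫ CommRingCat.ofHom A.subtype =
      Groth.Agent.Lib.Helper50.specResMap f ξ y₀ hy₀ := by
    apply Spec.map_injective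
    apply (cancel_mono (Y.fromSpecStalk y₀)).1
    rw [Spec.map_comp, Category.assoc, hσ, hy,
      Groth.Agent.Lib.Helper50.SpecMap_specResMap_fromSpecStalk]
  have hval : ∀ a : Y.presheaf.stalk y₀,
      e ((Y.presheaf.stalkSpecializes hy₀ ≫ f.stalkMap ξ).hom a) =
        ((σ.hom a : A) : X.residueField ξ) := fun a => (congr($hring a)).symm
  have hcen : Groth.Agent.Lib.Helper41.ValCenter.HasCenterIn (⊤ : X.Opens) ξ A := by
    by_cases hR : R = ⊤
    · have hAtop : ∀ z : X.residueField ξ, z ∈ A := by
        intro z
        obtain ⟨w, rfl⟩ := he.2 z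
        have : w ∈ R := by rw [hR]; trivial
        exact this
      refine Groth.Agent.Lib.Helper41.ValCenter.hasCenterIn_of_stalk (X₀ := ⊤)
        (specializes_rfl : ξ ⤳ ξ) trivial (fun a => hAtop _) (fun a ha => ?_)
      have h1 : (X.presheaf.stalkSpecializes (specializes_rfl : ξ ⤳ ξ) ≫ X.residue ξ) a = 0 := by
        rw [TopCat.Presheaf.stalkSpecializes_refl, Category.id_comp]
        exact (IsLocalRing.residue_eq_zero_iff _).mpr ha
      rw [h1, map_zero]
      exact zero_lt_one
    · obtain ⟨x, hxmem, hxlt⟩ := h R hR y₀ hy₀ ⟨fun a => by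
          change e ((Y.presheaf.stalkSpecializes hy₀ ≫ f.stalkMap ξ).hom a) ∈ A
          rw [hval]
          exact (σ.hom a).2, fun a ha => by
          rw [Groth.Agent.Lib.Helper41.ValComap.valuation_comap_lt_one_iff, hval]
          have hlocσ : IsLocalHom σ.hom :=
            inferInstanceAs (IsLocalHom (Scheme.stalkClosedPointTo y).hom)
          have h1 : σ.hom a ∈ IsLocalRing.maximalIdeal A := by
            rw [IsLocalRing.mem_maximalIdeal, mem_nonunits_iff] at ha ⊢
            exact fun hu => ha (hlocσ.map_nonunit a hu)
          exact (A.valuation_lt_one_iff _).mp h1⟩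
      have hx : ξ ⤳ x := genericPoint_specializes x
      refine Groth.Agent.Lib.Helper41.ValCenter.hasCenterIn_of_stalk (X₀ := ⊤) hx trivial
        (fun a => ?_) (fun a ha => ?_)
      · exact hxmem a
      · have := hxlt a ha
        rwa [Groth.Agent.Lib.Helper41.ValComap.valuation_comap_lt_one_iff] at this
  obtain ⟨l, hl, -⟩ := hcen
  refine ⟨l, ?_, hl⟩
  have hU := IsSeparated.valuativeCriterion (terminal.from Y)
  have hc : CommSq (X.fromSpecResidueField ξ ≫ f)
      (Spec.map (CommRingCat.ofHom (algebraMap A (X.residueField ξ)))) (terminal.from Y)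
      (terminal.from (Spec (CommRingCat.of A))) := ⟨terminal.hom_ext _ _⟩
  have hsub := hU { R := A, K := X.residueField ξ, commSq := hc, .. }
  have := hsub.elim ⟨l ≫ f, by rw [← Category.assoc]; exact congrArg (· ≫ f) hl,
    terminal.hom_ext _ _⟩ ⟨y, hy, terminal.hom_ext _ _⟩
  exact congrArg CommSq.LiftStruct.l this

end Groth.Agent.S4449
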