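import Groth.Statements.S4451
import Groth.Agent.S4445
import Groth.Agent.S4443
import Groth.Agent.Lib.Helper50.CurveReg

set_option autoImplicit false
universe u
open CategoryTheory CategoryTheory.Limits AlgebraicGeometry
attribute [local instance] Curv2.stalkAlgebra
open EGA2

namespace Groth.Agent.S4451

/-- image of a valuation ring in its fraction field is a valuation subring -/
theorem exists_valuationSubring_range (A : Type u) [CommRing A] [IsDomain A] [ValuationRing A]
    (K : Type u) [Field K] [Algebra A K] [IsFractionRing A K] :
    ∃ R : ValuationSubring K, (R : Set K) = Set.range (algebraMap A K) := by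
  refine ⟨(ValuationRing.valuation A K).valuationSubring, ?_⟩
  ext b
  exact ValuationRing.mem_integer_iff A K b

/-- valuation rings are maximal for domination -/
theorem range_eq_of_isLocalHom (A : Type u) [CommRing A] [IsDomain A] [ValuationRing A]
    (K : Type u) [Field K] [Algebra A K] [IsFractionRing A K] (R : ValuationSubring K)
    (φ : A →+* R) [IsLocalHom φ] (hφ : ∀ a, (φ a : K) = algebraMap A K a) :
    (R : Set K) = Set.range (algebraMap A K) := by
  apply Set.Subset.antisymm
  · intro b hb
    rcases ValuationRing.isInteger_or_isInteger A b with ⟨a, ha⟩ | ⟨a, ha⟩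
    · exact ⟨a, ha⟩
    · by_cases hb0 : b = 0
      · exact ⟨0, by rw [hb0, map_zero]⟩
      by_cases hu : IsUnit a
      · obtain ⟨u, rfl⟩ := hu
        refine ⟨((u⁻¹ : Aˣ) : A), ?_⟩
        have h1 : algebraMap A K (u : A) * algebraMap A K ((u⁻¹ : Aˣ) : A) = 1 := by
          rw [← map_mul, Units.mul_inv, map_one]
        rw [ha] at h1
        have h2 : algebraMap A K ((u⁻¹ : Aˣ) : A) = b := by
          have h3 := eq_inv_of_mul_eq_one_right h1
          rw [h3, inv_inv]
        exact h2
      · exfalso
        apply hu
        refine (isUnit_map_iff φ a).mp ?_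
        refine IsUnit.of_mul_eq_one (⟨b, hb⟩ : R) ?_
        apply Subtype.ext
        change (φ a : K) * b = 1
        rw [hφ, ha]
        exact inv_mul_cancel₀ hb0
  · rintro _ ⟨a, rfl⟩
    rw [← hφ]
    exact (φ a).2

theorem valuationRing_of_isIntegrallyClosed_of_dim_le_one (A : Type u) [CommRing A]
    [IsDomain A] [IsNoetherianRing A] [IsLocalRing A] [IsIntegrallyClosed A]
    (h : ringKrullDim A ≤ 1) : ValuationRing A := by
  have : Ring.KrullDimLE 1 A := Ring.krullDimLE_iff.mpr h
  have h3 : IsIntegrallyClosed A ∧ ∀ P : Ideal A, P ≠ ⊥ → P.IsPrime →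
      P = IsLocalRing.maximalIdeal A :=
    ⟨inferInstance, fun P hP hP' => IsLocalRing.eq_maximalIdeal (hP'.isMaximal_of_ne_bot hP)⟩
  exact ((tfae_of_isNoetherianRing_of_isLocalRing_of_isDomain A).out 3 1).mp h3

theorem surjective_algebraMap_of_eq_genericPoint {X : Scheme.{u}} [IsIntegral X] (x : X)
    (hx : x = genericPoint X) :
    Function.Surjective (algebraMap (X.presheaf.stalk x) X.functionField) := by
  subst hx
  intro b
  refine ⟨b, ?_⟩
  rw [RingHom.algebraMap_toAlgebra]
  have : X.presheaf.stalkSpecializes ((genericPoint_spec X).specializes trivial) =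
      𝟙 (X.presheaf.stalk (genericPoint X)) := TopCat.Presheaf.stalkSpecializes_refl _ _
  rw [this]
  rfl

/-- a ring hom `O_x → R` compatible with the maps to `K` gives `Spec R → X` extending the generic
point. -/
theorem specMap_comp_fromSpecStalk {X : Scheme.{u}} [IsIntegral X]
    (R : ValuationSubring X.functionField) (x : X) (ψ : X.presheaf.stalk x →+* R)
    (hψ : ∀ a, (ψ a : X.functionField) = algebraMap (X.presheaf.stalk x) X.functionField a) :
    Spec.map (CommRingCat.ofHom (algebraMap R X.functionField)) ≫
      Spec.map (CommRingCat.ofHom ψ) ≫ X.fromSpecStalk x = X.fromSpecStalk (genericPoint X) := by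
  rw [← Scheme.SpecMap_stalkSpecializes_fromSpecStalk ((genericPoint_spec X).specializes trivial),
    ← Category.assoc, ← Spec.map_comp]
  congr 2
  ext a
  exact hψ a


/-- Let X be a normal, complete, irreducible algebraic curve over a field k with field of rational
functions K. The set of local rings of X, as subrings of K, consists of K itself (at the generic
point) and of the valuation rings of K containing k (and distinct from K): every non-generic point
has such a valuation ring as local ring, and every such valuation ring is the local ring of exactly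
one point. -/
theorem result (k : Type u) [Field k] (X : Scheme.{u})
    [X.Over (Spec (CommRingCat.of k))] [IsProper (X ↘ (Spec (CommRingCat.of k)))] [IsIntegral X]
    (hX : ∀ x : X, IsClosed ({x} : Set X) → ringKrullDim (X.presheaf.stalk x) = 1) (hnorm : Pi1.IsNormalScheme X) :
    (∀ x : X, x ≠ genericPoint X → ∃ R : ValuationSubring X.functionField, R ≠ ⊤ ∧
        (R : Set X.functionField) = Set.range (algebraMap (X.presheaf.stalk x) X.functionField)) ∧
      ∀ R : ValuationSubring X.functionField, R ≠ ⊤ → (∀ c : k, algebraMap k X.functionField c ∈ R) →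
        ∃! x : X, (R : Set X.functionField) = Set.range (algebraMap (X.presheaf.stalk x) X.functionField) := by
  set p := X ↘ (Spec (CommRingCat.of k)) with hp
  haveI : CompactSpace X := QuasiCompact.compactSpace_of_compactSpace p
  haveI : IsLocallyNoetherian X := LocallyOfFiniteType.isLocallyNoetherian p
  obtain ⟨h1, -⟩ := Groth.Agent.S4443.result k X hX
  have hclosed : ∀ x : X, x ≠ genericPoint X → IsClosed ({x} : Set X) := by
    intro x hx
    by_contra h
    exact hx (h1 x h)
  have hval : ∀ x : X, x ≠ genericPoint X → ValuationRing (X.presheaf.stalk x) := by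
    intro x hx
    have := (hnorm x).2
    exact valuationRing_of_isIntegrallyClosed_of_dim_le_one _ (le_of_eq (hX x (hclosed x hx)))
  have hsep : X.IsSeparated := by
    refine ⟨?_⟩
    rw [← terminal.comp_from p]
    infer_instance
  refine ⟨?_, ?_⟩
  · intro x hx
    haveI := hval x hx
    obtain ⟨R, hR⟩ := exists_valuationSubring_range (X.presheaf.stalk x) X.functionField
    refine ⟨R, ?_, hR⟩
    intro hRtop
    have hsurj : Function.Surjective (algebraMap (X.presheaf.stalk x) X.functionField) := by
      intro b
      have : b ∈ (R : Set X.functionField) := by rw [hRtop]; trivial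
      rw [hR] at this
      exact this
    have hfield : IsField (X.presheaf.stalk x) :=
      (IsFractionRing.surjective_iff_isField (K := X.functionField)).mp hsurj
    have := hX x (hclosed x hx)
    rw [ringKrullDim_eq_zero_of_isField hfield] at this
    exact zero_ne_one this
  · intro R hRtop hk
    -- existence
    let ψ : k →+* R := (algebraMap k X.functionField).codRestrict R.toSubring hk
    have hc : CommSq (X.fromSpecStalk (genericPoint X))
        (Spec.map (CommRingCat.ofHom (algebraMap R X.functionField))) p
        (Spec.map (CommRingCat.ofHom ψ)) := ⟨by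
      rw [Groth.Agent.S4445.fromSpecStalk_comp_toSpec]
      refine Eq.trans ?_ (Spec.map_comp (CommRingCat.ofHom ψ)
        (CommRingCat.ofHom (algebraMap R X.functionField)))
      rfl⟩
    let S : ValuativeCommSq p := { R := R, K := X.functionField, commSq := hc, .. }
    have hex : ValuativeCriterion.Existence p := by
      have : UniversallyClosed p := inferInstance
      rw [UniversallyClosed.eq_valuativeCriterion] at this
      exact this.1
    obtain ⟨⟨l, hl₁, hl₂⟩⟩ := (hex S).exists_lift
    change Spec (CommRingCat.of R) ⟶ X at l
    change Spec.map (CommRingCat.ofHom (algebraMap R X.functionField)) ≫ l =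
      X.fromSpecStalk (genericPoint X) at hl₁
    have hexist : ∃ x : X, (R : Set X.functionField) =
        Set.range (algebraMap (X.presheaf.stalk x) X.functionField) := by
      refine ⟨l.base (IsLocalRing.closedPoint R), ?_⟩
      obtain ⟨x, hx_def⟩ : ∃ x : X, x = l.base (IsLocalRing.closedPoint R) := ⟨_, rfl⟩
      let φ : X.presheaf.stalk (l.base (IsLocalRing.closedPoint R)) →+* R :=
        (Scheme.stalkClosedPointTo l).hom
      haveI : IsLocalHom φ := Scheme.isLocalHom_stalkClosedPointTo' l
      have hφ : ∀ a, (φ a : X.functionField) =
          algebraMap (X.presheaf.stalk (l.base (IsLocalRing.closedPoint R))) X.functionField a := by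
        have h2 : Spec.map (Scheme.stalkClosedPointTo l ≫
            CommRingCat.ofHom (algebraMap R X.functionField)) ≫
            X.fromSpecStalk (l.base (IsLocalRing.closedPoint R)) =
            Spec.map (X.presheaf.stalkSpecializes ((genericPoint_spec X).specializes trivial)) ≫
            X.fromSpecStalk (l.base (IsLocalRing.closedPoint R)) := by
          rw [Spec.map_comp, Category.assoc, Scheme.Spec_stalkClosedPointTo_fromSpecStalk, hl₁,
            Scheme.SpecMap_stalkSpecializes_fromSpecStalk]
        have h3 := Spec.map_injective ((cancel_mono _).mp h2)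
        intro a
        exact congrArg (fun m => m.hom a) h3
      by_cases hgen : l.base (IsLocalRing.closedPoint R) = genericPoint X
      · exfalso
        apply hRtop
        rw [eq_top_iff]
        intro b _
        obtain ⟨a, rfl⟩ := surjective_algebraMap_of_eq_genericPoint _ hgen b
        rw [← hφ]
        exact (φ a).2
      · haveI := hval _ hgen
        exact range_eq_of_isLocalHom _ _ R φ hφ
    have key : ∀ z : X, (R : Set X.functionField) =
        Set.range (algebraMap (X.presheaf.stalk z) X.functionField) →
        ∃ m : Spec (CommRingCat.of R) ⟶ X,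
          Spec.map (CommRingCat.ofHom (algebraMap R X.functionField)) ≫ m =
            X.fromSpecStalk (genericPoint X) ∧ m.base (IsLocalRing.closedPoint R) = z := by
      intro z hz
      have hmem : ∀ a, algebraMap (X.presheaf.stalk z) X.functionField a ∈ R.toSubring := fun a => by
        have : algebraMap (X.presheaf.stalk z) X.functionField a ∈ (R : Set X.functionField) := by
          rw [hz]; exact ⟨a, rfl⟩
        exact this
      let ψz : X.presheaf.stalk z →+* R :=
        (algebraMap (X.presheaf.stalk z) X.functionField).codRestrict R.toSubring hmem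
      have hinj : Function.Injective ψz := fun a b hab =>
        IsFractionRing.injective (X.presheaf.stalk z) X.functionField (congrArg Subtype.val hab)
      have hsurj : Function.Surjective ψz := fun r => by
        have : (r : X.functionField) ∈ (R : Set X.functionField) := r.2
        rw [hz] at this
        obtain ⟨a, ha⟩ := this
        exact ⟨a, Subtype.ext ha⟩
      haveI : IsLocalHom ψz := ⟨fun a ha => by
        obtain ⟨r, hr⟩ := ha.exists_right_inv
        obtain ⟨a', rfl⟩ := hsurj r
        refine IsUnit.of_mul_eq_one a' (hinj ?_)
        rw [map_mul, hr, map_one]⟩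
      refine ⟨Spec.map (CommRingCat.ofHom ψz) ≫ X.fromSpecStalk z,
        specMap_comp_fromSpecStalk R z ψz (fun a => rfl), ?_⟩
      have e1 : (Spec.map (CommRingCat.ofHom ψz)).base (IsLocalRing.closedPoint R) =
          IsLocalRing.closedPoint (X.presheaf.stalk z) :=
        IsLocalRing.comap_closedPoint ψz
      change (X.fromSpecStalk z).base ((Spec.map (CommRingCat.ofHom ψz)).base
        (IsLocalRing.closedPoint R)) = z
      rw [e1]
      exact Scheme.fromSpecStalk_closedPoint
    obtain ⟨x, hx⟩ := hexist
    refine ⟨x, hx, ?_⟩
    intro y hy
    obtain ⟨m₁, hm₁, hm₁'⟩ := key x hx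
    obtain ⟨m₂, hm₂, hm₂'⟩ := key y hy
    haveI : IsDominant (Spec.map (CommRingCat.ofHom (algebraMap R X.functionField))) := by
      refine ⟨?_⟩
      change DenseRange (PrimeSpectrum.comap (algebraMap R X.functionField))
      rw [PrimeSpectrum.denseRange_comap_iff_ker_le_nilRadical,
        (RingHom.injective_iff_ker_eq_bot _).mp (FaithfulSMul.algebraMap_injective R X.functionField)]
      exact bot_le
    have hmm : m₂ = m₁ :=
      ext_of_isDominant (Spec.map (CommRingCat.ofHom (algebraMap R X.functionField)))
        (hm₂.trans hm₁.symm)
    rw [← hm₂', ← hm₁', hmm]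

end Groth.Agent.S4451
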