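import Groth.Statements.S4455
import Groth.Agent.Lib.Helper41.CurveNorm

set_option autoImplicit false
universe u
open CategoryTheory CategoryTheory.Limits AlgebraicGeometry
open EGA2

namespace Groth.Agent.S4455

/-- An integral algebraic curve X over a field k is complete (proper over k) if and only if its
normalization X', with the composite structure morphism X' ⟶ X ⟶ Spec k, is proper over k. (The
quasi-compactness and quasi-separatedness binders on the morphism from the generic point always
hold; they are needed only to form the normalization.) -/
theorem result (k : Type u) [Field k] (X : Scheme.{u})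
    [X.Over (Spec (CommRingCat.of k))] [LocallyOfFiniteType (X ↘ (Spec (CommRingCat.of k)))]
    [QuasiCompact (X ↘ (Spec (CommRingCat.of k)))] [IsSeparated (X ↘ (Spec (CommRingCat.of k)))] [IsIntegral X]
    (hX : ∀ x : X, IsClosed ({x} : Set X) → ringKrullDim (X.presheaf.stalk x) = 1)
    [QuasiCompact (X.fromSpecStalk (genericPoint X))] [QuasiSeparated (X.fromSpecStalk (genericPoint X))] :
    IsProper (X ↘ (Spec (CommRingCat.of k))) ↔ IsProper (Curv2.normalizationι X ≫ (X ↘ (Spec (CommRingCat.of k)))) := by
  have hg : X.fromSpecStalk (genericPoint X) =
      Spec.map (CommRingCat.ofHom (RingHom.id X.functionField)) ≫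
        X.fromSpecStalk (genericPoint X) := by
    have : CommRingCat.ofHom (RingHom.id X.functionField) = 𝟙 _ := rfl
    rw [this, Spec.map_id, Category.id_comp]
  have hid : (RingHom.id X.functionField).Finite :=
    RingHom.Finite.of_surjective _ Function.surjective_id
  obtain ⟨hfin, -, -⟩ := Groth.Agent.Lib.Helper41.CurveNorm.normalization_curve k X hX
    X.functionField (RingHom.id X.functionField) hid (X.fromSpecStalk (genericPoint X)) hg
  haveI : IsFinite (Curv2.normalizationι X) := hfin
  haveI : IsDominant (Curv2.normalizationι X) := by
    haveI : IsDominant ((X.fromSpecStalk (genericPoint X)).toNormalization ≫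
        (X.fromSpecStalk (genericPoint X)).fromNormalization) := by
      rw [Scheme.Hom.toNormalization_fromNormalization, hg]
      exact Groth.Agent.Lib.Helper41.CurveNorm.isDominant_gmap X.functionField
        (RingHom.id X.functionField)
    exact IsDominant.of_comp (H := this) (X.fromSpecStalk (genericPoint X)).toNormalization
      (X.fromSpecStalk (genericPoint X)).fromNormalization
  constructor
  · intro h
    infer_instance
  · intro h
    haveI : UniversallyClosed (X ↘ (Spec (CommRingCat.of k))) :=
      UniversallyClosed.of_comp_surjective (Curv2.normalizationι X) _
    exact { }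

end Groth.Agent.S4455
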