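import Groth.Statements.S4457
import Groth.Agent.S16462
import Groth.Agent.S11319

set_option autoImplicit false
universe u
open Coherent

namespace Groth.Agent.S4457

open AlgebraicGeometry CategoryTheory in
/-- Let f : X → Y be a separated quasi-compact morphism, g : Y → Z an affine morphism and F a
quasi-coherent O_X-module. Then for every p ≥ 0, R^p (g ∘ f)_* F is isomorphic to g_*(R^p f_* F)
(higher direct images and direct image of the underlying abelian sheaves). The source shows that the
canonical comparison map is an isomorphism; only the existence of an isomorphism is asserted here. -/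
theorem result {X Y Z : Scheme.{u}} (f : X ⟶ Y) (g : Y ⟶ Z)
    [IsSeparated f] [QuasiCompact f] [IsAffineHom g] (F : X.Modules) [Coh.IsQCoh F] (p : ℕ) :
    Nonempty ((Coh.RpushAb (f ≫ g) p).obj (Coh.toAb F) ≅
      (Coh.pushAb g).obj ((Coh.RpushAb f p).obj (Coh.toAb F))) := by
  haveI : HasInjectiveResolutions X.Modules :=
    Groth.Agent.Lib.Helper26.QCohRpush.hasInjectiveResolutions_modules X
  haveI := Groth.Agent.S16462.result f g F p
  obtain ⟨e1⟩ := Groth.Agent.S11319.result (f ≫ g) F p
  obtain ⟨e2⟩ := Groth.Agent.S11319.result f F p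
  let e3 : Coh.toAb ((Coh.Rpush (f ≫ g) p).obj F) ≅
      Coh.toAb ((Scheme.Modules.pushforward g).obj ((Coh.Rpush f p).obj F)) :=
    (Groth.Agent.S11319.toAbF Z).mapIso (asIso (CohBC.lerayEdgeOut f g p F))
  let e4 : Coh.toAb ((Scheme.Modules.pushforward g).obj ((Coh.Rpush f p).obj F)) ≅
      (Coh.pushAb g).obj (Coh.toAb ((Coh.Rpush f p).obj F)) :=
    ((Groth.Agent.S11319.toAbPushIso g).app ((Coh.Rpush f p).obj F)).symm
  exact ⟨e1.symm ≪≫ e3 ≪≫ e4 ≪≫ (Coh.pushAb g).mapIso e2⟩

end Groth.Agent.S4457
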