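import Groth.Statements.S4459
-- import your own Groth.Agent.* helpers here

set_option autoImplicit false
universe u
open Coherent

namespace Groth.Agent.S4459


open AlgebraicGeometry CategoryTheory in
/-- Let A be a Noetherian ring which is separated and complete for the J-adic topology, and let f : X →
Spec A be a morphism of schemes which is a closed map on underlying spaces. Then every open subset
of X containing the inverse image of V(J) is all of X. (The published statement also assumes X of
finite type over A; that hypothesis is not used.) -/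
theorem result (A : Type u) [CommRing A] [IsNoetherianRing A]
    (J : Ideal A) [IsAdicComplete J A] {X : Scheme.{u}} (f : X ⟶ Spec (CommRingCat.of A))
    (hf : IsClosedMap f.base) (U : X.Opens)
    (hU : f.base ⁻¹' (PrimeSpectrum.zeroLocus (J : Set A)) ⊆ (U : Set X)) : U = ⊤ := by
  have hZ : IsClosed (f.base '' ((U : Set X)ᶜ)) := hf _ U.isOpen.isClosed_compl
  obtain ⟨𝔟, h𝔟⟩ := (PrimeSpectrum.isClosed_iff_zeroLocus_ideal _).mp hZ
  have hdisj : PrimeSpectrum.zeroLocus ((𝔟 ⊔ J : Ideal A) : Set A) = ∅ := by
    rw [PrimeSpectrum.zeroLocus_sup, ← h𝔟]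
    ext q
    simp only [Set.mem_inter_iff, Set.mem_empty_iff_false, iff_false, not_and]
    rintro ⟨x, hxU, rfl⟩ hq
    exact hxU (hU hq)
  rw [PrimeSpectrum.zeroLocus_empty_iff_eq_top] at hdisj
  have h1 : (1 : A) ∈ 𝔟 ⊔ J := by rw [hdisj]; trivial
  obtain ⟨b, hb, j, hj, hbj⟩ := Submodule.mem_sup.mp h1
  have hjac : j ∈ (⊥ : Ideal A).jacobson := IsAdicComplete.le_jacobson_bot J hj
  have hunit : IsUnit b := by
    have := (Ideal.mem_jacobson_bot.mp hjac) (-1)
    have hb' : b = j * -1 + 1 := by linear_combination hbj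
    rwa [hb']
  have h𝔟top : 𝔟 = ⊤ := Ideal.eq_top_of_isUnit_mem _ hb hunit
  rw [h𝔟top] at h𝔟
  have hempty : f.base '' ((U : Set X)ᶜ) = ∅ := by
    rw [h𝔟]
    exact PrimeSpectrum.zeroLocus_univ
  rw [Set.image_eq_empty, Set.compl_empty_iff] at hempty
  exact TopologicalSpace.Opens.ext hempty

end Groth.Agent.S4459
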