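import Groth.Statements.S4469
import Mathlib.RingTheory.ZariskisMainTheorem
import Mathlib.RingTheory.Ideal.MinimalPrime.Noetherian

set_option autoImplicit false
universe u
open CAlg

namespace Groth.Agent.S4469

/-- Let A be an integrally closed Noetherian local domain with field of fractions K, B an A-algebra of
finite type which is a domain with the same field of fractions (A → B → K compatible with A → K),
and 𝔫 a maximal ideal of B lying over the maximal ideal 𝔪 of A and minimal among the prime ideals of
B lying over 𝔪. Then B = A: the structure map A → B is bijective. -/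
theorem result (A B K : Type u) [CommRing A]
    [IsDomain A] [IsNoetherianRing A] [IsLocalRing A] [IsIntegrallyClosed A] [CommRing B] [IsDomain B]
    [Field K] [Algebra A B] [Algebra B K] [Algebra A K] [IsScalarTower A B K] [IsFractionRing A K]
    [IsFractionRing B K] [Algebra.FiniteType A B] (n : Ideal B) [n.IsMaximal]
    (hn : n.comap (algebraMap A B) = IsLocalRing.maximalIdeal A)
    (hmin : ∀ q : Ideal B, q.IsPrime → q.comap (algebraMap A B) = IsLocalRing.maximalIdeal A → q ≤ n → q = n) :
    Function.Bijective (algebraMap A B) := by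
  classical
  have hinjBK : Function.Injective (algebraMap B K) := IsFractionRing.injective B K
  have hinjAK : Function.Injective (algebraMap A K) := IsFractionRing.injective A K
  have hinj : Function.Injective (algebraMap A B) := by
    intro x y hxy
    apply hinjAK
    rw [IsScalarTower.algebraMap_apply A B K, IsScalarTower.algebraMap_apply A B K, hxy]
  have hBnoeth : IsNoetherianRing B := Algebra.FiniteType.isNoetherianRing A B
  -- integral elements of B come from A
  have hint : ∀ b : B, IsIntegral A b → ∃ a : A, algebraMap A B a = b := by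
    intro b hb
    have h1 : IsIntegral A (algebraMap B K b) := hb.map (IsScalarTower.toAlgHom A B K)
    obtain ⟨a, ha⟩ := IsIntegrallyClosed.isIntegral_iff.mp h1
    refine ⟨a, hinjBK ?_⟩
    rw [← IsScalarTower.algebraMap_apply A B K, ha]
  -- primes containing mB lie over m
  have hover : ∀ q : Ideal B, q.IsPrime →
      (IsLocalRing.maximalIdeal A).map (algebraMap A B) ≤ q →
      q.comap (algebraMap A B) = IsLocalRing.maximalIdeal A := by
    intro q hq hle
    apply le_antisymm
    · exact IsLocalRing.le_maximalIdeal (Ideal.comap_ne_top _ hq.ne_top)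
    · exact Ideal.map_le_iff_le_comap.mp hle
  have hnprime : n.IsPrime := Ideal.IsMaximal.isPrime inferInstance
  let nn : PrimeSpectrum B := ⟨n, hnprime⟩
  have hqf : Algebra.QuasiFiniteAt A nn.asIdeal := by
    apply Algebra.QuasiFiniteAt.of_isOpen_singleton_fiber nn
    rw [isOpen_induced_iff]
    set I := (IsLocalRing.maximalIdeal A).map (algebraMap A B) with hI
    have hfin : (I.minimalPrimes \ {n}).Finite :=
      (Ideal.finite_minimalPrimes_of_isNoetherianRing B I).subset Set.sdiff_subset
    refine ⟨(⋃ p ∈ (I.minimalPrimes \ {n}), PrimeSpectrum.zeroLocus (p : Set B))ᶜ, ?_, ?_⟩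
    · rw [isOpen_compl_iff]
      exact hfin.isClosed_biUnion (fun p _ => PrimeSpectrum.isClosed_zeroLocus _)
    · ext x
      obtain ⟨x, hx⟩ := x
      simp only [Set.mem_preimage, Set.mem_compl_iff, Set.mem_iUnion, PrimeSpectrum.mem_zeroLocus,
        SetLike.coe_subset_coe, Set.mem_singleton_iff, Subtype.mk.injEq, not_exists]
      have hxm : x.asIdeal.comap (algebraMap A B) = IsLocalRing.maximalIdeal A := by
        have := congrArg PrimeSpectrum.asIdeal hx
        simp only [PrimeSpectrum.comap_asIdeal] at this
        rw [this]
        exact hn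
      constructor
      · intro h
        have hIx : I ≤ x.asIdeal := by
          rw [hI, Ideal.map_le_iff_le_comap, hxm]
        obtain ⟨p, hp, hpx⟩ := Ideal.exists_minimalPrimes_le hIx
        by_cases hpn : p = n
        · subst hpn
          apply PrimeSpectrum.ext
          exact (Ideal.IsMaximal.eq_of_le inferInstance x.isPrime.ne_top hpx).symm
        · exact absurd hpx (h p ⟨hp, hpn⟩)
      · rintro rfl p ⟨hp, hpn⟩ hle
        apply hpn
        exact hmin p hp.1.1 (hover p hp.1.1 hp.1.2) hle
  have hzmp : Algebra.ZariskisMainProperty A nn.asIdeal :=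
    Algebra.ZariskisMainProperty.of_finiteType nn.asIdeal
  obtain ⟨r, hrn, hrint, hr⟩ := Algebra.zariskisMainProperty_iff.mp hzmp
  obtain ⟨ar, har⟩ := hint r hrint
  have haru : IsUnit ar := by
    by_contra hnu
    have : ar ∈ IsLocalRing.maximalIdeal A := (IsLocalRing.mem_maximalIdeal ar).mpr hnu
    rw [← hn] at this
    apply hrn
    rw [← har]
    exact this
  refine ⟨hinj, ?_⟩
  intro x
  obtain ⟨m, hm⟩ := hr x
  obtain ⟨a, ha⟩ := hint _ hm
  obtain ⟨u, hu⟩ := haru
  refine ⟨(↑(u⁻¹ ^ m) : A) * a, ?_⟩
  rw [map_mul, ha, ← har, ← hu, ← map_pow, ← mul_assoc, ← map_mul, ← Units.val_pow_eq_pow_val,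
    ← Units.val_mul]
  simp

end Groth.Agent.S4469
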