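import Groth.Statements.S4479
import Groth.Agent.Lib.Helper98.GrCechCover
import Groth.Agent.Lib.Helper98.AffineKoszul
import Groth.Agent.Lib.Helper98.LerayNatSch

set_option autoImplicit false
universe u
open Koszul3

namespace Groth.Agent.S4479

section Helpers

open AlgebraicGeometry CategoryTheory TopologicalSpace Opposite
open Groth.Agent.Lib.Helper98.GrCechCover Groth.Agent.Lib.Helper98.LerayNatSch
open Groth.Agent.Lib.Helper98.AffineKoszul

variable {A : Type u} [CommRing A]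

lemma iSup_VS (fs : List A) :
    iSup (VS (CommRingCat.of A) fs) = LocCoh.puncturedOpen A (Ideal.span {a | a ∈ fs}) := by
  ext x
  simp only [SetLike.mem_coe, Opens.mem_iSup]
  constructor
  · rintro ⟨i, hi⟩ hx
    have hx' : (show PrimeSpectrum A from x) ∈
        PrimeSpectrum.zeroLocus (R := A) (Ideal.span {a | a ∈ fs} : Set A) := hx
    rw [PrimeSpectrum.mem_zeroLocus] at hx'
    exact hi (hx' (Ideal.subset_span (List.get_mem fs i.down)))
  · intro hx
    have hx' : ¬ ((show PrimeSpectrum A from x) ∈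
        PrimeSpectrum.zeroLocus (R := A) (Ideal.span {a | a ∈ fs} : Set A)) := hx
    rw [PrimeSpectrum.mem_zeroLocus, SetLike.coe_subset_coe, Ideal.span_le] at hx'
    obtain ⟨a, ha, hax⟩ := Set.not_subset.1 hx'
    obtain ⟨i, hi⟩ := List.mem_iff_get.1 ha
    refine ⟨⟨i⟩, ?_⟩
    change fs.get i ∉ (show PrimeSpectrum A from x).asIdeal
    rw [hi]
    exact hax

theorem tilde_eq {R A : Type u} [CommRing R] [CommRing A]
    [Algebra R A] (𝒜 : ℕ → Submodule R A) [GradedAlgebra 𝒜] {M : Type u} [AddCommGroup M] [Module R M]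
    [Module A M] [IsScalarTower R A M] (ℳ : ℕ → Submodule R M) [SetLike.GradedSMul 𝒜 ℳ] (n : ℤ) :
    GrTilde.tilde 𝒜 ℳ n = GrMod.tilde 𝒜 ℳ n := rfl

theorem transport {X : Scheme.{u}} (F G : ℤ → X.Modules) (h : F = G) (U : X.Opens) (p : ℕ)
    (D : Type u) [AddCommGroup D]
    (e : Nonempty (DirectSum ℤ (fun n : ℤ => Coh.HHon X (G n) U p) ≃+ D)) :
    Nonempty (DirectSum ℤ (fun n : ℤ => Coh.HHon X (F n) U p) ≃+ D) := by
  subst h
  exact e

theorem main {R A : Type u} [CommRing R] [CommRing A]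
    [Algebra R A] (𝒜 : ℕ → Submodule R A) [GradedAlgebra 𝒜] (fs : List A)
    (hfs : ∀ a ∈ fs, ∃ d : ℕ, 0 < d ∧ a ∈ 𝒜 d) {M : Type u} [AddCommGroup M] [Module R M] [Module A M]
    [IsScalarTower R A M] (ℳ : ℕ → Submodule R M) [DirectSum.Decomposition ℳ] [SetLike.GradedSMul 𝒜 ℳ]
    (p : ℕ) (hp : 1 ≤ p) :
    Nonempty (DirectSum ℤ (fun n : ℤ => Coh.HHon (Proj 𝒜) (GrMod.tilde 𝒜 ℳ n)
        (⨆ i : Fin fs.length, Proj.basicOpen 𝒜 (fs.get i)) p) ≃+
      CohIII.koszulHLim fs (ModuleCat.of A M) (p + 1)) := by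
  have hex : ∀ i : Fin fs.length, ∃ d : ℕ, 0 < d ∧ fs.get i ∈ 𝒜 d :=
    fun i => hfs _ (List.get_mem fs i)
  choose dg hdg using hex
  obtain ⟨e⟩ := projSpec (CommRingCat.of A) 𝒜 (ModuleCat.of A M) ℳ fs dg hdg p
  have e5 := HUcongr (X := (Spec (CommRingCat.of A)).toTopCat)
    (Coh.toAb (tilde (R := CommRingCat.of A) (ModuleCat.of A M))) p (iSup_VS fs)
  obtain ⟨e6⟩ := HUEquiv A fs (ModuleCat.of A M) p hp
  exact ⟨(e.trans e5).trans e6⟩

end Helpers

open AlgebraicGeometry CategoryTheory in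

open AlgebraicGeometry CategoryTheory in
/-- For a graded module concentrated in nonnegative degrees. Let S be a nonnegatively graded ring, f_1,
…, f_r homogeneous elements of S of positive degrees, M a graded S-module, X = Proj S and U ⊆ X the
union of the opens D_+(f_i). Then for every p ≥ 1 the direct sum over all integers n of the groups
H^p(U, M(n)~|_U) is isomorphic, as an additive group, to the direct-limit Koszul cohomology
H^(p+1)((f), M), the colimit over m of the Koszul cohomologies H^(p+1)(f^m, M) of M as an S-module.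
(The source's isomorphism is canonical and of degree 0 for the gradings; only the existence of an
additive isomorphism is asserted.) -/
theorem result {R A : Type u} [CommRing R] [CommRing A]
    [Algebra R A] (𝒜 : ℕ → Submodule R A) [GradedAlgebra 𝒜] (fs : List A)
    (hfs : ∀ a ∈ fs, ∃ d : ℕ, 0 < d ∧ a ∈ 𝒜 d) {M : Type u} [AddCommGroup M] [Module R M] [Module A M]
    [IsScalarTower R A M] (ℳ : ℕ → Submodule R M) [DirectSum.Decomposition ℳ] [SetLike.GradedSMul 𝒜 ℳ]
    (p : ℕ) (hp : 1 ≤ p) :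
    Nonempty (DirectSum ℤ (fun n : ℤ => Coh.HHon (Proj 𝒜) (GrTilde.tilde 𝒜 ℳ n)
        (⨆ i : Fin fs.length, Proj.basicOpen 𝒜 (fs.get i)) p) ≃+
      CohIII.koszulHLim fs (ModuleCat.of A M) (p + 1)) := by
  exact transport (fun n => GrTilde.tilde 𝒜 ℳ n) (fun n => GrMod.tilde 𝒜 ℳ n)
    (funext fun n => tilde_eq 𝒜 ℳ n) _ p _ (main 𝒜 fs hfs ℳ p hp)

end Groth.Agent.S4479
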