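import Groth.Statements.S4481
import Groth.Agent.Lib.Helper98.CechUnit

set_option autoImplicit false
universe u
open Coherent

namespace Groth.Agent.S4481

open AlgebraicGeometry CategoryTheory Opposite
open Groth.Agent.Lib.Helper98.CechUnit

section Helpers

end Helpers


open AlgebraicGeometry CategoryTheory Opposite in
/-- Let X be a separated scheme, f_1, …, f_n global functions on X such that every open X_{f_i} is
quasi-compact, U the union of the X_{f_i}, and suppose there are sections g_1, …, g_n of O_X over U
with Σ g_i · (f_i|_U) = 1. Then for every quasi-coherent O_X-module G and every p > 0 the Čech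
cohomology group of G in degree p with respect to the family of opens (X_{f_i}) is zero. (The
published statement also covers a scheme whose underlying space is Noetherian, not necessarily
separated; this row treats separated X.) -/
theorem result (X : Scheme.{u}) [X.IsSeparated] (n : ℕ)
    (f : Fin n → Γ(X, ⊤)) (hqc : ∀ i, IsCompact (X.basicOpen (f i) : Set X))
    (g : Fin n → Γ(X, ⨆ i, X.basicOpen (f i)))
    (hg : (Finset.univ.sum fun i => g i *
      (X.presheaf.map (homOfLE (le_top : (⨆ i, X.basicOpen (f i)) ≤ ⊤)).op).hom (f i)) = 1)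
    (G : X.Modules) [Coh.IsQCoh G] (p : ℕ) (hp : 0 < p) :
    Limits.IsZero (CohB1.cechH (fun i : ULift.{u} (Fin n) => X.basicOpen (f i.down)) G p) := by
  obtain ⟨q, rfl⟩ : ∃ q, p = q + 1 := ⟨p - 1, by omega⟩
  set U : X.Opens := ⨆ i, X.basicOpen (f i) with hU
  have hUc : IsCompact (U : Set X) := by
    rw [hU, TopologicalSpace.Opens.coe_iSup]
    exact isCompact_iUnion hqc
  let a : Fin n → Γ(X, U) := fun i =>
    (X.presheaf.map (homOfLE (le_top : U ≤ ⊤)).op).hom (f i)
  let fs' : List Γ(U.toScheme, ⊤) := List.ofFn (fun i => U.topIso.inv.hom (a i))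
  have hlen : fs'.length = n := List.length_ofFn
  have hget : ∀ j : Fin fs'.length, fs'.get j = U.topIso.inv.hom (a (Fin.cast hlen j)) := by
    intro j
    exact List.get_ofFn _ j
  have hspan : Ideal.span {x | x ∈ fs'} = ⊤ := by
    rw [Ideal.eq_top_iff_one]
    have h1 := congrArg U.topIso.inv.hom hg
    rw [map_sum, map_one] at h1
    rw [← h1]
    refine Ideal.sum_mem _ fun i _ => ?_
    rw [map_mul]
    refine Ideal.mul_mem_left _ _ (Ideal.subset_span ?_)
    exact (List.mem_ofFn' _ _).mpr ⟨i, rfl⟩
  refine isZero_cechH_cast G hlen _ (q + 1) ?_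
  refine key U hUc fs' _ ?_ hspan G q
  intro j
  rw [hget j.down]
  refine (Scheme.Opens.ι_image_basicOpen_topIso_inv U (a (Fin.cast hlen j.down))).trans ?_
  refine (Scheme.basicOpen_res X (f (Fin.cast hlen j.down)) (homOfLE (le_top : U ≤ ⊤)).op).trans ?_
  exact inf_eq_right.mpr (le_iSup (fun i => X.basicOpen (f i)) (Fin.cast hlen j.down))

end Groth.Agent.S4481
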