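import Groth.Statements.S4486
import Groth.Agent.Lib.Helper75.FlatCx26

set_option autoImplicit false
universe u
open FlatCx

namespace Groth.Agent.S4486

open CategoryTheory CategoryTheory.Limits in
/-- For the homological functor T_p(M) = H_p(P ⊗_A M) of a chain complex P of flat modules over a
commutative ring A, which commutes with filtered colimits. Let A be a domain and suppose P_i = 0 for
i < i₀ and that every T_n(A) is a finitely presented A-module. Then for every integer N there is a
nonzero f ∈ A such that, for every p ≤ N, the functor of A_f-modules N ↦ H_p(P_f ⊗_{A_f} N), where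
P_f = P ⊗_A A_f, takes injections to injections and surjections to surjections. -/
theorem result {A : Type u} [CommRing A] [IsDomain A]
    (P : ChainComplex (ModuleCat.{u} A) ℤ) (hP : ∀ i, Module.Flat A (P.X i)) (i₀ : ℤ)
    (hb : ∀ i < i₀, IsZero (P.X i))
    (hfp : ∀ n : ℤ, Module.FinitePresentation A (CohIII.T P n (ModuleCat.of A A))) (N : ℤ) :
    ∃ f : A, f ≠ 0 ∧ ∀ p ≤ N,
      (CohIII.TFun (CohIII.bcCx (algebraMap A (Localization.Away f)) P) p).PreservesMonomorphisms ∧
        (CohIII.TFun (CohIII.bcCx (algebraMap A (Localization.Away f)) P) p).PreservesEpimorphisms := by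
  have hfp' : ∀ q, Module.FinitePresentation A (P.homology q) := by
    intro q
    obtain ⟨e⟩ := Groth.Agent.Lib.Helper75.FlatCx.nonempty_T_self_equiv_homology P q (q - 1)
      (by simp)
    have := hfp q
    exact Module.FinitePresentation.of_equiv e
  obtain ⟨f, hf0, hf⟩ :=
    Groth.Agent.Lib.Helper75.FlatCx.exists_ne_zero_basicOpen_subset_freeLocus_homology P i₀ hb N hfp'
  exact ⟨f, hf0, Groth.Agent.Lib.Helper75.FlatCx.exact_bcCx_away_of_subset_freeLocus P hP i₀ hb N
    (fun q _ => hfp' q) f hf⟩

end Groth.Agent.S4486
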