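import Groth.Statements.S4488
import Groth.Agent.Lib.Helper75.FlatCx17

set_option autoImplicit false
universe u
open FlatCx

namespace Groth.Agent.S4488

open CategoryTheory CategoryTheory.Limits in
/-- For the homological functor T_q(M) = H_q(P ⊗_A M) of a chain complex P of flat modules over a
commutative local ring A with residue field k. Suppose P_i = 0 for i < i₀ and that every T_n(A) is a
finitely presented A-module, and let p be an integer. If T_q takes injections to injections and
surjections to surjections for every q ≤ p, then dim_{k(x)} T_q(k(x)) = dim_k T_q(k) for every point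
x of Spec A and every q ≤ p. Conversely, if A is reduced and this equality holds at the generic
point of every irreducible component of Spec A (every minimal prime) for every q ≤ p, then T_q takes
injections to injections and surjections to surjections for every q ≤ p. No Noetherian hypothesis on
A. -/
theorem result {A : Type u} [CommRing A] [IsLocalRing A]
    (P : ChainComplex (ModuleCat.{u} A) ℤ) (hP : ∀ i, Module.Flat A (P.X i)) (i₀ : ℤ)
    (hb : ∀ i < i₀, IsZero (P.X i))
    (hfp : ∀ n : ℤ, Module.FinitePresentation A (CohIII.T P n (ModuleCat.of A A))) (p : ℤ) :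
    ((∀ q ≤ p, (CohIII.TFun P q).PreservesMonomorphisms ∧ (CohIII.TFun P q).PreservesEpimorphisms) →
        ∀ (x : PrimeSpectrum A), ∀ q ≤ p, CohIII.dRank P q x = CohIII.dRank P q (IsLocalRing.closedPoint A)) ∧
      (IsReduced A →
        (∀ x : PrimeSpectrum A, x.asIdeal ∈ minimalPrimes A →
          ∀ q ≤ p, CohIII.dRank P q x = CohIII.dRank P q (IsLocalRing.closedPoint A)) →
        ∀ q ≤ p, (CohIII.TFun P q).PreservesMonomorphisms ∧ (CohIII.TFun P q).PreservesEpimorphisms) := by
  have hle : ∀ x : PrimeSpectrum A, x ≤ IsLocalRing.closedPoint A :=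
    fun x => IsLocalRing.le_maximalIdeal x.2.ne_top
  constructor
  · intro h x q hq
    have hd := Groth.Agent.Lib.Helper75.FlatCx.isLocallyConstant_dRank_of_exact_of_fp P q hP (q - 1) (by simp)
      (h q hq).1 (h q hq).2 (hfp q)
    exact Groth.Agent.Lib.Helper75.FlatCx.eq_of_le_of_eventually (hle x) ((hd.isOpen_fiber _).mem_nhds rfl)
  · intro hred h
    have key : ∀ n : ℕ, ∀ q, q ≤ p → q < i₀ + n →
        (CohIII.TFun P q).PreservesMonomorphisms ∧ (CohIII.TFun P q).PreservesEpimorphisms := by
      intro n
      induction n with
      | zero =>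
        intro q _ hq0
        apply Groth.Agent.Lib.Helper75.FlatCx.preserves_of_isZero
        intro M
        exact Groth.Agent.Lib.Helper75.FlatCx.isZero_T_of_isZero P q (hb q (by simpa using hq0)) M
      | succ n ih =>
        intro q hqp hq
        by_cases hlt : q < i₀ + n
        · exact ih q hqp hlt
        · have h1 := (ih (q - 1) (by omega) (by push_cast at hq; omega)).1
          have h2 : Module.Flat A (P.opcycles (q - 1)) :=
            (Groth.Agent.Lib.Helper75.FlatCx.preservesMono_iff_flat_opcycles P (q - 1) hP (q - 1 - 1) (by simp)).mp h1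
          have h3 : (CohIII.TFun P q).PreservesEpimorphisms :=
            (Groth.Agent.Lib.Helper75.FlatCx.preservesEpi_iff_flat_opcycles P q hP (q - 1) (by simp)).mpr h2
          refine ⟨?_, h3⟩
          apply Groth.Agent.Lib.Helper75.FlatCx.preservesMono_of_preservesEpi_of_flat P q hP (q - 1) (by simp) h3
          have hfp' := hfp q
          have hfin : Module.Finite A (CohIII.T P q (ModuleCat.of A A)) := inferInstance
          have hd : ∀ x, CohIII.dRank P q x =
              Groth.Agent.Lib.Helper75.FlatCx.fRank (CohIII.T P q (ModuleCat.of A A)) x :=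
            fun x => Groth.Agent.Lib.Helper75.FlatCx.dRank_eq_fRank_T P q hP (q - 1) (by simp) h3 x
          have hall : ∀ x : PrimeSpectrum A,
              Groth.Agent.Lib.Helper75.FlatCx.fRank (CohIII.T P q (ModuleCat.of A A)) x =
              Groth.Agent.Lib.Helper75.FlatCx.fRank (CohIII.T P q (ModuleCat.of A A)) (IsLocalRing.closedPoint A) := by
            intro x
            obtain ⟨q₀, hq₀, hq₀le⟩ :=
              Ideal.exists_minimalPrimes_le (bot_le : (⊥ : Ideal A) ≤ x.asIdeal)
            let q₀' : PrimeSpectrum A := ⟨q₀, hq₀.1.1⟩
            have hq₀x : q₀' ≤ x := hq₀le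
            have e1 := h q₀' hq₀ q hqp
            rw [hd, hd] at e1
            have e2 := Groth.Agent.Lib.Helper75.FlatCx.fRank_le_of_le (W := CohIII.T P q (ModuleCat.of A A)) hq₀x
            have e3 := Groth.Agent.Lib.Helper75.FlatCx.fRank_le_of_le (W := CohIII.T P q (ModuleCat.of A A)) (hle x)
            omega
          exact @Groth.Agent.Lib.Helper75.FlatCx.flat_of_fRank_const A _
            (CohIII.T P q (ModuleCat.of A A)) _ _ hfin hred
            (fun x y _ => (hall x).trans (hall y).symm)
    intro q hq
    by_cases hlt : q < i₀
    · exact key 0 q hq (by simpa using hlt)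
    · exact key (q - i₀ + 1).toNat q hq (by omega)

end Groth.Agent.S4488
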