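import Groth.Statements.S4495
-- import your own Groth.Agent.* helpers here

set_option autoImplicit false
universe u
open FlatCx

namespace Groth.Agent.S4495

open CategoryTheory AlgebraicGeometry Opposite TopologicalSpace in
theorem forward (Z : LocallyRingedSpace.{u}) [PreconnectedSpace Z]
    (e : Z.presheaf.obj (op ⊤)) (he : IsIdempotentElem e) : e = 0 ∨ e = 1 := by
  have hgerm : ∀ x : Z, IsIdempotentElem (Z.presheaf.Γgerm x e) := by
    intro x
    have := congrArg (Z.presheaf.Γgerm x) he.eq
    rw [map_mul] at this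
    exact this
  have hunit1 : ∀ x : Z, IsUnit (Z.presheaf.Γgerm x e) → Z.presheaf.Γgerm x e = 1 := by
    intro x hu
    exact (IsIdempotentElem.iff_eq_one_of_isUnit hu).mp (hgerm x)
  have hunit0 : ∀ x : Z, ¬ IsUnit (Z.presheaf.Γgerm x e) → Z.presheaf.Γgerm x e = 0 := by
    intro x hu
    have h1 : IsUnit (1 - Z.presheaf.Γgerm x e) :=
      (IsLocalRing.isUnit_or_isUnit_one_sub_self _).resolve_left hu
    have h2 : IsIdempotentElem (1 - Z.presheaf.Γgerm x e) := (hgerm x).one_sub
    have h3 := (IsIdempotentElem.iff_eq_one_of_isUnit h1).mp h2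
    exact sub_eq_self.mp h3
  have hclopen : IsClopen (SetLike.coe (Z.toRingedSpace.basicOpen e) : Set Z) := by
    refine ⟨?_, (Z.toRingedSpace.basicOpen e).isOpen⟩
    have hcompl : (SetLike.coe (Z.toRingedSpace.basicOpen e) : Set Z)ᶜ =
        (SetLike.coe (Z.toRingedSpace.basicOpen (1 - e)) : Set Z) := by
      ext x
      simp only [Set.mem_compl_iff, SetLike.mem_coe]
      rw [Z.toRingedSpace.mem_top_basicOpen, Z.toRingedSpace.mem_top_basicOpen, map_sub, map_one]
      constructor
      · intro h
        exact (IsLocalRing.isUnit_or_isUnit_one_sub_self _).resolve_left h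
      · intro h hu
        rw [hunit1 x hu, sub_self] at h
        exact not_isUnit_zero h
    rw [← isOpen_compl_iff, hcompl]
    exact (Z.toRingedSpace.basicOpen (1 - e)).isOpen
  rcases isClopen_iff.mp hclopen with h | h
  · left
    apply TopCat.Presheaf.section_ext Z.sheaf ⊤
    intro x hx
    have hx' : x ∉ (SetLike.coe (Z.toRingedSpace.basicOpen e) : Set Z) := by rw [h]; exact fun h => h
    rw [SetLike.mem_coe, Z.toRingedSpace.mem_top_basicOpen] at hx'
    have := hunit0 x hx'
    change Z.presheaf.Γgerm x e = Z.presheaf.Γgerm x 0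
    rw [map_zero]
    exact this
  · right
    apply TopCat.Presheaf.section_ext Z.sheaf ⊤
    intro x hx
    have hx' : x ∈ (SetLike.coe (Z.toRingedSpace.basicOpen e) : Set Z) := by rw [h]; trivial
    rw [SetLike.mem_coe, Z.toRingedSpace.mem_top_basicOpen] at hx'
    have := hunit1 x hx'
    change Z.presheaf.Γgerm x e = Z.presheaf.Γgerm x 1
    rw [map_one]
    exact this

open CategoryTheory AlgebraicGeometry Opposite TopologicalSpace in
theorem backward (Z : LocallyRingedSpace.{u})
    (h : ∀ e : Z.presheaf.obj (op ⊤), IsIdempotentElem e → e = 0 ∨ e = 1) :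
    PreconnectedSpace Z := by
  rw [preconnectedSpace_iff_clopen]
  intro s hs
  let U : Opens Z := ⟨s, hs.2⟩
  let V : Opens Z := ⟨sᶜ, hs.1.isOpen_compl⟩
  let cover : Bool → Opens Z := fun b => if b then U else V
  let sf : ∀ b, Z.presheaf.obj (op (cover b)) := fun b => if b then 1 else 0
  have hdisj : ∀ i j : Bool, i ≠ j → cover i ⊓ cover j = ⊥ := by
    intro i j hij
    ext x
    cases i <;> cases j <;> simp_all [cover, U, V]
  have hcompat : TopCat.Presheaf.IsCompatible Z.presheaf cover sf := by
    intro i j
    by_cases hij : i = j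
    · subst hij
      rfl
    · have : Subsingleton (Z.presheaf.obj (op (cover i ⊓ cover j))) :=
        CommRingCat.subsingleton_of_isTerminal (Z.sheaf.isTerminalOfEqEmpty (hdisj i j hij))
      exact Subsingleton.elim _ _
  have hcover : (⊤ : Opens Z) ≤ iSup cover := by
    intro x _
    simp only [Opens.mem_iSup]
    by_cases hx : x ∈ s
    · exact ⟨true, hx⟩
    · exact ⟨false, hx⟩
  obtain ⟨e, he, -⟩ : ∃! e : Z.presheaf.obj (op ⊤),
      ∀ b : Bool, Z.presheaf.map (homOfLE le_top : cover b ⟶ ⊤).op e = sf b :=
    Z.sheaf.existsUnique_gluing' cover ⊤ (fun b => homOfLE le_top) hcover sf hcompat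
  have hidem : IsIdempotentElem e := by
    apply Z.sheaf.eq_of_locally_eq' cover ⊤ (fun b => homOfLE le_top) hcover
    intro b
    change Z.presheaf.map (homOfLE le_top : cover b ⟶ ⊤).op (e * e) =
      Z.presheaf.map (homOfLE le_top : cover b ⟶ ⊤).op e
    rw [map_mul, he b]
    cases b <;> simp [sf]
  rcases h e hidem with h0 | h1
  · left
    by_contra hne
    obtain ⟨x, hx⟩ := Set.nonempty_iff_ne_empty.mpr hne
    have hnt : Nontrivial (Z.presheaf.obj (op (cover true))) :=
      @LocallyRingedSpace.component_nontrivial Z (cover true) ⟨⟨x, hx⟩⟩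
    have h2 : Z.presheaf.map (homOfLE le_top : cover true ⟶ ⊤).op e = 1 := by
      rw [he true]; simp [sf]
    have h3 : Z.presheaf.map (homOfLE le_top : cover true ⟶ ⊤).op e = 0 := by
      rw [show e = (0 : Z.presheaf.obj (op ⊤)) from h0, map_zero]
    rw [h3] at h2
    exact zero_ne_one h2
  · right
    by_contra hne
    obtain ⟨x, hx⟩ := (Set.ne_univ_iff_exists_notMem s).mp hne
    have hnt : Nontrivial (Z.presheaf.obj (op (cover false))) :=
      @LocallyRingedSpace.component_nontrivial Z (cover false) ⟨⟨x, hx⟩⟩
    have h2 : Z.presheaf.map (homOfLE le_top : cover false ⟶ ⊤).op e = 0 := by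
      rw [he false]; simp [sf]
    have h3 : Z.presheaf.map (homOfLE le_top : cover false ⟶ ⊤).op e = 1 := by
      rw [show e = (1 : Z.presheaf.obj (op ⊤)) from h1, map_one]
    rw [h3] at h2
    exact one_ne_zero h2

open CategoryTheory AlgebraicGeometry Opposite in
/-- A locally ringed space Z is connected, in the sense that it is not the disjoint union of two
nonempty open subsets (the empty space being allowed), if and only if every idempotent of the ring
of global sections Γ(Z, O_Z) is 0 or 1 (equivalently, Γ(Z, O_Z) is not isomorphic to a product of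
two nonzero rings). -/
theorem result (Z : LocallyRingedSpace.{u}) :
    PreconnectedSpace Z ↔
      ∀ e : Z.presheaf.obj (op ⊤), IsIdempotentElem e → e = 0 ∨ e = 1 := by
  constructor
  · intro h e he
    exact forward Z e he
  · exact backward Z

end Groth.Agent.S4495
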