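import Groth.Statements.S4501
import Groth.Agent.Lib.Helper75.FlatCx16

set_option autoImplicit false
universe u
open FlatCx

namespace Groth.Agent.S4501

open CategoryTheory CategoryTheory.Limits in
/-- The case of finitely generated flat terms. Let A be a Noetherian domain, P a chain complex of
finitely generated flat A-modules, and for a prime y of A let P_y be the base change of P to the
local ring A_y. Then the set U of points y of Spec A such that the functor N ↦ H_p(P_y ⊗_{A_y} N) on
A_y-modules takes injections to injections and surjections to surjections is open and nonempty (it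
contains the generic point). -/
theorem result {A : Type u} [CommRing A] [IsNoetherianRing A] [IsDomain A]
    (P : ChainComplex (ModuleCat.{u} A) ℤ) (hP : ∀ i, Module.Finite A (P.X i) ∧ Module.Flat A (P.X i))
    (p : ℤ) :
    IsOpen {y : PrimeSpectrum A |
        (CohIII.TFun (CohIII.bcCx (algebraMap A (Localization.AtPrime y.asIdeal)) P) p).PreservesMonomorphisms ∧
          (CohIII.TFun (CohIII.bcCx (algebraMap A (Localization.AtPrime y.asIdeal)) P) p).PreservesEpimorphisms} ∧
      {y : PrimeSpectrum A |
        (CohIII.TFun (CohIII.bcCx (algebraMap A (Localization.AtPrime y.asIdeal)) P) p).PreservesMonomorphisms ∧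
          (CohIII.TFun (CohIII.bcCx (algebraMap A (Localization.AtPrime y.asIdeal)) P) p).PreservesEpimorphisms}.Nonempty := by
  have := (hP (p - 1)).1
  have := (hP p).1
  have hfp1 : Module.FinitePresentation A (P.opcycles (p - 1)) :=
    Module.finitePresentation_of_finite A _
  have hfp2 : Module.FinitePresentation A (P.opcycles p) :=
    Module.finitePresentation_of_finite A _
  have hset : {y : PrimeSpectrum A |
        (CohIII.TFun (CohIII.bcCx (algebraMap A (Localization.AtPrime y.asIdeal)) P) p).PreservesMonomorphisms ∧
          (CohIII.TFun (CohIII.bcCx (algebraMap A (Localization.AtPrime y.asIdeal)) P) p).PreservesEpimorphisms} =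
      Module.freeLocus A (P.opcycles p) ∩ Module.freeLocus A (P.opcycles (p - 1)) := by
    ext y
    exact and_congr (Groth.Agent.Lib.Helper75.FlatCx.preservesMono_bcCx_atPrime_iff P p hP (p - 1) (by simp) y)
      (Groth.Agent.Lib.Helper75.FlatCx.preservesEpi_bcCx_atPrime_iff P p hP (p - 1) (by simp) y)
  rw [hset]
  refine ⟨Module.isOpen_freeLocus.inter Module.isOpen_freeLocus, ?_⟩
  -- the generic point lies in both free loci
  let η : PrimeSpectrum A := ⟨⊥, Ideal.isPrime_bot⟩
  have hfr : IsFractionRing A (Localization.AtPrime (⊥ : Ideal A)) := by
    simpa [Ideal.primeCompl_bot] using Localization.isLocalization (M := (⊥ : Ideal A).primeCompl)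
  let _ : Field (Localization.AtPrime (⊥ : Ideal A)) := IsFractionRing.toField A
  refine ⟨η, ?_, ?_⟩
  · rw [Module.mem_freeLocus]
    exact Module.Free.of_divisionRing _ _
  · rw [Module.mem_freeLocus]
    exact Module.Free.of_divisionRing _ _

end Groth.Agent.S4501
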