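import Groth.Statements.S4511
-- import your own Groth.Agent.* helpers here
import Groth.Agent.Lib.Helper49.CoeffFieldPS

set_option autoImplicit false
universe u
open EGA41

namespace Groth.Agent.S4511

open Groth.Agent.Lib.Helper49.CoeffField

open IsLocalRing in
theorem main (A : Type u) [CommRing A] [IsLocalRing A] [IsNoetherianRing A]
    [IsAdicComplete (maximalIdeal A) A] (p : ℕ) [CharP (ResidueField A) p] (hp : (p : A) = 0) :
    ∃ (K : Type u) (_ : Field K) (n : ℕ) (f : MvPowerSeries (Fin n) K →+* A),
      Function.Surjective f ∧ RingHom.ker f ≤ maximalIdeal (MvPowerSeries (Fin n) K) ^ 2 := by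
  obtain ⟨σ, hσ⟩ := exists_section p hp
  letI : Algebra (ResidueField A) A := σ.toAlgebra
  have hR : Function.Surjective ((residue A).comp (algebraMap (ResidueField A) A)) :=
    fun x => ⟨x, hσ x⟩
  obtain ⟨d, ψ, -, h1, h2, -⟩ := exists_presentation (K := ResidueField A) (A := A) hR
  exact ⟨ResidueField A, inferInstance, d, ψ.toRingHom, h1, h2⟩

open IsLocalRing in
/-- Let A be a complete Noetherian local ring whose residue field has characteristic p (p = 0 allowed).
The following are equivalent: (a) A contains a field, i.e. there is a ring homomorphism from a field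
into A; (b) p·1 = 0 in A; (c) A is isomorphic to a quotient of a power series ring K[[T_1, …, T_n]]
over a field K. Moreover, when they hold, the surjection in (c) may be chosen with kernel contained
in the square of the maximal ideal of K[[T_1, …, T_n]]. -/
theorem result (A : Type u) [CommRing A] [IsLocalRing A] [IsNoetherianRing A]
    [IsAdicComplete (maximalIdeal A) A] (p : ℕ) [CharP (ResidueField A) p] :
    [∃ (K : Type u) (_ : Field K), Nonempty (K →+* A),
     (p : A) = 0,
     ∃ (K : Type u) (_ : Field K) (n : ℕ) (f : MvPowerSeries (Fin n) K →+* A), Function.Surjective f].TFAE ∧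
    ((p : A) = 0 → ∃ (K : Type u) (_ : Field K) (n : ℕ) (f : MvPowerSeries (Fin n) K →+* A),
      Function.Surjective f ∧ RingHom.ker f ≤ maximalIdeal (MvPowerSeries (Fin n) K) ^ 2) := by
  refine ⟨?_, main A p⟩
  tfae_have 1 → 2 := by
    rintro ⟨K, hK, ⟨φ⟩⟩
    letI := hK
    have hinj : Function.Injective ((residue A).comp φ) := RingHom.injective _
    have hc : CharP K p := RingHom.charP _ hinj p
    have h1 : (p : K) = 0 := hc.cast_eq_zero
    have h2 := congrArg φ h1
    rwa [map_natCast, map_zero] at h2
  tfae_have 2 → 3 := by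
    intro hp
    obtain ⟨K, hK, n, f, hf, -⟩ := main A p hp
    exact ⟨K, hK, n, f, hf⟩
  tfae_have 3 → 1 := by
    rintro ⟨K, hK, n, f, -⟩
    exact ⟨K, hK, ⟨f.comp (MvPowerSeries.C (σ := Fin n) (R := K))⟩⟩
  tfae_finish

end Groth.Agent.S4511
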