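import Groth.Statements.S4513
-- import your own Groth.Agent.* helpers here
import Groth.Agent.Lib.Helper49.MacLane2
import Mathlib.Algebra.TrivSqZeroExt.Basic
import Mathlib.RingTheory.LocalRing.ResidueField.Basic
import Mathlib.RingTheory.Ideal.Quotient.Operations

set_option autoImplicit false
universe u
open EGA41

namespace Groth.Agent.S4513

open IsLocalRing Groth.Agent.Lib.Helper49.MacLane

section Twist

variable {k κ : Type u} [Field k] [Field κ] [Algebra k κ]

def twist (D : Derivation ℤ k κ) : k →+* TrivSqZeroExt κ κ where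
  toFun a := TrivSqZeroExt.inl (algebraMap k κ a) + TrivSqZeroExt.inr (D a)
  map_one' := by
    ext <;> simp
  map_mul' a b := by
    ext
    · simp only [TrivSqZeroExt.fst_add, TrivSqZeroExt.fst_inl, TrivSqZeroExt.fst_inr,
        TrivSqZeroExt.fst_mul, add_zero, map_mul]
    · simp only [TrivSqZeroExt.snd_add, TrivSqZeroExt.snd_inl, TrivSqZeroExt.snd_inr,
        TrivSqZeroExt.snd_mul, TrivSqZeroExt.fst_add, TrivSqZeroExt.fst_inl,
        TrivSqZeroExt.fst_inr, zero_add, add_zero, smul_eq_mul, MulOpposite.smul_eq_mul_unop,
        MulOpposite.unop_op, Derivation.leibniz, Algebra.smul_def]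
      ring
  map_zero' := by
    ext <;> simp
  map_add' a b := by
    ext
    · simp only [TrivSqZeroExt.fst_add, TrivSqZeroExt.fst_inl, TrivSqZeroExt.fst_inr,
        add_zero, map_add]
    · simp only [TrivSqZeroExt.snd_add, TrivSqZeroExt.snd_inl, TrivSqZeroExt.snd_inr,
        zero_add, map_add]

theorem fst_twist (D : Derivation ℤ k κ) (a : k) : (twist D a).fst = algebraMap k κ a := by
  simp [twist]

theorem snd_twist (D : Derivation ℤ k κ) (a : k) : (twist D a).snd = D a := by
  simp [twist]

end Twist

section Main

theorem ker_fst_sq (R : Type u) [CommRing R] :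
    (RingHom.ker (TrivSqZeroExt.fstHom R R R).toRingHom) ^ 2 = ⊥ := by
  rw [pow_two, eq_bot_iff, Ideal.mul_le]
  intro x hx y hy
  have hx0 : x.fst = 0 := hx
  have hy0 : y.fst = 0 := hy
  rw [Ideal.mem_bot]
  ext
  · rw [TrivSqZeroExt.fst_mul, hx0, zero_mul, TrivSqZeroExt.fst_zero]
  · rw [TrivSqZeroExt.snd_mul, hx0, hy0, zero_smul, MulOpposite.op_zero, zero_smul, add_zero,
      TrivSqZeroExt.snd_zero]

variable {k A : Type u} [Field k] [CommRing A] [IsLocalRing A] [Algebra k A]

theorem exists_extension (h : CAlgX.IsAdicFormallySmooth k A (maximalIdeal A))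
    (D : Derivation ℤ k (ResidueField A)) :
    ∃ δ : A → ResidueField A, (∀ x y, δ (x + y) = δ x + δ y) ∧
      (∀ x y, δ (x * y) = residue A x * δ y + residue A y * δ x) ∧
      ∀ a : k, δ (algebraMap k A a) = D a := by
  let _ : Algebra k (TrivSqZeroExt (ResidueField A) (ResidueField A)) := (twist D).toAlgebra
  let fstH : TrivSqZeroExt (ResidueField A) (ResidueField A) →+* ResidueField A :=
    (TrivSqZeroExt.fstHom (ResidueField A) (ResidueField A) (ResidueField A)).toRingHom
  have hsurj : Function.Surjective fstH := fun x =>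
    ⟨(TrivSqZeroExt.inl x : TrivSqZeroExt (ResidueField A) (ResidueField A)),
      TrivSqZeroExt.fst_inl (ResidueField A) x⟩
  have hJ : (RingHom.ker fstH) ^ 2 = ⊥ := ker_fst_sq (ResidueField A)
  let e : TrivSqZeroExt (ResidueField A) (ResidueField A) ⧸ RingHom.ker fstH ≃+* ResidueField A :=
    RingHom.quotientKerEquivOfSurjective hsurj
  have he : ∀ c : TrivSqZeroExt (ResidueField A) (ResidueField A),
      e (Ideal.Quotient.mk (RingHom.ker fstH) c) = c.fst := fun c => rfl
  let ψ : A →ₐ[k] TrivSqZeroExt (ResidueField A) (ResidueField A) ⧸ RingHom.ker fstH :=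
    { toRingHom := e.symm.toRingHom.comp (residue A)
      commutes' := by
        intro a
        change e.symm (residue A (algebraMap k A a)) =
          Ideal.Quotient.mk (RingHom.ker fstH) (twist D a)
        rw [RingEquiv.symm_apply_eq, he, fst_twist]
        rfl }
  have hψ : ∃ n : ℕ, ∀ x ∈ maximalIdeal A ^ n, ψ x = 0 := by
    refine ⟨1, fun x hx => ?_⟩
    rw [pow_one] at hx
    change e.symm (residue A x) = 0
    rw [(residue_eq_zero_iff x).mpr hx, map_zero]
  obtain ⟨χ, hχ⟩ := h _ (RingHom.ker fstH) hJ ψ hψ
  have hfst : ∀ x : A, (χ x).fst = residue A x := by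
    intro x
    have h1 := congrArg (fun w => e (w x)) hχ
    change e (Ideal.Quotient.mk (RingHom.ker fstH) (χ x)) = e (e.symm (residue A x)) at h1
    rw [he, RingEquiv.apply_symm_apply] at h1
    exact h1
  refine ⟨fun x => (χ x).snd, fun x y => ?_, fun x y => ?_, fun a => ?_⟩
  · change (χ (x + y)).snd = _
    rw [map_add, TrivSqZeroExt.snd_add]
  · change (χ (x * y)).snd = _
    rw [map_mul, TrivSqZeroExt.snd_mul, hfst, hfst, smul_eq_mul, MulOpposite.smul_eq_mul_unop,
      MulOpposite.unop_op]
    ring
  · change (χ (algebraMap k A a)).snd = _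
    rw [AlgHom.commutes]
    exact snd_twist D a

theorem main {K : Type u} (h : CAlgX.IsAdicFormallySmooth k A (maximalIdeal A))
    [Field K] [Algebra k K] [Algebra K A] [IsScalarTower k K A] :
    Algebra.IsGeometricallyReduced k K := by
  rw [geomReduced_iff_injective]
  have : IsScalarTower k K (ResidueField A) := inferInstance
  refine injective_mapBaseChange_of_forall_extends (R := ℤ) (κ := ResidueField A) fun D => ?_
  obtain ⟨δ, hadd, hmul, hk⟩ := exists_extension h D
  let f : K →+ ResidueField A :=
    { toFun := fun x => δ (algebraMap K A x)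
      map_zero' := by
        have := hadd 0 0
        rw [add_zero] at this
        rw [map_zero]
        exact (add_eq_left.mp this.symm)
      map_add' := fun x y => by rw [map_add, hadd] }
  refine ⟨Derivation.mk' f.toIntLinearMap fun x y => ?_, fun a => ?_⟩
  · change δ (algebraMap K A (x * y)) = x • δ (algebraMap K A y) + y • δ (algebraMap K A x)
    rw [map_mul, hmul, Algebra.smul_def, Algebra.smul_def]
    rfl
  · change δ (algebraMap K A (algebraMap k K a)) = D a
    rw [← IsScalarTower.algebraMap_apply]
    exact hk a

end Main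



open IsLocalRing in
/-- Let A be a Noetherian local ring and k a field mapping to A such that A is formally smooth over k
for the adic topology of its maximal ideal (k discrete). Then every field K with k → K → A
(compatible ring maps) is a separable extension of k, i.e. K is geometrically reduced over k. -/
theorem result {k A K : Type u} [Field k] [CommRing A]
    [IsLocalRing A] [IsNoetherianRing A] [Algebra k A] (h : CAlgX.IsAdicFormallySmooth k A (maximalIdeal A))
    [Field K] [Algebra k K] [Algebra K A] [IsScalarTower k K A] :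
    Algebra.IsGeometricallyReduced k K := by
  exact main h

end Groth.Agent.S4513
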