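import Groth.Statements.S4515
import Mathlib

set_option autoImplicit false
universe u
open EGA41

namespace Groth.Agent.S4515

theorem approx_step {A : Type u} [CommRing A] (J : Ideal A)
    {M N : Type u} [AddCommGroup M] [Module A M] [AddCommGroup N] [Module A N]
    (u : N →ₗ[A] M)
    (hsurj : ∀ m : M, ∃ n : N, m - u n ∈ (J • ⊤ : Submodule A M)) (k : ℕ) :
    ∀ m ∈ (J ^ k • ⊤ : Submodule A M), ∃ n ∈ (J ^ k • ⊤ : Submodule A N),
      m - u n ∈ (J ^ (k + 1) • ⊤ : Submodule A M) := by
  intro m hm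
  refine Submodule.smul_induction_on hm ?_ ?_
  · intro a ha m₀ _
    obtain ⟨n₀, hn₀⟩ := hsurj m₀
    refine ⟨a • n₀, Submodule.smul_mem_smul ha Submodule.mem_top, ?_⟩
    rw [map_smul, ← smul_sub, pow_succ, mul_smul]
    exact Submodule.smul_mem_smul ha hn₀
  · intro x y hx hy
    obtain ⟨n₁, hn₁, h₁⟩ := hx
    obtain ⟨n₂, hn₂, h₂⟩ := hy
    refine ⟨n₁ + n₂, Submodule.add_mem _ hn₁ hn₂, ?_⟩
    have : x + y - u (n₁ + n₂) = (x - u n₁) + (y - u n₂) := by rw [map_add]; abel
    rw [this]
    exact Submodule.add_mem _ h₁ h₂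

theorem map_mem_pow_smul {A : Type u} [CommRing A] (J : Ideal A)
    {M N : Type u} [AddCommGroup M] [Module A M] [AddCommGroup N] [Module A N]
    (u : N →ₗ[A] M) (k : ℕ) (n : N) (hn : n ∈ (J ^ k • ⊤ : Submodule A N)) :
    u n ∈ (J ^ k • ⊤ : Submodule A M) := by
  have h1 : u n ∈ (J ^ k • ⊤ : Submodule A N).map u := Submodule.mem_map_of_mem hn
  rw [Submodule.map_smul''] at h1
  exact Submodule.smul_mono (le_refl _) le_top h1

theorem surj {A : Type u} [CommRing A] (J : Ideal A)
    {M N : Type u} [AddCommGroup M] [Module A M] [AddCommGroup N] [Module A N]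
    [IsHausdorff J M] [IsPrecomplete J N] (u : N →ₗ[A] M)
    (hsurj : ∀ m : M, ∃ n : N, m - u n ∈ (J • ⊤ : Submodule A M)) :
    Function.Surjective u := by
  intro m
  have step : ∀ (k : ℕ) (n : N), m - u n ∈ (J ^ k • ⊤ : Submodule A M) →
      ∃ n' : N, n' - n ∈ (J ^ k • ⊤ : Submodule A N) ∧
        m - u n' ∈ (J ^ (k + 1) • ⊤ : Submodule A M) := by
    intro k n hn
    obtain ⟨d, hd, hd'⟩ := approx_step J u hsurj k _ hn
    refine ⟨n + d, by simpa using hd, ?_⟩
    have : m - u (n + d) = m - u n - u d := by rw [map_add]; abel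
    rw [this]
    exact hd'
  choose! g hg1 hg2 using step
  let s : (k : ℕ) → {n : N // m - u n ∈ (J ^ k • ⊤ : Submodule A M)} := fun k =>
    Nat.rec ⟨0, by simp⟩ (fun k p => ⟨g k p.1, hg2 k p.1 p.2⟩) k
  have hs : ∀ k, ((s (k + 1)).1 : N) - (s k).1 ∈ (J ^ k • ⊤ : Submodule A N) := by
    intro k
    exact hg1 k (s k).1 (s k).2
  have hcauchy : ∀ {a b : ℕ}, a ≤ b →
      (s a).1 ≡ (s b).1 [SMOD (J ^ a • ⊤ : Submodule A N)] := by
    intro a b hab
    induction b, hab using Nat.le_induction with
    | base => exact SModEq.refl _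
    | succ b hab ih =>
      refine ih.trans ?_
      rw [SModEq.sub_mem]
      have h1 : (J ^ b • ⊤ : Submodule A N) ≤ J ^ a • ⊤ :=
        Submodule.smul_mono (Ideal.pow_le_pow_right hab) le_rfl
      have h2 := h1 (hs b)
      have h3 : ((s b).1 : N) - (s (b + 1)).1 = -((s (b + 1)).1 - (s b).1) := by abel
      rw [h3]
      exact Submodule.neg_mem _ h2
  obtain ⟨L, hL⟩ := IsPrecomplete.prec' (I := J) (fun k => ((s k).1 : N)) hcauchy
  refine ⟨L, ?_⟩
  symm
  rw [IsHausdorff.eq_iff_smodEq (I := J)]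
  intro k
  rw [SModEq.sub_mem]
  have h1 : m - u L = (m - u (s k).1) + u ((s k).1 - L) := by rw [map_sub]; abel
  rw [h1]
  refine Submodule.add_mem _ (s k).2 ?_
  exact map_mem_pow_smul J u k _ (SModEq.sub_mem.mp (hL k))

theorem ker_le_smul_ker {A : Type u} [CommRing A] (J : Ideal A)
    {M N : Type u} [AddCommGroup M] [Module A M] [AddCommGroup N] [Module A N]
    [Module.Flat A M] (u : N →ₗ[A] M) (hu : Function.Surjective u)
    (x : N) (hx : x ∈ (J • ⊤ : Submodule A N)) (hux : u x = 0) :
    x ∈ J • LinearMap.ker u := by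
  classical
  have htop : (⊤ : Submodule A N) = Submodule.span A (Set.range (id : N → N)) := by simp
  rw [htop, Submodule.mem_ideal_smul_span_iff_exists_sum] at hx
  obtain ⟨a, ha, rfl⟩ := hx
  have hsum : ∑ i : a.support, a i • u (i : N) = 0 := by
    rw [Finsupp.sum, map_sum] at hux
    rw [← hux, ← Finset.sum_coe_sort a.support (fun i => u (a i • id i))]
    simp
  obtain ⟨k, b, y, hy, hb⟩ := Module.Flat.isTrivialRelation_of_sum_smul_eq_zero hsum
  choose z hz using fun j => hu (y j)
  have key : (a.sum fun i c => c • id i) =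
      ∑ i : a.support, a i • ((i : N) - ∑ j, b i j • z j) := by
    simp only [smul_sub, Finset.sum_sub_distrib, Finset.smul_sum, smul_smul]
    rw [Finset.sum_comm]
    simp only [← Finset.sum_smul, hb, zero_smul, Finset.sum_const_zero, sub_zero]
    rw [Finsupp.sum, ← Finset.sum_coe_sort a.support (fun i => a i • id i)]
    simp
  rw [key]
  refine Submodule.sum_mem _ fun i _ => Submodule.smul_mem_smul (ha i) ?_
  have hyi : u (i : N) = ∑ j, b i j • y j := hy i
  rw [LinearMap.mem_ker, map_sub, map_sum, hyi, sub_eq_zero]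
  simp [hz]

/-- Let A be a ring, J an ideal of A, and M, N two A-modules which are Hausdorff for the J-adic
topology; suppose moreover that N is J-adically complete and M is flat. Let u : N → M be A-linear.
If the induced map N/JN → M/JM is bijective (surjectivity and injectivity written out below), then u
is bijective. -/
theorem result {A : Type u} [CommRing A] (J : Ideal A)
    {M N : Type u} [AddCommGroup M] [Module A M] [AddCommGroup N] [Module A N]
    [IsHausdorff J M] [IsAdicComplete J N] [Module.Flat A M] (u : N →ₗ[A] M)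
    (hsurj : ∀ m : M, ∃ n : N, m - u n ∈ (J • ⊤ : Submodule A M))
    (hinj : ∀ n : N, u n ∈ (J • ⊤ : Submodule A M) → n ∈ (J • ⊤ : Submodule A N)) :
    Function.Bijective u := by
  have hsurj' : Function.Surjective u := surj J u hsurj
  refine ⟨?_, hsurj'⟩
  rw [← LinearMap.ker_eq_bot, eq_bot_iff]
  have h1 : LinearMap.ker u ≤ J • LinearMap.ker u := by
    intro x hx
    have hux : u x = 0 := hx
    refine ker_le_smul_ker J u hsurj' x (hinj x ?_) hux
    rw [hux]
    exact Submodule.zero_mem _
  have h2 : ∀ k : ℕ, LinearMap.ker u ≤ J ^ k • LinearMap.ker u := by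
    intro k
    induction k with
    | zero => simp
    | succ k ih =>
      calc LinearMap.ker u ≤ J • LinearMap.ker u := h1
        _ ≤ J • (J ^ k • LinearMap.ker u) := Submodule.smul_mono le_rfl ih
        _ = J ^ (k + 1) • LinearMap.ker u := by rw [← mul_smul, ← pow_succ']
  intro x hx
  have h3 : x = 0 := by
    rw [IsHausdorff.eq_iff_smodEq (I := J)]
    intro k
    rw [SModEq.sub_mem, sub_zero]
    exact Submodule.smul_mono le_rfl le_top (h2 k hx)
  rw [h3]
  exact Submodule.zero_mem _

end Groth.Agent.S4515
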