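import Groth.Statements.S4516
-- import your own Groth.Agent.* helpers here

set_option autoImplicit false
universe u
open EGA41

namespace Groth.Agent.S4516

theorem D_eq_zero (p : ℕ) [Fact p.Prime] {A B : Type u}
    [CommRing A] [CommRing B] [Algebra A B] [CharP B p] (b : B)
    (hb : b ∈ EGA41.pPowerSubalgebra p A B) : KaehlerDifferential.D A B b = 0 := by
  unfold EGA41.pPowerSubalgebra at hb
  induction hb using Algebra.adjoin_induction with
  | mem x hx =>
    obtain ⟨y, rfl⟩ := hx
    change KaehlerDifferential.D A B (y ^ p) = 0
    rw [Derivation.leibniz_pow]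
    have : (p : B) = 0 := CharP.cast_eq_zero B p
    rw [← Nat.cast_smul_eq_nsmul B, this, zero_smul]
  | algebraMap r => exact Derivation.map_algebraMap _ r
  | add x y _ _ hx hy => rw [map_add, hx, hy, add_zero]
  | mul x y _ _ hx hy => rw [Derivation.leibniz, hx, hy, smul_zero, smul_zero, add_zero]


/-- Let p be a prime, B an A-algebra of characteristic p and A' an A-subalgebra of B contained in
A[B^p]. Then the canonical map between Ω_{B/A} and Ω_{B/A'} is bijective (every A-derivation of B
vanishes on A[B^p]). -/
theorem result (p : ℕ) [Fact p.Prime] {A B : Type u}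
    [CommRing A] [CommRing B] [Algebra A B] [CharP B p] (A' : Subalgebra A B)
    (hA' : A' ≤ EGA41.pPowerSubalgebra p A B) :
    Function.Bijective (KaehlerDifferential.map A A' B B) := by
  refine ⟨?_, KaehlerDifferential.map_surjective A A' B⟩
  rw [← LinearMap.ker_eq_bot, ← KaehlerDifferential.range_mapBaseChange, eq_bot_iff]
  rintro _ ⟨y, rfl⟩
  have hmap : ∀ ω : Ω[A'⁄A], KaehlerDifferential.map A A A' B ω = 0 := by
    intro ω
    have hω : ω ∈ Submodule.span A' (Set.range (KaehlerDifferential.D A A')) := by
      rw [KaehlerDifferential.span_range_derivation]; trivial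
    induction hω using Submodule.span_induction with
    | mem x hx =>
      obtain ⟨a, rfl⟩ := hx
      rw [KaehlerDifferential.map_D]
      exact D_eq_zero p _ (hA' a.2)
    | zero => exact map_zero _
    | add x y _ _ hx hy => rw [map_add, hx, hy, add_zero]
    | smul c x _ hx => rw [map_smul, hx, smul_zero]
  induction y using TensorProduct.induction_on with
  | zero => simp
  | tmul b ω =>
    rw [KaehlerDifferential.mapBaseChange_tmul, hmap, smul_zero]
    exact Submodule.zero_mem _
  | add x y hx hy =>
    rw [map_add]
    exact Submodule.add_mem _ hx hy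

end Groth.Agent.S4516
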