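import Groth.Statements.S4518
-- import your own Groth.Agent.* helpers here
import Groth.Agent.Lib.Helper49.PBasisTower

set_option autoImplicit false
universe u
open EGA41

namespace Groth.Agent.S4518

open Groth.Agent.Lib.Helper49.PBasis EGA41

variable {p : ℕ} [Fact p.Prime] {A C B : Type u} [CommRing A] [CommRing C]
    [CommRing B] [Algebra A C] [Algebra C B] [Algebra A B] [IsScalarTower A C B]
    {ι κ : Type u}

omit [Fact (Nat.Prime p)] in
theorem map_mem (c' : C) (hc' : c' ∈ pPowerSubalgebra p A C) :
    algebraMap C B c' ∈ pPowerSubalgebra p A B := by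
  induction hc' using Algebra.adjoin_induction with
  | mem c hc =>
    obtain ⟨c, rfl⟩ := hc
    change algebraMap C B (c ^ p) ∈ _
    rw [map_pow]
    exact pow_mem_pPower p A _
  | algebraMap a =>
    rw [← IsScalarTower.algebraMap_apply]
    exact Subalgebra.algebraMap_mem _ a
  | add a b _ _ ha hb =>
    rw [map_add]
    exact add_mem ha hb
  | mul a b _ _ ha hb =>
    rw [map_mul]
    exact mul_mem ha hb

theorem U_eq (x : ι → C) (e : ι →₀ ℕ) :
    pMonomial (fun i => algebraMap C B (x i)) e = algebraMap C B (pMonomial x e) := by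
  rw [map_pMonomial]
  rfl

theorem inSpan_U (hpowC : ∀ b : B, b ^ p ∈ Set.range (algebraMap C B)) (x : ι → C)
    (hxg : IsPGenerating p A x) (c : B) (hc : c ∈ pPowerSubalgebra p C B) :
    InSpan (pPowerSubalgebra p A B : Set B)
      (fun e : {e : ι →₀ ℕ // ∀ i, e i < p} => pMonomial (fun i => algebraMap C B (x i)) e.1)
      c := by
  obtain ⟨c', rfl⟩ := (mem_pPower_iff hpowC c).mp hc
  obtain ⟨s, g, hg, hc'⟩ := (span_eq_top_iff_setGen _ _).mp hxg c'
  refine ⟨s, fun i => algebraMap C B (g i), fun i hi => map_mem _ (hg i hi), ?_⟩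
  rw [hc', map_sum]
  refine Finset.sum_congr rfl fun i _ => ?_
  change algebraMap C B (g i * pMonomial x i.1) = algebraMap C B (g i) * pMonomial _ i.1
  rw [map_mul, U_eq]

theorem part1 (hpow : ∀ b : B, b ^ p ∈ Set.range (algebraMap A B)) (x : ι → C) (y : κ → B)
    (hxg : IsPGenerating p A x) (hyg : IsPGenerating p C y) :
    IsPGenerating p A (Sum.elim (fun i => algebraMap C B (x i)) y) := by
  have hpowC : ∀ b : B, b ^ p ∈ Set.range (algebraMap C B) := by
    intro b
    obtain ⟨a, ha⟩ := hpow b
    exact ⟨algebraMap A C a, by rw [← IsScalarTower.algebraMap_apply, ha]⟩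
  unfold IsPGenerating
  rw [span_eq_top_iff_setGen, monomial_sum_eq, setGen_equiv]
  exact tower_gen (zero_mem _) (inSpan_U hpowC x hxg)
    ((span_eq_top_iff_setGen _ _).mp hyg)

theorem part2 (hinj : Function.Injective (algebraMap C B))
    (hpow : ∀ b : B, b ^ p ∈ Set.range (algebraMap A B)) (x : ι → C) (y : κ → B)
    (hx : IsPBasis p A x) :
    IsPIndependent p C y ↔ IsPIndependent p A (Sum.elim (fun i => algebraMap C B (x i)) y) := by
  classical
  have hpowC : ∀ b : B, b ^ p ∈ Set.range (algebraMap C B) := by
    intro b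
    obtain ⟨a, ha⟩ := hpow b
    exact ⟨algebraMap A C a, by rw [← IsScalarTower.algebraMap_apply, ha]⟩
  have hUind : SetIndep (pPowerSubalgebra p A B : Set B)
      (fun e : {e : ι →₀ ℕ // ∀ i, e i < p} =>
        pMonomial (fun i => algebraMap C B (x i)) e.1) := by
    intro s g hg hsum i hi
    have hex : ∀ i, ∃ c' : C, i ∈ s → c' ∈ pPowerSubalgebra p A C ∧ algebraMap C B c' = g i := by
      intro i
      by_cases h : i ∈ s
      · obtain ⟨a, ha⟩ := (mem_pPower_iff hpow (g i)).mp (hg i h)
        exact ⟨algebraMap A C a, fun _ => ⟨Subalgebra.algebraMap_mem _ a,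
          by rw [← IsScalarTower.algebraMap_apply, ha]⟩⟩
      · exact ⟨0, fun h' => absurd h' h⟩
    choose g' hg' using hex
    have h1 : ∑ i ∈ s, g' i * pMonomial x i.1 = 0 := by
      apply hinj
      rw [map_sum, map_zero, ← hsum]
      refine Finset.sum_congr rfl fun i hi => ?_
      rw [map_mul, (hg' i hi).2, ← U_eq]
    have h2 := (linearIndependent_iff_setIndep _ _).mp hx.1 s g' (fun i hi => (hg' i hi).1) h1 i hi
    rw [← (hg' i hi).2, h2, map_zero]
  have hcl : ∀ (s : Finset {e : ι →₀ ℕ // ∀ i, e i < p}) (g : {e : ι →₀ ℕ // ∀ i, e i < p} → B),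
      (∀ i ∈ s, g i ∈ (pPowerSubalgebra p A B : Set B)) →
      ∑ i ∈ s, g i * pMonomial (fun i => algebraMap C B (x i)) i.1 ∈
        (pPowerSubalgebra p C B : Set B) := by
    intro s g hg
    refine sum_mem fun i hi => mul_mem ?_ ?_
    · obtain ⟨a, ha⟩ := (mem_pPower_iff hpow (g i)).mp (hg i hi)
      rw [← ha, IsScalarTower.algebraMap_apply A C B]
      exact Subalgebra.algebraMap_mem _ _
    · rw [U_eq]
      exact Subalgebra.algebraMap_mem _ _
  unfold IsPIndependent
  rw [linearIndependent_iff_setIndep, linearIndependent_iff_setIndep, monomial_sum_eq,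
    setIndep_equiv]
  constructor
  · intro hy
    exact tower_indep (zero_mem _) hUind hy hcl
  · intro hz
    exact tower_indep_conv (zero_mem _) hz (inSpan_U hpowC x hx.2)

theorem main (hinj : Function.Injective (algebraMap C B))
    (hpow : ∀ b : B, b ^ p ∈ Set.range (algebraMap A B)) (x : ι → C) (y : κ → B) :
    (IsPGenerating p A x → IsPGenerating p C y →
      IsPGenerating p A (Sum.elim (fun i => algebraMap C B (x i)) y)) ∧
    (IsPBasis p A x →
      (IsPIndependent p C y ↔
        IsPIndependent p A (Sum.elim (fun i => algebraMap C B (x i)) y))) :=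
  ⟨part1 hpow x y, part2 hinj hpow x y⟩


/-- Let p be a prime and A → C → B rings of characteristic p with C → B injective and every p-th power
of B in the image of A (so, identifying, B^p ⊆ A ⊆ C ⊆ B up to replacing A by its image); let x be a
family of elements of C and y a family of elements of B. (i) If x is a system of p-generators of C
over A and y one of B over C, then the family obtained by putting x (viewed in B) and y together is
a system of p-generators of B over A. (ii) If x is a p-basis of C over A, then y is p-independent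
over C if and only if the combined family is p-independent over A. (The published statement only
asks B^p ⊆ C and reduces to B^p ⊆ A by enlarging A to A[B^p]; but p-independence of x in C over A
refers to A[C^p], which can be smaller than A[B^p] — for A = 𝔽_p, C = 𝔽_p(t^p) ⊂ B = 𝔽_p(t), x =
(t^p), y = (t), x is a p-basis of C over A and y is p-independent over C while (t^p, t) is not
p-independent over A — so this row assumes B^p ⊆ A, the case the published proof treats.) -/
theorem result (p : ℕ) [Fact p.Prime] {A C B : Type u} [CommRing A] [CommRing C]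
    [CommRing B] [Algebra A C] [Algebra C B] [Algebra A B] [IsScalarTower A C B] [CharP B p]
    (hinj : Function.Injective (algebraMap C B)) (hpow : ∀ b : B, b ^ p ∈ Set.range (algebraMap A B))
    {ι κ : Type u} (x : ι → C) (y : κ → B) :
    (EGA41.IsPGenerating p A x → EGA41.IsPGenerating p C y →
      EGA41.IsPGenerating p A (Sum.elim (fun i => algebraMap C B (x i)) y)) ∧
    (EGA41.IsPBasis p A x →
      (EGA41.IsPIndependent p C y ↔ EGA41.IsPIndependent p A (Sum.elim (fun i => algebraMap C B (x i)) y))) := by
  exact main hinj hpow x y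

end Groth.Agent.S4518
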