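import Groth.Statements.S4519
-- import your own Groth.Agent.* helpers here
import Groth.Agent.Lib.Helper49.PBasis

set_option autoImplicit false
universe u
open EGA41

namespace Groth.Agent.S4519

open Groth.Agent.Lib.Helper49.PBasis

/-- Let p be a prime, B a ring of characteristic p and A a subring of B with B^p ⊆ A (here: A → B
injective with every p-th power in its image; R → A → B with the image of R in B equal to the set of
p-th powers, so that R stands for B^p). If B admits a p-basis over A, then B is a formally smooth
A-algebra relative to R for the discrete topologies (square-zero liftings, as in the prelude's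
relative notion). -/
theorem result (p : ℕ) [Fact p.Prime] {R A B : Type u} [CommRing R] [CommRing A]
    [CommRing B] [Algebra R A] [Algebra A B] [Algebra R B] [IsScalarTower R A B] [CharP B p]
    (hinj : Function.Injective (algebraMap A B)) (hpow : ∀ b : B, b ^ p ∈ Set.range (algebraMap A B))
    (hR : Set.range (algebraMap R B) = Set.range fun b : B => b ^ p)
    {ι : Type u} (x : ι → B) (hx : EGA41.IsPBasis p A x) :
    EGA41.IsFormallySmoothRel R A B := by
  intro E _ _ _ _ J _ u₀ hu
  obtain ⟨u, hu⟩ := hu
  have hz : ∀ i (a : A), algebraMap A B a = x i ^ p → u (x i) ^ p = algebraMap A E a := by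
    intro i a ha
    have hr : x i ^ p ∈ Set.range (algebraMap R B) := by
      rw [hR]
      exact ⟨x i, rfl⟩
    obtain ⟨r, hr⟩ := hr
    have h1 : a = algebraMap R A r := by
      apply hinj
      rw [ha, ← hr, ← IsScalarTower.algebraMap_apply]
    rw [← map_pow, ← hr, AlgHom.commutes, h1, ← IsScalarTower.algebraMap_apply]
  obtain ⟨v, hv⟩ := exists_algHom hinj hpow hx (fun i => u (x i)) hz
  refine ⟨v, ?_⟩
  refine algHom_ext hpow hx.2 _ _ fun i => ?_
  have h2 := congrArg (fun w : B →ₐ[R] E ⧸ J => w (x i)) hu
  simp only [AlgHom.comp_apply, AlgHom.restrictScalars_apply] at h2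
  rw [AlgHom.comp_apply, hv i]
  exact h2

end Groth.Agent.S4519
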