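import Groth.Statements.S4520
-- import your own Groth.Agent.* helpers here
import Groth.Agent.Lib.Helper49.PBasisKaehler
import Groth.Agent.S4518

set_option autoImplicit false
universe u
open EGA41

namespace Groth.Agent.S4520

open Groth.Agent.Lib.Helper49.PBasis EGA41 TensorProduct

set_option linter.unusedSectionVars false

variable {p : ℕ} [Fact p.Prime] {R A B : Type u} [CommRing R] [CommRing A]
    [CommRing B] [IsReduced B] [Algebra R A] [Algebra A B] [Algebra R B] [IsScalarTower R A B]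
    [CharP B p] {Λ M : Type u}

theorem powA_mem (hinj : Function.Injective (algebraMap A B))
    (hR : Set.range (algebraMap R B) = Set.range fun b : B => b ^ p) (a : A)
    (ha : algebraMap A B a ∈ Set.range fun b : B => b ^ p) :
    a ∈ Set.range (algebraMap R A) := by
  rw [← hR] at ha
  obtain ⟨r, hr⟩ := ha
  refine ⟨r, hinj ?_⟩
  rw [← IsScalarTower.algebraMap_apply, hr]

theorem map_x' (x : Λ → B) (x' : Λ → A) (hx' : ∀ i, algebraMap A B (x' i) = x i ^ p)
    (e : Λ →₀ ℕ) : algebraMap A B (pMonomial x' e) = pMonomial x e ^ p := by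
  rw [map_pMonomial, ← pMonomial_pow_fun]
  unfold pMonomial
  refine Finsupp.prod_congr fun i _ => ?_
  rw [hx' i]

theorem indepA (hinj : Function.Injective (algebraMap A B))
    (x : Λ → B) (hx : IsPBasis p A x) (x' : Λ → A)
    (hx' : ∀ i, algebraMap A B (x' i) = x i ^ p) :
    SetIndep (Set.range fun a : A => a ^ p)
      (fun e : {e : Λ →₀ ℕ // ∀ i, e i < p} => pMonomial x' e.1) := by
  classical
  have hp : p.Prime := Fact.out
  intro s g hg hsum i hi
  have hex : ∀ i, ∃ a : A, i ∈ s → a ^ p = g i := by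
    intro i
    by_cases h : i ∈ s
    · obtain ⟨a, ha⟩ := hg i h
      exact ⟨a, fun _ => ha⟩
    · exact ⟨0, fun h' => absurd h' h⟩
  choose a ha using hex
  have h1 : (∑ i ∈ s, algebraMap A B (a i) * pMonomial x i.1) ^ p = 0 := by
    rw [sum_pow_char]
    have := congrArg (algebraMap A B) hsum
    rw [map_sum, map_zero] at this
    rw [← this]
    refine Finset.sum_congr rfl fun i hi => ?_
    rw [mul_pow, map_mul, ← ha i hi, map_pow, map_x' x x' hx']
  have h2 : ∑ i ∈ s, algebraMap A B (a i) * pMonomial x i.1 = 0 :=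
    IsReduced.eq_zero _ ⟨p, h1⟩
  have h3 := (linearIndependent_iff_setIndep _ _).mp hx.1 s (fun i => algebraMap A B (a i))
    (fun i _ => Subalgebra.algebraMap_mem _ _) h2 i hi
  have h4 : a i = 0 := hinj (by rw [h3, map_zero])
  rw [← ha i hi, h4, zero_pow hp.ne_zero]

theorem spanA (hinj : Function.Injective (algebraMap A B))
    (hpow : ∀ b : B, b ^ p ∈ Set.range (algebraMap A B))
    (hR : Set.range (algebraMap R B) = Set.range fun b : B => b ^ p)
    (x : Λ → B) (hx : IsPBasis p A x) (x' : Λ → A)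
    (hx' : ∀ i, algebraMap A B (x' i) = x i ^ p) (c : A) (hc : c ∈ pPowerSubalgebra p R A) :
    InSpan (Set.range fun a : A => a ^ p)
      (fun e : {e : Λ →₀ ℕ // ∀ i, e i < p} => pMonomial x' e.1) c := by
  classical
  have hpowRA : ∀ a : A, a ^ p ∈ Set.range (algebraMap R A) := fun a =>
    powA_mem hinj hR _ ⟨algebraMap A B a, by rw [map_pow]⟩
  obtain ⟨r, rfl⟩ := (mem_pPower_iff hpowRA c).mp hc
  have h1 : algebraMap R B r ∈ Set.range fun b : B => b ^ p := by
    rw [← hR]
    exact ⟨r, rfl⟩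
  obtain ⟨b, hb⟩ := h1
  obtain ⟨s, g, hg, hbs⟩ := (span_eq_top_iff_setGen _ _).mp hx.2 b
  have hex : ∀ i, ∃ a : A, i ∈ s → algebraMap A B a = g i := by
    intro i
    by_cases h : i ∈ s
    · obtain ⟨a, ha⟩ := (mem_pPower_iff hpow (g i)).mp (hg i h)
      exact ⟨a, fun _ => ha⟩
    · exact ⟨0, fun h' => absurd h' h⟩
  choose a ha using hex
  refine ⟨s, fun i => a i ^ p, fun i _ => ⟨a i, rfl⟩, hinj ?_⟩
  have hb' : b ^ p = algebraMap R B r := hb
  rw [← IsScalarTower.algebraMap_apply, ← hb', hbs, sum_pow_char, map_sum]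
  refine Finset.sum_congr rfl fun i hi => ?_
  change (g i * pMonomial x i.1) ^ p = algebraMap A B (a i ^ p * pMonomial x' i.1)
  rw [mul_pow, map_mul, map_pow, ha i hi, map_x' x x' hx']

theorem x'_mem (hinj : Function.Injective (algebraMap A B))
    (hR : Set.range (algebraMap R B) = Set.range fun b : B => b ^ p)
    (x : Λ → B) (x' : Λ → A) (hx' : ∀ i, algebraMap A B (x' i) = x i ^ p) (i : Λ) :
    x' i ∈ pPowerSubalgebra p R A := by
  obtain ⟨r, hr⟩ := powA_mem hinj hR (x' i) ⟨x i, (hx' i).symm⟩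
  rw [← hr]
  exact Subalgebra.algebraMap_mem _ r

theorem pbasisA (hinj : Function.Injective (algebraMap A B))
    (hpow : ∀ b : B, b ^ p ∈ Set.range (algebraMap A B))
    (hR : Set.range (algebraMap R B) = Set.range fun b : B => b ^ p)
    (x : Λ → B) (hx : IsPBasis p A x) (x' : Λ → A)
    (hx' : ∀ i, algebraMap A B (x' i) = x i ^ p) (y : M → A) (hy : IsPBasis p R y) :
    SetIndep (Set.range fun a : A => a ^ p)
      (fun e : {e : (Λ ⊕ M) →₀ ℕ // ∀ i, e i < p} => pMonomial (Sum.elim x' y) e.1) ∧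
    SetGen (Set.range fun a : A => a ^ p)
      (fun e : {e : (Λ ⊕ M) →₀ ℕ // ∀ i, e i < p} => pMonomial (Sum.elim x' y) e.1) := by
  have hp : p.Prime := Fact.out
  have h0 : (0 : A) ∈ Set.range fun a : A => a ^ p := ⟨0, zero_pow hp.ne_zero⟩
  rw [monomial_sum_eq, setIndep_equiv, setGen_equiv]
  refine ⟨tower_indep h0 (indepA hinj x hx x' hx')
    ((linearIndependent_iff_setIndep _ _).mp hy.1) ?_,
    tower_gen h0 (spanA hinj hpow hR x hx x' hx') ((span_eq_top_iff_setGen _ _).mp hy.2)⟩
  intro s g hg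
  refine sum_mem fun i hi => mul_mem ?_ ?_
  · obtain ⟨a, ha⟩ := hg i hi
    rw [← ha]
    exact pow_mem_pPower p R a
  · exact pMonomial_mem_of_forall' (pPowerSubalgebra p R A) x' _
      fun j _ => x'_mem hinj hR x x' hx' j

theorem pbasisB (hinj : Function.Injective (algebraMap A B))
    (hR : Set.range (algebraMap R B) = Set.range fun b : B => b ^ p)
    (x : Λ → B) (hx : IsPBasis p A x) (y : M → A) (hy : IsPBasis p R y) :
    SetIndep (Set.range fun b : B => b ^ p)
      (fun e : {e : (M ⊕ Λ) →₀ ℕ // ∀ i, e i < p} =>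
        pMonomial (Sum.elim (fun i => algebraMap A B (y i)) x) e.1) ∧
    SetGen (Set.range fun b : B => b ^ p)
      (fun e : {e : (M ⊕ Λ) →₀ ℕ // ∀ i, e i < p} =>
        pMonomial (Sum.elim (fun i => algebraMap A B (y i)) x) e.1) := by
  have hpowR : ∀ b : B, b ^ p ∈ Set.range (algebraMap R B) := fun b => by
    rw [hR]
    exact ⟨b, rfl⟩
  have hcar : (pPowerSubalgebra p R B : Set B) = Set.range fun b : B => b ^ p := by
    ext c
    rw [← hR]
    exact mem_pPower_iff hpowR c
  obtain ⟨h1, h2⟩ := Groth.Agent.S4518.main hinj hpowR y x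
  have hgen := h1 hy.2 hx.2
  have hind := (h2 hy).mp hx.1
  rw [← hcar]
  exact ⟨(linearIndependent_iff_setIndep _ _).mp hind, (span_eq_top_iff_setGen _ _).mp hgen⟩

theorem main (hinj : Function.Injective (algebraMap A B))
    (hpow : ∀ b : B, b ^ p ∈ Set.range (algebraMap A B))
    (hR : Set.range (algebraMap R B) = Set.range fun b : B => b ^ p)
    (x : Λ → B) (hx : IsPBasis p A x) (x' : Λ → A)
    (hx' : ∀ i, algebraMap A B (x' i) = x i ^ p) (y : M → A) (hy : IsPBasis p R y) :
    ∃ b : Module.Basis Λ B (EGA41.imperfection ℤ A B),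
      ∀ i, (b i : B ⊗[A] Ω[A⁄ℤ]) = (1 : B) ⊗ₜ[A] KaehlerDifferential.D ℤ A (x' i) := by
  classical
  have hp : p.Prime := Fact.out
  have hBnt : Nontrivial B := CharP.nontrivial_of_char_ne_one (R := B) hp.ne_one
  have hAnt : Nontrivial A := (algebraMap A B).domain_nontrivial
  have hpA : (p : A) = 0 := by
    apply hinj
    rw [map_natCast, map_zero, CharP.cast_eq_zero]
  have hcA : CharP A p := (CharP.charP_iff_prime_eq_zero hp).mpr hpA
  obtain ⟨hA1, hA2⟩ := pbasisA hinj hpow hR x hx x' hx' y hy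
  obtain ⟨hB1, hB2⟩ := pbasisB hinj hR x hx y hy
  obtain ⟨hAli, hAsp⟩ := kaehler_basis_raw (p := p) (Sum.elim x' y) hA1 hA2
  obtain ⟨hBli, -⟩ :=
    kaehler_basis_raw (p := p) (Sum.elim (fun i => algebraMap A B (y i)) x) hB1 hB2
  let bA : Module.Basis (Λ ⊕ M) A (Ω[A⁄ℤ]) := Module.Basis.mk hAli hAsp
  let bT : Module.Basis (Λ ⊕ M) B (B ⊗[A] Ω[A⁄ℤ]) := bA.baseChange B
  have hbT : ∀ i, bT i = (1 : B) ⊗ₜ[A] KaehlerDifferential.D ℤ A (Sum.elim x' y i) := by
    intro i
    rw [Module.Basis.baseChange_apply, Module.Basis.mk_apply]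
  let f := KaehlerDifferential.mapBaseChange ℤ A B
  have hf : ∀ i, f (bT i) = KaehlerDifferential.D ℤ B (algebraMap A B (Sum.elim x' y i)) := by
    intro i
    rw [hbT, KaehlerDifferential.mapBaseChange_tmul, one_smul, KaehlerDifferential.map_D]
  have hfl : ∀ l : Λ, f (bT (Sum.inl l)) = 0 := by
    intro l
    rw [hf]
    change KaehlerDifferential.D ℤ B (algebraMap A B (x' l)) = 0
    rw [hx', Derivation.leibniz_pow, ← Nat.cast_smul_eq_nsmul B, CharP.cast_eq_zero, zero_smul]
  have hfr : LinearIndependent B (fun m : M => f (bT (Sum.inr m))) := by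
    have h1 := hBli.comp Sum.inl Sum.inl_injective
    have h2 : (fun m : M => f (bT (Sum.inr m))) =
        (fun i => KaehlerDifferential.D ℤ B
          (Sum.elim (fun i => algebraMap A B (y i)) x i)) ∘ Sum.inl := by
      funext m
      rw [hf]
      rfl
    rw [h2]
    exact h1
  have hK : ∀ v, v ∈ EGA41.imperfection ℤ A B ↔ f v = 0 := fun v => Iff.rfl
  let k : Λ → EGA41.imperfection ℤ A B := fun l => ⟨bT (Sum.inl l), (hK _).mpr (hfl l)⟩
  have hkli : LinearIndependent B k := by
    refine LinearIndependent.of_comp (EGA41.imperfection ℤ A B).subtype ?_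
    exact bT.linearIndependent.comp Sum.inl Sum.inl_injective
  have hksp : ⊤ ≤ Submodule.span B (Set.range k) := by
    rintro ⟨v, hv⟩ -
    have hv0 : f v = 0 := (hK v).mp hv
    set c := bT.repr v with hc
    set c₁ := (Finsupp.sumFinsuppEquivProdFinsupp c).1 with hc₁
    set c₂ := (Finsupp.sumFinsuppEquivProdFinsupp c).2 with hc₂
    have hcc : Finsupp.sumElim c₁ c₂ = c := Finsupp.sumFinsuppEquivProdFinsupp.left_inv c
    have hrepr : v = c.sum fun i a => a • bT i := by
      rw [← Finsupp.linearCombination_apply, hc, bT.linearCombination_repr]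
    have hfv : f v = c₂.sum fun m a => a • f (bT (Sum.inr m)) := by
      rw [hrepr, map_finsuppSum, ← hcc, Finsupp.sum_sumElim]
      simp only [Function.comp_def, map_smul, hfl, smul_zero]
      rw [Finsupp.sum, Finset.sum_const_zero, zero_add]
    have hc₂0 : c₂ = 0 := by
      refine linearIndependent_iff.mp hfr c₂ ?_
      rw [Finsupp.linearCombination_apply, ← hfv, hv0]
    have hv1 : v = c₁.sum fun l a => a • bT (Sum.inl l) := by
      conv_lhs => rw [hrepr, ← hcc, Finsupp.sum_sumElim, hc₂0]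
      simp [Function.comp_def]
    have hv2 : (⟨v, hv⟩ : EGA41.imperfection ℤ A B) = c₁.sum fun l a => a • k l := by
      apply Subtype.ext
      have h3 := map_finsuppSum (imperfection ℤ A B).subtype c₁ (fun l a => a • k l)
      rw [Submodule.subtype_apply] at h3
      rw [h3]
      simp only [map_smul, Submodule.subtype_apply, k]
      exact hv1
    rw [hv2]
    exact Submodule.finsuppSum_mem _ _ _ _ fun l _ =>
      Submodule.smul_mem _ _ (Submodule.subset_span ⟨l, rfl⟩)
  refine ⟨Module.Basis.mk hkli hksp, fun i => ?_⟩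
  rw [Module.Basis.mk_apply]
  exact hbT (Sum.inl i)


open TensorProduct in
/-- Let p be a prime, B a reduced ring of characteristic p, A a subring with B^p ⊆ A ⊆ B (here A → B
injective with all p-th powers in its image, and R → A → B with image in B the set of p-th powers, R
standing for B^p). Suppose B has a p-basis (x_λ) over A and A has a p-basis over R, and let x'_λ ∈ A
map to x_λ^p. Then the elements 1 ⊗ d_{A/ℤ}(x'_λ) form a basis of the B-module Υ_{B/A}, the kernel
of B ⊗_A Ω_{A/ℤ} → Ω_{B/ℤ}. (The published statement also identifies Υ_{B/A} with the Frobenius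
twist of Ω_{B/A}; this row states only the basis.) -/
theorem result (p : ℕ) [Fact p.Prime] {R A B : Type u} [CommRing R] [CommRing A]
    [CommRing B] [IsReduced B] [Algebra R A] [Algebra A B] [Algebra R B] [IsScalarTower R A B] [CharP B p]
    (hinj : Function.Injective (algebraMap A B)) (hpow : ∀ b : B, b ^ p ∈ Set.range (algebraMap A B))
    (hR : Set.range (algebraMap R B) = Set.range fun b : B => b ^ p)
    {Λ M : Type u} (x : Λ → B) (hx : EGA41.IsPBasis p A x) (x' : Λ → A) (hx' : ∀ i, algebraMap A B (x' i) = x i ^ p)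
    (y : M → A) (hy : EGA41.IsPBasis p R y) :
    ∃ b : Module.Basis Λ B (EGA41.imperfection ℤ A B),
      ∀ i, (b i : B ⊗[A] Ω[A⁄ℤ]) = (1 : B) ⊗ₜ[A] KaehlerDifferential.D ℤ A (x' i) := by
  exact main hinj hpow hR x hx x' hx' y hy

end Groth.Agent.S4520
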