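import Groth.Statements.S4521
-- import your own Groth.Agent.* helpers here
import Groth.Agent.Lib.Helper49.PBasisField

set_option autoImplicit false
universe u
open EGA41

namespace Groth.Agent.S4521

open Groth.Agent.Lib.Helper49.PBasis

/-- Let k ⊆ K be fields of characteristic p > 0 and (x_α) a family of elements of K. Then (x_α) is
p-independent over k if and only if, for every α, x_α does not lie in the subfield generated over k
by K^p and the x_β with β ≠ α. -/
theorem result (p : ℕ) [Fact p.Prime] {k K : Type u} [Field k] [Field K]
    [Algebra k K] [CharP K p] {ι : Type u} (x : ι → K) :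
    EGA41.IsPIndependent p k x ↔
      ∀ a : ι, x a ∉ IntermediateField.adjoin k ((Set.range fun y : K => y ^ p) ∪ x '' {b | b ≠ a}) := by
  exact pIndependent_iff x

end Groth.Agent.S4521
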