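import Groth.Statements.S4522
-- import your own Groth.Agent.* helpers here
import Groth.Agent.Lib.Helper49.PBasisField
import Groth.Agent.S2466
import Groth.Agent.S2468
import Mathlib.LinearAlgebra.TensorProduct.Basis

set_option autoImplicit false
universe u
open EGA41

namespace Groth.Agent.S4522

open Groth.Agent.Lib.Helper49.PBasis EGA41 TensorProduct

theorem main (p : ℕ) [Fact p.Prime] {R K L : Type u} [Field R] [Field K] [Field L]
    [Algebra R K] [Algebra K L] [Algebra R L] [IsScalarTower R K L] [CharP L p]
    (hR : Set.range (algebraMap R L) = Set.range fun y : L => y ^ p)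
    (hK : ∀ y : L, y ^ p ∈ Set.range (algebraMap K L)) :
    Function.Injective (KaehlerDifferential.mapBaseChange R K L) := by
  classical
  have hp : p.Prime := Fact.out
  have hinj : Function.Injective (algebraMap K L) := (algebraMap K L).injective
  have hcK : CharP K p := by
    have hpK : (p : K) = 0 := by
      apply hinj
      rw [map_natCast, map_zero, CharP.cast_eq_zero]
    exact (CharP.charP_iff_prime_eq_zero hp).mpr hpK
  have hempty : IsPIndependent p R (Subtype.val : ↥(∅ : Set K) → K) := by
    rw [indep_set_iff]
    intro t ht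
    exact absurd ht (Set.notMem_empty t)
  obtain ⟨B₁, -, -, hB₁⟩ := exists_pBasis_between (k := R) (Set.univ : Set K) ∅
    (Set.subset_univ _) Groth.Agent.S2468.gen_univ hempty
  obtain ⟨hli, hsp⟩ := Groth.Agent.S2466.kaehler_basis p (Subtype.val : B₁ → K) hB₁
  let bK : Module.Basis B₁ K (Ω[K⁄R]) := Module.Basis.mk hli hsp
  let bT : Module.Basis B₁ L (L ⊗[K] Ω[K⁄R]) := bK.baseChange L
  let f := KaehlerDifferential.mapBaseChange R K L
  have hf : ∀ b : B₁, f (bT b) = KaehlerDifferential.D R L (algebraMap K L b.1) := by
    intro b
    change f (bK.baseChange L b) = _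
    rw [Module.Basis.baseChange_apply, Module.Basis.mk_apply,
      KaehlerDifferential.mapBaseChange_tmul, one_smul, KaehlerDifferential.map_D]
  have hindL : IsPIndependent p R (fun b : B₁ => algebraMap K L b.1) := by
    refine pIndependent_of_not_mem fun b hmem => ?_
    have hb := not_mem_of_pIndependent hB₁.1 b
    set T : Set K := (Subtype.val : B₁ → K) '' {b' | b' ≠ b} with hT
    let φ' : K →ₐ[R] L := IsScalarTower.toAlgHom R K L
    have hle : IntermediateField.adjoin R ((Set.range fun y : L => y ^ p) ∪
        (fun b : B₁ => algebraMap K L b.1) '' {b' | b' ≠ b}) ≤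
        (IntermediateField.adjoin R T).map φ' := by
      rw [IntermediateField.adjoin_le_iff]
      rintro y (hy | ⟨b', hb', rfl⟩)
      · rw [← hR] at hy
        obtain ⟨r, rfl⟩ := hy
        exact IntermediateField.algebraMap_mem _ r
      · exact ⟨b'.1, IntermediateField.subset_adjoin R _ ⟨b', hb', rfl⟩, rfl⟩
    obtain ⟨b₀, hb₀, hb₀b⟩ := hle hmem
    have hb₀' : b₀ = b.1 := hinj hb₀b
    refine hb (IntermediateField.adjoin.mono R _ _ Set.subset_union_right ?_)
    rw [← hb₀']
    exact hb₀
  have hliL := Groth.Agent.S2468.part1_mp _ hindL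
  rw [← LinearMap.ker_eq_bot, LinearMap.ker_eq_bot']
  intro v hv
  have h1 : v = (bT.repr v).sum fun i a => a • bT i := by
    rw [← Finsupp.linearCombination_apply, bT.linearCombination_repr]
  have h2 : (bT.repr v).sum (fun i a => a • KaehlerDifferential.D R L (algebraMap K L i.1)) = 0 := by
    have h3 : f v = 0 := hv
    rw [h1, map_finsuppSum] at h3
    simpa only [map_smul, hf] using h3
  have h4 : bT.repr v = 0 := by
    refine linearIndependent_iff.mp hliL _ ?_
    rw [Finsupp.linearCombination_apply]
    exact h2
  rw [h1, h4, Finsupp.sum_zero_index]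


/-- Let L be a field of characteristic p > 0 and K a subfield with L^p ⊆ K ⊆ L (here R → K → L with the
image of R in L the set of p-th powers and every p-th power of L in the image of K). Then the
canonical L-linear map L ⊗_K Ω_{K/L^p} → Ω_{L/L^p} is injective, so that 0 → Ω_{K/L^p} ⊗_K L →
Ω_{L/L^p} → Ω_{L/K} → 0 is exact: the imperfection module of L over K relative to L^p vanishes. -/
theorem result (p : ℕ) [Fact p.Prime] {R K L : Type u} [Field R] [Field K] [Field L]
    [Algebra R K] [Algebra K L] [Algebra R L] [IsScalarTower R K L] [CharP L p]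
    (hR : Set.range (algebraMap R L) = Set.range fun y : L => y ^ p)
    (hK : ∀ y : L, y ^ p ∈ Set.range (algebraMap K L)) :
    Function.Injective (KaehlerDifferential.mapBaseChange R K L) := by
  exact main p hR hK

end Groth.Agent.S4522
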