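import Groth.Statements.S4526
import Groth.Agent.Lib.Helper97.CartierInduct

set_option autoImplicit false
universe u
open EGA41

namespace Groth.Agent.S4526


open KaehlerDifferential TensorProduct Groth.Agent.Lib.Helper97.Cartier in
theorem aux {k K L : Type u} [Field k] [Field K] [Field L]
    [Algebra k K] [Algebra K L] [Algebra k L] [IsScalarTower k K L] [Algebra.EssFiniteType k L] :
    Module.Finite L (Ω[L⁄k]) ∧ Module.Finite K (Ω[K⁄k]) ∧
      (Cardinal.toNat (Algebra.trdeg K L) : ℤ) ≤
        (Module.finrank L (Ω[L⁄k]) : ℤ) - Module.finrank K (Ω[K⁄k]) := by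
  have : Algebra.EssFiniteType K L := Algebra.EssFiniteType.of_comp k K L
  have hfinL : Module.Finite L (Ω[L⁄k]) := inferInstance
  have h := cartierData_of_essFiniteType k L K
  have hker := h.good.ker
  have hq : Module.Finite L ((L ⊗[K] Ω[K⁄k]) ⧸ LinearMap.ker (mapBaseChange k K L)) :=
    Module.Finite.equiv (mapBaseChange k K L).quotKerEquivRange.symm
  have hfinT : Module.Finite L (L ⊗[K] Ω[K⁄k]) :=
    Module.Finite.of_submodule_quotient (LinearMap.ker (mapBaseChange k K L))
  have hfinK : Module.Finite K (Ω[K⁄k]) := by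
    let b := Module.Free.chooseBasis K (Ω[K⁄k])
    have : Finite (Module.Free.ChooseBasisIndex K (Ω[K⁄k])) :=
      Module.Finite.finite_basis (b.baseChange L)
    exact Module.Finite.of_basis b
  refine ⟨hfinL, hfinK, ?_⟩
  have hdom : Module.finrank L (L ⊗[K] Ω[K⁄k]) = Module.finrank K (Ω[K⁄k]) :=
    Module.finrank_baseChange
  have hrn := LinearMap.finrank_range_add_finrank_ker (mapBaseChange k K L)
  have hqr := Submodule.finrank_quotient_add_finrank (LinearMap.range (mapBaseChange k K L))
  have hcoker := (cokerEquiv k K L).finrank_eq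
  have hc := cind_eq k K L
  have hle := h.le
  rw [hc] at hle
  omega

/-- Let k ⊆ K ⊆ L be three fields with L an extension of finite type of k. Then Ω_{L/k} and Ω_{K/k} are
finite-dimensional and rank_L Ω_{L/k} − rank_K Ω_{K/k} ≥ trdeg_K L. (The published statement also
gives the exact value trdeg_K L + d(L/K, k) and an equality criterion; this row states only the
inequality.) -/
theorem result {k K L : Type u} [Field k] [Field K] [Field L]
    [Algebra k K] [Algebra K L] [Algebra k L] [IsScalarTower k K L] [Algebra.EssFiniteType k L] :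
    Module.Finite L (Ω[L⁄k]) ∧ Module.Finite K (Ω[K⁄k]) ∧
      (Cardinal.toNat (Algebra.trdeg K L) : ℤ) ≤ (Module.finrank L (Ω[L⁄k]) : ℤ) - Module.finrank K (Ω[K⁄k]) := by
  exact aux

end Groth.Agent.S4526
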