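import Groth.Statements.S4529
import Mathlib

set_option autoImplicit false
universe u
open EGA41

namespace Groth.Agent.S4529

/-- Let A be a ring, M, N two A-modules with N projective, u : M → N a homomorphism and J an ideal of A;
suppose either (i) J is nilpotent, or (ii) J is contained in the Jacobson radical of A and M is of
finite type. Then u is left invertible if and only if the induced map u₀ : M/JM → N/JN is left
invertible. (A left inverse of u₀ composed with N → N/JN is an A-linear map v : N → M/JM with v ∘ u
the projection, and conversely; the right-hand side is written in that form.) -/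
theorem result {A : Type u} [CommRing A] {M N : Type u} [AddCommGroup M] [Module A M]
    [AddCommGroup N] [Module A N] [Module.Projective A N] (u : M →ₗ[A] N) (J : Ideal A)
    (hJ : IsNilpotent J ∨ (J ≤ (⊥ : Ideal A).jacobson ∧ Module.Finite A M)) :
    (∃ w : N →ₗ[A] M, w ∘ₗ u = LinearMap.id) ↔
      ∃ v : N →ₗ[A] M ⧸ (J • ⊤ : Submodule A M), v ∘ₗ u = (J • ⊤ : Submodule A M).mkQ := by
  constructor
  · rintro ⟨w, hw⟩
    refine ⟨(J • ⊤ : Submodule A M).mkQ ∘ₗ w, ?_⟩
    rw [LinearMap.comp_assoc, hw, LinearMap.comp_id]
  · rintro ⟨v, hv⟩
    obtain ⟨w₀, hw₀⟩ := Module.projective_lifting_property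
      ((J • ⊤ : Submodule A M).mkQ) v (Submodule.mkQ_surjective _)
    set φ : M →ₗ[A] M := w₀ ∘ₗ u with hφ
    have hφmem : ∀ m : M, φ m - m ∈ (J • ⊤ : Submodule A M) := by
      intro m
      rw [← Submodule.Quotient.eq, ← Submodule.mkQ_apply, ← Submodule.mkQ_apply]
      have h1 := LinearMap.congr_fun hw₀ (u m)
      have h2 := LinearMap.congr_fun hv m
      simp only [LinearMap.comp_apply] at h1 h2
      rw [hφ, LinearMap.comp_apply, h1, h2]
    have hbij : ∃ ψ : M →ₗ[A] M, ψ ∘ₗ φ = LinearMap.id := by
      rcases hJ with hnil | ⟨hjac, hfin⟩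
      · obtain ⟨n, hn⟩ := hnil
        set δ : Module.End A M := φ - 1 with hδ
        have hδmem : ∀ k : ℕ, ∀ x ∈ (J ^ k • ⊤ : Submodule A M),
            δ x ∈ (J ^ (k + 1) • ⊤ : Submodule A M) := by
          intro k x hx
          have h1 : δ x ∈ (J ^ k • ⊤ : Submodule A M).map δ := Submodule.mem_map_of_mem hx
          rw [Submodule.map_smul''] at h1
          have h2 : (⊤ : Submodule A M).map δ ≤ J • ⊤ := by
            rintro _ ⟨m, -, rfl⟩
            simpa [hδ] using hφmem m
          have h3 := Submodule.smul_mono (le_refl (J ^ k)) h2 h1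
          rwa [← mul_smul, ← pow_succ] at h3
        have hpow : ∀ k : ℕ, ∀ m : M, (δ ^ k) m ∈ (J ^ k • ⊤ : Submodule A M) := by
          intro k
          induction k with
          | zero => intro m; simp
          | succ k ih =>
            intro m
            have h4 : (δ ^ (k + 1)) m = δ ((δ ^ k) m) := by
              rw [pow_succ', Module.End.mul_apply]
            rw [h4]
            exact hδmem k _ (ih m)
        have hδnil : IsNilpotent δ := by
          refine ⟨n, ?_⟩
          ext m
          have := hpow n m
          rw [hn] at this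
          simpa using this
        have hunit : IsUnit (1 + δ) := hδnil.isUnit_one_add
        have h1 : (1 : Module.End A M) + δ = φ := by rw [hδ]; abel
        rw [h1] at hunit
        obtain ⟨ψ, hψ⟩ := hunit.exists_left_inv
        exact ⟨ψ, hψ⟩
      · have hsurj : Function.Surjective φ := by
          rw [← LinearMap.range_eq_top, eq_top_iff]
          refine Submodule.le_of_le_smul_of_le_jacobson_bot (I := J)
            (Module.finite_def.mp hfin) hjac ?_
          intro m _
          have h1 : m = φ m + (-(φ m - m)) := by abel
          rw [h1]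
          exact Submodule.add_mem_sup (LinearMap.mem_range_self _ _)
            (Submodule.neg_mem _ (hφmem m))
        have hinj : Function.Injective φ :=
          OrzechProperty.injective_of_surjective_endomorphism φ hsurj
        let e := LinearEquiv.ofBijective φ ⟨hinj, hsurj⟩
        refine ⟨e.symm.toLinearMap, ?_⟩
        ext m
        exact e.symm_apply_apply m
    obtain ⟨ψ, hψ⟩ := hbij
    refine ⟨ψ ∘ₗ w₀, ?_⟩
    rw [LinearMap.comp_assoc]
    exact hψ

end Groth.Agent.S4529
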