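import Groth.Statements.S4530
import Mathlib.RingTheory.Localization.BaseChange
import Mathlib.RingTheory.LocalRing.Module
import Mathlib.Algebra.Module.Projective
import Mathlib.Algebra.Module.FinitePresentation

set_option autoImplicit false
set_option linter.unusedSectionVars false
universe u
open EGA41

namespace Groth.Agent.S4530

open TensorProduct

section L1
variable {A : Type u} [CommRing A] {M N : Type u} [AddCommGroup M] [Module A M]
  [AddCommGroup N] [Module A N]

theorem smul_injective_tensor_residueField (p : PrimeSpectrum A) (s : A) (hs : s ∉ p.asIdeal)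
    (x : M ⊗[A] p.asIdeal.ResidueField) (hx : s • x = 0) : x = 0 := by
  set κ := p.asIdeal.ResidueField
  set a : κ := algebraMap A κ s with ha
  have ha0 : a ≠ 0 := by
    rw [ha, Ne, Ideal.algebraMap_residueField_eq_zero]
    exact hs
  let φ : M ⊗[A] κ →ₗ[A] M ⊗[A] κ := LinearMap.lTensor M (a⁻¹ • (LinearMap.id : κ →ₗ[A] κ))
  have hφ : ∀ y : M ⊗[A] κ, φ (s • y) = y := by
    intro y
    induction y using TensorProduct.induction_on with
    | zero => simp
    | tmul m b =>
      rw [TensorProduct.smul_tmul', TensorProduct.smul_tmul]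
      simp only [φ, LinearMap.lTensor_tmul, LinearMap.smul_apply, LinearMap.id_coe, id_eq]
      congr 1
      change a⁻¹ • (s • b) = b
      rw [Algebra.smul_def s b, ← ha, smul_eq_mul, ← mul_assoc, inv_mul_cancel₀ ha0, one_mul]
    | add y z hy hz => rw [smul_add, map_add, hy, hz]
  rw [← hφ x, hx, map_zero]

theorem mk_lTensor_injective (S : Submonoid A) (p : PrimeSpectrum A) (hS : S ≤ p.asIdeal.primeCompl) :
    Function.Injective ((LocalizedModule.mkLinearMap S M).lTensor p.asIdeal.ResidueField) := by
  rw [LinearMap.lTensor_inj_iff_rTensor_inj, injective_iff_map_eq_zero]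
  intro x hx
  have inst : IsLocalizedModule S
      (AlgebraTensorModule.rTensor A p.asIdeal.ResidueField (LocalizedModule.mkLinearMap S M)) :=
    inferInstance
  have hx' : (AlgebraTensorModule.rTensor A p.asIdeal.ResidueField
      (LocalizedModule.mkLinearMap S M)) x = 0 := hx
  rw [IsLocalizedModule.eq_zero_iff S] at hx'
  obtain ⟨s, hs⟩ := hx'
  exact smul_injective_tensor_residueField p s.1 (hS s.2) x hs

theorem lTensor_injective_of_leftInverse (u : M →ₗ[A] N) (S : Submonoid A) (p : PrimeSpectrum A)
    (hS : S ≤ p.asIdeal.primeCompl)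
    (w : LocalizedModule S N →ₗ[A] LocalizedModule S M)
    (hw : w ∘ₗ (LocalizedModule.map S u).restrictScalars A = LinearMap.id) :
    Function.Injective (u.lTensor p.asIdeal.ResidueField) := by
  rw [injective_iff_map_eq_zero]
  intro x hx
  apply mk_lTensor_injective S p hS
  rw [map_zero]
  have h1 : (LocalizedModule.map S u).restrictScalars A ∘ₗ LocalizedModule.mkLinearMap S M =
      LocalizedModule.mkLinearMap S N ∘ₗ u := by
    ext m
    simp [LocalizedModule.mkLinearMap_apply]
  have h2 : LocalizedModule.mkLinearMap S M =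
      (w ∘ₗ LocalizedModule.mkLinearMap S N) ∘ₗ u := by
    rw [LinearMap.comp_assoc, ← h1, ← LinearMap.comp_assoc, hw, LinearMap.id_comp]
  rw [h2, LinearMap.lTensor_comp_apply, hx, map_zero]

end L1

section FF
variable {A : Type u} [CommRing A] {M : Type u} [AddCommGroup M] [Module A M] [Module.Finite A M]

theorem exists_leftInverse_finite_free {m : ℕ} (v : M →ₗ[A] (Fin m → A)) (p : PrimeSpectrum A)
    (hv : Function.Injective (v.lTensor p.asIdeal.ResidueField)) :
    ∃ f : A, f ∉ p.asIdeal ∧ ∃ w₁ : (Fin m → A) →ₗ[A] M, ∀ x, w₁ (v x) = f • x := by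
  set Rp := Localization.AtPrime p.asIdeal with hRp
  set κ := p.asIdeal.ResidueField with hκ
  let F := Fin m → A
  let l : Rp ⊗[A] M →ₗ[Rp] Rp ⊗[A] F := v.baseChange Rp
  let eM : κ ⊗[Rp] (Rp ⊗[A] M) ≃ₗ[κ] κ ⊗[A] M := AlgebraTensorModule.cancelBaseChange A Rp κ κ M
  let eF : κ ⊗[Rp] (Rp ⊗[A] F) ≃ₗ[κ] κ ⊗[A] F := AlgebraTensorModule.cancelBaseChange A Rp κ κ F
  have hcomm : ∀ y, eF ((l.lTensor κ) y) = (v.lTensor κ) (eM y) := by
    intro y
    induction y using TensorProduct.induction_on with
    | zero => simp
    | tmul a z =>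
      induction z using TensorProduct.induction_on with
      | zero => simp
      | tmul b x =>
        simp only [LinearMap.lTensor_tmul, l, LinearMap.baseChange_tmul, eF, eM,
          AlgebraTensorModule.cancelBaseChange_tmul]
      | add z z' hz hz' =>
        rw [TensorProduct.tmul_add, map_add, map_add, map_add, map_add, hz, hz']
    | add y y' hy hy' => rw [map_add, map_add, map_add, map_add, hy, hy']
  have hl : Function.Injective (l.lTensor (IsLocalRing.ResidueField Rp)) := by
    intro y y' h
    apply eM.injective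
    apply hv
    rw [← hcomm, ← hcomm]
    exact congrArg eF h
  obtain ⟨l', hl'⟩ := (IsLocalRing.split_injective_iff_lTensor_residueField_injective l).mpr hl
  let jM : M →ₗ[A] Rp ⊗[A] M := TensorProduct.mk A Rp M 1
  let jF : F →ₗ[A] Rp ⊗[A] F := TensorProduct.mk A Rp F 1
  obtain ⟨w₂, s, hw₂⟩ := Module.FinitePresentation.exists_lift_of_isLocalizedModule
    p.asIdeal.primeCompl jM ((l'.restrictScalars A) ∘ₗ jF)
  have h1 : jM ∘ₗ (w₂ ∘ₗ v) = jM ∘ₗ (s • (LinearMap.id : M →ₗ[A] M)) := by
    rw [← LinearMap.comp_assoc, hw₂]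
    ext x
    simp only [LinearMap.coe_comp, Function.comp_apply, LinearMap.smul_apply,
      LinearMap.coe_restrictScalars, LinearMap.id_coe, id_eq]
    have : jF (v x) = l (jM x) := by
      simp [jF, jM, l, LinearMap.baseChange_tmul]
    rw [this, ← LinearMap.comp_apply, hl', LinearMap.id_apply, Submonoid.smul_def,
      Submonoid.smul_def, map_smul]
  obtain ⟨t, ht⟩ := Module.Finite.exists_smul_of_comp_eq_of_isLocalizedModule
    p.asIdeal.primeCompl jM _ _ h1
  refine ⟨(t : A) * (s : A), (t * s).2, (t : A) • w₂, ?_⟩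
  intro x
  have := LinearMap.congr_fun ht x
  simp only [LinearMap.smul_apply, LinearMap.coe_comp, Function.comp_apply, LinearMap.id_coe,
    id_eq] at this
  rw [LinearMap.smul_apply, mul_smul]
  exact this

end FF

section Main
variable {A : Type u} [CommRing A]

theorem exists_finite_summand {β : Type u} (T : Finset β) :
    ∃ (m : ℕ) (c : (Fin m → A) →ₗ[A] (β →₀ A)) (c' : (β →₀ A) →ₗ[A] (Fin m → A)),
      c' ∘ₗ c = LinearMap.id ∧ ∀ g : β →₀ A, g.support ⊆ T → c (c' g) = g := by
  classical
  let e : Fin T.card ≃ T := T.equivFin.symm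
  let c : (Fin T.card → A) →ₗ[A] (β →₀ A) :=
    Fintype.linearCombination A (fun k => Finsupp.single (e k : β) (1 : A))
  let c' : (β →₀ A) →ₗ[A] (Fin T.card → A) :=
    LinearMap.pi (fun k => Finsupp.lapply (e k : β))
  have hc : ∀ x : Fin T.card → A, c x = ∑ k, x k • Finsupp.single (e k : β) (1 : A) := by
    intro x
    simp [c, Fintype.linearCombination_apply]
  have hc' : ∀ (g : β →₀ A) k, c' g k = g (e k) := by
    intro g k
    simp [c']
  refine ⟨T.card, c, c', ?_, ?_⟩
  · ext k l
    simp only [LinearMap.coe_comp, Function.comp_apply, LinearMap.coe_single, LinearMap.id_coe,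
      id_eq]
    rw [hc', hc]
    simp only [Finsupp.coe_finsetSum, Finsupp.coe_smul, Finset.sum_apply, Pi.smul_apply,
      smul_eq_mul]
    rw [Finset.sum_eq_single k]
    · rw [Pi.single_eq_same, one_mul, Finsupp.single_apply, Pi.single_apply]
      by_cases h : l = k
      · subst h
        simp
      · rw [if_neg h, if_neg]
        intro h2
        exact h (e.injective (Subtype.ext h2)).symm
    · intro b _ hb
      rw [Pi.single_eq_of_ne hb, zero_mul]
    · intro h
      exact absurd (Finset.mem_univ k) h
  · intro g hg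
    rw [hc]
    ext b
    simp only [hc', Finsupp.coe_finsetSum, Finsupp.coe_smul, Finset.sum_apply, Pi.smul_apply,
      smul_eq_mul, Finsupp.single_apply]
    by_cases hb : b ∈ T
    · rw [Finset.sum_eq_single (e.symm ⟨b, hb⟩)]
      · simp
      · intro k _ hk
        have : (e k : β) ≠ b := by
          intro h
          apply hk
          apply e.injective
          rw [Equiv.apply_symm_apply]
          exact Subtype.ext h
        rw [if_neg this, mul_zero]
      · intro h
        exact absurd (Finset.mem_univ _) h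
    · have hgb : g b = 0 := by
        by_contra h
        exact hb (hg (Finsupp.mem_support_iff.mpr h))
      rw [hgb]
      apply Finset.sum_eq_zero
      intro k _
      have : (e k : β) ≠ b := by
        intro h
        apply hb
        rw [← h]
        exact (e k).2
      rw [if_neg this, mul_zero]


variable {M N : Type u} [AddCommGroup M] [Module A M] [Module.Finite A M]
  [AddCommGroup N] [Module A N] [Module.Projective A N]

theorem exists_global (u : M →ₗ[A] N) (p : PrimeSpectrum A)
    (hb : Function.Injective (u.lTensor p.asIdeal.ResidueField)) :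
    ∃ f : A, f ∉ p.asIdeal ∧ ∃ w₀ : N →ₗ[A] M, ∀ x, w₀ (u x) = f • x := by
  classical
  obtain ⟨i, hi⟩ := Module.projective_def'.mp (inferInstance : Module.Projective A N)
  set r : (N →₀ A) →ₗ[A] N := Finsupp.linearCombination A id with hr
  set u' : M →ₗ[A] (N →₀ A) := i ∘ₗ u with hu'
  obtain ⟨G, hG⟩ := (Module.finite_def.mp (inferInstance : Module.Finite A M))
  obtain ⟨m, c, c', hcc, hc⟩ := exists_finite_summand (A := A)
    (G.biUnion (fun g => (u' g).support))
  have hsupp : ∀ x : M, (u' x).support ⊆ G.biUnion (fun g => (u' g).support) := by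
    intro x
    have hx : x ∈ Submodule.span A (G : Set M) := by
      rw [hG]
      exact Submodule.mem_top
    have hle : Submodule.span A (G : Set M) ≤
        Submodule.comap u' (Finsupp.supported A A
          ((G.biUnion (fun g => (u' g).support) : Finset N) : Set N)) := by
      rw [Submodule.span_le]
      intro g hg
      rw [SetLike.mem_coe, Submodule.mem_comap, Finsupp.mem_supported]
      intro y hy
      exact Finset.mem_coe.mpr (Finset.mem_biUnion.mpr ⟨g, hg, hy⟩)
    have := hle hx
    rw [Submodule.mem_comap, Finsupp.mem_supported] at this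
    exact_mod_cast this
  set v : M →ₗ[A] (Fin m → A) := c' ∘ₗ u' with hv
  have hcv : c ∘ₗ v = i ∘ₗ u := by
    ext1 x
    simp only [LinearMap.coe_comp, Function.comp_apply, hv]
    exact hc _ (hsupp x)
  have hiinj : Function.Injective (i.lTensor p.asIdeal.ResidueField) := by
    intro y y' h
    have := congrArg (r.lTensor p.asIdeal.ResidueField) h
    rwa [← LinearMap.lTensor_comp_apply, ← LinearMap.lTensor_comp_apply, hi,
      LinearMap.lTensor_id_apply, LinearMap.lTensor_id_apply] at this
  have hvinj : Function.Injective (v.lTensor p.asIdeal.ResidueField) := by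
    have h1 : Function.Injective ((c ∘ₗ v).lTensor p.asIdeal.ResidueField) := by
      rw [hcv, LinearMap.lTensor_comp]
      exact hiinj.comp hb
    rw [LinearMap.lTensor_comp] at h1
    exact Function.Injective.of_comp h1
  obtain ⟨f, hf, w₁, hw₁⟩ := exists_leftInverse_finite_free v p hvinj
  refine ⟨f, hf, w₁ ∘ₗ c' ∘ₗ i, ?_⟩
  intro x
  exact hw₁ x

theorem exists_local (u : M →ₗ[A] N) (S : Submonoid A) (f : A) (hf : f ∈ S)
    (w₀ : N →ₗ[A] M) (hw₀ : ∀ x, w₀ (u x) = f • x) :
    ∃ w : LocalizedModule S N →ₗ[A] LocalizedModule S M,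
      w ∘ₗ (LocalizedModule.map S u).restrictScalars A = LinearMap.id := by
  have hbij := (Module.End.isUnit_iff _).mp
    (IsLocalizedModule.map_units (LocalizedModule.mkLinearMap S M) ⟨f, hf⟩)
  let E : LocalizedModule S M ≃ₗ[A] LocalizedModule S M := LinearEquiv.ofBijective _ hbij
  refine ⟨E.symm.toLinearMap ∘ₗ (LocalizedModule.map S w₀).restrictScalars A, ?_⟩
  ext1 y
  simp only [LinearMap.coe_comp, LinearEquiv.coe_coe, Function.comp_apply,
    LinearMap.coe_restrictScalars, LinearMap.id_coe, id_eq]
  rw [LinearEquiv.symm_apply_eq]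
  induction y using LocalizedModule.induction_on with
  | h m s =>
    rw [LocalizedModule.map_mk, LocalizedModule.map_mk, hw₀]
    change _ = f • LocalizedModule.mk m s
    rw [LocalizedModule.smul'_mk]

end Main


open TensorProduct in
/-- Let A be a ring, M an A-module of finite type, N a projective A-module, u : M → N a homomorphism.
For a prime ideal 𝔭 the following are equivalent: (a) u_𝔭 : M_𝔭 → N_𝔭 is left invertible; (b) u ⊗ 1
: M ⊗ k(𝔭) → N ⊗ k(𝔭) is injective; (d) there is f ∉ 𝔭 with u_f : M_f → N_f left invertible.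
Moreover the set of such 𝔭 is open in Spec A. (The published statement also has a determinant
criterion (c); this row omits it.) -/
theorem result {A : Type u} [CommRing A] {M N : Type u} [AddCommGroup M] [Module A M]
    [Module.Finite A M] [AddCommGroup N] [Module A N] [Module.Projective A N] (u : M →ₗ[A] N) :
    (∀ p : PrimeSpectrum A,
      [∃ w : LocalizedModule p.asIdeal.primeCompl N →ₗ[A] LocalizedModule p.asIdeal.primeCompl M,
          w ∘ₗ LocalizedModule.map p.asIdeal.primeCompl u = LinearMap.id,
       Function.Injective (u.lTensor p.asIdeal.ResidueField),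
       ∃ f : A, f ∉ p.asIdeal ∧
          ∃ w : LocalizedModule (Submonoid.powers f) N →ₗ[A] LocalizedModule (Submonoid.powers f) M,
            w ∘ₗ LocalizedModule.map (Submonoid.powers f) u = LinearMap.id].TFAE) ∧
    IsOpen {p : PrimeSpectrum A |
      ∃ w : LocalizedModule p.asIdeal.primeCompl N →ₗ[A] LocalizedModule p.asIdeal.primeCompl M,
        w ∘ₗ LocalizedModule.map p.asIdeal.primeCompl u = LinearMap.id} := by
  have htfae : ∀ p : PrimeSpectrum A,
      [∃ w : LocalizedModule p.asIdeal.primeCompl N →ₗ[A] LocalizedModule p.asIdeal.primeCompl M,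
          w ∘ₗ LocalizedModule.map p.asIdeal.primeCompl u = LinearMap.id,
       Function.Injective (u.lTensor p.asIdeal.ResidueField),
       ∃ f : A, f ∉ p.asIdeal ∧
          ∃ w : LocalizedModule (Submonoid.powers f) N →ₗ[A] LocalizedModule (Submonoid.powers f) M,
            w ∘ₗ LocalizedModule.map (Submonoid.powers f) u = LinearMap.id].TFAE := by
    intro p
    tfae_have 1 → 2 := by
      rintro ⟨w, hw⟩
      exact lTensor_injective_of_leftInverse u _ p le_rfl w hw
    tfae_have 3 → 2 := by
      rintro ⟨f, hf, w, hw⟩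
      exact lTensor_injective_of_leftInverse u _ p (Submonoid.powers_le.mpr hf) w hw
    tfae_have 2 → 1 := by
      intro hb
      obtain ⟨f, hf, w₀, hw₀⟩ := exists_global u p hb
      exact exists_local u _ f hf w₀ hw₀
    tfae_have 2 → 3 := by
      intro hb
      obtain ⟨f, hf, w₀, hw₀⟩ := exists_global u p hb
      exact ⟨f, hf, exists_local u _ f (Submonoid.mem_powers f) w₀ hw₀⟩
    tfae_finish
  refine ⟨htfae, ?_⟩
  rw [isOpen_iff_forall_mem_open]
  intro p hp
  obtain ⟨f, hf, w, hw⟩ := ((htfae p).out 0 2).mp hp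
  refine ⟨PrimeSpectrum.basicOpen f, ?_, (PrimeSpectrum.basicOpen f).2, hf⟩
  intro q hq
  have h3 : ∃ f : A, f ∉ q.asIdeal ∧
      ∃ w : LocalizedModule (Submonoid.powers f) N →ₗ[A] LocalizedModule (Submonoid.powers f) M,
        w ∘ₗ LocalizedModule.map (Submonoid.powers f) u = LinearMap.id := ⟨f, hq, w, hw⟩
  exact ((htfae q).out 0 2).mpr h3

end Groth.Agent.S4530
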