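import Groth.Statements.S4531
import Groth.Agent.Lib.Helper52.KapDescent
import Mathlib

set_option autoImplicit false
universe u
open EGA41

namespace Groth.Agent.S4531

open TensorProduct in
/-- Left invertibility into a projective module: injective with projective cokernel. -/
theorem leftInverse_iff {A : Type u} [CommRing A] {M N : Type u} [AddCommGroup M] [Module A M]
    [AddCommGroup N] [Module A N] [Module.Projective A N] (u : M →ₗ[A] N) :
    (∃ w : N →ₗ[A] M, w ∘ₗ u = LinearMap.id) ↔
      Function.Injective u ∧ Module.Projective A (N ⧸ LinearMap.range u) := by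
  constructor
  · rintro ⟨w, hw⟩
    have hwu : ∀ m, w (u m) = m := fun m => LinearMap.congr_fun hw m
    refine ⟨Function.LeftInverse.injective hwu, ?_⟩
    let p : N →ₗ[A] N := LinearMap.id - u ∘ₗ w
    have hp : LinearMap.range u ≤ LinearMap.ker p := by
      rintro _ ⟨m, rfl⟩
      show u m - u (w (u m)) = 0
      rw [hwu, sub_self]
    let q' : (N ⧸ LinearMap.range u) →ₗ[A] N := (LinearMap.range u).liftQ p hp
    refine Module.Projective.of_split q' (LinearMap.range u).mkQ ?_
    apply LinearMap.ext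
    intro x
    obtain ⟨n, rfl⟩ := (LinearMap.range u).mkQ_surjective x
    show (LinearMap.range u).mkQ (n - u (w n)) = (LinearMap.range u).mkQ n
    rw [map_sub, sub_eq_self, Submodule.mkQ_apply, Submodule.Quotient.mk_eq_zero]
    exact ⟨_, rfl⟩
  · rintro ⟨hinj, hproj⟩
    obtain ⟨s, hs⟩ := Module.projective_lifting_property (LinearMap.range u).mkQ LinearMap.id
      (LinearMap.range u).mkQ_surjective
    have hs' : ∀ y, (LinearMap.range u).mkQ (s y) = y := fun y => LinearMap.congr_fun hs y
    let e := LinearEquiv.ofInjective u hinj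
    have hmem : ∀ n, (LinearMap.id - s ∘ₗ (LinearMap.range u).mkQ : N →ₗ[A] N) n ∈
        LinearMap.range u := by
      intro n
      have h1 : (LinearMap.range u).mkQ (n - s ((LinearMap.range u).mkQ n)) = 0 := by
        rw [map_sub, hs', sub_self]
      rw [Submodule.mkQ_apply, Submodule.Quotient.mk_eq_zero] at h1
      exact h1
    let v : N →ₗ[A] LinearMap.range u := LinearMap.codRestrict _ _ hmem
    refine ⟨e.symm.toLinearMap ∘ₗ v, ?_⟩
    apply LinearMap.ext
    intro m
    show e.symm (v (u m)) = m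
    rw [LinearEquiv.symm_apply_eq]
    apply Subtype.ext
    show u m - s ((LinearMap.range u).mkQ (u m)) = u m
    have : (LinearMap.range u).mkQ (u m) = 0 := by
      rw [Submodule.mkQ_apply, Submodule.Quotient.mk_eq_zero]
      exact ⟨m, rfl⟩
    rw [this, map_zero, sub_zero]

open TensorProduct in
theorem part_two {A : Type u} [CommRing A] {M N : Type u} [AddCommGroup M] [Module A M]
    [AddCommGroup N] [Module A N] [Module.Projective A N] (u : M →ₗ[A] N)
    (A' : Type u) [CommRing A'] [Algebra A A'] [Module.FaithfullyFlat A A'] :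
    (∃ w : N →ₗ[A] M, w ∘ₗ u = LinearMap.id) ↔
      ∃ w : A' ⊗[A] N →ₗ[A'] A' ⊗[A] M, w ∘ₗ u.baseChange A' = LinearMap.id := by
  constructor
  · rintro ⟨w, hw⟩
    exact ⟨w.baseChange A', by rw [← LinearMap.baseChange_comp, hw, LinearMap.baseChange_id]⟩
  · intro h
    obtain ⟨hinj', hproj'⟩ := (leftInverse_iff (u.baseChange A')).1 h
    rw [leftInverse_iff]
    constructor
    · rw [← Module.FaithfullyFlat.lTensor_injective_iff_injective A A']
      intro x y hxy
      exact hinj' hxy
    · let g : A' ⊗[A] N →ₗ[A'] A' ⊗[A] (N ⧸ LinearMap.range u) :=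
        (LinearMap.range u).mkQ.baseChange A'
      have hg : Function.Surjective g :=
        LinearMap.lTensor_surjective A' (LinearMap.range u).mkQ_surjective
      have hexact : Function.Exact (LinearMap.lTensor A' u)
          (LinearMap.lTensor A' (LinearMap.range u).mkQ) :=
        lTensor_exact A' (LinearMap.exact_map_mkQ_range u) (LinearMap.range u).mkQ_surjective
      have hker : LinearMap.ker g = LinearMap.range (u.baseChange A') := by
        ext x
        rw [LinearMap.mem_ker]
        exact hexact x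
      have e1 : ((A' ⊗[A] N) ⧸ LinearMap.range (u.baseChange A')) ≃ₗ[A']
          A' ⊗[A] (N ⧸ LinearMap.range u) :=
        (Submodule.quotEquivOfEq _ _ hker.symm).trans (g.quotKerEquivOfSurjective hg)
      have : Module.Projective A' (A' ⊗[A] (N ⧸ LinearMap.range u)) :=
        Module.Projective.of_equiv e1
      exact Groth.Agent.Lib.Helper52.Kap.projective_of_faithfullyFlat_baseChange A'

theorem part_one {A : Type u} [CommRing A] {M N : Type u} [AddCommGroup M] [Module A M]
    [Module.Finite A M] [AddCommGroup N] [Module A N] [Module.Projective A N] (u : M →ₗ[A] N) :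
    (∃ w : N →ₗ[A] M, w ∘ₗ u = LinearMap.id) ↔
      ∀ (m : Ideal A) [m.IsMaximal],
        ∃ w : LocalizedModule m.primeCompl N →ₗ[A] LocalizedModule m.primeCompl M,
          w ∘ₗ (LocalizedModule.map m.primeCompl u).restrictScalars A = LinearMap.id := by
  classical
  constructor
  · rintro ⟨w, hw⟩ m _
    refine ⟨(LocalizedModule.map m.primeCompl w).restrictScalars A, ?_⟩
    apply LinearMap.ext
    intro x
    induction x using LocalizedModule.induction_on with
    | h x t =>
      show LocalizedModule.map m.primeCompl w (LocalizedModule.map m.primeCompl u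
        (LocalizedModule.mk x t)) = LocalizedModule.mk x t
      rw [LocalizedModule.map_mk, LocalizedModule.map_mk]
      congr 1
      exact LinearMap.congr_fun hw x
  · intro h
    obtain ⟨s, hs⟩ := Module.projective_def'.1 (inferInstance : Module.Projective A N)
    set p : (N →₀ A) →ₗ[A] N := Finsupp.linearCombination A id with hp
    have hps : ∀ n, p (s n) = n := fun n => LinearMap.congr_fun hs n
    obtain ⟨G, hG⟩ := (Module.Finite.fg_top : (⊤ : Submodule A M).FG)
    let I₀ : Finset N := G.biUnion fun g => (s (u g)).support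
    have hsupp : ∀ m, (s ∘ₗ u) m ∈ Finsupp.supported A A (I₀ : Set N) := by
      intro m
      have hm : m ∈ Submodule.span A (G : Set M) := hG ▸ Submodule.mem_top
      induction hm using Submodule.span_induction with
      | mem g hg =>
        rw [Finsupp.mem_supported]
        intro i hi
        exact Finset.mem_coe.2 (Finset.mem_biUnion.2 ⟨g, hg, hi⟩)
      | zero => simp
      | add a b _ _ ha hb => rw [map_add]; exact add_mem ha hb
      | smul r a _ ha => rw [map_smul]; exact Submodule.smul_mem _ r ha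
    let e := Finsupp.supportedEquivFinsupp (M := A) (R := A) (I₀ : Set N)
    let u₂ : M →ₗ[A] ((I₀ : Set N) →₀ A) :=
      e.toLinearMap ∘ₗ LinearMap.codRestrict (Finsupp.supported A A (I₀ : Set N)) (s ∘ₗ u) hsupp
    let j : ((I₀ : Set N) →₀ A) →ₗ[A] (N →₀ A) :=
      (Finsupp.supported A A (I₀ : Set N)).subtype ∘ₗ e.symm.toLinearMap
    let r : (N →₀ A) →ₗ[A] ((I₀ : Set N) →₀ A) :=
      e.toLinearMap ∘ₗ Finsupp.restrictDom A A (I₀ : Set N)
    have hju₂ : ∀ m, j (u₂ m) = s (u m) := by
      intro m
      simp [j, u₂]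
    have hrj : ∀ l, r (j l) = l := by
      intro l
      show e (Finsupp.restrictDom A A (I₀ : Set N)
        ((Finsupp.supported A A (I₀ : Set N)).subtype (e.symm l))) = l
      have := LinearMap.congr_fun (Finsupp.restrictDom_comp_subtype (M := A) (R := A)
        (s := (I₀ : Set N))) (e.symm l)
      rw [LinearMap.comp_apply] at this
      rw [this]
      simp
    suffices h2 : ∃ w₂ : ((I₀ : Set N) →₀ A) →ₗ[A] M, w₂ ∘ₗ u₂ = LinearMap.id by
      obtain ⟨w₂, hw₂⟩ := h2
      refine ⟨w₂ ∘ₗ r ∘ₗ s, ?_⟩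
      apply LinearMap.ext
      intro m
      show w₂ (r (s (u m))) = m
      rw [← hju₂, hrj]
      exact LinearMap.congr_fun hw₂ m
    let 𝔞 : Ideal A :=
      { carrier := {a | ∃ w : ((I₀ : Set N) →₀ A) →ₗ[A] M, w ∘ₗ u₂ = a • LinearMap.id}
        add_mem' := by
          rintro a b ⟨w₁, h₁⟩ ⟨w₂, h₂⟩
          exact ⟨w₁ + w₂, by rw [LinearMap.add_comp, h₁, h₂, add_smul]⟩
        zero_mem' := ⟨0, by simp⟩
        smul_mem' := by
          rintro c a ⟨w, hw⟩
          exact ⟨c • w, by rw [LinearMap.smul_comp, hw, smul_smul]; rfl⟩ }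
    by_contra hne
    have h𝔞 : 𝔞 ≠ ⊤ := by
      intro htop
      have h1 : (1 : A) ∈ 𝔞 := htop ▸ Submodule.mem_top
      obtain ⟨w, hw⟩ := h1
      exact hne ⟨w, by rw [hw, one_smul]⟩
    obtain ⟨𝔪, hmax, hle⟩ := Ideal.exists_le_maximal 𝔞 h𝔞
    obtain ⟨w', hw'⟩ := h 𝔪
    have hw'' : ∀ x, w' (LocalizedModule.map 𝔪.primeCompl u x) = x := fun x =>
      LinearMap.congr_fun hw' x
    let fM := LocalizedModule.mkLinearMap 𝔪.primeCompl M
    let fL := LocalizedModule.mkLinearMap 𝔪.primeCompl ((I₀ : Set N) →₀ A)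
    let g : ((I₀ : Set N) →₀ A) →ₗ[A] LocalizedModule 𝔪.primeCompl M :=
      w' ∘ₗ ((LocalizedModule.map 𝔪.primeCompl (p ∘ₗ j)).restrictScalars A) ∘ₗ fL
    obtain ⟨h₀, t₀, ht₀⟩ :=
      Module.FinitePresentation.exists_lift_of_isLocalizedModule 𝔪.primeCompl fM g
    have hcomp : fM ∘ₗ (h₀ ∘ₗ u₂) = fM ∘ₗ ((t₀ : A) • LinearMap.id) := by
      apply LinearMap.ext
      intro m
      show fM (h₀ (u₂ m)) = fM ((t₀ : A) • m)
      have h1 := LinearMap.congr_fun ht₀ (u₂ m)
      rw [LinearMap.comp_apply] at h1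
      rw [h1]
      show t₀ • w' (LocalizedModule.map 𝔪.primeCompl (p ∘ₗ j) (LocalizedModule.mk (u₂ m) 1)) = _
      rw [LocalizedModule.map_mk]
      have h2 : (p ∘ₗ j) (u₂ m) = u m := by
        show p (j (u₂ m)) = u m
        rw [hju₂, hps]
      rw [h2, ← LocalizedModule.map_mk, hw'', map_smul]
      rfl
    obtain ⟨t₁, ht₁⟩ :=
      Module.Finite.exists_smul_of_comp_eq_of_isLocalizedModule 𝔪.primeCompl fM _ _ hcomp
    have hmem : (t₁ : A) * (t₀ : A) ∈ 𝔞 := by
      refine ⟨(t₁ : A) • h₀, ?_⟩
      rw [LinearMap.smul_comp]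
      have h3 : (t₁ : A) • (h₀ ∘ₗ u₂) = (t₁ : A) • ((t₀ : A) • LinearMap.id) := ht₁
      rw [h3, smul_smul]
    exact (𝔪.primeCompl.mul_mem t₁.2 t₀.2) (hle hmem)


open TensorProduct in
/-- Let A be a ring, M an A-module of finite type, N a projective A-module and u : M → N a homomorphism.
(i) u is left invertible if and only if u_𝔪 : M_𝔪 → N_𝔪 is left invertible for every maximal ideal 𝔪
of A. (ii) If A' is an A-algebra which is a faithfully flat A-module, u is left invertible if and
only if u ⊗ 1 : M ⊗_A A' → N ⊗_A A' is left invertible (as an A'-linear map). -/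
theorem result {A : Type u} [CommRing A] {M N : Type u} [AddCommGroup M] [Module A M]
    [Module.Finite A M] [AddCommGroup N] [Module A N] [Module.Projective A N] (u : M →ₗ[A] N) :
    ((∃ w : N →ₗ[A] M, w ∘ₗ u = LinearMap.id) ↔
      ∀ (m : Ideal A) [m.IsMaximal],
        ∃ w : LocalizedModule m.primeCompl N →ₗ[A] LocalizedModule m.primeCompl M,
          w ∘ₗ LocalizedModule.map m.primeCompl u = LinearMap.id) ∧
    ∀ (A' : Type u) [CommRing A'] [Algebra A A'] [Module.FaithfullyFlat A A'],
      (∃ w : N →ₗ[A] M, w ∘ₗ u = LinearMap.id) ↔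
        ∃ w : A' ⊗[A] N →ₗ[A'] A' ⊗[A] M, w ∘ₗ u.baseChange A' = LinearMap.id := by
  exact ⟨part_one u, fun A' _ _ _ => part_two u A'⟩

end Groth.Agent.S4531
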