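import Groth.Statements.S4539
import Groth.Agent.Lib.Helper82.DVRPrincipal
import Groth.Agent.Lib.Helper56.GeomReduced
import Mathlib

set_option autoImplicit false
universe u
open EGA41

namespace Groth.Agent.S4539

open IsLocalRing TensorProduct

/-- Over a perfect field every field extension is geometrically reduced. -/
theorem geomRed_of_perfect (F K : Type*) [Field F] [PerfectField F] [Field K] [Algebra F K] :
    Algebra.IsGeometricallyReduced F K := by
  rw [Algebra.isGeometricallyReduced_field_iff]
  haveI : IsReduced (K ⊗[F] AlgebraicClosure F) :=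
    Groth.Agent.Lib.Helper56.isReduced_tensor_of_isSeparable
  exact isReduced_of_injective
    (Algebra.TensorProduct.comm F (AlgebraicClosure F) K).toRingEquiv.toRingHom
    (Algebra.TensorProduct.comm F (AlgebraicClosure F) K).injective

section

variable (p : ℕ) [hp : (Ideal.span {(p : ℤ)}).IsPrime]

local notation "P" => Localization.AtPrime (Ideal.span {(p : ℤ)})

theorem maximalIdeal_P : maximalIdeal P = Ideal.span {((p : ℕ) : P)} := by
  rw [← Localization.AtPrime.map_eq_maximalIdeal, Ideal.map_span, Set.image_singleton]
  congr 2
  exact map_natCast (algebraMap ℤ P) p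

theorem map_maximalIdeal_P (A : Type) [CommRing A] [Algebra P A] :
    (maximalIdeal P).map (algebraMap P A) = Ideal.span {((p : ℕ) : A)} := by
  rw [maximalIdeal_P, Ideal.map_span, Set.image_singleton]
  congr 2
  exact map_natCast (algebraMap P A) p

theorem isNoetherianRing_P : IsNoetherianRing P :=
  IsLocalization.isNoetherianRing (Ideal.span {(p : ℤ)}).primeCompl P inferInstance

theorem flat_iff (A : Type) [CommRing A] [Algebra P A] :
    Module.Flat P A ↔ Module.Flat ℤ A := by
  haveI := IsScalarTower.of_algebraMap_eq (R := ℤ) (S := P) (A := A)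
    (fun n => by
      rw [eq_intCast (algebraMap ℤ A), eq_intCast (algebraMap ℤ P), map_intCast])
  exact Module.flat_iff_of_isLocalization P (Ideal.span {(p : ℤ)}).primeCompl A

theorem flat_of_charZero (A : Type) [CommRing A] [IsDomain A] [CharZero A] [Algebra P A] :
    Module.Flat P A := by
  rw [flat_iff, Module.Flat.flat_iff_torsion_eq_bot_of_isBezout, eq_bot_iff]
  rintro a ⟨⟨n, hn⟩, h⟩
  rw [Submodule.mem_bot]
  change n • a = 0 at h
  rw [zsmul_eq_mul] at h
  rcases mul_eq_zero.mp h with h1 | h1
  · exfalso
    have : n = 0 := by exact_mod_cast h1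
    exact nonZeroDivisors.ne_zero hn this
  · exact h1

theorem perfectField_residue (hchar : CharP (ResidueField P) p) :
    PerfectField (ResidueField P) := by
  rcases Nat.eq_zero_or_pos p with h0 | hpos
  · haveI : CharZero (ResidueField P) := charZero_of_inj_zero (fun n hn => by
      have h1 := (CharP.cast_eq_zero_iff (ResidueField P) p n).mp hn
      rw [h0] at h1
      exact Nat.eq_zero_of_zero_dvd h1)
    exact PerfectField.ofCharZero
  · have hprime : p.Prime := by
      have h1 : Prime (p : ℤ) :=
        (Ideal.span_singleton_prime (by exact_mod_cast hpos.ne')).mp hp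
      exact Nat.prime_iff_prime_int.mpr h1
    haveI : Fact p.Prime := ⟨hprime⟩
    haveI : ExpChar (ResidueField P) p := ExpChar.prime hprime
    have hsurj : Function.Surjective (frobenius (ResidueField P) p) := by
      intro x
      refine ⟨x, ?_⟩
      obtain ⟨y, rfl⟩ := IsLocalRing.residue_surjective x
      obtain ⟨⟨a, s⟩, rfl⟩ := IsLocalization.mk'_surjective (Ideal.span {(p : ℤ)}).primeCompl y
      have h1 := IsLocalization.mk'_spec P a s
      have h2 := congrArg (residue P) h1
      rw [map_mul] at h2
      have h3 : residue P (algebraMap ℤ P (s : ℤ)) = ((s : ℤ) : ResidueField P) := by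
        rw [← RingHom.comp_apply]
        exact map_intCast _ _
      have h4 : residue P (algebraMap ℤ P a) = (a : ResidueField P) := by
        rw [← RingHom.comp_apply]
        exact map_intCast _ _
      have hs0 : ((s : ℤ) : ResidueField P) ≠ 0 := by
        rw [← h3]
        intro h
        have hu : IsUnit (algebraMap ℤ P (s : ℤ)) := IsLocalization.map_units P s
        exact (IsLocalRing.residue_ne_zero_iff_isUnit _).mpr hu h
      rw [h3, h4] at h2
      have h5 := congrArg (frobenius (ResidueField P) p) h2
      rw [map_mul, map_intCast, map_intCast] at h5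
      exact mul_right_cancel₀ hs0 (h5.trans h2.symm)
    haveI : PerfectRing (ResidueField P) p := PerfectRing.ofSurjective _ p hsurj
    exact PerfectRing.toPerfectField _ p

end

/-- A Cohen ring in the prelude's sense has characteristic zero. -/
theorem charZero_of_cohen {A : Type} [CommRing A] [IsDomain A] [IsDiscreteValuationRing A]
    (q : ℕ) (hq : q.Prime) (hmax : maximalIdeal A = Ideal.span {(q : A)}) : CharZero A := by
  obtain ⟨c, hc⟩ := CharP.exists A
  rcases CharP.char_is_prime_or_zero A c with hcp | hc0
  · exfalso
    have h1 : ((c : ℕ) : A) = 0 := CharP.cast_eq_zero A c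
    have hqmem : (q : A) ∈ maximalIdeal A := by
      rw [hmax]
      exact Ideal.mem_span_singleton_self _
    have hcmem : (c : A) ∈ maximalIdeal A := by
      rw [h1]
      exact zero_mem _
    rw [hmax, Ideal.mem_span_singleton] at hcmem
    -- q ∣ c in A; both prime naturals
    have hqc : q = c := by
      by_contra hne
      have hcop : Nat.Coprime q c := (Nat.coprime_primes hq hcp).mpr hne
      have hone : (1 : A) ∈ maximalIdeal A := by
        have h2 : ((Nat.gcdA q c : ℤ) : A) * (q : A) + ((Nat.gcdB q c : ℤ) : A) * (c : A) = 1 := by
          have h3 := Nat.gcd_eq_gcd_ab q c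
          rw [hcop.gcd_eq_one] at h3
          have h4 : ((1 : ℕ) : ℤ) = (q : ℤ) * Nat.gcdA q c + (c : ℤ) * Nat.gcdB q c := h3
          have h5 := congrArg (Int.cast : ℤ → A) h4
          push_cast at h5
          rw [h5]
          ring
        rw [← h2, h1, mul_zero, add_zero]
        exact Ideal.mul_mem_left _ _ hqmem
      exact (Ideal.ne_top_iff_one _).mp (IsLocalRing.maximalIdeal.isMaximal A).ne_top hone
    subst hqc
    rw [h1, Ideal.span_singleton_eq_bot.mpr rfl] at hmax
    exact IsDiscreteValuationRing.not_isField A (isField_iff_maximalIdeal_eq.mpr hmax)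
  · subst hc0
    exact CharP.charP_to_charZero A

open IsLocalRing in
/-- Let A be a local ring with residue characteristic p (p = 0 or a prime), P the prime local ring ℤ_(p)
(ℚ if p = 0) and P → A its unique local homomorphism. Then A is a Cohen ring, i.e. a Cohen P-algebra
— Noetherian and complete, flat over P, with pA its maximal ideal (and residue field separable over
the prime field) — if and only if A is a field of characteristic 0 or a complete discrete valuation
ring of residue characteristic > 0 whose maximal ideal is generated by p·1. -/
theorem result (p : ℕ) [hp : (Ideal.span {(p : ℤ)}).IsPrime]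
    {A : Type} [CommRing A] [IsLocalRing A] [CharP (ResidueField A) p]
    [Algebra (Localization.AtPrime (Ideal.span {(p : ℤ)})) A]
    [IsLocalHom (algebraMap (Localization.AtPrime (Ideal.span {(p : ℤ)})) A)] :
    EGA41.IsCohenAlgebra (Localization.AtPrime (Ideal.span {(p : ℤ)})) A ↔ EGA41.IsCohenRingEGA A := by
  have hcharP : CharP (ResidueField (Localization.AtPrime (Ideal.span {(p : ℤ)}))) p :=
    RingHom.charP (algebraMap (ResidueField (Localization.AtPrime (Ideal.span {(p : ℤ)})))
      (ResidueField A)) (RingHom.injective _) p
  have hgeom : Algebra.IsGeometricallyReduced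
      (ResidueField (Localization.AtPrime (Ideal.span {(p : ℤ)}))) (ResidueField A) := by
    haveI := perfectField_residue p hcharP
    exact geomRed_of_perfect _ _
  constructor
  · rintro ⟨hnP, hnA, hcomp, hflat, hmax, hgr⟩
    rw [map_maximalIdeal_P] at hmax
    rcases Nat.eq_zero_or_pos p with h0 | hpos
    · left
      have hbot : maximalIdeal A = ⊥ := by
        rw [← hmax, Ideal.span_singleton_eq_bot, h0, Nat.cast_zero]
      refine ⟨isField_iff_maximalIdeal_eq.mpr hbot, ?_⟩
      haveI : CharZero (ResidueField A) := charZero_of_inj_zero (fun n hn => by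
        have h1 := (CharP.cast_eq_zero_iff (ResidueField A) p n).mp hn
        rw [h0] at h1
        exact Nat.eq_zero_of_zero_dvd h1)
      exact (residue A).charZero
    · right
      have hprime : p.Prime := by
        have h1 : Prime (p : ℤ) :=
          (Ideal.span_singleton_prime (by exact_mod_cast hpos.ne')).mp hp
        exact Nat.prime_iff_prime_int.mpr h1
      have hnzd : ((p : ℕ) : A) ∈ nonZeroDivisors A := by
        haveI : Module.Flat ℤ A := (flat_iff p A).mp hflat
        have hreg : IsSMulRegular A (p : ℤ) :=
          Module.Flat.isSMulRegular_of_nonZeroDivisors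
            (mem_nonZeroDivisors_of_ne_zero (by exact_mod_cast hpos.ne'))
        rw [mem_nonZeroDivisors_iff_left]
        intro a ha
        apply hreg
        simp only [zsmul_eq_mul, Int.cast_natCast, mul_zero]
        exact ha
      haveI := hnA
      obtain ⟨hdom, hdvr⟩ :=
        Groth.Agent.Lib.Helper82.isDiscreteValuationRing_of_maximalIdeal_eq_span
          ((p : ℕ) : A) hnzd hmax.symm
      exact ⟨hdom, hdvr, hcomp, p, hprime, hmax.symm⟩
  · rintro (⟨hfield, hchar0⟩ | ⟨hdom, hdvr, hcomp, q, hq, hmax⟩)
    · haveI := hchar0
      have hbot : maximalIdeal A = ⊥ := isField_iff_maximalIdeal_eq.mp hfield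
      have hinj : Function.Injective (residue A) := by
        rw [injective_iff_map_eq_zero]
        intro a ha
        have h1 : a ∈ maximalIdeal A := (residue_eq_zero_iff a).mp ha
        rwa [hbot] at h1
      haveI : CharZero (ResidueField A) := charZero_of_injective_ringHom hinj
      have hp0 : p = 0 := CharP.eq (ResidueField A) inferInstance (CharP.ofCharZero _)
      haveI : IsDomain A := hfield.isDomain
      refine ⟨isNoetherianRing_P p, ?_, ?_, flat_of_charZero p A, ?_, hgeom⟩
      · letI := hfield.toField
        infer_instance
      · rw [hbot]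
        infer_instance
      · rw [map_maximalIdeal_P, hbot, Ideal.span_singleton_eq_bot, hp0, Nat.cast_zero]
    · haveI := hdom
      haveI := hdvr
      haveI : CharZero A := charZero_of_cohen q hq hmax
      have hqκ : ((q : ℕ) : ResidueField A) = 0 := by
        have h1 : (q : A) ∈ maximalIdeal A := by
          rw [hmax]
          exact Ideal.mem_span_singleton_self _
        have h2 := (residue_eq_zero_iff _).mpr h1
        rwa [map_natCast] at h2
      have hpq : p = q := by
        have h1 : p ∣ q := (CharP.cast_eq_zero_iff (ResidueField A) p q).mp hqκ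
        have hp1 : p ≠ 1 := CharP.char_ne_one (ResidueField A) p
        exact ((Nat.dvd_prime hq).mp h1).resolve_left hp1
      refine ⟨isNoetherianRing_P p, inferInstance, hcomp, flat_of_charZero p A, ?_, hgeom⟩
      rw [map_maximalIdeal_P, hmax, hpq]

end Groth.Agent.S4539
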