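import Groth.Statements.S4543
import Groth.Agent.Lib.Helper61.FSAdicComplete
import Mathlib.RingTheory.AdicCompletion.Functoriality
import Mathlib.RingTheory.Flat.Equalizer
import Mathlib.RingTheory.Nakayama
import Mathlib.LinearAlgebra.TensorProduct.RightExactness

set_option autoImplicit false
universe u
open EGA41

namespace Groth.Agent.S4543

open IsLocalRing in
/-- Let A be a Noetherian ring, J an ideal of A, B and B' two A-algebras which are Noetherian local
rings, the structure maps being continuous for the J-adic topology on A (JB and JB' lie in the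
maximal ideals); suppose B and B' are complete for the J-adic topologies, B is a formally smooth
A-algebra for the J-adic topology on A and the JB-adic topology on B (nilpotent test ideals, test
algebras killed by a power of J, test maps killing a power of JB), and B' is a flat A-module. Then
every (A/J)-algebra isomorphism u₀ : B/JB ≅ B'/JB' comes from an A-algebra isomorphism u : B ≅ B' by
passing to quotients. (B is taken formally smooth for the JB-adic topology, the topology along which
the argument lifts B → B'/JB' to B'; read with the convention that a local ring carries the adic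
topology of its maximal ideal, the published hypothesis would be formal smoothness for the
maximal-ideal topology on B, a weaker condition when JB is strictly smaller than the maximal ideal,
and that reading is not what the argument establishes.) -/
theorem result {A B B' : Type u} [CommRing A] [IsNoetherianRing A] (J : Ideal A)
    [CommRing B] [IsLocalRing B] [IsNoetherianRing B] [Algebra A B]
    [CommRing B'] [IsLocalRing B'] [IsNoetherianRing B'] [Algebra A B']
    (hB : J.map (algebraMap A B) ≤ maximalIdeal B) (hB' : J.map (algebraMap A B') ≤ maximalIdeal B')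
    [IsAdicComplete (J.map (algebraMap A B)) B] [IsAdicComplete (J.map (algebraMap A B')) B']
    (hfs : EGA41.IsFormallySmoothAdic A J B (J.map (algebraMap A B))) [Module.Flat A B']
    (u₀ : (B ⧸ J.map (algebraMap A B)) ≃ₐ[A ⧸ J] (B' ⧸ J.map (algebraMap A B'))) :
    ∃ u : B ≃ₐ[A] B', ∀ b : B,
      Ideal.Quotient.mk (J.map (algebraMap A B')) (u b) = u₀ (Ideal.Quotient.mk (J.map (algebraMap A B)) b) := by
  classical
  rw [Groth.Agent.Lib.Helper61.FSAdic.ega_iff] at hfs
  set JB : Ideal B := J.map (algebraMap A B) with hJB
  set JB' : Ideal B' := J.map (algebraMap A B') with hJB'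
  -- Hausdorffness of the quotient for the zero ideal
  have hmapbot : JB'.map (Ideal.Quotient.mk JB') = ⊥ := Ideal.map_quotient_self JB'
  haveI : IsHausdorff (JB'.map (Ideal.Quotient.mk JB')) (B' ⧸ JB') := by
    rw [hmapbot]
    refine ⟨fun x hx => ?_⟩
    have := hx 1
    rw [pow_one, SModEq.zero, Submodule.bot_smul] at this
    exact this
  let u₀' : B →+* B' ⧸ JB' := (u₀ : _ →+* _).comp (Ideal.Quotient.mk JB)
  have hcompat : u₀'.comp (algebraMap A B) = (Ideal.Quotient.mk JB').comp (algebraMap A B') := by
    ext a
    simp only [u₀', RingHom.comp_apply]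
    have h1 : Ideal.Quotient.mk JB (algebraMap A B a) =
        algebraMap (A ⧸ J) (B ⧸ JB) (Ideal.Quotient.mk J a) := rfl
    rw [h1]
    change u₀ (algebraMap (A ⧸ J) (B ⧸ JB) (Ideal.Quotient.mk J a)) = _
    rw [u₀.commutes]
    rfl
  obtain ⟨U, hU1, hU2, -⟩ := Groth.Agent.Lib.Helper61.FSAdic.lift_to_complete hfs JB'
    (algebraMap A B') ⟨1, by rw [pow_one]⟩ JB' ⟨1, by rw [pow_one]⟩ u₀' hcompat
    ⟨1, by
      rw [pow_one, hmapbot, Ideal.map_le_iff_le_comap]
      intro x hx
      rw [Ideal.mem_comap, Ideal.mem_bot]
      simp only [u₀', RingHom.comp_apply]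
      rw [Ideal.Quotient.eq_zero_iff_mem.mpr hx]
      exact map_zero _⟩
  have hUmk : ∀ b, Ideal.Quotient.mk JB' (U b) = u₀ (Ideal.Quotient.mk JB b) := fun b =>
    DFunLike.congr_fun hU2 b
  have hmapU : JB.map U = JB' := by
    rw [hJB, Ideal.map_map, hU1]
  -- surjectivity
  have hsurj : Function.Surjective U := by
    have : IsHausdorff (JB.map U) B' := by
      rw [hmapU]; infer_instance
    apply surjective_of_mk_map_comp_surjective (I := JB)
    intro y
    obtain ⟨b', rfl⟩ := Ideal.Quotient.mk_surjective y
    obtain ⟨z, hz⟩ := u₀.surjective (Ideal.Quotient.mk JB' b')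
    obtain ⟨b, rfl⟩ := Ideal.Quotient.mk_surjective z
    refine ⟨b, ?_⟩
    rw [RingHom.comp_apply, Ideal.Quotient.eq, hmapU, ← Ideal.Quotient.eq, hUmk, hz]
  -- injectivity
  let Ualg : B →ₐ[A] B' := { U with commutes' := fun a => DFunLike.congr_fun hU1 a }
  let Uₗ : B →ₗ[A] B' := Ualg.toLinearMap
  have hUₗ : ∀ b, Uₗ b = U b := fun b => rfl
  let K : Submodule A B := LinearMap.ker Uₗ
  have hinj_tensor : Function.Injective (K.subtype.lTensor (A ⧸ J)) :=
    LinearMap.lTensor_injective_of_exact_of_flat Uₗ hsurj K.subtype K.injective_subtype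
      (LinearMap.exact_subtype_ker_map Uₗ) (A ⧸ J)
  have hKJ : ∀ x : B, U x = 0 → x ∈ JB • (RingHom.ker U : Ideal B) := by
    intro x hx
    have hxK : x ∈ K := by
      rw [LinearMap.mem_ker, hUₗ, hx]
    have hxJB : x ∈ JB := by
      have h1 := hUmk x
      rw [hx, map_zero] at h1
      have h2 : Ideal.Quotient.mk JB x = 0 := by
        apply u₀.injective
        rw [← h1, map_zero]
      exact Ideal.Quotient.eq_zero_iff_mem.mp h2
    have h1 : (TensorProduct.mk A (A ⧸ J) B 1) x = 0 := by
      rw [← LinearMap.mem_ker, LinearMap.ker_tensorProductMk, Ideal.smul_top_eq_map]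
      exact hxJB
    have h2 : (TensorProduct.mk A (A ⧸ J) K 1) ⟨x, hxK⟩ = 0 := by
      apply hinj_tensor
      rw [map_zero]
      exact h1
    rw [← LinearMap.mem_ker, LinearMap.ker_tensorProductMk] at h2
    have h3 : ∀ y ∈ (J • (⊤ : Submodule A K)), (y : B) ∈ JB • (RingHom.ker U : Ideal B) := by
      intro y hy
      refine Submodule.smul_induction_on hy ?_ ?_
      · intro a ha k _
        have : ((a • k : K) : B) = algebraMap A B a • (k : B) := by
          rw [Submodule.coe_smul, Algebra.smul_def, smul_eq_mul]
        rw [this]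
        refine Submodule.smul_mem_smul (Ideal.mem_map_of_mem _ ha) ?_
        have hk := k.2
        rw [LinearMap.mem_ker, hUₗ] at hk
        exact hk
      · intro y z hy hz
        rw [Submodule.coe_add]
        exact Submodule.add_mem _ hy hz
    exact h3 ⟨x, hxK⟩ h2
  have hker : RingHom.ker U = ⊥ := by
    apply Submodule.eq_bot_of_le_smul_of_le_jacobson_bot JB (RingHom.ker U)
      (IsNoetherian.noetherian _)
    · intro x hx
      exact hKJ x hx
    · rw [IsLocalRing.jacobson_eq_maximalIdeal ⊥ bot_ne_top]
      exact hB
  have hinj : Function.Injective U := (RingHom.injective_iff_ker_eq_bot U).mpr hker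
  refine ⟨AlgEquiv.ofBijective Ualg ⟨hinj, hsurj⟩, fun b => ?_⟩
  exact hUmk b

end Groth.Agent.S4543
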