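import Groth.Statements.S4546
-- import your own Groth.Agent.* helpers here
import Groth.Agent.Lib.Helper49.AdmissibleExt

set_option autoImplicit false
universe u
open EGA41

namespace Groth.Agent.S4546

open TensorProduct Groth.Agent.Lib.Helper49.PBasis Groth.Agent.Lib.Helper49.Admissible
  Groth.Agent.Lib.Helper49.AdmissibleFam Groth.Agent.Lib.Helper49.AdmissibleExt

section F3

variable (p : ℕ) [Fact p.Prime] {k₀ K L : Type u} [Field k₀] [Field K] [Field L]
    [Algebra k₀ K] [Algebra K L] [Algebra k₀ L] [IsScalarTower k₀ K L] [CharP K p]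
  {ι : Type u} [Preorder ι] [IsDirected ι (· ≤ ·)] [Nonempty ι]

theorem indep_of_le (k k' : IntermediateField k₀ K) (hkk : k' ≤ k) {J : Type u} (x : J → K)
    (hx : IsPIndependent p k x) : IsPIndependent p k' x := by
  rw [pIndependent_iff] at hx ⊢
  intro a hmem
  apply hx a
  have h1 : x a ∈ (IntermediateField.adjoin k'
      ((Set.range fun y : K => y ^ p) ∪ x '' {b | b ≠ a})).restrictScalars k₀ := hmem
  have h2 : x a ∈ (IntermediateField.adjoin k
      ((Set.range fun y : K => y ^ p) ∪ x '' {b | b ≠ a})).restrictScalars k₀ := by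
    rw [IntermediateField.restrictScalars_adjoin] at h1 ⊢
    refine IntermediateField.adjoin.mono k₀ _ _ ?_ h1
    rintro z (hz | hz)
    · exact Or.inl (hkk hz)
    · exact Or.inr hz
  exact h2

theorem exists_forall_ge_eq_zero (k : ι → IntermediateField k₀ K) (hk : Antitone k)
    (hinf : (⨅ i, k i ⊔ IntermediateField.adjoin k₀ (Set.range fun y : K => y ^ p)) =
      IntermediateField.adjoin k₀ (Set.range fun y : K => y ^ p))
    (T : Submodule L (L ⊗[K] Ω[K⁄k₀])) (hT : T.FG) :
    ∃ i, ∀ j, i ≤ j → ∀ ω ∈ T,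
      ((KaehlerDifferential.map k₀ (k j) K K).restrictScalars K).baseChange L ω = 0 → ω = 0 := by
  classical
  obtain ⟨B, b, hB, hb⟩ := exists_pBasis_kaehler p (k₀ := k₀) (K := K)
  obtain ⟨B₀, hB₀⟩ := exists_finite_support B (b.baseChange L) T hT
  have hB₀B : Subtype.val '' (B₀ : Set ↥B) ⊆ B := by
    rintro _ ⟨i, -, rfl⟩
    exact i.2
  have hfinB : (Subtype.val '' (B₀ : Set ↥B)).Finite := (Finset.finite_toSet B₀).image _
  have hind0 := indep_subset p B _ hB₀B hB.1
  have : Finite ↥(Subtype.val '' (B₀ : Set ↥B)) := hfinB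
  obtain ⟨i, hi⟩ := exists_pIndependent p k hk hinf _ hind0
  exact ⟨i, fun j hij ω hω hG => eq_zero_of_indep p B b hb B₀ (k j)
    (indep_of_le p (k i) (k j) (hk hij) _ hi) ω (hB₀ hω) hG⟩

end F3

section F1

variable (p : ℕ) [Fact p.Prime] {k₀ K L : Type u} [Field k₀] [Field K] [Field L]
    [Algebra k₀ K] [Algebra K L] [Algebra k₀ L] [IsScalarTower k₀ K L]

theorem exists_preimage (k : IntermediateField k₀ K) (ω : Ω[L⁄k₀])
    (hω : KaehlerDifferential.map k₀ (k.map (IsScalarTower.toAlgHom k₀ K L)) L L ω = 0) :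
    ∃ n : L ⊗[K] Ω[K⁄k₀],
      ((KaehlerDifferential.map k₀ k K K).restrictScalars K).baseChange L n = 0 ∧
        KaehlerDifferential.mapBaseChange k₀ K L n = ω := by
  let k' : IntermediateField k₀ L := k.map (IsScalarTower.toAlgHom k₀ K L)
  let S : Submodule L (Ω[L⁄k₀]) := Submodule.map (KaehlerDifferential.mapBaseChange k₀ K L)
    (LinearMap.ker (((KaehlerDifferential.map k₀ k K K).restrictScalars K).baseChange L))
  suffices h : ω ∈ S by
    obtain ⟨n, hn, hnω⟩ := h
    exact ⟨n, hn, hnω⟩
  have hD : ∀ a' : k', KaehlerDifferential.D k₀ L (a' : L) ∈ S := by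
    rintro ⟨_, a, ha, rfl⟩
    refine ⟨(1 : L) ⊗ₜ[K] KaehlerDifferential.D k₀ K a, ?_, ?_⟩
    · rw [SetLike.mem_coe, LinearMap.mem_ker, LinearMap.baseChange_tmul]
      change (1 : L) ⊗ₜ[K] KaehlerDifferential.map k₀ k K K (KaehlerDifferential.D k₀ K a) = 0
      rw [KaehlerDifferential.map_D]
      have : KaehlerDifferential.D k K (algebraMap K K a) = 0 := by
        have h1 := (KaehlerDifferential.D k K).map_algebraMap (⟨a, ha⟩ : k)
        exact h1
      rw [this, TensorProduct.tmul_zero]
    · rw [KaehlerDifferential.mapBaseChange_tmul, one_smul, KaehlerDifferential.map_D]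
      rfl
  have hmap : ∀ η : Ω[k'⁄k₀], KaehlerDifferential.map k₀ k₀ k' L η ∈ S := by
    intro η
    have hη : η ∈ Submodule.span k' (Set.range (KaehlerDifferential.D k₀ k')) := by
      rw [KaehlerDifferential.span_range_derivation]
      trivial
    induction hη using Submodule.span_induction with
    | mem η hη =>
      obtain ⟨a', rfl⟩ := hη
      rw [KaehlerDifferential.map_D]
      exact hD a'
    | zero =>
      rw [map_zero]
      exact zero_mem _
    | add η₁ η₂ _ _ h₁ h₂ =>
      rw [map_add]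
      exact add_mem h₁ h₂
    | smul c η _ h₁ =>
      rw [map_smul]
      have : c • KaehlerDifferential.map k₀ k₀ k' L η =
          (algebraMap k' L c) • KaehlerDifferential.map k₀ k₀ k' L η := by
        rw [algebraMap_smul]
      rw [this]
      exact Submodule.smul_mem _ _ h₁
  obtain ⟨ξ, rfl⟩ := (KaehlerDifferential.exact_mapBaseChange_map k₀ k' L ω).mp hω
  clear hω
  induction ξ using TensorProduct.induction_on with
  | zero =>
    rw [map_zero]
    exact zero_mem _
  | tmul c η =>
    rw [KaehlerDifferential.mapBaseChange_tmul]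
    exact Submodule.smul_mem _ _ (hmap η)
  | add ξ₁ ξ₂ h₁ h₂ =>
    rw [map_add]
    exact add_mem h₁ h₂

end F1

section Main

variable (p : ℕ) [Fact p.Prime] {k₀ K L : Type u} [Field k₀] [Field K] [Field L]
    [Algebra k₀ K] [Algebra K L] [Algebra k₀ L] [IsScalarTower k₀ K L] [CharP K p] [CharP L p]
  {ι : Type u} [Preorder ι] [IsDirected ι (· ≤ ·)] [Nonempty ι]

theorem main (k : ι → IntermediateField k₀ K) (hk : Antitone k)
    (h : (⨅ i, k i ⊔ IntermediateField.adjoin k₀ (Set.range fun y : K => y ^ p)) =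
      IntermediateField.adjoin k₀ (Set.range fun y : K => y ^ p))
    [Module.Finite L (EGA41.imperfection k₀ K L)] :
    (⨅ i, (k i).map (IsScalarTower.toAlgHom k₀ K L) ⊔
        IntermediateField.adjoin k₀ (Set.range fun y : L => y ^ p)) =
      IntermediateField.adjoin k₀ (Set.range fun y : L => y ^ p) := by
  let k' : ι → IntermediateField k₀ L := fun i => (k i).map (IsScalarTower.toAlgHom k₀ K L)
  have hk' : Antitone k' := fun i j hij => IntermediateField.map_mono _ (hk hij)
  rw [iInf_eq_iff_kaehler p k' hk']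
  intro ω hω
  obtain ⟨i₀⟩ := ‹Nonempty ι›
  obtain ⟨n₀, -, hn₀π⟩ := exists_preimage (k i₀) ω (hω i₀)
  let T : Submodule L (L ⊗[K] Ω[K⁄k₀]) := Submodule.span L {n₀} ⊔ EGA41.imperfection k₀ K L
  have hT : T.FG := (Submodule.fg_span_singleton n₀).sup (Module.Finite.iff_fg.mp inferInstance)
  obtain ⟨i₁, hi₁⟩ := exists_forall_ge_eq_zero p k hk h T hT
  obtain ⟨j, -, hj1⟩ := exists_ge_ge i₀ i₁
  obtain ⟨n, hnG, hnπ⟩ := exists_preimage (k j) ω (hω j)
  have hnT : n ∈ T := by
    have h1 : n - n₀ ∈ EGA41.imperfection k₀ K L := by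
      change KaehlerDifferential.mapBaseChange k₀ K L (n - n₀) = 0
      rw [map_sub, hnπ, hn₀π, sub_self]
    have h2 : n = n₀ + (n - n₀) := by abel
    rw [h2]
    exact Submodule.add_mem_sup (Submodule.subset_span rfl) h1
  have hn0 : n = 0 := hi₁ j hj1 n hnT hnG
  rw [← hnπ, hn0, map_zero]

end Main



/-- Let K be a field of characteristic p > 0, k₀ a subfield, (k_α) a decreasing filtered family of
subfields of K containing k₀ with ⋂_α k_α(K^p) = k₀(K^p). Then for every extension L of K such that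
Υ_{L/K/k₀} has finite rank over L, one has ⋂_α k_α(L^p) = k₀(L^p) (the k_α being viewed inside L). -/
theorem result (p : ℕ) [Fact p.Prime] {k₀ K L : Type u}
    [Field k₀] [Field K] [Field L] [Algebra k₀ K] [Algebra K L] [Algebra k₀ L] [IsScalarTower k₀ K L] [CharP K p] [CharP L p]
    {ι : Type u} [Preorder ι] [IsDirected ι (· ≤ ·)] [Nonempty ι] (k : ι → IntermediateField k₀ K) (hk : Antitone k)
    (h : (⨅ i, k i ⊔ IntermediateField.adjoin k₀ (Set.range fun y : K => y ^ p)) =
      IntermediateField.adjoin k₀ (Set.range fun y : K => y ^ p))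
    [Module.Finite L (EGA41.imperfection k₀ K L)] :
    (⨅ i, (k i).map (IsScalarTower.toAlgHom k₀ K L) ⊔ IntermediateField.adjoin k₀ (Set.range fun y : L => y ^ p)) =
      IntermediateField.adjoin k₀ (Set.range fun y : L => y ^ p) := by
  exact main p k hk h

end Groth.Agent.S4546
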