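import Groth.Statements.S4547
import Mathlib

set_option autoImplicit false
universe u
open EGA41

namespace Groth.Agent.S4547

open TensorProduct IsLocalRing in
/-- Core lemma: generators whose images are linearly independent modulo the maximal ideal form a
basis, and `u` is then left invertible. -/
theorem core {A : Type u} [CommRing A] [IsLocalRing A] {M N : Type u}
    [AddCommGroup M] [Module A M] [AddCommGroup N] [Module A N] [Module.Projective A N]
    (u : M →ₗ[A] N) (m : ℕ) (x : Fin m → M) (hx : Submodule.span A (Set.range x) = ⊤)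
    (hli : LinearIndependent (ResidueField A) (fun i => (1 : ResidueField A) ⊗ₜ[A] u (x i))) :
    (∃ w : N →ₗ[A] M, w ∘ₗ u = LinearMap.id) ∧ ∃ b : Module.Basis (Fin m) A M, ∀ i, b i = x i := by
  classical
  set k := ResidueField A with hk
  -- step 2: a retraction on the residue field level
  let ℓ : (Fin m → k) →ₗ[k] k ⊗[A] N :=
    Fintype.linearCombination k (fun i => (1 : k) ⊗ₜ[A] u (x i))
  have hℓ : LinearMap.ker ℓ = ⊥ :=
    LinearMap.ker_eq_bot.2 hli.fintypeLinearCombination_injective
  obtain ⟨φb, hφb⟩ := LinearMap.exists_leftInverse_of_injective ℓ hℓ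
  have hφb' : ∀ i, φb ((1 : k) ⊗ₜ[A] u (x i)) = Pi.single i 1 := by
    intro i
    have h1 : ℓ (Pi.single i 1) = (1 : k) ⊗ₜ[A] u (x i) := by
      simp [ℓ, Fintype.linearCombination_apply_single]
    rw [← h1]
    exact LinearMap.congr_fun hφb _
  -- step 3: lift to `A`
  let ψ : N →ₗ[A] (Fin m → k) := (φb.restrictScalars A) ∘ₗ (TensorProduct.mk A k N 1)
  let ρ : (Fin m → A) →ₗ[A] (Fin m → k) := (Algebra.linearMap A k).compLeft (Fin m)
  have hρ : Function.Surjective ρ := by
    intro y
    choose z hz using fun i => residue_surjective (y i)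
    exact ⟨z, funext hz⟩
  obtain ⟨φ, hφ⟩ := Module.projective_lifting_property ρ ψ hρ
  -- step 4
  let g : (Fin m → A) →ₗ[A] M := Fintype.linearCombination A x
  have hg : Function.Surjective g := by
    rw [← LinearMap.range_eq_top, Fintype.range_linearCombination, hx]
  have hgi : ∀ i, g (Pi.single i 1) = x i := fun i => by
    simp [g, Fintype.linearCombination_apply_single]
  -- step 5
  let T : (Fin m → A) →ₗ[A] (Fin m → A) := φ ∘ₗ u ∘ₗ g
  have hρT1 : ∀ i, ρ (T (Pi.single i 1)) = ρ (Pi.single i 1) := by
    intro i
    show ρ (φ (u (g (Pi.single i 1)))) = ρ (Pi.single i 1)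
    rw [hgi]
    have h1 : ρ (φ (u (x i))) = ψ (u (x i)) := LinearMap.congr_fun hφ _
    rw [h1]
    show φb ((1 : k) ⊗ₜ[A] u (x i)) = _
    rw [hφb']
    funext j
    simp only [ρ, LinearMap.compLeft_apply, Function.comp_apply, Algebra.linearMap_apply,
      Pi.single_apply]
    split_ifs <;> simp
  have hρT : ρ ∘ₗ T = ρ := by
    refine LinearMap.pi_ext fun i a => ?_
    have h2 : (Pi.single i a : Fin m → A) = a • Pi.single i 1 := by
      rw [← Pi.single_smul, smul_eq_mul, mul_one]
    rw [h2, map_smul, map_smul, LinearMap.comp_apply, hρT1]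
  have hTsurj : Function.Surjective T := by
    rw [← LinearMap.range_eq_top, eq_top_iff]
    apply Submodule.le_of_le_smul_of_le_jacobson_bot (I := maximalIdeal A)
      (Module.Finite.fg_top) (maximalIdeal_le_jacobson ⊥)
    intro y _
    have h1 : y = T y + (y - T y) := by abel
    rw [h1]
    refine add_mem (Submodule.mem_sup_left ⟨y, rfl⟩) (Submodule.mem_sup_right ?_)
    have h2 : ρ (y - T y) = 0 := by
      rw [map_sub, ← LinearMap.comp_apply, hρT, sub_self]
    have h3 : ∀ i, (y - T y) i ∈ maximalIdeal A := by
      intro i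
      have := congrFun h2 i
      rwa [← residue_eq_zero_iff]
    rw [pi_eq_sum_univ (y - T y)]
    refine Submodule.sum_mem _ fun i _ => ?_
    exact Submodule.smul_mem_smul (h3 i) Submodule.mem_top
  have hTbij : Function.Bijective T :=
    OrzechProperty.bijective_of_surjective_endomorphism T hTsurj
  have hginj : Function.Injective g := by
    intro a b hab
    apply hTbij.1
    show φ (u (g a)) = φ (u (g b))
    rw [hab]
  let Te := LinearEquiv.ofBijective T hTbij
  let ge := LinearEquiv.ofBijective g ⟨hginj, hg⟩
  constructor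
  · refine ⟨g ∘ₗ Te.symm.toLinearMap ∘ₗ φ, ?_⟩
    apply LinearMap.ext
    intro y
    obtain ⟨a, rfl⟩ := hg y
    show g (Te.symm (φ (u (g a)))) = g a
    have : φ (u (g a)) = Te a := rfl
    rw [this, LinearEquiv.symm_apply_apply]
  · refine ⟨Module.Basis.ofEquivFun ge.symm, fun i => ?_⟩
    rw [Module.Basis.coe_ofEquivFun, LinearEquiv.symm_symm]
    exact hgi i


open IsLocalRing TensorProduct in
/-- Let A be a local ring with residue field k, M an A-module of finite type, N a projective A-module
and u : M → N a homomorphism. Then u is left invertible if and only if there is a finite system of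
generators (x_i) of M such that the elements 1 ⊗ u(x_i) of k ⊗_A N are linearly independent over k;
and such a system (x_i) is then a basis of M. -/
theorem result {A : Type u} [CommRing A] [IsLocalRing A] {M N : Type u}
    [AddCommGroup M] [Module A M] [Module.Finite A M] [AddCommGroup N] [Module A N] [Module.Projective A N]
    (u : M →ₗ[A] N) :
    ((∃ w : N →ₗ[A] M, w ∘ₗ u = LinearMap.id) ↔
      ∃ (m : ℕ) (x : Fin m → M), Submodule.span A (Set.range x) = ⊤ ∧
        LinearIndependent (ResidueField A) (fun i => (1 : ResidueField A) ⊗ₜ[A] u (x i))) ∧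
    ∀ (m : ℕ) (x : Fin m → M), Submodule.span A (Set.range x) = ⊤ →
      LinearIndependent (ResidueField A) (fun i => (1 : ResidueField A) ⊗ₜ[A] u (x i)) →
        ∃ b : Module.Basis (Fin m) A M, ∀ i, b i = x i := by
  classical
  refine ⟨⟨?_, ?_⟩, fun m x hx hli => (core u m x hx hli).2⟩
  · rintro ⟨w, hw⟩
    have hproj : Module.Projective A M := Module.Projective.of_split u w hw
    have hfree : Module.Free A M := Module.free_of_flat_of_isLocalRing
    let b := Module.finBasis A M
    refine ⟨_, b, b.span_eq, ?_⟩
    have hinj : LinearMap.ker (u.baseChange (IsLocalRing.ResidueField A)) = ⊥ := by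
      apply LinearMap.ker_eq_bot_of_inverse (g := w.baseChange (IsLocalRing.ResidueField A))
      rw [← LinearMap.baseChange_comp, hw, LinearMap.baseChange_id]
    have h1 := (b.baseChange (IsLocalRing.ResidueField A)).linearIndependent.map' _ hinj
    have h2 : (fun i => (1 : IsLocalRing.ResidueField A) ⊗ₜ[A] u (b i)) =
        ⇑(u.baseChange (IsLocalRing.ResidueField A)) ∘
          ⇑(b.baseChange (IsLocalRing.ResidueField A)) := by
      funext i
      simp
    rw [h2]
    exact h1
  · rintro ⟨m, x, hx, hli⟩
    exact (core u m x hx hli).1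

end Groth.Agent.S4547
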