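import Groth.Statements.S4548
-- import your own Groth.Agent.* helpers here
import Groth.Agent.Lib.Helper49.PSFam5
import Groth.Agent.Lib.Helper49.FieldFam

set_option autoImplicit false
universe u
open EGA41

namespace Groth.Agent.S4548

open MvPowerSeries Groth.Agent.Lib.Helper49.PSFam Groth.Agent.Lib.Helper49.FieldFam

theorem free_finite (p : ℕ) [hp : Fact p.Prime] {k : Type u} [Field k] (r : ℕ) (F : Subfield k)
    [Module.Finite F k] :
    Module.Free (RF p F (σ := Fin r)) (MvPowerSeries (Fin r) k) ∧
      Module.Finite (RF p F (σ := Fin r)) (MvPowerSeries (Fin r) k) := by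
  classical
  obtain ⟨𝒜, _, β, a₀, h₁⟩ := exists_basis_one (F := F)
  haveI : Finite (Ex p (Fin r)) := finite_Ex p (Fin r)
  letI : Fintype (Ex p (Fin r)) := Fintype.ofFinite _
  let v : 𝒜 × Ex p (Fin r) → MvPowerSeries (Fin r) k := fun x => monomial x.2.1 (β x.1)
  have hli : LinearIndependent (RF p F (σ := Fin r)) v := by
    rw [Fintype.linearIndependent_iff]
    intro g hg x
    have h := eq_zero_of_sum_eq_zero p F β (fun x => ((g x : RF p F (σ := Fin r)) :
      MvPowerSeries (Fin r) k)) (fun x => (mem_RF_iff p F _).mp (g x).2) hg x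
    exact Subtype.ext h
  have hsp : ⊤ ≤ Submodule.span (RF p F (σ := Fin r)) (Set.range v) := by
    intro f _
    rw [decomp p F β f]
    refine Submodule.sum_mem _ fun x _ => ?_
    have hx : comp p F β f x.1 x.2.1 ∈ RF p F (σ := Fin r) :=
      (mem_RF_iff p F _).mpr (isF_comp p F β f _ _)
    have : comp p F β f x.1 x.2.1 * monomial x.2.1 (β x.1) =
        (⟨_, hx⟩ : RF p F (σ := Fin r)) • v x := rfl
    rw [this]
    exact Submodule.smul_mem _ _ (Submodule.subset_span ⟨x, rfl⟩)
  let b := Module.Basis.mk hli hsp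
  exact ⟨Module.Free.of_basis b, Module.Finite.of_basis b⟩

/-- Let k be a field of characteristic p > 0, A = k[[T_1, …, T_r]] and K its field of fractions. Then
there is a decreasing filtered family (A_α) of Noetherian subrings of A (rendered: a nonempty
family, directed downwards for inclusion) such that A is a free A_α-module of finite type for every
α and, K_α denoting the subfield of K generated by A_α (its field of fractions inside K), ⋂_α K_α =
K^p. -/
theorem result (p : ℕ) [Fact p.Prime] (k : Type u) [Field k] [CharP k p]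
    (r : ℕ) :
    ∃ (ι : Type u) (_ : Nonempty ι) (S : ι → Subring (MvPowerSeries (Fin r) k)),
      (∀ a b : ι, ∃ c, S c ≤ S a ⊓ S b) ∧
      (∀ i, IsNoetherianRing (S i) ∧ Module.Free (S i) (MvPowerSeries (Fin r) k) ∧ Module.Finite (S i) (MvPowerSeries (Fin r) k)) ∧
      ((⨅ i, Subfield.closure (algebraMap (MvPowerSeries (Fin r) k) (FractionRing (MvPowerSeries (Fin r) k)) '' (S i)) :
          Set (FractionRing (MvPowerSeries (Fin r) k)))) =
        Set.range fun x : FractionRing (MvPowerSeries (Fin r) k) => x ^ p := by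
  classical
  obtain ⟨Γ, δ, hδ, hgen, hinf⟩ := exists_gamma p (k := k)
  haveI : Finite (Ex p (Fin r)) := finite_Ex p (Fin r)
  letI : Fintype (Ex p (Fin r)) := Fintype.ofFinite _
  refine ⟨Finset Γ, ⟨∅⟩, fun S => RF p (kS p Γ S), ?_, ?_, ?_⟩
  · intro a b
    refine ⟨a ∪ b, le_inf (RF_mono p (kS_antitone p Γ Finset.subset_union_left))
      (RF_mono p (kS_antitone p Γ Finset.subset_union_right))⟩
  · intro S
    haveI := finite_kS p Γ hgen S
    refine ⟨?_, free_finite p r (kS p Γ S)⟩
    exact isNoetherianRing_range (PhiF p (kS p Γ S) (σ := Fin r))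
  · ext x
    rw [Set.iInf_eq_iInter, Set.mem_iInter]
    constructor
    · intro hx
      obtain ⟨y, hy⟩ := exists_pow_of_forall_mem p (Fin r) (FractionRing (MvPowerSeries (Fin r) k))
        (fun S : Finset Γ => kS p Γ S) (fun S y => pow_mem_kS p Γ S y)
        (fun c hc => exists_pow_of_forall_mem_kS p Γ δ hδ hinf c hc)
        (fun S => by
          haveI := finite_kS p Γ hgen S
          exact exists_basis_one) x hx
      exact ⟨y, hy⟩
    · rintro ⟨y, rfl⟩ S
      exact pow_mem_KF p (Fin r) (FractionRing (MvPowerSeries (Fin r) k)) (kS p Γ S)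
        (fun y => pow_mem_kS p Γ S y) y

end Groth.Agent.S4548
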