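import Groth.Statements.S4551
import Mathlib

set_option autoImplicit false
universe u
open EGA41

namespace Groth.Agent.S4551

section helpers
open TensorProduct
variable (k : Type u) [Field k] (r : ℕ)

noncomputable section
abbrev L := AlgebraicClosure k
abbrev P := MvPowerSeries (Fin r) k
abbrev Q := MvPowerSeries (Fin r) (L k)
abbrev F := FractionRing (P k r)

instance : IsDomain (Q k r) := NoZeroDivisors.to_isDomain _
instance : IsDomain (P k r) := NoZeroDivisors.to_isDomain _

abbrev K := FractionRing (Q k r)

lemma algebraMap_PQ_injective : Function.Injective (algebraMap (P k r) (Q k r)) := by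
  intro f g h
  ext m
  have := congrArg (MvPowerSeries.coeff m) h
  simp only [MvPowerSeries.algebraMap_apply'', MvPowerSeries.coeff_map] at this
  exact (algebraMap k (L k)).injective this

lemma algebraMap_PK_injective : Function.Injective (algebraMap (P k r) (K k r)) := by
  rw [IsScalarTower.algebraMap_eq (P k r) (Q k r) (K k r)]
  exact (IsFractionRing.injective (Q k r) (K k r)).comp (algebraMap_PQ_injective k r)

instance : FaithfulSMul (P k r) (K k r) :=
  (faithfulSMul_iff_algebraMap_injective _ _).mpr (algebraMap_PK_injective k r)

instance instAlgFK : Algebra (F k r) (K k r) := FractionRing.liftAlgebra (P k r) (K k r)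

instance : IsScalarTower (P k r) (F k r) (K k r) := FractionRing.isScalarTower_liftAlgebra _ _

instance : IsScalarTower k (P k r) (K k r) := by
  refine IsScalarTower.of_algebraMap_eq fun x => ?_
  rw [IsScalarTower.algebraMap_apply k (Q k r) (K k r),
    IsScalarTower.algebraMap_apply (P k r) (Q k r) (K k r)]
  congr 1


/-- the basis vectors as constants in `K`. -/
def bvec (i : Module.Basis.ofVectorSpaceIndex k (L k)) : K k r :=
  algebraMap (L k) (K k r) (Module.Basis.ofVectorSpace k (L k) i)

lemma linInd_P : LinearIndependent (P k r)
    (fun i : Module.Basis.ofVectorSpaceIndex k (L k) =>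
      (algebraMap (L k) (Q k r) (Module.Basis.ofVectorSpace k (L k) i))) := by
  rw [linearIndependent_iff']
  intro s g hg i hi
  ext m
  have h1 := congrArg (MvPowerSeries.coeff m) hg
  simp only [map_sum, Algebra.smul_def, MvPowerSeries.algebraMap_apply'',
    MvPowerSeries.algebraMap_apply, Algebra.algebraMap_self, RingHom.id_apply,
    MvPowerSeries.coeff_mul_C, MvPowerSeries.coeff_map, map_zero] at h1
  have h2 : ∑ j ∈ s, (MvPowerSeries.coeff m (g j)) • (Module.Basis.ofVectorSpace k (L k) j) = 0 := by
    rw [← h1]
    refine Finset.sum_congr rfl fun j _ => ?_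
    rw [Algebra.smul_def]
  have := (linearIndependent_iff'.mp (Module.Basis.ofVectorSpace k (L k)).linearIndependent) s _ h2 i hi
  simpa using this


lemma linInd_F : LinearIndependent (F k r) (bvec k r) := by
  have h1 := linInd_P k r
  have h2 : LinearIndependent (P k r) (bvec k r) := by
    have := h1.map' (IsScalarTower.toAlgHom (P k r) (Q k r) (K k r)).toLinearMap
      (LinearMap.ker_eq_bot.mpr (IsFractionRing.injective (Q k r) (K k r)))
    have hf : bvec k r = ⇑(IsScalarTower.toAlgHom (P k r) (Q k r) (K k r)).toLinearMap ∘ fun i =>
        (algebraMap (L k) (Q k r)) ((Module.Basis.ofVectorSpace k (L k)) i) := by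
      ext i
      simp [bvec, IsScalarTower.algebraMap_apply (L k) (Q k r) (K k r)]
    rw [hf]
    exact this
  exact h2.localization (F k r) (nonZeroDivisors (P k r))

/-- the comparison map. -/
def Psi : (L k) ⊗[k] (F k r) →ₐ[k] K k r :=
  Algebra.TensorProduct.productMap (IsScalarTower.toAlgHom k (L k) (K k r))
    (IsScalarTower.toAlgHom k (F k r) (K k r))

lemma Psi_injective : Function.Injective (Psi k r) := by
  classical
  let b := Module.Basis.ofVectorSpace k (L k)
  let e := TensorProduct.equivFinsuppOfBasisLeft (N := F k r) b
  have key : ∀ c, Psi k r (e.symm c) = Finsupp.linearCombination (F k r) (bvec k r) c := by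
    intro c
    have : e.symm c = (Finsupp.lsum k fun i ↦ (TensorProduct.mk k (L k) (F k r)) (b i)) c := by
      rw [← TensorProduct.equivFinsuppOfBasisLeft_symm]; rfl
    rw [this, Finsupp.lsum_apply, Finsupp.linearCombination_apply, Finsupp.sum, Finsupp.sum,
      map_sum]
    refine Finset.sum_congr rfl fun i _ => ?_
    simp [Psi, bvec, Algebra.smul_def, mul_comm, b]
  have h2 : Function.Injective (fun c => Psi k r (e.symm c)) := by
    have := (linInd_F k r)
    rw [linearIndependent_iff_injective_finsuppLinearCombination] at this
    intro c d h
    apply this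
    simpa [key] using h
  intro x y hxy
  have := h2 (a₁ := e x) (a₂ := e y) (by simpa using hxy)
  exact e.injective this

theorem main : Algebra.IsGeometricallyReduced k (FractionRing (MvPowerSeries (Fin r) k)) := by
  rw [Algebra.isGeometricallyReduced_field_iff]
  exact isReduced_of_injective (Psi k r) (Psi_injective k r)

end
end helpers

/-- For every field k (any characteristic) the field of fractions k((T_1, …, T_r)) of the power series
ring k[[T_1, …, T_r]] is a separable extension of k, i.e. it is geometrically reduced over k. -/
theorem result (k : Type u) [Field k] (r : ℕ) :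
    Algebra.IsGeometricallyReduced k (FractionRing (MvPowerSeries (Fin r) k)) := by
  exact main k r

end Groth.Agent.S4551
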