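import Groth.Statements.S4553
import Groth.Agent.Lib.Helper61.FSAdicProj

set_option autoImplicit false
universe u
open EGA41

namespace Groth.Agent.S4553

open Groth.Agent.Lib.Helper61.FSAdic in
/-- Adic formal smoothness passes to the quotient by the ideal of definition of the base. -/
theorem lifts_quotient {A B : Type u} [CommRing A] [CommRing B] [Algebra A B]
    (𝔞 : Ideal A) (𝔟 : Ideal B) (h : Lifts 𝔞 (algebraMap A B) 𝔟) :
    Lifts (⊥ : Ideal (A ⧸ 𝔞))
      (algebraMap (A ⧸ 𝔞) (B ⧸ 𝔞.map (algebraMap A B)))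
      (𝔟.map (Ideal.Quotient.mk (𝔞.map (algebraMap A B)))) := by
  intro D _ J hJ φ' _ u' hu' hcont'
  have hsq : (algebraMap (A ⧸ 𝔞) (B ⧸ 𝔞.map (algebraMap A B))).comp
      (Ideal.Quotient.mk 𝔞) =
      (Ideal.Quotient.mk (𝔞.map (algebraMap A B))).comp (algebraMap A B) := by
    ext a; rfl
  obtain ⟨k, hk⟩ := hcont'
  obtain ⟨v, hv1, hv2⟩ := h D J hJ (φ'.comp (Ideal.Quotient.mk 𝔞))
    ⟨1, by
      rw [pow_one, ← Ideal.map_map, Ideal.map_quotient_self, Ideal.map_bot]⟩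
    (u'.comp (Ideal.Quotient.mk (𝔞.map (algebraMap A B))))
    (by rw [RingHom.comp_assoc, ← hsq, ← RingHom.comp_assoc, hu', RingHom.comp_assoc])
    ⟨k, fun x hx => by
      apply hk
      rw [← Ideal.map_pow]
      exact Ideal.mem_map_of_mem _ hx⟩
  have hvker : ∀ x ∈ 𝔞.map (algebraMap A B), v x = 0 := by
    intro x hx
    have h1 : 𝔞.map (algebraMap A B) ≤ RingHom.ker v := by
      rw [Ideal.map_le_iff_le_comap]
      intro a ha
      rw [Ideal.mem_comap, RingHom.mem_ker]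
      have := DFunLike.congr_fun hv1 a
      simp only [RingHom.comp_apply] at this
      rw [this, Ideal.Quotient.eq_zero_iff_mem.mpr ha, map_zero]
    exact h1 hx
  refine ⟨Ideal.Quotient.lift _ v hvker, ?_, ?_⟩
  · refine RingHom.ext fun x => ?_
    obtain ⟨a, rfl⟩ := Ideal.Quotient.mk_surjective x
    have := DFunLike.congr_fun hv1 a
    change Ideal.Quotient.lift _ v hvker (Ideal.Quotient.mk _ (algebraMap A B a)) = _
    rw [Ideal.Quotient.lift_mk]
    exact this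
  · refine RingHom.ext fun x => ?_
    obtain ⟨b, rfl⟩ := Ideal.Quotient.mk_surjective x
    have := DFunLike.congr_fun hv2 b
    change Ideal.Quotient.mk J (Ideal.Quotient.lift _ v hvker (Ideal.Quotient.mk _ b)) = _
    rw [Ideal.Quotient.lift_mk]
    exact this

/-- Let A be 𝔞-adic (a preadmissible ring with ideal of definition 𝔞), B a topological A-algebra for the
𝔟-adic topology (a power of 𝔞 maps into 𝔟) which is a formally projective topological A-module, and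
put A₀ = A/𝔞, B₀ = B/𝔞B with the quotient topologies (A₀ discrete). Then B is a formally smooth
A-algebra if and only if B₀ is a formally smooth A₀-algebra. -/
theorem result {A B : Type u} [CommRing A] [CommRing B] [Algebra A B]
    (𝔞 : Ideal A) (𝔟 : Ideal B) (hAB : ∃ k : ℕ, (𝔞 ^ k).map (algebraMap A B) ≤ 𝔟)
    (hproj : ∀ (n : ℕ) (P Q : Type u) [AddCommGroup P] [Module A P] [AddCommGroup Q] [Module A Q],
      (∀ a ∈ 𝔞 ^ n, ∀ y : P, a • y = 0) → (∀ a ∈ 𝔞 ^ n, ∀ y : Q, a • y = 0) →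
      ∀ f : P →ₗ[A] Q, Function.Surjective f → ∀ v : B →ₗ[A] Q, (∃ m : ℕ, ∀ x ∈ 𝔟 ^ m, v x = 0) →
        ∃ w : B →ₗ[A] P, (∃ m : ℕ, ∀ x ∈ 𝔟 ^ m, w x = 0) ∧ f ∘ₗ w = v) :
    EGA41.IsFormallySmoothAdic A 𝔞 B 𝔟 ↔
      EGA41.IsFormallySmoothAdic (A ⧸ 𝔞) ⊥ (B ⧸ 𝔞.map (algebraMap A B))
        (𝔟.map (Ideal.Quotient.mk (𝔞.map (algebraMap A B)))) := by
  open Groth.Agent.Lib.Helper61.FSAdic in
  rw [ega_iff, ega_iff]
  constructor
  · exact lifts_quotient 𝔞 𝔟
  · intro h₀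
    exact lifts_of_liftsSq (liftsSq_of_liftsSq0 (liftsSq0_of_formallyProjective 𝔞 𝔟 hproj h₀))

end Groth.Agent.S4553
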