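import Groth.Statements.S4555
import Groth.Agent.Lib.Helper61.MvPSIdeal
import Mathlib

set_option autoImplicit false
universe u
open EGA41

namespace Groth.Agent.S4555

open MvPowerSeries

section

variable {A : Type u} [CommRing A] (𝔞 : Ideal A) {n : ℕ} {E : Type u} [CommRing E] [Algebra A E]

/-- the ideal of definition of the power series ring -/
noncomputable abbrev cc (n : ℕ) : Ideal (MvPowerSeries (Fin n) A) :=
  𝔞.map (MvPowerSeries.C : A →+* MvPowerSeries (Fin n) A) ⊔
    RingHom.ker (MvPowerSeries.constantCoeff : MvPowerSeries (Fin n) A →+* A)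

theorem ker_cc_eq : RingHom.ker (MvPowerSeries.constantCoeff : MvPowerSeries (Fin n) A →+* A) =
    Ideal.span (Set.range (X : Fin n → MvPowerSeries (Fin n) A)) := by
  apply le_antisymm
  · intro f hf
    rw [RingHom.mem_ker] at hf
    have := Groth.Agent.Lib.Helper61.MvPSIdeal.mem_pow_span_X_of_coeff_eq_zero 1 f (by
      intro e he
      have he0 : e = 0 := by
        rw [Nat.lt_one_iff] at he
        exact (Finsupp.degree_eq_zero_iff e).mp he
      subst he0
      exact hf)
    rwa [pow_one] at this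
  · rw [Ideal.span_le]
    rintro _ ⟨i, rfl⟩
    exact MvPowerSeries.constantCoeff_X i

theorem span_X_pow_le (N m : ℕ) (h : m ≤ N) :
    (Ideal.span (Set.range (X : Fin n → MvPowerSeries (Fin n) A))) ^ N ≤ (cc 𝔞 n) ^ m := by
  refine (Ideal.pow_le_pow_right h).trans (Ideal.pow_right_mono ?_ m)
  rw [← ker_cc_eq]
  exact le_sup_right

theorem sub_truncTotal_mem (N : ℕ) (f : MvPowerSeries (Fin n) A) :
    f - ((truncTotal N f : MvPolynomial (Fin n) A) : MvPowerSeries (Fin n) A) ∈
      (Ideal.span (Set.range (X : Fin n → MvPowerSeries (Fin n) A))) ^ N := by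
  apply Groth.Agent.Lib.Helper61.MvPSIdeal.mem_pow_span_X_of_coeff_eq_zero
  intro e he
  rw [map_sub, MvPolynomial.coeff_coe, coeff_truncTotal _ he, sub_self]

theorem ext_of_continuous (g₁ g₂ : MvPowerSeries (Fin n) A →ₐ[A] E)
    (h₁ : ∃ m : ℕ, ∀ x ∈ (cc 𝔞 n) ^ m, g₁ x = 0) (h₂ : ∃ m : ℕ, ∀ x ∈ (cc 𝔞 n) ^ m, g₂ x = 0)
    (hX : ∀ i, g₁ (X i) = g₂ (X i)) : g₁ = g₂ := by
  obtain ⟨m₁, h₁⟩ := h₁
  obtain ⟨m₂, h₂⟩ := h₂
  have hpoly : ∀ p : MvPolynomial (Fin n) A, g₁ (p : MvPowerSeries (Fin n) A) = g₂ p := by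
    intro p
    have : g₁.comp (MvPolynomial.coeToMvPowerSeries.algHom A) =
        g₂.comp (MvPolynomial.coeToMvPowerSeries.algHom A) := by
      apply MvPolynomial.algHom_ext
      intro i
      simpa using hX i
    exact DFunLike.congr_fun this p
  ext f
  have hmem := sub_truncTotal_mem (max m₁ m₂) f
  have e₁ : g₁ (f - ((truncTotal (max m₁ m₂) f : MvPolynomial (Fin n) A) :
      MvPowerSeries (Fin n) A)) = 0 :=
    h₁ _ (span_X_pow_le 𝔞 _ _ (le_max_left _ _) hmem)
  have e₂ : g₂ (f - ((truncTotal (max m₁ m₂) f : MvPolynomial (Fin n) A) :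
      MvPowerSeries (Fin n) A)) = 0 :=
    h₂ _ (span_X_pow_le 𝔞 _ _ (le_max_right _ _) hmem)
  rw [map_sub, sub_eq_zero] at e₁ e₂
  rw [e₁, e₂, hpoly]

/-- constant coefficient as an `A`-algebra map -/
noncomputable def ccAlg (τ : Type) : MvPowerSeries τ E →ₐ[A] E :=
  { (MvPowerSeries.constantCoeff : MvPowerSeries τ E →+* E) with
    commutes' := fun a => by
      simp [MvPowerSeries.algebraMap_apply] }

theorem exists_hom (hE : ∃ k : ℕ, (𝔞 ^ k).map (algebraMap A E) = ⊥) (z : Fin n → E)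
    (hz : ∀ i, IsNilpotent (z i)) :
    ∃ g : MvPowerSeries (Fin n) A →ₐ[A] E,
      (∃ m : ℕ, ∀ x ∈ (cc 𝔞 n) ^ m, g x = 0) ∧ ∀ i, g (X i) = z i := by
  classical
  let a : Fin n → MvPowerSeries Empty E := fun i => C (z i)
  have ha : HasSubst a := hasSubst_of_constantCoeff_nilpotent (fun i => by
    simpa [a] using hz i)
  let g : MvPowerSeries (Fin n) A →ₐ[A] E := (ccAlg Empty).comp (substAlgHom ha)
  have hgX : ∀ i, g (X i) = z i := by
    intro i
    change MvPowerSeries.constantCoeff (substAlgHom ha (X i)) = z i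
    rw [substAlgHom_X]
    simp [a]
  refine ⟨g, ?_, hgX⟩
  obtain ⟨k, hk⟩ := hE
  -- the ideal generated by the `z i` is nilpotent
  have hZ : IsNilpotent (Ideal.span (Set.range z)) := by
    rw [Ideal.FG.isNilpotent_iff_le_nilradical]
    · rw [Ideal.span_le]
      rintro _ ⟨i, rfl⟩
      exact mem_nilradical.mpr (hz i)
    · exact ⟨Finset.univ.image z, by simp⟩
  obtain ⟨M, hM⟩ := hZ
  refine ⟨k + M, ?_⟩
  intro x hx
  have hx' := Ideal.sup_pow_add_le_pow_sup_pow hx
  obtain ⟨y, hy, w, hw, rfl⟩ := Submodule.mem_sup.mp hx'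
  rw [map_add]
  have hy0 : g y = 0 := by
    rw [← Ideal.map_pow] at hy
    have hle : (𝔞 ^ k).map (MvPowerSeries.C : A →+* MvPowerSeries (Fin n) A) ≤
        (⊥ : Ideal E).comap g := by
      rw [Ideal.map_le_iff_le_comap]
      intro r hr
      rw [Ideal.mem_comap, Ideal.mem_comap, Ideal.mem_bot]
      have : (C r : MvPowerSeries (Fin n) A) = algebraMap A _ r := rfl
      rw [this, g.commutes, ← Ideal.mem_bot, ← hk]
      exact Ideal.mem_map_of_mem _ hr
    exact hle hy
  have hw0 : g w = 0 := by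
    rw [ker_cc_eq] at hw
    have hmap : Ideal.map g ((Ideal.span (Set.range (X : Fin n → MvPowerSeries (Fin n) A))) ^ M) =
        ⊥ := by
      rw [Ideal.map_pow, Ideal.map_span, ← Set.range_comp]
      have : (⇑g ∘ (X : Fin n → MvPowerSeries (Fin n) A)) = z := funext hgX
      rw [this, hM]
      rfl
    have := Ideal.mem_map_of_mem g hw
    rw [hmap] at this
    exact this
  rw [hy0, hw0, add_zero]

end

end Groth.Agent.S4555

namespace Groth.Agent.S4555

/-- Let A carry the 𝔞-adic topology, B = A[[T_1, …, T_n]] the product topology (the adic topology of 𝔞B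
+ (T_1, …, T_n)), and let E be a discrete topological A-algebra (a power of 𝔞 kills E). (i) If f : B
→ E is a continuous A-algebra homomorphism then each f(T_i) is nilpotent. (ii) Conversely, for every
family (z_i) of nilpotent elements of E there is one and only one continuous A-algebra homomorphism
g : B → E with g(T_i) = z_i for all i. -/
theorem result (A : Type u) [CommRing A] (𝔞 : Ideal A) (n : ℕ) (E : Type u) [CommRing E]
    [Algebra A E] (hE : ∃ k : ℕ, (𝔞 ^ k).map (algebraMap A E) = ⊥) :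
    (∀ f : MvPowerSeries (Fin n) A →ₐ[A] E,
      (∃ m : ℕ, ∀ x ∈ (𝔞.map (MvPowerSeries.C : A →+* MvPowerSeries (Fin n) A) ⊔
        RingHom.ker (MvPowerSeries.constantCoeff : MvPowerSeries (Fin n) A →+* A)) ^ m, f x = 0) →
      ∀ i, IsNilpotent (f (MvPowerSeries.X i))) ∧
    ∀ z : Fin n → E, (∀ i, IsNilpotent (z i)) →
      ∃! g : MvPowerSeries (Fin n) A →ₐ[A] E,
        (∃ m : ℕ, ∀ x ∈ (𝔞.map (MvPowerSeries.C : A →+* MvPowerSeries (Fin n) A) ⊔
          RingHom.ker (MvPowerSeries.constantCoeff : MvPowerSeries (Fin n) A →+* A)) ^ m, g x = 0) ∧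
        ∀ i, g (MvPowerSeries.X i) = z i := by
  refine ⟨?_, ?_⟩
  · rintro f ⟨m, hm⟩ i
    refine ⟨m, ?_⟩
    rw [← map_pow]
    apply hm
    apply Ideal.pow_mem_pow
    apply Ideal.mem_sup_right
    rw [RingHom.mem_ker]
    exact MvPowerSeries.constantCoeff_X i
  · intro z hz
    obtain ⟨g, hg, hgX⟩ := exists_hom 𝔞 hE z hz
    refine ⟨g, ⟨hg, hgX⟩, ?_⟩
    rintro g' ⟨hg', hgX'⟩
    exact ext_of_continuous 𝔞 g' g hg' hg (fun i => by rw [hgX, hgX'])

end Groth.Agent.S4555
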