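import Groth.Statements.S4558
import Groth.Agent.S0544
import Mathlib.RingTheory.AdicCompletion.Completeness
import Mathlib.RingTheory.Kaehler.Basic
import Mathlib.LinearAlgebra.TensorProduct.Quotient

set_option autoImplicit false
universe u
open EGA41

namespace Groth.Agent.S4558

open TensorProduct

/-- Middle term of an exact sequence with finite ends is finite. -/
theorem finite_of_exact {R M N P : Type*} [CommRing R] [AddCommGroup M] [Module R M]
    [AddCommGroup N] [Module R N] [AddCommGroup P] [Module R P] (f : M →ₗ[R] N) (g : N →ₗ[R] P)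
    (hex : Function.Exact f g) (hg : Function.Surjective g) [Module.Finite R M]
    [Module.Finite R P] : Module.Finite R N := by
  rw [Module.finite_def]
  apply Submodule.fg_of_fg_map_of_fg_inf_ker g
  · rw [Submodule.map_top, LinearMap.range_eq_top.mpr hg]
    exact Module.Finite.fg_top
  · rw [top_inf_eq, LinearMap.exact_iff.mp hex, ← Submodule.map_top]
    exact Module.Finite.fg_top.map f

/-- If `B` is `𝔫`-adically complete and `𝔫/𝔫²` is finite then `𝔫` is finitely generated. -/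
theorem fg_of_cotangent_finite {B : Type u} [CommRing B] (𝔫 : Ideal B) [IsAdicComplete 𝔫 B]
    [Module.Finite (B ⧸ 𝔫) 𝔫.Cotangent] : 𝔫.FG := by
  have hH : IsHausdorff 𝔫 𝔫 := by
    refine ⟨fun x hx => ?_⟩
    apply Subtype.ext
    apply IsHausdorff.haus (inferInstance : IsHausdorff 𝔫 B) (x : B)
    intro k
    have hk := hx k
    rw [SModEq.zero] at hk ⊢
    have h1 : (x : B) ∈ (𝔫 ^ k • (⊤ : Submodule B 𝔫)).map 𝔫.subtype :=
      Submodule.mem_map_of_mem hk
    rw [Submodule.map_smul'', Submodule.map_top, Submodule.range_subtype] at h1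
    exact Submodule.smul_mono le_rfl le_top h1
  have hfin : Module.Finite B 𝔫.Cotangent := Module.Finite.trans (B ⧸ 𝔫) 𝔫.Cotangent
  have hfin' : Module.Finite B (𝔫 ⧸ (𝔫 • ⊤ : Submodule B 𝔫)) := hfin
  have := Groth.Agent.S0544.result B 𝔫 𝔫 hfin'
  exact (Submodule.fg_top 𝔫).mp Module.Finite.fg_top

/-- Let A be a discrete ring, B an adic topological A-algebra with ideal of definition 𝔫 (B separated
and complete for the 𝔫-adic topology) and B₀ = B/𝔫. If Ω_{B₀/A} and 𝔫/𝔫² are B₀-modules of finite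
type, then Ω̂_{B/A}, the 𝔫-adic completion of Ω_{B/A}, is a B-module of finite type. -/
theorem result {A B : Type u} [CommRing A] [CommRing B] [Algebra A B] (𝔫 : Ideal B)
    [IsAdicComplete 𝔫 B] [Module.Finite (B ⧸ 𝔫) (Ω[B ⧸ 𝔫⁄A])] [Module.Finite (B ⧸ 𝔫) 𝔫.Cotangent] :
    Module.Finite B (AdicCompletion 𝔫 (Ω[B⁄A])) := by
  have hfg : 𝔫.FG := fg_of_cotangent_finite 𝔫
  have hsurj : Function.Surjective (algebraMap B (B ⧸ 𝔫)) := Ideal.Quotient.mk_surjective
  -- `(B/𝔫) ⊗ Ω` is finite over `B`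
  have hker : RingHom.ker (algebraMap B (B ⧸ 𝔫)) = 𝔫 := Ideal.mk_ker
  have h1 : Module.Finite B 𝔫.Cotangent := Module.Finite.trans (B ⧸ 𝔫) 𝔫.Cotangent
  have h2 : Module.Finite B (RingHom.ker (algebraMap B (B ⧸ 𝔫))).Cotangent :=
    Module.Finite.equiv (Ideal.Cotangent.equivOfEq _ _ hker.symm)
  have h3 : Module.Finite B (Ω[B ⧸ 𝔫⁄A]) := Module.Finite.trans (B ⧸ 𝔫) _
  have h4 : Module.Finite B ((B ⧸ 𝔫) ⊗[B] Ω[B⁄A]) :=
    finite_of_exact (KaehlerDifferential.kerCotangentToTensor A B (B ⧸ 𝔫))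
      ((KaehlerDifferential.mapBaseChange A B (B ⧸ 𝔫)).restrictScalars B)
      (KaehlerDifferential.exact_kerCotangentToTensor_mapBaseChange A B (B ⧸ 𝔫) hsurj)
      (KaehlerDifferential.mapBaseChange_surjective A B (B ⧸ 𝔫) hsurj)
  have h5 : Module.Finite B (Ω[B⁄A] ⧸ (𝔫 • ⊤ : Submodule B (Ω[B⁄A]))) :=
    Module.Finite.equiv (TensorProduct.quotTensorEquivQuotSMul (Ω[B⁄A]) 𝔫)
  -- pass to the completion
  have hcomp : IsAdicComplete 𝔫 (AdicCompletion 𝔫 (Ω[B⁄A])) := AdicCompletion.isAdicComplete hfg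
  have hkereq : (𝔫 • ⊤ : Submodule B (AdicCompletion 𝔫 (Ω[B⁄A]))) =
      LinearMap.ker (AdicCompletion.eval 𝔫 (Ω[B⁄A]) 1) := by
    rw [← AdicCompletion.pow_smul_top_eq_ker_eval hfg, pow_one]
  have h6 : Module.Finite B (Ω[B⁄A] ⧸ (𝔫 ^ 1 • ⊤ : Submodule B (Ω[B⁄A]))) := by
    rw [pow_one]; exact h5
  have h7 : Module.Finite B (AdicCompletion 𝔫 (Ω[B⁄A]) ⧸
      (𝔫 • ⊤ : Submodule B (AdicCompletion 𝔫 (Ω[B⁄A])))) :=
    Module.Finite.equiv ((Submodule.quotEquivOfEq _ _ hkereq).trans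
      ((AdicCompletion.eval 𝔫 (Ω[B⁄A]) 1).quotKerEquivOfSurjective
        (AdicCompletion.eval_surjective 𝔫 _ 1))).symm
  exact Groth.Agent.S0544.result B 𝔫 (AdicCompletion 𝔫 (Ω[B⁄A])) h7

end Groth.Agent.S4558
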