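import Groth.Statements.S4559
import Mathlib.RingTheory.Kaehler.Basic
import Mathlib.Algebra.TrivSqZeroExt.Ideal
import Mathlib.Algebra.Module.Torsion.Basic
import Mathlib.RingTheory.Ideal.Quotient.Nilpotent
import Mathlib.RingTheory.AdicCompletion.Basic

set_option autoImplicit false
universe u
open EGA41

namespace Groth.Agent.S4559

section fwd

variable {A B : Type u} [CommRing A] [CommRing B] [Algebra A B] (𝔟 : Ideal B)

abbrev Mq := Ω[B⁄A] ⧸ (𝔟 • ⊤ : Submodule B Ω[B⁄A])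

noncomputable local instance modOp : Module (B ⧸ 𝔟)ᵐᵒᵖ (Mq (A := A) 𝔟) :=
  Module.compHom _ ((RingHom.id (B ⧸ 𝔟)).fromOpposite fun _ _ => mul_comm _ _)

local instance central : IsCentralScalar (B ⧸ 𝔟) (Mq (A := A) 𝔟) := ⟨fun _ _ => rfl⟩

abbrev Ext := TrivSqZeroExt (B ⧸ 𝔟) (Mq (A := A) 𝔟)

noncomputable def v1 : B →+* Ext (A := A) 𝔟 :=
  (TrivSqZeroExt.inlHom (B ⧸ 𝔟) (Mq (A := A) 𝔟)).comp (Ideal.Quotient.mk 𝔟)

noncomputable local instance algExt : Algebra A (Ext (A := A) 𝔟) :=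
  ((v1 (A := A) 𝔟).comp (algebraMap A B)).toAlgebra

noncomputable def v1a : B →ₐ[A] Ext (A := A) 𝔟 :=
  { v1 (A := A) 𝔟 with commutes' := fun _ => rfl }

noncomputable def v2a : B →ₐ[A] Ext (A := A) 𝔟 where
  toFun b := TrivSqZeroExt.inl (Ideal.Quotient.mk 𝔟 b) +
    TrivSqZeroExt.inr (Submodule.Quotient.mk (KaehlerDifferential.D A B b))
  map_one' := by
    simp
  map_mul' b c := by
    apply TrivSqZeroExt.ext
    · simp
    · simp only [TrivSqZeroExt.snd_add, TrivSqZeroExt.snd_inl, TrivSqZeroExt.snd_inr, zero_add,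
        TrivSqZeroExt.snd_mul, TrivSqZeroExt.fst_add, TrivSqZeroExt.fst_inl, TrivSqZeroExt.fst_inr,
        add_zero, Derivation.leibniz, Submodule.Quotient.mk_add, op_smul_eq_smul]
      rw [Module.Quotient.mk_smul_mk, Module.Quotient.mk_smul_mk, add_comm]
  map_zero' := by simp
  map_add' b c := by
    simp only [map_add, Submodule.Quotient.mk_add, TrivSqZeroExt.inl_add, TrivSqZeroExt.inr_add]
    abel
  commutes' a := by
    simp only [Derivation.map_algebraMap, Submodule.Quotient.mk_zero, TrivSqZeroExt.inr_zero, add_zero]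
    rfl


theorem D_mem_of_mem_sq (x : B) (hx : x ∈ 𝔟 ^ 2) :
    KaehlerDifferential.D A B x ∈ (𝔟 • ⊤ : Submodule B Ω[B⁄A]) := by
  rw [pow_two] at hx
  refine Submodule.mul_induction_on hx ?_ ?_
  · intro y hy z hz
    rw [Derivation.leibniz]
    exact Submodule.add_mem _ (Submodule.smul_mem_smul hy trivial) (Submodule.smul_mem_smul hz trivial)
  · intro y z hy hz
    rw [map_add]
    exact Submodule.add_mem _ hy hz

theorem smul_top_eq_top_of_unique {𝔞 : Ideal A}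
    (hAB : ∃ k : ℕ, (𝔞 ^ k).map (algebraMap A B) ≤ 𝔟)
    (H : ∀ (E : Type u) [CommRing E] [Algebra A E], (∃ k : ℕ, (𝔞 ^ k).map (algebraMap A E) = ⊥) →
      ∀ J : Ideal E, IsNilpotent J → ∀ v₁ v₂ : B →ₐ[A] E,
        (∃ m : ℕ, ∀ x ∈ 𝔟 ^ m, v₁ x = 0) → (∃ m : ℕ, ∀ x ∈ 𝔟 ^ m, v₂ x = 0) →
        (∀ b : B, Ideal.Quotient.mk J (v₁ b) = Ideal.Quotient.mk J (v₂ b)) → v₁ = v₂) :
    (𝔟 • ⊤ : Submodule B Ω[B⁄A]) = ⊤ := by
  obtain ⟨k, hk⟩ := hAB
  have hv1 : ∀ x ∈ 𝔟, v1 (A := A) 𝔟 x = 0 := by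
    intro x hx
    simp only [v1, RingHom.comp_apply, Ideal.Quotient.eq_zero_iff_mem.mpr hx, map_zero]
  have hE : ∃ k : ℕ, (𝔞 ^ k).map (algebraMap A (Ext (A := A) 𝔟)) = ⊥ := by
    refine ⟨k, ?_⟩
    rw [eq_bot_iff, Ideal.map_le_iff_le_comap]
    intro a ha
    rw [Ideal.mem_comap, Ideal.mem_bot]
    exact hv1 _ (hk (Ideal.mem_map_of_mem _ ha))
  have hJ : IsNilpotent (TrivSqZeroExt.kerIdeal (B ⧸ 𝔟) (Mq (A := A) 𝔟)) :=
    ⟨2, TrivSqZeroExt.kerIdeal_sq _ _⟩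
  have h1 : ∃ m : ℕ, ∀ x ∈ 𝔟 ^ m, v1a (A := A) 𝔟 x = 0 := ⟨1, fun x hx => hv1 x (by simpa using hx)⟩
  have h2 : ∃ m : ℕ, ∀ x ∈ 𝔟 ^ m, v2a (A := A) 𝔟 x = 0 := by
    refine ⟨2, fun x hx => ?_⟩
    have hx1 : x ∈ 𝔟 := Ideal.pow_le_self two_ne_zero hx
    show (TrivSqZeroExt.inl (Ideal.Quotient.mk 𝔟 x) +
      TrivSqZeroExt.inr (Submodule.Quotient.mk (KaehlerDifferential.D A B x)) : Ext (A := A) 𝔟) = 0
    rw [Ideal.Quotient.eq_zero_iff_mem.mpr hx1,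
      (Submodule.Quotient.mk_eq_zero _).mpr (D_mem_of_mem_sq 𝔟 x hx)]
    rw [TrivSqZeroExt.inl_zero, TrivSqZeroExt.inr_zero, add_zero]
  have h3 : ∀ b : B, Ideal.Quotient.mk (TrivSqZeroExt.kerIdeal (B ⧸ 𝔟) (Mq (A := A) 𝔟)) (v1a (A := A) 𝔟 b) =
      Ideal.Quotient.mk _ (v2a (A := A) 𝔟 b) := by
    intro b
    rw [Ideal.Quotient.eq, TrivSqZeroExt.kerIdeal, RingHom.mem_ker]
    have : v1a (A := A) 𝔟 b - v2a (A := A) 𝔟 b = (TrivSqZeroExt.inl (Ideal.Quotient.mk 𝔟 b) -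
      (TrivSqZeroExt.inl (Ideal.Quotient.mk 𝔟 b) +
      TrivSqZeroExt.inr (Submodule.Quotient.mk (KaehlerDifferential.D A B b)))) := rfl
    rw [this]
    simp
  have key := H (Ext (A := A) 𝔟) hE _ hJ (v1a (A := A) 𝔟) (v2a (A := A) 𝔟) h1 h2 h3
  have hle : Submodule.span B (Set.range (KaehlerDifferential.D A B)) ≤ (𝔟 • ⊤ : Submodule B Ω[B⁄A]) := by
    rw [Submodule.span_le]
    rintro _ ⟨b, rfl⟩
    have hb := congrArg TrivSqZeroExt.snd (AlgHom.congr_fun key b)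
    have hb' : (0 : Mq (A := A) 𝔟) = Submodule.Quotient.mk (KaehlerDifferential.D A B b) := by
      simpa [v1a, v1, v2a] using hb
    exact (Submodule.Quotient.mk_eq_zero _).mp hb'.symm
  rw [KaehlerDifferential.span_range_derivation] at hle
  exact eq_top_iff.mpr hle

end fwd

section bwd

variable {A B : Type u} [CommRing A] [CommRing B] [Algebra A B] (𝔟 : Ideal B)

theorem pow_smul_top_eq_top (h𝔟 : 𝔟 • (⊤ : Submodule B Ω[B⁄A]) = ⊤) (k : ℕ) :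
    𝔟 ^ k • (⊤ : Submodule B Ω[B⁄A]) = ⊤ := by
  induction k with
  | zero => rw [pow_zero, Ideal.one_eq_top, Submodule.top_smul]
  | succ k ih => rw [pow_succ, Submodule.mul_smul, h𝔟, ih]

theorem sq_zero_case (h𝔟 : 𝔟 • (⊤ : Submodule B Ω[B⁄A]) = ⊤)
    {E : Type u} [CommRing E] [Algebra A E]
    (J : Ideal E) (hJ : J ^ 2 = ⊥) (f₁ f₂ : B →ₐ[A] E) (h1 : ∃ m : ℕ, ∀ x ∈ 𝔟 ^ m, f₁ x = 0)
    (e : (Ideal.Quotient.mkₐ A J).comp f₁ = (Ideal.Quotient.mkₐ A J).comp f₂) : f₁ = f₂ := by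
  obtain ⟨m, hm⟩ := h1
  let := f₁.toRingHom.toAlgebra
  have := IsScalarTower.of_algebraMap_eq' f₁.comp_algebraMap.symm
  have hzero : ∀ l : Ω[B⁄A] →ₗ[B] J, l = 0 := by
    intro l
    refine LinearMap.ext fun x => Subtype.ext ?_
    have hx : x ∈ 𝔟 ^ m • (⊤ : Submodule B Ω[B⁄A]) := by
      rw [pow_smul_top_eq_top 𝔟 h𝔟 m]; trivial
    simp only [LinearMap.zero_apply, ZeroMemClass.coe_zero]
    refine Submodule.smul_induction_on (p := fun x => ((l x : J) : E) = 0) hx ?_ ?_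
    · intro r hr n _
      rw [map_smul]
      have : algebraMap B E r = 0 := hm r hr
      rw [Submodule.coe_smul_of_tower, Algebra.smul_def, this, zero_mul]
    · intro x y hx hy
      rw [map_add, Submodule.coe_add, hx, hy, add_zero]
  have hsub : Subsingleton (Ω[B⁄A] →ₗ[B] J) := ⟨fun l₁ l₂ => by rw [hzero l₁, hzero l₂]⟩
  have :=
    ((KaehlerDifferential.linearMapEquivDerivation A B).toEquiv.trans
          (derivationToSquareZeroEquivLift J hJ)).surjective.subsingleton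
  exact Subtype.ext_iff.mp (@Subsingleton.elim _ this ⟨f₁, rfl⟩ ⟨f₂, e.symm⟩)

theorem nilpotent_case (h𝔟 : 𝔟 • (⊤ : Submodule B Ω[B⁄A]) = ⊤)
    {E : Type u} [CommRing E] [Algebra A E]
    (J : Ideal E) (hJ : IsNilpotent J) : ∀ (f₁ f₂ : B →ₐ[A] E), (∃ m : ℕ, ∀ x ∈ 𝔟 ^ m, f₁ x = 0) →
    (Ideal.Quotient.mkₐ A J).comp f₁ = (Ideal.Quotient.mkₐ A J).comp f₂ → f₁ = f₂ := by
  revert ‹Algebra A E›
  apply Ideal.IsNilpotent.induction_on (S := E) J hJ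
  · intro E _ I hI _ f₁ f₂ h1 e
    exact sq_zero_case 𝔟 h𝔟 I hI f₁ f₂ h1 e
  · intro E _ I J hIJ h₁ h₂ _ g₁ g₂ hg e
    apply h₁ g₁ g₂ hg
    apply h₂
    · obtain ⟨m, hm⟩ := hg
      refine ⟨m, fun x hx => ?_⟩
      simp only [AlgHom.comp_apply, hm x hx, map_zero]
    · ext x
      replace e := AlgHom.congr_fun e x
      dsimp only [AlgHom.comp_apply, Ideal.Quotient.mkₐ_eq_mk] at e ⊢
      rwa [Ideal.Quotient.eq, ← map_sub, Ideal.mem_quotient_iff_mem hIJ, ← Ideal.Quotient.eq]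

theorem subsingleton_iff :
    Subsingleton (AdicCompletion 𝔟 (Ω[B⁄A])) ↔ 𝔟 • (⊤ : Submodule B Ω[B⁄A]) = ⊤ := by
  constructor
  · intro h
    have hs : Subsingleton (Ω[B⁄A] ⧸ (𝔟 ^ 1 • ⊤ : Submodule B Ω[B⁄A])) :=
      (AdicCompletion.eval_surjective 𝔟 Ω[B⁄A] 1).subsingleton
    have := Submodule.Quotient.subsingleton_iff.mp hs
    rwa [pow_one] at this
  · intro h
    constructor
    intro x y
    apply AdicCompletion.ext
    intro n
    have hs : Subsingleton (Ω[B⁄A] ⧸ (𝔟 ^ n • ⊤ : Submodule B Ω[B⁄A])) :=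
      Submodule.Quotient.subsingleton_iff.mpr (pow_smul_top_eq_top 𝔟 h n)
    exact Subsingleton.elim _ _

end bwd

/-- Let A be 𝔞-adic and B a topological A-algebra for the 𝔟-adic topology (a power of 𝔞 maps into 𝔟).
Then B is a formally unramified A-algebra (for every homomorphism E → C of discrete A-algebras with
nilpotent kernel and every continuous u : B → C there is at most one continuous lift B → E; here E
discrete means killed by a power of 𝔞, and one may take C = E/J) if and only if the separated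
completion of Ω_{B/A}, i.e. its 𝔟-adic completion, is zero. -/
theorem result {A B : Type u} [CommRing A] [CommRing B] [Algebra A B]
    (𝔞 : Ideal A) (𝔟 : Ideal B) (hAB : ∃ k : ℕ, (𝔞 ^ k).map (algebraMap A B) ≤ 𝔟) :
    (∀ (E : Type u) [CommRing E] [Algebra A E], (∃ k : ℕ, (𝔞 ^ k).map (algebraMap A E) = ⊥) →
      ∀ J : Ideal E, IsNilpotent J → ∀ v₁ v₂ : B →ₐ[A] E,
        (∃ m : ℕ, ∀ x ∈ 𝔟 ^ m, v₁ x = 0) → (∃ m : ℕ, ∀ x ∈ 𝔟 ^ m, v₂ x = 0) →
        (∀ b : B, Ideal.Quotient.mk J (v₁ b) = Ideal.Quotient.mk J (v₂ b)) → v₁ = v₂) ↔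
    Subsingleton (AdicCompletion 𝔟 (Ω[B⁄A])) := by
  rw [subsingleton_iff]
  constructor
  · intro H
    exact smul_top_eq_top_of_unique 𝔟 hAB H
  · intro h E _ _ _ J hJ v₁ v₂ h1 _ hv
    apply nilpotent_case 𝔟 h J hJ v₁ v₂ h1
    ext b
    exact hv b

end Groth.Agent.S4559
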