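import Groth.Statements.S4560
import Mathlib.RingTheory.Kaehler.TensorProduct
import Mathlib.RingTheory.Unramified.Basic
import Mathlib.RingTheory.TensorProduct.Quotient
import Mathlib.RingTheory.Ideal.Quotient.Nilpotent

set_option autoImplicit false
universe u
open EGA41

namespace Groth.Agent.S4560

open TensorProduct

section

variable {A B : Type u} [CommRing A] [CommRing B] [Algebra A B] (𝔪 : Ideal A)

attribute [local instance] Algebra.TensorProduct.rightAlgebra in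
theorem smul_top_eq_top (h : Subsingleton (Ω[B ⧸ 𝔪.map (algebraMap A B)⁄A ⧸ 𝔪])) :
    𝔪 • (⊤ : Submodule A Ω[B⁄A]) = ⊤ := by
  have h1 : Algebra.FormallyUnramified (A ⧸ 𝔪) (B ⧸ 𝔪.map (algebraMap A B)) := ⟨h⟩
  have h2 : Algebra.FormallyUnramified (A ⧸ 𝔪) ((A ⧸ 𝔪) ⊗[A] B) :=
    .of_equiv (Algebra.TensorProduct.quotIdealMapEquivQuotTensor B 𝔪)
  have h3 : Subsingleton Ω[(A ⧸ 𝔪) ⊗[A] B⁄A ⧸ 𝔪] := h2.1
  have e := KaehlerDifferential.tensorKaehlerEquivBase A (A ⧸ 𝔪) B ((A ⧸ 𝔪) ⊗[A] B)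
  have h4 : Subsingleton ((A ⧸ 𝔪) ⊗[A] Ω[B⁄A]) := e.toEquiv.subsingleton
  have e2 := TensorProduct.quotTensorEquivQuotSMul Ω[B⁄A] 𝔪
  have h5 : Subsingleton (Ω[B⁄A] ⧸ 𝔪 • (⊤ : Submodule A Ω[B⁄A])) := e2.symm.toEquiv.subsingleton
  exact Submodule.Quotient.subsingleton_iff.mp h5

theorem pow_smul_top_eq_top (h𝔪 : 𝔪 • (⊤ : Submodule A Ω[B⁄A]) = ⊤) (k : ℕ) :
    𝔪 ^ k • (⊤ : Submodule A Ω[B⁄A]) = ⊤ := by
  induction k with
  | zero => rw [pow_zero, Ideal.one_eq_top, Submodule.top_smul]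
  | succ k ih => rw [pow_succ, Submodule.mul_smul, h𝔪, ih]

theorem sq_zero_case (h𝔪 : 𝔪 • (⊤ : Submodule A Ω[B⁄A]) = ⊤) (k : ℕ)
    {E : Type u} [CommRing E] [Algebra A E] (hk : (𝔪 ^ k).map (algebraMap A E) = ⊥)
    (J : Ideal E) (hJ : J ^ 2 = ⊥) :
    Function.Injective ((Ideal.Quotient.mkₐ A J).comp : (B →ₐ[A] E) → B →ₐ[A] E ⧸ J) := by
  intro f₁ f₂ e
  let := f₁.toRingHom.toAlgebra
  have := IsScalarTower.of_algebraMap_eq' f₁.comp_algebraMap.symm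
  have hzero : ∀ l : Ω[B⁄A] →ₗ[B] J, l = 0 := by
    intro l
    refine LinearMap.ext fun x => Subtype.ext ?_
    have hx : x ∈ 𝔪 ^ k • (⊤ : Submodule A Ω[B⁄A]) := by
      rw [pow_smul_top_eq_top 𝔪 h𝔪 k]; trivial
    simp only [LinearMap.zero_apply, ZeroMemClass.coe_zero]
    refine Submodule.smul_induction_on (p := fun x => ((l x : J) : E) = 0) hx ?_ ?_
    · intro r hr n _
      rw [LinearMap.map_smul_of_tower]
      have : algebraMap A E r = 0 := by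
        have : algebraMap A E r ∈ (𝔪 ^ k).map (algebraMap A E) := Ideal.mem_map_of_mem _ hr
        rwa [hk, Ideal.mem_bot] at this
      rw [Submodule.coe_smul_of_tower, Algebra.smul_def, this, zero_mul]
    · intro x y hx hy
      rw [map_add, Submodule.coe_add, hx, hy, add_zero]
  have hsub : Subsingleton (Ω[B⁄A] →ₗ[B] J) := ⟨fun l₁ l₂ => by rw [hzero l₁, hzero l₂]⟩
  have :=
    ((KaehlerDifferential.linearMapEquivDerivation A B).toEquiv.trans
          (derivationToSquareZeroEquivLift J hJ)).surjective.subsingleton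
  exact Subtype.ext_iff.mp (@Subsingleton.elim _ this ⟨f₁, rfl⟩ ⟨f₂, e.symm⟩)

theorem nilpotent_case (h𝔪 : 𝔪 • (⊤ : Submodule A Ω[B⁄A]) = ⊤) (k : ℕ)
    {E : Type u} [CommRing E] [Algebra A E] (hk : (𝔪 ^ k).map (algebraMap A E) = ⊥)
    (J : Ideal E) (hJ : IsNilpotent J) :
    Function.Injective ((Ideal.Quotient.mkₐ A J).comp : (B →ₐ[A] E) → B →ₐ[A] E ⧸ J) := by
  revert hk
  revert ‹Algebra A E›
  apply Ideal.IsNilpotent.induction_on (S := E) J hJ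
  · intro E _ I hI _ hk
    exact sq_zero_case 𝔪 h𝔪 k hk I hI
  · intro E _ I J hIJ h₁ h₂ _ hk g₁ g₂ e
    apply h₁ hk
    have hk' : (𝔪 ^ k).map (algebraMap A (E ⧸ I)) = ⊥ := by
      rw [IsScalarTower.algebraMap_eq A E (E ⧸ I), ← Ideal.map_map, hk, Ideal.map_bot]
    apply h₂ hk'
    ext x
    replace e := AlgHom.congr_fun e x
    dsimp only [AlgHom.comp_apply, Ideal.Quotient.mkₐ_eq_mk] at e ⊢
    rwa [Ideal.Quotient.eq, ← map_sub, Ideal.mem_quotient_iff_mem hIJ, ← Ideal.Quotient.eq]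


theorem forward_dir
    (H : ∀ (E : Type u) [CommRing E] [Algebra A E], (∃ k : ℕ, (𝔪 ^ k).map (algebraMap A E) = ⊥) →
      ∀ J : Ideal E, IsNilpotent J → ∀ v₁ v₂ : B →ₐ[A] E,
        (∀ b : B, Ideal.Quotient.mk J (v₁ b) = Ideal.Quotient.mk J (v₂ b)) → v₁ = v₂) :
    Algebra.FormallyUnramified (A ⧸ 𝔪) (B ⧸ 𝔪.map (algebraMap A B)) := by
  rw [Algebra.FormallyUnramified.iff_comp_injective]
  intro E _ _ I hI f₁ f₂ e
  letI := ((algebraMap (A ⧸ 𝔪) E).comp (algebraMap A (A ⧸ 𝔪))).toAlgebra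
  haveI : IsScalarTower A (A ⧸ 𝔪) E := IsScalarTower.of_algebraMap_eq' rfl
  let v₁ : B →ₐ[A] E :=
    (f₁.restrictScalars A).comp (IsScalarTower.toAlgHom A B (B ⧸ 𝔪.map (algebraMap A B)))
  let v₂ : B →ₐ[A] E :=
    (f₂.restrictScalars A).comp (IsScalarTower.toAlgHom A B (B ⧸ 𝔪.map (algebraMap A B)))
  have hk : (𝔪 ^ 1).map (algebraMap A E) = ⊥ := by
    rw [pow_one, eq_bot_iff, Ideal.map_le_iff_le_comap]
    intro a ha
    rw [Ideal.mem_comap, Ideal.mem_bot, IsScalarTower.algebraMap_apply A (A ⧸ 𝔪) E]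
    have : algebraMap A (A ⧸ 𝔪) a = 0 := Ideal.Quotient.eq_zero_iff_mem.mpr ha
    rw [this, map_zero]
  have hv : v₁ = v₂ := by
    apply H E ⟨1, hk⟩ I ⟨2, hI⟩ v₁ v₂
    intro b
    exact AlgHom.congr_fun e (Ideal.Quotient.mk _ b)
  ext x
  obtain ⟨b, rfl⟩ := Ideal.Quotient.mk_surjective x
  exact AlgHom.congr_fun hv b

end

/-- Let A be a ring, 𝔪 an ideal of A, B an A-algebra; give A the 𝔪-adic topology and B the topology
deduced from it (the 𝔪B-adic topology), and put A₀ = A/𝔪, B₀ = B/𝔪B. Then B is a formally unramified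
A-algebra (for these topologies: E discrete means killed by a power of 𝔪, and continuity of maps B →
E is then automatic) if and only if Ω_{B₀/A₀} = 0, i.e. B₀ is a formally unramified A₀-algebra. -/
theorem result {A B : Type u} [CommRing A] [CommRing B] [Algebra A B] (𝔪 : Ideal A) :
    (∀ (E : Type u) [CommRing E] [Algebra A E], (∃ k : ℕ, (𝔪 ^ k).map (algebraMap A E) = ⊥) →
      ∀ J : Ideal E, IsNilpotent J → ∀ v₁ v₂ : B →ₐ[A] E,
        (∀ b : B, Ideal.Quotient.mk J (v₁ b) = Ideal.Quotient.mk J (v₂ b)) → v₁ = v₂) ↔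
    Subsingleton (Ω[B ⧸ 𝔪.map (algebraMap A B)⁄A ⧸ 𝔪]) := by
  constructor
  · intro H
    exact (forward_dir 𝔪 H).1
  · intro h E _ _ hE J hJ v₁ v₂ hv
    obtain ⟨k, hk⟩ := hE
    apply nilpotent_case 𝔪 (smul_top_eq_top 𝔪 h) k hk J hJ
    ext b
    exact hv b

end Groth.Agent.S4560
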