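import Groth.Statements.S4562
import Mathlib.FieldTheory.Galois.Basic
import Mathlib.FieldTheory.Normal.Closure
import Mathlib.FieldTheory.PurelyInseparable.PerfectClosure
import Mathlib.RingTheory.DedekindDomain.IntegralClosure
import Mathlib.FieldTheory.IsAlgClosed.AlgebraicClosure

set_option autoImplicit false
universe u
open CAlg

namespace Groth.Agent.S4562

open IntermediateField

theorem finite_integralClosure_of_tower
    {A K K' N : Type*} [CommRing A] [IsDomain A] [IsNoetherianRing A] [Field K] [Algebra A K]
    [IsFractionRing A K] [Field K'] [Algebra A K'] [Algebra K K'] [IsScalarTower A K K']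
    [FiniteDimensional K K'] [Field N] [Algebra A N] [Algebra K' N] [IsScalarTower A K' N]
    [FiniteDimensional K' N] [Algebra.IsSeparable K' N]
    (h : Module.Finite A (integralClosure A K')) : Module.Finite A (integralClosure A N) := by
  have hnoeA' : IsNoetherianRing (integralClosure A K') :=
    Algebra.FiniteType.isNoetherianRing A (integralClosure A K')
  have hfrac : IsFractionRing (integralClosure A K') K' :=
    integralClosure.isFractionRing_of_finite_extension K K'
  have hic : IsIntegrallyClosed (integralClosure A K') :=
    integralClosure.isIntegrallyClosedOfFiniteExtension K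
  have hfinB : Module.Finite (integralClosure A K') (integralClosure (integralClosure A K') N) :=
    IsIntegralClosure.finite (integralClosure A K') K' N _
  have hfinB' : Module.Finite A (integralClosure (integralClosure A K') N) :=
    Module.Finite.trans (integralClosure A K') _
  have hnoeB : IsNoetherian A (integralClosure (integralClosure A K') N) :=
    isNoetherian_of_isNoetherianRing_of_finite A _
  let φ : integralClosure A N →ₗ[A] integralClosure (integralClosure A K') N :=
    { toFun := fun x => ⟨x.1, x.2.tower_top⟩
      map_add' := fun x y => rfl
      map_smul' := fun a x => rfl }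
  exact Module.Finite.of_injective φ (fun x y hxy => by
      have h1 : ((φ x : integralClosure (integralClosure A K') N) : N) = (φ y : integralClosure (integralClosure A K') N) := by rw [hxy]
      exact Subtype.ext h1)

theorem finite_integralClosure_of_algHom
    {A L N : Type*} [CommRing A] [IsNoetherianRing A] [Field L] [Algebra A L]
    [Field N] [Algebra A N] (f : L →ₐ[A] N)
    (h : Module.Finite A (integralClosure A N)) : Module.Finite A (integralClosure A L) := by
  have hnoe : IsNoetherian A (integralClosure A N) :=
    isNoetherian_of_isNoetherianRing_of_finite A _
  let φ : integralClosure A L →ₗ[A] integralClosure A N :=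
    { toFun := fun x => ⟨f x.1, x.2.map f⟩
      map_add' := fun x y => Subtype.ext (map_add f _ _)
      map_smul' := fun a x => Subtype.ext (map_smul f _ _) }
  exact Module.Finite.of_injective φ
    (fun x y hxy => Subtype.ext (f.toRingHom.injective (Subtype.ext_iff.mp hxy : f (x : L) = f (y : L))))

theorem isPurelyInseparable_fixedField_top {K N : Type*} [Field K] [Field N] [Algebra K N]
    [Normal K N] : IsPurelyInseparable K (fixedField (⊤ : Subgroup Gal(N/K))) := by
  classical
  rw [isPurelyInseparable_iff_natSepDegree_eq_one]
  intro x
  have h1 : minpoly K x = minpoly K (x : N) := IntermediateField.minpoly_eq x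
  have hsp : ((minpoly K (x : N)).map (algebraMap K N)).Splits := Normal.splits' (x : N)
  have halg : IsAlgebraic K (x : N) := (Normal.isIntegral ‹_› (x : N)).isAlgebraic
  rw [h1, Polynomial.natSepDegree_eq_of_splits _ hsp]
  have : ((minpoly K (x : N)).aroots N).toFinset = {(x : N)} := by
    ext y
    simp only [Multiset.mem_toFinset, Finset.mem_singleton]
    rw [Polynomial.mem_aroots]
    constructor
    · rintro ⟨_, hy⟩
      obtain ⟨σ, hσ⟩ := minpoly.exists_algEquiv_of_root' halg hy
      rw [← hσ]
      exact ((mem_fixedField_iff _ _).mp x.2 σ (Subgroup.mem_top σ))
    · rintro rfl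
      exact ⟨minpoly.ne_zero halg.isIntegral, minpoly.aeval K _⟩
  rw [this, Finset.card_singleton]

/-- Let A be a Noetherian domain with fraction field K. If the integral closure of A in every finite
purely inseparable extension of K is a finitely generated A-module, then A is Japanese (N-2). -/
theorem result (A : Type u) [CommRing A] [IsDomain A]
    [IsNoetherianRing A]
    (h : ∀ (K' : Type u) [Field K'] [Algebra A K'] [Algebra (FractionRing A) K']
      [IsScalarTower A (FractionRing A) K'], FiniteDimensional (FractionRing A) K' →
      IsPurelyInseparable (FractionRing A) K' → Module.Finite A (integralClosure A K')) :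
    CAlg.IsN2 A := by
  intro L _ _ _ _ hfin
  let K := FractionRing A
  let Ω := AlgebraicClosure L
  have : IsAlgClosure K Ω := ⟨AlgebraicClosure.isAlgClosed L, Algebra.IsAlgebraic.trans K L Ω⟩
  let N := normalClosure K L Ω
  have : Normal K N := inferInstance
  have : FiniteDimensional K N := inferInstance
  let K' := fixedField (⊤ : Subgroup Gal(N/K))
  have : IsGalois K' N := IsGalois.of_fixed_field N _
  have : IsPurelyInseparable K K' := isPurelyInseparable_fixedField_top
  have : FiniteDimensional K K' := inferInstance
  have : FiniteDimensional K' N := inferInstance
  have i4 : IsScalarTower A K N := IsScalarTower.of_algebraMap_eq (fun a => Subtype.ext (IsScalarTower.algebraMap_apply A K Ω a))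
  have i2 : IsScalarTower A K K' := IsScalarTower.of_algebraMap_eq (fun a => Subtype.ext (IsScalarTower.algebraMap_apply A K N a))
  have i5 : IsScalarTower A K' N := IsScalarTower.of_algebraMap_eq (fun a => rfl)
  have i6 : IsScalarTower A L N := IsScalarTower.of_algebraMap_eq (fun a => Subtype.ext (IsScalarTower.algebraMap_apply A L Ω a))
  have hfinA' : Module.Finite A (integralClosure A K') := h K' inferInstance inferInstance
  have hsep : Algebra.IsSeparable K' N := inferInstance
  have hN : Module.Finite A (integralClosure A N) :=
    finite_integralClosure_of_tower (K := K) (K' := K') hfinA'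
  exact finite_integralClosure_of_algHom (IsScalarTower.toAlgHom A L N) hN

end Groth.Agent.S4562
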