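import Groth.Statements.S4566
import Groth.Agent.Lib.Helper38.AnUnram
import Groth.Agent.S0568
import Groth.Agent.S0543

set_option autoImplicit false
universe u
open CAlg

namespace Groth.Agent.S4566

/-- Let A be a Noetherian local domain with fraction field K whose adic completion Â is reduced, and R
the total ring of fractions of Â with its K-algebra structure. If R is geometrically reduced over K
then A is Japanese (N-2). (The published statement asks R to be a separable K-algebra; what is used
is that K' ⊗_K R is reduced for every finite extension K' of K, which geometric reducedness gives.) -/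
theorem result {A R : Type u}
    [CommRing A] [IsDomain A] [IsLocalRing A] [IsNoetherianRing A]
    (hred : IsReduced (AdicCompletion (IsLocalRing.maximalIdeal A) A))
    [CommRing R] [Algebra (AdicCompletion (IsLocalRing.maximalIdeal A) A) R]
    [IsFractionRing (AdicCompletion (IsLocalRing.maximalIdeal A) A) R] [Algebra A R]
    [IsScalarTower A (AdicCompletion (IsLocalRing.maximalIdeal A) A) R]
    [Algebra (FractionRing A) R] [IsScalarTower A (FractionRing A) R]
    (h : Algebra.IsGeometricallyReduced (FractionRing A) R) :
    CAlg.IsN2 A := by
  have hNoeth : IsNoetherianRing (AdicCompletion (IsLocalRing.maximalIdeal A) A) :=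
    Groth.Agent.S0543.result A _
  have hff : Module.FaithfullyFlat A (AdicCompletion (IsLocalRing.maximalIdeal A) A) :=
    Module.FaithfullyFlat.of_flat_of_isLocalHom
  have hNag := Groth.Agent.S0568.result (AdicCompletion (IsLocalRing.maximalIdeal A) A)
  intro L _ _ _ _ hfd
  have hred' : IsReduced (TensorProduct (FractionRing A) L R) := inferInstance
  let e1 : TensorProduct (FractionRing A) R L ≃ₐ[FractionRing A] TensorProduct A R L :=
    IsLocalization.algebraTensorEquiv (nonZeroDivisors A) (FractionRing A) R L
  let e2 : TensorProduct (FractionRing A) R L ≃ₐ[FractionRing A] TensorProduct (FractionRing A) L R :=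
    Algebra.TensorProduct.comm (FractionRing A) R L
  have hredT : IsReduced (TensorProduct A R L) :=
    isReduced_of_injective (e1.symm.trans e2) (e1.symm.trans e2).injective
  exact Groth.Agent.Lib.Helper38.AnUnram.finite_integralClosure_of_tensor_reduced A
    (AdicCompletion (IsLocalRing.maximalIdeal A) A) L R (fun q _ => hNag.2 q) hredT

end Groth.Agent.S4566
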