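import Groth.Statements.S4569
import Mathlib.RingTheory.Localization.Ideal

set_option autoImplicit false
universe u
open CAlg

namespace Groth.Agent.S4569

theorem aux {A : Type u} [CommRing A] (x : A)
    (hx : x ∈ nonZeroDivisors A) [hp : (Ideal.span ({x} : Set A)).IsPrime] (n : ℕ) :
    ∀ (u a : A), u ∉ Ideal.span ({x} : Set A) → u * a ∈ Ideal.span ({x ^ n} : Set A) →
      a ∈ Ideal.span ({x ^ n} : Set A) := by
  induction n with
  | zero =>
    intro u a _ _
    simp
  | succ n ih =>
    intro u a hu hua
    rw [Ideal.mem_span_singleton'] at hua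
    obtain ⟨b, hb⟩ := hua
    have h1 : u * a ∈ Ideal.span ({x} : Set A) := by
      rw [Ideal.mem_span_singleton']
      exact ⟨b * x ^ n, by rw [← hb, pow_succ]; ring⟩
    have h2 : a ∈ Ideal.span ({x} : Set A) := (hp.mem_or_mem h1).resolve_left hu
    rw [Ideal.mem_span_singleton'] at h2
    obtain ⟨a', ha'⟩ := h2
    have h3 : u * a' = b * x ^ n := by
      have : (u * a') * x = (b * x ^ n) * x := by
        rw [mul_assoc, ha', ← hb, pow_succ]; ring
      exact (mul_cancel_right_mem_nonZeroDivisors hx).mp this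
    have h4 : a' ∈ Ideal.span ({x ^ n} : Set A) := by
      apply ih u a' hu
      rw [Ideal.mem_span_singleton']
      exact ⟨b, h3.symm⟩
    rw [Ideal.mem_span_singleton'] at h4 ⊢
    obtain ⟨c, hc⟩ := h4
    exact ⟨c, by rw [← ha', ← hc, pow_succ]; ring⟩

/-- Let A be a ring, x a non-zero-divisor of A with p = xA prime. For every n > 0 the inverse image in A
of x^n A_p is x^n A. -/
theorem result {A : Type u} [CommRing A] (x : A)
    (hx : x ∈ nonZeroDivisors A) [(Ideal.span ({x} : Set A)).IsPrime] (n : ℕ) (hn : 0 < n) :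
    Ideal.comap (algebraMap A (Localization.AtPrime (Ideal.span ({x} : Set A))))
      (Ideal.map (algebraMap A (Localization.AtPrime (Ideal.span ({x} : Set A)))) (Ideal.span ({x ^ n} : Set A))) =
      Ideal.span ({x ^ n} : Set A) := by
  apply le_antisymm
  · intro a ha
    rw [Ideal.mem_comap, IsLocalization.mem_map_algebraMap_iff (Ideal.span ({x} : Set A)).primeCompl] at ha
    obtain ⟨⟨i, s⟩, h⟩ := ha
    rw [← map_mul, IsLocalization.eq_iff_exists (Ideal.span ({x} : Set A)).primeCompl] at h
    obtain ⟨t, ht⟩ := h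
    apply aux x hx n (t * s) a
    · intro hmem
      rcases (Ideal.IsPrime.mem_or_mem ‹_› hmem) with h | h
      · exact t.2 h
      · exact s.2 h
    · have : (t : A) * (s : A) * a = t * i := by rw [← ht]; ring
      rw [this]
      exact Ideal.mul_mem_left _ _ i.2
  · exact Ideal.le_comap_map

end Groth.Agent.S4569
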