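import Groth.Statements.S4573
-- import your own Groth.Agent.* helpers here
import Groth.Agent.Lib.Helper49.GeomRegFS4
import Groth.Agent.Lib.Helper49.FSRegular2
import Groth.Agent.Lib.Helper49.FSRegular3

set_option autoImplicit false
universe u
open TensorProduct IsLocalRing
open EGA41

namespace Groth.Agent.S4573

open TensorProduct IsLocalRing
open EGA41
open Groth.Agent.Lib.Helper49.GeomRegFS Groth.Agent.Lib.Helper49.FSRegular

/-- Let k be a field of characteristic exponent p and A a Noetherian local k-algebra. Then A is formally
smooth over k for the adic topology of its maximal ideal if and only if, for every finite extension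
k' of k with k'^p ⊆ k, the ring k' ⊗_k A is regular. -/
theorem result {k A : Type u} [Field k] (p : ℕ)
    [ExpChar k p] [CommRing A] [IsLocalRing A] [IsNoetherianRing A] [Algebra k A] :
    CAlgX.IsAdicFormallySmooth k A (maximalIdeal A) ↔
      ∀ (k' : Type u) [Field k'] [Algebra k k'], Module.Finite k k' →
        (∀ x : k', x ^ p ∈ (algebraMap k k').range) → IsRegularRing (k' ⊗[k] A) := by
  constructor
  · intro h k' _ _ hfin _
    exact isGeometricallyRegular_of_isAdicFormallySmooth h k' hfin
  · intro H
    cases ‹ExpChar k p› with
    | zero =>
      have h1 := H k (Module.Finite.self k) (fun x => ⟨x ^ 1, rfl⟩)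
      haveI : IsRegularRing A :=
        IsRegularRing.of_ringEquiv (Algebra.TensorProduct.lid k A).toRingEquiv
      haveI : Algebra.FormallySmooth k (ResidueField A) := formallySmooth_of_charZero
      exact isAdicFormallySmooth_iff_isRegularLocalRing_of_sep.mpr
        (IsRegularLocalRing.of_isRegularRing_of_isLocalRing A)
    | prime hprime =>
      haveI : Fact p.Prime := ⟨hprime⟩
      exact isAdicFormallySmooth_of_regular_baseChange p H

end Groth.Agent.S4573
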