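import Groth.Statements.S4574
-- import your own Groth.Agent.* helpers here
import Groth.Agent.Lib.Helper49.GeomRegFS5
import Groth.Agent.Lib.Helper49.FSRegular2
import Groth.Agent.Lib.Helper49.FSRegular3
import Groth.Agent.Lib.Helper77.RegularLocalization

set_option autoImplicit false
universe u
open IsLocalRing
open EGA41

namespace Groth.Agent.S4574

open IsLocalRing
open EGA41
open Groth.Agent.Lib.Helper49.GeomRegFS Groth.Agent.Lib.Helper49.FSRegular

/-- Let k be a field and A a Noetherian local k-algebra, formally smooth over k for its adic topology.
Then every localization A_p at a prime p is formally smooth over k for the pA_p-adic topology. -/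
theorem result {k A : Type u} [Field k] [CommRing A]
    [IsLocalRing A] [IsNoetherianRing A] [Algebra k A] (h : CAlgX.IsAdicFormallySmooth k A (maximalIdeal A))
    (p : Ideal A) [p.IsPrime] :
    CAlgX.IsAdicFormallySmooth k (Localization.AtPrime p) (maximalIdeal (Localization.AtPrime p)) := by
  haveI : IsNoetherianRing (Localization.AtPrime p) :=
    IsLocalization.isNoetherianRing p.primeCompl _ inferInstance
  obtain ⟨q, hq⟩ := CharP.exists k
  rcases CharP.char_is_prime_or_zero k q with hqq | rfl
  · haveI : Fact q.Prime := ⟨hqq⟩
    have hgeo := isGeometricallyRegular_of_isAdicFormallySmooth h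
    exact isAdicFormallySmooth_of_regular_baseChange q
      (fun k' _ _ hfin _ => isRegularRing_tensor_localization p (hgeo k' hfin))
  · haveI : CharZero k := CharP.charP_to_charZero k
    haveI : IsRegularLocalRing A := (isRegularLocalRing_of_isAdicFormallySmooth_field h).1
    haveI : Algebra.FormallySmooth k (ResidueField (Localization.AtPrime p)) :=
      formallySmooth_of_charZero
    exact isAdicFormallySmooth_iff_isRegularLocalRing_of_sep.mpr
      (Groth.Agent.Lib.Helper77.RegularLocalization.localization_regular A p)

end Groth.Agent.S4574
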