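import Groth.Statements.S4575
import Groth.Agent.Lib.Helper52.RegularQuot
import Mathlib.LinearAlgebra.Dimension.OrzechProperty

set_option autoImplicit false
universe u
open IsLocalRing
open EGA41

namespace Groth.Agent.S4575

/-- Let R be a regular local ring with maximal ideal m and n a proper ideal with R/n regular. Then
(n/n²) ⊗_R K → (m/m²) ⊗_R K is injective, K the residue field; stated in the equivalent form n ∩ m²
= m·n (the kernel of n/mn → m/m² is (n ∩ m²)/mn). -/
theorem result {R : Type u} [CommRing R] [IsRegularLocalRing R]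
    (n : Ideal R) (hn : n ≠ ⊤) (hreg : IsRegularRing (R ⧸ n)) :
    n ⊓ maximalIdeal R ^ 2 = maximalIdeal R * n := by
  classical
  have hnt : Nontrivial (R ⧸ n) := Ideal.Quotient.nontrivial_iff.mpr hn
  have hloc : IsLocalRing (R ⧸ n) :=
    IsLocalRing.of_surjective' (Ideal.Quotient.mk n) Ideal.Quotient.mk_surjective
  have hregl : IsRegularLocalRing (R ⧸ n) := IsRegularLocalRing.of_isRegularRing_of_isLocalRing _
  have hnm : n ≤ maximalIdeal R := IsLocalRing.le_maximalIdeal hn
  obtain ⟨d, hd⟩ := Groth.Agent.Lib.Helper52.exists_nat_ringKrullDim R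
  obtain ⟨x, c, hc, hspan, hn'⟩ :=
    Groth.Agent.Lib.Helper52.exists_generators_of_regular_quotient_regular d R hd n
  have hxm : ∀ i, x i ∈ maximalIdeal R := fun i => hspan ▸ Ideal.subset_span ⟨i, rfl⟩
  -- the images of the `x i` in the cotangent space are linearly independent
  let v : Fin d → CotangentSpace R := fun i => (maximalIdeal R).toCotangent ⟨x i, hxm i⟩
  have hv : LinearIndependent (ResidueField R) v := by
    apply linearIndependent_of_top_le_span_of_card_eq_finrank
    · have h1 : Submodule.span R (Set.range (fun i => (⟨x i, hxm i⟩ : maximalIdeal R))) = ⊤ := by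
        apply Submodule.map_injective_of_injective (maximalIdeal R).subtype_injective
        rw [Submodule.map_span, Submodule.map_top, Submodule.range_subtype, ← Set.range_comp]
        exact hspan
      have h2 := (CotangentSpace.span_image_eq_top_iff (R := R)).mpr h1
      rw [← Set.range_comp] at h2
      exact h2.ge
    · have h1 := (IsRegularLocalRing.iff_finrank_cotangentSpace R).mp inferInstance
      rw [hd] at h1
      rw [Fintype.card_fin]
      exact_mod_cast h1.symm
  have hv' : LinearIndependent (ResidueField R) (fun i : Fin c => v (Fin.castLE hc i)) :=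
    hv.comp _ (Fin.castLE_injective hc)
  apply le_antisymm
  · rintro z ⟨hzn, hzm⟩
    rw [hn'] at hzn
    obtain ⟨a, rfl⟩ := (Ideal.mem_span_range_iff_exists_fun).mp hzn
    have hzm' : (∑ i, a i * x (Fin.castLE hc i)) ∈ maximalIdeal R :=
      Ideal.pow_le_self two_ne_zero hzm
    have h0 : (maximalIdeal R).toCotangent ⟨_, hzm'⟩ = 0 :=
      (Ideal.toCotangent_eq_zero _ _).mpr hzm
    have h1 : (⟨∑ i, a i * x (Fin.castLE hc i), hzm'⟩ : maximalIdeal R) =
        ∑ i, a i • (⟨x (Fin.castLE hc i), hxm _⟩ : maximalIdeal R) := by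
      ext
      simp
    rw [h1, map_sum] at h0
    have h2 : ∑ i, residue R (a i) • v (Fin.castLE hc i) = 0 := by
      rw [← h0]
      refine Finset.sum_congr rfl fun i _ => ?_
      rw [map_smul]
      rfl
    have h3 := Fintype.linearIndependent_iff.mp hv' (fun i => residue R (a i)) h2
    refine Ideal.sum_mem _ fun i _ => ?_
    refine Ideal.mul_mem_mul ?_ ?_
    · exact (residue_eq_zero_iff _).mp (h3 i)
    · rw [hn']
      exact Ideal.subset_span ⟨i, rfl⟩
  · refine le_inf Ideal.mul_le_right ?_
    rw [pow_two]
    exact Ideal.mul_mono_right hnm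

end Groth.Agent.S4575
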