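import Groth.Statements.S4577
import Groth.Agent.Lib.Helper52.LocalProj
import Mathlib.RingTheory.Smooth.Locus
import Mathlib.RingTheory.Etale.Kaehler

set_option autoImplicit false
universe u
open EGA41

namespace Groth.Agent.S4577

open TensorProduct KaehlerDifferential Groth.Agent.Lib.Helper52

section

variable {A B C : Type u} [CommRing A] [CommRing B] [CommRing C]
    [Algebra A B] [Algebra B C] [Algebra A C] [IsScalarTower A B C]

theorem ker_mapBaseChange_fg (hsurj : Function.Surjective (algebraMap B C))
    [Module.Finite B (RingHom.ker (algebraMap B C)).Cotangent] :
    (LinearMap.ker (KaehlerDifferential.mapBaseChange A B C)).FG := by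
  classical
  obtain ⟨G, hG⟩ := (Module.Finite.fg_top : (⊤ : Submodule B (RingHom.ker (algebraMap B C)).Cotangent).FG)
  have hex := KaehlerDifferential.exact_kerCotangentToTensor_mapBaseChange A B C hsurj
  refine ⟨G.image (kerCotangentToTensor A B C), ?_⟩
  apply le_antisymm
  · rw [Submodule.span_le]
    intro x hx
    rw [Finset.coe_image] at hx
    obtain ⟨g, _, rfl⟩ := hx
    exact hex.apply_apply_eq_zero g
  · intro x hx
    obtain ⟨n, rfl⟩ := (hex x).mp hx
    have hn : n ∈ Submodule.span B (G : Set _) := by rw [hG]; trivial
    have h1 : kerCotangentToTensor A B C n ∈
        Submodule.span B ((kerCotangentToTensor A B C) '' (G : Set _)) :=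
      Submodule.apply_mem_span_image_of_mem_span _ hn
    rw [Finset.coe_image]
    exact Submodule.span_le_restrictScalars B C _ h1

theorem projective_kaehler_of_local [Algebra.FormallySmooth A B]
    (hsurj : Function.Surjective (algebraMap B C))
    [Module.Finite B (RingHom.ker (algebraMap B C)).Cotangent]
    (H : ∀ (m : Ideal C) [m.IsMaximal], Algebra.FormallySmooth A (Localization.AtPrime m)) :
    Module.Projective C Ω[C⁄A] := by
  apply projective_of_localization_maximal_of_fg_ker (P := C ⊗[B] Ω[B⁄A])
    (KaehlerDifferential.mapBaseChange A B C) (mapBaseChange_surjective A B C hsurj)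
    (ker_mapBaseChange_fg hsurj)
  intro m hm
  have hfs := H m
  have e1 := IsLocalizedModule.iso m.primeCompl
    (KaehlerDifferential.map A A C (Localization.AtPrime m))
  have e2 := e1.extendScalarsOfIsLocalization m.primeCompl (Localization.AtPrime m)
  exact Module.Projective.of_equiv e2.symm

theorem subsingleton_h1_of_local
    (H : ∀ (m : Ideal C) [m.IsMaximal], Algebra.FormallySmooth A (Localization.AtPrime m)) :
    Subsingleton (Algebra.H1Cotangent A C) := by
  apply Module.subsingleton_of_localization_maximal
    (fun P _ => Algebra.H1Cotangent A (Localization.AtPrime P))
    (fun P _ => Algebra.H1Cotangent.map A A C (Localization.AtPrime P))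
  intro P _
  have := H P
  infer_instance

end

/-- Let B be a formally smooth A-algebra (discrete topologies) and C = B/J a quotient with J/J² finitely
generated. Then C is formally smooth over A if and only if C_m is formally smooth over A for every
maximal ideal m of C (hence also if and only if every C_p, p prime, is). (Not stated: the variant of
the localised condition with C_m formally smooth over A_q, q the contraction of m to A, and the
further assertion that for B Noetherian the discrete topologies in the localised condition may be
replaced by the adic ones.) -/
theorem result {A B C : Type u} [CommRing A] [CommRing B] [CommRing C]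
    [Algebra A B] [Algebra B C] [Algebra A C] [IsScalarTower A B C] [Algebra.FormallySmooth A B]
    (hsurj : Function.Surjective (algebraMap B C)) [Module.Finite B (RingHom.ker (algebraMap B C)).Cotangent] :
    Algebra.FormallySmooth A C ↔
      ∀ (m : Ideal C) [m.IsMaximal], Algebra.FormallySmooth A (Localization.AtPrime m) := by
  constructor
  · intro h m _
    infer_instance
  · intro H
    rw [Algebra.formallySmooth_iff]
    exact ⟨projective_kaehler_of_local hsurj H, subsingleton_h1_of_local H⟩

end Groth.Agent.S4577
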