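import Groth.Statements.S4576
import Groth.Agent.S4577
import Groth.Agent.Lib.Helper52.LocalProj
import Mathlib.RingTheory.Smooth.Locus
import Mathlib.RingTheory.Etale.Kaehler
import Mathlib.RingTheory.Localization.Finiteness

set_option autoImplicit false
universe u
open EGA41

namespace Groth.Agent.S4576

open TensorProduct KaehlerDifferential Groth.Agent.Lib.Helper52 Algebra

section

variable {A B C : Type u} [CommRing A] [CommRing B] [CommRing C]
    [Algebra A B] [Algebra B C] [Algebra A C] [IsScalarTower A B C]

/-- The extension `B → C`. -/
noncomputable def ext (hsurj : Function.Surjective (algebraMap B C)) : Algebra.Extension.{u} A C :=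
  ⟨B, _, Function.surjInv_eq hsurj⟩

theorem finite_cotangent (hsurj : Function.Surjective (algebraMap B C))
    [Module.Finite B (RingHom.ker (algebraMap B C)).Cotangent] :
    Module.Finite C (ext (A := A) hsurj).Cotangent := by
  let P := ext (A := A) hsurj
  let f : P.Cotangent ≃ₗ[P.Ring] P.ker.Cotangent :=
    { __ := AddEquiv.refl _, map_smul' := Algebra.Extension.Cotangent.val_smul' }
  haveI h0 : Module.Finite P.Ring P.ker.Cotangent :=
    inferInstanceAs (Module.Finite B (RingHom.ker (algebraMap B C)).Cotangent)
  haveI : Module.Finite P.Ring P.Cotangent := Module.Finite.equiv f.symm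
  exact Module.Finite.of_restrictScalars_finite P.Ring C _


theorem finite_localized_h1 [Algebra.FormallySmooth A B]
    (hsurj : Function.Surjective (algebraMap B C))
    [Module.Finite B (RingHom.ker (algebraMap B C)).Cotangent] (S : Submonoid C)
    (hproj : Module.Projective (Localization S) (LocalizedModule S Ω[C⁄A])) :
    Module.Finite (Localization S) (LocalizedModule S (ext (A := A) hsurj).H1Cotangent) := by
  let P := ext (A := A) hsurj
  haveI : Module.Finite C P.Cotangent := finite_cotangent hsurj
  haveI : Module.Projective C P.CotangentSpace :=
    inferInstanceAs (Module.Projective C (C ⊗[B] Ω[B⁄A]))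
  have hsur := LocalizedModule.map_surjective S _ P.toKaehler_surjective
  have hex0 := locMap_exact S _ _ P.exact_cotangentComplex_toKaehler
  have hfg : (LinearMap.ker (LocalizedModule.map S P.cotangentComplex)).FG :=
    ker_fg_of_projective_coker (R := Localization S) (N := LocalizedModule S P.Cotangent)
    (P' := LocalizedModule S P.CotangentSpace) (Ω := LocalizedModule S Ω[C⁄A])
    (LocalizedModule.map S P.cotangentComplex)
    (LocalizedModule.map S P.toKaehler) hsur hex0
  have hinj : Function.Injective (LocalizedModule.map S P.h1Cotangentι) :=
    LocalizedModule.map_injective S _ P.h1Cotangentι_injective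
  have hex := locMap_exact S _ _ P.exact_hCotangentι_cotangentComplex
  have hrange : LinearMap.range (LocalizedModule.map S P.h1Cotangentι) =
      LinearMap.ker (LocalizedModule.map S P.cotangentComplex) := hex.linearMap_ker_eq.symm
  let e := LinearEquiv.ofInjective (LocalizedModule.map S P.h1Cotangentι) hinj
  haveI : Module.Finite (Localization S)
      (LinearMap.range (LocalizedModule.map S P.h1Cotangentι)) := by
    rw [hrange]
    exact Module.Finite.iff_fg.mpr hfg
  exact Module.Finite.equiv e.symm


theorem isOpen_smoothLocus_aux [Algebra.FormallySmooth A B]
    (hsurj : Function.Surjective (algebraMap B C))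
    [Module.Finite B (RingHom.ker (algebraMap B C)).Cotangent] :
    IsOpen (Algebra.smoothLocus A C) := by
  let P := ext (A := A) hsurj
  haveI : Algebra.FormallySmooth A P.Ring := inferInstanceAs (Algebra.FormallySmooth A B)
  obtain ⟨K, _, _, hKfp, -, hloc⟩ := exists_fp_model (P := C ⊗[B] Ω[B⁄A])
    (KaehlerDifferential.mapBaseChange A B C) (mapBaseChange_surjective A B C hsurj)
    (Groth.Agent.S4577.ker_mapBaseChange_fg hsurj)
  rw [isOpen_iff_forall_mem_open]
  intro x hx
  have hxK : x ∈ Module.freeLocus C K := by
    rw [Module.mem_freeLocus]
    have hfs : Algebra.FormallySmooth A (Localization.AtPrime x.asIdeal) := hx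
    have e1 := IsLocalizedModule.iso x.asIdeal.primeCompl
      (KaehlerDifferential.map A A C (Localization.AtPrime x.asIdeal))
    have e2 := e1.extendScalarsOfIsLocalization x.asIdeal.primeCompl
      (Localization.AtPrime x.asIdeal)
    have h1 : Module.Projective (Localization.AtPrime x.asIdeal)
        (LocalizedModule x.asIdeal.primeCompl Ω[C⁄A]) := Module.Projective.of_equiv e2.symm
    have h2 := (hloc x.asIdeal.primeCompl).mp h1
    exact Module.free_of_flat_of_isLocalRing
  obtain ⟨_, ⟨_, ⟨f, rfl⟩, rfl⟩, hxf, hf⟩ :=
    PrimeSpectrum.isBasis_basic_opens.exists_subset_of_mem_open hxK Module.isOpen_freeLocus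
  rw [Module.basicOpen_subset_freeLocus_iff] at hf
  have hΩf : Module.Projective (Localization.Away f) (LocalizedModule (.powers f) Ω[C⁄A]) :=
    (hloc (.powers f)).mpr hf
  have hΩCf : Module.Projective (Localization.Away f) Ω[Localization.Away f⁄A] := by
    have e1 := IsLocalizedModule.iso (.powers f)
      (KaehlerDifferential.map A A C (Localization.Away f))
    have e2 := e1.extendScalarsOfIsLocalization (.powers f) (Localization.Away f)
    exact Module.Projective.of_equiv e2
  have hH1fin : Module.Finite (Localization.Away f) (Algebra.H1Cotangent A (Localization.Away f)) := by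
    have h1 := finite_localized_h1 (A := A) hsurj (.powers f) hΩf
    let e0 : P.H1Cotangent ≃ₗ[C] Algebra.H1Cotangent A C := P.equivH1CotangentOfFormallySmooth
    let g : LocalizedModule (.powers f) P.H1Cotangent →ₗ[Localization.Away f]
        LocalizedModule (.powers f) (Algebra.H1Cotangent A C) :=
      LocalizedModule.map (.powers f) e0.toLinearMap
    have hg : Function.Surjective g := LocalizedModule.map_surjective _ _ e0.surjective
    have e1 := IsLocalizedModule.iso (.powers f)
      (Algebra.H1Cotangent.map A A C (Localization.Away f))
    have e2 := e1.extendScalarsOfIsLocalization (.powers f) (Localization.Away f)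
    exact Module.Finite.of_surjective (e2.toLinearMap ∘ₗ g) (e2.surjective.comp hg)
  have hopen : IsOpen (Algebra.smoothLocus A (Localization.Away f)) := by
    have heq : Algebra.smoothLocus A (Localization.Away f) =
        (Module.support (Localization.Away f) (Algebra.H1Cotangent A (Localization.Away f)))ᶜ := by
      ext q
      simp only [Set.mem_compl_iff, Module.notMem_support_iff]
      refine (Algebra.formallySmooth_iff _ _).trans ?_
      have hpr : Module.Projective (Localization.AtPrime q.asIdeal)
          Ω[Localization.AtPrime q.asIdeal⁄A] := by
        have e1 := IsLocalizedModule.iso q.asIdeal.primeCompl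
          (KaehlerDifferential.map A A (Localization.Away f) (Localization.AtPrime q.asIdeal))
        have e2 := e1.extendScalarsOfIsLocalization q.asIdeal.primeCompl
          (Localization.AtPrime q.asIdeal)
        exact Module.Projective.of_equiv e2
      rw [and_iff_right hpr]
      have := IsLocalizedModule.iso q.asIdeal.primeCompl
        (Algebra.H1Cotangent.map A A (Localization.Away f) (Localization.AtPrime q.asIdeal))
      exact this.subsingleton_congr.symm
    rw [heq, Module.support_eq_zeroLocus]
    exact (PrimeSpectrum.isClosed_zeroLocus _).isOpen_compl
  rw [← Algebra.smoothLocus_comap_of_isLocalization f] at hopen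
  replace hopen := (PrimeSpectrum.localization_away_isOpenEmbedding (Localization.Away f) f).isOpenMap _ hopen
  rw [Set.image_preimage_eq_inter_range, PrimeSpectrum.localization_away_comap_range (Localization.Away f) f] at hopen
  exact ⟨_, Set.inter_subset_left, hopen, hx, hxf⟩

end

/-- Let B be a formally smooth A-algebra (discrete topologies), C = B/J a quotient with J/J² finitely
generated. Then the set of primes p of C with C_p formally smooth over A is open in Spec C. (The
equivalent variant with C_p formally smooth over A_q, q the contraction of p to A, is not stated.) -/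
theorem result {A B C : Type u} [CommRing A] [CommRing B] [CommRing C]
    [Algebra A B] [Algebra B C] [Algebra A C] [IsScalarTower A B C] [Algebra.FormallySmooth A B]
    (hsurj : Function.Surjective (algebraMap B C)) [Module.Finite B (RingHom.ker (algebraMap B C)).Cotangent] :
    IsOpen {p : PrimeSpectrum C | Algebra.FormallySmooth A (Localization.AtPrime p.asIdeal)} :=
  isOpen_smoothLocus_aux hsurj

end Groth.Agent.S4576
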