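import Groth.Statements.S4579
-- import your own Groth.Agent.* helpers here
import Groth.Agent.Lib.Helper49.JacAdic4
import Groth.Agent.Lib.Helper49.GeomRegFS7
import Groth.Agent.S4578

set_option autoImplicit false
universe u
open EGA41

namespace Groth.Agent.S4579

open EGA41
open TensorProduct KaehlerDifferential IsLocalRing Groth.Agent.Lib.Helper49.JacAdic
  Groth.Agent.Lib.Helper49.GeomRegFS

theorem glue {C M N : Type u} [CommRing C] [AddCommGroup M] [Module C M] [AddCommGroup N]
    [Module C N] (d : M →ₗ[C] N)
    (h : ∀ (m : Ideal C) [m.IsMaximal], ∃ f ∈ m.primeCompl, ∃ l : N →ₗ[C] M,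
      l ∘ₗ d = f • LinearMap.id) :
    ∃ l : N →ₗ[C] M, l ∘ₗ d = LinearMap.id := by
  let I : Ideal C :=
    { carrier := {f | ∃ l : N →ₗ[C] M, l ∘ₗ d = f • LinearMap.id}
      add_mem' := by
        rintro f g ⟨l₁, h₁⟩ ⟨l₂, h₂⟩
        exact ⟨l₁ + l₂, by rw [LinearMap.add_comp, h₁, h₂, add_smul]⟩
      zero_mem' := ⟨0, by rw [LinearMap.zero_comp, zero_smul]⟩
      smul_mem' := by
        rintro c f ⟨l, hl⟩
        exact ⟨c • l, by rw [LinearMap.smul_comp, hl, smul_eq_mul, mul_smul]⟩ }
  have hI : I = ⊤ := by
    by_contra hne
    obtain ⟨m, hm, hIm⟩ := Ideal.exists_le_maximal I hne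
    obtain ⟨f, hf, l, hl⟩ := h m
    exact hf (hIm ⟨l, hl⟩)
  have h1 : (1 : C) ∈ I := hI ▸ Submodule.mem_top
  obtain ⟨l, hl⟩ := h1
  exact ⟨l, by rw [hl, one_smul]⟩

/-- Let k₀ be a field, k a separable (formally smooth) extension field of k₀ and C a k-algebra of finite
type. The following are equivalent: C is formally smooth over k₀ (discrete topologies); every C_p, p
prime, is formally smooth over k₀; every C_m, m maximal, is; C is geometrically regular over k₀.
(Geometric regularity is tested on finite extensions of k₀. The published statement quantifies the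
last condition over all extensions k' of k₀; for infinite ones the base change need not be
Noetherian, so it need not be regular in the Noetherian sense, and the printed proof passes through
the local rings as here.) -/
theorem result {k₀ k C : Type u} [Field k₀] [Field k] [Algebra k₀ k]
    [Algebra.FormallySmooth k₀ k] [CommRing C] [Algebra k C] [Algebra k₀ C] [IsScalarTower k₀ k C]
    [Algebra.FiniteType k C] :
    [Algebra.FormallySmooth k₀ C,
     ∀ (p : Ideal C) [p.IsPrime], Algebra.FormallySmooth k₀ (Localization.AtPrime p),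
     ∀ (m : Ideal C) [m.IsMaximal], Algebra.FormallySmooth k₀ (Localization.AtPrime m),
     CAlg.IsGeometricallyRegular k₀ C].TFAE := by
  obtain ⟨n, f₀, hf₀⟩ := Algebra.FiniteType.iff_quotient_mvPolynomial''.mp
    (inferInstance : Algebra.FiniteType k C)
  letI : Algebra (MvPolynomial (Fin n) k) C := f₀.toRingHom.toAlgebra
  have hsurj : Function.Surjective (algebraMap (MvPolynomial (Fin n) k) C) := hf₀
  have htower : IsScalarTower k₀ (MvPolynomial (Fin n) k) C := by
    refine IsScalarTower.of_algebraMap_eq fun x => ?_
    rw [IsScalarTower.algebraMap_apply k₀ k (MvPolynomial (Fin n) k),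
      IsScalarTower.algebraMap_apply k₀ k C]
    exact (f₀.commutes (algebraMap k₀ k x)).symm
  have hfsB : Algebra.FormallySmooth k₀ (MvPolynomial (Fin n) k) :=
    Algebra.FormallySmooth.comp k₀ k _
  have hfin : Module.Finite (MvPolynomial (Fin n) k)
      (RingHom.ker (algebraMap (MvPolynomial (Fin n) k) C)).Cotangent := by
    have h1 : Module.Finite (MvPolynomial (Fin n) k)
        (RingHom.ker (algebraMap (MvPolynomial (Fin n) k) C)) :=
      Module.Finite.of_fg (IsNoetherian.noetherian _)
    exact Module.Finite.of_surjective _ (Ideal.toCotangent_surjective _)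
  have hNC : IsNoetherianRing C := Algebra.FiniteType.isNoetherianRing k C
  tfae_have 1 → 2 := fun h p _ => inferInstance
  tfae_have 2 → 3 := fun h m _ => h m
  tfae_have 3 → 1 := by
    intro h
    have hfsP : Algebra.FormallySmooth k₀ (extOf (A := k₀) hsurj).Ring := hfsB
    rw [(extOf (A := k₀) hsurj).formallySmooth_iff_split_injection]
    refine glue _ fun m _ => ?_
    exact (formallySmooth_localization_iff hsurj m.primeCompl (Localization.AtPrime m)).mp (h m)
  tfae_have 2 → 4 := by
    intro h
    refine isGeometricallyRegular_of_localization fun q _ => ?_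
    exact ((Groth.Agent.S4578.result (k₀ := k₀) (k := k) q).out 0 3).mp (h q)
  tfae_have 4 → 2 := by
    intro h q _
    exact ((Groth.Agent.S4578.result (k₀ := k₀) (k := k) q).out 0 3).mpr
      (isGeometricallyRegular_localization h q)
  tfae_finish

end Groth.Agent.S4579
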