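import Groth.Statements.S4580
-- import your own Groth.Agent.* helpers here
import Groth.Agent.Lib.Helper49.JacZar2

set_option autoImplicit false
universe u
open EGA41

namespace Groth.Agent.S4580

open EGA41
open TensorProduct KaehlerDifferential IsLocalRing Groth.Agent.Lib.Helper49.JacAdic
  Groth.Agent.Lib.Helper49.JacZar

/-- Let k₀ be a field, k a separable (formally smooth) extension field of k₀, B = k[T_1, ..., T_r], J an
ideal of B and q a prime of B containing J, with image p in C = B/J. Then C_p is formally smooth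
over k₀ for the discrete topologies if and only if there exist f_1, ..., f_m ∈ J whose images
generate J B_q and k₀-derivations D_1, ..., D_m of B with det(D_j f_i) ∉ q. -/
theorem result {k₀ k : Type u} [Field k₀] [Field k] [Algebra k₀ k]
    [Algebra.FormallySmooth k₀ k] (r : ℕ) (J q : Ideal (MvPolynomial (Fin r) k)) [q.IsPrime] (hJq : J ≤ q)
    [(q.map (Ideal.Quotient.mk J)).IsPrime] :
    Algebra.FormallySmooth k₀ (Localization.AtPrime (q.map (Ideal.Quotient.mk J))) ↔
      ∃ (m : ℕ) (f : Fin m → MvPolynomial (Fin r) k) (D : Fin m → Derivation k₀ (MvPolynomial (Fin r) k) (MvPolynomial (Fin r) k)),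
        (∀ i, f i ∈ J) ∧
        J.map (algebraMap (MvPolynomial (Fin r) k) (Localization.AtPrime q)) =
          Ideal.span (Set.range fun i => algebraMap (MvPolynomial (Fin r) k) (Localization.AtPrime q) (f i)) ∧
        Matrix.det (Matrix.of fun i j => D j (f i)) ∉ q := by
  have hsurj : Function.Surjective (algebraMap (MvPolynomial (Fin r) k) (MvPolynomial (Fin r) k ⧸ J)) :=
    Ideal.Quotient.mk_surjective
  have hker : RingHom.ker (algebraMap (MvPolynomial (Fin r) k) (MvPolynomial (Fin r) k ⧸ J)) = J := by
    rw [Ideal.Quotient.algebraMap_eq, Ideal.mk_ker]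
  have hq : q = (q.map (Ideal.Quotient.mk J)).comap
      (algebraMap (MvPolynomial (Fin r) k) (MvPolynomial (Fin r) k ⧸ J)) := by
    rw [Ideal.Quotient.algebraMap_eq, Ideal.comap_map_of_surjective _ Ideal.Quotient.mk_surjective,
      ← RingHom.ker_eq_comap_bot, Ideal.mk_ker, sup_eq_left.mpr hJq]
  have hfsB : Algebra.FormallySmooth k₀ (MvPolynomial (Fin r) k) :=
    Algebra.FormallySmooth.comp k₀ k _
  have hfin : Module.Finite (MvPolynomial (Fin r) k)
      (RingHom.ker (algebraMap (MvPolynomial (Fin r) k) (MvPolynomial (Fin r) k ⧸ J))).Cotangent := by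
    have h1 : Module.Finite (MvPolynomial (Fin r) k)
        (RingHom.ker (algebraMap (MvPolynomial (Fin r) k) (MvPolynomial (Fin r) k ⧸ J))) :=
      Module.Finite.of_fg (IsNoetherian.noetherian _)
    exact Module.Finite.of_surjective _ (Ideal.toCotangent_surjective _)
  rw [formallySmooth_atPrime_iff (A := k₀) hsurj (q.map (Ideal.Quotient.mk J)),
    injective_iff_exists (A := k₀) (q.map (Ideal.Quotient.mk J)) q hsurj hq]
  simp only [hker]

end Groth.Agent.S4580
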