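import Groth.Statements.S4581
import Mathlib
import Groth.Agent.S0543
import Groth.Agent.Lib.Helper25.CompleteFinite
import Groth.Agent.Lib.Helper63.RigClosed
import Groth.Agent.Lib.Helper63.ComplRing
import Groth.Agent.Lib.Helper61.CompleteLE
import Groth.Agent.Lib.Helper61.SemilocalFinite

set_option autoImplicit false
universe u
open EGA41

namespace Groth.Agent.S4581

open TensorProduct
open Groth.Agent.Lib.Helper61

section

variable {A₀ A : Type u} [CommRing A₀] [IsNoetherianRing A₀] [Finite (MaximalSpectrum A₀)]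
  [CommRing A] [Algebra A₀ A] [Module.Finite A₀ A]

/-- The multiplication map `Â ⊗[A₀] A → Â`. -/
noncomputable def mulMap :
    (AdicCompletion (Ideal.jacobson (⊥ : Ideal A)) A) ⊗[A₀] A →ₐ[A₀]
      AdicCompletion (Ideal.jacobson (⊥ : Ideal A)) A :=
  Algebra.TensorProduct.lift (AlgHom.id A₀ _)
    (IsScalarTower.toAlgHom A₀ A (AdicCompletion (Ideal.jacobson (⊥ : Ideal A)) A))
    (fun _ _ => Commute.all _ _)

/-- key: a ring-hom section of the multiplication map `Â ⊗[A₀] A → Â` which is `a ↦ 1 ⊗ a`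
on `A`. -/
theorem exists_section :
    ∃ s : AdicCompletion (Ideal.jacobson (⊥ : Ideal A)) A →+*
        (AdicCompletion (Ideal.jacobson (⊥ : Ideal A)) A) ⊗[A₀] A,
      (∀ a : A, s (algebraMap A _ a) = 1 ⊗ₜ a) ∧ (∀ x, mulMap (A₀ := A₀) (s x) = x) := by
  classical
  set I : Ideal A := Ideal.jacobson ⊥ with hI
  haveI : IsNoetherianRing A := IsNoetherianRing.of_finite A₀ A
  have hIfg : I.FG := IsNoetherian.noetherian I
  haveI : IsNoetherianRing (AdicCompletion I A) := Groth.Agent.S0543.result A I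
  let incl : A →+* (AdicCompletion I A) ⊗[A₀] A :=
    (Algebra.TensorProduct.includeRight : A →ₐ[A₀] (AdicCompletion I A) ⊗[A₀] A).toRingHom
  have hincl : ∀ a : A, incl a = 1 ⊗ₜ a := fun a => rfl
  set Ihat : Ideal (AdicCompletion I A) := I.map (algebraMap A (AdicCompletion I A)) with hIhat
  haveI : IsAdicComplete Ihat (AdicCompletion I A) := AdicCompletion.isAdicComplete_self I hIfg
  haveI : IsPrecomplete Ihat ((AdicCompletion I A) ⊗[A₀] A) :=
    Groth.Agent.Lib.Helper25.isPrecomplete_of_finite Ihat _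
  haveI : IsHausdorff Ihat ((AdicCompletion I A) ⊗[A₀] A) :=
    IsHausdorff.of_le_jacobson Ihat _ (IsAdicComplete.le_jacobson_bot Ihat)
  haveI : IsAdicComplete Ihat ((AdicCompletion I A) ⊗[A₀] A) := {}
  set 𝔞 : Ideal ((AdicCompletion I A) ⊗[A₀] A) :=
    Ihat.map (algebraMap (AdicCompletion I A) ((AdicCompletion I A) ⊗[A₀] A)) with h𝔞
  haveI : IsAdicComplete 𝔞 ((AdicCompletion I A) ⊗[A₀] A) :=
    (IsAdicComplete.map_algebraMap_iff (I := Ihat) (S := (AdicCompletion I A) ⊗[A₀] A)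
      (M := (AdicCompletion I A) ⊗[A₀] A)).mpr inferInstance
  set 𝔠 : Ideal ((AdicCompletion I A) ⊗[A₀] A) :=
    (Ideal.jacobson (⊥ : Ideal A₀)).map (algebraMap A₀ ((AdicCompletion I A) ⊗[A₀] A)) with h𝔠
  set 𝔟 : Ideal ((AdicCompletion I A) ⊗[A₀] A) := I.map incl with h𝔟
  have hcomp1 : algebraMap A₀ ((AdicCompletion I A) ⊗[A₀] A) = incl.comp (algebraMap A₀ A) := by
    ext x
    exact ((Algebra.TensorProduct.includeRight :
      A →ₐ[A₀] (AdicCompletion I A) ⊗[A₀] A).commutes x).symm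
  have hcomp2 : algebraMap A₀ ((AdicCompletion I A) ⊗[A₀] A) =
      (algebraMap (AdicCompletion I A) ((AdicCompletion I A) ⊗[A₀] A)).comp
        ((algebraMap A (AdicCompletion I A)).comp (algebraMap A₀ A)) := by
    ext x
    simp [Algebra.TensorProduct.algebraMap_apply, ← IsScalarTower.algebraMap_apply]
  have hle : (Ideal.jacobson (⊥ : Ideal A₀)).map (algebraMap A₀ A) ≤ I :=
    SemilocalFinite.map_jacobson_le
  have h𝔠𝔟 : 𝔠 ≤ 𝔟 := by
    rw [h𝔠, hcomp1, ← Ideal.map_map]
    exact Ideal.map_mono hle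
  have h𝔠𝔞 : 𝔠 ≤ 𝔞 := by
    rw [h𝔠, hcomp2, ← Ideal.map_map, ← Ideal.map_map]
    exact Ideal.map_mono (Ideal.map_mono hle)
  obtain ⟨c, hc⟩ := SemilocalFinite.exists_pow_jacobson_le (A₀ := A₀) (A := A)
  have h𝔟c : 𝔟 ^ c ≤ 𝔠 := by
    rw [h𝔟, ← Ideal.map_pow, h𝔠, hcomp1, ← Ideal.map_map]
    exact Ideal.map_mono hc
  haveI : IsAdicComplete 𝔠 ((AdicCompletion I A) ⊗[A₀] A) :=
    CompleteLE.isAdicComplete_of_le 𝔠 𝔞 h𝔠𝔞
      (Ideal.FG.map (IsNoetherian.noetherian _) _)
  haveI : IsAdicComplete 𝔟 ((AdicCompletion I A) ⊗[A₀] A) :=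
    Groth.Agent.Lib.Helper63.RigClosed.isAdicComplete_of_le_of_pow_le 𝔠 𝔟 h𝔠𝔟 c h𝔟c
  -- the compatible family
  have hpow : ∀ n : ℕ, I ^ n ≤ (𝔟 ^ n).comap incl := by
    intro n
    rw [h𝔟, ← Ideal.map_pow]
    exact Ideal.le_comap_map
  let f : ∀ n : ℕ, AdicCompletion I A →+* ((AdicCompletion I A) ⊗[A₀] A) ⧸ 𝔟 ^ n := fun n =>
    (Ideal.quotientMap (𝔟 ^ n) incl (hpow n)).comp (AdicCompletion.evalₐ I n).toRingHom
  have hfmk : ∀ (n : ℕ) (c : AdicCompletion.AdicCauchySequence I A),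
      f n (AdicCompletion.mk I A c) = Ideal.Quotient.mk (𝔟 ^ n) (incl (c n)) := by
    intro n c
    simp only [f, RingHom.comp_apply, AlgHom.toRingHom_eq_coe, RingHom.coe_coe,
      AdicCompletion.evalₐ_mk, Ideal.quotientMap_mk]
  have hcauchy : ∀ (c : AdicCompletion.AdicCauchySequence I A) {m n : ℕ}, m ≤ n → c n - c m ∈ I ^ m := by
    intro c m n hmn
    have h1 := c.property hmn
    rw [SModEq.sub_mem, smul_eq_mul, Ideal.mul_top] at h1
    have h2 : c n - c m = -(c m - c n) := by ring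
    rw [h2]
    exact Ideal.neg_mem_iff _ |>.mpr h1
  have hf : ∀ {m n : ℕ} (hle : m ≤ n), (Ideal.Quotient.factorPow 𝔟 hle).comp (f n) = f m := by
    intro m n hle
    ext x
    induction x using AdicCompletion.induction_on with
    | h c =>
      rw [RingHom.comp_apply, hfmk, hfmk]
      change Ideal.Quotient.mk (𝔟 ^ m) (incl (c n)) = Ideal.Quotient.mk (𝔟 ^ m) (incl (c m))
      rw [Ideal.Quotient.eq, ← map_sub]
      exact hpow m (hcauchy c hle)
  let s : AdicCompletion I A →+* (AdicCompletion I A) ⊗[A₀] A :=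
    IsAdicComplete.liftRingHom 𝔟 f hf
  have hs : ∀ (n : ℕ) (x : AdicCompletion I A), Ideal.Quotient.mk (𝔟 ^ n) (s x) = f n x :=
    fun n x => IsAdicComplete.mk_liftRingHom 𝔟 f hf n x
  have heval_of : ∀ (n : ℕ) (a : A),
      AdicCompletion.evalₐ I n (algebraMap A (AdicCompletion I A) a) =
        Ideal.Quotient.mk (I ^ n) a := fun n a => (AdicCompletion.evalₐ I n).commutes a
  have hs_of : ∀ a : A, s (algebraMap A (AdicCompletion I A) a) = incl a := by
    intro a
    refine sub_eq_zero.mp (IsHausdorff.haus' (I := 𝔟) _ (fun n => ?_))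
    rw [SModEq.zero, smul_eq_mul, Ideal.mul_top, ← Ideal.Quotient.eq, hs]
    simp only [f, RingHom.comp_apply, AlgHom.toRingHom_eq_coe, RingHom.coe_coe, heval_of,
      Ideal.quotientMap_mk]
  refine ⟨s, fun a => (hs_of a).trans (hincl a), fun x => ?_⟩
  refine AdicCompletion.ext_evalₐ (fun n => ?_)
  obtain ⟨a, ha⟩ := Ideal.Quotient.mk_surjective (AdicCompletion.evalₐ I n x)
  have h1 : s x - incl a ∈ 𝔟 ^ n := by
    rw [← Ideal.Quotient.eq, hs]
    simp only [f, RingHom.comp_apply, AlgHom.toRingHom_eq_coe, RingHom.coe_coe, ← ha,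
      Ideal.quotientMap_mk]
  let g : (AdicCompletion I A) ⊗[A₀] A →+* A ⧸ I ^ n :=
    (AdicCompletion.evalₐ I n).toRingHom.comp (mulMap (A₀ := A₀) (A := A)).toRingHom
  have hg_incl : ∀ b : A, g (incl b) = Ideal.Quotient.mk (I ^ n) b := by
    intro b
    have h2 : mulMap (A₀ := A₀) (A := A) (incl b) = algebraMap A (AdicCompletion I A) b := by
      rw [hincl, mulMap, Algebra.TensorProduct.lift_tmul, map_one, one_mul]
      rfl
    simp only [g, RingHom.comp_apply, AlgHom.toRingHom_eq_coe, RingHom.coe_coe, h2, heval_of]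
  have hg_kill : 𝔟 ^ n ≤ RingHom.ker g := by
    rw [h𝔟, ← Ideal.map_pow, Ideal.map_le_iff_le_comap]
    intro i hi
    rw [Ideal.mem_comap, RingHom.mem_ker, hg_incl]
    exact Ideal.Quotient.eq_zero_iff_mem.mpr hi
  have h3 : g (s x) = g (incl a) := by
    have := hg_kill h1
    rw [RingHom.mem_ker, map_sub, sub_eq_zero] at this
    exact this
  have h4 : g (s x) = AdicCompletion.evalₐ I n (mulMap (A₀ := A₀) (A := A) (s x)) := rfl
  rw [← h4, h3, hg_incl, ha]

theorem main :
    EGA41.IsFormallySmoothRel A₀ A (AdicCompletion (Ideal.jacobson (⊥ : Ideal A)) A) := by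
  intro C _ _ _ _ J hJ u₀ hu
  obtain ⟨u, hu⟩ := hu
  obtain ⟨s, hs1, hs2⟩ := exists_section (A₀ := A₀) (A := A)
  let w : (AdicCompletion (Ideal.jacobson (⊥ : Ideal A)) A) ⊗[A₀] A →ₐ[A₀] C :=
    Algebra.TensorProduct.lift u (IsScalarTower.toAlgHom A₀ A C) (fun _ _ => Commute.all _ _)
  have hu' : ∀ y, Ideal.Quotient.mk J (u y) = u₀ y := fun y => DFunLike.congr_fun hu y
  have hw : ∀ t, Ideal.Quotient.mk J (w t) = u₀ (mulMap (A₀ := A₀) (A := A) t) := by
    intro t
    induction t using TensorProduct.induction_on with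
    | zero => simp
    | tmul y a =>
      have h1 : w (y ⊗ₜ a) = u y * algebraMap A C a := rfl
      have h2 : mulMap (A₀ := A₀) (A := A) (y ⊗ₜ a) = y * algebraMap A _ a := rfl
      rw [h1, h2, map_mul, map_mul, hu', AlgHom.commutes]
      rfl
    | add t₁ t₂ h₁ h₂ => rw [map_add, map_add, map_add, map_add, h₁, h₂]
  refine ⟨{ toRingHom := w.toRingHom.comp s, commutes' := ?_ }, ?_⟩
  · intro a
    change w (s (algebraMap A _ a)) = algebraMap A C a
    rw [hs1]
    change u 1 * algebraMap A C a = algebraMap A C a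
    rw [map_one, one_mul]
  · ext x
    change Ideal.Quotient.mk J (w (s x)) = u₀ x
    rw [hw, hs2]

end

end Groth.Agent.S4581

namespace Groth.Agent.S4581

/-- Let A₀ be a semi-local Noetherian ring, A a module-finite A₀-algebra and Â the completion of A for
the adic topology of its Jacobson radical. For the discrete topologies, Â is a formally smooth
A-algebra relative to A₀. -/
theorem result {A₀ A : Type u} [CommRing A₀]
    [IsNoetherianRing A₀] [Finite (MaximalSpectrum A₀)] [CommRing A] [Algebra A₀ A] [Module.Finite A₀ A] :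
    EGA41.IsFormallySmoothRel A₀ A (AdicCompletion (Ideal.jacobson (⊥ : Ideal A)) A) := by
  exact main

end Groth.Agent.S4581
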