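import Groth.Statements.S4584
import Mathlib.AlgebraicGeometry.Morphisms.FinitePresentation
import Mathlib.AlgebraicGeometry.Morphisms.QuasiSeparated
import Mathlib.AlgebraicGeometry.Limits
import Mathlib.Topology.Constructible

set_option autoImplicit false
universe u
open AlgebraicGeometry CategoryTheory Topology
open EGA41

namespace Groth.Agent.S4584

open CategoryTheory.Limits

/-- The property we prove by induction on the constructible set. -/
def P (X : Scheme.{u}) (Z : Set X) : Prop :=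
  ∃ (X' : Scheme.{u}) (f : X' ⟶ X), IsAffine X' ∧ LocallyOfFinitePresentation f ∧
    Set.range f.base = Z

theorem P_empty (X : Scheme.{u}) : P X ∅ := by
  refine ⟨∅, Scheme.emptyTo X, inferInstance, inferInstance, ?_⟩
  rw [Set.range_eq_empty_iff]
  infer_instance

theorem P_union (X : Scheme.{u}) {Z₁ Z₂ : Set X} (h₁ : P X Z₁) (h₂ : P X Z₂) : P X (Z₁ ∪ Z₂) := by
  obtain ⟨X₁, f₁, hX₁, hf₁, rfl⟩ := h₁
  obtain ⟨X₂, f₂, hX₂, hf₂, rfl⟩ := h₂
  refine ⟨X₁ ⨿ X₂, coprod.desc f₁ f₂, inferInstance, ?_, ?_⟩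
  · rw [IsZariskiLocalAtSource.iff_of_openCover (P := @LocallyOfFinitePresentation)
      (coprodOpenCover.{_, 0} X₁ X₂)]
    rintro (i | i)
    · change LocallyOfFinitePresentation (coprod.inl ≫ coprod.desc f₁ f₂)
      rw [coprod.inl_desc]; exact hf₁
    · change LocallyOfFinitePresentation (coprod.inr ≫ coprod.desc f₁ f₂)
      rw [coprod.inr_desc]; exact hf₂
  · ext x
    constructor
    · rintro ⟨y, rfl⟩
      obtain ⟨(a | b), rfl⟩ := (coprodMk X₁ X₂).surjective y
      · left
        refine ⟨a, ?_⟩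
        rw [coprodMk_inl, ← Scheme.Hom.comp_apply, coprod.inl_desc]
      · right
        refine ⟨b, ?_⟩
        rw [coprodMk_inr, ← Scheme.Hom.comp_apply, coprod.inr_desc]
    · rintro (⟨a, rfl⟩ | ⟨b, rfl⟩)
      · refine ⟨(coprod.inl : X₁ ⟶ X₁ ⨿ X₂) a, ?_⟩
        rw [← Scheme.Hom.comp_apply, coprod.inl_desc]
      · refine ⟨(coprod.inr : X₂ ⟶ X₁ ⨿ X₂) b, ?_⟩
        rw [← Scheme.Hom.comp_apply, coprod.inr_desc]

/-- The affine piece: `U \ V` for an affine open `U` and a compact open `V`. -/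
theorem P_affine_sdiff (X : Scheme.{u}) [QuasiSeparatedSpace X] {U : X.Opens}
    (hU : IsAffineOpen U) (V : Set X) (hVo : IsOpen V) (hVc : IsCompact V) :
    P X ((U : Set X) \ V) := by
  have hemb : IsOpenEmbedding hU.fromSpec := hU.fromSpec.isOpenEmbedding
  have hUV : IsCompact ((U : Set X) ∩ V) :=
    QuasiSeparatedSpace.inter_isCompact _ _ U.2 hU.isCompact hVo hVc
  have hW : IsCompact (hU.fromSpec ⁻¹' V) ∧ IsOpen (hU.fromSpec ⁻¹' V) := by
    refine ⟨?_, hVo.preimage hU.fromSpec.continuous⟩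
    rw [hemb.isInducing.isCompact_iff, Set.image_preimage_eq_inter_range, hU.range_fromSpec,
      Set.inter_comm]
    exact hUV
  obtain ⟨t, ht⟩ := PrimeSpectrum.isCompact_isOpen_iff.mp hW
  let I : Ideal Γ(X, U) := Ideal.span (t : Set Γ(X, U))
  let φ : Γ(X, U) ⟶ CommRingCat.of (Γ(X, U) ⧸ I) := CommRingCat.ofHom (Ideal.Quotient.mk I)
  have hφ : LocallyOfFinitePresentation (Spec.map φ) := by
    rw [HasRingHomProperty.Spec_iff (P := @LocallyOfFinitePresentation)]
    refine RingHom.FinitePresentation.of_surjective _ Ideal.Quotient.mk_surjective ?_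
    change (RingHom.ker (Ideal.Quotient.mk I)).FG
    rw [Ideal.mk_ker]
    exact ⟨t, rfl⟩
  refine ⟨Spec (.of (Γ(X, U) ⧸ I)), Spec.map φ ≫ hU.fromSpec, inferInstance, inferInstance, ?_⟩
  have hr : ∀ z : Spec Γ(X, U), z ∈ Set.range (Spec.map φ) ↔
      z ∈ PrimeSpectrum.zeroLocus (t : Set Γ(X, U)) := by
    intro z
    have := range_comap_of_surjective _ (Ideal.Quotient.mk I) Ideal.Quotient.mk_surjective
    rw [Ideal.mk_ker, PrimeSpectrum.zeroLocus_span] at this
    exact Set.ext_iff.mp this z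
  have hmem : ∀ z : Spec Γ(X, U), hU.fromSpec z ∈ V ↔
      z ∉ PrimeSpectrum.zeroLocus (t : Set Γ(X, U)) := by
    intro z
    exact (Set.ext_iff.mp ht z).symm
  ext x
  constructor
  · rintro ⟨y, rfl⟩
    rw [Scheme.Hom.comp_apply]
    refine ⟨?_, ?_⟩
    · have : hU.fromSpec (Spec.map φ y) ∈ Set.range hU.fromSpec := ⟨_, rfl⟩
      rw [hU.range_fromSpec] at this
      exact this
    · intro h
      exact (hmem _).mp h ((hr _).mp ⟨y, rfl⟩)
  · rintro ⟨hxU, hxV⟩
    have : x ∈ Set.range hU.fromSpec := by rw [hU.range_fromSpec]; exact hxU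
    obtain ⟨z, rfl⟩ := this
    have hz : z ∈ PrimeSpectrum.zeroLocus (t : Set Γ(X, U)) := by
      by_contra hz
      exact hxV ((hmem z).mpr hz)
    obtain ⟨y, rfl⟩ := (hr z).mpr hz
    exact ⟨y, by rw [Scheme.Hom.comp_apply]⟩

/-- Given a scheme X that is quasi-compact and quasi-separated, together with a constructible subset Z
of X, one can find an affine scheme X' with a morphism X' → X of finite presentation whose image
equals Z. -/
theorem result (X : Scheme.{u}) [CompactSpace X]
    [QuasiSeparatedSpace X] (Z : Set X) (hZ : IsConstructible Z) :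
    ∃ (X' : Scheme.{u}) (f : X' ⟶ X), IsAffine X' ∧ LocallyOfFinitePresentation f ∧ QuasiCompact f ∧
      QuasiSeparated f ∧ Set.range f.base = Z := by
  suffices h : P X Z by
    obtain ⟨X', f, hX', hf, hr⟩ := h
    exact ⟨X', f, hX', hf, inferInstance, inferInstance, hr⟩
  induction Z, hZ using BooleanSubalgebra.closure_sdiff_sup_induction with
  | isSublattice =>
    exact ⟨fun s hs t ht ↦ ⟨hs.1.union ht.1, hs.2.union ht.2⟩,
      fun s hs t ht ↦ ⟨hs.1.inter ht.1, hs.2.inter_isOpen ht.2 ht.1⟩⟩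
  | bot_mem => exact ⟨isOpen_empty, .empty⟩
  | top_mem => exact ⟨isOpen_univ, .univ⟩
  | sdiff U hU V hV =>
    have hUc : IsCompact U := by simpa using hU.2 isCompact_univ isOpen_univ
    have hVc : IsCompact V := by simpa using hV.2 isCompact_univ isOpen_univ
    change P X (U \ V)
    have key : ∀ S : X.Opens, IsCompact (S : Set X) → P X ((S : Set X) \ V) := by
      intro S hS
      refine compact_open_induction_on (P := fun S : X.Opens => P X ((S : Set X) \ V)) S hS ?_ ?_
      · simpa using P_empty X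
      · intro S _ W hSP
        have : ((S ⊔ W.1 : X.Opens) : Set X) \ V = ((S : Set X) \ V) ∪ ((W.1 : Set X) \ V) := by
          rw [TopologicalSpace.Opens.coe_sup, Set.union_sdiff_distrib]
        rw [this]
        exact P_union X hSP (P_affine_sdiff X W.2 V hV.1 hVc)
    exact key ⟨U, hU.1⟩ hUc
  | sup s _ t _ hs' ht' => exact P_union X hs' ht'

end Groth.Agent.S4584
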