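import Groth.Statements.S4585
import Groth.Agent.Lib.Helper52.GenericImage
import Mathlib.AlgebraicGeometry.Morphisms.FiniteType

set_option autoImplicit false
universe u
open AlgebraicGeometry CategoryTheory
open EGA41

namespace Groth.Agent.S4585

/-- Let Y be an irreducible scheme with generic point η and f : X → Y locally of finite type with
nonempty fibre over η. Then some open neighbourhood of η is contained in f(X). (The second
assertion, on fibres of a quasi-coherent module of finite type, is not stated.) -/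
theorem result {X Y : Scheme.{u}} (f : X ⟶ Y)
    [LocallyOfFiniteType f] [IrreducibleSpace Y] (h : genericPoint Y ∈ Set.range f.base) :
    genericPoint Y ∈ interior (Set.range f.base) := by
  obtain ⟨x, hx⟩ := h
  have hgen : IsGenericPoint (genericPoint Y) (⊤ : Set Y) := genericPoint_spec Y
  -- an affine open neighbourhood `V` of the generic point
  obtain ⟨V, hV, hηV⟩ : ∃ V : Y.Opens, IsAffineOpen V ∧ genericPoint Y ∈ V := by
    obtain ⟨_, ⟨V, hV : IsAffineOpen V, rfl⟩, hηV, -⟩ :=
      Y.isBasis_affineOpens.exists_subset_of_mem_open (Set.mem_univ (genericPoint Y)) isOpen_univ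
    exact ⟨V, hV, hηV⟩
  -- an affine open neighbourhood `U` of `x` mapping into `V`
  obtain ⟨U, hU, hxU, hUV⟩ : ∃ U : X.Opens, IsAffineOpen U ∧ x ∈ U ∧ U ≤ f ⁻¹ᵁ V := by
    have hxV : x ∈ f ⁻¹ᵁ V := by
      change f.base x ∈ V
      rw [hx]; exact hηV
    obtain ⟨_, ⟨U, hU : IsAffineOpen U, rfl⟩, hxU, hUV⟩ :=
      X.isBasis_affineOpens.exists_subset_of_mem_open hxV (f ⁻¹ᵁ V).2
    exact ⟨U, hU, hxU, hUV⟩
  have hft : (f.appLE V U hUV).hom.FiniteType := LocallyOfFiniteType.finiteType_appLE f hV hU hUV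
  have hsq : Spec.map (f.appLE V U hUV) ≫ hV.fromSpec = hU.fromSpec ≫ f :=
    IsAffineOpen.SpecMap_appLE_fromSpec f hV hU hUV
  -- the point of `Spec Γ(X, U)` corresponding to `x`
  obtain ⟨x', hx'⟩ : ∃ x' : Spec Γ(X, U), hU.fromSpec x' = x := by
    have : x ∈ Set.range hU.fromSpec := by rw [hU.range_fromSpec]; exact hxU
    exact this
  have hη' : hV.fromSpec (Spec.map (f.appLE V U hUV) x') = genericPoint Y := by
    rw [← Scheme.Hom.comp_apply, hsq, Scheme.Hom.comp_apply, hx', hx]
  have hmin : ∀ p : PrimeSpectrum Γ(Y, V),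
      PrimeSpectrum.comap (f.appLE V U hUV).hom x' ≤ p := by
    intro p
    have hind : Topology.IsInducing hV.fromSpec := hV.fromSpec.isOpenEmbedding.isInducing
    have h1 : hV.fromSpec (Spec.map (f.appLE V U hUV) x') ⤳ hV.fromSpec p := by
      rw [hη']; exact hgen.specializes (Set.mem_univ _)
    have h2 : (Spec.map (f.appLE V U hUV) x') ⤳ (p : Spec Γ(Y, V)) :=
      hind.specializes_iff.mp h1
    exact (PrimeSpectrum.le_iff_specializes _ _).mpr h2
  obtain ⟨u, hu, hsub⟩ :=
    Groth.Agent.Lib.Helper52.exists_basicOpen_subset_range_comap_of_finiteType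
      (f.appLE V U hUV).hom hft x' hmin
  rw [mem_interior]
  refine ⟨hV.fromSpec ''ᵁ PrimeSpectrum.basicOpen u, ?_, (hV.fromSpec ''ᵁ _).2, ?_⟩
  · rintro _ ⟨p, hp, rfl⟩
    obtain ⟨q, rfl⟩ := hsub hp
    refine ⟨hU.fromSpec q, ?_⟩
    change (hU.fromSpec ≫ f) q = _
    rw [← hsq]
    rfl
  · exact ⟨_, hu, hη'⟩

end Groth.Agent.S4585
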