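import Groth.Statements.S4586
-- import your own Groth.Agent.* helpers here
import Groth.Agent.Lib.Helper36.ProConsScheme2
import Groth.Agent.S15542
import Groth.Agent.S15543
import Groth.Agent.Lib.Helper8.LocConstr

set_option autoImplicit false
universe u
open AlgebraicGeometry CategoryTheory Topology
open EGA41

namespace Groth.Agent.S4586

/-- Let f : X → Y be surjective and either quasi-compact or locally of finite presentation, E ⊆ Y. Then
E is locally constructible (resp. pro-constructible, resp. ind-constructible) if and only if f⁻¹(E)
is. -/
theorem result {X Y : Scheme.{u}} (f : X ⟶ Y) [Surjective f]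
    (hf : QuasiCompact f ∨ LocallyOfFinitePresentation f) (E : Set Y) :
    (IsLocallyConstructible E ↔ IsLocallyConstructible (f.base ⁻¹' E)) ∧
    (ProCons.IsProConstructible E ↔ ProCons.IsProConstructible (f.base ⁻¹' E)) ∧
    (ProCons.IsIndConstructible E ↔ ProCons.IsIndConstructible (f.base ⁻¹' E)) := by
  open Groth.Agent.Lib.Helper36 in
  have hsurj : Function.Surjective f.base := f.surjective
  have himg : ∀ A : Set Y, f.base '' (f.base ⁻¹' A) = A := fun A =>
    Set.image_preimage_eq A hsurj
  have hpro : ProCons.IsProConstructible (f.base ⁻¹' E) → ProCons.IsProConstructible E := by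
    intro h
    rcases hf with hqc | hlfp
    · rw [← himg E]
      exact scheme_isProConstructible_image f h
    · rw [← isIndConstructible_compl_iff, ← himg Eᶜ]
      apply scheme_isIndConstructible_image f
      rw [Set.preimage_compl]
      exact isIndConstructible_compl h
  have hind : ProCons.IsIndConstructible (f.base ⁻¹' E) → ProCons.IsIndConstructible E := by
    intro h
    rcases hf with hqc | hlfp
    · rw [← isProConstructible_compl_iff, ← himg Eᶜ]
      apply scheme_isProConstructible_image f
      rw [Set.preimage_compl]
      exact isProConstructible_compl h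
    · rw [← himg E]
      exact scheme_isIndConstructible_image f h
  refine ⟨⟨fun h => Groth.Agent.Lib.Helper8.isLocallyConstructible_preimage f h, fun h => ?_⟩,
    ⟨fun h => Groth.Agent.S15542.result f E h, hpro⟩,
    ⟨fun h => Groth.Agent.S15543.result f E h, hind⟩⟩
  rw [scheme_isLocallyConstructible_iff_ind_and_pro] at h ⊢
  exact ⟨hind h.1, hpro h.2⟩

end Groth.Agent.S4586
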