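import Groth.Statements.S4587
import Mathlib.Topology.Sober
import Mathlib.AlgebraicGeometry.Properties

set_option autoImplicit false
universe u
open AlgebraicGeometry CategoryTheory
open EGA41

namespace Groth.Agent.S4587

section top

variable {X Y : Type*} [TopologicalSpace X] [TopologicalSpace Y]

theorem image_val_isClosed_isIrreducible {W : Set X} (hW : IsClosed W) (Z : Set ↥W)
    (hZ : Z ∈ irreducibleComponents ↥W) :
    IsClosed (Subtype.val '' Z) ∧ IsIrreducible (Subtype.val '' Z) := by
  constructor
  · exact hW.isClosedEmbedding_subtypeVal.isClosedMap _ (isClosed_of_mem_irreducibleComponents Z hZ)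
  · exact hZ.1.image _ continuous_subtype_val.continuousOn

theorem forward [QuasiSober X] [QuasiSober Y] (f : X → Y) (hf : Continuous f)
    (hg : GeneralizingMap f) (Y' : Set Y) (hY' : IsClosed Y') (hirr : IsIrreducible Y')
    (Z : Set ↥(f ⁻¹' Y')) (hZ : Z ∈ irreducibleComponents ↥(f ⁻¹' Y')) :
    closure (f '' (Subtype.val '' Z)) = Y' := by
  have hW : IsClosed (f ⁻¹' Y') := hY'.preimage hf
  obtain ⟨hZc, hZi⟩ := image_val_isClosed_isIrreducible hW Z hZ
  apply le_antisymm
  · apply closure_minimal _ hY'
    rintro _ ⟨_, ⟨z, _, rfl⟩, rfl⟩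
    exact z.2
  · obtain ⟨ξ, hξ⟩ := QuasiSober.sober hZi hZc
    obtain ⟨η, hη⟩ := QuasiSober.sober hirr hY'
    have hξW : ξ ∈ f ⁻¹' Y' := by
      have : ξ ∈ Subtype.val '' Z := hξ.mem
      obtain ⟨z, _, rfl⟩ := this
      exact z.2
    have hspec : η ⤳ f ξ := hη.specializes hξW
    obtain ⟨ξ', hξ', hfξ'⟩ := hg hspec
    have hξ'W : ξ' ∈ f ⁻¹' Y' := by
      show f ξ' ∈ Y'
      rw [hfξ']
      exact hη.mem
    let T : Set ↥(f ⁻¹' Y') := closure {⟨ξ', hξ'W⟩}
    have hT : IsIrreducible T := isIrreducible_singleton.closure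
    have hZT : Z ≤ T := by
      intro z hz
      show z ∈ closure {(⟨ξ', hξ'W⟩ : ↥(f ⁻¹' Y'))}
      rw [closure_subtype]
      simp only [Set.image_singleton]
      have h1 : (z : X) ∈ closure {ξ} := by
        rw [hξ.def]
        exact ⟨z, hz, rfl⟩
      have h2 : closure {ξ} ⊆ closure {ξ'} := by
        apply closure_minimal _ isClosed_closure
        rw [Set.singleton_subset_iff]
        exact hξ'.mem_closure
      exact h2 h1
    have hTZ : T ≤ Z := hZ.2 hT hZT
    have hmem : (⟨ξ', hξ'W⟩ : ↥(f ⁻¹' Y')) ∈ Z := hTZ (subset_closure (Set.mem_singleton _))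
    have hη' : η ∈ f '' (Subtype.val '' Z) := ⟨ξ', ⟨_, hmem, rfl⟩, hfξ'⟩
    have hsub : closure {η} ⊆ closure (f '' (Subtype.val '' Z)) := by
      apply closure_minimal _ isClosed_closure
      intro a ha
      rw [Set.mem_singleton_iff] at ha
      rw [ha]
      exact subset_closure hη'
    exact hη.def.symm.le.trans hsub

theorem backward [QuasiSober X] [T0Space Y] (f : X → Y) (hf : Continuous f)
    (h : ∀ Y' : Set Y, IsClosed Y' → IsIrreducible Y' →
        ∀ Z ∈ irreducibleComponents ↥(f ⁻¹' Y'), closure (f '' (Subtype.val '' Z)) = Y') :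
    GeneralizingMap f := by
  intro x y hy
  have hY' : IsClosed (closure {y}) := isClosed_closure
  have hirr : IsIrreducible (closure ({y} : Set Y)) := isIrreducible_singleton.closure
  have hxW : x ∈ f ⁻¹' (closure {y}) := hy.mem_closure
  have hW : IsClosed (f ⁻¹' (closure {y})) := hY'.preimage hf
  let x' : ↥(f ⁻¹' (closure {y})) := ⟨x, hxW⟩
  have hZ := irreducibleComponent_mem_irreducibleComponents x'
  have hx'Z : x' ∈ irreducibleComponent x' := mem_irreducibleComponent
  have hcl := h _ hY' hirr _ hZ
  obtain ⟨hZc, hZi⟩ := image_val_isClosed_isIrreducible hW _ hZ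
  obtain ⟨ξ, hξ⟩ := QuasiSober.sober hZi hZc
  refine ⟨ξ, ?_, ?_⟩
  · apply hξ.specializes
    exact ⟨x', hx'Z, rfl⟩
  · have hξW : f ξ ∈ closure {y} := by
      have : ξ ∈ Subtype.val '' (irreducibleComponent x') := hξ.mem
      obtain ⟨z, _, rfl⟩ := this
      exact z.2
    have h1 : IsGenericPoint (f ξ) (closure {y}) := by
      rw [isGenericPoint_def]
      apply le_antisymm
      · apply closure_minimal _ isClosed_closure
        rw [Set.singleton_subset_iff]
        exact hξW
      · rw [← hcl, ← hξ.def]
        apply closure_minimal _ isClosed_closure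
        have := image_closure_subset_closure_image (s := {ξ}) hf
        rwa [Set.image_singleton] at this
    exact h1.eq isGenericPoint_closure

end top

/-- A morphism of schemes f : X → Y is generizing if and only if, for every irreducible closed subset Y'
of Y, each irreducible component of f⁻¹(Y') has dense image in Y'. -/
theorem result {X Y : Scheme.{u}} (f : X ⟶ Y) :
    GeneralizingMap f.base ↔
      ∀ Y' : Set Y, IsClosed Y' → IsIrreducible Y' →
        ∀ Z ∈ irreducibleComponents ↥(f.base ⁻¹' Y'), closure (f.base '' (Subtype.val '' Z)) = Y' := by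
  constructor
  · intro hg Y' hY' hirr Z hZ
    exact forward f.base f.base.hom.continuous hg Y' hY' hirr Z hZ
  · intro h
    exact backward f.base f.base.hom.continuous h

end Groth.Agent.S4587
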