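import Groth.Statements.S4588
import Mathlib
import Groth.Agent.Lib.Helper77.RegularLocalization
import Groth.Agent.Lib.Helper73.DimFT.Basic

set_option autoImplicit false
universe u
open IsLocalRing
open EGA41

namespace Groth.Agent.S4588

set_option linter.unusedSectionVars false


variable {A : Type u} [CommRing A] {r : ℕ} (d : Fin r → ℕ) (c : Fin r → ℕ → A)

noncomputable def Fp (i : Fin r) : MvPolynomial (Fin r) A :=
  MvPolynomial.X i ^ d i + (Finset.range (d i)).sum fun k => MvPolynomial.C (c i k) * MvPolynomial.X i ^ k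

noncomputable def poly (i : Fin r) : Polynomial A :=
  Polynomial.X ^ d i + (Finset.range (d i)).sum fun k => Polynomial.C (c i k) * Polynomial.X ^ k

theorem poly_monic (i : Fin r) : (poly d c i).Monic := by
  unfold poly
  apply Polynomial.monic_X_pow_add
  rw [Finset.sum_range]
  exact Polynomial.degree_sum_fin_lt _

theorem poly_natDegree [Nontrivial A] (i : Fin r) : (poly d c i).natDegree = d i := by
  unfold poly
  rw [Polynomial.natDegree_add_eq_left_of_degree_lt, Polynomial.natDegree_X_pow]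
  rw [Polynomial.degree_X_pow, Finset.sum_range]
  exact Polynomial.degree_sum_fin_lt _

theorem eval₂_Fp {B : Type*} [CommRing B] (g : A →+* B) (t : Fin r → B) (i : Fin r) :
    MvPolynomial.eval₂ g t (Fp d c i) = Polynomial.eval₂ g (t i) (poly d c i) := by
  simp [Fp, poly, Polynomial.eval₂_finsetSum]

abbrev Q := MvPolynomial (Fin r) A ⧸ Ideal.span (Set.range (Fp d c))

theorem mk_Fp (i : Fin r) : Ideal.Quotient.mk (Ideal.span (Set.range (Fp d c))) (Fp d c i) = 0 :=
  Ideal.Quotient.eq_zero_iff_mem.mpr (Ideal.subset_span ⟨i, rfl⟩)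

theorem isIntegral_X (i : Fin r) :
    IsIntegral A (Ideal.Quotient.mk (Ideal.span (Set.range (Fp d c))) (MvPolynomial.X i)) := by
  refine ⟨poly d c i, poly_monic d c i, ?_⟩
  have h := eval₂_Fp d c (algebraMap A (Q d c))
    (fun j => Ideal.Quotient.mk (Ideal.span (Set.range (Fp d c))) (MvPolynomial.X j)) i
  rw [← h]
  have h2 : MvPolynomial.eval₂ (algebraMap A (Q d c))
      (fun j => Ideal.Quotient.mk (Ideal.span (Set.range (Fp d c))) (MvPolynomial.X j)) (Fp d c i)
      = Ideal.Quotient.mk (Ideal.span (Set.range (Fp d c))) (Fp d c i) := by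
    have : (MvPolynomial.eval₂Hom (algebraMap A (Q d c))
      (fun j => Ideal.Quotient.mk (Ideal.span (Set.range (Fp d c))) (MvPolynomial.X j)))
        = Ideal.Quotient.mk (Ideal.span (Set.range (Fp d c))) := by
      apply MvPolynomial.ringHom_ext
      · intro a; simp; rfl
      · intro j; simp
    exact congrArg (fun f => f (Fp d c i)) this
  rw [h2, mk_Fp]

instance isIntegral_Q : Algebra.IsIntegral A (Q d c) := by
  constructor
  intro x
  obtain ⟨P, rfl⟩ := Ideal.Quotient.mk_surjective x
  induction P using MvPolynomial.induction_on with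
  | C a => exact isIntegral_algebraMap
  | add p q hp hq => rw [map_add]; exact hp.add hq
  | mul_X p i hp => rw [map_mul]; exact hp.mul (isIntegral_X d c i)


section lying
variable {d c}

theorem ker_le_prime (hd : ∀ i, 1 ≤ d i) (p : Ideal A) [p.IsPrime] :
    RingHom.ker (algebraMap A (Q d c)) ≤ p := by
  classical
  have hp : p.IsPrime := inferInstance
  have : Nontrivial A := ⟨⟨0, 1, fun h => hp.ne_top ((Ideal.eq_top_iff_one p).mpr (h ▸ p.zero_mem))⟩⟩
  let κ := p.ResidueField
  let L := AlgebraicClosure κ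
  let g : A →+* L := (algebraMap κ L).comp (algebraMap A κ)
  have hroot : ∀ i, ∃ t : L, Polynomial.eval₂ g t (poly d c i) = 0 := by
    intro i
    have hm : ((poly d c i).map g).Monic := (poly_monic d c i).map g
    have hdeg : ((poly d c i).map g).degree ≠ 0 := by
      rw [Polynomial.degree_eq_natDegree hm.ne_zero, (poly_monic d c i).natDegree_map,
        poly_natDegree]
      have := hd i
      exact_mod_cast (by omega : d i ≠ 0)
    obtain ⟨t, ht⟩ := IsAlgClosed.exists_root _ hdeg
    exact ⟨t, by rwa [Polynomial.IsRoot, Polynomial.eval_map] at ht⟩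
  choose t ht using hroot
  have hker : ∀ x ∈ Ideal.span (Set.range (Fp d c)), MvPolynomial.eval₂Hom g t x = 0 := by
    intro x hx
    refine Submodule.span_induction ?_ ?_ ?_ ?_ hx
    · rintro _ ⟨i, rfl⟩
      rw [MvPolynomial.coe_eval₂Hom, eval₂_Fp, ht]
    · simp
    · intro x y _ _ hx hy; rw [map_add, hx, hy, add_zero]
    · intro a x _ hx; rw [smul_eq_mul, map_mul, hx, mul_zero]
  let φ : Q d c →+* L := Ideal.Quotient.lift _ (MvPolynomial.eval₂Hom g t) hker
  intro a ha
  rw [RingHom.mem_ker] at ha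
  have h1 : φ (algebraMap A (Q d c) a) = g a := by
    change φ (Ideal.Quotient.mk _ (MvPolynomial.C a)) = g a
    simp [φ]
  rw [ha, map_zero] at h1
  have h2 : algebraMap A κ a = 0 := by
    have : algebraMap κ L (algebraMap A κ a) = 0 := h1.symm
    exact (map_eq_zero_iff _ (algebraMap κ L).injective).mp this
  rwa [← RingHom.mem_ker, Ideal.ker_algebraMap_residueField] at h2

theorem ringKrullDim_eq_of_ker_le {R S : Type*} [CommRing R] [CommRing S]
    [Algebra R S] [Algebra.IsIntegral R S]
    (hker : ∀ (p : Ideal R) [p.IsPrime], RingHom.ker (algebraMap R S) ≤ p) :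
    ringKrullDim S = ringKrullDim R := by
  apply le_antisymm
  · refine Order.krullDim_le_of_strictMono (PrimeSpectrum.comap (algebraMap R S)) ?_
    intro P Q hPQ
    exact Ideal.IsIntegral.comap_lt_comap (R := R) (I := P.asIdeal) (J := Q.asIdeal) hPQ
  · unfold ringKrullDim Order.krullDim
    refine iSup_le fun l => ?_
    have hker' : (⊥ : Ideal S).comap (algebraMap R S) ≤ (RelSeries.head l).asIdeal := by
      rw [← RingHom.ker_eq_comap_bot]
      exact hker _
    obtain ⟨P, -, hP, hPc⟩ := Ideal.exists_ideal_over_prime_of_isIntegral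
      (RelSeries.head l).asIdeal (⊥ : Ideal S) hker'
    have : P.IsPrime := hP
    have : P.LiesOver (RelSeries.head l).asIdeal := ⟨hPc.symm⟩
    obtain ⟨L, hlen, -, -⟩ := Ideal.exists_ltSeries_of_hasGoingUp l P
    rw [← hlen]
    exact Order.LTSeries.length_le_krullDim L

theorem ringKrullDim_Q (hd : ∀ i, 1 ≤ d i) : ringKrullDim (Q d c) = ringKrullDim A :=
  ringKrullDim_eq_of_ker_le (fun p _ => ker_le_prime hd p)

end lying

section loc
variable [IsLocalRing A] {d c}

noncomputable def epsT : MvPolynomial (Fin r) A →+* ResidueField A :=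
  (residue A).comp MvPolynomial.constantCoeff

theorem epsT_Fp (hd : ∀ i, 1 ≤ d i) (hc : ∀ i k, c i k ∈ maximalIdeal A) (i : Fin r) :
    epsT (Fp d c i) = 0 := by
  have h0 : d i ≠ 0 := by have := hd i; omega
  have hck : ∀ k, residue A (c i k) = 0 := fun k => (residue_eq_zero_iff _).mpr (hc i k)
  simp [epsT, Fp, h0, hck]

theorem epsT_ker (hd : ∀ i, 1 ≤ d i) (hc : ∀ i k, c i k ∈ maximalIdeal A) :
    ∀ x ∈ Ideal.span (Set.range (Fp d c)), epsT x = 0 := by
  intro x hx
  refine Submodule.span_induction ?_ ?_ ?_ ?_ hx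
  · rintro _ ⟨i, rfl⟩
    exact epsT_Fp hd hc i
  · simp
  · intro x y _ _ hx hy; rw [map_add, hx, hy, add_zero]
  · intro a x _ hx; rw [smul_eq_mul, map_mul, hx, mul_zero]

noncomputable def eps (hd : ∀ i, 1 ≤ d i) (hc : ∀ i k, c i k ∈ maximalIdeal A) :
    Q d c →+* ResidueField A :=
  Ideal.Quotient.lift _ epsT (epsT_ker hd hc)

theorem eps_mk (hd : ∀ i, 1 ≤ d i) (hc : ∀ i k, c i k ∈ maximalIdeal A)
    (P : MvPolynomial (Fin r) A) :
    eps hd hc (Ideal.Quotient.mk _ P) = residue A (MvPolynomial.constantCoeff P) := rfl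

theorem eps_algebraMap (hd : ∀ i, 1 ≤ d i) (hc : ∀ i k, c i k ∈ maximalIdeal A) (a : A) :
    eps hd hc (algebraMap A (Q d c) a) = residue A a := by
  change eps hd hc (Ideal.Quotient.mk _ (MvPolynomial.C a)) = _
  rw [eps_mk, MvPolynomial.constantCoeff_C]

theorem eps_surjective (hd : ∀ i, 1 ≤ d i) (hc : ∀ i k, c i k ∈ maximalIdeal A) :
    Function.Surjective (eps hd hc) := by
  intro x
  obtain ⟨a, rfl⟩ := residue_surjective x
  exact ⟨algebraMap A (Q d c) a, eps_algebraMap hd hc a⟩

theorem sub_C_mem (P : MvPolynomial (Fin r) A) :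
    P - MvPolynomial.C (MvPolynomial.constantCoeff P) ∈ MvPolynomial.idealOfVars (Fin r) A := by
  have := (MvPolynomial.mem_pow_idealOfVars_iff' (σ := Fin r) (R := A) 1
    (P - MvPolynomial.C (MvPolynomial.constantCoeff P))).mpr ?_
  · simpa using this
  · intro x hx
    have hx0 : x = 0 := by
      have : x.degree = 0 := by omega
      exact (Finsupp.degree_eq_zero_iff x).mp this
    subst hx0
    simp [MvPolynomial.constantCoeff_eq]

theorem ker_eps_eq (hd : ∀ i, 1 ≤ d i) (hc : ∀ i k, c i k ∈ maximalIdeal A) :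
    RingHom.ker (eps hd hc) = Ideal.map (algebraMap A (Q d c)) (maximalIdeal A) ⊔
      Ideal.span (Set.range fun i : Fin r => (Ideal.Quotient.mk (Ideal.span (Set.range (Fp d c)))
        (MvPolynomial.X i))) := by
  apply le_antisymm
  · intro x hx
    obtain ⟨P, rfl⟩ := Ideal.Quotient.mk_surjective x
    rw [RingHom.mem_ker, eps_mk, residue_eq_zero_iff] at hx
    have hP : P = MvPolynomial.C (MvPolynomial.constantCoeff P) +
        (P - MvPolynomial.C (MvPolynomial.constantCoeff P)) := by ring
    rw [hP, map_add]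
    refine Ideal.add_mem _ (Ideal.mem_sup_left ?_) (Ideal.mem_sup_right ?_)
    · exact Ideal.mem_map_of_mem _ hx
    · have h1 := Ideal.mem_map_of_mem (Ideal.Quotient.mk (Ideal.span (Set.range (Fp d c))))
        (sub_C_mem P)
      rw [MvPolynomial.idealOfVars, Ideal.map_span, ← Set.range_comp] at h1
      exact h1
  · refine sup_le ?_ ?_
    · rw [Ideal.map_le_iff_le_comap]
      intro a ha
      rw [Ideal.mem_comap, RingHom.mem_ker, eps_algebraMap, residue_eq_zero_iff]
      exact ha
    · rw [Ideal.span_le]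
      rintro _ ⟨i, rfl⟩
      simp [eps_mk]

theorem X_mem_of_prime (hc : ∀ i k, c i k ∈ maximalIdeal A) (M : Ideal (Q d c)) [M.IsPrime]
    (hM : Ideal.map (algebraMap A (Q d c)) (maximalIdeal A) ≤ M) (i : Fin r) :
    Ideal.Quotient.mk (Ideal.span (Set.range (Fp d c))) (MvPolynomial.X i) ∈ M := by
  have h := mk_Fp d c i
  have hF : Fp d c i = MvPolynomial.X i ^ d i +
      (Finset.range (d i)).sum fun k => MvPolynomial.C (c i k) * MvPolynomial.X i ^ k := rfl
  rw [hF, map_add, map_pow, map_sum] at h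
  have h2 := eq_neg_of_add_eq_zero_left h
  have hmem : (Ideal.Quotient.mk (Ideal.span (Set.range (Fp d c))) (MvPolynomial.X i)) ^ d i ∈ M := by
    rw [h2]
    refine neg_mem (sum_mem fun k _ => ?_)
    rw [map_mul]
    refine M.mul_mem_right _ (hM ?_)
    exact Ideal.mem_map_of_mem (algebraMap A (Q d c)) (hc i k)
  exact Ideal.IsPrime.mem_of_pow_mem inferInstance _ hmem

theorem ker_eps_le (hd : ∀ i, 1 ≤ d i) (hc : ∀ i k, c i k ∈ maximalIdeal A)
    (M : Ideal (Q d c)) [M.IsPrime]
    (hM : Ideal.map (algebraMap A (Q d c)) (maximalIdeal A) ≤ M) :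
    RingHom.ker (eps hd hc) ≤ M := by
  rw [ker_eps_eq]
  refine sup_le hM ?_
  rw [Ideal.span_le]
  rintro _ ⟨i, rfl⟩
  exact X_mem_of_prime hc M hM i

theorem ker_eps_isMaximal (hd : ∀ i, 1 ≤ d i) (hc : ∀ i k, c i k ∈ maximalIdeal A) :
    (RingHom.ker (eps hd hc)).IsMaximal :=
  RingHom.ker_isMaximal_of_surjective _ (eps_surjective hd hc)

theorem eq_ker_eps (hd : ∀ i, 1 ≤ d i) (hc : ∀ i k, c i k ∈ maximalIdeal A)
    (M : Ideal (Q d c)) [hM : M.IsMaximal] : M = RingHom.ker (eps hd hc) := by
  have hcm : (M.comap (algebraMap A (Q d c))).IsMaximal :=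
    Ideal.isMaximal_comap_of_isIntegral_of_isMaximal M
  have heq := IsLocalRing.eq_maximalIdeal hcm
  have hle : RingHom.ker (eps hd hc) ≤ M :=
    ker_eps_le hd hc M (by rw [Ideal.map_le_iff_le_comap, heq])
  exact ((ker_eps_isMaximal hd hc).eq_of_le hM.ne_top hle).symm

theorem isLocalRing_Q (hd : ∀ i, 1 ≤ d i) (hc : ∀ i k, c i k ∈ maximalIdeal A) :
    IsLocalRing (Q d c) :=
  IsLocalRing.of_unique_max_ideal ⟨RingHom.ker (eps hd hc), ker_eps_isMaximal hd hc,
    fun M hM => eq_ker_eps hd hc M⟩

theorem surj_residue (hd : ∀ i, 1 ≤ d i) (hc : ∀ i k, c i k ∈ maximalIdeal A)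
    (M : Ideal (Q d c)) [M.IsMaximal] :
    Function.Surjective ((Ideal.Quotient.mk M).comp (algebraMap A (Q d c))) := by
  intro y
  obtain ⟨x, rfl⟩ := Ideal.Quotient.mk_surjective y
  obtain ⟨a, ha⟩ := residue_surjective (eps hd hc x)
  refine ⟨a, ?_⟩
  rw [RingHom.comp_apply, Ideal.Quotient.eq, eq_ker_eps hd hc M, RingHom.mem_ker, map_sub,
    eps_algebraMap, ha, sub_self]

end loc

section fwd
variable [IsLocalRing A] {d c}

noncomputable def delta (i : Fin r) (P : MvPolynomial (Fin r) A) : A :=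
  MvPolynomial.constantCoeff (MvPolynomial.pderiv i P)

theorem delta_add (i : Fin r) (P Q : MvPolynomial (Fin r) A) :
    delta i (P + Q) = delta i P + delta i Q := by
  simp [delta]

theorem delta_mul (i : Fin r) (P Q : MvPolynomial (Fin r) A) :
    delta i (P * Q) = MvPolynomial.constantCoeff P * delta i Q +
      MvPolynomial.constantCoeff Q * delta i P := by
  simp [delta, Derivation.leibniz]

theorem delta_C (i : Fin r) (a : A) : delta i (MvPolynomial.C a) = 0 := by
  simp [delta]

theorem delta_X (i j : Fin r) : delta i (MvPolynomial.X j : MvPolynomial (Fin r) A) =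
    if j = i then 1 else 0 := by
  simp [delta, MvPolynomial.pderiv_X, Pi.single_apply]

noncomputable abbrev cbar (hc : ∀ i k, c i k ∈ maximalIdeal A) : Fin r → CotangentSpace A :=
  fun i => (maximalIdeal A).toCotangent ⟨c i 0, hc i 0⟩

noncomputable abbrev Wsub (hc : ∀ i k, c i k ∈ maximalIdeal A) :
    Submodule (ResidueField A) (CotangentSpace A) :=
  Submodule.span _ (Set.range (cbar hc))

abbrev U (hc : ∀ i k, c i k ∈ maximalIdeal A) :=
  (CotangentSpace A ⧸ Wsub hc) × (Fin r → ResidueField A)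

open Classical in
noncomputable def PsiT (hc : ∀ i k, c i k ∈ maximalIdeal A) (P : MvPolynomial (Fin r) A) : U hc :=
  if h : MvPolynomial.constantCoeff P ∈ maximalIdeal A then
    ((Wsub hc).mkQ ((maximalIdeal A).toCotangent ⟨MvPolynomial.constantCoeff P, h⟩),
      fun i => residue A (delta i P))
  else 0

theorem PsiT_eq (hc : ∀ i k, c i k ∈ maximalIdeal A) (P : MvPolynomial (Fin r) A)
    (h : MvPolynomial.constantCoeff P ∈ maximalIdeal A) :
    PsiT hc P = ((Wsub hc).mkQ ((maximalIdeal A).toCotangent ⟨MvPolynomial.constantCoeff P, h⟩),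
      fun i => residue A (delta i P)) := by
  rw [PsiT, dif_pos h]

theorem PsiT_add (hc : ∀ i k, c i k ∈ maximalIdeal A) (P Q : MvPolynomial (Fin r) A)
    (hP : MvPolynomial.constantCoeff P ∈ maximalIdeal A)
    (hQ : MvPolynomial.constantCoeff Q ∈ maximalIdeal A) :
    PsiT hc (P + Q) = PsiT hc P + PsiT hc Q := by
  have hPQ : MvPolynomial.constantCoeff (P + Q) ∈ maximalIdeal A := by
    rw [map_add]; exact Ideal.add_mem _ hP hQ
  rw [PsiT_eq hc _ hPQ, PsiT_eq hc _ hP, PsiT_eq hc _ hQ]
  refine Prod.ext ?_ ?_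
  · have : (⟨MvPolynomial.constantCoeff (P + Q), hPQ⟩ : maximalIdeal A) =
        ⟨MvPolynomial.constantCoeff P, hP⟩ + ⟨MvPolynomial.constantCoeff Q, hQ⟩ :=
      Subtype.ext (map_add _ _ _)
    change (Wsub hc).mkQ ((maximalIdeal A).toCotangent ⟨MvPolynomial.constantCoeff (P + Q), hPQ⟩) =
      (Wsub hc).mkQ ((maximalIdeal A).toCotangent ⟨MvPolynomial.constantCoeff P, hP⟩) +
      (Wsub hc).mkQ ((maximalIdeal A).toCotangent ⟨MvPolynomial.constantCoeff Q, hQ⟩)
    rw [this, map_add, map_add]
  · funext i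
    simp [delta_add]

theorem PsiT_mul (hc : ∀ i k, c i k ∈ maximalIdeal A) (a P : MvPolynomial (Fin r) A)
    (hP : MvPolynomial.constantCoeff P ∈ maximalIdeal A) :
    PsiT hc (a * P) = residue A (MvPolynomial.constantCoeff a) • PsiT hc P := by
  have haP : MvPolynomial.constantCoeff (a * P) ∈ maximalIdeal A := by
    rw [map_mul]; exact Ideal.mul_mem_left _ _ hP
  rw [PsiT_eq hc _ haP, PsiT_eq hc _ hP]
  refine Prod.ext ?_ ?_
  · have : (⟨MvPolynomial.constantCoeff (a * P), haP⟩ : maximalIdeal A) =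
        MvPolynomial.constantCoeff a • ⟨MvPolynomial.constantCoeff P, hP⟩ :=
      Subtype.ext (by simp)
    change (Wsub hc).mkQ ((maximalIdeal A).toCotangent ⟨MvPolynomial.constantCoeff (a * P), haP⟩) =
      residue A (MvPolynomial.constantCoeff a) •
        (Wsub hc).mkQ ((maximalIdeal A).toCotangent ⟨MvPolynomial.constantCoeff P, hP⟩)
    rw [this, map_smul]
    have h2 : ∀ v : CotangentSpace A, MvPolynomial.constantCoeff a • v =
        residue A (MvPolynomial.constantCoeff a) • v := by
      intro v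
      rw [← ResidueField.algebraMap_eq, algebraMap_smul]
    rw [h2, map_smul]
  · funext i
    have h0 : residue A (MvPolynomial.constantCoeff P) = 0 := (residue_eq_zero_iff _).mpr hP
    simp [delta_mul, h0]

theorem delta_sum {ι : Type*} (s : Finset ι) (i : Fin r) (f : ι → MvPolynomial (Fin r) A) :
    delta i (∑ k ∈ s, f k) = ∑ k ∈ s, delta i (f k) := by
  simp [delta, map_sum]

theorem constantCoeff_Fp (hd : ∀ i, 2 ≤ d i) (i : Fin r) :
    MvPolynomial.constantCoeff (Fp d c i) = c i 0 := by
  have h0 : d i ≠ 0 := by have := hd i; omega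
  have hmem : 0 ∈ Finset.range (d i) := Finset.mem_range.mpr (by omega)
  simp only [Fp, map_add, map_pow, MvPolynomial.constantCoeff_X, map_sum, map_mul,
    MvPolynomial.constantCoeff_C, zero_pow h0, zero_add]
  rw [Finset.sum_eq_single_of_mem 0 hmem (fun k _ hk => by simp [hk])]
  simp

theorem residue_delta_Fp (hd : ∀ i, 2 ≤ d i) (hc : ∀ i k, c i k ∈ maximalIdeal A) (i j : Fin r) :
    residue A (delta j (Fp d c i)) = 0 := by
  obtain ⟨e, he⟩ : ∃ e, d i = e + 2 := ⟨d i - 2, by have := hd i; omega⟩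
  have hck : ∀ k, residue A (c i k) = 0 := fun k => (residue_eq_zero_iff _).mpr (hc i k)
  have h1 : delta j ((MvPolynomial.X i : MvPolynomial (Fin r) A) ^ d i) = 0 := by
    rw [he, pow_succ', delta_mul]
    simp
  rw [Fp, delta_add, h1, zero_add, delta_sum, map_sum]
  refine Finset.sum_eq_zero fun k _ => ?_
  rw [delta_mul, delta_C, mul_zero, add_zero, MvPolynomial.constantCoeff_C, map_mul, hck, zero_mul]

theorem PsiT_Fp (hd : ∀ i, 2 ≤ d i) (hc : ∀ i k, c i k ∈ maximalIdeal A) (i : Fin r) :
    PsiT hc (Fp d c i) = 0 := by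
  have hconst := constantCoeff_Fp (c := c) hd i
  have hmem : MvPolynomial.constantCoeff (Fp d c i) ∈ maximalIdeal A := by
    rw [hconst]; exact hc i 0
  rw [PsiT_eq hc _ hmem]
  refine Prod.ext ?_ ?_
  · have : (⟨MvPolynomial.constantCoeff (Fp d c i), hmem⟩ : maximalIdeal A) = ⟨c i 0, hc i 0⟩ :=
      Subtype.ext hconst
    change (Wsub hc).mkQ ((maximalIdeal A).toCotangent
      ⟨MvPolynomial.constantCoeff (Fp d c i), hmem⟩) = 0
    rw [this, Submodule.mkQ_apply, Submodule.Quotient.mk_eq_zero]
    exact Submodule.subset_span ⟨i, rfl⟩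
  · funext j
    exact residue_delta_Fp hd hc i j

theorem PsiT_surj (hc : ∀ i k, c i k ∈ maximalIdeal A) (u : U hc) :
    ∃ P : MvPolynomial (Fin r) A, MvPolynomial.constantCoeff P ∈ maximalIdeal A ∧
      PsiT hc P = u := by
  obtain ⟨q, f⟩ := u
  obtain ⟨v, rfl⟩ := Submodule.mkQ_surjective _ q
  obtain ⟨⟨x, hx⟩, rfl⟩ := Ideal.toCotangent_surjective _ v
  choose a ha using fun i => residue_surjective (f i)
  let P : MvPolynomial (Fin r) A :=
    MvPolynomial.C x + ∑ j, MvPolynomial.C (a j) * MvPolynomial.X j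
  have hconst : MvPolynomial.constantCoeff P = x := by
    simp [P]
  have hmem : MvPolynomial.constantCoeff P ∈ maximalIdeal A := by rw [hconst]; exact hx
  refine ⟨P, hmem, ?_⟩
  rw [PsiT_eq hc _ hmem]
  refine Prod.ext ?_ ?_
  · have : (⟨MvPolynomial.constantCoeff P, hmem⟩ : maximalIdeal A) = ⟨x, hx⟩ := Subtype.ext hconst
    change (Wsub hc).mkQ ((maximalIdeal A).toCotangent ⟨MvPolynomial.constantCoeff P, hmem⟩) = _
    rw [this]
  · funext i
    change residue A (delta i P) = f i
    rw [← ha i]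
    congr 1
    simp only [P, delta_add, delta_C, zero_add, delta_sum, delta_mul, MvPolynomial.constantCoeff_C,
      delta_X, MvPolynomial.constantCoeff_X, add_zero, mul_ite, mul_one, mul_zero]
    simp

end fwd

section count
variable [IsLocalRing A] [IsNoetherianRing A] {d c}

theorem PsiT_zero (hc : ∀ i k, c i k ∈ maximalIdeal A) : PsiT hc (0 : MvPolynomial (Fin r) A) = 0 := by
  have := PsiT_mul hc 0 0 (by simp)
  simpa using this

theorem finrank_U_le (hd : ∀ i, 2 ≤ d i) (hc : ∀ i k, c i k ∈ maximalIdeal A)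
    (S : Finset (MvPolynomial (Fin r) A))
    (hS : ∀ P ∈ S, MvPolynomial.constantCoeff P ∈ maximalIdeal A)
    (hgen : Ideal.comap MvPolynomial.constantCoeff (maximalIdeal A) ≤
      Ideal.span (S : Set (MvPolynomial (Fin r) A)) ⊔ Ideal.span (Set.range (Fp d c))) :
    Module.finrank (ResidueField A) (U hc) ≤ S.card := by
  classical
  let Z : Submodule (ResidueField A) (U hc) :=
    Submodule.span _ ((S.image (PsiT hc) : Finset (U hc)) : Set (U hc))
  have key : ∀ P ∈ Ideal.span ((S : Set (MvPolynomial (Fin r) A)) ∪ Set.range (Fp d c)),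
      MvPolynomial.constantCoeff P ∈ maximalIdeal A ∧ PsiT hc P ∈ Z := by
    intro P hP
    refine Submodule.span_induction ?_ ?_ ?_ ?_ hP
    · rintro x (hx | ⟨i, rfl⟩)
      · refine ⟨hS x hx, Submodule.subset_span ?_⟩
        rw [Finset.coe_image]
        exact ⟨x, hx, rfl⟩
      · refine ⟨?_, ?_⟩
        · rw [constantCoeff_Fp hd]; exact hc i 0
        · rw [PsiT_Fp hd hc]; exact Z.zero_mem
    · exact ⟨by simp, by rw [PsiT_zero]; exact Z.zero_mem⟩
    · rintro x y _ _ ⟨hx1, hx2⟩ ⟨hy1, hy2⟩
      refine ⟨by rw [map_add]; exact Ideal.add_mem _ hx1 hy1, ?_⟩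
      rw [PsiT_add hc x y hx1 hy1]
      exact Z.add_mem hx2 hy2
    · rintro a x _ ⟨hx1, hx2⟩
      refine ⟨by rw [smul_eq_mul, map_mul]; exact Ideal.mul_mem_left _ _ hx1, ?_⟩
      rw [smul_eq_mul, PsiT_mul hc a x hx1]
      exact Z.smul_mem _ hx2
  have htop : Z = ⊤ := by
    rw [eq_top_iff]
    intro u _
    obtain ⟨P, hP, rfl⟩ := PsiT_surj hc u
    have h1 : P ∈ Ideal.span ((S : Set (MvPolynomial (Fin r) A)) ∪ Set.range (Fp d c)) := by
      rw [Ideal.span_union]
      exact hgen hP
    exact (key P h1).2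
  calc Module.finrank (ResidueField A) (U hc)
      = Module.finrank (ResidueField A) (⊤ : Submodule (ResidueField A) (U hc)) := finrank_top _ _ |>.symm
    _ = Module.finrank (ResidueField A) Z := by rw [htop]
    _ ≤ (S.image (PsiT hc)).card := finrank_span_finset_le_card _
    _ ≤ S.card := Finset.card_image_le

end count


section final
variable [IsRegularLocalRing A] {d c}

theorem li_of_regular (hd : ∀ i, 2 ≤ d i) (hc : ∀ i k, c i k ∈ maximalIdeal A)
    (hreg : IsRegularLocalRing (Q d c)) :
    LinearIndependent (ResidueField A) (cbar hc) := by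
  classical
  have hd1 : ∀ i, 1 ≤ d i := fun i => le_trans (by norm_num) (hd i)
  have hloc : IsLocalRing (Q d c) := hreg.toIsLocalRing
  have hmax : maximalIdeal (Q d c) = RingHom.ker (eps hd1 hc) := eq_ker_eps hd1 hc _
  have hdimQ := ringKrullDim_Q (d := d) (c := c) hd1
  have h1 : ((maximalIdeal (Q d c)).spanFinrank : WithBot ℕ∞) = ringKrullDim (Q d c) :=
    hreg.spanFinrank_maximalIdeal
  have h2 : (Module.finrank (ResidueField A) (CotangentSpace A) : WithBot ℕ∞) = ringKrullDim A :=
    (IsRegularLocalRing.iff_finrank_cotangentSpace A).mp inferInstance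
  have hn : (maximalIdeal (Q d c)).spanFinrank =
      Module.finrank (ResidueField A) (CotangentSpace A) := by
    have : ((maximalIdeal (Q d c)).spanFinrank : WithBot ℕ∞) =
        (Module.finrank (ResidueField A) (CotangentSpace A) : WithBot ℕ∞) := by
      rw [h1, hdimQ, h2]
    exact_mod_cast this
  obtain ⟨s, hscard, hsspan⟩ := Submodule.FG.exists_span_finset_card_eq_spanFinrank
    (IsNoetherian.noetherian (maximalIdeal (Q d c)))
  let ℓ : Q d c → MvPolynomial (Fin r) A := Function.surjInv Ideal.Quotient.mk_surjective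
  have hℓ : ∀ g, Ideal.Quotient.mk _ (ℓ g) = g := Function.surjInv_eq Ideal.Quotient.mk_surjective
  let S : Finset (MvPolynomial (Fin r) A) := s.image ℓ
  have hS : ∀ P ∈ S, MvPolynomial.constantCoeff P ∈ maximalIdeal A := by
    intro P hP
    obtain ⟨g, hg, rfl⟩ := Finset.mem_image.mp hP
    have hgm : g ∈ maximalIdeal (Q d c) := by
      rw [← hsspan]; exact Submodule.subset_span hg
    rw [hmax, RingHom.mem_ker, ← hℓ g, eps_mk, residue_eq_zero_iff] at hgm
    exact hgm
  have hgen : Ideal.comap MvPolynomial.constantCoeff (maximalIdeal A) ≤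
      Ideal.span (S : Set (MvPolynomial (Fin r) A)) ⊔ Ideal.span (Set.range (Fp d c)) := by
    intro P hP
    rw [Ideal.mem_comap] at hP
    have h3 : Ideal.Quotient.mk (Ideal.span (Set.range (Fp d c))) P ∈ maximalIdeal (Q d c) := by
      rw [hmax, RingHom.mem_ker, eps_mk, residue_eq_zero_iff]; exact hP
    have h4 : maximalIdeal (Q d c) = Ideal.map (Ideal.Quotient.mk (Ideal.span (Set.range (Fp d c))))
        (Ideal.span (S : Set (MvPolynomial (Fin r) A))) := by
      rw [Ideal.map_span, ← hsspan]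
      congr 1
      ext g
      simp only [S, Finset.coe_image, Set.mem_image, Finset.mem_coe]
      constructor
      · intro hg
        exact ⟨ℓ g, ⟨g, hg, rfl⟩, hℓ g⟩
      · rintro ⟨_, ⟨g', hg', rfl⟩, rfl⟩
        rwa [hℓ]
    rw [h4, ← Ideal.mem_comap, Ideal.comap_map_of_surjective _ Ideal.Quotient.mk_surjective,
      ← RingHom.ker_eq_comap_bot, Ideal.mk_ker] at h3
    exact h3
  have hfin := finrank_U_le hd hc S hS hgen
  have hScard : S.card ≤ Module.finrank (ResidueField A) (CotangentSpace A) := by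
    rw [← hn, ← hscard]; exact Finset.card_image_le
  have hU : Module.finrank (ResidueField A) (U hc) =
      Module.finrank (ResidueField A) (CotangentSpace A ⧸ Wsub hc) + r := by
    rw [Module.finrank_prod, Module.finrank_fin_fun]
  have hq := Submodule.finrank_quotient_add_finrank (Wsub hc)
  have hW : Module.finrank (ResidueField A) (Wsub hc) ≤ r := by
    have := finrank_range_le_card (R := ResidueField A) (cbar hc)
    rw [Fintype.card_fin] at this
    exact this
  rw [linearIndependent_iff_card_eq_finrank_span, Fintype.card_fin]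
  change r = Module.finrank (ResidueField A) (Wsub hc)
  omega

theorem c0_mem_span_X (hd1 : ∀ i, 1 ≤ d i) (i : Fin r) :
    algebraMap A (Q d c) (c i 0) ∈ Ideal.span
      {Ideal.Quotient.mk (Ideal.span (Set.range (Fp d c))) (MvPolynomial.X i)} := by
  obtain ⟨e, he⟩ : ∃ e, d i = e + 1 := ⟨d i - 1, by have := hd1 i; omega⟩
  have h := mk_Fp d c i
  have hF : Fp d c i = MvPolynomial.X i ^ d i +
      (Finset.range (d i)).sum fun k => MvPolynomial.C (c i k) * MvPolynomial.X i ^ k := rfl
  rw [hF, he, Finset.sum_range_succ', map_add, map_add, map_pow, map_sum] at h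
  simp only [map_mul, map_pow, pow_zero, mul_one] at h
  rw [Ideal.mem_span_singleton']
  refine ⟨-(Ideal.Quotient.mk (Ideal.span (Set.range (Fp d c))) (MvPolynomial.X i) ^ e +
    ∑ k ∈ Finset.range e, Ideal.Quotient.mk (Ideal.span (Set.range (Fp d c)))
      (MvPolynomial.C (c i (k + 1))) *
      Ideal.Quotient.mk (Ideal.span (Set.range (Fp d c))) (MvPolynomial.X i) ^ k), ?_⟩
  have hsum : (∑ k ∈ Finset.range e, Ideal.Quotient.mk (Ideal.span (Set.range (Fp d c)))
      (MvPolynomial.C (c i (k + 1))) *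
      Ideal.Quotient.mk (Ideal.span (Set.range (Fp d c))) (MvPolynomial.X i) ^ k) *
      Ideal.Quotient.mk (Ideal.span (Set.range (Fp d c))) (MvPolynomial.X i) =
      ∑ k ∈ Finset.range e, Ideal.Quotient.mk (Ideal.span (Set.range (Fp d c)))
      (MvPolynomial.C (c i (k + 1))) *
      Ideal.Quotient.mk (Ideal.span (Set.range (Fp d c))) (MvPolynomial.X i) ^ (k + 1) := by
    rw [Finset.sum_mul]
    exact Finset.sum_congr rfl (fun k _ => by ring)
  change _ = Ideal.Quotient.mk (Ideal.span (Set.range (Fp d c))) (MvPolynomial.C (c i 0))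
  linear_combination (-1 : Q d c) * h - hsum

theorem regular_of_li (hd : ∀ i, 2 ≤ d i) (hc : ∀ i k, c i k ∈ maximalIdeal A)
    (hli : LinearIndependent (ResidueField A) (cbar hc)) :
    IsRegularLocalRing (Q d c) := by
  classical
  have hd1 : ∀ i, 1 ≤ d i := fun i => le_trans (by norm_num) (hd i)
  have hloc : IsLocalRing (Q d c) := isLocalRing_Q hd1 hc
  have hmax : maximalIdeal (Q d c) = RingHom.ker (eps hd1 hc) := eq_ker_eps hd1 hc _
  apply IsRegularLocalRing.of_spanFinrank_maximalIdeal_le
  rw [ringKrullDim_Q hd1, ← (IsRegularLocalRing.iff_finrank_cotangentSpace A).mp inferInstance]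
  suffices hsuff : (maximalIdeal (Q d c)).spanFinrank ≤
      Module.finrank (ResidueField A) (CotangentSpace A) by exact_mod_cast hsuff
  let s : Set (CotangentSpace A) := Set.range (cbar hc)
  have hs : LinearIndepOn (ResidueField A) id s := hli.linearIndepOn_id
  let b : Set (CotangentSpace A) := hs.extend (Set.subset_univ s)
  let B : Module.Basis b (ResidueField A) (CotangentSpace A) := Module.Basis.extend hs
  have hsb : s ⊆ b := hs.subset_extend _
  have hbfin : b.Finite := by
    have : Finite b := Module.Finite.finite_basis B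
    exact Set.toFinite b
  have hbcard : b.ncard = Module.finrank (ResidueField A) (CotangentSpace A) := by
    rw [Module.finrank_eq_nat_card_basis B, Nat.card_coe_set_eq]
  have hsfin : s.Finite := Set.finite_range _
  have hscard : s.ncard = r := by
    rw [Set.ncard_eq_toFinset_card s hsfin]
    simp [s, Set.toFinite_toFinset, Finset.card_image_of_injective _ hli.injective]
  let σ : CotangentSpace A → maximalIdeal A := Function.surjInv (Ideal.toCotangent_surjective _)
  have hσ : ∀ v, (maximalIdeal A).toCotangent (σ v) = v :=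
    Function.surjInv_eq (Ideal.toCotangent_surjective _)
  let T : Fin r → Q d c := fun i => Ideal.Quotient.mk (Ideal.span (Set.range (Fp d c))) (MvPolynomial.X i)
  let G' : Set (Q d c) := (fun v => algebraMap A (Q d c) (σ v : A)) '' (b \ s) ∪ Set.range T
  have hG'fin : G'.Finite := ((hbfin.sdiff).image _).union (Set.finite_range _)
  have hTcard : (Set.range T).ncard ≤ r := by
    have := Set.ncard_image_le (f := T) (Set.finite_univ (α := Fin r))
    rw [Set.image_univ] at this
    simpa using this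
  have hG'card : G'.ncard ≤ Module.finrank (ResidueField A) (CotangentSpace A) := by
    have h1 : G'.ncard ≤ ((fun v => algebraMap A (Q d c) (σ v : A)) '' (b \ s)).ncard +
        (Set.range T).ncard := Set.ncard_union_le _ _
    have h2 := Set.ncard_image_le (f := fun v => algebraMap A (Q d c) (σ v : A)) (hbfin.sdiff (t := s))
    have h3 := Set.ncard_sdiff hsb hsfin
    have h4 := Set.ncard_le_ncard hsb hbfin
    omega
  have hG : Submodule.span A (Set.range (fun i : Fin r => (⟨c i 0, hc i 0⟩ : maximalIdeal A)) ∪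
      σ '' (b \ s)) = ⊤ := by
    rw [← CotangentSpace.span_image_eq_top_iff, eq_top_iff, ← B.span_eq]
    refine Submodule.span_le.mpr ?_
    rintro _ ⟨⟨v, hv⟩, rfl⟩
    have hBv : B ⟨v, hv⟩ = v := Module.Basis.extend_apply_self hs ⟨v, hv⟩
    rw [hBv]
    apply Submodule.subset_span
    by_cases hvs : v ∈ s
    · obtain ⟨i, rfl⟩ := hvs
      exact ⟨⟨c i 0, hc i 0⟩, Or.inl ⟨i, rfl⟩, rfl⟩
    · exact ⟨σ v, Or.inr ⟨v, ⟨hv, hvs⟩, rfl⟩, hσ v⟩
  have hspan : maximalIdeal (Q d c) = Ideal.span G' := by
    rw [hmax, ker_eps_eq]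
    apply le_antisymm
    · refine sup_le ?_ (Ideal.span_mono Set.subset_union_right)
      rw [Ideal.map_le_iff_le_comap]
      intro x hx
      rw [Ideal.mem_comap]
      have hx' : (⟨x, hx⟩ : maximalIdeal A) ∈ Submodule.span A
          (Set.range (fun i : Fin r => (⟨c i 0, hc i 0⟩ : maximalIdeal A)) ∪ σ '' (b \ s)) := by
        rw [hG]; trivial
      have key : ∀ y ∈ Submodule.span A
          (Set.range (fun i : Fin r => (⟨c i 0, hc i 0⟩ : maximalIdeal A)) ∪ σ '' (b \ s)),
          algebraMap A (Q d c) (y : A) ∈ Ideal.span G' := by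
        intro y hy
        refine Submodule.span_induction ?_ ?_ ?_ ?_ hy
        · rintro _ (⟨i, rfl⟩ | ⟨v, hv, rfl⟩)
          · refine Ideal.span_mono ?_ (c0_mem_span_X hd1 i)
            rintro _ rfl
            exact Or.inr ⟨i, rfl⟩
          · exact Ideal.subset_span (Or.inl ⟨v, hv, rfl⟩)
        · simp
        · intro y z _ _ hy hz
          rw [Submodule.coe_add, map_add]
          exact Ideal.add_mem _ hy hz
        · intro a y _ hy
          rw [Submodule.coe_smul, smul_eq_mul, map_mul]
          exact Ideal.mul_mem_left _ _ hy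
      exact key _ hx'
    · rw [Ideal.span_le]
      rintro _ (⟨v, _, rfl⟩ | ⟨i, rfl⟩)
      · exact Ideal.mem_sup_left (Ideal.mem_map_of_mem _ (σ v).2)
      · exact Ideal.mem_sup_right (Ideal.subset_span ⟨i, rfl⟩)
  rw [hspan]
  exact (Submodule.spanFinrank_span_le_ncard_of_finite hG'fin).trans hG'card

theorem main (hd : ∀ i, 2 ≤ d i) (hc : ∀ i k, c i k ∈ maximalIdeal A) :
    IsLocalRing (Q d c) ∧
    (∀ (M : Ideal (Q d c)) [M.IsMaximal],
      Function.Surjective ((Ideal.Quotient.mk M).comp (algebraMap A (Q d c)))) ∧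
    (IsRegularRing (Q d c) ↔ LinearIndependent (ResidueField A) (cbar hc)) := by
  have hd1 : ∀ i, 1 ≤ d i := fun i => le_trans (by norm_num) (hd i)
  refine ⟨isLocalRing_Q hd1 hc, fun M _ => surj_residue hd1 hc M, ?_, ?_⟩
  · intro h
    have hloc : IsLocalRing (Q d c) := isLocalRing_Q hd1 hc
    exact li_of_regular hd hc (IsRegularLocalRing.of_isRegularRing_of_isLocalRing (Q d c))
  · intro hli
    have := regular_of_li hd hc hli
    exact Groth.Agent.Lib.Helper77.RegularLocalization.isRegularRing_of_isRegularLocalRing (Q d c)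

end final

/-- Let A be a regular local ring with maximal ideal m and residue field K, and F_i(T_i) = T_i^{d_i} +
Σ_{k<d_i} c_{ik} T_i^k (1 ≤ i ≤ r) monic one-variable polynomials of degrees d_i ≥ 2 with all
non-leading coefficients in m; put A' = A[T_1, …, T_r]/(F_1, …, F_r). Then (i) A' is local with
residue field K, and (ii) A' is regular if and only if the classes in m/m² of the constant terms
c_{i0} are linearly independent over K. -/
theorem result {A : Type u} [CommRing A]
    [IsRegularLocalRing A] {r : ℕ} (d : Fin r → ℕ) (hd : ∀ i, 2 ≤ d i) (c : Fin r → ℕ → A)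
    (hc : ∀ i k, c i k ∈ maximalIdeal A) :
    let F : Fin r → MvPolynomial (Fin r) A := fun i =>
      MvPolynomial.X i ^ d i + (Finset.range (d i)).sum fun k => MvPolynomial.C (c i k) * MvPolynomial.X i ^ k
    IsLocalRing (MvPolynomial (Fin r) A ⧸ Ideal.span (Set.range F)) ∧
    (∀ (M : Ideal (MvPolynomial (Fin r) A ⧸ Ideal.span (Set.range F))) [M.IsMaximal],
      Function.Surjective ((Ideal.Quotient.mk M).comp (algebraMap A _))) ∧
    (IsRegularRing (MvPolynomial (Fin r) A ⧸ Ideal.span (Set.range F)) ↔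
      LinearIndependent (ResidueField A) (fun i => (maximalIdeal A).toCotangent ⟨c i 0, hc i 0⟩)) := by
  intro F
  exact main (d := d) (c := c) hd hc

end Groth.Agent.S4588
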