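import Groth.Statements.S4590
import Mathlib.RingTheory.Flat.FaithfullyFlat.Algebra
import Mathlib.RingTheory.Polynomial.ScaleRoots
import Mathlib.RingTheory.Flat.Basic

set_option autoImplicit false
universe u
open CAlg

namespace Groth.Agent.S4590

open Polynomial

section

variable {A B : Type u} [CommRing A] [IsDomain A] [CommRing B] [Algebra A B] [Module.FaithfullyFlat A B]

theorem algebraMap_inj : Function.Injective (algebraMap A B) :=
  FaithfulSMul.algebraMap_injective A B

theorem part1 : Function.Injective (algebraMap A (B ⧸ nilradical B)) := by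
  rw [injective_iff_map_eq_zero]
  intro a ha
  rw [← Ideal.Quotient.mk_algebraMap, Ideal.Quotient.eq_zero_iff_mem, mem_nilradical] at ha
  obtain ⟨k, hk⟩ := ha
  rw [← map_pow] at hk
  have : a ^ k = 0 := algebraMap_inj (B := B) (by rw [hk, map_zero])
  exact pow_eq_zero_iff (fun h => by simp [h] at this) |>.mp this

theorem part2 (a : A) (ha : a ≠ 0) :
    algebraMap A (B ⧸ nilradical B) a ∈ nonZeroDivisors (B ⧸ nilradical B) := by
  rw [mem_nonZeroDivisors_iff_right]
  intro c hc
  obtain ⟨b, rfl⟩ := Ideal.Quotient.mk_surjective c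
  rw [← Ideal.Quotient.mk_algebraMap, ← map_mul, Ideal.Quotient.eq_zero_iff_mem, mem_nilradical] at hc
  obtain ⟨k, hk⟩ := hc
  rw [mul_pow, ← map_pow] at hk
  have hreg : IsSMulRegular A (a ^ k) :=
    (IsRegular.of_ne_zero (pow_ne_zero k ha)).isSMulRegular
  have hreg' : IsSMulRegular B (algebraMap A B (a ^ k)) := hreg.of_flat
  have : b ^ k = 0 := by
    apply hreg'
    simp only [smul_eq_mul, mul_zero]
    rw [mul_comm]
    exact hk
  rw [Ideal.Quotient.eq_zero_iff_mem, mem_nilradical]
  exact ⟨k, this⟩


def idealN (a s : A) (N : ℕ) : Ideal A :=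
  Ideal.span (Set.range fun j : Fin N => s ^ (N - (j : ℕ)) * a ^ (j : ℕ))

omit [IsDomain A] [Module.FaithfullyFlat A B] in
theorem step4 (a s : A) (Q : B[X]) (hQ : Q.Monic)
    (h : eval (algebraMap A B a) (scaleRoots Q (algebraMap A B s)) = 0) :
    algebraMap A B a ^ Q.natDegree ∈ Ideal.map (algebraMap A B) (idealN a s Q.natDegree) := by
  rw [eval_eq_sum_range, natDegree_scaleRoots, Finset.sum_range_succ, coeff_scaleRoots,
    Nat.sub_self, pow_zero, mul_one, hQ.coeff_natDegree, one_mul] at h
  rw [eq_neg_of_add_eq_zero_right h]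
  apply neg_mem
  apply sum_mem
  intro i hi
  rw [Finset.mem_range] at hi
  rw [coeff_scaleRoots, mul_assoc, ← map_pow, ← map_pow, ← map_mul]
  apply Ideal.mul_mem_left
  apply Ideal.mem_map_of_mem
  exact Ideal.subset_span ⟨⟨i, hi⟩, rfl⟩

omit [CommRing B] [Algebra A B] [Module.FaithfullyFlat A B] in
theorem step6 (a s : A) (hs : s ≠ 0) (N : ℕ) (h : a ^ N ∈ idealN a s N) :
    IsIntegral A (algebraMap A (FractionRing A) a / algebraMap A (FractionRing A) s) := by
  obtain ⟨c, hc⟩ := (Ideal.mem_span_range_iff_exists_fun).mp h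
  have hs' : algebraMap A (FractionRing A) s ≠ 0 := by
    rwa [Ne, map_eq_zero_iff _ (IsFractionRing.injective A (FractionRing A))]
  set a' := algebraMap A (FractionRing A) a
  set s' := algebraMap A (FractionRing A) s
  refine ⟨X ^ N - ∑ j : Fin N, C (c j) * X ^ (j : ℕ), monic_X_pow_sub (degree_sum_fin_lt c), ?_⟩
  have hsN : s' ^ N ≠ 0 := pow_ne_zero N hs'
  apply mul_left_cancel₀ hsN
  rw [mul_zero, eval₂_sub, eval₂_X_pow, eval₂_finsetSum, mul_sub, ← mul_pow, mul_div_cancel₀ _ hs',
    Finset.mul_sum]
  have : a' ^ N = ∑ j : Fin N, algebraMap A (FractionRing A) (c j) * (s' ^ (N - (j : ℕ)) * a' ^ (j : ℕ)) := by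
    rw [← map_pow, ← hc, map_sum]
    simp [a', s']
  rw [this, sub_eq_zero]
  apply Finset.sum_congr rfl
  intro j _
  rw [eval₂_mul, eval₂_C, eval₂_X_pow, div_pow]
  have hj : (j : ℕ) ≤ N := j.2.le
  have : s' ^ N = s' ^ (N - (j : ℕ)) * s' ^ (j : ℕ) := by rw [← pow_add, Nat.sub_add_cancel hj]
  rw [this]
  field_simp

theorem part3 (R : Type u) [CommRing R] [Algebra (B ⧸ nilradical B) R] [IsFractionRing (B ⧸ nilradical B) R]
    [Algebra A R] [IsScalarTower A (B ⧸ nilradical B) R] [Algebra (FractionRing A) R]
    [IsScalarTower A (FractionRing A) R] (x : FractionRing A)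
    (h : IsIntegral (B ⧸ nilradical B) (algebraMap (FractionRing A) R x)) : IsIntegral A x := by
  have hBnt : Nontrivial B := (algebraMap_inj (A := A) (B := B)).nontrivial
  obtain ⟨a, s, hs, rfl⟩ := IsFractionRing.div_surjective (A := A) x
  have hs0 : s ≠ 0 := nonZeroDivisors.ne_zero hs
  obtain ⟨p, hp_monic, hp_eval⟩ := h
  have hlift : p ∈ lifts (Ideal.Quotient.mk (nilradical B)) :=
    (mem_lifts p).mpr (map_surjective _ Ideal.Quotient.mk_surjective p)
  obtain ⟨P, hPmap, hPdeg, hPmonic⟩ := lifts_and_natDegree_eq_and_monic hlift hp_monic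
  set φa := algebraMap A B a
  set φs := algebraMap A B s
  set e := eval φa (scaleRoots P φs) with he
  let f : B →+* R := (algebraMap (B ⧸ nilradical B) R).comp (Ideal.Quotient.mk (nilradical B))
  have hf : ∀ r : A, f (algebraMap A B r) = algebraMap A R r := by
    intro r
    simp only [f, RingHom.comp_apply]
    rw [Ideal.Quotient.mk_algebraMap, ← IsScalarTower.algebraMap_apply]
  have hfe : f e = 0 := by
    rw [he, ← eval₂_at_apply]
    have hxa : f φa = f φs * algebraMap (FractionRing A) R
        (algebraMap A (FractionRing A) a / algebraMap A (FractionRing A) s) := by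
      rw [hf, hf, IsScalarTower.algebraMap_apply A (FractionRing A) R s, ← map_mul,
        mul_div_cancel₀, ← IsScalarTower.algebraMap_apply]
      rwa [Ne, map_eq_zero_iff _ (IsFractionRing.injective A (FractionRing A))]
    rw [hxa, scaleRoots_eval₂_mul]
    have : eval₂ f (algebraMap (FractionRing A) R
        (algebraMap A (FractionRing A) a / algebraMap A (FractionRing A) s)) P = 0 := by
      rw [← hp_eval, ← hPmap, eval₂_map]
    rw [this, mul_zero]
  have hπe : Ideal.Quotient.mk (nilradical B) e = 0 := by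
    apply IsFractionRing.injective (B ⧸ nilradical B) R
    rw [map_zero]
    exact hfe
  rw [Ideal.Quotient.eq_zero_iff_mem, mem_nilradical] at hπe
  obtain ⟨m, hm⟩ := hπe
  have hQ : (P ^ m).Monic := hPmonic.pow m
  have hsc : scaleRoots (P ^ m) φs = scaleRoots P φs ^ m := by
    apply pow_scaleRoots'
    rw [hPmonic.leadingCoeff, one_pow]
    exact one_ne_zero
  have h4 := step4 a s (P ^ m) hQ (by rw [hsc, eval_pow, ← he, hm])
  rw [← map_pow, ← Ideal.mem_comap, Ideal.comap_map_eq_self_of_faithfullyFlat] at h4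
  exact step6 a s hs0 _ h4

end

/-- Let A be a domain with fraction field K, B a faithfully flat A-algebra, C = B_red and R the total
ring of fractions of C. Then A → C is injective with nonzero elements going to non-zero-divisors, so
that K embeds in R, and an element of K is integral over C in R if and only if it is integral over
A. -/
theorem result {A B : Type u} [CommRing A] [IsDomain A]
    [CommRing B] [Algebra A B] [Module.FaithfullyFlat A B] :
    Function.Injective (algebraMap A (B ⧸ nilradical B)) ∧
    (∀ a : A, a ≠ 0 → algebraMap A (B ⧸ nilradical B) a ∈ nonZeroDivisors (B ⧸ nilradical B)) ∧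
    ∀ (R : Type u) [CommRing R] [Algebra (B ⧸ nilradical B) R] [IsFractionRing (B ⧸ nilradical B) R]
      [Algebra A R] [IsScalarTower A (B ⧸ nilradical B) R] [Algebra (FractionRing A) R]
      [IsScalarTower A (FractionRing A) R] (x : FractionRing A),
      IsIntegral (B ⧸ nilradical B) (algebraMap (FractionRing A) R x) ↔ IsIntegral A x := by
  refine ⟨part1, part2, ?_⟩
  intro R _ _ _ _ _ _ _ x
  constructor
  · exact part3 R x
  · intro hx
    have h1 : IsIntegral A (algebraMap (FractionRing A) R x) :=
      hx.map (IsScalarTower.toAlgHom A (FractionRing A) R)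
    exact h1.tower_top

end Groth.Agent.S4590
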