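import Groth.Statements.S4591
-- import your own Groth.Agent.* helpers here
import Groth.Agent.Lib.Helper36.ProConsScheme
import Groth.Agent.Lib.Helper36.ProCons2

set_option autoImplicit false
universe u
open AlgebraicGeometry
open EGA41

namespace Groth.Agent.S4591

/-- Let X be a quasi-compact scheme, F a pro-constructible subset and (E_i) a family of
ind-constructible subsets covering F. Then some finite subfamily covers F. -/
theorem result (X : Scheme.{u}) [CompactSpace X]
    (F : Set X) (hF : ProCons.IsProConstructible F) {ι : Type u} (E : ι → Set X)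
    (hE : ∀ i, ProCons.IsIndConstructible (E i)) (h : F ⊆ ⋃ i, E i) :
    ∃ J : Finset ι, F ⊆ ⋃ i ∈ J, E i := by
  open Groth.Agent.Lib.Helper36 in
  obtain ⟨J, hJ⟩ := scheme_exists_finset_iInter_subset X (E := Fᶜ)
    (isIndConstructible_compl hF) (fun i => (E i)ᶜ) (fun i => isProConstructible_compl (hE i))
    (by
      intro x hx hxF
      obtain ⟨i, hi⟩ := Set.mem_iUnion.1 (h hxF)
      exact (Set.mem_iInter.1 hx i) hi)
  refine ⟨J, ?_⟩
  intro x hxF
  by_contra hcon
  apply hJ _ hxF
  rw [Set.mem_iInter₂]
  intro i hi hxi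
  exact hcon (Set.mem_iUnion₂.2 ⟨i, hi, hxi⟩)

end Groth.Agent.S4591
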