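import Groth.Statements.S4593
import Mathlib.RingTheory.Spectrum.Prime.RingHom
import Mathlib.CategoryTheory.Limits.ConcreteCategory.Basic

set_option autoImplicit false
universe u
open CategoryTheory CategoryTheory.Limits AlgebraicGeometry
open EGA41

namespace Groth.Agent.S4593

section aux

variable {I : Type u} [SmallCategory I] [IsFiltered I]
    (B : CommRingCat.{u}) (D : I ⥤ CommRingCat.{u}) (s : (Functor.const I).obj B ⟶ D) (c : Cocone D)
    (hc : IsColimit c)

include hc in
theorem comp_eq (i j : I) : s.app i ≫ c.ι.app i = s.app j ≫ c.ι.app j := by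
  have h1 : ∀ {a b : I} (f : a ⟶ b), s.app a ≫ c.ι.app a = s.app b ≫ c.ι.app b := by
    intro a b f
    have := s.naturality f
    simp only [Functor.const_obj_obj, Functor.const_obj_map, Category.id_comp] at this
    rw [this, Category.assoc, c.w]
  rw [h1 (IsFiltered.leftToMax i j), h1 (IsFiltered.rightToMax i j)]

theorem map_app_apply {i j : I} (f : i ⟶ j) (b : B) :
    (D.map f).hom ((s.app i).hom b) = (s.app j).hom b := by
  have := s.naturality f
  simp only [Functor.const_obj_obj, Functor.const_obj_map, Category.id_comp] at this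
  rw [this]
  rfl

theorem map_mem {i j : I} (f : i ⟶ j) (p : Ideal B) (a : D.obj i)
    (ha : a ∈ p.map (s.app i).hom) : (D.map f).hom a ∈ p.map (s.app j).hom := by
  have h1 : (D.map f).hom a ∈ (p.map (s.app i).hom).map (D.map f).hom := Ideal.mem_map_of_mem _ ha
  rw [Ideal.map_map] at h1
  have h2 : (D.map f).hom.comp (s.app i).hom = (s.app j).hom := by
    ext b
    exact map_app_apply B D s f b
  rwa [h2] at h1

theorem ι_map_apply {i j : I} (f : i ⟶ j) (a : D.obj i) :
    (c.ι.app j).hom ((D.map f).hom a) = (c.ι.app i).hom a := by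
  rw [← c.w f]
  rfl

def bigIdeal (i₀ : I) (p : Ideal B) : Ideal c.pt where
  carrier := {a | ∃ (i : I) (a' : D.obj i), a' ∈ p.map (s.app i).hom ∧ (c.ι.app i).hom a' = a}
  zero_mem' := ⟨i₀, 0, Ideal.zero_mem _, map_zero _⟩
  add_mem' := by
    rintro _ _ ⟨i, a', ha', rfl⟩ ⟨j, b', hb', rfl⟩
    refine ⟨IsFiltered.max i j, (D.map (IsFiltered.leftToMax i j)).hom a' +
      (D.map (IsFiltered.rightToMax i j)).hom b',
      Ideal.add_mem _ (map_mem B D s _ p a' ha') (map_mem B D s _ p b' hb'), ?_⟩
    rw [map_add, ι_map_apply, ι_map_apply]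
  smul_mem' := by
    rintro r _ ⟨i, a', ha', rfl⟩
    obtain ⟨j, r', rfl⟩ := Concrete.isColimit_exists_rep D hc r
    refine ⟨IsFiltered.max i j, (D.map (IsFiltered.rightToMax i j)).hom r' *
      (D.map (IsFiltered.leftToMax i j)).hom a',
      Ideal.mul_mem_left _ _ (map_mem B D s _ p a' ha'), ?_⟩
    rw [map_mul, ι_map_apply, ι_map_apply]
    rfl

include hc in
theorem key (i₀ : I) (p : Ideal B)
    (h : ∀ i : I, (p.map (s.app i).hom).comap (s.app i).hom = p) :
    (p.map (s.app i₀ ≫ c.ι.app i₀).hom).comap (s.app i₀ ≫ c.ι.app i₀).hom = p := by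
  apply le_antisymm _ Ideal.le_comap_map
  have hle : p.map (s.app i₀ ≫ c.ι.app i₀).hom ≤ bigIdeal B D s c hc i₀ p := by
    rw [Ideal.map_le_iff_le_comap]
    intro b hb
    exact ⟨i₀, (s.app i₀).hom b, Ideal.mem_map_of_mem _ hb, rfl⟩
  intro b hb
  obtain ⟨i, a', ha', hab⟩ := hle hb
  have h1 : (s.app i₀ ≫ c.ι.app i₀).hom b = (c.ι.app i).hom ((s.app i).hom b) := by
    rw [comp_eq B D s c hc i₀ i]
    rfl
  rw [h1] at hab
  obtain ⟨k, f, g, hfg⟩ := Concrete.isColimit_exists_of_rep_eq D hc a' ((s.app i).hom b) hab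
  have h2 : (D.map g).hom ((s.app i).hom b) = (s.app k).hom b := map_app_apply B D s g b
  have h3 : (D.map f).hom a' ∈ p.map (s.app k).hom := map_mem B D s f p a' ha'
  have h4 : (s.app k).hom b ∈ p.map (s.app k).hom := by
    rw [← h2]
    have : (D.map f).hom a' = (D.map g).hom ((s.app i).hom b) := hfg
    rw [← this]
    exact h3
  rw [← h k]
  exact h4

end aux

theorem mem_range_iff {R S : CommRingCat.{u}} (f : R ⟶ S) (p : PrimeSpectrum R) :
    p ∈ Set.range (Spec.map f).base ↔ (p.asIdeal.map f.hom).comap f.hom = p.asIdeal :=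
  PrimeSpectrum.mem_range_comap_iff (f := f.hom)

/-- Let B be a ring, (A_i) a filtered system of B-algebras with colimit A. The image of Spec A in Spec B
is the intersection of the images of the Spec A_i. -/
theorem result {I : Type u} [SmallCategory I] [IsFiltered I]
    (B : CommRingCat.{u}) (D : I ⥤ CommRingCat.{u}) (s : (Functor.const I).obj B ⟶ D) (c : Cocone D)
    (hc : IsColimit c) (i₀ : I) :
    Set.range (Spec.map (s.app i₀ ≫ c.ι.app i₀)).base = ⋂ i : I, Set.range (Spec.map (s.app i)).base := by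
  ext p
  simp only [Set.mem_iInter]
  constructor
  · rintro ⟨q, rfl⟩ i
    rw [comp_eq B D s c hc i₀ i, Spec.map_comp]
    exact ⟨(Spec.map (c.ι.app i)).base q, rfl⟩
  · intro h
    refine (mem_range_iff (s.app i₀ ≫ c.ι.app i₀) p).mpr ?_
    apply key B D s c hc i₀
    intro i
    exact (mem_range_iff (s.app i) p).mp (h i)

end Groth.Agent.S4593
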