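import Groth.Statements.S4594
import Mathlib.RingTheory.Smooth.Kaehler

set_option autoImplicit false
universe u
open TensorProduct KaehlerDifferential
open EGA41

namespace Groth.Agent.S4594

theorem ker_part {Λ A C : Type u} [CommRing Λ] [CommRing A]
    [CommRing C] [Algebra Λ A] [Algebra A C] [Algebra Λ C] [IsScalarTower Λ A C]
    (hsurj : Function.Surjective (algebraMap A C)) (p : ℕ)
    [Algebra (Λ ⧸ Ideal.span {(p : Λ)}) C] [IsScalarTower Λ (Λ ⧸ Ideal.span {(p : Λ)}) C]
    [Algebra.FormallySmooth (Λ ⧸ Ideal.span {(p : Λ)}) C]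
    (hp : (p : A) ∈ RingHom.ker (algebraMap A C)) (x : RingHom.ker (algebraMap A C))
    (hx : kerCotangentToTensor Λ A C ((RingHom.ker (algebraMap A C)).toCotangent x) = 0) :
    (x : A) ∈ (RingHom.ker (algebraMap A C)) ^ 2 ⊔ Ideal.span {(p : A)} := by
  let K : Ideal A := RingHom.ker (algebraMap A C) ^ 2 ⊔ Ideal.span {(p : A)}
  have hKJ : K ≤ RingHom.ker (algebraMap A C) := by
    refine sup_le (Ideal.pow_le_self two_ne_zero) ?_
    rw [Ideal.span_singleton_le_iff_mem]
    exact hp
  let B := A ⧸ K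
  let f : B →+* C := Ideal.Quotient.lift K (algebraMap A C) (fun a ha => hKJ ha)
  letI iBC : Algebra B C := f.toAlgebra
  haveI t1 : IsScalarTower A B C := IsScalarTower.of_algebraMap_eq (fun a => rfl)
  haveI t2 : IsScalarTower Λ B C := IsScalarTower.of_algebraMap_eq (fun l => by
    rw [IsScalarTower.algebraMap_apply Λ A C, IsScalarTower.algebraMap_apply Λ A B]
    rfl)
  let k := Λ ⧸ Ideal.span {(p : Λ)}
  have hpB : algebraMap Λ B (p : Λ) = 0 := by
    rw [map_natCast]
    change (Ideal.Quotient.mk K) (p : A) = 0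
    rw [Ideal.Quotient.eq_zero_iff_mem]
    exact Ideal.mem_sup_right (Ideal.subset_span rfl)
  let fk : k →+* B := Ideal.Quotient.lift (Ideal.span {(p : Λ)}) (algebraMap Λ B) (fun l hl => by
    obtain ⟨l', rfl⟩ := Ideal.mem_span_singleton'.mp hl
    rw [map_mul, hpB, mul_zero])
  letI ikB : Algebra k B := fk.toAlgebra
  haveI t3 : IsScalarTower Λ k B := IsScalarTower.of_algebraMap_eq (fun l => rfl)
  let fA : B →ₐ[k] C :=
    { f with
      commutes' := fun r => by
        obtain ⟨l, rfl⟩ := Ideal.Quotient.mk_surjective r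
        change f (algebraMap Λ B l) = algebraMap k C (algebraMap Λ k l)
        rw [← IsScalarTower.algebraMap_apply Λ k C, IsScalarTower.algebraMap_apply Λ B C]
        rfl }
  have hfsurj : Function.Surjective fA := by
    intro c
    obtain ⟨a, rfl⟩ := hsurj c
    exact ⟨Ideal.Quotient.mk K a, rfl⟩
  have hker : RingHom.ker (algebraMap B C) = (RingHom.ker (algebraMap A C)).map (Ideal.Quotient.mk K) :=
    Ideal.ker_quotient_lift (algebraMap A C) (fun a ha => hKJ ha)
  have hsq : RingHom.ker (algebraMap B C) ^ 2 = ⊥ := by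
    rw [hker, ← Ideal.map_pow]
    exact Ideal.map_mk_eq_bot_of_le le_sup_left
  have hnil : IsNilpotent (RingHom.ker (fA : B →+* C)) := ⟨2, hsq⟩
  let gk : C →ₐ[k] B := Algebra.FormallySmooth.liftOfSurjective (AlgHom.id k C) fA hfsurj hnil
  have hgk : fA.comp gk = AlgHom.id k C :=
    Algebra.FormallySmooth.comp_liftOfSurjective (AlgHom.id k C) fA hfsurj hnil
  let g : C →ₐ[Λ] B := gk.restrictScalars Λ
  have hg : (IsScalarTower.toAlgHom Λ B C).comp g = AlgHom.id Λ C := by
    ext c
    exact AlgHom.congr_fun hgk c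
  have hinj : Function.Injective (kerToTensor Λ B C) := by
    have := retractionOfSectionOfKerSqZero_comp_kerToTensor g hsq hg
    exact Function.LeftInverse.injective (g := retractionOfSectionOfKerSqZero g hsq hg)
      (fun y => LinearMap.congr_fun this y)
  let φ : Ω[A⁄Λ] →ₗ[A] C ⊗[B] Ω[B⁄Λ] :=
    ((TensorProduct.mk B C Ω[B⁄Λ] 1).restrictScalars A).comp (KaehlerDifferential.map Λ Λ A B)
  let Ψ := φ.liftBaseChange C
  have h1 : (1 : C) ⊗ₜ[A] D Λ A (x : A) = 0 := hx
  have h2 := congrArg Ψ h1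
  rw [map_zero, LinearMap.liftBaseChange_tmul, one_smul] at h2
  have hmem : (Ideal.Quotient.mk K (x : A)) ∈ RingHom.ker (algebraMap B C) := by
    rw [RingHom.mem_ker]
    exact x.2
  have h3 : kerToTensor Λ B C ⟨Ideal.Quotient.mk K (x : A), hmem⟩ = 0 := by
    rw [kerToTensor_apply]
    have : φ (D Λ A (x : A)) = (1 : C) ⊗ₜ[B] D Λ B (Ideal.Quotient.mk K (x : A)) := by
      change (1 : C) ⊗ₜ[B] (KaehlerDifferential.map Λ Λ A B (D Λ A (x : A))) = _
      rw [KaehlerDifferential.map_D]
      rfl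
    rw [← this]
    exact h2
  have h4 := hinj (h3.trans (map_zero _).symm)
  have h5 : Ideal.Quotient.mk K (x : A) = 0 := congrArg Subtype.val h4
  exact Ideal.Quotient.eq_zero_iff_mem.mp h5

/-- Let Λ be a ring, A → C a surjection of Λ-algebras with kernel J, C of characteristic p > 0, and π
the class of p·1 in J/J². If C is formally smooth over Λ/pΛ for the discrete topologies, then 0 →
(J/J²)/Cπ → Ω_{A/Λ} ⊗_A C → Ω_{C/Λ} → 0 is exact: the kernel of the conormal map J/J² → Ω_{A/Λ} ⊗_A
C is the span of π, and the base-change map to Ω_{C/Λ} is surjective with kernel the image of J/J². -/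
theorem result {Λ A C : Type u} [CommRing Λ] [CommRing A]
    [CommRing C] [Algebra Λ A] [Algebra A C] [Algebra Λ C] [IsScalarTower Λ A C]
    (hsurj : Function.Surjective (algebraMap A C)) (p : ℕ) [Fact p.Prime] [CharP C p]
    [Algebra (Λ ⧸ Ideal.span {(p : Λ)}) C] [IsScalarTower Λ (Λ ⧸ Ideal.span {(p : Λ)}) C]
    [Algebra.FormallySmooth (Λ ⧸ Ideal.span {(p : Λ)}) C]
    (hp : (p : A) ∈ RingHom.ker (algebraMap A C)) :
    LinearMap.ker (kerCotangentToTensor Λ A C) =
        Submodule.span A {(RingHom.ker (algebraMap A C)).toCotangent ⟨(p : A), hp⟩} ∧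
      LinearMap.range (kerCotangentToTensor Λ A C) = (LinearMap.ker (mapBaseChange Λ A C)).restrictScalars A ∧
      Function.Surjective (mapBaseChange Λ A C) := by
  refine ⟨?_, range_kerCotangentToTensor Λ A C hsurj, mapBaseChange_surjective Λ A C hsurj⟩
  apply le_antisymm
  · intro y hy
    obtain ⟨x, rfl⟩ := Ideal.toCotangent_surjective _ y
    have hx := ker_part hsurj p hp x (LinearMap.mem_ker.mp hy)
    obtain ⟨y', hy', z, hz, hxyz⟩ := Submodule.mem_sup.mp hx
    obtain ⟨a, rfl⟩ := Ideal.mem_span_singleton'.mp hz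
    have key : (RingHom.ker (algebraMap A C)).toCotangent x =
        a • (RingHom.ker (algebraMap A C)).toCotangent ⟨(p : A), hp⟩ := by
      rw [← map_smul, ← sub_eq_zero, ← map_sub, Ideal.toCotangent_eq_zero]
      change (x : A) - a • (p : A) ∈ _
      rw [← hxyz, smul_eq_mul, add_sub_cancel_right]
      exact hy'
    exact Submodule.mem_span_singleton.mpr ⟨a, key.symm⟩
  · rw [Submodule.span_le, Set.singleton_subset_iff]
    change kerCotangentToTensor Λ A C _ = 0
    rw [kerCotangentToTensor_toCotangent]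
    change (1 : C) ⊗ₜ[A] D Λ A ((p : ℕ) : A) = 0
    rw [Derivation.map_natCast, TensorProduct.tmul_zero]

end Groth.Agent.S4594
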