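import Groth.Statements.S4598
import Groth.Agent.S4596
import Mathlib.AlgebraicGeometry.PullbackCarrier
import Mathlib.AlgebraicGeometry.Morphisms.QuasiSeparated
import Mathlib.CategoryTheory.MorphismProperty.Descent

set_option autoImplicit false
universe u
open AlgebraicGeometry CategoryTheory CategoryTheory.Limits
open EGA41

namespace Groth.Agent.S4598

/-- If g : Y' → Y is quasi-compact and surjective and the base change X ×_Y Y' → Y' of f : X → Y is
quasi-separated, then f is quasi-separated. -/
theorem result {X Y Y' : Scheme.{u}} (f : X ⟶ Y)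
    (g : Y' ⟶ Y) [QuasiCompact g] [Surjective g] [QuasiSeparated (pullback.snd f g)] :
    QuasiSeparated f := by
  haveI h1 : MorphismProperty.HasOfPrecompProperty @QuasiCompact.{u}
      (@Surjective.{u} ⊓ @QuasiCompact.{u}) := by
    constructor
    intro X Y Z f g hf hfg
    haveI : Surjective f := hf.1
    haveI : QuasiCompact (f ≫ g) := hfg
    exact Groth.Agent.S4596.result f g
  haveI h2 : MorphismProperty.RespectsRight @QuasiCompact.{u}
      (@Surjective.{u} ⊓ @QuasiCompact.{u}) := by
    constructor
    intro X Y Z i hi f hf
    haveI : QuasiCompact i := hi.2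
    haveI : QuasiCompact f := hf
    exact (inferInstance : QuasiCompact (f ≫ i))
  haveI h3 : MorphismProperty.DescendsAlong (MorphismProperty.diagonal @QuasiCompact.{u})
      (@Surjective.{u} ⊓ @QuasiCompact.{u}) := inferInstance
  rw [quasiSeparated_eq_diagonal_is_quasiCompact]
  refine MorphismProperty.of_pullback_snd_of_descendsAlong
    (P := MorphismProperty.diagonal @QuasiCompact.{u})
    (Q := @Surjective.{u} ⊓ @QuasiCompact.{u}) (f := f) (g := g) ⟨inferInstance, inferInstance⟩ ?_
  rw [← quasiSeparated_eq_diagonal_is_quasiCompact]
  infer_instance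

end Groth.Agent.S4598
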