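import Groth.Statements.S4600
import Mathlib.RingTheory.Extension.Presentation.Core
import Mathlib.CategoryTheory.Limits.Types.Filtered

set_option autoImplicit false
universe u
open CategoryTheory CategoryTheory.Limits TensorProduct
open EGA41

namespace Groth.Agent.S4600

/-- Let (A_i) be a filtered system of rings with colimit A and B a finitely presented A-algebra. Then
some stage A_i carries a finitely presented algebra B_i with B isomorphic to A ⊗_{A_i} B_i as
A-algebras (existence of an isomorphism; the base change is along the colimit map A_i → A). -/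
theorem result {I : Type u} [SmallCategory I] [IsFiltered I]
    (D : I ⥤ CommRingCat.{u}) (c : Cocone D) (hc : IsColimit c) (B : Type u) [CommRing B] [Algebra c.pt B]
    [Algebra.FinitePresentation c.pt B] :
    ∃ (i : I) (Bi : Type u) (_ : CommRing Bi) (_ : Algebra (D.obj i) Bi),
      Algebra.FinitePresentation (D.obj i) Bi ∧
      (letI : Algebra (D.obj i) c.pt := (c.ι.app i).hom.toAlgebra
       Nonempty (B ≃ₐ[c.pt] (c.pt ⊗[D.obj i] Bi))) := by
  classical
  have hc' := isColimitOfPreserves (forget CommRingCat.{u}) hc
  let P := Algebra.Presentation.ofFinitePresentation c.pt B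
  have hfin : P.coeffs.Finite := P.finite_coeffs
  let S : Finset c.pt := hfin.toFinset
  choose j x h using fun a : c.pt ↦ Types.jointly_surjective_of_isColimit hc' a
  obtain ⟨i, hi⟩ : ∃ i, ∀ a ∈ S, Nonempty (j a ⟶ i) := by
    simpa using! IsFiltered.sup_objs_exists (S.image j)
  letI : Algebra (D.obj i) c.pt := (c.ι.app i).hom.toAlgebra
  letI : Algebra (D.obj i) B := ((algebraMap c.pt B).comp (c.ι.app i).hom).toAlgebra
  haveI : IsScalarTower (D.obj i) c.pt B := IsScalarTower.of_algebraMap_eq' rfl
  haveI : P.HasCoeffs (D.obj i) := by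
    constructor
    intro a ha
    have haS : a ∈ S := hfin.mem_toFinset.mpr ha
    obtain ⟨g⟩ := hi a haS
    refine ⟨D.map g (x a), ?_⟩
    have := congr($(c.w g).hom (x a))
    exact this.trans (h a)
  exact ⟨i, P.ModelOfHasCoeffs (D.obj i), inferInstance, inferInstance, inferInstance,
    ⟨(P.tensorModelOfHasCoeffsEquiv (D.obj i)).symm⟩⟩

end Groth.Agent.S4600
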