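import Groth.Statements.S4604
import Mathlib.RingTheory.MvPolynomial.Ideal
import Mathlib.RingTheory.LocalRing.ResidueField.Basic
import Mathlib.RingTheory.LocalRing.RingHom.Basic
import Mathlib.RingTheory.Nilpotent.Lemmas
import Mathlib.Tactic

set_option autoImplicit false
universe u
open IsLocalRing
open EGA41

namespace Groth.Agent.S4604

section

variable {A : Type u} [CommRing A] [IsLocalRing A] {r : ℕ}

/-- the polynomials `F_i` -/
noncomputable def Fp (d : Fin r → ℕ) (c : Fin r → ℕ → A) (i : Fin r) : MvPolynomial (Fin r) A :=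
  MvPolynomial.X i ^ d i + (Finset.range (d i)).sum fun k => MvPolynomial.C (c i k) * MvPolynomial.X i ^ k

theorem constantCoeff_Fp (d : Fin r → ℕ) (hd : ∀ i, 2 ≤ d i) (c : Fin r → ℕ → A) (i : Fin r) :
    MvPolynomial.constantCoeff (Fp d c i) = c i 0 := by
  unfold Fp
  have hdi := hd i
  rw [map_add, map_pow, MvPolynomial.constantCoeff_X, zero_pow (by omega), zero_add, map_sum]
  rw [Finset.sum_eq_single 0]
  · simp
  · intro k _ hk
    rw [map_mul, map_pow, MvPolynomial.constantCoeff_X, zero_pow hk, mul_zero]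
  · intro h
    exact absurd (Finset.mem_range.mpr (by omega)) h

/-- decomposition of a polynomial: constant term plus an element of the ideal of the variables -/
theorem sub_C_mem (p : MvPolynomial (Fin r) A) :
    p - MvPolynomial.C (MvPolynomial.constantCoeff p) ∈
      Ideal.span (MvPolynomial.X '' (Set.univ : Set (Fin r)) : Set (MvPolynomial (Fin r) A)) := by
  rw [MvPolynomial.mem_ideal_span_X_image]
  intro m hm
  have hm0 : m ≠ 0 := by
    intro h0
    rw [MvPolynomial.mem_support_iff, h0] at hm
    apply hm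
    simp [MvPolynomial.constantCoeff_eq]
  obtain ⟨i, hi⟩ : ∃ i, m i ≠ 0 := by
    by_contra hcon
    push Not at hcon
    exact hm0 (Finsupp.ext hcon)
  exact ⟨i, Set.mem_univ i, hi⟩

end

/-- (i) and the kernel statement of (ii): let A be a local ring with maximal ideal m of square zero,
F_i(T_i) = T_i^{d_i} + Σ_{k<d_i} c_{ik} T_i^k (1 ≤ i ≤ r) monic of degrees d_i ≥ 2 with non-leading
coefficients in m, and A' = A[T_1, …, T_r]/(F_1, …, F_r). Then A' is local with residue field K, and
the kernel of m → m'/m'² (m' the maximal ideal of A') is the ideal generated by the constant terms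
c_{i0}. -/
theorem result {A : Type u} [CommRing A] [IsLocalRing A]
    (hm : maximalIdeal A ^ 2 = ⊥) {r : ℕ} (d : Fin r → ℕ) (hd : ∀ i, 2 ≤ d i) (c : Fin r → ℕ → A)
    (hc : ∀ i k, c i k ∈ maximalIdeal A) :
    let F : Fin r → MvPolynomial (Fin r) A := fun i =>
      MvPolynomial.X i ^ d i + (Finset.range (d i)).sum fun k => MvPolynomial.C (c i k) * MvPolynomial.X i ^ k
    ∃ _ : IsLocalRing (MvPolynomial (Fin r) A ⧸ Ideal.span (Set.range F)),
      Function.Surjective ((Ideal.Quotient.mk (maximalIdeal (MvPolynomial (Fin r) A ⧸ Ideal.span (Set.range F)))).comp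
        (algebraMap A (MvPolynomial (Fin r) A ⧸ Ideal.span (Set.range F)))) ∧
      maximalIdeal A ⊓ Ideal.comap (algebraMap A (MvPolynomial (Fin r) A ⧸ Ideal.span (Set.range F)))
          (maximalIdeal (MvPolynomial (Fin r) A ⧸ Ideal.span (Set.range F)) ^ 2) =
        Ideal.span (Set.range fun i => c i 0) := by
  intro F
  have hFp : F = Fp d c := rfl
  -- notation
  set J : Ideal (MvPolynomial (Fin r) A) := Ideal.span (Set.range F) with hJ
  -- square zero
  have hsq : ∀ a b : A, a ∈ maximalIdeal A → b ∈ maximalIdeal A → a * b = 0 := by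
    intro a b ha hb
    have : a * b ∈ maximalIdeal A ^ 2 := by rw [pow_two]; exact Ideal.mul_mem_mul ha hb
    rw [hm] at this
    exact this
  -- the map to the residue field
  let φ₀ : (MvPolynomial (Fin r) A) →+* ResidueField A := (residue A).comp MvPolynomial.constantCoeff
  have hφ₀ : ∀ x ∈ J, φ₀ x = 0 := by
    intro x hx
    have : J ≤ RingHom.ker φ₀ := by
      rw [hJ, Ideal.span_le]
      rintro _ ⟨i, rfl⟩
      rw [SetLike.mem_coe, RingHom.mem_ker]
      change residue A (MvPolynomial.constantCoeff (F i)) = 0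
      rw [hFp, constantCoeff_Fp d hd c i, residue_eq_zero_iff]
      exact hc i 0
    exact this hx
  let φ : (MvPolynomial (Fin r) A) ⧸ J →+* ResidueField A := Ideal.Quotient.lift J φ₀ hφ₀
  have hφmk : ∀ p : (MvPolynomial (Fin r) A), φ (Ideal.Quotient.mk J p) = residue A (MvPolynomial.constantCoeff p) :=
    fun p => rfl
  -- the map to A / (c_i0)
  set I₀ : Ideal A := Ideal.span (Set.range fun i => c i 0) with hI₀
  let ev₀ : (MvPolynomial (Fin r) A) →+* A ⧸ I₀ := (Ideal.Quotient.mk I₀).comp MvPolynomial.constantCoeff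
  have hev₀ : ∀ x ∈ J, ev₀ x = 0 := by
    intro x hx
    have : J ≤ RingHom.ker ev₀ := by
      rw [hJ, Ideal.span_le]
      rintro _ ⟨i, rfl⟩
      rw [SetLike.mem_coe, RingHom.mem_ker]
      change Ideal.Quotient.mk I₀ (MvPolynomial.constantCoeff (F i)) = 0
      rw [hFp, constantCoeff_Fp d hd c i, Ideal.Quotient.eq_zero_iff_mem]
      exact Ideal.subset_span ⟨i, rfl⟩
    exact this hx
  let ev : (MvPolynomial (Fin r) A) ⧸ J →+* A ⧸ I₀ := Ideal.Quotient.lift J ev₀ hev₀
  have hevmk : ∀ p : (MvPolynomial (Fin r) A), ev (Ideal.Quotient.mk J p) = Ideal.Quotient.mk I₀ (MvPolynomial.constantCoeff p) :=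
    fun p => rfl
  -- algebraMap
  have halg : ∀ a : A, algebraMap A ((MvPolynomial (Fin r) A) ⧸ J) a = Ideal.Quotient.mk J (MvPolynomial.C a) := fun a => rfl
  -- nilpotency of the variables
  have hXnil : ∀ i : Fin r, IsNilpotent (Ideal.Quotient.mk J (MvPolynomial.X i : (MvPolynomial (Fin r) A))) := by
    intro i
    have hFi : Ideal.Quotient.mk J (F i) = 0 :=
      Ideal.Quotient.eq_zero_iff_mem.mpr (Ideal.subset_span ⟨i, rfl⟩)
    set t := Ideal.Quotient.mk J (MvPolynomial.X i : (MvPolynomial (Fin r) A)) with ht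
    have hy : t ^ d i = -(Finset.range (d i)).sum fun k => algebraMap A ((MvPolynomial (Fin r) A) ⧸ J) (c i k) * t ^ k := by
      rw [hFp] at hFi
      unfold Fp at hFi
      rw [map_add, map_pow, map_sum] at hFi
      simp only [map_mul, map_pow] at hFi
      rw [eq_neg_iff_add_eq_zero]
      exact hFi
    have hyN : t ^ d i ∈ Ideal.map (algebraMap A ((MvPolynomial (Fin r) A) ⧸ J)) (maximalIdeal A) := by
      rw [hy]
      apply neg_mem
      apply Ideal.sum_mem
      intro k _
      exact Ideal.mul_mem_right _ _ (Ideal.mem_map_of_mem _ (hc i k))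
    have hNN : Ideal.map (algebraMap A ((MvPolynomial (Fin r) A) ⧸ J)) (maximalIdeal A) *
        Ideal.map (algebraMap A ((MvPolynomial (Fin r) A) ⧸ J)) (maximalIdeal A) = ⊥ := by
      rw [← Ideal.map_mul, ← pow_two, hm, Ideal.map_bot]
    have : t ^ d i * t ^ d i = 0 := by
      have := Ideal.mul_mem_mul hyN hyN
      rw [hNN] at this
      exact this
    exact ⟨d i + d i, by rw [pow_add]; exact this⟩
  -- kernel of φ consists of nilpotents
  have hdecomp : ∀ p : (MvPolynomial (Fin r) A), Ideal.Quotient.mk J p =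
      algebraMap A ((MvPolynomial (Fin r) A) ⧸ J) (MvPolynomial.constantCoeff p) +
        Ideal.Quotient.mk J (p - MvPolynomial.C (MvPolynomial.constantCoeff p)) := by
    intro p
    rw [halg, ← map_add]
    congr 1
    ring
  have hqnil : ∀ p : (MvPolynomial (Fin r) A), IsNilpotent
      (Ideal.Quotient.mk J (p - MvPolynomial.C (MvPolynomial.constantCoeff p))) := by
    intro p
    have h1 := sub_C_mem p
    have h2 : Ideal.span (MvPolynomial.X '' (Set.univ : Set (Fin r)) : Set (MvPolynomial (Fin r) A)) ≤
        Ideal.comap (Ideal.Quotient.mk J) (nilradical ((MvPolynomial (Fin r) A) ⧸ J)) := by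
      rw [Ideal.span_le]
      rintro _ ⟨i, _, rfl⟩
      exact hXnil i
    exact h2 h1
  -- φ is a local homomorphism
  have hlocal : IsLocalHom φ := by
    constructor
    intro x hx
    obtain ⟨p, rfl⟩ := Ideal.Quotient.mk_surjective x
    rw [hφmk] at hx
    have ha : IsUnit (MvPolynomial.constantCoeff p) := by
      by_contra hnu
      have : MvPolynomial.constantCoeff p ∈ maximalIdeal A := (mem_maximalIdeal _).mpr hnu
      rw [(residue_eq_zero_iff _).mpr this] at hx
      exact not_isUnit_zero hx
    rw [hdecomp p]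
    exact IsNilpotent.isUnit_add_left_of_commute (hqnil p) (ha.map (algebraMap A ((MvPolynomial (Fin r) A) ⧸ J)))
      (Commute.all _ _)
  have inst : IsLocalRing ((MvPolynomial (Fin r) A) ⧸ J) := RingHom.domain_isLocalRing φ
  have hφsurj : Function.Surjective φ := by
    intro k
    obtain ⟨a, rfl⟩ := residue_surjective k
    exact ⟨Ideal.Quotient.mk J (MvPolynomial.C a), by rw [hφmk, MvPolynomial.constantCoeff_C]⟩
  have hker : RingHom.ker φ = maximalIdeal ((MvPolynomial (Fin r) A) ⧸ J) :=
    IsLocalRing.eq_maximalIdeal (RingHom.ker_isMaximal_of_surjective φ hφsurj)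
  refine ⟨inst, ?_, ?_⟩
  · intro y
    obtain ⟨x, rfl⟩ := Ideal.Quotient.mk_surjective y
    obtain ⟨p, rfl⟩ := Ideal.Quotient.mk_surjective x
    refine ⟨MvPolynomial.constantCoeff p, ?_⟩
    rw [RingHom.comp_apply, Ideal.Quotient.eq, ← hker, RingHom.mem_ker, map_sub, halg, hφmk, hφmk,
      MvPolynomial.constantCoeff_C, sub_self]
  · apply le_antisymm
    · rintro a ⟨ha, ha2⟩
      rw [SetLike.mem_coe, Ideal.mem_comap] at ha2
      have hle : maximalIdeal ((MvPolynomial (Fin r) A) ⧸ J) ^ 2 ≤ RingHom.ker ev := by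
        rw [pow_two, Ideal.mul_le]
        intro x hx y hy
        rw [← hker, RingHom.mem_ker] at hx hy
        obtain ⟨p, rfl⟩ := Ideal.Quotient.mk_surjective x
        obtain ⟨q, rfl⟩ := Ideal.Quotient.mk_surjective y
        rw [hφmk, residue_eq_zero_iff] at hx hy
        rw [RingHom.mem_ker, map_mul, hevmk, hevmk, ← map_mul, hsq _ _ hx hy, map_zero]
      have h3 := hle ha2
      rw [RingHom.mem_ker, halg, hevmk, MvPolynomial.constantCoeff_C,
        Ideal.Quotient.eq_zero_iff_mem] at h3
      exact h3
    · rw [hI₀, Ideal.span_le]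
      rintro _ ⟨i, rfl⟩
      refine ⟨hc i 0, ?_⟩
      rw [SetLike.mem_coe, Ideal.mem_comap]
      have hdi := hd i
      set t := Ideal.Quotient.mk J (MvPolynomial.X i : MvPolynomial (Fin r) A) with ht
      have htm : t ∈ maximalIdeal ((MvPolynomial (Fin r) A) ⧸ J) := by
        rw [← hker, RingHom.mem_ker, hφmk, MvPolynomial.constantCoeff_X, map_zero]
      have hcm : ∀ k, algebraMap A ((MvPolynomial (Fin r) A) ⧸ J) (c i k) ∈
          maximalIdeal ((MvPolynomial (Fin r) A) ⧸ J) := by
        intro k
        rw [← hker, RingHom.mem_ker, halg, hφmk, MvPolynomial.constantCoeff_C, residue_eq_zero_iff]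
        exact hc i k
      have hFi : Ideal.Quotient.mk J (F i) = 0 :=
        Ideal.Quotient.eq_zero_iff_mem.mpr (Ideal.subset_span ⟨i, rfl⟩)
      have hexp : algebraMap A ((MvPolynomial (Fin r) A) ⧸ J) (c i 0) =
          -(t ^ d i + (Finset.range (d i - 1)).sum fun k =>
            algebraMap A ((MvPolynomial (Fin r) A) ⧸ J) (c i (k + 1)) * t ^ (k + 1)) := by
        rw [hFp] at hFi
        unfold Fp at hFi
        rw [map_add, map_pow, map_sum] at hFi
        simp only [map_mul, map_pow] at hFi
        have hsum : ∀ g : ℕ → (MvPolynomial (Fin r) A) ⧸ J,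
            (Finset.range (d i)).sum g = (Finset.range (d i - 1)).sum (fun k => g (k + 1)) + g 0 := by
          intro g
          conv_lhs => rw [show d i = (d i - 1) + 1 by omega]
          exact Finset.sum_range_succ' _ _
        rw [hsum] at hFi
        simp only [pow_zero, mul_one] at hFi
        rw [eq_neg_iff_add_eq_zero, ← hFi]
        simp only [halg]
        ring
      rw [hexp]
      apply neg_mem
      apply add_mem
      · rw [show d i = 2 + (d i - 2) by omega, pow_add]
        exact Ideal.mul_mem_right _ _ (Ideal.pow_mem_pow htm 2)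
      · apply Ideal.sum_mem
        intro k _
        rw [pow_succ' t k, ← mul_assoc]
        apply Ideal.mul_mem_right
        rw [pow_two]
        exact Ideal.mul_mem_mul (hcm _) htm

end Groth.Agent.S4604
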