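import Groth.Statements.S4605
import Groth.Agent.Lib.Helper80.PPoly

set_option autoImplicit false
universe u
open IsLocalRing
open EGA41

namespace Groth.Agent.S4605

/-- Let A be a local ring with maximal ideal m of square zero and residue field K of characteristic p >
0, F_i(T_i) = T_i^p + p Σ_{k=1}^{p-1} c_{ik} T_i^{p-k} − f_i (i in a finite index set) with c_{ik},
f_i ∈ A, and suppose the residues of the f_i in K are p-independent over K^p. Then A' = A[T_i]/(F_i)
is local with maximal ideal m A'. (The identification of the residue field with K(a_i^{1/p}) is not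
restated.) -/
theorem result {A : Type u} [CommRing A]
    [IsLocalRing A] (hm : maximalIdeal A ^ 2 = ⊥) (p : ℕ) [Fact p.Prime] [CharP (ResidueField A) p]
    {ι : Type u} [Finite ι] (c : ι → Fin p → A) (f : ι → A)
    (hind : LinearIndependent (↥(frobenius (ResidueField A) p).fieldRange)
      (fun e : {e : ι →₀ ℕ // ∀ i, e i < p} => EGA41.pMonomial (fun i => residue A (f i)) e.1)) :
    let F : ι → MvPolynomial ι A := fun i =>
      MvPolynomial.X i ^ p + (p : MvPolynomial ι A) * (Finset.univ.sum fun j : Fin p =>
        if (j : ℕ) = 0 then 0 else MvPolynomial.C (c i j) * MvPolynomial.X i ^ (p - (j : ℕ))) - MvPolynomial.C (f i)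
    ∃ _ : IsLocalRing (MvPolynomial ι A ⧸ Ideal.span (Set.range F)),
      maximalIdeal (MvPolynomial ι A ⧸ Ideal.span (Set.range F)) =
        (maximalIdeal A).map (algebraMap A (MvPolynomial ι A ⧸ Ideal.span (Set.range F))) := by
  intro F
  classical
  set I : Ideal (MvPolynomial ι A) := Ideal.span (Set.range F) with hI
  let t : ι → MvPolynomial ι A ⧸ I := fun i => Ideal.Quotient.mk I (MvPolynomial.X i)
  have hpos := (Fact.out : p.Prime).pos
  -- generation
  have hgen : Algebra.adjoin A (Set.range t) = ⊤ := by
    have h1 : Set.range t = (Ideal.Quotient.mkₐ A I) '' (Set.range MvPolynomial.X) := by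
      rw [← Set.range_comp]; rfl
    rw [h1, ← AlgHom.map_adjoin, MvPolynomial.adjoin_range_X, Algebra.map_top,
      AlgHom.range_eq_top]
    exact Ideal.Quotient.mkₐ_surjective A I
  -- relations
  have hrel : Groth.Agent.Lib.Helper80.PPoly.Rel p c f t := by
    intro i
    have h0 : Ideal.Quotient.mk I (F i) = 0 :=
      Ideal.Quotient.eq_zero_iff_mem.mpr (Ideal.subset_span ⟨i, rfl⟩)
    simp only [F, map_sub, map_add, map_mul, map_pow, map_natCast, map_sum] at h0
    have h1 : ∀ j : Fin p, (Ideal.Quotient.mk I)
        (if (j : ℕ) = 0 then 0 else MvPolynomial.C (c i j) * MvPolynomial.X i ^ (p - (j : ℕ))) =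
        (if (j : ℕ) = 0 then 0 else
          algebraMap A (MvPolynomial ι A ⧸ I) (c i j) * t i ^ (p - (j : ℕ))) := by
      intro j
      split_ifs
      · exact map_zero _
      · rw [map_mul, map_pow]; rfl
    simp only [h1] at h0
    have h2 : (Ideal.Quotient.mk I) (MvPolynomial.C (f i)) =
        algebraMap A (MvPolynomial ι A ⧸ I) (f i) := rfl
    rw [h2] at h0
    change t i ^ p = _
    linear_combination h0
  -- a map to a nontrivial ring killing the maximal ideal
  let K := ResidueField A
  let Ω := AlgebraicClosure K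
  have hcharΩ : CharP Ω p := charP_of_injective_algebraMap (algebraMap K Ω).injective p
  choose b hb using fun i : ι =>
    IsAlgClosed.exists_pow_nat_eq (algebraMap K Ω (residue A (f i))) hpos
  let ψ₀ : MvPolynomial ι A →+* Ω :=
    MvPolynomial.eval₂Hom ((algebraMap K Ω).comp (residue A)) b
  have hψ₀ : ∀ i, ψ₀ (F i) = 0 := by
    intro i
    simp only [F, ψ₀, map_sub, map_add, map_mul, map_pow, map_natCast, MvPolynomial.coe_eval₂Hom,
      MvPolynomial.eval₂_X, MvPolynomial.eval₂_C, CharP.cast_eq_zero, zero_mul, add_zero, hb i]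
    simp
  let ψ : MvPolynomial ι A ⧸ I →+* Ω := Ideal.Quotient.lift I ψ₀ (by
    intro a ha
    have : I ≤ RingHom.ker ψ₀ := by
      rw [hI, Ideal.span_le]
      rintro _ ⟨i, rfl⟩
      exact hψ₀ i
    exact this ha)
  have htop : (maximalIdeal A).map (algebraMap A (MvPolynomial ι A ⧸ I)) ≠ ⊤ := by
    intro h
    have hle : (maximalIdeal A).map (algebraMap A (MvPolynomial ι A ⧸ I)) ≤ RingHom.ker ψ := by
      rw [Ideal.map_le_iff_le_comap]
      intro a ha
      rw [Ideal.mem_comap, RingHom.mem_ker]
      change ψ₀ (MvPolynomial.C a) = 0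
      simp only [ψ₀, MvPolynomial.coe_eval₂Hom, MvPolynomial.eval₂_C, RingHom.comp_apply]
      rw [(residue_eq_zero_iff a).mpr ha, map_zero]
    rw [h] at hle
    have : (1 : MvPolynomial ι A ⧸ I) ∈ RingHom.ker ψ := hle trivial
    rw [RingHom.mem_ker, map_one] at this
    exact one_ne_zero this
  exact Groth.Agent.Lib.Helper80.PPoly.exists_isLocalRing hm hrel hgen htop hind

end Groth.Agent.S4605
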