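import Groth.Statements.S4606
-- import your own Groth.Agent.* helpers here
import Groth.Agent.Lib.Helper49.JacAdic4

set_option autoImplicit false
universe u
open TensorProduct KaehlerDifferential IsLocalRing
open EGA41

namespace Groth.Agent.S4606

open EGA41
open TensorProduct KaehlerDifferential IsLocalRing Groth.Agent.Lib.Helper49.JacAdic

theorem adic_of_formallySmooth {R S : Type u} [CommRing R] [CommRing S] [Algebra R S]
    [Algebra.FormallySmooth R S] (𝔫 : Ideal S) : CAlgX.IsAdicFormallySmooth R S 𝔫 := by
  intro C _ _ J hJ ψ _
  obtain ⟨χ, hχ⟩ := Algebra.FormallySmooth.comp_surjective R S J hJ ψ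
  exact ⟨χ, hχ⟩

theorem adic_restrict_of_isLocalization {A A' S : Type u} [CommRing A] [CommRing A'] [CommRing S]
    [Algebra A A'] [Algebra A' S] [Algebra A S] [IsScalarTower A A' S] (M : Submonoid A)
    [IsLocalization M A'] (𝔫 : Ideal S) (h : CAlgX.IsAdicFormallySmooth A' S 𝔫) :
    CAlgX.IsAdicFormallySmooth A S 𝔫 := by
  intro T _ _ J hJ ψ hψ
  have hunit : ∀ s : M, IsUnit (algebraMap A T s) := by
    intro s
    apply (IsNilpotent.isUnit_quotient_mk_iff (I := J) ⟨2, hJ⟩).mp
    have h1 : IsUnit (algebraMap A S s) := by
      rw [IsScalarTower.algebraMap_apply A A' S]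
      exact (IsLocalization.map_units A' s).map _
    have h2 := h1.map ψ
    rwa [AlgHom.commutes] at h2
  letI : Algebra A' T := (IsLocalization.lift hunit).toAlgebra
  have htower : IsScalarTower A A' T :=
    IsScalarTower.of_algebraMap_eq' (IsLocalization.lift_comp hunit).symm
  let ψ' : S →ₐ[A'] T ⧸ J :=
    { ψ.toRingHom with
      commutes' := by
        intro r
        change (ψ.toRingHom.comp (algebraMap A' S)) r = (algebraMap A' (T ⧸ J)) r
        congr 1
        refine IsLocalization.ringHom_ext M ?_
        refine RingHom.ext fun a => ?_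
        rw [RingHom.comp_apply, RingHom.comp_apply, RingHom.comp_apply,
          ← IsScalarTower.algebraMap_apply A A' S, ← IsScalarTower.algebraMap_apply A A' (T ⧸ J)]
        exact ψ.commutes a }
  obtain ⟨χ', hχ'⟩ := h T J hJ ψ' hψ
  refine ⟨χ'.restrictScalars A, ?_⟩
  refine AlgHom.ext fun x => ?_
  exact DFunLike.congr_fun hχ' x

/-- Let B be a Noetherian A-algebra formally smooth for the discrete topologies, B → C a surjection with
kernel J, p a prime of C and q its contraction to A. Then C_p is formally smooth over A_q (A_q
discrete, C_p with the adic topology of its maximal ideal) if and only if κ(p) ⊗ J/J² → κ(p) ⊗ (C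
⊗_B Ω_{B/A}) is injective. (The equivalent variant with the q-adic topology on A_q is not stated.) -/
theorem result {A B C : Type u} [CommRing A]
    [CommRing B] [CommRing C] [Algebra A B] [Algebra B C] [Algebra A C] [IsScalarTower A B C] [IsNoetherianRing B]
    [Algebra.FormallySmooth A B] (hsurj : Function.Surjective (algebraMap B C)) (p : Ideal C) [p.IsPrime]
    [Algebra (Localization.AtPrime (p.comap (algebraMap A C))) (Localization.AtPrime p)]
    [IsScalarTower A (Localization.AtPrime (p.comap (algebraMap A C))) (Localization.AtPrime p)] :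
    CAlgX.IsAdicFormallySmooth (Localization.AtPrime (p.comap (algebraMap A C))) (Localization.AtPrime p)
        (maximalIdeal (Localization.AtPrime p)) ↔
      Function.Injective ((kerCotangentToTensor A B C).lTensor p.ResidueField) := by
  have hfin : Module.Finite B (RingHom.ker (algebraMap B C)).Cotangent := by
    have h1 : Module.Finite B (RingHom.ker (algebraMap B C)) :=
      Module.Finite.of_fg (IsNoetherian.noetherian _)
    exact Module.Finite.of_surjective _ (Ideal.toCotangent_surjective _)
  rw [← formallySmooth_atPrime_iff hsurj p]
  constructor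
  · intro h
    have h1 := adic_restrict_of_isLocalization (p.comap (algebraMap A C)).primeCompl _ h
    let φ₀ : B →ₐ[A] Localization.AtPrime p :=
      (IsScalarTower.toAlgHom A C (Localization.AtPrime p)).comp (IsScalarTower.toAlgHom A B C)
    refine formallySmooth_of_isAdicFormallySmooth_of_algHom φ₀ ?_ h1
    intro s
    obtain ⟨c, t, rfl⟩ := IsLocalization.exists_mk'_eq p.primeCompl s
    obtain ⟨a, rfl⟩ := hsurj c
    obtain ⟨m, hm⟩ := hsurj t
    refine ⟨a, m, ?_, ?_⟩
    · change IsUnit (algebraMap C (Localization.AtPrime p) (algebraMap B C m))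
      rw [hm]
      exact IsLocalization.map_units _ t
    · change _ * algebraMap C (Localization.AtPrime p) (algebraMap B C m) =
        algebraMap C (Localization.AtPrime p) (algebraMap B C a)
      rw [hm]
      exact IsLocalization.mk'_spec _ _ t
  · intro h
    have h1 : Algebra.FormallySmooth (Localization.AtPrime (p.comap (algebraMap A C)))
        (Localization.AtPrime p) :=
      Algebra.FormallySmooth.localization_base (p.comap (algebraMap A C)).primeCompl
    exact adic_of_formallySmooth _

end Groth.Agent.S4606
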