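import Groth.Statements.S4607
import Mathlib.RingTheory.Spectrum.Prime.RingHom
import Mathlib.RingTheory.Flat.Basic
import Mathlib.RingTheory.TensorProduct.Maps

set_option autoImplicit false
universe u
open TensorProduct
open EGA41

namespace Groth.Agent.S4607

/-- First assertion, case of two factors: for A-algebras A' and A'' the image of Spec(A' ⊗_A A'') in
Spec A is the intersection of the images of Spec A' and Spec A''. -/
theorem result {A A' A'' : Type u} [CommRing A] [CommRing A'] [CommRing A'']
    [Algebra A A'] [Algebra A A''] :
    Set.range (PrimeSpectrum.comap (algebraMap A (A' ⊗[A] A''))) =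
      Set.range (PrimeSpectrum.comap (algebraMap A A')) ∩ Set.range (PrimeSpectrum.comap (algebraMap A A'')) := by
  ext p
  constructor
  · rintro ⟨q, rfl⟩
    constructor
    · refine ⟨PrimeSpectrum.comap (Algebra.TensorProduct.includeLeft (R := A) (S := A)
        (A := A') (B := A'')).toRingHom q, ?_⟩
      rw [← PrimeSpectrum.comap_comp_apply]
      congr 1
    · refine ⟨PrimeSpectrum.comap (Algebra.TensorProduct.includeRight (R := A)
        (A := A') (B := A'')).toRingHom q, ?_⟩
      rw [← PrimeSpectrum.comap_comp_apply]
      congr 1
      ext a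
      simp
  · rintro ⟨h1, h2⟩
    rw [← PrimeSpectrum.nontrivial_iff_mem_rangeComap] at h1 h2 ⊢
    let k := p.asIdeal.ResidueField
    have h3 : Nontrivial ((k ⊗[A] A') ⊗[k] (k ⊗[A] A'')) :=
      Algebra.TensorProduct.nontrivial_of_algebraMap_injective_of_flat_left _ _
        (h := (algebraMap k (k ⊗[A] A'')).injective)
    let e1 := Algebra.TensorProduct.cancelBaseChange A k k (k ⊗[A] A') A''
    let e2 := Algebra.TensorProduct.assoc A A k k A' A''
    exact (e1.toEquiv.trans e2.toEquiv).symm.nontrivial

end Groth.Agent.S4607
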