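import Groth.Statements.S4608

set_option autoImplicit false
universe u
open AlgebraicGeometry CategoryTheory CategoryTheory.Limits
open EGA41

namespace Groth.Agent.S4608

theorem isClosedEmbedding_inl (X Y : Scheme.{u}) :
    Topology.IsClosedEmbedding (coprod.inl : X ⟶ X ⨿ Y) := by
  refine ⟨(coprod.inl : X ⟶ X ⨿ Y).isOpenEmbedding.isEmbedding, ?_⟩
  have h := isCompl_range_inl_inr X Y
  have : Set.range (coprod.inl : X ⟶ X ⨿ Y) = (Set.range (coprod.inr : Y ⟶ X ⨿ Y))ᶜ :=
    h.eq_compl
  rw [this]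
  exact (coprod.inr : Y ⟶ X ⨿ Y).isOpenEmbedding.isOpen_range.isClosed_compl

theorem isClosedEmbedding_inr (X Y : Scheme.{u}) :
    Topology.IsClosedEmbedding (coprod.inr : Y ⟶ X ⨿ Y) := by
  refine ⟨(coprod.inr : Y ⟶ X ⨿ Y).isOpenEmbedding.isEmbedding, ?_⟩
  have h := isCompl_range_inl_inr X Y
  have : Set.range (coprod.inr : Y ⟶ X ⨿ Y) = (Set.range (coprod.inl : X ⟶ X ⨿ Y))ᶜ :=
    h.symm.eq_compl
  rw [this]
  exact (coprod.inl : X ⟶ X ⨿ Y).isOpenEmbedding.isOpen_range.isClosed_compl

/-- A morphism from a disjoint union X' ⨿ X'' → Y is quasi-compact if and only if its two components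
are. -/
theorem result {X' X'' Y : Scheme.{u}} (f' : X' ⟶ Y) (f'' : X'' ⟶ Y) :
    QuasiCompact (coprod.desc f' f'') ↔ QuasiCompact f' ∧ QuasiCompact f'' := by
  have e1 : ∀ x, (coprod.desc f' f'') ((coprod.inl : X' ⟶ X' ⨿ X'') x) = f' x := fun x => by
    rw [← Scheme.Hom.comp_apply, coprod.inl_desc]
  have e2 : ∀ x, (coprod.desc f' f'') ((coprod.inr : X'' ⟶ X' ⨿ X'') x) = f'' x := fun x => by
    rw [← Scheme.Hom.comp_apply, coprod.inr_desc]
  constructor
  · intro h
    constructor
    · constructor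
      intro U hU hc
      have h1 := h.isCompact_preimage U hU hc
      have h2 := (isClosedEmbedding_inl X' X'').isCompact_preimage h1
      have : (coprod.inl : X' ⟶ X' ⨿ X'') ⁻¹' ((coprod.desc f' f'') ⁻¹' U) = f' ⁻¹' U := by
        ext x; simp [e1]
      rwa [this] at h2
    · constructor
      intro U hU hc
      have h1 := h.isCompact_preimage U hU hc
      have h2 := (isClosedEmbedding_inr X' X'').isCompact_preimage h1
      have : (coprod.inr : X'' ⟶ X' ⨿ X'') ⁻¹' ((coprod.desc f' f'') ⁻¹' U) = f'' ⁻¹' U := by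
        ext x; simp [e2]
      rwa [this] at h2
  · rintro ⟨h', h''⟩
    constructor
    intro U hU hc
    have h1 := (h'.isCompact_preimage U hU hc).image (coprod.inl : X' ⟶ X' ⨿ X'').continuous
    have h2 := (h''.isCompact_preimage U hU hc).image (coprod.inr : X'' ⟶ X' ⨿ X'').continuous
    have : (coprod.desc f' f'') ⁻¹' U = (coprod.inl : X' ⟶ X' ⨿ X'') '' (f' ⁻¹' U) ∪
        (coprod.inr : X'' ⟶ X' ⨿ X'') '' (f'' ⁻¹' U) := by
      ext z
      obtain ⟨(x | x), rfl⟩ := (coprodMk X' X'').surjective z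
      · simp only [coprodMk_inl, Set.mem_preimage, e1, Set.mem_union, Set.mem_image]
        constructor
        · intro hx; exact Or.inl ⟨x, hx, rfl⟩
        · rintro (⟨y, hy, hxy⟩ | ⟨y, hy, hxy⟩)
          · have := (coprod.inl : X' ⟶ X' ⨿ X'').isOpenEmbedding.injective hxy
            rwa [← this]
          · exact absurd hxy (inr_ne_inl _ _ _ _)
      · simp only [coprodMk_inr, Set.mem_preimage, e2, Set.mem_union, Set.mem_image]
        constructor
        · intro hx; exact Or.inr ⟨x, hx, rfl⟩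
        · rintro (⟨y, hy, hxy⟩ | ⟨y, hy, hxy⟩)
          · exact absurd hxy (inl_ne_inr _ _ _ _)
          · have := (coprod.inr : X'' ⟶ X' ⨿ X'').isOpenEmbedding.injective hxy
            rwa [← this]
    rw [this]
    exact h1.union h2

end Groth.Agent.S4608
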