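import Groth.Statements.S4609
import Groth.Agent.S4608

set_option autoImplicit false
universe u
open AlgebraicGeometry CategoryTheory CategoryTheory.Limits
open EGA41

namespace Groth.Agent.S4609

theorem qs_iff {X Y : Scheme.{u}} (f : X ⟶ Y) :
    QuasiSeparated f ↔ ∀ U : Y.Opens, IsAffineOpen U → IsQuasiSeparated (f ⁻¹ᵁ U : Set X) := by
  constructor
  · intro h U hU
    exact f.isQuasiSeparated_preimage hU.isQuasiSeparated
  · intro h
    rw [HasAffineProperty.eq_targetAffineLocally (P := @QuasiSeparated)]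
    intro U
    exact (isQuasiSeparated_iff_quasiSeparatedSpace _ (f ⁻¹ᵁ U.1).2).mp (h U.1 U.2)

/-- A morphism from a disjoint union X' ⨿ X'' → Y is quasi-separated if and only if its two components
are. -/
theorem result {X' X'' Y : Scheme.{u}} (f' : X' ⟶ Y) (f'' : X'' ⟶ Y) :
    QuasiSeparated (coprod.desc f' f'') ↔ QuasiSeparated f' ∧ QuasiSeparated f'' := by
  constructor
  · intro h
    constructor
    · have : QuasiSeparated ((coprod.inl : X' ⟶ X' ⨿ X'') ≫ coprod.desc f' f'') := inferInstance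
      rwa [coprod.inl_desc] at this
    · have : QuasiSeparated ((coprod.inr : X'' ⟶ X' ⨿ X'') ≫ coprod.desc f' f'') := inferInstance
      rwa [coprod.inr_desc] at this
  · rintro ⟨h', h''⟩
    rw [qs_iff] at h' h'' ⊢
    intro U hU V W hV hVo hVc hW hWo hWc
    have e1 : ∀ x, (coprod.desc f' f'') ((coprod.inl : X' ⟶ X' ⨿ X'') x) = f' x := fun x => by
      rw [← Scheme.Hom.comp_apply, coprod.inl_desc]
    have e2 : ∀ x, (coprod.desc f' f'') ((coprod.inr : X'' ⟶ X' ⨿ X'') x) = f'' x := fun x => by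
      rw [← Scheme.Hom.comp_apply, coprod.inr_desc]
    have hl := Groth.Agent.S4608.isClosedEmbedding_inl X' X''
    have hr := Groth.Agent.S4608.isClosedEmbedding_inr X' X''
    have c1 : IsCompact ((coprod.inl : X' ⟶ X' ⨿ X'') ⁻¹' V ∩ (coprod.inl : X' ⟶ X' ⨿ X'') ⁻¹' W) := by
      refine h' U hU _ _ ?_ (hVo.preimage (coprod.inl : X' ⟶ X' ⨿ X'').continuous)
        (hl.isCompact_preimage hVc) ?_ (hWo.preimage (coprod.inl : X' ⟶ X' ⨿ X'').continuous)
        (hl.isCompact_preimage hWc)
      · intro x hx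
        have := hV hx
        simpa [e1] using this
      · intro x hx
        have := hW hx
        simpa [e1] using this
    have c2 : IsCompact ((coprod.inr : X'' ⟶ X' ⨿ X'') ⁻¹' V ∩ (coprod.inr : X'' ⟶ X' ⨿ X'') ⁻¹' W) := by
      refine h'' U hU _ _ ?_ (hVo.preimage (coprod.inr : X'' ⟶ X' ⨿ X'').continuous)
        (hr.isCompact_preimage hVc) ?_ (hWo.preimage (coprod.inr : X'' ⟶ X' ⨿ X'').continuous)
        (hr.isCompact_preimage hWc)
      · intro x hx
        have := hV hx
        simpa [e2] using this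
      · intro x hx
        have := hW hx
        simpa [e2] using this
    have : V ∩ W = (coprod.inl : X' ⟶ X' ⨿ X'') ''
          ((coprod.inl : X' ⟶ X' ⨿ X'') ⁻¹' V ∩ (coprod.inl : X' ⟶ X' ⨿ X'') ⁻¹' W) ∪
        (coprod.inr : X'' ⟶ X' ⨿ X'') ''
          ((coprod.inr : X'' ⟶ X' ⨿ X'') ⁻¹' V ∩ (coprod.inr : X'' ⟶ X' ⨿ X'') ⁻¹' W) := by
      ext z
      obtain ⟨(x | x), rfl⟩ := (coprodMk X' X'').surjective z
      · simp only [coprodMk_inl, Set.mem_inter_iff, Set.mem_union, Set.mem_image, Set.mem_preimage]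
        constructor
        · intro hx; exact Or.inl ⟨x, hx, rfl⟩
        · rintro (⟨y, hy, hxy⟩ | ⟨y, hy, hxy⟩)
          · rwa [← hxy]
          · exact absurd hxy (inr_ne_inl _ _ _ _)
      · simp only [coprodMk_inr, Set.mem_inter_iff, Set.mem_union, Set.mem_image, Set.mem_preimage]
        constructor
        · intro hx; exact Or.inr ⟨x, hx, rfl⟩
        · rintro (⟨y, hy, hxy⟩ | ⟨y, hy, hxy⟩)
          · exact absurd hxy (inl_ne_inr _ _ _ _)
          · rwa [← hxy]
    rw [this]
    exact (c1.image (coprod.inl : X' ⟶ X' ⨿ X'').continuous).union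
      (c2.image (coprod.inr : X'' ⟶ X' ⨿ X'').continuous)

end Groth.Agent.S4609
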