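import Groth.Statements.S4610
import Groth.Agent.Lib.Helper91.GroebnerStd

set_option autoImplicit false
universe u
open EGA41

namespace Groth.Agent.S4610

/-- Let A be a nonzero ring and F_1, …, F_r monic one-variable polynomials of degrees d_1, …, d_r; then
A[T_1, …, T_r]/(F_1(T_1), …, F_r(T_r)) is a free A-module of rank ∏ d_i. (The published statement
assumes A local with maximal ideal of square zero and A' local, which this assertion does not use;
its bound [K' : K] ≤ d and part (ii) are not stated.) -/
theorem result {A : Type u} [CommRing A] [Nontrivial A]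
    {r : ℕ} (F : Fin r → Polynomial A) (hF : ∀ i, (F i).Monic) :
    Module.Free A (MvPolynomial (Fin r) A ⧸ Ideal.span (Set.range fun i => Polynomial.aeval (MvPolynomial.X i : MvPolynomial (Fin r) A) (F i))) ∧
      Module.finrank A (MvPolynomial (Fin r) A ⧸ Ideal.span (Set.range fun i => Polynomial.aeval (MvPolynomial.X i : MvPolynomial (Fin r) A) (F i))) =
        Finset.univ.prod fun i => (F i).natDegree := by
  classical
  open MvPolynomial Groth.Agent.Lib.Helper91.Groebner in
  -- data
  let G : Fin r → MvPolynomial (Fin r) A := fun i => Polynomial.aeval (X i : MvPolynomial (Fin r) A) (F i)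
  let μ : Fin r → (Fin r →₀ ℕ) := fun i => Finsupp.single i (F i).natDegree
  let rr : Fin r → MvPolynomial (Fin r) A := fun i =>
    ∑ k ∈ Finset.range (F i).natDegree, monomial (Finsupp.single i k) ((F i).coeff k)
  have hG : ∀ i, G i = monomial (μ i) 1 + rr i := by
    intro i
    show Polynomial.aeval (X i : MvPolynomial (Fin r) A) (F i) = _
    rw [Polynomial.aeval_eq_sum_range, Finset.sum_range_succ, add_comm]
    congr 1
    · have h1 : (F i).coeff (F i).natDegree = 1 := (hF i).coeff_natDegree
      rw [h1, one_smul, X_pow_eq_monomial]
    · refine Finset.sum_congr rfl fun k _ => ?_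
      rw [X_pow_eq_monomial, smul_monomial, smul_eq_mul, mul_one]
  have hr : ∀ i, ∀ ν ∈ (rr i).support,
      (MonomialOrder.lex : MonomialOrder (Fin r)).toSyn ν < MonomialOrder.lex.toSyn (μ i) := by
    intro i ν hν
    have h1 := MvPolynomial.support_sum hν
    rw [Finset.mem_biUnion] at h1
    obtain ⟨k, hk, hνk⟩ := h1
    have h2 := MvPolynomial.support_monomial_subset hνk
    rw [Finset.mem_singleton] at h2
    rw [Finset.mem_range] at hk
    subst h2
    have hle : Finsupp.single i k ≤ μ i := by
      show Finsupp.single i k ≤ Finsupp.single i (F i).natDegree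
      exact Finsupp.single_mono hk.le
    have hne : Finsupp.single i k ≠ μ i := by
      intro h
      have := DFunLike.congr_fun h i
      simp only [μ, Finsupp.single_eq_same] at this
      omega
    refine lt_of_le_of_ne (MonomialOrder.lex.toSyn_monotone hle) ?_
    intro h
    exact hne (MonomialOrder.lex.toSyn.injective h)
  have hcop : ∀ i j, i ≠ j → ∀ s, μ i s = 0 ∨ μ j s = 0 := by
    intro i j hij s
    by_cases hs : s = i
    · right
      subst hs
      show Finsupp.single j _ s = 0
      rw [Finsupp.single_apply, if_neg (fun h => hij h.symm)]
    · left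
      show Finsupp.single i _ s = 0
      rw [Finsupp.single_apply, if_neg (fun h => hs h.symm)]
  let D := ofCoprime' MonomialOrder.lex G rr μ hG hr hcop
  have hI : Ideal.span (Set.range fun i => Polynomial.aeval (X i : MvPolynomial (Fin r) A) (F i)) =
      D.ideal := rfl
  rw [hI]
  refine ⟨D.free_quotient, ?_⟩
  rw [Module.finrank_eq_nat_card_basis D.stdBasis]
  have e : D.Std ≃ ((i : Fin r) → Fin (F i).natDegree) :=
    { toFun := fun ν i => ⟨ν.1 i, by
        have h := ν.2 i
        have h' : ¬ (Finsupp.single i (F i).natDegree ≤ ν.1) := h
        rw [Finsupp.single_le_iff] at h'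
        by_contra hcon
        push Not at hcon
        exact h' hcon⟩
      invFun := fun f => ⟨Finsupp.equivFunOnFinite.symm (fun i => (f i : ℕ)), by
        intro i h
        have h' : Finsupp.single i (F i).natDegree ≤
            Finsupp.equivFunOnFinite.symm (fun i => (f i : ℕ)) := h
        have := h' i
        simp only [Finsupp.single_eq_same, Finsupp.equivFunOnFinite_symm_apply_apply] at this
        exact absurd (f i).isLt (by omega)⟩
      left_inv := by
        intro ν
        apply Subtype.ext
        ext i
        simp
      right_inv := by
        intro f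
        funext i
        apply Fin.ext
        simp }
  rw [Nat.card_congr e, Nat.card_pi]
  simp

end Groth.Agent.S4610
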