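import Groth.Statements.S4611
-- import your own Groth.Agent.* helpers here

set_option autoImplicit false
universe u
open EGA41

namespace Groth.Agent.S4611

/-- A local algebra essentially of finite type over a ring A is A-isomorphic to a quotient of a
localization A[T_1, …, T_n]_q of a polynomial algebra at a prime ideal q; stated as the existence of
a surjective A-algebra map from such a localization. -/
theorem result {A B : Type u} [CommRing A]
    [CommRing B] [IsLocalRing B] [Algebra A B] [Algebra.EssFiniteType A B] :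
    ∃ (n : ℕ) (q : Ideal (MvPolynomial (Fin n) A)) (_ : q.IsPrime)
      (φ : Localization.AtPrime q →ₐ[A] B), Function.Surjective φ := by
  classical
  obtain ⟨σ, hσ⟩ := (Algebra.essFiniteType_iff A B).mp inferInstance
  let n := σ.card
  let e : Fin n ≃ σ := σ.equivFin.symm
  let ψ : MvPolynomial (Fin n) A →ₐ[A] B := MvPolynomial.aeval (fun i => (e i : B))
  have hrange : ψ.range = Algebra.adjoin A (σ : Set B) := by
    rw [← Algebra.adjoin_range_eq_range_aeval]
    congr 1
    ext x
    constructor
    · rintro ⟨i, rfl⟩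
      exact (e i).2
    · intro hx
      exact ⟨e.symm ⟨x, hx⟩, by simp⟩
  let q : Ideal (MvPolynomial (Fin n) A) := (IsLocalRing.maximalIdeal B).comap ψ.toRingHom
  have hq : q.IsPrime := Ideal.comap_isPrime _ _
  have hunit : ∀ y : q.primeCompl, IsUnit (ψ y) := by
    intro y
    by_contra h
    exact y.2 ((IsLocalRing.mem_maximalIdeal _).mpr h)
  refine ⟨n, q, hq, IsLocalization.liftAlgHom (M := q.primeCompl)
    (S := Localization.AtPrime q) (f := ψ) hunit, ?_⟩
  intro b
  obtain ⟨t, ht, htu, hbt⟩ := hσ b
  rw [← hrange] at ht hbt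
  obtain ⟨pt, rfl⟩ := ht
  obtain ⟨pb, hpb⟩ := hbt
  have hpt : pt ∈ q.primeCompl := by
    intro hmem
    exact (IsLocalRing.mem_maximalIdeal _).mp hmem htu
  refine ⟨IsLocalization.mk' _ pb ⟨pt, hpt⟩, ?_⟩
  rw [IsLocalization.liftAlgHom_apply, IsLocalization.lift_mk'_spec]
  simp only at hpb ⊢
  rw [hpb, mul_comm]

end Groth.Agent.S4611
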