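import Groth.Statements.S4617
import Mathlib
import Groth.Agent.Lib.Helper51.GeomCard

set_option autoImplicit false
open CategoryTheory AlgebraicGeometry
universe u
open FBase

namespace Groth.Agent.S4617

/-- Let X be a scheme over a field k, K any extension field of k and Ω an algebraically closed extension
field of k. Then the set of irreducible components of X ⊗_k K has cardinality at most that of the
set of irreducible components of X ⊗_k Ω. In particular the cardinality of the set of irreducible
components of X ⊗_k Ω does not depend on the algebraically closed extension Ω. -/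
theorem result {k K Ω : Type u} [Field k] [Field K] [Algebra k K]
    [Field Ω] [Algebra k Ω] [IsAlgClosed Ω] {X : Scheme.{u}} (f : X ⟶ Spec (CommRingCat.of k)) :
    Cardinal.mk ↥(irreducibleComponents ↥(FBase.bc f K)) ≤ Cardinal.mk ↥(irreducibleComponents ↥(FBase.bc f Ω)) := by
  unfold FBase.bc
  obtain ⟨E, _, _, Y, a, b, s, ha, hfa, sq⟩ :=
    Groth.Agent.Lib.Helper51.exists_common_bc (K := K) (Ω := Ω) f
  haveI h0 := Groth.Agent.Lib.Helper51.geometricallyIrreducible_specMap_of_isSepClosed Ω E
  haveI : GeometricallyIrreducible b := MorphismProperty.of_isPullback sq.flip h0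
  have hb : IsOpenMap b := by
    haveI : UniversallyOpen b :=
      MorphismProperty.of_isPullback (P := @UniversallyOpen) sq.flip inferInstance
    exact b.isOpenMap
  have e := b.irreducibleComponentsEquiv hb
  haveI := hfa
  calc Cardinal.mk ↥(irreducibleComponents
        ↥(Limits.pullback f (Spec.map (CommRingCat.ofHom (algebraMap k K)))))
      ≤ Cardinal.mk ↥(irreducibleComponents ↥Y) :=
        Groth.Agent.Lib.Helper51.mk_irreducibleComponents_le a.continuous
          (Flat.generalizingMap a) ha.surj
    _ = Cardinal.mk ↥(irreducibleComponents
        ↥(Limits.pullback f (Spec.map (CommRingCat.ofHom (algebraMap k Ω))))) :=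
      Cardinal.mk_congr e

end Groth.Agent.S4617
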