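import Groth.Agent.Lib.Helper22.GeomBC
import Mathlib.AlgebraicGeometry.Morphisms.UniversallyInjective
import Mathlib.AlgebraicGeometry.Morphisms.UniversallyOpen
import Mathlib.FieldTheory.PurelyInseparable.Basic
import Groth.Statements.S4622
-- import your own Groth.Agent.* helpers here

set_option autoImplicit false
open CategoryTheory AlgebraicGeometry
universe u
open FBase

namespace Groth.Agent.S4622

theorem universallyInjective_of_isPurelyInseparable (k k' : Type u) [Field k] [Field k']
    [Algebra k k'] [IsPurelyInseparable k k'] :
    UniversallyInjective (Spec.map (CommRingCat.ofHom (algebraMap k k'))) := by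
  have h := (tfae_universallyInjective (Spec.map (CommRingCat.ofHom (algebraMap k k')))).out 0 1
  rw [h]
  intro K _ g₁ g₂ hg
  obtain ⟨φ₁, rfl⟩ := Spec.map_surjective g₁
  obtain ⟨φ₂, rfl⟩ := Spec.map_surjective g₂
  simp only [← Spec.map_comp] at hg
  have h2 := Spec.map_injective hg
  have h3 : φ₁.hom.comp (algebraMap k k') = φ₂.hom.comp (algebraMap k k') := by
    have := congrArg CommRingCat.Hom.hom h2
    simpa using this
  have h4 : φ₁.hom = φ₂.hom := IsPurelyInseparable.injective_comp_algebraMap k k' K h3
  congr 1
  exact CommRingCat.hom_ext h4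


/-- Let k be a separably closed field, k' an algebraic closure of k and X a scheme over k. Then the
projection X ⊗_k k' → X is a universal homeomorphism. -/
theorem result {k k' : Type u} [Field k] [IsSepClosed k] [Field k'] [Algebra k k']
    [IsAlgClosure k k'] {X : Scheme.{u}} (f : X ⟶ Spec (CommRingCat.of k)) :
    FlatMor.IsUnivHomeo (FBase.bcπ f k') := by
  have : Algebra.IsAlgebraic k k' := IsAlgClosure.isAlgebraic
  have : IsPurelyInseparable k k' := inferInstance
  let s := Spec.map (CommRingCat.ofHom (algebraMap k k'))
  have hs1 : UniversallyInjective s := universallyInjective_of_isPurelyInseparable k k'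
  have hs2 : Surjective s := Groth.Agent.Lib.Helper22.GeomBC.surjective_Spec_map_field _
  have hs3 : UniversallyOpen s := inferInstance
  have hπ1 : UniversallyInjective (FBase.bcπ f k') :=
    MorphismProperty.pullback_fst (P := @UniversallyInjective) _ _ hs1
  have hπ2 : Surjective (FBase.bcπ f k') :=
    MorphismProperty.pullback_fst (P := @Surjective) _ _ hs2
  have hπ3 : UniversallyOpen (FBase.bcπ f k') :=
    MorphismProperty.pullback_fst (P := @UniversallyOpen) _ _ hs3
  intro X' Y' i₁ i₂ g' hpb
  have h1 : UniversallyInjective g' := MorphismProperty.of_isPullback (P := @UniversallyInjective) hpb.flip hπ1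
  have h2 : Surjective g' := MorphismProperty.of_isPullback (P := @Surjective) hpb.flip hπ2
  have h3 : UniversallyOpen g' := MorphismProperty.of_isPullback (P := @UniversallyOpen) hpb.flip hπ3
  exact ⟨g'.continuous, g'.isOpenMap, g'.injective, g'.surjective⟩


end Groth.Agent.S4622
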