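import Mathlib.AlgebraicGeometry.PullbackCarrier
import Groth.Statements.S4625
-- import your own Groth.Agent.* helpers here

set_option autoImplicit false
open CategoryTheory AlgebraicGeometry
universe u
open FBase

namespace Groth.Agent.S4625

open TensorProduct in
/-- a common field extension of two field extensions -/
theorem exists_compositum (k K L : Type u) [Field k] [Field K] [Field L] [Algebra k K] [Algebra k L] :
    ∃ (Ω : Type u) (_ : Field Ω) (iK : K →+* Ω) (iL : L →+* Ω),
      iK.comp (algebraMap k K) = iL.comp (algebraMap k L) := by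
  obtain ⟨m, hm⟩ := Ideal.exists_maximal (K ⊗[k] L)
  let _ : Field ((K ⊗[k] L) ⧸ m) := Ideal.Quotient.field m
  refine ⟨(K ⊗[k] L) ⧸ m, inferInstance,
    (Ideal.Quotient.mk m).comp (Algebra.TensorProduct.includeLeft (R := k) (S := k) (A := K) (B := L)).toRingHom,
    (Ideal.Quotient.mk m).comp (Algebra.TensorProduct.includeRight (R := k) (A := K) (B := L)).toRingHom, ?_⟩
  ext x
  simp only [RingHom.coe_comp, Function.comp_apply, AlgHom.toRingHom_eq_coe, RingHom.coe_coe,
    Algebra.TensorProduct.includeLeft_apply, Algebra.TensorProduct.includeRight_apply]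
  congr 1
  rw [Algebra.algebraMap_eq_smul_one, Algebra.algebraMap_eq_smul_one, TensorProduct.smul_tmul]

theorem surjective_Spec_map_field {L Ω : Type u} [Field L] [Field Ω] (φ : L →+* Ω) :
    Surjective (Spec.map (CommRingCat.ofHom φ)) := by
  constructor
  intro x
  obtain ⟨y⟩ : Nonempty ↥(Spec (CommRingCat.of Ω)) := inferInstance
  exact ⟨y, Subsingleton.elim _ _⟩


/-- Let X be a scheme over a field k and K an extension field of k. Then X is geometrically connected
over k if and only if X ⊗_k K, with its structure of K-scheme, is geometrically connected over K. -/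
theorem result {k K : Type u} [Field k] [Field K] [Algebra k K]
    {X : Scheme.{u}} (f : X ⟶ Spec (CommRingCat.of k)) :
    GeometricallyConnected f ↔ GeometricallyConnected (FBase.bcStr f K) := by
  constructor
  · intro h
    exact MorphismProperty.pullback_snd (P := @GeometricallyConnected) _ _ h
  · intro h
    refine ⟨geometrically_iff_of_isClosedUnderIsomorphisms.mpr fun L _ y ↦ ?_⟩
    obtain ⟨φ, rfl⟩ := Spec.map_surjective y
    let _ : Algebra k L := φ.hom.toAlgebra
    obtain ⟨Ω, _, iK, iL, hcomp⟩ := exists_compositum k K L
    let sk := Spec.map (CommRingCat.ofHom (algebraMap k K))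
    let a := Spec.map (CommRingCat.ofHom iK)
    let b := Spec.map (CommRingCat.ofHom iL)
    have hab : a ≫ sk = b ≫ Spec.map φ := by
      simp only [a, b, sk, ← Spec.map_comp]
      congr 1
      ext x
      exact (RingHom.congr_fun hcomp x)
    have hW : ConnectedSpace ↥(Limits.pullback (FBase.bcStr f K) a) :=
      pullback_of_geometrically
        (GeometricallyConnected.geometrically_connectedSpace (f := FBase.bcStr f K)) Ω a
    let e₁ : Limits.pullback (FBase.bcStr f K) a ≅ Limits.pullback f (a ≫ sk) :=
      Limits.pullbackLeftPullbackSndIso f sk a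
    let e₂ : Limits.pullback f (a ≫ sk) ≅ Limits.pullback f (b ≫ Spec.map φ) :=
      Limits.pullback.congrHom rfl hab
    let e₃ : Limits.pullback (Limits.pullback.snd f (Spec.map φ)) b ≅
        Limits.pullback f (b ≫ Spec.map φ) :=
      Limits.pullbackLeftPullbackSndIso f (Spec.map φ) b
    let e := e₁ ≪≫ e₂ ≪≫ e₃.symm
    have hc' : ConnectedSpace ↥(Limits.pullback (Limits.pullback.snd f (Spec.map φ)) b) :=
      e.hom.homeomorph.surjective.connectedSpace e.hom.homeomorph.continuous
    have hb : Surjective b := surjective_Spec_map_field iL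
    let i := Limits.pullback.fst (Limits.pullback.snd f (Spec.map φ)) b
    have hi : Surjective i := inferInstance
    exact i.surjective.connectedSpace i.continuous


end Groth.Agent.S4625
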