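import Groth.Agent.Lib.Helper22.GeomBC
import Groth.Statements.S4627
-- import your own Groth.Agent.* helpers here

set_option autoImplicit false
open CategoryTheory AlgebraicGeometry
universe u
open FBase

namespace Groth.Agent.S4627


/-- Let X be a scheme over a field k and K an extension field of k. Then X is geometrically integral
over k if and only if X ⊗_k K, with its structure of K-scheme, is geometrically integral over K. -/
theorem result {k K : Type u} [Field k] [Field K] [Algebra k K]
    {X : Scheme.{u}} (f : X ⟶ Spec (CommRingCat.of k)) :
    GeometricallyIntegral f ↔ GeometricallyIntegral (FBase.bcStr f K) := by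
  constructor
  · intro h
    exact ⟨Groth.Agent.Lib.Helper22.GeomBC.geometrically_bcStr _ f h.1⟩
  · intro h
    have : ObjectProperty.IsClosedUnderIsomorphisms (C := Scheme.{u}) (IsIntegral ·) :=
      ⟨fun {Y Z} e (hY : IsIntegral Y) =>
        Groth.Agent.Lib.Helper22.GeomBC.isIntegral_of_flat_of_surjective e.hom inferInstance
          inferInstance hY⟩
    exact ⟨Groth.Agent.Lib.Helper22.GeomBC.geometrically_of_bcStr _
      (fun g hs hf hY => Groth.Agent.Lib.Helper22.GeomBC.isIntegral_of_flat_of_surjective g hs hf hY)
      f h.1⟩


end Groth.Agent.S4627
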