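import Groth.Statements.S4629
import Mathlib.AlgebraicGeometry.Noetherian
import Mathlib.AlgebraicGeometry.Morphisms.Flat
import Mathlib.RingTheory.FiniteType

set_option autoImplicit false
open CategoryTheory AlgebraicGeometry
universe u
open FBase

namespace Groth.Agent.S4629

open CategoryTheory.Limits TensorProduct

theorem flat_of_field {k : Type u} [Field k] {X : Scheme.{u}} (f : X ⟶ Spec (CommRingCat.of k)) :
    Flat f := by
  rw [IsZariskiLocalAtSource.iff_of_openCover (P := @Flat) X.affineCover]
  intro i
  obtain ⟨φ, hφ⟩ := Spec.map_surjective (X.affineCover.f i ≫ f)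
  have : Flat (Spec.map φ) := by
    rw [HasRingHomProperty.Spec_iff (P := @Flat)]
    exact RingHom.Flat.of_isField (Field.toIsField k) _
  exact hφ ▸ this

theorem isReduced_tensorProduct_of_geometricallyReduced (k A B : Type u) [Field k] [CommRing A]
    [CommRing B] [Algebra k A] [Algebra k B]
    [GeometricallyReduced (Spec.map (CommRingCat.ofHom (algebraMap k A)))] [IsReduced B] :
    IsReduced (A ⊗[k] B) := by
  apply IsReduced.tensorProduct_of_flat_of_forall_fg
  intro B' hB'
  have : Algebra.FiniteType k B' := (Subalgebra.fg_iff_finiteType B').mp hB'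
  have : IsNoetherianRing B' := Algebra.FiniteType.isNoetherianRing k B'
  have : IsReduced B' := isReduced_of_injective B'.val Subtype.val_injective
  have hflat : Flat (Spec.map (CommRingCat.ofHom (algebraMap k A))) := flat_of_field _
  have h1 : AlgebraicGeometry.IsReduced (Spec (CommRingCat.of B')) := inferInstance
  have h2 : IsLocallyNoetherian (Spec (CommRingCat.of B')) := inferInstance
  have h : AlgebraicGeometry.IsReduced (pullback (Spec.map (CommRingCat.ofHom (algebraMap k A)))
      (Spec.map (CommRingCat.ofHom (algebraMap k B')))) := inferInstance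
  have := isReduced_of_isOpenImmersion (pullbackSpecIso k A B').inv
  exact (affine_isReduced_iff _).mp this

theorem isReduced_pullback_Spec {k : Type u} [Field k] {A B : CommRingCat.{u}}
    (φ : Spec A ⟶ Spec (CommRingCat.of k)) (ψ : Spec B ⟶ Spec (CommRingCat.of k))
    [GeometricallyReduced φ] [AlgebraicGeometry.IsReduced (Spec B)] :
    AlgebraicGeometry.IsReduced (pullback φ ψ) := by
  obtain ⟨φ', rfl⟩ := Spec.map_surjective φ
  obtain ⟨ψ', rfl⟩ := Spec.map_surjective ψ
  algebraize [φ'.hom, ψ'.hom]
  have : IsReduced B := (affine_isReduced_iff B).mp inferInstance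
  have : GeometricallyReduced (Spec.map (CommRingCat.ofHom (algebraMap k A))) := ‹_›
  have := isReduced_tensorProduct_of_geometricallyReduced k A B
  exact isReduced_of_isOpenImmersion (pullbackSpecIso k A B).hom

theorem geometricallyReduced_comp_of_isOpenImmersion {U X S : Scheme.{u}} (ι : U ⟶ X) (f : X ⟶ S)
    [IsOpenImmersion ι] [GeometricallyReduced f] : GeometricallyReduced (ι ≫ f) := by
  refine ⟨geometrically_iff_of_isClosedUnderIsomorphisms.mpr fun K _ y => ?_⟩
  let m : pullback (ι ≫ f) y ⟶ pullback f y :=
    pullback.map _ _ _ _ ι (𝟙 _) (𝟙 _) (by simp) (by simp)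
  have : IsOpenImmersion m := inferInstance
  have : AlgebraicGeometry.IsReduced (pullback f y) :=
    pullback_of_geometrically GeometricallyReduced.geometrically_isReduced K y
  exact isReduced_of_isOpenImmersion m

theorem isReduced_pullback_of_geometricallyReduced {k : Type u} [Field k] {X Y : Scheme.{u}}
    (f : X ⟶ Spec (CommRingCat.of k)) (h : Y ⟶ Spec (CommRingCat.of k))
    [GeometricallyReduced f] [AlgebraicGeometry.IsReduced Y] :
    AlgebraicGeometry.IsReduced (pullback f h) := by
  let 𝒰 := Scheme.Pullback.openCoverOfLeftRight X.affineCover Y.affineCover f h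
  have : ∀ i, AlgebraicGeometry.IsReduced (𝒰.X i) := by
    intro ij
    have : GeometricallyReduced (X.affineCover.f ij.1 ≫ f) :=
      geometricallyReduced_comp_of_isOpenImmersion _ _
    have h2 : AlgebraicGeometry.IsReduced (Y.affineCover.X ij.2) := inferInstance
    exact @isReduced_pullback_Spec k _ _ _ (X.affineCover.f ij.1 ≫ f) (Y.affineCover.f ij.2 ≫ h)
      this h2
  exact IsReduced.of_openCover _ 𝒰

open CategoryTheory.Limits in
/-- If X and Y are schemes over a field k which are both geometrically reduced over k, then X ×_k Y is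
geometrically reduced over k. -/
theorem result {k : Type u} [Field k] {X Y : Scheme.{u}}
    (f : X ⟶ Spec (CommRingCat.of k)) (g : Y ⟶ Spec (CommRingCat.of k)) [GeometricallyReduced f]
    [GeometricallyReduced g] : GeometricallyReduced (pullback.fst f g ≫ f) := by
  refine ⟨fun K _ y Z fst snd hpb => ?_⟩
  have hYK : AlgebraicGeometry.IsReduced (pullback g y) :=
    pullback_of_geometrically GeometricallyReduced.geometrically_isReduced K y
  have hw : (fst ≫ pullback.snd f g) ≫ g = snd ≫ y := by
    rw [Category.assoc, ← pullback.condition]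
    exact hpb.w
  let q : Z ⟶ pullback g y := pullback.lift (fst ≫ pullback.snd f g) snd hw
  have hq1 : q ≫ pullback.fst g y = fst ≫ pullback.snd f g := pullback.lift_fst _ _ _
  have hq2 : q ≫ pullback.snd g y = snd := pullback.lift_snd _ _ _
  have hbig : IsPullback fst (q ≫ pullback.snd g y) (pullback.snd f g ≫ g) y := by
    rw [hq2, ← pullback.condition]
    exact hpb
  have hleft : IsPullback fst q (pullback.snd f g) (pullback.fst g y) :=
    IsPullback.of_bot hbig hq1.symm (IsPullback.of_hasPullback g y)
  have hfinal : IsPullback (fst ≫ pullback.fst f g) q f (pullback.fst g y ≫ g) :=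
    hleft.paste_horiz (IsPullback.of_hasPullback f g)
  have hred : AlgebraicGeometry.IsReduced (pullback f (pullback.fst g y ≫ g)) :=
    isReduced_pullback_of_geometricallyReduced f (pullback.fst g y ≫ g)
  exact isReduced_of_isOpenImmersion hfinal.isoPullback.hom

end Groth.Agent.S4629
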