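import Groth.Statements.S4633
import Groth.Agent.Lib.Helper15.FibreGen
import Groth.Agent.Lib.Helper15.QuasiFlatBC
import Groth.Agent.Lib.Helper64.QuasiFlat
import Groth.Agent.Lib.Helper30.GenericPoints

set_option autoImplicit false
open CategoryTheory AlgebraicGeometry
universe u
open FDesc

namespace Groth.Agent.S4633

open CategoryTheory.Limits in
/-- Let f : X → Y be a morphism such that every irreducible component of X dominates an irreducible
component of Y (the closure of its image under f is an irreducible component of Y), and let g : Y' →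
Y be quasi-flat (for instance flat). Then every irreducible component of X ×_Y Y' dominates an
irreducible component of Y'. -/
theorem result {X Y Y' : Scheme.{u}} (f : X ⟶ Y) (g : Y' ⟶ Y)
    (hf : ∀ Z ∈ irreducibleComponents ↥X, closure (⇑f '' Z) ∈ irreducibleComponents ↥Y)
    (hg : FDesc.IsQuasiFlat g) (Z' : Set ↥(pullback f g)) (hZ' : Z' ∈ irreducibleComponents ↥(pullback f g)) :
    closure (⇑(pullback.snd f g) '' Z') ∈ irreducibleComponents ↥Y' := by
  have hgen_g : GeneralizingMap ⇑g :=
    Groth.Agent.Lib.Helper64.QuasiFlat.generalizingMap_of_isQuasiFlat g hg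
  have hp : FDesc.IsQuasiFlat (pullback.fst f g) :=
    Groth.Agent.Lib.Helper15.QuasiFlatBC.isQuasiFlat_of_isPullback g (pullback.fst f g)
      (pullback.snd f g) f (IsPullback.of_hasPullback f g).flip hg
  have hgen_p : GeneralizingMap ⇑(pullback.fst f g) :=
    Groth.Agent.Lib.Helper64.QuasiFlat.generalizingMap_of_isQuasiFlat _ hp
  obtain ⟨z', hz'⟩ := QuasiSober.sober hZ'.1 (isClosed_of_mem_irreducibleComponents Z' hZ')
  have h1 : IsGenericPoint ((pullback.snd f g) z') (closure (⇑(pullback.snd f g) '' Z')) :=
    hz'.image (pullback.snd f g).continuous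
  rw [← h1.def]
  apply Groth.Agent.Lib.Helper30.closure_singleton_mem_irreducibleComponents_of_maximal
  intro y'' hy''
  have hz'max : closure {z'} ∈ irreducibleComponents ↥(pullback f g) := by
    rw [hz'.def]; exact hZ'
  have hx : closure {(pullback.fst f g) z'} ∈ irreducibleComponents ↥X :=
    Groth.Agent.Lib.Helper30.generalizingMap_image_mem_genericPoints hgen_p hz'max
  have hy : closure {f ((pullback.fst f g) z')} ∈ irreducibleComponents ↥Y := by
    have h2 := hf _ hx
    have h3 : IsGenericPoint (f ((pullback.fst f g) z'))
        (closure (⇑f '' closure {(pullback.fst f g) z'})) :=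
      (isGenericPoint_closure (x := (pullback.fst f g) z')).image f.continuous
    rw [h3.def]
    exact h2
  have hcond : f ((pullback.fst f g) z') = g ((pullback.snd f g) z') := by
    have hc : pullback.fst f g ≫ f = pullback.snd f g ≫ g := pullback.condition
    have := congrArg (fun φ : pullback f g ⟶ Y => (φ : _ → Y) z') hc
    simpa only [Scheme.Hom.comp_apply] using this
  have hgy : g y'' = g ((pullback.snd f g) z') := by
    have h4 : g y'' ⤳ g ((pullback.snd f g) z') := hy''.map g.continuous
    rw [← hcond] at h4 ⊢
    exact Groth.Agent.Lib.Helper30.eq_of_specializes_of_mem_genericPoints hy h4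
  obtain ⟨z'', hz''spec, hz''q⟩ :=
    Groth.Agent.Lib.Helper15.FibreGen.exists_generization f g z' y'' hy'' hgy
  have h5 := Groth.Agent.Lib.Helper30.eq_of_specializes_of_mem_genericPoints hz'max hz''spec
  rw [← hz''q, h5]

end Groth.Agent.S4633
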