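import Groth.Statements.S4636
import Groth.Agent.Lib.Helper29.AssNoeth

set_option autoImplicit false
open CategoryTheory AlgebraicGeometry
universe u
open AssSch

namespace Groth.Agent.S4636

open Groth.Agent.Lib.Helper29.QCohLoc

theorem exists_ass_specializes {X : Scheme.{u}} (F : X.Modules) [F.IsQuasicoherent] (x : X)
    (h : Nontrivial ↑(F.presheaf.stalk x)) : ∃ y ∈ AssSch.Ass F, y ⤳ x := by
  obtain ⟨m, hm⟩ := exists_ne (0 : F.presheaf.stalk x)
  obtain ⟨U, hU, hxU, -⟩ := exists_isAffineOpen_mem_and_subset (x := x) (U := ⊤) trivial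
  have hloc : LocAt F U := LocAt.of_isQuasicoherent F hU
  obtain ⟨a, s0, ha, hs0⟩ := exists_germ_eq_smul F hU hloc x hxU m
  have hau : IsUnit (X.presheaf.germ U x hxU a) := (Scheme.mem_basicOpen X a x hxU).mp ha
  have hs0ne : F.presheaf.germ U x hxU s0 ≠ 0 := by
    rw [hs0]
    intro h0
    exact hm (hau.smul_eq_zero.mp h0)
  obtain ⟨y, hy, hy1, hy2, -⟩ := exists_isAssPoint_specializes F hU hloc x hxU s0 hs0ne
  exact ⟨y, hy1, hy2⟩

theorem nontrivial_of_ass {X : Scheme.{u}} (F : X.Modules) (x : X) (h : x ∈ AssSch.Ass F) :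
    Nontrivial ↑(F.presheaf.stalk x) := by
  obtain ⟨m, hm⟩ := IsWeakAssPoint.ne_zero F ((isAssPoint_iff_isWeakAssPoint F x).mp h)
  exact ⟨⟨m, 0, hm⟩⟩


/-- Let X be a locally Noetherian scheme, F a coherent O_X-module and x a point of X. Then x is a
maximal associated point of F (an associated point such that every associated point specialising to
x equals x) if and only if x is the generic point of an irreducible component of Supp F, i.e. F_x ≠
0 and every point y with F_y ≠ 0 that specialises to x equals x. -/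
theorem result {X : Scheme.{u}} [IsLocallyNoetherian X] (F : X.Modules)
    (hF : Coh.IsCoh F) (x : X) :
    (x ∈ AssSch.Ass F ∧ ∀ y ∈ AssSch.Ass F, y ⤳ x → y = x) ↔
      (Nontrivial ↑(F.presheaf.stalk x) ∧ ∀ y : X, Nontrivial ↑(F.presheaf.stalk y) → y ⤳ x → y = x) := by
  have : F.IsQuasicoherent := hF.1
  constructor
  · rintro ⟨hx, hmax⟩
    refine ⟨nontrivial_of_ass F x hx, fun y hy hyx => ?_⟩
    obtain ⟨z, hz, hzy⟩ := exists_ass_specializes F y hy
    have hzx : z = x := hmax z hz (hzy.trans hyx)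
    subst hzx
    exact ((hzy.antisymm hyx).symm).eq
  · rintro ⟨hx, hmin⟩
    obtain ⟨z, hz, hzx⟩ := exists_ass_specializes F x hx
    have hzx' : z = x := hmin z (nontrivial_of_ass F z hz) hzx
    subst hzx'
    exact ⟨hz, fun y hy hyx => hmin y (nontrivial_of_ass F y hy) hyx⟩

end Groth.Agent.S4636
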