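import Groth.Statements.S4637
import Groth.Agent.Lib.Helper29.AssNoeth
import Groth.Agent.Lib.Helper29.QCohPush
import Groth.Agent.Lib.Helper21.QCohFinite
import Mathlib.RingTheory.HopkinsLevitzki
import Mathlib.RingTheory.Ideal.KrullsHeightTheorem
import Mathlib.RingTheory.Nakayama

set_option autoImplicit false
open CategoryTheory AlgebraicGeometry
universe u
open AssSch

namespace Groth.Agent.S4637

open Groth.Agent.Lib.Helper29.QCohLoc


open IsLocalRing in
theorem isFiniteLength_of_pow_smul_eq_zero {R : Type*} [CommRing R] [IsNoetherianRing R]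
    [IsLocalRing R] (N : Type*) [AddCommGroup N] [Module R N] [Module.Finite R N] (n : ℕ)
    (h : ∀ r ∈ (maximalIdeal R) ^ n, ∀ x : N, r • x = 0) : IsFiniteLength R N := by
  rw [isFiniteLength_iff_isNoetherian_isArtinian]
  refine ⟨inferInstance, ?_⟩
  set I := (maximalIdeal R) ^ (n + 1) with hI
  have hIle : I ≤ (maximalIdeal R) ^ n := Ideal.pow_le_pow_right (Nat.le_succ n)
  have hM : Module.IsTorsionBySet R N I := fun x r => h r.1 (hIle r.2) x
  let _ := hM.module
  have : IsScalarTower R (R ⧸ I) N := hM.isScalarTower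
  have : Module.Finite (R ⧸ I) N := Module.Finite.of_restrictScalars_finite R (R ⧸ I) N
  have : IsArtinianRing (R ⧸ I) := by
    apply IsLocalRing.quotient_artinian_of_mem_minimalPrimes_of_isLocalRing
    refine ⟨⟨inferInstance, Ideal.pow_le_self (Nat.succ_ne_zero n)⟩, ?_⟩
    rintro q ⟨hq, hqI⟩ -
    exact hq.le_of_pow_le hqI
  have : IsArtinian (R ⧸ I) N := inferInstance
  exact isArtinian_of_surjective_algebraMap (Ideal.Quotient.mk_surjective (I := I))

open IsLocalRing in
theorem exists_pow_smul_eq_zero_of_isFiniteLength {R : Type*} [CommRing R]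
    [IsLocalRing R] (N : Type*) [AddCommGroup N] [Module R N] (h : IsFiniteLength R N) :
    ∃ n : ℕ, ∀ r ∈ (maximalIdeal R) ^ n, ∀ x : N, r • x = 0 := by
  rw [isFiniteLength_iff_isNoetherian_isArtinian] at h
  obtain ⟨hN, hA⟩ := h
  let f : ℕ →o (Submodule R N)ᵒᵈ :=
    ⟨fun k => OrderDual.toDual ((maximalIdeal R) ^ k • (⊤ : Submodule R N)), fun a b hab =>
      Submodule.smul_mono_left (Ideal.pow_le_pow_right hab)⟩
  obtain ⟨n, hn⟩ := IsArtinian.monotone_stabilizes f
  have h1 : (maximalIdeal R) ^ n • (⊤ : Submodule R N) =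
      (maximalIdeal R) ^ (n + 1) • (⊤ : Submodule R N) := hn (n + 1) (Nat.le_succ n)
  have h2 : (maximalIdeal R) ^ n • (⊤ : Submodule R N) = ⊥ := by
    apply Submodule.eq_bot_of_le_smul_of_le_jacobson_bot (maximalIdeal R) _
      (IsNoetherian.noetherian _)
    · conv_lhs => rw [h1]
      rw [pow_succ', mul_smul]
    · exact IsLocalRing.maximalIdeal_le_jacobson _
  refine ⟨n, fun r hr x => ?_⟩
  have : r • x ∈ (maximalIdeal R) ^ n • (⊤ : Submodule R N) :=
    Submodule.smul_mem_smul hr trivial
  rw [h2] at this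
  exact this


/-- Let X be a locally Noetherian scheme, F a coherent O_X-module and x a point of X. Then x is the
generic point of an irreducible component of Supp F (F_x ≠ 0 and every point y with F_y ≠ 0 that
specialises to x equals x) if and only if F_x is a nonzero module of finite length over the local
ring O_{X,x}. -/
theorem result {X : Scheme.{u}} [IsLocallyNoetherian X] (F : X.Modules)
    (hF : Coh.IsCoh F) (x : X) :
    (Nontrivial ↑(F.presheaf.stalk x) ∧ ∀ y : X, Nontrivial ↑(F.presheaf.stalk y) → y ⤳ x → y = x) ↔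
      (Nontrivial ↑(F.presheaf.stalk x) ∧ IsFiniteLength ↑(X.presheaf.stalk x) ↑(F.presheaf.stalk x)) := by
  have : F.IsQuasicoherent := hF.1
  obtain ⟨U, hU, hxU, -⟩ := exists_isAffineOpen_mem_and_subset (x := x) (U := ⊤) trivial
  have hloc : LocAt F U := LocAt.of_isQuasicoherent F hU
  have : IsNoetherianRing Γ(X, U) := IsLocallyNoetherian.component_noetherian ⟨U, hU⟩
  have hfin : Module.Finite Γ(X, U) Γ(F, U) :=
    Groth.Agent.Lib.Helper21.QCohFinite.finite_sections_of_isFiniteType F hF.2 hU
  refine and_congr_right fun hne => ?_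
  constructor
  · intro hmin
    obtain ⟨T, hT⟩ := hfin.fg_top
    -- the stalk is spanned by the germs of the generators
    have hgs : ∀ s : Γ(F, U), F.presheaf.germ U x hxU s ∈ Submodule.span (X.presheaf.stalk x)
        ((fun e => F.presheaf.germ U x hxU e) '' (T : Set Γ(F, U))) := by
      intro s
      have hsT : s ∈ Submodule.span Γ(X, U) (T : Set Γ(F, U)) := by rw [hT]; trivial
      induction hsT using Submodule.span_induction with
      | mem e he => exact Submodule.subset_span ⟨e, he, rfl⟩
      | zero => rw [map_zero]; exact Submodule.zero_mem _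
      | add u v _ _ hu hv => rw [map_add]; exact Submodule.add_mem _ hu hv
      | smul c u _ hu => rw [germ_smul]; exact Submodule.smul_mem _ _ hu
    have hspan : ∀ m : F.presheaf.stalk x, m ∈ Submodule.span (X.presheaf.stalk x)
        ((fun e => F.presheaf.germ U x hxU e) '' (T : Set Γ(F, U))) := by
      intro m
      obtain ⟨a, s, ha, hs⟩ := exists_germ_eq_smul F hU hloc x hxU m
      have hau : IsUnit (X.presheaf.germ U x hxU a) := (Scheme.mem_basicOpen X a x hxU).mp ha
      obtain ⟨u, hu⟩ := hau
      have : m = (↑u⁻¹ : X.presheaf.stalk x) • F.presheaf.germ U x hxU s := by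
        rw [hs, ← hu, ← mul_smul, Units.inv_mul, one_smul]
      rw [this]
      exact Submodule.smul_mem _ _ (hgs s)
    classical
    have hfinx : Module.Finite (X.presheaf.stalk x) (F.presheaf.stalk x) := by
      refine ⟨⟨T.image (fun e => F.presheaf.germ U x hxU e), ?_⟩⟩
      rw [eq_top_iff]
      intro m _
      rw [Finset.coe_image]
      exact hspan m
    -- each generator is killed by a power of the maximal ideal
    have hgen : ∀ e : Γ(F, U), ∃ n : ℕ, ∀ r ∈ (IsLocalRing.maximalIdeal (X.presheaf.stalk x)) ^ n,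
        r • F.presheaf.germ U x hxU e = 0 := by
      intro e
      by_cases he : F.presheaf.germ U x hxU e = 0
      · exact ⟨0, fun r _ => by rw [he, smul_zero]⟩
      · have hle : ann F e ≤ (hU.primeIdealOf ⟨x, hxU⟩).asIdeal := by
          intro c hc
          rw [mem_primeIdealOf_iff]
          intro hxc
          exact he ((germ_eq_zero_iff F hU hloc x hxU e).mpr ⟨c, hxc, (mem_ann F e c).mp hc⟩)
        have hminp : (hU.primeIdealOf ⟨x, hxU⟩).asIdeal ∈ (ann F e).minimalPrimes := by
          refine ⟨⟨inferInstance, hle⟩, ?_⟩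
          rintro q ⟨hq, hqe⟩ hqx
          obtain ⟨z, hz, hzq⟩ := exists_point_of_prime hU q
          have hz1 : F.presheaf.germ U z hz e ≠ 0 :=
            germ_ne_zero_of_ann_le F hU hloc z hz e (hzq ▸ hqe)
          have hz2 : z ⤳ x := specializes_of_primeIdealOf_le hU hxU hz (hzq ▸ hqx)
          have hz3 : z = x := hmin z ⟨⟨_, 0, hz1⟩⟩ hz2
          subst hz3
          exact hzq ▸ le_rfl
        have hrad := radical_ker_germ_of_mem_minimalPrimes F hU hloc x hxU e hminp
        have hfg : (Ideal.radical (LinearMap.ker (LinearMap.toSpanSingleton (X.presheaf.stalk x)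
            (F.presheaf.stalk x) (F.presheaf.germ U x hxU e)))).FG :=
          (isNoetherianRing_iff_ideal_fg _).mp inferInstance _
        obtain ⟨n, hn⟩ := Ideal.exists_radical_pow_le_of_fg _ hfg
        rw [hrad] at hn
        refine ⟨n, fun r hr => ?_⟩
        have := hn hr
        rwa [LinearMap.mem_ker, LinearMap.toSpanSingleton_apply] at this
    choose n hn using hgen
    refine isFiniteLength_of_pow_smul_eq_zero _ (T.sup n) ?_
    intro r hr m
    have hm := hspan m
    induction hm using Submodule.span_induction with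
    | mem v hv =>
      obtain ⟨e, he, rfl⟩ := hv
      exact hn e r (Ideal.pow_le_pow_right (Finset.le_sup he) hr)
    | zero => rw [smul_zero]
    | add u v _ _ hu hv => rw [smul_add, hu, hv, add_zero]
    | smul c u _ hu => rw [smul_comm, hu, smul_zero]
  · intro hfl y hy hyx
    obtain ⟨n, hn⟩ := exists_pow_smul_eq_zero_of_isFiniteLength _ hfl
    by_contra hne'
    have hyU : y ∈ U := hyx.mem_open U.isOpen hxU
    have hle : (hU.primeIdealOf ⟨y, hyU⟩).asIdeal ≤ (hU.primeIdealOf ⟨x, hxU⟩).asIdeal :=
      primeIdealOf_le_of_specializes hU hxU hyU hyx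
    have hnle : ¬ (hU.primeIdealOf ⟨x, hxU⟩).asIdeal ≤ (hU.primeIdealOf ⟨y, hyU⟩).asIdeal := by
      intro h
      exact hne' (primeIdealOf_injective hU hyU hxU (PrimeSpectrum.ext (le_antisymm hle h)))
    obtain ⟨a, hax, hay⟩ := SetLike.not_le_iff_exists.mp hnle
    obtain ⟨m', hm'⟩ := exists_ne (0 : F.presheaf.stalk y)
    obtain ⟨c, s, hc, hs⟩ := exists_germ_eq_smul F hU hloc y hyU m'
    have hcu : IsUnit (X.presheaf.germ U y hyU c) := (Scheme.mem_basicOpen X c y hyU).mp hc
    have hsy : F.presheaf.germ U y hyU s ≠ 0 := by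
      rw [hs]
      intro h0
      exact hm' (hcu.smul_eq_zero.mp h0)
    have hgax : X.presheaf.germ U x hxU a ∈ IsLocalRing.maximalIdeal (X.presheaf.stalk x) := by
      rw [mem_primeIdealOf_iff, Scheme.mem_basicOpen X a x hxU] at hax
      exact hax
    have h1 : F.presheaf.germ U x hxU (a ^ n • s) = 0 := by
      rw [germ_smul, map_pow]
      exact hn _ (Ideal.pow_mem_pow hgax n) _
    obtain ⟨b, hb1, hb2⟩ := (germ_eq_zero_iff F hU hloc x hxU (a ^ n • s)).mp h1
    have hyb : y ∈ X.basicOpen b := hyx.mem_open (X.basicOpen b).isOpen hb1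
    have hbu : IsUnit (X.presheaf.germ U y hyU b) := (Scheme.mem_basicOpen X b y hyU).mp hyb
    have hya : y ∈ X.basicOpen a := by
      by_contra hcon
      exact hay ((mem_primeIdealOf_iff hU y hyU a).mpr hcon)
    have hau : IsUnit (X.presheaf.germ U y hyU a) := (Scheme.mem_basicOpen X a y hyU).mp hya
    have h2 := congrArg (F.presheaf.germ U y hyU) hb2
    rw [germ_smul, germ_smul, map_pow, map_zero] at h2
    exact hsy ((hau.pow n).smul_eq_zero.mp (hbu.smul_eq_zero.mp h2))

end Groth.Agent.S4637
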