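import Groth.Statements.S4638
import Groth.Agent.Lib.Helper29.AssNoeth

set_option autoImplicit false
open CategoryTheory AlgebraicGeometry
universe u
open AssSch

namespace Groth.Agent.S4638

open Groth.Agent.Lib.Helper29.QCohLoc

/-- Let X be a locally Noetherian scheme, F a quasi-coherent O_X-module and f a global section of O_X.
Then f is F-regular, i.e. multiplication by the germ of f is injective on every stalk of F, if and
only if every associated point of F lies in the open subset X_f where f does not vanish. -/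
theorem result {X : Scheme.{u}} [IsLocallyNoetherian X] (F : X.Modules)
    (hF : Coh.IsQCoh F) (f : Γ(X, ⊤)) :
    (∀ x : X, IsSMulRegular ↑(F.presheaf.stalk x) (X.presheaf.germ ⊤ x trivial f)) ↔
      AssSch.Ass F ⊆ (X.basicOpen f : Set ↥X) := by
  have : F.IsQuasicoherent := hF
  constructor
  · intro hreg x hx
    by_contra hxf
    have hx' : IsAssociatedPrime (IsLocalRing.maximalIdeal (X.presheaf.stalk x))
        (F.presheaf.stalk x) := hx
    rw [isAssociatedPrime_iff] at hx'
    obtain ⟨-, m, hm⟩ := hx'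
    have hm0 : m ≠ 0 := by
      rintro rfl
      have : (1 : X.presheaf.stalk x) ∈ IsLocalRing.maximalIdeal (X.presheaf.stalk x) := by
        rw [hm, Submodule.mem_colon_singleton]
        simp
      exact (Ideal.ne_top_iff_one _).mp (IsLocalRing.maximalIdeal.isMaximal _).ne_top this
    have hfm : X.presheaf.germ ⊤ x trivial f ∈ IsLocalRing.maximalIdeal (X.presheaf.stalk x) := by
      rw [IsLocalRing.mem_maximalIdeal, mem_nonunits_iff]
      intro hu
      exact hxf ((Scheme.mem_basicOpen X f x trivial).mpr hu)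
    rw [hm, Submodule.mem_colon_singleton] at hfm
    have h0 : X.presheaf.germ ⊤ x trivial f • m = 0 := by simpa using hfm
    exact hm0 ((isSMulRegular_iff_right_eq_zero_of_smul.mp (hreg x)) m h0)
  · intro hAss x
    rw [isSMulRegular_iff_right_eq_zero_of_smul]
    intro m hm
    by_contra hm0
    obtain ⟨U, hU, hxU, -⟩ := exists_isAffineOpen_mem_and_subset (x := x) (U := ⊤) trivial
    have hloc : LocAt F U := LocAt.of_isQuasicoherent F hU
    obtain ⟨a, s0, ha, hs0⟩ := exists_germ_eq_smul F hU hloc x hxU m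
    have hau : IsUnit (X.presheaf.germ U x hxU a) := (Scheme.mem_basicOpen X a x hxU).mp ha
    set fU : Γ(X, U) := X.presheaf.map (homOfLE (le_top : U ≤ ⊤)).op f with hfU
    have hgf : X.presheaf.germ U x hxU fU = X.presheaf.germ ⊤ x trivial f :=
      TopCat.Presheaf.germ_res_apply _ _ _ _ _
    have h1 : F.presheaf.germ U x hxU (fU • s0) = 0 := by
      rw [germ_smul, hs0, hgf, smul_comm, hm, smul_zero]
    obtain ⟨b, hb1, hb2⟩ := (germ_eq_zero_iff F hU hloc x hxU (fU • s0)).mp h1
    have hbu : IsUnit (X.presheaf.germ U x hxU b) := (Scheme.mem_basicOpen X b x hxU).mp hb1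
    set s1 := b • s0 with hs1
    have hfs1 : fU ∈ ann F s1 := by
      rw [mem_ann, hs1, smul_comm]
      exact hb2
    have hs1x : F.presheaf.germ U x hxU s1 ≠ 0 := by
      rw [hs1, germ_smul, hs0]
      intro h0
      exact hm0 (hau.smul_eq_zero.mp (hbu.smul_eq_zero.mp h0))
    have hle : ann F s1 ≤ (hU.primeIdealOf ⟨x, hxU⟩).asIdeal := by
      intro c hc
      rw [mem_primeIdealOf_iff]
      intro hxc
      exact hs1x ((germ_eq_zero_iff F hU hloc x hxU s1).mpr ⟨c, hxc, (mem_ann F s1 c).mp hc⟩)
    obtain ⟨y, hy, hy1, hy2, -⟩ := exists_isAssPoint_le F hU hloc s1 _ hle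
    have hyf : y ∈ X.basicOpen f := hAss hy1
    have h2 := hy2 hfs1
    rw [mem_primeIdealOf_iff, hfU, Scheme.basicOpen_res] at h2
    exact h2 ⟨hy, hyf⟩

end Groth.Agent.S4638
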