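import Groth.Statements.S4640
import Mathlib.RingTheory.Flat.TorsionFree
import Mathlib.RingTheory.Localization.BaseChange
import Mathlib.LinearAlgebra.TensorProduct.RightExactness

set_option autoImplicit false
universe u
open FDesc

namespace Groth.Agent.S4640

open TensorProduct

section aux

variable {A K : Type u} [CommRing A] [IsDedekindDomain A] [Field K]
    [Algebra A K] [IsFractionRing A K] {M : Type u} [AddCommGroup M] [Module A M]

omit [IsDedekindDomain A] [IsFractionRing A K] in
theorem mem_ker_iff (P' : Submodule K (K ⊗[A] M)) (m : M) :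
    m ∈ LinearMap.ker ((P'.restrictScalars A).mkQ ∘ₗ TensorProduct.mk A K M 1) ↔
      (1 : K) ⊗ₜ[A] m ∈ P' := by
  simp [LinearMap.mem_ker, Submodule.Quotient.mk_eq_zero]

theorem algebraMap_ne_zero_of_mem (a : nonZeroDivisors A) : algebraMap A K (a : A) ≠ 0 := by
  have := IsFractionRing.injective A K
  intro h
  have h0 : (a : A) = 0 := this (by rw [h, map_zero])
  exact nonZeroDivisors.coe_ne_zero a h0

omit [IsDedekindDomain A] in
theorem mk_injective_of_flat (N : Type u) [AddCommGroup N] [Module A N] [Module.Flat A N] :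
    Function.Injective (TensorProduct.mk A K N 1) := by
  rw [← LinearMap.ker_eq_bot, LinearMap.ker_eq_bot']
  intro n hn
  have hloc : IsLocalizedModule (nonZeroDivisors A) (TensorProduct.mk A K N 1) :=
    IsLocalization.tensorProduct_isLocalizedModule (nonZeroDivisors A) K
  obtain ⟨s, hs⟩ := (IsLocalizedModule.eq_zero_iff (nonZeroDivisors A) _).mp hn
  have hreg := Module.Flat.isSMulRegular_of_nonZeroDivisors (M := N) s.2
  apply hreg
  show (s : A) • n = (s : A) • (0 : N)
  rw [smul_zero]
  exact hs

theorem forward (P' : Submodule K (K ⊗[A] M)) :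
    Module.Flat A (M ⧸ LinearMap.ker ((P'.restrictScalars A).mkQ ∘ₗ TensorProduct.mk A K M 1)) ∧
      LinearMap.ker ((LinearMap.ker ((P'.restrictScalars A).mkQ ∘ₗ
        TensorProduct.mk A K M 1)).mkQ.baseChange K) = P' := by
  set Q := LinearMap.ker ((P'.restrictScalars A).mkQ ∘ₗ TensorProduct.mk A K M 1) with hQ
  have hmemQ : ∀ m : M, m ∈ Q ↔ (1 : K) ⊗ₜ[A] m ∈ P' := mem_ker_iff P'
  constructor
  · rw [IsDedekindDomain.flat_iff_torsion_eq_bot, eq_bot_iff]
    rintro x ⟨a, ha⟩
    obtain ⟨m, rfl⟩ := Submodule.Quotient.mk_surjective _ x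
    rw [Submodule.mem_bot, Submodule.Quotient.mk_eq_zero, hmemQ]
    have h1 : (a : A) • m ∈ Q := by
      rw [← Submodule.Quotient.mk_eq_zero, Submodule.Quotient.mk_smul]
      exact ha
    rw [hmemQ] at h1
    have h2 : (1 : K) ⊗ₜ[A] ((a : A) • m) = (algebraMap A K a) • ((1 : K) ⊗ₜ[A] m) := by
      rw [TensorProduct.tmul_smul, algebraMap_smul]
    rw [h2] at h1
    have h3 := P'.smul_mem (algebraMap A K a)⁻¹ h1
    rwa [smul_smul, inv_mul_cancel₀ (algebraMap_ne_zero_of_mem a), one_smul] at h3
  · ext x
    constructor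
    · intro hx
      rw [LinearMap.mem_ker] at hx
      have hx' : x ∈ LinearMap.ker (LinearMap.lTensor K Q.mkQ) := by
        rw [LinearMap.mem_ker]
        exact hx
      rw [lTensor_mkQ] at hx'
      obtain ⟨y, rfl⟩ := hx'
      clear hx
      induction y using TensorProduct.induction_on with
      | zero => simp
      | tmul k q =>
        rw [LinearMap.lTensor_tmul, Submodule.subtype_apply]
        have : k ⊗ₜ[A] (q : M) = k • ((1 : K) ⊗ₜ[A] (q : M)) := by
          rw [TensorProduct.smul_tmul', smul_eq_mul, mul_one]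
        rw [this]
        exact P'.smul_mem k ((hmemQ q).mp q.2)
      | add y z hy hz =>
        rw [map_add]
        exact P'.add_mem hy hz
    · intro hx
      have hloc : IsLocalizedModule (nonZeroDivisors A) (TensorProduct.mk A K M 1) :=
        IsLocalization.tensorProduct_isLocalizedModule (nonZeroDivisors A) K
      obtain ⟨⟨m, s⟩, hms⟩ := IsLocalizedModule.surj (nonZeroDivisors A)
        (TensorProduct.mk A K M 1) x
      simp only [TensorProduct.mk_apply] at hms
      have hsx : (s : A) • x = (algebraMap A K s) • x := by rw [algebraMap_smul]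
      have hmQ : m ∈ Q := by
        rw [hmemQ, ← hms]
        show (s : A) • x ∈ P'
        rw [hsx]
        exact P'.smul_mem _ hx
      rw [LinearMap.mem_ker]
      have h1 : Q.mkQ.baseChange K ((algebraMap A K s) • x) = 0 := by
        rw [← hsx]
        have : (s : A) • x = (1 : K) ⊗ₜ[A] m := hms
        rw [this, LinearMap.baseChange_tmul, Submodule.mkQ_apply,
          (Submodule.Quotient.mk_eq_zero Q).mpr hmQ, TensorProduct.tmul_zero]
      rw [map_smul] at h1
      exact (smul_eq_zero.mp h1).resolve_left (algebraMap_ne_zero_of_mem s)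

omit [IsDedekindDomain A] in
theorem backward (P' : Submodule K (K ⊗[A] M)) (Q : Submodule A M)
    (hflat : Module.Flat A (M ⧸ Q)) (hker : LinearMap.ker (Q.mkQ.baseChange K) = P') :
    Q = LinearMap.ker ((P'.restrictScalars A).mkQ ∘ₗ TensorProduct.mk A K M 1) := by
  ext m
  rw [mem_ker_iff, ← hker, LinearMap.mem_ker, LinearMap.baseChange_tmul, Submodule.mkQ_apply]
  constructor
  · intro hm
    rw [(Submodule.Quotient.mk_eq_zero Q).mpr hm, TensorProduct.tmul_zero]
  · intro h
    have hinj := mk_injective_of_flat (A := A) (K := K) (M ⧸ Q)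
    have : TensorProduct.mk A K (M ⧸ Q) 1 (Submodule.Quotient.mk m) = 0 := h
    rw [← map_zero (TensorProduct.mk A K (M ⧸ Q) 1)] at this
    exact (Submodule.Quotient.mk_eq_zero Q).mp (hinj this)

end aux

open TensorProduct in
/-- Let A be a Dedekind domain with fraction field K, M an A-module and P' a K-submodule of K ⊗_A M. Let
φ : M → (K ⊗_A M)/P' be m ↦ class of 1 ⊗ m. Then a submodule Q of M equals ker φ if and only if M/Q
is a flat A-module and the kernel of the induced surjection K ⊗_A M → K ⊗_A (M/Q) is P'. Thus M/ker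
φ is the unique flat quotient of M with generic fibre (K ⊗_A M)/P'. (The published statement takes A
Noetherian, regular and of dimension 1; a field is allowed here, where the statement is immediate.) -/
theorem result {A K : Type u} [CommRing A] [IsDedekindDomain A] [Field K]
    [Algebra A K] [IsFractionRing A K] {M : Type u} [AddCommGroup M] [Module A M]
    (P' : Submodule K (K ⊗[A] M)) (Q : Submodule A M) :
    Q = LinearMap.ker ((P'.restrictScalars A).mkQ ∘ₗ TensorProduct.mk A K M 1) ↔
      (Module.Flat A (M ⧸ Q) ∧ LinearMap.ker (Q.mkQ.baseChange K) = P') := by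
  constructor
  · rintro rfl
    exact forward P'
  · rintro ⟨h1, h2⟩
    exact backward P' Q h1 h2

end Groth.Agent.S4640
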