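import Groth.Statements.S5086
import Mathlib.RingTheory.Ideal.AssociatedPrime.Localization
import Mathlib.RingTheory.Ideal.AssociatedPrime.Finiteness
import Mathlib.AlgebraicGeometry.Noetherian
import Mathlib.AlgebraicGeometry.Properties
import Mathlib.AlgebraicGeometry.Morphisms.QuasiCompact
import Mathlib.Tactic

set_option autoImplicit false
universe u
open CategoryTheory CategoryTheory.Limits AlgebraicGeometry TopologicalSpace
open Mero

namespace Groth.Agent.S5086

def GoodPrimes (A : Type*) [CommRing A] : Prop :=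
  ∃ S : Set (Ideal A), S.Finite ∧ (∀ P ∈ S, P.IsPrime) ∧
    (∀ b : A, (∀ P ∈ S, b ∉ P) → b ∈ nonZeroDivisors A) ∧
    (∀ P ∈ S, ∃ a : A, a ≠ 0 ∧ ∀ t ∈ P, t * a = 0)

theorem exists_mem_nzd_of_finite_primes {A : Type*} [CommRing A] (S : Set (Ideal A))
    (hSfin : S.Finite) (hSprime : ∀ P ∈ S, P.IsPrime)
    (hS1 : ∀ b : A, (∀ P ∈ S, b ∉ P) → b ∈ nonZeroDivisors A)
    (I : Ideal A) (hI : ∀ P ∈ S, ¬ I ≤ P) : ∃ b ∈ I, b ∈ nonZeroDivisors A := by
  by_contra hcon
  push Not at hcon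
  have hsub : (I : Set A) ⊆ ⋃ P ∈ (hSfin.toFinset : Set (Ideal A)), ((id P : Ideal A) : Set A) := by
    intro b hb
    by_contra hb'
    apply hcon b hb
    apply hS1
    intro P hP hbP
    apply hb'
    simp only [Set.Finite.coe_toFinset, id_eq, Set.mem_iUnion, SetLike.mem_coe, exists_prop]
    exact ⟨P, hP, hbP⟩
  have hsub' := (Ideal.subset_union_prime (s := hSfin.toFinset) (f := fun P : Ideal A => P)
    (⊥ : Ideal A) (⊥ : Ideal A)
    (fun P hP _ _ => hSprime P (by simpa using hP))).mp hsub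
  obtain ⟨P, hP, hIP⟩ := hsub'
  exact hI P (by simpa using hP) hIP

theorem goodPrimes_of_noetherian (A : Type*) [CommRing A] [IsNoetherianRing A] : GoodPrimes A := by
  refine ⟨associatedPrimes A A, associatedPrimes.finite A A, fun P hP => hP.1, ?_, ?_⟩
  · intro b hb
    by_contra hcon
    have : b ∈ ((nonZeroDivisors A : Set A))ᶜ := hcon
    rw [← biUnion_associatedPrimes_eq_compl_nonZeroDivisors] at this
    obtain ⟨P, hP, hbP⟩ := Set.mem_iUnion₂.mp this
    exact hb P hP hbP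
  · intro P hP
    have hP' : (⊥ : Submodule A A).IsAssociatedPrime P := hP
    rw [Submodule.isAssociatedPrime_iff] at hP'
    obtain ⟨hPp, a, ha⟩ := hP'
    refine ⟨a, ?_, ?_⟩
    · rintro rfl
      apply hPp.ne_top
      rw [ha]
      simp
    · intro t ht
      rw [ha, Submodule.mem_colon_singleton, Submodule.mem_bot] at ht
      exact ht

theorem goodPrimes_of_reduced (A : Type*) [CommRing A] [IsReduced A]
    (hfin : (minimalPrimes A).Finite) : GoodPrimes A := by
  have hnil : sInf (minimalPrimes A) = (⊥ : Ideal A) := by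
    have := Ideal.sInf_minimalPrimes (I := (⊥ : Ideal A))
    rw [show (⊥ : Ideal A).minimalPrimes = minimalPrimes A from rfl] at this
    rw [this]
    exact nilradical_eq_zero A
  refine ⟨minimalPrimes A, hfin, fun P hP => hP.1.1, ?_, ?_⟩
  · intro b hb
    rw [mem_nonZeroDivisors_iff_right]
    intro c hc
    have : c ∈ sInf (minimalPrimes A) := by
      rw [Ideal.mem_sInf]
      intro P hP
      have hPp : P.IsPrime := hP.1.1
      have : c * b ∈ P := by rw [hc]; exact zero_mem _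
      exact (hPp.mem_or_mem this).resolve_right (hb P hP)
    rw [hnil] at this
    exact this
  · intro P hP
    have hPp : P.IsPrime := hP.1.1
    classical
    set T := hfin.toFinset.erase P with hT
    have hnle : ¬ (∏ Q ∈ T, Q) ≤ P := by
      rw [Ideal.IsPrime.prod_le hPp]
      rintro ⟨Q, hQT, hQP⟩
      rw [hT, Finset.mem_erase, Set.Finite.mem_toFinset] at hQT
      have : P ≤ Q := hP.2 ⟨hQT.2.1.1, bot_le⟩ hQP
      exact hQT.1 (le_antisymm hQP this)
    obtain ⟨a, haT, haP⟩ := SetLike.not_le_iff_exists.mp hnle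
    refine ⟨a, ?_, ?_⟩
    · rintro rfl
      exact haP (zero_mem _)
    · intro t ht
      have : t * a ∈ sInf (minimalPrimes A) := by
        rw [Ideal.mem_sInf]
        intro Q hQ
        by_cases hQP : Q = P
        · rw [hQP]; exact Ideal.mul_mem_right _ _ ht
        · have hQT : Q ∈ T := by
            rw [hT, Finset.mem_erase, Set.Finite.mem_toFinset]
            exact ⟨hQP, hQ⟩
          have : (∏ Q ∈ T, Q) ≤ Q := Ideal.prod_le_inf.trans (Finset.inf_le hQT)
          exact Ideal.mul_mem_left _ _ (this haT)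
      rw [hnil] at this
      exact this


theorem finite_minimalPrimes_of_locFinite {X : Scheme.{u}} (W W₀ : X.Opens) (hW : IsAffineOpen W)
    (hWW₀ : W ≤ W₀)
    (hfin : {Z : Set X | Z ∈ irreducibleComponents X ∧ (Z ∩ (W₀ : Set X)).Nonempty}.Finite) :
    (minimalPrimes Γ(X, W)).Finite := by
  rw [← PrimeSpectrum.vanishingIdeal_irreducibleComponents]
  apply Set.Finite.image
  have hf : Topology.IsOpenEmbedding hW.fromSpec := hW.fromSpec.isOpenEmbedding
  apply Set.Finite.subset (hfin.image (fun Z => hW.fromSpec ⁻¹' Z))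
  intro Z' hZ'
  have hirr : IsIrreducible (hW.fromSpec '' Z') := hZ'.1.image _ hf.continuous.continuousOn
  obtain ⟨Z, hZ, hsub⟩ := exists_mem_irreducibleComponents_subset_of_isIrreducible _ hirr
  obtain ⟨z, hz⟩ := hZ'.1.nonempty
  have hne : (Z ∩ Set.range hW.fromSpec).Nonempty := ⟨hW.fromSpec z, hsub ⟨z, hz, rfl⟩, z, rfl⟩
  have hpre := preimage_mem_irreducibleComponents hZ hf hne
  have hle : Z' ⊆ hW.fromSpec ⁻¹' Z := fun z hz => hsub ⟨z, hz, rfl⟩
  have heq : Z' = hW.fromSpec ⁻¹' Z := le_antisymm hle (hZ'.2 hpre.1 hle)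
  refine ⟨Z, ⟨hZ, ?_⟩, heq.symm⟩
  refine ⟨hW.fromSpec z, hsub ⟨z, hz, rfl⟩, hWW₀ ?_⟩
  have := hW.range_fromSpec
  rw [← SetLike.mem_coe, ← this]
  exact ⟨z, rfl⟩

def idealOf {X : Scheme.{u}} (W V : X.Opens) : Ideal Γ(X, W) where
  carrier := {t | X.basicOpen t ≤ V}
  add_mem' := by
    intro s t hs ht
    exact (X.basicOpen_add_le s t).trans (sup_le hs ht)
  zero_mem' := by
    change X.basicOpen (0 : Γ(X, W)) ≤ V
    rw [Scheme.basicOpen_zero]; exact bot_le
  smul_mem' := by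
    intro c t ht
    change X.basicOpen (c * t) ≤ V
    rw [Scheme.basicOpen_mul]; exact inf_le_right.trans ht

theorem mem_regSub_of_nzd {X : Scheme.{u}} (W : X.Opens) (hW : IsAffineOpen W) (b : Γ(X, W))
    (hb : b ∈ nonZeroDivisors Γ(X, W)) : b ∈ Mero.regSub X W := by
  rintro ⟨y, hy⟩
  let _ : Algebra Γ(X, W) (X.presheaf.stalk y) := X.presheaf.algebra_section_stalk ⟨y, hy⟩
  have hloc : IsLocalization.AtPrime (X.presheaf.stalk y) (hW.primeIdealOf ⟨y, hy⟩).asIdeal :=
    hW.isLocalization_stalk ⟨y, hy⟩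
  exact IsLocalization.map_nonZeroDivisors_le (hW.primeIdealOf ⟨y, hy⟩).asIdeal.primeCompl
    (X.presheaf.stalk y) ⟨b, hb, rfl⟩

theorem germ_eq_zero_of_mul_eq_zero {X : Scheme.{u}} (W : X.Opens) (t a : Γ(X, W)) (h : t * a = 0)
    (q : X) (hq : q ∈ X.basicOpen t) :
    X.presheaf.germ W q (X.basicOpen_le t hq) a = 0 := by
  have hu := (X.mem_basicOpen t q (X.basicOpen_le t hq)).mp hq
  have := congrArg (X.presheaf.germ W q (X.basicOpen_le t hq)) h
  rw [map_mul, map_zero] at this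
  exact (hu.mul_right_eq_zero).mp this


theorem local_exists {X : Scheme.{u}} (U V : X.Opens)
    (hV : ∀ W : X.Opens, W ≤ U →
      Function.Injective ⇑(X.presheaf.map (homOfLE (inf_le_left : W ⊓ V ≤ W)).op))
    (g : Γ(X, V)) (W : X.Opens) (hW : IsAffineOpen W) (hWU : W ≤ U)
    (hgood : GoodPrimes Γ(X, W)) :
    ∃ (a : Γ(X, W)) (b : Γ(X, W)), b ∈ Mero.regSub X W ∧
      ∀ (q : X) (hqW : q ∈ W) (hqV : q ∈ V),
        X.presheaf.germ W q hqW b * X.presheaf.germ V q hqV g = X.presheaf.germ W q hqW a := by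
  obtain ⟨S, hSfin, hSprime, hS1, hS2⟩ := hgood
  have hI : ∀ P ∈ S, ¬ idealOf W V ≤ P := by
    intro P hP hIP
    obtain ⟨a, ha0, haP⟩ := hS2 P hP
    apply ha0
    apply hV W hWU
    rw [map_zero]
    apply TopCat.Presheaf.section_ext X.sheaf
    intro q hq
    change X.presheaf.germ (W ⊓ V) q hq _ = X.presheaf.germ (W ⊓ V) q hq 0
    rw [map_zero, TopCat.Presheaf.germ_res_apply]
    obtain ⟨t, htV, hqt⟩ := hW.exists_basicOpen_le (V := V) ⟨q, hq.2⟩ hq.1
    have htI : t ∈ idealOf W V := htV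
    exact germ_eq_zero_of_mul_eq_zero W t a (haP t (hIP htI)) q hqt
  obtain ⟨b, hbI, hbnzd⟩ := exists_mem_nzd_of_finite_primes S hSfin hSprime hS1 (idealOf W V) hI
  have hbV : X.basicOpen b ≤ V := hbI
  have hbW : X.basicOpen b ≤ W := X.basicOpen_le b
  have hloc := hW.isLocalization_basicOpen b
  obtain ⟨⟨a, ⟨_, n, rfl⟩⟩, hab⟩ := IsLocalization.surj (Submonoid.powers b)
    (X.presheaf.map (homOfLE hbV).op g)
  have hab' : X.presheaf.map (homOfLE hbV).op g * X.presheaf.map (homOfLE hbW).op (b ^ n) =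
      X.presheaf.map (homOfLE hbW).op a := hab
  have hbn : b ^ n ∈ nonZeroDivisors Γ(X, W) := pow_mem hbnzd n
  refine ⟨a, b ^ n, mem_regSub_of_nzd W hW _ hbn, ?_⟩
  have hD : ∀ (q : X) (hq : q ∈ X.basicOpen b),
      X.presheaf.germ W q (hbW hq) (b ^ n) * X.presheaf.germ V q (hbV hq) g =
        X.presheaf.germ W q (hbW hq) a := by
    intro q hq
    have := congrArg (X.presheaf.germ (X.basicOpen b) q hq) hab'
    rw [map_mul, TopCat.Presheaf.germ_res_apply, TopCat.Presheaf.germ_res_apply,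
      TopCat.Presheaf.germ_res_apply] at this
    rw [mul_comm]; exact this
  intro q hqW hqV
  obtain ⟨h, hhle, hqh⟩ := hW.exists_basicOpen_le (V := W ⊓ V) ⟨q, ⟨hqW, hqV⟩⟩ hqW
  have hhW : X.basicOpen h ≤ W := X.basicOpen_le h
  have hhV : X.basicOpen h ≤ V := hhle.trans inf_le_right
  have hDh : IsAffineOpen (X.basicOpen h) := hW.basicOpen h
  set bh : Γ(X, X.basicOpen h) := X.presheaf.map (homOfLE hhW).op b with hbh
  set d : Γ(X, X.basicOpen h) := X.presheaf.map (homOfLE hhW).op (b ^ n) *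
    X.presheaf.map (homOfLE hhV).op g - X.presheaf.map (homOfLE hhW).op a with hd
  have hlocW := hW.isLocalization_basicOpen h
  have hbhnzd : bh ∈ nonZeroDivisors Γ(X, X.basicOpen h) :=
    IsLocalization.map_nonZeroDivisors_le (Submonoid.powers h) Γ(X, X.basicOpen h) ⟨b, hbnzd, rfl⟩
  have hloch := hDh.isLocalization_basicOpen bh
  have hbhle : X.basicOpen bh ≤ X.basicOpen b := by
    rw [hbh, Scheme.basicOpen_res]; exact inf_le_right
  have hd0 : algebraMap Γ(X, X.basicOpen h) Γ(X, X.basicOpen bh) d =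
      algebraMap Γ(X, X.basicOpen h) Γ(X, X.basicOpen bh) 0 := by
    rw [map_zero]
    change X.presheaf.map (homOfLE (X.basicOpen_le bh)).op d = 0
    apply TopCat.Presheaf.section_ext X.sheaf
    intro y hy
    change X.presheaf.germ (X.basicOpen bh) y hy _ = X.presheaf.germ (X.basicOpen bh) y hy 0
    rw [map_zero, TopCat.Presheaf.germ_res_apply, hd, map_sub, map_mul,
      TopCat.Presheaf.germ_res_apply, TopCat.Presheaf.germ_res_apply,
      TopCat.Presheaf.germ_res_apply, sub_eq_zero]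
    exact hD y (hbhle hy)
  obtain ⟨⟨_, m, rfl⟩, hm⟩ := (IsLocalization.eq_iff_exists (Submonoid.powers bh)
    Γ(X, X.basicOpen bh)).mp hd0
  have hm' : bh ^ m * d = 0 := by rw [hm, mul_zero]
  have hd00 : d = 0 := by
    have := (mem_nonZeroDivisors_iff.mp (pow_mem hbhnzd m)).1 d
    exact this hm'
  have := congrArg (X.presheaf.germ (X.basicOpen h) q hqh) hd00
  rw [hd, map_sub, map_mul, TopCat.Presheaf.germ_res_apply, TopCat.Presheaf.germ_res_apply,
    TopCat.Presheaf.germ_res_apply, map_zero, sub_eq_zero] at this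
  exact this


theorem result (X : Scheme.{u})
    (hX : IsLocallyNoetherian X ∨ (IsReduced X ∧ ∀ x : ↥X, ∃ W : X.Opens, x ∈ W ∧
      {Z : Set ↥X | Z ∈ irreducibleComponents ↥X ∧ (Z ∩ (W : Set ↥X)).Nonempty}.Finite))
    (U V : X.Opens) (hVU : V ≤ U)
    (hV : ∀ W : X.Opens, W ≤ U →
      Function.Injective ⇑(X.presheaf.map (homOfLE (inf_le_left : W ⊓ V ≤ W)).op))
    (g : Γ(X, V)) :
    ∃ s : Γ(Mero.kmod X, U), (Mero.kmod X).presheaf.map (homOfLE hVU).op s = Mero.toK X V g := by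
  have hlocal : ∀ x : U, ∃ (W : X.Opens) (_ : x.1 ∈ W) (_ : W ≤ U) (a b : Γ(X, W)),
      b ∈ Mero.regSub X W ∧ ∀ (q : X) (hqW : q ∈ W) (hqV : q ∈ V),
        X.presheaf.germ W q hqW b * X.presheaf.germ V q hqV g = X.presheaf.germ W q hqW a := by
    intro x
    rcases hX with hN | ⟨hR, hfin⟩
    · obtain ⟨W, hW, hxW, hWU⟩ := Opens.isBasis_iff_nbhd.mp X.isBasis_affineOpens x.2
      have hW' : IsAffineOpen W := hW
      have : IsNoetherianRing Γ(X, W) := IsLocallyNoetherian.component_noetherian ⟨W, hW⟩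
      obtain ⟨a, b, hb, h⟩ := local_exists U V hV g W hW' hWU (goodPrimes_of_noetherian _)
      exact ⟨W, hxW, hWU, a, b, hb, h⟩
    · obtain ⟨W₀, hxW₀, hfin₀⟩ := hfin x.1
      obtain ⟨W, hW, hxW, hWU⟩ := Opens.isBasis_iff_nbhd.mp X.isBasis_affineOpens
        (show x.1 ∈ U ⊓ W₀ from ⟨x.2, hxW₀⟩)
      have hW' : IsAffineOpen W := hW
      have hmin := finite_minimalPrimes_of_locFinite W W₀ hW' (hWU.trans inf_le_right) hfin₀
      obtain ⟨a, b, hb, h⟩ := local_exists U V hV g W hW' (hWU.trans inf_le_left)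
        (goodPrimes_of_reduced _ hmin)
      exact ⟨W, hxW, hWU.trans inf_le_left, a, b, hb, h⟩
  choose W hxW hWU a b hb hab using hlocal
  have hcompat : ∀ (x y : U) (q : X) (hqx : q ∈ W x) (hqy : q ∈ W y),
      X.presheaf.germ (W x) q hqx (b x) * X.presheaf.germ (W y) q hqy (a y) =
        X.presheaf.germ (W y) q hqy (b y) * X.presheaf.germ (W x) q hqx (a x) := by
    intro x y q hqx hqy
    set c : Γ(X, W x ⊓ W y) :=
      X.presheaf.map (homOfLE (inf_le_left : W x ⊓ W y ≤ W x)).op (b x) *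
        X.presheaf.map (homOfLE (inf_le_right : W x ⊓ W y ≤ W y)).op (a y) -
      X.presheaf.map (homOfLE (inf_le_right : W x ⊓ W y ≤ W y)).op (b y) *
        X.presheaf.map (homOfLE (inf_le_left : W x ⊓ W y ≤ W x)).op (a x) with hc
    have hc0 : c = 0 := by
      apply hV (W x ⊓ W y) (inf_le_left.trans (hWU x))
      rw [map_zero]
      apply TopCat.Presheaf.section_ext X.sheaf
      intro z hz
      change X.presheaf.germ (W x ⊓ W y ⊓ V) z hz _ = X.presheaf.germ (W x ⊓ W y ⊓ V) z hz 0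
      rw [map_zero, TopCat.Presheaf.germ_res_apply, hc, map_sub, map_mul, map_mul,
        TopCat.Presheaf.germ_res_apply, TopCat.Presheaf.germ_res_apply,
        TopCat.Presheaf.germ_res_apply, TopCat.Presheaf.germ_res_apply, sub_eq_zero,
        ← hab y z hz.1.2 hz.2, ← hab x z hz.1.1 hz.2]
      ring
    have hq : q ∈ W x ⊓ W y := ⟨hqx, hqy⟩
    have := congrArg (X.presheaf.germ (W x ⊓ W y) q hq) hc0
    rw [hc, map_sub, map_mul, map_mul,
        TopCat.Presheaf.germ_res_apply, TopCat.Presheaf.germ_res_apply,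
        TopCat.Presheaf.germ_res_apply, TopCat.Presheaf.germ_res_apply, map_zero, sub_eq_zero] at this
    exact this
  refine ⟨⟨fun x => LocalizedModule.mk (X.presheaf.germ (W x) x.1 (hxW x) (a x))
    (Mero.regGerm ⟨x.1, hxW x⟩ ⟨b x, hb x⟩), ?_⟩, ?_⟩
  · intro x
    refine ⟨W x, hxW x, homOfLE (hWU x), a x, ⟨b x, hb x⟩, fun y => ?_⟩
    change (LocalizedModule.mk _ _ : Mero.KStalk X y.1) = LocalizedModule.mk _ _
    rw [LocalizedModule.mk_eq]
    refine ⟨1, ?_⟩
    simp only [one_smul, Submonoid.smul_def, smul_eq_mul]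
    exact hcompat x ⟨y.1, hWU x y.2⟩ y.1 y.2 (hxW _)
  · apply Subtype.ext
    funext y
    change (LocalizedModule.mk _ _ : Mero.KStalk X y.1) = LocalizedModule.mk _ 1
    rw [LocalizedModule.mk_eq]
    refine ⟨1, ?_⟩
    simp only [one_smul, Submonoid.smul_def, smul_eq_mul]
    exact (hab ⟨y.1, hVU y.2⟩ y.1 (hxW _) y.2).symm

end Groth.Agent.S5086
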