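import Groth.Statements.S4641
import Groth.Agent.S2510
import Groth.Agent.S5086
import Groth.Agent.Lib.Helper29.AssNoeth
import Groth.Agent.Lib.Helper29.QCohPush
import Mathlib.RingTheory.Flat.TorsionFree

set_option autoImplicit false
open CategoryTheory AlgebraicGeometry
universe u
open AssSch

namespace Groth.Agent.S4641

open Groth.Agent.Lib.Helper29.QCohLoc

/-- Let f : X → Y be a morphism of locally Noetherian schemes such that Y has no embedded associated
points, and let F be a quasi-coherent O_X-module which is flat over Y. Then for every associated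
point x of F, f(x) is a maximal point of Y (every point of Y specialising to f(x) equals f(x)). (The
published statement assumes only Y locally Noetherian; X is taken locally Noetherian here so that
associated points are those whose maximal ideal is an annihilator.) -/
theorem result {X Y : Scheme.{u}} (f : X ⟶ Y) [IsLocallyNoetherian X]
    [IsLocallyNoetherian Y] (hY : AssSch.NoEmbedded (Coh.structureModule Y)) (F : X.Modules) (hF : Coh.IsQCoh F)
    (hfl : FlatMod.IsFlatOver f F) (x : X) (hx : x ∈ AssSch.Ass F) (y : Y) (hy : y ⤳ f x) : y = f x := by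
  -- Step 1-4: the maximal ideal of the local ring of `Y` at `f x` is an associated prime
  have hass : IsAssociatedPrime (IsLocalRing.maximalIdeal (Y.presheaf.stalk (f x)))
      (Y.presheaf.stalk (f x)) := by
    have hx' : IsAssociatedPrime (IsLocalRing.maximalIdeal (X.presheaf.stalk x))
        (F.presheaf.stalk x) := hx
    rw [isAssociatedPrime_iff] at hx'
    obtain ⟨-, m, hm⟩ := hx'
    have hm0 : m ≠ 0 := by
      rintro rfl
      have : (1 : X.presheaf.stalk x) ∈ IsLocalRing.maximalIdeal (X.presheaf.stalk x) := by
        rw [hm, Submodule.mem_colon_singleton]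
        simp
      exact (Ideal.ne_top_iff_one _).mp (IsLocalRing.maximalIdeal.isMaximal _).ne_top this
    let _ := FlatMod.moduleStalkOver f F x
    have hflat : Module.Flat (Y.presheaf.stalk (f x)) (F.presheaf.stalk x) := hfl x
    have hkill : ∀ a ∈ IsLocalRing.maximalIdeal (Y.presheaf.stalk (f x)), a • m = 0 := by
      intro a ha
      change (f.stalkMap x).hom a • m = 0
      have h1 : (f.stalkMap x).hom a ∈ IsLocalRing.maximalIdeal (X.presheaf.stalk x) := by
        rw [IsLocalRing.mem_maximalIdeal, mem_nonunits_iff] at ha ⊢
        intro hu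
        exact ha (isUnit_of_map_unit (f.stalkMap x).hom a hu)
      rw [hm, Submodule.mem_colon_singleton] at h1
      simpa using h1
    by_contra hnot
    obtain ⟨r, hrm, hrnzd⟩ : ∃ r ∈ IsLocalRing.maximalIdeal (Y.presheaf.stalk (f x)),
        r ∈ nonZeroDivisors (Y.presheaf.stalk (f x)) := by
      refine Groth.Agent.S5086.exists_mem_nzd_of_finite_primes
        (associatedPrimes (Y.presheaf.stalk (f x)) (Y.presheaf.stalk (f x)))
        (associatedPrimes.finite _ _) (fun P hP => IsAssociatedPrime.isPrime hP) ?_ _ ?_
      · intro b hb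
        by_contra hcon
        have : b ∈ ((nonZeroDivisors (Y.presheaf.stalk (f x)) :
            Set (Y.presheaf.stalk (f x))))ᶜ := hcon
        rw [← biUnion_associatedPrimes_eq_compl_nonZeroDivisors] at this
        obtain ⟨P, hP, hbP⟩ := Set.mem_iUnion₂.mp this
        exact hb P hP hbP
      · intro P hP hle
        have hPp : P.IsPrime := IsAssociatedPrime.isPrime hP
        have : P = IsLocalRing.maximalIdeal (Y.presheaf.stalk (f x)) :=
          ((IsLocalRing.maximalIdeal.isMaximal _).eq_of_le hPp.ne_top hle).symm
        exact hnot (this ▸ hP)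
    have hreg : IsSMulRegular (F.presheaf.stalk x) r :=
      Module.Flat.isSMulRegular_of_nonZeroDivisors hrnzd
    exact hm0 ((isSMulRegular_iff_right_eq_zero_of_smul.mp hreg) m (hkill r hrm))
  have hyA : f x ∈ AssSch.Ass (Coh.structureModule Y) :=
    (isAssPoint_structureModule_iff Y (f x)).mpr hass
  obtain ⟨V, hV, hxV, -⟩ := exists_isAffineOpen_mem_and_subset (x := f x) (U := ⊤) trivial
  have hyV : y ∈ V := hy.mem_open V.isOpen hxV
  have hmin := Groth.Agent.S2510.minimal_of_ass hY hV (f x) hxV hyA
  have hle : (hV.primeIdealOf ⟨y, hyV⟩).asIdeal ≤ (hV.primeIdealOf ⟨f x, hxV⟩).asIdeal :=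
    primeIdealOf_le_of_specializes hV hxV hyV hy
  have hge := hmin.2 ⟨(hV.primeIdealOf ⟨y, hyV⟩).2, bot_le⟩ hle
  exact primeIdealOf_injective hV hyV hxV (PrimeSpectrum.ext (le_antisymm hle hge))

end Groth.Agent.S4641
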