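import Groth.Statements.S4645
import Mathlib
import Groth.Agent.Lib.Helper51.ConnSplit

set_option autoImplicit false
open CategoryTheory AlgebraicGeometry
universe u
open FBase

namespace Groth.Agent.S4645

/-- Let X be a scheme over a field k with finitely many connected components, each of which contains a
point x such that the separable algebraic closure of k in κ(x) has finite degree over k. Then there
is a finite separable extension k'' of k such that all connected components of X ⊗_k k'' are
geometrically connected over k'': for every extension field K of k'' and every point x' of X ⊗_k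
k'', the inverse image in (X ⊗_k k'') ⊗_{k''} K of the connected component of x' is connected. -/
theorem result {k : Type u} [Field k] {X : Scheme.{u}}
    (f : X ⟶ Spec (CommRingCat.of k)) [Finite (_root_.ConnectedComponents ↥X)]
    (hx : ∀ c : _root_.ConnectedComponents ↥X, ∃ x : X, _root_.ConnectedComponents.mk x = c ∧
      FBase.ResidueFieldProp f x (fun K _ _ => FiniteDimensional k (separableClosure k K))) :
    ∃ (k'' : Type u) (_ : Field k'') (_ : Algebra k k''), FiniteDimensional k k'' ∧ Algebra.IsSeparable k k'' ∧
      ∀ (K : Type u) [Field K] [Algebra k'' K] (x' : ↥(FBase.bc f k'')),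
        _root_.IsConnected (⇑(FBase.bcπ (FBase.bcStr f k'') K) ⁻¹' connectedComponent x') := by
  classical
  have hx' : ∀ c : _root_.ConnectedComponents ↥X, ∃ (x : X) (_ : _root_.ConnectedComponents.mk x = c)
      (φ : k →+* X.residueField x),
      Spec.map (CommRingCat.ofHom φ) = X.fromSpecResidueField x ≫ f ∧
      (letI := φ.toAlgebra; FiniteDimensional k (separableClosure k (X.residueField x))) := by
    intro c
    obtain ⟨x, hxc, φ, hφ, hfin⟩ := hx c
    exact ⟨x, hxc, φ, hφ, hfin⟩
  choose xc hxc φ hφ hfin using hx'
  obtain ⟨L, hLfin, hLsplit⟩ :=
    Groth.Agent.Lib.Helper51.exists_intermediateField_splitsSepClosure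
      (fun c : _root_.ConnectedComponents ↥X => X.residueField (xc c)) φ hfin
  refine ⟨L, inferInstance, inferInstance, hLfin, inferInstance, ?_⟩
  intro K _ _ x'
  unfold FBase.bcπ FBase.bcStr
  unfold FBase.bc at x'
  exact Groth.Agent.Lib.Helper51.isConnected_preimage_connectedComponent_of_splits f L
    (fun c => ⟨xc c, hxc c, φ c, hφ c, hLsplit c⟩) K x'

end Groth.Agent.S4645
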