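import Groth.Statements.S4646
import Mathlib
import Groth.Agent.Lib.Helper51.CompSplit

set_option autoImplicit false
open CategoryTheory AlgebraicGeometry
universe u
open FBase

namespace Groth.Agent.S4646

/-- Let X be a scheme over a field k having finitely many irreducible components, such that for the
generic point x of each irreducible component the separable algebraic closure of k in κ(x) has
finite degree over k. Then there is a finite separable extension L of k such that all irreducible
components of X ⊗_k L are geometrically irreducible over L: for every extension field K of L and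
every irreducible component Z' of X ⊗_k L, the inverse image of Z' in (X ⊗_k L) ⊗_L K is
irreducible. (No finite-type hypothesis on X.) -/
theorem result {k : Type u} [Field k] {X : Scheme.{u}}
    (f : X ⟶ Spec (CommRingCat.of k)) [Finite ↥(irreducibleComponents ↥X)]
    (hx : ∀ (Z : Set ↥X) (hZ : Z ∈ irreducibleComponents ↥X),
      FBase.ResidueFieldProp f hZ.1.genericPoint (fun K _ _ => FiniteDimensional k (separableClosure k K))) :
    ∃ (L : Type u) (_ : Field L) (_ : Algebra k L), FiniteDimensional k L ∧ Algebra.IsSeparable k L ∧
      ∀ (K : Type u) [Field K] [Algebra L K] (Z' : Set ↥(FBase.bc f L)), Z' ∈ irreducibleComponents ↥(FBase.bc f L) →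
        IsIrreducible (⇑(FBase.bcπ (FBase.bcStr f L) K) ⁻¹' Z') := by
  classical
  -- choose the algebra structures on the residue fields of the generic points
  have hx' : ∀ c : ↥(irreducibleComponents ↥X), ∃ φ : k →+* X.residueField c.2.1.genericPoint,
      Spec.map (CommRingCat.ofHom φ) = X.fromSpecResidueField c.2.1.genericPoint ≫ f ∧
      (letI := φ.toAlgebra;
        FiniteDimensional k (separableClosure k (X.residueField c.2.1.genericPoint))) :=
    fun c => hx c.1 c.2
  choose φ hφ hfin using hx'
  obtain ⟨L, hLfin, hLsplit⟩ :=
    Groth.Agent.Lib.Helper51.exists_intermediateField_splitsSepClosure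
      (fun c : ↥(irreducibleComponents ↥X) => X.residueField c.2.1.genericPoint) φ hfin
  refine ⟨L, inferInstance, inferInstance, hLfin, inferInstance, ?_⟩
  intro K _ _ Z' hZ'
  unfold FBase.bcπ FBase.bcStr
  unfold FBase.bc at Z' hZ'
  refine Groth.Agent.Lib.Helper51.isIrreducible_preimage_irreducibleComponent_of_splits f L ?_ K Z' hZ'
  intro c
  refine ⟨c.2.1.genericPoint, ?_, φ c, hφ c, hLsplit c⟩
  have h1 := c.2.1.isGenericPoint_genericPoint_closure
  rwa [(isClosed_of_mem_irreducibleComponents c.1 c.2).closure_eq] at h1

end Groth.Agent.S4646
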