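import Groth.Statements.S4647
import Groth.Agent.Lib.Helper30.LocallyIrreducible
import Mathlib.AlgebraicGeometry.Stalk
import Mathlib.AlgebraicGeometry.Properties
import Mathlib.RingTheory.Flat.FaithfullyFlat.Algebra
import Mathlib.RingTheory.RingHom.FaithfullyFlat

set_option autoImplicit false
open CategoryTheory AlgebraicGeometry
universe u
open FDesc

namespace Groth.Agent.S4647

open Groth.Agent.Lib.Helper30

theorem stalkMap_injective_of_flat {X Y : Scheme.{u}} (f : X ⟶ Y) [Flat f] (x : X) :
    Function.Injective (f.stalkMap x) := by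
  algebraize [(f.stalkMap x).hom]
  have : Module.FaithfullyFlat (Y.presheaf.stalk (f x)) (X.presheaf.stalk x) :=
    @Module.FaithfullyFlat.of_flat_of_isLocalHom _ _ _ _ _ _ _
      (Flat.stalkMap f x) (f.toLRSHom.prop x)
  exact ‹RingHom.FaithfullyFlat _›.injective

theorem exists_generic_generalization {Y : Scheme.{u}} (y : Y)
    [IsDomain (Y.presheaf.stalk y)] :
    ∃ ζ : Y, ζ ⤳ y ∧ ∀ y' : Y, y' ⤳ y → ζ ⤳ y' := by
  let η₀ : PrimeSpectrum (Y.presheaf.stalk y) := ⟨⊥, Ideal.isPrime_bot⟩
  have hη₀ : ∀ p : PrimeSpectrum (Y.presheaf.stalk y), η₀ ⤳ p := by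
    intro p
    rw [← PrimeSpectrum.le_iff_specializes]
    exact bot_le (a := p.asIdeal)
  have hmem : ∀ p : Spec (Y.presheaf.stalk y), (Y.fromSpecStalk y) p ⤳ y := by
    intro p
    have : (Y.fromSpecStalk y) p ∈ Set.range (Y.fromSpecStalk y) := ⟨p, rfl⟩
    rw [Scheme.range_fromSpecStalk] at this
    exact this
  refine ⟨(Y.fromSpecStalk y) η₀, hmem η₀, ?_⟩
  intro y' hy'
  have : y' ∈ Set.range (Y.fromSpecStalk y) := by
    rw [Scheme.range_fromSpecStalk]
    exact hy'
  obtain ⟨p, rfl⟩ := this
  exact (hη₀ p).map (Y.fromSpecStalk y).continuous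

/-- Let f : X → Y be a faithfully flat (flat and surjective) morphism. If all local rings of X are
domains (in particular if X is locally integral) and the underlying space of Y is locally
Noetherian, then Y is locally integral: every point of Y has an open neighbourhood which is an
integral scheme. -/
theorem result {X Y : Scheme.{u}} (f : X ⟶ Y) [Flat f] [Surjective f]
    (hX : ∀ x : X, IsDomain ↑(X.presheaf.stalk x))
    (hY : ∀ y : Y, ∃ U : Y.Opens, y ∈ U ∧ TopologicalSpace.NoetherianSpace ↥U) (y : Y) :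
    ∃ U : Y.Opens, y ∈ U ∧ IsIntegral (U : Scheme.{u}) := by
  have hdom : ∀ y : Y, IsDomain ↑(Y.presheaf.stalk y) := by
    intro y
    obtain ⟨x, rfl⟩ := f.surjective y
    have := hX x
    exact (stalkMap_injective_of_flat f x).isDomain (f.stalkMap x).hom
  have hred : IsReduced Y := by
    have : ∀ y : Y, _root_.IsReduced ↑(Y.presheaf.stalk y) := fun y => by
      have := hdom y
      infer_instance
    exact isReduced_of_isReduced_stalk Y
  have := hdom y
  obtain ⟨ζ, hζy, hζ⟩ := exists_generic_generalization y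
  obtain ⟨U₀, hyU₀, hU₀⟩ := hY y
  obtain ⟨V, hVo, hyV, -, hVζ⟩ :=
    exists_open_subset_closure_of_noetherian_nhd y ζ hζ (U₀ : Set Y) U₀.isOpen hyU₀
  have hζV : ζ ∈ V := hζy.mem_open hVo hyV
  have hirr : IsIrreducible V := isIrreducible_of_subset_closure_singleton hζV hVζ
  let U : Y.Opens := ⟨V, hVo⟩
  refine ⟨U, hyV, ?_⟩
  have hU : IrreducibleSpace ↥(U : Scheme.{u}) := Subtype.irreducibleSpace hirr
  exact isIntegral_of_irreducibleSpace_of_isReduced _

end Groth.Agent.S4647
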