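import Groth.Statements.S4648
import Mathlib
import Groth.Agent.S15542
import Groth.Agent.Lib.Helper64.QuasiFlat
import Groth.Agent.Lib.Helper36.ProConsScheme2
import Groth.Agent.Lib.Helper46.ProConsClosure

set_option autoImplicit false
open CategoryTheory AlgebraicGeometry
universe u
open FDesc

namespace Groth.Agent.S4648

/-- Let f : X → Y be a quasi-flat, surjective and quasi-compact morphism and Z a subset of Y. Then Z is
a locally closed pro-constructible subset of Y if and only if f⁻¹(Z) is a locally closed
pro-constructible subset of X. -/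
theorem result {X Y : Scheme.{u}} (f : X ⟶ Y)
    (hf : FDesc.IsQuasiFlat f) [Surjective f] [QuasiCompact f] (Z : Set ↥Y) :
    (IsLocallyClosed Z ∧ ProCons.IsProConstructible Z) ↔
      (IsLocallyClosed (⇑f ⁻¹' Z) ∧ ProCons.IsProConstructible (⇑f ⁻¹' Z)) := by
  have hgen : GeneralizingMap f.base :=
    Groth.Agent.Lib.Helper64.QuasiFlat.generalizingMap_of_isQuasiFlat f hf
  have hq : Topology.IsQuotientMap f.base :=
    Groth.Agent.Lib.Helper64.QuasiFlat.isQuotientMap_of_generalizingMap f hgen
  constructor
  · rintro ⟨hlc, hpc⟩
    exact ⟨hlc.preimage f.continuous, Groth.Agent.S15542.result f Z hpc⟩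
  · rintro ⟨hlc, hpc⟩
    have hZ : ProCons.IsProConstructible Z := by
      have := Groth.Agent.Lib.Helper36.scheme_isProConstructible_image f hpc
      rwa [Set.image_preimage_eq Z f.surjective] at this
    refine ⟨?_, hZ⟩
    rw [isLocallyClosed_iff_isOpen_coborder] at hlc ⊢
    have hcl := Groth.Agent.Lib.Helper46.preimage_closure_eq_of_isProConstructible f hgen hZ
    have hcob : f.base ⁻¹' coborder Z = coborder (f.base ⁻¹' Z) := by
      unfold coborder
      rw [Set.preimage_compl, Set.preimage_diff, hcl]
    rw [← hq.isOpen_preimage, hcob]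
    exact hlc

end Groth.Agent.S4648
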