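import Groth.Statements.S4652
import Groth.Agent.Lib.Helper2.RankSections
import Groth.Agent.Lib.Helper2.FinPresAff

set_option autoImplicit false
open CategoryTheory AlgebraicGeometry
universe u
open FDesc

namespace Groth.Agent.S4652

open Groth.Agent.Lib.Helper2.RankSections Groth.Agent.Lib.Helper2.LocFreeAff
  Groth.Agent.Lib.Helper2.FreeModAff Groth.Agent.Lib.Helper2.FinLocFreeAff
  Groth.Agent.Lib.Helper2.FinTypeAff
  Groth.Agent.Lib.Lead Groth.Agent.Lib.Lead.QCohAff Groth.Agent.Lib.Helper21.RelFPSch Scheme.Modules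

section
variable {X : Scheme.{u}}

set_option backward.isDefEq.respectTransparency false in
/-- freeness passes to smaller open immersions -/
theorem nonempty_iso_freeMod_of_factor {Y Z : Scheme.{u}} (F : X.Modules) (j : Y ⟶ X)
    [IsOpenImmersion j] (i : Z ⟶ X) [IsOpenImmersion i] (k : Z ⟶ Y) [IsOpenImmersion k]
    (hk : k ≫ j = i) (n : ℕ) (H : Nonempty (F.restrict j ≅ FlatMod.freeMod Y n)) :
    Nonempty (F.restrict i ≅ FlatMod.freeMod Z n) := by
  rw [nonempty_iso_freeMod_iff_free] at H ⊢
  obtain ⟨e⟩ := nonempty_iso_free_restrict k _ _ H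
  exact ⟨(restrictFunctorCongr hk.symm).app F ≪≫ (restrictFunctorComp k j).app F ≪≫ e⟩

theorem isFinLocFree_of_iso {M N : X.Modules} (e : M ≅ N) (h : FlatMod.IsFinLocFree M) :
    FlatMod.IsFinLocFree N := by
  intro x
  obtain ⟨U, n, hxU, ⟨e'⟩⟩ := h x
  exact ⟨U, n, hxU, ⟨(restrictFunctor U.ι).mapIso e.symm ≪≫ e'⟩⟩

theorem isQuasicoherent_of_isFP (F : X.Modules) (hF : CohB1.IsFP F) : F.IsQuasicoherent :=
  SheafOfModules.QuasicoherentData.isQuasicoherent (R := X.ringCatSheaf) (M := F)
    (SheafOfModules.IsFinitePresentation.exists_quasicoherentData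
      (R := X.ringCatSheaf) F).choose

end


/-- Let X be a scheme, F a finitely presented O_X-module and x a point of X. Then F_x is a flat module
over the local ring O_{X,x} if and only if x has an open neighbourhood U such that the restriction
of F to U is finite locally free. -/
theorem result {X : Scheme.{u}} (F : X.Modules) (hF : CohB1.IsFP F) (x : X) :
    FlatMod.IsFlatAt F x ↔ ∃ U : X.Opens, x ∈ U ∧ FlatMod.IsFinLocFree ((Scheme.Modules.pullback U.ι).obj F) := by
  haveI : F.IsQuasicoherent := isQuasicoherent_of_isFP F hF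
  haveI : SheafOfModules.IsFinitePresentation (R := X.ringCatSheaf) F := hF
  constructor
  · intro hflat
    obtain ⟨U, hU, hxU, -⟩ := exists_isAffineOpen_mem_and_subset (U := (⊤ : X.Opens)) (x := x) trivial
    haveI : Module.FinitePresentation Γ(X, U) Γ(F, U) := finitePresentation_sections F hU
    set p := (hU.primeIdealOf ⟨x, hxU⟩).asIdeal with hp
    have h1 : Module.Flat Γ(X, U) (StalkOver F U x hxU) :=
      (isFlatAt_iff_flat_stalkOver F hU x hxU).1 hflat
    haveI := isLocalizedModule_germL F hU x hxU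
    have h2 : Module.Flat Γ(X, U) (LocalizedModule p.primeCompl Γ(F, U)) :=
      Module.Flat.of_linearEquiv (IsLocalizedModule.iso p.primeCompl (germL F U x hxU))
    haveI h3 : Module.Flat (Localization.AtPrime p) (LocalizedModule p.primeCompl Γ(F, U)) :=
      (Module.flat_iff_of_isLocalization (Localization.AtPrime p) p.primeCompl _).2 h2
    have hfree : Module.Free (Localization.AtPrime p) (LocalizedModule p.primeCompl Γ(F, U)) :=
      Module.free_of_flat_of_isLocalRing
    obtain ⟨r, hxr, he⟩ := exists_basicOpen_iso_freeMod F hU x hxU hfree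
    refine ⟨X.basicOpen r, hxr, ?_⟩
    refine isFinLocFree_of_iso ((restrictFunctorIsoPullback (X.basicOpen r).ι).app F) ?_
    intro y
    refine ⟨⊤, Module.finrank (Localization.AtPrime p) (LocalizedModule p.primeCompl Γ(F, U)),
      trivial, ?_⟩
    rw [nonempty_iso_freeMod_iff_free] at he ⊢
    exact nonempty_iso_free_restrict _ _ _ he
  · rintro ⟨W, hxW, hG⟩
    have hG' : FlatMod.IsFinLocFree (F.restrict W.ι) :=
      isFinLocFree_of_iso ((restrictFunctorIsoPullback W.ι).app F).symm hG
    obtain ⟨V, n, hxV, he⟩ := hG' ⟨x, hxW⟩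
    have he' : Nonempty (F.restrict (V.ι ≫ W.ι) ≅ FlatMod.freeMod (↑V) n) := by
      obtain ⟨e⟩ := he
      exact ⟨(restrictFunctorComp V.ι W.ι).app F ≪≫ e⟩
    have hx' : x ∈ (V.ι ≫ W.ι).opensRange := ⟨⟨⟨x, hxW⟩, hxV⟩, rfl⟩
    obtain ⟨U, hU, hxU, hUle⟩ := exists_isAffineOpen_mem_and_subset
      (U := (V.ι ≫ W.ι).opensRange) (x := x) hx'
    have hrange : Set.range U.ι ⊆ Set.range (V.ι ≫ W.ι) := by
      rintro _ ⟨y, rfl⟩
      exact hUle y.2
    have he'' := nonempty_iso_freeMod_of_factor F (V.ι ≫ W.ι) U.ι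
      (IsOpenImmersion.lift (V.ι ≫ W.ι) U.ι hrange) (IsOpenImmersion.lift_fac _ _ _) n he'
    obtain ⟨e⟩ := (nonempty_iso_freeMod_iff F hU n).1 he''
    haveI : Module.Free Γ(X, U) Γ(F, U) := Module.Free.of_equiv e.symm
    exact (flat_sections_iff_isFlatAt F hU).1 inferInstance x hxU

end Groth.Agent.S4652
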