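import Groth.Statements.S4653
import Groth.Agent.Lib.Helper15.SuppTensor

set_option autoImplicit false
open CategoryTheory AlgebraicGeometry
universe u
open FDesc

namespace Groth.Agent.S4653

/-- Let f : X → Y be a morphism of schemes, F a quasi-coherent O_X-module of finite type which is flat
over Y, E a quasi-coherent O_Y-module of finite type, and x a point of X with image y. Then x is a
maximal point of the support of f^*E ⊗ F (a point of the support admitting no proper generization in
it) if and only if y is a maximal point of Supp E and x, viewed in the fibre f⁻¹(y), is a maximal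
point of the support of the restriction of F to that fibre. -/
theorem result {X Y : Scheme.{u}} (f : X ⟶ Y) (F : X.Modules) (hF : Coh.IsCoh F)
    (hfl : FlatMod.IsFlatOver f F) (E : Y.Modules) (hE : Coh.IsCoh E) (x : X) :
    (x ∈ CohB1.support (CohB1.tensorMod ((Scheme.Modules.pullback f).obj E) F) ∧
        ∀ z ∈ CohB1.support (CohB1.tensorMod ((Scheme.Modules.pullback f).obj E) F), z ⤳ x → z = x) ↔
      ((f x ∈ CohB1.support E ∧ ∀ w ∈ CohB1.support E, w ⤳ f x → w = f x) ∧
        (f.asFiber x ∈ CohB1.support ((Scheme.Modules.pullback (f.fiberι (f x))).obj F) ∧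
          ∀ z ∈ CohB1.support ((Scheme.Modules.pullback (f.fiberι (f x))).obj F), z ⤳ f.asFiber x → z = f.asFiber x)) := by
  have hT : ∀ z : X, z ∈ CohB1.support (CohB1.tensorMod ((Scheme.Modules.pullback f).obj E) F) ↔
      (f z ∈ CohB1.support E ∧ z ∈ CohB1.support F) := fun z =>
    Groth.Agent.Lib.Helper15.SuppTensor.mem_support_tensor_pullback_iff f F hF E hE.1 z (hfl z)
  have hι : ∀ w : ↥(f.fiber (f x)),
      w ∈ CohB1.support ((Scheme.Modules.pullback (f.fiberι (f x))).obj F) ↔
        (f.fiberι (f x)) w ∈ CohB1.support F := fun w =>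
    Groth.Agent.Lib.Helper15.SuppTensor.mem_support_pullback_iff (f.fiberι (f x)) F hF w
  have hιa : (f.fiberι (f x)) (f.asFiber x) = x := f.fiberι_asFiber x
  have hfib : ∀ w : ↥(f.fiber (f x)), f ((f.fiberι (f x)) w) = f x := by
    intro w
    have h1 : (f.fiberι (f x)) w ∈ Set.range (f.fiberι (f x)) := ⟨w, rfl⟩
    rw [f.range_fiberι (f x)] at h1
    exact h1
  have hlift : ∀ z : X, f z = f x → ∃ w : ↥(f.fiber (f x)), (f.fiberι (f x)) w = z := by
    intro z hz
    have h1 : z ∈ Set.range (f.fiberι (f x)) := by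
      rw [f.range_fiberι (f x)]
      exact hz
    exact h1
  have hind := (f.fiberι (f x)).isEmbedding.toIsInducing
  have hinj := (f.fiberι (f x)).isEmbedding.injective
  constructor
  · rintro ⟨hx, hmax⟩
    obtain ⟨hEy, hFx⟩ := (hT x).1 hx
    refine ⟨⟨hEy, ?_⟩, ⟨?_, ?_⟩⟩
    · intro w hw hwy
      obtain ⟨x', hx'x, hfx', hx'F⟩ :=
        Groth.Agent.Lib.Helper15.GenLiftSch.exists_generization_in_support f F hF x (hfl x) hFx w hwy
      have h1 : x' ∈ CohB1.support (CohB1.tensorMod ((Scheme.Modules.pullback f).obj E) F) :=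
        (hT x').2 ⟨hfx' ▸ hw, hx'F⟩
      have h2 := hmax x' h1 hx'x
      rw [← hfx', h2]
    · rw [hι, hιa]
      exact hFx
    · intro w hw hwa
      have h1 : (f.fiberι (f x)) w ∈ CohB1.support F := (hι w).1 hw
      have h2 : (f.fiberι (f x)) w ∈
          CohB1.support (CohB1.tensorMod ((Scheme.Modules.pullback f).obj E) F) :=
        (hT _).2 ⟨by rw [hfib w]; exact hEy, h1⟩
      have h3 : (f.fiberι (f x)) w ⤳ x := by
        have := hwa.map (f.fiberι (f x)).continuous
        rwa [hιa] at this
      have h4 := hmax _ h2 h3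
      exact hinj (h4.trans hιa.symm)
  · rintro ⟨⟨hEy, hEmax⟩, ⟨haF, hamax⟩⟩
    have hFx : x ∈ CohB1.support F := by
      have := (hι (f.asFiber x)).1 haF
      rwa [hιa] at this
    refine ⟨(hT x).2 ⟨hEy, hFx⟩, ?_⟩
    intro z hz hzx
    obtain ⟨hEz, hFz⟩ := (hT z).1 hz
    have h1 : f z = f x := hEmax (f z) hEz (hzx.map f.continuous)
    obtain ⟨w, rfl⟩ := hlift z h1
    have h2 : w ∈ CohB1.support ((Scheme.Modules.pullback (f.fiberι (f x))).obj F) :=
      (hι w).2 hFz
    have h3 : w ⤳ f.asFiber x := by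
      rw [← hind.specializes_iff, hιa]
      exact hzx
    rw [hamax w h2 h3, hιa]

end Groth.Agent.S4653
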