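import Groth.Statements.S4654
import Groth.Agent.Lib.Helper78.ModStalkExact
import Groth.Agent.Lib.Helper78.FlatSES

set_option autoImplicit false
open CategoryTheory AlgebraicGeometry
universe u
open FDesc

namespace Groth.Agent.S4654

open Groth.Agent.Lib.Helper78.ModStalk Groth.Agent.Lib.Helper78.ModStalkExact
  Groth.Agent.Lib.Helper78.FlatSES

/-- Let f : X → Y be a morphism of schemes and 0 → F' → F → F'' → 0 a short exact sequence of
quasi-coherent O_X-modules such that F'' is flat over Y. Then F is flat over Y if and only if F' is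
flat over Y. -/
theorem result {X Y : Scheme.{u}} (f : X ⟶ Y) (S : ShortComplex X.Modules)
    (hS : S.ShortExact) (h₁ : Coh.IsQCoh S.X₁) (h₂ : Coh.IsQCoh S.X₂) (h₃ : Coh.IsQCoh S.X₃)
    (hflat : FlatMod.IsFlatOver f S.X₃) :
    FlatMod.IsFlatOver f S.X₂ ↔ FlatMod.IsFlatOver f S.X₁ := by
  have key : ∀ x : X, FlatMod.IsFlatOverAt f S.X₂ x ↔ FlatMod.IsFlatOverAt f S.X₁ x := by
    intro x
    unfold FlatMod.IsFlatOverAt
    letI i1 := FlatMod.moduleStalkOver f S.X₁ x
    letI i2 := FlatMod.moduleStalkOver f S.X₂ x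
    letI i3 := FlatMod.moduleStalkOver f S.X₃ x
    have h3 : Module.Flat (Y.presheaf.stalk (f.base x)) (S.X₃.presheaf.stalk x) := hflat x
    let f' : S.X₁.presheaf.stalk x →ₗ[Y.presheaf.stalk (f.base x)] S.X₂.presheaf.stalk x :=
      { toFun := stalkMap S.f x
        map_add' := map_add _
        map_smul' := fun r m => map_smul (stalkMap S.f x) ((f.stalkMap x).hom r) m }
    let g' : S.X₂.presheaf.stalk x →ₗ[Y.presheaf.stalk (f.base x)] S.X₃.presheaf.stalk x :=
      { toFun := stalkMap S.g x
        map_add' := map_add _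
        map_smul' := fun r m => map_smul (stalkMap S.g x) ((f.stalkMap x).hom r) m }
    exact flat_iff_of_exact f' g' (stalk_injective S hS x) (stalk_function_exact S hS x)
      (stalk_surjective S hS x)
  constructor
  · intro h x
    exact (key x).mp (h x)
  · intro h x
    exact (key x).mpr (h x)


end Groth.Agent.S4654
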