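import Groth.Statements.S9350
import Groth.Agent.Lib.Lead.PullbackAff6
import Groth.Agent.Lib.Lead.FlatTensor

set_option autoImplicit false
universe u
open FlatMod

namespace Groth.Agent.S9350

open AlgebraicGeometry CategoryTheory TensorProduct Groth.Agent.Lib.Lead in
theorem aux {X Y S : Scheme.{u}} (h : X ⟶ Y) (q : Y ⟶ S)
    (G : Y.Modules) (hG : Coh.IsQCoh G) (x : X) (hflat : (h.stalkMap x).hom.Flat) :
    FlatMod.IsFlatOverAt q G (h.base x) ↔
      FlatMod.IsFlatOverAt (h ≫ q) ((Scheme.Modules.pullback h).obj G) x := by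
  haveI : G.IsQuasicoherent := hG
  letI algAB : Algebra (S.presheaf.stalk (q (h x))) (Y.presheaf.stalk (h x)) :=
    (q.stalkMap (h x)).hom.toAlgebra
  letI algBC : Algebra (Y.presheaf.stalk (h x)) (X.presheaf.stalk x) :=
    (h.stalkMap x).hom.toAlgebra
  letI algAC : Algebra (S.presheaf.stalk (q (h x))) (X.presheaf.stalk x) :=
    ((h ≫ q).stalkMap x).hom.toAlgebra
  haveI : IsScalarTower (S.presheaf.stalk (q (h x))) (Y.presheaf.stalk (h x))
      (X.presheaf.stalk x) := IsScalarTower.of_algebraMap_eq' (by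
    change ((h ≫ q).stalkMap x).hom = ((h.stalkMap x).hom).comp (q.stalkMap (h x)).hom
    rw [Scheme.Hom.stalkMap_comp]
    rfl)
  letI modAM : Module (S.presheaf.stalk (q (h x))) (G.presheaf.stalk (h x)) :=
    FlatMod.moduleStalkOver q G (h x)
  haveI : IsScalarTower (S.presheaf.stalk (q (h x))) (Y.presheaf.stalk (h x))
      (G.presheaf.stalk (h x)) := IsScalarTower.of_algebraMap_smul fun r m => rfl
  letI modAN : Module (S.presheaf.stalk (q (h x)))
      (((Scheme.Modules.pullback h).obj G).presheaf.stalk x) :=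
    FlatMod.moduleStalkOver (h ≫ q) ((Scheme.Modules.pullback h).obj G) x
  haveI : IsScalarTower (S.presheaf.stalk (q (h x))) (X.presheaf.stalk x)
      (((Scheme.Modules.pullback h).obj G).presheaf.stalk x) :=
    IsScalarTower.of_algebraMap_smul fun r m => rfl
  haveI : Module.Flat (Y.presheaf.stalk (h x)) (X.presheaf.stalk x) := hflat
  haveI : IsLocalHom (algebraMap (Y.presheaf.stalk (h x)) (X.presheaf.stalk x)) :=
    inferInstanceAs (IsLocalHom (h.stalkMap x).hom)
  haveI : Module.FaithfullyFlat (Y.presheaf.stalk (h x)) (X.presheaf.stalk x) :=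
    Module.FaithfullyFlat.of_flat_of_isLocalHom
  obtain ⟨e⟩ := PullbackAff.nonempty_stalk_pullback_equiv h G x
  have h1 : Module.Flat (S.presheaf.stalk (q (h x)))
      (((Scheme.Modules.pullback h).obj G).presheaf.stalk x) ↔
      Module.Flat (S.presheaf.stalk (q (h x)))
        ((X.presheaf.stalk x) ⊗[Y.presheaf.stalk (h x)] (G.presheaf.stalk (h x))) :=
    Module.Flat.equiv_iff (e.restrictScalars (S.presheaf.stalk (q (h x))))
  have h2 := FlatTensor.flat_tensor_iff (A := S.presheaf.stalk (q (h x)))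
    (B := Y.presheaf.stalk (h x)) (C := X.presheaf.stalk x) (M := G.presheaf.stalk (h x))
  exact (h1.trans h2).symm

open AlgebraicGeometry CategoryTheory in
/-- Let h : X → Y be a morphism of S-schemes, q : Y → S, G a quasi-coherent O_Y-module and x ∈ X with h
flat at x. Flatness of G over S at h x is equivalent to flatness of h^*G over S at x. -/
theorem result {X Y S : Scheme.{u}} (h : X ⟶ Y) (q : Y ⟶ S)
    (G : Y.Modules) (hG : Coh.IsQCoh G) (x : X) (hflat : (h.stalkMap x).hom.Flat) :
    FlatMod.IsFlatOverAt q G (h.base x) ↔ FlatMod.IsFlatOverAt (h ≫ q) ((Scheme.Modules.pullback h).obj G) x :=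
  aux h q G hG x hflat

end Groth.Agent.S9350
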