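import Groth.Statements.S4657
import Groth.Agent.Lib.Lead.PullbackAff6
import Groth.Agent.Lib.Helper21.QCohFinite
import Groth.Agent.Lib.Helper29.AssNoeth
import Groth.Agent.Lib.Helper29.QCohPush

set_option autoImplicit false
open CategoryTheory AlgebraicGeometry
universe u
open AssSch

namespace Groth.Agent.S4657

open Groth.Agent.Lib.Helper29.QCohLoc

section transfer

open TensorProduct

variable {A B : Type u} [CommRing A] [CommRing B] [Algebra A B]
  (hbij : Function.Bijective (algebraMap A B))

/-- along a bijective algebra map, the base change of a module is the module itself -/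
noncomputable def tensorEquivOfBijective (N : Type u) [AddCommGroup N] [Module A N] :
    (B ⊗[A] N) ≃ₗ[A] N :=
  (TensorProduct.congr (LinearEquiv.ofBijective (Algebra.linearMap A B) hbij).symm
    (LinearEquiv.refl A N)) ≪≫ₗ TensorProduct.lid A N

include hbij in
theorem length_tensor_of_bijective (N : Type u) [AddCommGroup N] [Module A N] :
    Module.length B (B ⊗[A] N) = Module.length A N := by
  rw [← Module.length_eq_of_surjective (S := A) (R := B) (M := B ⊗[A] N) hbij.2]
  exact (tensorEquivOfBijective hbij N).length_eq

include hbij in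
theorem mem_maximalIdeal_iff_of_bijective [IsLocalRing A] [IsLocalRing B] (a : A) :
    a ∈ IsLocalRing.maximalIdeal A ↔ algebraMap A B a ∈ IsLocalRing.maximalIdeal B := by
  rw [IsLocalRing.mem_maximalIdeal, IsLocalRing.mem_maximalIdeal, mem_nonunits_iff,
    mem_nonunits_iff]
  have := isUnit_map_iff (RingEquiv.ofBijective (algebraMap A B) hbij) a
  exact not_congr this.symm

include hbij in
theorem isAssociatedPrime_maximalIdeal_iff_of_bijective [IsLocalRing A] [IsLocalRing B]
    (M : Type u) [AddCommGroup M] [Module A M] [Module B M] [IsScalarTower A B M] :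
    IsAssociatedPrime (IsLocalRing.maximalIdeal B) M ↔
      IsAssociatedPrime (IsLocalRing.maximalIdeal A) M := by
  constructor
  · rintro ⟨-, x, hx⟩
    refine ⟨inferInstance, x, ?_⟩
    ext a
    rw [mem_maximalIdeal_iff_of_bijective hbij, hx, Ideal.mem_radical_iff, Ideal.mem_radical_iff]
    refine exists_congr fun n => ?_
    rw [Submodule.mem_colon_singleton, Submodule.mem_colon_singleton, Submodule.mem_bot,
      Submodule.mem_bot, ← map_pow, algebraMap_smul]
  · rintro ⟨-, x, hx⟩
    refine ⟨inferInstance, x, ?_⟩
    ext b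
    obtain ⟨a, rfl⟩ := hbij.2 b
    rw [← mem_maximalIdeal_iff_of_bijective hbij, hx, Ideal.mem_radical_iff, Ideal.mem_radical_iff]
    refine exists_congr fun n => ?_
    rw [Submodule.mem_colon_singleton, Submodule.mem_colon_singleton, Submodule.mem_bot,
      Submodule.mem_bot, ← map_pow, algebraMap_smul]

end transfer

section restrict

open TensorProduct Groth.Agent.Lib.Lead.PullbackAff

variable {X : Scheme.{u}} (U : X.Opens) (F : X.Modules) [F.IsQuasicoherent]

theorem stalkMap_ι_bijective (y : (↑U : Scheme.{u})) :
    Function.Bijective (U.ι.stalkMap y).hom :=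
  ConcreteCategory.bijective_of_isIso (U.ι.stalkMap y)

theorem isAssPoint_pullback_ι_iff (y : (↑U : Scheme.{u})) :
    Curv2.IsAssPoint ((Scheme.Modules.pullback U.ι).obj F) y ↔ Curv2.IsAssPoint F (U.ι y) := by
  let _ := (U.ι.stalkMap y).hom.toAlgebra
  obtain ⟨e⟩ := nonempty_stalk_pullback_equiv U.ι F y
  have hbij : Function.Bijective (algebraMap (X.presheaf.stalk (U.ι y))
      ((↑U : Scheme.{u}).presheaf.stalk y)) := stalkMap_ι_bijective U y
  change IsAssociatedPrime _ _ ↔ IsAssociatedPrime _ _
  rw [LinearEquiv.isAssociatedPrime_iff e, isAssociatedPrime_maximalIdeal_iff_of_bijective hbij,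
    LinearEquiv.isAssociatedPrime_iff (tensorEquivOfBijective hbij _)]

theorem length_stalk_pullback_ι (y : (↑U : Scheme.{u})) :
    Module.length ((↑U : Scheme.{u}).presheaf.stalk y)
      (((Scheme.Modules.pullback U.ι).obj F).presheaf.stalk y) =
    Module.length (X.presheaf.stalk (U.ι y)) (F.presheaf.stalk (U.ι y)) := by
  let _ := (U.ι.stalkMap y).hom.toAlgebra
  obtain ⟨e⟩ := nonempty_stalk_pullback_equiv U.ι F y
  have hbij : Function.Bijective (algebraMap (X.presheaf.stalk (U.ι y))
      ((↑U : Scheme.{u}).presheaf.stalk y)) := stalkMap_ι_bijective U y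
  rw [e.length_eq, length_tensor_of_bijective hbij]

end restrict


/-- Let X be a locally Noetherian scheme, U an open subset of X and F a coherent O_X-module such that U
∩ Supp F is dense in Supp F. Then F is a reduced module if and only if its restriction to U is a
reduced module and F has no embedded associated points. -/
theorem result {X : Scheme.{u}} [IsLocallyNoetherian X] (U : X.Opens) (F : X.Modules)
    (hF : Coh.IsCoh F) (hdense : CohB1.support F ⊆ closure ((U : Set ↥X) ∩ CohB1.support F)) :
    AssSch.IsReducedMod F ↔ AssSch.IsReducedMod ((Scheme.Modules.pullback U.ι).obj F) ∧ AssSch.NoEmbedded F := by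
  have hqc : F.IsQuasicoherent := hF.1
  constructor
  · rintro ⟨hNE, hlen⟩
    refine ⟨⟨?_, ?_⟩, hNE⟩
    · intro x' hx' y' hy' hyx'
      have hx := (isAssPoint_pullback_ι_iff U F x').mp hx'
      have hy := (isAssPoint_pullback_ι_iff U F y').mp hy'
      have := hNE (U.ι x') hx (U.ι y') hy (hyx'.map U.ι.continuous)
      exact U.ι.isOpenEmbedding.injective this
    · intro x' hx'
      rw [length_stalk_pullback_ι]
      exact hlen _ ((isAssPoint_pullback_ι_iff U F x').mp hx')
  · rintro ⟨⟨-, hlenU⟩, hNE⟩
    refine ⟨hNE, ?_⟩
    intro x hx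
    -- x lies in U
    have hxU : x ∈ U := by
      classical
      obtain ⟨W, hW, hxW, -⟩ := exists_isAffineOpen_mem_and_subset (U := (⊤ : X.Opens))
        (x := x) trivial
      have hN : IsNoetherianRing Γ(X, W) := IsLocallyNoetherian.component_noetherian ⟨W, hW⟩
      have hfinM : Module.Finite Γ(X, W) Γ(F, W) :=
        Groth.Agent.Lib.Helper21.QCohFinite.finite_sections_of_isFiniteType F hF.2 hW
      have hloc := LocAt.of_isQuasicoherent F hW
      -- associated points in W other than x
      let T : Set (Ideal Γ(X, W)) := associatedPrimes Γ(X, W) Γ(F, W) \ {(hW.primeIdealOf ⟨x, hxW⟩).asIdeal}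
      have hTfin : T.Finite := (associatedPrimes.finite Γ(X, W) Γ(F, W)).subset Set.sdiff_subset
      have hex : ∀ q ∈ T, ∃ b : Γ(X, W), b ∈ q ∧ b ∉ (hW.primeIdealOf ⟨x, hxW⟩).asIdeal := by
        intro q hq
        by_contra hcon
        push Not at hcon
        have hle : q ≤ (hW.primeIdealOf ⟨x, hxW⟩).asIdeal := hcon
        have hqass : IsAssociatedPrime q Γ(F, W) := hq.1
        have hqprime : q.IsPrime := hqass.isPrime
        obtain ⟨y, hyW, hyq⟩ := exists_point_of_prime hW q
        obtain ⟨-, s, hs⟩ := (isAssociatedPrime_iff).mp hqass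
        have hyAss : Curv2.IsAssPoint F y := by
          refine isAssPoint_of_ann_eq F hW hloc y hyW s ?_
          rw [hyq, hs]
          ext a
          rw [mem_ann, Submodule.mem_colon_singleton, Submodule.mem_bot]
        have hyx : y ⤳ x := specializes_of_primeIdealOf_le hW hxW hyW (hyq ▸ hle)
        have := hNE x hx y hyAss hyx
        apply hq.2
        rw [Set.mem_singleton_iff, ← hyq]
        subst this
        rfl
      choose! c hc1 hc2 using hex
      let b : Γ(X, W) := ∏ q ∈ hTfin.toFinset, c q
      have hb : b ∉ (hW.primeIdealOf ⟨x, hxW⟩).asIdeal := by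
        intro hmem
        obtain ⟨q, hq, hcq⟩ := ((hW.primeIdealOf ⟨x, hxW⟩).isPrime.prod_mem_iff).mp hmem
        exact hc2 q (hTfin.mem_toFinset.mp hq) hcq
      have hxb : x ∈ X.basicOpen b := by
        by_contra h
        exact hb ((mem_primeIdealOf_iff hW x hxW b).mpr h)
      have hxsupp : x ∈ CohB1.support F := by
        intro hss
        have hx' : IsAssociatedPrime _ (F.presheaf.stalk x) := hx
        have : Nontrivial (F.presheaf.stalk x) := by
          by_contra hcon
          rw [not_nontrivial_iff_subsingleton] at hcon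
          have := associatedPrimes.eq_empty_of_subsingleton (R := X.presheaf.stalk x)
            (M := F.presheaf.stalk x)
          have h2 : IsLocalRing.maximalIdeal (X.presheaf.stalk x) ∈
            associatedPrimes (X.presheaf.stalk x) (F.presheaf.stalk x) := hx'
          rw [this] at h2
          exact h2
        exact not_subsingleton _ hss
      obtain ⟨z, hzb, hzU, hzsupp⟩ := mem_closure_iff.mp (hdense hxsupp) _ (X.basicOpen b).isOpen hxb
      have hzW : z ∈ W := X.basicOpen_le b hzb
      -- a section with nonzero germ at z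
      have hznt : Nontrivial (F.presheaf.stalk z) := not_subsingleton_iff_nontrivial.mp hzsupp
      obtain ⟨m, hm⟩ := exists_ne (0 : F.presheaf.stalk z)
      obtain ⟨a, s, hza, hs⟩ := exists_germ_eq_smul F hW hloc z hzW m
      have hau : IsUnit (X.presheaf.germ W z hzW a) := (Scheme.mem_basicOpen X a z hzW).mp hza
      have hsne : F.presheaf.germ W z hzW s ≠ 0 := by
        rw [hs]
        intro h0
        obtain ⟨u, hu⟩ := hau
        have : (↑u⁻¹ : X.presheaf.stalk z) • (X.presheaf.germ W z hzW a • m) = 0 := by
          rw [h0, smul_zero]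
        rw [← mul_smul, ← hu, Units.inv_mul, one_smul] at this
        exact hm this
      obtain ⟨y, hyW, hyAss, hyz, -⟩ := exists_isAssPoint_specializes F hW hloc z hzW s hsne
      -- y must be x
      have hyx : y = x := by
        by_contra hne
        obtain ⟨t, ht⟩ := exists_section_ann_eq F hW hloc y hyW hyAss
        have hyT : (hW.primeIdealOf ⟨y, hyW⟩).asIdeal ∈ T := by
          refine ⟨?_, ?_⟩
          · rw [AssociatedPrimes.mem_iff, isAssociatedPrime_iff]
            refine ⟨(hW.primeIdealOf ⟨y, hyW⟩).isPrime, t, ?_⟩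
            rw [← ht]
            ext a
            rw [mem_ann, Submodule.mem_colon_singleton, Submodule.mem_bot]
          · rw [Set.mem_singleton_iff]
            intro e
            exact hne (primeIdealOf_injective hW hyW hxW (PrimeSpectrum.ext e))
        have hcy : c _ ∈ (hW.primeIdealOf ⟨y, hyW⟩).asIdeal := hc1 _ hyT
        have hbY : b ∈ (hW.primeIdealOf ⟨y, hyW⟩).asIdeal := by
          obtain ⟨d, hd⟩ := Finset.dvd_prod_of_mem c (hTfin.mem_toFinset.mpr hyT)
          change (∏ q ∈ hTfin.toFinset, c q) ∈ _
          rw [hd]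
          exact Ideal.mul_mem_right _ _ hcy
        have hbz : b ∈ (hW.primeIdealOf ⟨z, hzW⟩).asIdeal :=
          primeIdealOf_le_of_specializes hW hzW hyW hyz hbY
        exact (mem_primeIdealOf_iff hW z hzW b).mp hbz hzb
      subst hyx
      exact hyz.mem_open U.isOpen hzU
    let x' : (↑U : Scheme.{u}) := ⟨x, hxU⟩
    have hx' : Curv2.IsAssPoint ((Scheme.Modules.pullback U.ι).obj F) x' :=
      (isAssPoint_pullback_ι_iff U F x').mpr hx
    have h1 := hlenU x' hx'
    have h2 := length_stalk_pullback_ι U F x'
    exact h2.symm.trans h1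

end Groth.Agent.S4657
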