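import Groth.Statements.S4666
-- import your own Groth.Agent.* helpers here

set_option autoImplicit false
open CategoryTheory AlgebraicGeometry
universe u
open FDesc

namespace Groth.Agent.S4666

open CategoryTheory.Limits

theorem stalkMap_injective_of_flat {X Y : Scheme.{u}} (f : X ⟶ Y) [Flat f] (x : X) :
    Function.Injective (f.stalkMap x) := by
  algebraize [(f.stalkMap x).hom]
  have : Module.FaithfullyFlat (Y.presheaf.stalk (f x)) (X.presheaf.stalk x) :=
    @Module.FaithfullyFlat.of_flat_of_isLocalHom _ _ _ _ _ _ _
      (Flat.stalkMap f x) (f.toLRSHom.prop x)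
  exact ‹RingHom.FaithfullyFlat _›.injective

theorem app_injective_of_flat_of_surjective {X Y : Scheme.{u}} (f : X ⟶ Y) [Flat f]
    [Surjective f] (U : Y.Opens) : Function.Injective (f.app U) := by
  rw [injective_iff_map_eq_zero]
  intro s hs
  apply TopCat.Presheaf.section_ext Y.sheaf U s 0
  intro y hy
  change (Y.sheaf.presheaf.germ U y hy) s = (Y.sheaf.presheaf.germ U y hy) 0
  rw [map_zero]
  change Y.presheaf.germ U y hy s = 0
  obtain ⟨x, rfl⟩ := f.surjective y
  apply stalkMap_injective_of_flat f x
  rw [map_zero, Scheme.Hom.germ_stalkMap_apply, hs, map_zero]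

theorem ker_eq_bot_of_flat_of_surjective {X Y : Scheme.{u}} (f : X ⟶ Y) [Flat f]
    [Surjective f] : f.ker = ⊥ := by
  rw [eq_bot_iff]
  intro U
  refine (f.ideal_ker_le U).trans ?_
  rw [(RingHom.injective_iff_ker_eq_bot _).mp (app_injective_of_flat_of_surjective f U)]
  exact bot_le

theorem map_comap_eq {X Y : Scheme.{u}} (f : X ⟶ Y) [Flat f] [Surjective f]
    (J : Y.IdealSheafData) : (J.comap f).map f = J := by
  have h1 : (J.comap f).subschemeι ≫ f =
      (J.comapIso f).hom ≫ pullback.snd f J.subschemeι ≫ J.subschemeι := by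
    rw [← pullback.condition, ← Category.assoc, Scheme.IdealSheafData.comapIso_hom_fst]
  have hflat : Flat (pullback.snd f J.subschemeι) :=
    MorphismProperty.pullback_snd _ _ inferInstance
  have hsurj : Surjective (pullback.snd f J.subschemeι) :=
    MorphismProperty.pullback_snd _ _ inferInstance
  rw [Scheme.IdealSheafData.map, h1, Scheme.Hom.ker_comp_of_isIso, Scheme.Hom.ker_comp,
    ker_eq_bot_of_flat_of_surjective, Scheme.IdealSheafData.map_bot,
    Scheme.IdealSheafData.ker_subschemeι]

/-- Let f : X → Y be a flat and surjective morphism of schemes. Then the map sending a quasi-coherent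
sheaf of ideals of O_Y (a closed subscheme of Y) to its inverse image in X is injective. -/
theorem result {X Y : Scheme.{u}} (f : X ⟶ Y) [Flat f] [Surjective f] :
    Function.Injective fun J : Y.IdealSheafData => J.comap f := by
  intro J₁ J₂ h
  have h' : J₁.comap f = J₂.comap f := h
  rw [← map_comap_eq f J₁, ← map_comap_eq f J₂, h']

end Groth.Agent.S4666
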