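import Groth.Statements.S4672
import Groth.Agent.Lib.Helper30.GenericPoints
import Mathlib.AlgebraicGeometry.Morphisms.UniversallyOpen
import Mathlib.AlgebraicGeometry.IdealSheaf.Subscheme
import Mathlib.AlgebraicGeometry.PullbackCarrier

set_option autoImplicit false
open CategoryTheory AlgebraicGeometry
universe u
open FBase

namespace Groth.Agent.S4672

open CategoryTheory.Limits Groth.Agent.Lib.Helper30

theorem flat_of_field {k : Type u} [Field k] {X : Scheme.{u}} (f : X ⟶ Spec (CommRingCat.of k)) :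
    Flat f := by
  rw [IsZariskiLocalAtSource.iff_of_openCover (P := @Flat) X.affineCover]
  intro i
  obtain ⟨φ, hφ⟩ := Spec.map_surjective (X.affineCover.f i ≫ f)
  have : Flat (Spec.map φ) := by
    rw [HasRingHomProperty.Spec_iff (P := @Flat)]
    exact RingHom.Flat.of_isField (Field.toIsField k) _
  exact hφ ▸ this

theorem exists_generalization {k : Type u} [Field k] {X Y P : Scheme.{u}}
    {f : X ⟶ Spec (CommRingCat.of k)} {g : Y ⟶ Spec (CommRingCat.of k)}
    {fst : P ⟶ X} {snd : P ⟶ Y} (hpb : IsPullback fst snd f g)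
    (Y' : Set ↥Y) (hY' : IsClosed Y') (ω : ↥P) (hω : snd ω ∈ Y') (ξ₁ : ↥X) (hξ : ξ₁ ⤳ fst ω) :
    ∃ ω₁ : ↥P, ω₁ ⤳ ω ∧ snd ω₁ ∈ Y' ∧ fst ω₁ = ξ₁ := by
  let I : Y.IdealSheafData := Scheme.IdealSheafData.vanishingIdeal ⟨Y', hY'⟩
  let i : I.subscheme ⟶ Y := I.subschemeι
  have hrange : Set.range i = Y' := by
    rw [Scheme.IdealSheafData.range_subschemeι, Scheme.IdealSheafData.coe_support_vanishingIdeal]
    rfl
  let π : pullback snd i ⟶ X := pullback.fst snd i ≫ fst
  have hsq : IsPullback π (pullback.snd snd i) f (i ≫ g) :=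
    (IsPullback.of_hasPullback snd i).paste_horiz hpb
  have hflat : Flat (i ≫ g) := flat_of_field _
  have hπflat : Flat π := MorphismProperty.of_isPullback hsq.flip hflat
  have hgen : GeneralizingMap π := Flat.generalizingMap π
  have hωmem : ω ∈ Set.range (pullback.fst snd i) := by
    rw [Scheme.Pullback.range_fst, Set.mem_preimage, hrange]
    exact hω
  obtain ⟨ω', rfl⟩ := hωmem
  have hξ' : ξ₁ ⤳ π ω' := hξ
  obtain ⟨ω₁', hspec, hπ⟩ := hgen hξ'
  refine ⟨pullback.fst snd i ω₁', hspec.map (pullback.fst snd i).continuous, ?_, hπ⟩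
  rw [← hrange]
  refine ⟨pullback.snd snd i ω₁', ?_⟩
  rw [← Scheme.Hom.comp_apply, ← pullback.condition, Scheme.Hom.comp_apply]

theorem backward_aux {k : Type u} [Field k] {X Y : Scheme.{u}}
    (f : X ⟶ Spec (CommRingCat.of k)) (g : Y ⟶ Spec (CommRingCat.of k))
    (W : Set ↥(pullback f g)) (X' : Set ↥X) (hX' : X' ∈ irreducibleComponents ↥X)
    (Y' : Set ↥Y) (hY' : Y' ∈ irreducibleComponents ↥Y)
    (hW : Maximal (fun V : Set ↥(pullback f g) => IsIrreducible V ∧
      V ⊆ ⇑(pullback.fst f g) ⁻¹' X' ∩ ⇑(pullback.snd f g) ⁻¹' Y') W) :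
    W ∈ irreducibleComponents ↥(pullback f g) := by
  have hX'c : IsClosed X' := isClosed_of_mem_irreducibleComponents X' hX'
  have hY'c : IsClosed Y' := isClosed_of_mem_irreducibleComponents Y' hY'
  set C : Set ↥(pullback f g) :=
    ⇑(pullback.fst f g) ⁻¹' X' ∩ ⇑(pullback.snd f g) ⁻¹' Y' with hC
  have hCc : IsClosed C :=
    (hX'c.preimage (pullback.fst f g).continuous).inter
      (hY'c.preimage (pullback.snd f g).continuous)
  obtain ⟨⟨hWirr, hWC⟩, hWmax⟩ := hW
  have hWclosed : IsClosed W := by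
    have h1 : closure W ⊆ W :=
      hWmax ⟨hWirr.closure, closure_minimal hWC hCc⟩ subset_closure
    exact closure_subset_iff_isClosed.mp h1
  obtain ⟨ω, hω⟩ := QuasiSober.sober hWirr hWclosed
  obtain ⟨ξ', hξ'⟩ := QuasiSober.sober hX'.1 hX'c
  obtain ⟨η', hη'⟩ := QuasiSober.sober hY'.1 hY'c
  have hωC : ω ∈ C := hWC hω.mem
  have hξmax : closure {ξ'} ∈ irreducibleComponents ↥X := by rw [hξ'.def]; exact hX'
  have hηmax : closure {η'} ∈ irreducibleComponents ↥Y := by rw [hη'.def]; exact hY'
  have key : ∀ ω₁ : ↥(pullback f g), ω₁ ⤳ ω → ω₁ ∈ C → ω₁ = ω := by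
    intro ω₁ hspec hmem
    have h1 : closure {ω₁} ⊆ W := by
      apply hWmax ⟨isIrreducible_singleton.closure, closure_minimal (Set.singleton_subset_iff.mpr hmem) hCc⟩
      rw [← hω.def]
      exact hspec.closure_subset
    have h2 : ω ⤳ ω₁ := hω.specializes (h1 (subset_closure (Set.mem_singleton _)))
    exact (hspec.antisymm h2).eq
  have hpω : (pullback.fst f g) ω = ξ' := by
    have hspec : ξ' ⤳ (pullback.fst f g) ω := hξ'.specializes hωC.1
    obtain ⟨ω₁, h1, h2, h3⟩ := exists_generalization (IsPullback.of_hasPullback f g) Y' hY'c ω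
      hωC.2 ξ' hspec
    have hmem : ω₁ ∈ C := ⟨by rw [Set.mem_preimage, h3]; exact hξ'.mem, h2⟩
    rw [← key ω₁ h1 hmem, h3]
  have hqω : (pullback.snd f g) ω = η' := by
    have hspec : η' ⤳ (pullback.snd f g) ω := hη'.specializes hωC.2
    obtain ⟨ω₁, h1, h2, h3⟩ := exists_generalization (IsPullback.of_hasPullback f g).flip X' hX'c ω
      hωC.1 η' hspec
    have hmem : ω₁ ∈ C := ⟨h2, by rw [Set.mem_preimage, h3]; exact hη'.mem⟩
    rw [← key ω₁ h1 hmem, h3]
  refine ⟨hWirr, ?_⟩
  intro V hV hWV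
  obtain ⟨v, hv⟩ := QuasiSober.sober hV.closure isClosed_closure
  have hvω : v ⤳ ω := hv.specializes (subset_closure (hWV hω.mem))
  have hpv : (pullback.fst f g) v = ξ' := by
    have : (pullback.fst f g) v ⤳ ξ' := hpω ▸ hvω.map (pullback.fst f g).continuous
    exact eq_of_specializes_of_mem_genericPoints hξmax this
  have hqv : (pullback.snd f g) v = η' := by
    have : (pullback.snd f g) v ⤳ η' := hqω ▸ hvω.map (pullback.snd f g).continuous
    exact eq_of_specializes_of_mem_genericPoints hηmax this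
  have hvC : v ∈ C :=
    ⟨by rw [Set.mem_preimage, hpv]; exact hξ'.mem, by rw [Set.mem_preimage, hqv]; exact hη'.mem⟩
  have hVC : closure V ⊆ C := by
    rw [← hv.def]
    exact closure_minimal (Set.singleton_subset_iff.mpr hvC) hCc
  have : closure V ⊆ W := hWmax ⟨hV.closure, hVC⟩ (hWV.trans subset_closure)
  exact subset_closure.trans this

open CategoryTheory.Limits in
/-- Let X and Y be locally Noetherian schemes over a field k such that X ×_k Y is locally Noetherian,
with projections p and q. Then a subset W of X ×_k Y is an irreducible component of X ×_k Y if and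
only if there exist an irreducible component X' of X and an irreducible component Y' of Y such that
W is a maximal irreducible subset of p⁻¹(X') ∩ q⁻¹(Y') (that is, an irreducible component of the
space underlying X' ×_k Y' for the reduced structures on X' and Y'). -/
theorem result {k : Type u} [Field k] {X Y : Scheme.{u}}
    (f : X ⟶ Spec (CommRingCat.of k)) (g : Y ⟶ Spec (CommRingCat.of k)) [IsLocallyNoetherian X]
    [IsLocallyNoetherian Y] [IsLocallyNoetherian (pullback f g)] (W : Set ↥(pullback f g)) :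
    W ∈ irreducibleComponents ↥(pullback f g) ↔
      ∃ X' ∈ irreducibleComponents ↥X, ∃ Y' ∈ irreducibleComponents ↥Y,
        Maximal (fun V : Set ↥(pullback f g) => IsIrreducible V ∧ V ⊆ ⇑(pullback.fst f g) ⁻¹' X' ∩ ⇑(pullback.snd f g) ⁻¹' Y') W := by
  constructor
  · intro hW
    have h1 : IsIrreducible (⇑(pullback.fst f g) '' W) :=
      hW.1.image _ (pullback.fst f g).continuous.continuousOn
    have h2 : IsIrreducible (⇑(pullback.snd f g) '' W) :=
      hW.1.image _ (pullback.snd f g).continuous.continuousOn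
    obtain ⟨X', hX', hX'sub⟩ := exists_mem_irreducibleComponents_subset_of_isIrreducible _ h1
    obtain ⟨Y', hY', hY'sub⟩ := exists_mem_irreducibleComponents_subset_of_isIrreducible _ h2
    refine ⟨X', hX', Y', hY', ⟨hW.1, ?_⟩, ?_⟩
    · intro w hw
      exact ⟨hX'sub ⟨w, hw, rfl⟩, hY'sub ⟨w, hw, rfl⟩⟩
    · intro V hV hWV
      exact hW.2 hV.1 hWV
  · rintro ⟨X', hX', Y', hY', hW⟩
    exact backward_aux f g W X' hX' Y' hY' hW

end Groth.Agent.S4672
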