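import Groth.Statements.S4674
import Mathlib.LinearAlgebra.TensorProduct.Pi
import Mathlib.RingTheory.Finiteness.Basic

set_option autoImplicit false
open scoped TensorProduct
universe u v w
open FDesc

namespace Groth.Agent.S4674

/-- Let B be a flat A-algebra and M a finitely presented A-module. Then the annihilator of the B-module
B ⊗_A M is the ideal of B generated by the image of the annihilator of M. -/
theorem result {A : Type u} {B : Type v} [CommRing A] [CommRing B] [Algebra A B]
    [Module.Flat A B] (M : Type w) [AddCommGroup M] [Module A M] [Module.FinitePresentation A M] :
    Module.annihilator B (B ⊗[A] M) = (Module.annihilator A M).map (algebraMap A B) := by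
  apply le_antisymm
  · intro b hb
    obtain ⟨n, s, hs⟩ := Module.Finite.exists_fin (R := A) (M := M)
    let g : A →ₗ[A] (Fin n → M) := LinearMap.pi fun i => LinearMap.toSpanSingleton A M (s i)
    let f : Module.annihilator A M →ₗ[A] A := Submodule.subtype _
    have hex : Function.Exact f g := by
      rw [LinearMap.exact_iff]
      ext a
      simp only [LinearMap.mem_ker, Submodule.range_subtype, f, g]
      rw [← Submodule.annihilator_top, ← hs, Submodule.mem_annihilator_span]
      constructor
      · intro h
        rintro ⟨_, i, rfl⟩
        exact congrFun h i
      · intro h
        ext i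
        exact h ⟨s i, Set.mem_range_self i⟩
    have hexB := Module.Flat.lTensor_exact B hex
    have hzero : g.lTensor B (b ⊗ₜ[A] (1 : A)) = 0 := by
      apply (TensorProduct.piRight A A B (fun _ : Fin n => M)).injective
      rw [map_zero]
      ext i
      simp only [LinearMap.lTensor_tmul, TensorProduct.piRight_apply,
        TensorProduct.piRightHom_tmul, Pi.zero_apply, g, LinearMap.pi_apply,
        LinearMap.toSpanSingleton_apply, one_smul]
      have := Module.mem_annihilator.mp hb ((1 : B) ⊗ₜ[A] s i)
      rwa [TensorProduct.smul_tmul', smul_eq_mul, mul_one] at this
    obtain ⟨y, hy⟩ := (hexB _).mp hzero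
    have key : ∀ y : B ⊗[A] (Module.annihilator A M),
        TensorProduct.rid A B (f.lTensor B y) ∈ (Module.annihilator A M).map (algebraMap A B) := by
      intro y
      induction y using TensorProduct.induction_on with
      | zero => simp
      | tmul b' a =>
        simp only [LinearMap.lTensor_tmul, TensorProduct.rid_tmul, f, Submodule.subtype_apply]
        rw [Algebra.smul_def]
        exact Ideal.mul_mem_right _ _ (Ideal.mem_map_of_mem _ a.2)
      | add x y hx hy =>
        simp only [map_add]
        exact Ideal.add_mem _ hx hy
    have := key y
    rw [hy, TensorProduct.rid_tmul, one_smul] at this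
    exact this
  · rw [Ideal.map_le_iff_le_comap]
    intro a ha
    rw [Ideal.mem_comap, Module.mem_annihilator]
    intro x
    induction x using TensorProduct.induction_on with
    | zero => simp
    | tmul b m =>
      rw [TensorProduct.smul_tmul', algebraMap_smul, TensorProduct.smul_tmul,
        Module.mem_annihilator.mp ha m, TensorProduct.tmul_zero]
    | add x y hx hy => rw [smul_add, hx, hy, add_zero]

end Groth.Agent.S4674
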