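import Groth.Statements.S4679
import Groth.Agent.Lib.Helper15.FibNeSch
import Groth.Agent.Lib.Helper15.FFTensorSch

set_option autoImplicit false
open CategoryTheory AlgebraicGeometry
universe u
open FDesc

namespace Groth.Agent.S4679

open CategoryTheory.Limits in
/-- Let f : X → Y, g : Y' → Y and h : Y' → Z be morphisms of schemes and X' = X ×_Y Y' with projections
p : X' → X, q : X' → Y'. Call a quasi-coherent module M on a scheme T faithfully flat relative to a
morphism t : T → B when M is flat over B and for every point b of B there is a point u of T over b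
with M_u ⊗ κ(b) ≠ 0. Let F be a quasi-coherent O_X-module which is faithfully flat relative to Y and
G' a quasi-coherent O_{Y'}-module. Then G' is flat over Z if and only if p^*F ⊗ q^*G' is flat over Z
(for q followed by h); and G' is faithfully flat relative to Z if and only if p^*F ⊗ q^*G' is
faithfully flat relative to Z. -/
theorem result {X Y Y' Z : Scheme.{u}} (f : X ⟶ Y) (g : Y' ⟶ Y)
    (h : Y' ⟶ Z) (F : X.Modules) (hF : Coh.IsQCoh F) (hFfl : FlatMod.IsFlatOver f F)
    (hFff : ∀ y : ↥Y, ∃ x : ↥X, f x = y ∧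
      letI := FlatMod.moduleStalkOver f F x
      IsLocalRing.maximalIdeal (Y.presheaf.stalk (f x)) • (⊤ : Submodule (Y.presheaf.stalk (f x)) (F.presheaf.stalk x)) ≠ ⊤)
    (G' : Y'.Modules) (hG' : Coh.IsQCoh G') :
    (FlatMod.IsFlatOver h G' ↔ FlatMod.IsFlatOver (pullback.snd f g ≫ h) (CohB1.tensorMod ((Scheme.Modules.pullback (pullback.fst f g)).obj F) ((Scheme.Modules.pullback (pullback.snd f g)).obj G'))) ∧
    ((FlatMod.IsFlatOver h G' ∧ ∀ z : ↥Z, ∃ y' : ↥Y', h y' = z ∧
        letI := FlatMod.moduleStalkOver h G' y'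
        IsLocalRing.maximalIdeal (Z.presheaf.stalk (h y')) • (⊤ : Submodule (Z.presheaf.stalk (h y')) (G'.presheaf.stalk y')) ≠ ⊤) ↔
      (FlatMod.IsFlatOver (pullback.snd f g ≫ h) (CohB1.tensorMod ((Scheme.Modules.pullback (pullback.fst f g)).obj F) ((Scheme.Modules.pullback (pullback.snd f g)).obj G')) ∧
        ∀ z : ↥Z, ∃ x' : ↥(pullback f g), (pullback.snd f g ≫ h) x' = z ∧
          letI := FlatMod.moduleStalkOver (pullback.snd f g ≫ h) (CohB1.tensorMod ((Scheme.Modules.pullback (pullback.fst f g)).obj F) ((Scheme.Modules.pullback (pullback.snd f g)).obj G')) x'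
          IsLocalRing.maximalIdeal (Z.presheaf.stalk ((pullback.snd f g ≫ h) x')) •
            (⊤ : Submodule (Z.presheaf.stalk ((pullback.snd f g ≫ h) x')) ((CohB1.tensorMod ((Scheme.Modules.pullback (pullback.fst f g)).obj F) ((Scheme.Modules.pullback (pullback.snd f g)).obj G')).presheaf.stalk x')) ≠ ⊤)) := by
  haveI hqc : G'.IsQuasicoherent := hG'
  have hPfl : FlatMod.IsFlatOver (pullback.snd f g)
      ((Scheme.Modules.pullback (pullback.fst f g)).obj F) :=
    Groth.Agent.Lib.Helper22.FlatBC.isFlatOver_pullback f g F hF hFfl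
  have hPne : ∀ y' : ↥Y', ∃ x' : ↥(pullback f g), (pullback.snd f g) x' = y' ∧
      letI := FlatMod.moduleStalkOver (pullback.snd f g)
        ((Scheme.Modules.pullback (pullback.fst f g)).obj F) x'
      IsLocalRing.maximalIdeal (Y'.presheaf.stalk ((pullback.snd f g) x')) •
        (⊤ : Submodule (Y'.presheaf.stalk ((pullback.snd f g) x'))
          (((Scheme.Modules.pullback (pullback.fst f g)).obj F).presheaf.stalk x')) ≠ ⊤ := by
    intro y'
    obtain ⟨x, hxy, hx⟩ := hFff (g y')
    exact Groth.Agent.Lib.Helper15.FibNeSch.exists_fibre_ne f g F hF y' x hxy hx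
  have part1 : FlatMod.IsFlatOver h G' ↔ FlatMod.IsFlatOver (pullback.snd f g ≫ h)
      (CohB1.tensorMod ((Scheme.Modules.pullback (pullback.fst f g)).obj F)
        ((Scheme.Modules.pullback (pullback.snd f g)).obj G')) := by
    constructor
    · intro hG x'
      exact (Groth.Agent.Lib.Helper15.FFTensorSch.stalk_facts (pullback.snd f g)
        ((Scheme.Modules.pullback (pullback.fst f g)).obj F) G' x' h).1 (hPfl x')
          (hG ((pullback.snd f g) x'))
    · intro hT y'
      obtain ⟨x', rfl, hne⟩ := hPne y'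
      exact (Groth.Agent.Lib.Helper15.FFTensorSch.stalk_facts (pullback.snd f g)
        ((Scheme.Modules.pullback (pullback.fst f g)).obj F) G' x' h).2.1 (hPfl x') hne (hT x')
  refine ⟨part1, ?_⟩
  constructor
  · rintro ⟨hG, hGne⟩
    refine ⟨part1.1 hG, fun z => ?_⟩
    obtain ⟨y', rfl, hy'⟩ := hGne z
    obtain ⟨x', rfl, hne⟩ := hPne y'
    exact ⟨x', rfl, (Groth.Agent.Lib.Helper15.FFTensorSch.stalk_facts (pullback.snd f g)
        ((Scheme.Modules.pullback (pullback.fst f g)).obj F) G' x' h).2.2.1 (hPfl x') hne hy'⟩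
  · rintro ⟨hT, hTne⟩
    refine ⟨part1.2 hT, fun z => ?_⟩
    obtain ⟨x', rfl, hx'⟩ := hTne z
    exact ⟨(pullback.snd f g) x', rfl,
      (Groth.Agent.Lib.Helper15.FFTensorSch.stalk_facts (pullback.snd f g)
        ((Scheme.Modules.pullback (pullback.fst f g)).obj F) G' x' h).2.2.2 hx'⟩

end Groth.Agent.S4679
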