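import Groth.Statements.S4681
import Groth.Agent.Lib.Helper15.FFRel
import Groth.Agent.Lib.Helper22.FlatBC

set_option autoImplicit false
open CategoryTheory AlgebraicGeometry
universe u
open FDesc

namespace Groth.Agent.S4681

/-- Let f : X → Y and g : Y → Z be morphisms of schemes and F a quasi-coherent O_X-module which is
faithfully flat relative to Y: flat over Y, and for every point y of Y there is a point x over y
with F_x ⊗ κ(y) ≠ 0. Then g is flat and surjective (faithfully flat) if and only if F is faithfully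
flat relative to Z for the morphism f followed by g: flat over Z, and for every point z of Z there
is a point x of X over z with F_x ⊗ κ(z) ≠ 0. -/
theorem result {X Y Z : Scheme.{u}} (f : X ⟶ Y) (g : Y ⟶ Z)
    (F : X.Modules) (hF : Coh.IsQCoh F) (hFfl : FlatMod.IsFlatOver f F)
    (hFff : (∀ y : ↥Y, ∃ x : ↥X, f x = y ∧
      letI := FlatMod.moduleStalkOver f F x
      IsLocalRing.maximalIdeal (Y.presheaf.stalk (f x)) • (⊤ : Submodule (Y.presheaf.stalk (f x)) (F.presheaf.stalk x)) ≠ ⊤)) :
    (Flat g ∧ Surjective g) ↔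
      (FlatMod.IsFlatOver (f ≫ g) F ∧
        (∀ z : ↥Z, ∃ x : ↥X, (f ≫ g) x = z ∧
      letI := FlatMod.moduleStalkOver (f ≫ g) F x
      IsLocalRing.maximalIdeal (Z.presheaf.stalk ((f ≫ g) x)) • (⊤ : Submodule (Z.presheaf.stalk ((f ≫ g) x)) (F.presheaf.stalk x)) ≠ ⊤)) := by
  constructor
  · rintro ⟨hfl, hsurj⟩
    refine ⟨fun x => Groth.Agent.Lib.Helper22.FlatBC.isFlatOverAt_comp_of_flat f g F x
      (Flat.stalkMap g (f x)) (hFfl x), ?_⟩
    intro z
    obtain ⟨y, rfl⟩ := g.surjective z
    obtain ⟨x, rfl, hx⟩ := hFff y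
    refine ⟨x, rfl, ?_⟩
    letI modY : Module (Y.presheaf.stalk (f x)) (F.presheaf.stalk x) :=
      FlatMod.moduleStalkOver f F x
    letI modZ : Module (Z.presheaf.stalk (g (f x))) (F.presheaf.stalk x) :=
      FlatMod.moduleStalkOver (f ≫ g) F x
    exact Groth.Agent.Lib.Helper15.FFRel.smul_top_ne_top_of_isLocalHom
      (g.stalkMap (f x)).hom (fun r m => by
        change (((f ≫ g).stalkMap x).hom r) • m = ((f.stalkMap x).hom ((g.stalkMap (f x)).hom r)) • m
        rw [Scheme.Hom.stalkMap_comp]
        rfl) hx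
  · rintro ⟨hfl, hff⟩
    constructor
    · rw [Flat.iff_flat_stalkMap]
      intro y
      obtain ⟨x, rfl, hx⟩ := hFff y
      letI algZY : Algebra (Z.presheaf.stalk (g (f x))) (Y.presheaf.stalk (f x)) :=
        (g.stalkMap (f x)).hom.toAlgebra
      letI modY : Module (Y.presheaf.stalk (f x)) (F.presheaf.stalk x) :=
        FlatMod.moduleStalkOver f F x
      letI modZ : Module (Z.presheaf.stalk (g (f x))) (F.presheaf.stalk x) :=
        FlatMod.moduleStalkOver (f ≫ g) F x
      haveI : IsScalarTower (Z.presheaf.stalk (g (f x))) (Y.presheaf.stalk (f x))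
          (F.presheaf.stalk x) := IsScalarTower.of_algebraMap_smul fun r m => by
        change ((f.stalkMap x).hom ((g.stalkMap (f x)).hom r)) • m = (((f ≫ g).stalkMap x).hom r) • m
        rw [Scheme.Hom.stalkMap_comp]
        rfl
      haveI : Module.Flat (Y.presheaf.stalk (f x)) (F.presheaf.stalk x) := hFfl x
      haveI : Module.Flat (Z.presheaf.stalk (g (f x))) (F.presheaf.stalk x) := hfl x
      haveI : Module.FaithfullyFlat (Y.presheaf.stalk (f x)) (F.presheaf.stalk x) :=
        Groth.Agent.Lib.Helper15.FFRel.faithfullyFlat_of_local hx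
      exact Groth.Agent.Lib.Helper15.FFRel.flat_of_faithfullyFlat_module
        (Z.presheaf.stalk (g (f x))) (Y.presheaf.stalk (f x)) (F.presheaf.stalk x)
    · refine ⟨fun z => ?_⟩
      obtain ⟨x, hx, -⟩ := hff z
      exact ⟨f x, hx⟩

end Groth.Agent.S4681
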