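import Groth.Statements.S4690
import Groth.Agent.Lib.Helper73.DimFormula.UnivCatenary
import Groth.Agent.S9686

set_option autoImplicit false
universe u
open EGA4

namespace Groth.Agent.S4690

open AlgebraicGeometry CategoryTheory in
/-- Let Y be an irreducible locally Noetherian scheme, X an irreducible scheme and f : X → Y a dominant
morphism locally of finite type; let e be the dimension of the generic fibre of f. Then dim X ≤ dim
Y + e. If moreover every local ring of Y is universally catenary, the two sides are equal if and
only if dim Y equals the supremum of the dimensions of the local rings of Y at the points of f(X). -/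
theorem result {X Y : Scheme.{u}} (f : X ⟶ Y) [IsLocallyNoetherian Y]
    [LocallyOfFiniteType f] [IrreducibleSpace X] [IrreducibleSpace Y] (hf : DenseRange f.base) :
    topologicalKrullDim X ≤ topologicalKrullDim Y + topologicalKrullDim (f.fiber (genericPoint Y)) ∧
      ((∀ y : Y, CAlg.IsUniversallyCatenary (Y.presheaf.stalk y)) →
        (topologicalKrullDim X = topologicalKrullDim Y + topologicalKrullDim (f.fiber (genericPoint Y)) ↔
          topologicalKrullDim Y = ⨆ y ∈ Set.range f.base, ringKrullDim (Y.presheaf.stalk y))) := by
  have hgenpt : IsGenericPoint (f (genericPoint X)) (Set.univ : Set Y) := by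
    have h := (genericPoint_spec X).image f.continuous
    rwa [Set.image_univ, hf.closure_range] at h
  have hη : f (genericPoint X) = genericPoint Y := hgenpt.eq (genericPoint_spec Y)
  have hgen : ∀ y : Y, f (genericPoint X) ⤳ y := fun y => hgenpt.specializes (Set.mem_univ y)
  obtain ⟨e, he⟩ : ∃ e : ℕ, Groth.Agent.Lib.Helper73.resTrdeg f (genericPoint X) = e :=
    ⟨_, Groth.Agent.Lib.Helper73.resTrdeg_eq_natCast f _⟩
  have hfib : topologicalKrullDim (f.fiber (genericPoint Y)) = e :=
    Groth.Agent.Lib.Helper73.topologicalKrullDim_fiber_genericPoint f _ hη e he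
  rw [hfib]
  have hle : topologicalKrullDim X ≤ topologicalKrullDim Y + e := by
    refine Groth.Agent.S9686.result f e ?_
    intro ξ hξ
    rw [irreducibleComponents_eq_singleton, Set.mem_singleton_iff] at hξ
    obtain rfl : ξ = genericPoint X :=
      (show IsGenericPoint ξ Set.univ from hξ).eq (genericPoint_spec X)
    exact he.le
  refine ⟨hle, fun hY => ⟨fun heq => ?_, fun hD => ?_⟩⟩
  · apply le_antisymm
    · apply Groth.Agent.Lib.Helper73.withBot_enat_le_of_add_le_add_right e
      rw [← heq, Groth.Agent.Lib.Helper73.topologicalKrullDim_eq_iSup_stalk X]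
      refine iSup_le fun x => ?_
      refine (Groth.Agent.Lib.Helper73.stalk_le_stalk_add f hY hgen e he x).trans ?_
      gcongr
      exact le_iSup₂ (f := fun y (_ : y ∈ Set.range f.base) =>
        ringKrullDim (Y.presheaf.stalk y)) (f x) ⟨x, rfl⟩
    · exact iSup₂_le fun y _ =>
        Groth.Agent.Lib.Helper73.ringKrullDim_stalk_le_topologicalKrullDim Y y
  · refine le_antisymm hle ?_
    rw [hD]
    refine Groth.Agent.Lib.Helper73.withBot_enat_iSup_add_le _ e _ fun y => ?_
    refine Groth.Agent.Lib.Helper73.withBot_enat_iSup_add_le _ e _ fun hy => ?_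
    obtain ⟨x, rfl⟩ := hy
    exact Groth.Agent.Lib.Helper73.stalk_add_le_dim f hY hgen e he x

end Groth.Agent.S4690
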