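import Groth.Statements.S4692
import Groth.Agent.Lib.Helper73.DimFormula.UnivCatenary

set_option autoImplicit false
universe u
open EGA4

namespace Groth.Agent.S4692

open AlgebraicGeometry CategoryTheory in
/-- Let Y be a locally Noetherian scheme all of whose local rings are universally catenary, X an
irreducible scheme, f : X → Y a morphism locally of finite type and n a natural number. If every
fibre of f has dimension at least n then dim X ≥ dim Y + n; if every fibre has dimension exactly n
then dim X = dim Y + n. (The empty scheme has dimension ⊥, so either hypothesis forces f to be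
surjective.) -/
theorem result {X Y : Scheme.{u}} (f : X ⟶ Y) [IsLocallyNoetherian Y]
    [LocallyOfFiniteType f] [IrreducibleSpace X] (hY : ∀ y : Y, CAlg.IsUniversallyCatenary (Y.presheaf.stalk y))
    (n : ℕ) :
    ((∀ y : Y, (n : WithBot ℕ∞) ≤ topologicalKrullDim (f.fiber y)) →
        topologicalKrullDim Y + n ≤ topologicalKrullDim X) ∧
      ((∀ y : Y, topologicalKrullDim (f.fiber y) = n) →
        topologicalKrullDim X = topologicalKrullDim Y + n) := by
  obtain ⟨e, he⟩ : ∃ e : ℕ, Groth.Agent.Lib.Helper73.resTrdeg f (genericPoint X) = e :=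
    ⟨_, Groth.Agent.Lib.Helper73.resTrdeg_eq_natCast f _⟩
  have hfib : topologicalKrullDim (f.fiber (f (genericPoint X))) = e :=
    Groth.Agent.Lib.Helper73.topologicalKrullDim_fiber_genericPoint f _ rfl e he
  -- consequences of nonempty fibres
  have key : (∀ y : Y, (n : WithBot ℕ∞) ≤ topologicalKrullDim (f.fiber y)) →
      (∀ y : Y, f (genericPoint X) ⤳ y) ∧ n ≤ e ∧
        topologicalKrullDim Y + e ≤ topologicalKrullDim X := by
    intro h1
    have hsurj : ∀ y : Y, ∃ x : X, f x = y := by
      intro y
      have hne : Nonempty (f.fiber y) := by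
        by_contra hemp
        rw [not_nonempty_iff] at hemp
        have h2 := h1 y
        have h3 : topologicalKrullDim (f.fiber y) = ⊥ := by
          rw [topologicalKrullDim]
          have : IsEmpty (TopologicalSpace.IrreducibleCloseds (f.fiber y)) :=
            ⟨fun s => by
              obtain ⟨z, -⟩ := s.isIrreducible.nonempty
              exact hemp.false z⟩
          exact Order.krullDim_eq_bot
        rw [h3] at h2
        exact WithBot.coe_ne_bot (le_bot_iff.mp h2)
      obtain ⟨z⟩ := hne
      refine ⟨f.fiberι y z, ?_⟩
      have : f.fiberι y z ∈ Set.range (f.fiberι y) := ⟨_, rfl⟩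
      rw [f.range_fiberι y] at this
      exact this
    have hgen : ∀ y : Y, f (genericPoint X) ⤳ y := by
      intro y
      obtain ⟨x, rfl⟩ := hsurj y
      exact (genericPoint_specializes x).map f.continuous
    refine ⟨hgen, ?_, ?_⟩
    · have h2 := h1 (f (genericPoint X))
      rw [hfib] at h2
      exact_mod_cast h2
    · rw [Groth.Agent.Lib.Helper73.topologicalKrullDim_eq_iSup_stalk Y]
      refine Groth.Agent.Lib.Helper73.withBot_enat_iSup_add_le _ e _ fun y => ?_
      obtain ⟨x, rfl⟩ := hsurj y
      exact Groth.Agent.Lib.Helper73.stalk_add_le_dim f hY hgen e he x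
  refine ⟨fun h1 => ?_, fun h2 => ?_⟩
  · obtain ⟨-, hne, hle⟩ := key h1
    refine le_trans ?_ hle
    gcongr
  · obtain ⟨hgen, -, hle⟩ := key (fun y => (h2 y).ge)
    have hen : e = n := by
      have := h2 (f (genericPoint X))
      rw [hfib] at this
      exact_mod_cast this
    subst hen
    refine le_antisymm ?_ hle
    rw [Groth.Agent.Lib.Helper73.topologicalKrullDim_eq_iSup_stalk X]
    refine iSup_le fun x => ?_
    refine (Groth.Agent.Lib.Helper73.stalk_le_stalk_add f hY hgen e he x).trans ?_
    gcongr
    exact Groth.Agent.Lib.Helper73.ringKrullDim_stalk_le_topologicalKrullDim Y (f x)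

end Groth.Agent.S4692
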