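import Groth.Statements.S4693
import Mathlib
import Groth.Agent.Lib.Helper67.DimIneq
import Groth.Agent.Lib.Helper67.FlatDim

set_option autoImplicit false
universe u
open EGA4

namespace Groth.Agent.S4693

open IsLocalRing TensorProduct

section

variable {A B : Type u} [CommRing A] [CommRing B] [IsNoetherianRing A]
    [IsNoetherianRing B] [IsLocalRing A] [IsLocalRing B] [Algebra A B] [IsLocalHom (algebraMap A B)]

omit [IsNoetherianRing A] [IsNoetherianRing B] [IsLocalRing B] [IsLocalHom (algebraMap A B)] in
/-- the closed fibre module `N / m_A N` has support dimension `≤ dim (B / m_A B)` -/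
theorem supportDim_fibre_le (N : Type u) [AddCommGroup N] [Module B N] [Module.Finite B N] :
    Module.supportDim B (N ⧸ ((maximalIdeal A).map (algebraMap A B) • (⊤ : Submodule B N))) ≤
      ringKrullDim (B ⧸ (maximalIdeal A).map (algebraMap A B)) := by
  rw [Groth.Agent.Lib.Helper67.DimIneq.supportDim_quotient_smul_top]
  exact ringKrullDim_le_of_surjective
    (Ideal.Quotient.factor (le_sup_right :
      (maximalIdeal A).map (algebraMap A B) ≤ Module.annihilator B N ⊔ _))
    (Ideal.Quotient.factor_surjective le_sup_right)

end

/-- Let A → B be a local homomorphism of Noetherian local rings such that the closed fibre ring B/m_A B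
has Krull dimension 0 (that is, m_A B is an ideal of definition of B). Then dim B ≤ dim A. If
moreover some finite B-module which is flat over A has support equal to all of Spec B (for instance
if B is flat over A), then dim B = dim A. -/
theorem result (A B : Type u) [CommRing A] [CommRing B] [IsNoetherianRing A]
    [IsNoetherianRing B] [IsLocalRing A] [IsLocalRing B] [Algebra A B] [IsLocalHom (algebraMap A B)]
    (h0 : ringKrullDim (EGA4.FibRing A B) = 0) :
    ringKrullDim B ≤ ringKrullDim A ∧
      (∀ (N : Type u) [AddCommGroup N] [Module B N] [Module A N] [IsScalarTower A B N] [Module.Finite B N]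
          [Module.Flat A N], Module.support B N = Set.univ → ringKrullDim B = ringKrullDim A) := by
  have h0' : ringKrullDim (B ⧸ (maximalIdeal A).map (algebraMap A B)) = 0 := h0
  constructor
  · have h1 := Groth.Agent.Lib.Helper67.DimIneq.supportDim_tensor_le_add (A := A) (B := B) A B
    rw [Module.supportDim_eq_of_equiv (AlgebraTensorModule.rid A B B),
      Module.supportDim_self_eq_ringKrullDim, Module.supportDim_self_eq_ringKrullDim] at h1
    have h2 := supportDim_fibre_le (A := A) (B := B) B
    rw [h0'] at h2
    calc ringKrullDim B ≤ ringKrullDim A + _ := h1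
      _ ≤ ringKrullDim A + 0 := by gcongr
      _ = ringKrullDim A := add_zero _
  · intro N _ _ _ _ _ _ hsupp
    have hnt : Nontrivial N := by
      rw [← Module.nonempty_support_iff (R := B), hsupp]
      exact Set.univ_nonempty
    have h1 := Groth.Agent.Lib.Helper67.FlatDim.supportDim_tensor_eq_add_quotient
      (R := A) (S := B) N A
    have hN : Module.supportDim B N = ringKrullDim B := by
      rw [Module.supportDim, hsupp, ringKrullDim]
      exact Order.krullDim_eq_of_orderIso (OrderIso.Set.univ)
    rw [Module.supportDim_eq_of_equiv (AlgebraTensorModule.rid A B N), hN,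
      Module.supportDim_self_eq_ringKrullDim] at h1
    have h2 := supportDim_fibre_le (A := A) (B := B) N
    rw [h0'] at h2
    have hfnt : Nontrivial (N ⧸ ((maximalIdeal A).map (algebraMap A B) • (⊤ : Submodule B N))) := by
      apply Submodule.Quotient.nontrivial_iff.mpr
      intro htop
      have hle : ((maximalIdeal A).map (algebraMap A B)) • (⊤ : Submodule B N) ≤
          maximalIdeal B • ⊤ :=
        Submodule.smul_mono_left (IsLocalRing.map_maximalIdeal_le (algebraMap A B))
      rw [htop] at hle
      exact Groth.Agent.Lib.Helper67.maximalIdeal_smul_top_ne_top N (top_le_iff.mp hle)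
    have h3 : (0 : WithBot ℕ∞) ≤ Module.supportDim B
        (N ⧸ ((maximalIdeal A).map (algebraMap A B) • (⊤ : Submodule B N))) :=
      by
        have hne := Module.supportDim_ne_bot_of_nontrivial (R := B)
          (M := N ⧸ ((maximalIdeal A).map (algebraMap A B) • (⊤ : Submodule B N)))
        generalize Module.supportDim B
          (N ⧸ ((maximalIdeal A).map (algebraMap A B) • (⊤ : Submodule B N))) = a at hne
        induction a using WithBot.recBotCoe with
        | bot => exact absurd rfl hne
        | coe a => exact WithBot.coe_le_coe.2 bot_le
    rw [le_antisymm h2 h3, add_zero] at h1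
    exact h1

end Groth.Agent.S4693
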