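import Groth.Statements.S4702
import Groth.Agent.Lib.Helper73.DimFormula.FibreDimSemi

set_option autoImplicit false
universe u
open EGA4

namespace Groth.Agent.S4702

open AlgebraicGeometry CategoryTheory in
/-- Let Y be an irreducible locally Noetherian scheme of dimension 1, X an irreducible scheme and f : X
→ Y a dominant morphism of finite type. Then for every point y in the image of f, every irreducible
component of the fibre of f at y has dimension equal to the dimension of the generic fibre. -/
theorem result {X Y : Scheme.{u}} (f : X ⟶ Y) [IsLocallyNoetherian Y]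
    [IrreducibleSpace Y] [IrreducibleSpace X] (hY : topologicalKrullDim Y = 1) [LocallyOfFiniteType f]
    [QuasiCompact f] (hf : DenseRange f.base) (y : Y) (hy : y ∈ Set.range f.base)
    (Z : Set ↥(f.fiber y)) (hZ : Z ∈ irreducibleComponents ↥(f.fiber y)) :
    topologicalKrullDim Z = topologicalKrullDim ↥(f.fiber (genericPoint Y)) := by
  open Groth.Agent.Lib.Helper73 in
  have hgen : IsGenericPoint (f (genericPoint X)) (Set.univ : Set Y) := by
    have h := (genericPoint_spec X).image f.continuous
    rwa [Set.image_univ, hf.closure_range] at h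
  have hη : f (genericPoint X) = genericPoint Y := hgen.eq (genericPoint_spec Y)
  rw [topologicalKrullDim_fiber_genericPoint f (genericPoint Y) hη
    (resTrdegNat f (genericPoint X)) (resTrdeg_eq_resTrdegNat f _)]
  obtain ⟨ζ, hζZ, hζmax⟩ := exists_maximal_of_mem_irreducibleComponents Z hZ
  have hdim := (isDimFun_trdegNat (k := Y.residueField y)
    (f.fiberToSpecResidueField y)).topologicalKrullDim_closure_singleton ζ
  rw [hζZ, trdegNat_fiber_eq_resTrdegNat] at hdim
  rw [hdim]
  obtain ⟨hfz, hzmax⟩ := fiberι_maximal_of_maximal f y ζ hζmax
  set z : X := f.fiberι y ζ with hz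
  -- (≥) Chevalley
  have hge : resTrdegNat f (genericPoint X) ≤ resTrdegNat f z := by
    have h1 := fibreDimAt_eq f z
    rw [ringKrullDim_fiber_stalk_eq_zero_of_maximal f z
      (fun t ht hft => hzmax t ht (hft.trans hfz)), zero_add] at h1
    have hopen := isOpen_fibreDimAt_le (resTrdegNat f z) X Y f
    have hξ : genericPoint X ∈
        {x' : X | FlatMor.fibreDimAt f x' ≤ ((resTrdegNat f z : ℕ) : WithBot ℕ∞)} :=
      (genericPoint_specializes z).mem_open hopen (by rw [Set.mem_setOf_eq, h1])
    have h2 := (resTrdegNat_le_fibreDimAt f (genericPoint X)).trans hξ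
    exact_mod_cast h2
  -- (≤) dimension inequality
  have hle : resTrdegNat f z ≤ resTrdegNat f (genericPoint X) := by
    by_cases hyη : y = genericPoint Y
    · have : genericPoint X = z := hzmax _ (genericPoint_specializes z) (hη.trans hyη.symm)
      rw [this]
    · obtain ⟨ξ, hξcomp, hξz, a, b, ha, hb, hab⟩ := exists_generic_stalk_dim_add_trdeg_le f z
      have hξ : ξ = genericPoint X := by
        rw [irreducibleComponents_eq_singleton, Set.mem_singleton_iff] at hξcomp
        have h1 : IsGenericPoint ξ (Set.univ : Set X) := hξcomp
        exact h1.eq (genericPoint_spec X)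
      subst hξ
      have hzne : genericPoint X ≠ z := by
        intro h
        apply hyη
        rw [← hfz, ← h, hη]
      have ha1 : (1 : WithBot ℕ∞) ≤ ringKrullDim (X.presheaf.stalk z) := by
        rw [ringKrullDim_stalk_eq_codim_genericPoint]
        exact one_le_codim _ _ (genericPoint_specializes z) hzne
      have hb1 : ringKrullDim (Y.presheaf.stalk (f z)) ≤ 1 := by
        rw [← hY]
        exact ringKrullDim_stalk_le_topologicalKrullDim Y (f z)
      rw [ha] at ha1
      rw [hb] at hb1
      have ha1' : 1 ≤ a := by exact_mod_cast ha1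
      have hb1' : b ≤ 1 := by exact_mod_cast hb1
      change (a : Cardinal.{u}) + resTrdeg f z ≤ (b : Cardinal.{u}) + resTrdeg f (genericPoint X)
        at hab
      rw [resTrdeg_eq_resTrdegNat, resTrdeg_eq_resTrdegNat] at hab
      have hab' : a + resTrdegNat f z ≤ b + resTrdegNat f (genericPoint X) := by
        exact_mod_cast hab
      omega
  have : resTrdegNat f z = resTrdegNat f (genericPoint X) := le_antisymm hle hge
  rw [this]
  rfl

end Groth.Agent.S4702
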