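import Groth.Statements.S4707
import Groth.Agent.Lib.Helper67.IntClosBC4

set_option autoImplicit false
universe u
open EGA4

namespace Groth.Agent.S4707

open TensorProduct in
/-- Let A be a Noetherian ring and A' a Noetherian A-algebra such that A → A' is a normal homomorphism
(flat, with geometrically normal fibres). Let B → C be a homomorphism of A-algebras and D the
integral closure of B in C. Then the integral closure in A' ⊗_A C of the image of A' ⊗_A B is the
image of A' ⊗_A D. (No finiteness is assumed on B or C.) -/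
theorem result (A A' : Type u) [CommRing A] [CommRing A']
    [IsNoetherianRing A] [IsNoetherianRing A'] [Algebra A A'] (h : EGA4.IsNormalHom A A')
    (B C : Type u) [CommRing B] [CommRing C] [Algebra A B] [Algebra A C] [Algebra B C] [IsScalarTower A B C] :
    (integralClosure
          ↥(Algebra.TensorProduct.map (AlgHom.id A' A') (IsScalarTower.toAlgHom A B C)).range (A' ⊗[A] C) :
        Set (A' ⊗[A] C)) =
      Set.range (Algebra.TensorProduct.map (AlgHom.id A' A')
        ((integralClosure B C).val.restrictScalars A)) := by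
  classical
  let φ : A' ⊗[A] B →ₐ[A'] A' ⊗[A] C :=
    Algebra.TensorProduct.map (AlgHom.id A' A') (IsScalarTower.toAlgHom A B C)
  let ψ : ↥(integralClosure B C) →ₐ[A] C := (integralClosure B C).val.restrictScalars A
  let Ψ : A' ⊗[A] ↥(integralClosure B C) →ₐ[A'] A' ⊗[A] C :=
    Algebra.TensorProduct.map (AlgHom.id A' A') ψ
  let β : B →ₐ[A] ↥(integralClosure B C) :=
    (IsScalarTower.toAlgHom B B ↥(integralClosure B C)).restrictScalars A
  let βT : A' ⊗[A] B →ₐ[A'] A' ⊗[A] ↥(integralClosure B C) :=
    Algebra.TensorProduct.map (AlgHom.id A' A') β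
  have hΨβ : ∀ w, Ψ (βT w) = φ w := by
    intro w
    induction w using TensorProduct.induction_on with
    | zero => simp
    | tmul a b =>
      simp only [Ψ, βT, φ, Algebra.TensorProduct.map_tmul, AlgHom.coe_id, id_eq]
      rfl
    | add w₁ w₂ h₁ h₂ => simp only [map_add, h₁, h₂]
  have hψmem : ∀ c : C, c ∈ ψ.range ↔ c ∈ integralClosure B C := by
    intro c
    constructor
    · rintro ⟨d, rfl⟩
      exact d.2
    · intro hc
      exact ⟨⟨c, hc⟩, rfl⟩
  have hψ : ∀ c : C, IsIntegral ψ.range c → c ∈ ψ.range := by
    intro c hc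
    rw [hψmem]
    let θ : ↥ψ.range →+* ↥(integralClosure B C) :=
      { toFun := fun c => ⟨c.1, (hψmem c.1).mp c.2⟩
        map_one' := rfl
        map_mul' := fun _ _ => rfl
        map_zero' := rfl
        map_add' := fun _ _ => rfl }
    obtain ⟨P, hP, hPc⟩ := hc
    have h1 : IsIntegral ↥(integralClosure B C) c := by
      refine ⟨P.map θ, hP.map θ, ?_⟩
      rw [Polynomial.eval₂_map]
      exact hPc
    exact isIntegral_trans c h1
  ext x
  constructor
  · intro hx
    have hx0 : IsIntegral ↥φ.range x := hx
    rcases subsingleton_or_nontrivial (A' ⊗[A] C) with hss | hnt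
    · exact ⟨0, Subsingleton.elim _ _⟩
    obtain ⟨P, hP, hPx⟩ := hx0
    have hl : P.map (algebraMap ↥φ.range (A' ⊗[A] C)) ∈ Polynomial.lifts φ.toRingHom := by
      rw [Polynomial.lifts_iff_coeff_lifts]
      intro n
      rw [Polynomial.coeff_map]
      obtain ⟨w, hw⟩ := (P.coeff n).2
      exact ⟨w, hw⟩
    obtain ⟨PB, hPB, -, hPBm⟩ := Polynomial.lifts_and_degree_eq_and_monic hl (hP.map _)
    have hx' : Ψ.toRingHom.IsIntegralElem x := by
      refine ⟨PB.map βT.toRingHom, hPBm.map _, ?_⟩
      rw [Polynomial.eval₂_map]
      have hc : Ψ.toRingHom.comp βT.toRingHom = φ.toRingHom := RingHom.ext hΨβ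
      rw [hc, Polynomial.eval₂_eq_eval_map, hPB, ← Polynomial.eval₂_eq_eval_map]
      exact hPx
    exact Groth.Agent.Lib.Helper67.IntClosBC.mem_range_map_of_isIntegralElem A A' C
      ↥(integralClosure B C) ψ h hψ x hx'
  · rintro ⟨w, rfl⟩
    change IsIntegral ↥φ.range (Ψ w)
    induction w using TensorProduct.induction_on with
    | zero => rw [map_zero]; exact isIntegral_zero
    | tmul a d =>
      have h1 : Ψ (a ⊗ₜ[A] d) = (a ⊗ₜ[A] (1 : C)) * ((1 : A') ⊗ₜ[A] (d : C)) := by
        simp only [Ψ, Algebra.TensorProduct.map_tmul, AlgHom.coe_id, id_eq,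
          Algebra.TensorProduct.tmul_mul_tmul, mul_one, one_mul]
        rfl
      rw [h1]
      apply IsIntegral.mul
      · have hmem : (a ⊗ₜ[A] (1 : C)) ∈ φ.range := ⟨a ⊗ₜ[A] (1 : B), by simp [φ]⟩
        exact isIntegral_algebraMap (x := (⟨_, hmem⟩ : ↥φ.range))
      · obtain ⟨Q, hQ, hQd⟩ := d.2
        let incl : B →+* ↥φ.range :=
          { toFun := fun b => ⟨(1 : A') ⊗ₜ[A] (algebraMap B C b), ⟨(1 : A') ⊗ₜ[A] b, by simp [φ]⟩⟩
            map_one' := by
              apply Subtype.ext
              simp only [map_one]
              rfl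
            map_mul' := fun b b' => by
              apply Subtype.ext
              simp only [map_mul, MulMemClass.coe_mul, Algebra.TensorProduct.tmul_mul_tmul, mul_one]
            map_zero' := by
              apply Subtype.ext
              simp only [map_zero, TensorProduct.tmul_zero]
              rfl
            map_add' := fun b b' => by
              apply Subtype.ext
              simp only [map_add, TensorProduct.tmul_add]
              rfl }
        refine ⟨Q.map incl, hQ.map incl, ?_⟩
        rw [Polynomial.eval₂_map]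
        have hc : (algebraMap ↥φ.range (A' ⊗[A] C)).comp incl =
            (Algebra.TensorProduct.includeRight : C →ₐ[A] A' ⊗[A] C).toRingHom.comp
              (algebraMap B C) := by
          ext b
          rfl
        rw [hc]
        change Polynomial.eval₂ ((Algebra.TensorProduct.includeRight : C →ₐ[A] A' ⊗[A] C).toRingHom.comp
          (algebraMap B C)) ((Algebra.TensorProduct.includeRight : C →ₐ[A] A' ⊗[A] C).toRingHom (d : C)) Q = 0
        rw [← Polynomial.hom_eval₂, hQd, map_zero]
    | add w₁ w₂ h₁ h₂ => rw [map_add]; exact h₁.add h₂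

end Groth.Agent.S4707
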