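import Groth.Statements.S4708
-- import your own Groth.Agent.* helpers here
import Groth.Agent.S9314
import Groth.Agent.S2038

set_option autoImplicit false
universe u
open EGA4

namespace Groth.Agent.S4708

open IsLocalRing Groth.Agent.Lib.Helper56

/-- Let A → B be a local homomorphism of Noetherian local rings making B a flat A-module, such that the
residue field of B is a finite extension of the residue field k of A, and such that the formal
fibres of A are geometrically regular (the completion map A → Â is regular). If the k-algebra k ⊗_A
B̂, where B̂ is the completion of B, is geometrically regular over k, then every fibre of A → B is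
geometrically regular, that is, A → B is a regular homomorphism. -/
theorem result (A B : Type u) [CommRing A] [CommRing B]
    [IsNoetherianRing A] [IsNoetherianRing B] [IsLocalRing A] [IsLocalRing B] [Algebra A B]
    [IsLocalHom (algebraMap A B)] [Module.Flat A B]
    [Module.Finite (IsLocalRing.ResidueField A) (IsLocalRing.ResidueField B)]
    (hA : CAlg.IsRegularHom A (EGA4.Cpl A))
    (h : CAlg.IsGeometricallyRegular (IsLocalRing.maximalIdeal A).ResidueField
      ((IsLocalRing.maximalIdeal A).Fiber (EGA4.Cpl B))) :
    CAlg.IsRegularHom A B := by
  classical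
  haveI hBN : IsNoetherianRing (EGA4.Cpl B) := Groth.Agent.S0543.result _ _
  haveI hst := isScalarTower_cpl_base A B
  haveI hff := faithfullyFlat_cpl B
  haveI hflat : Module.Flat A (EGA4.Cpl B) := Module.Flat.trans A B (EGA4.Cpl B)
  haveI hlocB : IsLocalHom (algebraMap B (EGA4.Cpl B)) := inferInstance
  haveI hloc : IsLocalHom (algebraMap A (EGA4.Cpl B)) := by
    rw [IsScalarTower.algebraMap_eq A B (EGA4.Cpl B)]
    exact RingHom.isLocalHom_comp _ _
  have hfs : CAlgX.IsAdicFormallySmooth A (EGA4.Cpl B) (maximalIdeal (EGA4.Cpl B)) :=
    Groth.Agent.S2038.result.mp ⟨hflat, h⟩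
  have hAC : CAlg.IsRegularHom A (EGA4.Cpl B) := Groth.Agent.S9314.result hA hfs
  exact isRegularHom_descent A B (EGA4.Cpl B) hAC

end Groth.Agent.S4708
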