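import Groth.Statements.S4711
import Groth.Agent.Lib.Helper73.LimConstructible

set_option autoImplicit false
universe u
open EGA4

namespace Groth.Agent.S4711

lemma isLocallyClosed_singleton_of_isClosed_subtype {X : Type*} [TopologicalSpace X] {A : Set X}
    (hA : IsOpen A) (a : A) (ha : IsClosed ({a} : Set A)) : IsLocallyClosed ({a.1} : Set X) := by
  have : ({a.1} : Set X) = Subtype.val '' ({a} : Set A) := by simp
  rw [this]
  exact ha.isLocallyClosed.image Topology.IsInducing.subtypeVal
    (by rw [Subtype.range_coe]; exact hA.isLocallyClosed)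

lemma exists_isLocallyClosed_singleton_of_isConstructible {V : Type*} [TopologicalSpace V]
    [CompactSpace V] [T0Space V] {T : Set V} (hT : Topology.IsConstructible T)
    (hne : T.Nonempty) : ∃ x ∈ T, IsLocallyClosed ({x} : Set V) := by
  revert hne
  refine Groth.Agent.Lib.Helper73.isConstructible_sdiff_union_induction
    (P := fun T => T.Nonempty → ∃ x ∈ T, IsLocallyClosed ({x} : Set V)) ?_ ?_ hT
  · intro A B hA hA' hB hB' hne
    have : CompactSpace A := isCompact_iff_compactSpace.mp hA'.isCompact
    obtain ⟨x, hxA, hxB⟩ := hne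
    have hS : IsClosed {a : A | a.1 ∉ B} :=
      (hB.preimage continuous_subtype_val).isClosed_compl
    obtain ⟨a, haS, hacl⟩ := hS.exists_closed_singleton ⟨⟨x, hxA⟩, hxB⟩
    exact ⟨a.1, ⟨a.2, haS⟩, isLocallyClosed_singleton_of_isClosed_subtype hA a hacl⟩
  · intro s t hs ht hne
    rcases hne with ⟨x, hx | hx⟩
    · obtain ⟨y, hy, h⟩ := hs ⟨x, hx⟩; exact ⟨y, Or.inl hy, h⟩
    · obtain ⟨y, hy, h⟩ := ht ⟨x, hx⟩; exact ⟨y, Or.inr hy, h⟩

open AlgebraicGeometry Topology in
/-- In any scheme X, every nonempty locally constructible subset E contains a point x such that the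
one-point set {x} is locally closed in X (equivalently x is isolated in its closure). -/
theorem result (X : Scheme.{u}) (E : Set X)
    (hE : Topology.IsLocallyConstructible E) (hne : E.Nonempty) :
    ∃ x ∈ E, IsLocallyClosed ({x} : Set X) := by
  obtain ⟨e, he⟩ := hne
  obtain ⟨_, ⟨V, hV : IsAffineOpen V, rfl⟩, heV, -⟩ :=
    X.isBasis_affineOpens.exists_subset_of_mem_open (Set.mem_univ e) isOpen_univ
  have : IsAffine (V : Scheme) := hV
  have hT : Topology.IsConstructible ((Scheme.Opens.ι V) ⁻¹' E) :=
    (hE.preimage_of_isOpenEmbedding (Scheme.Opens.ι V).isOpenEmbedding).isConstructible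
  obtain ⟨x, hxT, hx⟩ := exists_isLocallyClosed_singleton_of_isConstructible hT ⟨⟨e, heV⟩, he⟩
  refine ⟨(Scheme.Opens.ι V) x, hxT, ?_⟩
  have := hx.image (Scheme.Opens.ι V).isOpenEmbedding.isInducing
    (Scheme.Opens.ι V).isOpenEmbedding.isOpen_range.isLocallyClosed
  simpa using this

end Groth.Agent.S4711
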