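import Groth.Statements.S4712
import Groth.Agent.Lib.Helper73.OpenGeneric

set_option autoImplicit false
universe u
open EGA4

namespace Groth.Agent.S4712

section
attribute [local instance] specializationOrder

lemma dim_le_one_aux {Z : Type*} [TopologicalSpace Z] [QuasiSober Z] [T0Space Z] (z₀ : Z)
    (h0 : ∀ a : Z, z₀ ⤳ a) (h : ∀ a : Z, a ≠ z₀ → ∀ b : Z, a ⤳ b → b = a) :
    topologicalKrullDim Z ≤ 1 := by
  rw [topologicalKrullDim,
    Order.krullDim_eq_of_orderIso (irreducibleSetEquivPoints (α := Z)),
    Order.krullDim_le_one_iff]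
  intro a
  by_cases ha : a = z₀
  · right
    intro b hab
    have hba : b ⤳ a := hab
    have : b = z₀ := ((h0 b).antisymm (ha ▸ hba)).eq.symm
    rw [this, ha]
  · left
    intro b hba
    have hab : a ⤳ b := hba
    rw [h a ha b hab]

end

lemma dim_le_one_of_key {X : Type*} [TopologicalSpace X] [QuasiSober X] [T0Space X] (x : X)
    (key : ∀ y z : X, x ⤳ y → y ≠ x → y ⤳ z → z = y) :
    topologicalKrullDim (closure ({x} : Set X)) ≤ 1 := by
  have hqs : QuasiSober (closure ({x} : Set X)) :=
    (isClosed_closure.isClosedEmbedding_subtypeVal).quasiSober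
  refine dim_le_one_aux (Z := closure ({x} : Set X)) ⟨x, subset_closure rfl⟩ ?_ ?_
  · intro a
    rw [← Topology.IsInducing.subtypeVal.specializes_iff]
    exact specializes_iff_mem_closure.mpr a.2
  · intro a ha b hab
    have hxa : x ⤳ a.1 := specializes_iff_mem_closure.mpr a.2
    have hab' : a.1 ⤳ b.1 := (Topology.IsInducing.subtypeVal.specializes_iff).mpr hab
    have hne : a.1 ≠ x := fun h => ha (Subtype.ext h)
    exact Subtype.ext (key a.1 b.1 hxa hne hab')

open AlgebraicGeometry in
lemma eq_of_specializes {X : Scheme.{u}} [IsLocallyNoetherian X] (x : X)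
    (hx : IsLocallyClosed ({x} : Set X)) (y z : X) (hxy : x ⤳ y) (hne : y ≠ x) (hyz : y ⤳ z) :
    z = y := by
  obtain ⟨_, ⟨U, hU : IsAffineOpen U, rfl⟩, hzU, -⟩ :=
    X.isBasis_affineOpens.exists_subset_of_mem_open (Set.mem_univ z) isOpen_univ
  have hyU : y ∈ U := hyz.mem_open U.2 hzU
  have hxU : x ∈ U := hxy.mem_open U.2 hyU
  have : IsNoetherianRing Γ(X, U) := IsLocallyNoetherian.component_noetherian ⟨U, hU⟩
  let e : (U : Set X) ≃ₜ PrimeSpectrum Γ(X, U) := hU.isoSpec.hom.homeomorph
  let g : PrimeSpectrum Γ(X, U) → X := Subtype.val ∘ e.symm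
  have hg : Topology.IsInducing g := Topology.IsInducing.subtypeVal.comp e.symm.isInducing
  have hginj : Function.Injective g := Subtype.val_injective.comp e.symm.injective
  have hgp : g (e ⟨x, hxU⟩) = x := by simp [g]
  have hgq : g (e ⟨y, hyU⟩) = y := by simp [g]
  have hgr : g (e ⟨z, hzU⟩) = z := by simp [g]
  have hlc : IsLocallyClosed ({e ⟨x, hxU⟩} : Set (PrimeSpectrum Γ(X, U))) := by
    have h1 := hx.preimage hg.continuous
    have h2 : g ⁻¹' {x} = {e ⟨x, hxU⟩} := by
      ext p
      simp only [Set.mem_preimage, Set.mem_singleton_iff]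
      constructor
      · intro h; exact hginj (h.trans hgp.symm)
      · rintro rfl; exact hgp
    rwa [h2] at h1
  have hpq : e ⟨x, hxU⟩ ≤ e ⟨y, hyU⟩ := by
    rw [PrimeSpectrum.le_iff_specializes, ← hg.specializes_iff, hgp, hgq]; exact hxy
  have hqr : e ⟨y, hyU⟩ ≤ e ⟨z, hzU⟩ := by
    rw [PrimeSpectrum.le_iff_specializes, ← hg.specializes_iff, hgq, hgr]; exact hyz
  have hne' : e ⟨x, hxU⟩ ≠ e ⟨y, hyU⟩ := by
    intro h
    apply hne
    have := congrArg g h
    rw [hgp, hgq] at this
    exact this.symm
  have := Groth.Agent.Lib.Helper73.primeSpectrum_eq_of_isLocallyClosed_singleton _ _ _ hlc hpq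
    hne' hqr
  have := congrArg g this
  rw [hgq, hgr] at this
  exact this.symm

open AlgebraicGeometry in
/-- Let X be a locally Noetherian scheme and x a point such that {x} is locally closed in X. Then the
closure of {x} has dimension at most 1, and every point of that closure other than x is a closed
point of X. -/
theorem result (X : Scheme.{u}) [IsLocallyNoetherian X] (x : X)
    (hx : IsLocallyClosed ({x} : Set X)) :
    topologicalKrullDim (closure ({x} : Set X)) ≤ 1 ∧
      ∀ y ∈ closure ({x} : Set X), y ≠ x → IsClosed ({y} : Set X) := by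
  have key := eq_of_specializes x hx
  constructor
  · exact dim_le_one_of_key x key
  · intro y hy hne
    have hxy : x ⤳ y := specializes_iff_mem_closure.mpr hy
    rw [← closure_eq_iff_isClosed]
    apply Set.Subset.antisymm
    · intro z hz
      have hyz : y ⤳ z := specializes_iff_mem_closure.mpr hz
      exact key y z hxy hne hyz
    · exact subset_closure

end Groth.Agent.S4712
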