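import Groth.Statements.S4713
import Groth.Agent.S4711
import Groth.Agent.S4712

set_option autoImplicit false
universe u
open EGA4

namespace Groth.Agent.S4713

open AlgebraicGeometry in
/-- In a locally Noetherian scheme X, every nonempty closed subset contains a closed point of X. -/
theorem result (X : Scheme.{u}) [IsLocallyNoetherian X]
    (Z : Set X) (hZ : IsClosed Z) (hne : Z.Nonempty) : ∃ x ∈ Z, IsClosed ({x} : Set X) := by
  obtain ⟨z, hz⟩ := hne
  obtain ⟨_, ⟨U, hU : IsAffineOpen U, rfl⟩, hzU, -⟩ :=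
    X.isBasis_affineOpens.exists_subset_of_mem_open (Set.mem_univ z) isOpen_univ
  have : CompactSpace ((U : Set X) : Type u) := isCompact_iff_compactSpace.mp hU.isCompact
  have hcl : IsClosed ((Subtype.val : ((U : Set X) : Type u) → X) ⁻¹' Z) :=
    hZ.preimage continuous_subtype_val
  obtain ⟨a, haZ, hacl⟩ := hcl.exists_closed_singleton ⟨⟨z, hzU⟩, hz⟩
  have hlc : IsLocallyClosed ({a.1} : Set X) :=
    Groth.Agent.S4711.isLocallyClosed_singleton_of_isClosed_subtype U.2 a hacl
  by_cases h : IsClosed ({a.1} : Set X)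
  · exact ⟨a.1, haZ, h⟩
  · have hex : ∃ y ∈ closure ({a.1} : Set X), y ≠ a.1 := by
      by_contra hcon
      apply h
      rw [← closure_eq_iff_isClosed]
      refine Set.Subset.antisymm (fun y hy => ?_) subset_closure
      by_contra hya
      exact hcon ⟨y, hy, hya⟩
    obtain ⟨y, hy, hya⟩ := hex
    refine ⟨y, ?_, (Groth.Agent.S4712.result X a.1 hlc).2 y hy hya⟩
    exact (hZ.closure_subset_iff.mpr (Set.singleton_subset_iff.mpr haZ)) hy

end Groth.Agent.S4713
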