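import Groth.Statements.S4714
import Groth.Agent.Lib.Helper73.DimFT.Hypersurface

set_option autoImplicit false
universe u
open EGA4

namespace Groth.Agent.S4714

open Groth.Agent.Lib.Helper73 AlgebraicGeometry CategoryTheory in
lemma exists_generization_notMem {k : Type u} [Field k] {X : Scheme.{u}}
    (p : X ⟶ Spec (CommRingCat.of k)) [LocallyOfFiniteType p] {Y : Set X} (hYc : IsClosed Y)
    (hY : interior Y = ∅) (y : X) : ∃ η : X, η ⤳ y ∧ η ∉ Y := by
  by_contra hcon
  push Not at hcon
  obtain ⟨W, hW, hyW, hLN⟩ := exists_open_forall_exists_generic_scheme p y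
  have hWY : W ⊆ Y := by
    intro w hw
    obtain ⟨η, h1, h2⟩ := hLN w hw
    exact h1.mem_closed hYc (hcon η h2)
  have : y ∈ interior Y := interior_maximal hWY hW hyW
  rw [hY] at this
  exact this

open Groth.Agent.Lib.Helper73 AlgebraicGeometry CategoryTheory in
lemma main (k : Type u) [Field k] (X : Scheme.{u}) (p : X ⟶ Spec (CommRingCat.of k))
    [LocallyOfFiniteType p] (f : Γ(X, ⊤)) (hY : interior (X.zeroLocus (U := ⊤) {f}) = ∅) :
    topologicalKrullDim (X.zeroLocus (U := ⊤) {f}) + 1 ≤ topologicalKrullDim X ∧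
      ((∃ Z ∈ irreducibleComponents (X : Type u), topologicalKrullDim Z = topologicalKrullDim X) →
        (∀ Z ∈ irreducibleComponents (X : Type u), topologicalKrullDim Z = topologicalKrullDim X →
          (Z ∩ X.zeroLocus (U := ⊤) {f}).Nonempty) →
        topologicalKrullDim (X.zeroLocus (U := ⊤) {f}) + 1 = topologicalKrullDim X) := by
  have hδ := isDimFun_trdegNat p
  have hYc : IsClosed (X.zeroLocus (U := ⊤) {f}) := X.zeroLocus_isClosed _
  have hdimY := hδ.topologicalKrullDim_closed_eq_iSup hYc
  have hdimX := topologicalKrullDim_eq_iSup_trdegNat p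
  have hlow : ∀ y : ↥(X.zeroLocus (U := ⊤) {f}),
      ((trdegNat p y.1 : ℕ∞) : WithBot ℕ∞) ≤ topologicalKrullDim ↥(X.zeroLocus (U := ⊤) {f}) := by
    intro y
    rw [hdimY]
    exact le_iSup (fun t : ↥(X.zeroLocus (U := ⊤) {f}) =>
      ((trdegNat p t.1 : ℕ∞) : WithBot ℕ∞)) y
  have ha : topologicalKrullDim ↥(X.zeroLocus (U := ⊤) {f}) + 1 ≤ topologicalKrullDim X := by
    rcases isEmpty_or_nonempty ↥(X.zeroLocus (U := ⊤) {f}) with hemp | hne
    · rw [hdimY, iSup_of_empty]
      simp
    · have : Nonempty X := ⟨hne.some.1⟩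
      rw [hdimY, hdimX, ← WithBot.coe_iSup (OrderTop.bddAbove _),
        ← WithBot.coe_iSup (OrderTop.bddAbove _), ← WithBot.coe_one, ← WithBot.coe_add,
        WithBot.coe_le_coe, ENat.iSup_add]
      refine iSup_le fun y => ?_
      obtain ⟨η, hηy, hηY⟩ := exists_generization_notMem p hYc hY y.1
      have hne : η ≠ y.1 := fun e => hηY (e ▸ y.2)
      have hlt := hδ.lt_of_specializes hηy hne
      refine le_trans ?_ (le_iSup (fun x : X => (trdegNat p x : ℕ∞)) η)
      exact_mod_cast hlt
  refine ⟨ha, ?_⟩
  rintro ⟨Z, hZ, hZdim⟩ hall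
  refine le_antisymm ha ?_
  have hZirr : IsIrreducible Z := hZ.1
  have hZc : IsClosed Z := isClosed_of_mem_irreducibleComponents Z hZ
  obtain ⟨ζ, hζ⟩ := QuasiSober.sober hZirr hZc
  have hζZ : closure ({ζ} : Set X) = Z := hζ.def
  have hdZ : topologicalKrullDim ↥Z = ((trdegNat p ζ : ℕ∞) : WithBot ℕ∞) := by
    rw [← hζZ]
    exact hδ.topologicalKrullDim_closure_singleton ζ
  -- the generic point of `Z` is not in the zero locus
  have hζY : ζ ∉ X.zeroLocus (U := ⊤) {f} := by
    intro hmem
    obtain ⟨W, hW, hζW, hLN⟩ := exists_open_forall_exists_generic_scheme p ζ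
    have hWY : W ⊆ X.zeroLocus (U := ⊤) {f} := by
      intro w hw
      obtain ⟨η, h1, h2⟩ := hLN w hw
      have hle : Z ≤ closure ({η} : Set X) := by
        rw [← hζZ]
        exact closure_minimal (Set.singleton_subset_iff.mpr
          (specializes_iff_mem_closure.mp h2)) isClosed_closure
      have hηZ : closure ({η} : Set X) ≤ Z := hZ.2 isIrreducible_singleton.closure hle
      have hηmem : η ∈ Z := hηZ (subset_closure rfl)
      have h3 : ζ ⤳ η := hζ.specializes hηmem
      have : η = ζ := hδ.eq_of_specializes_of_specializes h2 h3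
      rw [this] at h1
      exact h1.mem_closed hYc hmem
    have : ζ ∈ interior (X.zeroLocus (U := ⊤) {f}) := interior_maximal hWY hW hζW
    rw [hY] at this
    exact this
  obtain ⟨y, hyZ, hyY⟩ := hall Z hZ hZdim
  have hζy : ζ ⤳ y := hζ.specializes hyZ
  obtain ⟨z, -, -, hzY, hz⟩ := exists_mem_zeroLocus_trdegNat_add_one p f hζy hyY hζY
  rw [← hZdim, hdZ, hz]
  have := hlow ⟨z, hzY⟩
  calc (((trdegNat p z + 1 : ℕ) : ℕ∞) : WithBot ℕ∞)
      = ((trdegNat p z : ℕ∞) : WithBot ℕ∞) + 1 := by push_cast; rfl
    _ ≤ topologicalKrullDim ↥(X.zeroLocus (U := ⊤) {f}) + 1 := by gcongr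

open AlgebraicGeometry CategoryTheory in
/-- For a section of the structure sheaf: let X be a scheme locally of finite type over a field k and f
a global section of O_X whose zero locus Y is nowhere dense in X. Then dim Y + 1 ≤ dim X. If
moreover some irreducible component of X has dimension equal to dim X and Y meets every such
component, then dim Y + 1 = dim X. (The published statement is for a section of an invertible sheaf;
the existence of a component of maximal dimension, implicit in the published wording, is made a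
hypothesis of the equality clause.) -/
theorem result (k : Type u) [Field k] (X : Scheme.{u}) (p : X ⟶ Spec (CommRingCat.of k))
    [LocallyOfFiniteType p] (f : Γ(X, ⊤)) (hY : interior (X.zeroLocus (U := ⊤) {f}) = ∅) :
    topologicalKrullDim (X.zeroLocus (U := ⊤) {f}) + 1 ≤ topologicalKrullDim X ∧
      ((∃ Z ∈ irreducibleComponents (X : Type u), topologicalKrullDim Z = topologicalKrullDim X) →
        (∀ Z ∈ irreducibleComponents (X : Type u), topologicalKrullDim Z = topologicalKrullDim X →
          (Z ∩ X.zeroLocus (U := ⊤) {f}).Nonempty) →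
        topologicalKrullDim (X.zeroLocus (U := ⊤) {f}) + 1 = topologicalKrullDim X) := by
  exact main k X p f hY

end Groth.Agent.S4714
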