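import Groth.Statements.S4715
import Groth.Agent.Lib.Helper73.DimLe

set_option autoImplicit false
universe u
open EGA4

namespace Groth.Agent.S4715

open AlgebraicGeometry CategoryTheory in
/-- Let f : X → Y be a quasi-finite morphism (of finite type with discrete fibres) of locally Noetherian
schemes. Then dim X is at most the dimension of the closure of f(X), which is at most dim Y. -/
theorem result {X Y : Scheme.{u}} (f : X ⟶ Y) [IsLocallyNoetherian X] [IsLocallyNoetherian Y]
    [LocallyQuasiFinite f] [LocallyOfFiniteType f] [QuasiCompact f] :
    topologicalKrullDim X ≤ topologicalKrullDim (closure (Set.range f.base)) ∧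
      topologicalKrullDim (closure (Set.range f.base)) ≤ topologicalKrullDim Y := by
  refine ⟨?_, topologicalKrullDim_subspace_le _ _⟩
  let g : X → closure (Set.range f.base) := fun x => ⟨f.base x, subset_closure ⟨x, rfl⟩⟩
  have hg : Continuous g := f.continuous.subtype_mk _
  have : QuasiSober (closure (Set.range f.base)) :=
    isClosed_closure.isClosedEmbedding_subtypeVal.quasiSober
  refine Groth.Agent.Lib.Helper73.topologicalKrullDim_le_of_incomparable hg ?_
  intro x x' h hgx
  have hfx : f.base x = f.base x' := congrArg Subtype.val hgx
  exact Groth.Agent.Lib.Helper73.eq_of_specializes_of_isDiscrete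
    (f.isDiscrete_preimage_singleton (f.base x')) hfx rfl h

end Groth.Agent.S4715
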