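import Groth.Statements.S4716
import Groth.Agent.Lib.Helper73.SpecLift

set_option autoImplicit false
universe u
open EGA4

namespace Groth.Agent.S4716

open AlgebraicGeometry CategoryTheory in
/-- Consider locally Noetherian schemes X and Y and a morphism f : X → Y that is surjective and whose
underlying map is either open or closed. Then dim X ≥ dim Y. -/
theorem result {X Y : Scheme.{u}} (f : X ⟶ Y) [IsLocallyNoetherian X]
    [IsLocallyNoetherian Y] (hs : Function.Surjective f.base) (h : IsOpenMap f.base ∨ IsClosedMap f.base) :
    topologicalKrullDim Y ≤ topologicalKrullDim X := by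
  rcases h with h | h
  · apply Groth.Agent.Lib.Helper73.topologicalKrullDim_le_of_generalizingMap hs
    intro x y' hy
    obtain ⟨_, ⟨U, hU : IsAffineOpen U, rfl⟩, hxU, -⟩ :=
      X.isBasis_affineOpens.exists_subset_of_mem_open (Set.mem_univ x) isOpen_univ
    have : IsNoetherianRing Γ(X, U) := IsLocallyNoetherian.component_noetherian ⟨U, hU⟩
    have : TopologicalSpace.NoetherianSpace ((U : Set X) : Type u) :=
      noetherianSpace_of_isAffineOpen U hU
    have : QuasiSober ((U : Set X) : Type u) := (IsOpen.isOpenEmbedding_subtypeVal U.2).quasiSober
    exact Groth.Agent.Lib.Helper73.exists_specializes_of_isOpenMap_of_nhd f.continuous h x U U.2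
      hxU hy
  · apply Groth.Agent.Lib.Helper73.topologicalKrullDim_le_of_specializingMap hs
    intro x y' hy
    exact h.specializingMap hy

end Groth.Agent.S4716
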