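import Groth.Statements.S4717
import Groth.Agent.Lib.Helper73.DimLe
import Groth.Agent.Lib.Helper73.SpecLift

set_option autoImplicit false
universe u
open EGA4

namespace Groth.Agent.S4717

open AlgebraicGeometry CategoryTheory in
/-- Let f : X → Y be a finite morphism of locally Noetherian schemes. Then dim X equals the dimension of
the image f(X); in particular if f is surjective then dim X = dim Y. -/
theorem result {X Y : Scheme.{u}} (f : X ⟶ Y) [IsLocallyNoetherian X] [IsLocallyNoetherian Y]
    [IsFinite f] :
    topologicalKrullDim X = topologicalKrullDim (Set.range f.base) ∧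
      (Function.Surjective f.base → topologicalKrullDim X = topologicalKrullDim Y) := by
  have hclosed : IsClosedMap f.base := f.isClosedMap
  have hrange : IsClosed (Set.range f.base) := hclosed.isClosed_range
  let g : X → Set.range f.base := Set.rangeFactorization f.base
  have hgc : Continuous g := f.continuous.subtype_mk _
  have hqs : QuasiSober (Set.range f.base) := hrange.isClosedEmbedding_subtypeVal.quasiSober
  have hinc : ∀ x x' : X, x ⤳ x' → f.base x = f.base x' → x = x' := fun x x' h e =>
    Groth.Agent.Lib.Helper73.eq_of_specializes_of_isDiscrete
      (f.isDiscrete_preimage_singleton (f.base x')) e rfl h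
  have h1 : topologicalKrullDim X ≤ topologicalKrullDim (Set.range f.base) :=
    Groth.Agent.Lib.Helper73.topologicalKrullDim_le_of_incomparable hgc
      (fun x x' h e => hinc x x' h (congrArg Subtype.val e))
  have h2 : topologicalKrullDim (Set.range f.base) ≤ topologicalKrullDim X := by
    apply Groth.Agent.Lib.Helper73.topologicalKrullDim_le_of_specializingMap (f := g)
      Set.rangeFactorization_surjective
    intro x y' hy
    have hy' : f.base x ⤳ y'.1 := (Topology.IsInducing.subtypeVal.specializes_iff).mpr hy
    obtain ⟨x', hx', hfx'⟩ := hclosed.specializingMap hy'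
    exact ⟨x', hx', Subtype.ext hfx'⟩
  refine ⟨le_antisymm h1 h2, fun hs => ?_⟩
  apply le_antisymm
  · exact Groth.Agent.Lib.Helper73.topologicalKrullDim_le_of_incomparable f.continuous hinc
  · exact Groth.Agent.Lib.Helper73.topologicalKrullDim_le_of_specializingMap hs
      (fun x y' hy => hclosed.specializingMap hy)

end Groth.Agent.S4717
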