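import Groth.Statements.S4718
import Groth.Agent.S2669
import Groth.Agent.Lib.Helper67.LocSelf

set_option autoImplicit false
universe u
open EGA4

namespace Groth.Agent.S4718

/-- Let A be a Noetherian local ring, B a Noetherian ring, A → B a ring homomorphism and M a nonzero
B-module which is finite as an A-module. Then M is a Cohen–Macaulay A-module if and only if, for all
primes q of B lying over the maximal ideal of A and belonging to the support of M, the B_q-module
M_q is Cohen–Macaulay and all these modules M_q have the same dimension. -/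
theorem result (A B : Type u) [CommRing A] [CommRing B]
    [IsNoetherianRing A] [IsLocalRing A] [IsNoetherianRing B] [Algebra A B]
    (M : Type u) [AddCommGroup M] [Module B M] [Module A M] [IsScalarTower A B M] [Module.Finite A M]
    [Nontrivial M] :
    LocCoh.IsCohenMacaulayModule A M ↔
      (∀ q ∈ {q : PrimeSpectrum B | q.asIdeal.comap (algebraMap A B) = IsLocalRing.maximalIdeal A ∧
          q ∈ Module.support B M},
        LocCoh.IsCohenMacaulayModule (Localization.AtPrime q.asIdeal) (LocalizedModule q.asIdeal.primeCompl M)) ∧
      (∀ q ∈ {q : PrimeSpectrum B | q.asIdeal.comap (algebraMap A B) = IsLocalRing.maximalIdeal A ∧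
          q ∈ Module.support B M},
        ∀ q' ∈ {q : PrimeSpectrum B | q.asIdeal.comap (algebraMap A B) = IsLocalRing.maximalIdeal A ∧
          q ∈ Module.support B M},
          Module.supportDim (Localization.AtPrime q.asIdeal) (LocalizedModule q.asIdeal.primeCompl M) =
            Module.supportDim (Localization.AtPrime q'.asIdeal) (LocalizedModule q'.asIdeal.primeCompl M)) := by
  obtain ⟨hdim, hdepth⟩ := Groth.Agent.S2669.result A B M (IsLocalRing.maximalIdeal A)
  obtain ⟨hd1, hd2⟩ :=
    Groth.Agent.Lib.Helper67.depth_supportDim_localizedModule_maximalIdeal A M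
  rw [hd1] at hdepth
  rw [hd2] at hdim
  haveI hMB : Module.Finite B M := Module.Finite.of_restrictScalars_finite A B M
  -- the index set is nonempty
  have hne : ∃ q0 : PrimeSpectrum B,
      q0 ∈ {q : PrimeSpectrum B | q.asIdeal.comap (algebraMap A B) = IsLocalRing.maximalIdeal A ∧
          q ∈ Module.support B M} := by
    have hm : Module.annihilator A M ≤ IsLocalRing.maximalIdeal A := by
      apply IsLocalRing.le_maximalIdeal
      intro htop
      have h1 : (1 : A) ∈ Module.annihilator A M := by rw [htop]; trivial
      obtain ⟨x, hx⟩ := exists_ne (0 : M)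
      exact hx (by simpa using Module.mem_annihilator.mp h1 x)
    obtain ⟨q, hqp, hq, hqy⟩ := Groth.Agent.Lib.Helper67.exists_prime_over_of_annihilator_le
      (B := B) M (IsLocalRing.maximalIdeal A) hm
    exact ⟨⟨q, hqp⟩, hqy, Module.mem_support_iff_of_finite.mpr hq⟩
  have hle_dim : ∀ q ∈ {q : PrimeSpectrum B |
      q.asIdeal.comap (algebraMap A B) = IsLocalRing.maximalIdeal A ∧ q ∈ Module.support B M},
      Module.supportDim (Localization.AtPrime q.asIdeal)
        (LocalizedModule q.asIdeal.primeCompl M) ≤ Module.supportDim A M := by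
    intro q hq
    rw [hdim]
    exact le_iSup₂ (f := fun (q' : PrimeSpectrum B) (_ : q' ∈
      {q : PrimeSpectrum B | q.asIdeal.comap (algebraMap A B) = IsLocalRing.maximalIdeal A ∧
          q ∈ Module.support B M}) => Module.supportDim (Localization.AtPrime q'.asIdeal)
            (LocalizedModule q'.asIdeal.primeCompl M)) q hq
  have hle_depth : ∀ q ∈ {q : PrimeSpectrum B |
      q.asIdeal.comap (algebraMap A B) = IsLocalRing.maximalIdeal A ∧ q ∈ Module.support B M},
      LocCoh.depth A M ≤ LocCoh.depth (Localization.AtPrime q.asIdeal)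
        (LocalizedModule q.asIdeal.primeCompl M) := by
    intro q hq
    rw [hdepth]
    exact iInf₂_le (f := fun (q' : PrimeSpectrum B) (_ : q' ∈
      {q : PrimeSpectrum B | q.asIdeal.comap (algebraMap A B) = IsLocalRing.maximalIdeal A ∧
          q ∈ Module.support B M}) => LocCoh.depth (Localization.AtPrime q'.asIdeal)
            (LocalizedModule q'.asIdeal.primeCompl M)) q hq
  have hdd : ∀ q ∈ {q : PrimeSpectrum B |
      q.asIdeal.comap (algebraMap A B) = IsLocalRing.maximalIdeal A ∧ q ∈ Module.support B M},
      ((LocCoh.depth (Localization.AtPrime q.asIdeal)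
        (LocalizedModule q.asIdeal.primeCompl M) : ℕ∞) : WithBot ℕ∞) ≤
      Module.supportDim (Localization.AtPrime q.asIdeal)
        (LocalizedModule q.asIdeal.primeCompl M) := by
    intro q hq
    haveI : Nontrivial (LocalizedModule q.asIdeal.primeCompl M) := Module.mem_support_iff.mp hq.2
    exact Groth.Agent.Lib.Helper67.depth_le_supportDim _
  unfold LocCoh.IsCohenMacaulayModule
  constructor
  · intro hCM
    have key : ∀ q ∈ {q : PrimeSpectrum B |
        q.asIdeal.comap (algebraMap A B) = IsLocalRing.maximalIdeal A ∧ q ∈ Module.support B M},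
        Module.supportDim (Localization.AtPrime q.asIdeal)
          (LocalizedModule q.asIdeal.primeCompl M) = Module.supportDim A M ∧
        Module.supportDim (Localization.AtPrime q.asIdeal)
          (LocalizedModule q.asIdeal.primeCompl M) =
        ((LocCoh.depth (Localization.AtPrime q.asIdeal)
          (LocalizedModule q.asIdeal.primeCompl M) : ℕ∞) : WithBot ℕ∞) := by
      intro q hq
      have h1 := hle_dim q hq
      have h2 : ((LocCoh.depth A M : ℕ∞) : WithBot ℕ∞) ≤
          ((LocCoh.depth (Localization.AtPrime q.asIdeal)
            (LocalizedModule q.asIdeal.primeCompl M) : ℕ∞) : WithBot ℕ∞) :=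
        WithBot.coe_le_coe.mpr (hle_depth q hq)
      have h3 := hdd q hq
      rw [← hCM] at h2
      exact ⟨le_antisymm h1 (le_trans h2 h3), le_antisymm (le_trans h1 h2) h3⟩
    refine ⟨fun q hq => (key q hq).2, fun q hq q' hq' => ?_⟩
    rw [(key q hq).1, (key q' hq').1]
  · rintro ⟨hCMq, heq⟩
    obtain ⟨q0, hq0⟩ := hne
    have hD : Module.supportDim A M = Module.supportDim (Localization.AtPrime q0.asIdeal)
        (LocalizedModule q0.asIdeal.primeCompl M) := by
      apply le_antisymm
      · rw [hdim]
        exact iSup₂_le fun q hq => (heq q hq q0 hq0).le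
      · exact hle_dim q0 hq0
    have hδ : LocCoh.depth A M = LocCoh.depth (Localization.AtPrime q0.asIdeal)
        (LocalizedModule q0.asIdeal.primeCompl M) := by
      apply le_antisymm
      · exact hle_depth q0 hq0
      · rw [hdepth]
        refine le_iInf₂ fun q hq => ?_
        have h1 := hCMq q hq
        have h2 := hCMq q0 hq0
        unfold LocCoh.IsCohenMacaulayModule at h1 h2
        have h3 := heq q hq q0 hq0
        rw [h1, h2] at h3
        exact (WithBot.coe_injective h3).ge
    rw [hD, hδ]
    exact hCMq q0 hq0

end Groth.Agent.S4718
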