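import Groth.Statements.S4719
import Groth.Agent.S2669

set_option autoImplicit false
universe u
open EGA4

namespace Groth.Agent.S4719


theorem withBot_le_coe_iInf₂ {ι : Type*} {S : ι → Prop} (d : ι → ℕ∞) (X : WithBot ℕ∞)
    (h : ∀ i, S i → X ≤ ((d i : ℕ∞) : WithBot ℕ∞)) :
    X ≤ (((⨅ (i) (_ : S i), d i : ℕ∞)) : WithBot ℕ∞) := by
  induction X using WithBot.recBotCoe with
  | bot => exact bot_le
  | coe x =>
    rw [WithBot.coe_le_coe]
    exact le_iInf₂ fun i hi => WithBot.coe_le_coe.mp (h i hi)

/-- Let A → B be a homomorphism of Noetherian rings and M a B-module which is finite as an A-module. (i)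
If M satisfies (S_k) as an A-module, it satisfies (S_k) as a B-module. (ii) If for every two primes
q, q' of B in the support of M having the same contraction to A the modules M_q and M_{q'} have the
same dimension, then (S_k) for M as a B-module implies (S_k) for M as an A-module. (The published
statement asks the equal-dimension condition for all pairs of primes of B with the same contraction;
this row asks it only for primes in the support of M, which is all its proof uses.) -/
theorem result (k : ℕ) (A B : Type u) [CommRing A] [CommRing B] [IsNoetherianRing A]
    [IsNoetherianRing B] [Algebra A B] (M : Type u) [AddCommGroup M] [Module B M] [Module A M]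
    [IsScalarTower A B M] [Module.Finite A M] :
    (LocCoh.HasSk k A M → LocCoh.HasSk k B M) ∧
      ((∀ q ∈ Module.support B M, ∀ q' ∈ Module.support B M,
          q.asIdeal.comap (algebraMap A B) = q'.asIdeal.comap (algebraMap A B) →
            Module.supportDim (Localization.AtPrime q.asIdeal) (LocalizedModule q.asIdeal.primeCompl M) =
              Module.supportDim (Localization.AtPrime q'.asIdeal) (LocalizedModule q'.asIdeal.primeCompl M)) →
        LocCoh.HasSk k B M → LocCoh.HasSk k A M) := by
  constructor
  · intro hA q _
    by_cases hqs : (⟨q, inferInstance⟩ : PrimeSpectrum B) ∈ Module.support B M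
    · obtain ⟨hdim, hdepth⟩ := Groth.Agent.S2669.result A B M (q.comap (algebraMap A B))
      have h1 := hA (q.comap (algebraMap A B))
      have hmem : (⟨q, inferInstance⟩ : PrimeSpectrum B) ∈
          {q' : PrimeSpectrum B | q'.asIdeal.comap (algebraMap A B) = q.comap (algebraMap A B) ∧
            q' ∈ Module.support B M} := ⟨rfl, hqs⟩
      have h2 : Module.supportDim (Localization.AtPrime q) (LocalizedModule q.primeCompl M) ≤
          Module.supportDim (Localization.AtPrime (q.comap (algebraMap A B)))
            (LocalizedModule (q.comap (algebraMap A B)).primeCompl M) := by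
        rw [hdim]
        exact le_iSup₂ (f := fun (q' : PrimeSpectrum B) (_ : q' ∈
          {q' : PrimeSpectrum B | q'.asIdeal.comap (algebraMap A B) = q.comap (algebraMap A B) ∧
            q' ∈ Module.support B M}) => Module.supportDim (Localization.AtPrime q'.asIdeal)
              (LocalizedModule q'.asIdeal.primeCompl M)) ⟨q, inferInstance⟩ hmem
      have h3 : LocCoh.depth (Localization.AtPrime (q.comap (algebraMap A B)))
            (LocalizedModule (q.comap (algebraMap A B)).primeCompl M) ≤
          LocCoh.depth (Localization.AtPrime q) (LocalizedModule q.primeCompl M) := by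
        rw [hdepth]
        exact iInf₂_le (f := fun (q' : PrimeSpectrum B) (_ : q' ∈
          {q' : PrimeSpectrum B | q'.asIdeal.comap (algebraMap A B) = q.comap (algebraMap A B) ∧
            q' ∈ Module.support B M}) => LocCoh.depth (Localization.AtPrime q'.asIdeal)
              (LocalizedModule q'.asIdeal.primeCompl M)) ⟨q, inferInstance⟩ hmem
      exact le_trans (min_le_min_left _ h2) (le_trans h1 (WithBot.coe_le_coe.mpr h3))
    · haveI : Subsingleton (LocalizedModule q.primeCompl M) := Module.notMem_support_iff.mp hqs
      rw [Module.supportDim_eq_bot_of_subsingleton]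
      simp
  · intro heq hB p _
    obtain ⟨hdim, hdepth⟩ := Groth.Agent.S2669.result A B M p
    rw [hdepth]
    apply withBot_le_coe_iInf₂
    intro q hq
    have h1 := hB q.asIdeal
    refine le_trans (min_le_min_left _ ?_) h1
    rw [hdim]
    refine iSup₂_le fun q' hq' => ?_
    exact (heq q' hq'.2 q hq.2 (hq'.1.trans hq.1.symm)).le

end Groth.Agent.S4719
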