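import Groth.Statements.S4720
-- import your own Groth.Agent.* helpers here
import Groth.Agent.Lib.Helper85.ZClosed

set_option autoImplicit false
universe u
open EGA4

namespace Groth.Agent.S4720

/-- Let A be a Noetherian ring, Z a subset of Spec A stable under specialization, M an A-module and N a
submodule of M. If M is Z-pure, so is N; conversely, if N and M/N are Z-pure, so is M. -/
theorem result (A : Type u) [CommRing A] [IsNoetherianRing A]
    (Z : Set (PrimeSpectrum A)) (hZ : StableUnderSpecialization Z) (M : Type u) [AddCommGroup M] [Module A M]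
    (N : Submodule A M) :
    (EGA4.IsPureAlong Z M → EGA4.IsPureAlong Z ↥N) ∧
      (EGA4.IsPureAlong Z ↥N → EGA4.IsPureAlong Z (M ⧸ N) → EGA4.IsPureAlong Z M) := by
  simp only [Groth.Agent.Lib.Helper85.ZClosed.isPureAlong_iff_torsion]
  constructor
  · intro h J hJ m ⟨n, hn⟩
    have h1 : (m : M) = 0 := by
      apply h J hJ (m : M)
      refine ⟨n, fun r hr => ?_⟩
      have := hn r hr
      rw [← Submodule.coe_smul, this, Submodule.coe_zero]
    exact Subtype.ext h1
  · intro hN hQ J hJ m ⟨n, hn⟩
    have h1 : Submodule.Quotient.mk m = (0 : M ⧸ N) := by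
      apply hQ J hJ
      refine ⟨n, fun r hr => ?_⟩
      rw [← Submodule.Quotient.mk_smul, hn r hr, Submodule.Quotient.mk_zero]
    rw [Submodule.Quotient.mk_eq_zero] at h1
    have h2 : (⟨m, h1⟩ : N) = 0 := by
      apply hN J hJ
      refine ⟨n, fun r hr => ?_⟩
      apply Subtype.ext
      rw [Submodule.coe_smul, Submodule.coe_zero]
      exact hn r hr
    exact congrArg Subtype.val h2

end Groth.Agent.S4720
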