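import Groth.Statements.S4722
import Mathlib

set_option autoImplicit false
universe u
open EGA4

namespace Groth.Agent.S4722

section
variable {A : Type u} [CommRing A] {M : Type u} [AddCommGroup M] [Module A M] (p : Ideal A)

def HasFilt (N : Submodule A M) : Prop :=
  ∃ (m : ℕ) (F : Fin (m + 1) → Submodule A M), Antitone F ∧ F 0 = N ∧ F (Fin.last m) = ⊥ ∧
      ∀ i : Fin m, ∃ g : (↥(F i.castSucc) ⧸ Submodule.comap (F i.castSucc).subtype (F i.succ)) →ₗ[A] (A ⧸ p),
        Function.Injective g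

theorem hasFilt_bot : HasFilt p (⊥ : Submodule A M) :=
  ⟨0, fun _ => ⊥, fun _ _ _ => le_rfl, rfl, rfl, fun i => i.elim0⟩

theorem step_cast {p : Ideal A} (N' N'' X Y : Submodule A M) (hX : X = N') (hY : Y = N'')
    (g : (↥N' ⧸ Submodule.comap N'.subtype N'') →ₗ[A] (A ⧸ p)) (hg : Function.Injective g) :
    ∃ g' : (↥X ⧸ Submodule.comap X.subtype Y) →ₗ[A] (A ⧸ p), Function.Injective g' := by
  subst hX hY; exact ⟨g, hg⟩

theorem hasFilt_extend {N N₁ : Submodule A M} (hN : HasFilt p N) (hle : N ≤ N₁)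
    (g : (↥N₁ ⧸ Submodule.comap N₁.subtype N) →ₗ[A] (A ⧸ p)) (hg : Function.Injective g) :
    HasFilt p N₁ := by
  obtain ⟨m, F, hF, hF0, hFl, hFg⟩ := hN
  refine ⟨m + 1, Fin.cons N₁ F, ?_, rfl, ?_, ?_⟩
  · rw [Fin.antitone_iff_succ_le]
    intro i
    cases i using Fin.cases with
    | zero => simpa [hF0] using hle
    | succ j =>
      rw [Fin.antitone_iff_succ_le] at hF
      simpa using hF j
  · rw [← Fin.succ_last, Fin.cons_succ]; exact hFl
  · intro i
    cases i using Fin.cases with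
    | zero =>
      exact step_cast N₁ N _ _ (by simp) (by simp [hF0]) g hg
    | succ j =>
      obtain ⟨g', hg'⟩ := hFg j
      exact step_cast _ _ _ _ (by simp) (by simp) g' hg'
end

theorem main (A : Type u) [CommRing A] [IsNoetherianRing A]
    (M : Type u) [AddCommGroup M] [Module A M] [Module.Finite A M] (p : Ideal A)
    (hp : associatedPrimes A M = {p}) : HasFilt p (⊤ : Submodule A M) := by
  have hpp : p.IsPrime := by
    have : p ∈ associatedPrimes A M := by rw [hp]; rfl
    exact this.isPrime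
  have hNoeth : IsNoetherian A M := inferInstance
  let Tf : Submodule A M → Prop := fun N => ∀ s : A, s ∉ p → ∀ m : M, s • m ∈ N → m ∈ N
  have hTf0 : Tf ⊥ := by
    intro s hs m hm
    by_contra hne
    have : s ∈ ⋃ q ∈ associatedPrimes A M, (q : Set A) := by
      rw [biUnion_associatedPrimes_eq_zero_divisors]
      exact ⟨m, hne, by simpa using hm⟩
    rw [hp] at this
    simp at this
    exact hs this
  have hrad : p ≤ (Module.annihilator A M).radical := by
    rw [← Ideal.sInf_minimalPrimes]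
    apply le_sInf
    intro q hq
    have := Module.associatedPrimes.minimalPrimes_annihilator_subset_associatedPrimes A M hq
    rw [hp] at this
    rw [this]
  obtain ⟨N, ⟨hNT, hNF⟩, hmax⟩ := set_has_maximal_iff_noetherian.mpr hNoeth
    {N | Tf N ∧ HasFilt p N} ⟨⊥, hTf0, hasFilt_bot p⟩
  by_cases hN : N = ⊤
  · rw [← hN]; exact hNF
  exfalso
  have : Nontrivial (M ⧸ N) := Submodule.Quotient.nontrivial_iff.mpr hN
  obtain ⟨q, hq⟩ := associatedPrimes.nonempty A (M ⧸ N)
  have hqp : q = p := by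
    obtain ⟨hqprime, x, hx⟩ := isAssociatedPrime_iff.mp hq
    apply le_antisymm
    · intro s hs
      by_contra hsp
      rw [hx, Submodule.mem_colon_singleton] at hs
      obtain ⟨m, rfl⟩ := N.mkQ_surjective x
      have hm : m ∈ N := hNT s hsp m (by
        rw [Submodule.mem_bot, Submodule.mkQ_apply, ← Submodule.Quotient.mk_smul,
          Submodule.Quotient.mk_eq_zero] at hs
        exact hs)
      have : q = ⊤ := by
        rw [hx, Ideal.eq_top_iff_one, Submodule.mem_colon_singleton]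
        simpa using hm
      exact hqprime.ne_top this
    · refine le_trans hrad ?_
      rw [hqprime.radical_le_iff]
      intro a ha
      rw [hx, Submodule.mem_colon_singleton]
      obtain ⟨m, rfl⟩ := N.mkQ_surjective x
      rw [← map_smul, Module.mem_annihilator.mp ha m]
      simp
  rw [hqp] at hq
  obtain ⟨-, h, hh⟩ := (isAssociatedPrime_iff_exists_injective_linearMap p (M ⧸ N)).mp hq
  let Lf : A → Submodule A (M ⧸ N) := fun s =>
    Submodule.comap (LinearMap.lsmul A (M ⧸ N) s) (LinearMap.range h)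
  obtain ⟨L, ⟨s₀, hs₀, rfl⟩, hLmax⟩ := set_has_maximal_iff_noetherian.mpr
    (inferInstance : IsNoetherian A (M ⧸ N))
    {L | ∃ s, s ∉ p ∧ Lf s = L}
    ⟨Lf 1, 1, (by rw [← Ideal.eq_top_iff_one]; exact hpp.ne_top), rfl⟩
  let N₁ : Submodule A M := Submodule.comap N.mkQ (Lf s₀)
  have hNN₁ : N ≤ N₁ := by
    intro n hn
    show s₀ • N.mkQ n ∈ LinearMap.range h
    rw [Submodule.mkQ_apply, (Submodule.Quotient.mk_eq_zero N).mpr hn, smul_zero]
    exact zero_mem _
  have hTfN₁ : Tf N₁ := by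
    intro t ht m hm
    have h1 : N.mkQ m ∈ Lf (s₀ * t) := by
      show (s₀ * t) • N.mkQ m ∈ LinearMap.range h
      have : s₀ • N.mkQ (t • m) ∈ LinearMap.range h := hm
      rwa [map_smul, smul_smul] at this
    have h2 : Lf s₀ ≤ Lf (s₀ * t) := by
      intro y hy
      obtain ⟨a, ha⟩ := hy
      refine ⟨t • a, ?_⟩
      rw [map_smul, ha]
      show t • s₀ • y = (s₀ * t) • y
      rw [smul_smul, mul_comm]
    have h3 : Lf s₀ = Lf (s₀ * t) := by
      by_contra hne
      exact hLmax (Lf (s₀ * t))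
        ⟨s₀ * t, (fun hmem => (hpp.mem_or_mem hmem).elim hs₀ ht), rfl⟩ (lt_of_le_of_ne h2 hne)
    show N.mkQ m ∈ Lf s₀
    rw [h3]; exact h1
  let N' := Submodule.comap N₁.subtype N
  let u₀ : ↥N₁ →ₗ[A] (M ⧸ N) := (LinearMap.lsmul A (M ⧸ N) s₀) ∘ₗ N.mkQ ∘ₗ N₁.subtype
  have hu₀ : LinearMap.ker u₀ = N' := by
    ext n
    constructor
    · intro hn
      show (n : M) ∈ N
      apply hNT s₀ hs₀
      rw [← Submodule.Quotient.mk_eq_zero, Submodule.Quotient.mk_smul]; exact hn
    · intro hn
      show s₀ • N.mkQ n = 0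
      have hn' : (n : M) ∈ N := hn
      rw [Submodule.mkQ_apply, (Submodule.Quotient.mk_eq_zero N).mpr hn', smul_zero]
  let u : (↥N₁ ⧸ N') →ₗ[A] (M ⧸ N) := N'.liftQ u₀ hu₀.ge
  have hu : Function.Injective u := by
    rw [← LinearMap.ker_eq_bot]
    exact Submodule.ker_liftQ_eq_bot _ _ _ hu₀.le
  have hur : ∀ z, u z ∈ LinearMap.range h := by
    intro z
    induction z using Submodule.Quotient.induction_on with
    | H n => exact n.2
  let g : (↥N₁ ⧸ N') →ₗ[A] (A ⧸ p) :=
    (LinearEquiv.ofInjective h hh).symm.toLinearMap ∘ₗ (u.codRestrict (LinearMap.range h) hur)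
  have hg : Function.Injective g := by
    have h1 : Function.Injective (u.codRestrict (LinearMap.range h) hur) :=
      (LinearMap.injective_codRestrict_iff hur).mpr hu
    have h2 : Function.Injective (LinearEquiv.ofInjective h hh).symm :=
      (LinearEquiv.ofInjective h hh).symm.injective
    intro z₁ z₂ hz
    exact h1 (h2 hz)
  have hN₁F : HasFilt p N₁ := hasFilt_extend p hNF hNN₁ g hg
  have hlt : N < N₁ := by
    refine lt_of_le_of_ne hNN₁ ?_
    intro heq
    obtain ⟨m₁, hm₁⟩ := N.mkQ_surjective (h 1)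
    have hm₁' : m₁ ∈ N₁ := by
      show s₀ • N.mkQ m₁ ∈ LinearMap.range h
      rw [hm₁]; exact ⟨s₀ • 1, by rw [map_smul]⟩
    rw [← heq] at hm₁'
    have h0 : h 1 = 0 := by
      rw [← hm₁, Submodule.mkQ_apply, Submodule.Quotient.mk_eq_zero]; exact hm₁'
    have h10 : (1 : A ⧸ p) = 0 := hh (by rw [h0, map_zero])
    have : Nontrivial (A ⧸ p) := Ideal.Quotient.nontrivial_iff.mpr hpp.ne_top
    exact one_ne_zero h10
  exact hmax N₁ ⟨hTfN₁, hN₁F⟩ hlt

/-- Let A be a Noetherian ring and M a finite A-module whose set of associated primes is a single prime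
p. Then M has a finite decreasing filtration by submodules M = M_0 ⊇ M_1 ⊇ ⋯ ⊇ M_m = 0 such that
each quotient M_h/M_{h+1} is isomorphic to a submodule of A/p (i.e. embeds A-linearly into A/p). -/
theorem result (A : Type u) [CommRing A] [IsNoetherianRing A]
    (M : Type u) [AddCommGroup M] [Module A M] [Module.Finite A M] (p : Ideal A)
    (hp : associatedPrimes A M = {p}) :
    ∃ (m : ℕ) (F : Fin (m + 1) → Submodule A M), Antitone F ∧ F 0 = ⊤ ∧ F (Fin.last m) = ⊥ ∧
      ∀ i : Fin m, ∃ g : (↥(F i.castSucc) ⧸ Submodule.comap (F i.castSucc).subtype (F i.succ)) →ₗ[A] (A ⧸ p),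
        Function.Injective g := by
  obtain ⟨m, F, hF, hF0, hFl, hFg⟩ := main A M p hp
  exact ⟨m, F, hF, hF0, hFl, hFg⟩

end Groth.Agent.S4722
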