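import Groth.Statements.S4726
import Mathlib

set_option autoImplicit false
universe u
open EGA4

namespace Groth.Agent.S4726

open TensorProduct in
theorem descend {R₀ R : Type u} [CommRing R₀] [CommRing R] [Algebra R₀ R] (M : Type u)
    [AddCommGroup M] [Module R M] {n m : ℕ} (f : (Fin n → R) →ₗ[R] M)
    (g : (Fin m → R) →ₗ[R] (Fin n → R)) (hf : Function.Surjective f) (hfg : Function.Exact g f)
    (b : Fin m × Fin n → R₀) (hb : ∀ p, algebraMap R₀ R (b p) = g (Pi.single p.1 1) p.2) :
    ∃ (M₀ : Type u) (_ : AddCommGroup M₀) (_ : Module R₀ M₀), Module.FinitePresentation R₀ M₀ ∧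
      Nonempty (M ≃ₗ[R] R ⊗[R₀] M₀) := by
  classical
  let _ : Module R₀ M := Module.compHom M (algebraMap R₀ R)
  have : IsScalarTower R₀ R M := IsScalarTower.of_algebraMap_smul fun r x => rfl
  let v₀ : Fin m → (Fin n → R₀) := fun j i => b (j, i)
  let g₀ : (Fin m → R₀) →ₗ[R₀] (Fin n → R₀) := Fintype.linearCombination R₀ v₀
  let i₁ : (Fin m → R₀) →ₗ[R₀] (Fin m → R) := (Algebra.linearMap R₀ R).compLeft (Fin m)
  let i₂ : (Fin n → R₀) →ₗ[R₀] (Fin n → R) := (Algebra.linearMap R₀ R).compLeft (Fin n)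
  have comm₁ : i₂.comp g₀ = (g.restrictScalars R₀).comp i₁ := by
    apply LinearMap.pi_ext'
    intro j
    apply LinearMap.ext_ring
    ext i
    simp only [LinearMap.coe_comp, Function.comp_apply, LinearMap.coe_single, LinearMap.coe_restrictScalars]
    have h1 : g₀ (Pi.single j 1) = v₀ j := by
      simp [g₀, Fintype.linearCombination_apply, Pi.single_apply]
    have h2 : i₁ (Pi.single j 1) = Pi.single j 1 := by
      ext j'
      simp [i₁, Pi.single_apply]
    rw [h1, h2]
    simp [i₂, v₀]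
    exact hb (j, i)
  let f₀ : (Fin n → R₀) →ₗ[R₀] ((Fin n → R₀) ⧸ LinearMap.range g₀) := (LinearMap.range g₀).mkQ
  have hle : LinearMap.range g₀ ≤ LinearMap.ker ((f.restrictScalars R₀).comp i₂) := by
    rintro _ ⟨c, rfl⟩
    rw [LinearMap.mem_ker]
    have := congrArg (fun l => l c) comm₁
    simp only [LinearMap.coe_comp, Function.comp_apply, LinearMap.coe_restrictScalars] at this ⊢
    rw [this]
    exact hfg.apply_apply_eq_zero _
  let i₃ : ((Fin n → R₀) ⧸ LinearMap.range g₀) →ₗ[R₀] M := (LinearMap.range g₀).liftQ _ hle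
  have comm₂ : i₃.comp f₀ = (f.restrictScalars R₀).comp i₂ := by
    ext x
    simp [i₃, f₀]
  have hbc : IsBaseChange R i₃ :=
    IsBaseChange.of_right_exact R i₁ i₂ i₃ comm₁ comm₂
      ((IsBaseChange.linearMap R₀ R).finitePow (Fin m)) ((IsBaseChange.linearMap R₀ R).finitePow (Fin n))
      (LinearMap.exact_map_mkQ_range g₀) (Submodule.mkQ_surjective _) hfg hf
  refine ⟨(Fin n → R₀) ⧸ LinearMap.range g₀, inferInstance, inferInstance, ?_, ⟨hbc.equiv.symm⟩⟩
  exact Module.finitePresentation_of_surjective f₀ (Submodule.mkQ_surjective _)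
    (by rw [Submodule.ker_mkQ]; exact Submodule.fg_range _)

open TensorProduct in
/-- Let (A_i) be a directed system of commutative rings with direct limit A and M a finitely presented
A-module. Then there exist an index i and a finitely presented A_i-module M_i such that M is
isomorphic, as an A-module, to A ⊗_{A_i} M_i (A being an A_i-algebra through the canonical map). -/
theorem result (ι : Type u) [Preorder ι] [Nonempty ι] [IsDirectedOrder ι]
    (G : ι → Type u) [∀ i, CommRing (G i)] (f : ∀ i j, i ≤ j → G i →+* G j)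
    [DirectedSystem G (fun i j h ↦ f i j h)] (M : Type u) [AddCommGroup M]
    [Module (Ring.DirectLimit G (fun i j h ↦ f i j h)) M]
    [Module.FinitePresentation (Ring.DirectLimit G (fun i j h ↦ f i j h)) M] :
    ∃ (i : ι) (Mi : Type u) (_ : AddCommGroup Mi) (_ : Module (G i) Mi), Module.FinitePresentation (G i) Mi ∧
      letI : Algebra (G i) (Ring.DirectLimit G (fun i j h ↦ f i j h)) :=
        (Ring.DirectLimit.of G (fun i j h ↦ f i j h) i).toAlgebra
      Nonempty (M ≃ₗ[Ring.DirectLimit G (fun i j h ↦ f i j h)] (Ring.DirectLimit G (fun i j h ↦ f i j h)) ⊗[G i] Mi) := by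
  obtain ⟨n, m, φ, g, hφ, hφg⟩ := Module.FinitePresentation.exists_fin' (Ring.DirectLimit G (fun i j h ↦ f i j h)) M
  have hex : ∀ p : Fin m × Fin n, ∃ (i : ι) (x : G i), Ring.DirectLimit.of G (fun i j h ↦ f i j h) i x = g (Pi.single p.1 1) p.2 :=
    fun p => Ring.DirectLimit.exists_of _
  choose idx x hx using hex
  obtain ⟨i₀, hi₀⟩ := Finite.exists_le idx
  let b : Fin m × Fin n → G i₀ := fun p => f (idx p) i₀ (hi₀ p) (x p)
  letI : Algebra (G i₀) (Ring.DirectLimit G (fun i j h ↦ f i j h)) :=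
        (Ring.DirectLimit.of G (fun i j h ↦ f i j h) i₀).toAlgebra
  have hb : ∀ p, algebraMap (G i₀) (Ring.DirectLimit G (fun i j h ↦ f i j h)) (b p) = g (Pi.single p.1 1) p.2 := by
    intro p
    rw [← hx p]
    exact Ring.DirectLimit.of_f _ _
  obtain ⟨M₀, i1, i2, hfp, he⟩ := descend M φ g hφ hφg b hb
  exact ⟨i₀, M₀, i1, i2, hfp, he⟩

end Groth.Agent.S4726
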