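import Groth.Statements.S4729
import Groth.Agent.S6285
import Mathlib

set_option autoImplicit false
universe u
open EGA4

namespace Groth.Agent.S4729

theorem support_localized (A : Type u) [CommRing A] (M : Type u) [AddCommGroup M] [Module A M]
    [Module.Finite A M] (p : Ideal A) [p.IsPrime] :
    Module.support (Localization.AtPrime p) (LocalizedModule p.primeCompl M) =
      PrimeSpectrum.comap (algebraMap A (Localization.AtPrime p)) ⁻¹' Module.support A M :=
  Groth.Agent.S6285.support_of_isBaseChange (LocalizedModule.mkLinearMap p.primeCompl M)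
    (LocalizedModule.isBaseChange p.primeCompl M)

theorem main (A : Type u) [CommRing A] (M : Type u) [AddCommGroup M] [Module A M]
    [Module.Finite A M] (p q : Ideal A) [hp : p.IsPrime] [hq : q.IsPrime] (hpq : p ≤ q) :
    Module.supportDim (Localization.AtPrime p) (LocalizedModule p.primeCompl M) ≤
      Module.supportDim (Localization.AtPrime q) (LocalizedModule q.primeCompl M) := by
  let ep := IsLocalization.AtPrime.primeSpectrumOrderIso (Localization.AtPrime p) p
  let eq := IsLocalization.AtPrime.primeSpectrumOrderIso (Localization.AtPrime q) q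
  have hep : ∀ P', ((ep P').1 : PrimeSpectrum A) = PrimeSpectrum.comap (algebraMap A (Localization.AtPrime p)) P' := by
    intro P'; rfl
  have heq : ∀ Q', ((eq Q').1 : PrimeSpectrum A) = PrimeSpectrum.comap (algebraMap A (Localization.AtPrime q)) Q' := by
    intro Q'; rfl
  have key : ∀ P' : PrimeSpectrum (Localization.AtPrime p),
      P' ∈ Module.support (Localization.AtPrime p) (LocalizedModule p.primeCompl M) →
      ∀ h : (ep P').1 ≤ ⟨q, hq⟩, eq.symm ⟨(ep P').1, h⟩ ∈
        Module.support (Localization.AtPrime q) (LocalizedModule q.primeCompl M) := by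
    intro P' hP' h
    rw [support_localized, Set.mem_preimage] at hP' ⊢
    rw [← heq, OrderIso.apply_symm_apply]
    rw [← hep] at hP'
    exact hP'
  let φ : Module.support (Localization.AtPrime p) (LocalizedModule p.primeCompl M) →
      Module.support (Localization.AtPrime q) (LocalizedModule q.primeCompl M) := fun P' =>
    ⟨eq.symm ⟨(ep P'.1).1, le_trans (ep P'.1).2 (show (⟨p, hp⟩ : PrimeSpectrum A) ≤ ⟨q, hq⟩ from hpq)⟩,
      key P'.1 P'.2 _⟩
  have hφ : StrictMono φ := by
    intro P₁ P₂ h
    change eq.symm _ < eq.symm _
    rw [OrderIso.lt_iff_lt]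
    change (ep P₁.1).1 < (ep P₂.1).1
    exact (ep.lt_iff_lt).mpr h
  exact Order.krullDim_le_of_strictMono φ hφ

/-- Let A be a commutative ring, M a finite A-module and p ⊆ q prime ideals of A (so that p is a
generization of q). Then the dimension of the A_p-module M_p is at most the dimension of the
A_q-module M_q. -/
theorem result (A : Type u) [CommRing A] (M : Type u) [AddCommGroup M] [Module A M]
    [Module.Finite A M] (p q : Ideal A) [p.IsPrime] [q.IsPrime] (hpq : p ≤ q) :
    Module.supportDim (Localization.AtPrime p) (LocalizedModule p.primeCompl M) ≤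
      Module.supportDim (Localization.AtPrime q) (LocalizedModule q.primeCompl M) := by
  exact main A M p q hpq

end Groth.Agent.S4729
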