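import Groth.Statements.S4731
import Mathlib

set_option autoImplicit false
universe u
open EGA4

namespace Groth.Agent.S4731

theorem isNoetherian_of_isTorsionBySet {S : Type*} [CommRing S] (c : Ideal S)
    [IsNoetherianRing (S ⧸ c)] (M : Type*) [AddCommGroup M] [Module S M] [Module.Finite S M]
    (h : Module.IsTorsionBySet S M c) : IsNoetherian S M := by
  let _ := h.module
  have : IsScalarTower S (S ⧸ c) M := h.isScalarTower
  have : Module.Finite (S ⧸ c) M := Module.Finite.of_restrictScalars_finite S (S ⧸ c) M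
  have : IsNoetherian (S ⧸ c) M := isNoetherian_of_isNoetherianRing_of_finite (S ⧸ c) M
  refine ⟨fun N => ?_⟩
  let N' : Submodule (S ⧸ c) M :=
    { N.toAddSubmonoid with
      smul_mem' := by
        intro t x hx
        obtain ⟨s, rfl⟩ := Ideal.Quotient.mk_surjective t
        have : (Ideal.Quotient.mk c s) • x = s • x := h.mk_smul s x
        rw [this]
        exact N.smul_mem s hx }
  have h1 : N'.FG := IsNoetherian.noetherian N'
  have h2 := h1.restrictScalars_of_surjective (R := S) Ideal.Quotient.mk_surjective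
  have h3 : N'.restrictScalars S = N := by ext x; rfl
  rwa [h3] at h2

theorem main (S R : Type u) [CommRing S] [CommRing R] [Algebra S R]
    [FaithfulSMul S R] [IsNoetherianRing R] [Module.Finite S R] (c : Ideal S)
    (hc : ∀ s : S, s ∈ c ↔ ∀ r : R, ∃ s' : S, algebraMap S R s' = algebraMap S R s * r)
    [IsNoetherianRing (S ⧸ c)] (a : ℕ →o Ideal S) :
    ∃ N : ℕ, ∀ n, N ≤ n → a n = a N := by
  have hinj : Function.Injective (algebraMap S R) := FaithfulSMul.algebraMap_injective S R
  -- c is stable under R-multiplication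
  have hcR : ∀ s ∈ c, ∀ r : R, ∃ s' ∈ c, algebraMap S R s' = algebraMap S R s * r := by
    intro s hs r
    obtain ⟨s', hs'⟩ := (hc s).mp hs r
    refine ⟨s', (hc s').mpr fun r' => ?_, hs'⟩
    obtain ⟨s'', hs''⟩ := (hc s).mp hs (r * r')
    exact ⟨s'', by rw [hs'', hs', mul_assoc]⟩
  let A : ℕ →o Ideal R := ⟨fun n => Ideal.map (algebraMap S R) (a n), fun m n h => Ideal.map_mono (a.monotone h)⟩
  obtain ⟨N₀, hN₀⟩ := monotone_stabilizes_iff_noetherian.mpr (inferInstance : IsNoetherian R R) A
  set b : Ideal R := A N₀ with hb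
  have key0 : ∀ n, ∀ z ∈ Ideal.map (algebraMap S R) (a n), ∀ s ∈ c,
      ∃ w ∈ a n, algebraMap S R w = algebraMap S R s * z := by
    intro n z hz
    change z ∈ Ideal.span _ at hz
    induction hz using Submodule.span_induction with
    | mem z hz =>
      obtain ⟨w, hw, rfl⟩ := hz
      intro s hs
      exact ⟨s * w, (a n).mul_mem_left s hw, by rw [map_mul]⟩
    | zero => intro s hs; exact ⟨0, (a n).zero_mem, by simp⟩
    | add x y _ _ hx hy =>
      intro s hs
      obtain ⟨w1, hw1, e1⟩ := hx s hs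
      obtain ⟨w2, hw2, e2⟩ := hy s hs
      exact ⟨w1 + w2, (a n).add_mem hw1 hw2, by rw [map_add, e1, e2, mul_add]⟩
    | smul r x _ hx =>
      intro s hs
      obtain ⟨s', hs', e⟩ := hcR s hs r
      obtain ⟨w, hw, e1⟩ := hx s' hs'
      exact ⟨w, hw, by rw [e1, e, smul_eq_mul, mul_assoc]⟩
  have key1 : ∀ n, N₀ ≤ n → ∀ z ∈ b, ∀ s ∈ c, ∃ w ∈ a n, algebraMap S R w = algebraMap S R s * z := by
    intro n hn z hz
    have hz : z ∈ A n := by rw [← hN₀ n hn]; exact hz
    exact key0 n z hz
  let K : Submodule R ↥b := Submodule.span R {x | ∃ s ∈ c, ∃ y : ↥b, x = algebraMap S R s • y}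
  have key2 : ∀ n, N₀ ≤ n → ∀ x ∈ K, ∀ r : R, ∃ w ∈ a n, algebraMap S R w = r * (x : R) := by
    intro n hn x hx
    induction hx using Submodule.span_induction with
    | mem x hx =>
      obtain ⟨s, hs, y, rfl⟩ := hx
      intro r
      obtain ⟨w, hw, e⟩ := key1 n hn (r * y) (b.mul_mem_left r y.2) s hs
      exact ⟨w, hw, by rw [e]; simp only [Submodule.coe_smul, smul_eq_mul]; ring⟩
    | zero => intro r; exact ⟨0, (a n).zero_mem, by simp⟩
    | add x y _ _ hx hy =>
      intro r
      obtain ⟨w1, hw1, e1⟩ := hx r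
      obtain ⟨w2, hw2, e2⟩ := hy r
      exact ⟨w1 + w2, (a n).add_mem hw1 hw2, by rw [map_add, e1, e2]; simp [mul_add]⟩
    | smul r' x _ hx =>
      intro r
      obtain ⟨w, hw, e⟩ := hx (r * r')
      exact ⟨w, hw, by rw [e]; simp [mul_assoc]⟩
  let M := ↥b ⧸ K
  have hfinR : Module.Finite R M := inferInstance
  have hfin : Module.Finite S M := Module.Finite.trans R M
  have htors : Module.IsTorsionBySet S M c := by
    intro m s
    obtain ⟨y, rfl⟩ := K.mkQ_surjective m
    have : (s : S) • K.mkQ y = K.mkQ (algebraMap S R s • y) := by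
      rw [map_smul, algebraMap_smul]
    rw [this]
    exact (Submodule.Quotient.mk_eq_zero K).mpr (Submodule.subset_span ⟨s, s.2, y, rfl⟩)
  have hNoeth : IsNoetherian S M := isNoetherian_of_isTorsionBySet c M htors
  let φ : ↥b →ₗ[S] M := K.mkQ.restrictScalars S
  let B : ℕ →o Submodule S M :=
    ⟨fun n => Submodule.map φ (Submodule.comap (b.subtype.restrictScalars S)
      (Submodule.map (Algebra.linearMap S R) (a n))),
     fun m n h => Submodule.map_mono (Submodule.comap_mono (Submodule.map_mono (a.monotone h)))⟩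
  obtain ⟨N₁, hN₁⟩ := monotone_stabilizes_iff_noetherian.mpr hNoeth B
  refine ⟨max N₀ N₁, fun n hn => le_antisymm ?_ (a.monotone hn)⟩
  intro y hy
  have hyb : algebraMap S R y ∈ b := by
    have h1 : algebraMap S R y ∈ A n := Ideal.mem_map_of_mem _ hy
    rwa [← hN₀ n (le_trans (le_max_left _ _) hn)] at h1
  have hmem : φ ⟨algebraMap S R y, hyb⟩ ∈ B n := ⟨⟨_, hyb⟩, ⟨y, hy, rfl⟩, rfl⟩
  have hBeq : B n = B (max N₀ N₁) := by
    rw [← hN₁ n (le_trans (le_max_right _ _) hn), ← hN₁ _ (le_max_right _ _)]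
  rw [hBeq] at hmem
  obtain ⟨z, ⟨y', hy', hz⟩, hzy⟩ := hmem
  have hK : z - ⟨algebraMap S R y, hyb⟩ ∈ K := by
    rw [← Submodule.Quotient.eq]
    exact hzy
  obtain ⟨w, hw, e⟩ := key2 (max N₀ N₁) (le_max_left _ _) _ hK 1
  have hyw : y = y' - w := by
    apply hinj
    rw [map_sub, e]
    simp only [one_mul, AddSubgroupClass.coe_sub]
    have hz' : algebraMap S R y' = (z : R) := hz
    rw [hz']
    ring
  rw [hyw]
  exact (a _).sub_mem hy' hw

/-- Let S → R be an injective homomorphism of commutative rings making R a finite S-module, with R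
Noetherian; let c be the conductor of S in R, the ideal of those s in S with s R contained in (the
image of) S. If S/c is Noetherian, then every increasing sequence of ideals of S contained in c is
eventually constant. -/
theorem result (S R : Type u) [CommRing S] [CommRing R] [Algebra S R]
    [FaithfulSMul S R] [IsNoetherianRing R] [Module.Finite S R] (c : Ideal S)
    (hc : ∀ s : S, s ∈ c ↔ ∀ r : R, ∃ s' : S, algebraMap S R s' = algebraMap S R s * r)
    [IsNoetherianRing (S ⧸ c)] (a : ℕ →o Ideal S) (ha : ∀ n, a n ≤ c) :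
    ∃ N : ℕ, ∀ n, N ≤ n → a n = a N := by
  exact main S R c hc a

end Groth.Agent.S4731
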