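import Groth.Statements.S4732
import Mathlib.RingTheory.RegularLocalRing.Polynomial
import Mathlib.RingTheory.DedekindDomain.PID
import Mathlib.AlgebraicGeometry.Morphisms.ClosedImmersion
import Mathlib.RingTheory.FiniteType

set_option autoImplicit false
universe u
open EGA4

namespace Groth.Agent.S4732

open AlgebraicGeometry CategoryTheory in
lemma isRegularLocalRing_stalk_Spec (P : Type u) [CommRing P] [IsRegularRing P]
    (y : Spec (CommRingCat.of P)) :
    IsRegularLocalRing ((Spec (CommRingCat.of P)).presheaf.stalk y) := by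
  let alg : Algebra P ((Spec (CommRingCat.of P)).presheaf.stalk y) :=
    StructureSheaf.stalkAlgebra P y
  have hloc : IsLocalization.AtPrime ((Spec (CommRingCat.of P)).presheaf.stalk y) y.asIdeal :=
    StructureSheaf.IsLocalization.to_stalk P y
  have hreg : IsRegularLocalRing (Localization.AtPrime y.asIdeal) := inferInstance
  exact IsRegularLocalRing.of_ringEquiv (IsLocalization.algEquiv y.asIdeal.primeCompl
    (Localization.AtPrime y.asIdeal) ((Spec (CommRingCat.of P)).presheaf.stalk y)).toRingEquiv

open AlgebraicGeometry CategoryTheory in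
/-- Let k be a field, X a scheme locally of finite type over k and x a point of X. Then there are an
open neighbourhood U of x, a k-scheme Y all of whose local rings are regular, and an immersion U → Y
compatible with the structure morphisms to Spec k. -/
theorem result (k : Type u) [Field k] {X : Scheme.{u}}
    (f : X ⟶ Spec (CommRingCat.of k)) [LocallyOfFiniteType f] (x : X) :
    ∃ (U : X.Opens) (_ : x ∈ U) (Y : Scheme.{u}) (g : Y ⟶ Spec (CommRingCat.of k)) (i : (U : Scheme.{u}) ⟶ Y),
      IsImmersion i ∧ i ≫ g = U.ι ≫ f ∧ ∀ y : Y, IsRegularLocalRing (Y.presheaf.stalk y) := by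
  obtain ⟨U, hU, hxU, -⟩ := exists_isAffineOpen_mem_and_subset (x := x) (U := ⊤) trivial
  have hW : IsAffine (U : Scheme.{u}) := hU
  let h : (U : Scheme.{u}) ⟶ Spec (CommRingCat.of k) := U.ι ≫ f
  have hft : LocallyOfFiniteType h := inferInstance
  let ψ : CommRingCat.of k ⟶ Γ((U : Scheme.{u}), ⊤) :=
    (Scheme.ΓSpecIso (CommRingCat.of k)).inv ≫ h.appTop
  have hψ : ψ.hom.FiniteType := by
    have h1 : h.appTop.hom.FiniteType :=
      (HasRingHomProperty.iff_of_isAffine (P := @LocallyOfFiniteType)).mp hft
    have h2 : (Scheme.ΓSpecIso (CommRingCat.of k)).inv.hom.FiniteType :=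
      RingHom.FiniteType.of_surjective _
        (ConcreteCategory.bijective_of_isIso (Scheme.ΓSpecIso (CommRingCat.of k)).inv).2
    exact h1.comp h2
  letI := ψ.hom.toAlgebra
  obtain ⟨n, π, hπ⟩ := Algebra.FiniteType.iff_quotient_mvPolynomial''.mp hψ
  let P := MvPolynomial (Fin n) k
  have hregk : IsRegularRing k := inferInstance
  have hregP : IsRegularRing P := inferInstance
  let πc : CommRingCat.of P ⟶ Γ((U : Scheme.{u}), ⊤) := CommRingCat.ofHom π.toRingHom
  have hci : IsClosedImmersion (Spec.map πc) := IsClosedImmersion.spec_of_surjective πc hπ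
  let i : (U : Scheme.{u}) ⟶ Spec (CommRingCat.of P) := (U : Scheme.{u}).isoSpec.hom ≫ Spec.map πc
  let g : Spec (CommRingCat.of P) ⟶ Spec (CommRingCat.of k) :=
    Spec.map (CommRingCat.ofHom (algebraMap k P))
  refine ⟨U, hxU, Spec (CommRingCat.of P), g, i, inferInstance, ?_,
    fun y => isRegularLocalRing_stalk_Spec P y⟩
  have e1 : CommRingCat.ofHom (algebraMap k P) ≫ πc = ψ := by
    ext a
    exact π.commutes a
  change ((U : Scheme.{u}).isoSpec.hom ≫ Spec.map πc) ≫ Spec.map _ = h
  rw [Category.assoc, ← Spec.map_comp, e1]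
  change _ ≫ Spec.map ((Scheme.ΓSpecIso (CommRingCat.of k)).inv ≫ h.appTop) = h
  rw [Spec.map_comp, ← Category.assoc, Scheme.isoSpec_hom_naturality, Category.assoc,
    Scheme.isoSpec_Spec_hom, ← Spec.map_comp, Iso.inv_hom_id, Spec.map_id, Category.comp_id]

end Groth.Agent.S4732
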