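import Groth.Statements.S4741
import Mathlib.RingTheory.Ideal.KrullsHeightTheorem
import Mathlib.RingTheory.Ideal.GoingDown
import Mathlib.RingTheory.Ideal.MinimalPrime.Localization

set_option autoImplicit false
universe u
open EGA4

namespace Groth.Agent.S4741

lemma exists_prime_height_le {R S : Type*} [CommRing R] [CommRing S] [IsNoetherianRing R]
    [IsNoetherianRing S]
    (φ : R →+* S) (q₀ : Ideal S) [q₀.IsPrime] :
    ∃ q : Ideal S, q.IsPrime ∧ q ≤ q₀ ∧ q.comap φ = q₀.comap φ ∧
      q.height ≤ (q₀.comap φ).height := by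
  let _ := φ.toAlgebra
  have hp : (q₀.comap φ).IsPrime := inferInstance
  have hle : (q₀.comap φ).map φ ≤ q₀ := Ideal.map_comap_le
  obtain ⟨q, hq, hqle⟩ := Ideal.exists_minimalPrimes_le hle
  have hqp : q.IsPrime := hq.1.1
  have hover : q.comap φ = q₀.comap φ :=
    le_antisymm (Ideal.comap_mono hqle) (Ideal.map_le_iff_le_comap.mp hq.1.2)
  refine ⟨q, hqp, hqle, hover, ?_⟩
  have hlies : q.LiesOver (q₀.comap φ) := ⟨hover.symm⟩
  have h1 := Ideal.height_le_height_add_of_liesOver (q₀.comap φ) q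
  have h2 : (q.map (Ideal.Quotient.mk ((q₀.comap φ).map (algebraMap R S)))).height = 0 := by
    have hq' : q ∈ ((q₀.comap φ).map (algebraMap R S)).minimalPrimes := hq
    rw [Ideal.minimalPrimes_eq_comap] at hq'
    obtain ⟨Q, hQ, rfl⟩ := hq'
    rw [Ideal.map_comap_of_surjective _ Ideal.Quotient.mk_surjective]
    have := hQ.1.1
    exact Ideal.height_eq_zero_iff.mpr hQ
  rwa [h2, add_zero] at h1

open AlgebraicGeometry CategoryTheory in
lemma exists_point_dim_le {X Y : Scheme.{u}} (f : X ⟶ Y) [IsLocallyNoetherian X]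
    [IsLocallyNoetherian Y] (x₀ : X) :
    ∃ x : X, f.base x = f.base x₀ ∧
      ringKrullDim (X.presheaf.stalk x) ≤ ringKrullDim (Y.presheaf.stalk (f.base x₀)) := by
  obtain ⟨U, hU, hyU, -⟩ := exists_isAffineOpen_mem_and_subset (x := f.base x₀) (U := ⊤) trivial
  obtain ⟨V, hV, hxV, hVU'⟩ := exists_isAffineOpen_mem_and_subset (x := x₀) (U := f ⁻¹ᵁ U) hyU
  have hVU : V ≤ f ⁻¹ᵁ U := hVU'
  have : IsNoetherianRing Γ(X, V) := IsLocallyNoetherian.component_noetherian ⟨V, hV⟩
  have : IsNoetherianRing Γ(Y, U) := IsLocallyNoetherian.component_noetherian ⟨U, hU⟩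
  let φ := (f.appLE U V hVU).hom
  obtain ⟨q, hq, hqle, hover, hht⟩ := exists_prime_height_le φ (hV.primeIdealOf ⟨x₀, hxV⟩).asIdeal
  have hcomap : (hV.primeIdealOf ⟨x₀, hxV⟩).asIdeal.comap φ =
      (hU.primeIdealOf ⟨f.base x₀, hyU⟩).asIdeal :=
    congrArg PrimeSpectrum.asIdeal (IsAffineOpen.comap_primeIdealOf_appLE U hU V hV hVU hxV)
  let q' : PrimeSpectrum Γ(X, V) := ⟨q, hq⟩
  have hxV' : hV.fromSpec q' ∈ V := by
    have : hV.fromSpec q' ∈ Set.range hV.fromSpec := ⟨q', rfl⟩
    rwa [hV.range_fromSpec] at this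
  refine ⟨hV.fromSpec q', ?_, ?_⟩
  · have h1 : (Spec.map (f.appLE U V hVU) ≫ hU.fromSpec) q' = (hV.fromSpec ≫ f) q' := by
      rw [IsAffineOpen.SpecMap_appLE_fromSpec f hU hV hVU]
    rw [Scheme.Hom.comp_apply, Scheme.Hom.comp_apply] at h1
    change f (hV.fromSpec q') = f x₀
    rw [← h1]
    have h2 : Spec.map (f.appLE U V hVU) q' = hU.primeIdealOf ⟨f.base x₀, hyU⟩ := by
      apply PrimeSpectrum.ext
      change q.comap φ = _
      rw [hover, hcomap]
    rw [h2]
    exact hU.fromSpec_primeIdealOf ⟨f.base x₀, hyU⟩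
  · have hX : ringKrullDim (X.presheaf.stalk (hV.fromSpec q')) = q.height := by
      exact @IsLocalization.AtPrime.ringKrullDim_eq_height _ _ q'.asIdeal _ _ _
        (TopCat.Presheaf.algebra_section_stalk X.presheaf ⟨hV.fromSpec q', hxV'⟩)
        (hV.isLocalization_stalk' q' hxV')
    have hY : ringKrullDim (Y.presheaf.stalk (f.base x₀)) =
        (hU.primeIdealOf ⟨f.base x₀, hyU⟩).asIdeal.height := by
      exact @IsLocalization.AtPrime.ringKrullDim_eq_height _ _
        (hU.primeIdealOf ⟨f.base x₀, hyU⟩).asIdeal _ _ _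
        (TopCat.Presheaf.algebra_section_stalk Y.presheaf ⟨f.base x₀, hyU⟩)
        (hU.isLocalization_stalk ⟨f.base x₀, hyU⟩)
    rw [hX, hY, ← hcomap]
    exact WithBot.coe_le_coe.mpr hht

open AlgebraicGeometry CategoryTheory in
lemma dim_le_of_flat {X Y : Scheme.{u}} (f : X ⟶ Y) [IsLocallyNoetherian X]
    [IsLocallyNoetherian Y] [Flat f] (x : X) :
    ringKrullDim (Y.presheaf.stalk (f.base x)) ≤ ringKrullDim (X.presheaf.stalk x) := by
  have hflat : (f.stalkMap x).hom.Flat := Flat.stalkMap f x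
  let _ := (f.stalkMap x).hom.toAlgebra
  have : Module.Flat (Y.presheaf.stalk (f.base x)) (X.presheaf.stalk x) := hflat
  have hlocal : IsLocalHom (f.stalkMap x).hom := inferInstance
  have hlies : (IsLocalRing.maximalIdeal (X.presheaf.stalk x)).LiesOver
      (IsLocalRing.maximalIdeal (Y.presheaf.stalk (f.base x))) := by
    refine ⟨?_⟩
    have h5 : (IsLocalRing.maximalIdeal (X.presheaf.stalk x)).comap (f.stalkMap x).hom =
        IsLocalRing.maximalIdeal (Y.presheaf.stalk (f.base x)) :=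
      ((IsLocalRing.local_hom_TFAE (f.stalkMap x).hom).out 0 4).mp hlocal
    exact h5.symm
  have h := Ideal.height_eq_height_add_of_liesOver_of_hasGoingDown
    (IsLocalRing.maximalIdeal (Y.presheaf.stalk (f.base x)))
    (IsLocalRing.maximalIdeal (X.presheaf.stalk x))
  rw [← IsLocalRing.maximalIdeal_height_eq_ringKrullDim,
    ← IsLocalRing.maximalIdeal_height_eq_ringKrullDim, h]
  exact WithBot.coe_le_coe.mpr le_self_add

open AlgebraicGeometry CategoryTheory in
/-- Suppose X and Y are locally Noetherian schemes, f : X → Y is a morphism that is surjective, and Z is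
a closed subset of Y. Then codim(f⁻¹(Z), X) ≤ codim(Z, Y), where the codimension of a closed subset
means the infimum over its points of the dimensions of the local rings there; when f is in addition
flat, these two codimensions coincide. (In the published version the equality part assumes f
quasi-flat; here f is taken to be flat.) -/
theorem result {X Y : Scheme.{u}} (f : X ⟶ Y) [IsLocallyNoetherian X]
    [IsLocallyNoetherian Y] (hf : Function.Surjective f.base) (Z : Set Y) (hZ : IsClosed Z) :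
    (⨅ x ∈ f.base ⁻¹' Z, ringKrullDim (X.presheaf.stalk x)) ≤ ⨅ y ∈ Z, ringKrullDim (Y.presheaf.stalk y) ∧
      (Flat f → (⨅ x ∈ f.base ⁻¹' Z, ringKrullDim (X.presheaf.stalk x)) = ⨅ y ∈ Z, ringKrullDim (Y.presheaf.stalk y)) := by
  have h1 : (⨅ x ∈ f.base ⁻¹' Z, ringKrullDim (X.presheaf.stalk x)) ≤
      ⨅ y ∈ Z, ringKrullDim (Y.presheaf.stalk y) := by
    refine le_iInf₂ fun y hy => ?_
    obtain ⟨x₀, rfl⟩ := hf y
    obtain ⟨x, hx, hdim⟩ := exists_point_dim_le f x₀
    exact iInf₂_le_of_le x (by rw [Set.mem_preimage, hx]; exact hy) hdim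
  refine ⟨h1, fun hflat => le_antisymm h1 ?_⟩
  refine le_iInf₂ fun x hx => ?_
  exact iInf₂_le_of_le (f.base x) hx (dim_le_of_flat f x)

end Groth.Agent.S4741
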