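import Groth.Statements.S4745
-- import your own Groth.Agent.* helpers here
import Groth.Agent.Lib.Helper49.NorE5
import Groth.Agent.Lib.Helper56.HomDescent
import Groth.Agent.Lib.Helper56.NormalComp

set_option autoImplicit false
universe u
open EGA4

namespace Groth.Agent.S4745

open IsLocalRing Groth.Agent.Lib.Helper56 Groth.Agent.Lib.Helper49.NorClosed

theorem exists_nat_dim_le (A : Type u) [CommRing A] [IsNoetherianRing A] [IsLocalRing A] :
    ∃ d : ℕ, ringKrullDim A ≤ (d : WithBot ℕ∞) := by
  have h1 : ((IsLocalRing.maximalIdeal A).height : WithBot ℕ∞) = ringKrullDim A :=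
    IsLocalRing.maximalIdeal_height_eq_ringKrullDim
  have h2 : ringKrullDim A ≠ ⊤ := ringKrullDim_ne_top
  have h3 : (IsLocalRing.maximalIdeal A).height ≠ ⊤ := by
    intro h
    apply h2
    rw [← h1, h]
    rfl
  obtain ⟨n, hn⟩ := ENat.ne_top_iff_exists.mp h3
  refine ⟨n, ?_⟩
  rw [← h1, ← hn]
  exact le_rfl

/-- The case of the property 'normal': let A → B be a local homomorphism of Noetherian local rings
making B a flat A-module, such that the residue field of B is a finite extension of the residue
field k of A, and such that the formal fibres of A are geometrically normal. If the k-algebra k ⊗_A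
B̂, where B̂ is the completion of B, is geometrically normal over k, then every fibre of A → B is
geometrically normal, that is, A → B is a normal homomorphism. -/
theorem result (A B : Type u) [CommRing A] [CommRing B]
    [IsNoetherianRing A] [IsNoetherianRing B] [IsLocalRing A] [IsLocalRing B] [Algebra A B]
    [IsLocalHom (algebraMap A B)] [Module.Flat A B]
    [Module.Finite (IsLocalRing.ResidueField A) (IsLocalRing.ResidueField B)]
    (hA : EGA4.HasGeomNormalFormalFibres A)
    (h : EGA4.IsGeomNormal (IsLocalRing.maximalIdeal A).ResidueField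
      ((IsLocalRing.maximalIdeal A).Fiber (EGA4.Cpl B))) :
    EGA4.IsNormalHom A B := by
  have hNA' : IsNoetherianRing (Cpl A) := Groth.Agent.S0543.result A (maximalIdeal A)
  have hNB' : IsNoetherianRing (Cpl B) := Groth.Agent.S0543.result B (maximalIdeal B)
  letI := cplAlgebra A B
  haveI t1 := isScalarTower_cpl A B
  haveI t2 := isScalarTower_cpl_base A B
  haveI hloc : IsLocalHom (algebraMap (Cpl A) (Cpl B)) := isLocalHom_cplMap A B
  haveI hfl : Module.Flat (Cpl A) (Cpl B) := flat_cplMap A B
  have hfin' := Groth.Agent.Lib.Helper49.CMClosed.finite_residueField_cpl A B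
  haveI : Module.Finite (ResidueField (Cpl A)) (ResidueField (Cpl B)) :=
    Module.Finite.of_restrictScalars_finite (Cpl A) (ResidueField (Cpl A)) (ResidueField (Cpl B))
  haveI : IsAdicComplete (maximalIdeal (Cpl A)) (Cpl A) :=
    AdicCompletion.isAdicComplete_of_fg (IsNoetherian.noetherian _)
  haveI : IsAdicComplete (maximalIdeal (Cpl B)) (Cpl B) :=
    AdicCompletion.isAdicComplete_of_fg (IsNoetherian.noetherian _)
  obtain ⟨d, hd⟩ := exists_nat_dim_le (Cpl A)
  have hHN : HNf A (Cpl B) := hnf_of_isGeomNormal A (Cpl B) h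
  have hNH : IsNormalHom (Cpl A) (Cpl B) := tstmt_all d (Cpl A) (Cpl B) hd (hnf_cpl A B hHN)
  haveI : Module.Flat A (Cpl A) := AdicCompletion.flat_of_isNoetherian (maximalIdeal A)
  have h1 : IsNormalHom A (Cpl A) := ⟨inferInstance, hA⟩
  have h2 : IsNormalHom A (Cpl B) := isNormalHom_comp A (Cpl A) (Cpl B) h1 hNH
  haveI : Module.FaithfullyFlat B (Cpl B) := faithfullyFlat_cpl B
  exact isNormalHom_descent A B (Cpl B) h2

end Groth.Agent.S4745
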