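import Groth.Statements.S4752
import Groth.Agent.Lib.Helper94.GeomRedFib
import Groth.Agent.Lib.Helper56.GeomReduced
import Mathlib

set_option autoImplicit false
universe u
open EGA4

namespace Groth.Agent.S4752

open TensorProduct Groth.Agent.Lib.Helper94 in

/-- Case of reduced morphisms, affine form: let A → B → C be homomorphisms of Noetherian rings, both
flat and with geometrically reduced fibres. Then the composite A → C is flat with geometrically
reduced fibres. -/
theorem result (A B C : Type u) [CommRing A] [CommRing B] [CommRing C] [IsNoetherianRing A]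
    [IsNoetherianRing B] [IsNoetherianRing C] [Algebra A B] [Algebra B C] [Algebra A C] [IsScalarTower A B C]
    [Module.Flat A B] [Module.Flat B C]
    (hAB : ∀ (p : Ideal A) [p.IsPrime], Algebra.IsGeometricallyReduced p.ResidueField (p.Fiber B))
    (hBC : ∀ (q : Ideal B) [q.IsPrime], Algebra.IsGeometricallyReduced q.ResidueField (q.Fiber C)) :
    Module.Flat A C ∧ ∀ (p : Ideal A) [p.IsPrime], Algebra.IsGeometricallyReduced p.ResidueField (p.Fiber C) := by
  refine ⟨Module.Flat.trans A B C, fun p _ => ?_⟩
  rw [Algebra.isGeometricallyReduced_field_iff]
  refine Groth.Agent.Lib.Helper56.isReduced_of_forall_finite (fun E hE => ?_)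
  have : IsScalarTower A p.ResidueField E := inferInstance
  have : Algebra.EssFiniteType A E := Algebra.EssFiniteType.comp A p.ResidueField E
  have : IsNoetherianRing (B ⊗[A] E) := Algebra.EssFiniteType.isNoetherianRing B _
  have : IsReduced (B ⊗[A] E) := by
    have := hAB p
    have : IsReduced (E ⊗[p.ResidueField] p.Fiber B) := inferInstance
    let e1 := Algebra.TensorProduct.cancelBaseChange A p.ResidueField E E B
    let e2 := Algebra.TensorProduct.comm A B E
    let e := e2.toRingEquiv.trans e1.symm.toRingEquiv
    exact isReduced_of_injective e.toRingHom e.injective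
  have := isReduced_baseChange B C (B ⊗[A] E) hBC
  let f1 := Algebra.TensorProduct.cancelBaseChange A p.ResidueField E E C
  let f2 := Algebra.TensorProduct.comm A E C
  let f3 := (Algebra.TensorProduct.cancelBaseChange A B C C E).symm
  let f4 := Algebra.TensorProduct.comm B C (B ⊗[A] E)
  let f := ((f1.toRingEquiv.trans f2.toRingEquiv).trans f3.toRingEquiv).trans f4.toRingEquiv
  exact isReduced_of_injective f.toRingHom f.injective


end Groth.Agent.S4752
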