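import Groth.Statements.S4753
import Groth.Agent.Lib.Helper55.FlatDescent
import Mathlib

set_option autoImplicit false
universe u
open EGA4

namespace Groth.Agent.S4753

open TensorProduct in
/-- A faithfully flat ring map is universally injective, also over a smaller base ring. -/
theorem lTensor_injective_of_faithfullyFlat (A B C : Type*) [CommRing A] [CommRing B] [CommRing C]
    [Algebra A B] [Algebra B C] [Algebra A C] [IsScalarTower A B C]
    [Module.FaithfullyFlat B C] (N : Type*) [AddCommGroup N] [Module A N] :
    Function.Injective (LinearMap.lTensor N (IsScalarTower.toAlgHom A B C).toLinearMap) := by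
  have hmk : Function.Injective (TensorProduct.mk B C (B ⊗[A] N) 1) :=
    Module.FaithfullyFlat.tensorProduct_mk_injective (A := B) (B := C) (B ⊗[A] N)
  let e := TensorProduct.AlgebraTensorModule.cancelBaseChange A B B C N
  have key : ∀ x : B ⊗[A] N, e (TensorProduct.mk B C (B ⊗[A] N) 1 x) =
      LinearMap.rTensor N (IsScalarTower.toAlgHom A B C).toLinearMap x := by
    intro x
    induction x using TensorProduct.induction_on with
    | zero => simp
    | add x y hx hy => simp only [map_add, hx, hy]
    | tmul b n => simp [e, Algebra.smul_def]
  have hr : Function.Injective
      (LinearMap.rTensor N (IsScalarTower.toAlgHom A B C).toLinearMap) := by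
    intro x y hxy
    apply hmk
    apply e.injective
    rw [key, key, hxy]
  have hcomm : ∀ x : N ⊗[A] B,
      LinearMap.lTensor N (IsScalarTower.toAlgHom A B C).toLinearMap x =
        TensorProduct.comm A C N
          (LinearMap.rTensor N (IsScalarTower.toAlgHom A B C).toLinearMap
            (TensorProduct.comm A N B x)) := by
    intro x
    induction x using TensorProduct.induction_on with
    | zero => simp
    | add x y hx hy => simp only [map_add, hx, hy]
    | tmul n b => simp
  intro x y hxy
  rw [hcomm, hcomm] at hxy
  exact (TensorProduct.comm A N B).injective (hr ((TensorProduct.comm A C N).injective hxy))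

/-- Case of reduced morphisms, affine form: let A → B → C be homomorphisms of Noetherian rings such that
B → C is faithfully flat with geometrically reduced fibres and the composite A → C is flat with
geometrically reduced fibres. Then A → B is flat with geometrically reduced fibres. -/
theorem result (A B C : Type u) [CommRing A] [CommRing B] [CommRing C]
    [IsNoetherianRing A] [IsNoetherianRing B] [IsNoetherianRing C] [Algebra A B] [Algebra B C] [Algebra A C]
    [IsScalarTower A B C] [Module.FaithfullyFlat B C] [Module.Flat A C]
    (hBC : ∀ (q : Ideal B) [q.IsPrime], Algebra.IsGeometricallyReduced q.ResidueField (q.Fiber C))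
    (hAC : ∀ (p : Ideal A) [p.IsPrime], Algebra.IsGeometricallyReduced p.ResidueField (p.Fiber C)) :
    Module.Flat A B ∧ ∀ (p : Ideal A) [p.IsPrime], Algebra.IsGeometricallyReduced p.ResidueField (p.Fiber B) := by
  refine ⟨Groth.Agent.Lib.Helper55.flat_of_flat_of_faithfullyFlat A B C, ?_⟩
  intro p _
  have := hAC p
  let f : p.Fiber B →ₐ[p.ResidueField] p.Fiber C :=
    Algebra.TensorProduct.map (AlgHom.id _ _) (IsScalarTower.toAlgHom A B C)
  have hf : Function.Injective f := by
    have h := lTensor_injective_of_faithfullyFlat A B C p.ResidueField
    have hfe : ∀ x, f x = LinearMap.lTensor p.ResidueField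
        (IsScalarTower.toAlgHom A B C).toLinearMap x := by
      intro x
      induction x using TensorProduct.induction_on with
      | zero => simp
      | add x y hx hy => simp only [map_add, hx, hy]
      | tmul n b => simp [f]
    intro x y hxy
    rw [hfe, hfe] at hxy
    exact h hxy
  exact Algebra.IsGeometricallyReduced.of_injective f hf


end Groth.Agent.S4753
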