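import Groth.Statements.S4757
import Groth.Agent.Lib.Helper94.GeomRedFib
import Mathlib

set_option autoImplicit false
universe u
open EGA4

namespace Groth.Agent.S4757

open TensorProduct Groth.Agent.Lib.Helper94 in

/-- Let A → B be a flat homomorphism of Noetherian rings with geometrically reduced fibres and S a
multiplicative subset of A. Then the induced homomorphism S⁻¹A → S⁻¹B (arbitrary localizations at S
and at its image) is flat with geometrically reduced fibres. -/
theorem result (A B : Type u) [CommRing A] [CommRing B] [IsNoetherianRing A]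
    [IsNoetherianRing B] [Algebra A B] [Module.Flat A B]
    (h : ∀ (p : Ideal A) [p.IsPrime], Algebra.IsGeometricallyReduced p.ResidueField (p.Fiber B)) (S : Submonoid A)
    (A' B' : Type u) [CommRing A'] [CommRing B'] [Algebra A A'] [Algebra B B'] [Algebra A' B'] [Algebra A B']
    [IsScalarTower A A' B'] [IsScalarTower A B B'] [IsLocalization S A']
    [IsLocalization (Algebra.algebraMapSubmonoid B S) B'] :
    Module.Flat A' B' ∧ ∀ (p' : Ideal A') [p'.IsPrime], Algebra.IsGeometricallyReduced p'.ResidueField (p'.Fiber B') := by
  have hpo : Algebra.IsPushout A B A' B' := Algebra.isPushout_of_isLocalization S A' B B'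
  have hpo' : Algebra.IsPushout A A' B B' := hpo.symm
  refine ⟨?_, fun p' _ => ?_⟩
  · exact Module.Flat.of_linearEquiv (hpo'.equiv).symm.toLinearEquiv
  · rw [Algebra.isGeometricallyReduced_field_iff]
    have hred : IsReduced (AlgebraicClosure p'.ResidueField ⊗[A] B) :=
      isReduced_field_tensor A B (AlgebraicClosure p'.ResidueField) h
    let e1 := Algebra.TensorProduct.cancelBaseChange A' p'.ResidueField
      (AlgebraicClosure p'.ResidueField) (AlgebraicClosure p'.ResidueField) B'
    let e2 : AlgebraicClosure p'.ResidueField ⊗[A'] B' ≃ₐ[A']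
        AlgebraicClosure p'.ResidueField ⊗[A'] (A' ⊗[A] B) :=
      Algebra.TensorProduct.congr AlgEquiv.refl hpo'.equiv.symm
    let e3 := Algebra.TensorProduct.cancelBaseChange A A'
      (AlgebraicClosure p'.ResidueField) (AlgebraicClosure p'.ResidueField) B
    let e := (e1.toRingEquiv.trans e2.toRingEquiv).trans e3.toRingEquiv
    exact isReduced_of_injective e.toRingHom e.injective


end Groth.Agent.S4757
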