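import Groth.Statements.S4760
import Groth.Agent.Lib.Helper73.LimConstructible

set_option autoImplicit false
universe u
open CategoryTheory AlgebraicGeometry
open Lim8

namespace Groth.Agent.S4760

/-- Let S = lim S_i be a cofiltered limit of schemes with affine transition maps, some stage S_{i₀}
being quasi-compact and quasi-separated. Then every subset Z of S that is both locally closed and
constructible is the preimage under the projection S ⟶ S_i of a locally closed constructible subset
of S_i, for some index i over i₀. -/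
theorem result {I : Type u} [SmallCategory I] [IsCofiltered I]
    (D : I ⥤ Scheme.{u}) (c : Limits.Cone D) (hc : Limits.IsLimit c)
    [∀ (i j : I) (f : i ⟶ j), IsAffineHom (D.map f)] (i₀ : I)
    [CompactSpace (D.obj i₀)] [QuasiSeparatedSpace (D.obj i₀)] (Z : Set c.pt)
    (hZ : Topology.IsConstructible Z) (hZ' : IsLocallyClosed Z) :
    ∃ (i : I) (_ : i ⟶ i₀) (Zi : Set (D.obj i)),
      Topology.IsConstructible Zi ∧ IsLocallyClosed Zi ∧ (⇑(c.π.app i) ⁻¹' Zi : Set c.pt) = Z := by
  have hcpt := Groth.Agent.Lib.Helper73.compactSpace_pt D c hc i₀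
  obtain ⟨U, W, hU, hW, rfl⟩ := Groth.Agent.Lib.Helper73.exists_compact_opens_sdiff hZ hZ'
  obtain ⟨i, a, U', W', hU', hW', eU, eW⟩ :=
    Groth.Agent.Lib.Helper73.exists_compact_opens_preimage_eq₂ D c hc i₀ U W hU hW
  have := Groth.Agent.Lib.Helper73.compactSpace_of_hom D a
  have := Groth.Agent.Lib.Helper73.quasiSeparatedSpace_of_hom D a
  refine ⟨i, a, (U' : Set _) \ W',
    (hU'.isConstructible U'.2).sdiff (hW'.isConstructible W'.2), ?_, ?_⟩
  · rw [Set.sdiff_eq]
    exact U'.2.isLocallyClosed.inter W'.2.isClosed_compl.isLocallyClosed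
  · have e1 : (⇑(c.π.app i) ⁻¹' (U' : Set _)) = (U : Set c.pt) :=
      congrArg (fun (U : c.pt.Opens) => (U : Set c.pt)) eU
    have e2 : (⇑(c.π.app i) ⁻¹' (W' : Set _)) = (W : Set c.pt) :=
      congrArg (fun (U : c.pt.Opens) => (U : Set c.pt)) eW
    rw [Set.preimage_sdiff, e1, e2]

end Groth.Agent.S4760
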