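import Groth.Statements.S4761
import Groth.Agent.Lib.Helper73.LimConstructible

set_option autoImplicit false
universe u
open CategoryTheory AlgebraicGeometry
open Lim8

namespace Groth.Agent.S4761

/-- Let S = lim S_i be a cofiltered limit of schemes with affine transition maps, let S_{i₁} be a
quasi-compact stage and Z₁ a constructible subset of S_{i₁}. Then the preimage of Z₁ in S is open if
and only if, for some index j over i₁, the preimage of Z₁ in S_j is open. -/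
theorem result {I : Type u} [SmallCategory I] [IsCofiltered I]
    (D : I ⥤ Scheme.{u}) (c : Limits.Cone D) (hc : Limits.IsLimit c)
    [∀ (i j : I) (f : i ⟶ j), IsAffineHom (D.map f)] (i₁ : I)
    [CompactSpace (D.obj i₁)] (Z₁ : Set (D.obj i₁)) (hZ : Topology.IsConstructible Z₁) :
    IsOpen (⇑(c.π.app i₁) ⁻¹' Z₁ : Set c.pt) ↔ ∃ (j : I) (φ : j ⟶ i₁), IsOpen (⇑(D.map φ) ⁻¹' Z₁) := by
  have hcomp : ∀ {i j : I} (f : i ⟶ j) (s : c.pt), D.map f (c.π.app i s) = c.π.app j s := by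
    intro i j f s
    rw [← Scheme.Hom.comp_apply, c.w]
  constructor
  · intro hopen
    have hcpt := Groth.Agent.Lib.Helper73.compactSpace_pt D c hc i₁
    have hZc : IsCompact (⇑(c.π.app i₁) ⁻¹' Z₁ : Set c.pt) :=
      Groth.Agent.Lib.Helper73.isCompact_of_isConstructible
        ((c.π.app i₁).isConstructible_preimage hZ)
    obtain ⟨j, φ, U', hU', eU⟩ :=
      Groth.Agent.Lib.Helper73.exists_compact_opens_preimage_eq D c hc i₁ ⟨_, hopen⟩ hZc
    have eU' : ∀ s : c.pt, c.π.app j s ∈ U' ↔ c.π.app i₁ s ∈ Z₁ := fun s => by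
      have := congrArg (fun (U : c.pt.Opens) => s ∈ U) eU
      exact iff_of_eq this
    have := Groth.Agent.Lib.Helper73.compactSpace_of_hom D φ
    obtain ⟨j₁, ψ₁, H₁⟩ := Groth.Agent.Lib.Helper73.exists_forall_mem_of_isConstructible D c hc i₁
      hZ.compl j φ U' ⊥ hU' (fun s hs hT => absurd ((eU' s).mp hs) hT)
    obtain ⟨j₂, ψ₂, H₂⟩ := Groth.Agent.Lib.Helper73.exists_forall_mem_of_isConstructible D c hc i₁
      hZ j φ ⊤ U' isCompact_univ (fun s _ hT => (eU' s).mpr hT)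
    obtain ⟨j', χ₁, χ₂, e⟩ := IsCofiltered.cospan ψ₁ ψ₂
    refine ⟨j', (χ₁ ≫ ψ₁) ≫ φ, ?_⟩
    have key : ⇑(D.map ((χ₁ ≫ ψ₁) ≫ φ)) ⁻¹' Z₁ = ⇑(D.map (χ₁ ≫ ψ₁)) ⁻¹' (U' : Set _) := by
      ext x
      have e1 : D.map ((χ₁ ≫ ψ₁) ≫ φ) x = D.map φ (D.map (χ₁ ≫ ψ₁) x) := by
        rw [Functor.map_comp, Scheme.Hom.comp_apply]
      have e2 : D.map (χ₁ ≫ ψ₁) x = D.map ψ₁ (D.map χ₁ x) := by
        rw [Functor.map_comp, Scheme.Hom.comp_apply]
      have e3 : D.map (χ₁ ≫ ψ₁) x = D.map ψ₂ (D.map χ₂ x) := by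
        rw [e, Functor.map_comp, Scheme.Hom.comp_apply]
      simp only [Set.mem_preimage]
      rw [e1]
      constructor
      · intro h
        change D.map (χ₁ ≫ ψ₁) x ∈ U'
        rw [e3] at h ⊢
        exact H₂ _ trivial h
      · intro h
        by_contra hn
        change D.map (χ₁ ≫ ψ₁) x ∈ U' at h
        rw [e2] at h hn
        exact H₁ (D.map χ₁ x) h hn
    rw [key]
    exact U'.2.preimage (D.map _).continuous
  · rintro ⟨j, φ, h⟩
    have : (⇑(c.π.app i₁) ⁻¹' Z₁ : Set c.pt) = ⇑(c.π.app j) ⁻¹' (⇑(D.map φ) ⁻¹' Z₁) := by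
      ext s; simp only [Set.mem_preimage, hcomp]
    rw [this]; exact h.preimage (c.π.app j).continuous

end Groth.Agent.S4761
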