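import Groth.Statements.S4762
import Groth.Agent.Lib.Helper73.LimConstructible

set_option autoImplicit false
universe u
open CategoryTheory AlgebraicGeometry
open Lim8

namespace Groth.Agent.S4762

lemma exists_forall_mem_stable {I : Type u} [SmallCategory I] [IsCofiltered I]
    (D : I ⥤ Scheme.{u}) (c : Limits.Cone D) (hc : Limits.IsLimit c)
    [∀ (i j : I) (f : i ⟶ j), IsAffineHom (D.map f)] (i₁ : I) {T : Set (D.obj i₁)}
    (hT : Topology.IsConstructible T) (j : I) (φ : j ⟶ i₁) (K W : (D.obj j).Opens)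
    (hK : IsCompact (K : Set (D.obj j)))
    (H : ∀ s : c.pt, c.π.app j s ∈ K → c.π.app i₁ s ∈ T → c.π.app j s ∈ W) :
    ∃ (j' : I) (ψ : j' ⟶ j), ∀ (k : I) (θ : k ⟶ j') (x : D.obj k),
      D.map (θ ≫ ψ) x ∈ K → D.map ((θ ≫ ψ) ≫ φ) x ∈ T → D.map (θ ≫ ψ) x ∈ W := by
  obtain ⟨j', ψ, H'⟩ := Groth.Agent.Lib.Helper73.exists_forall_mem_of_isConstructible D c hc i₁
    hT j φ K W hK H
  refine ⟨j', ψ, fun k θ x h1 h2 => ?_⟩
  have e1 : D.map (θ ≫ ψ) x = D.map ψ (D.map θ x) := by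
    rw [Functor.map_comp, Scheme.Hom.comp_apply]
  have e2 : D.map ((θ ≫ ψ) ≫ φ) x = D.map φ (D.map ψ (D.map θ x)) := by
    rw [Functor.map_comp, Scheme.Hom.comp_apply, e1]
  rw [e1] at h1 ⊢
  rw [e2] at h2
  exact H' _ h1 h2

/-- Let S = lim S_i be a cofiltered limit of schemes with affine transition maps, let S_{i₁} be a
quasi-compact stage and Z₁ a constructible subset of S_{i₁}. Then the preimage of Z₁ in S is locally
closed if and only if, for some index j over i₁, the preimage of Z₁ in S_j is locally closed. -/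
theorem result {I : Type u} [SmallCategory I] [IsCofiltered I]
    (D : I ⥤ Scheme.{u}) (c : Limits.Cone D) (hc : Limits.IsLimit c)
    [∀ (i j : I) (f : i ⟶ j), IsAffineHom (D.map f)] (i₁ : I)
    [CompactSpace (D.obj i₁)] (Z₁ : Set (D.obj i₁)) (hZ : Topology.IsConstructible Z₁) :
    IsLocallyClosed (⇑(c.π.app i₁) ⁻¹' Z₁ : Set c.pt) ↔
      ∃ (j : I) (φ : j ⟶ i₁), IsLocallyClosed (⇑(D.map φ) ⁻¹' Z₁) := by
  have hcomp : ∀ {i j : I} (f : i ⟶ j) (s : c.pt), D.map f (c.π.app i s) = c.π.app j s := by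
    intro i j f s
    rw [← Scheme.Hom.comp_apply, c.w]
  constructor
  · intro hlc
    have hcpt := Groth.Agent.Lib.Helper73.compactSpace_pt D c hc i₁
    have hZS : Topology.IsConstructible (⇑(c.π.app i₁) ⁻¹' Z₁ : Set c.pt) :=
      (c.π.app i₁).isConstructible_preimage hZ
    obtain ⟨U, W, hU, hW, eZ⟩ := Groth.Agent.Lib.Helper73.exists_compact_opens_sdiff hZS hlc
    obtain ⟨j, φ, U', W', hU', hW', eU, eW⟩ :=
      Groth.Agent.Lib.Helper73.exists_compact_opens_preimage_eq₂ D c hc i₁ U W hU hW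
    have eU' : ∀ s : c.pt, c.π.app j s ∈ U' ↔ s ∈ U := fun s =>
      iff_of_eq (congrArg (fun (V : c.pt.Opens) => s ∈ V) eU)
    have eW' : ∀ s : c.pt, c.π.app j s ∈ W' ↔ s ∈ W := fun s =>
      iff_of_eq (congrArg (fun (V : c.pt.Opens) => s ∈ V) eW)
    have eZ' : ∀ s : c.pt, c.π.app i₁ s ∈ Z₁ ↔ (s ∈ U ∧ s ∉ W) := fun s =>
      iff_of_eq (congrArg (fun (V : Set c.pt) => s ∈ V) eZ)
    have := Groth.Agent.Lib.Helper73.compactSpace_of_hom D φ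
    obtain ⟨j₁, ψ₁, H₁⟩ := exists_forall_mem_stable D c hc i₁ hZ.compl j φ U' W' hU'
      (fun s hs hT => by
        rw [eW']; rw [eU'] at hs
        by_contra hn
        exact hT ((eZ' s).mpr ⟨hs, hn⟩))
    obtain ⟨j₂, ψ₂, H₂⟩ := exists_forall_mem_stable D c hc i₁ hZ j φ ⊤ U' isCompact_univ
      (fun s _ hT => (eU' s).mpr ((eZ' s).mp hT).1)
    obtain ⟨j₃, ψ₃, H₃⟩ := exists_forall_mem_stable D c hc i₁ hZ j φ W' ⊥ hW'
      (fun s hs hT => absurd ((eW' s).mp hs) ((eZ' s).mp hT).2)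
    obtain ⟨j₁₂, χ₁, χ₂, e⟩ := IsCofiltered.cospan ψ₁ ψ₂
    obtain ⟨j', ω, χ₃, e'⟩ := IsCofiltered.cospan (χ₁ ≫ ψ₁) ψ₃
    have E₁ : ω ≫ χ₁ ≫ ψ₁ = (ω ≫ χ₁) ≫ ψ₁ := by simp
    have E₂ : ω ≫ χ₁ ≫ ψ₁ = (ω ≫ χ₂) ≫ ψ₂ := by rw [e]; simp
    have E₃ : ω ≫ χ₁ ≫ ψ₁ = χ₃ ≫ ψ₃ := e'
    refine ⟨j', (ω ≫ χ₁ ≫ ψ₁) ≫ φ, ?_⟩
    have key : ⇑(D.map ((ω ≫ χ₁ ≫ ψ₁) ≫ φ)) ⁻¹' Z₁ =
        ⇑(D.map (ω ≫ χ₁ ≫ ψ₁)) ⁻¹' (U' : Set _) ∩ (⇑(D.map (ω ≫ χ₁ ≫ ψ₁)) ⁻¹' (W' : Set _))ᶜ := by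
      ext x
      have h₁ := H₁ j' (ω ≫ χ₁) x
      have h₂ := H₂ j' (ω ≫ χ₂) x
      have h₃ := H₃ j' χ₃ x
      rw [← E₁] at h₁
      rw [← E₂] at h₂
      rw [← E₃] at h₃
      simp only [Set.mem_preimage, Set.mem_inter_iff, Set.mem_compl_iff]
      constructor
      · intro h
        exact ⟨h₂ trivial h, fun hw => h₃ hw h⟩
      · rintro ⟨hu, hw⟩
        by_contra hn
        exact hw (h₁ hu hn)
    rw [key]
    exact ((U'.2.preimage (D.map _).continuous).isLocallyClosed).inter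
      ((W'.2.preimage (D.map _).continuous).isClosed_compl.isLocallyClosed)
  · rintro ⟨j, φ, h⟩
    have : (⇑(c.π.app i₁) ⁻¹' Z₁ : Set c.pt) = ⇑(c.π.app j) ⁻¹' (⇑(D.map φ) ⁻¹' Z₁) := by
      ext s; simp only [Set.mem_preimage, hcomp]
    rw [this]; exact h.preimage (c.π.app j).continuous

end Groth.Agent.S4762
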