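import Groth.Statements.S4763
-- import your own Groth.Agent.* helpers here

set_option autoImplicit false
universe u
open CategoryTheory AlgebraicGeometry
open Lim8

namespace Groth.Agent.S4763

/-- Let S = lim S_i be a cofiltered limit of schemes with affine transition maps and let i be an index.
The canonical projection S ⟶ S_i is dominant if and only if every transition map S_j ⟶ S_i is
dominant. -/
theorem result {I : Type u} [SmallCategory I] [IsCofiltered I]
    (D : I ⥤ Scheme.{u}) (c : Limits.Cone D) (hc : Limits.IsLimit c)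
    [∀ (i j : I) (f : i ⟶ j), IsAffineHom (D.map f)] (i : I) :
    IsDominant (c.π.app i) ↔ ∀ (j : I) (φ : j ⟶ i), IsDominant (D.map φ) := by
  constructor
  · intro h j φ
    have : IsDominant (c.π.app j ≫ D.map φ) := by rwa [c.w φ]
    exact IsDominant.of_comp (c.π.app j) (D.map φ)
  · intro h
    rw [isDominant_iff, DenseRange, dense_iff_inter_open]
    intro U hU hne
    obtain ⟨x, hx⟩ := hne
    obtain ⟨_, ⟨V, hV : IsAffineOpen V, rfl⟩, hxV, hVU⟩ :=
      (D.obj i).isBasis_affineOpens.exists_subset_of_mem_open hx hU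
    by_contra hcon
    have H : c.π.app i ⁻¹ᵁ V ≤ c.π.app i ⁻¹ᵁ ⊥ := by
      intro s hs
      exact (hcon ⟨_, hVU hs, s, rfl⟩).elim
    obtain ⟨j, fji, hj⟩ := exists_map_preimage_le_map_preimage D c hc hV.isCompact H
    have := (h j fji).denseRange
    obtain ⟨y, hy⟩ := this.exists_mem_open V.2 ⟨x, hxV⟩
    exact hj hy

end Groth.Agent.S4763
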