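import Groth.Statements.S4765
-- import your own Groth.Agent.* helpers here

set_option autoImplicit false
universe u
open CategoryTheory AlgebraicGeometry
open Lim8

namespace Groth.Agent.S4765

/-- Let S = lim S_i be a cofiltered limit of schemes with affine transition maps and let i be an index
such that the projection S ⟶ S_j is surjective for every j over i. Then the projection S ⟶ S_i is an
open map if and only if every transition map S_j ⟶ S_i is an open map. This is the case of open
morphisms. -/
theorem result {I : Type u} [SmallCategory I] [IsCofiltered I]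
    (D : I ⥤ Scheme.{u}) (c : Limits.Cone D) (hc : Limits.IsLimit c)
    [∀ (i j : I) (f : i ⟶ j), IsAffineHom (D.map f)] (i : I)
    (hs : ∀ (j : I) (φ : j ⟶ i), Surjective (c.π.app j)) :
    IsOpenMap ⇑(c.π.app i) ↔ ∀ (j : I) (φ : j ⟶ i), IsOpenMap ⇑(D.map φ) := by
  have key : ∀ (j : I) (φ : j ⟶ i) (V : Set (D.obj j)),
      (D.map φ) '' V = (c.π.app i) '' ((c.π.app j) ⁻¹' V) := by
    intro j φ V
    have hsj := (hs j φ).surj
    ext y; constructor
    · rintro ⟨v, hv, rfl⟩
      obtain ⟨s, rfl⟩ := hsj v
      exact ⟨s, hv, by rw [← c.w φ]; rfl⟩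
    · rintro ⟨s, hs, rfl⟩
      exact ⟨c.π.app j s, hs, by rw [← c.w φ]; rfl⟩
  constructor
  · intro h j φ V hV
    rw [key j φ V]
    exact h _ (hV.preimage (c.π.app j).continuous)
  · intro h
    have hB := isBasis_preimage_isAffineOpen D c hc
    rw [TopologicalSpace.Opens.IsBasis] at hB
    rw [hB.isOpenMap_iff]
    rintro _ ⟨_, ⟨j, V, hV, rfl⟩, rfl⟩
    let k := IsCofiltered.min i j
    let fki : k ⟶ i := IsCofiltered.minToLeft i j
    let fkj : k ⟶ j := IsCofiltered.minToRight i j
    have e : ((c.π.app j ⁻¹ᵁ V : c.pt.Opens) : Set c.pt) =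
        (c.π.app k) ⁻¹' ((D.map fkj) ⁻¹' (V : Set (D.obj j))) := by
      rw [← c.w fkj]
      rfl
    rw [e, ← key k fki]
    exact h k fki _ (V.2.preimage (D.map fkj).continuous)

end Groth.Agent.S4765
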