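import Groth.Statements.S4766
import Groth.Agent.Lib.Helper73.LimBaseChange
import Groth.Agent.S4765

set_option autoImplicit false
universe u
open CategoryTheory AlgebraicGeometry
open Lim8

namespace Groth.Agent.S4766

lemma universallyOpen_of_comp_surjective {X Y Z : Scheme.{u}} (f : X ⟶ Y) (g : Y ⟶ Z)
    [UniversallyOpen (f ≫ g)] [Surjective f] : UniversallyOpen g := by
  constructor
  intro X' Y' i₁ i₂ f' H
  have := UniversallyOpen.universally_isOpenMap _ _ _
    ((IsPullback.of_hasPullback i₁ f).paste_horiz H)
  exact IsOpenMap.of_comp (Scheme.Hom.continuous _)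
    (MorphismProperty.pullback_fst (P := @Surjective) _ _ ‹_›).1 this

open Groth.Agent.Lib.Helper73 in
lemma isOpenMap_snd_of_forall {I : Type u} [SmallCategory I] [IsCofiltered I]
    (D : I ⥤ Scheme.{u}) (c : Limits.Cone D) (hc : Limits.IsLimit c)
    [∀ (i j : I) (f : i ⟶ j), IsAffineHom (D.map f)] (i : I)
    (hs : ∀ (j : I) (φ : j ⟶ i), Surjective (c.π.app j))
    (h : ∀ (j : I) (φ : j ⟶ i), UniversallyOpen (D.map φ))
    {T : Scheme.{u}} (g : T ⟶ D.obj i) :
    IsOpenMap (Limits.pullback.snd (c.π.app i) g) := by
  have key := (Groth.Agent.S4765.result (bcDiagram D i g) (bcCone D c i g)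
    (isLimitBcCone D c i g hc) (Over.mk (𝟙 i)) ?_).mpr ?_
  · have hiso : IsIso (Limits.pullback.snd (D.map (𝟙 i)) g) := by
      have : IsIso (D.map (𝟙 i)) := by rw [D.map_id]; infer_instance
      infer_instance
    have e : Limits.pullback.snd (c.π.app i) g =
        (bcCone D c i g).π.app (Over.mk (𝟙 i)) ≫ Limits.pullback.snd (D.map (𝟙 i)) g :=
      (bcCone_π_app_snd D c i g (Over.mk (𝟙 i))).symm
    rw [e]
    exact (Scheme.Hom.homeomorph (Limits.pullback.snd (D.map (𝟙 i)) g)).isOpenMap.comp key
  · intro j φ
    have := hs j.left j.hom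
    exact MorphismProperty.of_isPullback (P := @Surjective)
      (isPullback_bcCone D c i g j).flip this
  · intro j φ
    have hiso : IsIso (Limits.pullback.snd (D.map (𝟙 i)) g) := by
      have : IsIso (D.map (𝟙 i)) := by rw [D.map_id]; infer_instance
      infer_instance
    have := h j.left j.hom
    have hopen : IsOpenMap (Limits.pullback.snd (D.map j.hom) g) :=
      (Limits.pullback.snd (D.map j.hom) g).isOpenMap
    have e : (bcDiagram D i g).map φ ≫ Limits.pullback.snd (D.map (𝟙 i)) g =
        Limits.pullback.snd (D.map j.hom) g := bcDiagram_map_snd D i g φ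
    have e' : (bcDiagram D i g).map φ =
        Limits.pullback.snd (D.map j.hom) g ≫ inv (Limits.pullback.snd (D.map (𝟙 i)) g) := by
      rw [← e]; simp
    rw [e']
    exact (Scheme.Hom.homeomorph (inv (Limits.pullback.snd (D.map (𝟙 i)) g))).isOpenMap.comp hopen

/-- Let S = lim S_i be a cofiltered limit of schemes with affine transition maps and let i be an index
such that the projection S ⟶ S_j is surjective for every j over i. Then the projection S ⟶ S_i is
universally open if and only if every transition map S_j ⟶ S_i is universally open. This is the case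
of universally open morphisms. -/
theorem result {I : Type u} [SmallCategory I] [IsCofiltered I]
    (D : I ⥤ Scheme.{u}) (c : Limits.Cone D) (hc : Limits.IsLimit c)
    [∀ (i j : I) (f : i ⟶ j), IsAffineHom (D.map f)] (i : I)
    (hs : ∀ (j : I) (φ : j ⟶ i), Surjective (c.π.app j)) :
    UniversallyOpen (c.π.app i) ↔ ∀ (j : I) (φ : j ⟶ i), UniversallyOpen (D.map φ) := by
  constructor
  · intro h j φ
    have := hs j φ
    have : UniversallyOpen (c.π.app j ≫ D.map φ) := by rwa [c.w φ]
    exact universallyOpen_of_comp_surjective (c.π.app j) (D.map φ)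
  · intro h
    constructor
    intro X' Y' i₁ i₂ f' H
    have e : f' = H.flip.isoPullback.hom ≫ Limits.pullback.snd (c.π.app i) i₂ :=
      (H.flip.isoPullback_hom_snd).symm
    rw [e]
    exact (isOpenMap_snd_of_forall D c hc i hs h i₂).comp
      (Scheme.Hom.homeomorph H.flip.isoPullback.hom).isOpenMap

end Groth.Agent.S4766
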