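import Groth.Statements.S4767
import Groth.Agent.Lib.Helper50.Lim

set_option autoImplicit false
universe u
open CategoryTheory AlgebraicGeometry
open Lim8

namespace Groth.Agent.S4767

/-- Let S = lim S_i be a cofiltered limit of schemes with affine transition maps, some stage S_{i₀}
being quasi-compact and quasi-separated, and assume that the underlying topological space of S is
Noetherian. If S is not irreducible, then there is an index i over i₀ such that S_j is not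
irreducible for every index j over i. -/
theorem result {I : Type u} [SmallCategory I] [IsCofiltered I]
    (D : I ⥤ Scheme.{u}) (c : Limits.Cone D) (hc : Limits.IsLimit c)
    [∀ (i j : I) (f : i ⟶ j), IsAffineHom (D.map f)] (i₀ : I)
    [CompactSpace (D.obj i₀)] [QuasiSeparatedSpace (D.obj i₀)]
    [TopologicalSpace.NoetherianSpace c.pt] (h : ¬ IrreducibleSpace c.pt) :
    ∃ (i : I) (_ : i ⟶ i₀), ∀ (j : I) (_ : j ⟶ i), ¬ IrreducibleSpace (D.obj j) := by
  classical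
  by_cases hne : Nonempty c.pt
  · have hpre : ¬ PreirreducibleSpace c.pt := fun hp ↦ h { toPreirreducibleSpace := hp, toNonempty := hne }
    have : ∃ (u v : Set c.pt), IsOpen u ∧ IsOpen v ∧ u.Nonempty ∧ v.Nonempty ∧ u ∩ v = ∅ := by
      by_contra hcon
      push Not at hcon
      exact hpre (PreirreducibleSpace.of_forall_nonempty_inter
        fun u v hu hv hune hvne ↦ hcon u v hu hv hune hvne)
    obtain ⟨u, v, hu, hv, ⟨x, hx⟩, ⟨y, hy⟩, huv⟩ := this
    let U : c.pt.Opens := ⟨u, hu⟩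
    let V : c.pt.Opens := ⟨v, hv⟩
    have hUc : IsCompact (U : Set c.pt) := TopologicalSpace.NoetherianSpace.isCompact _
    have hVc : IsCompact (V : Set c.pt) := TopologicalSpace.NoetherianSpace.isCompact _
    obtain ⟨i, fi, U', V', hU'c, hV'c, hU', hV'⟩ :=
      Lib.Helper50.exists_preimage_eq_over₂ D c hc i₀ U V hUc hVc
    have : CompactSpace (D.obj i) := Lib.Helper50.compactSpace_of_hom D fi
    have : QuasiSeparatedSpace (D.obj i) := Lib.Helper50.quasiSeparatedSpace_of_hom D fi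
    have hinter : IsCompact ((U' ⊓ V' : (D.obj i).Opens) : Set (D.obj i)) :=
      hU'c.inter_of_isOpen hV'c U'.2 V'.2
    have H1 : c.π.app i ⁻¹ᵁ (U' ⊓ V') ≤ c.π.app i ⁻¹ᵁ ⊥ := by
      rw [Scheme.Hom.preimage_inf, hU', hV']
      intro z hz
      have : z ∈ u ∩ v := hz
      rw [huv] at this
      exact this.elim
    obtain ⟨j, g, hj⟩ := Lib.Helper50.exists_forall_map_preimage_le D c hc hinter H1
    refine ⟨j, g ≫ fi, fun k fk hk ↦ ?_⟩
    have h1 := hj k fk
    generalize fk ≫ g = φ at h1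
    have hUk : c.π.app k ⁻¹ᵁ (D.map φ ⁻¹ᵁ U') = U := by
      rw [← Scheme.Hom.comp_preimage, c.w, hU']
    have hVk : c.π.app k ⁻¹ᵁ (D.map φ ⁻¹ᵁ V') = V := by
      rw [← Scheme.Hom.comp_preimage, c.w, hV']
    have hxU : x ∈ c.π.app k ⁻¹ᵁ (D.map φ ⁻¹ᵁ U') := by rw [hUk]; exact hx
    have hyV : y ∈ c.π.app k ⁻¹ᵁ (D.map φ ⁻¹ᵁ V') := by rw [hVk]; exact hy
    obtain ⟨z, hz1, hz2⟩ := nonempty_preirreducible_inter (D.map φ ⁻¹ᵁ U').2 (D.map φ ⁻¹ᵁ V').2
      ⟨_, hxU⟩ ⟨_, hyV⟩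
    exact h1 (show z ∈ D.map φ ⁻¹ᵁ (U' ⊓ V') by rw [Scheme.Hom.preimage_inf]; exact ⟨hz1, hz2⟩)
  · have htop : IsCompact ((⊤ : (D.obj i₀).Opens) : Set (D.obj i₀)) := isCompact_univ
    have H1 : c.π.app i₀ ⁻¹ᵁ ⊤ ≤ c.π.app i₀ ⁻¹ᵁ ⊥ := fun z _ ↦ (hne ⟨z⟩).elim
    obtain ⟨j, g, hj⟩ := Lib.Helper50.exists_forall_map_preimage_le D c hc htop H1
    refine ⟨j, g, fun k fk hk ↦ ?_⟩
    obtain ⟨z⟩ := hk.toNonempty
    exact hj k fk (show z ∈ D.map (fk ≫ g) ⁻¹ᵁ ⊤ from trivial)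

end Groth.Agent.S4767
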