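import Groth.Statements.S4768
import Groth.Agent.Lib.Helper50.Lim

set_option autoImplicit false
universe u
open CategoryTheory AlgebraicGeometry
open Lim8

namespace Groth.Agent.S4768

/-- Let S = lim S_i be a cofiltered limit of schemes with affine transition maps, some stage S_{i₀}
being quasi-compact and quasi-separated. If S is not preconnected (that is, S is the disjoint union
of two nonempty open subsets), then there is an index i over i₀ such that S_j is not preconnected
for every index j over i. (The published statement assumes the stage only quasi-compact, which is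
not enough: over the affine space in infinitely many variables with a doubled origin, the closed
subschemes cut out by the first n coordinates form a system with affine transition maps in which
every stage is connected while the limit consists of two disjoint points. The published proof
descends the two pieces of S to quasi-compact open subsets of a stage and needs their intersection
to become empty at a later stage, which uses that quasi-compact open subsets of the stage are
constructible; so the stage is taken quasi-separated here, as in part (i).) -/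
theorem result {I : Type u} [SmallCategory I] [IsCofiltered I]
    (D : I ⥤ Scheme.{u}) (c : Limits.Cone D) (hc : Limits.IsLimit c)
    [∀ (i j : I) (f : i ⟶ j), IsAffineHom (D.map f)] (i₀ : I)
    [CompactSpace (D.obj i₀)] [QuasiSeparatedSpace (D.obj i₀)] (h : ¬ PreconnectedSpace c.pt) :
    ∃ (i : I) (_ : i ⟶ i₀), ∀ (j : I) (_ : j ⟶ i), ¬ PreconnectedSpace (D.obj j) := by
  classical
  have hcpt : CompactSpace c.pt := Lib.Helper50.compactSpace_pt D c hc i₀
  rw [preconnectedSpace_iff_clopen] at h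
  push Not at h
  obtain ⟨s, hs, hs0, hs1⟩ := h
  let U : c.pt.Opens := ⟨s, hs.isOpen⟩
  let V : c.pt.Opens := ⟨sᶜ, hs.compl.isOpen⟩
  have hUc : IsCompact (U : Set c.pt) := hs.isClosed.isCompact
  have hVc : IsCompact (V : Set c.pt) := hs.compl.isClosed.isCompact
  obtain ⟨i, fi, U', V', hU'c, hV'c, hU', hV'⟩ :=
    Lib.Helper50.exists_preimage_eq_over₂ D c hc i₀ U V hUc hVc
  have : CompactSpace (D.obj i) := Lib.Helper50.compactSpace_of_hom D fi
  have : QuasiSeparatedSpace (D.obj i) := Lib.Helper50.quasiSeparatedSpace_of_hom D fi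
  have hinter : IsCompact ((U' ⊓ V' : (D.obj i).Opens) : Set (D.obj i)) :=
    hU'c.inter_of_isOpen hV'c U'.2 V'.2
  have htop : IsCompact ((⊤ : (D.obj i).Opens) : Set (D.obj i)) := isCompact_univ
  have H1 : c.π.app i ⁻¹ᵁ (U' ⊓ V') ≤ c.π.app i ⁻¹ᵁ ⊥ := by
    rw [Scheme.Hom.preimage_inf, hU', hV']
    intro x hx
    exact absurd hx.1 hx.2
  have H2 : c.π.app i ⁻¹ᵁ ⊤ ≤ c.π.app i ⁻¹ᵁ (U' ⊔ V') := by
    rw [Scheme.Hom.preimage_sup, hU', hV']
    intro x _
    by_cases hx : x ∈ s
    · exact Or.inl hx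
    · exact Or.inr hx
  obtain ⟨j₁, g₁, hj₁⟩ := Lib.Helper50.exists_forall_map_preimage_le D c hc hinter H1
  obtain ⟨j₂, g₂, hj₂⟩ := Lib.Helper50.exists_forall_map_preimage_le D c hc htop H2
  obtain ⟨j, a, b, hab⟩ := IsCofiltered.cospan g₁ g₂
  refine ⟨j, a ≫ g₁ ≫ fi, fun k fk hk ↦ ?_⟩
  have h1 := hj₁ k (fk ≫ a)
  have h2 := hj₂ k (fk ≫ b)
  have e : (fk ≫ b) ≫ g₂ = (fk ≫ a) ≫ g₁ := by simp [hab]
  rw [e] at h2
  generalize (fk ≫ a) ≫ g₁ = φ at h1 h2
  have hUk : c.π.app k ⁻¹ᵁ (D.map φ ⁻¹ᵁ U') = U := by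
    rw [← Scheme.Hom.comp_preimage, c.w, hU']
  have hVk : c.π.app k ⁻¹ᵁ (D.map φ ⁻¹ᵁ V') = V := by
    rw [← Scheme.Hom.comp_preimage, c.w, hV']
  have hcompl : ((D.map φ ⁻¹ᵁ U' : (D.obj k).Opens) : Set (D.obj k))ᶜ =
      ((D.map φ ⁻¹ᵁ V' : (D.obj k).Opens) : Set (D.obj k)) := by
    ext x
    constructor
    · intro hx
      have := h2 (show x ∈ D.map φ ⁻¹ᵁ ⊤ from trivial)
      rw [Scheme.Hom.preimage_sup] at this
      rcases this with h | h
      · exact absurd h hx
      · exact h
    · intro hx hx'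
      have := h1 (show x ∈ D.map φ ⁻¹ᵁ (U' ⊓ V') by
        rw [Scheme.Hom.preimage_inf]; exact ⟨hx', hx⟩)
      exact this
  have hclopen : IsClopen ((D.map φ ⁻¹ᵁ U' : (D.obj k).Opens) : Set (D.obj k)) := by
    refine ⟨?_, (D.map φ ⁻¹ᵁ U').2⟩
    rw [← isOpen_compl_iff, hcompl]
    exact (D.map φ ⁻¹ᵁ V').2
  rcases isClopen_iff.mp hclopen with h0 | h0
  · obtain ⟨x, hx⟩ := hs0
    have hxU : x ∈ c.π.app k ⁻¹ᵁ (D.map φ ⁻¹ᵁ U') := by rw [hUk]; exact hx
    have : (c.π.app k) x ∈ ((D.map φ ⁻¹ᵁ U' : (D.obj k).Opens) : Set (D.obj k)) := hxU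
    rw [h0] at this
    exact this
  · have hs1' : sᶜ.Nonempty := by
      rw [Set.nonempty_compl]
      exact hs1
    obtain ⟨x, hx⟩ := hs1'
    have hxV : x ∈ c.π.app k ⁻¹ᵁ (D.map φ ⁻¹ᵁ V') := by rw [hVk]; exact hx
    have : (c.π.app k) x ∈ ((D.map φ ⁻¹ᵁ V' : (D.obj k).Opens) : Set (D.obj k)) := hxV
    rw [← hcompl, h0] at this
    exact this (Set.mem_univ _)

end Groth.Agent.S4768
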