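import Groth.Statements.S4769
import Groth.Agent.Lib.Helper50.Lim
import Groth.Agent.Lib.Helper50.LimEv
import Groth.Agent.Lib.Helper50.TopComp

set_option autoImplicit false
universe u
open CategoryTheory AlgebraicGeometry
open Lim8

namespace Groth.Agent.S4769

/-- Let S = lim S_i be a cofiltered limit of schemes whose transition maps are affine and dominant, some
stage S_{i₀} being quasi-compact, and assume that the underlying topological space of S is
Noetherian. Then there is an index i over i₀ such that, for every j over i, the map sending an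
irreducible component Y of S to the closure of its image under S ⟶ S_j is a bijection from the set
of irreducible components of S onto the set of irreducible components of S_j. -/
theorem result {I : Type u} [SmallCategory I] [IsCofiltered I]
    (D : I ⥤ Scheme.{u}) (c : Limits.Cone D) (hc : Limits.IsLimit c)
    [∀ (i j : I) (f : i ⟶ j), IsAffineHom (D.map f)] (i₀ : I)
    [CompactSpace (D.obj i₀)] [TopologicalSpace.NoetherianSpace c.pt]
    (hd : ∀ (i j : I) (φ : i ⟶ j), IsDominant (D.map φ)) :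
    ∃ (i : I) (_ : i ⟶ i₀), ∀ (j : I) (_ : j ⟶ i),
      Set.BijOn (fun Y : Set c.pt => closure (⇑(c.π.app j) '' (Y : Set c.pt) : Set (D.obj j)))
        (irreducibleComponents c.pt) (irreducibleComponents (D.obj j)) := by
  classical
  have hfin : (irreducibleComponents c.pt).Finite :=
    TopologicalSpace.NoetherianSpace.finite_irreducibleComponents
  let s : Set (Set c.pt × Set c.pt) :=
    {p | p.1 ∈ irreducibleComponents c.pt ∧ p.2 ∈ irreducibleComponents c.pt ∧ p.1 ≠ p.2}
  have hs : s.Finite := (hfin.prod hfin).subset (fun p hp ↦ ⟨hp.1, hp.2.1⟩)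
  let P : (Set c.pt × Set c.pt) → I → Prop := fun p j ↦
    ¬ closure (⇑(c.π.app j) '' p.1) ⊆ closure (⇑(c.π.app j) '' p.2)
  have hP : ∀ p ∈ s, ∃ i : I, ∀ (j : I) (_ : j ⟶ i), P p j := by
    rintro ⟨Y, Y'⟩ ⟨hY, hY', hne⟩
    have hnot : ¬ Y ⊆ Y' := fun h ↦ hne (subset_antisymm h (hY.2 hY'.1 h))
    obtain ⟨x, hxY, hxY'⟩ := Set.not_subset.mp hnot
    have hopen : IsOpen Y'ᶜ := (isClosed_of_mem_irreducibleComponents Y' hY').isOpen_compl
    obtain ⟨_, ⟨_, ⟨i, V, hV, rfl⟩, rfl⟩, hxV, hVY'⟩ :=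
      (isBasis_preimage_isAffineOpen D c hc).exists_subset_of_mem_open hxY' hopen
    refine ⟨i, fun j φ hsub ↦ ?_⟩
    have h1 : c.π.app j x ∈ closure (⇑(c.π.app j) '' Y') := hsub (subset_closure ⟨x, hxY, rfl⟩)
    have h2 : c.π.app j x ∈ D.map φ ⁻¹ᵁ V := by
      change x ∈ c.π.app j ⁻¹ᵁ (D.map φ ⁻¹ᵁ V)
      rw [← Scheme.Hom.comp_preimage, c.w]
      exact hxV
    obtain ⟨_, hz, ⟨y', hy', rfl⟩⟩ := mem_closure_iff.mp h1 _ (D.map φ ⁻¹ᵁ V).2 h2
    have : y' ∈ c.π.app i ⁻¹ᵁ V := by
      rw [← c.w φ, Scheme.Hom.comp_preimage]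
      exact hz
    exact hVY' this hy'
  obtain ⟨i, fi, hi⟩ := Lib.Helper50.exists_forall_of_finite i₀ s hs P hP
  refine ⟨i, fi, fun j fj ↦ ?_⟩
  have hdom := Lib.Helper50.isDominant_π_app D c hc hd j
  exact Lib.Helper50.bijOn_irreducibleComponents_of_denseRange _ (c.π.app j).continuous
    hdom.denseRange hfin (fun Y hY Y' hY' hne ↦ hi j fj (Y, Y') ⟨hY, hY', hne⟩)

end Groth.Agent.S4769
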