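import Groth.Statements.S4770
import Groth.Agent.Lib.Helper50.LimFin
import Groth.Agent.Lib.Helper50.TopConn

set_option autoImplicit false
universe u
open CategoryTheory AlgebraicGeometry
open Lim8

namespace Groth.Agent.S4770

/-- Let S = lim S_i be a cofiltered limit of schemes whose transition maps are affine and dominant, some
stage S_{i₀} being quasi-compact, and assume that the underlying topological space of S is
Noetherian. Then there is an index i over i₀ such that, for every j over i, the map sending a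
connected component C of S to the closure of its image under S ⟶ S_j is a bijection from the set of
connected components of S onto the set of connected components of S_j. -/
theorem result {I : Type u} [SmallCategory I] [IsCofiltered I]
    (D : I ⥤ Scheme.{u}) (c : Limits.Cone D) (hc : Limits.IsLimit c)
    [∀ (i j : I) (f : i ⟶ j), IsAffineHom (D.map f)] (i₀ : I)
    [CompactSpace (D.obj i₀)] [TopologicalSpace.NoetherianSpace c.pt]
    (hd : ∀ (i j : I) (φ : i ⟶ j), IsDominant (D.map φ)) :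
    ∃ (i : I) (_ : i ⟶ i₀), ∀ (j : I) (_ : j ⟶ i),
      Set.BijOn (fun C : Set c.pt => closure (⇑(c.π.app j) '' (C : Set c.pt) : Set (D.obj j)))
        (Set.range (connectedComponent : c.pt → Set c.pt))
        (Set.range (connectedComponent : D.obj j → Set (D.obj j))) := by
  classical
  have hfin := Lib.Helper50.finite_range_connectedComponent c.pt
  have hopen : ∀ C ∈ Set.range (connectedComponent : c.pt → Set c.pt), IsOpen C := by
    rintro _ ⟨x, rfl⟩
    exact Lib.Helper50.isOpen_connectedComponent_of_noetherianSpace x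
  let toOpens : Set c.pt → c.pt.Opens := fun C ↦ if h : IsOpen C then ⟨C, h⟩ else ⊥
  have htoOpens : ∀ C ∈ Set.range (connectedComponent : c.pt → Set c.pt),
      (toOpens C : Set c.pt) = C := by
    intro C hC
    simp only [toOpens, dif_pos (hopen C hC)]
    rfl
  let s : Set c.pt.Opens := toOpens '' Set.range (connectedComponent : c.pt → Set c.pt)
  have hs : s.Finite := hfin.image _
  have hsc : ∀ U ∈ s, IsCompact (U : Set c.pt) := fun U _ ↦
    TopologicalSpace.NoetherianSpace.isCompact _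
  obtain ⟨i₁, f₁, W, hW⟩ := Lib.Helper50.exists_preimage_eq_of_finite D c hc i₀ s hs hsc
  have hWC : ∀ C ∈ Set.range (connectedComponent : c.pt → Set c.pt),
      ∀ x : c.pt, c.π.app i₁ x ∈ W (toOpens C) ↔ x ∈ C := by
    intro C hC x
    have h1 := (hW (toOpens C) ⟨C, hC, rfl⟩).2
    have h2 : x ∈ c.π.app i₁ ⁻¹ᵁ W (toOpens C) ↔ x ∈ toOpens C := by rw [h1]
    have h3 : x ∈ toOpens C ↔ x ∈ C := by
      change x ∈ (toOpens C : Set c.pt) ↔ x ∈ C
      rw [htoOpens C hC]
    exact h2.trans h3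
  have : CompactSpace (D.obj i₁) := Lib.Helper50.compactSpace_of_hom D f₁
  have htop : IsCompact ((⊤ : (D.obj i₁).Opens) : Set (D.obj i₁)) := isCompact_univ
  have hcover : c.π.app i₁ ⁻¹ᵁ ⊤ ≤ c.π.app i₁ ⁻¹ᵁ
      (⨆ C : Set.range (connectedComponent : c.pt → Set c.pt), W (toOpens C.1)) := by
    intro x _
    rw [Scheme.Hom.preimage_iSup, TopologicalSpace.Opens.mem_iSup]
    exact ⟨⟨connectedComponent x, ⟨x, rfl⟩⟩, (hWC _ ⟨x, rfl⟩ x).mpr mem_connectedComponent⟩
  obtain ⟨j₁, g₁, hj₁⟩ := Lib.Helper50.exists_forall_map_preimage_le D c hc htop hcover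
  refine ⟨j₁, g₁ ≫ f₁, fun j fj ↦ ?_⟩
  have hdom := Lib.Helper50.isDominant_π_app D c hc hd j
  have hπ : ∀ x : c.pt, D.map (fj ≫ g₁) (c.π.app j x) = c.π.app i₁ x := by
    intro x
    rw [← Scheme.Hom.comp_apply, c.w]
  refine Lib.Helper50.bijOn_connectedComponents_of_denseRange _ (c.π.app j).continuous
    hdom.denseRange hfin
    (fun C ↦ ((D.map (fj ≫ g₁) ⁻¹ᵁ (W (toOpens C)) : (D.obj j).Opens) : Set (D.obj j)))
    ?_ ?_ ?_ ?_
  · intro C _
    exact (D.map (fj ≫ g₁) ⁻¹ᵁ (W (toOpens C))).2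
  · rintro C hC _ ⟨x, hx, rfl⟩
    change D.map (fj ≫ g₁) (c.π.app j x) ∈ W (toOpens C)
    rw [hπ]
    exact (hWC C hC x).mpr hx
  · intro C hC C' hC' hne
    rw [Set.disjoint_iff_inter_eq_empty]
    by_contra hnonempty
    have hne' : (((D.map (fj ≫ g₁) ⁻¹ᵁ (W (toOpens C)) : (D.obj j).Opens) : Set (D.obj j)) ∩
        ((D.map (fj ≫ g₁) ⁻¹ᵁ (W (toOpens C')) : (D.obj j).Opens) : Set (D.obj j))).Nonempty :=
      Set.nonempty_iff_ne_empty.mpr hnonempty
    obtain ⟨_, ⟨hz1, hz2⟩, ⟨t, rfl⟩⟩ := (dense_iff_inter_open.mp hdom.denseRange) _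
      ((D.map (fj ≫ g₁) ⁻¹ᵁ (W (toOpens C))).2.inter (D.map (fj ≫ g₁) ⁻¹ᵁ (W (toOpens C'))).2) hne'
    have ht1 : t ∈ C := by
      rw [← hWC C hC t, ← hπ]
      exact hz1
    have ht2 : t ∈ C' := by
      rw [← hWC C' hC' t, ← hπ]
      exact hz2
    obtain ⟨x, rfl⟩ := hC
    obtain ⟨x', rfl⟩ := hC'
    exact hne ((connectedComponent_eq ht1).trans (connectedComponent_eq ht2).symm)
  · intro z
    have := hj₁ j fj (show z ∈ D.map (fj ≫ g₁) ⁻¹ᵁ ⊤ from trivial)
    rw [Scheme.Hom.preimage_iSup, TopologicalSpace.Opens.mem_iSup] at this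
    obtain ⟨⟨C, hC⟩, hz⟩ := this
    exact ⟨C, hC, hz⟩

end Groth.Agent.S4770
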