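import Groth.Statements.S4771
import Groth.Agent.Lib.Helper50.Lim

set_option autoImplicit false
universe u
open CategoryTheory AlgebraicGeometry
open Lim8

namespace Groth.Agent.S4771

/-- Let S = lim S_i be a cofiltered limit of schemes whose transition maps are affine and dominant, some
stage S_{i₀} being quasi-compact, and assume that the underlying topological space of S is
Noetherian. Then S is irreducible if and only if there is an index i over i₀ such that S_j is
irreducible for every j over i. -/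
theorem result {I : Type u} [SmallCategory I] [IsCofiltered I]
    (D : I ⥤ Scheme.{u}) (c : Limits.Cone D) (hc : Limits.IsLimit c)
    [∀ (i j : I) (f : i ⟶ j), IsAffineHom (D.map f)] (i₀ : I)
    [CompactSpace (D.obj i₀)] [TopologicalSpace.NoetherianSpace c.pt]
    (hd : ∀ (i j : I) (φ : i ⟶ j), IsDominant (D.map φ)) :
    IrreducibleSpace c.pt ↔ ∃ (i : I) (_ : i ⟶ i₀), ∀ (j : I) (_ : j ⟶ i), IrreducibleSpace (D.obj j) := by
  classical
  constructor
  · intro hirr
    refine ⟨i₀, 𝟙 i₀, fun j _ ↦ ?_⟩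
    have hdom := Lib.Helper50.isDominant_π_app D c hc hd j
    rw [irreducibleSpace_def]
    have h1 : IsIrreducible (Set.range ⇑(c.π.app j)) := by
      rw [← Set.image_univ]
      exact (IrreducibleSpace.isIrreducible_univ c.pt).image _ (c.π.app j).continuous.continuousOn
    have h2 := h1.closure
    rwa [hdom.denseRange.closure_range] at h2
  · rintro ⟨i, fi, hi⟩
    have hcpt (j : Over i) : CompactSpace ((Over.forget i ⋙ D).obj j) :=
      Lib.Helper50.compactSpace_of_hom D (j.hom ≫ fi)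
    have hne (j : Over i) : Nonempty ((Over.forget i ⋙ D).obj j) :=
      (hi j.left j.hom).toNonempty
    have haff {j k : Over i} (f : j ⟶ k) : IsAffineHom ((Over.forget i ⋙ D).map f) := by
      dsimp; infer_instance
    have hnonempty : Nonempty c.pt :=
      Scheme.nonempty_of_isLimit (Over.forget i ⋙ D) _
        ((Functor.Initial.isLimitWhiskerEquiv (Over.forget i) c).symm hc)
    have : PreirreducibleSpace c.pt := by
      refine PreirreducibleSpace.of_forall_nonempty_inter fun u v hu hv ⟨x, hx⟩ ⟨y, hy⟩ ↦ ?_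
      obtain ⟨_, ⟨_, ⟨i₁, U₁, hU₁, rfl⟩, rfl⟩, hxU₁, hU₁u⟩ :=
        (isBasis_preimage_isAffineOpen D c hc).exists_subset_of_mem_open hx hu
      obtain ⟨_, ⟨_, ⟨i₂, V₂, hV₂, rfl⟩, rfl⟩, hyV₂, hV₂v⟩ :=
        (isBasis_preimage_isAffineOpen D c hc).exists_subset_of_mem_open hy hv
      let k := IsCofiltered.min (IsCofiltered.min i₁ i₂) i
      let a₁ : k ⟶ i₁ := IsCofiltered.minToLeft _ _ ≫ IsCofiltered.minToLeft _ _
      let a₂ : k ⟶ i₂ := IsCofiltered.minToLeft _ _ ≫ IsCofiltered.minToRight _ _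
      let a : k ⟶ i := IsCofiltered.minToRight _ _
      have hk := hi k a
      have hdom := Lib.Helper50.isDominant_π_app D c hc hd k
      have hxk : c.π.app k x ∈ D.map a₁ ⁻¹ᵁ U₁ := by
        change x ∈ c.π.app k ⁻¹ᵁ (D.map a₁ ⁻¹ᵁ U₁)
        rw [← Scheme.Hom.comp_preimage, c.w]
        exact hxU₁
      have hyk : c.π.app k y ∈ D.map a₂ ⁻¹ᵁ V₂ := by
        change y ∈ c.π.app k ⁻¹ᵁ (D.map a₂ ⁻¹ᵁ V₂)
        rw [← Scheme.Hom.comp_preimage, c.w]
        exact hyV₂
      have hne := nonempty_preirreducible_inter (D.map a₁ ⁻¹ᵁ U₁).2 (D.map a₂ ⁻¹ᵁ V₂).2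
        ⟨_, hxk⟩ ⟨_, hyk⟩
      obtain ⟨_, ⟨hz1, hz2⟩, ⟨s, rfl⟩⟩ := (dense_iff_inter_open.mp hdom.denseRange) _
        ((D.map a₁ ⁻¹ᵁ U₁).2.inter (D.map a₂ ⁻¹ᵁ V₂).2) hne
      refine ⟨s, hU₁u ?_, hV₂v ?_⟩
      · change s ∈ c.π.app i₁ ⁻¹ᵁ U₁
        rw [← c.w a₁, Scheme.Hom.comp_preimage]
        exact hz1
      · change s ∈ c.π.app i₂ ⁻¹ᵁ V₂
        rw [← c.w a₂, Scheme.Hom.comp_preimage]
        exact hz2
    exact { toNonempty := hnonempty }

end Groth.Agent.S4771
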