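import Groth.Statements.S4772
import Groth.Agent.Lib.Helper50.Lim

set_option autoImplicit false
universe u
open CategoryTheory AlgebraicGeometry
open Lim8

namespace Groth.Agent.S4772

/-- Let S = lim S_i be a cofiltered limit of schemes whose transition maps are affine and dominant, some
stage S_{i₀} being quasi-compact. Then S is connected (in particular nonempty) if and only if there
is an index i over i₀ such that S_j is connected for every j over i. -/
theorem result {I : Type u} [SmallCategory I] [IsCofiltered I]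
    (D : I ⥤ Scheme.{u}) (c : Limits.Cone D) (hc : Limits.IsLimit c)
    [∀ (i j : I) (f : i ⟶ j), IsAffineHom (D.map f)] (i₀ : I)
    [CompactSpace (D.obj i₀)] (hd : ∀ (i j : I) (φ : i ⟶ j), IsDominant (D.map φ)) :
    ConnectedSpace c.pt ↔ ∃ (i : I) (_ : i ⟶ i₀), ∀ (j : I) (_ : j ⟶ i), ConnectedSpace (D.obj j) := by
  classical
  constructor
  · intro hconn
    refine ⟨i₀, 𝟙 i₀, fun j _ ↦ ?_⟩
    have hdom := Lib.Helper50.isDominant_π_app D c hc hd j
    have hpc : PreconnectedSpace c.pt := hconn.toPreconnectedSpace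
    have : PreconnectedSpace (D.obj j) :=
      @DenseRange.preconnectedSpace c.pt (D.obj j) _ _ hpc _ hdom.denseRange (c.π.app j).continuous
    exact { toNonempty := (hconn.toNonempty).map (c.π.app j) }
  · rintro ⟨i, fi, hi⟩
    have hcpt (j : Over i) : CompactSpace ((Over.forget i ⋙ D).obj j) :=
      Lib.Helper50.compactSpace_of_hom D (j.hom ≫ fi)
    have hne (j : Over i) : Nonempty ((Over.forget i ⋙ D).obj j) :=
      (hi j.left j.hom).toNonempty
    have haff {j k : Over i} (f : j ⟶ k) : IsAffineHom ((Over.forget i ⋙ D).map f) := by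
      dsimp; infer_instance
    have hnonempty : Nonempty c.pt :=
      Scheme.nonempty_of_isLimit (Over.forget i ⋙ D) _
        ((Functor.Initial.isLimitWhiskerEquiv (Over.forget i) c).symm hc)
    have hcpt' : CompactSpace c.pt := Lib.Helper50.compactSpace_pt D c hc i₀
    have : PreconnectedSpace c.pt := by
      rw [preconnectedSpace_iff_clopen]
      intro s hs
      by_contra hcon
      push Not at hcon
      obtain ⟨⟨x, hx⟩, hs1⟩ := hcon
      have hs1' : sᶜ.Nonempty := by
        rw [Set.nonempty_compl]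
        exact hs1
      obtain ⟨y, hy⟩ := hs1'
      let U : c.pt.Opens := ⟨s, hs.isOpen⟩
      let V : c.pt.Opens := ⟨sᶜ, hs.compl.isOpen⟩
      have hUc : IsCompact (U : Set c.pt) := hs.isClosed.isCompact
      have hVc : IsCompact (V : Set c.pt) := hs.compl.isClosed.isCompact
      have : CompactSpace (D.obj i) := Lib.Helper50.compactSpace_of_hom D fi
      obtain ⟨k, fk, U', V', hU'c, hV'c, hU', hV'⟩ :=
        Lib.Helper50.exists_preimage_eq_over₂ D c hc i U V hUc hVc
      have : CompactSpace (D.obj k) := Lib.Helper50.compactSpace_of_hom D fk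
      have htop : IsCompact ((⊤ : (D.obj k).Opens) : Set (D.obj k)) := isCompact_univ
      have H2 : c.π.app k ⁻¹ᵁ ⊤ ≤ c.π.app k ⁻¹ᵁ (U' ⊔ V') := by
        rw [Scheme.Hom.preimage_sup, hU', hV']
        intro z _
        by_cases hz : z ∈ s
        · exact Or.inl hz
        · exact Or.inr hz
      obtain ⟨j, g, hj⟩ := Lib.Helper50.exists_forall_map_preimage_le D c hc htop H2
      have h2 := hj j (𝟙 j)
      rw [Category.id_comp] at h2
      have hconnj := hi j (g ≫ fk)
      have hdom := Lib.Helper50.isDominant_π_app D c hc hd j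
      have hUj : c.π.app j ⁻¹ᵁ (D.map g ⁻¹ᵁ U') = U := by
        rw [← Scheme.Hom.comp_preimage, c.w, hU']
      have hVj : c.π.app j ⁻¹ᵁ (D.map g ⁻¹ᵁ V') = V := by
        rw [← Scheme.Hom.comp_preimage, c.w, hV']
      have hxU : x ∈ c.π.app j ⁻¹ᵁ (D.map g ⁻¹ᵁ U') := by rw [hUj]; exact hx
      have hyV : y ∈ c.π.app j ⁻¹ᵁ (D.map g ⁻¹ᵁ V') := by rw [hVj]; exact hy
      have hunion : ((D.map g ⁻¹ᵁ U' : (D.obj j).Opens) : Set (D.obj j)) ∪
          ((D.map g ⁻¹ᵁ V' : (D.obj j).Opens) : Set (D.obj j)) = Set.univ := by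
        rw [Set.eq_univ_iff_forall]
        intro z
        have := h2 (show z ∈ D.map g ⁻¹ᵁ ⊤ from trivial)
        rw [Scheme.Hom.preimage_sup] at this
        exact this
      have hne' := nonempty_inter (D.map g ⁻¹ᵁ U').2 (D.map g ⁻¹ᵁ V').2 hunion ⟨_, hxU⟩ ⟨_, hyV⟩
      obtain ⟨_, ⟨hz1, hz2⟩, ⟨t, rfl⟩⟩ := (dense_iff_inter_open.mp hdom.denseRange) _
        ((D.map g ⁻¹ᵁ U').2.inter (D.map g ⁻¹ᵁ V').2) hne'
      have ht1 : t ∈ U := by rw [← hUj]; exact hz1
      have ht2 : t ∈ V := by rw [← hVj]; exact hz2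
      exact ht2 ht1
    exact { toNonempty := hnonempty }

end Groth.Agent.S4772
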