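import Groth.Statements.S4775
import Groth.Agent.Lib.Helper50.LimRed

set_option autoImplicit false
universe u
open CategoryTheory AlgebraicGeometry
open Lim8

namespace Groth.Agent.S4775

/-- Let S = lim S_i be a cofiltered limit of schemes whose transition maps are affine, flat and
surjective. Then S is reduced if and only if every S_i is reduced. -/
theorem result {I : Type u} [SmallCategory I] [IsCofiltered I]
    (D : I ⥤ Scheme.{u}) (c : Limits.Cone D) (hc : Limits.IsLimit c)
    [∀ (i j : I) (f : i ⟶ j), IsAffineHom (D.map f)]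
    (hf : ∀ (i j : I) (φ : i ⟶ j), Flat (D.map φ) ∧ Surjective (D.map φ)) :
    IsReduced c.pt ↔ ∀ (i : I), IsReduced (D.obj i) := by
  constructor
  · intro hred i
    apply Lib.Helper50.isReduced_of_forall_affineOpens
    rintro ⟨V, hV⟩
    rw [isReduced_iff]
    rintro s ⟨n, hn⟩
    have h0 : (c.π.app i).app V s = 0 := by
      have hr : _root_.IsReduced Γ(c.pt, c.π.app i ⁻¹ᵁ V) := inferInstance
      exact hr.eq_zero _ ⟨n, by rw [← map_pow, hn, map_zero]⟩
    obtain ⟨j, f, hj⟩ := exists_app_map_eq_zero_of_isLimit D c hc hV.isCompact s h0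
    have := (hf j i f).1
    have := (hf j i f).2
    exact Lib.Helper50.app_injective_of_flat_of_surjective (D.map f) V (by rw [hj, map_zero])
  · intro hall
    by_contra hcon
    obtain ⟨i, hi⟩ := Lib.Helper50.exists_forall_not_isReduced D c hc hcon
    exact hi i (𝟙 i) (hall i)

end Groth.Agent.S4775
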