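import Groth.Statements.S4777
import Groth.Agent.Lib.Helper50.FPStep2

set_option autoImplicit false
universe u
open CategoryTheory
open Lim8

namespace Groth.Agent.S4777

/-- Let B be an algebra over a commutative ring A. If, for every inductive system (C_λ) of A-algebras
indexed by a nonempty directed preordered set, the canonical map colim Hom_A(B, C_λ) → Hom_A(B,
colim C_λ) is bijective (that is, Hom_A(B, -) preserves the colimit of the system), then B is an
A-algebra of finite presentation. (This is the necessity half of the characterization of algebras of
finite presentation by this property; the converse is standard.) -/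
theorem result {A B : CommRingCat.{u}} (f : A ⟶ B)
    (h : ∀ (J : Type u) [Preorder J] [IsDirected J (· ≤ ·)] [Nonempty J] (F : J ⥤ Under A),
      Limits.PreservesColimit F (coyoneda.obj (Opposite.op (Under.mk f)))) :
    f.hom.FinitePresentation := by
  algebraize [f.hom]
  have h1 : Algebra.FiniteType A B :=
    Lib.Helper50.finiteType_of_preservesColimit A B
      (h (Lib.Helper50.FGSub A B) (Lib.Helper50.fgSubFunctor A B))
  obtain ⟨n, π, hπ⟩ := Algebra.FiniteType.iff_quotient_mvPolynomial''.mp h1
  exact Lib.Helper50.finitePresentation_of_preservesColimit π hπ
    (h (Lib.Helper50.FGIdeal π) (Lib.Helper50.fgIdealFunctor π))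

end Groth.Agent.S4777
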