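import Groth.Statements.S4778
import Groth.Agent.S4777
import Groth.Agent.Lib.Helper50.SpecDiag
import Groth.Agent.Lib.Helper50.Lim

set_option autoImplicit false
universe u
open CategoryTheory AlgebraicGeometry
open Lim8

namespace Groth.Agent.S4778


open Limits Lib.Helper50 in
attribute [local instance] IsFiltered.isConnected IsCofiltered.isConnected in
theorem preserves_appLE {X S : Scheme.{u}} (f : X ⟶ S) (U : S.Opens) (hU : IsAffineOpen U)
    (V : X.Opens) (hV : IsAffineOpen V) (e : V ≤ f ⁻¹ᵁ U)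
    (h : ∀ (J : Type u) [Preorder J] [IsDirected J (· ≤ ·)] [Nonempty J]
      (Z : Jᵒᵖ ⥤ Over (U : Scheme.{u})),
      (∀ j, IsAffine (Z.obj j).left) →
      Limits.PreservesColimit (Z ⋙ Over.map U.ι).op (yoneda.obj (Over.mk f)))
    (J : Type u) [Preorder J] [IsDirected J (· ≤ ·)] [Nonempty J] (F : J ⥤ Under Γ(S, U)) :
    PreservesColimit F (coyoneda.obj (Opposite.op (Under.mk (f.appLE U V e)))) := by
  have hc := colimit.isColimit F
  set c := colimit.cocone F with hcdef
  apply preservesColimit_of_preserves_colimit_cocone hc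
  have hlim : IsLimit (specCone hU F c) := isLimitSpecCone hU F c hc
  have hpres := h J (specDiagram hU F) (fun j ↦ by dsimp [specDiagram]; infer_instance)
  have hcolim := isColimitOfPreserves (yoneda.obj (Over.mk f)) hlim.op
  -- the diagram in schemes
  let D : Jᵒᵖ ⥤ Scheme.{u} := (specDiagram hU F ⋙ Over.map U.ι) ⋙ Over.forget S
  have hDaff : ∀ (i j : Jᵒᵖ) (g : i ⟶ j), IsAffineHom (D.map g) := fun i j g ↦ by
    dsimp [D, specDiagram]; infer_instance
  have hDcomp : ∀ i, CompactSpace (D.obj i) := fun i ↦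
    (inferInstance : CompactSpace (Spec (F.obj i.unop).right))
  let cD : Cone D := (Over.forget S).mapCone (specCone hU F c)
  have hcD : IsLimit cD := isLimitOfPreserves (Over.forget S) hlim
  have key : ∀ {R : CommRingCat.{u}} (β₁ β₂ : Γ(X, V) ⟶ R)
      (_ : Spec.map β₁ ≫ hV.fromSpec = Spec.map β₂ ≫ hV.fromSpec), β₁ = β₂ := by
    intro R β₁ β₂ hβ
    exact Spec.map_injective ((cancel_mono hV.fromSpec).mp hβ)
  apply Types.FilteredColimit.isColimitOf
  · intro β
    change Under.mk (f.appLE U V e) ⟶ c.pt at β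
    have hβw : f.appLE U V e ≫ β.right = c.pt.hom := Under.w β
    let g' : (specCone hU F c).pt ⟶ Over.mk f :=
      Over.homMk (Spec.map β.right ≫ hV.fromSpec) (by
        dsimp [specCone]
        rw [Category.assoc, ← IsAffineOpen.SpecMap_appLE_fromSpec f hU hV e,
          ← Spec.map_comp_assoc, hβw])
    obtain ⟨j, y, hy⟩ := Types.jointly_surjective_of_isColimit hcolim g'
    change (specDiagram hU F ⋙ Over.map U.ι).obj j.unop ⟶ Over.mk f at y
    have hy' : (specCone hU F c).π.app j.unop ≫ y = g' := hy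
    let j0 : J := j.unop.unop
    let yl : Spec (F.obj j0).right ⟶ X := y.left
    have hyw : yl ≫ f = Spec.map (F.obj j0).hom ≫ hU.fromSpec := by
      have : yl ≫ f = (Spec.map (F.obj j0).hom ≫ hU.isoSpec.inv) ≫ U.ι := Over.w y
      rw [this, Category.assoc, IsAffineOpen.isoSpec_inv_ι]
    have hyleft : Spec.map (c.ι.app j0).right ≫ yl = Spec.map β.right ≫ hV.fromSpec :=
      congr_arg CommaMorphism.left hy'
    have hpre : (Spec.map (c.ι.app j0).right ≫ yl) ⁻¹ᵁ V = ⊤ := by
      rw [hyleft, Scheme.Hom.comp_preimage, hV.fromSpec_preimage_self]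
      rfl
    have H : cD.π.app j.unop ⁻¹ᵁ ⊤ ≤ cD.π.app j.unop ⁻¹ᵁ (yl ⁻¹ᵁ V) := by
      intro x _
      have : x ∈ (Spec.map (c.ι.app j0).right ≫ yl) ⁻¹ᵁ V := by rw [hpre]; trivial
      exact this
    obtain ⟨k, g, hg⟩ := exists_map_preimage_le_map_preimage D cD hcD
      (U := ⊤) (V := yl ⁻¹ᵁ V) isCompact_univ H
    let k0 : J := k.unop
    let m : Spec (F.obj k0).right ⟶ Spec (F.obj j0).right := Spec.map (F.map g.unop).right
    have hm : Spec.map (c.ι.app k0).right ≫ m = Spec.map (c.ι.app j0).right := by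
      rw [← Spec.map_comp, ← Under.comp_right, c.w]
    have hmw : m ≫ Spec.map (F.obj j0).hom = Spec.map (F.obj k0).hom := by
      rw [← Spec.map_comp, Under.w]
    have hrange : Set.range (m ≫ yl) ⊆ Set.range hV.fromSpec := by
      rw [hV.range_fromSpec]
      rintro _ ⟨x, rfl⟩
      exact hg (show x ∈ (D.map g ⁻¹ᵁ ⊤) from trivial)
    let l : Spec (F.obj k0).right ⟶ Spec Γ(X, V) :=
      IsOpenImmersion.lift hV.fromSpec (m ≫ yl) hrange
    have hl : l ≫ hV.fromSpec = m ≫ yl := IsOpenImmersion.lift_fac _ _ _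
    let βk : Γ(X, V) ⟶ (F.obj k0).right := Spec.preimage l
    have hβk : Spec.map βk = l := Spec.map_preimage l
    have hw : f.appLE U V e ≫ βk = (F.obj k0).hom := by
      apply Spec.map_injective
      rw [← cancel_mono hU.fromSpec, Spec.map_comp, Category.assoc,
        IsAffineOpen.SpecMap_appLE_fromSpec f hU hV e, ← Category.assoc, hβk, hl, Category.assoc,
        hyw, ← Category.assoc, hmw]
    refine ⟨k0, Under.homMk βk hw, ?_⟩
    change β = Under.homMk βk hw ≫ c.ι.app k0
    ext1
    apply key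
    show Spec.map β.right ≫ hV.fromSpec = Spec.map (βk ≫ (c.ι.app k0).right) ≫ hV.fromSpec
    rw [Spec.map_comp, Category.assoc, hβk, hl, ← Category.assoc, hm, hyleft]
  · intro i j βi βj hβ
    change Under.mk (f.appLE U V e) ⟶ F.obj i at βi
    change Under.mk (f.appLE U V e) ⟶ F.obj j at βj
    have hβ' : βi ≫ c.ι.app i = βj ≫ c.ι.app j := hβ
    have hwi : ∀ (i : J) (βi : Under.mk (f.appLE U V e) ⟶ F.obj i),
        (Spec.map βi.right ≫ hV.fromSpec) ≫ f =
          ((specDiagram hU F ⋙ Over.map U.ι).obj (Opposite.op i)).hom := by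
      intro i βi
      have : ((specDiagram hU F ⋙ Over.map U.ι).obj (Opposite.op i)).hom =
          (Spec.map (F.obj i).hom ≫ hU.isoSpec.inv) ≫ U.ι := rfl
      rw [this, Category.assoc, ← IsAffineOpen.SpecMap_appLE_fromSpec f hU hV e,
        ← Spec.map_comp_assoc, Category.assoc, IsAffineOpen.isoSpec_inv_ι]
      congr 2
      exact Under.w βi
    let yi : (specDiagram hU F ⋙ Over.map U.ι).obj (Opposite.op i) ⟶ Over.mk f :=
      Over.homMk (Spec.map βi.right ≫ hV.fromSpec) (hwi i βi)
    let yj : (specDiagram hU F ⋙ Over.map U.ι).obj (Opposite.op j) ⟶ Over.mk f :=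
      Over.homMk (Spec.map βj.right ≫ hV.fromSpec) (hwi j βj)
    have heq : ((yoneda.obj (Over.mk f)).mapCocone (specCone hU F c).op).ι.app
          (Opposite.op (Opposite.op i)) yi =
        ((yoneda.obj (Over.mk f)).mapCocone (specCone hU F c).op).ι.app
          (Opposite.op (Opposite.op j)) yj := by
      show (specCone hU F c).π.app (Opposite.op i) ≫ yi =
        (specCone hU F c).π.app (Opposite.op j) ≫ yj
      ext1
      show Spec.map (c.ι.app i).right ≫ Spec.map βi.right ≫ hV.fromSpec =
        Spec.map (c.ι.app j).right ≫ Spec.map βj.right ≫ hV.fromSpec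
      rw [← Spec.map_comp_assoc, ← Spec.map_comp_assoc, ← Under.comp_right, ← Under.comp_right,
        hβ']
    obtain ⟨k, fi, fj, hk⟩ := (Types.FilteredColimit.isColimit_eq_iff _ hcolim).mp heq
    refine ⟨k.unop.unop, fi.unop.unop, fj.unop.unop, ?_⟩
    change βi ≫ F.map fi.unop.unop = βj ≫ F.map fj.unop.unop
    have hk' : (specDiagram hU F ⋙ Over.map U.ι).map fi.unop ≫ yi =
        (specDiagram hU F ⋙ Over.map U.ι).map fj.unop ≫ yj := hk
    have hk'' : Spec.map (F.map fi.unop.unop).right ≫ Spec.map βi.right ≫ hV.fromSpec =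
        Spec.map (F.map fj.unop.unop).right ≫ Spec.map βj.right ≫ hV.fromSpec :=
      congr_arg CommaMorphism.left hk'
    ext1
    apply key
    show Spec.map (βi.right ≫ (F.map fi.unop.unop).right) ≫ hV.fromSpec =
      Spec.map (βj.right ≫ (F.map fj.unop.unop).right) ≫ hV.fromSpec
    rw [Spec.map_comp, Spec.map_comp, Category.assoc, Category.assoc, hk'']

/-- Let f : X ⟶ S be a morphism of schemes. Suppose that for every affine open U of S and every
projective system (Z_λ) of U-schemes indexed by a nonempty directed preordered set, with every Z_λ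
an affine scheme, the functor Hom_S(-, X) takes the limit of the system to the colimit of the
Hom_S(Z_λ, X) (the canonical map from the colimit is bijective). Then f is locally of finite
presentation. -/
theorem result {X S : Scheme.{u}} (f : X ⟶ S)
    (h : ∀ (U : S.Opens), IsAffineOpen U →
      ∀ (J : Type u) [Preorder J] [IsDirected J (· ≤ ·)] [Nonempty J] (Z : Jᵒᵖ ⥤ Over (U : Scheme.{u})),
      (∀ j, IsAffine (Z.obj j).left) →
      Limits.PreservesColimit (Z ⋙ Over.map U.ι).op (yoneda.obj (Over.mk f))) :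
    LocallyOfFinitePresentation f := by
  rw [HasRingHomProperty.iff_appLE (P := @LocallyOfFinitePresentation)]
  intro U V e
  exact Groth.Agent.S4777.result (f.appLE U.1 V.1 e)
    (fun J _ _ _ F ↦ preserves_appLE f U.1 U.2 V.1 V.2 e (h U.1 U.2) J F)

end Groth.Agent.S4778
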