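import Groth.Statements.S4779
import Groth.Agent.Lib.Helper50.LimOC

set_option autoImplicit false
universe u
open CategoryTheory AlgebraicGeometry
open Lim8

namespace Groth.Agent.S4779

attribute [local instance] IsCofiltered.isConnected

/-- Let S = lim S_i be a cofiltered limit of schemes with affine transition maps, let f₀ : X₀ ⟶ Y₀ be a
morphism of schemes over a stage S_{i₀}, and let f : X ⟶ Y be its base change along S ⟶ S_{i₀} (all
base changes are expressed by pullback squares). If there is an index i over i₀ such that, for every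
j over i, the base change f_j : X_j ⟶ Y_j of f₀ along S_j ⟶ S_{i₀} is an open map, then f is an open
map. (The corresponding statement for universally open morphisms follows from this one by base
change.) -/
theorem result {I : Type u} [SmallCategory I] [IsCofiltered I]
    (D : I ⥤ Scheme.{u}) (c : Limits.Cone D) (hc : Limits.IsLimit c)
    [∀ (i j : I) (f : i ⟶ j), IsAffineHom (D.map f)] (i₀ : I)
    {X₀ Y₀ : Scheme.{u}} (f₀ : X₀ ⟶ Y₀) (g₀ : Y₀ ⟶ D.obj i₀)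
    {X Y : Scheme.{u}} (f : X ⟶ Y) (g : Y ⟶ c.pt) (qY : Y ⟶ Y₀) (qX : X ⟶ X₀)
    (hY : IsPullback qY g g₀ (c.π.app i₀)) (hX : IsPullback qX f f₀ qY)
    (h : ∃ (i : I) (φ : i ⟶ i₀), ∀ (j : I) (ψ : j ⟶ i) (Xj Yj : Scheme.{u}) (fj : Xj ⟶ Yj)
      (gj : Yj ⟶ D.obj j) (pY : Yj ⟶ Y₀) (pX : Xj ⟶ X₀),
      IsPullback pY gj g₀ (D.map (ψ ≫ φ)) → IsPullback pX fj f₀ pY → IsOpenMap ⇑fj) :
    IsOpenMap ⇑f := by
  obtain ⟨i, φ, h⟩ := h
  let D₁ : Over i ⥤ Scheme.{u} := Over.forget i ⋙ D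
  let c₁ : Limits.Cone D₁ := c.whisker (Over.forget i)
  have hc₁ : Limits.IsLimit c₁ :=
    (Functor.Initial.isLimitWhiskerEquiv (Over.forget i) c).symm hc
  have : ∀ (j k : Over i) (f : j ⟶ k), IsAffineHom (D₁.map f) :=
    fun j k f ↦ inferInstanceAs (IsAffineHom (D.map f.left))
  let β₁ : ∀ j : Over i, D₁.obj j ⟶ D.obj i₀ := fun j ↦ D.map (j.hom ≫ φ)
  have hβ₁ : ∀ {j k : Over i} (ψ : j ⟶ k), D₁.map ψ ≫ β₁ k = β₁ j := by
    intro j k ψ
    show D.map ψ.left ≫ D.map (k.hom ≫ φ) = D.map (j.hom ≫ φ)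
    rw [← D.map_comp, ← Category.assoc, Over.w]
  let DY := Lib.Helper50.bcDiagram D₁ β₁ hβ₁ g₀
  have hb₁ : ∀ j, c₁.π.app j ≫ β₁ j = c.π.app i₀ := fun j ↦ c.w (j.hom ≫ φ)
  let cY := Lib.Helper50.bcCone D₁ β₁ hβ₁ g₀ c₁ (c.π.app i₀) hb₁ qY g hY.w
  have hcY : Limits.IsLimit cY :=
    Lib.Helper50.isLimitBcCone D₁ β₁ hβ₁ g₀ c₁ (c.π.app i₀) hb₁ qY g hc₁ hY
  let βY : ∀ j, DY.obj j ⟶ Y₀ := fun j ↦ Limits.pullback.fst g₀ (β₁ j)
  have hβY : ∀ {j k : Over i} (ψ : j ⟶ k), DY.map ψ ≫ βY k = βY j :=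
    fun ψ ↦ Lib.Helper50.bcDiagram_map_fst D₁ β₁ hβ₁ g₀ ψ
  have hbY : ∀ j, cY.π.app j ≫ βY j = qY :=
    fun j ↦ Lib.Helper50.bcConeπ_fst D₁ β₁ g₀ c₁ (c.π.app i₀) hb₁ qY g hY.w j
  exact Lib.Helper50.isOpenMap_of_forall_isOpenMap_snd DY cY hcY βY hβY f₀ qY hbY qX f hX
    (fun j ↦ h j.left j.hom _ _ _ (Limits.pullback.snd g₀ (β₁ j)) (Limits.pullback.fst g₀ (β₁ j))
      (Limits.pullback.fst f₀ (βY j)) (IsPullback.of_hasPullback _ _)
      (IsPullback.of_hasPullback _ _))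

end Groth.Agent.S4779
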