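import Groth.Statements.S4781
import Groth.Agent.Lib.Helper22.GenericFibreDim

set_option autoImplicit false
universe u
open CategoryTheory AlgebraicGeometry
open Cons9

namespace Groth.Agent.S4781

/-- Let S be a Noetherian irreducible scheme with generic point η, let X be an irreducible scheme and f
: X ⟶ S a dominant morphism of finite type. Then there is an open neighbourhood U of η in S such
that, for every s ∈ U, all irreducible components of the fibre f⁻¹(s) have dimension equal to dim
f⁻¹(η). Fibres are taken as subspaces of X and dimensions are topological Krull dimensions. -/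
theorem result {X S : Scheme.{u}} (f : X ⟶ S)
    [IsNoetherian S] [IrreducibleSpace S] [IrreducibleSpace X] [IsDominant f]
    [LocallyOfFiniteType f] [QuasiCompact f] :
    ∃ U : S.Opens, genericPoint S ∈ U ∧ ∀ s ∈ U, ∀ T ∈ irreducibleComponents ↥(⇑f ⁻¹' {s}),
      topologicalKrullDim ↥T = topologicalKrullDim ↥(⇑f ⁻¹' {genericPoint S}) := by
  haveI : IsLocallyNoetherian X := LocallyOfFiniteType.isLocallyNoetherian f
  haveI : CompactSpace X := QuasiCompact.compactSpace_of_compactSpace f
  haveI : IsNoetherian X := {}
  haveI : TopologicalSpace.NoetherianSpace X := inferInstance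
  have hξ : f (genericPoint X) = genericPoint S := by
    have h1 : IsGenericPoint (f (genericPoint X)) (closure (f '' Set.univ)) :=
      (genericPoint_spec X).image f.continuous
    rw [Set.image_univ, f.denseRange.closure_range] at h1
    exact (h1.eq (genericPoint_spec S))
  have hgen : ∀ y : S, f (genericPoint X) ⤳ y := fun y => by
    rw [hξ]; exact genericPoint_specializes y
  obtain ⟨U, hU1, hU2⟩ :=
    Groth.Agent.Lib.Helper22.GenericFibreDim.exists_open_forall_dim_irreducibleComponent_fiber_eq
      f hgen
  have hdimη : topologicalKrullDim ↥(⇑f ⁻¹' {genericPoint S}) =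
      ((Groth.Agent.Lib.Helper73.resTrdegNat f (genericPoint X) : ℕ) : WithBot ℕ∞) := by
    rw [← Groth.Agent.Lib.Helper22.GenericFibreDim.topologicalKrullDim_fiber_genericPoint f, hξ]
    exact (IsHomeomorph.topologicalKrullDim_eq _
      (f.fiberHomeo (genericPoint S)).isHomeomorph).symm
  refine ⟨U, hξ ▸ hU1, fun s hs T hT => ?_⟩
  rw [hdimη]
  obtain ⟨h1, h2⟩ := Groth.Agent.Lib.Helper22.FlatDim.image_mem_irreducibleComponents_of_homeomorph
    (f.fiberHomeo s).symm T hT
  rw [← h2]
  exact hU2 s hs _ h1

end Groth.Agent.S4781
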