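import Groth.Statements.S4784
import Groth.Agent.Lib.Helper50.LimFib

set_option autoImplicit false
universe u
open CategoryTheory AlgebraicGeometry
open Lim8

namespace Groth.Agent.S4784

/-- Let S = lim S_i be a cofiltered limit of schemes with affine transition maps and let i be an index.
Then the image of the projection S ⟶ S_i equals the intersection, over all indices j over i, of the
images of the transition maps S_j ⟶ S_i. -/
theorem result {I : Type u} [SmallCategory I] [IsCofiltered I]
    (D : I ⥤ Scheme.{u}) (c : Limits.Cone D) (hc : Limits.IsLimit c)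
    [∀ (i j : I) (f : i ⟶ j), IsAffineHom (D.map f)] (i : I) :
    Set.range ⇑(c.π.app i) = ⋂ (j : I) (φ : j ⟶ i), Set.range ⇑(D.map φ) := by
  ext x
  simp only [Set.mem_iInter, Set.mem_range]
  constructor
  · rintro ⟨s, rfl⟩ j φ
    exact ⟨c.π.app j s, by rw [← Scheme.Hom.comp_apply, c.w]⟩
  · intro hx
    have hne : ∀ (j : I) (φ : j ⟶ i),
        Nonempty ↑(Limits.pullback (D.map φ) ((D.obj i).fromSpecResidueField x)) := by
      intro j φ
      obtain ⟨y, hy⟩ := hx j φ
      have pt : Spec ((D.obj i).residueField x) := Nonempty.some inferInstance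
      obtain ⟨z, -, -⟩ := Scheme.Pullback.exists_preimage_pullback
        (f := D.map φ) (g := (D.obj i).fromSpecResidueField x) y pt
        (by rw [hy, Scheme.fromSpecResidueField_apply])
      exact ⟨z⟩
    obtain ⟨s, t, hst⟩ := Lib.Helper50.exists_π_app_eq_of_forall_nonempty_pullback D c hc
      ((D.obj i).fromSpecResidueField x) hne
    exact ⟨s, hst.trans (Scheme.fromSpecResidueField_apply _ _)⟩

end Groth.Agent.S4784
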