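import Groth.Statements.S4783
import Groth.Agent.S4771
import Groth.Agent.S4784
import Groth.Agent.Lib.Helper50.LimRedOI
import Groth.Agent.Lib.Helper50.LimRed
import Groth.Agent.Lib.Helper50.LimOI
import Groth.Agent.Lib.Helper50.TopGen
import Mathlib.AlgebraicGeometry.Noetherian

set_option autoImplicit false
universe u
open CategoryTheory AlgebraicGeometry
open Lim8

namespace Groth.Agent.S4783

/-- Let S = lim S_i be a cofiltered limit of schemes whose transition maps are open immersions (in
particular affine), and let S_{i₀} be a Noetherian stage. Then S is integral if and only if there is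
an index i over i₀ such that S_j is integral for every j over i. -/
theorem result {I : Type u} [SmallCategory I] [IsCofiltered I]
    (D : I ⥤ Scheme.{u}) (c : Limits.Cone D) (hc : Limits.IsLimit c)
    [∀ (i j : I) (f : i ⟶ j), IsAffineHom (D.map f)] (i₀ : I)
    [IsNoetherian (D.obj i₀)] (hoi : ∀ (i j : I) (φ : i ⟶ j), IsOpenImmersion (D.map φ)) :
    IsIntegral c.pt ↔ ∃ (i : I) (_ : i ⟶ i₀), ∀ (j : I) (_ : j ⟶ i), IsIntegral (D.obj j) := by
  classical
  have hN : ∀ U : (D.obj i₀).affineOpens, (nilradical Γ(D.obj i₀, U)).FG := by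
    intro U
    have : IsNoetherianRing Γ(D.obj i₀, U) := IsLocallyNoetherian.component_noetherian U
    exact IsNoetherian.noetherian _
  constructor
  · intro hint
    obtain ⟨i₁, f₁, h₁⟩ :=
      Lib.Helper50.exists_forall_isReduced_of_isOpenImmersion D c hc i₀ hoi hN
    have hfin : (irreducibleComponents (D.obj i₀)).Finite :=
      TopologicalSpace.NoetherianSpace.finite_irreducibleComponents
    have hgen : ∀ x ∈ Set.range ⇑(c.π.app i₀), ∀ y, y ⤳ x → y ∈ Set.range ⇑(c.π.app i₀) := by
      rintro _ ⟨s, rfl⟩ y hy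
      rw [Groth.Agent.S4784.result D c hc i₀]
      simp only [Set.mem_iInter]
      intro j φ
      have := hoi j i₀ φ
      exact hy.mem_open (D.map φ).isOpenEmbedding.isOpen_range
        ⟨c.π.app j s, by rw [← Scheme.Hom.comp_apply, c.w]⟩
    obtain ⟨O, hO, hPO, hOT⟩ :=
      Lib.Helper50.exists_isOpen_subset_closure_of_stableUnderGeneralization hfin _ hgen
    have hTirr : IsIrreducible (closure (Set.range ⇑(c.π.app i₀))) := by
      rw [← Set.image_univ]
      exact ((IrreducibleSpace.isIrreducible_univ c.pt).image _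
        (c.π.app i₀).continuous.continuousOn).closure
    have htop : IsCompact ((⊤ : (D.obj i₀).Opens) : Set (D.obj i₀)) := isCompact_univ
    have H : c.π.app i₀ ⁻¹ᵁ ⊤ ≤ c.π.app i₀ ⁻¹ᵁ ⟨O, hO⟩ := fun x _ ↦ hPO ⟨x, rfl⟩
    obtain ⟨i₂, f₂, h₂⟩ := Lib.Helper50.exists_forall_map_preimage_le D c hc htop H
    obtain ⟨k, a, b, hab⟩ := IsCofiltered.cospan f₁ f₂
    refine ⟨k, a ≫ f₁, fun j g ↦ ?_⟩
    have hred := h₁ j (g ≫ a)
    have hsub := h₂ j (g ≫ b)
    generalize (g ≫ b) ≫ f₂ = φ at hsub
    have := hoi j i₀ φ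
    have hirr : IrreducibleSpace (D.obj j) := by
      rw [irreducibleSpace_def]
      have hne : (closure (Set.range ⇑(c.π.app i₀)) ∩ Set.range ⇑(D.map φ)).Nonempty := by
        obtain ⟨s⟩ := (inferInstance : Nonempty c.pt)
        exact ⟨c.π.app i₀ s, subset_closure ⟨s, rfl⟩, c.π.app j s,
          by rw [← Scheme.Hom.comp_apply, c.w]⟩
      have hpre := hTirr.preimage (D.map φ).isOpenEmbedding hne
      have huniv : ⇑(D.map φ) ⁻¹' closure (Set.range ⇑(c.π.app i₀)) = Set.univ := by
        rw [Set.eq_univ_iff_forall]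
        intro y
        exact hOT (hsub (show y ∈ D.map φ ⁻¹ᵁ ⊤ from trivial))
      rwa [huniv] at hpre
    exact isIntegral_of_irreducibleSpace_of_isReduced _
  · rintro ⟨i, fi, hi⟩
    rw [isIntegral_iff_irreducibleSpace_and_isReduced]
    constructor
    · have haff : ∀ (j k : Over i) (f : j ⟶ k), IsAffineHom ((Over.forget i ⋙ D).map f) := by
        intro j k f
        dsimp
        infer_instance
      have hcpt : CompactSpace ((Over.forget i ⋙ D).obj (Over.mk (𝟙 i))) :=
        Lib.Helper50.compactSpace_of_hom D fi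
      have hnoeth : TopologicalSpace.NoetherianSpace
          ((Limits.Cone.whisker (Over.forget i) c).pt) :=
        (Lib.Helper50.isInducing_π_app_of_isOpenImmersion D c hc hoi i₀).noetherianSpace
      have hd : ∀ (j k : Over i) (φ : j ⟶ k), IsDominant ((Over.forget i ⋙ D).map φ) := by
        intro j k φ
        have := hoi j.left k.left φ.left
        have hk := hi k.left k.hom
        have hj := hi j.left j.hom
        refine ⟨?_⟩
        change Dense (Set.range ⇑(D.map φ.left))
        exact (D.map φ.left).isOpenEmbedding.isOpen_range.dense (Set.range_nonempty _)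
      refine (Groth.Agent.S4771.result (Over.forget i ⋙ D) (Limits.Cone.whisker (Over.forget i) c)
        ((Functor.Initial.isLimitWhiskerEquiv (Over.forget i) c).symm hc) (Over.mk (𝟙 i)) hd).mpr
        ⟨Over.mk (𝟙 i), 𝟙 _, fun j _ ↦ ?_⟩
      have := hi j.left j.hom
      change IrreducibleSpace (D.obj j.left)
      infer_instance
    · by_contra hcon
      obtain ⟨i', hi'⟩ := Lib.Helper50.exists_forall_not_isReduced D c hc hcon
      have := hi _ (IsCofiltered.minToLeft i i')
      exact hi' _ (IsCofiltered.minToRight i i') inferInstance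

end Groth.Agent.S4783
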