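import Groth.Statements.S4786
import Mathlib
import Groth.Agent.S4764
import Groth.Agent.Lib.Helper46.ProConsClosure

set_option autoImplicit false
universe u
open CategoryTheory AlgebraicGeometry
open Lim8

namespace Groth.Agent.S4786

/-- Let S = lim S_i be a cofiltered limit of schemes whose transition maps are affine and flat, let
S_{i₁} be a quasi-compact stage, and let Z' and Z'' be pro-constructible subsets of S_{i₁} such that
the closure of Z' is constructible. Then the preimage of Z'' in S is contained in the closure of the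
preimage of Z' in S if and only if there is an index j over i₁ such that the preimage of Z'' in S_j
is contained in the closure of the preimage of Z' in S_j. -/
theorem result {I : Type u} [SmallCategory I] [IsCofiltered I]
    (D : I ⥤ Scheme.{u}) (c : Limits.Cone D) (hc : Limits.IsLimit c)
    [∀ (i j : I) (f : i ⟶ j), IsAffineHom (D.map f)] (i₁ : I) [CompactSpace (D.obj i₁)]
    (hfl : ∀ (i j : I) (φ : i ⟶ j), Flat (D.map φ))
    (Z' Z'' : Set (D.obj i₁)) (hZ' : ProCons.IsProConstructible Z') (hZ'' : ProCons.IsProConstructible Z'')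
    (hcl : Topology.IsConstructible (closure Z')) :
    (⇑(c.π.app i₁) ⁻¹' Z'' : Set c.pt) ⊆ closure (⇑(c.π.app i₁) ⁻¹' Z' : Set c.pt) ↔
      ∃ (j : I) (φ : j ⟶ i₁), ⇑(D.map φ) ⁻¹' Z'' ⊆ closure (⇑(D.map φ) ⁻¹' Z') := by
  classical
  haveI hπflat : Flat (c.π.app i₁) := Groth.Agent.S4764.result D c hc i₁ (fun j φ => hfl j i₁ φ)
  have hπ : GeneralizingMap (c.π.app i₁).base := Flat.generalizingMap (c.π.app i₁)
  have hFind : ProCons.IsIndConstructible (closure Z') :=
    Groth.Agent.Lib.Helper36.isIndConstructible_of_isLocallyConstructible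
      hcl.isLocallyConstructible
  have e1 := Groth.Agent.Lib.Helper46.preimage_closure_eq_of_isProConstructible
    (c.π.app i₁) hπ hZ'
  have e2 : ∀ (j : I) (φ : j ⟶ i₁), (D.map φ).base ⁻¹' closure Z' =
      closure ((D.map φ).base ⁻¹' Z') := fun j φ => by
    haveI := hfl j i₁ φ
    exact Groth.Agent.Lib.Helper46.preimage_closure_eq_of_isProConstructible
      (D.map φ) (Flat.generalizingMap (D.map φ)) hZ'
  constructor
  · intro h
    have h' : (c.π.app i₁).base ⁻¹' Z'' ⊆ (c.π.app i₁).base ⁻¹' closure Z' := by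
      rw [e1]; exact h
    obtain ⟨j, φ, hφ⟩ := Groth.Agent.Lib.Helper46.exists_stage_preimage_subset D c hc i₁
      hZ'' hFind h'
    refine ⟨j, φ, ?_⟩
    have := e2 j φ
    exact hφ.trans this.subset
  · rintro ⟨j, φ, hφ⟩
    have hφ' : (D.map φ).base ⁻¹' Z'' ⊆ (D.map φ).base ⁻¹' closure Z' :=
      hφ.trans (e2 j φ).symm.subset
    refine Set.Subset.trans ?_ e1.subset
    intro x hx
    have e : (c.π.app i₁).base x = (D.map φ).base ((c.π.app j).base x) := by
      rw [← Scheme.Hom.comp_apply, c.w φ]
    change (c.π.app i₁).base x ∈ closure Z'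
    rw [e]
    refine hφ' ?_
    change (D.map φ).base ((c.π.app j).base x) ∈ Z''
    rw [← e]
    exact hx

end Groth.Agent.S4786
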