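import Groth.Statements.S4814
import Groth.Agent.Lib.Helper40.ExtFP3
import Groth.Agent.Lib.Helper40.LimStage3

set_option autoImplicit false
universe u
open CategoryTheory AlgebraicGeometry
open Lim8

namespace Groth.Agent.S4814

open Groth.Agent.Lib.Helper40.LimStage Groth.Agent.Lib.Helper40.HomColim
  Groth.Agent.Lib.Helper40.ExtFP CategoryTheory.Limits

/-- Let S = lim S_i be a cofiltered limit of schemes with affine transition maps and S_{i₀} a
quasi-compact quasi-separated stage; let F₀ be a quasi-coherent O-module of finite presentation on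
S_{i₀}, F its pullback to S, and p : F ⟶ G a surjective homomorphism onto a quasi-coherent
O_S-module of finite presentation. Then for some index j over i₀ there are a quasi-coherent O-module
of finite presentation G_j on S_j and a surjective homomorphism p_j : F_j ⟶ G_j from the pullback
F_j of F₀, together with an isomorphism from the pullback of G_j to S onto G which carries the
pullback of p_j (transported along the canonical identification of the pullback of F_j with F) to p.
Every quotient of finite presentation of F thus comes from a quotient of finite presentation of some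
F_j. -/
theorem result {I : Type u} [SmallCategory I] [IsCofiltered I]
    (D : I ⥤ Scheme.{u}) (c : Limits.Cone D) (hc : Limits.IsLimit c)
    [∀ (i j : I) (f : i ⟶ j), IsAffineHom (D.map f)] (i₀ : I)
    [CompactSpace (D.obj i₀)] [QuasiSeparatedSpace (D.obj i₀)]
    (F₀ : (D.obj i₀).Modules) [Coh.IsQCoh F₀] (hF₀ : CohB1.IsFP F₀)
    {G : c.pt.Modules} [Coh.IsQCoh G] (hG : CohB1.IsFP G) (p : (Scheme.Modules.pullback (c.π.app i₀)).obj F₀ ⟶ G) [Epi p] :
    ∃ (j : I) (φ : j ⟶ i₀) (Gj : (D.obj j).Modules) (_ : Coh.IsQCoh Gj) (pj : (Scheme.Modules.pullback (D.map φ)).obj F₀ ⟶ Gj)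
      (e : (Scheme.Modules.pullback (c.π.app j)).obj Gj ≅ G),
      CohB1.IsFP Gj ∧ Epi pj ∧
        ((Scheme.Modules.pullbackComp (c.π.app j) (D.map φ) ≪≫ Scheme.Modules.pullbackCongr (c.w φ)).app F₀).inv ≫
          (Scheme.Modules.pullback (c.π.app j)).map pj ≫ e.hom = p := by
  haveI : IsAffineHom (c.π.app i₀) := isAffineHom_π_app D c hc i₀
  have hFfp : CohB1.IsFP ((Scheme.Modules.pullback (c.π.app i₀)).obj F₀) :=
    Groth.Agent.Lib.Helper40.FPKer.isFinitePresentation_pullback _ F₀ hF₀
  have hFft : CohB1.IsFT ((Scheme.Modules.pullback (c.π.app i₀)).obj F₀) := by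
    haveI := hFfp
    infer_instance
  -- the kernel
  haveI hKq : (kernel p).IsQuasicoherent :=
    Groth.Agent.Lib.Helper21.QCohKernel.isQuasicoherent_kernel p
  have hKft : CohB1.IsFT (kernel p) :=
    Groth.Agent.Lib.Helper40.FPKer.isFiniteType_kernel_of_epi p hFft hG
  obtain ⟨F₁, ψ, hF₁q, hF₁fp, hψ⟩ := exists_fp_pullback_epi (c.π.app i₀) (kernel p) hKft
  haveI := hF₁q
  haveI := hF₁fp
  haveI := hψ
  let h : (Scheme.Modules.pullback (c.π.app i₀)).obj F₁ ⟶
      (Scheme.Modules.pullback (c.π.app i₀)).obj F₀ := ψ ≫ kernel.ι p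
  obtain ⟨j, φ, hj, hhj⟩ := exists_hom_stage D c hc i₀ F₀ F₁ h
  set cF₁ := (Scheme.Modules.pullbackComp (c.π.app j) (D.map φ) ≪≫
    Scheme.Modules.pullbackCongr (c.w φ)).app F₁ with hcF₁
  set cF₀ := (Scheme.Modules.pullbackComp (c.π.app j) (D.map φ) ≪≫
    Scheme.Modules.pullbackCongr (c.w φ)).app F₀ with hcF₀
  let Φ := Scheme.Modules.pullback (c.π.app j)
  -- the stage quotient
  have hF₁j : CohB1.IsFT ((Scheme.Modules.pullback (D.map φ)).obj F₁) := by
    haveI := Groth.Agent.Lib.Helper40.FPKer.isFinitePresentation_pullback (D.map φ) F₁ hF₁fp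
    infer_instance
  have hF₀j : CohB1.IsFP ((Scheme.Modules.pullback (D.map φ)).obj F₀) :=
    Groth.Agent.Lib.Helper40.FPKer.isFinitePresentation_pullback (D.map φ) F₀ hF₀
  have hGjq : (cokernel hj).IsQuasicoherent :=
    Groth.Agent.Lib.Helper21.QCohKernel.isQuasicoherent_cokernel hj
  have hGjfp : CohB1.IsFP (cokernel hj) := isFinitePresentation_cokernel hj hF₁j hF₀j
  -- right exactness
  have hR1 : RExact hj (cokernel.π hj) := by
    rw [rexact_iff_isIso hj (cokernel.π hj) (cokernel.condition hj)]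
    have : cokernel.desc hj (cokernel.π hj) (cokernel.condition hj) = 𝟙 _ := by
      apply coequalizer.hom_ext
      simp
    rw [this]
    infer_instance
  have hR2 : RExact (Φ.map hj) (Φ.map (cokernel.π hj)) := RExact.map Φ _ _ hR1
  have hw : h ≫ p = 0 := by
    simp only [h, Category.assoc, kernel.condition, comp_zero]
  have hR3 : RExact h p := by
    refine ⟨hw, ?_, inferInstance⟩
    rw [ShortComplex.exact_iff_epi_kernel_lift]
    have : kernel.lift p h hw = ψ := by
      apply (cancel_mono (kernel.ι p)).1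
      rw [kernel.lift_ι]
    change Epi (kernel.lift p h hw)
    rw [this]
    infer_instance
  have w₂ := hR2.1
  haveI i2 := (rexact_iff_isIso _ _ w₂).1 hR2
  haveI i3 := (rexact_iff_isIso _ _ hw).1 hR3
  have hcomm : Φ.map hj ≫ cF₀.hom = cF₁.hom ≫ h := by
    rw [← hhj]
    simp
    rfl
  let e : Φ.obj (cokernel hj) ≅ G :=
    (asIso (cokernel.desc (Φ.map hj) (Φ.map (cokernel.π hj)) w₂)).symm ≪≫
      cokernel.mapIso (Φ.map hj) h cF₁ cF₀ hcomm ≪≫ asIso (cokernel.desc h p hw)
  refine ⟨j, φ, cokernel hj, hGjq, cokernel.π hj, e, hGjfp, inferInstance, ?_⟩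
  have h1 : Φ.map (cokernel.π hj) ≫
      inv (cokernel.desc (Φ.map hj) (Φ.map (cokernel.π hj)) w₂) = cokernel.π (Φ.map hj) := by
    rw [IsIso.comp_inv_eq, cokernel.π_desc]
  have h2 : Φ.map (cokernel.π hj) ≫ e.hom = cF₀.hom ≫ p := by
    simp only [e, Iso.trans_hom, Iso.symm_hom, asIso_inv, asIso_hom, cokernel.mapIso_hom]
    rw [reassoc_of% h1]
    simp
  change cF₀.inv ≫ Φ.map (cokernel.π hj) ≫ e.hom = p
  rw [h2, Iso.inv_hom_id_assoc]

end Groth.Agent.S4814
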