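import Groth.Statements.S4790
import Groth.Agent.Lib.Helper40.HomColim5
import Groth.Agent.Lib.Helper40.LimStage2

set_option autoImplicit false
universe u
open CategoryTheory AlgebraicGeometry
open Lim8

namespace Groth.Agent.S4790

open Groth.Agent.Lib.Helper40.LimStage

/-- Let S = lim S_i be a cofiltered limit of schemes with affine transition maps and S_{i₀} a
quasi-compact quasi-separated stage; let F₀ and G₀ be quasi-coherent O-modules of finite
presentation on S_{i₀}. Then the pullbacks of F₀ and G₀ along S ⟶ S_{i₀} are isomorphic if and only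
if, for some index j over i₀, their pullbacks along S_j ⟶ S_{i₀} are isomorphic. -/
theorem result {I : Type u} [SmallCategory I] [IsCofiltered I]
    (D : I ⥤ Scheme.{u}) (c : Limits.Cone D) (hc : Limits.IsLimit c)
    [∀ (i j : I) (f : i ⟶ j), IsAffineHom (D.map f)] (i₀ : I) [CompactSpace (D.obj i₀)]
    [QuasiSeparatedSpace (D.obj i₀)] (F₀ G₀ : (D.obj i₀).Modules)
    [Coh.IsQCoh F₀] (hF₀fp : CohB1.IsFP F₀)
    [Coh.IsQCoh G₀] (hG₀fp : CohB1.IsFP G₀) :
    Nonempty ((Scheme.Modules.pullback (c.π.app i₀)).obj F₀ ≅ (Scheme.Modules.pullback (c.π.app i₀)).obj G₀) ↔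
      ∃ (j : I) (φ : j ⟶ i₀),
        Nonempty ((Scheme.Modules.pullback (D.map φ)).obj F₀ ≅ (Scheme.Modules.pullback (D.map φ)).obj G₀) := by
  constructor
  · rintro ⟨e⟩
    haveI : SheafOfModules.IsFinitePresentation (R := (D.obj i₀).ringCatSheaf) F₀ := hF₀fp
    obtain ⟨j, φ, hj, hhj⟩ :=
      Groth.Agent.Lib.Helper40.HomColim.exists_hom_stage D c hc i₀ G₀ F₀ e.hom
    haveI : CompactSpace (D.obj j) := QuasiCompact.compactSpace_of_compactSpace (D.map φ)
    have hFj : CohB1.IsFP ((Scheme.Modules.pullback (D.map φ)).obj F₀) :=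
      Groth.Agent.Lib.Helper40.FPKer.isFinitePresentation_pullback (D.map φ) F₀ hF₀fp
    have hGj : CohB1.IsFP ((Scheme.Modules.pullback (D.map φ)).obj G₀) :=
      Groth.Agent.Lib.Helper40.FPKer.isFinitePresentation_pullback (D.map φ) G₀ hG₀fp
    have hFj' : CohB1.IsFT ((Scheme.Modules.pullback (D.map φ)).obj F₀) := by
      haveI := hFj
      exact inferInstanceAs (SheafOfModules.IsFiniteType (R := (D.obj j).ringCatSheaf) _)
    have hiso : IsIso ((Scheme.Modules.pullback (c.π.app j)).map hj) := by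
      have h2 : (Scheme.Modules.pullback (c.π.app j)).map hj =
          ((pullIso D c i₀ φ).app F₀).hom ≫ e.hom ≫ ((pullIso D c i₀ φ).app G₀).inv := by
        rw [← hhj]
        simp [pullIso]
      rw [h2]
      infer_instance
    obtain ⟨j', ψ, hj'⟩ := exists_stage_isIso D c hc j hFj' hGj hj hiso
    refine ⟨j', ψ ≫ φ, ⟨?_⟩⟩
    haveI := hj'
    exact ((Scheme.Modules.pullbackComp (D.map ψ) (D.map φ) ≪≫
      Scheme.Modules.pullbackCongr (D.map_comp ψ φ).symm).app F₀).symm ≪≫
      asIso ((Scheme.Modules.pullback (D.map ψ)).map hj) ≪≫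
      (Scheme.Modules.pullbackComp (D.map ψ) (D.map φ) ≪≫
        Scheme.Modules.pullbackCongr (D.map_comp ψ φ).symm).app G₀
  · rintro ⟨j, φ, ⟨e⟩⟩
    exact ⟨((pullIso D c i₀ φ).app F₀).symm ≪≫ (Scheme.Modules.pullback (c.π.app j)).mapIso e ≪≫
      (pullIso D c i₀ φ).app G₀⟩

end Groth.Agent.S4790
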