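import Groth.Statements.S4791
import Groth.Agent.Lib.Helper40.LimLocFree2

set_option autoImplicit false
universe u
open CategoryTheory AlgebraicGeometry
open Lim8

namespace Groth.Agent.S4791

open Groth.Agent.Lib.Helper40.LimLocFree CategoryTheory.Limits

/-- Let S = lim S_i be a cofiltered limit of schemes with affine transition maps, S_{i₀} a quasi-compact
stage and F₀ a quasi-coherent O-module of finite presentation on S_{i₀}. Then the pullback of F₀
along S ⟶ S_{i₀} is (finite) locally free if and only if, for some index j over i₀, the pullback of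
F₀ along S_j ⟶ S_{i₀} is locally free. This is the case of locally free modules. -/
theorem result {I : Type u} [SmallCategory I] [IsCofiltered I]
    (D : I ⥤ Scheme.{u}) (c : Limits.Cone D) (hc : Limits.IsLimit c)
    [∀ (i j : I) (f : i ⟶ j), IsAffineHom (D.map f)] (i₀ : I) [CompactSpace (D.obj i₀)]
    (F₀ : (D.obj i₀).Modules) [Coh.IsQCoh F₀] (hF₀fp : CohB1.IsFP F₀) :
    FlatMod.IsFinLocFree ((Scheme.Modules.pullback (c.π.app i₀)).obj F₀) ↔
      ∃ (j : I) (φ : j ⟶ i₀), FlatMod.IsFinLocFree ((Scheme.Modules.pullback (D.map φ)).obj F₀) := by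
  constructor
  · intro h
    let B' : Over i₀ ⥤ Scheme.{u} := Over.forget i₀ ⋙ D
    let b' : Cone B' := c.whisker (Over.forget i₀)
    have hb' : IsLimit b' := (Functor.Initial.isLimitWhiskerEquiv (Over.forget i₀) c).symm hc
    haveI : ∀ {j k : Over i₀} (φ : j ⟶ k), IsAffineHom (B'.map φ) := fun {j k} φ => by
      dsimp [B']; infer_instance
    haveI hcpt : CompactSpace (D.obj i₀) := inferInstance
    haveI : CompactSpace (B'.obj (Over.mk (𝟙 i₀))) := hcpt
    obtain ⟨j, _, hj⟩ := exists_stage_isFinLocFree B' b' hb' (fun j => D.map j.hom)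
      (fun {j k} φ => by
        change D.map φ.left ≫ D.map k.hom = D.map j.hom
        rw [← D.map_comp, Over.w])
      (c.π.app i₀) (fun j => c.w j.hom) F₀ hF₀fp (Over.mk (𝟙 i₀)) h
    exact ⟨j.left, j.hom, hj⟩
  · rintro ⟨j, φ, h⟩
    exact isFinLocFree_pullback_comp F₀ (c.π.app j) (D.map φ) (c.π.app i₀) (c.w φ) h

end Groth.Agent.S4791
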