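import Groth.Statements.S4796
import Groth.Agent.Lib.Helper90.FibInj4

set_option autoImplicit false
universe u
open TensorProduct
open Cons9

namespace Groth.Agent.S4796

section reduction

variable {R B : Type u} [CommRing R] [CommRing B] [Algebra R B]
  {F G H : Type u} [AddCommGroup F] [Module B F] [Module R F] [IsScalarTower R B F]
  [AddCommGroup G] [Module B G] [Module R G] [IsScalarTower R B G]
  [AddCommGroup H] [Module B H] [Module R H] [IsScalarTower R B H]

/-- Fibrewise exactness of `F → G → H` is the conjunction of two fibrewise injectivity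
conditions on maps between cokernels. -/
theorem exact_baseChange_iff (u : F →ₗ[B] G) (v : G →ₗ[B] H)
    (hWT : LinearMap.range u ≤ (LinearMap.range (v ∘ₗ u)).comap v)
    (κ : Type u) [CommRing κ] [Algebra R κ] :
    Function.Exact ((u.restrictScalars R).baseChange κ) ((v.restrictScalars R).baseChange κ) ↔
      Function.Injective (((LinearMap.range (v ∘ₗ u)).mkQ.restrictScalars R).baseChange κ) ∧
      Function.Injective ((((LinearMap.range u).mapQ (LinearMap.range (v ∘ₗ u)) v
        hWT).restrictScalars R).baseChange κ) := by
  set W : Submodule B G := LinearMap.range u with hW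
  set T : Submodule B H := LinearMap.range (v ∘ₗ u) with hT
  set uR := u.restrictScalars R with huR
  set vR := v.restrictScalars R with hvR
  set q : G →ₗ[R] (G ⧸ W) := W.mkQ.restrictScalars R with hq
  set π : H →ₗ[R] (H ⧸ T) := T.mkQ.restrictScalars R with hπ
  set vb : (G ⧸ W) →ₗ[R] (H ⧸ T) := (W.mapQ T v hWT).restrictScalars R with hvb
  have hqsurj : Function.Surjective q := W.mkQ_surjective
  have hπsurj : Function.Surjective π := T.mkQ_surjective
  have hexq0 : Function.Exact uR q := by
    intro y
    show W.mkQ y = 0 ↔ y ∈ Set.range u
    rw [Submodule.mkQ_apply, Submodule.Quotient.mk_eq_zero]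
    rfl
  have hexπ0 : Function.Exact (vR ∘ₗ uR) π := by
    intro y
    show T.mkQ y = 0 ↔ y ∈ Set.range (v ∘ₗ u)
    rw [Submodule.mkQ_apply, Submodule.Quotient.mk_eq_zero]
    rfl
  have hcomm : vb ∘ₗ q = π ∘ₗ vR := by
    ext x
    rfl
  have hexq : Function.Exact (uR.baseChange κ) (q.baseChange κ) := lTensor_exact κ hexq0 hqsurj
  have hexπ : Function.Exact ((vR ∘ₗ uR).baseChange κ) (π.baseChange κ) :=
    lTensor_exact κ hexπ0 hπsurj
  have hqκ : Function.Surjective (q.baseChange κ) := LinearMap.lTensor_surjective κ hqsurj
  have hc : ∀ y, vb.baseChange κ (q.baseChange κ y) = π.baseChange κ (vR.baseChange κ y) := by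
    intro y
    rw [← LinearMap.comp_apply, ← LinearMap.baseChange_comp, hcomm, LinearMap.baseChange_comp,
      LinearMap.comp_apply]
  have hvu : ∀ x, (vR ∘ₗ uR).baseChange κ x = vR.baseChange κ (uR.baseChange κ x) := by
    intro x
    rw [LinearMap.baseChange_comp, LinearMap.comp_apply]
  constructor
  · intro hex
    have hπinj : Function.Injective (π.baseChange κ) := by
      rw [injective_iff_map_eq_zero]
      intro y hy
      obtain ⟨x, rfl⟩ := (hexπ y).1 hy
      rw [hvu]
      exact hex.apply_apply_eq_zero x
    refine ⟨hπinj, ?_⟩
    rw [injective_iff_map_eq_zero]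
    intro z hz
    obtain ⟨y, rfl⟩ := hqκ z
    rw [hc] at hz
    have hvy : vR.baseChange κ y = 0 := hπinj (by rw [hz, map_zero])
    obtain ⟨x, rfl⟩ := (hex y).1 hvy
    exact hexq.apply_apply_eq_zero x
  · rintro ⟨hπinj, hvbinj⟩ y
    constructor
    · intro hy
      apply (hexq y).1
      apply hvbinj
      rw [hc, hy, map_zero, map_zero]
    · rintro ⟨x, rfl⟩
      apply hπinj
      rw [map_zero, ← hvu]
      exact hexπ.apply_apply_eq_zero x

end reduction

/-- Let R be a commutative ring, B an R-algebra of finite presentation, F, G, H three B-modules of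
finite presentation and u : F → G, v : G → H homomorphisms of B-modules. Then the set of prime
ideals p of R for which the sequence of fibres κ(p) ⊗_R F → κ(p) ⊗_R G → κ(p) ⊗_R H is exact is a
constructible subset of Spec R. Affine form: S = Spec R, X = Spec B with B a finitely presented
R-algebra, the modules finitely presented B-modules, and the fibre of a module M at a prime p taken
as κ(p) ⊗_R M; the published statement, for a morphism of finite presentation and quasi-coherent
modules of finite presentation, is local on S and on X and reduces to this one. -/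
theorem result {R B : Type u} [CommRing R] [CommRing B] [Algebra R B] [Algebra.FinitePresentation R B]
    {F G H : Type u} [AddCommGroup F] [Module B F] [Module R F] [IsScalarTower R B F] [Module.FinitePresentation B F]
    [AddCommGroup G] [Module B G] [Module R G] [IsScalarTower R B G] [Module.FinitePresentation B G]
    [AddCommGroup H] [Module B H] [Module R H] [IsScalarTower R B H] [Module.FinitePresentation B H]
    (u : F →ₗ[B] G) (v : G →ₗ[B] H) :
    Topology.IsConstructible {p : PrimeSpectrum R |
      Function.Exact ((u.restrictScalars R).baseChange p.asIdeal.ResidueField) ((v.restrictScalars R).baseChange p.asIdeal.ResidueField)} := by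
  classical
  have hWT : LinearMap.range u ≤ (LinearMap.range (v ∘ₗ u)).comap v := by
    rintro _ ⟨x, rfl⟩
    exact ⟨x, rfl⟩
  haveI : Module.FinitePresentation B (G ⧸ LinearMap.range u) :=
    Module.finitePresentation_of_surjective (LinearMap.range u).mkQ
      (LinearMap.range u).mkQ_surjective (by
        rw [Submodule.ker_mkQ, LinearMap.range_eq_map]
        exact Module.Finite.fg_top.map _)
  haveI : Module.FinitePresentation B (H ⧸ LinearMap.range (v ∘ₗ u)) :=
    Module.finitePresentation_of_surjective (LinearMap.range (v ∘ₗ u)).mkQ
      (LinearMap.range (v ∘ₗ u)).mkQ_surjective (by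
        rw [Submodule.ker_mkQ, LinearMap.range_eq_map]
        exact Module.Finite.fg_top.map _)
  have h1 := Groth.Agent.Lib.Helper90.FibInj.isConstructible_injective (R := R)
    (LinearMap.range (v ∘ₗ u)).mkQ
  have h2 := Groth.Agent.Lib.Helper90.FibInj.isConstructible_injective (R := R)
    ((LinearMap.range u).mapQ (LinearMap.range (v ∘ₗ u)) v hWT)
  have heq : {p : PrimeSpectrum R |
      Function.Exact ((u.restrictScalars R).baseChange p.asIdeal.ResidueField)
        ((v.restrictScalars R).baseChange p.asIdeal.ResidueField)} =
      {p : PrimeSpectrum R | Function.Injective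
        (((LinearMap.range (v ∘ₗ u)).mkQ.restrictScalars R).baseChange
          p.asIdeal.ResidueField)} ∩
      {p : PrimeSpectrum R | Function.Injective
        ((((LinearMap.range u).mapQ (LinearMap.range (v ∘ₗ u)) v hWT).restrictScalars R).baseChange
          p.asIdeal.ResidueField)} := by
    ext p
    exact exact_baseChange_iff u v hWT p.asIdeal.ResidueField
  rw [heq]
  exact h1.inter h2

end Groth.Agent.S4796
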