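import Groth.Statements.S4800
import Mathlib
import Groth.Agent.S4764
import Groth.Agent.Lib.Helper46.ProConsClosure
import Groth.Agent.Lib.Helper36.ProConsScheme2

set_option autoImplicit false
universe u
open CategoryTheory AlgebraicGeometry
open Lim8

namespace Groth.Agent.S4800

private lemma range_eq_preimage_of_isPullback {X Y X₀ Y₀ : Scheme.{u}} {qX : X ⟶ X₀} {f : X ⟶ Y}
    {f₀ : X₀ ⟶ Y₀} {qY : Y ⟶ Y₀} (hX : IsPullback qX f f₀ qY) :
    Set.range f.base = qY.base ⁻¹' Set.range f₀.base := by
  ext y
  constructor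
  · rintro ⟨x, rfl⟩
    refine ⟨qX.base x, ?_⟩
    rw [← Scheme.Hom.comp_apply, hX.w, Scheme.Hom.comp_apply]
  · rintro ⟨x₀, hx₀⟩
    obtain ⟨z, hz1, hz2⟩ := Scheme.Pullback.exists_preimage_pullback (f := f₀) (g := qY) x₀ y hx₀
    refine ⟨hX.isoPullback.inv.base z, ?_⟩
    rw [← Scheme.Hom.comp_apply, hX.isoPullback_inv_snd]
    exact hz2

private lemma isDominant_iff_of_flat {X Y X₀ Y₀ : Scheme.{u}} {qX : X ⟶ X₀} {f : X ⟶ Y}
    {f₀ : X₀ ⟶ Y₀} {qY : Y ⟶ Y₀} (hX : IsPullback qX f f₀ qY) [Flat qY] [QuasiCompact f₀] :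
    IsDominant f ↔ qY.base ⁻¹' closure (Set.range f₀.base) = Set.univ := by
  have hpro : ProCons.IsProConstructible (Set.range f₀.base) := by
    rw [← Set.image_univ]
    exact Groth.Agent.Lib.Helper36.scheme_isProConstructible_image f₀
      (Groth.Agent.Lib.Helper36.isProConstructible_of_isLocallyConstructible
        Topology.IsLocallyConstructible.univ)
  rw [Groth.Agent.Lib.Helper46.preimage_closure_eq_of_isProConstructible qY
    (Flat.generalizingMap qY) hpro, ← range_eq_preimage_of_isPullback hX, isDominant_iff,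
    DenseRange, dense_iff_closure_eq]

/-- Let S = lim S_i be a cofiltered limit of schemes whose transition maps are affine and flat, and
S_{i₀} a quasi-compact stage; let X₀ ⟶ S_{i₀} be quasi-compact, Y₀ ⟶ S_{i₀} quasi-compact and
quasi-separated, and f₀ : X₀ ⟶ Y₀ a morphism over S_{i₀} such that the closure of its image f₀(X₀)
is a constructible subset of Y₀. Let f : X ⟶ Y be the base change of f₀ along S ⟶ S_{i₀} (base
changes are expressed by pullback squares). Then f is dominant if and only if, for some index j over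
i₀ and the base change f_j : X_j ⟶ Y_j of f₀ along S_j ⟶ S_{i₀}, f_j is dominant. (The published
statement asks instead that the image f₀(X₀) itself be constructible, which is not enough: let R be
the ring of locally constant functions from the Cantor set to a field, take for stages the spectra
of the rings of locally constant functions on the clopen neighbourhoods of a point p, so that the
limit is the spectrum of the residue field at p, and take Y₀ = Spec R[t]/(m_p t) and X₀ its basic
open subset where t is invertible; the image of X₀ is constructible, the limit morphism is the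
inclusion of the punctured affine line into the affine line, which is dominant, and no stage
morphism is dominant. The published proof applies the criterion for a preimage to lie in the closure
of the preimage of a pro-constructible subset along a flat limit, whose hypothesis is that the
closure of that subset is constructible; the image f₀(X₀) is pro-constructible because f₀ is
quasi-compact, so constructibility of its closure is the hypothesis taken here.) -/
theorem result {I : Type u} [SmallCategory I] [IsCofiltered I]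
    (D : I ⥤ Scheme.{u}) (c : Limits.Cone D) (hc : Limits.IsLimit c)
    [∀ (i j : I) (f : i ⟶ j), IsAffineHom (D.map f)] (i₀ : I) [CompactSpace (D.obj i₀)]
    (hfl : ∀ (i j : I) (φ : i ⟶ j), Flat (D.map φ))
    {X₀ Y₀ : Scheme.{u}} (f₀ : X₀ ⟶ Y₀) (g₀ : Y₀ ⟶ D.obj i₀)
    [QuasiCompact (f₀ ≫ g₀)] [QuasiCompact g₀] [QuasiSeparated g₀]
    (hcl : Topology.IsConstructible (closure (Set.range ⇑f₀)))
    {X Y : Scheme.{u}} (f : X ⟶ Y) (g : Y ⟶ c.pt) (qY : Y ⟶ Y₀) (qX : X ⟶ X₀)
    (hY : IsPullback qY g g₀ (c.π.app i₀)) (hX : IsPullback qX f f₀ qY) :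
    IsDominant f ↔ ∃ (j : I) (φ : j ⟶ i₀) (Xj Yj : Scheme.{u}) (fj : Xj ⟶ Yj) (gj : Yj ⟶ D.obj j)
      (pY : Yj ⟶ Y₀) (pX : Xj ⟶ X₀), IsPullback pY gj g₀ (D.map φ) ∧ IsPullback pX fj f₀ pY ∧
      IsDominant fj := by
  classical
  haveI : CompactSpace Y₀ := QuasiCompact.compactSpace_of_compactSpace g₀
  haveI : QuasiCompact f₀ := QuasiCompact.of_comp f₀ g₀
  haveI hπflat : Flat (c.π.app i₀) := Groth.Agent.S4764.result D c hc i₀ (fun j φ => hfl j i₀ φ)
  haveI : Flat qY := MorphismProperty.of_isPullback (P := @Flat) hY.flip hπflat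
  rw [isDominant_iff_of_flat hX]
  have hCc : ProCons.IsProConstructible (closure (Set.range f₀.base))ᶜ :=
    Groth.Agent.Lib.Helper36.isProConstructible_of_isLocallyConstructible
      hcl.compl.isLocallyConstructible
  have hE' : ProCons.IsProConstructible (g₀.base '' (closure (Set.range f₀.base))ᶜ) :=
    Groth.Agent.Lib.Helper36.scheme_isProConstructible_image g₀ hCc
  have hempty_ind : ProCons.IsIndConstructible (∅ : Set (D.obj i₀)) :=
    Groth.Agent.Lib.Helper36.isIndConstructible_of_isLocallyConstructible
      Topology.IsLocallyConstructible.empty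
  constructor
  · intro h
    have h1 : (c.π.app i₀).base ⁻¹' (g₀.base '' (closure (Set.range f₀.base))ᶜ) ⊆
        (c.π.app i₀).base ⁻¹' (∅ : Set (D.obj i₀)) := by
      rintro x ⟨y₀, hy₀, hxy⟩
      obtain ⟨z, hz1, hz2⟩ := Scheme.Pullback.exists_preimage_pullback
        (f := g₀) (g := c.π.app i₀) y₀ x hxy
      have h2 : qY.base (hY.isoPullback.inv.base z) = y₀ := by
        rw [← Scheme.Hom.comp_apply, hY.isoPullback_inv_fst]
        exact hz1
      have h3 : hY.isoPullback.inv.base z ∈ qY.base ⁻¹' closure (Set.range f₀.base) := by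
        rw [h]; trivial
      rw [Set.mem_preimage, h2] at h3
      exact hy₀ h3
    obtain ⟨j, φ, hφ⟩ := Groth.Agent.Lib.Helper46.exists_stage_preimage_subset D c hc i₀
      hE' hempty_ind h1
    refine ⟨j, φ, Limits.pullback f₀ (Limits.pullback.fst g₀ (D.map φ)),
      Limits.pullback g₀ (D.map φ), Limits.pullback.snd _ _, Limits.pullback.snd _ _,
      Limits.pullback.fst _ _, Limits.pullback.fst _ _,
      IsPullback.of_hasPullback _ _, IsPullback.of_hasPullback _ _, ?_⟩
    haveI : Flat (D.map φ) := hfl j i₀ φ
    rw [isDominant_iff_of_flat (IsPullback.of_hasPullback _ _)]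
    rw [Set.eq_univ_iff_forall]
    intro y
    by_contra hy
    have h4 : (Limits.pullback.snd g₀ (D.map φ)).base y ∈
        (D.map φ).base ⁻¹' (g₀.base '' (closure (Set.range f₀.base))ᶜ) := by
      refine ⟨(Limits.pullback.fst g₀ (D.map φ)).base y, hy, ?_⟩
      rw [← Scheme.Hom.comp_apply, ← Scheme.Hom.comp_apply, Limits.pullback.condition]
    exact hφ h4
  · rintro ⟨j, φ, Xj, Yj, fj, gj, pY, pX, hpY, hpX, hdom⟩
    haveI : Flat (D.map φ) := hfl j i₀ φ
    haveI : Flat pY := MorphismProperty.of_isPullback (P := @Flat) hpY.flip inferInstance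
    rw [isDominant_iff_of_flat hpX] at hdom
    have w : qY ≫ g₀ = (g ≫ c.π.app j) ≫ D.map φ := by
      rw [Category.assoc, c.w φ]; exact hY.w
    have e : hpY.lift qY (g ≫ c.π.app j) w ≫ pY = qY := hpY.lift_fst _ _ _
    rw [Set.eq_univ_iff_forall]
    intro y
    have h5 : (hpY.lift qY (g ≫ c.π.app j) w).base y ∈
        pY.base ⁻¹' closure (Set.range f₀.base) := by
      rw [hdom]; trivial
    rw [Set.mem_preimage, ← Scheme.Hom.comp_apply, e] at h5
    exact h5

end Groth.Agent.S4800
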