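import Groth.Statements.S4802
import Groth.Agent.Lib.Helper78.GeomMor
import Groth.Agent.S0082
import Groth.Agent.S2582

set_option autoImplicit false
open CategoryTheory AlgebraicGeometry
universe u
open Cons9

namespace Groth.Agent.S4802

open Groth.Agent.Lib.Helper78.GeomMor Groth.Agent.Lib.Helper78.GeomPair
  Groth.Agent.Lib.Helper78.ConsMor

theorem isIndConsMor_isAffineHom : ConsProp.IsIndConsMor (PM.{u} @IsAffineHom) := by
  refine isIndConsMor_PM ?_ ?_ ?_
  · intro X Y X' Y' f f' a b sq hf
    exact MorphismProperty.of_isPullback (P := @IsAffineHom) sq hf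
  · have := Groth.Agent.S0082.result.{u}
    exact FpqcDescends.of_descendsAlong @IsAffineHom
  · intro I _ _ D c hc _ i₀ _ _ X₀ Y₀ f₀ g₀ _ _ _ _ _ _ X Y f g qY qX hY hX hf
    have : IsAffineHom f := hf
    exact Groth.Agent.S2582.result D c hc i₀ f₀ g₀ f g qY qX hY hX

open CategoryTheory.Limits in
/-- Let g : Y ⟶ S and f : X ⟶ Y be such that X and Y are of finite presentation over S (locally of
finite presentation, quasi-compact and quasi-separated). For each point s of S let f_s be the
induced morphism from the fibre of f ≫ g over s to the fibre of g over s. Then the set of s for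
which f_s is an affine morphism is ind-constructible in S. -/
theorem result {X Y S : Scheme.{u}} (f : X ⟶ Y) (g : Y ⟶ S)
    [LocallyOfFinitePresentation g] [QuasiCompact g] [QuasiSeparated g]
    [LocallyOfFinitePresentation (f ≫ g)] [QuasiCompact (f ≫ g)] [QuasiSeparated (f ≫ g)] :
    ProCons.IsIndConstructible {s : S |
      IsAffineHom (pullback.lift (pullback.fst (f ≫ g) (S.fromSpecResidueField s) ≫ f) (pullback.snd (f ≫ g) (S.fromSpecResidueField s))
          ((Category.assoc _ _ _).trans pullback.condition) :
        pullback (f ≫ g) (S.fromSpecResidueField s) ⟶ pullback g (S.fromSpecResidueField s))} := by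
  exact isIndConstructible_locusMor isIndConsMor_isAffineHom f g

end Groth.Agent.S4802
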