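import Groth.Statements.S4803
import Groth.Agent.Lib.Helper78.GeomMor
import Groth.Agent.S1127
import Groth.Agent.S2592
import Groth.Agent.S2338
import Groth.Agent.S2339

set_option autoImplicit false
open CategoryTheory AlgebraicGeometry
universe u
open Cons9

namespace Groth.Agent.S4803

open Groth.Agent.Lib.Helper78.GeomMor Groth.Agent.Lib.Helper78.GeomPair
  Groth.Agent.Lib.Helper78.ConsMor

theorem isQuasiAffine_of_isIso {X Y : Scheme.{u}} (e : X ⟶ Y) [IsIso e] : Mor2.IsQuasiAffine e := by
  refine ⟨inferInstance, fun V hV => ?_⟩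
  have h1 : IsAffineOpen (e ⁻¹ᵁ V) := hV.preimage e
  have : IsAffine (e ⁻¹ᵁ V : Scheme.{u}) := h1
  infer_instance

theorem isIndConsMor_isQuasiAffineHom :
    ConsProp.IsIndConsMor (PM.{u} (fun _ _ f => MoreMor.IsQuasiAffineHom f)) := by
  refine isIndConsMor_PM ?_ ?_ ?_
  · intro X Y X' Y' f f' a b sq (hf : MoreMor.IsQuasiAffineHom f)
    have h1 : Mor2.IsQuasiAffine (Limits.pullback.snd f b) := Groth.Agent.S2339.result f hf b
    have h2 : Mor2.IsQuasiAffine (sq.isoPullback.hom ≫ Limits.pullback.snd f b) :=
      Groth.Agent.S2338.result _ _ (isQuasiAffine_of_isIso _) h1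
    rw [IsPullback.isoPullback_hom_snd] at h2
    exact h2
  · have := Groth.Agent.S1127.result.{u}
    exact FpqcDescends.of_descendsAlong (fun _ _ f => Mor2.IsQuasiAffine f)
  · intro I _ _ D c hc _ i₀ _ _ X₀ Y₀ f₀ g₀ _ _ _ _ _ _ X Y f g qY qX hY hX
      (hf : MoreMor.IsQuasiAffineHom f)
    exact Groth.Agent.S2592.result D c hc i₀ f₀ g₀ f g qY qX hY hX hf

open CategoryTheory.Limits in
/-- Let g : Y ⟶ S and f : X ⟶ Y be such that X and Y are of finite presentation over S (locally of
finite presentation, quasi-compact and quasi-separated). For each point s of S let f_s be the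
induced morphism from the fibre of f ≫ g over s to the fibre of g over s. Then the set of s for
which f_s is a quasi-affine morphism is ind-constructible in S. -/
theorem result {X Y S : Scheme.{u}} (f : X ⟶ Y) (g : Y ⟶ S)
    [LocallyOfFinitePresentation g] [QuasiCompact g] [QuasiSeparated g]
    [LocallyOfFinitePresentation (f ≫ g)] [QuasiCompact (f ≫ g)] [QuasiSeparated (f ≫ g)] :
    ProCons.IsIndConstructible {s : S |
      MoreMor.IsQuasiAffineHom (pullback.lift (pullback.fst (f ≫ g) (S.fromSpecResidueField s) ≫ f) (pullback.snd (f ≫ g) (S.fromSpecResidueField s))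
          ((Category.assoc _ _ _).trans pullback.condition) :
        pullback (f ≫ g) (S.fromSpecResidueField s) ⟶ pullback g (S.fromSpecResidueField s))} := by
  exact isIndConstructible_locusMor isIndConsMor_isQuasiAffineHom f g

end Groth.Agent.S4803
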