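import Groth.Statements.S4804
import Groth.Agent.Lib.Helper50.LimStageLoc
import Groth.Agent.Lib.Helper50.LimStageDiag2

set_option autoImplicit false
universe u
open CategoryTheory AlgebraicGeometry
open Lim8

namespace Groth.Agent.S4804

/-- Let S = lim S_i be a cofiltered limit of schemes with affine transition maps, let f₀ : X₀ ⟶ Y₀ be a
morphism of schemes over a stage S_{i₀}, with Y₀ quasi-compact and f₀ of finite type and
quasi-separated, and let f : X ⟶ Y be the base change of f₀ along S ⟶ S_{i₀} (base changes are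
expressed by pullback squares). Then f is separated if and only if, for some index j over i₀, the
base change f_j : X_j ⟶ Y_j of f₀ along S_j ⟶ S_{i₀} is separated. -/
theorem result {I : Type u} [SmallCategory I] [IsCofiltered I]
    (D : I ⥤ Scheme.{u}) (c : Limits.Cone D) (hc : Limits.IsLimit c)
    [∀ (i j : I) (f : i ⟶ j), IsAffineHom (D.map f)] (i₀ : I)
    {X₀ Y₀ : Scheme.{u}} (f₀ : X₀ ⟶ Y₀) (g₀ : Y₀ ⟶ D.obj i₀) [CompactSpace Y₀]
    [LocallyOfFiniteType f₀] [QuasiCompact f₀] [QuasiSeparated f₀]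
    {X Y : Scheme.{u}} (f : X ⟶ Y) (g : Y ⟶ c.pt) (qY : Y ⟶ Y₀) (qX : X ⟶ X₀)
    (hY : IsPullback qY g g₀ (c.π.app i₀)) (hX : IsPullback qX f f₀ qY) :
    IsSeparated f ↔
      ∃ (j : I) (φ : j ⟶ i₀) (Xj Yj : Scheme.{u}) (fj : Xj ⟶ Yj) (gj : Yj ⟶ D.obj j) (pY : Yj ⟶ Y₀)
        (pX : Xj ⟶ X₀), IsPullback pY gj g₀ (D.map φ) ∧ IsPullback pX fj f₀ pY ∧ IsSeparated fj := by
  open Groth.Agent.Lib.Helper50 Groth.Agent.Lib.Helper50.StageSetup Limits in
  constructor
  · intro hsep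
    have hV : ⨆ a, (Y₀.affineCover.finiteSubcover.f a).opensRange = ⊤ :=
      Y₀.affineCover.finiteSubcover.iSup_opensRange
    refine exists_stage D i₀ f₀ g₀ @IsSeparated ?_
    refine exists_stage_of_openCover D i₀ f₀ g₀ @IsSeparated
      (fun a ↦ (Y₀.affineCover.finiteSubcover.f a).opensRange) hV fun a ↦ ?_
    generalize hWa : (Y₀.affineCover.finiteSubcover.f a).opensRange = W
    have hW : IsAffineOpen W := hWa ▸ isAffineOpen_opensRange _
    have : IsAffine W := hW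
    have : CompactSpace ↥(f₀ ⁻¹ᵁ W).toScheme :=
      isCompact_iff_compactSpace.mp
        (QuasiCompact.isCompact_preimage (f := f₀) _ W.isOpen hW.isCompact)
    have : QuasiSeparatedSpace ↥(f₀ ⁻¹ᵁ W).toScheme :=
      quasiSeparatedSpace_of_quasiSeparated (f₀ ∣_ W)
    have hYa := isPullback_restrict_Y D c i₀ g₀ g qY hY W
    have hXa := isPullback_morphismRestrict_of_isPullback hX W
    have : IsSeparated (f ∣_ (qY ⁻¹ᵁ W)) := inferInstance
    exact exists_forall_isSeparated_τ D c hc i₀ (f₀ ∣_ W) (W.ι ≫ g₀) (f ∣_ (qY ⁻¹ᵁ W))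
      ((qY ⁻¹ᵁ W).ι ≫ g) (qY ∣_ W) _ hYa hXa
  · rintro ⟨j, φ, Xj, Yj, fj, gj, pY, pX, h1, h2, hsep⟩
    exact of_stage D c i₀ f₀ g₀ f g qY qX hY hX @IsSeparated φ h1 h2 hsep

end Groth.Agent.S4804
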