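import Groth.Statements.S4806
-- import your own Groth.Agent.* helpers here
import Mathlib.AlgebraicGeometry.ZariskisMainTheorem
import Mathlib.AlgebraicGeometry.Morphisms.SmoothFiber
import Mathlib.RingTheory.LocalRing.Module

set_option autoImplicit false
universe u
open CategoryTheory AlgebraicGeometry
open Lim8

namespace Groth.Agent.S4806

open TensorProduct in
theorem surj_of_fiber {R S : Type u} [CommRing R] [CommRing S] [Algebra R S] [Module.Finite R S]
    (h : ∀ (p : Ideal R) [p.IsPrime],
      Function.Surjective (algebraMap p.ResidueField (p.Fiber S))) :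
    Function.Surjective (algebraMap R S) := by
  let N : Submodule R S := LinearMap.range (Algebra.linearMap R S)
  have hC : Subsingleton (S ⧸ N) := by
    rw [← Module.support_eq_empty_iff (R := R)]
    ext p
    simp only [Set.mem_empty_iff_false, iff_false]
    rw [Module.mem_support_iff_nontrivial_residueField_tensorProduct,
      not_nontrivial_iff_subsingleton]
    suffices ∀ z : p.asIdeal.ResidueField ⊗[R] (S ⧸ N), z = 0 from
      ⟨fun x y => by rw [this x, this y]⟩
    intro z
    obtain ⟨w, rfl⟩ := LinearMap.lTensor_surjective p.asIdeal.ResidueField N.mkQ_surjective z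
    obtain ⟨k, rfl⟩ := h p.asIdeal w
    rw [Algebra.TensorProduct.algebraMap_apply]
    simp only [Algebra.algebraMap_self, RingHom.id_apply, LinearMap.lTensor_tmul,
      Submodule.mkQ_apply]
    have : (Submodule.Quotient.mk (1 : S) : S ⧸ N) = 0 := by
      rw [Submodule.Quotient.mk_eq_zero]
      exact ⟨1, by simp⟩
    rw [this, tmul_zero]
  have hN : N = ⊤ := Submodule.Quotient.subsingleton_iff.mp hC
  intro s
  have hs : s ∈ N := by rw [hN]; trivial
  obtain ⟨r, hr⟩ := hs
  exact ⟨r, hr⟩

theorem SpecMap_closedImmersion_iff {R S : CommRingCat.{u}} (ψ : R ⟶ S) :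
    IsClosedImmersion (Spec.map ψ) ↔ Function.Surjective ψ.hom :=
  HasAffineProperty.SpecMap_iff_of_affineAnd (P := @IsClosedImmersion)
    (Q := fun f => Function.Surjective f) inferInstance RingHom.surjective_respectsIso ψ

theorem isClosedImmersion_of_fiber {X Y : Scheme.{u}} (f : X ⟶ Y) [IsFinite f]
    (h : ∀ y, IsClosedImmersion (f.fiberToSpecResidueField y)) : IsClosedImmersion f := by
  wlog hY : ∃ R, Y = Spec R
  · rw [IsZariskiLocalAtTarget.iff_of_openCover (P := @IsClosedImmersion) Y.affineCover]
    intro i
    dsimp [Scheme.Cover.pullbackHom]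
    have hfin : IsFinite (Limits.pullback.snd f (Y.affineCover.f i)) :=
      MorphismProperty.pullback_snd _ _ ‹IsFinite f›
    refine @this _ _ _ hfin (fun y ↦ ?_) ⟨_, rfl⟩
    apply MorphismProperty.of_isPullback (P := @IsClosedImmersion)
    · exact isPullback_fiberToSpecResidueField_of_isPullback (IsPullback.of_hasPullback _ _) _
    · exact h _
  obtain ⟨R, rfl⟩ := hY
  have hXaff : IsAffine X := isAffine_of_isAffineHom f
  wlog hX : ∃ S, X = Spec S generalizing f X
  · have key := this (X.isoSpec.inv ≫ f) (fun y => ?_) inferInstance ⟨_, rfl⟩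
    · exact (MorphismProperty.cancel_left_of_respectsIso @IsClosedImmersion _ _).mp key
    · let g : (X.isoSpec.inv ≫ f).fiber y ⟶ f.fiber y :=
        Limits.pullback.map _ _ _ _ X.isoSpec.inv (𝟙 _) (𝟙 _) (by simp) (by simp)
      have : IsIso g := Limits.pullback.map_isIso _ _ _ _ _ _ _ _ _
      have := h y
      have e : (X.isoSpec.inv ≫ f).fiberToSpecResidueField y =
          g ≫ f.fiberToSpecResidueField y := by
        exact ((Limits.pullback.lift_snd _ _ _).trans (Category.comp_id _)).symm
      rw [e]
      infer_instance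
  obtain ⟨S, rfl⟩ := hX
  obtain ⟨φ, rfl⟩ := Spec.map_surjective f
  rw [SpecMap_closedImmersion_iff]
  have hfin : φ.hom.Finite := (IsFinite.SpecMap_iff φ).mp inferInstance
  algebraize [φ.hom]
  refine surj_of_fiber (R := R) (S := S) fun p hp => ?_
  rw [← CommRingCat.hom_ofHom (algebraMap p.ResidueField (p.Fiber ↑S)),
    ← SpecMap_closedImmersion_iff,
    ← MorphismProperty.arrow_mk_iso_iff (P := @IsClosedImmersion)
      (Spec.fiberToSpecResidueFieldIso R S ⟨p, hp⟩)]
  exact h ⟨p, hp⟩

theorem isEmpty_or_isIso_of_isClosedImmersion_field {Z : Scheme.{u}} {K : CommRingCat.{u}}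
    [IsField' : Fact (IsField K)] (g : Z ⟶ Spec K) [IsClosedImmersion g] :
    IsEmpty Z ∨ IsIso g := by
  let := IsField'.out.toField
  obtain ⟨I, e, rfl⟩ := IsClosedImmersion.Spec_iff.mp ‹IsClosedImmersion g›
  rcases Ideal.eq_bot_or_top I with hI | hI
  · right
    have : IsIso (Spec.map (CommRingCat.ofHom (Ideal.Quotient.mk I))) := by
      rw [isIso_SpecMap_iff]
      subst hI
      exact ⟨(RingHom.injective_iff_ker_eq_bot _).mpr (by simp), Ideal.Quotient.mk_surjective⟩
    infer_instance
  · left
    have : Subsingleton (K ⧸ I) := Ideal.Quotient.subsingleton_iff.mpr hI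
    have : IsEmpty (Spec (CommRingCat.of (K ⧸ I))) :=
      inferInstanceAs (IsEmpty (PrimeSpectrum (K ⧸ I)))
    exact ⟨fun z => IsEmpty.false (e.hom z)⟩


/-- Let f : X ⟶ Y be a proper morphism of finite presentation. Then f is a closed immersion if and only
if, for every point y of Y, the scheme-theoretic fibre of f at y is empty or its structure morphism
to Spec κ(y) is an isomorphism. -/
theorem result {X Y : Scheme.{u}} (f : X ⟶ Y) [IsProper f]
    [LocallyOfFinitePresentation f] :
    IsClosedImmersion f ↔ ∀ y : Y, IsEmpty (f.fiber y) ∨ IsIso (f.fiberToSpecResidueField y) := by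
  constructor
  · intro hf y
    have : Fact (IsField (Y.residueField y)) := ⟨Field.toIsField _⟩
    have : IsClosedImmersion (f.fiberToSpecResidueField y) := by
      dsimp only [Scheme.Hom.fiberToSpecResidueField]
      exact MorphismProperty.pullback_snd _ _ hf
    exact isEmpty_or_isIso_of_isClosedImmersion_field (f.fiberToSpecResidueField y)
  · intro h
    have h' : ∀ y, IsClosedImmersion (f.fiberToSpecResidueField y) := by
      intro y
      rcases h y with h1 | h1
      · infer_instance
      · infer_instance
    have : LocallyQuasiFinite f :=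
      LocallyQuasiFinite.of_fiberToSpecResidueField f fun y => by
        have := h' y
        infer_instance
    have : IsFinite f := IsFinite.of_isProper_of_locallyQuasiFinite f
    exact isClosedImmersion_of_fiber f h'

end Groth.Agent.S4806
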