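import Groth.Statements.S4807
import Groth.Agent.Lib.Helper50.ImmSub
import Groth.Agent.Lib.Helper50.AffSpecIso

set_option autoImplicit false
universe u
open CategoryTheory AlgebraicGeometry
open Lim8

namespace Groth.Agent.S4807

/-- Let Y be a quasi-compact quasi-separated scheme and f : X ⟶ Y a separated morphism of finite type.
Let X' be the relative normalization of Y in X, the spectrum of the integral closure of O_Y in
f_*O_X, with its canonical morphism g : X ⟶ X'. Then f admits a factorization X ⟶ Y' ⟶ Y into an
immersion followed by a finite morphism if and only if g is an immersion. -/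
theorem result {X Y : Scheme.{u}} (f : X ⟶ Y)
    [CompactSpace Y] [QuasiSeparatedSpace Y] [IsSeparated f] [LocallyOfFiniteType f] [QuasiCompact f] :
    (∃ (Y' : Scheme.{u}) (f' : X ⟶ Y') (u : Y' ⟶ Y), IsImmersion f' ∧ IsFinite u ∧ f' ≫ u = f) ↔
      IsImmersion f.toNormalization := by
  haveI : QuasiSeparated f := inferInstance
  constructor
  · rintro ⟨Y', f', u, hf', hu, hfac⟩
    haveI : IsIntegralHom u := inferInstance
    have h1 : f.toNormalization ≫ f.normalizationDesc f' u hfac.symm = f' :=
      f.toNormalization_normalizationDesc f' u hfac.symm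
    haveI : IsImmersion (f.toNormalization ≫ f.normalizationDesc f' u hfac.symm) := by
      rw [h1]; exact hf'
    exact IsImmersion.of_comp f.toNormalization (f.normalizationDesc f' u hfac.symm)
  · intro himm
    set p := f.fromNormalization with hp
    haveI : IsAffineHom p := inferInstance
    set A := RelSpec.QCAlg.directImage p with hA
    obtain ⟨c, hc, hciso⟩ : ∃ (c : f.normalization ⟶ A.spec), c ≫ A.π = p ∧ IsIso c :=
      Groth.Agent.Lib.Helper50.AffSpecIso.exists_iso_spec_directImage p
    haveI := himm
    haveI := hciso
    have hgπ : (f.toNormalization ≫ c) ≫ A.π = f := by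
      rw [Category.assoc, hc, hp, f.toNormalization_fromNormalization]
    haveI : IsImmersion (f.toNormalization ≫ c) := inferInstance
    haveI : LocallyOfFiniteType ((f.toNormalization ≫ c) ≫ A.π) := by rw [hgπ]; infer_instance
    haveI : CompactSpace X := QuasiCompact.compactSpace_of_compactSpace f
    obtain ⟨C', φ, hinj, hft, him⟩ :=
      Groth.Agent.Lib.Helper50.ImmSub.exists_ft_subalgebra_isImmersion A (f.toNormalization ≫ c)
    refine ⟨C'.spec, (f.toNormalization ≫ c) ≫ RelSpec.QCAlg.specMap φ, C'.π, him, ?_, ?_⟩
    · refine ⟨fun U hU => ?_⟩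
      haveI := Groth.Agent.S8255.isIso_gammaAff C' U hU
      have e1 : C'.π.app U ≫ C'.gammaAff U hU = C'.str.app (Opposite.op U) := C'.π_app_gammaAff U hU
      have e2 : C'.π.app U = C'.str.app (Opposite.op U) ≫ inv (C'.gammaAff U hU) := by
        rw [← e1, Category.assoc, IsIso.hom_inv_id, Category.comp_id]
      have hint : (C'.str.app (Opposite.op U)).hom.IsIntegral := by
        refine RingHom.IsIntegral.tower_bot _ (φ.hom.app (Opposite.op U)).hom (hinj U) ?_
        have e3 : (φ.hom.app (Opposite.op U)).hom.comp (C'.str.app (Opposite.op U)).hom =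
            (p.app U).hom := by
          have h3 := NatTrans.congr_app φ.comm (Opposite.op U)
          rw [NatTrans.comp_app] at h3
          exact congrArg CommRingCat.Hom.hom h3
        rw [e3]
        exact IsIntegralHom.isIntegral_app p U hU
      have hfin : (C'.str.app (Opposite.op U)).hom.Finite :=
        RingHom.IsIntegral.to_finite hint (hft ⟨U, hU⟩)
      rw [e2, CommRingCat.hom_comp]
      refine RingHom.Finite.comp (RingHom.Finite.of_surjective _ ?_) hfin
      exact (ConcreteCategory.bijective_of_isIso (inv (C'.gammaAff U hU))).2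
    · rw [Category.assoc, RelSpec.QCAlg.specMap_π, hgπ]

end Groth.Agent.S4807
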