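import Groth.Statements.S4808
-- import your own Groth.Agent.* helpers here
import Mathlib.AlgebraicGeometry.Morphisms.Integral
import Mathlib.AlgebraicGeometry.Morphisms.ClosedImmersion
import Mathlib.RingTheory.LocalProperties.IntegrallyClosed

set_option autoImplicit false
universe u
open CategoryTheory AlgebraicGeometry
open Lim8

namespace Groth.Agent.S4808

theorem core {A B K K' : Type u} [CommRing A] [CommRing B] [CommRing K] [CommRing K']
    [IsDomain A] [IsIntegrallyClosed A] [IsDomain K]
    (φ : A →+* B) (gA : A →+* K) (gB : B →+* K') (σ : K →+* K')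
    [Algebra A K] (halg : algebraMap A K = gA) [IsFractionRing A K]
    (hcomm : gB.comp φ = σ.comp gA) (hσ : Function.Bijective σ) (hgB : Function.Injective gB)
    (hint : φ.IsIntegral) : Function.Surjective φ := by
  intro b
  obtain ⟨p, hp, hpb⟩ := hint b
  obtain ⟨c, hc⟩ := hσ.2 (gB b)
  have h1 : σ (Polynomial.eval₂ gA c p) = 0 := by
    rw [Polynomial.hom_eval₂, ← hcomm, hc, ← Polynomial.hom_eval₂, hpb, map_zero]
  have h2 : Polynomial.eval₂ gA c p = 0 := hσ.1 (by rw [h1, map_zero])
  have h3 : IsIntegral A c := ⟨p, hp, by rw [halg]; exact h2⟩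
  obtain ⟨a, ha⟩ := IsIntegrallyClosed.algebraMap_eq_of_integral h3
  refine ⟨a, hgB ?_⟩
  have := congr($hcomm a)
  simp only [RingHom.coe_comp, Function.comp_apply] at this
  rw [this, ← halg, ha, hc]

theorem isFractionRing_germ {Y : Scheme.{u}} [IsIntegral Y] (U : Y.Opens) (hU : IsAffineOpen U)
    (y : Y) (hy : y = genericPoint Y) (hyU : y ∈ U) :
    @IsFractionRing Γ(Y, U) _ (Y.presheaf.stalk y) _ (Y.presheaf.germ U y hyU).hom.toAlgebra := by
  subst hy
  have : Nonempty U := ⟨⟨_, hyU⟩⟩
  exact functionField_isFractionRing_of_isAffineOpen Y U hU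

theorem isIntegrallyClosed_of_stalks {Y : Scheme.{u}} [IsIntegral Y]
    (hN : ∀ y : Y, IsIntegrallyClosed (Y.presheaf.stalk y)) (U : Y.Opens) (hU : IsAffineOpen U)
    [Nonempty U] : IsIntegrallyClosed Γ(Y, U) := by
  apply IsIntegrallyClosed.of_localization_maximal
  intro p _ hp
  let y : PrimeSpectrum Γ(Y, U) := ⟨p, hp.isPrime⟩
  have hy : hU.fromSpec y ∈ U := by
    rw [← SetLike.mem_coe, ← hU.range_fromSpec]
    exact ⟨y, rfl⟩
  let := TopCat.Presheaf.algebra_section_stalk Y.presheaf ⟨hU.fromSpec y, hy⟩
  have hloc : IsLocalization.AtPrime (Y.presheaf.stalk (hU.fromSpec y)) p :=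
    hU.isLocalization_stalk' y hy
  have := hN (hU.fromSpec y)
  exact IsIntegrallyClosed.of_equiv
    (IsLocalization.algEquiv p.primeCompl (Y.presheaf.stalk (hU.fromSpec y))
      (Localization.AtPrime p)).toRingEquiv


/-- Let Y' and Y be integral schemes, Y normal (every local ring of Y is integrally closed), and u : Y'
⟶ Y a finite morphism which is birational: u maps the generic point of Y' to the generic point of Y
and the stalk map of u at the generic point of Y', which is the induced homomorphism of function
fields, is an isomorphism. Then u is an isomorphism. -/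
theorem result {Y' Y : Scheme.{u}} [IsIntegral Y'] [IsIntegral Y]
    (hN : ∀ y : Y, IsIntegrallyClosed (Y.presheaf.stalk y)) (u : Y' ⟶ Y) [IsFinite u]
    (hgen : u (genericPoint Y') = genericPoint Y)
    (hbir : IsIso (u.stalkMap (genericPoint Y'))) : IsIso u := by
  have hci : IsClosedImmersion u := by
    rw [isClosedImmersion_iff_isAffineHom]
    refine ⟨inferInstance, fun U hU => ?_⟩
    by_cases hne : Nonempty U
    · have hηU : u (genericPoint Y') ∈ U := by
        rw [hgen]
        exact ((genericPoint_spec Y).mem_open_set_iff U.isOpen).mpr (by simpa using hne)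
      have hη'U : genericPoint Y' ∈ u ⁻¹ᵁ U := hηU
      have : IsIntegrallyClosed Γ(Y, U) := isIntegrallyClosed_of_stalks hN U hU
      let := (Y.presheaf.germ U _ hηU).hom.toAlgebra
      have : IsFractionRing Γ(Y, U) (Y.presheaf.stalk (u (genericPoint Y'))) :=
        isFractionRing_germ U hU _ hgen hηU
      refine core (u.app U).hom (Y.presheaf.germ U _ hηU).hom
        (Y'.presheaf.germ (u ⁻¹ᵁ U) _ hη'U).hom (u.stalkMap (genericPoint Y')).hom rfl ?_ ?_
        (germ_injective_of_isIntegral Y' _ hη'U) (IsIntegralHom.isIntegral_app u U hU)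
      · rw [← CommRingCat.hom_comp, ← CommRingCat.hom_comp, Scheme.Hom.germ_stalkMap]
      · exact ConcreteCategory.bijective_of_isIso (u.stalkMap (genericPoint Y'))
    · have hU' : U = ⊥ := by
        ext x
        simp only [TopologicalSpace.Opens.coe_bot, Set.mem_empty_iff_false, iff_false]
        exact fun hx => hne ⟨⟨x, hx⟩⟩
      subst hU'
      intro b
      have e : u ⁻¹ᵁ (⊥ : Y.Opens) = ⊥ := by ext; simp
      have : Subsingleton Γ(Y', u ⁻¹ᵁ (⊥ : Y.Opens)) := e ▸ inferInstance
      exact ⟨0, Subsingleton.elim _ _⟩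
  have hsurj : Surjective u := by
    constructor
    have hcl : IsClosed (Set.range u) := u.isClosedEmbedding.isClosed_range
    have hmem : genericPoint Y ∈ Set.range u := ⟨_, hgen⟩
    have : closure {genericPoint Y} ⊆ Set.range u :=
      hcl.closure_subset_iff.mpr (Set.singleton_subset_iff.mpr hmem)
    rw [(genericPoint_spec Y).def] at this
    intro y
    exact this trivial
  exact isIso_of_isClosedImmersion_of_surjective u

end Groth.Agent.S4808
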