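import Groth.Statements.S4812
import Groth.Agent.Lib.Helper40.LimStage3

set_option autoImplicit false
universe u
open CategoryTheory AlgebraicGeometry
open Lim8

namespace Groth.Agent.S4812

open Groth.Agent.Lib.Helper40.LimStage Groth.Agent.Lib.Helper40.LimPres

/-- Let S = lim S_i be a cofiltered limit of schemes with affine transition maps and S_{i₀} a
quasi-compact stage; let f₀ : F₀ ⟶ G₀ and g₀ : G₀ ⟶ H₀ be homomorphisms of quasi-coherent O-modules
on S_{i₀}, with F₀ and G₀ of finite type and H₀ of finite presentation. Then the pulled-back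
sequence F ⟶ G ⟶ H ⟶ 0 on S is exact (the composite is zero, the sequence is exact at G, and G ⟶ H
is an epimorphism) if and only if, for some index j over i₀, the pulled-back sequence F_j ⟶ G_j ⟶
H_j ⟶ 0 on S_j is exact. -/
theorem result {I : Type u} [SmallCategory I] [IsCofiltered I]
    (D : I ⥤ Scheme.{u}) (c : Limits.Cone D) (hc : Limits.IsLimit c)
    [∀ (i j : I) (f : i ⟶ j), IsAffineHom (D.map f)] (i₀ : I) [CompactSpace (D.obj i₀)]
    {F₀ G₀ H₀ : (D.obj i₀).Modules} [Coh.IsQCoh F₀] [Coh.IsQCoh G₀] [Coh.IsQCoh H₀]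
    (hF₀ : CohB1.IsFT F₀) (hG₀ : CohB1.IsFT G₀) (hH₀ : CohB1.IsFP H₀) (f₀ : F₀ ⟶ G₀) (g₀ : G₀ ⟶ H₀) :
    (∃ w : (Scheme.Modules.pullback (c.π.app i₀)).map f₀ ≫ (Scheme.Modules.pullback (c.π.app i₀)).map g₀ = 0,
        (ShortComplex.mk _ _ w).Exact ∧ Epi ((Scheme.Modules.pullback (c.π.app i₀)).map g₀)) ↔
      ∃ (j : I) (φ : j ⟶ i₀) (w : (Scheme.Modules.pullback (D.map φ)).map f₀ ≫ (Scheme.Modules.pullback (D.map φ)).map g₀ = 0),
        (ShortComplex.mk _ _ w).Exact ∧ Epi ((Scheme.Modules.pullback (D.map φ)).map g₀) := by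
  change RExact ((Scheme.Modules.pullback (c.π.app i₀)).map f₀)
      ((Scheme.Modules.pullback (c.π.app i₀)).map g₀) ↔
    ∃ (j : I) (φ : j ⟶ i₀), RExact ((Scheme.Modules.pullback (D.map φ)).map f₀)
      ((Scheme.Modules.pullback (D.map φ)).map g₀)
  constructor
  · intro h
    -- stage where the composite vanishes
    have h0 : (Scheme.Modules.pullback (c.π.app i₀)).map (f₀ ≫ g₀) = 0 := by
      rw [Functor.map_comp]; exact h.1
    obtain ⟨j₁, φ₁, hj₁⟩ := exists_stage_map_eq_zero D c hc i₀ hF₀ (f₀ ≫ g₀) h0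
    set f₁ := (Scheme.Modules.pullback (D.map φ₁)).map f₀ with hf₁
    set g₁ := (Scheme.Modules.pullback (D.map φ₁)).map g₀ with hg₁
    have w₁ : f₁ ≫ g₁ = 0 := by rw [hf₁, hg₁, ← Functor.map_comp]; exact hj₁
    haveI : CompactSpace (D.obj j₁) := QuasiCompact.compactSpace_of_compactSpace (D.map φ₁)
    haveI : (Limits.cokernel f₁).IsQuasicoherent :=
      Groth.Agent.Lib.Helper21.QCohKernel.isQuasicoherent_cokernel f₁
    have hGj : CohB1.IsFT ((Scheme.Modules.pullback (D.map φ₁)).obj G₀) :=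
      Groth.Agent.Lib.Helper21.CohPullback.isFiniteType_pullback (D.map φ₁) G₀ hG₀
    have hC : CohB1.IsFT (Limits.cokernel f₁) :=
      Groth.Agent.Lib.Helper21.CohNoeth.isFiniteType_of_epi (Limits.cokernel.π f₁) hGj
    have hH : CohB1.IsFP ((Scheme.Modules.pullback (D.map φ₁)).obj H₀) :=
      Groth.Agent.Lib.Helper40.FPKer.isFinitePresentation_pullback (D.map φ₁) H₀ hH₀
    -- at the limit the induced map from the cokernel is an isomorphism
    have h1 : RExact ((Scheme.Modules.pullback (c.π.app j₁)).map f₁)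
        ((Scheme.Modules.pullback (c.π.app j₁)).map g₁) :=
      RExact.of_natIso (pullIso D c i₀ φ₁).symm f₀ g₀ h
    rw [rexact_map_iff _ f₁ g₁ w₁] at h1
    obtain ⟨j, ψ, hj⟩ := exists_stage_isIso D c hc j₁ hC hH (Limits.cokernel.desc f₁ g₁ w₁) h1
    rw [← rexact_map_iff _ f₁ g₁ w₁] at hj
    refine ⟨j, ψ ≫ φ₁, ?_⟩
    exact RExact.of_natIso (Scheme.Modules.pullbackComp (D.map ψ) (D.map φ₁) ≪≫
      Scheme.Modules.pullbackCongr (D.map_comp ψ φ₁).symm) f₀ g₀ hj
  · rintro ⟨j, φ, h⟩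
    have h1 := RExact.map (Scheme.Modules.pullback (c.π.app j)) _ _ h
    exact RExact.of_natIso (pullIso D c i₀ φ) f₀ g₀ h1

end Groth.Agent.S4812
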