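import Groth.Statements.S4813
import Groth.Agent.Lib.Helper40.LimStage2

set_option autoImplicit false
universe u
open CategoryTheory AlgebraicGeometry
open Lim8

namespace Groth.Agent.S4813

open Groth.Agent.Lib.Helper40.LimStage Groth.Agent.Lib.Helper40.LimPres

/-- Let S = lim S_i be a cofiltered limit of schemes with affine transition maps and S_{i₀} a
quasi-compact stage; let F₀ be a quasi-coherent O-module of finite type on S_{i₀} and p₁ : F₀ ⟶ G₁,
p₂ : F₀ ⟶ G₂ two surjective homomorphisms onto quasi-coherent O-modules, G₁ being of finite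
presentation. Then, on S, the pullback of p₂ factors through the pullback of p₁ (the quotient G₂
becomes a quotient of G₁ after pullback to S) if and only if, for some index j over i₀, the pullback
of p₂ to S_j factors through the pullback of p₁ to S_j. -/
theorem result {I : Type u} [SmallCategory I] [IsCofiltered I]
    (D : I ⥤ Scheme.{u}) (c : Limits.Cone D) (hc : Limits.IsLimit c)
    [∀ (i j : I) (f : i ⟶ j), IsAffineHom (D.map f)] (i₀ : I) [CompactSpace (D.obj i₀)]
    {F₀ G₁ G₂ : (D.obj i₀).Modules} [Coh.IsQCoh F₀] [Coh.IsQCoh G₁] [Coh.IsQCoh G₂]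
    (hF₀ : CohB1.IsFT F₀) (hG₁ : CohB1.IsFP G₁) (p₁ : F₀ ⟶ G₁) (p₂ : F₀ ⟶ G₂) [Epi p₁] [Epi p₂] :
    (∃ k : (Scheme.Modules.pullback (c.π.app i₀)).obj G₁ ⟶ (Scheme.Modules.pullback (c.π.app i₀)).obj G₂, (Scheme.Modules.pullback (c.π.app i₀)).map p₁ ≫ k = (Scheme.Modules.pullback (c.π.app i₀)).map p₂) ↔
      ∃ (j : I) (φ : j ⟶ i₀) (k : (Scheme.Modules.pullback (D.map φ)).obj G₁ ⟶ (Scheme.Modules.pullback (D.map φ)).obj G₂),
        (Scheme.Modules.pullback (D.map φ)).map p₁ ≫ k = (Scheme.Modules.pullback (D.map φ)).map p₂ := by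
  haveI : (Limits.kernel p₁).IsQuasicoherent :=
    Groth.Agent.Lib.Helper21.QCohKernel.isQuasicoherent_kernel p₁
  have hK : CohB1.IsFT (Limits.kernel p₁) :=
    Groth.Agent.Lib.Helper40.FPKer.isFiniteType_kernel_of_epi p₁ hF₀ hG₁
  constructor
  · intro h
    rw [exists_factor_iff] at h
    obtain ⟨j, φ, hj⟩ := exists_stage_map_eq_zero D c hc i₀ hK (Limits.kernel.ι p₁ ≫ p₂) h
    exact ⟨j, φ, (exists_factor_iff (Scheme.Modules.pullback (D.map φ)) p₁ p₂).2 hj⟩
  · rintro ⟨j, φ, h⟩
    have hj := (exists_factor_iff (Scheme.Modules.pullback (D.map φ)) p₁ p₂).1 h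
    exact (exists_factor_iff (Scheme.Modules.pullback (c.π.app i₀)) p₁ p₂).2
      (map_eq_zero_of_stage D c i₀ _ φ hj)

end Groth.Agent.S4813
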