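import Groth.Statements.S4815
import Groth.Agent.Lib.Helper50.Descent9
import Groth.Agent.Lib.Helper50.LimDesc9

set_option autoImplicit false
universe u
open CategoryTheory AlgebraicGeometry
open Lim8

namespace Groth.Agent.S4815

/-- Let S = lim S_i be a cofiltered limit of schemes with affine transition maps and S_{i₀} a
quasi-compact quasi-separated stage. Then every subscheme of finite presentation of S, that is every
immersion ι : Z ⟶ S which is locally of finite presentation and quasi-compact, is the base change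
along S ⟶ S_j of an immersion of finite presentation Z_j ⟶ S_j, for some index j over i₀ (the base
change is expressed by a pullback square). -/
theorem result {I : Type u} [SmallCategory I] [IsCofiltered I]
    (D : I ⥤ Scheme.{u}) (c : Limits.Cone D) (hc : Limits.IsLimit c)
    [∀ (i j : I) (f : i ⟶ j), IsAffineHom (D.map f)] (i₀ : I)
    [CompactSpace (D.obj i₀)] [QuasiSeparatedSpace (D.obj i₀)]
    {Z : Scheme.{u}} (ι : Z ⟶ c.pt) [IsImmersion ι] [LocallyOfFinitePresentation ι] [QuasiCompact ι] :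
    ∃ (j : I) (_ : j ⟶ i₀) (Zj : Scheme.{u}) (ιj : Zj ⟶ D.obj j) (q : Z ⟶ Zj),
      IsImmersion ιj ∧ LocallyOfFinitePresentation ιj ∧ QuasiCompact ιj ∧ IsPullback q ι ιj (c.π.app j) := by
  open Groth.Agent.Lib.Helper50 Groth.Agent.Lib.Helper50.Descent
    Groth.Agent.Lib.Helper50.StageSetup in
  have hcpt : ∀ j : Over i₀, CompactSpace ((D₀ D i₀).obj j) := fun j => compactSpace_of_hom D j.hom
  have hqs : ∀ j : Over i₀, QuasiSeparatedSpace ((D₀ D i₀).obj j) :=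
    fun j => quasiSeparatedSpace_of_hom D j.hom
  have : CompactSpace c.pt := compactSpace_pt D c hc i₀
  have : IsAffineHom (c.π.app i₀) := isAffineHom_π_app D c hc i₀
  have : QuasiSeparatedSpace c.pt := quasiSeparatedSpace_of_quasiSeparated (c.π.app i₀)
  have : CompactSpace Z := QuasiCompact.compactSpace_of_compactSpace ι
  have : QuasiSeparatedSpace Z := quasiSeparatedSpace_of_quasiSeparated ι
  obtain ⟨j, Zj, ιj, q, h1, h2, h3, h4, h5⟩ := exists_descent_with (D₀ D i₀) (c₀ D c i₀)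
    (hc₀ D c hc i₀) @IsImmersion (fun i₁ X₀ X f₀ _ _ _ f qX hX hf ↦ by
      have hY : IsPullback ((c₀ D c i₀).π.app i₁) (𝟙 _) (𝟙 _) ((c₀ D c i₀).π.app i₁) :=
        IsPullback.id_vert _
      have : CompactSpace ((D₀ D i₀).obj i₁) := hcpt i₁
      have : QuasiSeparatedSpace ((D₀ D i₀).obj i₁) := hqs i₁
      have h1 := compactSpace_E (D₀ D i₀) i₁ (𝟙 ((D₀ D i₀).obj i₁))
      have h2 := quasiSeparatedSpace_E (D₀ D i₀) i₁ (𝟙 ((D₀ D i₀).obj i₁))
      have h3 := compactSpace_F (D₀ D i₀) i₁ f₀ (𝟙 ((D₀ D i₀).obj i₁))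
      have h4 := quasiSeparatedSpace_F (D₀ D i₀) i₁ f₀ (𝟙 ((D₀ D i₀).obj i₁))
      have h5 := locallyOfFiniteType_τ (D₀ D i₀) i₁ f₀ (𝟙 ((D₀ D i₀).obj i₁))
      have hf' : IsImmersion
          (X := (cF (D₀ D i₀) (c₀ D c i₀) i₁ f₀ (𝟙 _) f (𝟙 _) ((c₀ D c i₀).π.app i₁) qX hY hX).pt)
          (Y := (cE (D₀ D i₀) (c₀ D c i₀) i₁ (𝟙 _) (𝟙 _) ((c₀ D c i₀).π.app i₁) hY).pt) f := hf
      obtain ⟨j, _, hj⟩ := exists_forall_isImmersion_app (τ (D₀ D i₀) i₁ f₀ (𝟙 _))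
        (cF (D₀ D i₀) (c₀ D c i₀) i₁ f₀ (𝟙 _) f (𝟙 _) ((c₀ D c i₀).π.app i₁) qX hY hX)
        (hcF (D₀ D i₀) (c₀ D c i₀) (hc₀ D c hc i₀) i₁ f₀ (𝟙 _) f (𝟙 _) ((c₀ D c i₀).π.app i₁) qX
          hY hX)
        (cE (D₀ D i₀) (c₀ D c i₀) i₁ (𝟙 _) (𝟙 _) ((c₀ D c i₀).π.app i₁) hY)
        (hcE (D₀ D i₀) (c₀ D c i₀) (hc₀ D c hc i₀) i₁ (𝟙 _) (𝟙 _) ((c₀ D c i₀).π.app i₁) hY) f
        (StageSetup.hf (D₀ D i₀) (c₀ D c i₀) i₁ f₀ (𝟙 _) f (𝟙 _) ((c₀ D c i₀).π.app i₁) qX hY hX)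
        (fun φ ↦ isPullback_τ (D₀ D i₀) i₁ f₀ (𝟙 _) φ) (Over.mk (𝟙 i₁))
      exact ⟨j, hj j (𝟙 j)⟩) ι inferInstance
  have : QuasiSeparatedSpace (D.obj j.left) := hqs j
  exact ⟨j.left, j.hom, Zj, ιj, q, h4, h1, quasiCompact_of_compactSpace ιj, h5⟩

end Groth.Agent.S4815
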