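import Groth.Statements.S4816
import Groth.Agent.S9218

set_option autoImplicit false
universe u
open CategoryTheory AlgebraicGeometry
open Lim8

namespace Groth.Agent.S4816

section Aux
open CategoryTheory.Limits

/-- factoring through a mono is local on the source -/
theorem exists_fac_of_openCover {P S Z : Scheme.{u}} (m : P ⟶ S) (ι : Z ⟶ S) [Mono ι]
    (𝒰 : P.OpenCover) (h : ∀ a, ∃ g : 𝒰.X a ⟶ Z, g ≫ ι = 𝒰.f a ≫ m) :
    ∃ g : P ⟶ Z, g ≫ ι = m := by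
  choose g hg using h
  refine ⟨𝒰.glueMorphisms g ?_, ?_⟩
  · intro a b
    rw [← cancel_mono ι, Category.assoc, Category.assoc, hg, hg, pullback.condition_assoc]
  · apply 𝒰.hom_ext
    intro a
    rw [Scheme.Cover.ι_glueMorphisms_assoc, hg]

/-- common stage for finitely many downward closed predicates -/
theorem exists_common_stage {I : Type u} [SmallCategory I] [IsCofiltered I] (i₀ : I)
    {α : Type*} [Finite α] (Q : α → ∀ j : I, (j ⟶ i₀) → Prop)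
    (hQ : ∀ a (j j' : I) (φ : j ⟶ i₀) (ψ : j' ⟶ j), Q a j φ → Q a j' (ψ ≫ φ))
    (h : ∀ a, ∃ (j : I) (φ : j ⟶ i₀), Q a j φ) :
    ∃ (j : I) (φ : j ⟶ i₀), ∀ a, Q a j φ := by
  classical
  haveI := Fintype.ofFinite α
  suffices H : ∀ s : Finset α, ∃ (j : I) (φ : j ⟶ i₀), ∀ a ∈ s, Q a j φ by
    obtain ⟨j, φ, hj⟩ := H Finset.univ
    exact ⟨j, φ, fun a => hj a (Finset.mem_univ a)⟩
  intro s
  induction s using Finset.induction_on with
  | empty => exact ⟨i₀, 𝟙 _, fun a ha => absurd ha (Finset.notMem_empty a)⟩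
  | insert a s _ ih =>
    obtain ⟨j₁, φ₁, h₁⟩ := ih
    obtain ⟨j₂, φ₂, h₂⟩ := h a
    obtain ⟨j, ψ₁, ψ₂, e⟩ := IsCofiltered.cospan φ₁ φ₂
    refine ⟨j, ψ₁ ≫ φ₁, fun b hb => ?_⟩
    rw [Finset.mem_insert] at hb
    rcases hb with rfl | hb
    · rw [e]
      exact hQ _ _ _ _ _ h₂
    · exact hQ _ _ _ _ _ (h₁ b hb)

variable {I : Type u} [SmallCategory I] [IsCofiltered I]
    (D : I ⥤ Scheme.{u}) (c : Limits.Cone D) (hc : Limits.IsLimit c)
    [∀ (i j : I) (f : i ⟶ j), IsAffineHom (D.map f)] (i₀ : I)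
    {Z₁ Z₂ : Scheme.{u}} (ι₁ : Z₁ ⟶ D.obj i₀) (ι₂ : Z₂ ⟶ D.obj i₀)

/-- downward closedness -/
theorem fac_of_le {T : Scheme.{u}} (xi : T ⟶ D.obj i₀) {j j' : I} (φ : j ⟶ i₀) (ψ : j' ⟶ j)
    (h : ∃ h : pullback xi (D.map φ) ⟶ Z₂, h ≫ ι₂ = pullback.fst _ _ ≫ xi) :
    ∃ h : pullback xi (D.map (ψ ≫ φ)) ⟶ Z₂, h ≫ ι₂ = pullback.fst _ _ ≫ xi := by
  obtain ⟨h, hh⟩ := h
  refine ⟨pullback.lift (pullback.fst _ _) (pullback.snd _ _ ≫ D.map ψ) ?_ ≫ h, ?_⟩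
  · rw [Category.assoc, ← D.map_comp, pullback.condition]
  · rw [Category.assoc, hh, pullback.lift_fst_assoc]

include hc in
/-- the affine piece, via S9218 -/
theorem affine_piece [IsImmersion ι₁] [LocallyOfFinitePresentation ι₁] [QuasiCompact ι₁]
    [IsImmersion ι₂] [LocallyOfFinitePresentation ι₂] [QuasiCompact ι₂]
    {V : Scheme.{u}} [IsAffine V] (v : V ⟶ D.obj i₀) [IsOpenImmersion v]
    (k : pullback ι₁ (c.π.app i₀) ⟶ pullback ι₂ (c.π.app i₀))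
    (hk : k ≫ pullback.snd ι₂ (c.π.app i₀) = pullback.snd ι₁ (c.π.app i₀))
    (xi : pullback ι₁ v ⟶ D.obj i₀) (hxi : xi = pullback.fst ι₁ v ≫ ι₁) :
    ∃ (j : I) (φ : j ⟶ i₀), ∃ h : pullback xi (D.map φ) ⟶ Z₂,
      h ≫ ι₂ = pullback.fst _ _ ≫ xi := by
  obtain ⟨yi, hyi⟩ : ∃ yi : pullback ι₂ v ⟶ D.obj i₀, yi = pullback.fst ι₂ v ≫ ι₂ := ⟨_, rfl⟩
  haveI : QuasiSeparatedSpace ↥(pullback ι₁ v) :=
    quasiSeparatedSpace_of_quasiSeparated (pullback.snd ι₁ v)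
  haveI : QuasiSeparatedSpace ↥(pullback ι₂ v) :=
    quasiSeparatedSpace_of_quasiSeparated (pullback.snd ι₂ v)
  haveI : LocallyOfFinitePresentation xi := by rw [hxi]; infer_instance
  haveI : LocallyOfFinitePresentation yi := by rw [hyi]; infer_instance
  -- the map on the limit
  have e1 : (pullback.fst xi (c.π.app i₀) ≫ pullback.fst ι₁ v) ≫ ι₁ =
      pullback.snd xi (c.π.app i₀) ≫ c.π.app i₀ := by
    rw [Category.assoc, ← hxi, pullback.condition]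
  let t : pullback xi (c.π.app i₀) ⟶ Z₂ :=
    pullback.lift (pullback.fst xi _ ≫ pullback.fst ι₁ v) (pullback.snd xi _) e1 ≫
      k ≫ pullback.fst ι₂ _
  have ht : t ≫ ι₂ = pullback.snd xi (c.π.app i₀) ≫ c.π.app i₀ := by
    simp only [t, Category.assoc]
    rw [pullback.condition, reassoc_of% hk, pullback.lift_snd_assoc]
  have e2 : t ≫ ι₂ = (pullback.fst xi (c.π.app i₀) ≫ pullback.snd ι₁ v) ≫ v := by
    rw [ht, ← pullback.condition, Category.assoc, ← pullback.condition (f := ι₁) (g := v), ← hxi]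
  let t' : pullback xi (c.π.app i₀) ⟶ pullback ι₂ v :=
    pullback.lift t (pullback.fst xi _ ≫ pullback.snd ι₁ v) e2
  have e3 : t' ≫ yi = pullback.snd xi (c.π.app i₀) ≫ c.π.app i₀ := by
    rw [hyi, ← Category.assoc, pullback.lift_fst, ht]
  let f : pullback xi (c.π.app i₀) ⟶ pullback yi (c.π.app i₀) :=
    pullback.lift t' (pullback.snd xi _) e3
  obtain ⟨j, φ, fj, sX, sY, h1, -, -, -, -, -⟩ :=
    Groth.Agent.S9218.result D c hc i₀ xi yi (pullback.fst xi (c.π.app i₀))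
      (pullback.snd xi (c.π.app i₀)) (IsPullback.of_hasPullback _ _)
      (pullback.fst yi (c.π.app i₀)) (pullback.snd yi (c.π.app i₀))
      (IsPullback.of_hasPullback _ _) f (pullback.lift_snd _ _ _)
  refine ⟨j, φ, fj ≫ pullback.fst yi (D.map φ) ≫ pullback.fst ι₂ v, ?_⟩
  rw [Category.assoc, Category.assoc, ← hyi, pullback.condition, reassoc_of% h1,
    pullback.condition]

include hc in
theorem forward [CompactSpace (D.obj i₀)]
    [IsImmersion ι₁] [LocallyOfFinitePresentation ι₁] [QuasiCompact ι₁]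
    [IsImmersion ι₂] [LocallyOfFinitePresentation ι₂] [QuasiCompact ι₂]
    (k : pullback ι₁ (c.π.app i₀) ⟶ pullback ι₂ (c.π.app i₀))
    (hk : k ≫ pullback.snd ι₂ (c.π.app i₀) = pullback.snd ι₁ (c.π.app i₀)) :
    ∃ (j : I) (φ : j ⟶ i₀) (k : pullback ι₁ (D.map φ) ⟶ pullback ι₂ (D.map φ)),
        k ≫ pullback.snd ι₂ (D.map φ) = pullback.snd ι₁ (D.map φ) := by
  let 𝒱 := (D.obj i₀).affineCover.finiteSubcover
  obtain ⟨j, φ, hj⟩ := exists_common_stage i₀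
    (fun (a : 𝒱.I₀) j φ => ∃ h : pullback (pullback.fst ι₁ (𝒱.f a) ≫ ι₁) (D.map φ) ⟶ Z₂,
      h ≫ ι₂ = pullback.fst _ _ ≫ (pullback.fst ι₁ (𝒱.f a) ≫ ι₁))
    (fun a j j' φ ψ h => fac_of_le D i₀ ι₂ _ φ ψ h)
    (fun a => affine_piece D c hc i₀ ι₁ ι₂ (𝒱.f a) k hk _ rfl)
  obtain ⟨m, hm⟩ : ∃ m : pullback ι₁ (D.map φ) ⟶ D.obj i₀,
    m = pullback.fst ι₁ (D.map φ) ≫ ι₁ := ⟨_, rfl⟩
  obtain ⟨h, hh⟩ := exists_fac_of_openCover m ι₂ (𝒱.pullback₁ m) (by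
    intro a
    obtain ⟨ha, hha⟩ := hj a
    change ∃ g : pullback m (𝒱.f a) ⟶ Z₂, g ≫ ι₂ = pullback.fst m (𝒱.f a) ≫ m
    have e1 : (pullback.fst m (𝒱.f a) ≫ pullback.fst ι₁ (D.map φ)) ≫ ι₁ =
        pullback.snd m (𝒱.f a) ≫ 𝒱.f a := by
      rw [Category.assoc, ← hm, pullback.condition]
    have e2 : pullback.lift (pullback.fst m (𝒱.f a) ≫ pullback.fst ι₁ (D.map φ))
        (pullback.snd m (𝒱.f a)) e1 ≫ (pullback.fst ι₁ (𝒱.f a) ≫ ι₁) =
        (pullback.fst m (𝒱.f a) ≫ pullback.snd ι₁ (D.map φ)) ≫ D.map φ := by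
      rw [pullback.lift_fst_assoc, Category.assoc, Category.assoc, pullback.condition]
    refine ⟨pullback.lift (pullback.lift (pullback.fst m (𝒱.f a) ≫ pullback.fst ι₁ (D.map φ))
        (pullback.snd m (𝒱.f a)) e1) (pullback.fst m (𝒱.f a) ≫ pullback.snd ι₁ (D.map φ)) e2 ≫ ha,
      ?_⟩
    rw [Category.assoc, hha, pullback.lift_fst_assoc, pullback.lift_fst_assoc, Category.assoc, hm])
  refine ⟨j, φ, pullback.lift h (pullback.snd ι₁ (D.map φ)) ?_, pullback.lift_snd _ _ _⟩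
  rw [hh, hm, pullback.condition]

theorem backward (j : I) (φ : j ⟶ i₀) (k : pullback ι₁ (D.map φ) ⟶ pullback ι₂ (D.map φ))
    (hk : k ≫ pullback.snd ι₂ (D.map φ) = pullback.snd ι₁ (D.map φ)) :
    ∃ k : pullback ι₁ (c.π.app i₀) ⟶ pullback ι₂ (c.π.app i₀),
        k ≫ pullback.snd ι₂ (c.π.app i₀) = pullback.snd ι₁ (c.π.app i₀) := by
  have e1 : pullback.fst ι₁ (c.π.app i₀) ≫ ι₁ =
      (pullback.snd ι₁ (c.π.app i₀) ≫ c.π.app j) ≫ D.map φ := by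
    rw [Category.assoc, c.w φ, pullback.condition]
  have e2 : (pullback.lift (pullback.fst ι₁ (c.π.app i₀))
      (pullback.snd ι₁ (c.π.app i₀) ≫ c.π.app j) e1 ≫ k ≫ pullback.fst ι₂ (D.map φ)) ≫ ι₂ =
      pullback.snd ι₁ (c.π.app i₀) ≫ c.π.app i₀ := by
    rw [Category.assoc, Category.assoc, pullback.condition, reassoc_of% hk,
      pullback.lift_snd_assoc, Category.assoc, c.w φ]
  exact ⟨pullback.lift _ (pullback.snd ι₁ (c.π.app i₀)) e2, pullback.lift_snd _ _ _⟩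

end Aux

open CategoryTheory.Limits in
/-- Let S = lim S_i be a cofiltered limit of schemes with affine transition maps and S_{i₀} a
quasi-compact stage; let ι₁ : Z₁ ⟶ S_{i₀} and ι₂ : Z₂ ⟶ S_{i₀} be two subschemes of finite
presentation of S_{i₀} (immersions which are locally of finite presentation and quasi-compact), with
base changes Z₁ ×_{S_{i₀}} T ⟶ T to T = S and to T = S_j. Then Z₁ ×_{S_{i₀}} S is a subscheme of Z₂
×_{S_{i₀}} S (its immersion into S factors through that of Z₂ ×_{S_{i₀}} S) if and only if, for some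
index j over i₀, Z₁ ×_{S_{i₀}} S_j is a subscheme of Z₂ ×_{S_{i₀}} S_j. -/
theorem result {I : Type u} [SmallCategory I] [IsCofiltered I]
    (D : I ⥤ Scheme.{u}) (c : Limits.Cone D) (hc : Limits.IsLimit c)
    [∀ (i j : I) (f : i ⟶ j), IsAffineHom (D.map f)] (i₀ : I) [CompactSpace (D.obj i₀)]
    {Z₁ Z₂ : Scheme.{u}} (ι₁ : Z₁ ⟶ D.obj i₀) (ι₂ : Z₂ ⟶ D.obj i₀)
    [IsImmersion ι₁] [LocallyOfFinitePresentation ι₁] [QuasiCompact ι₁]
    [IsImmersion ι₂] [LocallyOfFinitePresentation ι₂] [QuasiCompact ι₂] :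
    (∃ k : pullback ι₁ (c.π.app i₀) ⟶ pullback ι₂ (c.π.app i₀),
        k ≫ pullback.snd ι₂ (c.π.app i₀) = pullback.snd ι₁ (c.π.app i₀)) ↔
      ∃ (j : I) (φ : j ⟶ i₀) (k : pullback ι₁ (D.map φ) ⟶ pullback ι₂ (D.map φ)),
        k ≫ pullback.snd ι₂ (D.map φ) = pullback.snd ι₁ (D.map φ) := by
  constructor
  · rintro ⟨k, hk⟩
    exact forward D c hc i₀ ι₁ ι₂ k hk
  · rintro ⟨j, φ, k, hk⟩
    exact backward D c i₀ ι₁ ι₂ j φ k hk

end Groth.Agent.S4816
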