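import Groth.Statements.S4817
import Groth.Agent.Lib.Helper50.LimStageLoc
import Groth.Agent.Lib.Helper50.LimStageDiag2
import Groth.Agent.Lib.Helper50.LimStageFP
import Groth.Agent.Lib.Helper50.LimDesc11

set_option autoImplicit false
universe u
open CategoryTheory AlgebraicGeometry
open Lim8

namespace Groth.Agent.S4817

open CategoryTheory.Limits in
/-- Let S = lim S_i be a cofiltered limit of schemes with affine transition maps and S_{i₀} a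
quasi-compact stage; let ι₀ : Z₀ ⟶ S_{i₀} be a subscheme of finite presentation (an immersion which
is locally of finite presentation and quasi-compact). Then the base change Z₀ ×_{S_{i₀}} S ⟶ S of ι₀
is an open immersion if and only if, for some index j over i₀, the base change Z₀ ×_{S_{i₀}} S_j ⟶
S_j is an open immersion. This is the case of open subschemes. -/
theorem result {I : Type u} [SmallCategory I] [IsCofiltered I]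
    (D : I ⥤ Scheme.{u}) (c : Limits.Cone D) (hc : Limits.IsLimit c)
    [∀ (i j : I) (f : i ⟶ j), IsAffineHom (D.map f)] (i₀ : I) [CompactSpace (D.obj i₀)]
    {Z₀ : Scheme.{u}} (ι₀ : Z₀ ⟶ D.obj i₀) [IsImmersion ι₀] [LocallyOfFinitePresentation ι₀] [QuasiCompact ι₀] :
    IsOpenImmersion (pullback.snd ι₀ (c.π.app i₀)) ↔
      ∃ (j : I) (φ : j ⟶ i₀), IsOpenImmersion (pullback.snd ι₀ (D.map φ)) := by
  open Groth.Agent.Lib.Helper50 Groth.Agent.Lib.Helper50.StageSetup Limits in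
  have hY : IsPullback (c.π.app i₀) (𝟙 c.pt) (𝟙 (D.obj i₀)) (c.π.app i₀) :=
    IsPullback.id_vert _
  have hX := IsPullback.of_hasPullback ι₀ (c.π.app i₀)
  constructor
  · intro hP
    suffices H : ∃ j : Over i₀, IsOpenImmersion ((τ D i₀ ι₀ (𝟙 (D.obj i₀))).app j) by
      obtain ⟨j, hj⟩ := H
      have h1 : IsPullback (D.map j.hom) (𝟙 (D.obj j.left)) (𝟙 (D.obj i₀)) (D.map j.hom) :=
        IsPullback.id_vert _
      exact ⟨j.left, j.hom, (prop_iff_of_isPullback D i₀ ι₀ (𝟙 (D.obj i₀)) @IsOpenImmersion j h1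
        (IsPullback.of_hasPullback ι₀ (D.map j.hom))).mpr hj⟩
    have hV : ⨆ a, ((D.obj i₀).affineCover.finiteSubcover.f a).opensRange = ⊤ :=
      (D.obj i₀).affineCover.finiteSubcover.iSup_opensRange
    refine exists_stage_of_openCover D i₀ ι₀ (𝟙 (D.obj i₀)) @IsOpenImmersion
      (fun a ↦ ((D.obj i₀).affineCover.finiteSubcover.f a).opensRange) hV fun a ↦ ?_
    generalize hWa : ((D.obj i₀).affineCover.finiteSubcover.f a).opensRange = W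
    have hW : IsAffineOpen W := hWa ▸ isAffineOpen_opensRange _
    have : IsAffine W := hW
    have : CompactSpace ↥(ι₀ ⁻¹ᵁ W).toScheme :=
      isCompact_iff_compactSpace.mp
        (QuasiCompact.isCompact_preimage (f := ι₀) _ W.isOpen hW.isCompact)
    have : QuasiSeparatedSpace ↥(ι₀ ⁻¹ᵁ W).toScheme :=
      quasiSeparatedSpace_of_quasiSeparated (ι₀ ∣_ W)
    have hYa := isPullback_restrict_Y D c i₀ (𝟙 (D.obj i₀)) (𝟙 c.pt) (c.π.app i₀) hY W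
    have hXa := isPullback_morphismRestrict_of_isPullback hX W
    have h1 := compactSpace_E D i₀ (W.ι ≫ 𝟙 (D.obj i₀))
    have h2 := quasiSeparatedSpace_E D i₀ (W.ι ≫ 𝟙 (D.obj i₀))
    have h3 := compactSpace_F D i₀ (ι₀ ∣_ W) (W.ι ≫ 𝟙 (D.obj i₀))
    have h4 := quasiSeparatedSpace_F D i₀ (ι₀ ∣_ W) (W.ι ≫ 𝟙 (D.obj i₀))
    have h5 := locallyOfFinitePresentation_τ D i₀ (ι₀ ∣_ W) (W.ι ≫ 𝟙 (D.obj i₀))
    have hf0 : IsOpenImmersion (pullback.snd ι₀ (c.π.app i₀) ∣_ (c.π.app i₀ ⁻¹ᵁ W)) := inferInstance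
    have hf' : IsOpenImmersion
        (X := (cF D c i₀ (ι₀ ∣_ W) (W.ι ≫ 𝟙 (D.obj i₀))
          (pullback.snd ι₀ (c.π.app i₀) ∣_ (c.π.app i₀ ⁻¹ᵁ W))
          ((c.π.app i₀ ⁻¹ᵁ W).ι ≫ 𝟙 c.pt) (c.π.app i₀ ∣_ W) _ hYa hXa).pt)
        (Y := (cE D c i₀ (W.ι ≫ 𝟙 (D.obj i₀)) ((c.π.app i₀ ⁻¹ᵁ W).ι ≫ 𝟙 c.pt)
          (c.π.app i₀ ∣_ W) hYa).pt)
        (pullback.snd ι₀ (c.π.app i₀) ∣_ (c.π.app i₀ ⁻¹ᵁ W)) := hf0
    obtain ⟨j, _, hj⟩ := exists_forall_isOpenImmersion_app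
      (τ D i₀ (ι₀ ∣_ W) (W.ι ≫ 𝟙 (D.obj i₀)))
      (cF D c i₀ (ι₀ ∣_ W) (W.ι ≫ 𝟙 (D.obj i₀))
          (pullback.snd ι₀ (c.π.app i₀) ∣_ (c.π.app i₀ ⁻¹ᵁ W))
          ((c.π.app i₀ ⁻¹ᵁ W).ι ≫ 𝟙 c.pt) (c.π.app i₀ ∣_ W) _ hYa hXa)
      (hcF D c hc i₀ (ι₀ ∣_ W) (W.ι ≫ 𝟙 (D.obj i₀))
          (pullback.snd ι₀ (c.π.app i₀) ∣_ (c.π.app i₀ ⁻¹ᵁ W))
          ((c.π.app i₀ ⁻¹ᵁ W).ι ≫ 𝟙 c.pt) (c.π.app i₀ ∣_ W) _ hYa hXa)
      (cE D c i₀ (W.ι ≫ 𝟙 (D.obj i₀)) ((c.π.app i₀ ⁻¹ᵁ W).ι ≫ 𝟙 c.pt) (c.π.app i₀ ∣_ W) hYa)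
      (hcE D c hc i₀ (W.ι ≫ 𝟙 (D.obj i₀)) ((c.π.app i₀ ⁻¹ᵁ W).ι ≫ 𝟙 c.pt) (c.π.app i₀ ∣_ W) hYa)
      (pullback.snd ι₀ (c.π.app i₀) ∣_ (c.π.app i₀ ⁻¹ᵁ W))
      (hf D c i₀ (ι₀ ∣_ W) (W.ι ≫ 𝟙 (D.obj i₀))
          (pullback.snd ι₀ (c.π.app i₀) ∣_ (c.π.app i₀ ⁻¹ᵁ W))
          ((c.π.app i₀ ⁻¹ᵁ W).ι ≫ 𝟙 c.pt) (c.π.app i₀ ∣_ W) _ hYa hXa)
      (fun φ ↦ isPullback_τ D i₀ (ι₀ ∣_ W) (W.ι ≫ 𝟙 (D.obj i₀)) φ) (Over.mk (𝟙 i₀))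
    exact ⟨j, fun k ψ ↦ hj k ψ⟩
  · rintro ⟨j, φ, hP⟩
    have h1 : IsPullback (D.map φ) (𝟙 (D.obj j)) (𝟙 (D.obj i₀)) (D.map φ) :=
      IsPullback.id_vert _
    exact of_stage D c i₀ ι₀ (𝟙 (D.obj i₀)) (pullback.snd ι₀ (c.π.app i₀)) (𝟙 c.pt)
      (c.π.app i₀) (pullback.fst ι₀ (c.π.app i₀)) hY hX @IsOpenImmersion φ h1
      (IsPullback.of_hasPullback ι₀ (D.map φ)) hP

end Groth.Agent.S4817
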