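import Groth.Statements.S4821
-- import your own Groth.Agent.* helpers here
import Mathlib.RingTheory.MvPolynomial.Localization
import Mathlib.RingTheory.Localization.Ideal

set_option autoImplicit false
universe u
open Cons9

namespace Groth.Agent.S4821

attribute [local instance] MvPolynomial.algebraMvPolynomial in
theorem exists_C_mem {A : Type u} [CommRing A] [IsDomain A] {m : ℕ}
    (I : Ideal (MvPolynomial (Fin m) A))
    (hη : Ideal.map (MvPolynomial.map (σ := Fin m) (algebraMap A (FractionRing A))) I = ⊤) :
    ∃ f : A, f ≠ 0 ∧ MvPolynomial.C f ∈ I := by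
  classical
  have hloc : IsLocalization ((nonZeroDivisors A).map (MvPolynomial.C (σ := Fin m)))
      (MvPolynomial (Fin m) (FractionRing A)) :=
    MvPolynomial.isLocalization (nonZeroDivisors A) (FractionRing A)
  have h1 : (1 : MvPolynomial (Fin m) (FractionRing A)) ∈
      Ideal.map (algebraMap (MvPolynomial (Fin m) A) (MvPolynomial (Fin m) (FractionRing A))) I := by
    rw [MvPolynomial.algebraMap_def, hη]; trivial
  obtain ⟨⟨⟨a, ha⟩, ⟨s, hs⟩⟩, h⟩ :=
    (IsLocalization.mem_map_algebraMap_iff
      ((nonZeroDivisors A).map (MvPolynomial.C (σ := Fin m))) _).mp h1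
  obtain ⟨f, hf, rfl⟩ := hs
  refine ⟨f, nonZeroDivisors.ne_zero hf, ?_⟩
  simp only [one_mul] at h
  have hinj : Function.Injective
      (algebraMap (MvPolynomial (Fin m) A) (MvPolynomial (Fin m) (FractionRing A))) := by
    rw [MvPolynomial.algebraMap_def]
    exact MvPolynomial.map_injective _ (IsFractionRing.injective A (FractionRing A))
  have := hinj h
  simpa [this] using ha


/-- Let A be an integral domain with fraction field K, and (P_i) a finite family of polynomials in
A[T_1, …, T_m], generating an ideal 𝔞; for a point s of Spec A write 𝔞_s for the ideal of κ(s)[T_1,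
…, T_m] generated by the images of the P_i. If the zero locus of 𝔞_η in affine m-space over K = κ(η)
is empty, that is if 𝔞_η is the unit ideal, then there is an open neighbourhood D(f) (f ≠ 0) of the
generic point such that 𝔞_s is the unit ideal (its zero locus is empty) for every s in D(f). -/
theorem result {A : Type u} [CommRing A] [IsDomain A] {m : ℕ}
    (P : Finset (MvPolynomial (Fin m) A))
    (hη : Ideal.span ((MvPolynomial.map (algebraMap A (FractionRing A))) '' (P : Set (MvPolynomial (Fin m) A))) = ⊤) :
    ∃ f : A, f ≠ 0 ∧ ∀ p : PrimeSpectrum A, f ∉ p.asIdeal →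
      Ideal.span ((MvPolynomial.map (algebraMap A p.asIdeal.ResidueField)) '' (P : Set (MvPolynomial (Fin m) A))) = ⊤ := by
  rw [← Ideal.map_span] at hη
  obtain ⟨f, hf0, hf⟩ := exists_C_mem _ hη
  refine ⟨f, hf0, fun p hp => ?_⟩
  rw [← Ideal.map_span]
  have h2 := Ideal.mem_map_of_mem (MvPolynomial.map (algebraMap A p.asIdeal.ResidueField)) hf
  rw [MvPolynomial.map_C] at h2
  apply Ideal.eq_top_of_isUnit_mem _ h2
  have hne : algebraMap A p.asIdeal.ResidueField f ≠ 0 := by
    rw [Ne, Ideal.algebraMap_residueField_eq_zero]; exact hp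
  exact hne.isUnit.map MvPolynomial.C

end Groth.Agent.S4821
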