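import Groth.Statements.S4825
-- import your own Groth.Agent.* helpers here
import Groth.Agent.Lib.Helper41.ZMTFinGlue

set_option autoImplicit false
open CategoryTheory AlgebraicGeometry
universe u
open Lim8

namespace Groth.Agent.S4825

open CategoryTheory.Limits

theorem forward {X Y Y' : Scheme.{u}} (f : X ⟶ Y) (f' : X ⟶ Y') (u : Y' ⟶ Y) [IsImmersion f']
    [IsFinite u] (hfac : f' ≫ u = f) {S : Scheme.{u}} (s : S ⟶ Y) :
    ∃ (Z : Scheme.{u}) (g : pullback f s ⟶ Z) (v : Z ⟶ S),
      IsImmersion g ∧ IsFinite v ∧ g ≫ v = pullback.snd f s := by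
  subst hfac
  have hcond : (pullback.fst (f' ≫ u) s ≫ f') ≫ u = pullback.snd (f' ≫ u) s ≫ s := by
    rw [Category.assoc]; exact pullback.condition
  refine ⟨pullback u s, pullback.lift (pullback.fst (f' ≫ u) s ≫ f') (pullback.snd (f' ≫ u) s) hcond,
    pullback.snd u s, ?_, inferInstance, pullback.lift_snd _ _ _⟩
  have big : IsPullback (pullback.lift (pullback.fst (f' ≫ u) s ≫ f') (pullback.snd (f' ≫ u) s) hcond ≫
      pullback.snd u s) (pullback.fst (f' ≫ u) s) s (f' ≫ u) := by
    rw [pullback.lift_snd]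
    exact (IsPullback.of_hasPullback (f' ≫ u) s).flip
  have sq := IsPullback.of_right big (pullback.lift_fst _ _ _) (IsPullback.of_hasPullback u s).flip
  exact MorphismProperty.of_isPullback (P := @IsImmersion) sq.flip inferInstance

theorem locallyQuasiFinite_of_pointwise {X Y : Scheme.{u}} (f : X ⟶ Y) [LocallyOfFiniteType f]
    [QuasiCompact f]
    (h : ∀ y : Y, LocallyQuasiFinite (pullback.snd f (Y.fromSpecStalk y))) :
    LocallyQuasiFinite f := by
  rw [locallyQuasiFinite_iff_finite_preimage_singleton]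
  intro y
  have := h y
  have hfin := (pullback.snd f (Y.fromSpecStalk y)).finite_preimage_singleton
    (IsLocalRing.closedPoint (Y.presheaf.stalk y))
  refine (hfin.image (pullback.fst f (Y.fromSpecStalk y))).subset ?_
  intro x hx
  have hxy : f x = y := hx
  have hcl : Y.fromSpecStalk y (IsLocalRing.closedPoint (Y.presheaf.stalk y)) = y :=
    Scheme.fromSpecStalk_closedPoint
  obtain ⟨z, hz1, hz2⟩ := Scheme.Pullback.exists_preimage_pullback (f := f)
    (g := Y.fromSpecStalk y) x (IsLocalRing.closedPoint (Y.presheaf.stalk y)) (by rw [hxy, hcl])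
  exact ⟨z, hz2, hz1⟩

theorem isSeparated_of_pointwise {X Y : Scheme.{u}} (f : X ⟶ Y) [QuasiSeparated f]
    (h : ∀ y : Y, IsSeparated (pullback.snd f (Y.fromSpecStalk y))) : IsSeparated f := by
  refine IsSeparated.of_valuativeCriterion f (fun S => ?_)
  constructor
  rintro ⟨l₁, hl₁, hl₁'⟩ ⟨l₂, hl₂, hl₂'⟩
  ext : 1
  dsimp at *
  have hφ : Spec.map (Scheme.stalkClosedPointTo S.i₂) ≫ Y.fromSpecStalk _ = S.i₂ :=
    Scheme.Spec_stalkClosedPointTo_fromSpecStalk S.i₂
  have hsep := h (S.i₂ (IsLocalRing.closedPoint S.R))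
  have hc₁ : l₁ ≫ f = Spec.map (Scheme.stalkClosedPointTo S.i₂) ≫ Y.fromSpecStalk _ := by
    rw [hl₁', hφ]
  have hc₂ : l₂ ≫ f = Spec.map (Scheme.stalkClosedPointTo S.i₂) ≫ Y.fromSpecStalk _ := by
    rw [hl₂', hφ]
  have hcs : CommSq (Spec.map (CommRingCat.ofHom (algebraMap S.R S.K)) ≫
      pullback.lift l₁ (Spec.map (Scheme.stalkClosedPointTo S.i₂)) hc₁)
      (Spec.map (CommRingCat.ofHom (algebraMap S.R S.K)))
      (pullback.snd f (Y.fromSpecStalk (S.i₂ (IsLocalRing.closedPoint S.R))))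
      (Spec.map (Scheme.stalkClosedPointTo S.i₂)) := ⟨by
    rw [Category.assoc, pullback.lift_snd]⟩
  let S' : ValuativeCommSq (pullback.snd f (Y.fromSpecStalk (S.i₂ (IsLocalRing.closedPoint S.R)))) :=
    ⟨S.R, S.K, _, _, hcs⟩
  have hsub : Subsingleton S'.commSq.LiftStruct :=
    IsSeparated.valuativeCriterion
      (pullback.snd f (Y.fromSpecStalk (S.i₂ (IsLocalRing.closedPoint S.R)))) S'
  let L₁ : S'.commSq.LiftStruct :=
    ⟨pullback.lift l₁ (Spec.map (Scheme.stalkClosedPointTo S.i₂)) hc₁, rfl, pullback.lift_snd _ _ _⟩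
  let L₂ : S'.commSq.LiftStruct :=
    ⟨pullback.lift l₂ (Spec.map (Scheme.stalkClosedPointTo S.i₂)) hc₂, by
      apply pullback.hom_ext
      · simp only [Category.assoc, pullback.lift_fst, S']
        rw [hl₂, hl₁]
      · simp only [Category.assoc, pullback.lift_snd, S'], pullback.lift_snd _ _ _⟩
  have h12 : L₁ = L₂ := Subsingleton.elim _ _
  have hm : pullback.lift l₁ (Spec.map (Scheme.stalkClosedPointTo S.i₂)) hc₁ =
      pullback.lift l₂ (Spec.map (Scheme.stalkClosedPointTo S.i₂)) hc₂ :=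
    congrArg CommSq.LiftStruct.l h12
  calc l₁ = pullback.lift l₁ (Spec.map (Scheme.stalkClosedPointTo S.i₂)) hc₁ ≫ pullback.fst _ _ :=
        (pullback.lift_fst _ _ _).symm
    _ = pullback.lift l₂ (Spec.map (Scheme.stalkClosedPointTo S.i₂)) hc₂ ≫ pullback.fst _ _ := by
        rw [hm]
    _ = l₂ := pullback.lift_fst _ _ _

open CategoryTheory.Limits in
/-- Let Y be a Noetherian scheme and f : X ⟶ Y a morphism of finite type. Then f admits a factorization
into an immersion followed by a finite morphism if and only if, for every point y of Y, the base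
change X ×_Y Spec O_{Y,y} ⟶ Spec O_{Y,y} of f to the local scheme of Y at y admits such a
factorization. (Pointwise criterion for pseudo-finite morphisms.) -/
theorem result {X Y : Scheme.{u}} (f : X ⟶ Y) [IsNoetherian Y]
    [LocallyOfFiniteType f] [QuasiCompact f] :
    (∃ (Y' : Scheme.{u}) (f' : X ⟶ Y') (u : Y' ⟶ Y), IsImmersion f' ∧ IsFinite u ∧ f' ≫ u = f) ↔
      ∀ y : Y, ∃ (Z : Scheme.{u}) (g : pullback f (Y.fromSpecStalk y) ⟶ Z) (u : Z ⟶ Spec (Y.presheaf.stalk y)),
        IsImmersion g ∧ IsFinite u ∧ g ≫ u = pullback.snd f (Y.fromSpecStalk y) := by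
  constructor
  · rintro ⟨Y', f', u, hf', hu, hfac⟩ y
    exact forward f f' u hfac (Y.fromSpecStalk y)
  · intro h
    have : IsLocallyNoetherian X := LocallyOfFiniteType.isLocallyNoetherian f
    have : QuasiSeparated f := inferInstance
    have : LocallyQuasiFinite f := by
      refine locallyQuasiFinite_of_pointwise f (fun y => ?_)
      obtain ⟨Z, g, v, hg, hv, hfac⟩ := h y
      rw [← hfac]; infer_instance
    have : IsSeparated f := by
      refine isSeparated_of_pointwise f (fun y => ?_)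
      obtain ⟨Z, g, v, hg, hv, hfac⟩ := h y
      rw [← hfac]; infer_instance
    obtain ⟨T, j, π, hj, hπ, hfac⟩ := Groth.Agent.Lib.Helper41.ZMTFinGlue.zmtf_of_qcqs f
    exact ⟨T, j, π, inferInstance, hπ, hfac⟩

end Groth.Agent.S4825
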