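import Groth.Statements.S4826
import Groth.Agent.Lib.Helper67.GUC3

set_option autoImplicit false
open CategoryTheory AlgebraicGeometry
universe u
open Cons9

namespace Groth.Agent.S4826

/-- Let X be a locally Noetherian scheme whose reduction has a normalization finite over X: for every
affine open U of X, the integral closure of Γ(U)_red in its total ring of fractions is a finite
module over Γ(U)_red. Then the set of points x of X at which X is geometrically unibranch (the local
ring O_{X,x} is geometrically unibranch) is locally constructible in X. -/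
theorem result (X : Scheme.{u}) [IsLocallyNoetherian X]
    (hfin : ∀ U : X.affineOpens, Module.Finite (CAlg2.red Γ(X, U.1)) (CAlg2.normRed Γ(X, U.1))) :
    Topology.IsLocallyConstructible {x : X | CAlg2.IsGeomUnibranch (X.presheaf.stalk x)} := by
  refine Topology.IsLocallyConstructible.of_isOpenCover (U := fun U : X.affineOpens => U.1)
    (AlgebraicGeometry.iSup_affineOpens_eq_top X) ?_
  intro U
  have hU : AlgebraicGeometry.IsAffineOpen U.1 := U.2
  haveI : IsNoetherianRing Γ(X, U.1) := AlgebraicGeometry.IsLocallyNoetherian.component_noetherian U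
  have hc := (Groth.Agent.Lib.Helper67.GUCons.isConstructible_pgu_locus Γ(X, U.1)
    (hfin U)).isLocallyConstructible
  have he : Topology.IsOpenEmbedding (fun x : U.1 => hU.primeIdealOf x) :=
    (AlgebraicGeometry.Scheme.homeoOfIso hU.isoSpec).isOpenEmbedding
  have key : ((Subtype.val : U.1 → X) ⁻¹'
      {x : X | CAlg2.IsGeomUnibranch (X.presheaf.stalk x)}) =
      (fun x : U.1 => hU.primeIdealOf x) ⁻¹' {p : PrimeSpectrum Γ(X, U.1) |
        Groth.Agent.Lib.Helper87.GeomUnibranchSmooth.PGU (Localization.AtPrime p.asIdeal)} := by
    ext ⟨x, hx⟩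
    simp only [Set.mem_preimage, Set.mem_ofPred_eq]
    exact Groth.Agent.Lib.Helper87.GUScheme.pgu_stalk_iff hU x hx
  show Topology.IsLocallyConstructible ((Subtype.val : U.1 → X) ⁻¹'
      {x : X | CAlg2.IsGeomUnibranch (X.presheaf.stalk x)})
  rw [key]
  exact hc.preimage_of_isOpenEmbedding he

end Groth.Agent.S4826
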