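import Groth.Statements.S4834
-- import your own Groth.Agent.* helpers here
import Mathlib.Algebra.Category.ModuleCat.FilteredColimits
import Mathlib.CategoryTheory.Limits.ConcreteCategory.WithAlgebraicStructures
import Mathlib.CategoryTheory.Limits.Types.Filtered

set_option autoImplicit false
open CategoryTheory CategoryTheory.Limits
universe u
open Lim8

namespace Groth.Agent.S4834

theorem post_ι {A : Type u} [CommRing A] (M : ModuleCat.{u} A)
    {J : Type u} [Preorder J] [IsDirected J (· ≤ ·)] [Nonempty J]
    (N : J ⥤ ModuleCat.{u} A) (i : J) (a : M ⟶ N.obj i) :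
    colimit.post N (coyoneda.obj (Opposite.op M))
      (colimit.ι (N ⋙ coyoneda.obj (Opposite.op M)) i a) = a ≫ colimit.ι N i := by
  have := congr($(colimit.ι_post N (coyoneda.obj (Opposite.op M)) i) a)
  exact this


/-- Let A be a commutative ring, M an A-module of finite type and (N_λ) an inductive system of A-modules
indexed by a nonempty directed preordered set. Then the canonical map colim_λ Hom_A(M, N_λ) →
Hom_A(M, colim_λ N_λ), sending a compatible system of homomorphisms to its inductive limit, is
injective. This is the finite type case, in the form its proof gives. -/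
theorem result {A : Type u} [CommRing A] (M : ModuleCat.{u} A)
    [Module.Finite A M] {J : Type u} [Preorder J] [IsDirected J (· ≤ ·)] [Nonempty J]
    (N : J ⥤ ModuleCat.{u} A) :
    Function.Injective (colimit.post N (coyoneda.obj (Opposite.op M))) := by
  classical
  intro x y hxy
  obtain ⟨i, a, rfl⟩ := Types.jointly_surjective' x
  obtain ⟨j, b, rfl⟩ := Types.jointly_surjective' y
  change M ⟶ N.obj i at a
  change M ⟶ N.obj j at b
  rw [post_ι, post_ι] at hxy
  have key : ∀ m : M, ∃ (k : J) (f : i ⟶ k) (g : j ⟶ k),
      N.map f (a m) = N.map g (b m) := fun m =>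
    (Concrete.colimit_rep_eq_iff_exists N (a m) (b m)).mp (by
      have := congr($hxy m)
      simpa using this)
  obtain ⟨S, hS⟩ := Module.Finite.fg_top (R := A) (M := M)
  choose k f g h using key
  obtain ⟨K, hK⟩ := Finset.exists_le (S.image k ∪ {i, j})
  have hiK : i ≤ K := hK i (by simp)
  have hjK : j ≤ K := hK j (by simp)
  refine (Types.FilteredColimit.colimit_eq_iff _).mpr ⟨K, homOfLE hiK, homOfLE hjK, ?_⟩
  change a ≫ N.map (homOfLE hiK) = b ≫ N.map (homOfLE hjK)
  ext : 1
  apply LinearMap.ext_on hS
  intro m hm
  have hkK : k m ≤ K := hK (k m) (by simp [Finset.mem_image_of_mem k hm])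
  have e1 : homOfLE hiK = f m ≫ homOfLE hkK := Subsingleton.elim _ _
  have e2 : homOfLE hjK = g m ≫ homOfLE hkK := Subsingleton.elim _ _
  rw [e1, e2]
  simp only [Functor.map_comp, ModuleCat.hom_comp, LinearMap.coe_comp, Function.comp_apply]
  exact congrArg _ (h m)

end Groth.Agent.S4834
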