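import Groth.Statements.S4835
-- import your own Groth.Agent.* helpers here
import Groth.Agent.S4834
import Mathlib.LinearAlgebra.StdBasis

set_option autoImplicit false
open CategoryTheory CategoryTheory.Limits
universe u
open Lim8

namespace Groth.Agent.S4835

theorem exists_lift {A : Type u} [CommRing A] (M : ModuleCat.{u} A)
    [Module.FinitePresentation A M] {J : Type u} [Preorder J] [IsDirected J (· ≤ ·)] [Nonempty J]
    (N : J ⥤ ModuleCat.{u} A) (φ : M ⟶ colimit N) :
    ∃ (i : J) (ψ : M ⟶ N.obj i), ψ ≫ colimit.ι N i = φ := by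
  classical
  obtain ⟨n, m, f, g, hf, hgf⟩ := Module.FinitePresentation.exists_fin' A M
  -- step 1: representatives of the images of the generators
  have h1 : ∀ l : Fin n, ∃ (j : J) (x : N.obj j),
      colimit.ι N j x = φ (f (Pi.basisFun A (Fin n) l)) :=
    fun l => Concrete.colimit_exists_rep N _
  choose j x hx using h1
  obtain ⟨i, hi⟩ := Finset.exists_le (Finset.univ.image j)
  have hji : ∀ l, j l ≤ i := fun l => hi _ (Finset.mem_image_of_mem j (Finset.mem_univ l))
  let ψ₀ : (Fin n → A) →ₗ[A] N.obj i :=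
    (Pi.basisFun A (Fin n)).constr A (fun l => N.map (homOfLE (hji l)) (x l))
  have hψ₀ : (colimit.ι N i).hom ∘ₗ ψ₀ = φ.hom ∘ₗ f := by
    apply (Pi.basisFun A (Fin n)).ext
    intro l
    simp only [LinearMap.coe_comp, Function.comp_apply, ψ₀, Module.Basis.constr_basis]
    rw [← hx l]
    have := congr($(colimit.w N (homOfLE (hji l))) (x l))
    simpa using this
  -- step 2: kill the relations
  have h2 : ∀ t : Fin m, ∃ (k : J) (hk : i ⟶ k),
      (N.map hk).hom (ψ₀ (g (Pi.basisFun A (Fin m) t))) = 0 := by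
    intro t
    apply Concrete.colimit_rep_eq_zero
    have := congr($hψ₀ (g (Pi.basisFun A (Fin m) t)))
    simp only [LinearMap.coe_comp, Function.comp_apply] at this
    rw [this, hgf.apply_apply_eq_zero, map_zero]
  choose k hk hk0 using h2
  obtain ⟨i', hi'⟩ := Finset.exists_le (Finset.univ.image k ∪ {i})
  have hki' : ∀ t, k t ≤ i' := fun t => hi' _ (by simp)
  have hii' : i ≤ i' := hi' _ (by simp)
  let ψ₁ : (Fin n → A) →ₗ[A] N.obj i' := (N.map (homOfLE hii')).hom ∘ₗ ψ₀
  have hψ₁g : ψ₁ ∘ₗ g = 0 := by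
    apply (Pi.basisFun A (Fin m)).ext
    intro t
    have e1 : homOfLE hii' = hk t ≫ homOfLE (hki' t) := Subsingleton.elim _ _
    simp only [LinearMap.coe_comp, Function.comp_apply, ψ₁, LinearMap.zero_apply]
    rw [e1]
    simp only [Functor.map_comp, ModuleCat.hom_comp, LinearMap.coe_comp, Function.comp_apply]
    rw [hk0 t, map_zero]
  have hle : LinearMap.ker f ≤ LinearMap.ker ψ₁ := by
    rw [hgf.linearMap_ker_eq]
    rintro _ ⟨v, rfl⟩
    exact congr($hψ₁g v)
  let e := f.quotKerEquivOfSurjective hf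
  let ψ : M →ₗ[A] N.obj i' := (Submodule.liftQ (LinearMap.ker f) ψ₁ hle) ∘ₗ e.symm.toLinearMap
  have hψ : ∀ v, ψ (f v) = ψ₁ v := by
    intro v
    have : e.symm (f v) = Submodule.Quotient.mk v := by
      rw [LinearEquiv.symm_apply_eq]
      rfl
    simp [ψ, this]
  refine ⟨i', ModuleCat.ofHom ψ, ?_⟩
  ext : 1
  apply LinearMap.ext
  intro w
  obtain ⟨v, rfl⟩ := hf w
  simp only [ModuleCat.hom_comp, ModuleCat.hom_ofHom, LinearMap.coe_comp, Function.comp_apply]
  rw [hψ v]
  have h3 := congr($hψ₀ v)
  simp only [LinearMap.coe_comp, Function.comp_apply] at h3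
  rw [← h3]
  have := congr($(colimit.w N (homOfLE hii')) (ψ₀ v))
  simpa [ψ₁] using this


/-- Let A be a commutative ring, M an A-module of finite presentation and (N_λ) an inductive system of
A-modules indexed by a nonempty directed preordered set. Then the canonical map colim_λ Hom_A(M,
N_λ) → Hom_A(M, colim_λ N_λ), sending a compatible system of homomorphisms to its inductive limit,
is bijective. This is the form established in the source's proof (finite presentation case). -/
theorem result {A : Type u} [CommRing A] (M : ModuleCat.{u} A)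
    [Module.FinitePresentation A M] {J : Type u} [Preorder J] [IsDirected J (· ≤ ·)] [Nonempty J]
    (N : J ⥤ ModuleCat.{u} A) :
    Function.Bijective (colimit.post N (coyoneda.obj (Opposite.op M))) := by
  refine ⟨Groth.Agent.S4834.result M N, ?_⟩
  intro φ
  change M ⟶ colimit N at φ
  obtain ⟨i, ψ, hψ⟩ := exists_lift M N φ
  refine ⟨colimit.ι (N ⋙ coyoneda.obj (Opposite.op M)) i ψ, ?_⟩
  rw [Groth.Agent.S4834.post_ι]
  exact hψ

end Groth.Agent.S4835
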