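import Groth.Statements.S4837
import Mathlib
import Groth.Agent.S8255

set_option autoImplicit false
open CategoryTheory AlgebraicGeometry
universe u
open Lim8

namespace Groth.Agent.S4837

theorem injective_iff {X Y : Scheme.{u}} (f : X ⟶ Y)
    [QuasiCompact f] [QuasiSeparated f] (C : RelSpec.QCAlg Y) (g : X ⟶ C.spec) (w : g ≫ C.π = f)
    (φ : C ⟶ RelSpec.QCAlg.directImage f)
    (hφ : C.gammaMap ≫ φ.hom = AffAlg.algHom C.π f g w) (U : Y.Opens) :
    Function.Injective (φ.hom.app (Opposite.op U)).hom ↔
      Function.Injective (g.app (C.π ⁻¹ᵁ U)).hom := by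
  haveI : IsIso C.gammaMap := Groth.Agent.S8255.result C
  have h1 := NatTrans.congr_app hφ (Opposite.op U)
  rw [NatTrans.comp_app] at h1
  subst w
  have h2 : (AffAlg.algHom C.π (g ≫ C.π) g rfl).app (Opposite.op U) = g.app (C.π ⁻¹ᵁ U) := by
    simp [AffAlg.algHom]
    rfl
  rw [h2] at h1
  have hbij : Function.Bijective (C.gammaMap.app (Opposite.op U)).hom :=
    ConcreteCategory.bijective_of_isIso (C.gammaMap.app (Opposite.op U))
  rw [← h1]
  change _ ↔ Function.Injective ((φ.hom.app (Opposite.op U)).hom ∘ (C.gammaMap.app (Opposite.op U)).hom)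
  constructor
  · intro h
    exact h.comp hbij.injective
  · intro h
    exact (Function.Injective.of_comp_iff' _ hbij).mp h

/-- Let f : X ⟶ Y be a quasi-compact quasi-separated morphism, C a quasi-coherent O_Y-algebra with
relative spectrum Z = Spec(C) over Y, g : X ⟶ Z a Y-morphism which is an immersion, and φ : C ⟶
f_*O_X the homomorphism of O_Y-algebras corresponding to g (the canonical identification of C with
the direct image of O_Z followed by the map induced by g). Then the scheme-theoretic image of g is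
the whole of Z, i.e. the kernel ideal of g vanishes, if and only if φ is injective; and when this
holds g is an open immersion. -/
theorem result {X Y : Scheme.{u}} (f : X ⟶ Y)
    [QuasiCompact f] [QuasiSeparated f] (C : RelSpec.QCAlg Y) (g : X ⟶ C.spec) (w : g ≫ C.π = f)
    [IsImmersion g] (φ : C ⟶ RelSpec.QCAlg.directImage f)
    (hφ : C.gammaMap ≫ φ.hom = AffAlg.algHom C.π f g w) :
    (g.ker = ⊥ ↔ ∀ U : Y.Opens, Function.Injective (φ.hom.app (Opposite.op U)).hom) ∧
      (g.ker = ⊥ → IsOpenImmersion g) := by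
  haveI : QuasiCompact g := by
    haveI : QuasiCompact (g ≫ C.π) := by rw [w]; infer_instance
    exact QuasiCompact.of_comp g C.π
  have key := injective_iff f C g w φ hφ
  refine ⟨⟨fun hk U => ?_, fun h => ?_⟩, fun hk => ?_⟩
  · haveI : IsSchemeTheoreticallyDominant g := ⟨hk⟩
    exact (key U).mpr (g.app_injective (C.π ⁻¹ᵁ U))
  · refine Scheme.IdealSheafData.ext_of_iSup_eq_top
      (fun U : Y.affineOpens => ⟨C.π ⁻¹ᵁ U.1, U.2.preimage C.π⟩) ?_ ?_
    · change ⨆ U : Y.affineOpens, C.π ⁻¹ᵁ U.1 = ⊤
      rw [← Scheme.Hom.preimage_iSup, iSup_affineOpens_eq_top]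
      rfl
    · intro U
      rw [Scheme.Hom.ker_apply, Scheme.IdealSheafData.ideal_bot]
      exact (RingHom.injective_iff_ker_eq_bot _).mp ((key U.1).mp (h U.1))
  · haveI : IsIso g.imageι := by
      rw [IsClosedImmersion.isIso_iff_ker_eq_bot, Scheme.IdealSheafData.ker_subschemeι]
      exact hk
    rw [← g.toImage_imageι]
    infer_instance

end Groth.Agent.S4837
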