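import Groth.Statements.S4839
import Mathlib
import Groth.Agent.S4795
import Groth.Agent.Lib.Helper46.PullbackStage
import Groth.Agent.Lib.Helper50.FGLim

set_option autoImplicit false
open CategoryTheory AlgebraicGeometry
universe u
open Cons9

namespace Groth.Agent.S4839

open CategoryTheory.Limits in
private lemma main_of_limit {I : Type u} [SmallCategory I] [IsCofiltered I]
    (D : I ⥤ Scheme.{u}) (c : Limits.Cone D) (hc : Limits.IsLimit c)
    [∀ (i j : I) (f : i ⟶ j), IsAffineHom (D.map f)] (i₀ : I)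
    [CompactSpace (D.obj i₀)] [QuasiSeparatedSpace (D.obj i₀)]
    {B X Y : Scheme.{u}} (p : X ⟶ B) (q : Y ⟶ B)
    [LocallyOfFinitePresentation p] [QuasiCompact p] [QuasiSeparated p]
    [LocallyOfFinitePresentation q] [QuasiCompact q] [QuasiSeparated q]
    (β : ∀ j, D.obj j ⟶ B) (hβ : ∀ {j k : I} (φ : j ⟶ k), D.map φ ≫ β k = β j)
    (b : c.pt ⟶ B) (hb : ∀ j, c.π.app j ≫ β j = b)
    (e : pullback p b ≅ pullback q b) (he : e.hom ≫ pullback.snd q b = pullback.snd p b) :
    ∃ (j : I) (e' : pullback p (β j) ≅ pullback q (β j)),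
      e'.hom ≫ pullback.snd q (β j) = pullback.snd p (β j) := by
  obtain ⟨j, φ, Xj, Yj, aj, bj, pX, pY, hpX, hpY, e'', he''⟩ :=
    (Groth.Agent.S4795.result D c hc i₀ (pullback.snd p (β i₀)) (pullback.snd q (β i₀))
      (pullback.snd p b) (pullback.snd q b) _ _
      (Groth.Agent.Lib.Helper46.isPullback_stage p (β i₀) (c.π.app i₀) b (hb i₀))
      (Groth.Agent.Lib.Helper46.isPullback_stage q (β i₀) (c.π.app i₀) b (hb i₀))).mp ⟨e, he⟩
  have hX := Groth.Agent.Lib.Helper46.isPullback_stage p (β i₀) (D.map φ) (β j) (hβ φ)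
  have hY := Groth.Agent.Lib.Helper46.isPullback_stage q (β i₀) (D.map φ) (β j) (hβ φ)
  refine ⟨j, hX.isoIsPullback _ _ hpX ≪≫ e'' ≪≫ (hY.isoIsPullback _ _ hpY).symm, ?_⟩
  simp only [Iso.trans_hom, Iso.symm_hom, Category.assoc, IsPullback.isoIsPullback_inv_snd, he'',
    IsPullback.isoIsPullback_hom_snd]

open CategoryTheory.Limits in
/-- Let k be a field and X, Y two schemes of finite type over k. If for some field extension K of k
there is a K-isomorphism X ⊗_k K ≅ Y ⊗_k K (X and Y are geometrically isomorphic), then there are a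
finite extension k' of k and a k'-isomorphism X ⊗_k k' ≅ Y ⊗_k k'. This is the case of the property
of being an isomorphism (base changes are the chosen fibre products with Spec of the extension). -/
theorem result {k : Type u} [Field k] {X Y : Scheme.{u}}
    (p : X ⟶ Spec (CommRingCat.of k)) (q : Y ⟶ Spec (CommRingCat.of k))
    [LocallyOfFiniteType p] [QuasiCompact p] [LocallyOfFiniteType q] [QuasiCompact q]
    (K : Type u) [Field K] [Algebra k K]
    (e : pullback p (Spec.map (CommRingCat.ofHom (algebraMap k K))) ≅ pullback q (Spec.map (CommRingCat.ofHom (algebraMap k K))))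
    (he : e.hom ≫ pullback.snd q (Spec.map (CommRingCat.ofHom (algebraMap k K))) = pullback.snd p (Spec.map (CommRingCat.ofHom (algebraMap k K)))) :
    ∃ (k' : Type u) (_ : Field k') (_ : Algebra k k') (_ : Module.Finite k k')
      (e' : pullback p (Spec.map (CommRingCat.ofHom (algebraMap k k'))) ≅ pullback q (Spec.map (CommRingCat.ofHom (algebraMap k k')))),
      e'.hom ≫ pullback.snd q (Spec.map (CommRingCat.ofHom (algebraMap k k'))) = pullback.snd p (Spec.map (CommRingCat.ofHom (algebraMap k k'))) := by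
  classical
  haveI : IsLocallyNoetherian (Spec (CommRingCat.of k)) := inferInstance
  haveI : IsLocallyNoetherian X := LocallyOfFiniteType.isLocallyNoetherian p
  haveI : IsLocallyNoetherian Y := LocallyOfFiniteType.isLocallyNoetherian q
  haveI : CompactSpace X := QuasiCompact.compactSpace_of_compactSpace p
  haveI : CompactSpace Y := QuasiCompact.compactSpace_of_compactSpace q
  haveI : IsNoetherian X := {}
  haveI : IsNoetherian Y := {}
  haveI : QuasiSeparated p := inferInstance
  haveI : QuasiSeparated q := inferInstance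
  have hβ : ∀ {j l : (Groth.Agent.Lib.Helper50.FGSub k K)ᵒᵖ} (φ : j ⟶ l),
      (Groth.Agent.Lib.Helper50.fgSpecDiagram k K).map φ ≫
        Spec.map (CommRingCat.ofHom (algebraMap k l.unop.1)) =
      Spec.map (CommRingCat.ofHom (algebraMap k j.unop.1)) := by
    intro j l φ
    change Spec.map _ ≫ Spec.map _ = _
    rw [← Spec.map_comp]
    rfl
  have hb : ∀ j : (Groth.Agent.Lib.Helper50.FGSub k K)ᵒᵖ,
      (Groth.Agent.Lib.Helper50.fgSpecCone k K).π.app j ≫
        Spec.map (CommRingCat.ofHom (algebraMap k j.unop.1)) =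
      Spec.map (CommRingCat.ofHom (algebraMap k K)) := by
    intro j
    change Spec.map _ ≫ Spec.map _ = _
    rw [← Spec.map_comp]
    rfl
  obtain ⟨j, e', he'⟩ := main_of_limit (Groth.Agent.Lib.Helper50.fgSpecDiagram k K)
    (Groth.Agent.Lib.Helper50.fgSpecCone k K) (Groth.Agent.Lib.Helper50.isLimitFgSpecCone k K)
    (Opposite.op ⟨⊥, Subalgebra.fg_bot⟩) p q
    (fun j => Spec.map (CommRingCat.ofHom (algebraMap k j.unop.1))) hβ
    (Spec.map (CommRingCat.ofHom (algebraMap k K))) hb e he
  obtain ⟨⟨A, hA⟩⟩ := j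
  obtain ⟨m, hm⟩ := Ideal.exists_maximal A
  letI : Field (A ⧸ m) := Ideal.Quotient.field m
  haveI : Algebra.FiniteType k A := (Subalgebra.fg_iff_finiteType A).mp hA
  haveI : Algebra.FiniteType k (A ⧸ m) :=
    Algebra.FiniteType.of_surjective (Ideal.Quotient.mkₐ k m) (Ideal.Quotient.mkₐ_surjective k m)
  have hfin : Module.Finite k (A ⧸ m) := finite_of_finite_type_of_isJacobsonRing k (A ⧸ m)
  have hw : Spec.map (CommRingCat.ofHom (algebraMap A (A ⧸ m))) ≫
      Spec.map (CommRingCat.ofHom (algebraMap k A)) =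
      Spec.map (CommRingCat.ofHom (algebraMap k (A ⧸ m))) := by
    rw [← Spec.map_comp]
    rfl
  obtain ⟨e₂, he₂⟩ := Groth.Agent.Lib.Helper46.exists_iso_pullback_of_iso p q
    (Spec.map (CommRingCat.ofHom (algebraMap k A)))
    (Spec.map (CommRingCat.ofHom (algebraMap A (A ⧸ m))))
    (Spec.map (CommRingCat.ofHom (algebraMap k (A ⧸ m)))) hw e' he'
  exact ⟨A ⧸ m, inferInstance, inferInstance, hfin, e₂, he₂⟩

end Groth.Agent.S4839
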