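import Groth.Statements.S4840
import Groth.Agent.Lib.Helper40.LimStage4

set_option autoImplicit false
universe u
open CategoryTheory AlgebraicGeometry
open Lim8

namespace Groth.Agent.S4840

open Groth.Agent.Lib.Helper40.LimStage Groth.Agent.Lib.Helper40.LimPres
  Groth.Agent.Lib.Helper40.LimCore

/-- Let S = lim S_i be a cofiltered limit of schemes whose transition maps are affine and flat, and
S_{i₀} a quasi-compact stage; let f₀ : F₀ ⟶ G₀ and g₀ : G₀ ⟶ H₀ be homomorphisms of quasi-coherent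
O-modules on S_{i₀} such that the image of f₀ and the kernel of g₀ are O-modules of finite type.
Then the pulled-back sequence F ⟶ G ⟶ H on S is exact (the composite is zero and the sequence is
exact at G) if and only if, for some index j over i₀, the pulled-back sequence F_j ⟶ G_j ⟶ H_j on
S_j is exact. -/
theorem result {I : Type u} [SmallCategory I] [IsCofiltered I]
    (D : I ⥤ Scheme.{u}) (c : Limits.Cone D) (hc : Limits.IsLimit c)
    [∀ (i j : I) (f : i ⟶ j), IsAffineHom (D.map f)] (i₀ : I) [CompactSpace (D.obj i₀)]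
    [∀ (i j : I) (f : i ⟶ j), Flat (D.map f)]
    {F₀ G₀ H₀ : (D.obj i₀).Modules} [Coh.IsQCoh F₀] [Coh.IsQCoh G₀] [Coh.IsQCoh H₀]
    (f₀ : F₀ ⟶ G₀) (g₀ : G₀ ⟶ H₀)
    (hIm : CohB1.IsFT (Limits.image f₀)) (hKer : CohB1.IsFT (Limits.kernel g₀)) :
    (∃ w : (Scheme.Modules.pullback (c.π.app i₀)).map f₀ ≫ (Scheme.Modules.pullback (c.π.app i₀)).map g₀ = 0, (ShortComplex.mk _ _ w).Exact) ↔
      ∃ (j : I) (φ : j ⟶ i₀) (w : (Scheme.Modules.pullback (D.map φ)).map f₀ ≫ (Scheme.Modules.pullback (D.map φ)).map g₀ = 0),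
        (ShortComplex.mk _ _ w).Exact := by
  haveI : Flat (c.π.app i₀) := Groth.Agent.S4764.result D c hc i₀ (fun j φ => inferInstance)
  haveI : (Limits.kernel g₀).IsQuasicoherent :=
    Groth.Agent.Lib.Helper21.QCohKernel.isQuasicoherent_kernel g₀
  haveI : (Limits.cokernel f₀).IsQuasicoherent :=
    Groth.Agent.Lib.Helper21.QCohKernel.isQuasicoherent_cokernel f₀
  haveI : (Abelian.image f₀).IsQuasicoherent :=
    Groth.Agent.Lib.Helper21.QCohKernel.isQuasicoherent_kernel (Limits.cokernel.π f₀)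
  haveI : (Limits.image f₀).IsQuasicoherent :=
    Groth.Agent.Lib.Lead.PullbackAff.isQuasicoherent_of_iso (Abelian.imageIsoImage f₀)
  constructor
  · intro h
    rw [exact_pullback_iff] at h
    obtain ⟨h1, h2⟩ := h
    obtain ⟨j₁, φ₁, hj₁⟩ := exists_stage_map_eq_zero D c hc i₀ hIm (Limits.image.ι f₀ ≫ g₀) h1
    obtain ⟨j₂, φ₂, hj₂⟩ := exists_stage_map_eq_zero D c hc i₀ hKer
      (Limits.kernel.ι g₀ ≫ Limits.cokernel.π f₀) h2
    obtain ⟨j, a, b, hab⟩ := IsCofiltered.cospan φ₁ φ₂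
    refine ⟨j, a ≫ φ₁, ?_⟩
    rw [exact_pullback_iff]
    refine ⟨?_, ?_⟩
    · exact map_eq_zero_of_comp _ (D.map a) (D.map φ₁) (D.map (a ≫ φ₁)) (D.map_comp a φ₁).symm hj₁
    · exact map_eq_zero_of_comp _ (D.map b) (D.map φ₂) (D.map (a ≫ φ₁))
        (by rw [hab]; exact (D.map_comp b φ₂).symm) hj₂
  · rintro ⟨j, φ, h⟩
    rw [exact_pullback_iff] at h ⊢
    exact ⟨map_eq_zero_of_stage D c i₀ _ φ h.1, map_eq_zero_of_stage D c i₀ _ φ h.2⟩

end Groth.Agent.S4840
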