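import Groth.Statements.S4858
-- import your own Groth.Agent.* helpers here

set_option autoImplicit false
universe u
open EGA43

namespace Groth.Agent.S4858

/-- Conditions a), a′), c), c′) (very dense subsets): for a subset X₀ of a topological space X the
following are equivalent: every nonempty locally closed subset of X meets X₀; every closed subset Z
of X equals the closure of Z ∩ X₀; the map U ↦ U ∩ X₀ is injective on open subsets of X; the map F ↦
F ∩ X₀ is injective on closed subsets of X. -/
theorem result {X : Type u} [TopologicalSpace X] (X₀ : Set X) :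
    [∀ Z : Set X, IsLocallyClosed Z → Z.Nonempty → (Z ∩ X₀).Nonempty,
      ∀ Z : Set X, IsClosed Z → closure (Z ∩ X₀) = Z,
      ∀ U V : Set X, IsOpen U → IsOpen V → U ∩ X₀ = V ∩ X₀ → U = V,
      ∀ F F' : Set X, IsClosed F → IsClosed F' → F ∩ X₀ = F' ∩ X₀ → F = F'].TFAE := by
  tfae_have 1 → 2 := by
    intro h Z hZ
    apply subset_antisymm
    · exact hZ.closure_subset_iff.2 Set.inter_subset_left
    · intro x hx
      by_contra hxc
      have hlc : IsLocallyClosed (Z ∩ (closure (Z ∩ X₀))ᶜ) :=
        hZ.isLocallyClosed.inter isClosed_closure.isOpen_compl.isLocallyClosed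
      obtain ⟨y, ⟨hyZ, hyc⟩, hy0⟩ := h _ hlc ⟨x, hx, hxc⟩
      exact hyc (subset_closure ⟨hyZ, hy0⟩)
  tfae_have 2 → 4 := by
    intro h F F' hF hF' hFF'
    rw [← h F hF, ← h F' hF', hFF']
  tfae_have 4 → 3 := by
    intro h U V hU hV hUV
    have : Uᶜ = Vᶜ := by
      apply h _ _ hU.isClosed_compl hV.isClosed_compl
      ext x
      have := Set.ext_iff.1 hUV x
      simp only [Set.mem_inter_iff, Set.mem_compl_iff] at this ⊢
      tauto
    exact compl_injective this
  tfae_have 3 → 1 := by
    intro h Z hZ hne
    obtain ⟨U, F, hU, hF, rfl⟩ := hZ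
    by_contra hempty
    rw [Set.not_nonempty_iff_eq_empty] at hempty
    have hUV : U = U ∩ Fᶜ := by
      apply h _ _ hU (hU.inter hF.isOpen_compl)
      ext x
      have := Set.ext_iff.1 hempty x
      simp only [Set.mem_inter_iff, Set.mem_compl_iff, Set.mem_empty_iff_false, iff_false] at this ⊢
      tauto
    obtain ⟨x, hxU, hxF⟩ := hne
    rw [hUV] at hxU
    exact hxU.2 hxF
  tfae_finish

end Groth.Agent.S4858
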