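import Groth.Statements.S4859
-- import your own Groth.Agent.* helpers here

set_option autoImplicit false
universe u
open EGA43

namespace Groth.Agent.S4859

/-- Conditions a), a′), b) (quasi-homeomorphisms): for a continuous map f : X₀ → X the following are
equivalent: taking preimages is a bijection from the open subsets of X onto the open subsets of X₀;
taking preimages is a bijection from the closed subsets of X onto the closed subsets of X₀; the
topology of X₀ is induced from X through f and the image f(X₀) is very dense in X, in the sense that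
two open subsets of X with the same trace on f(X₀) coincide. -/
theorem result {X₀ X : Type u} [TopologicalSpace X₀] [TopologicalSpace X]
    (f : X₀ → X) (hf : Continuous f) :
    [Function.Bijective (fun U : TopologicalSpace.Opens X =>
        (⟨f ⁻¹' (U : Set X), U.isOpen.preimage hf⟩ : TopologicalSpace.Opens X₀)),
      Function.Bijective (fun F : TopologicalSpace.Closeds X =>
        (⟨f ⁻¹' (F : Set X), F.isClosed.preimage hf⟩ : TopologicalSpace.Closeds X₀)),
      Topology.IsInducing f ∧
        ∀ U V : Set X, IsOpen U → IsOpen V → U ∩ Set.range f = V ∩ Set.range f → U = V].TFAE := by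
  tfae_have 1 → 2 := by
    rintro ⟨hinj, hsurj⟩
    constructor
    · intro F F' hFF'
      have h1 : f ⁻¹' (F : Set X) = f ⁻¹' (F' : Set X) := congrArg (fun G : TopologicalSpace.Closeds X₀ => (G : Set X₀)) hFF'
      have h2 : (⟨(F : Set X)ᶜ, F.isClosed.isOpen_compl⟩ : TopologicalSpace.Opens X) = ⟨(F' : Set X)ᶜ, F'.isClosed.isOpen_compl⟩ := by
        apply hinj
        apply TopologicalSpace.Opens.ext
        show f ⁻¹' ((F : Set X)ᶜ) = f ⁻¹' ((F' : Set X)ᶜ)
        rw [Set.preimage_compl, Set.preimage_compl, h1]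
      have h3 : (F : Set X)ᶜ = (F' : Set X)ᶜ := congrArg (fun G : TopologicalSpace.Opens X => (G : Set X)) h2
      exact TopologicalSpace.Closeds.ext (compl_injective h3)
    · intro G
      obtain ⟨U, hU⟩ := hsurj ⟨(G : Set X₀)ᶜ, G.isClosed.isOpen_compl⟩
      refine ⟨⟨(U : Set X)ᶜ, U.isOpen.isClosed_compl⟩, ?_⟩
      apply TopologicalSpace.Closeds.ext
      show f ⁻¹' ((U : Set X)ᶜ) = (G : Set X₀)
      have h1 : f ⁻¹' (U : Set X) = (G : Set X₀)ᶜ := congrArg (fun G : TopologicalSpace.Opens X₀ => (G : Set X₀)) hU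
      rw [Set.preimage_compl, h1, compl_compl]
  tfae_have 2 → 1 := by
    rintro ⟨hinj, hsurj⟩
    constructor
    · intro F F' hFF'
      have h1 : f ⁻¹' (F : Set X) = f ⁻¹' (F' : Set X) := congrArg (fun G : TopologicalSpace.Opens X₀ => (G : Set X₀)) hFF'
      have h2 : (⟨(F : Set X)ᶜ, F.isOpen.isClosed_compl⟩ : TopologicalSpace.Closeds X) = ⟨(F' : Set X)ᶜ, F'.isOpen.isClosed_compl⟩ := by
        apply hinj
        apply TopologicalSpace.Closeds.ext
        show f ⁻¹' ((F : Set X)ᶜ) = f ⁻¹' ((F' : Set X)ᶜ)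
        rw [Set.preimage_compl, Set.preimage_compl, h1]
      have h3 : (F : Set X)ᶜ = (F' : Set X)ᶜ := congrArg (fun G : TopologicalSpace.Closeds X => (G : Set X)) h2
      exact TopologicalSpace.Opens.ext (compl_injective h3)
    · intro G
      obtain ⟨U, hU⟩ := hsurj ⟨(G : Set X₀)ᶜ, G.isOpen.isClosed_compl⟩
      refine ⟨⟨(U : Set X)ᶜ, U.isClosed.isOpen_compl⟩, ?_⟩
      apply TopologicalSpace.Opens.ext
      show f ⁻¹' ((U : Set X)ᶜ) = (G : Set X₀)
      have h1 : f ⁻¹' (U : Set X) = (G : Set X₀)ᶜ := congrArg (fun G : TopologicalSpace.Closeds X₀ => (G : Set X₀)) hU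
      rw [Set.preimage_compl, h1, compl_compl]
  have hpre : ∀ U V : Set X, f ⁻¹' U = f ⁻¹' V ↔ U ∩ Set.range f = V ∩ Set.range f := by
    intro U V
    constructor
    · intro h
      ext x
      constructor
      · rintro ⟨hxU, y, rfl⟩
        exact ⟨(Set.ext_iff.1 h y).1 hxU, y, rfl⟩
      · rintro ⟨hxU, y, rfl⟩
        exact ⟨(Set.ext_iff.1 h y).2 hxU, y, rfl⟩
    · intro h
      ext y
      have := Set.ext_iff.1 h (f y)
      simp only [Set.mem_inter_iff, Set.mem_range_self, and_true] at this
      exact this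
  tfae_have 1 → 3 := by
    rintro ⟨hinj, hsurj⟩
    constructor
    · refine ⟨le_antisymm hf.le_induced ?_⟩
      intro s hs
      obtain ⟨U, hU⟩ := hsurj ⟨s, hs⟩
      rw [isOpen_induced_iff]
      exact ⟨U, U.isOpen, congrArg (fun G : TopologicalSpace.Opens X₀ => (G : Set X₀)) hU⟩
    · intro U V hU hV hUV
      have h1 : f ⁻¹' U = f ⁻¹' V := (hpre U V).2 hUV
      have h2 : (⟨U, hU⟩ : TopologicalSpace.Opens X) = ⟨V, hV⟩ := by
        apply hinj
        apply TopologicalSpace.Opens.ext
        exact h1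
      exact congrArg (fun G : TopologicalSpace.Opens X => (G : Set X)) h2
  tfae_have 3 → 1 := by
    rintro ⟨hind, hdense⟩
    constructor
    · intro U V hUV
      have h1 : f ⁻¹' (U : Set X) = f ⁻¹' (V : Set X) := congrArg (fun G : TopologicalSpace.Opens X₀ => (G : Set X₀)) hUV
      exact TopologicalSpace.Opens.ext (hdense _ _ U.isOpen V.isOpen ((hpre _ _).1 h1))
    · intro G
      obtain ⟨U, hU, hUG⟩ := hind.isOpen_iff.1 G.isOpen
      exact ⟨⟨U, hU⟩, TopologicalSpace.Opens.ext hUG⟩
  tfae_finish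

end Groth.Agent.S4859
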