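import Groth.Statements.S4860
import Mathlib.RingTheory.Jacobson.Ring
import Mathlib.RingTheory.Localization.InvSubmonoid
import Mathlib.RingTheory.IntegralClosure.IsIntegralClosure.Basic
import Mathlib.RingTheory.Localization.Integral
import Mathlib.RingTheory.Algebraic.Integral
import Mathlib.RingTheory.Localization.Ideal
-- import your own Groth.Agent.* helpers here

set_option autoImplicit false
universe u
open EGA43

namespace Groth.Agent.S4860

theorem step12 (B : Type u) [CommRing B] [IsDomain B] (f : B) (hf : f ≠ 0)
    (hfield : IsField (Localization.Away f)) : Algebra.FiniteType B (FractionRing B) := by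
  let _ := hfield.toField
  have hinj : Function.Injective (algebraMap B (Localization.Away f)) :=
    IsLocalization.injective _ (powers_le_nonZeroDivisors_of_noZeroDivisors hf)
  have : FaithfulSMul B (Localization.Away f) := (faithfulSMul_iff_algebraMap_injective B _).2 hinj
  have hfr : IsFractionRing B (Localization.Away f) := by
    apply IsFractionRing.of_field
    intro z
    obtain ⟨b, s, rfl⟩ := IsLocalization.exists_mk'_eq (Submonoid.powers f) z
    refine ⟨b, s, ?_⟩
    rw [eq_div_iff, IsLocalization.mk'_spec]
    intro h0
    have := hinj (h0.trans (map_zero _).symm)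
    obtain ⟨n, hn⟩ := s.2
    rw [← hn] at this
    exact hf (pow_eq_zero_iff (n := n) (by rintro rfl; simp at this) |>.1 this)
  have h2 : Algebra.FiniteType B (Localization.Away f) :=
    IsLocalization.finiteType_of_monoid_fg (Submonoid.powers f) _
  exact Algebra.FiniteType.equiv h2 (FractionRing.algEquiv B (Localization.Away f)).symm

theorem step31 (B : Type u) [CommRing B] [IsDomain B] (K : Type u) [Field K] [Algebra B K]
    (hinj : Function.Injective (algebraMap B K)) (hft : Algebra.FiniteType B K) :
    ∃ f : B, f ≠ 0 ∧ IsField (Localization.Away f) := by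
  have : FaithfulSMul B K := (faithfulSMul_iff_algebraMap_injective B K).2 hinj
  let _ : Algebra (FractionRing B) K := FractionRing.liftAlgebra B K
  have : IsScalarTower B (FractionRing B) K := FractionRing.isScalarTower_liftAlgebra B K
  have hftL : Algebra.FiniteType (FractionRing B) K :=
    Algebra.FiniteType.of_restrictScalars_finiteType B (FractionRing B) K
  have hfinL : Module.Finite (FractionRing B) K := finite_of_finite_type_of_isJacobsonRing _ K
  have halgL : Algebra.IsAlgebraic (FractionRing B) K := Algebra.IsAlgebraic.of_finite _ K
  have halg : Algebra.IsAlgebraic B K :=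
    (IsFractionRing.comap_isAlgebraic_iff (A := B) (K := FractionRing B) (C := K)).2 halgL
  obtain ⟨s, hs⟩ := hft.out
  obtain ⟨y, hy0, hy⟩ := Algebra.IsAlgebraic.exists_integral_multiples B s
  refine ⟨y, hy0, ?_⟩
  have hyK : IsUnit (algebraMap B K y) := by
    apply IsUnit.mk0
    intro h0
    exact hy0 (hinj (h0.trans (map_zero _).symm))
  let _ : Algebra (Localization.Away y) K := (IsLocalization.Away.lift y hyK).toAlgebra
  have htower : IsScalarTower B (Localization.Away y) K :=
    IsScalarTower.of_algebraMap_eq (fun b => (IsLocalization.Away.lift_eq y hyK b).symm)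
  have hφinj : Function.Injective (algebraMap (Localization.Away y) K) := by
    have hdom : IsDomain (Localization.Away y) :=
      IsLocalization.isDomain_localization (powers_le_nonZeroDivisors_of_noZeroDivisors hy0)
    rw [injective_iff_map_eq_zero]
    intro z hz
    obtain ⟨b, t, rfl⟩ := IsLocalization.exists_mk'_eq (Submonoid.powers y) z
    have h1 : algebraMap (Localization.Away y) K (IsLocalization.mk' (Localization.Away y) b t *
        algebraMap B (Localization.Away y) t) = 0 := by rw [map_mul, hz, zero_mul]
    rw [IsLocalization.mk'_spec, ← IsScalarTower.algebraMap_apply] at h1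
    have hb : b = 0 := hinj (h1.trans (map_zero _).symm)
    rw [hb, IsLocalization.mk'_zero]
  have hint : Algebra.IsIntegral (Localization.Away y) K := by
    constructor
    intro x
    have hx : x ∈ Algebra.adjoin B (s : Set K) := by rw [hs]; trivial
    induction hx using Algebra.adjoin_induction with
    | mem x hx =>
      have h1 : IsIntegral (Localization.Away y) (y • x) := (hy x hx).tower_top
      have h2 : x = algebraMap (Localization.Away y) K (IsLocalization.Away.invSelf y) * (y • x) := by
        rw [Algebra.smul_def, ← mul_assoc, IsScalarTower.algebraMap_apply B (Localization.Away y) K,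
          ← map_mul, mul_comm (IsLocalization.Away.invSelf y)]
        rw [IsLocalization.Away.mul_invSelf, map_one, one_mul]
      rw [h2]
      exact isIntegral_algebraMap.mul h1
    | algebraMap b =>
      rw [IsScalarTower.algebraMap_apply B (Localization.Away y) K]
      exact isIntegral_algebraMap
    | add a b _ _ ha hb => exact ha.add hb
    | mul a b _ _ ha hb => exact ha.mul hb
  exact isField_of_isIntegral_of_isField hφinj (Field.toIsField K)

theorem step14 (B : Type u) [CommRing B] [IsDomain B] (f : B) (hf : f ≠ 0)
    (hfield : IsField (Localization.Away f)) :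
    IsOpen ({⟨⊥, Ideal.bot_prime⟩} : Set (PrimeSpectrum B)) := by
  have hinj : Function.Injective (algebraMap B (Localization.Away f)) :=
    IsLocalization.injective _ (powers_le_nonZeroDivisors_of_noZeroDivisors hf)
  have : ({⟨⊥, Ideal.bot_prime⟩} : Set (PrimeSpectrum B)) = PrimeSpectrum.basicOpen f := by
    ext p
    simp only [Set.mem_singleton_iff, SetLike.mem_coe, PrimeSpectrum.mem_basicOpen]
    constructor
    · rintro rfl
      exact hf
    · intro hfp
      have hdisj : Disjoint (Submonoid.powers f : Set B) (p.asIdeal : Set B) := by
        rw [Set.disjoint_left]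
        rintro _ ⟨n, rfl⟩ hn
        exact hfp (p.2.mem_of_pow_mem n hn)
      have h1 := IsLocalization.comap_map_of_isPrime_disjoint (Submonoid.powers f)
        (Localization.Away f) p.2 hdisj
      have hp2 : (Ideal.map (algebraMap B (Localization.Away f)) p.asIdeal).IsPrime :=
        IsLocalization.isPrime_of_isPrime_disjoint (Submonoid.powers f) _ _ p.2 hdisj
      have hdom : IsDomain (Localization.Away f) :=
        IsLocalization.isDomain_localization (powers_le_nonZeroDivisors_of_noZeroDivisors hf)
      have h2 : Ideal.map (algebraMap B (Localization.Away f)) p.asIdeal = ⊥ := by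
        by_contra hne
        exact (Ring.not_isField_iff_exists_prime.2 ⟨_, hne, hp2⟩) hfield
      rw [h2] at h1
      ext x
      rw [← h1]
      simp only [Ideal.mem_comap, Ideal.mem_bot]
      exact ⟨fun h => hinj (h.trans (map_zero _).symm), fun h => by rw [h, map_zero]⟩
  rw [this]
  exact (PrimeSpectrum.basicOpen f).isOpen

theorem step41 (B : Type u) [CommRing B] [IsDomain B]
    (h : IsOpen ({⟨⊥, Ideal.bot_prime⟩} : Set (PrimeSpectrum B))) :
    ∃ f : B, f ≠ 0 ∧ IsField (Localization.Away f) := by
  obtain ⟨_, ⟨f, rfl⟩, hmem, hsub⟩ := PrimeSpectrum.isTopologicalBasis_basic_opens.exists_subset_of_mem_open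
    (Set.mem_singleton _) h
  have hf : f ≠ 0 := by
    intro h0
    apply hmem
    rw [h0]
    exact Ideal.zero_mem _
  refine ⟨f, hf, ?_⟩
  have hdom : IsDomain (Localization.Away f) :=
    IsLocalization.isDomain_localization (powers_le_nonZeroDivisors_of_noZeroDivisors hf)
  by_contra hnf
  obtain ⟨q, hq0, hq⟩ := Ring.not_isField_iff_exists_prime.1 hnf
  have hq' : (Ideal.comap (algebraMap B (Localization.Away f)) q).IsPrime := Ideal.comap_isPrime _ _
  have hfq : f ∉ Ideal.comap (algebraMap B (Localization.Away f)) q := by
    intro hfq
    rw [Ideal.mem_comap] at hfq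
    exact hq.ne_top (Ideal.eq_top_of_isUnit_mem _ hfq (IsLocalization.Away.algebraMap_isUnit f))
  have h1 : (⟨_, hq'⟩ : PrimeSpectrum B) ∈ ({⟨⊥, Ideal.bot_prime⟩} : Set (PrimeSpectrum B)) :=
    hsub hfq
  rw [Set.mem_singleton_iff, PrimeSpectrum.ext_iff] at h1
  have h2 := IsLocalization.map_comap (Submonoid.powers f) (Localization.Away f) q
  rw [show Ideal.under B q = ⊥ from h1, Ideal.map_bot] at h2
  exact hq0 h2.symm

/-- For an integral domain B the following are equivalent: a) the localization B_f is a field for some
nonzero f; b) the fraction field of B is a finitely generated B-algebra; c) there is a field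
containing B (an injective algebra map from B) which is a finitely generated B-algebra; d) the
generic point of Spec B is open. -/
theorem result (B : Type u) [CommRing B] [IsDomain B] :
    [∃ f : B, f ≠ 0 ∧ IsField (Localization.Away f),
      Algebra.FiniteType B (FractionRing B),
      ∃ (K : Type u) (_ : Field K) (_ : Algebra B K), Function.Injective (algebraMap B K) ∧ Algebra.FiniteType B K,
      IsOpen ({⟨⊥, Ideal.bot_prime⟩} : Set (PrimeSpectrum B))].TFAE := by
  tfae_have 1 → 2 := by
    rintro ⟨f, hf, hfield⟩
    exact step12 B f hf hfield
  tfae_have 2 → 3 := by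
    intro h
    exact ⟨FractionRing B, inferInstance, inferInstance, IsFractionRing.injective _ _, h⟩
  tfae_have 3 → 1 := by
    rintro ⟨K, _, _, hinj, hft⟩
    exact step31 B K hinj hft
  tfae_have 1 → 4 := by
    rintro ⟨f, hf, hfield⟩
    exact step14 B f hf hfield
  tfae_have 4 → 1 := step41 B
  tfae_finish

end Groth.Agent.S4860
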