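import Groth.Statements.S4861
import Mathlib.RingTheory.Ideal.KrullsHeightTheorem
import Mathlib.RingTheory.Ideal.MinimalPrime.Noetherian
import Mathlib.RingTheory.Ideal.Height
import Mathlib.RingTheory.Localization.Ideal
-- import your own Groth.Agent.* helpers here

set_option autoImplicit false
universe u
open EGA43

namespace Groth.Agent.S4861

theorem prime_eq_bot_of_notMem (B : Type u) [CommRing B] [IsDomain B] (f : B) (hf : f ≠ 0)
    (hfield : IsField (Localization.Away f)) (p : Ideal B) (hp : p.IsPrime) (hfp : f ∉ p) :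
    p = ⊥ := by
  have hinj : Function.Injective (algebraMap B (Localization.Away f)) :=
    IsLocalization.injective _ (powers_le_nonZeroDivisors_of_noZeroDivisors hf)
  have hdisj : Disjoint (Submonoid.powers f : Set B) (p : Set B) := by
    rw [Set.disjoint_left]
    rintro _ ⟨n, rfl⟩ hn
    exact hfp (hp.mem_of_pow_mem n hn)
  have h1 := IsLocalization.under_map_of_isPrime_disjoint (Submonoid.powers f)
    (Localization.Away f) hp hdisj
  have hp2 : (Ideal.map (algebraMap B (Localization.Away f)) p).IsPrime :=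
    IsLocalization.isPrime_of_isPrime_disjoint (Submonoid.powers f) _ _ hp hdisj
  have hdom : IsDomain (Localization.Away f) :=
    IsLocalization.isDomain_localization (powers_le_nonZeroDivisors_of_noZeroDivisors hf)
  have h2 : Ideal.map (algebraMap B (Localization.Away f)) p = ⊥ := by
    by_contra hne
    exact (Ring.not_isField_iff_exists_prime.2 ⟨_, hne, hp2⟩) hfield
  rw [h2] at h1
  ext x
  rw [← h1]
  simp only [Ideal.under, Ideal.mem_comap, Ideal.mem_bot]
  exact ⟨fun h => hinj (h.trans (map_zero _).symm), fun h => by rw [h, map_zero]⟩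

theorem isField_away_of_forall (B : Type u) [CommRing B] [IsDomain B] (f : B) (hf : f ≠ 0)
    (H : ∀ p : Ideal B, p.IsPrime → f ∉ p → p = ⊥) : IsField (Localization.Away f) := by
  have hdom : IsDomain (Localization.Away f) :=
    IsLocalization.isDomain_localization (powers_le_nonZeroDivisors_of_noZeroDivisors hf)
  by_contra hnf
  obtain ⟨q, hq0, hq⟩ := Ring.not_isField_iff_exists_prime.1 hnf
  have hq' : (Ideal.comap (algebraMap B (Localization.Away f)) q).IsPrime := Ideal.comap_isPrime _ _
  have hfq : f ∉ Ideal.comap (algebraMap B (Localization.Away f)) q := by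
    intro hfq
    rw [Ideal.mem_comap] at hfq
    exact hq.ne_top (Ideal.eq_top_of_isUnit_mem _ hfq (IsLocalization.Away.algebraMap_isUnit f))
  have h1 := H _ hq' hfq
  have h2 := IsLocalization.map_under (Submonoid.powers f) (Localization.Away f) q
  rw [show Ideal.under B q = ⊥ from h1, Ideal.map_bot] at h2
  exact hq0 h2.symm

theorem mem_minimalPrimes_of_forall {B : Type u} [CommRing B] [IsDomain B] [IsNoetherianRing B]
    (f : B) (hf : f ≠ 0) (H : ∀ p : Ideal B, p.IsPrime → p ≠ ⊥ → f ∈ p)
    (p : Ideal B) (hp : p.IsPrime) (hp0 : p ≠ ⊥) :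
    p ∈ (Ideal.span {f}).minimalPrimes := by
  by_contra hnot
  have hfp : Ideal.span {f} ≤ p := (Ideal.span_singleton_le_iff_mem _).2 (H p hp hp0)
  have hfin : (Ideal.span {f}).minimalPrimes.Finite :=
    Ideal.finite_minimalPrimes_of_isNoetherianRing B _
  have hnotsub : ¬ ((p : Set B) ⊆ ⋃ q ∈ (hfin.toFinset : Set (Ideal B)), ((id q : Ideal B) : Set B)) := by
    rw [Ideal.subset_union_prime (f := id) ⊥ ⊥
      (fun q hq _ _ => ((Set.Finite.mem_toFinset hfin).1 hq).1.1)]
    rintro ⟨q, hq, hpq⟩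
    rw [Set.Finite.mem_toFinset] at hq
    have := hq.2 ⟨hp, hfp⟩ hpq
    exact hnot ((le_antisymm hpq this) ▸ hq)
  obtain ⟨g, hgp, hg⟩ := Set.not_subset.1 hnotsub
  simp only [Set.Finite.coe_toFinset, id_eq, Set.mem_iUnion, SetLike.mem_coe, exists_prop, not_exists,
    not_and] at hg
  obtain ⟨p', hp', hp'p⟩ := Ideal.exists_minimalPrimes_le (I := Ideal.span {g}) (J := p)
    ((Ideal.span_singleton_le_iff_mem _).2 hgp)
  have hp'prime : p'.IsPrime := hp'.1.1
  have hht : p'.height ≤ 1 := Ideal.height_le_one_of_isPrincipal_of_mem_minimalPrimes _ p' hp'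
  obtain ⟨q₀, hq₀, hq₀p⟩ := Ideal.exists_minimalPrimes_le hfp
  have hg0 : g ≠ 0 := fun h => hg q₀ hq₀ (h ▸ q₀.zero_mem)
  have hgp' : g ∈ p' := hp'.1.2 (Ideal.mem_span_singleton_self g)
  have hp'0 : p' ≠ ⊥ := fun h => hg0 (by rw [h] at hgp'; exact hgp')
  have hfp' : Ideal.span {f} ≤ p' := (Ideal.span_singleton_le_iff_mem _).2 (H p' hp'prime hp'0)
  obtain ⟨q, hq, hqp'⟩ := Ideal.exists_minimalPrimes_le hfp'
  have hqprime : q.IsPrime := hq.1.1
  have hq0 : q ≠ ⊥ := fun h => hf (by
    have := hq.1.2 (Ideal.mem_span_singleton_self f)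
    rw [h] at this
    exact this)
  have hqp : q = p' := by
    have h1 : (1 : ℕ∞) ≤ q.height := by
      rw [Order.one_le_iff_ne_zero, Ne, Ideal.height_eq_zero_iff_eq_bot]
      exact hq0
    exact Ideal.eq_of_le_of_height_le (I := q) hqp' (hht.trans h1)
  exact hg q hq (hqp ▸ hgp')

theorem step1 (B : Type u) [CommRing B] [IsDomain B] [IsNoetherianRing B]
    (f : B) (hf : f ≠ 0) (hfield : IsField (Localization.Away f)) :
    Finite (PrimeSpectrum B) ∧ (Finite (MaximalSpectrum B) ∧ ringKrullDim B ≤ 1) := by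
  have H : ∀ p : Ideal B, p.IsPrime → p ≠ ⊥ → f ∈ p := by
    intro p hp hp0
    by_contra hfp
    exact hp0 (prime_eq_bot_of_notMem B f hf hfield p hp hfp)
  have hmin := mem_minimalPrimes_of_forall f hf H
  have hfin : (Ideal.span {f}).minimalPrimes.Finite :=
    Ideal.finite_minimalPrimes_of_isNoetherianRing B _
  have hfin2 : ({⊥} ∪ (Ideal.span {f}).minimalPrimes : Set (Ideal B)).Finite :=
    (Set.finite_singleton _).union hfin
  have hF : Finite (PrimeSpectrum B) := by
    have := hfin2.to_subtype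
    refine Finite.of_injective (β := ↥({⊥} ∪ (Ideal.span {f}).minimalPrimes : Set (Ideal B)))
      (fun p => ⟨p.asIdeal, ?_⟩) ?_
    · by_cases h : p.asIdeal = ⊥
      · exact Or.inl h
      · exact Or.inr (hmin _ p.2 h)
    · intro p q hpq
      exact PrimeSpectrum.ext (Subtype.mk.inj hpq)
  refine ⟨hF, ?_, ?_⟩
  · exact Finite.of_injective _ MaximalSpectrum.toPrimeSpectrum_injective
  · have hcast : ((1 : ℕ) : WithBot ℕ∞) = 1 := Nat.cast_one
    rw [← hcast, ← Ring.krullDimLE_iff, Ring.krullDimLE_one_iff_of_noZeroDivisors]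
    intro p hp0 hp
    obtain ⟨m, hm, hpm⟩ := Ideal.exists_le_maximal p hp.ne_top
    have hm0 : m ≠ ⊥ := fun h => hp0 (le_bot_iff.1 (h ▸ hpm))
    have h1 := hmin m hm.isPrime hm0
    have hfp : Ideal.span {f} ≤ p := (Ideal.span_singleton_le_iff_mem _).2 (H p hp hp0)
    have h2 : m ≤ p := h1.2 ⟨hp, hfp⟩ hpm
    rw [le_antisymm hpm h2]
    exact hm

theorem step21 (B : Type u) [CommRing B] [IsDomain B]
    (h : Finite (PrimeSpectrum B)) : ∃ f : B, f ≠ 0 ∧ IsField (Localization.Away f) := by
  classical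
  have hex : ∀ p : PrimeSpectrum B, ∃ x : B, x ≠ 0 ∧ (p.asIdeal ≠ ⊥ → x ∈ p.asIdeal) := by
    intro p
    by_cases hp : p.asIdeal = ⊥
    · exact ⟨1, one_ne_zero, fun h => (h hp).elim⟩
    · obtain ⟨x, hx, hx0⟩ := Submodule.exists_mem_ne_zero_of_ne_bot hp
      exact ⟨x, hx0, fun _ => hx⟩
  choose x hx0 hx using hex
  have := Fintype.ofFinite (PrimeSpectrum B)
  refine ⟨∏ p : PrimeSpectrum B, x p, Finset.prod_ne_zero_iff.2 (fun p _ => hx0 p), ?_⟩
  apply isField_away_of_forall B _ (Finset.prod_ne_zero_iff.2 (fun p _ => hx0 p))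
  intro p hp hfp
  by_contra hp0
  apply hfp
  exact Ideal.mem_of_dvd _ (Finset.dvd_prod_of_mem x (Finset.mem_univ (⟨p, hp⟩ : PrimeSpectrum B)))
    (hx ⟨p, hp⟩ hp0)

theorem step32 (B : Type u) [CommRing B] [IsDomain B]
    (h1 : Finite (MaximalSpectrum B)) (h2 : ringKrullDim B ≤ 1) : Finite (PrimeSpectrum B) := by
  classical
  have hcast : ((1 : ℕ) : WithBot ℕ∞) = 1 := Nat.cast_one
  rw [← hcast, ← Ring.krullDimLE_iff (n := 1), Ring.krullDimLE_one_iff_of_noZeroDivisors] at h2
  refine Finite.of_injective (β := Option (MaximalSpectrum B))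
    (fun p => if h : p.asIdeal = ⊥ then none else some ⟨p.asIdeal, h2 _ h p.2⟩) ?_
  intro p q hpq
  by_cases hp : p.asIdeal = ⊥
  · by_cases hq : q.asIdeal = ⊥
    · exact PrimeSpectrum.ext (hp.trans hq.symm)
    · simp [hp, hq] at hpq
  · by_cases hq : q.asIdeal = ⊥
    · simp [hp, hq] at hpq
    · simp only [hp, hq, dite_false, Option.some.injEq, MaximalSpectrum.mk.injEq] at hpq
      exact PrimeSpectrum.ext hpq

/-- For a Noetherian integral domain B the following are equivalent (and hence equivalent to: the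
fraction field of B is a finitely generated B-algebra; the generic point of Spec B is open): a) the
localization B_f is a field for some nonzero f; e) Spec B is finite; f) B is semi-local (finitely
many maximal ideals) of Krull dimension at most 1. -/
theorem result (B : Type u) [CommRing B] [IsDomain B]
    [IsNoetherianRing B] :
    [∃ f : B, f ≠ 0 ∧ IsField (Localization.Away f),
      Finite (PrimeSpectrum B),
      Finite (MaximalSpectrum B) ∧ ringKrullDim B ≤ 1].TFAE := by
  tfae_have 1 → 2 := by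
    rintro ⟨f, hf, hfield⟩
    exact (step1 B f hf hfield).1
  tfae_have 1 → 3 := by
    rintro ⟨f, hf, hfield⟩
    exact (step1 B f hf hfield).2
  tfae_have 2 → 1 := step21 B
  tfae_have 3 → 2 := by
    rintro ⟨h1, h2⟩
    exact step32 B h1 h2
  tfae_finish

end Groth.Agent.S4861
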