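import Groth.Statements.S4862
import Mathlib.RingTheory.Ideal.GoingUp
import Mathlib.RingTheory.Localization.InvSubmonoid
import Mathlib.RingTheory.IntegralClosure.IsIntegralClosure.Basic
import Mathlib.RingTheory.Localization.Integral
-- import your own Groth.Agent.* helpers here

set_option autoImplicit false
universe u
open EGA43

namespace Groth.Agent.S4862

theorem step32 (A : Type u) [CommRing A]
    (H : ∀ (K : Type u) [Field K] [Algebra A K], Algebra.FiniteType A K → Module.Finite A K)
    (p : Ideal A) [p.IsPrime] (hp : ¬ p.IsMaximal) (f : A ⧸ p) (hf : f ≠ 0)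
    (hfield : IsField (Localization.Away f)) : False := by
  let _ := hfield.toField
  have hft : Algebra.FiniteType A (Localization.Away f) := by
    have h1 : Algebra.FiniteType A (A ⧸ p) := inferInstance
    have h2 : Algebra.FiniteType (A ⧸ p) (Localization.Away f) :=
      IsLocalization.finiteType_of_monoid_fg (Submonoid.powers f) _
    exact Algebra.FiniteType.trans h1 h2
  have hfin := H (Localization.Away f) hft
  have hint : Algebra.IsIntegral A (Localization.Away f) := inferInstance
  have hint' : Algebra.IsIntegral (A ⧸ p) (Localization.Away f) := Algebra.IsIntegral.tower_top A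
  have hinj : Function.Injective (algebraMap (A ⧸ p) (Localization.Away f)) :=
    IsLocalization.injective _ (powers_le_nonZeroDivisors_of_noZeroDivisors hf)
  have : IsField (A ⧸ p) := isField_of_isIntegral_of_isField hinj hfield
  exact hp (Ideal.Quotient.maximal_of_isField p this)

theorem step31 (A : Type u) [CommRing A]
    (H : ∀ (K : Type u) [Field K] [Algebra A K], Algebra.FiniteType A K → Module.Finite A K) :
    IsJacobsonRing A := by
  rw [isJacobsonRing_iff_prime_eq]
  intro P hP
  apply le_antisymm _ Ideal.le_jacobson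
  intro x hx
  by_contra hxP
  set g : A ⧸ P := Ideal.Quotient.mk P x with hg
  have hg0 : g ≠ 0 := by rwa [Ne, Ideal.Quotient.eq_zero_iff_mem]
  have hdom : IsDomain (Localization.Away g) :=
    IsLocalization.isDomain_localization (powers_le_nonZeroDivisors_of_noZeroDivisors hg0)
  obtain ⟨m, hm⟩ := Ideal.exists_maximal (Localization.Away g)
  let _ : Field (Localization.Away g ⧸ m) := Ideal.Quotient.field m
  have hft : Algebra.FiniteType A (Localization.Away g ⧸ m) := by
    have h1 : Algebra.FiniteType A (A ⧸ P) := inferInstance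
    have h2 : Algebra.FiniteType (A ⧸ P) (Localization.Away g) :=
      IsLocalization.finiteType_of_monoid_fg (Submonoid.powers g) _
    have h3 : Algebra.FiniteType (Localization.Away g) (Localization.Away g ⧸ m) := inferInstance
    exact Algebra.FiniteType.trans (Algebra.FiniteType.trans h1 h2) h3
  have hfin := H (Localization.Away g ⧸ m) hft
  have hint : Algebra.IsIntegral A (Localization.Away g ⧸ m) := inferInstance
  have hq : (RingHom.ker (algebraMap A (Localization.Away g ⧸ m))).IsMaximal := by
    rw [RingHom.ker_eq_comap_bot]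
    have hbot : (⊥ : Ideal (Localization.Away g ⧸ m)).IsMaximal := Ideal.bot_isMaximal
    exact Ideal.isMaximal_comap_of_isIntegral_of_isMaximal (R := A) ⊥
  have hPq : P ≤ RingHom.ker (algebraMap A (Localization.Away g ⧸ m)) := by
    intro a ha
    rw [RingHom.mem_ker, IsScalarTower.algebraMap_apply A (A ⧸ P) (Localization.Away g ⧸ m)]
    rw [Ideal.Quotient.algebraMap_eq, Ideal.Quotient.eq_zero_iff_mem.2 ha, map_zero]
  have hxq : x ∉ RingHom.ker (algebraMap A (Localization.Away g ⧸ m)) := by
    rw [RingHom.mem_ker, IsScalarTower.algebraMap_apply A (A ⧸ P) (Localization.Away g ⧸ m),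
      IsScalarTower.algebraMap_apply (A ⧸ P) (Localization.Away g) (Localization.Away g ⧸ m)]
    have hu : IsUnit (algebraMap (A ⧸ P) (Localization.Away g) g) := IsLocalization.Away.algebraMap_isUnit g
    exact (hu.map (algebraMap (Localization.Away g) (Localization.Away g ⧸ m))).ne_zero
  have := Ideal.mem_sInf.1 hx ⟨hPq, hq⟩
  exact hxq this

theorem isField_away_of_maximally_disjoint {A : Type u} [CommRing A] (q : Ideal A) [q.IsPrime] (x : A)
    (hmax : ∀ J : Ideal A, q < J → ¬ Disjoint (J : Set A) (Submonoid.powers x)) (hx : x ∉ q) :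
    IsField (Localization.Away (Ideal.Quotient.mk q x)) := by
  set g := Ideal.Quotient.mk q x with hg
  have hg0 : g ≠ 0 := by rwa [Ne, Ideal.Quotient.eq_zero_iff_mem]
  have hdom : IsDomain (Localization.Away g) :=
    IsLocalization.isDomain_localization (powers_le_nonZeroDivisors_of_noZeroDivisors hg0)
  refine ⟨exists_pair_ne _, mul_comm, ?_⟩
  intro z hz
  obtain ⟨b, s, rfl⟩ := IsLocalization.exists_mk'_eq (Submonoid.powers g) z
  obtain ⟨a, rfl⟩ := Ideal.Quotient.mk_surjective b
  have ha : a ∉ q := by
    intro ha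
    apply hz
    rw [Ideal.Quotient.eq_zero_iff_mem.2 ha, IsLocalization.mk'_zero]
  have h1 := hmax (q ⊔ Ideal.span {a}) (Submodule.lt_sup_iff_notMem.mpr ha)
  simp only [Set.not_disjoint_iff, SetLike.mem_coe, Submodule.mem_sup,
    Ideal.mem_span_singleton] at h1
  obtain ⟨_, ⟨y, hy, _, ⟨c, rfl⟩, rfl⟩, ⟨n, hn⟩⟩ := h1
  have h2 : g ^ n = Ideal.Quotient.mk q a * Ideal.Quotient.mk q c := by
    have hn' : x ^ n = y + a * c := hn
    rw [hg, ← map_pow, ← map_mul, hn']
    simp only [map_add, Ideal.Quotient.eq_zero_iff_mem.2 hy, zero_add]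
  have h3 : IsUnit (algebraMap (A ⧸ q) (Localization.Away g) (Ideal.Quotient.mk q a)) := by
    apply isUnit_of_mul_isUnit_left (y := algebraMap (A ⧸ q) (Localization.Away g) (Ideal.Quotient.mk q c))
    rw [← map_mul, ← h2, map_pow]
    exact (IsLocalization.Away.algebraMap_isUnit g).pow n
  have h4 : IsUnit (IsLocalization.mk' (Localization.Away g) (Ideal.Quotient.mk q a) s) := by
    apply isUnit_of_mul_isUnit_left (y := algebraMap (A ⧸ q) (Localization.Away g) s)
    rw [IsLocalization.mk'_spec]
    exact h3
  exact h4.exists_right_inv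

theorem step21 (A : Type u) [CommRing A]
    (H : ∀ (p : Ideal A) [p.IsPrime], ¬ p.IsMaximal → ∀ f : A ⧸ p, f ≠ 0 → ¬ IsField (Localization.Away f)) :
    IsJacobsonRing A := by
  rw [isJacobsonRing_iff_prime_eq]
  intro P hP
  apply le_antisymm _ Ideal.le_jacobson
  intro x hx
  by_contra hxP
  have hdisj : Disjoint (P : Set A) (Submonoid.powers x) := by
    rw [Set.disjoint_left]
    rintro _ hy ⟨n, rfl⟩
    exact hxP (hP.mem_of_pow_mem n hy)
  have ⟨q, hPq, hq⟩ := zorn_le_nonempty₀ {p : Ideal A | Disjoint (p : Set A) (Submonoid.powers x)}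
    (fun c hc hc' y hy ↦ ?_) P hdisj
  · have hqprime : q.IsPrime :=
      Ideal.isPrime_of_maximally_disjoint _ _ hq.1 (fun _ ↦ hq.not_prop_of_gt)
    have hxq : x ∉ q := fun h => Set.disjoint_left.1 hq.1 h (Submonoid.mem_powers x)
    have hfield := isField_away_of_maximally_disjoint q x (fun _ ↦ hq.not_prop_of_gt) hxq
    have hqmax : q.IsMaximal := by
      by_contra hnm
      exact H q hnm _ (by rwa [Ne, Ideal.Quotient.eq_zero_iff_mem]) hfield
    exact hxq (Ideal.mem_sInf.1 hx ⟨hPq, hqmax⟩)
  cases isEmpty_or_nonempty c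
  · exact ⟨P, hdisj, fun J hJ ↦ isEmptyElim (⟨J, hJ⟩ : c)⟩
  refine ⟨sSup c, Set.disjoint_left.mpr fun z hz ↦ ?_, fun _ ↦ le_sSup⟩
  have ⟨p, hp⟩ := (Submodule.mem_iSup_of_directed _ hc'.directed).mp (sSup_eq_iSup' c ▸ hz)
  exact Set.disjoint_left.mp (hc p.2) hp

/-- For a commutative ring A the following are equivalent: a) A is a Jacobson ring; b) for every prime
ideal p of A which is not maximal and every nonzero f of B = A/p, the localization B_f is not a
field; b′) every finitely generated A-algebra which is a field is a finite A-module. -/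
theorem result (A : Type u) [CommRing A] :
    [IsJacobsonRing A,
      ∀ (p : Ideal A) [p.IsPrime], ¬ p.IsMaximal → ∀ f : A ⧸ p, f ≠ 0 → ¬ IsField (Localization.Away f),
      ∀ (K : Type u) [Field K] [Algebra A K], Algebra.FiniteType A K → Module.Finite A K].TFAE := by
  tfae_have 1 → 3 := by
    intro h K _ _ hK
    exact finite_of_finite_type_of_isJacobsonRing A K
  tfae_have 3 → 1 := step31 A
  tfae_have 3 → 2 := by
    intro H p _ hp f hf hfield
    exact step32 A H p hp f hf hfield
  tfae_have 2 → 1 := step21 A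
  tfae_finish

end Groth.Agent.S4862
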