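import Groth.Statements.S4865
import Groth.Agent.Lib.Helper55.FL.ModOpen

set_option autoImplicit false
universe u
open EGA43

namespace Groth.Agent.S4865

open TensorProduct

section Loc

/-- Localizing an `A`-flat `C`-module at a submonoid of `C` keeps it `A`-flat. -/
theorem flat_of_isLocalizedModule {A C : Type*} [CommRing A] [CommRing C] [Algebra A C]
    (T : Submonoid C) {M M' : Type*} [AddCommGroup M]
    [AddCommGroup M'] [Module A M] [Module C M] [IsScalarTower A C M] [Module A M'] [Module C M']
    [IsScalarTower A C M'] (g : M →ₗ[C] M') [IsLocalizedModule T g] [Module.Flat A M] :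
    Module.Flat A M' := by
  have H := (Module.Flat.iff_lTensor_injectiveₛ (R := A) (M := M)).1 inferInstance
  rw [Module.Flat.iff_lTensor_injectiveₛ]
  intro P _ _ N
  rw [← AlgebraTensorModule.coe_lTensor (A := C)]
  have h1 := IsLocalizedModule.map_injective T (AlgebraTensorModule.rTensor A N g)
    (AlgebraTensorModule.rTensor A P g) (AlgebraTensorModule.lTensor C M N.subtype) (by
      rw [AlgebraTensorModule.coe_lTensor]; exact H N)
  simpa [IsLocalizedModule.map_lTensor] using h1

variable {A B C : Type u} [CommRing A] [CommRing B] [CommRing C]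
    [Algebra A B] [Algebra B C] [Algebra A C] [IsScalarTower A B C]
    (M : Type u) [AddCommGroup M] [Module C M] [Module B M] [Module A M]
    [IsScalarTower B C M] [IsScalarTower A C M] [IsScalarTower A B M]

noncomputable def locEquiv (T : Submonoid B) :
    LocalizedModule T M ≃ₗ[B] LocalizedModule (Algebra.algebraMapSubmonoid C T) M := by
  haveI := IsLocalizedModule.restrictScalars T
    (LocalizedModule.mkLinearMap (Algebra.algebraMapSubmonoid C T) M)
  exact IsLocalizedModule.linearEquiv T (LocalizedModule.mkLinearMap T M)
    ((LocalizedModule.mkLinearMap (Algebra.algebraMapSubmonoid C T) M).restrictScalars B)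

theorem flat_iff_flat_map (T : Submonoid B) :
    Module.Flat A (LocalizedModule T M) ↔
      Module.Flat A (LocalizedModule (Algebra.algebraMapSubmonoid C T) M) :=
  Module.Flat.equiv_iff ((locEquiv (C := C) M T).restrictScalars A)

end Loc

section LG

variable {A C : Type u} [CommRing A] [CommRing C] [Algebra A C]
    (M : Type u) [AddCommGroup M] [Module C M] [Module A M] [IsScalarTower A C M]
    (T : Submonoid C)

instance : IsScalarTower A (Localization T) (LocalizedModule T M) :=
  ⟨fun a x n => by rw [← algebraMap_smul C a x, smul_assoc, algebraMap_smul]⟩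

variable (P' : Ideal (Localization T)) [P'.IsPrime]

/-- The submonoid of `C_T` image of the complement of the contraction of `P'`. -/
abbrev imSub : Submonoid (Localization T) :=
  Algebra.algebraMapSubmonoid (Localization T) (P'.comap (algebraMap C (Localization T))).primeCompl

theorem imSub_le : imSub T P' ≤ P'.primeCompl := by
  rintro _ ⟨c, hc, rfl⟩
  exact hc

theorem exists_mul_mem_imSub (x : P'.primeCompl) : ∃ m : Localization T, m * x ∈ imSub T P' := by
  obtain ⟨⟨c, t⟩, h⟩ := IsLocalization.surj T (x : Localization T)
  refine ⟨algebraMap C (Localization T) t, c, ?_, ?_⟩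
  · intro hc
    have : algebraMap C (Localization T) c ∈ P' := hc
    rw [← h] at this
    exact x.2 ((Ideal.IsPrime.mem_or_mem inferInstance this).resolve_right (fun h' =>
      Ideal.IsPrime.ne_top inferInstance (Ideal.eq_top_of_isUnit_mem _ h'
        (IsLocalization.map_units _ t))))
  · rw [mul_comm]; exact h.symm

instance isLoc_atPrime : IsLocalizedModule P'.primeCompl
    (LocalizedModule.mkLinearMap (imSub T P') (LocalizedModule T M)) :=
  IsLocalizedModule.of_exists_mul_mem (imSub T P') P'.primeCompl (imSub_le T P')
    (exists_mul_mem_imSub T P') _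

theorem le_comap_primeCompl : T ≤ (P'.comap (algebraMap C (Localization T))).primeCompl := by
  intro t ht h
  exact Ideal.IsPrime.ne_top inferInstance (Ideal.eq_top_of_isUnit_mem _ (Ideal.mem_comap.mp h)
    (IsLocalization.map_units (Localization T) ⟨t, ht⟩))

theorem flat_localizedModule_of_forall
    (H : ∀ (Q : Ideal C) [Q.IsPrime], T ≤ Q.primeCompl →
      Module.Flat A (LocalizedModule Q.primeCompl M)) :
    Module.Flat A (LocalizedModule T M) := by
  refine Module.flat_of_isLocalized_maximal (Localization T) (LocalizedModule T M)
    (fun P' _ => LocalizedModule (imSub T P') (LocalizedModule T M))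
    (fun P' _ => LocalizedModule.mkLinearMap (imSub T P') (LocalizedModule T M)) ?_
  intro P' _
  have hTQ : T ≤ (P'.comap (algebraMap C (Localization T))).primeCompl :=
    le_comap_primeCompl T P'
  have hfl := H (P'.comap (algebraMap C (Localization T))) hTQ
  have h1 : IsLocalizedModule (P'.comap (algebraMap C (Localization T))).primeCompl
      ((LocalizedModule.mkLinearMap (imSub T P') (LocalizedModule T M)).restrictScalars C) :=
    IsLocalizedModule.restrictScalars _ _
  let e : LocalizedModule (P'.comap (algebraMap C (Localization T))).primeCompl M ≃ₗ[C]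
      LocalizedModule (imSub T P') (LocalizedModule T M) :=
    IsLocalizedModule.linearEquiv (P'.comap (algebraMap C (Localization T))).primeCompl
      (LocalizedModule.liftOfLE T _ hTQ)
      ((LocalizedModule.mkLinearMap (imSub T P') (LocalizedModule T M)).restrictScalars C)
  exact (Module.Flat.equiv_iff (e.restrictScalars A)).mp hfl

end LG


/-- Let A be a commutative ring, B a finitely presented A-algebra, C a finitely presented B-algebra and
M a finitely presented C-module. Then the set of prime ideals q of B such that the localized module
M_q (M regarded as a B-module) is flat over A is open in Spec B. -/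
theorem result {A B C : Type u} [CommRing A] [CommRing B] [CommRing C]
    [Algebra A B] [Algebra B C] [Algebra A C] [IsScalarTower A B C]
    [Algebra.FinitePresentation A B] [Algebra.FinitePresentation B C]
    (M : Type u) [AddCommGroup M] [Module C M] [Module B M] [Module A M]
    [IsScalarTower B C M] [IsScalarTower A C M] [IsScalarTower A B M] [Module.FinitePresentation C M] :
    IsOpen {q : PrimeSpectrum B | Module.Flat A (LocalizedModule q.asIdeal.primeCompl M)} := by
  have : Algebra.FinitePresentation A C := Algebra.FinitePresentation.trans A B C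
  have hopen : IsOpen {Q : PrimeSpectrum C |
      Module.Flat A (LocalizedModule Q.asIdeal.primeCompl M)} :=
    Groth.Agent.Lib.Helper55.FL.isOpen_flat_localizedModule_of_fp
  obtain ⟨J, hJ⟩ := (PrimeSpectrum.isClosed_iff_zeroLocus_ideal _).mp hopen.isClosed_compl
  have key : {q : PrimeSpectrum B | Module.Flat A (LocalizedModule q.asIdeal.primeCompl M)} =
      (PrimeSpectrum.zeroLocus (J.comap (algebraMap B C) : Set B))ᶜ := by
    ext q
    simp only [Set.mem_ofPred_eq, Set.mem_compl_iff, PrimeSpectrum.mem_zeroLocus,
      SetLike.coe_subset_coe]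
    constructor
    · intro hq hle
      obtain ⟨Q, hJQ, hQp, hQq⟩ := Ideal.exists_ideal_comap_le_prime q.asIdeal J hle
      have hmem : (⟨Q, hQp⟩ : PrimeSpectrum C) ∈ PrimeSpectrum.zeroLocus (J : Set C) := hJQ
      rw [← hJ] at hmem
      apply hmem
      show Module.Flat A (LocalizedModule Q.primeCompl M)
      rw [flat_iff_flat_map (C := C)] at hq
      have hTQ : Algebra.algebraMapSubmonoid C q.asIdeal.primeCompl ≤ Q.primeCompl := by
        rintro _ ⟨b, hb, rfl⟩ hbQ
        exact hb (hQq hbQ)
      exact flat_of_isLocalizedModule (A := A) Q.primeCompl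
        (LocalizedModule.liftOfLE _ _ hTQ)
    · intro hnle
      rw [flat_iff_flat_map (C := C)]
      apply flat_localizedModule_of_forall
      intro Q _ hTQ
      by_contra hnf
      have hmem : (⟨Q, inferInstance⟩ : PrimeSpectrum C) ∈ PrimeSpectrum.zeroLocus (J : Set C) := by
        rw [← hJ]; exact hnf
      apply hnle
      intro b hb
      by_contra hbq
      exact hTQ ⟨b, hbq, rfl⟩ (hmem hb)
  rw [key]
  exact (PrimeSpectrum.isClosed_zeroLocus _).isOpen_compl

end Groth.Agent.S4865
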