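import Groth.Statements.S4872
import Mathlib

set_option autoImplicit false
universe u
open CategoryTheory AlgebraicGeometry
open EGA43

namespace Groth.Agent.S4872

section helpers
open CategoryTheory CategoryTheory.Limits AlgebraicGeometry


variable {X S : Scheme.{u}} (p : X ⟶ S) {ι : Type u} (Z : ι → Scheme.{u}) (f : ∀ i, Z i ⟶ X)

lemma b_imp_c
    (hb : ∀ (V : (X).Opens) (t : Γ(X, V)), (∀ i, (f i).app V t = 0) → t = 0) :
    ∀ (U : X.Opens) (Y : Scheme.{u}) (j : Y ⟶ (U : Scheme.{u})), IsClosedImmersion j →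
        (∀ i, ∃ g : ((f i) ⁻¹ᵁ U : Scheme.{u}) ⟶ Y, g ≫ j = (f i) ∣_ U) → IsIso j := by
  intro U Y j hj hg
  rw [IsClosedImmersion.isIso_iff_ker_eq_bot]
  ext W : 2
  rw [Scheme.Hom.ker_apply]
  simp only [Scheme.IdealSheafData.ideal_bot, Pi.bot_apply]
  rw [← RingHom.injective_iff_ker_eq_bot, injective_iff_map_eq_zero]
  intro t ht
  apply hb (U.ι ''ᵁ W.1) t
  intro i
  obtain ⟨g, hg⟩ := hg i
  have h1 : ((f i) ∣_ U).app W.1 t = 0 := by
    rw [← hg, Scheme.Hom.comp_app]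
    change (g.app (j ⁻¹ᵁ W.1)).hom ((j.app W.1).hom t) = 0
    rw [ht, map_zero]
  rw [morphismRestrict_app] at h1
  change ((Z i).presheaf.map (eqToHom (image_morphismRestrict_preimage (f i) U W.1)).op).hom
    (((f i).app (U.ι ''ᵁ W.1)).hom t) = 0 at h1
  have hinj : Function.Injective ((Z i).presheaf.map
      (eqToHom (image_morphismRestrict_preimage (f i) U W.1)).op) :=
    ((ConcreteCategory.isIso_iff_bijective _).mp inferInstance).1
  apply hinj
  rw [h1, map_zero]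

lemma c_imp_d
    (hc : ∀ (U : X.Opens) (Y : Scheme.{u}) (j : Y ⟶ (U : Scheme.{u})), IsClosedImmersion j →
        (∀ i, ∃ g : ((f i) ⁻¹ᵁ U : Scheme.{u}) ⟶ Y, g ≫ j = (f i) ∣_ U) → IsIso j) :
    ∀ (X' : Scheme.{u}) (q : X' ⟶ S), IsSeparated q → ∀ (U : X.Opens) (u v : (U : Scheme.{u}) ⟶ X'),
        u ≫ q = U.ι ≫ p → v ≫ q = U.ι ≫ p → (∀ i, ((f i) ∣_ U) ≫ u = ((f i) ∣_ U) ≫ v) → u = v := by
  intro X' q hq U u v hu hv huv
  let U' : Over S := Over.mk (U.ι ≫ p)
  let Y' : Over S := Over.mk q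
  let u' : U' ⟶ Y' := Over.homMk u hu
  let v' : U' ⟶ Y' := Over.homMk v hv
  have : IsSeparated Y'.hom := hq
  have hiso : IsIso (equalizer.ι u' v').left := by
    apply hc U _ _ inferInstance
    intro i
    let Zi : Over S := Over.mk (((f i) ∣_ U) ≫ U.ι ≫ p)
    let fi : Zi ⟶ U' := Over.homMk ((f i) ∣_ U)
    have hfi : fi ≫ u' = fi ≫ v' := by ext1; exact huv i
    refine ⟨(equalizer.lift fi hfi).left, ?_⟩
    rw [← Over.comp_left, equalizer.lift_ι]
    rfl
  rw [← cancel_epi (equalizer.ι u' v').left]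
  exact congr($(equalizer.condition u' v').left)

open AffineSpace in
lemma d_imp_b
    (hd : ∀ (X' : Scheme.{u}) (q : X' ⟶ S), IsSeparated q → ∀ (U : X.Opens) (u v : (U : Scheme.{u}) ⟶ X'),
        u ≫ q = U.ι ≫ p → v ≫ q = U.ι ≫ p → (∀ i, ((f i) ∣_ U) ≫ u = ((f i) ∣_ U) ≫ v) → u = v) :
    ∀ (V : (X).Opens) (t : Γ(X, V)), (∀ i, (f i).app V t = 0) → t = 0 := by
  intro V t ht
  let t' : Γ(V, ⊤) := V.topIso.inv t
  let u : (V : Scheme.{u}) ⟶ 𝔸(PUnit.{u+1}; S) := homOfVector (V.ι ≫ p) (fun _ => t')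
  let v : (V : Scheme.{u}) ⟶ 𝔸(PUnit.{u+1}; S) := homOfVector (V.ι ≫ p) (fun _ => 0)
  have huv : u = v := by
    refine hd _ (𝔸(PUnit.{u+1}; S) ↘ S) inferInstance V u v (homOfVector_over ..)
      (homOfVector_over ..) (fun i => ?_)
    rw [comp_homOfVector, comp_homOfVector]
    congr 1
    funext x
    simp only [Function.comp, map_zero]
    show ((f i) ∣_ V).appTop (V.topIso.inv t) = 0
    rw [Scheme.Opens.topIso_inv, Scheme.Hom.appTop, morphismRestrict_app]
    have nat := (f i).naturality (eqToHom V.ι_image_top).op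
    have h5 : ((f i).app (V.ι ''ᵁ ⊤)).hom
        ((X.presheaf.map (eqToHom V.ι_image_top).op).hom t) = 0 := by
      have h6 := congr($nat t)
      change ((f i).app (V.ι ''ᵁ ⊤)).hom ((X.presheaf.map (eqToHom V.ι_image_top).op).hom t) =
        ((Z i).presheaf.map _).hom (((f i).app V).hom t) at h6
      rw [h6]
      erw [ht i]
      rw [map_zero]
    change ((Z i).presheaf.map _).hom (((f i).app (V.ι ''ᵁ ⊤)).hom
      ((X.presheaf.map (eqToHom _).op).hom t)) = 0
    erw [h5]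
    rw [map_zero]
  have h2 := congr(($huv).appTop (coord S PUnit.unit))
  rw [homOfVector_appTop_coord, homOfVector_appTop_coord] at h2
  have h3 : V.topIso.hom t' = t := by
    simp only [t']
    rw [← CommRingCat.comp_apply, Iso.inv_hom_id]
    rfl
  rw [← h3, h2, map_zero]

end helpers

/-- Conditions b), c), d) (schematically dominant families): let p : X ⟶ S be a morphism and (f_i : Z_i
⟶ X) a family of morphisms. The following are equivalent: b) for every open V of X, a section of O_X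
over V whose images in all the Γ(f_i⁻¹(V), O_{Z_i}) are zero is zero; c) for every open U of X, a
closed immersion j : Y ⟶ U through which each restriction f_i⁻¹(U) ⟶ U factors is an isomorphism; d)
for every separated S-scheme X', every open U of X and every pair of S-morphisms u, v : U ⟶ X'
having the same composite with each f_i⁻¹(U) ⟶ U, one has u = v. -/
theorem result {X S : Scheme.{u}} (p : X ⟶ S) {ι : Type u} (Z : ι → Scheme.{u})
    (f : ∀ i, Z i ⟶ X) :
    [(∀ (V : (X).Opens) (t : Γ(X, V)), (∀ i, (f i).app V t = 0) → t = 0),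
      ∀ (U : X.Opens) (Y : Scheme.{u}) (j : Y ⟶ (U : Scheme.{u})), IsClosedImmersion j →
        (∀ i, ∃ g : ((f i) ⁻¹ᵁ U : Scheme.{u}) ⟶ Y, g ≫ j = (f i) ∣_ U) → IsIso j,
      ∀ (X' : Scheme.{u}) (q : X' ⟶ S), IsSeparated q → ∀ (U : X.Opens) (u v : (U : Scheme.{u}) ⟶ X'),
        u ≫ q = U.ι ≫ p → v ≫ q = U.ι ≫ p → (∀ i, ((f i) ∣_ U) ≫ u = ((f i) ∣_ U) ≫ v) → u = v].TFAE := by
  tfae_have 1 → 2 := b_imp_c Z f
  tfae_have 2 → 3 := c_imp_d p Z f
  tfae_have 3 → 1 := d_imp_b p Z f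
  tfae_finish

end Groth.Agent.S4872
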