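import Groth.Statements.S4874
-- import your own Groth.Agent.* helpers here

set_option autoImplicit false
universe u
open CategoryTheory AlgebraicGeometry
open EGA43

namespace Groth.Agent.S4874

theorem app_injective_of_flat_of_surjective {X X' : Scheme.{u}} (g : X' ⟶ X) [Flat g] [Surjective g]
    (V : X.Opens) : Function.Injective (g.app V) := by
  rw [injective_iff_map_eq_zero]
  intro t ht
  apply TopCat.Presheaf.section_ext X.sheaf V
  intro x hx
  obtain ⟨x', rfl⟩ := g.surjective x
  have hinj : Function.Injective (g.stalkMap x') := by
    algebraize [(g.stalkMap x').hom]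
    have : Module.FaithfullyFlat (X.presheaf.stalk (g x')) (X'.presheaf.stalk x') :=
      @Module.FaithfullyFlat.of_flat_of_isLocalHom _ _ _ _ _ _ _
        (Flat.stalkMap g x') (g.toLRSHom.prop x')
    exact ‹RingHom.FaithfullyFlat _›.injective
  show X.presheaf.germ V (g x') hx t = X.presheaf.germ V (g x') hx 0
  apply hinj
  have h1 := Scheme.Hom.germ_stalkMap_apply g V x' hx t
  rw [ht, map_zero] at h1
  rw [map_zero, map_zero]
  exact h1

/-- Let (f_i : Z_i ⟶ X) be a family of morphisms, g : X' ⟶ X a faithfully flat morphism and f'_i : Z_i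
×_X X' ⟶ X' the base changes. If the family (f'_i) is schematically dominant, then so is the family
(f_i). (Schematically dominant: a section of the structure sheaf over an open whose pullback along
every member of the family vanishes is zero.) -/
theorem result {X X' : Scheme.{u}} {ι : Type u} (Z : ι → Scheme.{u})
    (f : ∀ i, Z i ⟶ X) (g : X' ⟶ X) [Flat g] [Surjective g]
    (h : (∀ (V : (X').Opens) (t : Γ(X', V)), (∀ i, (Limits.pullback.snd (f i) g).app V t = 0) → t = 0)) :
    (∀ (V : (X).Opens) (t : Γ(X, V)), (∀ i, (f i).app V t = 0) → t = 0) := by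
  intro V t ht
  apply app_injective_of_flat_of_surjective g V
  rw [map_zero]
  apply h
  intro i
  have h1 : (Limits.pullback.snd (f i) g ≫ g).app V t = 0 := by
    have key : (Limits.pullback.snd (f i) g ≫ g).app V =
        (f i).app V ≫ ((Limits.pullback.fst (f i) g).app ((f i) ⁻¹ᵁ V) ≫
          (Limits.pullback (f i) g).presheaf.map (eqToHom (by rw [← Limits.pullback.condition]; rfl)).op) := by
      rw [Scheme.Hom.congr_app (Limits.pullback.condition (f := f i) (g := g)).symm V]
      rw [Scheme.Hom.comp_app]
      exact Category.assoc _ _ _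
    rw [key, CommRingCat.comp_apply, ht i, map_zero]
  rw [Scheme.Hom.comp_app] at h1
  exact h1

end Groth.Agent.S4874
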