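import Groth.Statements.S4877
import Mathlib
import Groth.Agent.S4875
import Groth.Agent.Lib.Helper45.SDFRC
import Groth.Agent.Lib.Helper8.SDFISOF

set_option autoImplicit false
universe u
open CategoryTheory AlgebraicGeometry
open EGA43

namespace Groth.Agent.S4877

open TensorProduct CategoryTheory.Limits TopologicalSpace

section Sch
/-! ### part a -/

theorem ring_chart {K : Type u} [Field K] {A R : Type u} [CommRing A] [Algebra K A] [CommRing R]
    [Algebra K R] {Bp Bu : Type u} [CommRing Bp] [CommRing Bu] [Algebra Bp Bu]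
    (θ : A ⊗[K] R ≃+* Bp) (b' : Bp) [IsLocalization.Away b' Bu]
    {Λ : Type u} (C : Λ → Type u) [∀ i, CommRing (C i)] [∀ i, Algebra K (C i)]
    (ψ : ∀ i, A →ₐ[K] C i)
    (hSL : ∀ (g x : A), (∀ i, ∃ m : ℕ, ψ i g ^ m * ψ i x = 0) → ∃ m : ℕ, g ^ m * x = 0)
    (t : Bu)
    (hG1 : ∀ i, ∀ (R' : Type u) [CommRing R'] (α : C i →+* R') (β : Bu →+* R'),
      α.comp (ψ i).toRingHom = β.comp ((algebraMap Bp Bu).comp
        (θ.toRingHom.comp Algebra.TensorProduct.includeLeftRingHom)) → β t = 0) :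
    t = 0 := by
  obtain ⟨⟨τ', s⟩, hs⟩ := IsLocalization.surj (Submonoid.powers b') t
  simp only at hs
  have hbu : IsUnit (algebraMap Bp Bu b') := IsLocalization.Away.algebraMap_isUnit b'
  have hsu : IsUnit (algebraMap Bp Bu s) := IsLocalization.map_units Bu s
  have hvan : ∀ i, ∃ m : ℕ, (Algebra.TensorProduct.map (ψ i) (AlgHom.id K R) (θ.symm b')) ^ m *
      Algebra.TensorProduct.map (ψ i) (AlgHom.id K R) (θ.symm τ') = 0 := by
    intro i
    set bi := Algebra.TensorProduct.map (ψ i) (AlgHom.id K R) (θ.symm b') with hbi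
    let g0 : Bp →+* Localization.Away bi :=
      (algebraMap (C i ⊗[K] R) (Localization.Away bi)).comp
        ((Algebra.TensorProduct.map (ψ i) (AlgHom.id K R)).toRingHom.comp θ.symm.toRingHom)
    have hg0 : IsUnit (g0 b') := IsLocalization.Away.algebraMap_isUnit bi
    let β : Bu →+* Localization.Away bi := IsLocalization.Away.lift b' hg0
    have hβ : ∀ z : Bp, β (algebraMap Bp Bu z) = g0 z := fun z =>
      IsLocalization.Away.lift_eq b' hg0 z
    have h1 := hG1 i (Localization.Away bi)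
      ((algebraMap (C i ⊗[K] R) (Localization.Away bi)).comp
        Algebra.TensorProduct.includeLeftRingHom) β (by
        ext a
        simp only [RingHom.comp_apply]
        rw [hβ]
        simp [g0])
    have h2 : g0 τ' = 0 := by
      rw [← hβ, ← hs, map_mul, h1, zero_mul]
    have h3 : algebraMap (C i ⊗[K] R) (Localization.Away bi)
        (Algebra.TensorProduct.map (ψ i) (AlgHom.id K R) (θ.symm τ')) = 0 := h2
    obtain ⟨⟨c, m, hm⟩, hc⟩ := (IsLocalization.map_eq_zero_iff (Submonoid.powers bi) _ _).mp h3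
    refine ⟨m, ?_⟩
    simp only at hm hc
    rw [hm]
    exact hc
  obtain ⟨m, hm⟩ := Groth.Agent.Lib.Helper45.SDFRC.RC (θ.symm b') (θ.symm τ') C ψ hSL hvan
  have h4 : b' ^ m * τ' = 0 := by
    have := congrArg θ hm
    simpa using this
  have h5 : algebraMap Bp Bu τ' = 0 := by
    have := congrArg (algebraMap Bp Bu) h4
    rw [map_mul, map_pow, map_zero] at this
    exact (hbu.pow m).mul_right_eq_zero.mp this
  rw [h5] at hs
  exact hsu.mul_left_eq_zero.mp hs

end Sch

section Sch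
/-! ### part b -/

theorem isAffineOpen_chart {X S' Bs : Scheme.{u}} [IsAffine Bs] (p : X ⟶ Bs) (q : S' ⟶ Bs)
    (U : X.Opens) (hU : IsAffineOpen U) (T : S'.Opens) (hT : IsAffineOpen T) :
    IsAffineOpen ((pullback.fst p q) ⁻¹ᵁ U ⊓ (pullback.snd p q) ⁻¹ᵁ T) := by
  have H : IsPullback (pullback.fst p q) (pullback.snd p q) p q := IsPullback.of_hasPullback p q
  have hUS : IsAffineOpen (⊤ : Bs.Opens) := isAffineOpen_top Bs
  have hUST : T ≤ q ⁻¹ᵁ ⊤ := fun _ _ => trivial
  have hUSX : U ≤ p ⁻¹ᵁ ⊤ := fun _ _ => trivial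
  haveI : IsAffine (⊤ : Bs.Opens).toScheme := hUS
  haveI : IsAffine T.toScheme := hT
  haveI : IsAffine U.toScheme := hU
  exact .of_isIso (Scheme.Hom.isPullback_resLE H hUST hUSX rfl).isoPullback.hom

theorem chart_zero {X S' Bs : Scheme.{u}} [IsAffine Bs] (hK : IsField Γ(Bs, ⊤))
    (p : X ⟶ Bs) (q : S' ⟶ Bs)
    {ι : Type u} (Z : ι → Scheme.{u}) (f : ∀ i, Z i ⟶ X)
    (h : ∀ (V : X.Opens) (t : Γ(X, V)), (∀ i, (f i).app V t = 0) → t = 0)
    (U : X.Opens) (hU : IsAffineOpen U) (T : S'.Opens) (hT : IsAffineOpen T)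
    (b' : Γ(pullback p q, (pullback.fst p q) ⁻¹ᵁ U ⊓ (pullback.snd p q) ⁻¹ᵁ T))
    (t : Γ(pullback p q, (pullback p q).basicOpen b'))
    (ht : ∀ i, (pullback.snd (f i) (pullback.fst p q)).app ((pullback p q).basicOpen b') t = 0) :
    t = 0 := by
  letI : Field Γ(Bs, ⊤) := hK.toField
  have H : IsPullback (pullback.fst p q) (pullback.snd p q) p q := IsPullback.of_hasPullback p q
  have hUS : IsAffineOpen (⊤ : Bs.Opens) := isAffineOpen_top Bs
  have hUST : T ≤ q ⁻¹ᵁ ⊤ := fun _ _ => trivial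
  have hUSX : U ≤ p ⁻¹ᵁ ⊤ := fun _ _ => trivial
  have hiso := isIso_pushoutSection_of_isAffineOpen H hUST hUSX
    (UY := (pullback.fst p q) ⁻¹ᵁ U ⊓ (pullback.snd p q) ⁻¹ᵁ T) rfl hUS hT hU
  have hpo := (isIso_pushoutSection_iff H hUST hUSX rfl).mp hiso
  have hP' : IsAffineOpen ((pullback.fst p q) ⁻¹ᵁ U ⊓ (pullback.snd p q) ⁻¹ᵁ T) := by
    haveI : IsAffine (⊤ : Bs.Opens).toScheme := hUS
    haveI : IsAffine T.toScheme := hT
    haveI : IsAffine U.toScheme := hU
    exact .of_isIso (Scheme.Hom.isPullback_resLE H hUST hUSX rfl).isoPullback.hom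
  letI algA : Algebra Γ(Bs, ⊤) Γ(X, U) := (p.appLE ⊤ U hUSX).hom.toAlgebra
  letI algR : Algebra Γ(Bs, ⊤) Γ(S', T) := (q.appLE ⊤ T hUST).hom.toAlgebra
  have hpo2 := CommRingCat.isPushout_tensorProduct Γ(Bs, ⊤) Γ(X, U) Γ(S', T)
  let θc := hpo2.isoIsPushout _ _ hpo
  have hθl := IsPushout.inl_isoIsPushout_hom _ _ hpo2 hpo
  let θ : Γ(X, U) ⊗[Γ(Bs, ⊤)] Γ(S', T) ≃+*
      Γ(pullback p q, (pullback.fst p q) ⁻¹ᵁ U ⊓ (pullback.snd p q) ⁻¹ᵁ T) :=
    θc.commRingCatIsoToRingEquiv
  haveI := hP'.isLocalization_basicOpen b'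
  let Λ := Σ i : ι, {W : (Z i).Opens // IsAffineOpen W ∧ W ≤ f i ⁻¹ᵁ U}
  letI algC : ∀ l : Λ, Algebra Γ(Bs, ⊤) Γ(Z l.1, l.2.1) := fun l =>
    (((f l.1).appLE U l.2.1 l.2.2.2).hom.comp (algebraMap Γ(Bs, ⊤) Γ(X, U))).toAlgebra
  let ψ : ∀ l : Λ, Γ(X, U) →ₐ[Γ(Bs, ⊤)] Γ(Z l.1, l.2.1) := fun l =>
    { toRingHom := ((f l.1).appLE U l.2.1 l.2.2.2).hom, commutes' := fun r => rfl }
  refine ring_chart θ b' (fun l : Λ => Γ(Z l.1, l.2.1)) ψ ?_ t ?_
  · intro g x hx
    exact Groth.Agent.Lib.Helper45.SDG2F.G2F Z f h U hU g x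
      (fun i W hW hWU => hx ⟨i, ⟨W, hW, hWU⟩⟩)
  · intro l R' _ α β hαβ
    have hUU' : (pullback p q).basicOpen b' ≤ (pullback.fst p q) ⁻¹ᵁ U :=
      ((pullback p q).basicOpen_le b').trans inf_le_left
    exact Groth.Agent.S4875.G1F (f l.1) (pullback.fst p q) U hU _ (hP'.basicOpen b') hUU'
      l.2.1 l.2.2.1 l.2.2.2 t (ht l.1) (CommRingCat.of R') (CommRingCat.ofHom α)
      (CommRingCat.ofHom β) (by
        ext a
        have h1 := congrArg (fun k => k a) hαβ
        have hle : (pullback.fst p q) ⁻¹ᵁ U ⊓ (pullback.snd p q) ⁻¹ᵁ T ≤ (pullback.fst p q) ⁻¹ᵁ U :=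
          inf_le_left
        have h2 : θ (Algebra.TensorProduct.includeLeftRingHom a) =
            ((pullback.fst p q).appLE U _ hle).hom a := by
          have := congrArg (fun k => k.hom a) hθl
          exact this
        have h3 : (pullback.fst p q).appLE U ((pullback p q).basicOpen b') hUU' =
            (pullback.fst p q).appLE U _ hle ≫
              (pullback p q).presheaf.map (homOfLE ((pullback p q).basicOpen_le b')).op :=
          (Scheme.Hom.appLE_map _ _ _).symm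
        rw [h3]
        simp only [CommRingCat.hom_comp, RingHom.comp_apply, CommRingCat.hom_ofHom]
        rw [← h2]
        exact h1)

end Sch

/-- Let k be a field, X a k-scheme, (f_i : Z_i ⟶ X) a schematically dominant family of morphisms and S'
an arbitrary k-scheme. Then the family of base changes Z_i ×_k S' ⟶ X ×_k S' is schematically
dominant. (Schematically dominant: a section of the structure sheaf over an open whose pullback
along every member vanishes is zero.) -/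
theorem result {k : Type u} [Field k] {X S' : Scheme.{u}}
    (p : X ⟶ Spec (CommRingCat.of k)) (q : S' ⟶ Spec (CommRingCat.of k))
    {ι : Type u} (Z : ι → Scheme.{u}) (f : ∀ i, Z i ⟶ X)
    (h : (∀ (V : (X).Opens) (t : Γ(X, V)), (∀ i, (f i).app V t = 0) → t = 0)) :
    (∀ (V : (Limits.pullback p q).Opens) (t : Γ(Limits.pullback p q, V)), (∀ i, (Limits.pullback.map (f i ≫ p) q p q (f i) (𝟙 S') (𝟙 _) (Category.comp_id _) ((Category.comp_id _).trans (Category.id_comp _).symm)).app V t = 0) → t = 0) := by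
  intro V t ht
  have ht' : ∀ i, (pullback.snd (f i) (pullback.fst p q)).app V t = 0 :=
    fun i => Groth.Agent.Lib.Helper8.SDFISOF.ISOF p q (f i) V t (ht i)
  have hK : IsField Γ(Spec (CommRingCat.of k), ⊤) :=
    MulEquiv.isField (Field.toIsField k)
      (Scheme.ΓSpecIso (CommRingCat.of k)).commRingCatIsoToRingEquiv.toMulEquiv
  have key : ∀ x : V, ∃ (U' : (pullback p q).Opens) (hU'V : U' ≤ V),
      (x : ↥(pullback p q)) ∈ U' ∧ (pullback p q).presheaf.map (homOfLE hU'V).op t = 0 := by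
    intro x
    obtain ⟨_, ⟨U, hU : IsAffineOpen U, rfl⟩, hxU, -⟩ :=
      (X.isBasis_affineOpens).exists_subset_of_mem_open
        (show (pullback.fst p q) (x : ↥(pullback p q)) ∈ (⊤ : X.Opens).1 from trivial)
        (⊤ : X.Opens).2
    obtain ⟨_, ⟨T, hT : IsAffineOpen T, rfl⟩, hxT, -⟩ :=
      (S'.isBasis_affineOpens).exists_subset_of_mem_open
        (show (pullback.snd p q) (x : ↥(pullback p q)) ∈ (⊤ : S'.Opens).1 from trivial)
        (⊤ : S'.Opens).2
    have hP' := isAffineOpen_chart p q U hU T hT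
    have hxP : (x : ↥(pullback p q)) ∈
        (pullback.fst p q) ⁻¹ᵁ U ⊓ (pullback.snd p q) ⁻¹ᵁ T := ⟨hxU, hxT⟩
    obtain ⟨b', hb'V, hxb'⟩ := hP'.exists_basicOpen_le x hxP
    refine ⟨(pullback p q).basicOpen b', hb'V, hxb', chart_zero hK p q Z f h U hU T hT b' _ ?_⟩
    intro i
    have hnat := (pullback.snd (f i) (pullback.fst p q)).naturality (homOfLE hb'V).op
    have := congrArg (fun φ => φ.hom t) hnat
    simp only [CommRingCat.comp_apply] at this
    rw [this, ht' i, map_zero]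
  choose U' hU'V hxU' hres using key
  refine (pullback p q).sheaf.eq_of_locally_eq' U' V (fun x => homOfLE (hU'V x)) ?_ t 0 ?_
  · intro y hy
    exact Opens.mem_iSup.2 ⟨⟨y, hy⟩, hxU' ⟨y, hy⟩⟩
  · intro x
    have := hres x
    rw [map_zero]
    exact this

end Groth.Agent.S4877
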