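import Groth.Statements.S4878
import Mathlib.LinearAlgebra.DirectSum.Finsupp
-- import your own Groth.Agent.* helpers here

set_option autoImplicit false
universe u
open TensorProduct
open EGA43

namespace Groth.Agent.S4878

/-- Let A be a commutative ring, (u_i : M → M_i) a family of A-linear maps whose kernels have zero
intersection, and N a projective A-module. Then the kernels of the maps u_i ⊗ 1 : M ⊗_A N → M_i ⊗_A
N have zero intersection. -/
theorem result {A : Type u} [CommRing A]
    {M : Type u} [AddCommGroup M] [Module A M] {ι : Type u} (M' : ι → Type u)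
    [∀ i, AddCommGroup (M' i)] [∀ i, Module A (M' i)] (u : ∀ i, M →ₗ[A] M' i)
    (hu : ⨅ i, LinearMap.ker (u i) = ⊥)
    (N : Type u) [AddCommGroup N] [Module A N] [Module.Projective A N] :
    ⨅ i, LinearMap.ker ((u i).rTensor N) = ⊥ := by
  classical
  obtain ⟨s, hs⟩ := (Module.projective_def'.1 (inferInstance : Module.Projective A N))
  rw [eq_bot_iff]
  intro x hx
  rw [Submodule.mem_iInf] at hx
  rw [Submodule.mem_bot]
  have key : ∀ n : N, TensorProduct.rid A M ((LinearMap.lTensor M ((Finsupp.lapply n) ∘ₗ s)) x) = 0 := by
    intro n
    have h1 : TensorProduct.rid A M ((LinearMap.lTensor M ((Finsupp.lapply n) ∘ₗ s)) x) ∈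
        ⨅ i, LinearMap.ker (u i) := by
      rw [Submodule.mem_iInf]
      intro i
      rw [LinearMap.mem_ker]
      have h2 : ∀ y : M ⊗[A] N, u i (TensorProduct.rid A M ((LinearMap.lTensor M ((Finsupp.lapply n) ∘ₗ s)) y)) =
          TensorProduct.rid A (M' i) ((LinearMap.lTensor (M' i) ((Finsupp.lapply n) ∘ₗ s)) ((u i).rTensor N y)) := by
        intro y
        induction y using TensorProduct.induction_on with
        | zero => simp
        | tmul m n' => simp
        | add a b ha hb => simp only [map_add, ha, hb]
      rw [h2, LinearMap.mem_ker.1 (hx i)]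
      simp
    rw [hu] at h1
    exact (Submodule.mem_bot A).1 h1
  have h3 : (LinearMap.lTensor M s) x = 0 := by
    apply (TensorProduct.finsuppScalarRight A A M N).injective
    rw [map_zero]
    ext n
    rw [TensorProduct.finsuppScalarRight_apply]
    have := key n
    rw [LinearMap.lTensor_comp] at this
    simpa using this
  have h4 : x = (LinearMap.lTensor M (Finsupp.linearCombination A id)) ((LinearMap.lTensor M s) x) := by
    rw [← LinearMap.comp_apply, ← LinearMap.lTensor_comp, hs]
    simp
  rw [h4, h3, map_zero]

end Groth.Agent.S4878
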