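import Groth.Statements.S4880
import Mathlib
import Groth.Agent.S4860
import Groth.Agent.S4861

set_option autoImplicit false
universe u
open CategoryTheory AlgebraicGeometry
open EGA43

namespace Groth.Agent.S4880
open CategoryTheory AlgebraicGeometry

theorem alg_key (A : Type u) [CommRing A] [IsNoetherianRing A] [IrreducibleSpace (PrimeSpectrum A)] :
    ((∃ x : PrimeSpectrum A, IsOpen ({x} : Set (PrimeSpectrum A))) → Finite (PrimeSpectrum A)) ∧
    (Finite (PrimeSpectrum A) → ringKrullDim A ≤ 1) := by
  have hprime : (nilradical A).IsPrime := PrimeSpectrum.irreducibleSpace_iff_isPrime_nilradical.mp inferInstance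
  haveI : IsDomain (A ⧸ nilradical A) := Ideal.Quotient.isDomain _
  have hle : ∀ y : PrimeSpectrum A, nilradical A ≤ y.asIdeal := fun y => nilradical_le_prime y.asIdeal
  have hinj : Function.Injective (PrimeSpectrum.comap (Ideal.Quotient.mk (nilradical A))) :=
    PrimeSpectrum.comap_injective_of_surjective _ Ideal.Quotient.mk_surjective
  have hsurj : Function.Surjective (PrimeSpectrum.comap (Ideal.Quotient.mk (nilradical A))) := by
    intro y
    have : y ∈ Set.range (PrimeSpectrum.comap (Ideal.Quotient.mk (nilradical A))) := by
      rw [range_comap_of_surjective _ _ Ideal.Quotient.mk_surjective,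
        Ideal.mk_ker, PrimeSpectrum.mem_zeroLocus]
      exact hle y
    exact this
  constructor
  · rintro ⟨x, hx⟩
    -- x is the generic point
    have hxeq : x.asIdeal = nilradical A := by
      apply le_antisymm _ (hle x)
      have hd : Dense ({x} : Set (PrimeSpectrum A)) := hx.dense (Set.singleton_nonempty x)
      have hsp : x ⤳ ⟨nilradical A, hprime⟩ := by
        rw [specializes_iff_mem_closure, hd.closure_eq]
        trivial
      exact (PrimeSpectrum.le_iff_specializes _ _).mpr hsp
    have hopen : IsOpen ({⟨⊥, Ideal.isPrime_bot⟩} : Set (PrimeSpectrum (A ⧸ nilradical A))) := by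
      have hpre : ({⟨⊥, Ideal.isPrime_bot⟩} : Set (PrimeSpectrum (A ⧸ nilradical A))) =
          (PrimeSpectrum.comap (Ideal.Quotient.mk (nilradical A))) ⁻¹' {x} := by
        ext y
        simp only [Set.mem_singleton_iff, Set.mem_preimage]
        constructor
        · rintro rfl
          apply PrimeSpectrum.ext
          rw [hxeq]
          change Ideal.comap _ ⊥ = _
          rw [← RingHom.ker_eq_comap_bot, Ideal.mk_ker]
        · intro h
          apply hinj
          rw [h]
          apply PrimeSpectrum.ext
          rw [hxeq]
          change _ = Ideal.comap _ ⊥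
          rw [← RingHom.ker_eq_comap_bot, Ideal.mk_ker]
      rw [hpre]
      exact hx.preimage (PrimeSpectrum.continuous_comap _)
    have h1 := ((Groth.Agent.S4860.result (A ⧸ nilradical A)).out 3 0).mp hopen
    have h2 : Finite (PrimeSpectrum (A ⧸ nilradical A)) :=
      ((Groth.Agent.S4861.result (A ⧸ nilradical A)).out 0 1).mp h1
    exact Finite.of_surjective _ hsurj
  · intro hfin
    have h2 : Finite (PrimeSpectrum (A ⧸ nilradical A)) := Finite.of_injective _ hinj
    have h3' : Finite (MaximalSpectrum (A ⧸ nilradical A)) ∧ ringKrullDim (A ⧸ nilradical A) ≤ 1 :=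
      ((Groth.Agent.S4861.result (A ⧸ nilradical A)).out 1 2).mp h2
    have h3 := h3'.2
    refine le_trans ?_ h3
    rw [ringKrullDim_quotient]
    exact Order.krullDim_le_of_strictMono
      (fun y : PrimeSpectrum A => (⟨y, (PrimeSpectrum.mem_zeroLocus _ _).mpr (hle y)⟩ :
        PrimeSpectrum.zeroLocus (nilradical A : Set A))) (fun a b h => h)

/-! Dimension lemmas (after helper36's DimLemmas) -/

attribute [local instance] specializationOrder in
theorem topDim_eq_krullDim (X : Scheme.{u}) :
    topologicalKrullDim ↥X = Order.krullDim ↥X := by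
  unfold topologicalKrullDim
  exact Order.krullDim_eq_of_orderIso (irreducibleSetEquivPoints (α := ↥X))

theorem stalk_le_topDim (X : Scheme.{u}) (x : ↥X) :
    ringKrullDim ↥(X.presheaf.stalk x) ≤ topologicalKrullDim ↥X := by
  rw [topDim_eq_krullDim, AlgebraicGeometry.ringKrullDim_stalk_eq_coheight]
  exact Order.coheight_le_krullDim x

theorem topDim_le_of_forall_stalk (X : Scheme.{u}) (d : WithBot ℕ∞)
    (h : ∀ x : ↥X, ringKrullDim ↥(X.presheaf.stalk x) ≤ d) : topologicalKrullDim ↥X ≤ d := by
  rw [topDim_eq_krullDim]
  unfold Order.krullDim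
  refine iSup_le fun p => ?_
  refine le_trans ?_ (h p.head)
  rw [AlgebraicGeometry.ringKrullDim_stalk_eq_coheight]
  exact_mod_cast Order.length_le_coheight_head (p := p)

section Chart

variable {X : Scheme.{u}} [IsNoetherian X] [IrreducibleSpace X] {R : CommRingCat.{u}}
  (f : Spec R ⟶ X) [IsOpenImmersion f]

include f in
lemma chart_noeth : IsNoetherianRing R := by
  haveI := isLocallyNoetherian_of_isOpenImmersion f
  exact isLocallyNoetherian_Spec.mp inferInstance

include f in
lemma chart_irred [hne : Nonempty (Spec R)] : IrreducibleSpace (PrimeSpectrum R) := by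
  have hpre : PreirreducibleSpace (Spec R) := ⟨by
    have := (PreirreducibleSpace.isPreirreducible_univ (X := X)).preimage f.isOpenEmbedding
    simpa using this⟩
  exact { toPreirreducibleSpace := hpre, toNonempty := hne }

include f in
lemma chart_finite_of_open [hne : Nonempty (Spec R)] (h : IsOpen ({genericPoint X} : Set X)) :
    Finite (PrimeSpectrum R) := by
  haveI := chart_noeth f
  haveI := chart_irred f
  have hη : genericPoint X ∈ Set.range f := by
    refine ((genericPoint_spec X).mem_open_set_iff f.isOpenEmbedding.isOpen_range).mpr ?_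
    obtain ⟨y⟩ := hne
    exact ⟨f y, trivial, y, rfl⟩
  obtain ⟨x, hx⟩ := hη
  refine (alg_key R).1 ⟨x, ?_⟩
  have hpre : ({x} : Set (Spec R)) = f ⁻¹' {genericPoint X} := by
    ext y
    rw [Set.mem_singleton_iff, Set.mem_preimage, Set.mem_singleton_iff, ← hx]
    exact (f.isOpenEmbedding.injective.eq_iff).symm
  have hopen : IsOpen ({x} : Set (Spec R)) := by
    rw [hpre]
    exact h.preimage f.continuous
  exact hopen

lemma chart_stalk_dim (hfin : Finite X) (y : Spec R) :
    ringKrullDim (X.presheaf.stalk (f y)) ≤ 1 := by
  haveI : Nonempty (Spec R) := ⟨y⟩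
  haveI := chart_noeth f
  haveI := chart_irred f
  have hfinR : Finite (PrimeSpectrum R) :=
    Finite.of_injective f f.isOpenEmbedding.injective
  have hdim := (alg_key R).2 hfinR
  have e : X.presheaf.stalk (f y) ≅ (Spec R).presheaf.stalk y := asIso (f.stalkMap y)
  rw [ringKrullDim_eq_of_ringEquiv e.commRingCatIsoToRingEquiv]
  refine (stalk_le_topDim (Spec R) y).trans ?_
  have : topologicalKrullDim ↥(Spec R) = ringKrullDim R :=
    PrimeSpectrum.topologicalKrullDim_eq_ringKrullDim R
  rw [this]
  exact hdim

end Chart

section Main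

variable (X : Scheme.{u}) [IsNoetherian X] [IrreducibleSpace X]

theorem a_imp_b (h : IsOpen ({genericPoint X} : Set X)) : Finite X := by
  obtain ⟨t, ht⟩ := CompactSpace.elim_nhds_subcover
    (fun x : X => Set.range (X.affineOpenCover.f (X.affineOpenCover.idx x)))
    (fun x => (X.affineOpenCover.f (X.affineOpenCover.idx x)).isOpenEmbedding.isOpen_range.mem_nhds
      (X.affineOpenCover.covers x))
  rw [← Set.finite_univ_iff, ← Set.top_eq_univ, ← ht]
  refine Set.Finite.biUnion t.finite_toSet (fun x _ => ?_)
  haveI : Nonempty (Spec (X.affineOpenCover.X (X.affineOpenCover.idx x))) := by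
    obtain ⟨y, -⟩ := X.affineOpenCover.covers x
    exact ⟨y⟩
  haveI : Finite (Spec (X.affineOpenCover.X (X.affineOpenCover.idx x))) :=
    chart_finite_of_open (X.affineOpenCover.f (X.affineOpenCover.idx x)) h
  exact Set.finite_range _

theorem b_imp_dim (h : Finite X) : topologicalKrullDim X ≤ 1 := by
  refine topDim_le_of_forall_stalk X 1 (fun x => ?_)
  obtain ⟨y, hy⟩ := X.affineOpenCover.covers x
  rw [← hy]
  exact chart_stalk_dim _ h y

attribute [local instance] specializationOrder in
theorem c_imp_b (hdim : topologicalKrullDim X ≤ 1)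
    (hcl : {x : X | IsClosed ({x} : Set X)}.Finite) : Finite X := by
  rw [← Set.finite_univ_iff]
  refine Set.Finite.subset ((Set.finite_singleton (genericPoint X)).union hcl) ?_
  intro x _
  by_cases hx : x = genericPoint X
  · exact Or.inl hx
  · right
    show IsClosed ({x} : Set X)
    by_contra hncl
    obtain ⟨z, hz, hzcl⟩ := (isClosed_closure (s := ({x} : Set X))).exists_closed_singleton
      ⟨x, subset_closure rfl⟩
    have hxz : x ⤳ z := specializes_iff_mem_closure.mpr hz
    have hzx : z ≠ x := by
      rintro rfl
      exact hncl hzcl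
    have hηx : genericPoint X ⤳ x := by
      rw [specializes_iff_mem_closure, (genericPoint_spec X).def]
      trivial
    -- chain z < x < η
    have h1 : z < x := by
      refine lt_of_le_of_ne hxz ?_
      exact hzx
    have h2 : x < genericPoint X := lt_of_le_of_ne hηx hx
    have hlen := Order.LTSeries.length_le_krullDim
      ((((RelSeries.singleton _ (genericPoint X) : LTSeries X)).cons x h2).cons z h1)
    rw [← topDim_eq_krullDim] at hlen
    have := hlen.trans hdim
    simp only [RelSeries.cons_length, RelSeries.singleton_length] at this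
    norm_cast at this

theorem b_imp_a (h : Finite X) : IsOpen ({genericPoint X} : Set X) := by
  have hcompl : ({genericPoint X} : Set X)ᶜ =
      ⋃ x ∈ {x : X | x ≠ genericPoint X}, closure ({x} : Set X) := by
    ext y
    simp only [Set.mem_compl_iff, Set.mem_singleton_iff, Set.mem_ofPred_eq, Set.mem_iUnion,
      exists_prop]
    constructor
    · intro hy
      exact ⟨y, hy, subset_closure rfl⟩
    · rintro ⟨x, hx, hyx⟩ rfl
      apply hx
      have h1 : x ⤳ genericPoint X := specializes_iff_mem_closure.mpr hyx
      have h2 : genericPoint X ⤳ x := by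
        rw [specializes_iff_mem_closure, (genericPoint_spec X).def]
        trivial
      exact (h1.antisymm h2).eq
  rw [← isClosed_compl_iff, hcompl]
  exact Set.Finite.isClosed_biUnion (Set.toFinite _) (fun _ _ => isClosed_closure)

theorem main : [IsOpen ({genericPoint X} : Set X),
      Finite X,
      topologicalKrullDim X ≤ 1 ∧ {x : X | IsClosed ({x} : Set X)}.Finite].TFAE := by
  tfae_have 1 → 2 := a_imp_b X
  tfae_have 2 → 3 := fun h => ⟨b_imp_dim X h, Set.toFinite _⟩
  tfae_have 3 → 2 := fun h => c_imp_b X h.1 h.2
  tfae_have 2 → 1 := b_imp_a X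
  tfae_finish

end Main

end Groth.Agent.S4880

namespace Groth.Agent.S4880

/-- For a Noetherian irreducible scheme X the following are equivalent: a) the generic point of X is an
isolated point; b) the underlying set of X is finite; c) X has dimension at most 1 and finitely many
closed points. -/
theorem result (X : Scheme.{u}) [IsNoetherian X]
    [IrreducibleSpace X] :
    [IsOpen ({genericPoint X} : Set X),
      Finite X,
      topologicalKrullDim X ≤ 1 ∧ {x : X | IsClosed ({x} : Set X)}.Finite].TFAE := by
  exact main X

end Groth.Agent.S4880
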