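import Groth.Statements.S4882
import Groth.Agent.Lib.Helper80.QH

set_option autoImplicit false
universe u
open EGA43

namespace Groth.Agent.S4882

/-- Let X be a Jacobson space and Z a locally quasi-constructible subset of X, i.e. every point of X has
an open neighbourhood U such that U ∩ Z is a finite union of locally closed subsets of X. Then the
subspace Z is a Jacobson space, and a point of Z is closed in Z if and only if it is closed in X. -/
theorem result {X : Type u} [TopologicalSpace X] [JacobsonSpace X]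
    (Z : Set X)
    (hZ : ∀ x : X, ∃ U : Set X, IsOpen U ∧ x ∈ U ∧
      ∃ T : Set (Set X), T.Finite ∧ (∀ t ∈ T, IsLocallyClosed t) ∧ U ∩ Z = ⋃₀ T) :
    JacobsonSpace ↥Z ∧ ∀ z : ↥Z, IsClosed ({z} : Set ↥Z) ↔ IsClosed ({(z : X)} : Set X) := by
  have hVD : Groth.Agent.Lib.Helper80.VD (closedPoints X) :=
    fun S hS hne => nonempty_inter_closedPoints hne hS
  have hback : ∀ z : ↥Z, IsClosed ({(z : X)} : Set X) → IsClosed ({z} : Set ↥Z) := by
    intro z hz
    have : ({z} : Set ↥Z) = Subtype.val ⁻¹' {(z : X)} := by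
      ext y
      simp only [Set.mem_singleton_iff, Set.mem_preimage]
      exact Subtype.ext_iff
    rw [this]
    exact hz.preimage continuous_subtype_val
  refine ⟨?_, fun z => ⟨?_, hback z⟩⟩
  · rw [jacobsonSpace_iff_locallyClosed]
    intro S hne hS
    obtain ⟨S', hS', rfl⟩ := (Topology.IsInducing.subtypeVal).isLocallyClosed_iff.mp hS
    obtain ⟨z, hz⟩ := hne
    obtain ⟨x, ⟨hxS', hxZ⟩, hxc⟩ := hVD.lqc_nonempty
      ((Groth.Agent.Lib.Helper80.LQC.of_isLocallyClosed hS').inter hZ) ⟨z.1, hz, z.2⟩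
    exact ⟨⟨x, hxZ⟩, hxS', hback ⟨x, hxZ⟩ hxc⟩
  · intro hz
    obtain ⟨C, hC, hCz⟩ := isClosed_induced_iff.mp hz
    have hzC : (z : X) ∈ C := by
      have : z ∈ Subtype.val ⁻¹' C := by rw [hCz]; exact Set.mem_singleton z
      exact this
    obtain ⟨x, ⟨hxC, hxZ⟩, hxc⟩ := hVD.lqc_nonempty
      ((Groth.Agent.Lib.Helper80.LQC.of_isClosed hC).inter hZ) ⟨z.1, hzC, z.2⟩
    have : (⟨x, hxZ⟩ : ↥Z) ∈ ({z} : Set ↥Z) := by rw [← hCz]; exact hxC
    rw [Set.mem_singleton_iff] at this
    rw [← this]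
    exact hxc

end Groth.Agent.S4882
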