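import Groth.Statements.S4883
import Groth.Agent.Lib.Helper80.FiniteClosure

set_option autoImplicit false
universe u
open CategoryTheory AlgebraicGeometry
open EGA43

namespace Groth.Agent.S4883

/-- Let X be a Noetherian scheme. Then the set of points x of X whose closure is finite is very dense in
X: every nonempty locally closed subset of X contains a point with finite closure. -/
theorem result (X : Scheme.{u}) [IsNoetherian X]
    (Z : Set X) (hZ : IsLocallyClosed Z) (hne : Z.Nonempty) :
    ∃ x ∈ Z, (closure ({x} : Set X)).Finite := by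
  have hNS : TopologicalSpace.NoetherianSpace X := inferInstance
  have hcZ : CompactSpace ↥Z := inferInstance
  have hZne : Nonempty ↥Z := hne.to_subtype
  obtain ⟨z, -, hz⟩ := IsClosed.exists_closed_singleton (X := ↥Z) isClosed_univ
    Set.univ_nonempty
  refine ⟨z.1, z.2, ?_⟩
  have hlc : IsLocallyClosed ({(z : X)} : Set X) := by
    obtain ⟨C, hC, hCz⟩ := isClosed_induced_iff.mp hz
    have : ({(z : X)} : Set X) = Z ∩ C := by
      ext y
      constructor
      · rintro rfl
        refine ⟨z.2, ?_⟩
        have : z ∈ Subtype.val ⁻¹' C := by rw [hCz]; exact Set.mem_singleton z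
        exact this
      · rintro ⟨hyZ, hyC⟩
        have : (⟨y, hyZ⟩ : ↥Z) ∈ ({z} : Set ↥Z) := by rw [← hCz]; exact hyC
        exact congrArg Subtype.val this
    rw [this]
    exact hZ.inter hC.isLocallyClosed
  let 𝒰 := X.affineCover.finiteSubcover
  have hfin : ∀ i : 𝒰.I₀, ((𝒰.f i).base ⁻¹' closure ({(z : X)} : Set X)).Finite := by
    intro i
    rw [(𝒰.f i).isOpenEmbedding.isOpenMap.preimage_closure_eq_closure_preimage (𝒰.f i).continuous]
    apply Groth.Agent.Lib.Helper80.finite_closure_of_isAffine
    · exact hlc.preimage (𝒰.f i).continuous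
    · intro a ha b hb
      exact (𝒰.f i).isOpenEmbedding.injective (ha.trans hb.symm)
  have hcov : closure ({(z : X)} : Set X) ⊆
      ⋃ i : 𝒰.I₀, (𝒰.f i).base '' ((𝒰.f i).base ⁻¹' closure ({(z : X)} : Set X)) := by
    intro y hy
    obtain ⟨i, w, rfl⟩ := 𝒰.exists_eq y
    exact Set.mem_iUnion.mpr ⟨i, w, hy, rfl⟩
  exact (Set.finite_iUnion fun i => (hfin i).image _).subset hcov

end Groth.Agent.S4883
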