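import Groth.Statements.S4885
import Mathlib.RingTheory.FinitePresentation
import Mathlib.RingTheory.FiniteType
import Mathlib.RingTheory.IntegralClosure.IsIntegral.Basic
import Mathlib.RingTheory.IntegralClosure.Algebra.Basic

set_option autoImplicit false
universe u
open EGA43

namespace Groth.Agent.S4885

/-- Every finite algebra A' over a commutative ring A is a directed colimit (filtered inductive limit)
of A-algebras which are finite and of finite presentation over A. -/
theorem result (A A' : Type u) [CommRing A] [CommRing A']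
    [Algebra A A'] [Module.Finite A A'] :
    ∃ (ι : Type u) (_ : Preorder ι) (G : ι → Type u) (_ : ∀ i, CommRing (G i)) (_ : ∀ i, Algebra A (G i))
      (g : ∀ i j, i ≤ j → G i →ₐ[A] G j) (_ : ∀ i, Algebra (G i) A') (_ : ∀ i, IsScalarTower A (G i) A'),
      FlatCA.IsDirectedColimitRing G (fun i j h => (g i j h).toRingHom) A' ∧
        ∀ i, Module.Finite A (G i) ∧ Algebra.FinitePresentation A (G i) := by
  classical
  have hft : Algebra.FiniteType A A' := inferInstance
  obtain ⟨n, φ, hφ⟩ := Algebra.FiniteType.iff_quotient_mvPolynomial''.mp hft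
  have hint : ∀ k : Fin n, IsIntegral A (φ (MvPolynomial.X k)) :=
    fun k => Algebra.IsIntegral.isIntegral _
  choose P hPmonic hPeval using hint
  let Q : Fin n → MvPolynomial (Fin n) A :=
    fun k => Polynomial.aeval (MvPolynomial.X k : MvPolynomial (Fin n) A) (P k)
  let J₀ : Ideal (MvPolynomial (Fin n) A) := Ideal.span (Set.range Q)
  let I : Ideal (MvPolynomial (Fin n) A) := RingHom.ker φ.toRingHom
  have hQ : ∀ k, φ (Q k) = 0 := by
    intro k
    change φ (Polynomial.aeval (MvPolynomial.X k : MvPolynomial (Fin n) A) (P k)) = 0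
    rw [← Polynomial.aeval_algHom_apply]
    exact hPeval k
  have hJ₀I : J₀ ≤ I := by
    rw [Ideal.span_le]
    rintro _ ⟨k, rfl⟩
    exact hQ k
  have hJ₀fg : J₀.FG := ⟨(Set.finite_range Q).toFinset, by simp [J₀]⟩
  let ι := {J : Ideal (MvPolynomial (Fin n) A) // J.FG ∧ J₀ ≤ J ∧ J ≤ I}
  let alg : ∀ J : ι, Algebra (MvPolynomial (Fin n) A ⧸ J.1) A' := fun J =>
    (Ideal.Quotient.lift J.1 φ.toRingHom (fun a ha => J.2.2.2 ha)).toAlgebra
  have halg : ∀ (J : ι) (x : MvPolynomial (Fin n) A),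
      @algebraMap _ A' _ _ (alg J) (Ideal.Quotient.mk J.1 x) = φ x := fun J x => rfl
  refine ⟨ι, inferInstance, fun J => MvPolynomial (Fin n) A ⧸ J.1, fun J => inferInstance,
    fun J => inferInstance, fun J J' h => Ideal.Quotient.factorₐ A h, alg, ?_, ?_, ?_⟩
  · intro J
    letI := alg J
    refine IsScalarTower.of_algebraMap_eq fun a => ?_
    change _ = algebraMap (MvPolynomial (Fin n) A ⧸ J.1) A'
      (Ideal.Quotient.mk J.1 (algebraMap A _ a))
    rw [halg, AlgHom.commutes]
  · refine ⟨⟨fun J J' => ⟨⟨J.1 ⊔ J'.1, Submodule.FG.sup J.2.1 J'.2.1, le_sup_of_le_left J.2.2.1,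
        sup_le J.2.2.2 J'.2.2.2⟩, ?_, ?_⟩⟩, ⟨⟨J₀, hJ₀fg, le_rfl, hJ₀I⟩⟩, ?_, ?_, ?_, ?_, ?_⟩
    · exact (le_sup_left : J.1 ≤ J.1 ⊔ J'.1)
    · exact (le_sup_right : J'.1 ≤ J.1 ⊔ J'.1)
    · intro J
      apply Ideal.Quotient.ringHom_ext
      exact RingHom.ext fun x => rfl
    · intro J J' J'' h h'
      apply Ideal.Quotient.ringHom_ext
      exact RingHom.ext fun x => rfl
    · intro J J' h
      apply Ideal.Quotient.ringHom_ext
      exact RingHom.ext fun x => rfl
    · intro a
      obtain ⟨x, rfl⟩ := hφ a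
      exact ⟨⟨J₀, hJ₀fg, le_rfl, hJ₀I⟩, Ideal.Quotient.mk _ x, rfl⟩
    · intro J x hx
      obtain ⟨x, rfl⟩ := Ideal.Quotient.mk_surjective x
      rw [halg] at hx
      have hxI : x ∈ I := hx
      refine ⟨⟨J.1 ⊔ Ideal.span {x}, Submodule.FG.sup J.2.1 ⟨{x}, by simp⟩, le_sup_of_le_left J.2.2.1,
        sup_le J.2.2.2 ((Ideal.span_singleton_le_iff_mem _).mpr hxI)⟩, ?_, ?_⟩
      · exact (le_sup_left : J.1 ≤ J.1 ⊔ Ideal.span {x})
      · change Ideal.Quotient.mk _ x = 0
        rw [Ideal.Quotient.eq_zero_iff_mem]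
        exact Ideal.mem_sup_right (Ideal.mem_span_singleton_self x)
  · intro J
    constructor
    · -- finiteness
      have hgen : Algebra.adjoin A (Set.range fun k : Fin n =>
          (Ideal.Quotient.mk J.1 (MvPolynomial.X k) : MvPolynomial (Fin n) A ⧸ J.1)) = ⊤ := by
        have h1 : (Set.range fun k : Fin n =>
            (Ideal.Quotient.mk J.1 (MvPolynomial.X k) : MvPolynomial (Fin n) A ⧸ J.1)) =
            (Ideal.Quotient.mkₐ A J.1) '' (Set.range MvPolynomial.X) := by
          rw [← Set.range_comp]; rfl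
        rw [h1, ← AlgHom.map_adjoin, MvPolynomial.adjoin_range_X, Algebra.map_top,
          AlgHom.range_eq_top]
        exact Ideal.Quotient.mkₐ_surjective A J.1
      have hfg := fg_adjoin_of_finite (R := A) (Set.finite_range fun k : Fin n =>
          (Ideal.Quotient.mk J.1 (MvPolynomial.X k) : MvPolynomial (Fin n) A ⧸ J.1)) (by
        rintro _ ⟨k, rfl⟩
        refine ⟨P k, hPmonic k, ?_⟩
        change Polynomial.aeval (Ideal.Quotient.mkₐ A J.1 (MvPolynomial.X k)) (P k) = 0
        rw [Polynomial.aeval_algHom_apply]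
        change Ideal.Quotient.mk J.1 (Q k) = 0
        rw [Ideal.Quotient.eq_zero_iff_mem]
        exact J.2.2.1 (Ideal.subset_span ⟨k, rfl⟩))
      rw [hgen, Algebra.top_toSubmodule] at hfg
      exact ⟨hfg⟩
    · exact Algebra.FinitePresentation.quotient J.2.1

end Groth.Agent.S4885
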