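import Groth.Statements.S4886
import Groth.Agent.Lib.Helper80.FinTypeZ
import Mathlib.Algebra.Field.ULift

set_option autoImplicit false
universe u
open CategoryTheory AlgebraicGeometry
open EGA43

namespace Groth.Agent.S4886

/-- Let Y be a scheme of finite type over ℤ. (i) A point y of Y is closed if and only if the residue
field k(y) is finite. (ii) For every prime number p and every integer d ≥ 1, the set of points y of
Y such that k(y) is an extension of 𝔽_p of degree dividing d, i.e. admits a ring homomorphism into
the field with p^d elements, is finite. -/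
theorem result (Y : Scheme.{u}) [CompactSpace Y]
    [LocallyOfFiniteType (Limits.IsTerminal.from specULiftZIsTerminal Y)] :
    (∀ y : Y, IsClosed ({y} : Set Y) ↔ Finite ↑(Y.residueField y)) ∧
    ∀ (p d : ℕ) [Fact p.Prime], 0 < d →
      {y : Y | Nonempty (↑(Y.residueField y) →+* GaloisField p d)}.Finite := by
  refine ⟨fun y => Groth.Agent.Lib.Helper80.isClosed_singleton_iff_finite_residueField Y y, ?_⟩
  intro p d _ hd
  have hfin : Finite (Spec (.of (ULift.{u} (GaloisField p d))) ⟶ Y) :=
    Groth.Agent.Lib.Helper80.finite_hom_spec_field Y (ULift.{u} (GaloisField p d))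
  rw [← Set.finite_coe_iff]
  let F : {y : Y | Nonempty (↑(Y.residueField y) →+* GaloisField p d)} →
      (Spec (.of (ULift.{u} (GaloisField p d))) ⟶ Y) := fun y =>
    Spec.map (CommRingCat.ofHom
      ((ULift.ringEquiv (R := GaloisField p d)).symm.toRingHom.comp y.2.some)) ≫
      Y.fromSpecResidueField y.1
  have hF : Function.Injective F := by
    intro y y' h
    have hne : Nonempty (Spec (.of (ULift.{u} (GaloisField p d)))) :=
      inferInstanceAs (Nonempty (PrimeSpectrum (ULift.{u} (GaloisField p d))))
    obtain ⟨pt⟩ := hne
    have h1 : (F y).base pt = y.1 := by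
      have : (F y).base pt ∈ Set.range (Y.fromSpecResidueField y.1).base := ⟨_, rfl⟩
      rw [Scheme.range_fromSpecResidueField] at this
      exact this
    have h2 : (F y').base pt = y'.1 := by
      have : (F y').base pt ∈ Set.range (Y.fromSpecResidueField y'.1).base := ⟨_, rfl⟩
      rw [Scheme.range_fromSpecResidueField] at this
      exact this
    apply Subtype.ext
    rw [← h1, ← h2, h]
  exact Finite.of_injective F hF

end Groth.Agent.S4886
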