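import Groth.Statements.S4891
import Groth.Agent.S0400
import Mathlib.RingTheory.Flat.FaithfullyFlat.Basic

set_option autoImplicit false
universe u
open TensorProduct
open EGA43

namespace Groth.Agent.S4891

/-- Let A be a commutative ring, J a nilpotent ideal of A, B a commutative A-algebra and M a B-module.
If M is flat over A, M/JM is flat over B/JB, B/JB is flat over A/J and mM ≠ M for every maximal
ideal m of B containing JB, then B is flat over A. (Under the first two hypotheses M is also flat
over B; that implication is stated elsewhere and not repeated here.) -/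
theorem result {A B : Type u} [CommRing A] [CommRing B] [Algebra A B]
    (J : Ideal A) (hJ : IsNilpotent J) (M : Type u) [AddCommGroup M] [Module B M] [Module A M] [IsScalarTower A B M]
    (hc1 : Module.Flat A M)
    (hc2 : Module.Flat (B ⧸ J.map (algebraMap A B)) ((B ⧸ J.map (algebraMap A B)) ⊗[B] M))
    (hd1 : Module.Flat (A ⧸ J) ((A ⧸ J) ⊗[A] B))
    (hd2 : ∀ m : Ideal B, m.IsMaximal → J.map (algebraMap A B) ≤ m → (m • (⊤ : Submodule B M)) ≠ ⊤) :
    Module.Flat A B := by
  classical
  have := hc1
  have hMB : Module.Flat B M := Groth.Agent.S0400.result J hJ hc2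
  have hJBnil : IsNilpotent (J.map (algebraMap A B)) := by
    obtain ⟨n, hn⟩ := hJ
    refine ⟨n, ?_⟩
    rw [← Ideal.map_pow, hn, Ideal.zero_eq_bot, Ideal.map_bot]
    rfl
  have hff : Module.FaithfullyFlat B M := by
    refine ⟨fun m hm => hd2 m hm ?_⟩
    obtain ⟨n, hn⟩ := hJBnil
    have : (J.map (algebraMap A B)) ^ n ≤ m := by rw [hn]; exact bot_le
    exact hm.isPrime.le_of_pow_le this
  rw [Groth.Agent.S6000.result A J hJ B]
  refine ⟨hd1, ?_⟩
  -- the `B`-linear map `B ⊗ J → B`
  let fB : B ⊗[A] J →ₗ[B] B :=
    LinearMap.liftBaseChange B ((Algebra.linearMap A B) ∘ₗ (Submodule.subtype J))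
  have hfB : ∀ (b : B) (j : J), fB (b ⊗ₜ j) = b * algebraMap A B (j : A) := by
    intro b j
    simp [fB]
  -- `M ⊗_A J → M` is injective
  let g : M ⊗[A] J →ₗ[A] M := (TensorProduct.rid A M).toLinearMap ∘ₗ
    (LinearMap.lTensor M (Submodule.subtype J))
  have hg : Function.Injective g := by
    have := Module.Flat.lTensor_preserves_injective_linearMap (M := M) (Submodule.subtype J)
      (Submodule.injective_subtype J)
    exact (TensorProduct.rid A M).injective.comp this
  have hsq : ∀ x : M ⊗[B] (B ⊗[A] J),
      TensorProduct.rid B M (LinearMap.lTensor M fB x) =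
        g (TensorProduct.AlgebraTensorModule.cancelBaseChange A B B M J x) := by
    intro x
    induction x using TensorProduct.induction_on with
    | zero => simp
    | add x y hx hy => simp only [map_add, hx, hy]
    | tmul m y =>
      induction y using TensorProduct.induction_on with
      | zero => simp
      | add y z hy hz => simp only [TensorProduct.tmul_add, map_add, hy, hz]
      | tmul b j =>
        simp only [LinearMap.lTensor_tmul, hfB, TensorProduct.rid_tmul,
          TensorProduct.AlgebraTensorModule.cancelBaseChange_tmul, g, LinearMap.coe_comp,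
          LinearEquiv.coe_coe, Function.comp_apply, Submodule.coe_subtype]
        rw [mul_smul, algebraMap_smul, smul_comm]
  have hinjT : Function.Injective (LinearMap.lTensor M fB) := by
    intro x y hxy
    have h1 := hsq x
    have h2 := hsq y
    rw [hxy] at h1
    have := hg (h1.symm.trans h2)
    exact (TensorProduct.AlgebraTensorModule.cancelBaseChange A B B M J).injective this
  have hfBinj : Function.Injective fB :=
    (Module.FaithfullyFlat.lTensor_injective_iff_injective B M fB).mp hinjT
  have hsq2 : ∀ x : ↥J ⊗[A] B, TensorProduct.lid A B (LinearMap.rTensor B (Submodule.subtype J) x) =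
      fB (TensorProduct.comm A J B x) := by
    intro x
    induction x using TensorProduct.induction_on with
    | zero => simp
    | add x y hx hy => simp only [map_add, hx, hy]
    | tmul j b =>
      simp only [LinearMap.rTensor_tmul, Submodule.coe_subtype, TensorProduct.lid_tmul,
        TensorProduct.comm_tmul, hfB]
      rw [Algebra.smul_def, mul_comm]
  intro x y hxy
  have h1 := hsq2 x
  have h2 := hsq2 y
  rw [hxy] at h1
  exact (TensorProduct.comm A J B).injective (hfBinj (h1.symm.trans h2))

end Groth.Agent.S4891
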