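import Groth.Statements.S4896
import Groth.Agent.Lib.Helper73.RectDepth.RegBase

set_option autoImplicit false
universe u
open CategoryTheory AlgebraicGeometry
open EGA43

namespace Groth.Agent.S4896

/-- Let S be locally Noetherian, Jacobson and regular with equidimensional irreducible components, g : X
⟶ S locally of finite type and F a coherent O_X-module. For every point x of X the rectified depth
prof*_x(F) = prof(F_x) + dim cl{x} is the unique n (a natural number or ∞) such that, for some open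
neighbourhood U of x, prof(F_{x'}) = n for every point x' of U ∩ cl{x} which is closed in U. -/
theorem result {X S : Scheme.{u}} [IsLocallyNoetherian S] [JacobsonSpace S]
    (hreg : ∀ s : S, IsRegularLocalRing ↑(S.presheaf.stalk s))
    (h3 : ∀ S' ∈ irreducibleComponents (S : Type u), ∀ s ∈ S', IsClosed ({s} : Set S) →
      topologicalKrullDim (↥S' : Type u) = topologicalKrullDim ↥{t : S | t ∈ S' ∧ t ⤳ s})
    (g : X ⟶ S) [LocallyOfFiniteType g] (F : X.Modules) (hF : Coh.IsCoh F) (x : X) :
    letI pstar : WithBot ℕ∞ :=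
      ((LocCoh.depth ↑(X.presheaf.stalk x) ↑(F.presheaf.stalk x) : ℕ∞) : WithBot ℕ∞) +
        topologicalKrullDim ↥(closure ({x} : Set X))
    ∀ n : ℕ∞,
      (∃ U : X.Opens, x ∈ U ∧ ∀ x' : ↥U, (x' : X) ∈ closure ({x} : Set X) → IsClosed ({x'} : Set ↥U) →
        LocCoh.depth ↑(X.presheaf.stalk (x' : X)) ↑(F.presheaf.stalk (x' : X)) = n) ↔
      ((n : WithBot ℕ∞) = pstar) := by
  open Groth.Agent.Lib.Helper73 in
  intro n
  show _ ↔ (n : WithBot ℕ∞) = ((LocCoh.depth ↑(X.presheaf.stalk x) ↑(F.presheaf.stalk x) : ℕ∞) : WithBot ℕ∞) +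
        topologicalKrullDim ↥(closure ({x} : Set X))
  rw [rectDepth_eq_rectDepthSch hreg h3 g F, WithBot.coe_inj]
  haveI : JacobsonSpace X := LocallyOfFiniteType.jacobsonSpace g
  have h2 : ∀ s : S, CAlg.IsUniversallyCatenary (S.presheaf.stalk s) := fun s => by
    haveI := hreg s
    exact isUniversallyCatenary_of_isRegularLocalRing _
  -- at closed points the rectified depth is the depth
  have hclosed : ∀ y : X, IsClosed ({y} : Set X) → rectDepthSch g F y =
      LocCoh.depth ↑(X.presheaf.stalk y) ↑(F.presheaf.stalk y) := by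
    intro y hy
    have hpy : IsClosed ({g y} : Set S) := g.closePoints_subset_preimage_closedPoints hy
    unfold rectDepthSch relDim
    rw [baseDim_eq_zero_of_isClosed h2 h3 (g y) hpy, resTrdegNat_eq_zero_of_isClosed g y hy]
    simp
  have hsub : ∀ (U : X.Opens) (x' : ↥U), IsClosed ({x'} : Set ↥U) ↔ IsClosed ({(x' : X)} : Set X) := by
    intro U x'
    have := U.isOpen.isOpenEmbedding_subtypeVal.preimage_closedPoints
    exact (Set.ext_iff.mp this x').symm
  obtain ⟨W, hW, hxW, -, heq⟩ := exists_open_rectDepthSch hreg h3 g F hF x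
  constructor
  · rintro ⟨U, hxU, hU⟩
    obtain ⟨y, ⟨hy1, hy2, hy3⟩, hy4⟩ := nonempty_inter_closedPoints (X := X)
      (Z := closure {x} ∩ ((U : Set X) ∩ W))
      ⟨x, subset_closure rfl, hxU, hxW⟩
      (isClosed_closure.isLocallyClosed.inter (U.isOpen.inter hW).isLocallyClosed)
    have hyc : IsClosed ({y} : Set X) := hy4
    have h4 := hU ⟨y, hy2⟩ hy1 ((hsub U ⟨y, hy2⟩).mpr hyc)
    have h5 := heq y hy3 (specializes_iff_mem_closure.mpr hy1)
    rw [hclosed y hyc] at h5
    rw [← h5]
    exact h4.symm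
  · intro hn
    refine ⟨⟨W, hW⟩, hxW, ?_⟩
    intro x' hx'cl hx'
    have hyc : IsClosed ({(x' : X)} : Set X) := (hsub ⟨W, hW⟩ x').mp hx'
    have h5 := heq x' x'.2 (specializes_iff_mem_closure.mpr hx'cl)
    rw [hclosed _ hyc] at h5
    rw [h5, hn]

end Groth.Agent.S4896
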