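import Groth.Statements.S4897
import Groth.Agent.Lib.Helper80.QHConstr

set_option autoImplicit false
universe u
open EGA43

namespace Groth.Agent.S4897

/-- Let f : X → Y be a quasi-homeomorphism, i.e. a continuous map such that U ↦ f⁻¹(U) is a bijection
from the open subsets of Y onto the open subsets of X. Then Z ↦ f⁻¹(Z) induces bijections from the
locally closed (resp. constructible, resp. locally constructible) subsets of Y onto those of X. -/
theorem result {X Y : Type u}
    [TopologicalSpace X] [TopologicalSpace Y] (f : X → Y) (hf : Continuous f)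
    (hq : Function.Bijective (fun U : TopologicalSpace.Opens Y =>
      (⟨f ⁻¹' (U : Set Y), U.isOpen.preimage hf⟩ : TopologicalSpace.Opens X))) :
    Function.Bijective (fun Z : {Z : Set Y // IsLocallyClosed Z} =>
        (⟨f ⁻¹' Z.1, Z.2.preimage hf⟩ : {Z : Set X // IsLocallyClosed Z})) ∧
      Set.BijOn (fun Z : Set Y => f ⁻¹' Z) {Z | Topology.IsConstructible Z} {Z | Topology.IsConstructible Z} ∧
      Set.BijOn (fun Z : Set Y => f ⁻¹' Z) {Z | Topology.IsLocallyConstructible Z}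
        {Z | Topology.IsLocallyConstructible Z} := by
  have hQ : Groth.Agent.Lib.Helper80.QH f := Groth.Agent.Lib.Helper80.QH.of_bijective hf hq
  refine ⟨⟨?_, ?_⟩, ⟨?_, ?_, ?_⟩, ⟨?_, ?_, ?_⟩⟩
  · intro Z Z' he
    apply Subtype.ext
    exact hQ.preimage_lqc_inj (Groth.Agent.Lib.Helper80.LQC.of_isLocallyClosed Z.2)
      (Groth.Agent.Lib.Helper80.LQC.of_isLocallyClosed Z'.2) (congrArg Subtype.val he)
  · rintro ⟨Z, V, C, hV, hC, rfl⟩
    obtain ⟨U, hU, rfl⟩ := hQ.surj V hV
    obtain ⟨U', hU', hUC⟩ := hQ.surj Cᶜ hC.isOpen_compl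
    refine ⟨⟨U ∩ U'ᶜ, U, U'ᶜ, hU, hU'.isClosed_compl, rfl⟩, ?_⟩
    apply Subtype.ext
    change f ⁻¹' (U ∩ U'ᶜ) = f ⁻¹' U ∩ C
    rw [Set.preimage_inter, Set.preimage_compl, hUC, compl_compl]
  · intro Z hZ
    exact hQ.isConstructible_preimage hZ
  · intro Z hZ Z' hZ' he
    exact hQ.preimage_lqc_inj (Groth.Agent.Lib.Helper80.qc_of_isConstructible hZ).lqc
      (Groth.Agent.Lib.Helper80.qc_of_isConstructible hZ').lqc he
  · intro W hW
    obtain ⟨Z, hZ, rfl⟩ := hQ.exists_isConstructible hW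
    exact ⟨Z, hZ, rfl⟩
  · intro Z hZ
    exact hQ.isLocallyConstructible_preimage hZ
  · intro Z hZ Z' hZ' he
    exact hQ.preimage_lqc_inj (Groth.Agent.Lib.Helper80.lqc_of_isLocallyConstructible hZ)
      (Groth.Agent.Lib.Helper80.lqc_of_isLocallyConstructible hZ') he
  · intro W hW
    obtain ⟨Z, hZ, rfl⟩ := hQ.exists_isLocallyConstructible hW
    exact ⟨Z, hZ, rfl⟩

end Groth.Agent.S4897
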