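import Groth.Statements.S4898
import Groth.Agent.Lib.Helper63.UFlat2
import Groth.Agent.Lib.Helper2.FinPresAff

set_option autoImplicit false
universe u
open CategoryTheory AlgebraicGeometry
open EGA43

namespace Groth.Agent.S4898

open Groth.Agent.Lib.Helper63.UFlat Groth.Agent.Lib.Lead.QCohAff TensorProduct in
theorem uf_sections {X Y : Scheme.{u}} [IsAffine Y] (f : X ⟶ Y) [LocallyOfFinitePresentation f]
    (F : X.Modules) [F.IsQuasicoherent]
    [SheafOfModules.IsFinitePresentation (R := X.ringCatSheaf) F]
    (hprime : (nilradical Γ(Y, ⊤)).IsPrime) {U : X.Opens} (hU : IsAffineOpen U) :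
    UF Γ(Y, ⊤) (fun C _ _ =>
      letI _mod : Module Γ(Y, ⊤) Γ(F, U) := Module.compHom Γ(F, U) (f.appLE ⊤ U le_top).hom
      Module.Flat C (C ⊗[Γ(Y, ⊤)] Γ(F, U))) := by
  let algAB : Algebra Γ(Y, ⊤) Γ(X, U) := (f.appLE ⊤ U le_top).hom.toAlgebra
  let modAM : Module Γ(Y, ⊤) Γ(F, U) := Module.compHom Γ(F, U) (f.appLE ⊤ U le_top).hom
  have t1 : IsScalarTower Γ(Y, ⊤) Γ(X, U) Γ(F, U) :=
    IsScalarTower.of_algebraMap_smul fun r m => rfl
  have fpB : Algebra.FinitePresentation Γ(Y, ⊤) Γ(X, U) :=
    f.finitePresentation_appLE (isAffineOpen_top Y) hU le_top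
  have fpM : Module.FinitePresentation Γ(X, U) Γ(F, U) :=
    Groth.Agent.Lib.Helper2.FinTypeAff.finitePresentation_sections F hU
  exact ringCore (A₀ := Γ(Y, ⊤)) (B := Γ(X, U)) (M := Γ(F, U)) hprime

open CategoryTheory.Limits in
/-- Over an affine irreducible base, tested on affine base changes, to which the general statement
reduces: let A be a commutative ring whose spectrum is irreducible, f : X ⟶ Spec A a morphism of
finite presentation and F a quasi-coherent O_X-module of finite presentation. Then there are an
element h of A which is not nilpotent (so that U = Spec A_h is a nonempty open subset of Spec A) and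
a finitely generated ideal J of A_h contained in the nilradical (so that the closed subscheme Z =
V(J) of U, of finite presentation over U, has the same underlying space as U) such that for every
A_h-algebra A' the pullback of F to X ×_{Spec A} Spec A' is flat over Spec A' if and only if J
generates the zero ideal of A', i.e. if and only if Spec A' ⟶ U factors through Z. (The published
statement also asserts that, for a finite affine open cover (W_i) of X, U can be chosen so that the
sections of the pullback of F over each W_i ×_{Spec A} Spec A' form a free A'-module whenever Spec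
A' ⟶ U factors through Z; this row omits that assertion.) -/
theorem result {A : Type u} [CommRing A] [IrreducibleSpace (PrimeSpectrum A)]
    {X : Scheme.{u}} (f : X ⟶ Spec (CommRingCat.of A))
    [LocallyOfFinitePresentation f] [QuasiCompact f] [QuasiSeparated f]
    (F : X.Modules) [Coh.IsQCoh F] (hF : CohB1.IsFP F) :
    ∃ (h : A) (_ : ¬ IsNilpotent h) (J : Ideal (Localization.Away h)) (_ : J.FG)
      (_ : J ≤ nilradical (Localization.Away h)),
      ∀ (A' : Type u) [CommRing A'] [Algebra (Localization.Away h) A'],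
        letI g : Spec (CommRingCat.of A') ⟶ Spec (CommRingCat.of A) :=
          Spec.map (CommRingCat.ofHom ((algebraMap (Localization.Away h) A').comp (algebraMap A (Localization.Away h))))
        (FlatMod.IsFlatOver (pullback.snd f g) ((Scheme.Modules.pullback (pullback.fst f g)).obj F) ↔
          Ideal.map (algebraMap (Localization.Away h) A') J = ⊥) := by
  classical
  have hqc : F.IsQuasicoherent := ‹Coh.IsQCoh F›
  have hfp : SheafOfModules.IsFinitePresentation (R := X.ringCatSheaf) F := hF
  have hprimeA : (nilradical A).IsPrime :=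
    PrimeSpectrum.irreducibleSpace_iff_isPrime_nilradical.1 inferInstance
  let a := Scheme.ΓSpecIso (CommRingCat.of A)
  have hnil_iff : ∀ x : Γ(Spec (CommRingCat.of A), ⊤), IsNilpotent x ↔ IsNilpotent (a.hom.hom x) := by
    intro x
    constructor
    · intro hx
      exact hx.map a.hom.hom
    · intro hx
      have h1 := hx.map a.inv.hom
      have h2 : a.inv.hom (a.hom.hom x) = x := by
        have := congrArg (fun φ => φ.hom x) a.hom_inv_id
        exact this
      rwa [h2] at h1
  have hprime : (nilradical Γ(Spec (CommRingCat.of A), ⊤)).IsPrime := by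
    have h1 : nilradical Γ(Spec (CommRingCat.of A), ⊤) = (nilradical A).comap a.hom.hom := by
      ext x
      rw [mem_nilradical, Ideal.mem_comap, mem_nilradical]
      exact hnil_iff x
    rw [h1]
    exact Ideal.comap_isPrime _ _
  have hcpt : CompactSpace X := QuasiCompact.compactSpace_of_compactSpace f
  let 𝒰 := X.affineCover.finiteSubcover
  have hUaff : ∀ i : 𝒰.I₀, IsAffineOpen (𝒰.f i).opensRange := fun i =>
    isAffineOpen_opensRange (𝒰.f i)
  have hcov : ∀ x : X, ∃ i : 𝒰.I₀, x ∈ (𝒰.f i).opensRange := fun x => ⟨𝒰.idx x, 𝒰.covers x⟩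
  obtain ⟨h₀, hh₀, J₀, fg₀, le₀, u₀⟩ :=
    Groth.Agent.Lib.Helper63.UFlat.UF.forall_finset hprime (Finset.univ : Finset 𝒰.I₀) _
      (fun i _ => uf_sections f F hprime (hUaff i))
  have hunit : IsUnit (((algebraMap A (Localization.Away (a.hom.hom h₀))).comp a.hom.hom) h₀) :=
    IsLocalization.Away.algebraMap_isUnit (a.hom.hom h₀)
  let ψ : Localization.Away h₀ →+* Localization.Away (a.hom.hom h₀) :=
    IsLocalization.Away.lift h₀ hunit
  have hψ : ∀ r, ψ (algebraMap _ (Localization.Away h₀) r) =
      algebraMap A (Localization.Away (a.hom.hom h₀)) (a.hom.hom r) :=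
    fun r => IsLocalization.Away.lift_eq h₀ hunit r
  refine ⟨a.hom.hom h₀, fun hn => hh₀ ((hnil_iff h₀).2 hn), J₀.map ψ, Ideal.FG.map fg₀ ψ, ?_, ?_⟩
  · rw [Ideal.map_le_iff_le_comap]
    intro x hx
    rw [Ideal.mem_comap, mem_nilradical]
    exact (mem_nilradical.1 (le₀ hx)).map ψ
  · intro A' _ _
    set φ : A →+* A' := (algebraMap (Localization.Away (a.hom.hom h₀)) A').comp
      (algebraMap A (Localization.Away (a.hom.hom h₀))) with hφ
    show FlatMod.IsFlatOver (Limits.pullback.snd f (Spec.map (CommRingCat.ofHom φ)))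
        ((Scheme.Modules.pullback (Limits.pullback.fst f (Spec.map (CommRingCat.ofHom φ)))).obj F) ↔ _
    let a' := Scheme.ΓSpecIso (CommRingCat.of A')
    let g := Spec.map (CommRingCat.ofHom φ)
    have hnat : ∀ r, (g.appLE ⊤ ⊤ le_top).hom r = a'.inv.hom (φ (a.hom.hom r)) := by
      intro r
      have h1 := Scheme.ΓSpecIso_naturality (CommRingCat.ofHom φ)
      have h2 : g.appLE ⊤ ⊤ le_top = g.appTop := by
        simp [Scheme.Hom.appLE, Scheme.Hom.appTop]
      have h3 : g.appTop = a.hom ≫ CommRingCat.ofHom φ ≫ a'.inv := by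
        rw [← Category.assoc, ← h1, Category.assoc, Iso.hom_inv_id, Category.comp_id]
      rw [h2, h3]
      rfl
    let algA₀C : Algebra Γ(Spec (CommRingCat.of A), ⊤) Γ(Spec (CommRingCat.of A'), ⊤) :=
      (g.appLE ⊤ ⊤ le_top).hom.toAlgebra
    let algLC : Algebra (Localization.Away h₀) Γ(Spec (CommRingCat.of A'), ⊤) :=
      (a'.inv.hom.comp ((algebraMap (Localization.Away (a.hom.hom h₀)) A').comp ψ)).toAlgebra
    have tower : IsScalarTower Γ(Spec (CommRingCat.of A), ⊤) (Localization.Away h₀)
        Γ(Spec (CommRingCat.of A'), ⊤) := IsScalarTower.of_algebraMap_eq fun r => by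
      show (g.appLE ⊤ ⊤ le_top).hom r = a'.inv.hom (algebraMap _ A' (ψ (algebraMap _ _ r)))
      rw [hnat, hψ]
      rfl
    have key := u₀ Γ(Spec (CommRingCat.of A'), ⊤)
    rw [Groth.Agent.Lib.Helper63.UFlat.isFlatOver_pullback_iff f g F
      (fun i : 𝒰.I₀ => (𝒰.f i).opensRange) hUaff hcov]
    have hinj : Function.Injective a'.inv.hom := by
      intro x y hxy
      have h1 := congrArg a'.hom.hom hxy
      have h2 : ∀ z, a'.hom.hom (a'.inv.hom z) = z := fun z => by
        have := congrArg (fun φ => φ.hom z) a'.inv_hom_id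
        exact this
      rwa [h2, h2] at h1
    have hmap : J₀.map (algebraMap (Localization.Away h₀) Γ(Spec (CommRingCat.of A'), ⊤)) =
        ((J₀.map ψ).map (algebraMap (Localization.Away (a.hom.hom h₀)) A')).map a'.inv.hom := by
      rw [Ideal.map_map, Ideal.map_map]
      rfl
    rw [hmap, Ideal.map_eq_bot_iff_of_injective hinj] at key
    rw [← key]
    exact ⟨fun h i _ => h i, fun h i => h i (Finset.mem_univ i)⟩

end Groth.Agent.S4898
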