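import Groth.Statements.S4903
import Groth.Agent.Lib.Helper80.QC

set_option autoImplicit false
universe u
open EGA43

namespace Groth.Agent.S4903

open Groth.Agent.Lib.Helper80 in
theorem ext_lqc {X : Type u} [TopologicalSpace X] (X₀ : Set X) (h : VD X₀)
    (Z₀ : Set ↥X₀) (hZ₀ : LQC Z₀) :
    ∃ Z : Set X, LQC Z ∧ Subtype.val ⁻¹' Z = Z₀ := by
  classical
  have key : ∀ a : ↥X₀, ∃ U W : Set X, IsOpen U ∧ (a : X) ∈ U ∧ QC W ∧ W ⊆ U ∧
      (Subtype.val ⁻¹' W : Set ↥X₀) = Subtype.val ⁻¹' U ∩ Z₀ := by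
    intro a
    obtain ⟨U₀, hU₀, haU₀, hq⟩ := hZ₀ a
    obtain ⟨U, hU, rfl⟩ := isOpen_induced_iff.mp hU₀
    obtain ⟨W, hW, hWe⟩ := QC.exists_of_isInducing (Topology.IsInducing.subtypeVal) hq
    refine ⟨U, W ∩ U, hU, haU₀, hW.inter (QC.of_isOpen hU), Set.inter_subset_right, ?_⟩
    rw [Set.preimage_inter, hWe]
    ext y
    simp only [Set.mem_inter_iff, Set.mem_preimage]
    tauto
  choose U W hU haU hW hWU hWe using key
  have hcov : ⋃ a, U a = Set.univ :=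
    h.iUnion_eq_univ hU (fun x hx => Set.mem_iUnion.mpr ⟨⟨x, hx⟩, haU ⟨x, hx⟩⟩)
  have hWW : ∀ a b, W b ∩ U a = W a ∩ U b := by
    intro a b
    apply h.lqc_eq ((hW b).inter (QC.of_isOpen (hU a))).lqc ((hW a).inter (QC.of_isOpen (hU b))).lqc
    rw [Set.inter_comm _ X₀, Set.inter_comm _ X₀, ← Subtype.preimage_val_eq_preimage_val_iff,
      Set.preimage_inter, Set.preimage_inter, hWe, hWe]
    ext y
    simp only [Set.mem_inter_iff, Set.mem_preimage]
    tauto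
  have hZU : ∀ a, U a ∩ ⋃ b, W b = W a := by
    intro a
    apply subset_antisymm
    · rintro x ⟨hxa, hx⟩
      obtain ⟨b, hxb⟩ := Set.mem_iUnion.mp hx
      have : x ∈ W b ∩ U a := ⟨hxb, hxa⟩
      rw [hWW] at this
      exact this.1
    · intro x hx
      exact ⟨hWU a hx, Set.mem_iUnion.mpr ⟨a, hx⟩⟩
  refine ⟨⋃ b, W b, ?_, ?_⟩
  · intro x
    have hx : x ∈ ⋃ a, U a := hcov ▸ Set.mem_univ x
    obtain ⟨a, hxa⟩ := Set.mem_iUnion.mp hx
    refine ⟨U a, hU a, hxa, ?_⟩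
    rw [hZU a]
    exact hW a
  · rw [Set.preimage_iUnion]
    ext y
    simp only [Set.mem_iUnion, hWe, Set.mem_inter_iff, Set.mem_preimage]
    constructor
    · rintro ⟨a, -, hy⟩
      exact hy
    · intro hy
      exact ⟨y, haU y, hy⟩


/-- Conditions a), b), b′), c″), c‴) and its last assertion: given a topological space X and a subset X₀
⊆ X, the statements below are equivalent. Every locally closed subset of X that is nonempty
intersects X₀. Every nonempty locally quasi-constructible subset of X intersects X₀; here a subset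
is locally quasi-constructible when each point of X has an open neighbourhood on which the subset's
trace can be written as a union of finitely many locally closed sets. Each locally
quasi-constructible Z ⊆ X is contained in the closure of Z ∩ X₀. Any two quasi-constructible subsets
of X (unions of finitely many locally closed sets) having equal traces on X₀ coincide. Any two
locally quasi-constructible subsets of X having equal traces on X₀ coincide. Assuming these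
conditions, each locally quasi-constructible subset of the subspace X₀ arises as the trace on X₀ of
some locally quasi-constructible subset of X. -/
theorem result {X : Type u} [TopologicalSpace X] (X₀ : Set X) :
    [∀ Z : Set X, IsLocallyClosed Z → Z.Nonempty → (Z ∩ X₀).Nonempty,
      ∀ Z : Set X, (∀ x : X, ∃ U : Set X, IsOpen U ∧ x ∈ U ∧ ∃ T : Set (Set X), T.Finite ∧ (∀ t ∈ T, IsLocallyClosed t) ∧ U ∩ Z = ⋃₀ T) → Z.Nonempty → (Z ∩ X₀).Nonempty,
      ∀ Z : Set X, (∀ x : X, ∃ U : Set X, IsOpen U ∧ x ∈ U ∧ ∃ T : Set (Set X), T.Finite ∧ (∀ t ∈ T, IsLocallyClosed t) ∧ U ∩ Z = ⋃₀ T) → Z ⊆ closure (Z ∩ X₀),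
      ∀ Z Z' : Set X, (∃ T : Set (Set X), T.Finite ∧ (∀ t ∈ T, IsLocallyClosed t) ∧ Z = ⋃₀ T) → (∃ T : Set (Set X), T.Finite ∧ (∀ t ∈ T, IsLocallyClosed t) ∧ Z' = ⋃₀ T) → Z ∩ X₀ = Z' ∩ X₀ → Z = Z',
      ∀ Z Z' : Set X, (∀ x : X, ∃ U : Set X, IsOpen U ∧ x ∈ U ∧ ∃ T : Set (Set X), T.Finite ∧ (∀ t ∈ T, IsLocallyClosed t) ∧ U ∩ Z = ⋃₀ T) → (∀ x : X, ∃ U : Set X, IsOpen U ∧ x ∈ U ∧ ∃ T : Set (Set X), T.Finite ∧ (∀ t ∈ T, IsLocallyClosed t) ∧ U ∩ Z' = ⋃₀ T) → Z ∩ X₀ = Z' ∩ X₀ → Z = Z'].TFAE ∧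
    ((∀ Z : Set X, IsLocallyClosed Z → Z.Nonempty → (Z ∩ X₀).Nonempty) →
      ∀ Z₀ : Set ↥X₀, (∀ x : ↥X₀, ∃ U : Set ↥X₀, IsOpen U ∧ x ∈ U ∧ ∃ T : Set (Set ↥X₀), T.Finite ∧ (∀ t ∈ T, IsLocallyClosed t) ∧ U ∩ Z₀ = ⋃₀ T) →
        ∃ Z : Set X, (∀ x : X, ∃ U : Set X, IsOpen U ∧ x ∈ U ∧ ∃ T : Set (Set X), T.Finite ∧ (∀ t ∈ T, IsLocallyClosed t) ∧ U ∩ Z = ⋃₀ T) ∧ Subtype.val ⁻¹' Z = Z₀) := by
  refine ⟨?_, fun h Z₀ hZ₀ => ext_lqc X₀ h Z₀ hZ₀⟩
  have h12 : (∀ Z : Set X, IsLocallyClosed Z → Z.Nonempty → (Z ∩ X₀).Nonempty) →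
      ∀ Z : Set X, Groth.Agent.Lib.Helper80.LQC Z → Z.Nonempty → (Z ∩ X₀).Nonempty :=
    fun h Z hZ hne => Groth.Agent.Lib.Helper80.VD.lqc_nonempty h hZ hne
  tfae_have 1 → 2 := h12
  tfae_have 2 → 3 := by
    intro h Z hZ x hx
    rw [mem_closure_iff]
    intro V hV hxV
    obtain ⟨y, ⟨hyV, hyZ⟩, hy0⟩ :=
      h (V ∩ Z) ((Groth.Agent.Lib.Helper80.LQC.of_isOpen hV).inter hZ) ⟨x, hxV, hx⟩
    exact ⟨y, hyV, hyZ, hy0⟩
  tfae_have 3 → 1 := by
    intro h Z hZ hne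
    by_contra hcon
    rw [Set.not_nonempty_iff_eq_empty] at hcon
    have := h Z (Groth.Agent.Lib.Helper80.LQC.of_isLocallyClosed hZ)
    rw [hcon, closure_empty, Set.subset_empty_iff] at this
    exact hne.ne_empty this
  tfae_have 1 → 5 := by
    intro h Z Z' hZ hZ' he
    exact Groth.Agent.Lib.Helper80.VD.lqc_eq h hZ hZ' he
  tfae_have 5 → 4 := by
    intro h Z Z' hZ hZ' he
    exact h Z Z' (Groth.Agent.Lib.Helper80.QC.lqc hZ) (Groth.Agent.Lib.Helper80.QC.lqc hZ') he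
  tfae_have 4 → 1 := by
    intro h Z hZ hne
    by_contra hcon
    rw [Set.not_nonempty_iff_eq_empty] at hcon
    have := h Z ∅ (Groth.Agent.Lib.Helper80.QC.of_isLocallyClosed hZ)
      Groth.Agent.Lib.Helper80.QC.empty (by rw [hcon, Set.empty_inter])
    exact hne.ne_empty this
  tfae_finish

end Groth.Agent.S4903
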