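import Groth.Statements.S4904
import Groth.Agent.Lib.Helper80.QH

set_option autoImplicit false
universe u
open EGA43

namespace Groth.Agent.S4904

/-- Let f : X → Y be a quasi-homeomorphism (U ↦ f⁻¹(U) is a bijection on open subsets) and Y' a locally
quasi-constructible subset of Y, X' = f⁻¹(Y'). Then Y' is retrocompact in Y, i.e. Y' ∩ U is
quasi-compact for every quasi-compact open subset U of Y, if and only if X' is retrocompact in X. -/
theorem result {X Y : Type u} [TopologicalSpace X]
    [TopologicalSpace Y] (f : X → Y) (hf : Continuous f)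
    (hq : Function.Bijective (fun U : TopologicalSpace.Opens Y =>
      (⟨f ⁻¹' (U : Set Y), U.isOpen.preimage hf⟩ : TopologicalSpace.Opens X)))
    (Y' : Set Y)
    (hY' : ∀ y : Y, ∃ U : Set Y, IsOpen U ∧ y ∈ U ∧
      ∃ T : Set (Set Y), T.Finite ∧ (∀ t ∈ T, IsLocallyClosed t) ∧ U ∩ Y' = ⋃₀ T) :
    (∀ U : Set Y, IsOpen U → IsCompact U → IsCompact (U ∩ Y')) ↔
      (∀ V : Set X, IsOpen V → IsCompact V → IsCompact (V ∩ f ⁻¹' Y')) := by
  have hQ : Groth.Agent.Lib.Helper80.QH f := Groth.Agent.Lib.Helper80.QH.of_bijective hf hq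
  constructor
  · intro h V hV hVc
    obtain ⟨U, hU, rfl⟩ := hQ.surj V hV
    have hUc : IsCompact U :=
      (hQ.isCompact_iff (Groth.Agent.Lib.Helper80.LQC.of_isOpen hU)).mpr hVc
    rw [← Set.preimage_inter]
    exact (hQ.isCompact_iff ((Groth.Agent.Lib.Helper80.LQC.of_isOpen hU).inter hY')).mp
      (h U hU hUc)
  · intro h U hU hUc
    have hVc : IsCompact (f ⁻¹' U) :=
      (hQ.isCompact_iff (Groth.Agent.Lib.Helper80.LQC.of_isOpen hU)).mp hUc
    have := h (f ⁻¹' U) (hU.preimage hf) hVc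
    rw [← Set.preimage_inter] at this
    exact (hQ.isCompact_iff ((Groth.Agent.Lib.Helper80.LQC.of_isOpen hU).inter hY')).mpr this

end Groth.Agent.S4904
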