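import Groth.Statements.S4905
import Groth.Agent.Lib.Helper78.VanBC

set_option autoImplicit false
universe u
open CategoryTheory AlgebraicGeometry
open EGA43

namespace Groth.Agent.S4905

open Groth.Agent.Lib.Helper78.VanBC

/-- The reduced induced closed subscheme structure is reduced. -/
theorem isReduced_subscheme_vanishingIdeal {X : Scheme.{u}} (Z : TopologicalSpace.Closeds X) :
    IsReduced (Scheme.IdealSheafData.vanishingIdeal Z).subscheme := by
  set I := Scheme.IdealSheafData.vanishingIdeal Z with hI
  have h1 : ∀ U : X.affineOpens, IsReduced (Spec (.of (Γ(X, U) ⧸ I.ideal U))) := by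
    intro U
    rw [affine_isReduced_iff]
    change _root_.IsReduced (Γ(X, U) ⧸ I.ideal U)
    rw [← Ideal.isRadical_iff_quotient_reduced, hI, Scheme.IdealSheafData.vanishingIdeal_ideal]
    exact PrimeSpectrum.isRadical_vanishingIdeal _
  have : ∀ U, IsReduced (I.subschemeCover.openCover.X U) := fun U => h1 U
  exact IsReduced.of_openCover _ I.subschemeCover.openCover

open CategoryTheory.Limits in

open CategoryTheory.Limits in
/-- Let k be a field, X a k-scheme, (f_i : Z_i ⟶ X) a family of k-morphisms with every Z_i geometrically
reduced over k, and Y the reduced closed subscheme of X whose underlying space is the closure of ⋃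
f_i(Z_i), i.e. the closed subscheme defined by the vanishing ideal sheaf of that closed set. Let k'
be a field extension of k, X' = X ⊗_k k' and f'_i : Z_i ⊗_k k' ⟶ X' the base changes. Then the
reduced closed subscheme of X' on the closure of ⋃ f'_i(Z_i ⊗_k k') is Y ⊗_k k': the vanishing ideal
sheaf of that closure equals the pullback (comap) along X' ⟶ X of the vanishing ideal sheaf defining
Y. (The published statement also concludes that Y is geometrically reduced over k; this row states
only the equality of Y' with Y ⊗_k k'.) -/
theorem result {k : Type u} [Field k] {X : Scheme.{u}}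
    (p : X ⟶ Spec (CommRingCat.of k)) {ι : Type u} (Z : ι → Scheme.{u}) (f : ∀ i, Z i ⟶ X)
    (hred : ∀ (i : ι) (z : Z i), FBase.IsGeomReducedAt (f i ≫ p) z)
    (k' : Type u) [Field k'] [Algebra k k'] :
    letI q : Spec (CommRingCat.of k') ⟶ Spec (CommRingCat.of k) := Spec.map (CommRingCat.ofHom (algebraMap k k'))
    letI f' : ∀ i, pullback (f i ≫ p) q ⟶ pullback p q :=
      fun i => pullback.map (f i ≫ p) q p q (f i) (𝟙 _) (𝟙 _) (Category.comp_id _) ((Category.comp_id _).trans (Category.id_comp _).symm)
    Scheme.IdealSheafData.vanishingIdeal (TopologicalSpace.Closeds.closure (⋃ i, Set.range (f' i))) =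
      (Scheme.IdealSheafData.vanishingIdeal (TopologicalSpace.Closeds.closure (⋃ i, Set.range (f i)))).comap
        (pullback.fst p q) := by
  set q : Spec (CommRingCat.of k') ⟶ Spec (CommRingCat.of k) :=
    Spec.map (CommRingCat.ofHom (algebraMap k k')) with hq
  set C : TopologicalSpace.Closeds X := TopologicalSpace.Closeds.closure (⋃ i, Set.range (f i))
    with hC
  set I := Scheme.IdealSheafData.vanishingIdeal C with hI
  -- the base changes of the `Z i` are reduced
  have hZ' : ∀ i, IsReduced (pullback (f i ≫ p) q) := by
    intro i
    haveI : ∀ x : ↑(pullback (f i ≫ p) q),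
        _root_.IsReduced ((pullback (f i ≫ p) q).presheaf.stalk x) :=
      fun x => hred i _ k' x rfl
    exact isReduced_of_isReduced_stalk _
  -- the `Z i` are reduced
  have hZ : ∀ i, IsReduced (Z i) := by
    intro i
    haveI : ∀ x : ↑(pullback (f i ≫ p) (Spec.map (CommRingCat.ofHom (algebraMap k k)))),
        _root_.IsReduced ((pullback (f i ≫ p)
          (Spec.map (CommRingCat.ofHom (algebraMap k k)))).presheaf.stalk x) :=
      fun x => hred i _ k x rfl
    haveI : IsReduced (pullback (f i ≫ p) (Spec.map (CommRingCat.ofHom (algebraMap k k)))) :=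
      isReduced_of_isReduced_stalk _
    haveI : IsIso (Spec.map (CommRingCat.ofHom (algebraMap k k))) := by
      have : CommRingCat.ofHom (algebraMap k k) = 𝟙 (CommRingCat.of k) := rfl
      rw [this, Spec.map_id]
      infer_instance
    exact isReduced_of_isOpenImmersion
      (inv (pullback.fst (f i ≫ p) (Spec.map (CommRingCat.ofHom (algebraMap k k)))))
  -- the lifts to the reduced subscheme
  have hker : ∀ i, I.subschemeι.ker ≤ (f i).ker := by
    intro i
    haveI := hZ i
    rw [Scheme.IdealSheafData.ker_subschemeι]
    apply vanishingIdeal_le_ker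
    intro x hx
    exact subset_closure (Set.mem_iUnion.2 ⟨i, hx⟩)
  let g : ∀ i, Z i ⟶ I.subscheme := fun i => IsClosedImmersion.lift I.subschemeι (f i) (hker i)
  have hg : ∀ i, g i ≫ I.subschemeι = f i := fun i => IsClosedImmersion.lift_fac _ _ _
  have hIsupp : (I.support : Set X) = closure (⋃ i, Set.range (f i)) := by
    rw [hI, Scheme.IdealSheafData.coe_support_vanishingIdeal]
    rfl
  have hdense : Dense (⋃ i, Set.range (g i)) :=
    dense_iUnion_range_lift I.subschemeι Z f g hg (by
      rw [Scheme.IdealSheafData.range_subschemeι, hIsupp])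
  haveI : IsReduced I.subscheme := isReduced_subscheme_vanishingIdeal C
  have hY' : IsReduced (pullback (I.subschemeι ≫ p) q) := by
    apply isReduced_pullback_of_dense_family (I.subschemeι ≫ p) Z g hdense
    intro i
    rw [← Category.assoc, hg i]
    exact hZ' i
  -- the pulled back subscheme is reduced
  set π := pullback.fst p q with hπ
  have hY'' : IsReduced (pullback π I.subschemeι) := by
    haveI := hY'
    exact isReduced_of_isOpenImmersion ((pullbackSymmetry _ _).hom ≫
      (pullbackRightPullbackFstIso p q I.subschemeι).hom)
  -- the pulled back ideal sheaf is radical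
  have hJ : (I.comap π).radical = I.comap π := by
    haveI := hY''
    exact radical_ker_of_isReduced (pullback.fst π I.subschemeι)
  rw [← hJ, ← Scheme.IdealSheafData.vanishingIdeal_support]
  congr 1
  apply TopologicalSpace.Closeds.ext
  rw [Scheme.IdealSheafData.support_comap, TopologicalSpace.Closeds.coe_preimage, hIsupp,
    TopologicalSpace.Closeds.coe_closure]
  have hopen : IsOpenMap π := π.isOpenMap
  rw [hopen.preimage_closure_eq_closure_preimage π.continuous, Set.preimage_iUnion]
  congr 2
  funext i
  rw [Scheme.Pullback.range_map]
  simp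
  rfl

end Groth.Agent.S4905
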