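import Groth.Statements.S4906
import Groth.Agent.Lib.Helper73.RectDepth.RegBiequi

set_option autoImplicit false
universe u
open CategoryTheory AlgebraicGeometry
open EGA43

namespace Groth.Agent.S4906

/-- Let X be a regular biequidimensional scheme — Noetherian, with regular local rings, of finite
dimension, with all irreducible components of dimension dim X and with dim T = dim cl{y} +
codim(cl{y}, T) for every closed irreducible T and point y of T — and F a coherent O_X-module. Then
for every point x of the support of F one has prof(F_x) + dim cl{x} + proj.dim(F_x) = dim X, that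
is, the rectified depth prof*_x(F) equals dim X − proj.dim_{O_{X,x}}(F_x). -/
theorem result (X : Scheme.{u}) [IsNoetherian X]
    (hreg : ∀ x : X, IsRegularLocalRing ↑(X.presheaf.stalk x))
    (hfin : topologicalKrullDim X < ⊤)
    (hcomp : ∀ C ∈ irreducibleComponents (X : Type u), topologicalKrullDim ↥C = topologicalKrullDim X)
    (hchain : ∀ (y : X) (T : Set X), IsClosed T → IsIrreducible T → y ∈ T →
      topologicalKrullDim ↥T = topologicalKrullDim ↥(closure ({y} : Set X)) + topologicalKrullDim ↥{t : X | t ∈ T ∧ t ⤳ y})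
    (F : X.Modules) (hF : Coh.IsCoh F) (x : X) (hx : x ∈ CohB1.support F) :
    ((LocCoh.depth ↑(X.presheaf.stalk x) ↑(F.presheaf.stalk x) : ℕ∞) : WithBot ℕ∞) +
        topologicalKrullDim ↥(closure ({x} : Set X)) +
        projectiveDimension (ModuleCat.of ↑(X.presheaf.stalk x) ↑(F.presheaf.stalk x)) =
      topologicalKrullDim X := by
  open Groth.Agent.Lib.Helper73 in
  haveI := hreg x
  haveI : IsDomain (X.presheaf.stalk x) :=
    Groth.Agent.Lib.Helper76.isDomain_of_isRegularLocalRing _
  haveI : Module.Finite (X.presheaf.stalk x) (F.presheaf.stalk x) :=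
    Groth.Agent.Lib.Helper64.FinTypeStalk.finite_stalk F hF.2 x
  haveI : Nontrivial (F.presheaf.stalk x) := not_subsingleton_iff_nontrivial.mp hx
  obtain ⟨e, he, hdim⟩ := Groth.Agent.Lib.Helper77.RegularAB.exists_pd_add_depth_eq_dim
    (X.presheaf.stalk x) (F.presheaf.stalk x)
  obtain ⟨T, hT, hsub⟩ := exists_irreducibleComponent_generizations X x
  have hxT : x ∈ T := hsub specializes_rfl
  have hset : {t : X | t ∈ T ∧ t ⤳ x} = {t : X | t ⤳ x} := by
    ext t
    exact ⟨fun h => h.2, fun h => ⟨hsub h, h⟩⟩
  have h1 := hchain x T (isClosed_of_mem_irreducibleComponents T hT) hT.1 hxT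
  rw [hset, ← ringKrullDim_stalk_eq_topologicalKrullDim_generizations, hcomp T hT, hdim] at h1
  rw [h1, he]
  push_cast
  rw [add_comm (((LocCoh.depth ↑(X.presheaf.stalk x) ↑(F.presheaf.stalk x) : ℕ∞) : WithBot ℕ∞)),
    add_assoc]
  congr 1
  exact add_comm _ _

end Groth.Agent.S4906
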