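import Groth.Statements.S4907
import Groth.Agent.S4906
import Groth.Agent.Lib.Helper73.RectDepth.PdOpen
import Groth.Agent.Lib.Helper64.CohSupport

set_option autoImplicit false
universe u
open CategoryTheory AlgebraicGeometry
open EGA43

namespace Groth.Agent.S4907

/-- Let X be a regular biequidimensional scheme (Noetherian, regular local rings, finite dimension, all
irreducible components of dimension dim X, and dim T = dim cl{y} + codim(cl{y}, T) for every closed
irreducible T and point y of T) and F a coherent O_X-module. Then the rectified depth x ↦ prof(F_x)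
+ dim cl{x} is lower semicontinuous: for every integer n the set of x with prof(F_x) + dim cl{x} ≥ n
is open. -/
theorem result (X : Scheme.{u}) [IsNoetherian X]
    (hreg : ∀ x : X, IsRegularLocalRing ↑(X.presheaf.stalk x))
    (hfin : topologicalKrullDim X < ⊤)
    (hcomp : ∀ C ∈ irreducibleComponents (X : Type u), topologicalKrullDim ↥C = topologicalKrullDim X)
    (hchain : ∀ (y : X) (T : Set X), IsClosed T → IsIrreducible T → y ∈ T →
      topologicalKrullDim ↥T = topologicalKrullDim ↥(closure ({y} : Set X)) + topologicalKrullDim ↥{t : X | t ∈ T ∧ t ⤳ y})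
    (F : X.Modules) (hF : Coh.IsCoh F) (n : ℕ) :
    IsOpen {x : X | (n : WithBot ℕ∞) ≤
      ((LocCoh.depth ↑(X.presheaf.stalk x) ↑(F.presheaf.stalk x) : ℕ∞) : WithBot ℕ∞) +
        topologicalKrullDim ↥(closure ({x} : Set X))} := by
  open Groth.Agent.Lib.Helper73 in
  haveI : F.IsQuasicoherent := hF.1
  rcases isEmpty_or_nonempty X with hX | hX
  · have : {x : X | (n : WithBot ℕ∞) ≤
      ((LocCoh.depth ↑(X.presheaf.stalk x) ↑(F.presheaf.stalk x) : ℕ∞) : WithBot ℕ∞) +
        topologicalKrullDim ↥(closure ({x} : Set X))} = ∅ := Set.eq_empty_of_isEmpty _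
    rw [this]
    exact isOpen_empty
  -- the dimension of `X` is a natural number
  obtain ⟨D₀, hD₀⟩ : ∃ D₀ : ℕ, topologicalKrullDim X = ((D₀ : ℕ) : WithBot ℕ∞) := by
    have h0 : topologicalKrullDim X ≠ ⊥ := by
      rw [Ne, topologicalKrullDim, Order.krullDim_eq_bot_iff, not_isEmpty_iff]
      obtain ⟨x⟩ := hX
      exact ⟨⟨closure {x}, isIrreducible_singleton.closure, isClosed_closure⟩⟩
    obtain ⟨d, hd⟩ := WithBot.ne_bot_iff_exists.mp h0
    rw [← hd] at hfin
    have hd' : d ≠ ⊤ := by
      rintro rfl
      exact absurd hfin (lt_irrefl _)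
    obtain ⟨m, hm⟩ := ENat.ne_top_iff_exists.mp hd'
    exact ⟨m, by rw [← hd, ← hm]; rfl⟩
  -- pointwise characterization
  have key : ∀ x : X, ((n : WithBot ℕ∞) ≤
      ((LocCoh.depth ↑(X.presheaf.stalk x) ↑(F.presheaf.stalk x) : ℕ∞) : WithBot ℕ∞) +
        topologicalKrullDim ↥(closure ({x} : Set X))) ↔
      (Subsingleton (F.presheaf.stalk x) ∨ (n ≤ D₀ ∧ projectiveDimension
        (ModuleCat.of (X.presheaf.stalk x) (F.presheaf.stalk x)) ≤ ((D₀ - n : ℕ) : WithBot ℕ∞))) := by
    intro x
    haveI := hreg x
    have hcl0 : (0 : WithBot ℕ∞) ≤ topologicalKrullDim ↥(closure ({x} : Set X)) := by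
      rw [topologicalKrullDim, Order.krullDim_nonneg_iff]
      exact ⟨⟨closure {⟨x, subset_closure rfl⟩}, isIrreducible_singleton.closure, isClosed_closure⟩⟩
    rcases subsingleton_or_nontrivial (F.presheaf.stalk x) with hsub | hnt
    · constructor
      · intro _
        exact Or.inl hsub
      · intro _
        have hdep : LocCoh.depth (X.presheaf.stalk x) (F.presheaf.stalk x) = ⊤ := by
          unfold LocCoh.depth LocCoh.idealDepth
          rw [if_pos (Subsingleton.elim _ _)]
        rw [hdep]
        obtain ⟨c, hc⟩ := WithBot.ne_bot_iff_exists.mp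
          (ne_of_gt (lt_of_lt_of_le (WithBot.bot_lt_coe (0 : ℕ∞)) hcl0))
        rw [← hc, ← WithBot.coe_add, top_add]
        exact le_top
    · have hx : x ∈ CohB1.support F := not_subsingleton_iff_nontrivial.mpr hnt
      have hsum := Groth.Agent.S4906.result X hreg hfin hcomp hchain F hF x hx
      haveI : Module.Finite (X.presheaf.stalk x) (F.presheaf.stalk x) :=
        Groth.Agent.Lib.Helper64.FinTypeStalk.finite_stalk F hF.2 x
      obtain ⟨e, he, -⟩ := Groth.Agent.Lib.Helper77.RegularAB.exists_pd_add_depth_eq_dim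
        (X.presheaf.stalk x) (F.presheaf.stalk x)
      rw [he, hD₀] at hsum
      rw [he]
      generalize ((LocCoh.depth ↑(X.presheaf.stalk x) ↑(F.presheaf.stalk x) : ℕ∞) : WithBot ℕ∞) +
        topologicalKrullDim ↥(closure ({x} : Set X)) = a at hsum ⊢
      have hns : ¬ Subsingleton (F.presheaf.stalk x) := not_subsingleton_iff_nontrivial.mpr hnt
      induction a with
      | bot => simp at hsum
      | coe a =>
        induction a with
        | top =>
          exfalso
          have h3 : ((e : ℕ) : WithBot ℕ∞) = ((e : ℕ∞) : WithBot ℕ∞) := rfl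
          rw [h3, ← WithBot.coe_add, top_add] at hsum
          have h2 : ((⊤ : ℕ∞) : WithBot ℕ∞) ≠ ((D₀ : ℕ) : WithBot ℕ∞) := by
            intro h
            have := WithBot.coe_injective h
            exact ENat.top_ne_coe D₀ this
          exact h2 hsum
        | coe a₀ =>
          have hsum' : a₀ + e = D₀ := by exact_mod_cast hsum
          constructor
          · intro h
            have h' : n ≤ a₀ := by exact_mod_cast h
            refine Or.inr ⟨by omega, ?_⟩
            exact_mod_cast (by omega : e ≤ D₀ - n)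
          · rintro (h | ⟨h1, h2⟩)
            · exact absurd h hns
            · have h2' : e ≤ D₀ - n := by exact_mod_cast h2
              exact_mod_cast (by omega : n ≤ a₀)
  have hset : {x : X | (n : WithBot ℕ∞) ≤
      ((LocCoh.depth ↑(X.presheaf.stalk x) ↑(F.presheaf.stalk x) : ℕ∞) : WithBot ℕ∞) +
        topologicalKrullDim ↥(closure ({x} : Set X))} =
      {x : X | Nontrivial (F.presheaf.stalk x)}ᶜ ∪ {x : X | n ≤ D₀ ∧ projectiveDimension
        (ModuleCat.of (X.presheaf.stalk x) (F.presheaf.stalk x)) ≤ ((D₀ - n : ℕ) : WithBot ℕ∞)} := by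
    ext x
    rw [Set.mem_setOf_eq, key x, Set.mem_union, Set.mem_compl_iff, Set.mem_setOf_eq,
      not_nontrivial_iff_subsingleton, Set.mem_setOf_eq]
  rw [hset]
  refine IsOpen.union ?_ ?_
  · exact (Groth.Agent.Lib.Helper64.CohSupport.isClosed_support F hF.2).isOpen_compl
  · by_cases hn : n ≤ D₀
    · have := isOpen_projectiveDimension_stalk_le F hF.2 (D₀ - n)
      convert this using 2
      simp [hn]
    · convert isOpen_empty using 1
      ext x
      simp [hn]

end Groth.Agent.S4907
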