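import Groth.Statements.S4909
import Groth.Agent.S4875
import Groth.Agent.Lib.Helper21.SepPull
import Groth.Agent.Lib.Helper95.SDMRCM
import Groth.Agent.Lib.Helper45.SDMG2M

set_option autoImplicit false
universe u
open CategoryTheory AlgebraicGeometry
open EGA43

namespace Groth.Agent.S4909

open TensorProduct

theorem core {A B : Type u} [CommRing A] [CommRing B] [Algebra A B] [Module.Flat A B]
    [Algebra.FinitePresentation A B]
    {M : Type u} [AddCommGroup M] [Module A M] {Λ : Type u} (N : Λ → Type u)
    [∀ i, AddCommGroup (N i)] [∀ i, Module A (N i)] (φ : ∀ i, M →ₗ[A] N i)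
    (hSL : ∀ (g : A) (x : M), (∀ i, ∃ m : ℕ, g ^ m • φ i x = 0) → ∃ m : ℕ, g ^ m • x = 0)
    (x : B ⊗[A] M) (hx : ∀ i, LinearMap.lTensor B (φ i) x = 0) : x = 0 := by
  obtain ⟨l, hl, hfree⟩ := Groth.Agent.S2591.result (A := A) (B := B) B
  apply (TensorProduct.comm A B M).injective
  rw [map_zero]
  refine Groth.Agent.S4875.sep_aux (A := A) B l hl hfree Λ l.length 0
    (by simp) M N φ
    (by
      intro a ha p
      have : a = 0 := by simpa using ha
      rw [this, zero_smul])
    (by
      intro j a ha p
      have : a = 0 := by simpa using ha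
      rw [this, zero_smul])
    hSL _ ?_
  intro i
  rw [Groth.Agent.Lib.Helper95.SDMRCM.comm_lT, hx i, map_zero]

/-- Case Z_λ = X: let X be a scheme, u_i : F ⟶ G_i a separating family of homomorphisms of
quasi-coherent O_X-modules (a section of F over an open subset killed by every u_i is zero) and g :
X' ⟶ X a flat morphism locally of finite presentation. Then the family (g^*u_i : g^*F ⟶ g^*G_i) is
separating. (The published statement allows homomorphisms into direct images (f_λ)_*G_λ; this row is
the case Z_λ = X, to which the general case reduces.) -/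
theorem result {X X' : Scheme.{u}} (F : X.Modules) [Coh.IsQCoh F] {ι : Type u}
    (G : ι → X.Modules) [∀ i, Coh.IsQCoh (G i)] (u : ∀ i, F ⟶ G i) (g : X' ⟶ X) [Flat g] [LocallyOfFinitePresentation g]
    (h : (∀ (V : (X).Opens) (t : ↑((F).presheaf.obj (Opposite.op V))), (∀ i, (Scheme.Modules.Hom.mapPresheaf (u i)).app (Opposite.op V) t = 0) → t = 0)) :
    (∀ (V : (X').Opens) (t : ↑(((Scheme.Modules.pullback g).obj F).presheaf.obj (Opposite.op V))), (∀ i, (Scheme.Modules.Hom.mapPresheaf ((Scheme.Modules.pullback g).map (u i))).app (Opposite.op V) t = 0) → t = 0) := by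
  intro V t ht
  haveI : F.IsQuasicoherent := ‹Coh.IsQCoh F›
  haveI : ∀ i, (G i).IsQuasicoherent := fun i => ‹∀ i, Coh.IsQCoh (G i)› i
  have h' : ∀ (V : X.Opens) (t : Γ(F, V)), (∀ i, (u i).app V t = 0) → t = 0 := h
  refine Groth.Agent.Lib.Helper21.SepPull.separating_pullback_of_alg g F G u ?_ V t ht
  intro U U' hU hU' e
  letI := (g.appLE U U' e).hom.toAlgebra
  haveI : Module.Flat Γ(X, U) Γ(X', U') := (Flat.flat_appLE g hU hU' e : (g.appLE U U' e).hom.Flat)
  haveI : Algebra.FinitePresentation Γ(X, U) Γ(X', U') :=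
    (LocallyOfFinitePresentation.finitePresentation_appLE g hU hU' e :
      (g.appLE U U' e).hom.FinitePresentation)
  intro x hx
  exact core _ (fun i => Groth.Agent.Lib.Helper21.QCohSections.appL (u i) U)
    (fun a m hm => Groth.Agent.Lib.Helper45.SDMG2M.G2M F G u h' U hU a m hm) x hx

end Groth.Agent.S4909
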