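import Groth.Statements.S4911
import Groth.Agent.S4877
import Groth.Agent.Lib.Helper21.SepPull
import Groth.Agent.Lib.Helper95.SDMRCM
import Groth.Agent.Lib.Helper45.SDMG2M

set_option autoImplicit false
universe u
open CategoryTheory AlgebraicGeometry
open EGA43

namespace Groth.Agent.S4911

open TensorProduct CategoryTheory.Limits TopologicalSpace Opposite
open Scheme.Modules Groth.Agent.Lib.Lead.PullbackAff
  Groth.Agent.Lib.Helper21.QCohSections Groth.Agent.Lib.Helper21.PullNat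

section Sch
/-! ### part a -/

theorem exists_chart_iso {X S' Bs : Scheme.{u}} [IsAffine Bs] (p : X ⟶ Bs) (q : S' ⟶ Bs)
    (U : X.Opens) (hU : IsAffineOpen U) (T : S'.Opens) (hT : IsAffineOpen T)
    (hUSX : U ≤ p ⁻¹ᵁ ⊤) (hUST : T ≤ q ⁻¹ᵁ ⊤)
    (hle : (pullback.fst p q) ⁻¹ᵁ U ⊓ (pullback.snd p q) ⁻¹ᵁ T ≤ (pullback.fst p q) ⁻¹ᵁ U) :
    letI : Algebra Γ(Bs, ⊤) Γ(X, U) := (p.appLE ⊤ U hUSX).hom.toAlgebra
    letI : Algebra Γ(Bs, ⊤) Γ(S', T) := (q.appLE ⊤ T hUST).hom.toAlgebra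
    ∃ θ : Γ(X, U) ⊗[Γ(Bs, ⊤)] Γ(S', T) ≃+*
        Γ(pullback p q, (pullback.fst p q) ⁻¹ᵁ U ⊓ (pullback.snd p q) ⁻¹ᵁ T),
      ∀ a : Γ(X, U), θ (a ⊗ₜ 1) = ((pullback.fst p q).appLE U _ hle).hom a := by
  have H : IsPullback (pullback.fst p q) (pullback.snd p q) p q := IsPullback.of_hasPullback p q
  have hUS : IsAffineOpen (⊤ : Bs.Opens) := isAffineOpen_top Bs
  have hiso := isIso_pushoutSection_of_isAffineOpen H hUST hUSX
    (UY := (pullback.fst p q) ⁻¹ᵁ U ⊓ (pullback.snd p q) ⁻¹ᵁ T) rfl hUS hT hU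
  have hpo := (isIso_pushoutSection_iff H hUST hUSX rfl).mp hiso
  letI algA : Algebra Γ(Bs, ⊤) Γ(X, U) := (p.appLE ⊤ U hUSX).hom.toAlgebra
  letI algR : Algebra Γ(Bs, ⊤) Γ(S', T) := (q.appLE ⊤ T hUST).hom.toAlgebra
  have hpo2 := CommRingCat.isPushout_tensorProduct Γ(Bs, ⊤) Γ(X, U) Γ(S', T)
  let θc := hpo2.isoIsPushout _ _ hpo
  have hθl := IsPushout.inl_isoIsPushout_hom _ _ hpo2 hpo
  refine ⟨θc.commRingCatIsoToRingEquiv, fun a => ?_⟩
  have := congrArg (fun k => k.hom a) hθl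
  exact this

end Sch

section Sch
/-! ### part b -/

theorem chart_alg {X S' Bs : Scheme.{u}} [IsAffine Bs] (hK : IsField Γ(Bs, ⊤))
    (p : X ⟶ Bs) (q : S' ⟶ Bs)
    (F : X.Modules) [F.IsQuasicoherent] {ι : Type u}
    (G : ι → X.Modules) [∀ i, (G i).IsQuasicoherent] (u : ∀ i, F ⟶ G i)
    (h : ∀ (V : X.Opens) (t : Γ(F, V)), (∀ i, (u i).app V t = 0) → t = 0)
    (U : X.Opens) (hU : IsAffineOpen U) (T : S'.Opens) (hT : IsAffineOpen T)
    (b' : Γ(pullback p q, (pullback.fst p q) ⁻¹ᵁ U ⊓ (pullback.snd p q) ⁻¹ᵁ T))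
    (e : (pullback p q).basicOpen b' ≤ (pullback.fst p q) ⁻¹ᵁ U) :
    letI := ((pullback.fst p q).appLE U ((pullback p q).basicOpen b') e).hom.toAlgebra
    ∀ x : Γ(pullback p q, (pullback p q).basicOpen b') ⊗[Γ(X, U)] Γ(F, U),
      (∀ i, LinearMap.lTensor Γ(pullback p q, (pullback p q).basicOpen b') (appL (u i) U) x = 0) →
        x = 0 := by
  letI := ((pullback.fst p q).appLE U ((pullback p q).basicOpen b') e).hom.toAlgebra
  intro x hx
  letI : Field Γ(Bs, ⊤) := hK.toField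
  have hUST : T ≤ q ⁻¹ᵁ ⊤ := fun _ _ => trivial
  have hUSX : U ≤ p ⁻¹ᵁ ⊤ := fun _ _ => trivial
  have hle : (pullback.fst p q) ⁻¹ᵁ U ⊓ (pullback.snd p q) ⁻¹ᵁ T ≤ (pullback.fst p q) ⁻¹ᵁ U :=
    inf_le_left
  letI algA : Algebra Γ(Bs, ⊤) Γ(X, U) := (p.appLE ⊤ U hUSX).hom.toAlgebra
  letI algR : Algebra Γ(Bs, ⊤) Γ(S', T) := (q.appLE ⊤ T hUST).hom.toAlgebra
  obtain ⟨θ, hθ⟩ := exists_chart_iso p q U hU T hT hUSX hUST hle
  have hP' := Groth.Agent.S4877.isAffineOpen_chart p q U hU T hT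
  haveI := hP'.isLocalization_basicOpen b'
  refine Groth.Agent.Lib.Helper95.SDMRCM.RCM θ b' ?_ (fun i => Γ(G i, U)) (fun i => appL (u i) U) ?_ x hx
  · intro a
    rw [hθ]
    have h3 : (pullback.fst p q).appLE U ((pullback p q).basicOpen b') e =
        (pullback.fst p q).appLE U _ hle ≫
          (pullback p q).presheaf.map (homOfLE ((pullback p q).basicOpen_le b')).op :=
      (Scheme.Hom.appLE_map _ _ _).symm
    have := congrArg (fun k => k.hom a) h3
    exact this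
  · intro g y hy
    exact Groth.Agent.Lib.Helper45.SDMG2M.G2M F G u h U hU g y hy

end Sch

open CategoryTheory.Limits in
/-- Case Z_λ = X: let k be a field, X a k-scheme, u_i : F ⟶ G_i a separating family of homomorphisms of
quasi-coherent O_X-modules (a section of F over an open subset killed by every u_i is zero) and S'
an arbitrary k-scheme. Then the family pulled back to X ×_k S' is separating. (The published
statement allows homomorphisms into direct images (f_λ)_*G_λ; this row is the case Z_λ = X.) -/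
theorem result {k : Type u} [Field k] {X S' : Scheme.{u}}
    (p : X ⟶ Spec (CommRingCat.of k)) (q : S' ⟶ Spec (CommRingCat.of k))
    (F : X.Modules) [Coh.IsQCoh F] {ι : Type u} (G : ι → X.Modules) [∀ i, Coh.IsQCoh (G i)] (u : ∀ i, F ⟶ G i)
    (h : (∀ (V : (X).Opens) (t : ↑((F).presheaf.obj (Opposite.op V))), (∀ i, (Scheme.Modules.Hom.mapPresheaf (u i)).app (Opposite.op V) t = 0) → t = 0)) :
    (∀ (V : (pullback p q).Opens) (t : ↑(((Scheme.Modules.pullback (pullback.fst p q)).obj F).presheaf.obj (Opposite.op V))), (∀ i, (Scheme.Modules.Hom.mapPresheaf ((Scheme.Modules.pullback (pullback.fst p q)).map (u i))).app (Opposite.op V) t = 0) → t = 0) := by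
  intro W t ht
  haveI : F.IsQuasicoherent := ‹Coh.IsQCoh F›
  haveI : ∀ i, (G i).IsQuasicoherent := fun i => ‹∀ i, Coh.IsQCoh (G i)› i
  have hK : IsField Γ(Spec (CommRingCat.of k), ⊤) :=
    MulEquiv.isField (Field.toIsField k)
      (Scheme.ΓSpecIso (CommRingCat.of k)).commRingCatIsoToRingEquiv.toMulEquiv
  have h' : ∀ (V : X.Opens) (t : Γ(F, V)), (∀ i, (u i).app V t = 0) → t = 0 := h
  have ht' : ∀ i, ((Scheme.Modules.pullback (pullback.fst p q)).map (u i)).app W t = 0 := ht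
  apply TopCat.Presheaf.IsSheaf.section_ext
    ((Scheme.Modules.pullback (pullback.fst p q)).obj F).isSheaf (U := op W)
  intro x hx
  obtain ⟨_, ⟨U, hU : IsAffineOpen U, rfl⟩, hxU, -⟩ :=
    (X.isBasis_affineOpens).exists_subset_of_mem_open
      (show (pullback.fst p q) x ∈ (⊤ : X.Opens).1 from trivial) (⊤ : X.Opens).2
  obtain ⟨_, ⟨T, hT : IsAffineOpen T, rfl⟩, hxT, -⟩ :=
    (S'.isBasis_affineOpens).exists_subset_of_mem_open
      (show (pullback.snd p q) x ∈ (⊤ : S'.Opens).1 from trivial) (⊤ : S'.Opens).2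
  have hP' := Groth.Agent.S4877.isAffineOpen_chart p q U hU T hT
  have hxP : x ∈ (pullback.fst p q) ⁻¹ᵁ U ⊓ (pullback.snd p q) ⁻¹ᵁ T := ⟨hxU, hxT⟩
  obtain ⟨b', hb'W, hxb'⟩ := hP'.exists_basicOpen_le ⟨x, hx⟩ hxP
  have hU' := hP'.basicOpen b'
  have e' : (pullback p q).basicOpen b' ≤ (pullback.fst p q) ⁻¹ᵁ U :=
    ((pullback p q).basicOpen_le b').trans inf_le_left
  refine ⟨(pullback p q).basicOpen b', hb'W, hxb', ?_⟩
  letI := ((pullback.fst p q).appLE U ((pullback p q).basicOpen b') e').hom.toAlgebra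
  rw [map_zero]
  apply (sectionsPullbackEquiv (pullback.fst p q) F hU' hU e').injective
  rw [map_zero]
  apply chart_alg hK p q F G u h' U hU T hT b' e'
  intro i
  rw [← sectionsPullbackEquiv_naturality, Groth.Agent.Lib.Helper2.KerSec.naturality_apply, ht',
    map_zero, map_zero]

end Groth.Agent.S4911
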