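import Groth.Statements.S4914
import Mathlib.Tactic

set_option autoImplicit false
open CategoryTheory AlgebraicGeometry
universe u v w
open EGA43

namespace Groth.Agent.S4914

/-- Let ψ : X → Y be a continuous map, x a point of X, and (Y_i) a locally finite covering of Y by
closed subsets. If for every index i with ψ x ∈ Y_i the restriction ψ⁻¹(Y_i) → Y_i of ψ is open at
x, then ψ is open at x. -/
theorem result {α : Type u} {β : Type v} {ι : Type w} [TopologicalSpace α]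
    [TopologicalSpace β] (ψ : α → β) (hψ : Continuous ψ) (x : α) (Y : ι → Set β) (hY : LocallyFinite Y)
    (hcl : ∀ i, IsClosed (Y i)) (hcov : ⋃ i, Y i = Set.univ)
    (h : ∀ i, ∀ hi : ψ x ∈ Y i, EGA43.IsOpenAt ((Y i).restrictPreimage ψ) ⟨x, hi⟩) :
    EGA43.IsOpenAt ψ x := by
  intro U hU
  have key : ∀ i, ∃ V ∈ nhds (ψ x), ∀ z ∈ V, z ∈ Y i → z ∈ ψ '' U := by
    intro i
    by_cases hi : ψ x ∈ Y i
    · have hU' : (Subtype.val ⁻¹' U : Set ↥(ψ ⁻¹' Y i)) ∈ nhds (⟨x, hi⟩ : ↥(ψ ⁻¹' Y i)) :=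
        continuous_subtype_val.continuousAt.preimage_mem_nhds hU
      have h1 := h i hi _ hU'
      rw [mem_nhds_subtype] at h1
      obtain ⟨V, hV, hVsub⟩ := h1
      refine ⟨V, hV, ?_⟩
      intro z hzV hzY
      have : (⟨z, hzY⟩ : ↥(Y i)) ∈ Subtype.val ⁻¹' V := hzV
      obtain ⟨⟨a, ha⟩, haU, haz⟩ := hVsub this
      refine ⟨a, haU, ?_⟩
      exact congrArg Subtype.val haz
    · refine ⟨(Y i)ᶜ, (hcl i).isOpen_compl.mem_nhds hi, ?_⟩
      intro z hz hzY
      exact absurd hzY hz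
  choose V hV hVz using key
  obtain ⟨W, hW, hfin⟩ := hY (ψ x)
  have hmem : W ∩ ⋂ i ∈ hfin.toFinset, V i ∈ nhds (ψ x) := by
    apply Filter.inter_mem hW
    rw [Filter.biInter_finset_mem]
    intro i _
    exact hV i
  refine Filter.mem_of_superset hmem ?_
  rintro z ⟨hzW, hzV⟩
  have hz : z ∈ ⋃ i, Y i := by rw [hcov]; trivial
  obtain ⟨i₀, hi₀⟩ := Set.mem_iUnion.mp hz
  have hi₀J : i₀ ∈ hfin.toFinset := by
    rw [Set.Finite.mem_toFinset]
    exact ⟨z, hi₀, hzW⟩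
  have hzVi : z ∈ V i₀ := by
    rw [Set.mem_iInter₂] at hzV
    exact hzV i₀ hi₀J
  exact hVz i₀ z hzVi hi₀

end Groth.Agent.S4914
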