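import Groth.Statements.S4916
import Mathlib.Tactic

set_option autoImplicit false
open CategoryTheory AlgebraicGeometry
universe u v w
open EGA43

namespace Groth.Agent.S4916

/-- Let ψ : X → Y be a continuous map of topological spaces and y a point of Y. The set of points x of
the fibre ψ⁻¹(y) at which ψ is open is a closed subset of ψ⁻¹(y). -/
theorem result {α : Type u} {β : Type v} [TopologicalSpace α] [TopologicalSpace β]
    (ψ : α → β) (hψ : Continuous ψ) (y : β) :
    IsClosed {x : ↥(ψ ⁻¹' {y}) | EGA43.IsOpenAt ψ x.1} := by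
  rw [← isOpen_compl_iff, isOpen_iff_mem_nhds]
  rintro ⟨x, hx⟩ hnot
  have hxy : ψ x = y := hx
  change ¬ EGA43.IsOpenAt ψ x at hnot
  unfold EGA43.IsOpenAt at hnot
  simp only [not_forall] at hnot
  obtain ⟨U, hU, hUn⟩ := hnot
  obtain ⟨V, hVU, hVo, hxV⟩ := mem_nhds_iff.mp hU
  rw [mem_nhds_subtype]
  refine ⟨V, hVo.mem_nhds hxV, ?_⟩
  rintro ⟨x', hx'⟩ hx'V
  have hx'y : ψ x' = y := hx'
  change ¬ EGA43.IsOpenAt ψ x'
  intro hopen
  have h1 := hopen V (hVo.mem_nhds hx'V)
  apply hUn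
  rw [hxy]
  rw [hx'y] at h1
  exact Filter.mem_of_superset h1 (Set.image_mono hVU)

end Groth.Agent.S4916
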