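import Groth.Statements.S4918
import Groth.Agent.Lib.Helper73.DimFormula.OpenDim

set_option autoImplicit false
open CategoryTheory AlgebraicGeometry
universe u v w
open EGA43

namespace Groth.Agent.S4918

/-- Assume Y is a locally Noetherian scheme and consider a morphism f : X ⟶ Y that is locally of finite
type. Given a point x of X with image y = f x, suppose both local rings O_{X,x} and O_{Y,y} are
equidimensional. Whenever f is open at the generic point of each irreducible component of the fibre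
X_y that contains x, the morphism f is equidimensional at x. -/
theorem result {X Y : Scheme.{u}} [IsLocallyNoetherian Y] (f : X ⟶ Y)
    [LocallyOfFiniteType f] (x : X) (hX : EGA4.IsEquidim (X.presheaf.stalk x))
    (hY : EGA4.IsEquidim (Y.presheaf.stalk (f.base x)))
    (h : ∀ z : ↥(f.fiber (f.base x)), f.asFiber x ∈ closure {z} →
      (∀ z' : ↥(f.fiber (f.base x)), z ∈ closure {z'} → z' = z) →
      EGA43.IsOpenAt f.base ((f.fiberι (f.base x)).base z)) :
    EGA43.IsEquidimAt f x := by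
  open Groth.Agent.Lib.Helper73 in
  have hLN : IsLocallyNoetherian X := LocallyOfFiniteType.isLocallyNoetherian f
  obtain ⟨D, hD⟩ := exists_ringKrullDim_stalk_eq_natCast x
  obtain ⟨d, hd⟩ := exists_ringKrullDim_stalk_eq_natCast (f x)
  have hX' := (isEquidim_stalk_iff x).mp hX
  have hY' := (isEquidim_stalk_iff (f x)).mp hY
  rw [hD] at hX'
  rw [hd] at hY'
  obtain ⟨η₀, hη₀, hη₀max⟩ := exists_maximal_specializes (f x)
  have hopen' := isOpenAt_of_fiber_hyp f x h
  -- Step 1
  have step1 : ∀ ζ : X, ζ ⤳ x → f ζ = f x → (∀ t : X, t ⤳ ζ → f t = f ζ → t = ζ) →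
      d + resTrdegNat f ζ ≤ D + resTrdegNat f x := by
    intro ζ hζx hfζ hζmax
    obtain ⟨ξ', hξ'ζ, -, hξ'max, -, hcod⟩ :=
      exists_maximal_generization_of_isOpenAt f ζ hζmax (hopen' ζ hζx hfζ hζmax) η₀
        (by rw [hfζ]; exact hη₀) hη₀max
    rw [hfζ, hY' η₀ hη₀ hη₀max] at hcod
    have h1 := hX' ξ' (hξ'ζ.trans hζx) hξ'max
    have h2 := codim_add_le ξ' ζ x hξ'ζ hζx
    have h3 := resTrdegNat_le_codim_add f ζ x hζx hfζ
    obtain ⟨c, hc⟩ := exists_codim_eq_natCast ζ x hζx
    rw [h1, hcod, hc] at h2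
    rw [hc] at h3
    have h2' : d + c ≤ D := by exact_mod_cast h2
    have h3' : resTrdegNat f ζ ≤ c + resTrdegNat f x := by exact_mod_cast h3
    omega
  obtain ⟨ζ₀, hζ₀x, hfζ₀, hζ₀max⟩ := exists_maximal_fiber_specializes f x
  have hdD := step1 ζ₀ hζ₀x hfζ₀ hζ₀max
  apply isEquidimAt_of_forall_maximal f x (D + resTrdegNat f x - d)
  · apply fibreDimAt_le_of_forall_generization
    intro η' hη'x hfη'
    obtain ⟨ζ, hζη', hfζ, hζmax⟩ := exists_maximal_fiber_specializes f η'
    have h1 := resTrdegNat_le_of_specializes_fiber f η' ζ hζη' hfζ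
    have h2 := step1 ζ (hζη'.trans hη'x) (hfζ.trans hfη') hζmax
    omega
  · intro ξ hξx hξmax
    obtain ⟨a, b, ha, hb, hab⟩ := codim_add_resTrdeg_le f ξ x hξx
    rw [resTrdeg_eq_resTrdegNat, resTrdeg_eq_resTrdegNat] at hab
    have hab' : a + resTrdegNat f x ≤ b + resTrdegNat f ξ := by exact_mod_cast hab
    have haD : a = D := by
      have := hX' ξ hξx hξmax
      rw [ha] at this
      exact_mod_cast this
    have hbd : b ≤ d := by
      have := codim_le_ringKrullDim_stalk (f ξ) (f x)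
      rw [hb, hd] at this
      exact_mod_cast this
    obtain ⟨ζ₁, hξζ₁, hζ₁x, hfζ₁, hζ₁max⟩ := exists_maximal_fiber_between f ξ x hξx
    have h1 := resTrdegNat_le_of_maximal_in_closure_fiber f ξ ζ₁ hξζ₁ hζ₁max
    obtain ⟨ζ, hζζ₁, hfζ, hζmax⟩ := exists_maximal_fiber_specializes f ζ₁
    have h2 := resTrdegNat_le_of_specializes_fiber f ζ₁ ζ hζζ₁ hfζ
    have h3 := step1 ζ (hζζ₁.trans hζ₁x) (hfζ.trans hfζ₁) hζmax
    have hbd' : b = d := by omega
    refine ⟨?_, by omega⟩
    intro t ht
    by_contra hne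
    obtain ⟨η, hηt, hηmax⟩ := exists_maximal_specializes t
    have hηξ : η ⤳ f ξ := hηt.trans ht
    have hfξx : f ξ ⤳ f x := hξx.map f.continuous
    have hne' : η ≠ f ξ := by
      intro heq
      apply hne
      have : f ξ ⤳ t := by rw [← heq]; exact hηt
      exact (ht.antisymm this).eq
    have h4 := one_le_codim η (f ξ) hηξ hne'
    have h5 := codim_add_le η (f ξ) (f x) hηξ hfξx
    have h6 := hY' η (hηξ.trans hfξx) hηmax
    rw [h6, hb, hbd'] at h5
    obtain ⟨c, hc⟩ := exists_codim_eq_natCast η (f ξ) hηξ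
    rw [hc] at h4 h5
    have h4' : 1 ≤ c := by exact_mod_cast h4
    have h5' : c + d ≤ d := by exact_mod_cast h5
    omega

end Groth.Agent.S4918
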