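import Groth.Statements.S4919
import Groth.Agent.Lib.Helper73.DimFormula.FibComp

set_option autoImplicit false
open CategoryTheory AlgebraicGeometry
universe u v w
open EGA43

namespace Groth.Agent.S4919

/-- Let Y be an irreducible locally Noetherian scheme with generic point η, f : X ⟶ Y a morphism locally
of finite type, y a point of Y and Z an irreducible component of the fibre f⁻¹(y) (a maximal
irreducible subset of f⁻¹(y), with the topology induced from X) such that f is open at the generic
point ζ of Z. Then there is an irreducible component X' of X containing Z and dominating Y such that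
the local dimension of X' ∩ f⁻¹(y) at ζ equals dim Z, and dim Z = dim (X' ∩ f⁻¹(η)). (The published
statement writes the middle term as the dimension of the whole of X' ∩ f⁻¹(y); its proof yields only
the local dimension at the generic point of Z, and the global equality can fail: for the
endomorphism (a, b) ↦ (ab, b² − b) of the affine plane over a field, the fibre over the origin is
the line b = 0 together with the isolated point (0, 1), at which the map is étale, hence open; with
Z that point, X' is the whole plane, X' ∩ f⁻¹(y) has dimension 1 and dim Z = 0. So the local form is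
stated here.) -/
theorem result {X Y : Scheme.{u}} [IrreducibleSpace Y]
    [IsLocallyNoetherian Y] (f : X ⟶ Y) [LocallyOfFiniteType f] (y : Y) (Z : Set X)
    (hZy : Z ⊆ f.base ⁻¹' {y}) (hZ : IsIrreducible Z)
    (hZmax : ∀ Z' : Set X, IsIrreducible Z' → Z' ⊆ f.base ⁻¹' {y} → Z ⊆ Z' → Z' = Z)
    (hopen : ∀ ζ ∈ Z, Z ⊆ closure {ζ} → EGA43.IsOpenAt f.base ζ) :
    ∃ X' ∈ irreducibleComponents (X : Type u), Z ⊆ X' ∧ Dense (f.base '' X') ∧
      (∀ ζ ∈ Z, Z ⊆ closure {ζ} → ∀ hζ : ζ ∈ X' ∩ f.base ⁻¹' {y},
        FlatMor.localDim ↥(X' ∩ f.base ⁻¹' {y}) ⟨ζ, hζ⟩ = topologicalKrullDim ↥Z) ∧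
      topologicalKrullDim ↥Z = topologicalKrullDim ↥(X' ∩ f.base ⁻¹' {genericPoint Y}) := by
  open Groth.Agent.Lib.Helper73 in
  have hLN : IsLocallyNoetherian X := LocallyOfFiniteType.isLocallyNoetherian f
  obtain ⟨ζ, hζZ, hfζ, hZeq, hζmax⟩ := exists_generic_of_fiber_component f y Z hZy hZ hZmax
  have hZsub : Z ⊆ closure {ζ} := by rw [hZeq]; exact Set.inter_subset_left
  have hηmax : ∀ t : Y, t ⤳ genericPoint Y → t = genericPoint Y :=
    fun t ht => (ht.antisymm (genericPoint_specializes t)).eq
  obtain ⟨ξ, hξζ, hfξ, hξmax, hr, -⟩ :=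
    exists_maximal_generization_of_isOpenAt f ζ hζmax (hopen ζ hζZ hZsub) (genericPoint Y)
      (genericPoint_specializes _) hηmax
  have hdimZ : topologicalKrullDim ↥Z = ((resTrdegNat f ζ : ℕ) : WithBot ℕ∞) := by
    have := topologicalKrullDim_closure_inter_fiber f ζ y hfζ
    rw [← this]
    have key : ∀ S : Set X, Z = S → topologicalKrullDim ↥Z = topologicalKrullDim ↥S := by
      rintro _ rfl; rfl
    exact key _ hZeq
  refine ⟨closure {ξ}, closure_singleton_mem_irreducibleComponents_of_maximal ξ hξmax,
    hZsub.trans hξζ.closure_subset, ?_, ?_, ?_⟩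
  · have hsub : closure ({genericPoint Y} : Set Y) ⊆ closure (f.base '' closure {ξ}) := by
      apply closure_mono
      rintro _ rfl
      exact ⟨ξ, subset_closure rfl, hfξ⟩
    intro t
    apply hsub
    exact specializes_iff_mem_closure.mp (genericPoint_specializes t)
  · intro ζ' hζ'Z hZζ' hζ'
    have heq : ζ' = ζ := by
      have h1 : ζ' ⤳ ζ := specializes_iff_mem_closure.mpr (hZζ' hζZ)
      have h2 : ζ ⤳ ζ' := specializes_iff_mem_closure.mpr (hZsub hζ'Z)
      exact (h1.antisymm h2).eq
    subst heq
    rw [hdimZ]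
    apply le_antisymm
    · apply localDim_interFiber_le f (closure {ξ}) y isClosed_closure _ (resTrdegNat f ζ')
      intro t _ hft htζ
      rw [hζmax t htζ (hft.trans hfζ.symm)]
    · exact resTrdegNat_le_localDim_interFiber f (closure {ξ}) y isClosed_closure
        ⟨ζ', hζ'⟩ ⟨ζ', hζ'⟩ specializes_rfl
  · rw [hdimZ, ← hr]
    exact (topologicalKrullDim_closure_inter_fiber f ξ (genericPoint Y) hfξ).symm

end Groth.Agent.S4919
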