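import Groth.Statements.S4920
import Groth.Agent.Lib.Helper73.DimFormula.FibComp

set_option autoImplicit false
open CategoryTheory AlgebraicGeometry
universe u v w
open EGA43

namespace Groth.Agent.S4920

/-- Let Y be an irreducible locally Noetherian scheme with generic point η, f : X ⟶ Y a morphism locally
of finite type and y a point of Y such that f is open at every point of the fibre over y. For z in Y
write E(z) for the set of dimensions of the irreducible components of the fibre X_z. Then E(y) ⊆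
E(η), and consequently dim X_y ≤ dim X_η. -/
theorem result {X Y : Scheme.{u}} [IrreducibleSpace Y] [IsLocallyNoetherian Y]
    (f : X ⟶ Y) [LocallyOfFiniteType f] (y : Y) (h : ∀ x : X, f.base x = y → EGA43.IsOpenAt f.base x) :
    letI E : Y → Set (WithBot ℕ∞) := fun z =>
      (fun Z : Set ↥(f.fiber z) => topologicalKrullDim ↥Z) '' irreducibleComponents ↥(f.fiber z)
    E y ⊆ E (genericPoint Y) ∧
      topologicalKrullDim ↥(f.fiber y) ≤ topologicalKrullDim ↥(f.fiber (genericPoint Y)) := by
  open Groth.Agent.Lib.Helper73 in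
  have hηmax : ∀ t : Y, t ⤳ genericPoint Y → t = genericPoint Y :=
    fun t ht => (ht.antisymm (genericPoint_specializes t)).eq
  have key : ∀ ζ : X, f ζ = y → (∀ t : X, t ⤳ ζ → f t = f ζ → t = ζ) →
      ∃ ξ : X, f ξ = genericPoint Y ∧ (∀ t : X, t ⤳ ξ → t = ξ) ∧
        resTrdegNat f ξ = resTrdegNat f ζ := by
    intro ζ hfζ hζmax
    obtain ⟨ξ, -, hfξ, hξmax, hr, -⟩ :=
      exists_maximal_generization_of_isOpenAt f ζ hζmax (h ζ hfζ) (genericPoint Y)
        (genericPoint_specializes _) hηmax
    exact ⟨ξ, hfξ, hξmax, hr⟩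
  constructor
  · intro n hn
    rw [mem_fiberDims_iff] at hn ⊢
    obtain ⟨ζ, hfζ, hζmax, rfl⟩ := hn
    obtain ⟨ξ, hfξ, hξmax, hr⟩ := key ζ hfζ hζmax
    exact ⟨ξ, hfξ, fun t ht _ => hξmax t ht, by rw [hr]⟩
  · rw [topologicalKrullDim_fiber_le_iff_forall_maximal]
    intro ζ hfζ hζmax
    obtain ⟨ξ, hfξ, hξmax, hr⟩ := key ζ hfζ hζmax
    have := resTrdegNat_le_topologicalKrullDim_fiber f ξ
    rw [hfξ, hr] at this
    exact this

end Groth.Agent.S4920
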