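import Groth.Statements.S4921
import Groth.Agent.Lib.Helper73.DimFormula.OpenFT

set_option autoImplicit false
open CategoryTheory AlgebraicGeometry
universe u v w
open EGA43

namespace Groth.Agent.S4921

/-- Let Y be a locally Noetherian scheme, f : X ⟶ Y a proper morphism and y a point of Y such that f is
open at every point of the fibre over y. Then the function z ↦ dim X_z is constant on a
neighbourhood of y. -/
theorem result {X Y : Scheme.{u}} [IsLocallyNoetherian Y] (f : X ⟶ Y)
    [IsProper f] (y : Y) (h : ∀ x : X, f.base x = y → EGA43.IsOpenAt f.base x) :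
    ∃ V ∈ nhds y, ∀ z ∈ V, topologicalKrullDim ↥(f.fiber z) = topologicalKrullDim ↥(f.fiber y) := by
  open Groth.Agent.Lib.Helper73 in
  have hcl : IsClosedMap f.base := f.isClosedMap
  obtain ⟨V₂, hyV₂, hV₂⟩ := exists_open_forall_exists_maximal y
  have hV₁ := isOpen_setOf_topologicalKrullDim_fiber_le f hcl (topologicalKrullDim ↥(f.fiber y))
  refine ⟨(V₂ : Set Y) ∩ {z : Y | topologicalKrullDim ↥(f.fiber z) ≤ topologicalKrullDim ↥(f.fiber y)},
    Filter.inter_mem (V₂.isOpen.mem_nhds hyV₂)
      (hV₁.mem_nhds (le_refl (topologicalKrullDim ↥(f.fiber y)))), ?_⟩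
  intro z hz
  apply le_antisymm hz.2
  obtain ⟨η, hηz, hηy, hηmax⟩ := hV₂ z hz.1
  have h1 := topologicalKrullDim_fiber_le_of_specializes f y η hηy h
  have h2 : topologicalKrullDim ↥(f.fiber η) ≤ topologicalKrullDim ↥(f.fiber z) := by
    have hopen := isOpen_setOf_topologicalKrullDim_fiber_le f hcl (topologicalKrullDim ↥(f.fiber z))
    exact hηz.mem_open hopen (le_refl (topologicalKrullDim ↥(f.fiber z)))
  exact h1.trans h2

end Groth.Agent.S4921
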