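import Groth.Statements.S4922
import Groth.Agent.Lib.Helper73.DimFormula.OpenFT

set_option autoImplicit false
open CategoryTheory AlgebraicGeometry
universe u v w
open EGA43

namespace Groth.Agent.S4922

/-- Let Y be a locally Noetherian scheme, f : X ⟶ Y an open morphism of finite type and y a point of Y.
If dim X_y = dim X_{η} for the generic point η of every irreducible component of Y containing y,
then z ↦ dim X_z is constant on a neighbourhood of y. -/
theorem result {X Y : Scheme.{u}} [IsLocallyNoetherian Y]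
    (f : X ⟶ Y) [LocallyOfFiniteType f] [QuasiCompact f] (hf : IsOpenMap f.base) (y : Y)
    (h : ∀ η : Y, y ∈ closure {η} → closure {η} ∈ irreducibleComponents (Y : Type u) →
      topologicalKrullDim ↥(f.fiber y) = topologicalKrullDim ↥(f.fiber η)) :
    ∃ V ∈ nhds y, ∀ z ∈ V, topologicalKrullDim ↥(f.fiber z) = topologicalKrullDim ↥(f.fiber y) := by
  open Groth.Agent.Lib.Helper73 in
  have hopen : ∀ x : X, EGA43.IsOpenAt f.base x := fun x U hU => hf.image_mem_nhds hU
  obtain ⟨V₂, hyV₂, hV₂⟩ := exists_open_forall_exists_maximal y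
  have hupper : ∀ z ∈ V₂, topologicalKrullDim ↥(f.fiber z) ≤ topologicalKrullDim ↥(f.fiber y) := by
    intro z hz
    obtain ⟨η, hηz, hηy, hηmax⟩ := hV₂ z hz
    rw [h η (specializes_iff_mem_closure.mp hηy)
      (closure_singleton_mem_irreducibleComponents_of_maximal η hηmax)]
    exact topologicalKrullDim_fiber_le_of_specializes f z η hηz (fun x _ => hopen x)
  by_cases hy : y ∈ Set.range f.base
  · obtain ⟨n, hn, hdim⟩ := exists_mem_fiberDims_eq_topologicalKrullDim f y hy
    have hnhds := setOf_mem_fiberDims_mem_nhds f y (fun x _ => hopen x) n hn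
    refine ⟨(V₂ : Set Y) ∩ _, Filter.inter_mem (V₂.isOpen.mem_nhds hyV₂) hnhds, ?_⟩
    intro z hz
    apply le_antisymm (hupper z hz.1)
    rw [hdim]
    exact le_topologicalKrullDim_fiber_of_mem_fiberDims f z _ hz.2
  · refine ⟨V₂, V₂.isOpen.mem_nhds hyV₂, ?_⟩
    intro z hz
    apply le_antisymm (hupper z hz)
    rw [(topologicalKrullDim_fiber_eq_bot_iff f y).mpr hy]
    exact bot_le

end Groth.Agent.S4922
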