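import Groth.Statements.S4923
import Groth.Agent.Lib.Helper73.DimFormula.OpenFT

set_option autoImplicit false
open CategoryTheory AlgebraicGeometry
universe u v w
open EGA43

namespace Groth.Agent.S4923

/-- Let Y be a locally Noetherian scheme, f : X ⟶ Y an open morphism of finite type and y a point of Y;
for z in Y let E(z) be the set of dimensions of the irreducible components of the fibre X_z. If E(y)
= E(η) for the generic point η of every irreducible component of Y containing y, then E is constant
on a neighbourhood of y. -/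
theorem result {X Y : Scheme.{u}}
    [IsLocallyNoetherian Y] (f : X ⟶ Y) [LocallyOfFiniteType f] [QuasiCompact f] (hf : IsOpenMap f.base) (y : Y) :
    letI E : Y → Set (WithBot ℕ∞) := fun z =>
      (fun Z : Set ↥(f.fiber z) => topologicalKrullDim ↥Z) '' irreducibleComponents ↥(f.fiber z)
    (∀ η : Y, y ∈ closure {η} → closure {η} ∈ irreducibleComponents (Y : Type u) → E y = E η) →
      ∃ V ∈ nhds y, ∀ z ∈ V, E z = E y := by
  open Groth.Agent.Lib.Helper73 in
  intro h
  have hopen : ∀ x : X, EGA43.IsOpenAt f.base x := fun x U hU => hf.image_mem_nhds hU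
  obtain ⟨V₂, hyV₂, hV₂⟩ := exists_open_forall_exists_maximal y
  obtain ⟨N, hN⟩ := exists_nat_topologicalKrullDim_fiber_le f y
  let E : Y → Set (WithBot ℕ∞) := fun z =>
    (fun Z : Set ↥(f.fiber z) => topologicalKrullDim ↥Z) '' irreducibleComponents ↥(f.fiber z)
  let S : ℕ → Set Y := fun k => {z : Y | ((k : ℕ) : WithBot ℕ∞) ∈ E y → ((k : ℕ) : WithBot ℕ∞) ∈ E z}
  have hS : ∀ k, S k ∈ nhds y := by
    intro k
    by_cases hk : ((k : ℕ) : WithBot ℕ∞) ∈ E y
    · refine Filter.mem_of_superset (setOf_mem_fiberDims_mem_nhds f y (fun x _ => hopen x) k hk) ?_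
      intro z hz _
      exact hz
    · have : S k = Set.univ := by
        ext z
        simp only [S, Set.mem_setOf_eq, Set.mem_univ, iff_true]
        intro h'
        exact absurd h' hk
      rw [this]; exact Filter.univ_mem
  have hSall : (⋂ k ∈ Finset.range (N + 1), S k) ∈ nhds y :=
    (Filter.biInter_finset_mem (Finset.range (N + 1))).mpr (fun k _ => hS k)
  refine ⟨(V₂ : Set Y) ∩ ⋂ k ∈ Finset.range (N + 1), S k,
    Filter.inter_mem (V₂.isOpen.mem_nhds hyV₂) hSall, ?_⟩
  intro z hz
  apply Set.Subset.antisymm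
  · obtain ⟨η, hηz, hηy, hηmax⟩ := hV₂ z hz.1
    rw [h η (specializes_iff_mem_closure.mp hηy)
      (closure_singleton_mem_irreducibleComponents_of_maximal η hηmax)]
    exact fiberDims_subset_of_specializes f z η hηz (fun x _ => hopen x)
  · intro m hm
    have hm' := hm
    rw [mem_fiberDims_iff] at hm'
    obtain ⟨ζ, hfζ, hζmax, rfl⟩ := hm'
    have hle : resTrdegNat f ζ ≤ N := by
      have := resTrdegNat_le_topologicalKrullDim_fiber f ζ
      rw [hfζ] at this
      exact_mod_cast this.trans hN
    have hz2 := hz.2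
    simp only [Set.mem_iInter] at hz2
    exact hz2 (resTrdegNat f ζ) (Finset.mem_range.mpr (by omega)) hm

end Groth.Agent.S4923
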