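import Groth.Statements.S4924
import Groth.Agent.Lib.Helper73.DimFormula.OpenFT

set_option autoImplicit false
open CategoryTheory AlgebraicGeometry
universe u v w
open EGA43

namespace Groth.Agent.S4924

/-- Let Y be a locally Noetherian scheme, f : X ⟶ Y an open morphism of finite type and y a point of Y.
Then there is an open neighbourhood U of the fibre f⁻¹(y) in X such that the function z ↦ dim (U ∩
f⁻¹(z)) is constant on a neighbourhood of y. -/
theorem result {X Y : Scheme.{u}} [IsLocallyNoetherian Y]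
    (f : X ⟶ Y) [LocallyOfFiniteType f] [QuasiCompact f] (hf : IsOpenMap f.base) (y : Y) :
    ∃ U : X.Opens, f.base ⁻¹' {y} ⊆ (U : Set X) ∧ ∃ V ∈ nhds y, ∀ z ∈ V,
      topologicalKrullDim ↥((U : Set X) ∩ f.base ⁻¹' {z}) = topologicalKrullDim ↥((U : Set X) ∩ f.base ⁻¹' {y}) := by
  open Groth.Agent.Lib.Helper73 in
  have hopen : ∀ x : X, EGA43.IsOpenAt f.base x := fun x U hU => hf.image_mem_nhds hU
  by_cases hy : y ∈ Set.range f.base
  · obtain ⟨n, hn, hdim⟩ := exists_mem_fiberDims_eq_topologicalKrullDim f y hy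
    have hnhds := setOf_mem_fiberDims_mem_nhds f y (fun x _ => hopen x) n hn
    let U : X.Opens := ⟨{x : X | FlatMor.fibreDimAt f x ≤ ((n : ℕ) : WithBot ℕ∞)},
      isOpen_fibreDimAt_le n X Y f⟩
    have key : ∀ z : Y, ((n : ℕ) : WithBot ℕ∞) ∈
        (fun Z : Set ↥(f.fiber z) => topologicalKrullDim ↥Z) '' irreducibleComponents ↥(f.fiber z) →
        topologicalKrullDim ↥((U : Set X) ∩ f.base ⁻¹' {z}) = ((n : ℕ) : WithBot ℕ∞) := by
      intro z hz
      rw [topologicalKrullDim_open_interFiber f (U : Set X) z U.isOpen]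
      apply le_antisymm
      · apply iSup_le
        intro t
        have h1 : FlatMor.fibreDimAt f t.1 ≤ ((n : ℕ) : WithBot ℕ∞) := t.2.1
        exact (resTrdegNat_le_fibreDimAt f t.1).trans h1
      · rw [mem_fiberDims_iff] at hz
        obtain ⟨ζ, hfζ, hζmax, hnζ⟩ := hz
        have hζU : ζ ∈ (U : Set X) := by
          change FlatMor.fibreDimAt f ζ ≤ _
          rw [fibreDimAt_eq_resTrdegNat_of_maximal f ζ hζmax, hnζ]
        have := le_iSup (fun t : ↥((U : Set X) ∩ f.base ⁻¹' {z}) =>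
          ((resTrdegNat f t.1 : ℕ∞) : WithBot ℕ∞)) ⟨ζ, hζU, hfζ⟩
        rw [hnζ]
        exact this
    refine ⟨U, ?_, _, hnhds, ?_⟩
    · intro x hx
      have := (topologicalKrullDim_fiber_le_iff f y n).mp (le_of_eq hdim) x hx
      exact this
    · intro z hz
      rw [key z hz, key y hn]
  · refine ⟨⊥, ?_, Set.univ, Filter.univ_mem, ?_⟩
    · intro x hx
      exact absurd ⟨x, hx⟩ hy
    · intro z _
      have h1 : ∀ w : Y, topologicalKrullDim ↥(((⊥ : X.Opens) : Set X) ∩ f.base ⁻¹' {w}) = ⊥ := by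
        intro w
        rw [topologicalKrullDim, Order.krullDim_eq_bot_iff]
        refine ⟨fun Z => ?_⟩
        obtain ⟨t, -⟩ := Z.isIrreducible'.1
        exact t.2.1
      rw [h1 z, h1 y]

end Groth.Agent.S4924
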