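import Groth.Statements.S4928
import Groth.Agent.Lib.Helper80.UnivOpenAt
import Groth.Agent.Lib.Helper80.UnivOpenAt2

set_option autoImplicit false
open CategoryTheory AlgebraicGeometry
universe u v w
open EGA43

namespace Groth.Agent.S4928

open CategoryTheory.Limits Groth.Agent.Lib.Helper80.UnivOpenAt Groth.Agent.Lib.Helper80.UnivOpenAt2

variable {X Y Y' : Scheme.{u}}

lemma exists_stalk_hom (g : Y' ⟶ Y) (y' : Y') (y₀ : Y) (e : g.base y' = y₀) :
    ∃ h : Spec (Y'.presheaf.stalk y') ⟶ Spec (Y.presheaf.stalk y₀),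
      h ≫ Y.fromSpecStalk y₀ = Y'.fromSpecStalk y' ≫ g := by
  subst e
  exact ⟨Spec.map (g.stalkMap y'), Scheme.SpecMap_stalkMap_fromSpecStalk g⟩

theorem stepB (f : X ⟶ Y) (g : Y' ⟶ Y) (x : X)
    (x₁ : ↥(pullback f (Y.fromSpecStalk (f.base x))))
    (hx₁ : (pullback.fst f (Y.fromSpecStalk (f.base x))).base x₁ = x)
    (hf₁ : IsUnivOpenAt (pullback.snd f (Y.fromSpecStalk (f.base x))) x₁)
    (y' : Y') (e : g.base y' = f.base x)
    (x'' : ↥(pullback (pullback.snd f g) (Y'.fromSpecStalk y')))
    (hx'' : (pullback.fst f g).base ((pullback.fst (pullback.snd f g)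
      (Y'.fromSpecStalk y')).base x'') = x) :
    IsOpenAt (pullback.snd (pullback.snd f g) (Y'.fromSpecStalk y')).base x'' := by
  obtain ⟨h, hh⟩ := exists_stalk_hom g y' (f.base x) e
  have rect : IsPullback
      (pullback.fst (pullback.snd f g) (Y'.fromSpecStalk y') ≫ pullback.fst f g)
      (pullback.snd (pullback.snd f g) (Y'.fromSpecStalk y')) f (Y'.fromSpecStalk y' ≫ g) :=
    (IsPullback.of_hasPullback (pullback.snd f g) (Y'.fromSpecStalk y')).paste_horiz
      (IsPullback.of_hasPullback f g)
  rw [← hh] at rect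
  let m : pullback (pullback.snd f g) (Y'.fromSpecStalk y') ⟶
      pullback f (Y.fromSpecStalk (f.base x)) :=
    pullback.lift (pullback.fst (pullback.snd f g) (Y'.fromSpecStalk y') ≫ pullback.fst f g)
      (pullback.snd (pullback.snd f g) (Y'.fromSpecStalk y') ≫ h)
      (by have := rect.w; simpa only [Category.assoc] using this)
  have hm1 : m ≫ pullback.fst f (Y.fromSpecStalk (f.base x)) =
      pullback.fst (pullback.snd f g) (Y'.fromSpecStalk y') ≫ pullback.fst f g :=
    pullback.lift_fst _ _ _
  have hm2 : m ≫ pullback.snd f (Y.fromSpecStalk (f.base x)) =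
      pullback.snd (pullback.snd f g) (Y'.fromSpecStalk y') ≫ h :=
    pullback.lift_snd _ _ _
  have rect' : IsPullback (m ≫ pullback.fst f (Y.fromSpecStalk (f.base x)))
      (pullback.snd (pullback.snd f g) (Y'.fromSpecStalk y')) f
      (h ≫ Y.fromSpecStalk (f.base x)) := by
    rw [hm1]; exact rect
  have sq : IsPullback m (pullback.snd (pullback.snd f g) (Y'.fromSpecStalk y'))
      (pullback.snd f (Y.fromSpecStalk (f.base x))) h :=
    IsPullback.of_right rect' hm2 (IsPullback.of_hasPullback f (Y.fromSpecStalk (f.base x)))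
  refine isOpenAt_of_isPullback hf₁ sq x'' ?_
  have hinj : Function.Injective (pullback.fst f (Y.fromSpecStalk (f.base x))).base :=
    (pullback.fst f (Y.fromSpecStalk (f.base x))).isEmbedding.injective
  apply hinj
  rw [← Scheme.Hom.comp_apply, hm1, Scheme.Hom.comp_apply, hx'', hx₁]

open CategoryTheory.Limits in
/-- Let f : X ⟶ Y be locally of finite presentation, x a point of X, y = f x, and f₁ : X ×_Y Spec
O_{Y,y} ⟶ Spec O_{Y,y} the base change of f to the local scheme of Y at y. Then for every point x₁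
of X ×_Y Spec O_{Y,y} projecting to x, f is universally open at x if and only if f₁ is universally
open at x₁. -/
theorem result {X Y : Scheme.{u}} (f : X ⟶ Y) [LocallyOfFinitePresentation f]
    (x : X) (x₁ : ↥(pullback f (Y.fromSpecStalk (f.base x))))
    (hx₁ : (pullback.fst f (Y.fromSpecStalk (f.base x))).base x₁ = x) :
    EGA43.IsUnivOpenAt f x ↔ EGA43.IsUnivOpenAt (pullback.snd f (Y.fromSpecStalk (f.base x))) x₁ := by
  constructor
  · intro hf
    exact isUnivOpenAt_of_isPullback hf (IsPullback.of_hasPullback f _) x₁ hx₁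
  · intro hf₁ Y' g x' hx'
    have e : g.base ((pullback.snd f g).base x') = f.base x := by
      rw [← hx', ← Scheme.Hom.comp_apply, ← Scheme.Hom.comp_apply, pullback.condition]
    refine isOpenAt_of_fromSpecStalk (pullback.snd f g) x' ?_
    intro x'' hx''
    refine stepB f g x x₁ hx₁ hf₁ _ e x'' ?_
    rw [hx'', hx']

end Groth.Agent.S4928
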