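import Groth.Statements.S4929
import Groth.Agent.Lib.Helper80.UnivOpenAt
import Groth.Agent.S4914
import Mathlib.AlgebraicGeometry.Morphisms.ClosedImmersion

set_option autoImplicit false
open CategoryTheory AlgebraicGeometry
universe u v w
open EGA43

namespace Groth.Agent.S4929

open CategoryTheory.Limits in
/-- Let f : X ⟶ Y be a morphism of schemes, x a point of X, and (Y_i ⟶ Y) a finite family of closed
immersions whose images cover Y. If for every i the base change X ×_Y Y_i ⟶ Y_i is universally open
at every point lying over x, then f is universally open at x. -/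
theorem result {X Y : Scheme.{u}} (f : X ⟶ Y) (x : X) {ι : Type w}
    [Finite ι] (T : ι → Scheme.{u}) (g : ∀ i, T i ⟶ Y) [∀ i, IsClosedImmersion (g i)]
    (hcov : ⋃ i, Set.range (g i).base = Set.univ)
    (h : ∀ i, ∀ x' : ↥(pullback f (g i)), (pullback.fst f (g i)).base x' = x →
      EGA43.IsUnivOpenAt (pullback.snd f (g i)) x') :
    EGA43.IsUnivOpenAt f x := by
  intro Y' t z hz
  refine Groth.Agent.S4914.result (pullback.snd f t).base (pullback.snd f t).continuous z
    (fun i => t.base ⁻¹' Set.range (g i).base) (locallyFinite_of_finite _)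
    (fun i => ((g i).isClosedEmbedding.isClosed_range).preimage t.continuous)
    (by rw [← Set.preimage_iUnion, hcov, Set.preimage_univ]) ?_
  intro i hi
  have hrange : Set.range (pullback.snd (g i) t).base = t.base ⁻¹' Set.range (g i).base :=
    Scheme.Pullback.range_snd (g i) t
  obtain ⟨t', ht'⟩ : (pullback.snd f t).base z ∈ Set.range (pullback.snd (g i) t).base := by
    rw [hrange]; exact hi
  obtain ⟨y, hy1, hy2⟩ := Scheme.Pullback.exists_preimage_pullback
    (f := pullback.snd f t) (g := pullback.snd (g i) t) z t' ht'.symm
  -- the pasted rectangle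
  have rect : IsPullback
      (pullback.fst (pullback.snd f t) (pullback.snd (g i) t) ≫ pullback.fst f t)
      (pullback.snd (pullback.snd f t) (pullback.snd (g i) t)) f
      (pullback.snd (g i) t ≫ t) :=
    (IsPullback.of_hasPullback (pullback.snd f t) (pullback.snd (g i) t)).paste_horiz
      (IsPullback.of_hasPullback f t)
  have hcond : pullback.snd (g i) t ≫ t = pullback.fst (g i) t ≫ g i :=
    (pullback.condition).symm
  rw [hcond] at rect
  let m : pullback (pullback.snd f t) (pullback.snd (g i) t) ⟶ pullback f (g i) :=
    pullback.lift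
      (pullback.fst (pullback.snd f t) (pullback.snd (g i) t) ≫ pullback.fst f t)
      (pullback.snd (pullback.snd f t) (pullback.snd (g i) t) ≫ pullback.fst (g i) t)
      (by have := rect.w; simpa only [Category.assoc] using this)
  have hm1 : m ≫ pullback.fst f (g i) =
      pullback.fst (pullback.snd f t) (pullback.snd (g i) t) ≫ pullback.fst f t :=
    pullback.lift_fst _ _ _
  have hm2 : m ≫ pullback.snd f (g i) =
      pullback.snd (pullback.snd f t) (pullback.snd (g i) t) ≫ pullback.fst (g i) t :=
    pullback.lift_snd _ _ _
  have rect' : IsPullback (m ≫ pullback.fst f (g i))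
      (pullback.snd (pullback.snd f t) (pullback.snd (g i) t)) f
      (pullback.fst (g i) t ≫ g i) := by
    rw [hm1]; exact rect
  have left : IsPullback m (pullback.snd (pullback.snd f t) (pullback.snd (g i) t))
      (pullback.snd f (g i)) (pullback.fst (g i) t) :=
    IsPullback.of_right rect' hm2 (IsPullback.of_hasPullback f (g i))
  have hpt : (pullback.fst f (g i)).base (m.base y) = x := by
    rw [← Scheme.Hom.comp_apply, hm1, Scheme.Hom.comp_apply, hy1, hz]
  have hopen : EGA43.IsOpenAt
      (pullback.snd (pullback.snd f t) (pullback.snd (g i) t)).base y :=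
    Groth.Agent.Lib.Helper80.UnivOpenAt.isOpenAt_of_isPullback (h i _ hpt) left y rfl
  subst hy1
  refine Groth.Agent.Lib.Helper80.UnivOpenAt.isOpenAt_restrictPreimage_of_square
    (pullback.snd f t).base _
    (pullback.fst (pullback.snd f t) (pullback.snd (g i) t)).base
    (pullback.fst (pullback.snd f t) (pullback.snd (g i) t)).continuous
    (pullback.snd (g i) t).base
    (pullback.snd (g i) t).isClosedEmbedding.isInducing
    (by rw [hrange]) 
    (pullback.snd (pullback.snd f t) (pullback.snd (g i) t)).base ?_ y hopen hi
  intro y'
  rw [← Scheme.Hom.comp_apply, ← Scheme.Hom.comp_apply, pullback.condition]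

end Groth.Agent.S4929
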