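import Groth.Statements.S4930
import Groth.Agent.Lib.Helper41.UnivOpenComp

set_option autoImplicit false
open CategoryTheory AlgebraicGeometry
universe u v w
open EGA43

namespace Groth.Agent.S4930

open CategoryTheory.Limits in
/-- Let Y be a locally Noetherian scheme, f : X ⟶ Y a morphism locally of finite type and y a point of
Y. Then f is universally open at all points of the fibre over y if and only if, for every discrete
valuation ring A and every morphism g : Spec A ⟶ Y mapping the closed point to y, every irreducible
component of X ×_Y Spec A dominates Spec A. -/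
theorem result {X Y : Scheme.{u}} [IsLocallyNoetherian Y] (f : X ⟶ Y)
    [LocallyOfFiniteType f] (y : Y) :
    (∀ x : X, f.base x = y → EGA43.IsUnivOpenAt f x) ↔
      ∀ (A : Type u) [CommRing A] [IsDomain A] [IsDiscreteValuationRing A] (g : Spec (CommRingCat.of A) ⟶ Y),
        g.base (IsLocalRing.closedPoint A) = y →
        ∀ Z ∈ irreducibleComponents (↥(pullback f g) : Type u), Dense ((pullback.snd f g).base '' Z) := by
  open Groth.Agent.Lib.Helper41.UnivOpenComp Groth.Agent.Lib.Helper41.UnivOpenDvr in
  constructor
  · intro hf A _ _ _ g hg Z hZ
    refine dense_of_isOpenAt (pullback.snd f g) (fun ξ hξ => ?_) hZ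
    refine hf ((pullback.fst f g).base ξ) ?_ _ g ξ rfl
    rw [pullback_condition_apply, hξ, hg]
  · intro h x hx
    apply isUnivOpenAt_of_dvrCrit
    intro A _ _ _ g hg x' _ _
    exact exists_specializes_of_dense (pullback.snd f g)
      (irreducibleComponent_mem_irreducibleComponents x') (h A g (hg.trans hx) _
        (irreducibleComponent_mem_irreducibleComponents x')) x' mem_irreducibleComponent

end Groth.Agent.S4930
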