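import Groth.Statements.S4935
import Mathlib.RingTheory.IntegralClosure.GoingDown
import Mathlib.RingTheory.IntegralClosure.IntegrallyClosed
import Mathlib.RingTheory.Ideal.GoingUp
import Mathlib.Tactic

set_option autoImplicit false
universe u
open EGA43

namespace Groth.Agent.S4935

theorem lemmaX {R : Type u} [CommRing R] [IsDomain R] (K : Type u) [Field K] [Algebra R K]
    [IsFractionRing R K] (hloc : IsLocalRing (integralClosure R K))
    {B : Type u} [CommRing B] [IsDomain B] [Algebra R B] [FaithfulSMul R B] [Algebra.IsIntegral R B]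
    (n : Ideal B) [n.IsPrime] (hn : (n.comap (algebraMap R B)).IsMaximal)
    (p : Ideal R) [p.IsPrime] :
    ∃ q : Ideal B, q.IsPrime ∧ q ≤ n ∧ q.comap (algebraMap R B) = p := by
  let L := FractionRing B
  let R' := integralClosure R K
  let C := integralClosure R L
  have hRL : Function.Injective (Algebra.ofId R L) := by
    have : (Algebra.ofId R L : R → L) = (algebraMap B L) ∘ (algebraMap R B) := by
      funext x
      simp [Algebra.ofId_apply, IsScalarTower.algebraMap_apply R B L]
    rw [this]
    exact (IsFractionRing.injective B L).comp (FaithfulSMul.algebraMap_injective R B)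
  let φ : K →ₐ[R] L := IsFractionRing.liftAlgHom (A := R) (K := K) (g := Algebra.ofId R L) hRL
  let i' : R' →ₐ[R] C := (φ.comp R'.val).codRestrict C (by
    intro x
    exact (x.2 : IsIntegral R (x : K)).map φ)
  let iB : B →ₐ[R] C := (IsScalarTower.toAlgHom R B L).codRestrict C (by
    intro b
    exact (Algebra.IsIntegral.isIntegral (R := R) b).map (IsScalarTower.toAlgHom R B L))
  let algR'C : Algebra R' C := i'.toRingHom.toAlgebra
  let algBC : Algebra B C := iB.toRingHom.toAlgebra
  have : IsScalarTower R R' C := IsScalarTower.of_algebraMap_eq' (by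
    ext x
    exact congrArg Subtype.val (i'.commutes x).symm)
  have : IsScalarTower R B C := IsScalarTower.of_algebraMap_eq' (by
    ext x
    exact congrArg Subtype.val (iB.commutes x).symm)
  have : Algebra.IsIntegral R C := inferInstance
  have : Algebra.IsIntegral R' C := Algebra.IsIntegral.tower_top (R := R)
  have : Algebra.IsIntegral B C := Algebra.IsIntegral.tower_top (R := R)
  have hi'inj : Function.Injective (algebraMap R' C) := by
    intro x y hxy
    have h1 : φ (x : K) = φ (y : K) := congrArg Subtype.val hxy
    exact Subtype.ext (φ.toRingHom.injective h1)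
  have hiBinj : Function.Injective (algebraMap B C) := by
    intro x y hxy
    have h1 : algebraMap B L x = algebraMap B L y := congrArg Subtype.val hxy
    exact IsFractionRing.injective B L h1
  have : FaithfulSMul R' C := (faithfulSMul_iff_algebraMap_injective R' C).mpr hi'inj
  have : IsIntegrallyClosed R' := integralClosure.isIntegrallyClosedOfFiniteExtension K
  have : Algebra.HasGoingDown R' C := inferInstance
  obtain ⟨n', -, hn'prime, hn'⟩ := Ideal.exists_ideal_over_prime_of_isIntegral n (⊥ : Ideal C)
    (by rw [Ideal.comap_bot_of_injective _ hiBinj]; exact bot_le)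
  have hRR'inj : Function.Injective (algebraMap R R') := by
    intro x y hxy
    have h1 : algebraMap R K x = algebraMap R K y := congrArg Subtype.val hxy
    exact IsFractionRing.injective R K h1
  obtain ⟨p', -, hp'prime, hp'⟩ := Ideal.exists_ideal_over_prime_of_isIntegral p (⊥ : Ideal R')
    (by rw [Ideal.comap_bot_of_injective _ hRR'inj]; exact bot_le)
  have hcomapR : (n'.comap (algebraMap R' C)).comap (algebraMap R R') = n.comap (algebraMap R B) := by
    rw [Ideal.comap_comap, ← hn', Ideal.comap_comap, ← IsScalarTower.algebraMap_eq,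
      ← IsScalarTower.algebraMap_eq]
  have : (n'.comap (algebraMap R' C)).IsPrime := Ideal.comap_isPrime _ _
  have hm''max : (n'.comap (algebraMap R' C)).IsMaximal := by
    apply Ideal.isMaximal_of_isIntegral_of_isMaximal_comap (R := R)
    rw [hcomapR]
    exact hn
  have hple : p' ≤ n'.comap (algebraMap R' C) := by
    rw [IsLocalRing.eq_maximalIdeal hm''max]
    exact IsLocalRing.le_maximalIdeal hp'prime.ne_top
  have : n'.LiesOver (n'.comap (algebraMap R' C)) := ⟨rfl⟩
  obtain ⟨P, hPle, hPprime, hPover⟩ :=
    Ideal.exists_ideal_le_liesOver_of_le (p := p') (q := n'.comap (algebraMap R' C)) n' hple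
  refine ⟨P.comap (algebraMap B C), Ideal.comap_isPrime _ _, ?_, ?_⟩
  · rw [← hn']
    exact Ideal.comap_mono hPle
  · have h1 : P.comap (algebraMap R' C) = p' := hPover.over.symm
    rw [Ideal.comap_comap, ← IsScalarTower.algebraMap_eq, IsScalarTower.algebraMap_eq R R' C,
      ← Ideal.comap_comap, h1, hp']


/-- Let A be a unibranch local domain, B a domain containing A and integral over A, and 𝔫 a prime ideal
of B lying over the maximal ideal of A. Then Spec B_𝔫 → Spec A is surjective: for every prime ideal
𝔭 of A there is a prime ideal 𝔮 ⊆ 𝔫 of B with 𝔮 ∩ A = 𝔭. -/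
theorem result {A B : Type u} [CommRing A] [IsDomain A]
    [IsLocalRing A] (hA : CAlg2.IsUnibranch A) [CommRing B] [IsDomain B] [Algebra A B]
    (hinj : Function.Injective (algebraMap A B)) [Algebra.IsIntegral A B] (n : Ideal B) [n.IsPrime]
    (hn : n.comap (algebraMap A B) = IsLocalRing.maximalIdeal A) (p : Ideal A) [p.IsPrime] :
    ∃ q : Ideal B, q.IsPrime ∧ q ≤ n ∧ q.comap (algebraMap A B) = p := by
  have hdom : IsDomain (CAlg2.red A) := hA.1
  have hnil : nilradical A = ⊥ := nilradical_eq_zero A
  let g : CAlg2.red A →+* B := Ideal.Quotient.lift (nilradical A) (algebraMap A B) (by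
    intro a ha
    rw [hnil] at ha
    rw [(Submodule.mem_bot A).mp ha, map_zero])
  let algRB : Algebra (CAlg2.red A) B := g.toAlgebra
  have htower : IsScalarTower A (CAlg2.red A) B := IsScalarTower.of_algebraMap_eq' (by
    ext a
    rfl)
  have hginj : Function.Injective (algebraMap (CAlg2.red A) B) := by
    rw [injective_iff_map_eq_zero]
    intro x hx
    obtain ⟨a, rfl⟩ := Ideal.Quotient.mk_surjective x
    have h1 : algebraMap A B a = 0 := hx
    have h2 : a = 0 := hinj (by rw [h1, map_zero])
    rw [h2, map_zero]
  have hfaith : FaithfulSMul (CAlg2.red A) B := (faithfulSMul_iff_algebraMap_injective _ _).mpr hginj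
  have hint : Algebra.IsIntegral (CAlg2.red A) B := Algebra.IsIntegral.tower_top (R := A)
  have hintq : Algebra.IsIntegral A (CAlg2.red A) :=
    Algebra.isIntegral_of_surjective Ideal.Quotient.mk_surjective
  have hJprime : (n.comap (algebraMap (CAlg2.red A) B)).IsPrime := Ideal.comap_isPrime _ _
  have hJmax : (n.comap (algebraMap (CAlg2.red A) B)).IsMaximal := by
    apply Ideal.isMaximal_of_isIntegral_of_isMaximal_comap (R := A)
    rw [Ideal.comap_comap, ← IsScalarTower.algebraMap_eq, hn]
    infer_instance
  have hker : RingHom.ker (Ideal.Quotient.mk (nilradical A)) ≤ p := by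
    rw [Ideal.mk_ker, hnil]
    exact bot_le
  have hp₀prime : (p.map (Ideal.Quotient.mk (nilradical A))).IsPrime :=
    Ideal.map_isPrime_of_surjective Ideal.Quotient.mk_surjective hker
  obtain ⟨q, hqprime, hqn, hq⟩ := lemmaX (R := CAlg2.red A) (FractionRing (CAlg2.red A)) hA.2 n hJmax
    (p.map (Ideal.Quotient.mk (nilradical A)))
  refine ⟨q, hqprime, hqn, ?_⟩
  have h1 : algebraMap A B = (algebraMap (CAlg2.red A) B).comp (Ideal.Quotient.mk (nilradical A)) :=
    IsScalarTower.algebraMap_eq A (CAlg2.red A) B
  rw [h1, ← Ideal.comap_comap, hq, Ideal.comap_map_of_surjective _ Ideal.Quotient.mk_surjective]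
  rw [← RingHom.ker_eq_comap_bot, sup_eq_left]
  exact hker


end Groth.Agent.S4935
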