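import Groth.Statements.S4939
import Groth.Agent.S3386
import Groth.Agent.S4918
import Groth.Agent.S4934
import Groth.Agent.S4925
import Groth.Agent.S4926
import Groth.Agent.Lib.Helper87.EquidimQFScheme
import Groth.Agent.Lib.Helper87.AffineSpaceSmooth
import Groth.Agent.Lib.Helper87.UnivOpenAtSpecialize

set_option autoImplicit false
open CategoryTheory AlgebraicGeometry
universe u v w
open EGA43

namespace Groth.Agent.S4939

/-- Suppose Y is a locally Noetherian scheme and f : X ⟶ Y is locally of finite type; take a point x of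
X whose image y = f x is geometrically unibranch on Y. Then these three conditions are equivalent:
a) f is equidimensional at x; b) O_{X,x} is an equidimensional local ring, and f is open at every
generic point of an irreducible component of the fibre X_y that contains x; c) O_{X,x} is
equidimensional, and f is universally open at every such generic point of an irreducible component
of X_y passing through x. (Not formalized here is the additional claim that, when these hold,
restricting f to any reduced irreducible component of X through x gives a morphism equidimensional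
at x and universally open at the points of the components of its fibre through x.) -/
theorem result {X Y : Scheme.{u}} [IsLocallyNoetherian Y] (f : X ⟶ Y)
    [LocallyOfFiniteType f] (x : X) (hy : CAlg2.IsGeomUnibranch (Y.presheaf.stalk (f.base x))) :
    List.TFAE [EGA43.IsEquidimAt f x,
      EGA4.IsEquidim (X.presheaf.stalk x) ∧ (∀ z : ↥(f.fiber (f.base x)), f.asFiber x ∈ closure {z} →
        (∀ z' : ↥(f.fiber (f.base x)), z ∈ closure {z'} → z' = z) → EGA43.IsOpenAt f.base ((f.fiberι (f.base x)).base z)),
      EGA4.IsEquidim (X.presheaf.stalk x) ∧ (∀ z : ↥(f.fiber (f.base x)), f.asFiber x ∈ closure {z} →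
        (∀ z' : ↥(f.fiber (f.base x)), z ∈ closure {z'} → z' = z) → EGA43.IsUnivOpenAt f ((f.fiberι (f.base x)).base z))] := by
  open Groth.Agent.Lib.Helper73 Groth.Agent.Lib.Helper87 in
  -- the base local ring is equidimensional
  have hYeq : EGA4.IsEquidim (Y.presheaf.stalk (f.base x)) := by
    have hd : IsDomain (Y.presheaf.stalk (f.base x) ⧸ nilradical (Y.presheaf.stalk (f.base x))) :=
      hy.1.1
    have hprime : (nilradical (Y.presheaf.stalk (f.base x))).IsPrime :=
      (Ideal.Quotient.isDomain_iff_prime _).mp hd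
    intro p hp
    have hpp : p.IsPrime := hp.1.1
    have hpn : p = nilradical (Y.presheaf.stalk (f.base x)) :=
      le_antisymm (hp.2 ⟨hprime, bot_le⟩ (nilradical_le_prime p)) (nilradical_le_prime p)
    rw [hpn, ringKrullDim_quotient]
    have hz : PrimeSpectrum.zeroLocus
        ((nilradical (Y.presheaf.stalk (f.base x)) : Ideal _) : Set (Y.presheaf.stalk (f.base x))) =
        Set.univ := by
      rw [nilradical, PrimeSpectrum.zeroLocus_radical]
      exact PrimeSpectrum.zeroLocus_bot
    rw [hz]
    exact Order.krullDim_eq_of_orderIso OrderIso.Set.univ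
  -- transport of the unibranch hypothesis
  have hycongr : ∀ y' : Y, y' = f.base x → CAlg2.IsGeomUnibranch (Y.presheaf.stalk y') := by
    intro y' h; subst h; exact hy
  -- translation of the fibre conditions
  have htrans : ∀ z : ↥(f.fiber (f.base x)), f.asFiber x ∈ closure {z} →
      (∀ z' : ↥(f.fiber (f.base x)), z ∈ closure {z'} → z' = z) →
      f.base ((f.fiberι (f.base x)).base z) = f.base x ∧ (f.fiberι (f.base x)).base z ⤳ x ∧
      (∀ x' : X, f.base x' = f.base ((f.fiberι (f.base x)).base z) →
        (f.fiberι (f.base x)).base z ∈ closure {x'} → x' = (f.fiberι (f.base x)).base z) := by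
    intro z hz hzmax
    obtain ⟨hfz, hmax⟩ := fiberι_maximal_of_maximal f (f.base x) z
      (fun t ht => hzmax t (specializes_iff_mem_closure.mp ht))
    refine ⟨hfz, ?_, ?_⟩
    · have h1 : z ⤳ f.asFiber x := specializes_iff_mem_closure.mpr hz
      have h2 := h1.map (f.fiberι (f.base x)).continuous
      rwa [f.fiberι_asFiber x] at h2
    · intro x' hx' hcl
      exact hmax x' (specializes_iff_mem_closure.mpr hcl) (hx'.trans hfz)
  tfae_have 2 ↔ 3 := by
    constructor
    · rintro ⟨h1, h2⟩
      refine ⟨h1, fun z hz hzmax => ?_⟩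
      obtain ⟨hfz, hzx, hmax⟩ := htrans z hz hzmax
      exact ((Groth.Agent.S4934.result f _ hmax (hycongr _ hfz)).out 3 0).mp (h2 z hz hzmax)
    · rintro ⟨h1, h2⟩
      refine ⟨h1, fun z hz hzmax => ?_⟩
      obtain ⟨hfz, hzx, hmax⟩ := htrans z hz hzmax
      exact ((Groth.Agent.S4934.result f _ hmax (hycongr _ hfz)).out 0 3).mp (h2 z hz hzmax)
  tfae_have 2 → 1 := fun ⟨h1, h2⟩ => Groth.Agent.S4918.result f x h1 hYeq h2
  tfae_have 1 → 3 := by
    intro h
    obtain ⟨e, U, g, hxU, hgover, hgQF, hcomp⟩ := (Groth.Agent.S3386.result f x).1 h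
    have := hgQF
    have hLN : IsLocallyNoetherian 𝔸(ULift.{u} (Fin e); Y) :=
      LocallyOfFiniteType.isLocallyNoetherian (𝔸(ULift.{u} (Fin e); Y) ↘ Y)
    have hglft : LocallyOfFiniteType g := by
      have : LocallyOfFiniteType (g ≫ (𝔸(ULift.{u} (Fin e); Y) ↘ Y)) := by
        rw [hgover]; infer_instance
      exact locallyOfFiniteType_of_comp g (𝔸(ULift.{u} (Fin e); Y) ↘ Y)
    have hdom : ∀ ξ ∈ genericPoints ↥(U : Scheme.{u}),
        g ξ ∈ genericPoints ↥𝔸(ULift.{u} (Fin e); Y) := by
      intro ξ hξ
      have h1 := hcomp (closure {ξ}) hξ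
      have h2 := Groth.Agent.Lib.Helper73.closure_image_closure_singleton g ξ
      show closure {g ξ} ∈ irreducibleComponents _
      exact h2 ▸ h1
    -- geometric unibranchness of the affine space at points over `f x`
    have hT : ∀ u : ↥(U : Scheme.{u}), f.base (U.ι.base u) = f.base x →
        CAlg2.IsGeomUnibranch ((𝔸(ULift.{u} (Fin e); Y)).presheaf.stalk (g.base u)) := by
      intro u hu
      apply AffineSpaceSmooth.isGeomUnibranch_stalk_affineSpace
      apply hycongr
      rw [← hu, ← Scheme.Hom.comp_apply, ← Scheme.Hom.comp_apply, hgover]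
    refine ⟨?_, ?_⟩
    · have h1 := EquidimQFScheme.isEquidim_stalk_of_locallyQuasiFinite g hdom ⟨x, hxU⟩
        (hT ⟨x, hxU⟩ rfl)
      exact isEquidim_stalk_of_isOpenImmersion U.ι ⟨x, hxU⟩ h1
    · intro z hz hzmax
      obtain ⟨hfz, hzx, hmax⟩ := htrans z hz hzmax
      have hζU : (f.fiberι (f.base x)).base z ∈ U := hzx.mem_open U.isOpen hxU
      let ζU : ↥(U : Scheme.{u}) := ⟨(f.fiberι (f.base x)).base z, hζU⟩
      have h1 : EGA43.IsUnivOpenAt g ζU :=
        UnivOpenAtQF.isUnivOpenAt_of_locallyQuasiFinite g hdom ζU (hT ζU hfz)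
      have h2 : EGA43.IsUnivOpenAt (𝔸(ULift.{u} (Fin e); Y) ↘ Y) (g.base ζU) :=
        UnivOpenAtSpecialize.isUnivOpenAt_of_universallyOpen' _ _
      have h3 := Groth.Agent.S4925.result g (𝔸(ULift.{u} (Fin e); Y) ↘ Y) ζU h1 h2
      rw [hgover] at h3
      exact Groth.Agent.S4926.result U.ι f ζU h3
  tfae_finish

end Groth.Agent.S4939
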