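import Groth.Statements.S4943
import Groth.Agent.Lib.Helper73.DimFormula.CutEquidim

set_option autoImplicit false
open CategoryTheory AlgebraicGeometry
universe u v w
open EGA43

namespace Groth.Agent.S4943

/-- Let Y be an irreducible locally Noetherian scheme, f : X ⟶ Y a morphism locally of finite type which
is equidimensional at the point x, y = f x and e = dim_x(X_y). Let X' be an irreducible closed
subset of X containing x, with generic point x', and n a natural number such that codim(X', X) ≤ n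
(the codimension being dim O_{X,x'}) and dim_x(X' ∩ X_y) ≤ e − n. Then codim(X', X) = n, dim_x(X' ∩
X_y) = e − n, and the restriction of f to X' with its reduced subscheme structure is equidimensional
at x. -/
theorem result {X Y : Scheme.{u}} [IrreducibleSpace Y]
    [IsLocallyNoetherian Y] (f : X ⟶ Y) [LocallyOfFiniteType f] (x : X) (hf : EGA43.IsEquidimAt f x)
    (X' : TopologicalSpace.Closeds X) (x' : X) (hx' : closure ({x'} : Set X) = (X' : Set X)) (hx : x ∈ X') (n : ℕ)
    (hcodim : ringKrullDim (X.presheaf.stalk x') ≤ n)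
    (hdim : FlatMor.localDim ↥((X' : Set X) ∩ f.base ⁻¹' {f.base x}) ⟨x, ⟨hx, rfl⟩⟩ + n ≤ FlatMor.fibreDimAt f x) :
    ringKrullDim (X.presheaf.stalk x') = n ∧
      FlatMor.localDim ↥((X' : Set X) ∩ f.base ⁻¹' {f.base x}) ⟨x, ⟨hx, rfl⟩⟩ + n = FlatMor.fibreDimAt f x ∧
      ∀ w : ↥(Scheme.IdealSheafData.vanishingIdeal X').subscheme,
        (Scheme.IdealSheafData.vanishingIdeal X').subschemeι.base w = x →
        EGA43.IsEquidimAt ((Scheme.IdealSheafData.vanishingIdeal X').subschemeι ≫ f) w := by
  open Groth.Agent.Lib.Helper73 in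
  have hLN : IsLocallyNoetherian X := LocallyOfFiniteType.isLocallyNoetherian f
  obtain ⟨X's, hX'c⟩ := X'
  change closure ({x'} : Set X) = X's at hx'
  subst hx'
  have hrange : Set.range (Scheme.IdealSheafData.vanishingIdeal
      (⟨closure {x'}, hX'c⟩ : TopologicalSpace.Closeds X)).subschemeι = closure ({x'} : Set X) := by
    rw [Scheme.IdealSheafData.range_subschemeι]
    exact Scheme.IdealSheafData.coe_support_vanishingIdeal _
  have hx'x : x' ⤳ x := specializes_iff_mem_closure.mpr hx
  have hxr : x ∈ Set.range (Scheme.IdealSheafData.vanishingIdeal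
      (⟨closure {x'}, hX'c⟩ : TopologicalSpace.Closeds X)).subschemeι := by
    rw [hrange]; exact hx
  obtain ⟨w₀, hw₀⟩ := hxr
  subst hw₀
  have hloc := localDim_interFiber_eq_fibreDimAt_comp f x' _ hrange w₀ ⟨hx, rfl⟩
  have hloc' : FlatMor.localDim ↥(((⟨closure {x'}, hX'c⟩ : TopologicalSpace.Closeds X) : Set X) ∩
      f.base ⁻¹' {f.base ((Scheme.IdealSheafData.vanishingIdeal
      (⟨closure {x'}, hX'c⟩ : TopologicalSpace.Closeds X)).subschemeι w₀)}) ⟨_, ⟨hx, rfl⟩⟩ =
      FlatMor.fibreDimAt ((Scheme.IdealSheafData.vanishingIdeal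
      (⟨closure {x'}, hX'c⟩ : TopologicalSpace.Closeds X)).subschemeι ≫ f) w₀ := hloc
  rw [hloc'] at hdim ⊢
  obtain ⟨h1, h2, h3⟩ := equidim_closure_of_codim_le f _ hf x' hx'x _ hrange w₀ rfl n hcodim hdim
  refine ⟨h1, h2, ?_⟩
  intro w hw
  have : w = w₀ := (Scheme.IdealSheafData.vanishingIdeal
      (⟨closure {x'}, hX'c⟩ : TopologicalSpace.Closeds X)).subschemeι.isEmbedding.injective hw
  rw [this]
  exact h3

end Groth.Agent.S4943
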