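import Groth.Statements.S4945
import Groth.Agent.Lib.Helper87.ChevalleyFibre

set_option autoImplicit false
open CategoryTheory AlgebraicGeometry
universe u v w
open EGA43

namespace Groth.Agent.S4945

/-- Let Y be an irreducible locally Noetherian scheme with generic point η, f : X ⟶ Y a morphism locally
of finite type and y a geometrically unibranch point of Y. The following are equivalent: a) f is
universally open at every point of X_y; b) f is open at every point of X_y; c) for every maximal
point z of X_y there is an irreducible component Z of X containing z and dominating Y with dim_z(Z ∩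
X_y) = dim(Z ∩ X_η); d) for every point x closed in X_y there are an irreducible reduced scheme T
and an immersion T ⟶ X with image containing x such that T ⟶ Y is quasi-finite and dominant. -/
theorem result {X Y : Scheme.{u}} [IrreducibleSpace Y]
    [IsLocallyNoetherian Y] (f : X ⟶ Y) [LocallyOfFiniteType f] (y : Y) (hy : CAlg2.IsGeomUnibranch (Y.presheaf.stalk y)) :
    List.TFAE [∀ x : X, f.base x = y → EGA43.IsUnivOpenAt f x,
      ∀ x : X, f.base x = y → EGA43.IsOpenAt f.base x,
      ∀ z : X, ∀ hzy : f.base z = y, (∀ z' : X, f.base z' = y → z ∈ closure {z'} → z' = z) →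
        ∃ Z ∈ irreducibleComponents (X : Type u), ∃ hz : z ∈ Z, Dense (f.base '' Z) ∧
          FlatMor.localDim ↥(Z ∩ f.base ⁻¹' {y}) ⟨z, ⟨hz, hzy⟩⟩ = topologicalKrullDim ↥(Z ∩ f.base ⁻¹' {genericPoint Y}),
      ∀ x : X, f.base x = y → (∀ x' : X, f.base x' = y → x ⤳ x' → x' = x) →
        ∃ (T : Scheme.{u}) (i : T ⟶ X), IsImmersion i ∧ IrreducibleSpace ↥T ∧ IsReduced T ∧ x ∈ Set.range i.base ∧
        LocallyOfFiniteType (i ≫ f) ∧ LocallyQuasiFinite (i ≫ f) ∧ QuasiCompact (i ≫ f) ∧ IsDominant (i ≫ f)] := by
  open Groth.Agent.Lib.Helper73 Groth.Agent.Lib.Helper87.ChevalleyPointwise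
    Groth.Agent.Lib.Helper87.UnivOpenAtSpecialize Groth.Agent.Lib.Helper87.ChevalleyFibre in
  tfae_have 1 → 2 := fun h x hx =>
    Groth.Agent.Lib.Helper80.UnivOpenAt.isOpenAt_of_isPullback (h x hx)
      (IsPullback.of_id_fst (f := f)) x rfl
  tfae_have 2 → 3 := by
    intro h z hzy hzmax
    subst hzy
    have hG := hasGoodGenerization_of_isOpenAt f z hzmax (h z rfl)
    obtain ⟨Z, hZ, hz, hcl, hdim⟩ := component_of_hasGoodGenerization f z hzmax hy hG Set.univ
      (by rw [irreducibleComponents_eq_singleton]; rfl) trivial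
    exact ⟨Z, hZ, hz, dense_iff_closure_eq.mpr hcl,
      hdim (genericPoint Y) (genericPoint_spec Y).def⟩
  tfae_have 3 → 1 := by
    intro h x hx
    obtain ⟨z, hzx, hfz, hzmax⟩ := exists_fiber_maximal_generization f x
    refine isUnivOpenAt_of_specializes hzx hfz ?_
    have hzy : f.base z = y := hfz.trans hx
    subst hzy
    have hmax : ∀ x' : X, f.base x' = f.base z → z ∈ closure {x'} → x' = z :=
      fun t hft ht => hzmax t (specializes_iff_mem_closure.mpr ht) hft
    obtain ⟨Z, hZ, hz, hdense, hdim⟩ := h z rfl hmax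
    have hcomp : ∀ Y₀ ∈ irreducibleComponents (Y : Type u), f.base z ∈ Y₀ →
        ∃ Z ∈ irreducibleComponents (X : Type u), ∃ hx : z ∈ Z, closure (f.base '' Z) = Y₀ ∧
          ∀ η : Y, closure ({η} : Set Y) = Y₀ →
            FlatMor.localDim ↥(Z ∩ f.base ⁻¹' {f.base z}) ⟨z, ⟨hx, rfl⟩⟩ =
              topologicalKrullDim ↥(Z ∩ f.base ⁻¹' {η}) := by
      intro Y₀ hY₀ _
      rw [irreducibleComponents_eq_singleton] at hY₀
      have hY₀' : Y₀ = Set.univ := hY₀
      subst hY₀'
      refine ⟨Z, hZ, hz, hdense.closure_eq, ?_⟩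
      intro η hη
      have hη' : IsGenericPoint η (Set.univ : Set Y) := hη
      have : η = genericPoint Y := hη'.eq (genericPoint_spec Y)
      rw [this]
      exact hdim
    have hG := hasGoodGenerization_of_component f z hmax hcomp
    obtain ⟨c⟩ := exists_chart f z hmax
    exact c.isUnivOpenAt hy hG rfl
  tfae_have 2 → 4 := by
    intro h x hx hcl
    subst hx
    apply hasQuasiSection_of_hasGoodGenerization f x (fun x' h1 h2 => hcl x' h1 h2)
    intro z hzx hfz hzmax
    exact hasGoodGenerization_of_isOpenAt f z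
      (fun t hft ht => hzmax t (specializes_iff_mem_closure.mpr ht) hft) (h z hfz)
  tfae_have 4 → 1 := by
    intro h
    apply isUnivOpenAt_of_forall_closed f y
    intro x hx hcl
    obtain ⟨T, i, h1, h2, h3, ⟨t, ht⟩, h5, h6, h7, h8⟩ := h x hx hcl
    subst ht
    subst hx
    exact isUnivOpenAt_of_quasiSection f i t hy
  tfae_finish

end Groth.Agent.S4945
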