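import Groth.Statements.S4946
import Groth.Agent.Lib.Helper73.DimFormula.QuasiSectionDimOne

set_option autoImplicit false
open CategoryTheory AlgebraicGeometry
universe u v w
open EGA43

namespace Groth.Agent.S4946

/-- Let Y be an irreducible locally Noetherian scheme which is regular of dimension 1 (all local rings
regular of dimension at most 1), f : X ⟶ Y a morphism locally of finite type and y a point of Y.
Then the following are equivalent: d) every irreducible component of X meeting the fibre X_y
dominates Y; e) for every point x closed in X_y and every irreducible component X_i of X containing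
x, there are an irreducible reduced scheme T and an immersion T ⟶ X with image containing x and
contained in X_i, such that T ⟶ Y is quasi-finite and dominant. -/
theorem result {X Y : Scheme.{u}} [IrreducibleSpace Y]
    [IsLocallyNoetherian Y] (hY : ∀ y : Y, IsRegularLocalRing (Y.presheaf.stalk y) ∧ ringKrullDim (Y.presheaf.stalk y) ≤ 1)
    (f : X ⟶ Y) [LocallyOfFiniteType f] (y : Y) :
    (∀ Z ∈ irreducibleComponents (X : Type u), (Z ∩ f.base ⁻¹' {y}).Nonempty → Dense (f.base '' Z)) ↔
      ∀ x : X, f.base x = y → (∀ x' : X, f.base x' = y → x ⤳ x' → x' = x) →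
        ∀ Xi ∈ irreducibleComponents (X : Type u), x ∈ Xi →
          ∃ (T : Scheme.{u}) (i : T ⟶ X), IsImmersion i ∧ IrreducibleSpace ↥T ∧ IsReduced T ∧ x ∈ Set.range i.base ∧
            Set.range i.base ⊆ Xi ∧
            LocallyOfFiniteType (i ≫ f) ∧ LocallyQuasiFinite (i ≫ f) ∧ QuasiCompact (i ≫ f) ∧ IsDominant (i ≫ f) := by
  open Groth.Agent.Lib.Helper73 in
  constructor
  · intro hd x hfx hcl Xi hXi hxXi
    have hdense : Dense (f '' Xi) := hd Xi hXi ⟨x, hxXi, hfx⟩
    obtain ⟨ξ, hξXi, hξmax⟩ := exists_maximal_of_mem_irreducibleComponents Xi hXi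
    have hfξ : f ξ = genericPoint Y := by
      have h1 : closure ({f ξ} : Set Y) = Set.univ := by
        rw [← closure_image_closure_singleton, hξXi]
        exact hdense.closure_eq
      have h2 : f ξ ⤳ genericPoint Y := by
        rw [specializes_iff_mem_closure, h1]; trivial
      exact (h2.antisymm (genericPoint_specializes (f ξ))).eq
    let Z₀ : TopologicalSpace.Closeds X := ⟨closure {ξ}, isClosed_closure⟩
    let I₀ := Scheme.IdealSheafData.vanishingIdeal Z₀
    have hrange : Set.range I₀.subschemeι = closure ({ξ} : Set X) := by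
      rw [Scheme.IdealSheafData.range_subschemeι]
      exact Scheme.IdealSheafData.coe_support_vanishingIdeal _
    have hxr : x ∈ Set.range I₀.subschemeι := by
      rw [hrange, hξXi]; exact hxXi
    obtain ⟨w, hw⟩ := hxr
    obtain ⟨ξ'', hξ'', hgen⟩ := exists_generic_of_range_eq_closure I₀.subschemeι ξ hrange
    have hgξ : (I₀.subschemeι ≫ f) ξ'' = genericPoint Y := by
      change f (I₀.subschemeι ξ'') = _
      rw [hξ'', hfξ]
    have hfw : EGA43.IsEquidimAt (I₀.subschemeι ≫ f) w :=
      isEquidimAt_of_generic_of_dim_le_one (fun y => (hY y).2) (I₀.subschemeι ≫ f) ξ'' hgen hgξ w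
    have hclw : ∀ w' : ↥I₀.subscheme, (I₀.subschemeι ≫ f) w' = (I₀.subschemeι ≫ f) w →
        w ⤳ w' → w' = w := by
      intro w' hfw' hww'
      apply I₀.subschemeι.isEmbedding.injective
      rw [hw]
      apply hcl
      · have : f (I₀.subschemeι w') = f (I₀.subschemeι w) := hfw'
        rw [this, hw, hfx]
      · have := hww'.map I₀.subschemeι.continuous
        rwa [hw] at this
    obtain ⟨d, hd'⟩ := exists_fibreDimAt_eq_natCast (I₀.subschemeι ≫ f) w
    obtain ⟨T, i, h1, h2, h3, ⟨t, ht⟩, h5, h6, h7, h8⟩ :=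
      hasQuasiSection_of_fibreDimAt_le d _ (I₀.subschemeι ≫ f) w hfw hclw hd'.le
    refine ⟨T, i ≫ I₀.subschemeι, inferInstance, h2, h3, ⟨t, ?_⟩, ?_, ?_, ?_, ?_, ?_⟩
    · change I₀.subschemeι (i t) = x
      rw [show i t = w from ht, hw]
    · rintro _ ⟨t', rfl⟩
      rw [← hξXi, ← hrange]
      exact ⟨i t', rfl⟩
    · rw [Category.assoc]; exact h5
    · rw [Category.assoc]; exact h6
    · rw [Category.assoc]; exact h7
    · rw [Category.assoc]; exact h8
  · intro he Z hZ hne
    have hZc : IsClosed Z := isClosed_of_mem_irreducibleComponents Z hZ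
    obtain ⟨x, hxZ, hfx, hcl⟩ := exists_closed_in_fiber_of_isClosed f y Z hZc hne
    obtain ⟨T, i, -, -, -, -, hsub, -, -, -, hdom⟩ := he x hfx hcl Z hZ hxZ
    have hd : DenseRange (i ≫ f) := hdom.1
    have hd' : Dense (Set.range (i ≫ f)) := hd
    apply hd'.mono
    rintro _ ⟨t, rfl⟩
    exact ⟨i t, hsub ⟨t, rfl⟩, rfl⟩

end Groth.Agent.S4946
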