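import Groth.Statements.S4947
import Groth.Agent.Lib.Helper59.OrdVal

set_option autoImplicit false
universe u
open EGA43

namespace Groth.Agent.S4947

/-- Let A be a regular local ring which is not a field, K its fraction field and k its residue field.
Then there is a discrete valuation ring V between A and K, with fraction field K, dominating A,
whose residue field is a purely transcendental extension of k: for some ring map from k compatible
with A → V there is an algebraically independent family generating the residue field of V as a field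
over k. -/
theorem result (A : Type u) [CommRing A] [IsRegularLocalRing A]
    (hA : ¬ IsField A) :
    ∃ (V : Subalgebra A (FractionRing A)) (_ : IsDomain V) (_ : IsDiscreteValuationRing V), IsFractionRing V (FractionRing A) ∧
      (IsLocalRing.maximalIdeal V).comap (algebraMap A V) = IsLocalRing.maximalIdeal A ∧
      ∃ (φ : IsLocalRing.ResidueField A →+* IsLocalRing.ResidueField V),
        φ.comp (IsLocalRing.residue A) = (IsLocalRing.residue V).comp (algebraMap A V) ∧
        letI := φ.toAlgebra
        ∃ (ι : Type u) (t : ι → IsLocalRing.ResidueField V), AlgebraicIndependent (IsLocalRing.ResidueField A) t ∧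
          IntermediateField.adjoin (IsLocalRing.ResidueField A) (Set.range t) = ⊤ := by
  classical
  haveI : IsDomain A := Groth.Agent.Lib.Helper76.isDomain_of_isRegularLocalRing A
  -- generators of the maximal ideal
  have hfg : (IsLocalRing.maximalIdeal A).FG := IsNoetherian.noetherian _
  obtain ⟨s, hscard, hsspan⟩ := Submodule.FG.exists_span_finset_card_eq_spanFinrank hfg
  have hdim : ringKrullDim A = ((IsLocalRing.maximalIdeal A).spanFinrank : ℕ) :=
    (IsRegularLocalRing.spanFinrank_maximalIdeal (R := A)).symm
  obtain ⟨d, hd⟩ : ∃ d, (IsLocalRing.maximalIdeal A).spanFinrank = d + 1 := by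
    refine Nat.exists_eq_succ_of_ne_zero fun h0 => hA ?_
    rw [Submodule.spanFinrank_eq_zero_iff_eq_bot hfg] at h0
    exact IsLocalRing.isField_iff_maximalIdeal_eq.2 h0
  rw [hd] at hscard hdim
  let e : s ≃ Fin (d + 1) := s.equivFinOfCardEq hscard
  let x : Fin (d + 1) → A := fun i => (e.symm i).val
  have hxrange : Set.range x = (s : Set A) := by
    ext a
    constructor
    · rintro ⟨i, rfl⟩; exact (e.symm i).2
    · intro ha; exact ⟨e ⟨a, ha⟩, by simp [x]⟩
  have hx : Ideal.span (Set.range x) = IsLocalRing.maximalIdeal A := by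
    rw [hxrange]; exact hsspan
  have hreg := Groth.Agent.Lib.Helper76.isRegular_of_span_range_eq_maximalIdeal A (d + 1)
    (by exact_mod_cast hdim) x hx
  let y : Fin (d + 1) → A := fun i => x (Fin.rev i)
  have hyrange : Set.range y = Set.range x := by
    ext a
    constructor
    · rintro ⟨i, rfl⟩; exact ⟨Fin.rev i, rfl⟩
    · rintro ⟨i, rfl⟩; exact ⟨Fin.rev i, by simp [y]⟩
  have hy : Ideal.span (Set.range y) = IsLocalRing.maximalIdeal A := by rw [hyrange, hx]
  have hrev : Groth.Agent.Lib.Helper59.QuasiReg.RevReg y :=
    Groth.Agent.Lib.Helper59.OrdVal.revReg_rev x hreg.toIsWeaklyRegular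
  have hyp : Groth.Agent.Lib.Helper59.OrdVal.Hyp y := by
    refine ⟨hy, fun n F hF hmem => ?_, fun a ha => ?_⟩
    · have := Groth.Agent.Lib.Helper59.QuasiReg.quasiRegular y hrev n F hF (by rw [hy]; exact hmem)
      rwa [hy] at this
    · by_contra hall
      push Not at hall
      apply ha
      have hbot := Ideal.iInf_pow_eq_bot_of_isLocalRing (IsLocalRing.maximalIdeal A)
        (IsLocalRing.maximalIdeal.isMaximal A).ne_top
      rw [← Ideal.mem_bot, ← hbot, Ideal.mem_iInf]
      intro i
      exact Ideal.pow_le_pow_right (Nat.le_succ i) (hall i)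
  let K := FractionRing A
  have hDVR := Groth.Agent.Lib.Helper59.OrdVal.isDiscreteValuationRing_VV K hyp
  refine ⟨Groth.Agent.Lib.Helper59.OrdVal.VV K y, inferInstance, hDVR,
    Groth.Agent.Lib.Helper59.OrdVal.isFractionRing_VV K,
    Groth.Agent.Lib.Helper59.OrdVal.comap_maximalIdeal K hyp, ?_⟩
  haveI := Groth.Agent.Lib.Helper59.OrdVal.isLocalHom_algebraMap K hyp
  refine ⟨IsLocalRing.ResidueField.map (algebraMap A (Groth.Agent.Lib.Helper59.OrdVal.VV K y)),
    rfl, ?_⟩
  exact Groth.Agent.Lib.Helper59.OrdVal.exists_transcendence_basis K hyp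

end Groth.Agent.S4947
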