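import Groth.Statements.S4948
import Groth.Agent.Lib.Helper41.FlatDvrSch
import Groth.Agent.Lib.Helper41.UnivOpenComp

set_option autoImplicit false
open CategoryTheory AlgebraicGeometry
universe u v w
open EGA43

namespace Groth.Agent.S4948

/-- Consider a discrete valuation ring A and set Y = Spec A, whose closed point is y. Given a morphism f
: X ⟶ Y that is locally of finite type, and a point x lying in the fibre X_y, assume two things:
first, f is open at each generic point of an irreducible component of X_y passing through x; second,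
X_y is reduced at x (that is, the local ring of the fibre at x is reduced). Under these assumptions
f is flat at x. -/
theorem result {A : Type u} [CommRing A] [IsDomain A]
    [IsDiscreteValuationRing A] {X : Scheme.{u}} (f : X ⟶ Spec (CommRingCat.of A)) [LocallyOfFiniteType f] (x : X)
    (hx : f.base x = IsLocalRing.closedPoint A)
    (h : ∀ z : ↥(f.fiber (f.base x)), f.asFiber x ∈ closure {z} →
      (∀ z' : ↥(f.fiber (f.base x)), z ∈ closure {z'} → z' = z) → EGA43.IsOpenAt f.base ((f.fiberι (f.base x)).base z))
    (hred : _root_.IsReduced ((f.fiber (f.base x)).presheaf.stalk (f.asFiber x))) :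
    (f.stalkMap x).hom.Flat := by
  open Groth.Agent.Lib.Helper41.FlatDvrSch in
  haveI : IsLocallyNoetherian X := LocallyOfFiniteType.isLocallyNoetherian f
  obtain ⟨hdom, hdvr⟩ := isDiscreteValuationRing_stalk A (f.base x) hx
  haveI := hdom
  haveI := hdvr
  refine flat_stalkMap_of_dvr f x hred ?_
  intro z' hz'x hfz' hmax
  have hz'mem : z' ∈ Set.range (f.fiberι (f.base x)).base := by
    rw [Scheme.Hom.range_fiberι]; exact hfz'
  obtain ⟨z, rfl⟩ := hz'mem
  have hemb := (f.fiberι (f.base x)).isEmbedding
  have hfib : ∀ t : ↥(f.fiber (f.base x)), f.base ((f.fiberι (f.base x)).base t) = f.base x := by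
    intro t
    have : (f.fiberι (f.base x)).base t ∈ Set.range (f.fiberι (f.base x)).base := ⟨t, rfl⟩
    rw [Scheme.Hom.range_fiberι] at this
    exact this
  have hopen := h z (by
      rw [← specializes_iff_mem_closure, ← hemb.isInducing.specializes_iff, f.fiberι_asFiber]
      exact hz'x) (by
      intro z₂ hz₂
      have h1 : z₂ ⤳ z := specializes_iff_mem_closure.2 hz₂
      exact hemb.injective (hmax _ (h1.map (f.fiberι _).continuous) (hfib z₂)))
  let η : PrimeSpectrum A := ⟨⊥, Ideal.isPrime_bot⟩
  have hη : (show ↥(Spec (CommRingCat.of A)) from η) ⤳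
      f.base ((f.fiberι (f.base x)).base z) := by
    rw [hfz', hx]; exact IsLocalRing.specializes_closedPoint _
  obtain ⟨w, hw, hfw⟩ := (Groth.Agent.S3404.result f _).1 hopen η hη
  refine ⟨w, hw, ?_⟩
  rw [hfw, hx]
  exact Groth.Agent.Lib.Helper41.UnivOpenComp.bot_ne_closedPoint η rfl

end Groth.Agent.S4948
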