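import Groth.Statements.S4951
-- import your own Groth.Agent.* helpers here

set_option autoImplicit false
universe u
open EGA43

namespace Groth.Agent.S4951

/-- In a quasi-sober space, a point in the closure of an open set `V`, having a Noetherian
neighbourhood, is a specialization of a point of `V`. -/
theorem exists_specializes_of_mem_closure {X : Type u} [TopologicalSpace X] [QuasiSober X]
    {z : X} (hloc : ∃ N ∈ nhds z, TopologicalSpace.NoetherianSpace ↥N)
    {V : Set X} (hV : IsOpen V) (hz : z ∈ closure V) : ∃ η ∈ V, η ⤳ z := by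
  obtain ⟨N, hN, hNoeth⟩ := hloc
  set O := interior N with hO
  have hOopen : IsOpen O := isOpen_interior
  have hzO : z ∈ O := mem_interior_iff_mem_nhds.mpr hN
  set W := V ∩ O with hW
  have hWopen : IsOpen W := hV.inter hOopen
  have hWN : W ⊆ N := fun x hx => interior_subset hx.2
  have : TopologicalSpace.NoetherianSpace ↥W := TopologicalSpace.NoetherianSpace.of_subset hWN
  have hzW : z ∈ closure W := by
    rw [mem_closure_iff]
    intro U hU hzU
    obtain ⟨y, ⟨hyU, hyO⟩, hyV⟩ := mem_closure_iff.mp hz (U ∩ O) (hU.inter hOopen) ⟨hzU, hzO⟩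
    exact ⟨y, hyU, hyV, hyO⟩
  obtain ⟨S, hSf, -, hSi, hSU⟩ :=
    TopologicalSpace.NoetherianSpace.exists_finite_set_isClosed_irreducible
      (isClosed_univ (X := ↥W))
  have hWeq : W = ⋃ t ∈ S, Subtype.val '' t := by
    ext x
    simp only [Set.mem_iUnion, Set.mem_image, Subtype.exists, exists_and_right, exists_eq_right,
      exists_prop]
    constructor
    · intro hx
      have : (⟨x, hx⟩ : ↥W) ∈ ⋃₀ S := hSU ▸ Set.mem_univ _
      obtain ⟨t, ht, hxt⟩ := this
      exact ⟨t, ht, hx, hxt⟩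
    · rintro ⟨t, -, hx, -⟩
      exact hx
  rw [hWeq, hSf.closure_biUnion] at hzW
  simp only [Set.mem_iUnion, exists_prop] at hzW
  obtain ⟨t, ht, hzt⟩ := hzW
  have hirr : IsIrreducible (closure (Subtype.val '' t : Set X)) :=
    ((hSi t ht).image _ continuous_subtype_val.continuousOn).closure
  obtain ⟨η, hη⟩ := QuasiSober.sober hirr isClosed_closure
  refine ⟨η, ?_, hη.specializes hzt⟩
  have hηW : η ∈ W := by
    rw [hη.mem_open_set_iff hWopen]
    obtain ⟨y, hy⟩ := (hSi t ht).nonempty
    exact ⟨y.1, subset_closure ⟨y, hy, rfl⟩, y.2⟩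
  exact hηW.1

/-- In a quasi-sober T0 space, a nonempty closed subset has a point none of whose proper
generizations lies in the subset. -/
theorem exists_maximal_point {X : Type u} [TopologicalSpace X] [QuasiSober X] [T0Space X]
    {T : Set X} (hT : IsClosed T) (hne : T.Nonempty) :
    ∃ z ∈ T, ∀ x' ∈ T, x' ⤳ z → x' = z := by
  obtain ⟨z₀, hz₀⟩ := hne
  have : QuasiSober ↥T := hT.isClosedEmbedding_subtypeVal.quasiSober
  obtain ⟨z, hz⟩ := QuasiSober.sober (isIrreducible_irreducibleComponent (x := (⟨z₀, hz₀⟩ : ↥T)))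
    isClosed_irreducibleComponent
  refine ⟨z.1, z.2, ?_⟩
  intro x' hx' hsp
  have hsp' : (⟨x', hx'⟩ : ↥T) ⤳ z := by
    exact (Topology.IsInducing.subtypeVal.specializes_iff (x := (⟨x', hx'⟩ : ↥T)) (y := z)).mp hsp
  have hsub : irreducibleComponent (⟨z₀, hz₀⟩ : ↥T) ⊆ closure {(⟨x', hx'⟩ : ↥T)} := by
    rw [← hz.def]
    exact closure_minimal (Set.singleton_subset_iff.mpr (specializes_iff_mem_closure.mp hsp'))
      isClosed_closure
  have heq := eq_irreducibleComponent (isIrreducible_singleton.closure).isPreirreducible hsub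
  have hmem : (⟨x', hx'⟩ : ↥T) ∈ closure {z} := by
    rw [hz.def, ← heq]
    exact subset_closure (Set.mem_singleton _)
  have hsp'' : z ⤳ (⟨x', hx'⟩ : ↥T) := specializes_iff_mem_closure.mpr hmem
  have := (hsp'.antisymm hsp'').eq
  exact congrArg Subtype.val this


/-- Let X be a locally Noetherian topological space in which every irreducible closed subset has a
unique generic point (X quasi-sober and T₀), and Z a closed nowhere dense subset of X such that for
every point x of Z the set of generizations of x distinct from x is connected (possibly empty). If X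
is connected, then X − Z is connected. (Uniqueness of generic points, automatic for the underlying
space of a scheme, is needed: in the four-point space {u, v, z₁, z₂} whose open sets are ∅, {u},
{v}, {u, v} and the whole space, the closed nowhere dense set Z = {z₁, z₂} satisfies the hypothesis,
since z₂ is a generization of z₁ and conversely, yet X − Z = {u, v} is not connected.) -/
theorem result {X : Type u} [TopologicalSpace X]
    [QuasiSober X] [T0Space X] (hloc : ∀ x : X, ∃ U ∈ nhds x, TopologicalSpace.NoetherianSpace ↥U) [ConnectedSpace X]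
    (Z : Set X) (hZ : IsClosed Z) (hZn : IsNowhereDense Z)
    (hgen : ∀ x ∈ Z, IsPreconnected ({x' : X | x' ⤳ x} \ {x})) :
    IsConnected Zᶜ := by
  have hdense : Dense Zᶜ := by
    rw [← interior_eq_empty_iff_dense_compl]
    have := hZn
    rw [IsNowhereDense, hZ.closure_eq] at this
    exact this
  obtain ⟨x₀⟩ : Nonempty X := ConnectedSpace.toNonempty
  refine ⟨hdense.nonempty, ?_⟩
  intro u v hu hv huv hnu hnv
  by_contra hcon
  rw [Set.not_nonempty_iff_eq_empty] at hcon
  set U₁ := Zᶜ ∩ u with hU₁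
  set U₂ := Zᶜ ∩ v with hU₂
  have hU₁o : IsOpen U₁ := hZ.isOpen_compl.inter hu
  have hU₂o : IsOpen U₂ := hZ.isOpen_compl.inter hv
  have hdisj : U₁ ∩ U₂ = ∅ := by
    rw [← hcon]
    ext x
    simp only [hU₁, hU₂, Set.mem_inter_iff]
    tauto
  have hcover : Zᶜ ⊆ U₁ ∪ U₂ := by
    intro x hx
    rcases huv hx with h | h
    · exact Or.inl ⟨hx, h⟩
    · exact Or.inr ⟨hx, h⟩
  have hcl : closure U₁ ∪ closure U₂ = Set.univ := by
    rw [← closure_union, ← Set.univ_subset_iff, ← hdense.closure_eq]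
    exact closure_mono hcover
  have hd12 : Disjoint U₁ (closure U₂) := by
    rw [Set.disjoint_iff_inter_eq_empty]
    by_contra hne
    obtain ⟨x, hx1, hx2⟩ := Set.nonempty_iff_ne_empty.mpr hne
    obtain ⟨y, hy1, hy2⟩ := mem_closure_iff.mp hx2 U₁ hU₁o hx1
    have : y ∈ U₁ ∩ U₂ := ⟨hy1, hy2⟩
    rw [hdisj] at this
    exact this
  have hd21 : Disjoint U₂ (closure U₁) := by
    rw [Set.disjoint_iff_inter_eq_empty]
    by_contra hne
    obtain ⟨x, hx1, hx2⟩ := Set.nonempty_iff_ne_empty.mpr hne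
    obtain ⟨y, hy1, hy2⟩ := mem_closure_iff.mp hx2 U₂ hU₂o hx1
    have : y ∈ U₁ ∩ U₂ := ⟨hy2, hy1⟩
    rw [hdisj] at this
    exact this
  set A := (closure U₂)ᶜ with hA
  set B := (closure U₁)ᶜ with hB
  have hAo : IsOpen A := isClosed_closure.isOpen_compl
  have hBo : IsOpen B := isClosed_closure.isOpen_compl
  have hAB : A ∩ B = ∅ := by
    rw [hA, hB, ← Set.compl_union, Set.union_comm, hcl, Set.compl_univ]
  have hU₁A : U₁ ⊆ A := fun x hx hx' => Set.disjoint_left.mp hd12 hx hx'
  have hU₂B : U₂ ⊆ B := fun x hx hx' => Set.disjoint_left.mp hd21 hx hx'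
  have hTne : (closure U₁ ∩ closure U₂).Nonempty := by
    by_contra hT
    rw [Set.not_nonempty_iff_eq_empty] at hT
    have hun : A ∪ B = Set.univ := by
      rw [hA, hB, ← Set.compl_inter, Set.inter_comm, hT, Set.compl_empty]
    have hpre := isPreconnected_univ (α := X) A B hAo hBo (by rw [hun])
      (by obtain ⟨x, hx⟩ := hnu; exact ⟨x, Set.mem_univ _, hU₁A hx⟩)
      (by obtain ⟨x, hx⟩ := hnv; exact ⟨x, Set.mem_univ _, hU₂B hx⟩)
    rw [hAB] at hpre
    obtain ⟨x, -, hx⟩ := hpre
    exact hx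
  obtain ⟨z, hzT, hzmax⟩ := exists_maximal_point (isClosed_closure.inter isClosed_closure) hTne
  have hzZ : z ∈ Z := by
    by_contra hzZ
    rcases hcover hzZ with h | h
    · exact Set.disjoint_left.mp hd12 h hzT.2
    · exact Set.disjoint_left.mp hd21 h hzT.1
  obtain ⟨η₁, hη₁, hs₁⟩ := exists_specializes_of_mem_closure (hloc z) hU₁o hzT.1
  obtain ⟨η₂, hη₂, hs₂⟩ := exists_specializes_of_mem_closure (hloc z) hU₂o hzT.2
  have hη₁z : η₁ ≠ z := fun h => hη₁.1 (h ▸ hzZ)
  have hη₂z : η₂ ≠ z := fun h => hη₂.1 (h ▸ hzZ)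
  have hG : ({x' : X | x' ⤳ z} \ {z}) ⊆ A ∪ B := by
    rintro x' ⟨hx's, hx'z⟩
    by_contra hx'
    rw [Set.mem_union, not_or] at hx'
    have h1 : x' ∈ closure U₂ := by
      by_contra h
      exact hx'.1 h
    have h2 : x' ∈ closure U₁ := by
      by_contra h
      exact hx'.2 h
    exact hx'z (hzmax x' ⟨h2, h1⟩ hx's)
  have hpre := hgen z hzZ A B hAo hBo hG ⟨η₁, ⟨hs₁, hη₁z⟩, hU₁A hη₁⟩ ⟨η₂, ⟨hs₂, hη₂z⟩, hU₂B hη₂⟩
  rw [hAB] at hpre
  obtain ⟨x, -, hx⟩ := hpre
  exact hx

end Groth.Agent.S4951
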