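import Groth.Statements.S4953
import Mathlib
import Groth.Agent.S1326
import Groth.Agent.S3403
import Groth.Agent.Lib.Helper36.ProCons
import Groth.Agent.Lib.Helper78.SecCompRedDescent

set_option autoImplicit false
open CategoryTheory AlgebraicGeometry
universe u v w
open EGA43

namespace Groth.Agent.S4953

open Groth.Agent.Lib.Helper78.SecCompUO Groth.Agent.Lib.Helper78.SecCompRedDescent in

/-- Let f : X ⟶ Y be a flat morphism of finite presentation with a section g : Y ⟶ X; for y in Y let
X_y^0 be the connected component of f⁻¹(y) containing g y, and X^0 ⊆ X the union of the X_y^0. If y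
is a point such that X_y^0 is geometrically reduced over κ(y) (the fibre X_y is geometrically
reduced at every point of X_y^0), then X^0 is a neighbourhood of X_y^0 in X. -/
theorem result {X Y : Scheme.{u}} (f : X ⟶ Y) [Flat f]
    [LocallyOfFinitePresentation f] [QuasiCompact f] [QuasiSeparated f] (g : Y ⟶ X) (hg : g ≫ f = 𝟙 Y) (y : Y)
    (hred : ∀ x' : ↥(f.fiber y), (f.fiberι y).base x' ∈ connectedComponentIn (f.base ⁻¹' {y}) (g.base y) →
      FBase.IsGeomReducedAt (f.fiberToSpecResidueField y) x') :
    connectedComponentIn (f.base ⁻¹' {y}) (g.base y) ⊆ interior (MoreMor.sectionComponents f g) := by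
  have hredAt : ∀ w ∈ connectedComponentIn (f ⁻¹' {y}) (g y), RedAt f w := by
    intro w hw
    have hfw : f w = y := connectedComponentIn_subset (f ⁻¹' {y}) (g y) hw
    subst hfw
    apply redAt_of_isGeomReducedAt
    apply hred
    have h1 : (f.fiberι (f w)) (f.asFiber w) = w := Scheme.Hom.fiberι_asFiber f w
    show (f.fiberι (f w)) (f.asFiber w) ∈ connectedComponentIn (f ⁻¹' {f w}) (g (f w))
    rw [h1]
    exact hw
  intro x hx
  have hE : ProCons.IsIndConstructible (MoreMor.sectionComponents f g) :=
    Groth.Agent.Lib.Helper36.isIndConstructible_of_isLocallyConstructible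
      (Groth.Agent.S1326.result f g hg)
  rw [Groth.Agent.S3403.result X _ hE x]
  intro x' hsp
  exact mem_sectionComponents_of_specializes_uo f g hg y hredAt x x' hx hsp

end Groth.Agent.S4953
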