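import Groth.Statements.S4958
import Groth.Agent.Lib.Helper73.DimFormula.GenericFibre

set_option autoImplicit false
open CategoryTheory AlgebraicGeometry
universe u v w
open EGA43

namespace Groth.Agent.S4958

/-- Let Y be an irreducible locally Noetherian scheme with generic point η, f : X ⟶ Y a morphism of
finite type and y a point of Y whose local ring O_{Y,y} is universally catenary. Suppose that dim
O_{X,z} = dim O_{Y,y} for every maximal point z of the fibre X_y. For z' in Y let E(z') be the set
of dimensions of the irreducible components of X_{z'}. Then E(y) ⊆ E(η), and hence dim X_y ≤ dim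
X_η. -/
theorem result {X Y : Scheme.{u}} [IrreducibleSpace Y]
    [IsLocallyNoetherian Y] (f : X ⟶ Y) [LocallyOfFiniteType f] [QuasiCompact f] (y : Y)
    (hcat : CAlg.IsUniversallyCatenary (Y.presheaf.stalk y))
    (hb : ∀ z : X, f.base z = y → (∀ z' : X, f.base z' = y → z ∈ closure {z'} → z' = z) →
      ringKrullDim (X.presheaf.stalk z) = ringKrullDim (Y.presheaf.stalk y)) :
    letI E : Y → Set (WithBot ℕ∞) := fun z =>
      (fun Z : Set ↥(f.fiber z) => topologicalKrullDim ↥Z) '' irreducibleComponents ↥(f.fiber z)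
    E y ⊆ E (genericPoint Y) ∧
      topologicalKrullDim ↥(f.fiber y) ≤ topologicalKrullDim ↥(f.fiber (genericPoint Y)) := by
  open Groth.Agent.Lib.Helper73 in
  have hδy := isDimFun_trdegNat (k := Y.residueField y) (f.fiberToSpecResidueField y)
  have hδη := isDimFun_trdegNat (k := Y.residueField (genericPoint Y))
    (f.fiberToSpecResidueField (genericPoint Y))
  -- key: maximal points of the fibre over `y` are matched by maximal points of the generic fibre
  have key : ∀ ζ : f.fiber y, (∀ t : f.fiber y, t ⤳ ζ → t = ζ) →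
      ∃ ζ' : f.fiber (genericPoint Y), (∀ t : f.fiber (genericPoint Y), t ⤳ ζ' → t = ζ') ∧
        trdegNat (k := Y.residueField (genericPoint Y))
          (f.fiberToSpecResidueField (genericPoint Y)) ζ' =
        trdegNat (k := Y.residueField y) (f.fiberToSpecResidueField y) ζ := by
    intro ζ hζ
    obtain ⟨hfz, hzmax⟩ := fiberι_maximal_of_maximal f y ζ hζ
    have hdim := hb (f.fiberι y ζ) hfz (fun z' hz' hcl =>
      hzmax z' (specializes_iff_mem_closure.mpr hcl) hz')
    have hcat' : CAlg.IsUniversallyCatenary (Y.presheaf.stalk (f (f.fiberι y ζ))) := by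
      rw [hfz]; exact hcat
    have hdim' : ringKrullDim (X.presheaf.stalk (f.fiberι y ζ)) =
        ringKrullDim (Y.presheaf.stalk (f (f.fiberι y ζ))) := by
      rw [hdim, ringKrullDim_stalk_congr hfz]
    obtain ⟨ξ, hξη, hξmax, -, hr⟩ := exists_maximal_over_genericPoint f (f.fiberι y ζ)
      (fun t ht hft => hzmax t ht (hft.trans hfz)) hcat' hdim'
    obtain ⟨ζ', hζ'ξ, hζ'max⟩ := maximal_fiber_of_maximal f (genericPoint Y) ξ hξη hξmax
    refine ⟨ζ', hζ'max, ?_⟩
    rw [trdegNat_fiber_eq_resTrdegNat, trdegNat_fiber_eq_resTrdegNat, hζ'ξ, hr]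
  constructor
  · rintro d ⟨Z, hZ, rfl⟩
    obtain ⟨ζ, hζZ, hζmax⟩ := exists_maximal_of_mem_irreducibleComponents Z hZ
    obtain ⟨ζ', hζ'max, hδ⟩ := key ζ hζmax
    refine ⟨closure {ζ'}, closure_singleton_mem_irreducibleComponents_of_maximal ζ' hζ'max, ?_⟩
    subst hζZ
    change topologicalKrullDim ↥(closure {ζ'}) = topologicalKrullDim ↥(closure {ζ})
    rw [hδη.topologicalKrullDim_closure_singleton, hδy.topologicalKrullDim_closure_singleton, hδ]
  · rw [topologicalKrullDim_fiber_eq_iSup, topologicalKrullDim_fiber_eq_iSup]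
    refine iSup_le fun ζ => ?_
    obtain ⟨ζ0, hζ0ζ, hζ0max⟩ := exists_maximal_specializes ζ
    obtain ⟨ζ', -, hδ⟩ := key ζ0 hζ0max
    have h1 := hδy.le_of_specializes hζ0ζ
    refine le_trans ?_ (le_iSup (fun z : f.fiber (genericPoint Y) =>
      ((trdegNat (k := Y.residueField (genericPoint Y))
        (f.fiberToSpecResidueField (genericPoint Y)) z : ℕ∞) : WithBot ℕ∞)) ζ')
    rw [hδ]
    exact_mod_cast h1

end Groth.Agent.S4958
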