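import Groth.Statements.S4959
-- import your own Groth.Agent.* helpers here

set_option autoImplicit false
open CategoryTheory AlgebraicGeometry
universe u v w
open EGA43

namespace Groth.Agent.S4959

open CategoryTheory.Limits in
/-- Let f : X ⟶ Y be a morphism of schemes and g : Y' ⟶ Y a surjective morphism which is either proper,
or flat and quasi-compact. If the base change f' : X ×_Y Y' ⟶ Y' is universally submersive (all of
its base changes are topological quotient maps), then f is universally submersive. -/
theorem result {X Y Y' : Scheme.{u}} (f : X ⟶ Y) (g : Y' ⟶ Y) [Surjective g]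
    (hg : IsProper g ∨ (Flat g ∧ QuasiCompact g))
    (h : MorphismProperty.universally (topologically @Topology.IsQuotientMap) (pullback.snd f g)) :
    MorphismProperty.universally (topologically @Topology.IsQuotientMap) f := by
  intro XT T i₁ i₂ fT H
  let p1 : pullback i₂ g ⟶ T := pullback.fst i₂ g
  let p2 : pullback i₂ g ⟶ Y' := pullback.snd i₂ g
  let q1 : pullback fT p1 ⟶ XT := pullback.fst fT p1
  let q2 : pullback fT p1 ⟶ pullback i₂ g := pullback.snd fT p1
  have hA : IsPullback q2 q1 p1 fT := (IsPullback.of_hasPullback fT p1).flip
  have hAB : IsPullback q2 (q1 ≫ i₁) (p1 ≫ i₂) f := hA.paste_vert H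
  have hcond : p1 ≫ i₂ = p2 ≫ g := pullback.condition
  rw [hcond] at hAB
  have hC : IsPullback (pullback.snd f g) (pullback.fst f g) g f :=
    (IsPullback.of_hasPullback f g).flip
  have hD := IsPullback.of_bot' hAB hC
  have hq2 : Topology.IsQuotientMap q2.base := h _ _ _ hD
  have hp1surj : Surjective p1 := inferInstance
  have hp1 : Topology.IsQuotientMap p1.base := by
    rcases hg with hg | ⟨hg1, hg2⟩
    · have : IsProper p1 := inferInstance
      exact (Scheme.Hom.isClosedMap p1).isQuotientMap p1.continuous p1.surjective
    · exact Flat.isQuotientMap_of_surjective p1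
  have hcomp : Topology.IsQuotientMap (fT.base ∘ q1.base) := by
    have : fT.base ∘ q1.base = p1.base ∘ q2.base := by
      have := congrArg (fun φ => (φ.base : _ → _)) (pullback.condition (f := fT) (g := p1))
      simpa using this
    rw [this]
    exact hp1.comp hq2
  exact Topology.IsQuotientMap.of_comp q1.continuous fT.continuous hcomp

end Groth.Agent.S4959
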