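import Groth.Statements.S4970
import Groth.Agent.Lib.Helper54.CPFFt
import Groth.Agent.Lib.Helper55.FL.Idz

set_option autoImplicit false
universe u
open TensorProduct
open EGA43

namespace Groth.Agent.S4970

open TensorProduct Algebra Algebra.TensorProduct
open Groth.Agent.Lib.Helper55.FL Groth.Agent.Lib.Helper54.CPF

attribute [local instance] Algebra.TensorProduct.rightAlgebra

/-- transport of flatness of base changes along an isomorphism of `B`-algebras -/
theorem flat_baseChange_of_ringEquiv {B F' F M : Type u} [CommRing B] [CommRing F'] [CommRing F]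
    [Algebra B F'] [Algebra B F] [AddCommGroup M] [Module B M] (e : F' ≃+* F)
    (he : ∀ b, e (algebraMap B F' b) = algebraMap B F b)
    (h : Module.Flat F' (F' ⊗[B] M)) : Module.Flat F (F ⊗[B] M) := by
  letI : Algebra F' F := (e : F' →+* F).toAlgebra
  haveI : IsScalarTower B F' F := IsScalarTower.of_algebraMap_eq fun b => (he b).symm
  haveI := h
  exact Module.Flat.of_linearEquiv
    (TensorProduct.AlgebraTensorModule.cancelBaseChange B F' F F M).symm

section fiberPushout

variable {A B C : Type u} [CommRing A] [CommRing B] [CommRing C] [Algebra A B] [Algebra B C]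
  [Algebra A C] [IsScalarTower A B C] (p : Ideal A) [p.IsPrime]

set_option maxRecDepth 4000 in
/-- `κ(p) ⊗ C` is the base change of `C` along `B → κ(p) ⊗ B`. -/
theorem flat_fiber_of_flat_baseChange
    (h : Module.Flat (p.Fiber B) ((p.Fiber B) ⊗[B] C)) :
    letI := fibAlgebra (A := B) (B := C) p
    Module.Flat (p.Fiber B) (p.Fiber C) := by
  letI i1 := fibAlgebra (A := B) (B := C) p
  letI i2 : Algebra B (p.Fiber C) :=
    ((algebraMap C (p.Fiber C)).comp (algebraMap B C)).toAlgebra
  haveI t1 : IsScalarTower B C (p.Fiber C) := IsScalarTower.of_algebraMap_eq fun _ => rfl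
  haveI t2 : IsScalarTower B (p.Fiber B) (p.Fiber C) := IsScalarTower.of_algebraMap_eq fun b => by
    show (1 : p.ResidueField) ⊗ₜ[A] (algebraMap B C b) =
      fibMap (A := B) (B := C) p ((1 : p.ResidueField) ⊗ₜ[A] b)
    simp [fibMap]
  haveI t3 : IsScalarTower A C (p.Fiber C) := IsScalarTower.of_algebraMap_eq fun a => by
    show algebraMap A (p.Fiber C) a = (1 : p.ResidueField) ⊗ₜ[A] (algebraMap A C a)
    rw [Algebra.TensorProduct.algebraMap_apply, Algebra.algebraMap_eq_smul_one a,
      Algebra.algebraMap_eq_smul_one a, TensorProduct.smul_tmul]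
  haveI t4 : IsScalarTower A (p.Fiber B) (p.Fiber C) := IsScalarTower.of_algebraMap_eq fun a => by
    show algebraMap A (p.Fiber C) a = fibMap (A := B) (B := C) p (algebraMap A (p.Fiber B) a)
    rw [Algebra.TensorProduct.algebraMap_apply, Algebra.TensorProduct.algebraMap_apply]
    simp [fibMap]
  haveI t5 : IsScalarTower p.ResidueField (p.Fiber B) (p.Fiber C) :=
    IsScalarTower.of_algebraMap_eq fun c => by
      show algebraMap p.ResidueField (p.Fiber C) c =
        fibMap (A := B) (B := C) p (algebraMap p.ResidueField (p.Fiber B) c)
      rw [Algebra.TensorProduct.algebraMap_apply, Algebra.TensorProduct.algebraMap_apply]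
      simp [fibMap]
  haveI po1 : Algebra.IsPushout A B p.ResidueField (p.Fiber B) := inferInstance
  haveI po2 : Algebra.IsPushout A C p.ResidueField (p.Fiber C) := inferInstance
  haveI po3 : Algebra.IsPushout B C (p.Fiber B) (p.Fiber C) :=
    (Algebra.IsPushout.comp_iff A B p.ResidueField (p.Fiber B) (T := C) (T' := p.Fiber C)).1 po2
  haveI po4 : Algebra.IsPushout B (p.Fiber B) C (p.Fiber C) := po3.symm
  haveI := h
  exact Module.Flat.of_linearEquiv
    (Algebra.IsPushout.equiv B (p.Fiber B) C (p.Fiber C)).toLinearEquiv.symm

end fiberPushout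

set_option maxRecDepth 4000 in

/-- Let A be a commutative ring, B a finitely presented A-algebra which is flat as an A-module, and M a
finitely presented B-module which is flat as an A-module. Then M is a flat B-module if and only if,
for every prime ideal p of A with residue field κ(p), the module (B ⊗_A κ(p)) ⊗_B M is projective
over the ring B ⊗_A κ(p). (Condition a) of the source, M projective over B, is equivalent to b) for
finitely presented modules.) -/
theorem result (A B M : Type u) [CommRing A] [CommRing B] [Algebra A B]
    [Algebra.FinitePresentation A B] [Module.Flat A B] [AddCommGroup M] [Module B M] [Module A M]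
    [IsScalarTower A B M] [Module.FinitePresentation B M] [Module.Flat A M] :
    Module.Flat B M ↔ ∀ (p : Ideal A) [p.IsPrime],
      Module.Projective (B ⊗[A] p.ResidueField) ((B ⊗[A] p.ResidueField) ⊗[B] M) := by
  constructor
  · intro hfl p _
    haveI := hfl
    haveI : Module.Projective B M := Module.Flat.projective_of_finitePresentation
    infer_instance
  · intro hproj
    letI aAC : Algebra A (Idz B M) := Idz.algebraOf B M A
    haveI t1 : IsScalarTower A B (Idz B M) := IsScalarTower.of_algebraMap_eq fun _ => rfl
    haveI fpBC : Algebra.FinitePresentation B (Idz B M) := Idz.finitePresentation B M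
    haveI fpAC : Algebra.FinitePresentation A (Idz B M) :=
      Algebra.FinitePresentation.trans A B (Idz B M)
    haveI flAC : Module.Flat A (Idz B M) := by
      haveI : Module.Flat A (B × M) := flat_prod inferInstance inferInstance
      exact Module.Flat.of_linearEquiv ((Idz.equivProd B M).restrictScalars A)
    -- fibres
    have hfib : ∀ (p : Ideal A) [p.IsPrime],
        letI := fibAlgebra (A := B) (B := Idz B M) p
        Module.Flat (p.Fiber B) (p.Fiber (Idz B M)) := by
      intro p _
      apply flat_fiber_of_flat_baseChange
      have h1 : Module.Flat (B ⊗[A] p.ResidueField) ((B ⊗[A] p.ResidueField) ⊗[B] M) := by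
        haveI := hproj p
        infer_instance
      have h2 : Module.Flat (p.Fiber B) ((p.Fiber B) ⊗[B] M) :=
        flat_baseChange_of_ringEquiv (B := B) (F' := B ⊗[A] p.ResidueField) (F := p.Fiber B)
          (Algebra.TensorProduct.comm A B p.ResidueField).toRingEquiv (fun b => by
            show (Algebra.TensorProduct.comm A B p.ResidueField) (b ⊗ₜ[A] 1) = 1 ⊗ₜ[A] b
            rw [Algebra.TensorProduct.comm_tmul]) h1
      have h3 : Module.Flat (p.Fiber B) ((p.Fiber B) ⊗[B] B) := inferInstance
      haveI : Module.Flat (p.Fiber B) (((p.Fiber B) ⊗[B] B) × ((p.Fiber B) ⊗[B] M)) :=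
        flat_prod h3 h2
      exact Module.Flat.of_linearEquiv
        ((TensorProduct.AlgebraTensorModule.congr (LinearEquiv.refl (p.Fiber B) (p.Fiber B))
          (Idz.equivProd B M)).trans (TensorProduct.prodRight B (p.Fiber B) (p.Fiber B) B M))
    -- pointwise
    have key : ∀ (Q' : Ideal (Idz B M)) [Q'.IsPrime],
        Module.Flat B (Localization.AtPrime Q') := by
      intro Q' _
      haveI hlo : Q'.LiesOver (Q'.comap (algebraMap A (Idz B M))) := ⟨rfl⟩
      let q := PrimeSpectrum.primesOverOrderIsoFiber A (Idz B M) (Q'.comap (algebraMap A (Idz B M)))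
        ⟨Q', ⟨inferInstance, inferInstance⟩⟩
      have hq : q.asIdeal.comap (includeRight : Idz B M →ₐ[A]
          (Q'.comap (algebraMap A (Idz B M))).Fiber (Idz B M)) = Q' := by
        have := (PrimeSpectrum.primesOverOrderIsoFiber A (Idz B M)
          (Q'.comap (algebraMap A (Idz B M)))).symm_apply_apply ⟨Q', ⟨inferInstance, inferInstance⟩⟩
        exact congrArg Subtype.val this
      have ha : Module.Flat A (Localization.AtPrime (q.asIdeal.comap (includeRight :
          Idz B M →ₐ[A] (Q'.comap (algebraMap A (Idz B M))).Fiber (Idz B M)))) := inferInstance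
      have hb : letI := fibAlgebra (A := B) (B := Idz B M) (Q'.comap (algebraMap A (Idz B M)))
          Module.Flat ((Q'.comap (algebraMap A (Idz B M))).Fiber B)
            (Localization.AtPrime q.asIdeal) := by
        letI := fibAlgebra (A := B) (B := Idz B M) (Q'.comap (algebraMap A (Idz B M)))
        haveI := hfib (Q'.comap (algebraMap A (Idz B M)))
        infer_instance
      have hc := cpf_ft_fiber (A := B) (B := Idz B M) (Q'.comap (algebraMap A (Idz B M)))
        q.asIdeal ha hb
      exact flat_atPrime_congr' hq hc
    have hBC : Module.Flat B (Idz B M) :=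
      Module.flat_of_isLocalized_maximal (Idz B M) (Idz B M)
        (fun P _ => Localization.AtPrime P)
        (fun P _ => Algebra.linearMap (Idz B M) (Localization.AtPrime P))
        (fun P _ => key P)
    exact flat_of_flat_prod_right ((Module.Flat.equiv_iff (Idz.equivProd B M)).1 hBC)

end Groth.Agent.S4970
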