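import Groth.Statements.S4971
import Mathlib.RingTheory.Nakayama
import Mathlib.RingTheory.Jacobson.Ideal
-- import your own Groth.Agent.* helpers here

set_option autoImplicit false
universe u
open EGA43

namespace Groth.Agent.S4971

/-- Let B be a Noetherian local ring, M, N, P three B-modules with N finitely generated, u : M → N and v
: N → P linear maps with v ∘ u = 0, and t an element of the maximal ideal of B which is P-regular.
If the induced sequence M/tM → N/tN → P/tP is exact, then M → N → P is exact. -/
theorem result {B : Type u} [CommRing B] [IsNoetherianRing B] [IsLocalRing B]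
    {M N P : Type u} [AddCommGroup M] [Module B M] [AddCommGroup N] [Module B N] [Module.Finite B N]
    [AddCommGroup P] [Module B P] (u : M →ₗ[B] N) (v : N →ₗ[B] P) (huv : v ∘ₗ u = 0) (t : B)
    (ht : t ∈ IsLocalRing.maximalIdeal B) (hreg : IsSMulRegular P t)
    (hu : (Ideal.span {t} • ⊤ : Submodule B M) ≤ (Ideal.span {t} • ⊤ : Submodule B N).comap u)
    (hv : (Ideal.span {t} • ⊤ : Submodule B N) ≤ (Ideal.span {t} • ⊤ : Submodule B P).comap v)
    (hex : LinearMap.ker ((Ideal.span {t} • ⊤ : Submodule B N).mapQ (Ideal.span {t} • ⊤ : Submodule B P) v hv) ≤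
      LinearMap.range ((Ideal.span {t} • ⊤ : Submodule B M).mapQ (Ideal.span {t} • ⊤ : Submodule B N) u hu)) :
    LinearMap.ker v ≤ LinearMap.range u := by
  classical
  have hfg : (LinearMap.ker v).FG := IsNoetherian.noetherian _
  have hjac : Ideal.span {t} ≤ Ideal.jacobson (⊥ : Ideal B) := by
    rw [Ideal.span_le, Set.singleton_subset_iff]
    rw [IsLocalRing.jacobson_eq_maximalIdeal ⊥ bot_ne_top]
    exact ht
  refine Submodule.le_of_le_smul_of_le_jacobson_bot hfg hjac ?_
  intro n hn
  rw [LinearMap.mem_ker] at hn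
  have h1 : (Submodule.mkQ (Ideal.span {t} • ⊤ : Submodule B N)) n ∈
      LinearMap.ker ((Ideal.span {t} • ⊤ : Submodule B N).mapQ
        (Ideal.span {t} • ⊤ : Submodule B P) v hv) := by
    rw [LinearMap.mem_ker]
    simp [Submodule.mapQ_apply, hn]
  obtain ⟨mbar, hm⟩ := hex h1
  obtain ⟨m, rfl⟩ := Submodule.mkQ_surjective _ mbar
  have h2 : n - u m ∈ (Ideal.span {t} • ⊤ : Submodule B N) := by
    rw [← Submodule.Quotient.mk_eq_zero, Submodule.Quotient.mk_sub, sub_eq_zero]
    simpa [Submodule.mapQ_apply] using hm.symm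
  rw [Submodule.ideal_span_singleton_smul, Submodule.mem_smul_pointwise_iff_exists] at h2
  obtain ⟨n', -, hn'⟩ := h2
  have h3 : v n' = 0 := by
    apply hreg
    have : v (u m) = 0 := by
      have := LinearMap.congr_fun huv m
      simpa using this
    have h4 : v (n - u m) = 0 := by rw [map_sub, hn, this, sub_zero]
    rw [← hn', map_smul] at h4
    simpa using h4
  have h5 : n = u m + t • n' := by rw [hn']; abel
  rw [h5]
  refine Submodule.add_mem_sup ⟨m, rfl⟩ ?_
  rw [Submodule.ideal_span_singleton_smul]
  exact Submodule.smul_mem_pointwise_smul _ _ _ h3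

end Groth.Agent.S4971
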