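import Groth.Statements.S4973
-- import your own Groth.Agent.* helpers here

set_option autoImplicit false
open CategoryTheory AlgebraicGeometry
universe u v w
open EGA43

namespace Groth.Agent.S4973

open CategoryTheory.Limits in
/-- Let Y₀ and Y be integral schemes, g : Y ⟶ Y₀ a dominant morphism, f₀ : X₀ ⟶ Y₀ a dominant morphism
whose fibre over the generic point of Y₀ is irreducible, and X'₀ an irreducible component of X₀
meeting that generic fibre (it is unique), regarded as a reduced closed subscheme of X₀. If X = X₀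
×_{Y₀} Y is an integral scheme, then the morphism X'₀ ×_{Y₀} Y ⟶ X induced by the inclusion of X'₀
is an isomorphism. -/
theorem result {X₀ Y₀ Y : Scheme.{u}} [IsIntegral Y₀] [IsIntegral Y]
    (g : Y ⟶ Y₀) [IsDominant g] (f₀ : X₀ ⟶ Y₀) [IsDominant f₀]
    (hirr : IsIrreducible (f₀.base ⁻¹' {genericPoint Y₀}))
    (C : TopologicalSpace.Closeds X₀) (hC : (C : Set X₀) ∈ irreducibleComponents (X₀ : Type u))
    (hCη : ((C : Set X₀) ∩ f₀.base ⁻¹' {genericPoint Y₀}).Nonempty) [IsIntegral (pullback f₀ g)]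
    (e₁ : ((Scheme.IdealSheafData.vanishingIdeal C).subschemeι ≫ f₀) ≫ 𝟙 Y₀ =
      (Scheme.IdealSheafData.vanishingIdeal C).subschemeι ≫ f₀) (e₂ : g ≫ 𝟙 Y₀ = 𝟙 Y ≫ g) :
    IsIso (pullback.map ((Scheme.IdealSheafData.vanishingIdeal C).subschemeι ≫ f₀) g f₀ g
      (Scheme.IdealSheafData.vanishingIdeal C).subschemeι (𝟙 Y) (𝟙 Y₀) e₁ e₂) := by
  classical
  set I := Scheme.IdealSheafData.vanishingIdeal C with hI
  -- the morphism is a closed immersion
  have hj : IsClosedImmersion (pullback.map (I.subschemeι ≫ f₀) g f₀ g I.subschemeι (𝟙 Y) (𝟙 Y₀)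
      e₁ e₂) :=
    MorphismProperty.pullbackMap (P := @IsClosedImmersion) (f := I.subschemeι ≫ f₀) (g := g)
      (f' := f₀) (g' := g) (i₁ := I.subschemeι) (i₂ := 𝟙 Y) inferInstance inferInstance rfl
      (by simp)
  -- its range
  have hrange : Set.range (pullback.map (I.subschemeι ≫ f₀) g f₀ g I.subschemeι (𝟙 Y) (𝟙 Y₀)
      e₁ e₂) = (pullback.fst f₀ g) ⁻¹' (C : Set X₀) := by
    rw [Scheme.Pullback.range_map, Scheme.IdealSheafData.range_subschemeι, hI,
      Scheme.IdealSheafData.coe_support_vanishingIdeal]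
    simp
  -- generic points
  have hgη : g (genericPoint Y) = genericPoint Y₀ := by
    have h1 : IsGenericPoint (g (genericPoint Y)) (closure (g '' (⊤ : Set Y))) :=
      (genericPoint_spec Y).image g.continuous
    have h2 : closure (g '' (⊤ : Set Y)) = ⊤ := by
      rw [Set.top_eq_univ, Set.image_univ]
      exact g.denseRange.closure_range
    rw [h2] at h1
    exact h1.eq (genericPoint_spec Y₀)
  -- the generic fibre lies in C
  obtain ⟨x, hxC, hxF⟩ := hCη
  have hxF' : f₀ x = genericPoint Y₀ := hxF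
  have hCirr : IsIrreducible (C : Set X₀) := hC.1
  have hc : IsGenericPoint hCirr.genericPoint (C : Set X₀) :=
    hCirr.isGenericPoint_genericPoint C.isClosed
  have hcx : hCirr.genericPoint ⤳ x := hc.specializes hxC
  have hcF : f₀ hCirr.genericPoint = genericPoint Y₀ := by
    have h1 : f₀ hCirr.genericPoint ⤳ f₀ x := hcx.map f₀.continuous
    rw [hxF'] at h1
    exact (h1.antisymm (genericPoint_specializes _)).eq
  have hFC : f₀ ⁻¹' {genericPoint Y₀} ⊆ (C : Set X₀) := by
    have h1 : IsIrreducible (closure (f₀ ⁻¹' {genericPoint Y₀})) := hirr.closure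
    have h2 : (C : Set X₀) ≤ closure (f₀ ⁻¹' {genericPoint Y₀}) := by
      rw [← hc.def]
      exact closure_mono (Set.singleton_subset_iff.mpr hcF)
    exact subset_closure.trans (hC.2 h1 h2)
  -- the generic point of the pullback lies over the generic points
  obtain ⟨z, hz1, hz2⟩ := Scheme.Pullback.exists_preimage_pullback (f := f₀) (g := g) x
    (genericPoint Y) (by rw [hxF', hgη])
  have hsnd : pullback.snd f₀ g (genericPoint (pullback f₀ g : Scheme.{u})) = genericPoint Y := by
    have h1 : pullback.snd f₀ g (genericPoint (pullback f₀ g : Scheme.{u})) ⤳ pullback.snd f₀ g z :=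
      (genericPoint_specializes z).map (pullback.snd f₀ g).continuous
    rw [hz2] at h1
    exact (h1.antisymm (genericPoint_specializes _)).eq
  have hfst : pullback.fst f₀ g (genericPoint (pullback f₀ g : Scheme.{u})) ∈ f₀ ⁻¹' {genericPoint Y₀} := by
    change f₀ (pullback.fst f₀ g (genericPoint (pullback f₀ g : Scheme.{u}))) = genericPoint Y₀
    rw [← Scheme.Hom.comp_apply, pullback.condition, Scheme.Hom.comp_apply, hsnd, hgη]
  have hξ : genericPoint (pullback f₀ g : Scheme.{u}) ∈ Set.range (pullback.map (I.subschemeι ≫ f₀) g f₀ g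
      I.subschemeι (𝟙 Y) (𝟙 Y₀) e₁ e₂) := by
    rw [hrange]
    exact hFC hfst
  have hsurj : Surjective (pullback.map (I.subschemeι ≫ f₀) g f₀ g I.subschemeι (𝟙 Y) (𝟙 Y₀)
      e₁ e₂) := by
    refine ⟨fun y => ?_⟩
    have hcl : IsClosed (Set.range (pullback.map (I.subschemeι ≫ f₀) g f₀ g I.subschemeι (𝟙 Y)
        (𝟙 Y₀) e₁ e₂)) :=
      (Scheme.Hom.isClosedEmbedding _).isClosed_range
    exact (genericPoint_specializes y).mem_closed hcl hξ
  exact isIso_of_isClosedImmersion_of_surjective _

end Groth.Agent.S4973
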