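import Groth.Statements.S4978
import Groth.Agent.Lib.Helper41.ValCenterNhd
import Groth.Agent.Lib.Helper41.FieldPoints
import Groth.Agent.Lib.Helper21.ProperOver

set_option autoImplicit false
open CategoryTheory AlgebraicGeometry
universe u v w
open EGA43

namespace Groth.Agent.S4978

open CategoryTheory.Limits in
/-- Let Y be a Noetherian scheme, f : X ⟶ Y a separated morphism of finite type, Z a subset of X such
that every maximal point of the closure of Z belongs to Z, and y a point of Y. Then the closure of Z
is proper over Y at y (for some open U ∋ y, its trace on f⁻¹(U) is proper over U with the reduced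
structure) if and only if: for every discrete valuation ring A' and every morphism g : Spec A' ⟶ Y
mapping the closed point to y, every point x' of X' = X ×_Y Spec A' which projects into Z, lies over
the generic point η' of Spec A' and is rational over κ(η') is in the image of some section of X' ⟶
Spec A'. -/
theorem result {X Y : Scheme.{u}} [IsNoetherian Y] (f : X ⟶ Y) [IsSeparated f]
    [LocallyOfFiniteType f] [QuasiCompact f] (Z : Set X)
    (hZ : ∀ z ∈ closure Z, (∀ z' ∈ closure Z, z ∈ closure {z'} → z' = z) → z ∈ Z) (y : Y) :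
    (∃ U : Y.Opens, y ∈ U ∧ ∃ hC : IsClosed ((f ⁻¹ᵁ U).ι.base ⁻¹' closure Z),
      IsProper ((Scheme.IdealSheafData.vanishingIdeal
        (⟨(f ⁻¹ᵁ U).ι.base ⁻¹' closure Z, hC⟩ : TopologicalSpace.Closeds ↥(f ⁻¹ᵁ U))).subschemeι ≫ (f ∣_ U))) ↔
      ∀ (A' : Type u) [CommRing A'] [IsDomain A'] [IsDiscreteValuationRing A'] (g : Spec (CommRingCat.of A') ⟶ Y),
        g.base (IsLocalRing.closedPoint A') = y →
        ∀ x' : ↥(pullback f g), (pullback.fst f g).base x' ∈ Z →
          (pullback.snd f g).base x' = genericPoint (Spec (CommRingCat.of A')) →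
          Function.Bijective ((pullback.snd f g).residueFieldMap x').hom →
          ∃ s : Spec (CommRingCat.of A') ⟶ pullback f g, s ≫ pullback.snd f g = 𝟙 _ ∧ x' ∈ Set.range s.base := by
  let C : TopologicalSpace.Closeds X := ⟨closure Z, isClosed_closure⟩
  let IC : X.IdealSheafData := Scheme.IdealSheafData.vanishingIdeal C
  let iC : IC.subscheme ⟶ X := IC.subschemeι
  have hrangeC : Set.range iC.base = closure Z := by
    change Set.range IC.subschemeι.base = _
    rw [Scheme.IdealSheafData.range_subschemeι, Scheme.IdealSheafData.coe_support_vanishingIdeal]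
    rfl
  constructor
  · -- (⇒)
    rintro ⟨U, hyU, hC, hprop⟩ A' _ _ _ g hgy x' hx'Z hx'gen hbij
    have hrangeU : Set.range g.base ⊆ Set.range U.ι.base := by
      rintro _ ⟨p, rfl⟩
      rw [Scheme.Opens.range_ι]
      have h1 : g.base p ⤳ y := hgy ▸ (IsLocalRing.specializes_closedPoint p).map g.continuous
      exact h1.mem_open U.2 hyU
    let gU : Spec (CommRingCat.of A') ⟶ (U : Scheme.{u}) := IsOpenImmersion.lift U.ι g hrangeU
    have hgU : gU ≫ U.ι = g := IsOpenImmersion.lift_fac _ _ _
    let K : Type u := (⊥ : Ideal A').ResidueField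
    let η₀ : Spec (CommRingCat.of A') := (⟨⊥, Ideal.isPrime_bot⟩ : PrimeSpectrum A')
    have hη : (pullback.snd f g).base x' = η₀ := by
      rw [hx'gen]
      exact genericPoint_eq_bot_of_affine (CommRingCat.of A')
    haveI : IsIso ((pullback.snd f g).residueFieldMap x') :=
      (ConcreteCategory.isIso_iff_bijective _).mpr hbij
    let e : (pullback f g).residueField x' ⟶ CommRingCat.of K :=
      inv ((pullback.snd f g).residueFieldMap x') ≫
        ((Spec (CommRingCat.of A')).residueFieldCongr hη).hom ≫
        (Scheme.Spec.residueFieldIso (CommRingCat.of A') η₀).hom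
    let xK : Spec (CommRingCat.of K) ⟶ pullback f g :=
      Spec.map e ≫ (pullback f g).fromSpecResidueField x'
    have hxKsnd : xK ≫ pullback.snd f g = Spec.map (CommRingCat.ofHom (algebraMap A' K)) := by
      change (Spec.map e ≫ _) ≫ _ = _
      rw [Category.assoc, ← Scheme.Hom.SpecMap_residueFieldMap_fromSpecResidueField,
        ← Category.assoc, ← Spec.map_comp]
      have h1 : (pullback.snd f g).residueFieldMap x' ≫ e =
          ((Spec (CommRingCat.of A')).residueFieldCongr hη).hom ≫
            (Scheme.Spec.residueFieldIso (CommRingCat.of A') η₀).hom :=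
        IsIso.hom_inv_id_assoc _ _
      rw [h1, Spec.map_comp, Category.assoc, Scheme.residueFieldCongr_fromSpecResidueField,
        ← Scheme.Spec.map_residueFieldIso_inv_eq_fromSpecResidueField, ← Category.assoc,
        ← Spec.map_comp, Iso.inv_hom_id, Spec.map_id, Category.id_comp]
    let V : X.Opens := f ⁻¹ᵁ U
    let CU : TopologicalSpace.Closeds (V : Scheme.{u}) := ⟨V.ι.base ⁻¹' closure Z, hC⟩
    let j := (Scheme.IdealSheafData.vanishingIdeal CU).subschemeι
    have hrangeV : Set.range (xK ≫ pullback.fst f g).base ⊆ Set.range V.ι.base := by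
      rintro _ ⟨p, rfl⟩
      rw [Scheme.Opens.range_ι]
      change ((xK ≫ pullback.fst f g) ≫ f).base p ∈ U
      rw [Category.assoc, pullback.condition, ← Category.assoc, hxKsnd, ← hgU, ← Category.assoc,
        Scheme.Hom.comp_apply]
      exact ((Spec.map (CommRingCat.ofHom (algebraMap A' K)) ≫ gU).base p).2
    let a : Spec (CommRingCat.of K) ⟶ (V : Scheme.{u}) :=
      IsOpenImmersion.lift V.ι (xK ≫ pullback.fst f g) hrangeV
    have ha : a ≫ V.ι = xK ≫ pullback.fst f g := IsOpenImmersion.lift_fac _ _ _
    have haC : Set.range a.base ⊆ (CU : Set (V : Scheme.{u})) := by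
      rintro _ ⟨p, rfl⟩
      change V.ι.base (a.base p) ∈ closure Z
      rw [← Scheme.Hom.comp_apply, ha]
      have h1 : (xK ≫ pullback.fst f g).base p = (pullback.fst f g).base x' := by
        change ((Spec.map e ≫ (pullback f g).fromSpecResidueField x') ≫ pullback.fst f g).base p = _
        rw [Scheme.Hom.comp_apply, Scheme.Hom.comp_apply, Scheme.fromSpecResidueField_apply]
      rw [h1]
      exact subset_closure hx'Z
    obtain ⟨i₁, hi₁⟩ :=
      Groth.Agent.Lib.Helper41.FieldPoints.exists_lift_subscheme_of_isReduced a CU haC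
    have hc : CommSq i₁ (Spec.map (CommRingCat.ofHom (algebraMap A' K))) (j ≫ f ∣_ U) gU := by
      refine ⟨?_⟩
      apply (cancel_mono U.ι).1
      rw [Category.assoc, Category.assoc, morphismRestrict_ι, ← Category.assoc i₁, hi₁,
        ← Category.assoc, ha, Category.assoc, pullback.condition, ← Category.assoc, hxKsnd,
        Category.assoc, hgU]
    haveI : IsProper (j ≫ f ∣_ U) := hprop
    have hE : (ValuativeCriterion.Existence ⊓ @QuasiCompact) (j ≫ f ∣_ U) := by
      rw [← UniversallyClosed.eq_valuativeCriterion]; infer_instance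
    let Sq : ValuativeCommSq (j ≫ f ∣_ U) := { R := A', K := K, commSq := hc, .. }
    obtain ⟨⟨l₀⟩⟩ := hE.1 Sq
    let l : Spec (CommRingCat.of A') ⟶ X := l₀.l ≫ j ≫ V.ι
    have hlf : l ≫ f = g := by
      change (l₀.l ≫ j ≫ V.ι) ≫ f = g
      rw [Category.assoc, Category.assoc, ← morphismRestrict_ι, ← Category.assoc j,
        ← Category.assoc]
      have h1 := l₀.fac_right
      change l₀.l ≫ (j ≫ f ∣_ U) = gU at h1
      rw [h1, hgU]
    let s : Spec (CommRingCat.of A') ⟶ pullback f g :=
      pullback.lift l (𝟙 _) (by rw [hlf, Category.id_comp])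
    refine ⟨s, pullback.lift_snd _ _ _, ?_⟩
    have hs : Spec.map (CommRingCat.ofHom (algebraMap A' K)) ≫ s = xK := by
      apply pullback.hom_ext
      · rw [Category.assoc, pullback.lift_fst]
        change _ ≫ l₀.l ≫ j ≫ V.ι = _
        have h1 := l₀.fac_left
        change Spec.map (CommRingCat.ofHom (algebraMap A' K)) ≫ l₀.l = i₁ at h1
        rw [← Category.assoc, h1, ← Category.assoc, hi₁, ha]
      · rw [Category.assoc, pullback.lift_snd, Category.comp_id, hxKsnd]
    refine ⟨(Spec.map (CommRingCat.ofHom (algebraMap A' K))).base (IsLocalRing.closedPoint K), ?_⟩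
    rw [← Scheme.Hom.comp_apply, hs]
    change ((pullback f g).fromSpecResidueField x').base ((Spec.map e).base _) = x'
    exact Scheme.fromSpecResidueField_apply _ _
  · -- (⇐)
    intro Hs
    let f' : IC.subscheme ⟶ Y := iC ≫ f
    have key : ∃ U : Y.Opens, y ∈ U ∧ IsProper (f' ∣_ U) := by
      refine Groth.Agent.Lib.Helper41.ValCenter.exists_isProper_nhd_of_dvr f' y
        (fun ξ' hmax A hA g hgcl hgK => ?_)
      haveI := hA
      let K : Type u := IC.subscheme.residueField ξ'
      let σ : Spec (CommRingCat.of K) ⟶ pullback f g :=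
        pullback.lift (IC.subscheme.fromSpecResidueField ξ' ≫ iC)
          (Spec.map (CommRingCat.ofHom A.subtype)) (by rw [Category.assoc]; exact hgK.symm)
      let pt : Spec (CommRingCat.of K) := IsLocalRing.closedPoint K
      let x' : ↥(pullback f g) := σ.base pt
      have hptbot : (Spec.map (CommRingCat.ofHom A.subtype)).base pt =
          (⟨⊥, Ideal.isPrime_bot⟩ : PrimeSpectrum A) := by
        apply PrimeSpectrum.ext
        change Ideal.comap A.subtype (IsLocalRing.maximalIdeal K) = ⊥
        rw [IsLocalRing.maximalIdeal_eq_bot]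
        exact Ideal.comap_bot_of_injective _ Subtype.val_injective
      have hx'fst : (pullback.fst f g).base x' = iC.base ξ' := by
        change (pullback.fst f g).base (σ.base pt) = _
        rw [← Scheme.Hom.comp_apply, pullback.lift_fst, Scheme.Hom.comp_apply,
          Scheme.fromSpecResidueField_apply]
      have hx'Z : (pullback.fst f g).base x' ∈ Z := by
        rw [hx'fst]
        apply hZ
        · rw [← hrangeC]; exact ⟨ξ', rfl⟩
        · intro z' hz' hcl
          rw [← hrangeC] at hz'
          obtain ⟨w, rfl⟩ := hz'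
          have hsp : iC.base w ⤳ iC.base ξ' := specializes_iff_mem_closure.mpr hcl
          have h1 : w ⤳ ξ' := (iC.isClosedEmbedding.isInducing.specializes_iff).mp hsp
          rw [hmax w h1]
      have hx'snd : (pullback.snd f g).base x' = genericPoint (Spec (CommRingCat.of A)) := by
        change (pullback.snd f g).base (σ.base pt) = _
        rw [← Scheme.Hom.comp_apply, pullback.lift_snd, genericPoint_eq_bot_of_affine, hptbot]
        rfl
      have hsurj : Function.Surjective ((pullback.snd f g).residueFieldMap x').hom :=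
        Groth.Agent.Lib.Helper41.FieldPoints.residueFieldMap_surjective_of_valuationSubring A
          (pullback.snd f g) σ (pullback.lift_snd _ _ _)
      have hbij : Function.Bijective ((pullback.snd f g).residueFieldMap x').hom :=
        ⟨RingHom.injective _, hsurj⟩
      obtain ⟨s, hs₁, p, hp⟩ := Hs A g hgcl x' hx'Z hx'snd hbij
      have hp' : p = (pullback.snd f g).base x' := by
        have h1 := congrArg (fun m => m.base p) hs₁
        change (s ≫ pullback.snd f g).base p = p at h1
        rw [Scheme.Hom.comp_apply, hp] at h1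
        exact h1.symm
      let τ : Spec (CommRingCat.of K) ⟶ pullback f g :=
        Spec.map (CommRingCat.ofHom A.subtype) ≫ s
      have hστ : σ = τ := by
        refine Groth.Agent.Lib.Helper41.FieldPoints.hom_ext_of_residueFieldMap_surjective
          (pullback.snd f g) σ τ ?_ hsurj ?_
        · change x' = s.base ((Spec.map (CommRingCat.ofHom A.subtype)).base pt)
          rw [← hp, hp']
          congr 1
          change (pullback.snd f g).base (σ.base pt) = _
          rw [← Scheme.Hom.comp_apply, pullback.lift_snd]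
        · change _ = (Spec.map (CommRingCat.ofHom A.subtype) ≫ s) ≫ pullback.snd f g
          rw [Category.assoc, hs₁, Category.comp_id, pullback.lift_snd]
      let l₀ : Spec (CommRingCat.of A) ⟶ X := s ≫ pullback.fst f g
      have hl₀f : l₀ ≫ f = g := by
        change (s ≫ pullback.fst f g) ≫ f = g
        rw [Category.assoc, pullback.condition, ← Category.assoc, hs₁, Category.id_comp]
      have hl₀K : Spec.map (CommRingCat.ofHom A.subtype) ≫ l₀ =
          IC.subscheme.fromSpecResidueField ξ' ≫ iC := by
        change _ ≫ s ≫ pullback.fst f g = _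
        rw [← Category.assoc]
        change τ ≫ _ = _
        rw [← hστ, pullback.lift_fst]
      have hl₀C : Set.range l₀.base ⊆ (C : Set X) := by
        apply Groth.Agent.Lib.Helper41.FieldPoints.range_subset_of_bot_mem l₀ isClosed_closure
        rw [← hptbot, ← Scheme.Hom.comp_apply, hl₀K, Scheme.Hom.comp_apply,
          Scheme.fromSpecResidueField_apply, ← hrangeC]
        exact ⟨ξ', rfl⟩
      obtain ⟨l, hl⟩ :=
        Groth.Agent.Lib.Helper41.FieldPoints.exists_lift_subscheme_of_isReduced l₀ C hl₀C
      refine ⟨l, ?_, ?_⟩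
      · change l ≫ iC ≫ f = g
        rw [← Category.assoc]
        change (l ≫ IC.subschemeι) ≫ f = g
        rw [hl, hl₀f]
      · apply (cancel_mono iC).1
        rw [Category.assoc]
        change _ ≫ l ≫ IC.subschemeι = _
        rw [hl, hl₀K]
    obtain ⟨U, hyU, hprop⟩ := key
    have hC : IsClosed ((f ⁻¹ᵁ U).ι.base ⁻¹' closure Z) :=
      isClosed_closure.preimage (f ⁻¹ᵁ U).ι.continuous
    refine ⟨U, hyU, hC, ?_⟩
    have h1 : f' ∣_ U = iC ∣_ (f ⁻¹ᵁ U) ≫ f ∣_ U := morphismRestrict_comp iC f U
    rw [h1] at hprop
    refine (Groth.Agent.Lib.Helper21.ProperOver.isProper_comp_iff_of_range_eq (f ∣_ U)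
      (iC ∣_ (f ⁻¹ᵁ U)) _ ?_).mp hprop
    rw [Scheme.IdealSheafData.range_subschemeι, Scheme.IdealSheafData.coe_support_vanishingIdeal]
    ext v
    change v ∈ Set.range (iC ∣_ (f ⁻¹ᵁ U)).base ↔ v.1 ∈ closure Z
    constructor
    · rintro ⟨w, rfl⟩
      rw [morphismRestrict_base_coe, ← hrangeC]
      exact ⟨_, rfl⟩
    · intro hv
      rw [← hrangeC] at hv
      obtain ⟨w, hw⟩ := hv
      have hwU : w ∈ iC ⁻¹ᵁ (f ⁻¹ᵁ U) := by
        change iC.base w ∈ f ⁻¹ᵁ U
        rw [hw]
        exact v.2
      refine ⟨⟨w, hwU⟩, Subtype.ext ?_⟩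
      rw [morphismRestrict_base_coe]
      exact hw

end Groth.Agent.S4978
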