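import Groth.Statements.S4985
import Groth.Agent.Lib.Helper73.DimFormula.ClosedSubscheme

set_option autoImplicit false
open CategoryTheory AlgebraicGeometry
universe u v w
open EGA43

namespace Groth.Agent.S4985

/-- Let Y be a locally Noetherian scheme, f : X ⟶ Y a morphism of finite type, x a point of X with y = f
x, X' an irreducible closed subset of X containing x, regarded as a reduced closed subscheme, and Y'
the closure of f(X') regarded as a reduced closed subscheme of Y, with generic point η'. Write A, B,
A', B' for the local rings of Y at y, of X at x, of Y' at y and of X' at x, and B ⊗ κ(y), B' ⊗ κ(y)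
for the local rings at x of the fibres over y of X and of X'. Then dim B' = dim A + dim(B ⊗ κ(y)) if
and only if all of the following hold: (i) dim A' = dim A; (ii) dim(B' ⊗ κ(y)) = dim(B ⊗ κ(y));
(iii) X' is equidimensional over Y' at x, i.e. the local dimension at x of the fibre of X' over y
equals dim(X' ∩ f⁻¹(η')); (iv) dim B' = dim A' + dim(B' ⊗ κ(y)) (the published (iv) carries the
correction term dim_x − dim of (iii), which vanishes under (iii)). -/
theorem result {X Y : Scheme.{u}} [IsLocallyNoetherian Y] (f : X ⟶ Y)
    [LocallyOfFiniteType f] [QuasiCompact f] (x : X) (X' : TopologicalSpace.Closeds X) (hirr : IsIrreducible (X' : Set X))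
    (hx : x ∈ X') (w : ↥(Scheme.IdealSheafData.vanishingIdeal X').subscheme)
    (hw : (Scheme.IdealSheafData.vanishingIdeal X').subschemeι.base w = x)
    (v : ↥(Scheme.IdealSheafData.vanishingIdeal
      (⟨closure (f.base '' (X' : Set X)), isClosed_closure⟩ : TopologicalSpace.Closeds Y)).subscheme)
    (hv : (Scheme.IdealSheafData.vanishingIdeal
      (⟨closure (f.base '' (X' : Set X)), isClosed_closure⟩ : TopologicalSpace.Closeds Y)).subschemeι.base v = f.base x)
    (η' : Y) (hη' : closure ({η'} : Set Y) = closure (f.base '' (X' : Set X))) :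
    letI ιX := (Scheme.IdealSheafData.vanishingIdeal X').subschemeι
    letI dA := ringKrullDim (Y.presheaf.stalk (f.base x))
    letI dB := ringKrullDim (X.presheaf.stalk x)
    letI dA' := ringKrullDim ((Scheme.IdealSheafData.vanishingIdeal
      (⟨closure (f.base '' (X' : Set X)), isClosed_closure⟩ : TopologicalSpace.Closeds Y)).subscheme.presheaf.stalk v)
    letI dB' := ringKrullDim ((Scheme.IdealSheafData.vanishingIdeal X').subscheme.presheaf.stalk w)
    letI dBk := ringKrullDim ((f.fiber (f.base x)).presheaf.stalk (f.asFiber x))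
    letI dB'k := ringKrullDim (((ιX ≫ f).fiber ((ιX ≫ f).base w)).presheaf.stalk ((ιX ≫ f).asFiber w))
    letI e' := topologicalKrullDim ↥((X' : Set X) ∩ f.base ⁻¹' {η'})
    (dB' = dA + dBk ↔
      (dA' = dA ∧ dB'k = dBk ∧ FlatMor.fibreDimAt (ιX ≫ f) w = e' ∧ dB' = dA' + dB'k)) := by
  open Groth.Agent.Lib.Helper73 in
  obtain ⟨ξ', hcl, hξx, hfξ'⟩ := exists_genericPoint_of_closeds f X' hirr x hx η' hη'
  have hi : Set.range (Scheme.IdealSheafData.vanishingIdeal X').subschemeι =
      closure ({ξ'} : Set X) := by
    rw [Scheme.IdealSheafData.range_subschemeι, hcl]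
    exact Scheme.IdealSheafData.coe_support_vanishingIdeal _
  have hj : Set.range (Scheme.IdealSheafData.vanishingIdeal
      (⟨closure (f.base '' (X' : Set X)), isClosed_closure⟩ :
        TopologicalSpace.Closeds Y)).subschemeι = closure ({f ξ'} : Set Y) := by
    rw [Scheme.IdealSheafData.range_subschemeι, hfξ', hη']
    exact Scheme.IdealSheafData.coe_support_vanishingIdeal _
  have hx' : x ∈ closure ({ξ'} : Set X) ∩ f ⁻¹' {f x} :=
    ⟨specializes_iff_mem_closure.mp hξx, rfl⟩
  obtain ⟨a, b, d, n, n', h1, h2, h3, h4, h5, h6, h7, h8, hbd, hn'n, hche, hab⟩ :=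
    exists_closed_subscheme_dim_data f ξ' x hξx _ hi w hw _ hj v hv hx'
  have he' : topologicalKrullDim ↥((X' : Set X) ∩ f.base ⁻¹' {η'}) =
      ((resTrdegNat f ξ' : ℕ) : WithBot ℕ∞) := by
    rw [← hcl]
    exact topologicalKrullDim_closure_inter_fiber f ξ' η' hfξ'
  rw [h1, h2, h3, h4, h5, h6, he']
  constructor
  · intro h
    have h' : a = d + n := by exact_mod_cast h
    have e1 : b = d := by omega
    have e2 : n' = n := by omega
    have e3 : n' + resTrdegNat f x = resTrdegNat f ξ' := by omega
    have e4 : a = b + n' := by omega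
    refine ⟨by rw [e1], by rw [e2], by rw [e3], ?_⟩
    rw [e4]; push_cast; rfl
  · rintro ⟨e1, e2, e3, e4⟩
    have e1' : b = d := by exact_mod_cast e1
    have e2' : n' = n := by exact_mod_cast e2
    have e4' : a = b + n' := by exact_mod_cast e4
    have : a = d + n := by omega
    rw [this]; push_cast; rfl

end Groth.Agent.S4985
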