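import Groth.Statements.S4986
import Groth.Agent.Lib.Helper73.DimFormula.ClosedSubscheme

set_option autoImplicit false
open CategoryTheory AlgebraicGeometry
universe u v w
open EGA43

namespace Groth.Agent.S4986

/-- Let Y be locally Noetherian, f : X ⟶ Y of finite type, x ∈ X, y = f x, X' an irreducible closed
subset containing x with its reduced structure, Y' the closure of f(X') with its reduced structure
and generic point η', and A, B, A', B' the local rings of Y at y, of X at x, of Y' at y and of X' at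
x. Suppose dim B = dim A + dim(B ⊗ κ(y)). Then X' satisfies the four conditions (i) dim A' = dim A,
(ii) dim_x(X' ∩ X_y) = dim_x(X_y), (iii) X' equidimensional over Y' at x, (iv) dim B' = dim A' +
dim(B' ⊗ κ(y)), if and only if dim B' = dim B. -/
theorem result {X Y : Scheme.{u}} [IsLocallyNoetherian Y] (f : X ⟶ Y)
    [LocallyOfFiniteType f] [QuasiCompact f] (x : X) (X' : TopologicalSpace.Closeds X) (hirr : IsIrreducible (X' : Set X))
    (hx : x ∈ X') (w : ↥(Scheme.IdealSheafData.vanishingIdeal X').subscheme)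
    (hw : (Scheme.IdealSheafData.vanishingIdeal X').subschemeι.base w = x)
    (v : ↥(Scheme.IdealSheafData.vanishingIdeal
      (⟨closure (f.base '' (X' : Set X)), isClosed_closure⟩ : TopologicalSpace.Closeds Y)).subscheme)
    (hv : (Scheme.IdealSheafData.vanishingIdeal
      (⟨closure (f.base '' (X' : Set X)), isClosed_closure⟩ : TopologicalSpace.Closeds Y)).subschemeι.base v = f.base x)
    (η' : Y) (hη' : closure ({η'} : Set Y) = closure (f.base '' (X' : Set X))) :
    letI ιX := (Scheme.IdealSheafData.vanishingIdeal X').subschemeι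
    letI dA := ringKrullDim (Y.presheaf.stalk (f.base x))
    letI dB := ringKrullDim (X.presheaf.stalk x)
    letI dA' := ringKrullDim ((Scheme.IdealSheafData.vanishingIdeal
      (⟨closure (f.base '' (X' : Set X)), isClosed_closure⟩ : TopologicalSpace.Closeds Y)).subscheme.presheaf.stalk v)
    letI dB' := ringKrullDim ((Scheme.IdealSheafData.vanishingIdeal X').subscheme.presheaf.stalk w)
    letI dBk := ringKrullDim ((f.fiber (f.base x)).presheaf.stalk (f.asFiber x))
    letI dB'k := ringKrullDim (((ιX ≫ f).fiber ((ιX ≫ f).base w)).presheaf.stalk ((ιX ≫ f).asFiber w))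
    letI e' := topologicalKrullDim ↥((X' : Set X) ∩ f.base ⁻¹' {η'})
    dB = dA + dBk →
      ((dA' = dA ∧ FlatMor.localDim ↥((X' : Set X) ∩ f.base ⁻¹' {f.base x}) ⟨x, ⟨hx, rfl⟩⟩ = FlatMor.fibreDimAt f x ∧
        FlatMor.fibreDimAt (ιX ≫ f) w = e' ∧ dB' = dA' + dB'k) ↔ dB' = dB) := by
  open Groth.Agent.Lib.Helper73 in
  obtain ⟨ξ', hcl, hξx, hfξ'⟩ := exists_genericPoint_of_closeds f X' hirr x hx η' hη'
  have hi : Set.range (Scheme.IdealSheafData.vanishingIdeal X').subschemeι =
      closure ({ξ'} : Set X) := by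
    rw [Scheme.IdealSheafData.range_subschemeι, hcl]
    exact Scheme.IdealSheafData.coe_support_vanishingIdeal _
  have hj : Set.range (Scheme.IdealSheafData.vanishingIdeal
      (⟨closure (f.base '' (X' : Set X)), isClosed_closure⟩ :
        TopologicalSpace.Closeds Y)).subschemeι = closure ({f ξ'} : Set Y) := by
    rw [Scheme.IdealSheafData.range_subschemeι, hfξ', hη']
    exact Scheme.IdealSheafData.coe_support_vanishingIdeal _
  have hx' : x ∈ closure ({ξ'} : Set X) ∩ f ⁻¹' {f x} :=
    ⟨specializes_iff_mem_closure.mp hξx, rfl⟩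
  obtain ⟨a, b, d, n, n', h1, h2, h3, h4, h5, h6, h7, h8, hbd, hn'n, hche, hab⟩ :=
    exists_closed_subscheme_dim_data f ξ' x hξx _ hi w hw _ hj v hv hx'
  have he' : topologicalKrullDim ↥((X' : Set X) ∩ f.base ⁻¹' {η'}) =
      ((resTrdegNat f ξ' : ℕ) : WithBot ℕ∞) := by
    rw [← hcl]
    exact topologicalKrullDim_closure_inter_fiber f ξ' η' hfξ'
  have hloc : FlatMor.localDim ↥((X' : Set X) ∩ f.base ⁻¹' {f.base x}) ⟨x, ⟨hx, rfl⟩⟩ =
      ((n' + resTrdegNat f x : ℕ) : WithBot ℕ∞) := by
    have key : ∀ (K : Set X) (hK : K = closure ({ξ'} : Set X)) (hxK : x ∈ K ∩ f ⁻¹' {f x}),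
        FlatMor.localDim ↥(K ∩ f ⁻¹' {f x}) ⟨x, hxK⟩ =
          ((n' + resTrdegNat f x : ℕ) : WithBot ℕ∞) := by
      rintro K rfl hxK
      exact h8
    exact key (X' : Set X) hcl.symm ⟨hx, rfl⟩
  rw [h1, h2, h3, h4, h5, h6, h7, he', hloc]
  intro hB
  constructor
  · rintro ⟨e1, e2, e3, e4⟩
    have e1' : b = d := by exact_mod_cast e1
    have e2' : n' + resTrdegNat f x = n + resTrdegNat f x := by exact_mod_cast e2
    have e4' : a = b + n' := by exact_mod_cast e4
    have : a = d + n := by omega
    rw [hB, this]; push_cast; rfl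
  · intro h
    rw [hB] at h
    have h' : a = d + n := by exact_mod_cast h
    have e1 : b = d := by omega
    have e2 : n' = n := by omega
    have e3 : n' + resTrdegNat f x = resTrdegNat f ξ' := by omega
    have e4 : a = b + n' := by omega
    refine ⟨by rw [e1], by rw [e2], by rw [e3], ?_⟩
    rw [e4]; push_cast; rfl

end Groth.Agent.S4986
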