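import Groth.Statements.S4990
import Mathlib.RingTheory.Ideal.KrullsHeightTheorem
import Mathlib.RingTheory.Ideal.GoingDown
import Mathlib.RingTheory.LocalRing.Quotient
-- import your own Groth.Agent.* helpers here

set_option autoImplicit false
universe u
open CategoryTheory CategoryTheory.Limits AlgebraicGeometry TopologicalSpace
open Unram17

namespace Groth.Agent.S4990

theorem flat_of_comp_bijective {A B C : Type u} [CommRing A] [CommRing B] [CommRing C]
    (h : A →+* B) (g : B →+* C) (hg : Function.Bijective g) (hgh : (g.comp h).Flat) : h.Flat := by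
  have he : h = ((RingEquiv.ofBijective g hg).symm : C →+* B).comp (g.comp h) := by
    ext a
    simp only [RingHom.coe_comp, RingHom.coe_coe, Function.comp_apply]
    exact ((RingEquiv.ofBijective g hg).symm_apply_apply (h a)).symm
  rw [he]
  exact RingHom.Flat.comp hgh (RingHom.Flat.of_bijective (RingEquiv.ofBijective g hg).symm.bijective)

theorem ringKrullDim_eq_add_of_flat_local {R S : Type u} [CommRing R] [CommRing S]
    [IsLocalRing R] [IsLocalRing S] [IsNoetherianRing R] [IsNoetherianRing S]
    (φ : R →+* S) (hφ : φ.Flat) [IsLocalHom φ] :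
    ringKrullDim S = ringKrullDim R +
      ringKrullDim (S ⧸ (IsLocalRing.maximalIdeal R).map φ) := by
  algebraize [φ]
  have hlies : (IsLocalRing.maximalIdeal S).LiesOver (IsLocalRing.maximalIdeal R) :=
    ⟨(IsLocalRing.maximalIdeal_comap φ).symm⟩
  have key := Ideal.height_eq_height_add_of_liesOver_of_hasGoingDown
    (IsLocalRing.maximalIdeal R) (IsLocalRing.maximalIdeal S)
  set I := (IsLocalRing.maximalIdeal R).map φ with hI
  have hItop : I ≠ ⊤ := (IsLocalRing.map_maximalIdeal_lt_top φ).ne
  have : Nontrivial (S ⧸ I) := Ideal.Quotient.nontrivial_iff.mpr hItop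
  have := IsLocalRing.of_surjective' (Ideal.Quotient.mk I) Ideal.Quotient.mk_surjective
  have := IsLocalHom.of_surjective (Ideal.Quotient.mk I) Ideal.Quotient.mk_surjective
  have hmax : (IsLocalRing.maximalIdeal S).map (Ideal.Quotient.mk I) =
      IsLocalRing.maximalIdeal (S ⧸ I) := by
    ext x
    obtain ⟨x, rfl⟩ := Ideal.Quotient.mk_surjective x
    simp [sup_eq_left.mpr (IsLocalRing.le_maximalIdeal hItop)]
  have key' : (IsLocalRing.maximalIdeal S).height = (IsLocalRing.maximalIdeal R).height +
      (IsLocalRing.maximalIdeal (S ⧸ I)).height := by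
    rw [← hmax]
    exact key
  rw [← IsLocalRing.maximalIdeal_height_eq_ringKrullDim,
    ← IsLocalRing.maximalIdeal_height_eq_ringKrullDim,
    ← IsLocalRing.maximalIdeal_height_eq_ringKrullDim, key']
  push_cast
  rfl


/-- Let Y be locally Noetherian and f : X ⟶ Y locally of finite type, smooth on an open neighbourhood of
a point x with image y. Then the Krull dimension of the local ring of X at x is the sum of the Krull
dimension of the local ring of Y at y and of the Krull dimension of the local ring of the fibre, the
quotient of the local ring at x by the extension of the maximal ideal at y. -/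
theorem result {X Y : Scheme.{u}} (f : X ⟶ Y)
    [IsLocallyNoetherian Y] [LocallyOfFiniteType f] (x : ↥X)
    (hx : ∃ U : X.Opens, x ∈ U ∧ Smooth (U.ι ≫ f)) :
    ringKrullDim ↑(X.presheaf.stalk x) =
      ringKrullDim ↑(Y.presheaf.stalk (f.base x)) +
        ringKrullDim (↑(X.presheaf.stalk x) ⧸
          (IsLocalRing.maximalIdeal ↑(Y.presheaf.stalk (f.base x))).map (f.stalkMap x).hom) := by
  obtain ⟨U, hxU, hsm⟩ := hx
  have : IsLocallyNoetherian X := LocallyOfFiniteType.isLocallyNoetherian f
  have hflatU : Flat (U.ι ≫ f) := inferInstance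
  have hfl : (f.stalkMap x).hom.Flat := by
    obtain ⟨x', rfl⟩ : ∃ x' : U.toScheme, U.ι.base x' = x := ⟨⟨x, hxU⟩, rfl⟩
    have h1 := Flat.stalkMap (U.ι ≫ f) x'
    have h1' : (f.stalkMap (U.ι.base x') ≫ U.ι.stalkMap x').hom.Flat := by
      rw [← Scheme.Hom.stalkMap_comp]
      exact h1
    rw [CommRingCat.hom_comp] at h1'
    exact flat_of_comp_bijective _ _
      ((ConcreteCategory.isIso_iff_bijective (U.ι.stalkMap x')).mp inferInstance) h1'
  exact ringKrullDim_eq_add_of_flat_local (f.stalkMap x).hom hfl

end Groth.Agent.S4990
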