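import Groth.Statements.S4991
import Groth.Agent.Lib.Helper30.SmoothRegular

set_option autoImplicit false
universe u
open CategoryTheory CategoryTheory.Limits AlgebraicGeometry TopologicalSpace
open Unram17

namespace Groth.Agent.S4991

/-- Let Y be locally Noetherian and f : X ⟶ Y locally of finite type, smooth on an open neighbourhood of
a point x with image y. Then the local ring of X at x is regular if and only if the local ring of Y
at y is regular. -/
theorem result {X Y : Scheme.{u}} (f : X ⟶ Y)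
    [IsLocallyNoetherian Y] [LocallyOfFiniteType f] (x : ↥X)
    (hx : ∃ U : X.Opens, x ∈ U ∧ Smooth (U.ι ≫ f)) :
    IsRegularLocalRing ↑(X.presheaf.stalk x) ↔ IsRegularLocalRing ↑(Y.presheaf.stalk (f.base x)) := by
  obtain ⟨U, hxU, hsm⟩ := hx
  have h1 := Groth.Agent.Lib.Helper30.SmoothRegular.stalk_regular_iff_of_smooth (U.ι ≫ f)
    (⟨x, hxU⟩ : U.toScheme)
  have e : (U.toScheme.presheaf.stalk ⟨x, hxU⟩ : Type u) ≃+* (X.presheaf.stalk x : Type u) :=
    (U.stalkIso ⟨x, hxU⟩).commRingCatIsoToRingEquiv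
  have h2 : IsRegularLocalRing ↑(U.toScheme.presheaf.stalk ⟨x, hxU⟩) ↔
      IsRegularLocalRing ↑(X.presheaf.stalk x) :=
    ⟨fun h => IsRegularLocalRing.of_ringEquiv e, fun h => IsRegularLocalRing.of_ringEquiv e.symm⟩
  rw [← h2, h1]
  rfl

end Groth.Agent.S4991
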