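import Groth.Statements.S4993
import Mathlib
import Groth.Agent.Lib.Helper22.SmoothDim
import Groth.Agent.Lib.Helper65.EtaleCoord
import Groth.Agent.Lib.Helper79.LfpOfComp
import Groth.Agent.Lib.Helper54.CPFScheme
import Groth.Agent.Lib.Helper36.FibreEtale

set_option autoImplicit false
universe u
open CategoryTheory CategoryTheory.Limits AlgebraicGeometry TopologicalSpace
open Unram17

namespace Groth.Agent.S4993

open AlgebraicGeometry CategoryTheory CategoryTheory.Limits TensorProduct

open KaehlerDifferential in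
/-- a tower `R → A → B` of smooth `R`-algebras with `A → B` unramified and `Ω` of equal ranks
is étale. -/
theorem formallyEtale_of_rank_eq (R A B : Type u) [CommRing R] [CommRing A] [CommRing B]
    [Algebra R A] [Algebra R B] [Algebra A B] [IsScalarTower R A B]
    [Algebra.Smooth R A] [Algebra.Smooth R B] [Algebra.FormallyUnramified A B]
    (h : ∀ q : PrimeSpectrum B, Module.rankAtStalk (Ω[B⁄R]) q =
      Module.rankAtStalk (Ω[A⁄R]) (q.comap (algebraMap A B))) :
    Algebra.FormallyEtale A B := by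
  apply Groth.Agent.Lib.Helper65.EtaleCoord.formallyEtale_of_bijective_mapBaseChange R A B
  have hs : Function.Surjective (mapBaseChange R A B) := by
    intro x
    exact (KaehlerDifferential.exact_mapBaseChange_map R A B x).mp (Subsingleton.elim _ _)
  refine Module.bijective_of_surjective_of_rankAtStalk_eq hs ?_
  intro m _
  rw [Module.rankAtStalk_baseChange, h]

open KaehlerDifferential in
theorem rankAtStalk_kaehler_eq_fibreDimAt (R B : Type u) [CommRing R] [CommRing B]
    [Algebra R B] [Algebra.Smooth R B] (q : PrimeSpectrum B) :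
    FlatMor.fibreDimAt (Spec.map (CommRingCat.ofHom (algebraMap R B))) q =
      ((Module.rankAtStalk (Ω[B⁄R]) q : ℕ) : WithBot ℕ∞) := by
  haveI : Algebra.IsSmoothAt R q.asIdeal := by
    have := Algebra.smoothLocus_eq_univ (R := R) (A := B)
    have h2 : q ∈ Algebra.smoothLocus R B := by rw [this]; trivial
    exact h2
  obtain ⟨g, hg, hstd⟩ := Algebra.IsSmoothAt.exists_notMem_isStandardSmooth R q.asIdeal
  obtain ⟨n, hn⟩ : ∃ n, Algebra.IsStandardSmoothOfRelativeDimension n R (Localization.Away g) := by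
    obtain ⟨ι, σ, h1, h2, ⟨P⟩⟩ := hstd
    exact ⟨_, ι, σ, h1, h2, P, rfl⟩
  -- the prime of `B_g`
  have hdisj : Disjoint (Submonoid.powers g : Set B) q.asIdeal := by
    rwa [Ideal.disjoint_powers_iff_notMem_of_isPrime]
  let q' : PrimeSpectrum (Localization.Away g) :=
    ⟨q.asIdeal.map (algebraMap B (Localization.Away g)),
      IsLocalization.isPrime_of_isPrime_disjoint (.powers g) _ _ q.2 hdisj⟩
  have hq' : q'.comap (algebraMap B (Localization.Away g)) = q := by
    ext1
    exact IsLocalization.under_map_of_isPrime_disjoint (.powers g) _ q.2 hdisj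
  haveI : Nontrivial (Localization.Away g) := q'.nontrivial
  -- rank
  have hr1 : Module.rankAtStalk (Ω[Localization.Away g⁄R]) q' = Module.rankAtStalk (Ω[B⁄R]) q := by
    rw [Module.rankAtStalk_isBaseChange
      (KaehlerDifferential.isBaseChange_of_formallyEtale R B (Localization.Away g)) q', hq']
  have hr2 : Module.rankAtStalk (Ω[Localization.Away g⁄R]) q' = n := by
    rw [Module.rankAtStalk_eq_finrank_of_free]
    have := Algebra.IsStandardSmoothOfRelativeDimension.rank_kaehlerDifferential (R := R)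
      (S := Localization.Away g) n
    simp only [Pi.natCast_apply] at *
    exact Module.finrank_eq_of_rank_eq this
  -- fibre dimension
  have hf1 := Groth.Agent.Lib.Helper22.SmoothDim.fibreDimAt_SpecMap_of_isStandardSmoothOfRelativeDimension
    (algebraMap R (Localization.Away g)) n
    ((RingHom.isStandardSmoothOfRelativeDimension_algebraMap n).mpr hn) q'
  haveI : Etale (Spec.map (CommRingCat.ofHom (algebraMap B (Localization.Away g)))) := by
    haveI : IsOpenImmersion (Spec.map (CommRingCat.ofHom (algebraMap B (Localization.Away g)))) :=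
      IsOpenImmersion.of_isLocalization g
    infer_instance
  have hf2 := Groth.Agent.Lib.Helper36.FibreEtale.fibreDimAt_eq
    (Spec.map (CommRingCat.ofHom (algebraMap R B)))
    (Spec.map (CommRingCat.ofHom (algebraMap R (Localization.Away g))))
    (Spec.map (CommRingCat.ofHom (algebraMap B (Localization.Away g)))) (𝟙 _)
    (by rw [Category.comp_id, ← Spec.map_comp, ← CommRingCat.ofHom_comp,
      ← IsScalarTower.algebraMap_eq]) q'
  have hq'' : (Spec.map (CommRingCat.ofHom (algebraMap B (Localization.Away g)))) q' = q := hq'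
  rw [hq''] at hf2
  rw [hf2, hf1, ← hr1, hr2]

theorem flat_of_mono_of_fibreDimAt_eq {X Y S : Scheme.{u}} (f : Y ⟶ S) (h : X ⟶ S)
    [Smooth f] [Smooth h] (g : X ⟶ Y) (w : g ≫ f = h) [Mono g]
    (hd : ∀ x : ↥X, FlatMor.fibreDimAt f (g.base x) = FlatMor.fibreDimAt h x) : Flat g := by
  rw [HasRingHomProperty.iff_exists_appLE (P := @Flat)
    (RingHom.Flat.stableUnderComposition.stableUnderCompositionWithLocalizationAway
      RingHom.Flat.holdsForLocalizationAway).1]
  intro x
  obtain ⟨W, hW, U, hU, V, hV, e₁, e₂, hxV⟩ :=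
    Groth.Agent.Lib.Helper54.CPF.exists_affine_triple g f x
  refine ⟨⟨U, hU⟩, ⟨V, hV⟩, hxV, e₂, ?_⟩
  have e₃ : V ≤ h ⁻¹ᵁ W := by
    subst w
    exact fun z hz => e₁ (e₂ hz)
  have hcomp : f.appLE W U e₁ ≫ g.appLE U V e₂ = h.appLE W V e₃ := by
    subst w
    exact Scheme.Hom.appLE_comp_appLE _ _ _ _ _ _ _
  have h1 : (f.appLE W U e₁).hom.Smooth :=
    HasRingHomProperty.appLE (P := @Smooth) f inferInstance ⟨W, hW⟩ ⟨U, hU⟩ e₁
  have h2 : (h.appLE W V e₃).hom.Smooth :=
    HasRingHomProperty.appLE (P := @Smooth) h inferInstance ⟨W, hW⟩ ⟨V, hV⟩ e₃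
  have h3 : (g.appLE U V e₂).hom.FormallyUnramified :=
    HasRingHomProperty.appLE (P := @FormallyUnramified) g inferInstance ⟨U, hU⟩ ⟨V, hV⟩ e₂
  letI : Algebra Γ(S, W) Γ(Y, U) := (f.appLE W U e₁).hom.toAlgebra
  letI : Algebra Γ(Y, U) Γ(X, V) := (g.appLE U V e₂).hom.toAlgebra
  letI : Algebra Γ(S, W) Γ(X, V) := (h.appLE W V e₃).hom.toAlgebra
  haveI : IsScalarTower Γ(S, W) Γ(Y, U) Γ(X, V) := .of_algebraMap_eq' (by
    simp only [RingHom.algebraMap_toAlgebra]
    rw [← hcomp]
    rfl)
  haveI : Algebra.Smooth Γ(S, W) Γ(Y, U) := h1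
  haveI : Algebra.Smooth Γ(S, W) Γ(X, V) := h2
  haveI : Algebra.FormallyUnramified Γ(Y, U) Γ(X, V) := h3
  have key : Algebra.FormallyEtale Γ(Y, U) Γ(X, V) := by
    apply formallyEtale_of_rank_eq Γ(S, W) Γ(Y, U) Γ(X, V)
    suffices H : ∀ q : Spec Γ(X, V), Module.rankAtStalk (Ω[Γ(X, V)⁄Γ(S, W)]) q =
        Module.rankAtStalk (Ω[Γ(Y, U)⁄Γ(S, W)])
          (PrimeSpectrum.comap (algebraMap Γ(Y, U) Γ(X, V)) q) from fun q => H q
    intro q
    have a1 := rankAtStalk_kaehler_eq_fibreDimAt Γ(S, W) Γ(X, V) q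
    have a2 := rankAtStalk_kaehler_eq_fibreDimAt Γ(S, W) Γ(Y, U) (q.comap (algebraMap Γ(Y, U) Γ(X, V)))
    have b1 := Groth.Agent.Lib.Helper36.FibreEtale.fibreDimAt_eq h (Spec.map (h.appLE W V e₃))
      hV.fromSpec hW.fromSpec (IsAffineOpen.SpecMap_appLE_fromSpec h hW hV e₃) q
    have b2 := Groth.Agent.Lib.Helper36.FibreEtale.fibreDimAt_eq f (Spec.map (f.appLE W U e₁))
      hU.fromSpec hW.fromSpec (IsAffineOpen.SpecMap_appLE_fromSpec f hW hU e₁)
      (Spec.map (g.appLE U V e₂) q)
    have c : g (hV.fromSpec q) = hU.fromSpec (Spec.map (g.appLE U V e₂) q) := by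
      have := congr($(IsAffineOpen.SpecMap_appLE_fromSpec g hU hV e₂) q)
      simpa only [Scheme.Hom.comp_apply] using this.symm
    have d := hd (hV.fromSpec q)
    rw [c, b1, b2] at d
    have a1' : FlatMor.fibreDimAt (Spec.map (h.appLE W V e₃)) q = _ := a1
    have a2' : FlatMor.fibreDimAt (Spec.map (f.appLE W U e₁)) (Spec.map (g.appLE U V e₂) q) = _ := a2
    rw [a1', a2'] at d
    exact_mod_cast d.symm
  haveI : Algebra.FinitePresentation Γ(Y, U) Γ(X, V) :=
    Algebra.FinitePresentation.of_restrict_scalars_finitePresentation Γ(S, W) _ _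
  haveI : Algebra.Etale Γ(Y, U) Γ(X, V) := ⟨key, inferInstance⟩
  show (algebraMap Γ(Y, U) Γ(X, V)).Flat
  rw [RingHom.flat_algebraMap_iff]
  infer_instance


/-- Let f : Y ⟶ S and h : X ⟶ S be smooth and let g : X ⟶ Y satisfy g ≫ f = h. Then g is an open
immersion if and only if g is a monomorphism and, for every point x of X, the local dimension at
g(x) of the fibre of f through g(x) equals the local dimension at x of the fibre of h through x. -/
theorem result {X Y S : Scheme.{u}} (f : Y ⟶ S) (h : X ⟶ S)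
    [Smooth f] [Smooth h] (g : X ⟶ Y) (w : g ≫ f = h) :
    IsOpenImmersion g ↔ Mono g ∧ ∀ x : ↥X, FlatMor.fibreDimAt f (g.base x) = FlatMor.fibreDimAt h x := by
  constructor
  · intro hg
    refine ⟨inferInstance, fun x => ?_⟩
    exact Groth.Agent.Lib.Helper36.FibreEtale.fibreDimAt_eq f h g (𝟙 S)
      (by rw [Category.comp_id, w]) x
  · rintro ⟨hm, hd⟩
    haveI := flat_of_mono_of_fibreDimAt_eq f h g w hd
    haveI : LocallyOfFinitePresentation g :=
      Groth.Agent.Lib.Helper79.lfp_of_comp (f := g) (g := f) (by rw [w]; infer_instance)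
        inferInstance
    exact IsOpenImmersion.of_flat_of_mono g


end Groth.Agent.S4993
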