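import Groth.Statements.S4996
-- import your own Groth.Agent.* helpers here
import Groth.Agent.S4579

set_option autoImplicit false
universe u
open Unram17

namespace Groth.Agent.S4996

open TensorProduct

open TensorProduct in
/-- Let B be a finitely presented algebra over a commutative ring A. Then B is smooth over A if and only
if B is flat over A and every fibre ring κ(p) ⊗_A B, p a prime of A, is geometrically regular over
the residue field κ(p), i.e. stays a regular ring after base change to any finite extension of κ(p). -/
theorem result (A B : Type u) [CommRing A] [CommRing B]
    [Algebra A B] [Algebra.FinitePresentation A B] :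
    Algebra.Smooth A B ↔
      Module.Flat A B ∧ ∀ (p : Ideal A) [p.IsPrime], CAlg.IsGeometricallyRegular p.ResidueField (p.Fiber B) := by
  constructor
  · intro h
    refine ⟨inferInstance, fun p _ => ?_⟩
    have h1 : Algebra.FormallySmooth p.ResidueField (p.Fiber B) := inferInstance
    exact ((Groth.Agent.S4579.result (k₀ := p.ResidueField) (k := p.ResidueField)
      (C := p.Fiber B)).out 0 3).mp h1
  · rintro ⟨hflat, h⟩
    refine Algebra.Smooth.of_formallySmooth_fiber fun p _ => ?_
    exact ((Groth.Agent.S4579.result (k₀ := p.ResidueField) (k := p.ResidueField)
      (C := p.Fiber B)).out 0 3).mpr (h p)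

end Groth.Agent.S4996
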