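import Groth.Statements.S4998
-- import your own Groth.Agent.* helpers here
import Mathlib.RingTheory.Etale.Field
-- import your own Groth.Agent.* helpers here

set_option autoImplicit false
universe u
open Unram17

namespace Groth.Agent.S4998

open Polynomial in
theorem pi_isSeparable (k : Type u) [Field k] {I : Type u} [Finite I] (Ai : I → Type u)
    [∀ i, Field (Ai i)] [∀ i, Algebra k (Ai i)] (h : ∀ i, Algebra.IsSeparable k (Ai i)) :
    Algebra.IsSeparable k (Π i, Ai i) := by
  classical
  cases nonempty_fintype I
  refine ⟨fun x => ?_⟩
  let S : Finset k[X] := Finset.univ.image (fun i => minpoly k (x i))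
  have hint : ∀ i, IsIntegral k (x i) := fun i => Algebra.IsSeparable.isIntegral k (x i)
  have hPsep : (∏ q ∈ S, q).Separable := by
    apply Polynomial.separable_prod'
    · intro q hq r hr hne
      obtain ⟨i, -, rfl⟩ := Finset.mem_image.1 hq
      obtain ⟨j, -, rfl⟩ := Finset.mem_image.1 hr
      rw [(minpoly.irreducible (hint i)).coprime_iff_not_dvd]
      intro hdvd
      apply hne
      exact eq_of_monic_of_associated (minpoly.monic (hint i)) (minpoly.monic (hint j))
        ((minpoly.irreducible (hint i)).associated_of_dvd (minpoly.irreducible (hint j)) hdvd)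
    · intro q hq
      obtain ⟨i, -, rfl⟩ := Finset.mem_image.1 hq
      exact Algebra.IsSeparable.isSeparable k (x i)
  have hPx : aeval x (∏ q ∈ S, q) = 0 := by
    funext i
    have h1 : (aeval x (∏ q ∈ S, q)) i = aeval (x i) (∏ q ∈ S, q) := by
      have := Polynomial.aeval_algHom_apply (Pi.evalAlgHom k Ai i) x (∏ q ∈ S, q)
      simpa using this.symm
    rw [h1, Pi.zero_apply]
    have hmem : minpoly k (x i) ∈ S := Finset.mem_image.2 ⟨i, Finset.mem_univ i, rfl⟩
    obtain ⟨c, hc⟩ := Finset.dvd_prod_of_mem (fun q => q) hmem
    rw [hc, map_mul, minpoly.aeval, zero_mul]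
  exact hPsep.of_dvd (minpoly.dvd k x hPx)

/-- Let A be an algebra of finite type over a field k. Then A is formally unramified over k if and only
if A is finite over k and every element of A has separable minimal polynomial over k (equivalently,
A is a finite product of finite separable extensions of k). -/
theorem result (k A : Type u) [Field k] [CommRing A]
    [Algebra k A] [Algebra.FiniteType k A] :
    Algebra.FormallyUnramified k A ↔ Module.Finite k A ∧ Algebra.IsSeparable k A := by
  constructor
  · intro h
    have hfin : Module.Finite k A := Algebra.FormallyUnramified.finite_of_free k A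
    refine ⟨hfin, ?_⟩
    have het : Algebra.FormallyEtale k A :=
      Algebra.FormallyEtale.of_formallyUnramified_of_field k A
    obtain ⟨I, _, Ai, _, _, e, hsep⟩ :=
      (Algebra.FormallyEtale.iff_exists_algEquiv_prod k A).mp het
    have hpi : Algebra.IsSeparable k (Π i, Ai i) := pi_isSeparable k Ai hsep
    exact AlgEquiv.Algebra.isSeparable e.symm
  · rintro ⟨hfin, hsep⟩
    refine ⟨?_⟩
    have hD : ∀ x : A, KaehlerDifferential.D k A x = 0 := by
      intro x
      have hs : (minpoly k x).Separable := Algebra.IsSeparable.isSeparable k x
      obtain ⟨a, b, hab⟩ := hs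
      have h0 : Polynomial.aeval x (minpoly k x) = 0 := minpoly.aeval k x
      have h1 := congrArg (KaehlerDifferential.D k A) h0
      rw [Derivation.map_aeval, map_zero] at h1
      have h2 := congrArg (Polynomial.aeval x) hab
      rw [map_add, map_mul, map_mul, h0, mul_zero, zero_add, map_one] at h2
      calc KaehlerDifferential.D k A x = (1 : A) • KaehlerDifferential.D k A x :=
            (one_smul _ _).symm
        _ = (Polynomial.aeval x b * Polynomial.aeval x (Polynomial.derivative (minpoly k x))) •
              KaehlerDifferential.D k A x := by rw [h2]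
        _ = Polynomial.aeval x b • (Polynomial.aeval x (Polynomial.derivative (minpoly k x)) •
              KaehlerDifferential.D k A x) := mul_smul _ _ _
        _ = 0 := by rw [h1, smul_zero]
    have htop : (⊥ : Submodule A (KaehlerDifferential k A)) = ⊤ := by
      rw [← KaehlerDifferential.span_range_derivation k A, eq_comm, Submodule.span_eq_bot]
      rintro _ ⟨x, rfl⟩
      exact hD x
    have := subsingleton_of_bot_eq_top htop
    exact (Submodule.subsingleton_iff A).1 this

end Groth.Agent.S4998
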