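import Groth.Statements.S5012
import Mathlib
import Groth.Agent.Lib.Helper49.MacLane2
import Groth.Agent.Lib.Helper65.RegularSmooth
import Groth.Agent.Lib.Helper76.RegularLocal
-- import your own Groth.Agent.* helpers here

set_option autoImplicit false
universe u
open Unram17

namespace Groth.Agent.S5012

open IsLocalRing Algebra TensorProduct

theorem maximalIdeal_le_nilradical_of_minimal {A : Type*} [CommRing A] (p : Ideal A) [p.IsPrime]
    (hp : p ∈ minimalPrimes A) :
    maximalIdeal (Localization.AtPrime p) ≤ nilradical (Localization.AtPrime p) := by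
  have hss := IsLocalization.subsingleton_primeSpectrum_of_mem_minimalPrimes p hp
    (Localization.AtPrime p)
  rw [nilradical_eq_sInf]
  refine le_sInf fun J hJ => ?_
  have : (⟨J, hJ⟩ : PrimeSpectrum (Localization.AtPrime p)) =
      ⟨maximalIdeal _, inferInstance⟩ := Subsingleton.elim _ _
  rw [PrimeSpectrum.ext_iff] at this
  exact this.ge

theorem isField_of_minimal_of_isReduced {A : Type*} [CommRing A] (p : Ideal A) [p.IsPrime]
    (hp : p ∈ minimalPrimes A) [IsReduced (Localization.AtPrime p)] :
    IsField (Localization.AtPrime p) := by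
  rw [IsLocalRing.isField_iff_maximalIdeal_eq, eq_bot_iff]
  exact (maximalIdeal_le_nilradical_of_minimal p hp).trans (nilradical_eq_zero _).le

theorem geomReduced_iff_isSmoothAt (k A : Type u) [Field k] [CommRing A] [Algebra k A]
    [Algebra.FiniteType k A] (p : Ideal A) [p.IsPrime] (hp : p ∈ minimalPrimes A) :
    Algebra.IsGeometricallyReduced k (Localization.AtPrime p) ↔ Algebra.IsSmoothAt k p := by
  constructor
  · intro h
    have hred : IsReduced (Localization.AtPrime p) := Algebra.isReduced_of_isGeometricallyReduced k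
    have hF := isField_of_minimal_of_isReduced p hp
    let := hF.toField
    exact Groth.Agent.Lib.Helper49.MacLane.formallySmooth_of_geomReduced
  · intro h
    have hsm : Algebra.FormallySmooth k (Localization.AtPrime p) := h
    have hreg := Groth.Agent.Lib.Helper65.RegularSmooth.isRegularLocalRing_of_formallySmooth k
      (Localization.AtPrime p)
    have hdom := Groth.Agent.Lib.Helper76.isDomain_of_isRegularLocalRing (Localization.AtPrime p)
    have hF : IsField (Localization.AtPrime p) := by
      rw [IsLocalRing.isField_iff_maximalIdeal_eq, eq_bot_iff]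
      exact (maximalIdeal_le_nilradical_of_minimal p hp).trans (nilradical_eq_zero _).le
    let := hF.toField
    exact Groth.Agent.Lib.Helper49.MacLane.geomReduced_of_formallySmooth

theorem mem_of_dense_of_minimal {A : Type*} [CommRing A] [IsNoetherianRing A]
    (U : TopologicalSpace.Opens (PrimeSpectrum A)) (hU : Dense (U : Set (PrimeSpectrum A)))
    (p : Ideal A) [hpp : p.IsPrime] (hp : p ∈ minimalPrimes A) :
    (⟨p, hpp⟩ : PrimeSpectrum A) ∈ U := by
  classical
  have hfin : (minimalPrimes A).Finite := minimalPrimes.finite_of_isNoetherianRing A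
  let S : Finset (Ideal A) := hfin.toFinset.erase p
  let I : Ideal A := S.inf id
  have hxO : (⟨p, hpp⟩ : PrimeSpectrum A) ∈ (PrimeSpectrum.zeroLocus (I : Set A))ᶜ := by
    intro hmem
    rw [PrimeSpectrum.mem_zeroLocus, SetLike.coe_subset_coe] at hmem
    obtain ⟨q, hqS, hq⟩ := (Ideal.IsPrime.inf_le' hpp).mp hmem
    rw [Finset.mem_erase, Set.Finite.mem_toFinset] at hqS
    exact hqS.1 (le_antisymm hq (hp.2 hqS.2.1 hq))
  have hO : IsOpen (PrimeSpectrum.zeroLocus (I : Set A))ᶜ :=
    (PrimeSpectrum.isClosed_zeroLocus _).isOpen_compl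
  obtain ⟨y, hyO, hyU⟩ := hU.inter_open_nonempty _ hO ⟨_, hxO⟩
  obtain ⟨q, hq, hqy⟩ := Ideal.exists_minimalPrimes_le (I := ⊥) (J := y.asIdeal) bot_le
  have hqp : q = p := by
    by_contra hne
    apply hyO
    rw [PrimeSpectrum.mem_zeroLocus, SetLike.coe_subset_coe]
    refine le_trans ?_ hqy
    exact Finset.inf_le (f := id) (Finset.mem_erase.mpr ⟨hne, hfin.mem_toFinset.mpr hq⟩)
  subst hqp
  have hspec : (⟨q, hpp⟩ : PrimeSpectrum A) ⤳ y := by
    rw [← PrimeSpectrum.le_iff_specializes]
    exact hqy
  exact hspec.mem_open U.isOpen hyU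


/-- Let A be an algebra of finite type over a field k. Then Spec A has a dense open subset consisting of
points at which A is smooth over k if and only if, for every minimal prime p of A, the local ring
A_p is geometrically reduced over k (that is, A_p is a field and a separable extension of k). -/
theorem result (k A : Type u) [Field k] [CommRing A] [Algebra k A]
    [Algebra.FiniteType k A] :
    (∃ U : TopologicalSpace.Opens (PrimeSpectrum A), Dense (U : Set (PrimeSpectrum A)) ∧
        ∀ p ∈ U, Algebra.IsSmoothAt k p.asIdeal) ↔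
      ∀ (p : Ideal A) [p.IsPrime], p ∈ minimalPrimes A →
        Algebra.IsGeometricallyReduced k (Localization.AtPrime p) := by
  have hN : IsNoetherianRing A := Algebra.FiniteType.isNoetherianRing k A
  have hfp : Algebra.FinitePresentation k A :=
    Algebra.FinitePresentation.of_finiteType.mp inferInstance
  constructor
  · rintro ⟨U, hU, hsm⟩ p hpp hp
    rw [geomReduced_iff_isSmoothAt k A p hp]
    exact hsm ⟨p, hpp⟩ (mem_of_dense_of_minimal U hU p hp)
  · intro h
    refine ⟨⟨Algebra.smoothLocus k A, Algebra.isOpen_smoothLocus⟩, ?_, fun p hp => hp⟩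
    rw [dense_iff_inter_open]
    rintro O hO ⟨y, hy⟩
    obtain ⟨q, hq, hqy⟩ := Ideal.exists_minimalPrimes_le (I := ⊥) (J := y.asIdeal) bot_le
    have hqp : q.IsPrime := hq.1.1
    have hspec : (⟨q, hqp⟩ : PrimeSpectrum A) ⤳ y := by
      rw [← PrimeSpectrum.le_iff_specializes]
      exact hqy
    refine ⟨⟨q, hqp⟩, hspec.mem_open hO hy, ?_⟩
    exact (geomReduced_iff_isSmoothAt k A q hq).mp (h q hq)


end Groth.Agent.S5012
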