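import Groth.Statements.S4999
import Mathlib
import Groth.Agent.S5012
import Groth.Agent.Lib.Helper65.GenericSmooth
-- import your own Groth.Agent.* helpers here

set_option autoImplicit false
universe u
open Unram17

namespace Groth.Agent.S4999

open IsLocalRing Algebra TensorProduct

/-- differentials of a localization are projective when those of the ring are -/
theorem projective_kaehler_localization (k A : Type u) [CommRing k] [CommRing A] [Algebra k A]
    [Module.Projective A Ω[A⁄k]] (M : Submonoid A) :
    Module.Projective (Localization M) Ω[Localization M⁄k] := by
  have hloc : IsLocalizedModule M (KaehlerDifferential.map k k A (Localization M)) :=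
    inferInstance
  have hbc : IsBaseChange (Localization M) (KaehlerDifferential.map k k A (Localization M)) :=
    (isLocalizedModule_iff_isBaseChange M (Localization M) _).mp hloc
  exact Module.Projective.of_equiv hbc.equiv

/-- smoothness at a prime of a localization -/
theorem formallySmooth_localization_localization (k A : Type u) [CommRing k] [CommRing A]
    [Algebra k A] (M : Submonoid A) (p' : Ideal (Localization M)) [p'.IsPrime]
    [Algebra.FormallySmooth k (Localization.AtPrime (p'.comap (algebraMap A (Localization M))))] :
    Algebra.FormallySmooth k (Localization.AtPrime p') := by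
  let e := IsLocalization.localizationLocalizationAtPrimeIsoLocalization M p'
  have : IsScalarTower k A (Localization.AtPrime p') := inferInstance
  exact Algebra.FormallySmooth.of_equiv (e.restrictScalars k)

/-- the contraction of a minimal prime of a localization is a minimal prime -/
theorem comap_mem_minimalPrimes {A : Type*} [CommRing A] (M : Submonoid A)
    (p' : Ideal (Localization M)) (hp' : p' ∈ minimalPrimes (Localization M)) :
    p'.comap (algebraMap A (Localization M)) ∈ minimalPrimes A := by
  have hp'prime : p'.IsPrime := hp'.1.1
  refine ⟨⟨Ideal.comap_isPrime _ _, bot_le⟩, ?_⟩
  rintro q ⟨hq, -⟩ hqle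
  -- q ≤ comap p', so q is disjoint from M
  have hdisj' : Disjoint (M : Set A) (p'.comap (algebraMap A (Localization M)) : Set A) :=
    ((IsLocalization.isPrime_iff_isPrime_disjoint M (Localization M) p').mp hp'prime).2
  have hdisj : Disjoint (M : Set A) (q : Set A) :=
    Set.disjoint_of_subset_right hqle hdisj'
  have hqmap : (q.map (algebraMap A (Localization M))).IsPrime :=
    IsLocalization.isPrime_of_isPrime_disjoint M (Localization M) q hq hdisj
  have h1 : q.map (algebraMap A (Localization M)) ≤ p' := by
    rw [Ideal.map_le_iff_le_comap]; exact hqle
  have h2 : p' ≤ q.map (algebraMap A (Localization M)) := hp'.2 ⟨hqmap, bot_le⟩ h1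
  have h3 := Ideal.comap_mono (f := algebraMap A (Localization M)) h2
  have h4 : (q.map (algebraMap A (Localization M))).comap (algebraMap A (Localization M)) = q :=
    IsLocalization.under_map_of_isPrime_disjoint M (Localization M) hq hdisj
  rwa [h4] at h3


/-- Let A be an algebra of finite type over a field k. Then A is smooth over k if and only if the module
of differentials of A over k is projective (locally free) and, at every minimal prime p of A, the
local ring A_p is geometrically reduced over k, which for this Artinian local ring says that A_p is
a field and a separable (not necessarily algebraic) extension of k. -/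
theorem result (k A : Type u) [Field k] [CommRing A]
    [Algebra k A] [Algebra.FiniteType k A] :
    Algebra.Smooth k A ↔
      Module.Projective A (KaehlerDifferential k A) ∧
        ∀ (p : Ideal A) [p.IsPrime], p ∈ minimalPrimes A →
          Algebra.IsGeometricallyReduced k (Localization.AtPrime p) := by
  have hfp : Algebra.FinitePresentation k A :=
    Algebra.FinitePresentation.of_finiteType.mp inferInstance
  constructor
  · intro hsm
    have hfs : Algebra.FormallySmooth k A := inferInstance
    refine ⟨((Algebra.formallySmooth_iff k A).mp hfs).1, fun p _ hp => ?_⟩
    rw [Groth.Agent.S5012.geomReduced_iff_isSmoothAt k A p hp]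
    exact (inferInstance : Algebra.FormallySmooth k (Localization.AtPrime p))
  · rintro ⟨hproj, hgen⟩
    have hfs : Algebra.FormallySmooth k A := by
      apply Groth.Agent.Lib.Helper65.RegularSmooth.formallySmooth_of_forall_isMaximal
      intro m hm
      have hmp : m.IsPrime := hm.isPrime
      -- `B = A_m`
      have : Module.Projective (Localization.AtPrime m) Ω[Localization.AtPrime m⁄k] :=
        projective_kaehler_localization k A m.primeCompl
      have : Algebra.EssFiniteType A (Localization.AtPrime m) :=
        Algebra.EssFiniteType.of_isLocalization _ m.primeCompl
      have : Algebra.EssFiniteType k (Localization.AtPrime m) := Algebra.EssFiniteType.comp k A _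
      obtain ⟨⟨p', hp'⟩⟩ := Ideal.nonempty_minimalPrimes
        (I := (⊥ : Ideal (Localization.AtPrime m))) bot_ne_top
      have hp'prime : p'.IsPrime := hp'.1.1
      have hp := comap_mem_minimalPrimes m.primeCompl p' hp'
      have hpprime : (p'.comap (algebraMap A (Localization.AtPrime m))).IsPrime := hp.1.1
      have hsm : Algebra.FormallySmooth k
          (Localization.AtPrime (p'.comap (algebraMap A (Localization.AtPrime m)))) :=
        (Groth.Agent.S5012.geomReduced_iff_isSmoothAt k A _ hp).mp (hgen _ hp)
      have := formallySmooth_localization_localization k A m.primeCompl p'
      exact Groth.Agent.Lib.Helper65.GenericSmooth.formallySmooth_of_generic k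
        (Localization.AtPrime m) p' hp'
    exact ⟨hfs, hfp⟩


end Groth.Agent.S4999
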