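import Groth.Statements.S5000
import Mathlib
import Groth.Agent.S5012
import Groth.Agent.S4999
import Groth.Agent.S2091
import Groth.Agent.Lib.Helper65.GenericSmooth
-- import your own Groth.Agent.* helpers here

set_option autoImplicit false
universe u
open Unram17

namespace Groth.Agent.S5000

open IsLocalRing Algebra TensorProduct Groth.Agent.Lib.Helper65.GenericSmooth

/-- differentials of a localization are free when those of the ring are -/
theorem free_kaehler_localization (k A : Type u) [CommRing k] [CommRing A] [Algebra k A]
    [Module.Free A Ω[A⁄k]] (M : Submonoid A) :
    Module.Free (Localization M) Ω[Localization M⁄k] := by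
  have hloc : IsLocalizedModule M (KaehlerDifferential.map k k A (Localization M)) :=
    inferInstance
  have hbc : IsBaseChange (Localization M) (KaehlerDifferential.map k k A (Localization M)) :=
    (isLocalizedModule_iff_isBaseChange M (Localization M) _).mp hloc
  exact Module.Free.of_equiv hbc.equiv


/-- Let k be a field of characteristic zero, A a k-algebra of finite type and q a prime of A. Then A is
smooth over k at q if and only if the module of differentials of the local ring A_q over k is free. -/
theorem result (k A : Type u) [Field k] [CharZero k] [CommRing A]
    [Algebra k A] [Algebra.FiniteType k A] (q : Ideal A) [q.IsPrime] :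
    Algebra.IsSmoothAt k q ↔
      Module.Free (Localization.AtPrime q) (KaehlerDifferential k (Localization.AtPrime q)) := by
  have : Algebra.EssFiniteType A (Localization.AtPrime q) :=
    Algebra.EssFiniteType.of_isLocalization _ q.primeCompl
  have : Algebra.EssFiniteType k (Localization.AtPrime q) := Algebra.EssFiniteType.comp k A _
  constructor
  · intro h
    have hsm : Algebra.FormallySmooth k (Localization.AtPrime q) := h
    have : Module.Projective (Localization.AtPrime q) Ω[Localization.AtPrime q⁄k] := inferInstance
    exact Module.free_of_flat_of_isLocalRing
  · intro hfree
    set B := Localization.AtPrime q with hB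
    obtain ⟨⟨p', hp'⟩⟩ := Ideal.nonempty_minimalPrimes (I := (⊥ : Ideal B)) bot_ne_top
    have hp'prime : p'.IsPrime := hp'.1.1
    set C := Localization.AtPrime p' with hC
    have : Algebra.EssFiniteType B C := Algebra.EssFiniteType.of_isLocalization _ p'.primeCompl
    have : Algebra.EssFiniteType k C := Algebra.EssFiniteType.comp k B _
    have : IsNoetherianRing A := Algebra.FiniteType.isNoetherianRing k A
    have : IsNoetherianRing B := IsLocalization.isNoetherianRing q.primeCompl B inferInstance
    have : IsNoetherianRing C := IsLocalization.isNoetherianRing p'.primeCompl C inferInstance
    have : Module.Free C Ω[C⁄k] := free_kaehler_localization k B p'.primeCompl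
    have : Module.Finite C Ω[C⁄k] := inferInstance
    have := Groth.Agent.S2091.essFiniteType_residueField k C
    have : Algebra.FormallySmooth k (ResidueField C) := Algebra.FormallySmooth.of_perfectField
    have hbot : maximalIdeal C = ⊥ := maximalIdeal_eq_bot_of_charZero k C
      (Groth.Agent.S5012.maximalIdeal_le_nilradical_of_minimal p' hp')
    -- `C` is its own residue field
    have hbij : Function.Bijective (IsScalarTower.toAlgHom k C (ResidueField C)) := by
      refine ⟨?_, residue_surjective⟩
      rw [injective_iff_map_eq_zero]
      intro x hx
      have : x ∈ maximalIdeal C := (residue_eq_zero_iff x).mp hx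
      rwa [hbot] at this
    have hsmC : Algebra.FormallySmooth k C :=
      Algebra.FormallySmooth.of_equiv (AlgEquiv.ofBijective _ hbij).symm
    exact Groth.Agent.Lib.Helper65.GenericSmooth.formallySmooth_of_generic k B p' hp'


end Groth.Agent.S5000
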