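import Groth.Statements.S9448
import Mathlib
import Groth.Agent.S7771
import Groth.Agent.Lib.Helper77.RegularCM
import Groth.Agent.Lib.Helper73.DimFT.Basic
-- import your own Groth.Agent.* helpers here

set_option autoImplicit false
universe u
open Unram

namespace Groth.Agent.S9448

open IsLocalRing Algebra TensorProduct

theorem isMaximal_under_of_finiteType (R S : Type*) [CommRing R] [CommRing S] [Algebra R S]
    [IsJacobsonRing R] [Algebra.FiniteType R S] (m : Ideal S) [m.IsMaximal] :
    (m.under R).IsMaximal := by
  let := Ideal.Quotient.field m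
  have : Algebra.FiniteType S (S ⧸ m) :=
    Algebra.FiniteType.of_surjective (Algebra.ofId S (S ⧸ m)) Ideal.Quotient.mk_surjective
  have : Algebra.FiniteType R (S ⧸ m) := .trans ‹Algebra.FiniteType R S› inferInstance
  have := finite_of_finite_type_of_isJacobsonRing R (S ⧸ m)
  have : Algebra.IsIntegral R (S ⧸ m) := inferInstance
  have h := Ideal.isMaximal_comap_of_isIntegral_of_isMaximal (R := R) (⊥ : Ideal (S ⧸ m))
  convert h using 1
  ext x
  rw [Ideal.mem_comap, Ideal.mem_comap, IsScalarTower.algebraMap_apply R S (S ⧸ m),
    Ideal.mem_bot, Ideal.Quotient.algebraMap_eq, Ideal.Quotient.eq_zero_iff_mem]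

/-- local data at an unramified prime -/
theorem map_maximalIdeal_of_isUnramifiedAt (A B : Type u) [CommRing A] [CommRing B]
    [Algebra A B] [Algebra.FiniteType A B]
    (q : Ideal B) [q.IsPrime] [Algebra.IsUnramifiedAt A q] :
    letI := Localization.AtPrime.algebraOfLiesOver (q.under A) q
    (maximalIdeal (Localization.AtPrime (q.under A))).map
      (algebraMap (Localization.AtPrime (q.under A)) (Localization.AtPrime q)) =
      maximalIdeal (Localization.AtPrime q) := by
  let p := q.under A
  let Rp := Localization.AtPrime p
  let Sq := Localization.AtPrime q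
  let := Localization.AtPrime.algebraOfLiesOver p q
  have hunrA : Algebra.FormallyUnramified A Sq := ‹Algebra.IsUnramifiedAt A q›
  have hunr : Algebra.FormallyUnramified Rp Sq := .of_restrictScalars A _ _
  have hessA : EssFiniteType A Sq := .comp A B Sq
  have hess : EssFiniteType Rp Sq := .of_comp A _ _
  have hloc : IsLocalHom (algebraMap Rp Sq) := inferInstance
  exact FormallyUnramified.map_maximalIdeal

/-- dimension of the local ring at a maximal ideal lying over... -/
theorem dim_localization_under (k : Type u) [Field k] (n : ℕ)
    (A : Type u) [CommRing A] [Algebra (MvPolynomial (Fin n) k) A]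
    [Algebra.FiniteType (MvPolynomial (Fin n) k) A] (m : Ideal A) [m.IsMaximal] :
    ringKrullDim (Localization.AtPrime (m.under (MvPolynomial (Fin n) k))) = n := by
  have : IsJacobsonRing (MvPolynomial (Fin n) k) := isJacobsonRing_of_finiteType (A := k)
  have := isMaximal_under_of_finiteType (MvPolynomial (Fin n) k) A m
  rw [IsLocalization.AtPrime.ringKrullDim_eq_height (m.under (MvPolynomial (Fin n) k)),
    Groth.Agent.Lib.Helper73.height_eq_of_isMaximal_mvPolynomial k n _]
  rfl

theorem formallyUnramified_of_span (k : Type u) [Field k] (n : ℕ)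
    (A : Type u) [CommRing A] [Algebra k A] [Algebra (MvPolynomial (Fin n) k) A]
    [IsScalarTower k (MvPolynomial (Fin n) k) A]
    (h : Submodule.span A (Set.range fun i : Fin n =>
          KaehlerDifferential.D k A (algebraMap (MvPolynomial (Fin n) k) A (MvPolynomial.X i))) = ⊤) :
    Algebra.FormallyUnramified (MvPolynomial (Fin n) k) A := by
  rw [Algebra.formallyUnramified_iff]
  have hs := KaehlerDifferential.map_surjective k (MvPolynomial (Fin n) k) A
  have : (⊤ : Submodule A Ω[A⁄MvPolynomial (Fin n) k]) = ⊥ := by
    rw [← LinearMap.range_eq_top.mpr hs, LinearMap.range_eq_map, ← h, Submodule.map_span,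
      Submodule.span_eq_bot]
    rintro _ ⟨_, ⟨i, rfl⟩, rfl⟩
    simp
  exact (Submodule.subsingleton_iff A).mp (subsingleton_of_bot_eq_top this.symm)

theorem isRegularLocalRing_of_span (k : Type u) [Field k] (n : ℕ)
    (A : Type u) [CommRing A] [Algebra (MvPolynomial (Fin n) k) A]
    [Algebra.FiniteType (MvPolynomial (Fin n) k) A]
    [Algebra.FormallyUnramified (MvPolynomial (Fin n) k) A]
    (m : Ideal A) [m.IsMaximal] (hdim : ringKrullDim (Localization.AtPrime m) = n) :
    IsRegularLocalRing (Localization.AtPrime m) := by
  have : IsNoetherianRing A := Algebra.FiniteType.isNoetherianRing (MvPolynomial (Fin n) k) A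
  let := Localization.AtPrime.algebraOfLiesOver (m.under (MvPolynomial (Fin n) k)) m
  have hmap := map_maximalIdeal_of_isUnramifiedAt (MvPolynomial (Fin n) k) A m
  have hd := dim_localization_under k n A m
  apply IsRegularLocalRing.of_spanFinrank_maximalIdeal_le
  rw [hdim, ← hmap]
  have h1 := Ideal.spanFinrank_map_le_of_fg
    (algebraMap (Localization.AtPrime (m.under (MvPolynomial (Fin n) k))) (Localization.AtPrime m))
    (IsNoetherian.noetherian (maximalIdeal (Localization.AtPrime (m.under (MvPolynomial (Fin n) k)))))
  have h2 : ((maximalIdeal (Localization.AtPrime (m.under (MvPolynomial (Fin n) k)))).spanFinrank :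
      WithBot ℕ∞) = n := by
    rw [IsRegularLocalRing.spanFinrank_maximalIdeal, hd]
  have h3 : (maximalIdeal (Localization.AtPrime (m.under (MvPolynomial (Fin n) k)))).spanFinrank = n := by
    exact_mod_cast h2
  rw [h3] at h1
  exact_mod_cast h1

theorem span_of_formallyUnramified (k : Type u) [Field k] (n : ℕ)
    (A : Type u) [CommRing A] [Algebra k A] [Algebra (MvPolynomial (Fin n) k) A]
    [IsScalarTower k (MvPolynomial (Fin n) k) A]
    [Algebra.FormallyUnramified (MvPolynomial (Fin n) k) A] :
    Submodule.span A (Set.range fun i : Fin n =>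
          KaehlerDifferential.D k A (algebraMap (MvPolynomial (Fin n) k) A (MvPolynomial.X i))) = ⊤ := by
  have hrange : LinearMap.range (KaehlerDifferential.mapBaseChange k (MvPolynomial (Fin n) k) A) = ⊤ := by
    rw [KaehlerDifferential.range_mapBaseChange]
    exact _root_.eq_top_iff.mpr fun x _ => Subsingleton.elim _ _
  rw [_root_.eq_top_iff, ← hrange]
  rintro _ ⟨x, rfl⟩
  induction x with
  | zero => simp
  | add x y hx hy => rw [map_add]; exact add_mem hx hy
  | tmul a y =>
    rw [KaehlerDifferential.mapBaseChange_tmul]
    apply Submodule.smul_mem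
    have hy : y ∈ Submodule.span (MvPolynomial (Fin n) k)
        (Set.range (KaehlerDifferential.mvPolynomialBasis k (Fin n))) := by
      rw [Module.Basis.span_eq]; trivial
    induction hy using Submodule.span_induction with
    | mem y hy =>
      obtain ⟨i, rfl⟩ := hy
      rw [KaehlerDifferential.mvPolynomialBasis_apply, KaehlerDifferential.map_D]
      exact Submodule.subset_span ⟨i, rfl⟩
    | zero => simp
    | add x y _ _ hx hy => rw [map_add]; exact add_mem hx hy
    | smul r y _ h =>
      rw [map_smul, ← algebraMap_smul A r]
      exact Submodule.smul_mem _ _ h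

theorem dim_eq_of_flat_unramified (R S : Type u) [CommRing R] [CommRing S] [IsLocalRing R] [IsLocalRing S]
    [IsNoetherianRing R] [IsNoetherianRing S]
    [Algebra R S] [IsLocalHom (algebraMap R S)] [Module.Flat R S]
    (hmap : (maximalIdeal R).map (algebraMap R S) = maximalIdeal S) :
    ringKrullDim S = ringKrullDim R := by
  have : (maximalIdeal S).LiesOver (maximalIdeal R) :=
    ⟨(IsLocalRing.maximalIdeal_comap (algebraMap R S)).symm⟩
  have h := Ideal.height_eq_height_add_of_liesOver_of_hasGoingDown (maximalIdeal R)
    (maximalIdeal S)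
  rw [← IsLocalRing.maximalIdeal_height_eq_ringKrullDim,
    ← IsLocalRing.maximalIdeal_height_eq_ringKrullDim, h, hmap]
  have : (maximalIdeal S).map (Ideal.Quotient.mk (maximalIdeal S)) = ⊥ := by
    rw [Ideal.map_quotient_self]
  rw [this, Ideal.height_bot, add_zero]


/-- For a field k and a finite type algebra A over the polynomial ring k[x_1, …, x_n] (the variables
mapping to a_1, …, a_n), the structure map is étale if and only if (a) the local rings of A at all
maximal ideals have dimension n and (b) da_1, …, da_n generate the module of differentials of A over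
k. -/
theorem result (k : Type u) [Field k] (n : ℕ)
    (A : Type u) [CommRing A] [Algebra k A] [Algebra (MvPolynomial (Fin n) k) A]
    [IsScalarTower k (MvPolynomial (Fin n) k) A] [Algebra.FiniteType (MvPolynomial (Fin n) k) A] :
    Algebra.Etale (MvPolynomial (Fin n) k) A ↔
      (∀ (m : Ideal A) [m.IsMaximal], ringKrullDim (Localization.AtPrime m) = n) ∧
        Submodule.span A (Set.range fun i : Fin n =>
          KaehlerDifferential.D k A (algebraMap (MvPolynomial (Fin n) k) A (MvPolynomial.X i))) = ⊤ := by
  have : IsNoetherianRing A := Algebra.FiniteType.isNoetherianRing (MvPolynomial (Fin n) k) A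
  have hfp : Algebra.FinitePresentation (MvPolynomial (Fin n) k) A :=
    Algebra.FinitePresentation.of_finiteType.mp inferInstance
  constructor
  · intro het
    refine ⟨fun m _ => ?_, span_of_formallyUnramified k n A⟩
    let := Localization.AtPrime.algebraOfLiesOver (m.under (MvPolynomial (Fin n) k)) m
    have hmap := map_maximalIdeal_of_isUnramifiedAt (MvPolynomial (Fin n) k) A m
    have hflat : Module.Flat (Localization.AtPrime (m.under (MvPolynomial (Fin n) k)))
      (Localization.AtPrime m) := inferInstance
    rw [dim_eq_of_flat_unramified _ _ hmap]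
    exact dim_localization_under k n A m
  · rintro ⟨hdim, hspan⟩
    have hunr := formallyUnramified_of_span k n A hspan
    rw [← Algebra.etaleLocus_eq_univ_iff_etale]
    by_contra hne
    have hcl : IsClosed (Algebra.etaleLocus (MvPolynomial (Fin n) k) A)ᶜ :=
      Algebra.isOpen_etaleLocus.isClosed_compl
    obtain ⟨I, hI⟩ := (PrimeSpectrum.isClosed_iff_zeroLocus_ideal _).mp hcl
    have hIne : I ≠ ⊤ := by
      rintro rfl
      apply hne
      rw [← compl_compl (Algebra.etaleLocus (MvPolynomial (Fin n) k) A), hI]
      simp
    obtain ⟨m, hm, hIm⟩ := Ideal.exists_le_maximal I hIne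
    have hmem : (⟨m, hm.isPrime⟩ : PrimeSpectrum A) ∈
        (Algebra.etaleLocus (MvPolynomial (Fin n) k) A)ᶜ := by
      rw [hI]; exact hIm
    apply hmem
    have hreg := isRegularLocalRing_of_span k n A m (hdim m)
    have := Groth.Agent.Lib.Helper77.RegularCM.isCohenMacaulayLocalRing (Localization.AtPrime m)
    exact Groth.Agent.S7771.result (MvPolynomial (Fin n) k) A m
      ((dim_localization_under k n A m).trans (hdim m).symm)


end Groth.Agent.S9448
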