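import Groth.Statements.S5001
import Mathlib
import Groth.Agent.S7771
import Groth.Agent.S9448
import Groth.Agent.Lib.Helper77.RegularCM
import Groth.Agent.Lib.Helper73.DimFT.Spec
-- import your own Groth.Agent.* helpers here

set_option autoImplicit false
universe u
open Unram17

namespace Groth.Agent.S5001

open IsLocalRing Algebra TensorProduct

theorem idealOfVars_eq_ker (k : Type*) [CommRing k] (σ : Type*) :
    MvPolynomial.idealOfVars σ k = RingHom.ker (MvPolynomial.constantCoeff (σ := σ) (R := k)) := by
  ext p
  rw [← pow_one (MvPolynomial.idealOfVars σ k), MvPolynomial.mem_pow_idealOfVars_iff',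
    RingHom.mem_ker, MvPolynomial.constantCoeff_eq]
  constructor
  · intro h
    exact h 0 (by simp)
  · intro h x hx
    have : x = 0 := by
      have h0 : Finsupp.degree x = 0 := by omega
      exact (Finsupp.degree_eq_zero_iff x).mp h0
    rw [this]; exact h

theorem isMaximal_idealOfVars (k : Type*) [Field k] (σ : Type*) :
    (MvPolynomial.idealOfVars σ k).IsMaximal := by
  rw [idealOfVars_eq_ker]
  exact RingHom.ker_isMaximal_of_surjective _ (fun c => ⟨MvPolynomial.C c, by simp⟩)

/-- a prime with residue field finite over the base field is maximal -/
theorem isMaximal_of_finite_residueField (k A : Type*) [Field k] [CommRing A] [Algebra k A]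
    (p : Ideal A) [p.IsPrime] [Module.Finite k p.ResidueField] : p.IsMaximal := by
  have hinj : Function.Injective (algebraMap (A ⧸ p) p.ResidueField) :=
    IsFractionRing.injective (A ⧸ p) p.ResidueField
  have : Module.Finite k (A ⧸ p) :=
    Module.Finite.of_injective (IsScalarTower.toAlgHom k (A ⧸ p) p.ResidueField).toLinearMap hinj
  have : Algebra.IsIntegral k (A ⧸ p) := inferInstance
  exact Ideal.Quotient.maximal_of_isField _
    (isField_of_isIntegral_of_isField' (R := k) (S := A ⧸ p) (Field.toIsField k))


/-- Let k be a field, A a k-algebra of finite type equipped with a k-algebra map from the polynomial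
ring in n variables, with images g_i of the variables, and p a prime of A such that Spec A has local
dimension n at p, the residue field of p is a finite separable extension of k, and every g_i lies in
p. Then A is etale over the polynomial ring at p if and only if the images of the g_i generate the
maximal ideal of the local ring A_p. -/
theorem result (k A : Type u) [Field k] [CommRing A] [Algebra k A]
    [Algebra.FiniteType k A] (n : ℕ) [Algebra (MvPolynomial (Fin n) k) A]
    [IsScalarTower k (MvPolynomial (Fin n) k) A] (p : Ideal A) [p.IsPrime]
    (hn : FlatMor.localDim (PrimeSpectrum A) ⟨p, inferInstance⟩ = (n : WithBot ℕ∞))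
    [Module.Finite k p.ResidueField] [Algebra.IsSeparable k p.ResidueField]
    (hg : ∀ i : Fin n, algebraMap (MvPolynomial (Fin n) k) A (MvPolynomial.X i) ∈ p) :
    Algebra.IsEtaleAt (MvPolynomial (Fin n) k) p ↔
      Ideal.span (Set.range fun i : Fin n =>
        algebraMap A (Localization.AtPrime p) (algebraMap (MvPolynomial (Fin n) k) A (MvPolynomial.X i))) =
        IsLocalRing.maximalIdeal (Localization.AtPrime p) := by
  have hftP : Algebra.FiniteType (MvPolynomial (Fin n) k) A :=
    Algebra.FiniteType.of_restrictScalars_finiteType k (MvPolynomial (Fin n) k) A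
  have hNA : IsNoetherianRing A := Algebra.FiniteType.isNoetherianRing k A
  have hpmax : p.IsMaximal := isMaximal_of_finite_residueField k A p
  have hq : p.under (MvPolynomial (Fin n) k) = MvPolynomial.idealOfVars (Fin n) k := by
    have hmax := isMaximal_idealOfVars k (Fin n)
    symm
    refine hmax.eq_of_le (Ideal.IsPrime.ne_top inferInstance) ?_
    rw [Ideal.span_le]
    rintro _ ⟨i, rfl⟩
    exact hg i
  let := Localization.AtPrime.algebraOfLiesOver (p.under (MvPolynomial (Fin n) k)) p
  have hmapq : (p.under (MvPolynomial (Fin n) k)).map
      (algebraMap (MvPolynomial (Fin n) k) (Localization.AtPrime p)) =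
      Ideal.span (Set.range fun i : Fin n =>
        algebraMap A (Localization.AtPrime p)
          (algebraMap (MvPolynomial (Fin n) k) A (MvPolynomial.X i))) := by
    rw [hq, Ideal.map_span, ← Set.range_comp]
    congr 2
  have hsep : Algebra.IsSeparable (p.under (MvPolynomial (Fin n) k)).ResidueField
      p.ResidueField := Algebra.isSeparable_tower_top_of_isSeparable k _ _
  have hunr_iff := Algebra.isUnramifiedAt_iff_map_eq (MvPolynomial (Fin n) k)
    (p.under (MvPolynomial (Fin n) k)) p
  rw [hmapq] at hunr_iff
  constructor
  · intro het
    have h1 : Algebra.FormallyEtale (MvPolynomial (Fin n) k) (Localization.AtPrime p) := het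
    have h2 : Algebra.IsUnramifiedAt (MvPolynomial (Fin n) k) p :=
      (inferInstance : Algebra.FormallyUnramified (MvPolynomial (Fin n) k) (Localization.AtPrime p))
    exact (hunr_iff.mp h2).2
  · intro hspan
    have hunr : Algebra.IsUnramifiedAt (MvPolynomial (Fin n) k) p := hunr_iff.mpr ⟨hsep, hspan⟩
    have hdimP := Groth.Agent.S9448.dim_localization_under k n A p
    have hdimA : ringKrullDim (Localization.AtPrime p) = n := by
      rw [IsLocalization.AtPrime.ringKrullDim_eq_height p, ← hn,
        Groth.Agent.Lib.Helper73.localDim_primeSpectrum_eq k,
        Groth.Agent.Lib.Helper73.quotDim_eq_zero_of_isMaximal k _ hpmax]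
      simp
    have hreg : IsRegularLocalRing (Localization.AtPrime p) := by
      apply IsRegularLocalRing.of_spanFinrank_maximalIdeal_le
      rw [hdimA, ← hspan]
      have h1 := Submodule.spanFinrank_span_le_ncard_of_finite (R := Localization.AtPrime p)
        (Set.finite_range fun i : Fin n =>
        algebraMap A (Localization.AtPrime p)
          (algebraMap (MvPolynomial (Fin n) k) A (MvPolynomial.X i)))
      have h2 : (Set.range fun i : Fin n =>
        algebraMap A (Localization.AtPrime p)
          (algebraMap (MvPolynomial (Fin n) k) A (MvPolynomial.X i))).ncard ≤ n := by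
        rw [← Set.image_univ]
        refine (Set.ncard_image_le (Set.finite_univ)).trans ?_
        simp
      exact_mod_cast h1.trans h2
    have := Groth.Agent.Lib.Helper77.RegularCM.isCohenMacaulayLocalRing (Localization.AtPrime p)
    exact Groth.Agent.S7771.result (MvPolynomial (Fin n) k) A p (hdimP.trans hdimA.symm)


end Groth.Agent.S5001
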