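import Groth.Statements.S5002
import Mathlib.RingTheory.IntegralClosure.IsIntegralClosure.Basic
import Mathlib.RingTheory.TensorProduct.Basic
-- import your own Groth.Agent.* helpers here

set_option autoImplicit false
universe u
open PP16

namespace Groth.Agent.S5002

/-- Suppose A is a commutative ring and B is a finite-type A-algebra. For each n, the ring of principal
parts of order n of B over A is then finitely generated as a B-module, where B acts via the first
factor. -/
theorem result (n : ℕ) (A B : Type u) [CommRing A] [CommRing B] [Algebra A B]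
    [Algebra.FiniteType A B] : Module.Finite B (PP16.P n A B) := by
  obtain ⟨s, hs⟩ := (Algebra.FiniteType.out : (⊤ : Subalgebra A B).FG)
  let π : TensorProduct A B B →ₐ[B] PP16.P n A B :=
    Ideal.Quotient.mkₐ B ((KaehlerDifferential.ideal A B) ^ (n + 1))
  have hπ : Function.Surjective π := Ideal.Quotient.mkₐ_surjective _ _
  have h1 : Algebra.adjoin B (π '' (((1 : B) ⊗ₜ[A] ·) '' (s : Set B))) = ⊤ := by
    rw [← AlgHom.map_adjoin, Algebra.TensorProduct.adjoin_one_tmul_image_eq_top _ hs, Algebra.map_top,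
      AlgHom.range_eq_top]
    exact hπ
  have hint : ∀ y ∈ π '' (((1 : B) ⊗ₜ[A] ·) '' (s : Set B)), IsIntegral B y := by
    rintro _ ⟨_, ⟨b, _, rfl⟩, rfl⟩
    refine ⟨(Polynomial.X - Polynomial.C b) ^ (n + 1), (Polynomial.monic_X_sub_C b).pow _, ?_⟩
    rw [Polynomial.eval₂_pow, Polynomial.eval₂_sub, Polynomial.eval₂_X, Polynomial.eval₂_C]
    have h2 : π ((1 : B) ⊗ₜ[A] b) - algebraMap B (PP16.P n A B) b =
        π ((1 : B) ⊗ₜ[A] b - b ⊗ₜ[A] (1 : B)) := by
      rw [map_sub]
      rfl
    rw [h2, ← map_pow]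
    apply Ideal.Quotient.eq_zero_iff_mem.mpr
    exact Ideal.pow_mem_pow (KaehlerDifferential.one_smul_sub_smul_one_mem_ideal A b) _
  have hfg := fg_adjoin_of_finite
    (Set.Finite.image _ (Set.Finite.image _ s.finite_toSet)) hint
  rw [h1, Algebra.top_toSubmodule] at hfg
  exact ⟨hfg⟩

end Groth.Agent.S5002
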