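import Groth.Statements.S5004
import Groth.Agent.Lib.Helper39.QRegGeom
-- import your own Groth.Agent.* helpers here

set_option autoImplicit false
universe u
open CategoryTheory CategoryTheory.Limits AlgebraicGeometry TopologicalSpace
open Nrm16

namespace Groth.Agent.S5004

/-- On a locally Noetherian scheme, every quasi-regular (quasi-coherent) ideal sheaf is a regular ideal
sheaf. -/
theorem result {X : Scheme.{u}} [IsLocallyNoetherian X] (I : X.IdealSheafData)
    (h : RegImm.IsRegularIdeal RegImm.Kind.quasi I) : RegImm.IsRegularIdeal RegImm.Kind.regular I := by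
  intro x hx
  obtain ⟨U, hxU, rs, hq, hI⟩ := h x hx
  have hx' : x ∈ X.zeroLocus (U := U.1) (Ideal.ofList rs : Set Γ(X, U.1)) := by
    rw [← hI]
    exact (Scheme.IdealSheafData.mem_support_iff_of_mem hxU).mp hx
  obtain ⟨g, hxg, hreg⟩ :=
    Groth.Agent.Lib.Helper39.QSpread.exists_isRegular_basicOpen U rs hq x hxU hx'
  refine ⟨X.affineBasicOpen g, hxg, _, hreg, ?_⟩
  rw [← I.map_ideal_basicOpen U g, hI, Ideal.map_ofList]
  rfl

end Groth.Agent.S5004
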