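import Groth.Statements.S5006
-- import your own Groth.Agent.* helpers here
import Mathlib.RingTheory.Noetherian.Nilpotent
import Mathlib.RingTheory.Nakayama
import Mathlib.RingTheory.Finiteness.Ideal
import Mathlib.RingTheory.Nilpotent.Lemmas
-- import your own Groth.Agent.* helpers here

set_option autoImplicit false
universe u
open Nrm16

namespace Groth.Agent.S5006

/-- Let A be a commutative ring, I a finitely generated ideal and p a prime ideal containing I. Then
some basic open neighbourhood of p in Spec A is contained in the closed set V(I) (so that V(I) ⟶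
Spec A is a local homeomorphism onto an open set near p) if and only if there is an integer n > 0
with I^n A_p = I^(n+1) A_p in the local ring at p. Affine form. -/
theorem result (A : Type u) [CommRing A] (I : Ideal A) (hI : I.FG)
    (p : Ideal A) [p.IsPrime] (hp : I ≤ p) :
    (∃ f : A, f ∉ p ∧ ∀ q : Ideal A, q.IsPrime → f ∉ q → I ≤ q) ↔
      ∃ n : ℕ, 0 < n ∧
        (I ^ n).map (algebraMap A (Localization.AtPrime p)) =
          (I ^ (n + 1)).map (algebraMap A (Localization.AtPrime p)) := by
  classical
  constructor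
  · rintro ⟨f, hfp, hf⟩
    have hnil : Ideal.span {f} * I ≤ nilradical A := by
      rw [Ideal.mul_le]
      intro r hr x hx
      rw [Ideal.mem_span_singleton'] at hr
      obtain ⟨c, rfl⟩ := hr
      rw [nilradical_eq_sInf, Ideal.mem_sInf]
      intro q hq
      have hq' : q.IsPrime := hq
      by_cases hfq : f ∈ q
      · exact q.mul_mem_right _ (q.mul_mem_left _ hfq)
      · exact q.mul_mem_left _ (hf q hq' hfq hx)
    have hfg : (Ideal.span {f} * I).FG := Ideal.FG.mul (Submodule.fg_span_singleton f : (Ideal.span {f}).FG) hI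
    obtain ⟨n, hn⟩ := hfg.isNilpotent_iff_le_nilradical.mpr hnil
    have hn1 : (Ideal.span {f} * I) ^ (n + 1) = ⊥ := by
      rw [pow_succ, hn, Ideal.zero_eq_bot, Ideal.bot_mul]
    have key : ∀ m, n + 1 ≤ m → (I ^ m).map (algebraMap A (Localization.AtPrime p)) = ⊥ := by
      intro m hm
      rw [Ideal.map_eq_bot_iff_le_ker]
      intro x hx
      have hx' : x ∈ I ^ (n + 1) := Ideal.pow_le_pow_right hm hx
      rw [RingHom.mem_ker, IsLocalization.map_eq_zero_iff p.primeCompl]
      refine ⟨⟨f ^ (n + 1), ?_⟩, ?_⟩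
      · exact fun h => hfp (Ideal.IsPrime.mem_of_pow_mem inferInstance _ h)
      · have : f ^ (n + 1) * x ∈ (Ideal.span {f} * I) ^ (n + 1) := by
          rw [mul_pow]
          exact Ideal.mul_mem_mul (Ideal.pow_mem_pow (Ideal.mem_span_singleton_self f) _) hx'
        rw [hn1, Ideal.mem_bot] at this
        exact this
    exact ⟨n + 1, Nat.succ_pos n, by rw [key (n + 1) le_rfl, key (n + 1 + 1) (Nat.le_succ _)]⟩
  · rintro ⟨n, hn0, hn⟩
    set Ap := Localization.AtPrime p
    set J : Ideal Ap := (I ^ n).map (algebraMap A Ap) with hJ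
    have hJfg : J.FG := (hI.pow).map _
    have hIle : I.map (algebraMap A Ap) ≤ Ideal.jacobson ⊥ := by
      rw [IsLocalRing.jacobson_eq_maximalIdeal ⊥ bot_ne_top]
      rw [← Localization.AtPrime.map_eq_maximalIdeal]
      exact Ideal.map_mono hp
    have hJle : J ≤ I.map (algebraMap A Ap) • J := by
      rw [smul_eq_mul, hJ, ← Ideal.map_mul, ← pow_succ', ← hn]
    have hJbot : J = ⊥ :=
      Submodule.eq_bot_of_le_smul_of_le_jacobson_bot _ J hJfg hJle hIle
    have hker : ∀ x ∈ I ^ n, ∃ s : A, s ∉ p ∧ s * x = 0 := by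
      intro x hx
      have : algebraMap A Ap x ∈ J := Ideal.mem_map_of_mem _ hx
      rw [hJbot, Ideal.mem_bot, IsLocalization.map_eq_zero_iff p.primeCompl] at this
      obtain ⟨⟨s, hs⟩, hsx⟩ := this
      exact ⟨s, hs, hsx⟩
    choose! s hs hsx using hker
    obtain ⟨S, hS⟩ := (hI.pow : (I ^ n).FG)
    refine ⟨∏ x ∈ S, s x, ?_, ?_⟩
    · rw [Ideal.IsPrime.prod_mem_iff]
      push Not
      intro x hx
      exact hs x (hS ▸ Ideal.subset_span hx)
    · intro q hq hfq x hx
      have hxn : x ^ n ∈ I ^ n := Ideal.pow_mem_pow hx n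
      have h0' : ∀ z ∈ Submodule.span A (S : Set A), (∏ y ∈ S, s y) * z = 0 := by
        intro z hz
        induction hz using Submodule.span_induction with
        | mem a ha =>
          have ha' : a ∈ I ^ n := hS ▸ Ideal.subset_span ha
          rw [← Finset.mul_prod_erase S s ha, mul_right_comm, hsx a ha', zero_mul]
        | zero => rw [mul_zero]
        | add a b _ _ iha ihb => rw [mul_add, iha, ihb, add_zero]
        | smul c a _ iha => rw [smul_eq_mul, mul_left_comm, iha, mul_zero]
      have h0 : (∏ y ∈ S, s y) * x ^ n = 0 := h0' _ (by rw [← hS] at hxn; exact hxn)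
      have : (∏ y ∈ S, s y) * x ^ n ∈ q := by rw [h0]; exact q.zero_mem
      exact hq.mem_of_pow_mem n ((hq.mem_or_mem this).resolve_left hfq)

end Groth.Agent.S5006
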