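import Groth.Statements.S5007
import Groth.Agent.Lib.Helper19.UnramifiedFiber

set_option autoImplicit false
universe u
open CategoryTheory CategoryTheory.Limits AlgebraicGeometry TopologicalSpace
open Unram17

namespace Groth.Agent.S5007

/-- Let g : Y ⟶ S and h : X ⟶ S be locally of finite presentation and f : X ⟶ Y a morphism over S. Then
f is (formally) unramified if and only if for every point s of S the base change of f along the
fibre Y_s ⟶ Y, which is the fibre map X_s ⟶ Y_s, is (formally) unramified. -/
theorem result {X Y S : Scheme.{u}} (g : Y ⟶ S) (h : X ⟶ S)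
    [LocallyOfFinitePresentation g] [LocallyOfFinitePresentation h] (f : X ⟶ Y) (w : f ≫ g = h) :
    FormallyUnramified f ↔ ∀ s : ↥S, FormallyUnramified (pullback.snd f (g.fiberι s)) := by
  subst w
  have : LocallyOfFiniteType (f ≫ g) := inferInstance
  have : LocallyOfFiniteType f := locallyOfFiniteType_of_comp f g
  refine ⟨fun _ s => MorphismProperty.pullback_snd _ _ inferInstance, fun H => ?_⟩
  refine Groth.Agent.Lib.Helper19.formallyUnramified_of_forall_exists_nhd f fun x => ?_
  let s : S := g (f x)
  have hmem : f x ∈ Set.range (g.fiberι s) := by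
    rw [Scheme.Hom.range_fiberι]; rfl
  obtain ⟨y', hy'⟩ := hmem
  obtain ⟨x', hx'₁, -⟩ := Scheme.Pullback.exists_preimage_pullback (f := f) (g := g.fiberι s)
    x y' hy'.symm
  have := H s
  obtain ⟨U, hxU, hU⟩ := Groth.Agent.Lib.Helper19.exists_nhd_formallyUnramified_of_pullback f
    (g.fiberι s) x' ⟨⊤, trivial, MorphismProperty.comp_mem _ _ _
      (inferInstance : FormallyUnramified (⊤ : (pullback f (g.fiberι s)).Opens).ι) this⟩
  exact ⟨U, hx'₁ ▸ hxU, hU⟩

end Groth.Agent.S5007
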