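import Groth.Statements.S5008
-- import your own Groth.Agent.* helpers here
import Mathlib

set_option autoImplicit false
universe u
open CategoryTheory CategoryTheory.Limits AlgebraicGeometry TopologicalSpace
open Unram17

namespace Groth.Agent.S5008

open IsLocalRing

theorem ring_forward {A S : Type u} [CommRing A] [CommRing S] (ψ : A →+* S)
    (hψ : ψ.FormallySmooth)
    (B B' : Type u) [CommRing B] [CommRing B'] (φ : B' →+* B) (hφ : Function.Surjective φ)
    (hker : RingHom.ker φ ^ 2 = ⊥) (a : S →+* B) (b : A →+* B') (hcomm : φ.comp b = a.comp ψ) :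
    ∃ g : S →+* B', φ.comp g = a ∧ g.comp ψ = b := by
  algebraize [ψ]
  let : Algebra A B' := b.toAlgebra
  let : Algebra A B := (φ.comp b).toAlgebra
  let φ' : B' →ₐ[A] B := { φ with commutes' := fun _ => rfl }
  let a' : S →ₐ[A] B := { a with commutes' := fun r => (DFunLike.congr_fun hcomm r).symm }
  have hnil : IsNilpotent (RingHom.ker φ') := ⟨2, hker⟩
  refine ⟨(Algebra.FormallySmooth.liftOfSurjective a' φ' hφ hnil).toRingHom, ?_, ?_⟩
  · ext s
    exact DFunLike.congr_fun (Algebra.FormallySmooth.comp_liftOfSurjective a' φ' hφ hnil) s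
  · ext r
    exact (Algebra.FormallySmooth.liftOfSurjective a' φ' hφ hnil).commutes r

theorem ring_backward {A S : Type u} [CommRing A] [CommRing S] [IsLocalRing S] [Algebra A S]
    (H : ∀ (B' : Type u) [CommRing B'] [IsLocalRing B'] (φ : B' →+* S),
      Function.Surjective φ → RingHom.ker φ ^ 2 = ⊥ → ∀ b : A →+* B',
      φ.comp b = algebraMap A S →
      ∃ g : S →+* B', φ.comp g = RingHom.id S ∧ g.comp (algebraMap A S) = b) :
    Algebra.FormallySmooth A S := by
  let P₀ := MvPolynomial S A
  let π₀ : P₀ →ₐ[A] S := MvPolynomial.aeval id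
  have hπ₀ : Function.Surjective π₀ := fun s => ⟨MvPolynomial.X s, MvPolynomial.aeval_X _ _⟩
  let 𝔫 : Ideal P₀ := (maximalIdeal S).comap π₀
  have h𝔫 : 𝔫.IsPrime := Ideal.comap_isPrime _ _
  let P := Localization.AtPrime 𝔫
  have hunit : ∀ y : 𝔫.primeCompl, IsUnit (π₀ y) := by
    intro y
    by_contra hy
    exact y.2 hy
  let π : P →ₐ[A] S := IsLocalization.liftAlgHom (M := 𝔫.primeCompl) (f := π₀) hunit
  have hπ : Function.Surjective π := by
    intro s
    obtain ⟨p, rfl⟩ := hπ₀ s
    exact ⟨algebraMap P₀ P p, by simp [π]⟩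
  have hfs : Algebra.FormallySmooth A P := by
    have : Algebra.FormallySmooth P₀ P := Algebra.FormallySmooth.of_isLocalization 𝔫.primeCompl
    exact Algebra.FormallySmooth.comp A P₀ P
  let I : Ideal P := RingHom.ker π.toRingHom
  have hIne : I ^ 2 ≠ ⊤ := by
    intro h
    have h1 : I = ⊤ := top_le_iff.mp (h ▸ Ideal.pow_le_self two_ne_zero)
    have h2 : (1 : P) ∈ I := h1 ▸ Submodule.mem_top
    have h3 : π 1 = 0 := h2
    rw [map_one] at h3
    exact one_ne_zero h3
  have : Nontrivial (P ⧸ I ^ 2) := Ideal.Quotient.nontrivial_iff.mpr hIne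
  have : IsLocalRing (P ⧸ I ^ 2) :=
    IsLocalRing.of_surjective' (Ideal.Quotient.mk _) Ideal.Quotient.mk_surjective
  have hsurj : Function.Surjective π.kerSquareLift.toRingHom :=
    Ideal.Quotient.lift_surjective_of_surjective _ _ hπ
  have hsq : RingHom.ker π.kerSquareLift.toRingHom ^ 2 = ⊥ := by
    rw [AlgHom.ker_kerSquareLift, Ideal.cotangentIdeal_square]
  obtain ⟨g, hg1, hg2⟩ := H (P ⧸ I ^ 2) π.kerSquareLift.toRingHom hsurj hsq
    (algebraMap A (P ⧸ I ^ 2)) (by ext r; exact π.kerSquareLift.commutes r)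
  let g' : S →ₐ[A] P ⧸ I ^ 2 := { g with commutes' := fun r => DFunLike.congr_fun hg2 r }
  refine Algebra.FormallySmooth.of_split π g' ?_
  ext s
  exact DFunLike.congr_fun hg1 s

theorem exists_stalk_hom {X : Scheme.{u}} {R : CommRingCat.{u}} [IsLocalRing R]
    (α : Spec R ⟶ X) (x : X) (h : α (closedPoint R) = x) :
    ∃ a : X.presheaf.stalk x ⟶ R, IsLocalHom a.hom ∧ Spec.map a ≫ X.fromSpecStalk x = α := by
  subst h
  exact ⟨Scheme.stalkClosedPointTo α, inferInstance,
    Scheme.Spec_stalkClosedPointTo_fromSpecStalk α⟩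

theorem specMap_closedPoint {B B' : Type u} [CommRing B] [CommRing B'] [IsLocalRing B]
    [IsLocalRing B'] (φ : B' →+* B) (hφ : Function.Surjective φ) :
    (Spec.map (CommRingCat.ofHom φ)) (closedPoint B) = closedPoint B' := by
  have : IsLocalHom φ := IsLocalHom.of_surjective φ hφ
  exact IsLocalRing.comap_closedPoint φ

theorem specMap_fromSpecStalk_inj {X : Scheme.{u}} (x : X) {R : CommRingCat.{u}}
    (a₁ a₂ : X.presheaf.stalk x ⟶ R)
    (h : Spec.map a₁ ≫ X.fromSpecStalk x = Spec.map a₂ ≫ X.fromSpecStalk x) : a₁ = a₂ := by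
  have : Mono (X.fromSpecStalk x) := inferInstance
  exact Spec.map_injective ((cancel_mono (X.fromSpecStalk x)).mp h)

/-- Let f : X ⟶ Y be locally of finite presentation and x a point of X. Then f is smooth at x if and
only if for every surjection of local rings B' → B with square-zero kernel, every morphism Spec B ⟶
X sending the closed point to x and every morphism Spec B' ⟶ Y making the square commute, there is a
lift Spec B' ⟶ X compatible with both. (No Noetherian hypothesis on Y.) -/
theorem result {X Y : Scheme.{u}} (f : X ⟶ Y)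
    [LocallyOfFinitePresentation f] (x : ↥X) :
    x ∈ f.smoothLocus ↔ ∀ (B B' : Type u) [CommRing B] [CommRing B'] [IsLocalRing B] [IsLocalRing B'] (φ : B' →+* B),
      Function.Surjective φ → RingHom.ker φ ^ 2 = ⊥ →
      ∀ (α : Spec (CommRingCat.of B) ⟶ X) (β : Spec (CommRingCat.of B') ⟶ Y),
        α.base (IsLocalRing.closedPoint B) = x → Spec.map (CommRingCat.ofHom φ) ≫ β = α ≫ f →
        ∃ γ : Spec (CommRingCat.of B') ⟶ X, Spec.map (CommRingCat.ofHom φ) ≫ γ = α ∧ γ ≫ f = β := by
  rw [Scheme.Hom.mem_smoothLocus]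
  constructor
  · intro hfs B B' _ _ _ _ φ hφ hker α β hα hcomm
    obtain ⟨a, -, ha⟩ := exists_stalk_hom (R := CommRingCat.of B) α x hα
    have hβ : β (closedPoint B') = f x := by
      have h1 : β ((Spec.map (CommRingCat.ofHom φ)) (closedPoint B)) = f (α (closedPoint B)) :=
        congrArg (fun h : Spec (CommRingCat.of B) ⟶ Y => h (closedPoint B)) hcomm
      rw [specMap_closedPoint φ hφ, hα] at h1
      exact h1
    obtain ⟨b, -, hb⟩ := exists_stalk_hom (R := CommRingCat.of B') β (f x) hβ
    have hc : b ≫ CommRingCat.ofHom φ = f.stalkMap x ≫ a := by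
      apply specMap_fromSpecStalk_inj (f x)
      rw [Spec.map_comp, Category.assoc, hb, hcomm, ← ha, Spec.map_comp, Category.assoc,
        Category.assoc, Scheme.SpecMap_stalkMap_fromSpecStalk]
    obtain ⟨g, hg1, hg2⟩ := ring_forward (f.stalkMap x).hom hfs B B' φ hφ hker a.hom b.hom
      (by
        have := congrArg CommRingCat.Hom.hom hc
        exact this)
    refine ⟨Spec.map (CommRingCat.ofHom g) ≫ X.fromSpecStalk x, ?_, ?_⟩
    · rw [← ha, ← Category.assoc, ← Spec.map_comp]
      congr 2
      ext s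
      exact DFunLike.congr_fun hg1 s
    · rw [← hb, Category.assoc, ← Scheme.SpecMap_stalkMap_fromSpecStalk, ← Category.assoc,
        ← Spec.map_comp]
      congr 2
      ext s
      exact DFunLike.congr_fun hg2 s
  · intro H
    let _ : Algebra (Y.presheaf.stalk (f.base x)) (X.presheaf.stalk x) :=
      (f.stalkMap x).hom.toAlgebra
    change Algebra.FormallySmooth (Y.presheaf.stalk (f.base x)) (X.presheaf.stalk x)
    apply ring_backward
    intro B' _ _ φ hφ hker b hb
    let α : Spec (CommRingCat.of (X.presheaf.stalk x)) ⟶ X := X.fromSpecStalk x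
    let β : Spec (CommRingCat.of B') ⟶ Y := Spec.map (CommRingCat.ofHom b) ≫ Y.fromSpecStalk (f x)
    have hα : α (closedPoint (X.presheaf.stalk x)) = x := Scheme.fromSpecStalk_closedPoint
    have hcomm : Spec.map (CommRingCat.ofHom φ) ≫ β = α ≫ f := by
      change _ = X.fromSpecStalk x ≫ f
      rw [← Scheme.SpecMap_stalkMap_fromSpecStalk, ← Category.assoc, ← Spec.map_comp]
      congr 2
      ext r
      exact DFunLike.congr_fun hb r
    obtain ⟨γ, hγ1, hγ2⟩ := H (X.presheaf.stalk x) B' φ hφ hker α β hα hcomm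
    have hγx : γ (closedPoint B') = x := by
      have h1 : γ ((Spec.map (CommRingCat.ofHom φ)) (closedPoint (X.presheaf.stalk x))) =
          α (closedPoint (X.presheaf.stalk x)) :=
        congrArg (fun h : Spec (CommRingCat.of (X.presheaf.stalk x)) ⟶ X =>
          h (closedPoint (X.presheaf.stalk x))) hγ1
      rw [specMap_closedPoint φ hφ, hα] at h1
      exact h1
    obtain ⟨g, -, hg⟩ := exists_stalk_hom (R := CommRingCat.of B') γ x hγx
    refine ⟨g.hom, ?_, ?_⟩
    · have h1 : g ≫ CommRingCat.ofHom φ = 𝟙 _ := by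
        apply specMap_fromSpecStalk_inj x
        rw [Spec.map_comp, Category.assoc, hg, hγ1, Spec.map_id]
        exact (Category.id_comp _).symm
      exact congrArg CommRingCat.Hom.hom h1
    · have h2 : f.stalkMap x ≫ g = CommRingCat.ofHom b := by
        apply specMap_fromSpecStalk_inj (f x)
        rw [Spec.map_comp, Category.assoc, Scheme.SpecMap_stalkMap_fromSpecStalk,
          ← Category.assoc, hg, hγ2]
      exact congrArg CommRingCat.Hom.hom h2

end Groth.Agent.S5008
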