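import Groth.Statements.S5009
-- import your own Groth.Agent.* helpers here
import Mathlib
import Groth.Agent.S5008
import Groth.Agent.S2794
import Groth.Agent.Lib.Helper19.StalkCriteria

set_option autoImplicit false
universe u
open CategoryTheory CategoryTheory.Limits AlgebraicGeometry TopologicalSpace
open Unram17

namespace Groth.Agent.S5009

open IsLocalRing

theorem ring_unique {A S : Type u} [CommRing A] [CommRing S] (ψ : A →+* S)
    (hψ : ψ.FormallyUnramified)
    (B B' : Type u) [CommRing B] [CommRing B'] (φ : B' →+* B)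
    (hker : RingHom.ker φ ^ 2 = ⊥) (a : S →+* B) (b : A →+* B') (g₁ g₂ : S →+* B')
    (h1 : φ.comp g₁ = a) (h1' : g₁.comp ψ = b) (h2 : φ.comp g₂ = a) (h2' : g₂.comp ψ = b) :
    g₁ = g₂ := by
  algebraize [ψ]
  let : Algebra A B' := b.toAlgebra
  have hnil : IsNilpotent (RingHom.ker φ) := ⟨2, hker⟩
  let G₁ : S →ₐ[A] B' := { g₁ with commutes' := fun r => DFunLike.congr_fun h1' r }
  let G₂ : S →ₐ[A] B' := { g₂ with commutes' := fun r => DFunLike.congr_fun h2' r }
  have hG : G₁ = G₂ := by
    apply Algebra.FormallyUnramified.ext (I := RingHom.ker φ) hnil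
    intro s
    rw [Ideal.Quotient.eq, RingHom.mem_ker, map_sub, sub_eq_zero]
    exact (DFunLike.congr_fun h1 s).trans (DFunLike.congr_fun h2 s).symm
  ext s
  exact DFunLike.congr_fun hG s

theorem ring_backward {A S : Type u} [CommRing A] [CommRing S] [IsLocalRing S] [Algebra A S]
    [Algebra.EssFiniteType A S]
    (H : ∀ (B B' : Type u) [CommRing B] [CommRing B'] [IsLocalRing B] [IsLocalRing B']
      (φ : B' →+* B), Function.Surjective φ → RingHom.ker φ ^ 2 = ⊥ →
      ∀ (a : S →+* B) (b : A →+* B'), IsLocalHom a → φ.comp b = a.comp (algebraMap A S) →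
      ∀ g₁ g₂ : S →+* B', φ.comp g₁ = a → g₁.comp (algebraMap A S) = b →
        φ.comp g₂ = a → g₂.comp (algebraMap A S) = b → g₁ = g₂) :
    Algebra.FormallyUnramified A S := by
  apply Groth.Agent.S2794.formallyUnramified_of_der
  intro D
  let κ := ResidueField S
  let T := TrivSqZeroExt κ κ
  let ι : κ →+* T := TrivSqZeroExt.inlHom κ κ
  let φ : T →+* κ := (TrivSqZeroExt.fstHom κ κ κ).toRingHom
  have hφ : Function.Surjective φ := fun c => ⟨TrivSqZeroExt.inl c, rfl⟩
  have hker : RingHom.ker φ ^ 2 = ⊥ := by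
    rw [eq_bot_iff, pow_two, Ideal.mul_le]
    intro r hr s hs
    have hr' : r.fst = 0 := hr
    have hs' : s.fst = 0 := hs
    rw [Ideal.mem_bot]
    ext
    · rw [TrivSqZeroExt.fst_mul, hr', zero_mul, TrivSqZeroExt.fst_zero]
    · rw [TrivSqZeroExt.snd_mul, hr', hs', zero_smul, MulOpposite.op_zero, zero_smul, add_zero,
        TrivSqZeroExt.snd_zero]
  let g₁ : S →+* T := ι.comp (residue S)
  let g₂ : S →+* T := Groth.Agent.S2794.derHom D
  have hloc : IsLocalHom (residue S) := IsLocalHom.of_surjective _ residue_surjective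
  have h12 : g₁ = g₂ := by
    refine H κ T φ hφ hker (residue S) (g₁.comp (algebraMap A S)) hloc ?_ g₁ g₂ ?_ rfl ?_ ?_
    · rfl
    · rfl
    · refine RingHom.ext fun s => ?_
      change (TrivSqZeroExt.inl (residue S s) + TrivSqZeroExt.inr (D s) : T).fst = residue S s
      rw [TrivSqZeroExt.fst_add, TrivSqZeroExt.fst_inl, TrivSqZeroExt.fst_inr, add_zero]
    · refine RingHom.ext fun r => ?_
      change TrivSqZeroExt.inl (residue S (algebraMap A S r)) +
        TrivSqZeroExt.inr (D (algebraMap A S r)) = ι (residue S (algebraMap A S r))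
      rw [D.map_algebraMap, TrivSqZeroExt.inr_zero, add_zero]
      rfl
  ext s
  have h1 := DFunLike.congr_fun h12 s
  change (TrivSqZeroExt.inl (residue S s) : T) =
    TrivSqZeroExt.inl (residue S s) + TrivSqZeroExt.inr (D s) at h1
  have h2 : (TrivSqZeroExt.inr (D s) : T) = TrivSqZeroExt.inr 0 := by
    rw [TrivSqZeroExt.inr_zero]
    exact left_eq_add.mp h1
  exact TrivSqZeroExt.inr_injective h2

/-- Let f : X ⟶ Y be locally of finite presentation and x a point of X. Then f is (formally) unramified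
on an open neighbourhood of x if and only if for every surjection of local rings B' → B with
square-zero kernel, every morphism Spec B ⟶ X sending the closed point to x and every morphism Spec
B' ⟶ Y making the square commute, any two lifts Spec B' ⟶ X compatible with both are equal. -/
theorem result {X Y : Scheme.{u}} (f : X ⟶ Y)
    [LocallyOfFinitePresentation f] (x : ↥X) :
    (∃ U : X.Opens, x ∈ U ∧ FormallyUnramified (U.ι ≫ f)) ↔
      ∀ (B B' : Type u) [CommRing B] [CommRing B'] [IsLocalRing B] [IsLocalRing B'] (φ : B' →+* B),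
      Function.Surjective φ → RingHom.ker φ ^ 2 = ⊥ →
      ∀ (α : Spec (CommRingCat.of B) ⟶ X) (β : Spec (CommRingCat.of B') ⟶ Y),
        α.base (IsLocalRing.closedPoint B) = x → Spec.map (CommRingCat.ofHom φ) ≫ β = α ≫ f →
        ∀ γ₁ γ₂ : Spec (CommRingCat.of B') ⟶ X,
          Spec.map (CommRingCat.ofHom φ) ≫ γ₁ = α → γ₁ ≫ f = β →
          Spec.map (CommRingCat.ofHom φ) ≫ γ₂ = α → γ₂ ≫ f = β → γ₁ = γ₂ := by
  have hft : LocallyOfFiniteType f := inferInstance
  have key : (∃ U : X.Opens, x ∈ U ∧ FormallyUnramified (U.ι ≫ f)) ↔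
      (f.stalkMap x).hom.FormallyUnramified :=
    ⟨Groth.Agent.Lib.Helper19.formallyUnramified_stalkMap_of_nhd f x,
      Groth.Agent.Lib.Helper19.exists_nhd_formallyUnramified_of_stalkMap f x⟩
  rw [key]
  have hx_of : ∀ {B B' : Type u} [CommRing B] [CommRing B'] [IsLocalRing B] [IsLocalRing B']
      (φ : B' →+* B), Function.Surjective φ →
      ∀ (α : Spec (CommRingCat.of B) ⟶ X) (γ : Spec (CommRingCat.of B') ⟶ X),
        α (closedPoint B) = x → Spec.map (CommRingCat.ofHom φ) ≫ γ = α →
        γ (closedPoint B') = x := by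
    intro B B' _ _ _ _ φ hφ α γ hα hγ
    have h1 : γ ((Spec.map (CommRingCat.ofHom φ)) (closedPoint B)) = α (closedPoint B) :=
      congrArg (fun h : Spec (CommRingCat.of B) ⟶ X => h (closedPoint B)) hγ
    rw [Groth.Agent.S5008.specMap_closedPoint φ hφ, hα] at h1
    exact h1
  constructor
  · intro hfu B B' _ _ _ _ φ hφ hker α β hα hcomm γ₁ γ₂ h1 h1' h2 h2'
    obtain ⟨a, -, ha⟩ := Groth.Agent.S5008.exists_stalk_hom (R := CommRingCat.of B) α x hα
    have hβ : β (closedPoint B') = f x := by
      have h3 : β ((Spec.map (CommRingCat.ofHom φ)) (closedPoint B)) = f (α (closedPoint B)) :=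
        congrArg (fun h : Spec (CommRingCat.of B) ⟶ Y => h (closedPoint B)) hcomm
      rw [Groth.Agent.S5008.specMap_closedPoint φ hφ, hα] at h3
      exact h3
    obtain ⟨b, -, hb⟩ := Groth.Agent.S5008.exists_stalk_hom (R := CommRingCat.of B') β (f x) hβ
    obtain ⟨g₁, -, hg₁⟩ := Groth.Agent.S5008.exists_stalk_hom (R := CommRingCat.of B') γ₁ x
      (hx_of φ hφ α γ₁ hα h1)
    obtain ⟨g₂, -, hg₂⟩ := Groth.Agent.S5008.exists_stalk_hom (R := CommRingCat.of B') γ₂ x
      (hx_of φ hφ α γ₂ hα h2)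
    have e1 : ∀ (g : X.presheaf.stalk x ⟶ CommRingCat.of B') (γ : Spec (CommRingCat.of B') ⟶ X),
        Spec.map g ≫ X.fromSpecStalk x = γ → Spec.map (CommRingCat.ofHom φ) ≫ γ = α →
        g ≫ CommRingCat.ofHom φ = a := by
      intro g γ hg hγ
      apply Groth.Agent.S5008.specMap_fromSpecStalk_inj x
      rw [Spec.map_comp, Category.assoc, hg, hγ, ha]
    have e2 : ∀ (g : X.presheaf.stalk x ⟶ CommRingCat.of B') (γ : Spec (CommRingCat.of B') ⟶ X),
        Spec.map g ≫ X.fromSpecStalk x = γ → γ ≫ f = β →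
        f.stalkMap x ≫ g = b := by
      intro g γ hg hγ
      apply Groth.Agent.S5008.specMap_fromSpecStalk_inj (f x)
      rw [Spec.map_comp, Category.assoc, Scheme.SpecMap_stalkMap_fromSpecStalk,
        ← Category.assoc, hg, hγ, hb]
    have hgg : g₁.hom = g₂.hom :=
      ring_unique (f.stalkMap x).hom hfu B B' φ hker a.hom b.hom g₁.hom g₂.hom
        (congrArg CommRingCat.Hom.hom (e1 g₁ γ₁ hg₁ h1))
        (congrArg CommRingCat.Hom.hom (e2 g₁ γ₁ hg₁ h1'))
        (congrArg CommRingCat.Hom.hom (e1 g₂ γ₂ hg₂ h2))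
        (congrArg CommRingCat.Hom.hom (e2 g₂ γ₂ hg₂ h2'))
    have hgg' : g₁ = g₂ := CommRingCat.hom_ext hgg
    rw [← hg₁, ← hg₂, hgg']
  · intro H
    let _ : Algebra (Y.presheaf.stalk (f.base x)) (X.presheaf.stalk x) :=
      (f.stalkMap x).hom.toAlgebra
    have hE : Algebra.EssFiniteType (Y.presheaf.stalk (f.base x)) (X.presheaf.stalk x) :=
      LocallyOfFiniteType.stalkMap f x
    change Algebra.FormallyUnramified (Y.presheaf.stalk (f.base x)) (X.presheaf.stalk x)
    apply ring_backward
    intro B B' _ _ _ _ φ hφ hker a b hloc hcomm g₁ g₂ h1 h1' h2 h2'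
    have hα : (Spec.map (CommRingCat.ofHom a) ≫ X.fromSpecStalk x) (closedPoint B) = x := by
      change (X.fromSpecStalk x) ((Spec.map (CommRingCat.ofHom a)) (closedPoint B)) = x
      have : (Spec.map (CommRingCat.ofHom a)) (closedPoint B) =
          closedPoint (X.presheaf.stalk x) := IsLocalRing.comap_closedPoint a
      rw [this]
      exact Scheme.fromSpecStalk_closedPoint
    have hcomm' : Spec.map (CommRingCat.ofHom φ) ≫
        (Spec.map (CommRingCat.ofHom b) ≫ Y.fromSpecStalk (f x)) =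
        (Spec.map (CommRingCat.ofHom a) ≫ X.fromSpecStalk x) ≫ f := by
      rw [Category.assoc, ← Scheme.SpecMap_stalkMap_fromSpecStalk, ← Category.assoc,
        ← Category.assoc, ← Spec.map_comp, ← Spec.map_comp]
      congr 2
      ext r
      exact DFunLike.congr_fun hcomm r
    have e1 : ∀ g : X.presheaf.stalk x →+* B', φ.comp g = a →
        Spec.map (CommRingCat.ofHom φ) ≫ (Spec.map (CommRingCat.ofHom g) ≫ X.fromSpecStalk x) =
          Spec.map (CommRingCat.ofHom a) ≫ X.fromSpecStalk x := by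
      intro g hg
      rw [← Category.assoc, ← Spec.map_comp]
      congr 2
      ext s
      exact DFunLike.congr_fun hg s
    have e2 : ∀ g : X.presheaf.stalk x →+* B',
        g.comp (algebraMap (Y.presheaf.stalk (f.base x)) (X.presheaf.stalk x)) = b →
        (Spec.map (CommRingCat.ofHom g) ≫ X.fromSpecStalk x) ≫ f =
          Spec.map (CommRingCat.ofHom b) ≫ Y.fromSpecStalk (f x) := by
      intro g hg
      rw [Category.assoc, ← Scheme.SpecMap_stalkMap_fromSpecStalk, ← Category.assoc,
        ← Spec.map_comp]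
      congr 2
      ext r
      exact DFunLike.congr_fun hg r
    have h12 := H B B' φ hφ hker (Spec.map (CommRingCat.ofHom a) ≫ X.fromSpecStalk x)
      (Spec.map (CommRingCat.ofHom b) ≫ Y.fromSpecStalk (f x)) hα hcomm'
      (Spec.map (CommRingCat.ofHom g₁) ≫ X.fromSpecStalk x)
      (Spec.map (CommRingCat.ofHom g₂) ≫ X.fromSpecStalk x)
      (e1 g₁ h1) (e2 g₁ h1') (e1 g₂ h2) (e2 g₂ h2')
    have := Groth.Agent.S5008.specMap_fromSpecStalk_inj x _ _ h12
    exact congrArg CommRingCat.Hom.hom this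

end Groth.Agent.S5009
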