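import Groth.Statements.S5010
import Groth.Agent.Lib.Helper70.DiffSmoothPres
import Groth.Agent.S3816
import Groth.Agent.S3817
import Mathlib.RingTheory.Kaehler.Polynomial
import Mathlib.RingTheory.Etale.Kaehler

set_option autoImplicit false
universe u
open PP16

namespace Groth.Agent.S5010

open Groth.Agent.Lib.Helper70 Groth.Agent.Lib.Helper70.DiffSmoothPres

theorem hz_frac (k : Type u) [Field k] (r : ℕ) :
    Submodule.span (FractionRing (MvPolynomial (Fin r) k))
      (Set.range fun i : Fin r => KaehlerDifferential.D k (FractionRing (MvPolynomial (Fin r) k))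
        (algebraMap (MvPolynomial (Fin r) k) (FractionRing (MvPolynomial (Fin r) k))
          (MvPolynomial.X i))) = ⊤ := by
  have hv : Submodule.span (MvPolynomial (Fin r) k)
      (Set.range fun i : Fin r => KaehlerDifferential.D k (MvPolynomial (Fin r) k)
        (MvPolynomial.X i)) = ⊤ := by
    have h := (KaehlerDifferential.mvPolynomialBasis k (Fin r)).span_eq
    have hr : Set.range (KaehlerDifferential.mvPolynomialBasis k (Fin r)) =
        Set.range fun i : Fin r => KaehlerDifferential.D k (MvPolynomial (Fin r) k)
          (MvPolynomial.X i) := by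
      congr 1
      funext i
      exact KaehlerDifferential.mvPolynomialBasis_apply k (Fin r) i
    rwa [hr] at h
  have h2 := span_eq_top_of_isLocalizedModule (FractionRing (MvPolynomial (Fin r) k))
    (nonZeroDivisors (MvPolynomial (Fin r) k))
    (KaehlerDifferential.map k k (MvPolynomial (Fin r) k) (FractionRing (MvPolynomial (Fin r) k)))
    hv
  rw [← Set.range_comp] at h2
  have hr2 : (Set.range fun i : Fin r =>
      KaehlerDifferential.D k (FractionRing (MvPolynomial (Fin r) k))
        (algebraMap (MvPolynomial (Fin r) k) (FractionRing (MvPolynomial (Fin r) k))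
          (MvPolynomial.X i))) =
      Set.range (⇑(KaehlerDifferential.map k k (MvPolynomial (Fin r) k)
        (FractionRing (MvPolynomial (Fin r) k))) ∘ fun i : Fin r =>
          KaehlerDifferential.D k (MvPolynomial (Fin r) k) (MvPolynomial.X i)) := by
    congr 1
    funext i
    simp [KaehlerDifferential.map_D]
  rw [hr2]
  exact h2


/-- Let k be a field and K the field of fractions of the polynomial ring k[T_1, ..., T_r]. For every n,
the K-algebra map from the polynomial ring K[U_1, ..., U_r] to the ring of principal parts of order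
n of K over k (a K-algebra through the first factor) that sends U_i to d^n(T_i) − T_i · 1 is
surjective, and its kernel is the (n+1)-st power of the ideal generated by the U_i. -/
theorem result (k : Type u) [Field k] (r n : ℕ) :
    Function.Surjective
        (MvPolynomial.aeval (R := FractionRing (MvPolynomial (Fin r) k))
          (S₁ := PP16.P n k (FractionRing (MvPolynomial (Fin r) k)))
          (fun i : Fin r =>
            PP16.dn n k (FractionRing (MvPolynomial (Fin r) k))
                (algebraMap (MvPolynomial (Fin r) k) (FractionRing (MvPolynomial (Fin r) k)) (MvPolynomial.X i)) -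
              algebraMap (FractionRing (MvPolynomial (Fin r) k)) (PP16.P n k (FractionRing (MvPolynomial (Fin r) k)))
                (algebraMap (MvPolynomial (Fin r) k) (FractionRing (MvPolynomial (Fin r) k)) (MvPolynomial.X i)))) ∧
      RingHom.ker
          (MvPolynomial.aeval (R := FractionRing (MvPolynomial (Fin r) k))
            (S₁ := PP16.P n k (FractionRing (MvPolynomial (Fin r) k)))
            (fun i : Fin r =>
              PP16.dn n k (FractionRing (MvPolynomial (Fin r) k))
                  (algebraMap (MvPolynomial (Fin r) k) (FractionRing (MvPolynomial (Fin r) k)) (MvPolynomial.X i)) -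
                algebraMap (FractionRing (MvPolynomial (Fin r) k)) (PP16.P n k (FractionRing (MvPolynomial (Fin r) k)))
                  (algebraMap (MvPolynomial (Fin r) k) (FractionRing (MvPolynomial (Fin r) k)) (MvPolynomial.X i)))).toRingHom =
        (Ideal.span (Set.range (MvPolynomial.X : Fin r → MvPolynomial (Fin r) (FractionRing (MvPolynomial (Fin r) k))))) ^ (n + 1) := by
  have hsm : Algebra.FormallySmooth (MvPolynomial (Fin r) k)
      (FractionRing (MvPolynomial (Fin r) k)) :=
    Algebra.FormallySmooth.of_isLocalization (nonZeroDivisors (MvPolynomial (Fin r) k))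
  have hops : ∀ p : Fin r → ℕ, ∃ D' : FractionRing (MvPolynomial (Fin r) k) →ₗ[k]
      FractionRing (MvPolynomial (Fin r) k),
      Diff16.IsDiffOpLE k (FractionRing (MvPolynomial (Fin r) k))
        (FractionRing (MvPolynomial (Fin r) k)) (FractionRing (MvPolynomial (Fin r) k))
        (∑ i, p i) D' ∧
      ∀ s : MvPolynomial (Fin r) k, D' (algebraMap _ _ s) =
        algebraMap _ _ (PolyDivPow.Dp k (Fin r) p s) := fun p =>
    exists_ext_op k (MvPolynomial (Fin r) k) (FractionRing (MvPolynomial (Fin r) k)) _ _
      (PolyDivPow.isDiffOpLE_Dp k (Fin r) _ p rfl)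
  choose Dq hDq1 hDq2 using hops
  have hDz : ∀ p q : Fin r → ℕ, Dq p (∏ i, (algebraMap (MvPolynomial (Fin r) k)
      (FractionRing (MvPolynomial (Fin r) k)) (MvPolynomial.X i)) ^ q i) =
      ((∏ i, Nat.choose (q i) (p i) : ℕ) : FractionRing (MvPolynomial (Fin r) k)) *
        ∏ i, (algebraMap (MvPolynomial (Fin r) k)
          (FractionRing (MvPolynomial (Fin r) k)) (MvPolynomial.X i)) ^ (q i - p i) := by
    intro p q
    have h1 : (∏ i, (algebraMap (MvPolynomial (Fin r) k)
        (FractionRing (MvPolynomial (Fin r) k)) (MvPolynomial.X i)) ^ q i) =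
        algebraMap (MvPolynomial (Fin r) k) (FractionRing (MvPolynomial (Fin r) k))
          (PolyDivPow.mono k (Fin r) q) := by
      rw [PolyDivPow.mono, map_prod]
      simp only [map_pow]
    rw [h1, hDq2, PolyDivPow.Dp_mono, map_mul, map_natCast, PolyDivPow.mono, map_prod]
    simp only [map_pow]
    rfl
  obtain ⟨hB, hb⟩ := (Groth.Agent.S3816.result k (FractionRing (MvPolynomial (Fin r) k)) (Fin r)
    (fun i => algebraMap (MvPolynomial (Fin r) k) (FractionRing (MvPolynomial (Fin r) k))
      (MvPolynomial.X i)) (hz_frac k r)).mpr ⟨Dq, fun p => ⟨_, hDq1 p⟩, hDz⟩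
  obtain ⟨β, hβ⟩ := Groth.Agent.S3817.result k (FractionRing (MvPolynomial (Fin r) k)) hB (Fin r)
    (fun i => algebraMap (MvPolynomial (Fin r) k) (FractionRing (MvPolynomial (Fin r) k))
      (MvPolynomial.X i)) hb n
  exact ⟨aeval_zeta_surjective k (FractionRing (MvPolynomial (Fin r) k)) (Fin r) _ n β hβ,
    ker_aeval_zeta k (FractionRing (MvPolynomial (Fin r) k)) (Fin r) _ n β hβ⟩

end Groth.Agent.S5010
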