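import Groth.Statements.S5011
import Mathlib

set_option autoImplicit false
universe u
open CategoryTheory CategoryTheory.Limits AlgebraicGeometry TopologicalSpace
open Unram17

namespace Groth.Agent.S5011

section helpers
open AlgebraicGeometry CategoryTheory IsLocalRing

section localring
variable {R S : Type u} [CommRing R] [CommRing S] [IsLocalRing R] [IsLocalRing S]

/-- Transport between the quotient by an ideal equal to the maximal ideal and the residue field. -/
theorem aux (φ : R →+* S) [IsLocalHom φ] (J : Ideal S) (hJ : J = maximalIdeal S)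
    (hle : maximalIdeal R ≤ J.comap φ) :
    letI := φ.toAlgebra
    haveI : IsLocalHom (algebraMap R S) := ‹IsLocalHom φ›
    letI := (Ideal.quotientMap J φ hle).toAlgebra
    (Module.Finite (R ⧸ maximalIdeal R) (S ⧸ J) ↔ Module.Finite (ResidueField R) (ResidueField S)) ∧
    (Algebra.IsSeparable (R ⧸ maximalIdeal R) (S ⧸ J) ↔
      Algebra.IsSeparable (ResidueField R) (ResidueField S)) := by
  let _ := φ.toAlgebra
  have : IsLocalHom (algebraMap R S) := ‹IsLocalHom φ›
  let _ := (Ideal.quotientMap J φ hle).toAlgebra
  let e₁ : (R ⧸ maximalIdeal R) ≃+* ResidueField R := RingEquiv.refl _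
  let e₂ : (S ⧸ J) ≃+* ResidueField S := Ideal.quotEquivOfEq hJ
  have he : RingHom.comp (algebraMap (ResidueField R) (ResidueField S)) ↑e₁ =
      RingHom.comp ↑e₂ (algebraMap (R ⧸ maximalIdeal R) (S ⧸ J)) := by
    apply Ideal.Quotient.ringHom_ext
    apply RingHom.ext
    intro r
    rfl
  have he' : RingHom.comp (algebraMap (R ⧸ maximalIdeal R) (S ⧸ J)) ↑e₁.symm =
      RingHom.comp ↑e₂.symm (algebraMap (ResidueField R) (ResidueField S)) := by
    apply Ideal.Quotient.ringHom_ext
    apply RingHom.ext
    intro r
    rfl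
  refine ⟨⟨fun h => Module.Finite.of_equiv_equiv e₁ e₂ he,
    fun h => Module.Finite.of_equiv_equiv e₁.symm e₂.symm he'⟩, ?_⟩
  let _ : Field (R ⧸ maximalIdeal R) := Ideal.Quotient.field _
  exact Algebra.IsSeparable.iff_of_equiv_equiv e₁ e₂ he


theorem local_iff (φ : R →+* S) [IsLocalHom φ] (hess : φ.EssFiniteType) :
    φ.FormallyUnramified ↔
      letI := (Ideal.quotientMap ((maximalIdeal R).map φ) φ Ideal.le_comap_map).toAlgebra
      IsField (S ⧸ (maximalIdeal R).map φ) ∧
        Module.Finite (R ⧸ maximalIdeal R) (S ⧸ (maximalIdeal R).map φ) ∧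
        Algebra.IsSeparable (R ⧸ maximalIdeal R) (S ⧸ (maximalIdeal R).map φ) := by
  algebraize [φ]
  have hloc : IsLocalHom (algebraMap R S) := ‹IsLocalHom φ›
  constructor
  · intro h
    have hU : Algebra.FormallyUnramified R S := h
    have hm : (maximalIdeal R).map φ = maximalIdeal S :=
      Algebra.FormallyUnramified.map_maximalIdeal (R := R) (S := S)
    have hF : IsField (S ⧸ (maximalIdeal R).map φ) :=
      Algebra.FormallyUnramified.isField_quotient_map_maximalIdeal (R := R) (S := S)
    obtain ⟨h1, h2⟩ := aux φ _ hm Ideal.le_comap_map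
    exact ⟨hF, h1.mpr inferInstance, h2.mpr inferInstance⟩
  · rintro ⟨hF, hfin, hsep⟩
    have hmax : ((maximalIdeal R).map φ).IsMaximal := Ideal.Quotient.maximal_of_isField _ hF
    have hm : (maximalIdeal R).map φ = maximalIdeal S := IsLocalRing.eq_maximalIdeal hmax
    obtain ⟨h1, h2⟩ := aux φ _ hm Ideal.le_comap_map
    have hsep' : Algebra.IsSeparable (ResidueField R) (ResidueField S) := h2.mp hsep
    exact Algebra.FormallyUnramified.of_map_maximalIdeal (R := R) (S := S) hm

end localring



end helpers

/-- Let f : X ⟶ Y be locally of finite presentation. Then f is etale if and only if f is flat and, for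
every point x of X with image y, the quotient of the local ring of X at x by the extension of the
maximal ideal of the local ring of Y at y is a field, finite and separable over the residue field
κ(y); that is, every fibre of f is a sum of spectra of finite separable extensions of the residue
field. -/
theorem result {X Y : Scheme.{u}} (f : X ⟶ Y)
    [LocallyOfFinitePresentation f] :
    Etale f ↔ Flat f ∧ ∀ x : ↥X,
      letI φ := (f.stalkMap x).hom
      letI 𝔪 := IsLocalRing.maximalIdeal ↑(Y.presheaf.stalk (f.base x))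
      letI := (Ideal.quotientMap (𝔪.map φ) φ Ideal.le_comap_map).toAlgebra
      IsField (↑(X.presheaf.stalk x) ⧸ 𝔪.map φ) ∧
        Module.Finite (↑(Y.presheaf.stalk (f.base x)) ⧸ 𝔪) (↑(X.presheaf.stalk x) ⧸ 𝔪.map φ) ∧
        Algebra.IsSeparable (↑(Y.presheaf.stalk (f.base x)) ⧸ 𝔪) (↑(X.presheaf.stalk x) ⧸ 𝔪.map φ) := by
  rw [Etale.iff_flat_and_formallyUnramified]
  constructor
  · rintro ⟨hfl, hun, -⟩
    refine ⟨hfl, fun x => ?_⟩
    exact (local_iff (f.stalkMap x).hom (LocallyOfFiniteType.stalkMap f x)).mp
      (FormallyUnramified.stalkMap f x)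
  · rintro ⟨hfl, h⟩
    refine ⟨hfl, ?_, inferInstance⟩
    exact HasRingHomProperty.of_stalkMap (P := @FormallyUnramified)
      RingHom.FormallyUnramified.ofLocalizationPrime
      (fun x => (local_iff (f.stalkMap x).hom (LocallyOfFiniteType.stalkMap f x)).mpr (h x))

end Groth.Agent.S5011
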