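import Groth.Statements.S5014
import Mathlib
import Groth.Agent.Lib.Helper65.EtaleCoord
-- import your own Groth.Agent.* helpers here

set_option autoImplicit false
universe u
open Unram17

namespace Groth.Agent.S5014

open IsLocalRing Algebra TensorProduct KaehlerDifferential

theorem formallyEtale_mvPolynomial_iff (A T : Type u) [CommRing A] [CommRing T]
    [Algebra A T] [Algebra.FormallySmooth A T] (r : ℕ) [Algebra (MvPolynomial (Fin r) A) T]
    [IsScalarTower A (MvPolynomial (Fin r) A) T] :
    Algebra.FormallyEtale (MvPolynomial (Fin r) A) T ↔
      LinearIndependent T
          (fun i : Fin r => KaehlerDifferential.D A T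
            (algebraMap (MvPolynomial (Fin r) A) T (MvPolynomial.X i))) ∧
        Submodule.span T
          (Set.range fun i : Fin r => KaehlerDifferential.D A T
            (algebraMap (MvPolynomial (Fin r) A) T (MvPolynomial.X i))) = ⊤ := by
  let b' : Module.Basis (Fin r) T (T ⊗[MvPolynomial (Fin r) A] Ω[MvPolynomial (Fin r) A⁄A]) :=
    (KaehlerDifferential.mvPolynomialBasis A (Fin r)).baseChange T
  have hb' : ∀ i, KaehlerDifferential.mapBaseChange A (MvPolynomial (Fin r) A) T (b' i) =
      KaehlerDifferential.D A T (algebraMap (MvPolynomial (Fin r) A) T (MvPolynomial.X i)) := by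
    intro i
    simp only [b', Module.Basis.baseChange_apply, KaehlerDifferential.mvPolynomialBasis_apply]
    rw [KaehlerDifferential.mapBaseChange_tmul, one_smul, KaehlerDifferential.map_D]
  constructor
  · intro het
    let e := KaehlerDifferential.tensorKaehlerEquivOfFormallyEtale A (MvPolynomial (Fin r) A) T
    let b'' := b'.map e
    have hb'' : ∀ i, b'' i =
        KaehlerDifferential.D A T (algebraMap (MvPolynomial (Fin r) A) T (MvPolynomial.X i)) := by
      intro i
      simp only [b'', Module.Basis.map_apply, e,
        KaehlerDifferential.tensorKaehlerEquivOfFormallyEtale_apply, hb']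
    have hfun : (fun i => KaehlerDifferential.D A T
        (algebraMap (MvPolynomial (Fin r) A) T (MvPolynomial.X i))) = b'' :=
      funext fun i => (hb'' i).symm
    rw [hfun]
    exact ⟨b''.linearIndependent, b''.span_eq⟩
  · rintro ⟨hli, hsp⟩
    let b'' := Module.Basis.mk hli hsp.ge
    have hL : KaehlerDifferential.mapBaseChange A (MvPolynomial (Fin r) A) T =
        (b'.equiv b'' (Equiv.refl _)).toLinearMap := by
      apply b'.ext
      intro i
      simp [hb', b'']
    have hbij : Function.Bijective (KaehlerDifferential.mapBaseChange A (MvPolynomial (Fin r) A) T) := by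
      rw [hL]; exact (b'.equiv b'' (Equiv.refl _)).bijective
    exact Groth.Agent.Lib.Helper65.EtaleCoord.formallyEtale_of_bijective_mapBaseChange A
      (MvPolynomial (Fin r) A) T hbij


/-- Let C be a smooth algebra over a commutative ring A, equipped with an A-algebra map from the
polynomial ring in r variables (images s_i of the variables), and let q be a prime of C. Then C is
etale at q over the polynomial ring if and only if the differentials of the s_i are linearly
independent and generate the module of differentials of the local ring C_q over A, i.e. form a basis
of it. -/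
theorem result (A C : Type u) [CommRing A] [CommRing C]
    [Algebra A C] [Algebra.Smooth A C] (r : ℕ) [Algebra (MvPolynomial (Fin r) A) C]
    [IsScalarTower A (MvPolynomial (Fin r) A) C] (q : Ideal C) [q.IsPrime] :
    Algebra.IsEtaleAt (MvPolynomial (Fin r) A) q ↔
      LinearIndependent (Localization.AtPrime q)
          (fun i : Fin r => KaehlerDifferential.D A (Localization.AtPrime q)
            (algebraMap C (Localization.AtPrime q) (algebraMap (MvPolynomial (Fin r) A) C (MvPolynomial.X i)))) ∧
        Submodule.span (Localization.AtPrime q)
          (Set.range fun i : Fin r => KaehlerDifferential.D A (Localization.AtPrime q)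
            (algebraMap C (Localization.AtPrime q) (algebraMap (MvPolynomial (Fin r) A) C (MvPolynomial.X i)))) = ⊤ := by
  have hsmT : Algebra.FormallySmooth A (Localization.AtPrime q) := by
    have : Algebra.FormallySmooth C (Localization.AtPrime q) :=
      Algebra.FormallySmooth.of_isLocalization q.primeCompl
    exact Algebra.FormallySmooth.comp A C (Localization.AtPrime q)
  simp only [← IsScalarTower.algebraMap_apply (MvPolynomial (Fin r) A) C (Localization.AtPrime q)]
  exact formallyEtale_mvPolynomial_iff A (Localization.AtPrime q) r


end Groth.Agent.S5014
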