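import Groth.Statements.S5016
import Groth.Agent.Lib.Helper48.Conormal14

set_option autoImplicit false
universe u
open CategoryTheory CategoryTheory.Limits AlgebraicGeometry TopologicalSpace
open Unram17

namespace Groth.Agent.S5016

/-- Let g : Y ⟶ S, h : X ⟶ S and f : X ⟶ Y with f ≫ g = h, and suppose f is formally smooth. Given
sheaves of differentials of Y over S and of X over S (universal derivations) and the canonical
compatible map c from the pullback of the former to the latter, c is a monomorphism of O_X-modules.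
(The published statement also identifies the cokernel of this map with the sheaf of differentials of
X over Y and splits the sequence locally; this row states only that the map is injective.) -/
theorem result {X Y S : Scheme.{u}} (g : Y ⟶ S) (h : X ⟶ S)
    (f : X ⟶ Y) (w : f ≫ g = h) (hf : MoreMor.IsFormallySmoothHom f)
    (ΩY : Y.Modules) (dY : OmegaSh.Der g ΩY) (hY : OmegaSh.IsUniversal dY)
    (ΩX : X.Modules) (dX : OmegaSh.Der h ΩX) (hX : OmegaSh.IsUniversal dX)
    (c : (Scheme.Modules.pullback f).obj ΩY ⟶ ΩX) (hc : OmegaSh.IsDiffCompat f dY dX c) :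
    Mono c := by
  subst w
  open Groth.Agent.Lib.Helper48.Conormal in
  refine mono_of_basis c
    {U | IsAffineOpen U ∧ ∃ V : Y.Opens, IsAffineOpen V ∧ U ≤ f ⁻¹ᵁ V ∧
      ∃ T : S.Opens, IsAffineOpen T ∧ V ≤ g ⁻¹ᵁ T} ?_ ?_
  · rw [Opens.isBasis_iff_nbhd]
    intro O x hx
    obtain ⟨_, ⟨T, hT : IsAffineOpen T, rfl⟩, hxT, -⟩ :=
      (S.isBasis_affineOpens).exists_subset_of_mem_open (Set.mem_univ (g (f x))) isOpen_univ
    obtain ⟨_, ⟨V, hV : IsAffineOpen V, rfl⟩, hxV, hVT⟩ :=
      (Y.isBasis_affineOpens).exists_subset_of_mem_open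
        (show f x ∈ ((g ⁻¹ᵁ T : Y.Opens) : Set Y) from hxT) (g ⁻¹ᵁ T).2
    obtain ⟨_, ⟨U, hU : IsAffineOpen U, rfl⟩, hxU, hUO⟩ :=
      (X.isBasis_affineOpens).exists_subset_of_mem_open
        (show x ∈ ((O ⊓ f ⁻¹ᵁ V : X.Opens) : Set X) from ⟨hx, hxV⟩) (O ⊓ f ⁻¹ᵁ V).2
    exact ⟨U, ⟨hU, V, hV, fun y hy => (hUO hy).2, T, hT, hVT⟩, hxU, fun y hy => (hUO hy).1⟩
  · rintro U ⟨hU, V, hV, e, T, hT, eVT⟩
    exact c_app_injective_of_formallySmooth g f dY hY dX hX c hc hf hU hV hT e eVT

end Groth.Agent.S5016
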