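import Groth.Statements.S5017
import Mathlib
import Groth.Agent.S5011

set_option autoImplicit false
universe u
open CategoryTheory CategoryTheory.Limits AlgebraicGeometry TopologicalSpace
open Unram17

namespace Groth.Agent.S5017

section helpers
open AlgebraicGeometry CategoryTheory IsLocalRing

section localring
variable {R S : Type u} [CommRing R] [CommRing S] [IsLocalRing R] [IsLocalRing S]

theorem map_surjective_of (φ : R →+* S) [IsLocalHom φ]
    (h : Function.Surjective (Ideal.quotientMap ((maximalIdeal R).map φ) φ Ideal.le_comap_map)) :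
    Function.Surjective (ResidueField.map φ) := by
  intro sbar
  obtain ⟨s, rfl⟩ := residue_surjective sbar
  obtain ⟨rbar, hr⟩ := h (Ideal.Quotient.mk _ s)
  obtain ⟨r, rfl⟩ := Ideal.Quotient.mk_surjective rbar
  refine ⟨residue R r, ?_⟩
  rw [ResidueField.map_residue]
  have h1 : Ideal.Quotient.mk ((maximalIdeal R).map φ) (φ r) = Ideal.Quotient.mk _ s := hr
  rw [Ideal.Quotient.eq] at h1
  have hle : (maximalIdeal R).map φ ≤ maximalIdeal S :=
    ((local_hom_TFAE φ).out 0 2 rfl rfl).mp ‹_›
  exact Ideal.Quotient.eq.mpr (hle h1)

theorem quotientMap_surjective_of (φ : R →+* S) [IsLocalHom φ]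
    (hm : (maximalIdeal R).map φ = maximalIdeal S)
    (h : Function.Surjective (ResidueField.map φ)) :
    Function.Surjective (Ideal.quotientMap ((maximalIdeal R).map φ) φ Ideal.le_comap_map) := by
  intro sbar
  obtain ⟨s, rfl⟩ := Ideal.Quotient.mk_surjective sbar
  obtain ⟨rbar, hr⟩ := h (residue S s)
  obtain ⟨r, rfl⟩ := residue_surjective rbar
  refine ⟨Ideal.Quotient.mk _ r, ?_⟩
  rw [ResidueField.map_residue] at hr
  have h1 : φ r - s ∈ maximalIdeal S := Ideal.Quotient.eq.mp hr
  rw [← hm] at h1
  exact Ideal.Quotient.eq.mpr h1


theorem local_mono_iff (φ : R →+* S) [IsLocalHom φ] (hess : φ.EssFiniteType) :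
    (φ.FormallyUnramified ∧ (ResidueField.map φ).IsPurelyInseparable) ↔
      Function.Bijective (Ideal.quotientMap ((maximalIdeal R).map φ) φ Ideal.le_comap_map) := by
  constructor
  · rintro ⟨hU, hP⟩
    have hU' := hU
    algebraize [φ]
    have hloc : IsLocalHom (algebraMap R S) := ‹IsLocalHom φ›
    have hm : (maximalIdeal R).map φ = maximalIdeal S :=
      Algebra.FormallyUnramified.map_maximalIdeal (R := R) (S := S)
    have hsep0 : Algebra.IsSeparable (ResidueField R) (ResidueField S) := inferInstance
    have hsurj : Function.Surjective (ResidueField.map φ) := by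
      letI := (ResidueField.map φ).toAlgebra
      have hP' : IsPurelyInseparable (ResidueField R) (ResidueField S) := hP
      have hsep : Algebra.IsSeparable (ResidueField R) (ResidueField S) := by
        convert! hsep0
        refine Algebra.algebra_ext _ _ fun x ↦ ?_
        obtain ⟨x, rfl⟩ := IsLocalRing.residue_surjective x
        rfl
      exact IsPurelyInseparable.surjective_algebraMap_of_isSeparable (ResidueField R) (ResidueField S)
    refine ⟨?_, quotientMap_surjective_of φ hm hsurj⟩
    letI : Field (R ⧸ maximalIdeal R) := Ideal.Quotient.field _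
    have : Nontrivial (S ⧸ (maximalIdeal R).map φ) := by
      rw [hm]; exact Ideal.Quotient.nontrivial_iff.mpr (Ideal.IsMaximal.ne_top inferInstance)
    exact RingHom.injective _
  · intro hbij
    have hF0 : IsField (R ⧸ maximalIdeal R) :=
      (Ideal.Quotient.maximal_ideal_iff_isField_quotient _).mp inferInstance
    have hF : IsField (S ⧸ (maximalIdeal R).map φ) :=
      MulEquiv.isField hF0 (RingEquiv.ofBijective _ hbij).symm.toMulEquiv
    refine ⟨(Groth.Agent.S5011.local_iff φ hess).mpr ⟨hF, ?_, ?_⟩, ?_⟩
    · letI := (Ideal.quotientMap ((maximalIdeal R).map φ) φ Ideal.le_comap_map).toAlgebra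
      exact Module.Finite.of_surjective (Algebra.linearMap (R ⧸ maximalIdeal R)
        (S ⧸ (maximalIdeal R).map φ)) hbij.2
    · letI := (Ideal.quotientMap ((maximalIdeal R).map φ) φ Ideal.le_comap_map).toAlgebra
      letI : Field (R ⧸ maximalIdeal R) := Ideal.Quotient.field _
      exact Algebra.IsSeparable.of_equiv_equiv (A₁ := R ⧸ maximalIdeal R) (B₁ := R ⧸ maximalIdeal R)
        (RingEquiv.refl _) (RingEquiv.ofBijective _ hbij) (RingHom.ext fun r => rfl)
    · have hsurj := map_surjective_of φ hbij.2
      letI := (ResidueField.map φ).toAlgebra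
      change IsPurelyInseparable (ResidueField R) (ResidueField S)
      rw [isPurelyInseparable_iff]
      intro x
      obtain ⟨r, rfl⟩ := hsurj x
      exact ⟨isIntegral_algebraMap, fun _ => ⟨r, rfl⟩⟩

end localring



end helpers

/-- Let f : X ⟶ Y be locally of finite type. Then f is a monomorphism if and only if, for every point x
of X with image y, x is the only point of its fibre and the canonical map from the residue field
κ(y) to the quotient of the local ring of X at x by the extension of the maximal ideal at y is
bijective (each nonempty fibre is Spec κ(y)). -/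
theorem result {X Y : Scheme.{u}} (f : X ⟶ Y) [LocallyOfFiniteType f] :
    Mono f ↔ ∀ x : ↥X,
      (∀ x' : ↥X, f.base x' = f.base x → x' = x) ∧
        Function.Bijective
          (Ideal.quotientMap
            ((IsLocalRing.maximalIdeal ↑(Y.presheaf.stalk (f.base x))).map (f.stalkMap x).hom)
            (f.stalkMap x).hom Ideal.le_comap_map) := by
  constructor
  · intro hmono x
    have hUI : UniversallyInjective f := inferInstance
    have h3 := ((tfae_universallyInjective f).out 0 2).mp hUI
    have hiso : IsIso (pullback.diagonal f) := (pullback.isIso_diagonal_iff f).mpr hmono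
    have hFU : FormallyUnramified f := inferInstance
    refine ⟨fun x' hx' => h3.1 hx', ?_⟩
    exact (local_mono_iff (f.stalkMap x).hom (LocallyOfFiniteType.stalkMap f x)).mp
      ⟨FormallyUnramified.stalkMap f x, h3.2 x⟩
  · intro h
    have hinj : Function.Injective f := fun a b hab => (h b).1 a hab
    have hloc := fun x => (local_mono_iff (f.stalkMap x).hom
      (LocallyOfFiniteType.stalkMap f x)).mpr (h x).2
    have hFU : FormallyUnramified f := HasRingHomProperty.of_stalkMap (P := @FormallyUnramified)
      RingHom.FormallyUnramified.ofLocalizationPrime (fun x => (hloc x).1)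
    have hUI : UniversallyInjective f :=
      ((tfae_universallyInjective f).out 0 2).mpr (And.intro hinj (fun x => (hloc x).2))
    have hsurj : Surjective (pullback.diagonal f) := (UniversallyInjective.iff_diagonal f).mp hUI
    have hiso : IsIso (pullback.diagonal f) :=
      (isIso_iff_isOpenImmersion_and_surjective _).mpr ⟨inferInstance, hsurj⟩
    exact (pullback.isIso_diagonal_iff f).mp hiso

end Groth.Agent.S5017
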