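import Groth.Statements.S5024
import Mathlib
import Groth.Agent.Lib.Helper30.SmoothRegular
import Groth.Agent.Lib.Helper56.FlatSk
import Groth.Agent.Lib.Helper56.FiberLoc
import Groth.Agent.Lib.Helper56.FlatRk
import Groth.Agent.Lib.Helper77.FlatDepth3
import Groth.Agent.Lib.Helper77.RegularCM

set_option autoImplicit false
universe u
open CategoryTheory CategoryTheory.Limits AlgebraicGeometry TopologicalSpace
open Unram17

namespace Groth.Agent.S5024

open LocCoh

section Ring

/-- a ring all of whose localizations at primes are regular has `(S_k)` -/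
lemma hasSk_of_regular (F : Type u) [CommRing F] (k : ℕ)
    (h : ∀ (Q : Ideal F) [Q.IsPrime], IsRegularLocalRing (Localization.AtPrime Q)) :
    HasSk k F F := by
  rw [Groth.Agent.Lib.Helper56.hasSk_self_iff]
  intro Q _
  have := h Q
  rw [Groth.Agent.Lib.Helper77.RegularCM.depth_eq_dim]
  exact min_le_right _ _

/-- `(R_k)` for `R_p` gives regularity of `R_{p'}` for `p' ≤ p` of height `≤ k` -/
lemma regular_of_hasRk_localization {R : Type u} [CommRing R] (k : ℕ) (p p' : Ideal R) [p.IsPrime]
    [hp' : p'.IsPrime] (hle : p' ≤ p) (hk : p'.height ≤ k)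
    (h : HasRk k (Localization.AtPrime p)) : IsRegularLocalRing (Localization.AtPrime p') := by
  have hdisj : Disjoint (p.primeCompl : Set R) (p' : Set R) := by
    rw [Set.disjoint_left]
    intro x hx hxp
    exact hx (hle hxp)
  set P' : Ideal (Localization.AtPrime p) := p'.map (algebraMap R (Localization.AtPrime p)) with hP'
  have hP'prime : P'.IsPrime :=
    IsLocalization.isPrime_of_isPrime_disjoint p.primeCompl _ p' hp' hdisj
  have hcomap : P'.comap (algebraMap R (Localization.AtPrime p)) = p' :=
    IsLocalization.comap_map_of_isPrime_disjoint p.primeCompl _ hp' hdisj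
  have hht : P'.height = p'.height :=
    IsLocalization.height_map_of_disjoint p.primeCompl p' hdisj
  have h1 : IsRegularLocalRing (Localization.AtPrime P') := h P' (by rw [hht]; exact hk)
  let e := (IsLocalization.localizationLocalizationAtPrimeIsoLocalization p.primeCompl
    P').toRingEquiv
  have h2 : IsRegularLocalRing
      (Localization.AtPrime (P'.comap (algebraMap R (Localization.AtPrime p)))) :=
    IsRegularLocalRing.of_ringEquiv e.symm
  exact Groth.Agent.Lib.Helper30.SmoothRegular.regular_congr hcomap h2

variable (R S : Type u) [CommRing R] [CommRing S] [IsNoetherianRing R] [Algebra R S]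
  [Algebra.Smooth R S]

include R in
lemma isNoetherianRing_of_smooth : IsNoetherianRing S :=
  Algebra.FiniteType.isNoetherianRing R S

omit [IsNoetherianRing R] in
lemma hasSk_fiber (k : ℕ) (p : Ideal R) [p.IsPrime] : HasSk k (p.Fiber S) (p.Fiber S) := by
  apply hasSk_of_regular
  intro Q _
  exact Groth.Agent.Lib.Helper30.SmoothRegular.regular_of_smooth p.ResidueField (p.Fiber S) Q
    inferInstance

variable (q : Ideal S) [q.IsPrime]

lemma hasSk_iff (k : ℕ) :
    HasSk k (Localization.AtPrime q) (Localization.AtPrime q) ↔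
      HasSk k (Localization.AtPrime (q.comap (algebraMap R S)))
        (Localization.AtPrime (q.comap (algebraMap R S))) := by
  have hNS := isNoetherianRing_of_smooth R S
  constructor
  · intro h
    have : q.LiesOver (q.comap (algebraMap R S)) := ⟨rfl⟩
    let _ := Localization.AtPrime.algebraOfLiesOver (q.comap (algebraMap R S)) q
    have hloc : IsLocalHom (algebraMap (Localization.AtPrime (q.comap (algebraMap R S)))
        (Localization.AtPrime q)) :=
      Localization.isLocalHom_localRingHom (q.comap (algebraMap R S)) q (algebraMap R S) rfl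
    have hNA : IsNoetherianRing (Localization.AtPrime (q.comap (algebraMap R S))) :=
      IsLocalization.isNoetherianRing (q.comap (algebraMap R S)).primeCompl _ inferInstance
    have hNB : IsNoetherianRing (Localization.AtPrime q) :=
      IsLocalization.isNoetherianRing q.primeCompl _ inferInstance
    have hflat : Module.Flat (Localization.AtPrime (q.comap (algebraMap R S)))
        (Localization.AtPrime q) := inferInstance
    have hff : Module.FaithfullyFlat (Localization.AtPrime (q.comap (algebraMap R S)))
        (Localization.AtPrime q) := Module.FaithfullyFlat.of_flat_of_isLocalHom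
    exact Groth.Agent.Lib.Helper77.FlatDepth.hasSk_descent _ _ k h
  · intro h
    exact Groth.Agent.Lib.Helper56.hasSk_atPrime_of_flat_of_fibres R S k
      (fun q' _ => Groth.Agent.Lib.Helper56.hasSk_fibLocRing_of_fiber R S k q'
        (hasSk_fiber R S k _)) q h

lemma hasRk_iff (k : ℕ) :
    HasRk k (Localization.AtPrime q) ↔
      HasRk k (Localization.AtPrime (q.comap (algebraMap R S))) := by
  have hNS := isNoetherianRing_of_smooth R S
  constructor
  · intro h
    have : q.LiesOver (q.comap (algebraMap R S)) := ⟨rfl⟩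
    let _ := Localization.AtPrime.algebraOfLiesOver (q.comap (algebraMap R S)) q
    have hloc : IsLocalHom (algebraMap (Localization.AtPrime (q.comap (algebraMap R S)))
        (Localization.AtPrime q)) :=
      Localization.isLocalHom_localRingHom (q.comap (algebraMap R S)) q (algebraMap R S) rfl
    have hNA : IsNoetherianRing (Localization.AtPrime (q.comap (algebraMap R S))) :=
      IsLocalization.isNoetherianRing (q.comap (algebraMap R S)).primeCompl _ inferInstance
    have hNB : IsNoetherianRing (Localization.AtPrime q) :=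
      IsLocalization.isNoetherianRing q.primeCompl _ inferInstance
    have hflat : Module.Flat (Localization.AtPrime (q.comap (algebraMap R S)))
        (Localization.AtPrime q) := inferInstance
    have hff : Module.FaithfullyFlat (Localization.AtPrime (q.comap (algebraMap R S)))
        (Localization.AtPrime q) := Module.FaithfullyFlat.of_flat_of_isLocalHom
    exact Groth.Agent.Lib.Helper56.hasRk_of_faithfullyFlat k _ _ h
  · intro h Q' hQ' hQ'k
    set q' : Ideal S := Q'.comap (algebraMap S (Localization.AtPrime q)) with hq'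
    have hq'prime : q'.IsPrime := Ideal.comap_isPrime _ _
    let e := (IsLocalization.localizationLocalizationAtPrimeIsoLocalization q.primeCompl
      Q').toRingEquiv
    have hq'le : q' ≤ q := by
      have h1 : Q' ≤ IsLocalRing.maximalIdeal (Localization.AtPrime q) :=
        IsLocalRing.le_maximalIdeal hQ'.ne_top
      have h2 := Ideal.comap_mono (f := algebraMap S (Localization.AtPrime q)) h1
      have h3 := IsLocalization.AtPrime.under_maximalIdeal (Localization.AtPrime q) q
      rw [Ideal.under_def] at h3
      rwa [h3] at h2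
    have hq'ht : q'.height = Q'.height := by
      have := IsLocalization.height_under q.primeCompl Q'
      rwa [Ideal.under_def] at this
    have hple : q'.comap (algebraMap R S) ≤ q.comap (algebraMap R S) := Ideal.comap_mono hq'le
    have hpht : (q'.comap (algebraMap R S)).height ≤ k := by
      have : q'.LiesOver (q'.comap (algebraMap R S)) := ⟨rfl⟩
      have := Ideal.height_eq_height_add_of_liesOver_of_hasGoingDown
        (q'.comap (algebraMap R S)) q'
      calc (q'.comap (algebraMap R S)).height ≤ q'.height := by rw [this]; exact le_self_add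
        _ = Q'.height := hq'ht
        _ ≤ k := hQ'k
    have h1 : IsRegularLocalRing (Localization.AtPrime (q'.comap (algebraMap R S))) :=
      regular_of_hasRk_localization k _ _ hple hpht h
    have h2 : IsRegularLocalRing (Localization.AtPrime q') :=
      Groth.Agent.Lib.Helper30.SmoothRegular.regular_of_smooth R S q' h1
    exact IsRegularLocalRing.of_ringEquiv e

end Ring

section Scheme

/-- the stalk at a point of an affine open is the localization at the corresponding prime -/
noncomputable def stalkEquiv {X : Scheme.{u}} {U : X.Opens} (hU : IsAffineOpen U) (x : X)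
    (hx : x ∈ U) :
    Localization.AtPrime (hU.primeIdealOf ⟨x, hx⟩).asIdeal ≃+* X.presheaf.stalk x := by
  let _ : Algebra Γ(X, U) (X.presheaf.stalk x) :=
    TopCat.Presheaf.algebra_section_stalk X.presheaf (⟨x, hx⟩ : U)
  have hloc : IsLocalization.AtPrime (X.presheaf.stalk x) (hU.primeIdealOf ⟨x, hx⟩).asIdeal :=
    hU.isLocalization_stalk ⟨x, hx⟩
  exact (IsLocalization.algEquiv (hU.primeIdealOf ⟨x, hx⟩).asIdeal.primeCompl _ _).toRingEquiv

lemma smooth_case {X Y : Scheme.{u}} (f : X ⟶ Y) [IsLocallyNoetherian Y] [Smooth f] (x : X)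
    (n : ℕ) :
    (LocCoh.HasSk n ↑(X.presheaf.stalk x) ↑(X.presheaf.stalk x) ↔
        LocCoh.HasSk n ↑(Y.presheaf.stalk (f.base x)) ↑(Y.presheaf.stalk (f.base x))) ∧
      (LocCoh.HasRk n ↑(X.presheaf.stalk x) ↔ LocCoh.HasRk n ↑(Y.presheaf.stalk (f.base x))) := by
  obtain ⟨_, ⟨U, hU : IsAffineOpen U, rfl⟩, hfxU, -⟩ :=
    Y.isBasis_affineOpens.exists_subset_of_mem_open (Set.mem_univ (f.base x)) isOpen_univ
  obtain ⟨_, ⟨V, hV : IsAffineOpen V, rfl⟩, hxV, hVU⟩ :=
    X.isBasis_affineOpens.exists_subset_of_mem_open (show x ∈ (f ⁻¹ᵁ U : Set X) from hfxU)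
      (f ⁻¹ᵁ U).isOpen
  have e : V ≤ f ⁻¹ᵁ U := hVU
  have hsm : (f.appLE U V e).hom.Smooth := f.smooth_appLE hU hV e
  let _ := (f.appLE U V e).hom.toAlgebra
  have hsm' : Algebra.Smooth Γ(Y, U) Γ(X, V) := hsm
  have hNoeth : IsNoetherianRing Γ(Y, U) := IsLocallyNoetherian.component_noetherian ⟨U, hU⟩
  have hS := hasSk_iff Γ(Y, U) Γ(X, V) (hV.primeIdealOf ⟨x, hxV⟩).asIdeal n
  have hR := hasRk_iff Γ(Y, U) Γ(X, V) (hV.primeIdealOf ⟨x, hxV⟩).asIdeal n
  have hcomap := IsAffineOpen.comap_primeIdealOf_appLE U hU V hV e hxV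
  have key : ∀ (P : PrimeSpectrum Γ(Y, U)),
      P = (hV.primeIdealOf ⟨x, hxV⟩).comap (f.appLE U V e).hom →
      ((HasSk n (Localization.AtPrime (hV.primeIdealOf ⟨x, hxV⟩).asIdeal)
          (Localization.AtPrime (hV.primeIdealOf ⟨x, hxV⟩).asIdeal) ↔
        HasSk n (Localization.AtPrime P.asIdeal) (Localization.AtPrime P.asIdeal)) ∧
      (HasRk n (Localization.AtPrime (hV.primeIdealOf ⟨x, hxV⟩).asIdeal) ↔
        HasRk n (Localization.AtPrime P.asIdeal))) := by
    intro P hP
    subst hP
    exact ⟨hS, hR⟩
  obtain ⟨k1, k2⟩ := key _ hcomap.symm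
  let eX := stalkEquiv hV x hxV
  let eY := stalkEquiv hU (f.base x) hfxU
  constructor
  · constructor
    · intro h
      exact Groth.Agent.Lib.Helper56.hasSk_self_of_ringEquiv eY n
        (k1.1 (Groth.Agent.Lib.Helper56.hasSk_self_of_ringEquiv eX.symm n h))
    · intro h
      exact Groth.Agent.Lib.Helper56.hasSk_self_of_ringEquiv eX n
        (k1.2 (Groth.Agent.Lib.Helper56.hasSk_self_of_ringEquiv eY.symm n h))
  · constructor
    · intro h
      exact Groth.Agent.Lib.Helper56.hasRk_of_ringEquiv eY n
        (k2.1 (Groth.Agent.Lib.Helper56.hasRk_of_ringEquiv eX.symm n h))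
    · intro h
      exact Groth.Agent.Lib.Helper56.hasRk_of_ringEquiv eX n
        (k2.2 (Groth.Agent.Lib.Helper56.hasRk_of_ringEquiv eY.symm n h))

end Scheme

/-- Let Y be locally Noetherian and f : X ⟶ Y locally of finite type, smooth on an open neighbourhood of
a point x with image y. Then for every n the local ring of X at x has Serre's property (S_n),
respectively (R_n), if and only if the local ring of Y at y has it. -/
theorem result {X Y : Scheme.{u}} (f : X ⟶ Y)
    [IsLocallyNoetherian Y] [LocallyOfFiniteType f] (x : ↥X)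
    (hx : ∃ U : X.Opens, x ∈ U ∧ Smooth (U.ι ≫ f)) (n : ℕ) :
    (LocCoh.HasSk n ↑(X.presheaf.stalk x) ↑(X.presheaf.stalk x) ↔
        LocCoh.HasSk n ↑(Y.presheaf.stalk (f.base x)) ↑(Y.presheaf.stalk (f.base x))) ∧
      (LocCoh.HasRk n ↑(X.presheaf.stalk x) ↔ LocCoh.HasRk n ↑(Y.presheaf.stalk (f.base x))) := by
  obtain ⟨U, hxU, hsm⟩ := hx
  obtain ⟨h1, h2⟩ := smooth_case (U.ι ≫ f) (⟨x, hxU⟩ : U.toScheme) n
  have e : (U.toScheme.presheaf.stalk ⟨x, hxU⟩ : Type u) ≃+* (X.presheaf.stalk x : Type u) :=
    (U.stalkIso ⟨x, hxU⟩).commRingCatIsoToRingEquiv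
  constructor
  · constructor
    · intro h
      exact h1.1 (Groth.Agent.Lib.Helper56.hasSk_self_of_ringEquiv e.symm n h)
    · intro h
      exact Groth.Agent.Lib.Helper56.hasSk_self_of_ringEquiv e n (h1.2 h)
  · constructor
    · intro h
      exact h2.1 (Groth.Agent.Lib.Helper56.hasRk_of_ringEquiv e.symm n h)
    · intro h
      exact Groth.Agent.Lib.Helper56.hasRk_of_ringEquiv e n (h2.2 h)

end Groth.Agent.S5024
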