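import Groth.Statements.S5025
import Mathlib
import Groth.Agent.Lib.Helper67.FiberStalk2
import Groth.Agent.Lib.Helper30.SmoothRegular
import Groth.Agent.Lib.Helper77.RegularCM
import Groth.Agent.Lib.Helper56.FiberLoc

set_option autoImplicit false
universe u
open CategoryTheory CategoryTheory.Limits AlgebraicGeometry TopologicalSpace
open Unram17

namespace Groth.Agent.S5025

/-- the fibre local ring of a smooth morphism is regular -/
lemma fiberStalk_regular {X Y : Scheme.{u}} (f : X ⟶ Y) [Smooth f] (x : X) :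
    IsRegularLocalRing (CInt.fiberStalk f x) := by
  have hsm : Smooth (f.fiberToSpecResidueField (f.base x)) := by
    unfold Scheme.Hom.fiberToSpecResidueField
    exact MorphismProperty.pullback_snd (P := @Smooth) f _ inferInstance
  exact Groth.Agent.Lib.Helper30.SmoothRegular.stalk_regular_of_smooth_field
    (Y.residueField (f.base x)) (f.fiberToSpecResidueField (f.base x)) (f.asFiber x)

lemma smooth_case {X Y : Scheme.{u}} (f : X ⟶ Y) [IsLocallyNoetherian Y] [Smooth f] (x : X) :
    ringKrullDim ↑(X.presheaf.stalk x) +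
        ((LocCoh.depth ↑(Y.presheaf.stalk (f.base x)) ↑(Y.presheaf.stalk (f.base x)) : ℕ∞) : WithBot ℕ∞) =
      ringKrullDim ↑(Y.presheaf.stalk (f.base x)) +
        ((LocCoh.depth ↑(X.presheaf.stalk x) ↑(X.presheaf.stalk x) : ℕ∞) : WithBot ℕ∞) := by
  have : IsLocallyNoetherian X := LocallyOfFiniteType.isLocallyNoetherian f
  have hfl := Flat.stalkMap f x
  have h1 := Groth.Agent.Lib.Helper67.FiberStalk.depth_stalk_eq_add f x hfl
  have h2 := Groth.Agent.Lib.Helper67.FiberStalk.ringKrullDim_stalk_eq_add f x hfl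
  have hreg := fiberStalk_regular f x
  have h3 := Groth.Agent.Lib.Helper77.RegularCM.depth_eq_dim (CInt.fiberStalk f x)
  rw [h2, h1, WithBot.coe_add, h3]
  abel

/-- Let Y be locally Noetherian and f : X ⟶ Y locally of finite type, smooth on an open neighbourhood of
a point x with image y. Then the local rings of X at x and of Y at y have the same codepth (Krull
dimension minus depth); written without subtraction: dim O_{X,x} + depth O_{Y,y} = dim O_{Y,y} +
depth O_{X,x}. -/
theorem result {X Y : Scheme.{u}} (f : X ⟶ Y)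
    [IsLocallyNoetherian Y] [LocallyOfFiniteType f] (x : ↥X)
    (hx : ∃ U : X.Opens, x ∈ U ∧ Smooth (U.ι ≫ f)) :
    ringKrullDim ↑(X.presheaf.stalk x) +
        ((LocCoh.depth ↑(Y.presheaf.stalk (f.base x)) ↑(Y.presheaf.stalk (f.base x)) : ℕ∞) : WithBot ℕ∞) =
      ringKrullDim ↑(Y.presheaf.stalk (f.base x)) +
        ((LocCoh.depth ↑(X.presheaf.stalk x) ↑(X.presheaf.stalk x) : ℕ∞) : WithBot ℕ∞) := by
  obtain ⟨U, hxU, hsm⟩ := hx
  have h1 := smooth_case (U.ι ≫ f) (⟨x, hxU⟩ : U.toScheme)
  have e : (U.toScheme.presheaf.stalk ⟨x, hxU⟩ : Type u) ≃+* (X.presheaf.stalk x : Type u) :=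
    (U.stalkIso ⟨x, hxU⟩).commRingCatIsoToRingEquiv
  rw [← ringKrullDim_eq_of_ringEquiv e, ← Groth.Agent.Lib.Helper56.depth_self_of_ringEquiv e]
  exact h1

end Groth.Agent.S5025
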