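import Groth.Statements.S5027
import Mathlib
import Groth.Agent.S2141
import Groth.Agent.S2451
import Groth.Agent.Lib.Helper97.CartierH1
-- import your own Groth.Agent.* helpers here

set_option autoImplicit false
universe u
open Unram17

namespace Groth.Agent.S5027
open IsLocalRing

/-- For an essentially finite type field extension, `trdeg ≤ dim Ω`. -/
theorem trdeg_le_finrank_kaehler (k K : Type u) [Field k] [Field K] [Algebra k K]
    [Algebra.EssFiniteType k K] :
    Cardinal.toNat (Algebra.trdeg k K) ≤ Module.finrank K Ω[K⁄k] := by
  obtain ⟨h1, h2, h3⟩ := Groth.Agent.Lib.Helper97.CartierH1.cartier (K := k) (L := K)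
  omega

/-- For an essentially finite type field extension: formally smooth iff `dim Ω ≤ trdeg`. -/
theorem formallySmooth_iff_finrank_le (k K : Type u) [Field k] [Field K] [Algebra k K]
    [Algebra.EssFiniteType k K] :
    Algebra.FormallySmooth k K ↔
      Module.finrank K Ω[K⁄k] ≤ Cardinal.toNat (Algebra.trdeg k K) := by
  obtain ⟨h1, h2, h3⟩ := Groth.Agent.Lib.Helper97.CartierH1.cartier (K := k) (L := K)
  rw [Algebra.formallySmooth_iff]
  constructor
  · rintro ⟨-, hs⟩
    have : Module.finrank K (Algebra.H1Cotangent k K) = 0 := Module.finrank_zero_of_subsingleton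
    omega
  · intro h
    have h0 : Module.finrank K (Algebra.H1Cotangent k K) = 0 := by omega
    exact ⟨inferInstance, Module.finrank_zero_iff.mp h0⟩


theorem ncard_lt_le (n r : ℕ) : ({i : Fin n | (i : ℕ) < r}).ncard ≤ r := by
  have h1 : (Fin.val '' {i : Fin n | (i : ℕ) < r}).ncard = ({i : Fin n | (i : ℕ) < r}).ncard :=
    Set.ncard_image_of_injective _ Fin.val_injective
  have h2 : Fin.val '' {i : Fin n | (i : ℕ) < r} ⊆ ((Finset.range r : Finset ℕ) : Set ℕ) := by
    rintro _ ⟨i, hi, rfl⟩
    simpa using hi
  have h3 := Set.ncard_le_ncard h2 (Finset.finite_toSet _)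
  rw [Set.ncard_coe_finset, Finset.card_range] at h3
  omega

theorem ncard_ge_le (n r : ℕ) : ({i : Fin n | r ≤ (i : ℕ)}).ncard ≤ n - r := by
  have h1 : (Fin.val '' {i : Fin n | r ≤ (i : ℕ)}).ncard = ({i : Fin n | r ≤ (i : ℕ)}).ncard :=
    Set.ncard_image_of_injective _ Fin.val_injective
  have h2 : Fin.val '' {i : Fin n | r ≤ (i : ℕ)} ⊆ ((Finset.Ico r n : Finset ℕ) : Set ℕ) := by
    rintro _ ⟨i, hi, rfl⟩
    simp only [Finset.coe_Ico, Set.mem_Ico]
    exact ⟨hi, i.2⟩
  have h3 := Set.ncard_le_ncard h2 (Finset.finite_toSet _)
  rw [Set.ncard_coe_finset, Nat.card_Ico] at h3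
  omega


/-- Let A be an algebra of finite type over a field k, p a prime of A such that Spec A has local
dimension n at p, and r the Krull dimension of the local ring A_p. Then A_p is regular and the
residue field κ(p) is a separable extension of k (geometrically reduced over k) if and only if there
exist n elements of the local ring A_p (germs at p in place of sections over an open neighbourhood
of p, which is equivalent) of which those with index < r generate the maximal ideal and the residue
classes of the remaining ones have differentials generating the module of differentials of κ(p) over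
k. -/
theorem result (k A : Type u) [Field k]
    [CommRing A] [Algebra k A] [Algebra.FiniteType k A] (n r : ℕ) (p : Ideal A) [p.IsPrime]
    (hn : FlatMor.localDim (PrimeSpectrum A) ⟨p, inferInstance⟩ = (n : WithBot ℕ∞))
    (hr : ringKrullDim (Localization.AtPrime p) = (r : WithBot ℕ∞)) :
    (IsRegularLocalRing (Localization.AtPrime p) ∧ Algebra.IsGeometricallyReduced k p.ResidueField) ↔
      ∃ g : Fin n → Localization.AtPrime p,
        Ideal.span (g '' {i : Fin n | (i : ℕ) < r}) = IsLocalRing.maximalIdeal (Localization.AtPrime p) ∧
          Submodule.span p.ResidueField ((fun i : Fin n =>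
            KaehlerDifferential.D k p.ResidueField (IsLocalRing.residue (Localization.AtPrime p) (g i))) ''
              {i : Fin n | r ≤ (i : ℕ)}) = ⊤ := by
  classical
  have hNA : IsNoetherianRing A := Algebra.FiniteType.isNoetherianRing k A
  have hNB : IsNoetherianRing (Localization.AtPrime p) :=
    IsLocalization.isNoetherianRing p.primeCompl _ inferInstance
  have hE1 : Algebra.EssFiniteType A (Localization.AtPrime p) :=
    Algebra.EssFiniteType.of_isLocalization _ p.primeCompl
  have hE2 : Algebra.EssFiniteType k (Localization.AtPrime p) :=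
    Algebra.EssFiniteType.comp k A (Localization.AtPrime p)
  have hE3 : Algebra.EssFiniteType (Localization.AtPrime p) p.ResidueField :=
    Algebra.EssFiniteType.of_surjective (Algebra.ofId (Localization.AtPrime p) p.ResidueField)
      IsLocalRing.residue_surjective
  have hE : Algebra.EssFiniteType k p.ResidueField :=
    Algebra.EssFiniteType.comp k (Localization.AtPrime p) p.ResidueField
  obtain ⟨t, ht⟩ : ∃ t : ℕ, Algebra.trdeg k p.ResidueField = t :=
    Cardinal.lt_aleph0.mp (trdeg_lt_aleph0 k p.ResidueField)
  have hnt : n = r + t := by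
    have h := Groth.Agent.S2141.result (k := k) p t ht
    rw [hn, hr] at h
    exact_mod_cast h
  have htn : Cardinal.toNat (Algebra.trdeg k p.ResidueField) = t := by rw [ht]; simp
  have hle := trdeg_le_finrank_kaehler k p.ResidueField
  have hiff := formallySmooth_iff_finrank_le k p.ResidueField
  rw [htn] at hle hiff
  have hfinΩ : Module.Finite p.ResidueField Ω[p.ResidueField⁄k] :=
    (Groth.Agent.Lib.Helper97.CartierH1.cartier (K := k) (L := p.ResidueField)).1
  constructor
  · rintro ⟨hreg, hgr⟩
    have hfs : Algebra.FormallySmooth k p.ResidueField := Groth.Agent.S2451.result.mpr hgr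
    have hfr : Module.finrank p.ResidueField Ω[p.ResidueField⁄k] = t :=
      le_antisymm (hiff.mp hfs) hle
    -- generators of the maximal ideal
    have hspan : (maximalIdeal (Localization.AtPrime p)).spanFinrank = r := by
      have := hreg.spanFinrank_maximalIdeal
      rw [hr] at this
      exact_mod_cast this
    obtain ⟨S, hScard, hSspan⟩ := Submodule.FG.exists_span_finset_card_eq_spanFinrank
      (p := maximalIdeal (Localization.AtPrime p)) (IsNoetherian.noetherian _)
    rw [hspan] at hScard
    let eS := (Finset.equivFinOfCardEq hScard).symm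
    -- differentials
    have hD : Submodule.span p.ResidueField
        (Set.range (KaehlerDifferential.D k p.ResidueField)) = ⊤ :=
      KaehlerDifferential.span_range_derivation k p.ResidueField
    have : Module.Finite p.ResidueField (Submodule.span p.ResidueField
        (Set.range (KaehlerDifferential.D k p.ResidueField))) := by
      rw [hD]; infer_instance
    obtain ⟨T, hTsub, hTcard, hTspan, -⟩ := Submodule.exists_finset_span_eq_linearIndepOn p.ResidueField
      (Set.range (KaehlerDifferential.D k p.ResidueField))
    rw [hD, finrank_top, hfr] at hTcard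
    rw [hD] at hTspan
    let eT := (Finset.equivFinOfCardEq hTcard).symm
    have hc : ∀ j : Fin t, ∃ b : Localization.AtPrime p,
        KaehlerDifferential.D k p.ResidueField (IsLocalRing.residue (Localization.AtPrime p) b) =
          (eT j).1 := by
      intro j
      obtain ⟨c, hc⟩ := hTsub (eT j).2
      obtain ⟨b, rfl⟩ := IsLocalRing.residue_surjective c
      exact ⟨b, hc⟩
    choose b hb using hc
    refine ⟨fun i => if h : (i : ℕ) < r then (eS ⟨i, h⟩).1 else b ⟨i - r, by omega⟩, ?_, ?_⟩
    · have himg : (fun i : Fin n => if h : (i : ℕ) < r then (eS ⟨i, h⟩).1 else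
          b ⟨i - r, by omega⟩) '' {i : Fin n | (i : ℕ) < r} = (S : Set (Localization.AtPrime p)) := by
        ext y
        constructor
        · rintro ⟨i, hi, rfl⟩
          simp only [Set.mem_ofPred_eq] at hi
          simp only [hi, dif_pos]
          exact (eS ⟨i, hi⟩).2
        · intro hy
          obtain ⟨j, hj⟩ := eS.surjective ⟨y, hy⟩
          refine ⟨⟨j, by omega⟩, j.2, ?_⟩
          simp only [j.2, dif_pos]
          exact congrArg Subtype.val hj
      rw [himg]
      exact hSspan
    · rw [eq_top_iff, ← hTspan]
      apply Submodule.span_mono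
      intro ω hω
      obtain ⟨j, hj⟩ := eT.surjective ⟨ω, hω⟩
      refine ⟨⟨r + j, by omega⟩, by simp, ?_⟩
      have hnot : ¬ (r + (j : ℕ) < r) := by omega
      simp only [hnot, dif_neg, not_false_eq_true]
      have : (⟨r + (j : ℕ) - r, by omega⟩ : Fin t) = j := Fin.ext (by simp)
      rw [this, hb j, hj]
  · rintro ⟨g, hg1, hg2⟩
    have hfin1 : (g '' {i : Fin n | (i : ℕ) < r}).Finite := Set.toFinite _
    have hreg : IsRegularLocalRing (Localization.AtPrime p) := by
      apply IsRegularLocalRing.of_spanFinrank_maximalIdeal_le
      rw [hr, ← hg1]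
      have h1 := Submodule.spanFinrank_span_le_ncard_of_finite
        (R := Localization.AtPrime p) hfin1
      have h2 : (g '' {i : Fin n | (i : ℕ) < r}).ncard ≤ r :=
        (Set.ncard_image_le (Set.toFinite _)).trans (ncard_lt_le n r)
      exact_mod_cast h1.trans h2
    refine ⟨hreg, Groth.Agent.S2451.result.mp (hiff.mpr ?_)⟩
    have h3 : Module.finrank p.ResidueField Ω[p.ResidueField⁄k] =
        Module.finrank p.ResidueField (Submodule.span p.ResidueField ((fun i : Fin n =>
            KaehlerDifferential.D k p.ResidueField (IsLocalRing.residue (Localization.AtPrime p) (g i))) ''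
              {i : Fin n | r ≤ (i : ℕ)})) := by
      rw [hg2, finrank_top]
    rw [h3]
    have hfin2 : ((fun i : Fin n =>
            KaehlerDifferential.D k p.ResidueField (IsLocalRing.residue (Localization.AtPrime p) (g i))) ''
              {i : Fin n | r ≤ (i : ℕ)}).Finite := Set.toFinite _
    have h4 := finrank_span_le_card (R := p.ResidueField) ((fun i : Fin n =>
            KaehlerDifferential.D k p.ResidueField (IsLocalRing.residue (Localization.AtPrime p) (g i))) ''
              {i : Fin n | r ≤ (i : ℕ)})
    rw [← Set.ncard_eq_toFinset_card'] at h4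
    refine h4.trans ((Set.ncard_image_le (Set.toFinite _)).trans ?_)
    have := ncard_ge_le n r
    omega


end Groth.Agent.S5027
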