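import Groth.Statements.S5026
import Mathlib
import Groth.Agent.S2141
import Groth.Agent.S2451
import Groth.Agent.S5027
import Groth.Agent.Lib.Helper77.EtDiff5
import Groth.Agent.Lib.Helper65.RegularSmooth
-- import your own Groth.Agent.* helpers here

set_option autoImplicit false
universe u
open Unram17

namespace Groth.Agent.S5026
open IsLocalRing TensorProduct KaehlerDifferential

section Core

variable (k B : Type u) [Field k] [CommRing B] [Algebra k B] [IsLocalRing B]

/-- Nakayama: a set spans a finite module over a local ring iff its image spans the fibre. -/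
theorem span_eq_top_iff_tmul {M : Type*} [AddCommGroup M] [Module B M] [Module.Finite B M]
    (S : Set M) :
    Submodule.span B S = ⊤ ↔
      Submodule.span (ResidueField B) ((TensorProduct.mk B (ResidueField B) M 1) '' S) = ⊤ := by
  rw [← IsLocalRing.map_tensorProduct_mk_eq_top, Submodule.map_span,
    ← Submodule.restrictScalars_span B (ResidueField B) Ideal.Quotient.mk_surjective,
    Submodule.restrictScalars_eq_top_iff]

variable {ι : Type} (G : ι → B) (s : Set ι)

/-- The kernel of `κ ⊗ Ω_B → Ω_κ` consists of the `1 ⊗ dx`, `x ∈ m`. -/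
theorem exists_of_mem_ker (v : ResidueField B ⊗[B] Ω[B⁄k])
    (hv : v ∈ LinearMap.ker (mapBaseChange k B (ResidueField B))) :
    ∃ x : RingHom.ker (algebraMap B (ResidueField B)), kerToTensor k B (ResidueField B) x = v := by
  have hex := exact_kerCotangentToTensor_mapBaseChange k B (ResidueField B)
    (residue_surjective (R := B))
  obtain ⟨c, hc⟩ := (hex v).mp hv
  obtain ⟨x, rfl⟩ := Ideal.toCotangent_surjective _ c
  exact ⟨x, hc⟩

theorem mapBaseChange_one_tmul_D (b : B) :
    mapBaseChange k B (ResidueField B) ((1 : ResidueField B) ⊗ₜ[B] D k B b) =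
      D k (ResidueField B) (residue B b) := by
  rw [mapBaseChange_tmul, one_smul, map_D]
  rfl


theorem smul_one_tmul (b : B) (ω : Ω[B⁄k]) :
    (1 : ResidueField B) ⊗ₜ[B] (b • ω) = residue B b • ((1 : ResidueField B) ⊗ₜ[B] ω) := by
  rw [TensorProduct.smul_tmul', ← TensorProduct.smul_tmul, smul_eq_mul, mul_one, Algebra.smul_def,
    mul_one]
  rfl

/-- (⇐) adapted coordinates have differentials spanning `Ω_B`. -/
theorem span_D_eq_top_of_adapted [IsNoetherianRing B] [Module.Finite B Ω[B⁄k]]
    (h1 : Ideal.span (G '' s) = maximalIdeal B)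
    (h2 : Submodule.span (ResidueField B)
      ((fun i => D k (ResidueField B) (residue B (G i))) '' sᶜ) = ⊤) :
    Submodule.span B (Set.range fun i => D k B (G i)) = ⊤ := by
  rw [span_eq_top_iff_tmul]
  set N' := Submodule.span (ResidueField B) ((TensorProduct.mk B (ResidueField B) Ω[B⁄k] 1) ''
    (Set.range fun i => D k B (G i))) with hN'
  have hmem : ∀ i, (1 : ResidueField B) ⊗ₜ[B] D k B (G i) ∈ N' := fun i =>
    Submodule.subset_span ⟨D k B (G i), ⟨i, rfl⟩, rfl⟩
  have hker : LinearMap.ker (mapBaseChange k B (ResidueField B)) ≤ N' := by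
    intro v hv
    obtain ⟨⟨x, hx⟩, rfl⟩ := exists_of_mem_ker k B v hv
    have hxm : x ∈ Ideal.span (G '' s) := by
      rw [h1, ← IsLocalRing.ker_residue]
      exact hx
    rw [kerToTensor_apply]
    have key : ∀ y ∈ Ideal.span (G '' s), (1 : ResidueField B) ⊗ₜ[B] D k B y ∈ N' := by
      intro y hy
      induction hy using Submodule.span_induction with
      | mem y hy =>
        obtain ⟨i, -, rfl⟩ := hy
        exact hmem i
      | zero => simp
      | add y z _ _ hy hz =>
        rw [map_add, tmul_add]
        exact add_mem hy hz
      | smul b y hy' hy =>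
        rw [smul_eq_mul, Derivation.leibniz, tmul_add]
        refine add_mem ?_ ?_
        · rw [smul_one_tmul]
          exact Submodule.smul_mem _ _ hy
        · have hy0 : residue B y = 0 := by
            rw [residue_eq_zero_iff, ← h1]
            exact hy'
          rw [smul_one_tmul, hy0, zero_smul]
          exact zero_mem _
    exact key x hxm
  have himg : Submodule.map (mapBaseChange k B (ResidueField B)) N' = ⊤ := by
    rw [eq_top_iff, ← h2, Submodule.span_le]
    rintro _ ⟨i, -, rfl⟩
    exact ⟨_, hmem i, mapBaseChange_one_tmul_D k B (G i)⟩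
  rw [eq_top_iff]
  intro v _
  have hv : mapBaseChange k B (ResidueField B) v ∈
      Submodule.map (mapBaseChange k B (ResidueField B)) N' := by
    rw [himg]; trivial
  obtain ⟨w, hw, hwv⟩ := hv
  have h3 : v - w ∈ N' := hker (by rw [LinearMap.mem_ker, map_sub, hwv, sub_self])
  have h4 := add_mem h3 hw
  rwa [sub_add_cancel] at h4


/-- (⇒)(2): the differentials of the residue classes of the remaining coordinates span `Ω_κ`. -/
theorem span_residue_of_span_D (hs : ∀ i ∈ s, G i ∈ maximalIdeal B)
    (h : Submodule.span B (Set.range fun i => D k B (G i)) = ⊤) :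
    Submodule.span (ResidueField B)
      ((fun i => D k (ResidueField B) (residue B (G i))) '' sᶜ) = ⊤ := by
  rw [eq_top_iff, ← span_range_derivation k (ResidueField B), Submodule.span_le]
  rintro _ ⟨c, rfl⟩
  obtain ⟨b, rfl⟩ := residue_surjective c
  have hb : D k B b ∈ Submodule.span B (Set.range fun i => D k B (G i)) := by rw [h]; trivial
  have key : ∀ ω ∈ Submodule.span B (Set.range fun i => D k B (G i)),
      KaehlerDifferential.map k k B (ResidueField B) ω ∈ Submodule.span (ResidueField B)
        ((fun i => D k (ResidueField B) (residue B (G i))) '' sᶜ) := by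
    intro ω hω
    induction hω using Submodule.span_induction with
    | mem ω hω =>
      obtain ⟨i, rfl⟩ := hω
      rw [map_D]
      by_cases hi : i ∈ s
      · have h0 : algebraMap B (ResidueField B) (G i) = 0 :=
          (residue_eq_zero_iff _).mpr (hs i hi)
        rw [h0, map_zero]
        exact zero_mem _
      · exact Submodule.subset_span ⟨i, hi, rfl⟩
    | zero => rw [map_zero]; exact zero_mem _
    | add x y _ _ hx hy => rw [map_add]; exact add_mem hx hy
    | smul a x _ hx =>
      rw [map_smul, ← algebraMap_smul (ResidueField B) a]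
      exact Submodule.smul_mem _ _ hx
  have h5 := key _ hb
  rwa [map_D] at h5


/-- (⇒)(1): the first coordinates generate the maximal ideal. -/
theorem span_eq_maximalIdeal_of_span_D [IsNoetherianRing B] [Module.Finite B Ω[B⁄k]]
    [Algebra.FormallySmooth k B] [Module.Free B Ω[B⁄k]]
    [Algebra.FormallySmooth k (ResidueField B)]
    (hs : ∀ i ∈ s, G i ∈ maximalIdeal B)
    (hli : LinearIndependent (ResidueField B)
      (fun j : ↥sᶜ => D k (ResidueField B) (residue B (G j))))
    (h : Submodule.span B (Set.range fun i => D k B (G i)) = ⊤) :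
    Ideal.span (G '' s) = maximalIdeal B := by
  let e : ι → ResidueField B ⊗[B] Ω[B⁄k] := fun i => (1 : ResidueField B) ⊗ₜ[B] D k B (G i)
  have hV : Submodule.span (ResidueField B) (Set.range e) = ⊤ := by
    have h0 := (span_eq_top_iff_tmul B (Set.range fun i => D k B (G i))).mp h
    rw [← Set.range_comp] at h0
    exact h0
  have hdec : Submodule.span (ResidueField B) (e '' s) ⊔
      Submodule.span (ResidueField B) (e '' sᶜ) = ⊤ := by
    rw [← Submodule.span_union, ← Set.image_union, Set.union_compl_self, Set.image_univ, hV]
  have hWs : Submodule.span (ResidueField B) (e '' s) ≤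
      LinearMap.ker (mapBaseChange k B (ResidueField B)) := by
    rw [Submodule.span_le]
    rintro _ ⟨i, hi, rfl⟩
    rw [SetLike.mem_coe, LinearMap.mem_ker, mapBaseChange_one_tmul_D,
      (residue_eq_zero_iff _).mpr (hs i hi), map_zero]
  have hdisj : Disjoint (Submodule.span (ResidueField B) (Set.range (fun j : ↥sᶜ => e j)))
      (LinearMap.ker (mapBaseChange k B (ResidueField B))) := by
    apply Submodule.range_ker_disjoint
    convert hli using 1
    ext j
    exact mapBaseChange_one_tmul_D k B (G j)
  have hrange : Set.range (fun j : ↥sᶜ => e j) = e '' sᶜ := by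
    ext x
    constructor
    · rintro ⟨j, rfl⟩
      exact ⟨j.1, j.2, rfl⟩
    · rintro ⟨i, hi, rfl⟩
      exact ⟨⟨i, hi⟩, rfl⟩
  rw [hrange] at hdisj
  have hker : LinearMap.ker (mapBaseChange k B (ResidueField B)) ≤
      Submodule.span (ResidueField B) (e '' s) := by
    intro v hv
    have hvtop : v ∈ Submodule.span (ResidueField B) (e '' s) ⊔
        Submodule.span (ResidueField B) (e '' sᶜ) := by rw [hdec]; trivial
    obtain ⟨w, hw, w', hw', rfl⟩ := Submodule.mem_sup.mp hvtop
    have hw'k : w' ∈ LinearMap.ker (mapBaseChange k B (ResidueField B)) := by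
      have h0 := Submodule.sub_mem _ hv (hWs hw)
      rwa [add_sub_cancel_left] at h0
    have hw0 : w' = 0 := by
      have h0 := hdisj.le_bot (Submodule.mem_inf.mpr ⟨hw', hw'k⟩)
      simpa using h0
    rw [hw0, add_zero]
    exact hw
  have hinj := (Groth.Agent.Lib.Helper65.RegularSmooth.formallySmooth_residueField_iff_injective
    k B).mp inferInstance
  have hIm : RingHom.ker (algebraMap B (ResidueField B)) = maximalIdeal B :=
    IsLocalRing.ker_residue
  let N : Submodule B ↥(RingHom.ker (algebraMap B (ResidueField B))) :=
    Submodule.comap (Submodule.subtype _) (Ideal.span (G '' s))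
  suffices hN : N = ⊤ by
    apply le_antisymm
    · rw [Ideal.span_le]
      rintro _ ⟨i, hi, rfl⟩
      exact hs i hi
    · intro x hx
      have hxI : x ∈ RingHom.ker (algebraMap B (ResidueField B)) := by rw [hIm]; exact hx
      have h0 : (⟨x, hxI⟩ : ↥(RingHom.ker (algebraMap B (ResidueField B)))) ∈ N := by
        rw [hN]; trivial
      exact h0
  rw [← IsLocalRing.map_tensorProduct_mk_eq_top, eq_top_iff]
  intro z _
  obtain ⟨x, rfl⟩ := Groth.Agent.Lib.Helper65.RegularSmooth.exists_one_tmul_eq z
  have hx1 : kerToTensor k B (ResidueField B) x ∈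
      LinearMap.ker (mapBaseChange k B (ResidueField B)) := by
    rw [LinearMap.mem_ker, kerToTensor_apply, mapBaseChange_one_tmul_D]
    have h0 : residue B x.1 = 0 := RingHom.mem_ker.mp x.2
    rw [h0, map_zero]
  have hx2 := hker hx1
  have hx3 : kerToTensor k B (ResidueField B) x ∈
      Submodule.map (kerToTensor k B (ResidueField B)) N := by
    have h6 : (Submodule.span (ResidueField B) (e '' s)).restrictScalars B =
        Submodule.span B (e '' s) :=
      Submodule.restrictScalars_span B (ResidueField B) residue_surjective (e '' s)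
    have h7 : Submodule.span B (e '' s) ≤
        Submodule.map (kerToTensor k B (ResidueField B)) N := by
      rw [Submodule.span_le]
      rintro _ ⟨i, hi, rfl⟩
      have hGi : G i ∈ RingHom.ker (algebraMap B (ResidueField B)) := by
        rw [hIm]; exact hs i hi
      refine ⟨⟨G i, hGi⟩, ?_, rfl⟩
      exact Ideal.subset_span ⟨i, hi, rfl⟩
    apply h7
    rw [← h6]
    exact hx2
  obtain ⟨y, hyN, hyx⟩ := hx3
  refine ⟨y, hyN, ?_⟩
  apply hinj
  rw [TensorProduct.mk_apply, cotangentComplexBaseChange_tmul, cotangentComplexBaseChange_tmul,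
    one_smul, one_smul]
  exact hyx

end Core


theorem card_compl_le (n r : ℕ) : Fintype.card ↥({i : Fin n | (i : ℕ) < r}ᶜ) ≤ n - r := by
  have hcompl : {i : Fin n | (i : ℕ) < r}ᶜ = {i : Fin n | r ≤ (i : ℕ)} := by
    ext i; simp [not_lt]
  rw [Fintype.card_eq_nat_card, Nat.card_coe_set_eq, hcompl]
  exact Groth.Agent.S5027.ncard_ge_le n r


/-- Let k be a field, A a k-algebra of finite type equipped with a k-algebra map from the polynomial
ring in n variables (images g_i of the variables), p a prime of A such that Spec A has local
dimension n at p, r the Krull dimension of the local ring A_p, and suppose g_i ∈ p for the indices i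
< r. Then A is etale at p over the polynomial ring if and only if the images of the g_i with i < r
generate the maximal ideal of A_p and the differentials of the residue classes of the g_i with i ≥ r
generate the module of differentials of the residue field κ(p) over k. (The published statement adds
that these conditions imply that A is smooth at p over k and that κ(p) is separable over k; this row
does not state that consequence.) -/
theorem result (k A : Type u) [Field k]
    [CommRing A] [Algebra k A] [Algebra.FiniteType k A] (n r : ℕ) [Algebra (MvPolynomial (Fin n) k) A]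
    [IsScalarTower k (MvPolynomial (Fin n) k) A] (p : Ideal A) [p.IsPrime]
    (hn : FlatMor.localDim (PrimeSpectrum A) ⟨p, inferInstance⟩ = (n : WithBot ℕ∞))
    (hr : ringKrullDim (Localization.AtPrime p) = (r : WithBot ℕ∞))
    (hg : ∀ i : Fin n, (i : ℕ) < r → algebraMap (MvPolynomial (Fin n) k) A (MvPolynomial.X i) ∈ p) :
    Algebra.IsEtaleAt (MvPolynomial (Fin n) k) p ↔
      Ideal.span ((fun i : Fin n =>
          algebraMap A (Localization.AtPrime p) (algebraMap (MvPolynomial (Fin n) k) A (MvPolynomial.X i))) ''
            {i : Fin n | (i : ℕ) < r}) = IsLocalRing.maximalIdeal (Localization.AtPrime p) ∧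
        Submodule.span p.ResidueField ((fun i : Fin n =>
          KaehlerDifferential.D k p.ResidueField
            (IsLocalRing.residue (Localization.AtPrime p)
              (algebraMap A (Localization.AtPrime p) (algebraMap (MvPolynomial (Fin n) k) A (MvPolynomial.X i))))) ''
            {i : Fin n | r ≤ (i : ℕ)}) = ⊤ := by
  classical
  have hNA : IsNoetherianRing A := Algebra.FiniteType.isNoetherianRing k A
  have hNB : IsNoetherianRing (Localization.AtPrime p) :=
    IsLocalization.isNoetherianRing p.primeCompl _ inferInstance
  have hE1 : Algebra.EssFiniteType A (Localization.AtPrime p) :=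
    Algebra.EssFiniteType.of_isLocalization _ p.primeCompl
  have hE2 : Algebra.EssFiniteType k (Localization.AtPrime p) :=
    Algebra.EssFiniteType.comp k A (Localization.AtPrime p)
  have hE3 : Algebra.EssFiniteType (Localization.AtPrime p) p.ResidueField :=
    Algebra.EssFiniteType.of_surjective (Algebra.ofId (Localization.AtPrime p) p.ResidueField)
      IsLocalRing.residue_surjective
  have hE : Algebra.EssFiniteType k p.ResidueField :=
    Algebra.EssFiniteType.comp k (Localization.AtPrime p) p.ResidueField
  obtain ⟨t, ht⟩ : ∃ t : ℕ, Algebra.trdeg k p.ResidueField = t :=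
    Cardinal.lt_aleph0.mp (trdeg_lt_aleph0 k p.ResidueField)
  have hnt : n = r + t := by
    have h := Groth.Agent.S2141.result (k := k) p t ht
    rw [hn, hr] at h
    exact_mod_cast h
  have htn : Cardinal.toNat (Algebra.trdeg k p.ResidueField) = t := by rw [ht]; simp
  have hle := Groth.Agent.S5027.trdeg_le_finrank_kaehler k p.ResidueField
  have hiff := Groth.Agent.S5027.formallySmooth_iff_finrank_le k p.ResidueField
  rw [htn] at hle hiff
  have hfinΩB : Module.Finite (Localization.AtPrime p) Ω[Localization.AtPrime p⁄k] := inferInstance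
  have hmain := Groth.Agent.Lib.Helper77.EtDiff.main k A n p hn
  have hs : ∀ i ∈ {i : Fin n | (i : ℕ) < r},
      algebraMap A (Localization.AtPrime p)
        (algebraMap (MvPolynomial (Fin n) k) A (MvPolynomial.X i)) ∈
          maximalIdeal (Localization.AtPrime p) := by
    intro i hi
    exact (IsLocalization.AtPrime.to_map_mem_maximal_iff _ p _).mpr (hg i hi)
  have hcompl : {i : Fin n | r ≤ (i : ℕ)} = {i : Fin n | (i : ℕ) < r}ᶜ := by
    ext i; simp [not_lt]
  rw [hcompl, hmain]
  constructor
  · intro h
    have h2 := span_residue_of_span_D k (Localization.AtPrime p) _ _ hs h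
    refine ⟨?_, h2⟩
    have het : Algebra.FormallyEtale (MvPolynomial (Fin n) k) (Localization.AtPrime p) :=
      hmain.mpr h
    haveI : IsScalarTower k (MvPolynomial (Fin n) k) (Localization.AtPrime p) :=
      IsScalarTower.of_algebraMap_eq fun x => by
        rw [IsScalarTower.algebraMap_apply (MvPolynomial (Fin n) k) A (Localization.AtPrime p),
          ← IsScalarTower.algebraMap_apply k (MvPolynomial (Fin n) k) A,
          ← IsScalarTower.algebraMap_apply k A (Localization.AtPrime p)]
    haveI : Algebra.FormallySmooth k (Localization.AtPrime p) :=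
      Algebra.FormallySmooth.comp k (MvPolynomial (Fin n) k) _
    haveI : Module.Free (Localization.AtPrime p) Ω[Localization.AtPrime p⁄k] :=
      Module.Free.of_equiv (KaehlerDifferential.tensorKaehlerEquivOfFormallyEtale k
        (MvPolynomial (Fin n) k) (Localization.AtPrime p))
    let b : ↥({i : Fin n | (i : ℕ) < r}ᶜ) → Ω[p.ResidueField⁄k] := fun j =>
      D k p.ResidueField (residue (Localization.AtPrime p)
        (algebraMap A (Localization.AtPrime p)
          (algebraMap (MvPolynomial (Fin n) k) A (MvPolynomial.X j.1))))
    have hbr : Set.range b = (fun i : Fin n => D k p.ResidueField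
        (residue (Localization.AtPrime p) (algebraMap A (Localization.AtPrime p)
          (algebraMap (MvPolynomial (Fin n) k) A (MvPolynomial.X i))))) ''
            {i : Fin n | (i : ℕ) < r}ᶜ := by
      ext x
      constructor
      · rintro ⟨j, rfl⟩
        exact ⟨j.1, j.2, rfl⟩
      · rintro ⟨i, hi, rfl⟩
        exact ⟨⟨i, hi⟩, rfl⟩
    have hbspan : Submodule.span p.ResidueField (Set.range b) = ⊤ := by
      rw [hbr]; exact h2
    have hcard := card_compl_le n r
    have hfin_le : Module.finrank p.ResidueField Ω[p.ResidueField⁄k] ≤ t := by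
      have h3 := finrank_range_le_card (R := p.ResidueField) b
      rw [Set.finrank, hbspan, finrank_top] at h3
      omega
    haveI hfs : Algebra.FormallySmooth k p.ResidueField := hiff.mpr hfin_le
    have hli : LinearIndependent p.ResidueField b :=
      linearIndependent_of_top_le_span_of_card_le_finrank hbspan.ge (by omega)
    exact span_eq_maximalIdeal_of_span_D k (Localization.AtPrime p) _ _ hs hli h
  · rintro ⟨h1, h2⟩
    exact span_D_eq_top_of_adapted k (Localization.AtPrime p) _ _ h1 h2


end Groth.Agent.S5026
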