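import Groth.Statements.S5029
import Groth.Agent.Lib.Helper2.QCAlgMod
import Groth.Agent.Lib.Helper74.SymQCAlg
import Mathlib.LinearAlgebra.SymmetricAlgebra.Basis

set_option autoImplicit false
universe u
open CategoryTheory CategoryTheory.Limits AlgebraicGeometry TopologicalSpace
open Unram17

namespace Groth.Agent.S5029

/-- Let S be a scheme and E a quasi-coherent O_S-module that is finite locally free. If A is a
quasi-coherent O_S-algebra which is the symmetric algebra of E (through j : E ⟶ A), then the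
structure morphism of the relative spectrum of A, i.e. of the vector bundle V(E), is smooth. -/
theorem result {S : Scheme.{u}} (E : S.Modules) (hE : Coh.IsQCoh E)
    (hlf : FlatMod.IsFinLocFree E) (A : RelSpec.QCAlg S) (j : E ⟶ A.toModule) (hA : RelSpec.IsSymAlg E A j) :
    Smooth A.π := by
  haveI : E.IsQuasicoherent := hE
  have hloc : ∀ x : S, ∃ (V : S.Opens) (hV : IsAffineOpen V), x ∈ V ∧
      Smooth (A.ι V hV ≫ A.π) := by
    intro x
    obtain ⟨V₀, d, hxV₀, hV₀⟩ :=
      Groth.Agent.Lib.Helper2.QCAlgMod.exists_equiv_of_isFinLocFree E hlf x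
    obtain ⟨V, hV, hxV, hVV₀⟩ := exists_isAffineOpen_mem_and_subset (x := x) (U := V₀) hxV₀
    obtain ⟨e⟩ := hV₀ V hVV₀ hV
    refine ⟨V, hV, hxV, ?_⟩
    rw [A.ι_π]
    haveI : Smooth (Spec.map (A.str.app (Opposite.op V))) := by
      rw [HasRingHomProperty.Spec_iff (P := @Smooth)]
      have hsym := Groth.Agent.Lib.Helper74.SymQ.isSymmetricAlgebra_of_isSymAlg hA V hV
      letI : Algebra Γ(S, V) (A.presheaf.obj (Opposite.op V)) :=
        (A.str.app (Opposite.op V)).hom.toAlgebra
      let b : Module.Basis (Fin d) Γ(S, V) Γ(E, V) := Module.Basis.ofEquivFun e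
      let ψ : MvPolynomial (Fin d) Γ(S, V) ≃ₐ[Γ(S, V)] A.presheaf.obj (Opposite.op V) :=
        (SymmetricAlgebra.equivMvPolynomial b).symm.trans hsym.equiv
      haveI : Algebra.Smooth Γ(S, V) (MvPolynomial (Fin d) Γ(S, V)) :=
        ⟨inferInstance, inferInstance⟩
      exact Algebra.Smooth.of_equiv ψ
    infer_instance
  choose V hV hxV hsm using hloc
  refine IsZariskiLocalAtSource.of_iSup_eq_top (P := @Smooth) (fun x : S => A.π ⁻¹ᵁ V x) ?_ ?_
  · rw [eq_top_iff]
    intro z _
    exact TopologicalSpace.Opens.mem_iSup.mpr ⟨A.π z, hxV (A.π z)⟩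
  · intro x
    have key : ∀ (W : A.spec.Opens) (hW : W = (A.ι (V x) (hV x)).opensRange),
        Smooth (W.ι ≫ A.π) := by
      rintro _ rfl
      have h1 : (A.ι (V x) (hV x)).opensRange.ι ≫ A.π =
          (A.ι (V x) (hV x)).isoOpensRange.inv ≫ (A.ι (V x) (hV x) ≫ A.π) := by
        rw [← Category.assoc, Scheme.Hom.isoOpensRange_inv_comp]
      rw [h1]
      haveI := hsm x
      infer_instance
    exact key _ (A.π_preimage (V x) (hV x))

end Groth.Agent.S5029
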