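import Groth.Statements.S5030
import Mathlib
import Groth.Agent.S0591
import Groth.Agent.S9191
import Groth.Agent.Lib.Helper46.FGLimZ

set_option autoImplicit false
universe u
open CategoryTheory CategoryTheory.Limits AlgebraicGeometry TopologicalSpace
open Unram17

namespace Groth.Agent.S5030

private lemma smooth_model_of_limit {I : Type u} [SmallCategory I] [IsCofiltered I]
    (D : I ⥤ Scheme.{u}) (c : Limits.Cone D) (hc : Limits.IsLimit c)
    [∀ (i j : I) (f : i ⟶ j), IsAffineHom (D.map f)] [∀ i, CompactSpace (D.obj i)]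
    [∀ i, QuasiSeparatedSpace (D.obj i)] (X : Scheme.{u}) (f : X ⟶ c.pt)
    [Smooth f] [QuasiCompact f] [QuasiSeparated f] :
    ∃ (j : I) (Xj : Scheme.{u}) (f₀ : Xj ⟶ D.obj j) (g : X ⟶ Xj),
      Smooth f₀ ∧ QuasiCompact f₀ ∧ IsPullback g f f₀ (c.π.app j) := by
  obtain ⟨i, Xi, fi, g, hfi1, hfi2, hfi3, hpb⟩ := Groth.Agent.S0591.result D c hc X f
  haveI : CompactSpace Xi := QuasiCompact.compactSpace_of_compactSpace fi
  haveI : QuasiSeparatedSpace Xi := quasiSeparatedSpace_of_quasiSeparated fi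
  obtain ⟨j, φ, Xj, Yj, fj, gj, pY, pX, hp1, hp2, hsm⟩ := Groth.Agent.S9191.result
    D c hc i fi (𝟙 _) f (𝟙 _) (c.π.app i) g (IsPullback.id_vert _) hpb
  haveI : IsIso gj := hp1.isIso_snd_of_isIso
  have hV : IsPullback pX (fj ≫ gj) fi (D.map φ) := by
    have := hp2.paste_vert hp1
    rwa [Category.comp_id] at this
  have hw : g ≫ fi = (f ≫ c.π.app j) ≫ D.map φ := by
    rw [Category.assoc, c.w φ]
    exact hpb.w
  have hfin : IsPullback (hV.lift g (f ≫ c.π.app j) hw) f (fj ≫ gj) (c.π.app j) := by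
    refine IsPullback.of_right ?_ (hV.lift_snd _ _ hw) hV
    rw [hV.lift_fst, c.w φ]
    exact hpb
  haveI : QuasiCompact fj := MorphismProperty.of_isPullback (P := @QuasiCompact) hp2 hfi2
  exact ⟨j, Xj, fj ≫ gj, _, inferInstance, inferInstance, hfin⟩

/-- Let A be a commutative ring and f : X ⟶ Spec A a smooth morphism that is quasi-compact and
quasi-separated (hence of finite presentation). Then there exist a finitely generated ℤ-subalgebra
A₀ of A, a scheme X₀ with a smooth morphism of finite type f₀ : X₀ ⟶ Spec A₀, and a morphism X ⟶ X₀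
making X the base change of X₀ along Spec A ⟶ Spec A₀. This is the case of smooth morphisms (the
converse is stability under base change). -/
theorem result (A : Type u) [CommRing A] {X : Scheme.{u}}
    (f : X ⟶ Spec (CommRingCat.of A)) [Smooth f] [QuasiCompact f] [QuasiSeparated f] :
    ∃ A₀ : Subalgebra ℤ A, A₀.FG ∧
      ∃ (X₀ : Scheme.{u}) (f₀ : X₀ ⟶ Spec (CommRingCat.of ↥A₀)) (g : X ⟶ X₀),
        Smooth f₀ ∧ QuasiCompact f₀ ∧
          IsPullback g f f₀ (Spec.map (CommRingCat.ofHom (algebraMap (↥A₀) A))) := by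
  obtain ⟨j, Xj, f₀, g, h1, h2, h3⟩ := @smooth_model_of_limit _ _ _
    (Groth.Agent.Lib.Helper46.fgSpecDiagramZ ℤ A) (Groth.Agent.Lib.Helper46.fgSpecConeZ ℤ A)
    (Groth.Agent.Lib.Helper46.isLimitFgSpecConeZ ℤ A) _ (fun i => inferInstance)
    (fun i => inferInstance) X f ‹Smooth f› ‹QuasiCompact f› ‹QuasiSeparated f›
  obtain ⟨⟨A₀, hA₀⟩⟩ := j
  exact ⟨A₀, hA₀, Xj, f₀, g, h1, h2, h3⟩

end Groth.Agent.S5030
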