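import Groth.Statements.S5031
import Groth.Agent.Lib.Helper50.Descent11
import Groth.Agent.Lib.Helper50.FGLimZ

set_option autoImplicit false
universe u
open CategoryTheory CategoryTheory.Limits AlgebraicGeometry TopologicalSpace
open Unram17

namespace Groth.Agent.S5031

/-- Let A be a commutative ring and f : X ⟶ Spec A an etale morphism that is quasi-compact and
quasi-separated (hence of finite presentation). Then there exist a finitely generated ℤ-subalgebra
A₀ of A, a scheme X₀ with an etale morphism of finite type f₀ : X₀ ⟶ Spec A₀, and a morphism X ⟶ X₀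
making X the base change of X₀ along Spec A ⟶ Spec A₀. This is the case of etale morphisms (the
converse is stability under base change). -/
theorem result (A : Type u) [CommRing A] {X : Scheme.{u}}
    (f : X ⟶ Spec (CommRingCat.of A)) [Etale f] [QuasiCompact f] [QuasiSeparated f] :
    ∃ A₀ : Subalgebra ℤ A, A₀.FG ∧
      ∃ (X₀ : Scheme.{u}) (f₀ : X₀ ⟶ Spec (CommRingCat.of ↥A₀)) (g : X ⟶ X₀),
        Etale f₀ ∧ QuasiCompact f₀ ∧
          IsPullback g f f₀ (Spec.map (CommRingCat.ofHom (algebraMap (↥A₀) A))) := by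
  open Groth.Agent.Lib.Helper50 Groth.Agent.Lib.Helper50.Descent in
  have : CompactSpace X := QuasiCompact.compactSpace_of_compactSpace f
  have : QuasiSeparatedSpace X := quasiSeparatedSpace_of_quasiSeparated f
  have hlfp0 : LocallyOfFinitePresentation f := inferInstance
  have hlfp : LocallyOfFinitePresentation (Y := (fgSpecConeZ A).pt) f := hlfp0
  have hP : Etale (Y := (fgSpecConeZ A).pt) f := ‹Etale f›
  have hcpt : ∀ i, CompactSpace ((fgSpecDiagramZ A).obj i) := fun i => inferInstance
  have hqs : ∀ i, QuasiSeparatedSpace ((fgSpecDiagramZ A).obj i) := fun i => inferInstance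
  obtain ⟨⟨S⟩, Xi, fi, q, h1, h2, h3, h4, h5⟩ := exists_descent_with (fgSpecDiagramZ A)
    (fgSpecConeZ A) (isLimitFgSpecConeZ A) @Etale
    (fun i₁ X₀ X f₀ _ _ _ f qX hX hf ↦ HP_etale (fgSpecDiagramZ A) (fgSpecConeZ A)
      (isLimitFgSpecConeZ A) i₁ f₀ f qX hX hf) (X := X) f hP
  exact ⟨S.1, S.2, Xi, fi, q, h4, quasiCompact_of_compactSpace fi, h5⟩

end Groth.Agent.S5031
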