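import Groth.Agent.Lib.Helper52.RegularQuot
import Groth.Statements.S5033
-- import your own Groth.Agent.* helpers here

set_option autoImplicit false
universe u
open CInt

namespace Groth.Agent.S5033

open IsLocalRing RingTheory.Sequence

theorem ofList_ofFn {A : Type u} [CommRing A] {n : ℕ} (y : Fin n → A) :
    Ideal.ofList (List.ofFn y) = Ideal.span (Set.range y) := by
  unfold Ideal.ofList
  congr 1
  ext a
  simp [List.mem_ofFn]


/-- Let A be a Noetherian local ring and J an ideal such that A/J is a regular local ring. Then A is a
regular local ring if and only if J is generated by a regular sequence of A. -/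
theorem result (A : Type u) [CommRing A] [IsNoetherianRing A]
    [IsLocalRing A] (J : Ideal A) [IsRegularLocalRing (A ⧸ J)] :
    IsRegularLocalRing A ↔ CInt.IsRegularIdeal J := by
  classical
  have hJtop : J ≠ ⊤ := Ideal.Quotient.nontrivial_iff.mp inferInstance
  constructor
  · intro hA
    obtain ⟨d, hd⟩ := Groth.Agent.Lib.Helper52.exists_nat_ringKrullDim A
    obtain ⟨x, c, hc, hspan, hJ⟩ :=
      Groth.Agent.Lib.Helper52.exists_generators_of_regular_quotient_regular d A hd J
    have hreg := Groth.Agent.Lib.Helper76.isRegular_of_span_range_eq_maximalIdeal A d hd x hspan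
    have htake : List.ofFn (fun i : Fin c => x (Fin.castLE hc i)) = (List.ofFn x).take c := by
      apply List.ext_getElem
      · simp [hc]
      · intro i h1 h2
        simp
    have hsplit : List.ofFn x = (List.ofFn x).take c ++ (List.ofFn x).drop c :=
      (List.take_append_drop c _).symm
    have hw : IsWeaklyRegular A ((List.ofFn x).take c) := by
      have := hreg.toIsWeaklyRegular
      rw [hsplit, isWeaklyRegular_append_iff] at this
      exact this.1
    refine ⟨(List.ofFn x).take c, ⟨hw, ?_⟩, ?_⟩
    · rw [← htake, ofList_ofFn, ← hJ]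
      intro h
      apply hJtop
      have : J • (⊤ : Submodule A A) = J := by simp
      rw [this] at h
      exact h.symm
    · rw [← htake, ofList_ofFn, ← hJ]
  · rintro ⟨rs, hrs, rfl⟩
    have hdim := ringKrullDim_add_length_eq_ringKrullDim_of_isRegular rs hrs
    have hπ : Function.Surjective (Ideal.Quotient.mk (Ideal.ofList rs)) :=
      Ideal.Quotient.mk_surjective
    obtain ⟨S, hScard, hSspan⟩ := Submodule.FG.exists_span_finset_card_eq_spanFinrank
      (IsNoetherian.noetherian (maximalIdeal (A ⧸ Ideal.ofList rs)))
    let T : Finset A := S.image (Function.surjInv hπ)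
    have hTS : Ideal.Quotient.mk (Ideal.ofList rs) '' (T : Set A) = S := by
      ext y
      simp only [T, Finset.coe_image, Set.mem_image, Finset.mem_coe]
      constructor
      · rintro ⟨_, ⟨z, hz, rfl⟩, rfl⟩
        rwa [Function.surjInv_eq hπ]
      · intro hy
        exact ⟨_, ⟨y, hy, rfl⟩, Function.surjInv_eq hπ y⟩
    have hm : maximalIdeal A = Ideal.span (T : Set A) ⊔ Ideal.ofList rs := by
      rw [← Groth.Agent.Lib.Helper52.comap_mk_maximalIdeal (Ideal.ofList rs),
        ← Groth.Agent.Lib.Helper52.comap_mk_span_image, hTS]
      exact congrArg _ hSspan.symm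
    have hm' : maximalIdeal A = Ideal.span ((T : Set A) ∪ {r | r ∈ rs}) := by
      rw [hm, Ideal.span_union]
    have hfin : ((T : Set A) ∪ {r | r ∈ rs}).Finite :=
      T.finite_toSet.union (List.finite_toSet rs)
    have h1 : (maximalIdeal A).spanFinrank ≤ S.card + rs.length := by
      calc (maximalIdeal A).spanFinrank
          = (Ideal.span ((T : Set A) ∪ {r | r ∈ rs})).spanFinrank := by rw [← hm']
        _ ≤ ((T : Set A) ∪ {r | r ∈ rs}).ncard :=
            Submodule.spanFinrank_span_le_ncard_of_finite hfin
        _ ≤ (T : Set A).ncard + {r | r ∈ rs}.ncard := Set.ncard_union_le _ _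
        _ ≤ S.card + rs.length := by
            apply Nat.add_le_add
            · rw [Set.ncard_coe_finset]; exact Finset.card_image_le
            · have : {r | r ∈ rs} = (rs.toFinset : Set A) := by ext; simp
              rw [this, Set.ncard_coe_finset]
              exact List.toFinset_card_le rs
    have he : ((maximalIdeal (A ⧸ Ideal.ofList rs)).spanFinrank : WithBot ℕ∞) =
        ringKrullDim (A ⧸ Ideal.ofList rs) :=
      IsRegularLocalRing.spanFinrank_maximalIdeal
    apply IsRegularLocalRing.of_spanFinrank_maximalIdeal_le
    rw [← hdim, ← he, ← hScard]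
    exact_mod_cast h1


end Groth.Agent.S5033
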