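import Mathlib
import Groth.Statements.S5034
import Groth.Agent.Lib.Helper9.HenselRank1

set_option autoImplicit false
universe u
open Hensel

namespace Groth.Agent.S5034

open IsLocalRing Groth.Agent.Lib.Helper9 Groth.Agent.Lib.Helper9.HenselRank1

theorem surjective_atPrime_of_prod {B : Type u} [CommRing B] {ι : Type u} [Fintype ι]
    (A : ι → Type u) [∀ i, CommRing (A i)] [∀ i, IsLocalRing (A i)] (ψ : B ≃+* (∀ i, A i))
    (𝔫 : Ideal B) [h𝔫 : 𝔫.IsMaximal] :
    Function.Surjective (algebraMap B (Localization.AtPrime 𝔫)) := by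
  classical
  set e : ι → B := fun i => ψ.symm (Pi.single i 1) with he
  have hsum : ∑ i, e i = 1 := by
    simp only [he]
    rw [← map_sum, Finset.univ_sum_single (fun _ => (1 : A _))]
    exact map_one ψ.symm
  obtain ⟨i₀, hi₀⟩ : ∃ i₀, e i₀ ∉ 𝔫 := by
    by_contra hall
    push Not at hall
    have : (1 : B) ∈ 𝔫 := hsum ▸ Ideal.sum_mem _ (fun i _ => hall i)
    exact h𝔫.ne_top ((Ideal.eq_top_iff_one _).2 this)
  have hmul : ∀ (b : B) (c : A i₀), b * ψ.symm (Pi.single i₀ c) =
      ψ.symm (Pi.single i₀ ((ψ b) i₀ * c)) := by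
    intro b c
    apply ψ.injective
    rw [map_mul, ψ.apply_symm_apply, ψ.apply_symm_apply]
    ext j
    by_cases hj : j = i₀
    · subst hj; simp
    · simp [Pi.single_eq_of_ne hj]
  set 𝔫' : Ideal B := Ideal.comap ((Pi.evalRingHom A i₀).comp (ψ : B →+* (∀ i, A i)))
    (maximalIdeal (A i₀)) with h𝔫'
  have hle : 𝔫 ≤ 𝔫' := by
    intro b hb
    rw [h𝔫', Ideal.mem_comap, mem_maximalIdeal, mem_nonunits_iff]
    intro hu
    obtain ⟨c, hc⟩ := hu.exists_right_inv
    apply hi₀
    have h1 := hmul b c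
    have h2 : (ψ b) i₀ * c = 1 := hc
    rw [h2] at h1
    rw [he]
    simp only
    rw [← h1]
    exact Ideal.mul_mem_right _ _ hb
  have hne : 𝔫' ≠ ⊤ := by
    rw [h𝔫']
    exact (Ideal.comap_isPrime _ _).ne_top
  have heq : 𝔫 = 𝔫' := h𝔫.eq_of_le hne hle
  have hunit : ∀ s : B, s ∉ 𝔫 → IsUnit ((ψ s) i₀) := by
    intro s hs
    rw [heq, h𝔫', Ideal.mem_comap, mem_maximalIdeal, mem_nonunits_iff, not_not] at hs
    exact hs
  intro z
  obtain ⟨⟨b, s⟩, hbs⟩ := IsLocalization.surj 𝔫.primeCompl z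
  obtain ⟨u, hu⟩ := (hunit s s.2).exists_right_inv
  refine ⟨ψ.symm (Pi.single i₀ (u * (ψ b) i₀)), ?_⟩
  have hsu : IsUnit (algebraMap B (Localization.AtPrime 𝔫) s) := IsLocalization.map_units _ s
  apply hsu.mul_right_cancel
  rw [hbs, ← map_mul, IsLocalization.eq_iff_exists 𝔫.primeCompl]
  refine ⟨⟨e i₀, hi₀⟩, ?_⟩
  show e i₀ * (ψ.symm (Pi.single i₀ (u * (ψ b) i₀)) * s) = e i₀ * b
  apply ψ.injective
  simp only [he, map_mul, ψ.apply_symm_apply]
  ext j
  by_cases hj : j = i₀
  · subst hj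
    simp only [Pi.mul_apply, Pi.single_eq_same, one_mul]
    calc u * (ψ b) j * (ψ s) j = (ψ b) j * ((ψ s) j * u) := by ring
      _ = (ψ b) j := by rw [hu, mul_one]
  · simp [Pi.single_eq_of_ne hj]

/-- a') implies a): let R be a local ring such that for every monic polynomial F over R the quotient
ring R[T]/(F) is isomorphic, as a ring, to a finite product of local rings. Then R is henselian. -/
theorem result (R : Type u) [CommRing R] [IsLocalRing R]
    (h : ∀ F : Polynomial R, F.Monic →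
      ∃ (ι : Type u) (_ : Fintype ι) (A : ι → Type u) (_ : ∀ i, CommRing (A i)),
        (∀ i, IsLocalRing (A i)) ∧ Nonempty (AdjoinRoot F ≃+* (∀ i, A i))) :
    HenselianLocalRing R := by
  refine { is_henselian := fun F hF a₀ h₁ h₂ => ?_ }
  obtain ⟨ι, _, A, _, hloc, ⟨ψ⟩⟩ := h F hF
  have hsurj := surjective_atPrime_of_prod A ψ (pointIdeal F a₀ h₁)
  have hfinB : Module.Finite R (AdjoinRoot F) := hF.finite_adjoinRoot
  have hfin : Module.Finite R (Localization.AtPrime (pointIdeal F a₀ h₁)) :=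
    Module.Finite.of_surjective
      (IsScalarTower.toAlgHom R (AdjoinRoot F) (Localization.AtPrime (pointIdeal F a₀ h₁))).toLinearMap
      hsurj
  exact exists_root_of_finite_atPrime F a₀ hF h₁ h₂ hfin

end Groth.Agent.S5034
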