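import Mathlib
import Groth.Statements.S5035
import Groth.Agent.Lib.Helper9.HenselRank1

set_option autoImplicit false
universe u
open Hensel

namespace Groth.Agent.S5035

open IsLocalRing Groth.Agent.Lib.Helper9 Groth.Agent.Lib.Helper9.HenselRank1

theorem finite_atPrime_of_henselian (R : Type u) [CommRing R] [HenselianLocalRing R]
    (S : Type u) [CommRing S] [Algebra R S] [Algebra.FiniteType R S] (q : Ideal S) [q.IsPrime]
    [q.LiesOver (maximalIdeal R)] [Algebra.QuasiFiniteAt R q] :
    Module.Finite R (Localization.AtPrime q) := by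
  obtain ⟨e, he, heq, hfin, huniq⟩ := exists_idempotent_of_quasiFiniteAt (R := R) q
  have hint : Algebra.IsIntegral R (Localization.Away e) := Algebra.IsIntegral.of_finite R _
  have hepow : ∀ n : ℕ, e ^ n ∈ q.primeCompl := fun n => q.primeCompl.pow_mem heq n
  have hunits : ∀ s : q.primeCompl, IsUnit (algebraMap S (Localization.Away e) s) := by
    rintro ⟨s, hs⟩
    by_contra hnu
    obtain ⟨M, hM, hsM⟩ := exists_max_ideal_of_mem_nonunits (mem_nonunits_iff.2 hnu)
    have hMover : M.LiesOver (maximalIdeal R) := liesOver_maximalIdeal_of_isMaximal M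
    set Q : Ideal S := M.comap (algebraMap S (Localization.Away e)) with hQ
    have hQprime : Q.IsPrime := Ideal.comap_isPrime _ _
    have hQover : Q.LiesOver (maximalIdeal R) := by
      constructor
      rw [hQ, Ideal.under, Ideal.comap_comap, ← IsScalarTower.algebraMap_eq]
      exact hMover.over
    have heQ : e ∉ Q := by
      intro h
      have h1 : algebraMap S (Localization.Away e) e ∈ M := h
      exact hM.ne_top (Ideal.eq_top_of_isUnit_mem _ h1 (IsLocalization.Away.algebraMap_isUnit e))
    have := huniq Q hQprime hQover heQ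
    exact hs (this ▸ (show s ∈ Q from hsM))
  have hloc : IsLocalization q.primeCompl (Localization.Away e) := by
    refine ⟨hunits, ?_, ?_⟩
    · intro z
      obtain ⟨⟨x, ⟨_, n, rfl⟩⟩, hx⟩ := IsLocalization.surj (Submonoid.powers e) z
      exact ⟨⟨x, ⟨e ^ n, hepow n⟩⟩, hx⟩
    · intro x y hxy
      obtain ⟨⟨_, n, rfl⟩, hc⟩ := IsLocalization.exists_of_eq (M := Submonoid.powers e) hxy
      exact ⟨⟨e ^ n, hepow n⟩, hc⟩
  let φ : Localization.Away e ≃ₐ[S] Localization.AtPrime q :=
    IsLocalization.algEquiv q.primeCompl _ _
  exact Module.Finite.equiv (φ.restrictScalars R).toLinearEquiv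

/-- a) iff c') (affine form): a local ring R is henselian if and only if, for every R-algebra S of
finite type and every prime q of S lying over the maximal ideal of R such that S is quasi-finite
over R at q, the local ring S_q is a finitely generated R-module. -/
theorem result (R : Type u) [CommRing R] [IsLocalRing R] :
    HenselianLocalRing R ↔
      ∀ (S : Type u) [CommRing S] [Algebra R S] [Algebra.FiniteType R S] (q : Ideal S) [q.IsPrime],
        q.LiesOver (IsLocalRing.maximalIdeal R) → Algebra.QuasiFiniteAt R q →
          Module.Finite R (Localization.AtPrime q) := by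
  constructor
  · intro hR S _ _ _ q _ hq hqf
    exact finite_atPrime_of_henselian R S q
  · intro h
    refine { is_henselian := fun F hF a₀ h₁ h₂ => ?_ }
    have hover := pointIdeal_liesOver F a₀ h₁
    have hfinB : Module.Finite R (AdjoinRoot F) := hF.finite_adjoinRoot
    have hqf : Algebra.QuasiFiniteAt R (pointIdeal F a₀ h₁) := inferInstance
    exact exists_root_of_finite_atPrime F a₀ hF h₁ h₂
      (h (AdjoinRoot F) (pointIdeal F a₀ h₁) hover hqf)

end Groth.Agent.S5035
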