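import Groth.Statements.S5039
import Groth.Agent.Lib.Helper38.HensNagata
import Groth.Agent.S0567
import Groth.Agent.S0568
import Groth.Agent.S0543
import Groth.Agent.S0733
import Groth.Agent.Lib.Helper56.DimOneN2c
import Groth.Agent.Lib.Helper69.HensCompl
import Groth.Agent.Lib.Helper87.HensDim
import Groth.Agent.Lib.Helper87.HensNoethStrict
import Groth.Agent.Lib.Helper87.SmoothPrimeHens
import Groth.Agent.Lib.Helper87.IndEtaleFibre
import Groth.Agent.Lib.Helper87.IndEtaleReduced

set_option autoImplicit false
universe u
open Hensel

namespace Groth.Agent.S5039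

/-- Let R be a Noetherian local ring and S its henselization. Then S is universally Japanese if and only
if R is. -/
theorem result (R S : Type u) [CommRing R] [IsLocalRing R] [IsNoetherianRing R]
    [CommRing S] [IsLocalRing S] [Algebra R S] [IsLocalHom (algebraMap R S)] [Hensel.IsHenselization R S] :
    CAlg.IsUniversallyJapanese S ↔ CAlg.IsUniversallyJapanese R := by
  open Groth.Agent.Lib.Helper87 Groth.Agent.Lib.Helper87.Hens IsLocalRing TensorProduct
    Groth.Agent.Lib.Helper56 Groth.Agent.Lib.Helper38.HensNagata in
  classical
  haveI hNS : IsNoetherianRing S := by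
    obtain ⟨e⟩ := nonempty_algEquiv_Hh R S
    haveI : IsNoetherianRing (Hh R) := Hh.isNoetherianRing R
    exact isNoetherianRing_of_ringEquiv (Hh R) e.symm.toRingEquiv
  haveI hffRS : Module.FaithfullyFlat R S := Hens.faithfullyFlat_of_isHenselization R S
  have hpres : IndEt.HasPres R S := SmoothPrimeHens.hasPres_hens R S
  have hpresL : ∀ (L : Type u) [Field L] [Algebra R L], IndEt.HasPres L (L ⊗[R] S) :=
    fun L _ _ => Groth.Agent.S0733.result R S L hpres
  constructor
  · -- `S` Nagata implies `R` Nagata
    intro hUJ
    have hNagS : CAlg.IsNagata S := (Groth.Agent.S0567.result S).mpr ⟨hNS, hUJ⟩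
    have hNagR : CAlg.IsNagata R := by
      refine ⟨inferInstance, fun p hp => ?_⟩
      refine isN2_quotient_of_reduced_tensor R S hNagS p ?_
      intro L _ _ _ _ _ _ _
      exact IndEtReduced.isReduced_of_hasPres (hpresL L)
    exact ((Groth.Agent.S0567.result R).mp hNagR).2
  · -- `R` Nagata implies `S` Nagata
    intro hUJ
    have hNagR : CAlg.IsNagata R := (Groth.Agent.S0567.result R).mpr ⟨inferInstance, hUJ⟩
    have hG : EGA4.HasGeomReducedFormalFibres R :=
      (isNagata_iff_hasGeomReducedFormalFibres R).mp hNagR
    haveI hNA : IsNoetherianRing (AdicCompletion (maximalIdeal R) R) :=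
      Groth.Agent.S0543.result R (maximalIdeal R)
    have hNagC : CAlg.IsNagata (AdicCompletion (maximalIdeal R) R) :=
      Groth.Agent.S0568.result (AdicCompletion (maximalIdeal R) R)
    haveI hH : HenselianLocalRing (AdicCompletion (maximalIdeal R) R) := inferInstance
    obtain ⟨ψ, hψ, -⟩ := (inferInstance : Hensel.IsHenselization R S).universal
      (AdicCompletion (maximalIdeal R) R)
      (algebraMap R (AdicCompletion (maximalIdeal R) R)) inferInstance
    letI := ψ.toAlgebra
    haveI hff : Module.FaithfullyFlat S (AdicCompletion (maximalIdeal R) R) :=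
      Groth.Agent.Lib.Helper69.HensCompl.faithfullyFlat_toCompletion R S ψ hψ
    haveI hst : IsScalarTower R S (AdicCompletion (maximalIdeal R) R) :=
      IsScalarTower.of_algebraMap_eq (fun a => (RingHom.congr_fun hψ a).symm)
    have hint : ∀ (K : Type u) [Field K] [Algebra R K], Algebra.IsIntegral K (K ⊗[R] S) :=
      fun K _ _ => IndEtFibre.isIntegral_of_field (hpresL K).coveredByEtale
    have hNagS : CAlg.IsNagata S := by
      refine ⟨hNS, fun q hq => ?_⟩
      refine isN2_quotient_of_reduced_tensor S (AdicCompletion (maximalIdeal R) R) hNagC q ?_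
      intro L _ _ _ _ _ _ hfin
      letI : Algebra R L := ((algebraMap S L).comp (algebraMap R S)).toAlgebra
      haveI : IsScalarTower R S L := IsScalarTower.of_algebraMap_eq (fun _ => rfl)
      have hW0 : IsReduced (L ⊗[R] AdicCompletion (maximalIdeal R) R) :=
        isReduced_tensor_cpl R S hG hint q L hfin
      have hW : IsReduced (AdicCompletion (maximalIdeal R) R ⊗[R] L) :=
        isReduced_of_injective
          (Algebra.TensorProduct.comm R (AdicCompletion (maximalIdeal R) R) L)
          (Algebra.TensorProduct.comm R (AdicCompletion (maximalIdeal R) R) L).injective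
      have hT0 : IsReduced (L ⊗[R] S) := IndEtReduced.isReduced_of_hasPres (hpresL L)
      have hT_red : IsReduced (S ⊗[R] L) :=
        isReduced_of_injective (Algebra.TensorProduct.comm R S L)
          (Algebra.TensorProduct.comm R S L).injective
      have hT1 : Ring.KrullDimLE 0 (L ⊗[R] S) :=
        IndEtFibre.krullDimLE_zero_of_field (hpresL L).coveredByEtale
      have hT_dim : Ring.KrullDimLE 0 (S ⊗[R] L) := by
        rw [Ring.krullDimLE_iff] at hT1 ⊢
        rwa [ringKrullDim_eq_of_ringEquiv (Algebra.TensorProduct.comm R S L).toRingEquiv]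
      have h1 : IsReduced (AdicCompletion (maximalIdeal R) R ⊗[S] L) :=
        isReduced_tensor_of_zeroDim R S (AdicCompletion (maximalIdeal R) R) L hT_red hT_dim hW
      exact isReduced_of_injective
        (Algebra.TensorProduct.comm S L (AdicCompletion (maximalIdeal R) R))
        (Algebra.TensorProduct.comm S L (AdicCompletion (maximalIdeal R) R)).injective
    exact ((Groth.Agent.S0567.result S).mp hNagS).2

end Groth.Agent.S5039
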