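import Groth.Statements.S5042
-- import your own Groth.Agent.* helpers here
import Groth.Agent.Lib.Helper49.J2Desc
import Groth.Agent.Lib.Helper49.J2f
import Groth.Agent.Lib.Helper49.GRingLocal
import Groth.Agent.Lib.Helper67.HensFF2
import Groth.Agent.Lib.Helper67.EquiCat8
import Groth.Agent.Lib.Helper67.EquiCat7
import Groth.Agent.Lib.Helper67.FormEqNorm3

set_option autoImplicit false
universe u
open Hensel

namespace Groth.Agent.S5042


/-- The henselization S of an excellent local ring R is excellent. -/
theorem result (R S : Type u) [CommRing R] [IsLocalRing R]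
    [CommRing S] [IsLocalRing S] [Algebra R S] [IsLocalHom (algebraMap R S)] [Hensel.IsHenselization R S]
    (h : EGA4.IsExcellent R) : EGA4.IsExcellent S := by
  have hfcR : EGA4.IsFormallyCatenary R :=
    (Groth.Agent.Lib.Helper67.FormEqNorm.isFormallyCatenary_of_isExcellent R h).1
  obtain ⟨hN, hcat, hG, hJ⟩ := h
  haveI := hN
  haveI hSN : IsNoetherianRing S :=
    Groth.Agent.Lib.Helper67.EquiCat.isNoetherianRing_of_isHenselization R S
  have hfcS : EGA4.IsFormallyCatenary S :=
    Groth.Agent.Lib.Helper67.EquiCat.isFormallyCatenary_of_isHenselization R S hfcR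
  have hcatS : CAlg.IsUniversallyCatenary S :=
    Groth.Agent.Lib.Helper67.EquiCat.isUniversallyCatenary_of_isFormallyCatenary hfcS
  have hregR := Groth.Agent.Lib.Helper49.GRingLocal.isRegularHom_cpl_of_isGRing R hG
  have hregS : CAlg.IsRegularHom S (AdicCompletion (IsLocalRing.maximalIdeal S) S) :=
    (Groth.Agent.Lib.Helper67.HensFF.isRegularHom_cpl_iff R S).mpr hregR
  have hGS : CAlg.IsGRing S := Groth.Agent.Lib.Helper49.GRingLocal.isGRing_of_isRegularHom_cpl S hregS
  haveI hCN : IsNoetherianRing (AdicCompletion (IsLocalRing.maximalIdeal S) S) :=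
    Groth.Agent.S0543.result _ _
  haveI hCc : IsAdicComplete (IsLocalRing.maximalIdeal (AdicCompletion (IsLocalRing.maximalIdeal S) S))
      (AdicCompletion (IsLocalRing.maximalIdeal S) S) :=
    AdicCompletion.isAdicComplete_of_fg (IsNoetherian.noetherian _)
  haveI := Groth.Agent.Lib.Helper56.faithfullyFlat_cpl S
  have hJS : EGA4.IsJ2 S :=
    Groth.Agent.Lib.Helper49.J2Desc.isJ2_of_isRegularHom_faithfullyFlat S
      (AdicCompletion (IsLocalRing.maximalIdeal S) S) hregS
      (Groth.Agent.Lib.Helper49.J2.isJ2_of_complete _)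
  exact ⟨hSN, hcatS, hGS, hJS⟩

end Groth.Agent.S5042
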