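import Groth.Statements.S5044
import Groth.Agent.Lib.Helper69.HensAss
import Groth.Agent.Lib.Helper87.HensStrictProps
import Groth.Agent.Lib.Helper87.HensNoethStrict

set_option autoImplicit false
universe u
open Hensel

namespace Groth.Agent.S5044

/-- Let R be a Noetherian local ring with strict henselization S. A prime ideal P of S is an associated
prime of S if and only if its inverse image in R is an associated prime of R. -/
theorem result (R S : Type u) [CommRing R] [IsLocalRing R] [IsNoetherianRing R]
    [CommRing S] [IsLocalRing S] [Algebra R S] [IsLocalHom (algebraMap R S)] [Hensel.IsStrictHenselization R S]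
    (P : Ideal S) [P.IsPrime] :
    P ∈ associatedPrimes S S ↔ P.comap (algebraMap R S) ∈ associatedPrimes R R := by
  obtain ⟨e⟩ := Groth.Agent.Lib.Helper87.Hens.nonempty_algEquiv_Hsh R S
  haveI hN : IsNoetherianRing S := by
    haveI : IsNoetherianRing (Groth.Agent.Lib.Helper87.Hens.Hsh R) :=
      Groth.Agent.Lib.Helper87.Hens.H.isNoetherianRing
    exact isNoetherianRing_of_ringEquiv _ e.symm.toRingEquiv
  haveI := Groth.Agent.Lib.Helper87.Hens.flat_of_isStrictHenselization R S
  have hfib : Groth.Agent.Lib.Helper69.HensFibre.IsFib R S :=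
    Groth.Agent.Lib.Helper69.HensFibre.IsFib.of_algEquiv e
      Groth.Agent.Lib.Helper69.HensFibre.H.isFib
  exact Groth.Agent.Lib.Helper69.HensAss.mem_associatedPrimes_iff_of_isFib hfib P


end Groth.Agent.S5044
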