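import Groth.Statements.S5050
import Mathlib.RingTheory.Filtration

set_option autoImplicit false
universe u v
open CInt

namespace Groth.Agent.S5050

/-- Let A be a Noetherian ring, N a finitely generated A-module, E and F submodules of N and Q an ideal
of A. For every natural number k there is h > 0 with E ⊓ (F ⊔ Q^h N) ≤ (E ⊓ F) ⊔ Q^k N. -/
theorem result {A : Type u} [CommRing A] [IsNoetherianRing A] {N : Type v} [AddCommGroup N]
    [Module A N] [Module.Finite A N] (E F : Submodule A N) (Q : Ideal A) (k : ℕ) :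
    ∃ h : ℕ, 0 < h ∧ E ⊓ (F ⊔ Q ^ h • (⊤ : Submodule A N)) ≤ (E ⊓ F) ⊔ Q ^ k • (⊤ : Submodule A N) := by
  obtain ⟨c, hc⟩ := Ideal.exists_pow_inf_eq_pow_smul Q (E.map F.mkQ)
  refine ⟨k + c + 1, by omega, ?_⟩
  rintro x ⟨hxE, hxF⟩
  have h1 : F.mkQ x ∈ Q ^ (k + c + 1) • (⊤ : Submodule A (N ⧸ F)) := by
    have : F.mkQ x ∈ (F ⊔ Q ^ (k + c + 1) • (⊤ : Submodule A N)).map F.mkQ :=
      Submodule.mem_map_of_mem hxF
    rw [Submodule.map_sup, Submodule.map_smul'', Submodule.map_top, Submodule.range_mkQ,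
      Submodule.mkQ_map_self, bot_sup_eq] at this
    exact this
  have h2 : F.mkQ x ∈ E.map F.mkQ := Submodule.mem_map_of_mem hxE
  have h3 : F.mkQ x ∈ Q ^ (k + c + 1 - c) • (Q ^ c • ⊤ ⊓ E.map F.mkQ) := by
    rw [← hc (k + c + 1) (by omega)]
    exact ⟨h1, h2⟩
  have h4 : F.mkQ x ∈ (Q ^ k • E).map F.mkQ := by
    rw [Submodule.map_smul'']
    refine Submodule.smul_mono (Ideal.pow_le_pow_right (by omega)) inf_le_right h3
  obtain ⟨y, hy, hyx⟩ := h4
  have hyE : y ∈ E := Submodule.smul_le_right hy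
  have hyQ : y ∈ Q ^ k • (⊤ : Submodule A N) := Submodule.smul_mono le_rfl le_top hy
  have hxy : x - y ∈ F := by
    rw [← Submodule.ker_mkQ F, LinearMap.mem_ker, map_sub, hyx, sub_self]
  have : x = (x - y) + y := by abel
  rw [this]
  exact Submodule.add_mem_sup ⟨E.sub_mem hxE hyE, hxy⟩ hyQ

end Groth.Agent.S5050
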