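import Groth.Statements.S5052
import Groth.Agent.Lib.Helper57.Wt11

set_option autoImplicit false
open CategoryTheory AlgebraicGeometry
universe u
open Unram

namespace Groth.Agent.S5052

/-- Let f : X ⟶ Y be étale, separated and of finite type, and y a point of Y. The number of points of
the geometric fibre is constant on a neighbourhood of y if and only if the restriction of f over
some open neighbourhood of y is a finite morphism. -/
theorem result {X Y : Scheme.{u}} (f : X ⟶ Y) [Etale f] [IsSeparated f]
    [LocallyOfFiniteType f] [QuasiCompact f] (y : Y) :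
    (∃ U : Y.Opens, y ∈ U ∧ ∀ y' : Y, y' ∈ U → ENat.card ↥(MoreMor.geomFiber f y') = ENat.card ↥(MoreMor.geomFiber f y)) ↔
      ∃ U : Y.Opens, y ∈ U ∧ IsFinite (f ∣_ U) := by
  constructor
  · rintro ⟨U, hyU, hU⟩
    exact Groth.Agent.Lib.Helper57.Wt.exists_isFinite_restrict_of_const f y
      ⟨U, U.2.mem_nhds hyU, hU⟩
  · rintro ⟨U, hyU, hU⟩
    exact Groth.Agent.Lib.Helper57.Wt.exists_const_of_isFinite_restrict f y U hyU hU

end Groth.Agent.S5052
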