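import Groth.Statements.S5053
import Groth.Agent.Lib.Helper57.Wt11

set_option autoImplicit false
open CategoryTheory AlgebraicGeometry
universe u
open Unram

namespace Groth.Agent.S5053

/-- Let Y be a connected scheme and f : X ⟶ Y étale, separated and of finite type. Then f is finite if
and only if all geometric fibres of f have the same number of points. -/
theorem result {X Y : Scheme.{u}} [ConnectedSpace ↥Y] (f : X ⟶ Y)
    [Etale f] [IsSeparated f] [LocallyOfFiniteType f] [QuasiCompact f] :
    IsFinite f ↔ ∃ n : ℕ∞, ∀ y : Y, ENat.card ↥(MoreMor.geomFiber f y) = n := by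
  constructor
  · intro hf
    obtain ⟨y₀⟩ : Nonempty ↥Y := inferInstance
    refine ⟨ENat.card ↥(MoreMor.geomFiber f y₀), fun y => ?_⟩
    have hlc : IsLocallyConstant (fun y : Y => ENat.card ↥(MoreMor.geomFiber f y)) := by
      rw [IsLocallyConstant.iff_exists_open]
      intro z
      have hfin : IsFinite (f ∣_ (⊤ : Y.Opens)) := inferInstance
      obtain ⟨O, hzO, hO⟩ := Groth.Agent.Lib.Helper57.Wt.exists_const_of_isFinite_restrict f z ⊤
        trivial hfin
      exact ⟨O, O.2, hzO, hO⟩
    exact hlc.apply_eq_of_preconnectedSpace y y₀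
  · rintro ⟨n, hn⟩
    have h1 : ∀ y : Y, ∃ U : Y.Opens, y ∈ U ∧ IsFinite (f ∣_ U) := fun y =>
      Groth.Agent.Lib.Helper57.Wt.exists_isFinite_restrict_of_const f y
        ⟨Set.univ, Filter.univ_mem, fun z _ => by rw [hn, hn]⟩
    choose U hyU hU using h1
    have hsup : iSup U = ⊤ := by
      rw [eq_top_iff]
      intro y _
      exact TopologicalSpace.Opens.mem_iSup.mpr ⟨y, hyU y⟩
    exact (IsZariskiLocalAtTarget.iff_of_iSup_eq_top (P := @IsFinite) U hsup).mpr hU

end Groth.Agent.S5053
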