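import Groth.Statements.S5054
import Groth.Agent.Lib.Helper52.CompDiffDim

set_option autoImplicit false
universe u
open EGA418

namespace Groth.Agent.S5054

open Groth.Agent.Lib.Helper52 Groth.Agent.Lib.Helper52.CompDiffLocal in
/-- From generators of the localisation, extract numerators that still generate. -/
theorem exists_full_of_gen {A : Type*} [CommRing A] {N : Type*} [AddCommGroup N] [Module A N]
    (p : Ideal A) [p.IsPrime] {m : ℕ}
    (hgen : ∃ s : Fin m → LocalizedModule p.primeCompl N,
      Submodule.span (Localization.AtPrime p) (Set.range s) = ⊤) :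
    ∃ v : Fin m → N, Full p (Submodule.span A (Set.range v)) := by
  obtain ⟨s, hs⟩ := hgen
  have hex : ∀ i, ∃ mt : N × p.primeCompl,
      IsLocalizedModule.mk' (LocalizedModule.mkLinearMap p.primeCompl N) mt.1 mt.2 = s i :=
    fun i => IsLocalizedModule.mk'_surjective p.primeCompl
      (LocalizedModule.mkLinearMap p.primeCompl N) (s i)
  choose mt hmt using hex
  refine ⟨fun i => (mt i).1, ?_⟩
  rw [full_span_iff, eq_top_iff, ← hs, Submodule.span_le]
  rintro _ ⟨i, rfl⟩
  rw [← hmt i]
  have hunit : IsUnit (algebraMap A (Localization.AtPrime p) ((mt i).2 : A)) :=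
    IsLocalization.map_units _ (mt i).2
  have h1 : LocalizedModule.mkLinearMap p.primeCompl N (mt i).1 =
      algebraMap A (Localization.AtPrime p) ((mt i).2 : A) •
        IsLocalizedModule.mk' (LocalizedModule.mkLinearMap p.primeCompl N) (mt i).1 (mt i).2 := by
    rw [algebraMap_smul, ← Submonoid.smul_def, IsLocalizedModule.mk'_cancel']
  have h2 : IsLocalizedModule.mk' (LocalizedModule.mkLinearMap p.primeCompl N) (mt i).1 (mt i).2 =
      (hunit.unit⁻¹ : (Localization.AtPrime p)ˣ) •
        LocalizedModule.mkLinearMap p.primeCompl N (mt i).1 := by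
    rw [h1, Units.smul_def, smul_smul, IsUnit.val_inv_mul, one_smul]
  rw [SetLike.mem_coe, h2]
  exact Submodule.smul_mem _ _ (Submodule.subset_span ⟨i, rfl⟩)


/-- Let k be a field, A a complete Noetherian local k-algebra whose residue field is a finite extension
of k, p a prime ideal of A distinct from the maximal ideal and containing a minimal prime q with dim
A/q = dim A, Ω̂ the completion (for the topology of the maximal ideal) of the module of
differentials of A over k, and m a natural number. Then the A_p-module Ω̂_p is generated by m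
elements if and only if there is a local k-algebra homomorphism from the power series ring k[[T_1,
…, T_m]] to A making A a finite algebra over it which is unramified at p. -/
theorem result (k A : Type u) [Field k] [CommRing A]
    [IsLocalRing A] [IsNoetherianRing A] [Algebra k A] [IsAdicComplete (IsLocalRing.maximalIdeal A) A]
    [Module.Finite k (IsLocalRing.ResidueField A)]
    (p : Ideal A) [p.IsPrime] (hp : p ≠ IsLocalRing.maximalIdeal A)
    (hq : ∃ q ∈ minimalPrimes A, q ≤ p ∧ ringKrullDim (A ⧸ q) = ringKrullDim A) (m : ℕ) :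
    (∃ s : Fin m → (LocalizedModule p.primeCompl (AdicCompletion (IsLocalRing.maximalIdeal A) (KaehlerDifferential k A))), Submodule.span (Localization.AtPrime p) (Set.range s) = ⊤) ↔
      ∃ (_ : Algebra (MvPowerSeries (Fin m) k) A) (_ : IsScalarTower k (MvPowerSeries (Fin m) k) A),
        IsLocalHom (algebraMap (MvPowerSeries (Fin m) k) A) ∧ Module.Finite (MvPowerSeries (Fin m) k) A ∧
          Algebra.IsUnramifiedAt (MvPowerSeries (Fin m) k) p := by
  classical
  constructor
  · intro hgen
    obtain ⟨v, hv⟩ := exists_full_of_gen p hgen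
    obtain ⟨q, hqmin, hqp, hdim⟩ := hq
    have hqprime : q.IsPrime := hqmin.1.1
    obtain ⟨n, hn⟩ : ∃ n : ℕ, ringKrullDim A = n := by
      have hbot := ringKrullDim_ne_bot (R := A)
      have htop := ringKrullDim_ne_top (R := A)
      obtain ⟨a, ha⟩ := WithBot.ne_bot_iff_exists.mp hbot
      rw [← ha] at htop
      have : a ≠ ⊤ := fun h => htop (by rw [h]; rfl)
      obtain ⟨d, hd⟩ := ENat.ne_top_iff_exists.mp this
      exact ⟨d, by rw [← ha, ← hd]; rfl⟩
    have hnm : n ≤ m :=
      Groth.Agent.Lib.Helper52.CompDiffDim.le_of_full k A p q hqp hp n m (hdim.trans hn) v hv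
    obtain ⟨x, hx, j, hj⟩ := Groth.Agent.Lib.Helper52.CompDiffNorm.exists_sop_avoiding A p hp m
      (by rw [hn]; exact_mod_cast hnm)
    obtain ⟨u, hu⟩ := Groth.Agent.Lib.Helper52.CompDiffGen.main p m hgen x (fun i => (hx i).2)
    let y : Fin m → A := fun i => (u i : A) * x i
    have hym : ∀ i, y i ∈ IsLocalRing.maximalIdeal A := fun i => Ideal.mul_mem_left _ _ (hx i).1
    have hjy : IsLocalRing.maximalIdeal A ^ j ≤ Ideal.span (Set.range y) := by
      refine hj.trans ?_
      rw [Ideal.span_le]
      rintro _ ⟨i, rfl⟩
      have : x i = ((u i)⁻¹ : Aˣ) * y i := by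
        simp only [y]; rw [← mul_assoc, Units.inv_mul, one_mul]
      rw [SetLike.mem_coe, this]
      exact Ideal.mul_mem_left _ _ (Ideal.subset_span ⟨i, rfl⟩)
    obtain ⟨φ, hφX, hfin, hloc⟩ :=
      Groth.Agent.Lib.Helper52.CompDiffNorm.exists_finite_map k A y hym j hjy
    let _ : Algebra (MvPowerSeries (Fin m) k) A := φ.toRingHom.toAlgebra
    have htower : IsScalarTower k (MvPowerSeries (Fin m) k) A :=
      IsScalarTower.of_algebraMap_eq (fun c => (φ.commutes c).symm)
    have hfinA : Module.Finite (MvPowerSeries (Fin m) k) A := hfin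
    have hfull : Groth.Agent.Lib.Helper52.CompDiffLocal.Full p (Submodule.span A (Set.range fun j =>
        Groth.Agent.Lib.Helper52.CompDiffUnram.c k A (KaehlerDifferential.D k A
          (Groth.Agent.Lib.Helper52.CompDiffUnram.T k m A j)))) := by
      rw [Groth.Agent.Lib.Helper52.CompDiffLocal.full_span_iff]
      have hfun : (fun i => LocalizedModule.mkLinearMap p.primeCompl
          (AdicCompletion (IsLocalRing.maximalIdeal A) (KaehlerDifferential k A))
          (Groth.Agent.Lib.Helper52.CompDiffUnram.c k A (KaehlerDifferential.D k A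
            (Groth.Agent.Lib.Helper52.CompDiffUnram.T k m A i)))) =
          fun i => LocalizedModule.mkLinearMap p.primeCompl
          (AdicCompletion (IsLocalRing.maximalIdeal A) (KaehlerDifferential k A))
          (AdicCompletion.of (IsLocalRing.maximalIdeal A) (KaehlerDifferential k A)
            (KaehlerDifferential.D k A ((u i : A) * x i))) := by
        funext i
        have : Groth.Agent.Lib.Helper52.CompDiffUnram.T k m A i = (u i : A) * x i := hφX i
        rw [this]
      rw [hfun]
      exact hu
    exact ⟨φ.toRingHom.toAlgebra, htower, hloc, hfinA,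
      Groth.Agent.Lib.Helper52.CompDiffUnram.unramified_of_full k m A p hfull⟩
  · rintro ⟨inst1, inst2, -, hfin, hunr⟩
    have hfull := Groth.Agent.Lib.Helper52.CompDiffUnram.full_of_unramified k m A p hunr
    rw [Groth.Agent.Lib.Helper52.CompDiffLocal.full_span_iff] at hfull
    exact ⟨_, hfull⟩

end Groth.Agent.S5054
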