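import Groth.Statements.S5057
import Mathlib.AlgebraicGeometry.IdealSheaf.Subscheme

set_option autoImplicit false
open CategoryTheory CategoryTheory.Limits AlgebraicGeometry
universe u
open Hensel

namespace Groth.Agent.S5057

/-- Let i : S₀ ⟶ S be a closed immersion such that for every finite morphism g : S' ⟶ S every
open-closed subset of S' ×_S S₀ is the inverse image under the first projection of exactly one
open-closed subset of S'. Then for every finite morphism g : S' ⟶ S, every open subset of S'
containing the image of S' ×_S S₀ is all of S'. -/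
theorem result {S S₀ : Scheme.{u}} (i : S₀ ⟶ S) [IsClosedImmersion i]
    (ha : ∀ (S' : Scheme.{u}) (g : S' ⟶ S), IsFinite g →
      ∀ V : Set ↥(pullback g i), IsClopen V → ∃! U : Set ↥S', IsClopen U ∧ (pullback.fst g i).base ⁻¹' U = V)
    {S' : Scheme.{u}} (g : S' ⟶ S) [IsFinite g] (U : Set ↥S') (hU : IsOpen U)
    (hU₀ : Set.range (pullback.fst g i).base ⊆ U) : U = Set.univ := by
  let Zc : TopologicalSpace.Closeds S' := ⟨Uᶜ, hU.isClosed_compl⟩
  let I := Scheme.IdealSheafData.vanishingIdeal Zc
  have hrange : Set.range I.subschemeι = Uᶜ := by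
    rw [Scheme.IdealSheafData.range_subschemeι, Scheme.IdealSheafData.coe_support_vanishingIdeal]
    rfl
  have hempty : IsEmpty ↥(pullback (I.subschemeι ≫ g) i) := by
    refine ⟨fun w => ?_⟩
    let m : pullback (I.subschemeι ≫ g) i ⟶ pullback g i :=
      pullback.lift (pullback.fst _ _ ≫ I.subschemeι) (pullback.snd _ _)
        (by rw [Category.assoc, pullback.condition])
    have hm : m ≫ pullback.fst g i = pullback.fst _ _ ≫ I.subschemeι := pullback.lift_fst _ _ _
    have h1 : I.subschemeι ((pullback.fst (I.subschemeι ≫ g) i) w) ∈ U := by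
      apply hU₀
      refine ⟨m w, ?_⟩
      rw [← Scheme.Hom.comp_apply, hm, Scheme.Hom.comp_apply]
    have h2 : I.subschemeι ((pullback.fst (I.subschemeι ≫ g) i) w) ∈ Uᶜ := by
      rw [← hrange]
      exact ⟨_, rfl⟩
    exact h2 h1
  obtain ⟨U', -, huniq⟩ := ha I.subscheme (I.subschemeι ≫ g) inferInstance ∅ isClopen_empty
  have e1 := huniq ∅ ⟨isClopen_empty, Set.eq_empty_of_isEmpty _⟩
  have e2 := huniq Set.univ ⟨isClopen_univ, Set.eq_empty_of_isEmpty _⟩
  have hsub : IsEmpty ↥I.subscheme := by
    rw [← Set.univ_eq_empty_iff, e2, e1]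
  have : Uᶜ = ∅ := by
    rw [← hrange]
    exact Set.range_eq_empty _
  rwa [Set.compl_empty_iff] at this

end Groth.Agent.S5057
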