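import Groth.Statements.S5058
-- import your own Groth.Agent.* helpers here
import Groth.Agent.Lib.Helper50.Descent8
import Groth.Agent.Lib.Helper50.FGLimZ
import Groth.Agent.Lib.Helper87.HensNoeth
import Groth.Agent.Lib.Helper87.HensUP

set_option autoImplicit false
open CategoryTheory CategoryTheory.Limits AlgebraicGeometry
universe u
open Hensel

namespace Groth.Agent.S5058

open Groth.Agent.Lib.Helper50 Groth.Agent.Lib.Helper87.Hens in
/-- ring-theoretic core: for a finitely generated subring `S` of a henselian local ring `A`, the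
henselization of the localization of `S` at the contraction of the maximal ideal is a Noetherian
henselian local ring through which `S → A` factors via a local homomorphism. -/
theorem exists_noeth_hens (A : Type u) [CommRing A] [HenselianLocalRing A] (S : Subalgebra ℤ A)
    (hS : S.FG) :
    ∃ (A₀ : Type u) (_ : CommRing A₀) (_ : HenselianLocalRing A₀) (_ : IsNoetherianRing A₀)
      (φ : A₀ →+* A) (_ : IsLocalHom φ) (θ : S →+* A₀), φ.comp θ = S.val.toRingHom := by
  classical
  have : Algebra.FiniteType ℤ S := ⟨(Subalgebra.fg_top S).mpr hS⟩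
  have : IsNoetherianRing S := Algebra.FiniteType.isNoetherianRing ℤ S
  let p : Ideal S := (IsLocalRing.maximalIdeal A).comap S.val.toRingHom
  have hp : p.IsPrime := Ideal.comap_isPrime _ _
  let R := Localization.AtPrime p
  have : IsNoetherianRing R := IsLocalization.isNoetherianRing p.primeCompl R inferInstance
  have hunit : ∀ y : p.primeCompl, IsUnit (S.val.toRingHom y) := by
    intro y
    by_contra h
    exact y.2 ((IsLocalRing.mem_maximalIdeal _).mpr h)
  let ψ : R →+* A := IsLocalization.lift (M := p.primeCompl) hunit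
  have hψ : ψ.comp (algebraMap S R) = S.val.toRingHom := IsLocalization.lift_comp hunit
  have hψloc : IsLocalHom ψ := by
    constructor
    intro x hx
    obtain ⟨a, s, rfl⟩ := IsLocalization.exists_mk'_eq p.primeCompl x
    have h1 : ψ (IsLocalization.mk' R a s) * S.val.toRingHom s = S.val.toRingHom a := by
      have : IsLocalization.mk' R a s * algebraMap S R s = algebraMap S R a :=
        IsLocalization.mk'_spec _ _ _
      have h2 := congrArg ψ this
      rw [map_mul] at h2
      have h3 : ∀ z : S, ψ (algebraMap S R z) = S.val.toRingHom z := fun z => congr($hψ z)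
      rwa [h3, h3] at h2
    have h4 : IsUnit (S.val.toRingHom a) := by
      rw [← h1]
      exact hx.mul (hunit s)
    have h5 : a ∈ p.primeCompl := by
      intro ha
      exact ((IsLocalRing.mem_maximalIdeal _).mp ha) h4
    exact (IsLocalization.AtPrime.isUnit_mk'_iff R p a s).mpr h5
  obtain ⟨φ, hφ, -⟩ := (isHenselization_Hh R).universal A ψ hψloc
  have hφ' : φ.comp (algebraMap R (Hh R)) = ψ := hφ
  have : IsLocalHom φ := by
    have hle := maximalIdeal_le_comap_of_comp_eq (S := Hh R) H.map_maximalIdeal ψ φ hφ'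
    exact ((IsLocalRing.local_hom_TFAE φ).out 0 3 rfl rfl).mpr hle
  refine ⟨Hh R, inferInstance, inferInstance, Hh.isNoetherianRing R, φ, inferInstance,
    (algebraMap R (Hh R)).comp (algebraMap S R), ?_⟩
  rw [← RingHom.comp_assoc, hφ', hψ]

open Groth.Agent.Lib.Helper50 Groth.Agent.Lib.Helper50.Descent in

/-- Let A be a henselian local ring and f : X ⟶ Spec A a morphism of finite presentation. Then there
exist a Noetherian henselian local ring A₀, a local ring homomorphism φ : A₀ → A, a morphism of
finite type f₀ : X₀ ⟶ Spec A₀ and a cartesian square exhibiting X as the base change of X₀ along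
Spec φ. -/
theorem result (A : Type u) [CommRing A] [HenselianLocalRing A]
    {X : Scheme.{u}} (f : X ⟶ Spec (CommRingCat.of A)) [LocallyOfFinitePresentation f] [QuasiCompact f] [QuasiSeparated f] :
    ∃ (A₀ : Type u) (_ : CommRing A₀) (_ : HenselianLocalRing A₀) (_ : IsNoetherianRing A₀) (φ : A₀ →+* A) (_ : IsLocalHom φ)
      (X₀ : Scheme.{u}) (f₀ : X₀ ⟶ Spec (CommRingCat.of A₀)) (g : X ⟶ X₀),
      LocallyOfFiniteType f₀ ∧ QuasiCompact f₀ ∧ IsPullback g f f₀ (Spec.map (CommRingCat.ofHom φ)) := by
  have : CompactSpace X := QuasiCompact.compactSpace_of_compactSpace f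
  have : QuasiSeparatedSpace X := quasiSeparatedSpace_of_quasiSeparated f
  have : ∀ i, QuasiSeparatedSpace ((fgSpecDiagramZ A).obj i) := fun i => inferInstance
  have hf' : LocallyOfFinitePresentation (show X ⟶ (fgSpecConeZ A).pt from f) := ‹_›
  obtain ⟨i, X₁, f₁, q, h1, h2, h3, hsq⟩ :=
    descends_of_finitePresentation (fgSpecDiagramZ A) (fgSpecConeZ A) (isLimitFgSpecConeZ A)
      (show X ⟶ (fgSpecConeZ A).pt from f)
  obtain ⟨S⟩ := i
  obtain ⟨A₀, _, _, _, φ, hφ, θ, hθ⟩ := exists_noeth_hens A S.1 S.2
  have f₁' : X₁ ⟶ Spec (CommRingCat.of S.1) := f₁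
  have hsq' : IsPullback q f f₁ (Spec.map (CommRingCat.ofHom S.1.val.toRingHom)) := hsq
  have hcomp : Spec.map (CommRingCat.ofHom φ) ≫ Spec.map (CommRingCat.ofHom θ) =
      Spec.map (CommRingCat.ofHom S.1.val.toRingHom) := by
    rw [← Spec.map_comp, ← CommRingCat.ofHom_comp, hθ]
  let t : Spec (CommRingCat.of A₀) ⟶ (fgSpecDiagramZ A).obj (Opposite.op S) :=
    Spec.map (CommRingCat.ofHom θ)
  let g : X ⟶ pullback f₁ t :=
    pullback.lift q (f ≫ Spec.map (CommRingCat.ofHom φ)) (by
      rw [hsq'.w, Category.assoc]; congr 1; exact hcomp.symm)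
  refine ⟨A₀, inferInstance, inferInstance, inferInstance, φ, hφ, pullback f₁ t,
    pullback.snd f₁ t, g, ?_, ?_, ?_⟩
  · have : LocallyOfFiniteType f₁ := inferInstance
    infer_instance
  · have : QuasiCompact f₁ := by
      exact HasAffineProperty.iff_of_isAffine.mpr h2
    infer_instance
  · refine IsPullback.of_right ?_ (pullback.lift_snd _ _ _) (IsPullback.of_hasPullback f₁ t)
    have e1 : g ≫ pullback.fst f₁ t = q := pullback.lift_fst _ _ _
    rw [e1]
    have e2 : Spec.map (CommRingCat.ofHom φ) ≫ t = Spec.map (CommRingCat.ofHom S.1.val.toRingHom) :=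
      hcomp
    rw [e2]
    exact hsq'

end Groth.Agent.S5058
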