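import Groth.Statements.S5059
import Groth.Agent.Lib.Helper3.NormalFlat
-- import your own Groth.Agent.* helpers here

set_option autoImplicit false
universe u
open CInt

namespace Groth.Agent.S5059

open Groth.Agent.Lib.Helper3.EC

/-- The one-module statement. -/
theorem one_piece (A : Type u) [CommRing A] [IsNoetherianRing A]
    (R : Ideal A) {n : ℕ} (f : Fin n → A) (hrad : ∀ i, f i ∈ (⊥ : Ideal A).jacobson)
    (hreg : RingTheory.Sequence.IsWeaklyRegular (A ⧸ R) (List.ofFn f))
    (X : Type u) [AddCommGroup X] [Module A X] [Module.Finite A X] :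
    Module.Flat (A ⧸ R) (X ⧸ (R • (⊤ : Submodule A X))) ↔
      Module.Flat (A ⧸ (R ⊔ Ideal.span (Set.range f)))
        ((X ⧸ (R • (⊤ : Submodule A X))) ⧸ ((R ⊔ Ideal.span (Set.range f)) •
          (⊤ : Submodule A (X ⧸ (R • (⊤ : Submodule A X)))))) ∧
      RingTheory.Sequence.IsWeaklyRegular (X ⧸ (R • (⊤ : Submodule A X))) (List.ofFn f) := by
  have htors : Module.IsTorsionBySet A (X ⧸ (R • (⊤ : Submodule A X))) R :=
    Module.isTorsionBySet_quotient_ideal_smul X R
  have hlist : Ideal.ofList (List.ofFn f) = Ideal.span (Set.range f) := by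
    unfold Ideal.ofList
    congr 1
    ext x
    simp [List.mem_ofFn]
  have hmain := main (List.ofFn f) R (X ⧸ (R • (⊤ : Submodule A X))) htors
    (fun r hr => by
      obtain ⟨i, rfl⟩ := List.mem_ofFn.mp hr
      exact hrad i) hreg
  rw [hlist] at hmain
  rw [flat_quotient_iff_ec, flat_quotient_iff_ec, hmain]
  have hsm : (R ⊔ Ideal.span (Set.range f)) • (⊤ : Submodule A (X ⧸ (R • (⊤ : Submodule A X)))) =
      Ideal.span (Set.range f) • (⊤ : Submodule A (X ⧸ (R • (⊤ : Submodule A X)))) := by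
    rw [Submodule.sup_smul]
    have : R • (⊤ : Submodule A (X ⧸ (R • (⊤ : Submodule A X)))) = ⊥ := by
      rw [eq_bot_iff, Submodule.smul_le]
      intro r hr m _
      rw [Submodule.mem_bot]
      exact @htors m ⟨r, hr⟩
    rw [this, bot_sup_eq]
  rw [ec_congr_iff (Submodule.quotEquivOfEq _ _ hsm)]

/-- a) iff c) in the Noetherian case: let A be a Noetherian ring, R an ideal of A, f_1, …, f_n elements
of the Jacobson radical of A whose images form a regular sequence on A/R, Q = R + (f_1, …, f_n), and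
M a finitely generated A-module. Then every graded piece R^k M / R^(k+1) M is flat over A/R if and
only if, for every k, (R^k M / R^(k+1) M) ⊗ A/Q is flat over A/Q and f_1, …, f_n is a regular
sequence on R^k M / R^(k+1) M. -/
theorem result (A : Type u) [CommRing A] [IsNoetherianRing A]
    (R : Ideal A) {n : ℕ} (f : Fin n → A) (hrad : ∀ i, f i ∈ (⊥ : Ideal A).jacobson)
    (hreg : RingTheory.Sequence.IsWeaklyRegular (A ⧸ R) (List.ofFn f))
    (M : Type u) [AddCommGroup M] [Module A M] [Module.Finite A M] :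
    EGA4.IsNormallyFlat R M ↔
      ∀ k : ℕ, Module.Flat (A ⧸ (R ⊔ Ideal.span (Set.range f))) ((↥(R ^ k • (⊤ : Submodule A M)) ⧸ (R • (⊤ : Submodule A ↥(R ^ k • (⊤ : Submodule A M))))) ⧸ ((R ⊔ Ideal.span (Set.range f)) • (⊤ : Submodule A (↥(R ^ k • (⊤ : Submodule A M)) ⧸ (R • (⊤ : Submodule A ↥(R ^ k • (⊤ : Submodule A M)))))))) ∧
        RingTheory.Sequence.IsWeaklyRegular (↥(R ^ k • (⊤ : Submodule A M)) ⧸ (R • (⊤ : Submodule A ↥(R ^ k • (⊤ : Submodule A M))))) (List.ofFn f) := by
  unfold EGA4.IsNormallyFlat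
  exact forall_congr' fun k => one_piece A R f hrad hreg _

end Groth.Agent.S5059
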