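import Groth.Statements.S5060
import Groth.Agent.Lib.Helper76.AssCore
import Groth.Agent.Lib.Helper76.NormalFlatBack
import Groth.Agent.Lib.Helper76.NormalFlatLoc

set_option autoImplicit false
universe u
open CInt

namespace Groth.Agent.S5060

open Groth.Agent.Lib.Helper3.EC Groth.Agent.Lib.Helper76.NormalFlatStep
  Groth.Agent.Lib.Helper76.NormalFlatBack Groth.Agent.Lib.Helper76.AssCore
  Groth.Agent.Lib.Helper76.NormalFlatLoc RingTheory.Sequence in
theorem normallyFlat_sup_ofList {A : Type u} [CommRing A] [IsNoetherianRing A] (M : Type u)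
    [AddCommGroup M] [Module A M] [Module.Finite A M] :
    ∀ (l : List A) (K : Ideal A), (∀ r ∈ l, r ∈ (⊥ : Ideal A).jacobson) →
    IsWeaklyRegular (A ⧸ K) l → EGA4.IsNormallyFlat K M →
    EGA4.IsNormallyFlat (K ⊔ Ideal.ofList l) M
  | [], K, _, _, h => by
    rw [Ideal.ofList_nil, sup_bot_eq]
    exact h
  | x :: l, K, hjac, hWR, h => by
    rw [isWeaklyRegular_cons_iff] at hWR
    obtain ⟨hxK, hWR'⟩ := hWR
    have hWR'' : IsWeaklyRegular (A ⧸ (K ⊔ Ideal.span {x})) l :=
      (LinearEquiv.isWeaklyRegular_congr (quotSMulTopQuotEquiv K x) l).mp hWR'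
    have h3 : K ⊔ Ideal.ofList (x :: l) = K ⊔ Ideal.span {x} ⊔ Ideal.ofList l := by
      rw [Ideal.ofList_cons, sup_assoc]
    rw [h3]
    exact normallyFlat_sup_ofList M l (K ⊔ Ideal.span {x})
      (fun r hr => hjac r (List.mem_cons_of_mem _ hr)) hWR''
      (normallyFlat_sup_span K x M (hjac x List.mem_cons_self) hxK h)

open Groth.Agent.Lib.Helper3.EC Groth.Agent.Lib.Helper76.NormalFlatStep
  Groth.Agent.Lib.Helper76.NormalFlatBack Groth.Agent.Lib.Helper76.AssCore
  Groth.Agent.Lib.Helper76.NormalFlatLoc RingTheory.Sequence in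
theorem backward {A : Type u} [CommRing A] [IsNoetherianRing A] (R : Ideal A) (l : List A)
    (hjac : ∀ r ∈ l, r ∈ (⊥ : Ideal A).jacobson) (hreg : IsWeaklyRegular (A ⧸ R) l)
    (M : Type u) [AddCommGroup M] [Module A M] [Module.Finite A M]
    (hQ : EGA4.IsNormallyFlat (R ⊔ Ideal.ofList l) M)
    (hloc : ∀ (p : Ideal (A ⧸ R)) [p.IsPrime],
      p ∈ associatedPrimes (A ⧸ R)
        ((A ⧸ R) ⧸ Ideal.map (Ideal.Quotient.mk R) (R ⊔ Ideal.ofList l)) →
      ∀ k : ℕ, Module.Flat (Localization.AtPrime p) (LocalizedModule p.primeCompl (N R M k))) :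
    EGA4.IsNormallyFlat R M := by
  intro k
  rw [flat_quotient_iff_ec]
  induction k using Nat.strong_induction_on with
  | _ k ih =>
    have hQ' : ∀ i ≤ k, EC (R ⊔ Ideal.ofList l) (N (R ⊔ Ideal.ofList l) M i) :=
      fun i _ => (flat_quotient_iff_ec _ _).mp (hQ i)
    have hEC := main_claim M l R hjac hreg k (fun i hi => ih i hi) hQ'
    have htors : Module.IsTorsionBySet A (N R M k) R :=
      Module.isTorsionBySet_quotient_ideal_smul _ _
    have hsm : ∀ (a : A) (t : N R M k), (Ideal.Quotient.mk R a) • t = a • t :=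
      fun a t => algebraMap_smul (A ⧸ R) a t
    have hWR : IsWeaklyRegular (N R M k) l := by
      apply isWeaklyRegular_of_local l R (N R M k) htors hjac hreg hEC
      intro P hP i hi t ht
      obtain ⟨hprime, hass, hRP⟩ :=
        map_mem_associatedPrimes R (R ⊔ Ideal.ofList l) le_sup_left P hP
      haveI := hprime
      haveI := hloc (P.map (Ideal.Quotient.mk R)) hass k
      have hB : IsWeaklyRegular (A ⧸ R) (l.map (Ideal.Quotient.mk R)) :=
        (isWeaklyRegular_map_algebraMap_iff (A ⧸ R) (A ⧸ R) l).mpr hreg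
      have hWRloc := isWeaklyRegular_localizedModule_of_flat (N := N R M k)
        (P.map (Ideal.Quotient.mk R)) (l.map (Ideal.Quotient.mk R)) hB
      have hi' : i < (l.map (Ideal.Quotient.mk R)).length := by simpa using hi
      have ht' : (l.map (Ideal.Quotient.mk R))[i] • t ∈
          Ideal.ofList ((l.map (Ideal.Quotient.mk R)).take i) •
            (⊤ : Submodule (A ⧸ R) (N R M k)) := by
        rw [← List.map_take, ← Ideal.map_ofList, mem_smul_top_quot_iff, List.getElem_map, hsm]
        exact ht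
      obtain ⟨sb, hsb, hst⟩ := local_elementwise (P.map (Ideal.Quotient.mk R))
        (l.map (Ideal.Quotient.mk R)) hWRloc i hi' t ht'
      obtain ⟨s, rfl⟩ := Ideal.Quotient.mk_surjective sb
      refine ⟨s, fun hs => hsb (Ideal.mem_map_of_mem _ hs), ?_⟩
      rw [← List.map_take, ← Ideal.map_ofList, mem_smul_top_quot_iff, hsm] at hst
      exact hst
    exact (main l R (N R M k) htors hjac hreg).mpr ⟨hEC, hWR⟩

/-- a) iff d) in the Noetherian case: let A be a Noetherian ring, R an ideal, f_1, …, f_n elements of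
the Jacobson radical of A forming a regular sequence on A/R and on every R^k/R^(k+1), Q = R + (f_1,
…, f_n), and M a finitely generated A-module. Then every R^k M / R^(k+1) M is flat over A/R if and
only if every Q^k M / Q^(k+1) M is flat over A/Q and, for every associated prime p of A/Q viewed as
an (A/R)-module, every localized piece (R^k M / R^(k+1) M)_p is flat over (A/R)_p. -/
theorem result (A : Type u) [CommRing A] [IsNoetherianRing A]
    (R : Ideal A) {n : ℕ} (f : Fin n → A) (hrad : ∀ i, f i ∈ (⊥ : Ideal A).jacobson)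
    (hreg : RingTheory.Sequence.IsWeaklyRegular (A ⧸ R) (List.ofFn f))
    (hreggr : ∀ k : ℕ, RingTheory.Sequence.IsWeaklyRegular (↥(R ^ k • (⊤ : Submodule A A)) ⧸ (R • (⊤ : Submodule A ↥(R ^ k • (⊤ : Submodule A A))))) (List.ofFn f))
    (M : Type u) [AddCommGroup M] [Module A M] [Module.Finite A M] :
    EGA4.IsNormallyFlat R M ↔
      EGA4.IsNormallyFlat (R ⊔ Ideal.span (Set.range f)) M ∧
        ∀ (p : Ideal (A ⧸ R)) [p.IsPrime],
          p ∈ associatedPrimes (A ⧸ R) ((A ⧸ R) ⧸ Ideal.map (Ideal.Quotient.mk R) (R ⊔ Ideal.span (Set.range f))) →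
            ∀ k : ℕ, Module.Flat (Localization.AtPrime p) (LocalizedModule p.primeCompl (↥(R ^ k • (⊤ : Submodule A M)) ⧸ (R • (⊤ : Submodule A ↥(R ^ k • (⊤ : Submodule A M)))))) := by
  have hl : Ideal.span (Set.range f) = Ideal.ofList (List.ofFn f) := by
    congr 1
    ext r
    simp [List.mem_ofFn]
  have hjac : ∀ r ∈ List.ofFn f, r ∈ (⊥ : Ideal A).jacobson := by
    intro r hr
    rw [List.mem_ofFn] at hr
    obtain ⟨i, rfl⟩ := hr
    exact hrad i
  rw [hl]
  constructor
  · intro h
    refine ⟨normallyFlat_sup_ofList M _ R hjac hreg h, ?_⟩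
    intro p _ _ k
    haveI : Module.Flat (A ⧸ R) (↥(R ^ k • (⊤ : Submodule A M)) ⧸
        (R • (⊤ : Submodule A ↥(R ^ k • (⊤ : Submodule A M))))) := h k
    infer_instance
  · rintro ⟨hQ, hloc⟩
    exact backward R (List.ofFn f) hjac hreg M hQ hloc

end Groth.Agent.S5060
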