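import Groth.Statements.S5066
-- import your own Groth.Agent.* helpers here
import Groth.Agent.Lib.Helper58.HenselPairIdem
import Groth.Agent.Lib.Helper58.HenselPairUniq

set_option autoImplicit false
universe u
open Hensel

namespace Groth.Agent.S5066

/-- Case of a local ring, affine étale schemes: a local ring A with maximal ideal m is henselian if and
only if, for every finite A-algebra C and every étale A-algebra E, composing with the projection C →
C/mC is a bijection from the set of A-algebra homomorphisms E → C onto the set of A-algebra
homomorphisms E → C/mC. -/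
theorem result (A : Type u) [CommRing A] [IsLocalRing A] :
    HenselianLocalRing A ↔
      ∀ (C : Type u) [CommRing C] [Algebra A C] [Module.Finite A C] (E : Type u) [CommRing E] [Algebra A E] [Algebra.Etale A E],
        Function.Bijective (fun φ : E →ₐ[A] C =>
          (Ideal.Quotient.mkₐ A (Ideal.map (algebraMap A C) (IsLocalRing.maximalIdeal A))).comp φ) := by
  constructor
  · intro hA C _ _ _ E _ _ _
    have hint : Algebra.IsIntegral A C := Algebra.IsIntegral.of_finite A C
    have hC : HenselianRing C ((IsLocalRing.maximalIdeal A).map (algebraMap A C)) :=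
      Groth.Agent.Lib.Helper58.HenselPair.henselian_of_isIntegral
        (A := A) (I := IsLocalRing.maximalIdeal A) C
    constructor
    · intro φ ψ h
      exact Groth.Agent.Lib.Helper58.HenselPair.etale_lift_unique _ hC.jac φ ψ h
    · intro σ
      exact Groth.Agent.Lib.Helper58.HenselPair.exists_etale_lift_rel _ σ
  · intro H
    have hid : (IsLocalRing.maximalIdeal A).map (algebraMap A A) = IsLocalRing.maximalIdeal A :=
      Ideal.map_id _
    have hH : HenselianRing A (IsLocalRing.maximalIdeal A) := by
      rw [Groth.Agent.Lib.Helper58.HenselPair.henselian_iff_etale_lift]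
      intro A' _ _ _ σ
      let e : (A ⧸ IsLocalRing.maximalIdeal A) ≃ₐ[A]
          (A ⧸ (IsLocalRing.maximalIdeal A).map (algebraMap A A)) :=
        Ideal.quotientEquivAlgOfEq A hid.symm
      obtain ⟨τ, hτ⟩ := (H A A').2 ((e : _ →ₐ[A] _).comp σ)
      refine ⟨τ, ?_⟩
      ext x
      have h1 := DFunLike.congr_fun hτ x
      simp only [AlgHom.comp_apply, Ideal.Quotient.mkₐ_eq_mk] at h1 ⊢
      have h2 : e (Ideal.Quotient.mk _ (τ x)) = Ideal.Quotient.mk _ (τ x) := rfl
      apply e.injective
      rw [h2, h1]
      rfl
    exact { is_henselian := fun f hf a₀ h₁ h₂ => hH.is_henselian f hf a₀ h₁ (h₂.map _) }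

end Groth.Agent.S5066
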