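import Groth.Statements.S5067
import Mathlib

set_option autoImplicit false
open CategoryTheory AlgebraicGeometry
universe u
open Unram

namespace Groth.Agent.S5067

open AlgebraicGeometry CategoryTheory Limits TopologicalSpace


theorem locallyQuasiFinite_of_etale {X Y : Scheme.{u}} (f : X ⟶ Y) [Etale f] :
    LocallyQuasiFinite f := by
  have h1 : affineLocally RingHom.Etale f := by
    rw [← HasRingHomProperty.eq_affineLocally @Etale]; infer_instance
  rw [HasRingHomProperty.eq_affineLocally @LocallyQuasiFinite]
  have hle : ∀ {R S : Type u} [CommRing R] [CommRing S] {φ : R →+* S},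
      RingHom.Etale φ → RingHom.QuasiFinite φ := by
    intro R S _ _ φ hφ
    algebraize [φ]
    show Algebra.QuasiFinite R S
    infer_instance
  exact affineLocally_le hle _ h1

open Scheme.Pullback in
/-- two points of a fibre product with the same projections agree, if the residue field map of
`g` at the second projection is an isomorphism. -/
theorem eq_of_fst_eq_of_snd_eq {X Y S : Scheme.{u}} (f : X ⟶ S) (g : Y ⟶ S)
    (z₁ z₂ : ↑(pullback f g)) (h1 : pullback.fst f g z₁ = pullback.fst f g z₂)
    (h2 : pullback.snd f g z₁ = pullback.snd f g z₂)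
    (hiso : IsIso (g.residueFieldMap (pullback.snd f g z₂))) : z₁ = z₂ := by
  apply carrierEquiv.injective
  apply carrierEquiv_eq_iff.mpr
  have e : Triplet.ofPoint z₁ = Triplet.ofPoint z₂ := Triplet.ext h1 h2
  refine ⟨e, ?_⟩
  have hsub : Subsingleton (Spec (Triplet.ofPoint z₂).tensor) := by
    have : IsIso ((S.residueFieldCongr (Triplet.ofPoint z₂).hy).inv ≫
        g.residueFieldMap (Triplet.ofPoint z₂).y) := by
      have : IsIso (g.residueFieldMap (Triplet.ofPoint z₂).y) := hiso
      infer_instance
    have hinl : IsIso (Triplet.ofPoint z₂).tensorInl :=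
      (IsPushout.of_hasPushout _ _).isIso_inl_of_isIso this
    let e' : Spec (Triplet.ofPoint z₂).tensor ≅ Spec (X.residueField (Triplet.ofPoint z₂).x) :=
      asIso (Spec.map (Triplet.ofPoint z₂).tensorInl)
    exact e'.hom.homeomorph.injective.subsingleton
  exact hsub.elim _ _


theorem s5067_aux {X Y : Scheme.{u}} [IsIntegral X] [IsIntegral Y]
    (f : X ⟶ Y) [Etale f] [IsSeparated f] (hgen : f.base (genericPoint X) = genericPoint Y)
    (hbir : Function.Bijective (f.residueFieldMap (genericPoint X)).hom) : IsOpenImmersion f := by
  have hlqf : LocallyQuasiFinite f := locallyQuasiFinite_of_etale f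
  -- Step 1: the only point over η_Y is η_X
  have h1 : ∀ x : X, f x = genericPoint Y → x = genericPoint X := by
    intro x hx
    have hdisc : _root_.IsDiscrete (f ⁻¹' {genericPoint Y}) := f.isDiscrete_preimage_singleton _
    have := hdisc.to_subtype
    have hspec : genericPoint X ⤳ x := genericPoint_specializes x
    let a : ↥(f ⁻¹' {genericPoint Y}) := ⟨genericPoint X, hgen⟩
    let b : ↥(f ⁻¹' {genericPoint Y}) := ⟨x, hx⟩
    have hab : a ⤳ b := (subtype_specializes_iff a b).mpr hspec
    have := hab.eq
    exact (congrArg Subtype.val this).symm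
  have hiso : IsIso (f.residueFieldMap (genericPoint X)) := by
    rw [ConcreteCategory.isIso_iff_bijective]
    exact hbir
  -- Step 2: the diagonal is surjective
  have hΔ : Surjective (pullback.diagonal f) := by
    constructor
    intro z
    let π : pullback f f ⟶ Y := pullback.fst f f ≫ f
    have hπ : GeneralizingMap π := Flat.generalizingMap π
    obtain ⟨z₀, hz₀, hπz₀⟩ := hπ (genericPoint_specializes (π z))
    have hfst : pullback.fst f f z₀ = genericPoint X := h1 _ (by
      rw [← Scheme.Hom.comp_apply]; exact hπz₀)
    have hsnd : pullback.snd f f z₀ = genericPoint X := h1 _ (by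
      rw [← Scheme.Hom.comp_apply, ← pullback.condition]; exact hπz₀)
    have hz₀' : z₀ = pullback.diagonal f (genericPoint X) := by
      apply eq_of_fst_eq_of_snd_eq f f
      · rw [hfst, ← Scheme.Hom.comp_apply, pullback.diagonal_fst]; rfl
      · rw [hsnd, ← Scheme.Hom.comp_apply, pullback.diagonal_snd]; rfl
      · have : pullback.snd f f (pullback.diagonal f (genericPoint X)) = genericPoint X := by
          rw [← Scheme.Hom.comp_apply, pullback.diagonal_snd]; rfl
        rw [this]
        exact hiso
    have hcl : IsClosed (Set.range (pullback.diagonal f)) :=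
      (pullback.diagonal f).isClosedEmbedding.isClosed_range
    exact hz₀.mem_closed hcl ⟨_, hz₀'.symm⟩
  have hΔiso : IsIso (pullback.diagonal f) :=
    (isIso_iff_isOpenImmersion_and_surjective _).mpr ⟨inferInstance, hΔ⟩
  have hfstiso : IsIso (pullback.fst f f) := by
    have : pullback.fst f f = inv (pullback.diagonal f) := by
      rw [← Category.comp_id (inv (pullback.diagonal f)), IsIso.eq_inv_comp, pullback.diagonal_fst]
    rw [this]; infer_instance
  have hmono : Mono f := (IsKernelPair.of_hasPullback f).mono_of_isIso_fst
  exact IsOpenImmersion.of_flat_of_mono f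

/-- Let f : X ⟶ Y be an étale separated morphism of integral schemes which maps the generic point of X
to the generic point of Y and induces a bijection between the residue fields of the generic points
(f is birational). Then f is an open immersion. -/
theorem result {X Y : Scheme.{u}} [IsIntegral X] [IsIntegral Y]
    (f : X ⟶ Y) [Etale f] [IsSeparated f] (hgen : f.base (genericPoint X) = genericPoint Y)
    (hbir : Function.Bijective (f.residueFieldMap (genericPoint X)).hom) : IsOpenImmersion f := by
  exact s5067_aux f hgen hbir

end Groth.Agent.S5067
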