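import Groth.Statements.S5073
import Mathlib.RingTheory.Ideal.MinimalPrime.Noetherian
import Mathlib.RingTheory.Ideal.Operations

set_option autoImplicit false
universe u
open EGA418

namespace Groth.Agent.S5073

lemma ker_not_le (A : Type u) [CommRing A] (p : Ideal A) [p.IsPrime] (q : Ideal A)
    (hq : q ∈ minimalPrimes A) (hqp : ¬ q ≤ p) :
    ¬ RingHom.ker (algebraMap A (Localization.AtPrime p)) ≤ q := by
  intro hK
  haveI : q.IsPrime := hq.1.1
  have hdisj : Disjoint ((⊥ : Ideal A) : Set A) (p.primeCompl ⊔ q.primeCompl : Submonoid A) := by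
    rw [Set.disjoint_left]
    intro y hy hyT
    have hy0 : y = 0 := hy
    subst hy0
    obtain ⟨s, hs, t, ht, hst⟩ := Submonoid.mem_sup.1 hyT
    have htK : t ∈ RingHom.ker (algebraMap A (Localization.AtPrime p)) := by
      rw [RingHom.mem_ker, IsLocalization.map_eq_zero_iff p.primeCompl]
      exact ⟨⟨s, hs⟩, hst⟩
    exact ht (hK htK)
  obtain ⟨q₀, hq₀, -, hq₀d⟩ := Ideal.exists_le_prime_disjoint (⊥ : Ideal A) _ hdisj
  have h1 : q₀ ≤ q := by
    intro y hy
    by_contra hyq
    exact Set.disjoint_left.1 hq₀d hy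
      ((le_sup_right : q.primeCompl ≤ p.primeCompl ⊔ q.primeCompl) hyq)
  have h2 : q₀ ≤ p := by
    intro y hy
    by_contra hyp
    exact Set.disjoint_left.1 hq₀d hy
      ((le_sup_left : p.primeCompl ≤ p.primeCompl ⊔ q.primeCompl) hyp)
  exact hqp ((hq.2 ⟨hq₀, bot_le⟩ h1).trans h2)

/-- Let A be a Noetherian local ring, p a prime ideal and x an element of A. Then there is an element x'
of A whose image in A_p equals that of x and which belongs to no minimal prime ideal of A not
contained in p. -/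
theorem result (A : Type u) [CommRing A] [IsNoetherianRing A] [IsLocalRing A]
    (p : Ideal A) [p.IsPrime] (x : A) :
    ∃ x' : A, algebraMap A (Localization.AtPrime p) x' = algebraMap A (Localization.AtPrime p) x ∧
      ∀ q ∈ minimalPrimes A, ¬ q ≤ p → x' ∉ q := by
  classical
  set K := RingHom.ker (algebraMap A (Localization.AtPrime p)) with hKdef
  have hfin : (minimalPrimes A).Finite := minimalPrimes.finite_of_isNoetherianRing A
  let S : Finset (Ideal A) := hfin.toFinset.filter (fun q => ¬ q ≤ p)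
  have hS : ∀ q, q ∈ S ↔ q ∈ minimalPrimes A ∧ ¬ q ≤ p := by
    intro q
    simp [S]
  have hex : ∀ q ∈ S, ∃ a ∈ K, a ∉ q ∧ ∀ q' ∈ S, q' ≠ q → a ∈ q' := by
    intro q hq
    obtain ⟨hqmin, hqp⟩ := (hS q).1 hq
    haveI : q.IsPrime := hqmin.1.1
    by_contra hcon
    push_neg at hcon
    have hle : K * (S.erase q).prod id ≤ q := by
      intro a ha
      by_contra haq
      have haK : a ∈ K := Ideal.mul_le_left ha
      obtain ⟨q', hq'S, hq'ne, haq'⟩ := hcon a haK haq
      apply haq'
      have h1 : a ∈ (S.erase q).prod id := Ideal.mul_le_right ha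
      have h2 : a ∈ (S.erase q).inf id := Ideal.prod_le_inf h1
      exact (Finset.inf_le (Finset.mem_erase.2 ⟨hq'ne, hq'S⟩) : (S.erase q).inf id ≤ id q') h2
    rcases (Ideal.IsPrime.mul_le inferInstance).1 hle with h | h
    · exact ker_not_le A p q hqmin hqp h
    · obtain ⟨q', hq', hq'q⟩ := (Ideal.IsPrime.prod_le inferInstance).1 h
      obtain ⟨hne, hq'S⟩ := Finset.mem_erase.1 hq'
      have hq'min := ((hS q').1 hq'S).1
      exact hne (le_antisymm hq'q (hqmin.2 ⟨hq'min.1.1, bot_le⟩ hq'q))
  choose! a haK hanot hain using hex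
  let T : Finset (Ideal A) := S.filter (fun q => x ∈ q)
  refine ⟨x + ∑ q ∈ T, a q, ?_, ?_⟩
  · rw [map_add, map_sum]
    have : ∀ q ∈ T, algebraMap A (Localization.AtPrime p) (a q) = 0 := fun q hq =>
      haK q (Finset.mem_filter.1 hq).1
    rw [Finset.sum_eq_zero this, add_zero]
  · intro q hqmin hqp hx'
    have hqS : q ∈ S := (hS q).2 ⟨hqmin, hqp⟩
    by_cases hxq : x ∈ q
    · have hqT : q ∈ T := Finset.mem_filter.2 ⟨hqS, hxq⟩
      rw [← Finset.add_sum_erase T a hqT] at hx'
      have hrest : ∑ q' ∈ T.erase q, a q' ∈ q := by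
        refine Submodule.sum_mem _ (fun q' hq' => ?_)
        obtain ⟨hne, hq'T⟩ := Finset.mem_erase.1 hq'
        exact hain q' (Finset.mem_filter.1 hq'T).1 q hqS (Ne.symm hne)
      apply hanot q hqS
      have : a q = (x + (a q + ∑ q' ∈ T.erase q, a q')) - x - ∑ q' ∈ T.erase q, a q' := by ring
      rw [this]
      exact q.sub_mem (q.sub_mem hx' hxq) hrest
    · apply hxq
      have hsum : ∑ q' ∈ T, a q' ∈ q := by
        refine Submodule.sum_mem _ (fun q' hq' => ?_)
        have hq'S := (Finset.mem_filter.1 hq').1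
        have hne : q ≠ q' := by
          rintro rfl
          exact hxq (Finset.mem_filter.1 hq').2
        exact hain q' hq'S q hqS hne
      have : x = (x + ∑ q' ∈ T, a q') - ∑ q' ∈ T, a q' := by ring
      rw [this]
      exact q.sub_mem hx' hsum

end Groth.Agent.S5073
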