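import Groth.Statements.S5076
import Mathlib

set_option autoImplicit false
universe u
open Unram

namespace Groth.Agent.S5076

section

open IsLocalRing

theorem isLocalization_of_ge {R S : Type*} [CommRing R] [CommRing S] [Algebra R S]
    (M N : Submonoid R) [IsLocalization M S] (h₁ : N ≤ M)
    (h₂ : ∀ m ∈ M, ∃ c : R, m * c ∈ N) : IsLocalization N S where
  map_units x := IsLocalization.map_units S (⟨x.1, h₁ x.2⟩ : M)
  surj z := by
    obtain ⟨⟨x, m⟩, hx⟩ := IsLocalization.surj M z
    obtain ⟨c, hc⟩ := h₂ m.1 m.2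
    refine ⟨⟨x * c, ⟨m.1 * c, hc⟩⟩, ?_⟩
    simp only at hx ⊢
    rw [map_mul, ← mul_assoc, hx, map_mul]
  exists_of_eq {x y} h := by
    obtain ⟨m, hm⟩ := (IsLocalization.eq_iff_exists M S).mp h
    obtain ⟨c, hc⟩ := h₂ m.1 m.2
    refine ⟨⟨m.1 * c, hc⟩, ?_⟩
    simp only
    rw [mul_comm m.1 c, mul_assoc, hm, mul_assoc]

theorem K_generic {B C : Type u} [CommRing B] [CommRing C] [Algebra B C] [Algebra.IsIntegral B C]
    (r : Ideal C) [r.IsMaximal] (u : B)
    (hu₁ : ∀ r' : Ideal C, r'.IsMaximal → r' ≠ r → algebraMap B C u ∈ r')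
    (hu₂ : algebraMap B C u ∉ r)
    (n : Ideal B) (hn : n = r.comap (algebraMap B C)) :
    ∀ s : C, s ∉ r → ∃ (c : C) (t : B), t ∉ n ∧ s * c = algebraMap B C t := by
  intro s hs
  by_contra hcon
  push Not at hcon
  have hmax : n.IsMaximal := by
    rw [hn]; exact Ideal.isMaximal_comap_of_isIntegral_of_isMaximal r
  have hprime : n.IsPrime := hmax.isPrime
  have hle : (Ideal.span {s}).comap (algebraMap B C) ≤ n := by
    intro t ht
    rw [Ideal.mem_comap, Ideal.mem_span_singleton'] at ht
    obtain ⟨c, hc⟩ := ht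
    by_contra htn
    exact hcon c t htn (by rw [mul_comm]; exact hc)
  obtain ⟨Q, hQs, hQp, hQn⟩ := Ideal.exists_ideal_over_prime_of_isIntegral n (Ideal.span {s}) hle
  have hQmax : Q.IsMaximal := by
    apply Ideal.isMaximal_of_isIntegral_of_isMaximal_comap (R := B) Q
    rw [hQn]; exact hmax
  by_cases hQr : Q = r
  · apply hs
    rw [← hQr]
    exact hQs (Ideal.mem_span_singleton_self s)
  · have h1 : algebraMap B C u ∈ Q := hu₁ Q hQmax hQr
    have h2 : u ∈ n := by rw [← hQn]; exact h1
    rw [hn] at h2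
    exact hu₂ h2

theorem bij_generic {B C : Type u} [CommRing B] [CommRing C] [Algebra B C] [Module.Finite B C]
    (hinj : Function.Injective (algebraMap B C))
    (r : Ideal C) [r.IsPrime] (n : Ideal B) [n.IsPrime]
    (hn : n = r.comap (algebraMap B C))
    (hK : ∀ s : C, s ∉ r → ∃ (c : C) (t : B), t ∉ n ∧ s * c = algebraMap B C t)
    (Bn Cr : Type u) [CommRing Bn] [CommRing Cr] [Algebra B Bn] [Algebra C Cr]
    [IsLocalization.AtPrime Bn n] [IsLocalization.AtPrime Cr r]
    (φ : Bn →+* Cr) (hφ : ∀ b : B, φ (algebraMap B Bn b) = algebraMap C Cr (algebraMap B C b))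
    (J : Ideal Bn) (hJ : J ≤ Ideal.jacobson ⊥)
    (hgen : ∀ y : Cr, ∃ b : Bn, y - φ b ∈ Ideal.map φ J) :
    Function.Bijective φ := by
  constructor
  · rw [injective_iff_map_eq_zero]
    intro x hx
    obtain ⟨b, t, rfl⟩ := IsLocalization.exists_mk'_eq n.primeCompl x
    have h1 : φ (algebraMap B Bn b) = 0 := by
      have h2 : algebraMap B Bn b = IsLocalization.mk' Bn b t * algebraMap B Bn t := by
        rw [IsLocalization.mk'_spec]
      rw [h2, map_mul, hx, zero_mul]
    rw [hφ] at h1
    obtain ⟨s, hs⟩ := (IsLocalization.map_eq_zero_iff r.primeCompl Cr _).mp h1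
    obtain ⟨c, t', ht', hst⟩ := hK s.1 s.2
    have h3 : algebraMap B C (t' * b) = 0 := by
      rw [map_mul, ← hst, mul_comm s.1 c, mul_assoc, hs, mul_zero]
    have h4 : t' * b = 0 := hinj (by rw [h3, map_zero])
    rw [IsLocalization.mk'_eq_zero_iff]
    exact ⟨⟨t', ht'⟩, h4⟩
  · let _ : Algebra Bn Cr := φ.toAlgebra
    let _ : Algebra B Cr := ((algebraMap C Cr).comp (algebraMap B C)).toAlgebra
    have : IsScalarTower B C Cr := IsScalarTower.of_algebraMap_eq (fun x => rfl)
    have : IsScalarTower B Bn Cr := IsScalarTower.of_algebraMap_eq (fun x => (hφ x).symm)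
    have hloc : IsLocalization (Algebra.algebraMapSubmonoid C n.primeCompl) Cr := by
      apply isLocalization_of_ge r.primeCompl
      · rintro _ ⟨t, ht, rfl⟩
        intro hmem
        apply ht
        rw [hn]
        exact hmem
      · intro s hs
        obtain ⟨c, t, ht, hst⟩ := hK s hs
        exact ⟨c, t, ht, hst.symm⟩
    have hfin : Module.Finite Bn Cr := Module.Finite.of_isLocalization B C n.primeCompl
    have htop : (⊤ : Submodule Bn Cr) ≤ LinearMap.range (Algebra.linearMap Bn Cr) := by
      apply Submodule.le_of_le_smul_of_le_jacobson_bot hfin.fg_top hJ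
      intro y _
      obtain ⟨b, hb⟩ := hgen y
      rw [Ideal.smul_top_eq_map]
      have : y = φ b + (y - φ b) := by ring
      rw [this]
      exact Submodule.add_mem_sup ⟨b, rfl⟩ hb
    intro y
    obtain ⟨b, hb⟩ := htop (Submodule.mem_top (x := y))
    exact ⟨b, hb⟩

theorem main_sub (A C : Type u) [CommRing A] [IsLocalRing A]
    [CommRing C] [Algebra A C] [Module.Finite A C] (r : Ideal C) [r.IsMaximal] (u : C)
    (hu₁ : ∀ r' : Ideal C, r'.IsMaximal → r' ≠ r → u ∈ r') (hu₂ : u ∉ r)
    (hu₃ : Subalgebra.toSubmodule (Algebra.adjoin A {algebraMap C (Localization.AtPrime r) u}) ⊔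
        Submodule.restrictScalars A (Ideal.map (algebraMap A (Localization.AtPrime r)) (IsLocalRing.maximalIdeal A)) = ⊤)
    (B : Subalgebra A C) (huB : u ∈ B)
    (hmapB : ∀ a ∈ Algebra.adjoin A {algebraMap C (Localization.AtPrime r) u},
      ∃ b₀ ∈ B, algebraMap C (Localization.AtPrime r) b₀ = a) :
    Function.Bijective (Localization.localRingHom (Ideal.comap B.val.toRingHom r) r
      B.val.toRingHom rfl) := by
  have hfinBC : Module.Finite B C := Module.Finite.of_restrictScalars_finite A B C
  have hintBC : Algebra.IsIntegral B C := inferInstance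
  have hmA : ∀ a ∈ IsLocalRing.maximalIdeal A, algebraMap A C a ∈ r := by
    have h1 : (r.comap (algebraMap A C)).IsMaximal :=
      Ideal.isMaximal_comap_of_isIntegral_of_isMaximal r
    have h2 := IsLocalRing.eq_maximalIdeal h1
    intro a ha
    rw [← h2] at ha
    exact ha
  have hK := K_generic (B := B) (C := C) r ⟨u, huB⟩ hu₁ hu₂ (Ideal.comap B.val.toRingHom r) rfl
  have hnmax : (Ideal.comap B.val.toRingHom r).IsMaximal :=
    Ideal.isMaximal_comap_of_isIntegral_of_isMaximal (R := B) r
  apply bij_generic (B := B) (C := C) Subtype.val_injective r (Ideal.comap B.val.toRingHom r) rfl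
    hK (Localization.AtPrime (Ideal.comap B.val.toRingHom r)) (Localization.AtPrime r) _
    (fun b => Localization.localRingHom_to_map _ _ _ rfl b)
    (Ideal.map (algebraMap B (Localization.AtPrime (Ideal.comap B.val.toRingHom r)))
      (Ideal.comap B.val.toRingHom r))
  · rw [Localization.AtPrime.map_eq_maximalIdeal]
    exact IsLocalRing.maximalIdeal_le_jacobson ⊥
  · intro y
    have hy : y ∈ (⊤ : Submodule A (Localization.AtPrime r)) := Submodule.mem_top
    rw [← hu₃] at hy
    obtain ⟨a, ha, z, hz, hyz⟩ := Submodule.mem_sup.mp hy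
    obtain ⟨b₀, hb₀, hab⟩ := hmapB a ha
    refine ⟨algebraMap B _ ⟨b₀, hb₀⟩, ?_⟩
    rw [Localization.localRingHom_to_map]
    have h3 : y - algebraMap C (Localization.AtPrime r) b₀ = z := by
      rw [hab, ← hyz, add_sub_cancel_left]
    change y - algebraMap C (Localization.AtPrime r) b₀ ∈ _
    rw [h3]
    have hz' : z ∈ Ideal.map (algebraMap A (Localization.AtPrime r))
      (IsLocalRing.maximalIdeal A) := hz
    refine (Ideal.map_le_iff_le_comap.mpr ?_) hz'
    intro a ha
    rw [Ideal.mem_comap]
    have h4 : algebraMap A (Localization.AtPrime r) a =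
        Localization.localRingHom (Ideal.comap B.val.toRingHom r) r B.val.toRingHom rfl
          (algebraMap B _ (algebraMap A B a)) := by
      rw [Localization.localRingHom_to_map, IsScalarTower.algebraMap_apply A C]
      rfl
    rw [h4]
    apply Ideal.mem_map_of_mem
    apply Ideal.mem_map_of_mem
    exact hmA a ha

end

/-- Let A be a local ring with maximal ideal m, C a finite A-algebra, r a maximal ideal of C, and u an
element of C which lies in every maximal ideal of C other than r, does not lie in r, and whose image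
generates C_r modulo m C_r as an A-algebra. Let B = A[u] be the A-subalgebra of C generated by u and
n the inverse image of r in B. Then the canonical homomorphism B_n → C_r is bijective. -/
theorem result (A C : Type u) [CommRing A] [IsLocalRing A]
    [CommRing C] [Algebra A C] [Module.Finite A C] (r : Ideal C) [r.IsMaximal] (u : C)
    (hu₁ : ∀ r' : Ideal C, r'.IsMaximal → r' ≠ r → u ∈ r') (hu₂ : u ∉ r)
    (hu₃ : Subalgebra.toSubmodule (Algebra.adjoin A {algebraMap C (Localization.AtPrime r) u}) ⊔
        Submodule.restrictScalars A (Ideal.map (algebraMap A (Localization.AtPrime r)) (IsLocalRing.maximalIdeal A)) = ⊤) :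
    Function.Bijective (Localization.localRingHom (Ideal.comap (Algebra.adjoin A ({u} : Set C)).val.toRingHom r) r
      (Algebra.adjoin A ({u} : Set C)).val.toRingHom rfl) := by
  have huB : u ∈ Algebra.adjoin A ({u} : Set C) := Algebra.subset_adjoin rfl
  have hmapB : ∀ a ∈ Algebra.adjoin A {algebraMap C (Localization.AtPrime r) u},
      ∃ b₀ ∈ Algebra.adjoin A ({u} : Set C), algebraMap C (Localization.AtPrime r) b₀ = a := by
    intro a ha
    rw [← show (IsScalarTower.toAlgHom A C (Localization.AtPrime r)) u =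
      algebraMap C (Localization.AtPrime r) u from rfl, ← AlgHom.map_adjoin_singleton] at ha
    obtain ⟨b₀, hb₀, rfl⟩ := ha
    exact ⟨b₀, hb₀, rfl⟩
  exact main_sub A C r u hu₁ hu₂ hu₃ _ huB hmapB

end Groth.Agent.S5076
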