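import Groth.Statements.S5077
import Mathlib

set_option autoImplicit false
universe u
open Unram

namespace Groth.Agent.S5077

section

open Polynomial IsLocalRing

theorem exists_monic_basic (A B : Type u) [CommRing A] [IsLocalRing A]
    [CommRing B] [Algebra A B] [Module.Finite A B] (u : B)
    (hu : Algebra.adjoin A ({u} : Set B) = ⊤) :
    ∃ F : Polynomial A, F.Monic ∧ aeval u F = 0 ∧
      ∀ g : Polynomial A, aeval u g = 0 → ∀ i, (g %ₘ F).coeff i ∈ maximalIdeal A := by
  classical
  obtain ⟨m, hm⟩ : ∃ m : Ideal A, m = maximalIdeal A := ⟨_, rfl⟩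
  obtain ⟨mB, hmB⟩ : ∃ mB : Ideal B, mB = m.map (algebraMap A B) := ⟨_, rfl⟩
  obtain ⟨N, hN⟩ : ∃ N : ℕ → Submodule A B,
      ∀ e, N e = Submodule.span A (Set.range (fun i : Fin e => u ^ (i : ℕ))) := ⟨_, fun _ => rfl⟩
  have hNmem : ∀ e i, i < e → u ^ i ∈ N e := by
    intro e i hi
    rw [hN]
    exact Submodule.subset_span ⟨⟨i, hi⟩, rfl⟩
  have hmBsmul : ∀ (a : A) (b : B), a ∈ m → a • b ∈ mB := by
    intro a b ha
    rw [Algebra.smul_def, hmB]
    exact Ideal.mul_mem_right _ _ (Ideal.mem_map_of_mem _ ha)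
  have hex : ∃ e, u ^ e ∈ N e ⊔ mB.restrictScalars A := by
    obtain ⟨P, hP, hPu⟩ := Algebra.IsIntegral.isIntegral (R := A) u
    refine ⟨P.natDegree, Submodule.mem_sup_left ?_⟩
    have h1 := congrArg (aeval u) hP.as_sum
    rw [aeval_def, hPu] at h1
    simp only [map_add, map_pow, aeval_X, map_sum, map_mul, aeval_C] at h1
    have h2 : u ^ P.natDegree = -∑ i ∈ Finset.range P.natDegree,
        (algebraMap A B) (P.coeff i) * u ^ i := by
      rw [eq_neg_iff_add_eq_zero]; exact h1.symm
    rw [h2]
    apply Submodule.neg_mem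
    apply Submodule.sum_mem
    intro i hi
    rw [← Algebra.smul_def]
    exact Submodule.smul_mem _ _ (hNmem _ _ (Finset.mem_range.mp hi))
  obtain ⟨d, hd, hmin⟩ : ∃ d, u ^ d ∈ N d ⊔ mB.restrictScalars A ∧
      ∀ e < d, u ^ e ∉ N e ⊔ mB.restrictScalars A :=
    ⟨Nat.find hex, Nat.find_spec hex, fun e he => Nat.find_min hex he⟩
  have hpow : ∀ e, u ^ e ∈ N d ⊔ mB.restrictScalars A := by
    intro e
    induction e using Nat.strong_induction_on with
    | _ e ih =>
      by_cases he : e < d
      · exact Submodule.mem_sup_left (hNmem _ _ he)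
      · push Not at he
        have hmul : ∀ y ∈ Submodule.span A (Set.range (fun i : Fin d => u ^ (i : ℕ))),
            u ^ (e - d) * y ∈ N d ⊔ mB.restrictScalars A := by
          intro y hy
          induction hy using Submodule.span_induction with
          | mem x hx =>
            obtain ⟨i, rfl⟩ := hx
            rw [← pow_add]
            exact ih _ (by have := i.2; omega)
          | zero => rw [mul_zero]; exact Submodule.zero_mem _
          | add x y _ _ hx hy => rw [mul_add]; exact Submodule.add_mem _ hx hy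
          | smul a x _ hx => rw [mul_smul_comm]; exact Submodule.smul_mem _ _ hx
        obtain ⟨y, hy, z, hz, hyz⟩ := Submodule.mem_sup.mp hd
        have h3 : u ^ e = u ^ (e - d) * y + u ^ (e - d) * z := by
          rw [← mul_add, hyz, ← pow_add]; congr 1; omega
        rw [h3]
        apply Submodule.add_mem
        · rw [hN] at hy
          exact hmul y hy
        · exact Submodule.mem_sup_right (mB.mul_mem_left _ hz)
  have hT : ∀ b : B, b ∈ N d ⊔ mB.restrictScalars A := by
    intro b
    have hb : b ∈ Algebra.adjoin A ({u} : Set B) := by rw [hu]; trivial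
    rw [Algebra.adjoin_singleton_eq_range_aeval] at hb
    obtain ⟨p, rfl⟩ := hb
    rw [AlgHom.toRingHom_eq_coe, RingHom.coe_coe, aeval_eq_sum_range]
    apply Submodule.sum_mem
    intro i _
    exact Submodule.smul_mem _ _ (hpow i)
  have hNtop : N d = ⊤ := by
    apply top_le_iff.mp
    apply Submodule.le_of_le_smul_of_le_jacobson_bot (I := m) Module.Finite.fg_top
      (hm ▸ IsLocalRing.maximalIdeal_le_jacobson ⊥)
    rw [Ideal.smul_top_eq_map, ← hmB]
    intro b _
    exact hT b
  have hud : u ^ d ∈ N d := by rw [hNtop]; trivial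
  rw [hN, Submodule.mem_span_range_iff_exists_fun] at hud
  obtain ⟨a, ha⟩ := hud
  have hdeg : degree (∑ i : Fin d, C (a i) * X ^ (i : ℕ)) < d := degree_sum_fin_lt a
  have hF : (X ^ d - ∑ i : Fin d, C (a i) * X ^ (i : ℕ)).Monic := monic_X_pow_sub hdeg
  have hFdeg : degree (X ^ d - ∑ i : Fin d, C (a i) * X ^ (i : ℕ)) = d := by
    rw [degree_sub_eq_left_of_degree_lt, degree_X_pow]
    rw [degree_X_pow]; exact hdeg
  have hFu : aeval u (X ^ d - ∑ i : Fin d, C (a i) * X ^ (i : ℕ)) = 0 := by
    simp only [map_sub, map_pow, aeval_X, map_sum, map_mul, aeval_C]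
    rw [← ha, sub_eq_zero]
    apply Finset.sum_congr rfl
    intro i _
    rw [Algebra.smul_def]
  refine ⟨_, hF, hFu, ?_⟩
  have hL : ∀ e ≤ d, ∀ c : ℕ → A, ∑ i ∈ Finset.range e, c i • u ^ i ∈ mB →
      ∀ i < e, c i ∈ m := by
    intro e
    induction e with
    | zero => intro _ c _ i hi; omega
    | succ e ih =>
      intro he c hc i hi
      rw [Finset.sum_range_succ] at hc
      by_cases hce : c e ∈ m
      · have h4 : ∑ i ∈ Finset.range e, c i • u ^ i ∈ mB := by
          have := mB.sub_mem hc (hmBsmul (c e) (u ^ e) hce)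
          rwa [add_sub_cancel_right] at this
        rcases Nat.lt_succ_iff_lt_or_eq.mp hi with h | h
        · exact ih (by omega) c h4 i h
        · rw [h]; exact hce
      · exfalso
        rw [hm, IsLocalRing.notMem_maximalIdeal] at hce
        obtain ⟨v, hv⟩ := hce.exists_left_inv
        apply hmin e (by omega)
        have h5 : u ^ e = v • (∑ i ∈ Finset.range e, c i • u ^ i + c e • u ^ e) -
            v • ∑ i ∈ Finset.range e, c i • u ^ i := by
          rw [smul_add, add_sub_cancel_left, smul_smul, hv, one_smul]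
        rw [h5]
        apply Submodule.sub_mem
        · apply Submodule.mem_sup_right
          exact Submodule.smul_mem (mB.restrictScalars A) v hc
        · apply Submodule.mem_sup_left
          apply Submodule.smul_mem
          apply Submodule.sum_mem
          intro i hi
          exact Submodule.smul_mem _ _ (hNmem _ _ (Finset.mem_range.mp hi))
  intro g hg i
  obtain ⟨F, hFdef⟩ : ∃ F : A[X], F = X ^ d - ∑ i : Fin d, C (a i) * X ^ (i : ℕ) := ⟨_, rfl⟩
  rw [← hFdef] at hF hFdeg hFu ⊢
  rw [← hm]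
  have hr : aeval u (g %ₘ F) = 0 := by
    have h6 := congrArg (aeval u) (modByMonic_add_div g F)
    rw [map_add, map_mul, hFu, zero_mul, add_zero, hg] at h6
    exact h6
  have hrdeg : degree (g %ₘ F) < d := by
    rw [← hFdeg]; exact degree_modByMonic_lt g hF
  by_cases hid : d ≤ i
  · rw [(degree_lt_iff_coeff_zero _ _).mp hrdeg i hid]
    exact m.zero_mem
  · push Not at hid
    have hnd : (g %ₘ F).natDegree < d := by
      by_cases h0 : g %ₘ F = 0
      · rw [h0, natDegree_zero]; omega
      · exact (natDegree_lt_iff_degree_lt h0).mpr hrdeg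
    apply hL d le_rfl (g %ₘ F).coeff _ i hid
    rw [← aeval_eq_sum_range' hnd, hr]
    exact mB.zero_mem

theorem deriv_notMem (A B : Type u) [CommRing A] [IsLocalRing A]
    [CommRing B] [Algebra A B] [Module.Finite A B] (u : B)
    (hu : Algebra.adjoin A ({u} : Set B) = ⊤) (F : Polynomial A)
    (hFu : aeval u F = 0)
    (hmod : ∀ g : Polynomial A, aeval u g = 0 → ∀ i, (g %ₘ F).coeff i ∈ maximalIdeal A)
    (n : Ideal B) [n.IsMaximal] (hn : Algebra.IsUnramifiedAt A n) :
    aeval u (derivative F) ∉ n := by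
  intro hmem
  have hmn : ∀ a ∈ maximalIdeal A, algebraMap A B a ∈ n := by
    have h1 : (n.comap (algebraMap A B)).IsMaximal :=
      Ideal.isMaximal_comap_of_isIntegral_of_isMaximal n
    have h2 := IsLocalRing.eq_maximalIdeal h1
    intro a ha
    rw [← h2] at ha
    exact ha
  have hcoef : ∀ r : A[X], (∀ i, r.coeff i ∈ maximalIdeal A) → aeval u r ∈ n := by
    intro r hr
    rw [aeval_eq_sum_range]
    apply Ideal.sum_mem
    intro i _
    rw [Algebra.smul_def]
    exact Ideal.mul_mem_right _ _ (hmn _ (hr i))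
  have hder : ∀ g : A[X], aeval u g = 0 → aeval u (derivative g) ∈ n := by
    intro g hg
    have h1 := congrArg (fun p => aeval u (derivative p)) (modByMonic_add_div g F)
    simp only [derivative_mul, map_add, map_mul, hFu, zero_mul, add_zero] at h1
    rw [← h1]
    apply Ideal.add_mem
    · apply hcoef
      intro i
      rw [coeff_derivative]
      exact Ideal.mul_mem_right _ _ (hmod g hg (i + 1))
    · exact Ideal.mul_mem_right _ _ hmem
  have hsurj : Function.Surjective (aeval u : A[X] →ₐ[A] B) := by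
    rw [← AlgHom.range_eq_top, ← Algebra.adjoin_singleton_eq_range_aeval]
    exact hu
  let κ := B ⧸ n
  let _ : Field κ := Ideal.Quotient.field n
  let φ₀ : B →ₐ[A] DualNumber κ :=
    (TrivSqZeroExt.inlAlgHom A κ κ).comp (Ideal.Quotient.mkₐ A n)
  have hφ₀ : ∀ b, φ₀ b = TrivSqZeroExt.inl (Ideal.Quotient.mk n b) := fun b => rfl
  let x₀ : DualNumber κ := φ₀ u + DualNumber.eps
  have heps : (DualNumber.eps : DualNumber κ) ^ 2 = 0 := by
    rw [pow_two]; exact DualNumber.eps_mul_eps
  have hψ : ∀ g : A[X], aeval x₀ g = φ₀ (aeval u g) + φ₀ (aeval u (derivative g)) *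
      DualNumber.eps := by
    intro g
    rw [aeval_add_of_sq_eq_zero g (φ₀ u) DualNumber.eps heps, aeval_algHom_apply,
      aeval_algHom_apply]
  have hker : RingHom.ker (aeval u : A[X] →ₐ[A] B).toRingHom ≤
      RingHom.ker (aeval x₀ : A[X] →ₐ[A] DualNumber κ).toRingHom := by
    intro g hg
    rw [RingHom.mem_ker] at hg ⊢
    have hg' : aeval u g = 0 := hg
    change aeval x₀ g = 0
    rw [hψ, hg', map_zero, zero_add, hφ₀, (Ideal.Quotient.eq_zero_iff_mem).mpr (hder g hg'),
      TrivSqZeroExt.inl_zero, zero_mul]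
  let ψB : B →ₐ[A] DualNumber κ := AlgHom.liftOfSurjective (aeval u) hsurj (aeval x₀) hker
  have hψB : ∀ g : A[X], ψB (aeval u g) = aeval x₀ g := fun g =>
    AlgHom.liftOfSurjective_apply _ hsurj _ hker g
  have hfst : ∀ b : B, (ψB b).fst = Ideal.Quotient.mk n b := by
    intro b
    obtain ⟨g, rfl⟩ := hsurj b
    rw [hψB, hψ, hφ₀, hφ₀]
    simp
  have hunit1 : ∀ y : n.primeCompl, IsUnit (ψB y) := by
    intro y
    rw [TrivSqZeroExt.isUnit_iff_isUnit_fst, hfst, isUnit_iff_ne_zero, Ne,
      Ideal.Quotient.eq_zero_iff_mem]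
    exact y.2
  have hunit2 : ∀ y : n.primeCompl, IsUnit (φ₀ y) := by
    intro y
    rw [TrivSqZeroExt.isUnit_iff_isUnit_fst, hφ₀, TrivSqZeroExt.fst_inl, isUnit_iff_ne_zero, Ne,
      Ideal.Quotient.eq_zero_iff_mem]
    exact y.2
  let g₁ : Localization.AtPrime n →ₐ[A] DualNumber κ :=
    IsLocalization.liftAlgHom (M := n.primeCompl) (f := ψB) hunit1
  let g₂ : Localization.AtPrime n →ₐ[A] DualNumber κ :=
    IsLocalization.liftAlgHom (M := n.primeCompl) (f := φ₀) hunit2
  have hg₁ : ∀ b : B, g₁ (algebraMap B (Localization.AtPrime n) b) = ψB b := fun b =>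
    IsLocalization.lift_eq _ b
  have hg₂ : ∀ b : B, g₂ (algebraMap B (Localization.AtPrime n) b) = φ₀ b := fun b =>
    IsLocalization.lift_eq _ b
  have hnil : IsNilpotent (RingHom.ker (TrivSqZeroExt.fstHom κ κ κ : DualNumber κ →+* κ)) := by
    refine ⟨2, ?_⟩
    exact TrivSqZeroExt.kerIdeal_sq κ κ
  have hUn : Algebra.FormallyUnramified A (Localization.AtPrime n) := hn
  have heq : g₁ = g₂ := by
    apply Algebra.FormallyUnramified.ext' (TrivSqZeroExt.fstHom κ κ κ : DualNumber κ →+* κ)
      hnil g₁ g₂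
    have h3 : ((TrivSqZeroExt.fstHom κ κ κ : DualNumber κ →+* κ).comp
        (g₁ : Localization.AtPrime n →+* DualNumber κ)) =
        ((TrivSqZeroExt.fstHom κ κ κ : DualNumber κ →+* κ).comp
        (g₂ : Localization.AtPrime n →+* DualNumber κ)) := by
      apply IsLocalization.ringHom_ext n.primeCompl
      ext b
      simp only [RingHom.comp_apply, RingHom.coe_coe]
      rw [hg₁, hg₂, hφ₀]
      exact hfst b
    intro x
    exact RingHom.congr_fun h3 x
  have h4 := congrArg (fun g => (g (algebraMap B (Localization.AtPrime n) u)).snd) heq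
  simp only [hg₁, hg₂] at h4
  have h5 : ψB u = x₀ := by
    have := hψB X
    rwa [aeval_X, aeval_X] at this
  rw [h5, hφ₀] at h4
  simp [x₀, hφ₀] at h4

end

/-- Let A be a local ring and B a finite A-algebra generated by a single element u. Then there is a
monic polynomial F with coefficients in A such that F(u) = 0 and F'(u) does not belong to any
maximal ideal n of B at which B is unramified over A. -/
theorem result (A B : Type u) [CommRing A] [IsLocalRing A]
    [CommRing B] [Algebra A B] [Module.Finite A B] (u : B) (hu : Algebra.adjoin A ({u} : Set B) = ⊤) :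
    ∃ F : Polynomial A, F.Monic ∧ Polynomial.aeval u F = 0 ∧
      ∀ (n : Ideal B) [n.IsMaximal], Algebra.IsUnramifiedAt A n → Polynomial.aeval u (Polynomial.derivative F) ∉ n := by
  obtain ⟨F, hF, hFu, hmod⟩ := exists_monic_basic A B u hu
  exact ⟨F, hF, hFu, fun n _ hn => deriv_notMem A B u hu F hFu hmod n hn⟩

end Groth.Agent.S5077
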