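import Groth.Statements.S5078
import Mathlib.RingTheory.Ideal.Operations
import Mathlib.RingTheory.Finiteness.Cardinality

set_option autoImplicit false
universe u v
open Hensel

namespace Groth.Agent.S5078

section
variable {A : Type*} [CommRing A] (I : Ideal A)

lemma map_mem_pow_smul_top {M N : Type*} [AddCommGroup M] [Module A M] [AddCommGroup N] [Module A N]
    (f : M →ₗ[A] N) (n : ℕ) {x : M} (hx : x ∈ (I ^ n • ⊤ : Submodule A M)) :
    f x ∈ (I ^ n • ⊤ : Submodule A N) := by
  have h1 : f x ∈ (I ^ n • ⊤ : Submodule A M).map f := Submodule.mem_map_of_mem hx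
  rw [Submodule.map_smul''] at h1
  exact Submodule.smul_mono le_rfl le_top h1

lemma isAdicComplete_of_retract {M N : Type*} [AddCommGroup M] [Module A M] [AddCommGroup N]
    [Module A N] [IsAdicComplete I N] (i : M →ₗ[A] N) (r : N →ₗ[A] M)
    (h : ∀ x, r (i x) = x) : IsAdicComplete I M where
  haus' x hx := by
    have : i x = 0 := by
      apply IsHausdorff.haus (inferInstance : IsHausdorff I N)
      intro n
      rw [SModEq.zero]
      exact map_mem_pow_smul_top I i n (SModEq.zero.1 (hx n))
    rw [← h x, this, map_zero]
  prec' f hf := by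
    obtain ⟨L, hL⟩ := IsPrecomplete.prec (inferInstance : IsPrecomplete I N) (f := fun n => i (f n))
      (fun {m n} hmn => by
        rw [SModEq.sub_mem, ← map_sub]
        exact map_mem_pow_smul_top I i m (SModEq.sub_mem.1 (hf hmn)))
    refine ⟨r L, fun n => ?_⟩
    rw [SModEq.sub_mem]
    have := map_mem_pow_smul_top I r n (SModEq.sub_mem.1 (hL n))
    rwa [map_sub, h] at this

lemma isAdicComplete_pi {ι : Type*} [Fintype ι] [DecidableEq ι] {M : Type*} [AddCommGroup M]
    [Module A M] [IsAdicComplete I M] : IsAdicComplete I (ι → M) where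
  haus' x hx := by
    funext j
    apply IsHausdorff.haus (inferInstance : IsHausdorff I M)
    intro n
    rw [SModEq.zero]
    exact map_mem_pow_smul_top I (LinearMap.proj j : (ι → M) →ₗ[A] M) n (SModEq.zero.1 (hx n))
  prec' f hf := by
    have hj : ∀ j : ι, ∃ L : M, ∀ n, f n j ≡ L [SMOD (I ^ n • ⊤ : Submodule A M)] := by
      intro j
      apply IsPrecomplete.prec (inferInstance : IsPrecomplete I M)
      intro m n hmn
      rw [SModEq.sub_mem]
      exact map_mem_pow_smul_top I (LinearMap.proj j : (ι → M) →ₗ[A] M) m
        (SModEq.sub_mem.1 (hf hmn))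
    choose L hL using hj
    refine ⟨L, fun n => ?_⟩
    rw [SModEq.sub_mem]
    have : f n - L = ∑ j, (LinearMap.single A (fun _ => M) j) ((f n - L) j) := by
      funext k
      simp [Finset.sum_apply, Pi.single_apply]
    rw [this]
    refine Submodule.sum_mem _ (fun j _ => ?_)
    exact map_mem_pow_smul_top I _ n (SModEq.sub_mem.1 (hL j n))

end

/-- Let A be a ring, I an ideal such that A is I-adically separated and complete, and M a finitely
generated projective A-module. Then M is I-adically separated and complete. -/
theorem result {A : Type u} [CommRing A] (I : Ideal A) [IsAdicComplete I A]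
    (M : Type v) [AddCommGroup M] [Module A M] [Module.Finite A M] [Module.Projective A M] :
    IsAdicComplete I M := by
  classical
  obtain ⟨n, f, hf⟩ := Module.Finite.exists_fin' A M
  obtain ⟨s, hs⟩ := Module.projective_lifting_property f LinearMap.id hf
  haveI : IsAdicComplete I (Fin n → A) := isAdicComplete_pi I
  exact isAdicComplete_of_retract I s f (fun x => LinearMap.congr_fun hs x)

end Groth.Agent.S5078
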