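import Groth.Statements.S5081
import Mathlib
-- import your own Groth.Agent.* helpers here

set_option autoImplicit false
universe u
open Unram

namespace Groth.Agent.S5081

open Polynomial

section
variable {A B : Type u} [CommRing A] [CommRing B] [Algebra A B]
  (u : B) (F : Polynomial A)

lemma aeval_surj (hu : Algebra.adjoin A ({u} : Set B) = ⊤) (b : B) :
    ∃ p : A[X], aeval u p = b := by
  have : b ∈ (Algebra.adjoin A ({u} : Set B)) := by rw [hu]; trivial
  rw [Algebra.adjoin_singleton_eq_range_aeval] at this
  exact this

lemma part_a (hu : Algebra.adjoin A ({u} : Set B) = ⊤) (hF : aeval u F = 0) :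
    Ideal.span {aeval u (derivative F)} ≤ Module.annihilator B (KaehlerDifferential A B) := by
  rw [Ideal.span_le, Set.singleton_subset_iff, SetLike.mem_coe, Module.mem_annihilator]
  intro m
  have hm : m ∈ Submodule.span B (Set.range (KaehlerDifferential.D A B)) := by
    rw [KaehlerDifferential.span_range_derivation]; trivial
  induction hm using Submodule.span_induction with
  | mem x hx =>
    obtain ⟨b, rfl⟩ := hx
    obtain ⟨p, rfl⟩ := aeval_surj u hu b
    rw [Derivation.map_aeval, smul_smul, mul_comm, ← smul_smul, ← Derivation.map_aeval, hF, map_zero,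
      smul_zero]
  | zero => simp
  | add x y _ _ hx hy => rw [smul_add, hx, hy, add_zero]
  | smul a x _ hx => rw [smul_comm, hx, smul_zero]

variable (hu : Algebra.adjoin A ({u} : Set B) = ⊤)
  (hker : RingHom.ker (aeval u : A[X] →ₐ[A] B) = Ideal.span {F})

abbrev Quot' := B ⧸ Ideal.span {aeval u (derivative F)}

include hker in
lemma welldef (p q : A[X]) (h : aeval u p = aeval u q) :
    (Ideal.Quotient.mk (Ideal.span {aeval u (derivative F)}) (aeval u (derivative p)) : Quot' u F) =
      Ideal.Quotient.mk _ (aeval u (derivative q)) := by
  have hF : aeval u F = 0 := by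
    have : F ∈ RingHom.ker (aeval u : A[X] →ₐ[A] B) := by
      rw [hker]; exact Ideal.mem_span_singleton_self F
    exact this
  have hpq : p - q ∈ RingHom.ker (aeval u : A[X] →ₐ[A] B) := by
    rw [RingHom.mem_ker, map_sub, h, sub_self]
  rw [hker, Ideal.mem_span_singleton'] at hpq
  obtain ⟨r, hr⟩ := hpq
  rw [Ideal.Quotient.eq, ← map_sub, ← map_sub, ← hr, derivative_mul, map_add, map_mul, map_mul, hF,
    mul_zero, zero_add]
  exact Ideal.mul_mem_left _ _ (Ideal.mem_span_singleton_self _)

noncomputable def dfun (b : B) : Quot' u F :=
  Ideal.Quotient.mk _ (aeval u (derivative (aeval_surj u hu b).choose))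

include hker in
lemma dfun_eq (p : A[X]) : dfun u F hu (aeval u p) =
    Ideal.Quotient.mk _ (aeval u (derivative p)) :=
  welldef u F hker _ _ (aeval_surj u hu (aeval u p)).choose_spec

noncomputable def der : Derivation A B (Quot' u F) where
  toFun := dfun u F hu
  map_add' x y := by
    obtain ⟨p, rfl⟩ := aeval_surj u hu x
    obtain ⟨q, rfl⟩ := aeval_surj u hu y
    rw [← map_add, dfun_eq u F hu hker, dfun_eq u F hu hker, dfun_eq u F hu hker, derivative_add,
      map_add, map_add]
  map_smul' a x := by
    obtain ⟨p, rfl⟩ := aeval_surj u hu x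
    rw [← map_smul, dfun_eq u F hu hker, dfun_eq u F hu hker, derivative_smul, map_smul]
    rfl
  map_one_eq_zero' := by
    change dfun u F hu 1 = 0
    rw [← map_one (aeval u : A[X] →ₐ[A] B), dfun_eq u F hu hker, derivative_one, map_zero, map_zero]
  leibniz' x y := by
    change dfun u F hu (x * y) = x • dfun u F hu y + y • dfun u F hu x
    obtain ⟨p, rfl⟩ := aeval_surj u hu x
    obtain ⟨q, rfl⟩ := aeval_surj u hu y
    rw [← map_mul, dfun_eq u F hu hker, dfun_eq u F hu hker, dfun_eq u F hu hker, derivative_mul,
      map_add, map_mul, map_mul, map_add]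
    simp only [Algebra.smul_def, Ideal.Quotient.algebraMap_eq, map_mul]
    ring

include hu hker in
lemma part_b :
    Module.annihilator B (KaehlerDifferential A B) ≤ Ideal.span {aeval u (derivative F)} := by
  intro b hb
  rw [Module.mem_annihilator] at hb
  have h1 := hb (KaehlerDifferential.D A B u)
  have h2 := congrArg (der u F hu hker).liftKaehlerDifferential h1
  rw [map_smul, Derivation.liftKaehlerDifferential_comp_D, map_zero] at h2
  have h3 : der u F hu hker u = 1 := by
    change dfun u F hu u = 1
    have := dfun_eq u F hu hker X
    rw [aeval_X, derivative_X, map_one, map_one] at this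
    exact this
  rw [h3, Algebra.smul_def, mul_one, Ideal.Quotient.algebraMap_eq, Ideal.Quotient.eq_zero_iff_mem] at h2
  exact h2

end

/-- Let B be a finite A-algebra generated by a single element u and F a polynomial with coefficients in
A such that F(u) = 0. Then the ideal generated by F'(u) is contained in the annihilator of the
module of differentials of B over A, and equals it when the kernel of the surjection A[T] → B
sending T to u is generated by F. -/
theorem result (A B : Type u) [CommRing A] [CommRing B] [Algebra A B]
    [Module.Finite A B] (u : B) (hu : Algebra.adjoin A ({u} : Set B) = ⊤) (F : Polynomial A) (hF : Polynomial.aeval u F = 0) :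
    Ideal.span {Polynomial.aeval u (Polynomial.derivative F)} ≤ Module.annihilator B (KaehlerDifferential A B) ∧
      (RingHom.ker (Polynomial.aeval u : Polynomial A →ₐ[A] B) = Ideal.span {F} →
        Module.annihilator B (KaehlerDifferential A B) = Ideal.span {Polynomial.aeval u (Polynomial.derivative F)}) := by
  refine ⟨part_a u F hu hF, fun hker ↦ le_antisymm (part_b u F hu hker) (part_a u F hu hF)⟩

end Groth.Agent.S5081
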