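import Groth.Statements.S5082
import Mathlib
import Groth.Agent.Lib.Helper65.CurveDiv
import Groth.Agent.Lib.Helper67.Depth
-- import your own Groth.Agent.* helpers here

set_option autoImplicit false
universe u
open CategoryTheory CategoryTheory.Limits AlgebraicGeometry TopologicalSpace
open Mero

namespace Groth.Agent.S5082

open Groth.Agent.Lib.Helper65.CurveDiv

theorem depth_zero_iff (A : Type u) [CommRing A] [IsLocalRing A] :
    LocCoh.depth A A = 0 ↔ ∀ r ∈ IsLocalRing.maximalIdeal A, ¬ IsSMulRegular A r := by
  rw [LocCoh.depth, Groth.Agent.Lib.Helper67.idealDepth_eq_zero_iff_forall]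
  constructor
  · exact fun h => h.2
  · intro h
    refine ⟨?_, h⟩
    rw [smul_eq_mul, Ideal.mul_top]
    exact (IsLocalRing.maximalIdeal.isMaximal A).ne_top

/-- a regular global section of `Spec A` corresponds to a regular element of `A`. -/
theorem isSMulRegular_of_regSub (A : Type u) [CommRing A]
    (a : Mero.regSub (Spec (CommRingCat.of A)) ⊤) :
    IsSMulRegular A ((Scheme.ΓSpecIso (CommRingCat.of A)).hom a.1) := by
  rw [isSMulRegular_iff_right_eq_zero_of_smul]
  intro c hc
  rw [smul_eq_mul] at hc
  have h1 : a.1 * (Scheme.ΓSpecIso (CommRingCat.of A)).inv c = 0 := by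
    have : (Scheme.ΓSpecIso (CommRingCat.of A)).hom (a.1 * (Scheme.ΓSpecIso (CommRingCat.of A)).inv c) = 0 := by
      rw [map_mul, Iso.inv_hom_id_apply]
      exact hc
    have h2 := congrArg (Scheme.ΓSpecIso (CommRingCat.of A)).inv this
    rwa [Iso.hom_inv_id_apply, map_zero] at h2
  have h3 : (Scheme.ΓSpecIso (CommRingCat.of A)).inv c = 0 := by
    apply TopCat.Presheaf.section_ext (Spec (CommRingCat.of A)).sheaf
    intro y hy
    change (Spec (CommRingCat.of A)).presheaf.germ ⊤ y hy _ = (Spec (CommRingCat.of A)).presheaf.germ ⊤ y hy 0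
    rw [map_zero]
    have h4 := congrArg ((Spec (CommRingCat.of A)).presheaf.germ ⊤ y hy) h1
    rw [map_mul, map_zero] at h4
    exact (mul_right_mem_nonZeroDivisors_eq_zero_iff (a.2 ⟨y, hy⟩)).mp (by rwa [mul_comm] at h4)
  have h5 := congrArg (Scheme.ΓSpecIso (CommRingCat.of A)).hom h3
  rwa [Iso.inv_hom_id_apply, map_zero] at h5


/-- Let A be a Noetherian local ring. Then the group of divisors of Spec A is trivial (every divisor
equals the unit divisor, divisors being written multiplicatively) if and only if A has depth 0, that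
is, if and only if every element of the maximal ideal of A is a zero-divisor. -/
theorem result (A : Type u) [CommRing A] [IsNoetherianRing A] [IsLocalRing A] :
    (∀ D : Mero.Divisor (Spec (CommRingCat.of A)), D = 1) ↔ LocCoh.depth A A = 0 := by
  rw [depth_zero_iff]
  constructor
  · intro hD r hr hreg
    -- the divisor of the regular element r
    have hnzd : (Scheme.ΓSpecIso (CommRingCat.of A)).inv r ∈
        nonZeroDivisors Γ(Spec (CommRingCat.of A), ⊤) := by
      rw [mem_nonZeroDivisors_iff_right]
      intro c hc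
      have h1 := congrArg (Scheme.ΓSpecIso (CommRingCat.of A)).hom hc
      rw [map_mul, Iso.inv_hom_id_apply, map_zero] at h1
      have h2 : (Scheme.ΓSpecIso (CommRingCat.of A)).hom c = 0 :=
        (isSMulRegular_iff_right_eq_zero_of_smul.mp hreg) _ (by rw [smul_eq_mul, mul_comm]; exact h1)
      have h3 := congrArg (Scheme.ΓSpecIso (CommRingCat.of A)).inv h2
      rwa [Iso.hom_inv_id_apply, map_zero] at h3
    have hreg' := mem_regSub_of_nzd (X := Spec (CommRingCat.of A)) ⊤
      (isAffineOpen_top (Spec (CommRingCat.of A))) _ hnzd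
    let a : Mero.regSub (Spec (CommRingCat.of A)) ⊤ := ⟨_, hreg'⟩
    have h1 := hD (Mero.div (fracUnit a 1))
    have h2 := congrArg (fun E : Mero.Divisor (Spec (CommRingCat.of A)) =>
      E.1 (IsLocalRing.closedPoint A)) h1
    change Mero.germOf (fracUnit a 1) ⟨IsLocalRing.closedPoint A, _⟩ = 1 at h2
    rw [germOf_fracUnit] at h2
    have h3 : Mero.regGerm (X := Spec (CommRingCat.of A)) (U := ⊤)
        ⟨IsLocalRing.closedPoint A, trivial⟩
        (1 : Mero.regSub (Spec (CommRingCat.of A)) ⊤) = 1 := Subtype.ext (map_one _)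
    rw [h3, regClass_one, div_one] at h2
    have h4 := isUnit_of_regClass_eq_one _ _ h2
    have h5 : IsLocalRing.closedPoint A ∈ (Spec (CommRingCat.of A)).basicOpen a.1 :=
      ((Spec (CommRingCat.of A)).mem_basicOpen a.1 _ trivial).mpr h4
    rw [basicOpen_eq_of_affine] at h5
    exact h5 hr
  · intro h D
    apply Subtype.ext
    funext y
    obtain ⟨V, hxV, -, a, b, hab⟩ := local_structure D (IsLocalRing.closedPoint A) ⊤ trivial
    have hV : V = ⊤ := (IsLocalRing.closedPoint_mem_iff V).mp hxV
    subst hV
    have hunit : ∀ c : Mero.regSub (Spec (CommRingCat.of A)) ⊤,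
        IsUnit ((Spec (CommRingCat.of A)).presheaf.germ ⊤ y trivial c.1) := by
      intro c
      have hc := isSMulRegular_of_regSub A c
      have hcm : (Scheme.ΓSpecIso (CommRingCat.of A)).hom c.1 ∉ IsLocalRing.maximalIdeal A :=
        fun hm => h _ hm hc
      have h1 : IsLocalRing.closedPoint A ∈ (Spec (CommRingCat.of A)).basicOpen c.1 := by
        rw [basicOpen_eq_of_affine']
        exact hcm
      have h2 : y ∈ (Spec (CommRingCat.of A)).basicOpen c.1 :=
        (IsLocalRing.specializes_closedPoint y).mem_open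
          ((Spec (CommRingCat.of A)).basicOpen c.1).isOpen h1
      exact ((Spec (CommRingCat.of A)).mem_basicOpen c.1 y trivial).mp h2
    change D.1 y = 1
    rw [hab ⟨y, trivial⟩, regClass_eq_one_of_isUnit _ _ (hunit a),
      regClass_eq_one_of_isUnit _ _ (hunit b), div_one]


end Groth.Agent.S5082
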