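import Groth.Statements.S5083
import Mathlib
import Groth.Agent.Lib.Helper65.ModOfHom
-- import your own Groth.Agent.* helpers here

set_option autoImplicit false
universe u
open CategoryTheory CategoryTheory.Limits AlgebraicGeometry TopologicalSpace
open Mero

namespace Groth.Agent.S5083

open Groth.Agent.Lib.Helper65.ModOfHom

/-- multiplication by a unit of `K_{X,x}`, as an `O_{X,x}`-linear equivalence. -/
noncomputable def mulEquiv {X : Scheme.{u}} (x : X) (u : (Mero.KStalk X x)ˣ) :
    Mero.KStalk X x ≃ₗ[X.presheaf.stalk x] Mero.KStalk X x where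
  toFun t := u * t
  invFun t := (u⁻¹ : (Mero.KStalk X x)ˣ) * t
  map_add' := mul_add _
  map_smul' r t := by simp [Algebra.smul_def, mul_left_comm]
  left_inv t := by simp
  right_inv t := by simp

theorem aux {G : Type*} [Group G] (a b : G) : b * a⁻¹ = (a * b⁻¹)⁻¹ := by
  rw [mul_inv_rev, inv_inv]

theorem divCond_mul {X : Scheme.{u}} (D D' : Mero.Divisor X) (x : X) (u : (Mero.KStalk X x)ˣ)
    (hu : D.1 x * (D'.1 x)⁻¹ = QuotientGroup.mk u) (t : Mero.KStalk X x)
    (ht : Mero.DivCond D x t) : Mero.DivCond D' x (u * t) := by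
  intro g' hg'
  have hg : D.1 x = QuotientGroup.mk (u * g') := by
    rw [QuotientGroup.mk_mul, ← hu, ← hg', inv_mul_cancel_right]
  have := ht (u * g') hg
  rw [Units.val_mul] at this
  rw [mul_comm (u : Mero.KStalk X x) t, mul_assoc]
  exact this


/-- Let X be a scheme and D, D' divisors on X (global sections of the sheaf of units of K_X modulo units
of O_X, written multiplicatively). If D and D' are linearly equivalent, i.e. D · D'⁻¹ is the divisor
of a unit of the ring of global sections of K_X, then the O_X-modules O_X(D) and O_X(D') are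
isomorphic. (The published statement is an equivalence: O_X(D) and O_X(D') are isomorphic if and
only if D and D' are linearly equivalent; this row states only that linearly equivalent divisors
have isomorphic modules.) -/
theorem result (X : Scheme.{u}) (D D' : Mero.Divisor X) (h : Mero.LinEquiv D D') :
    Nonempty (Mero.divMod D ≅ Mero.divMod D') := by
  obtain ⟨f, hf⟩ := h
  let u : ∀ x : X, (Mero.KStalk X x)ˣ := fun x =>
    Units.map (Mero.evalK X ⊤ ⟨x, Opens.mem_top x⟩).toMonoidHom f
  have hu : ∀ x : X, D.1 x * (D'.1 x)⁻¹ = QuotientGroup.mk (u x) := by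
    intro x
    have := congrArg (fun E : Mero.Divisor X => E.1 x) hf
    exact this
  have hu' : ∀ x : X, D'.1 x * (D.1 x)⁻¹ = QuotientGroup.mk (u x)⁻¹ := by
    intro x
    rw [QuotientGroup.mk_inv, ← hu x]
    exact aux (D.1 x) (D'.1 x)
  have hpred : ∀ U : X.Opens, (Mero.kLoc X).pred (fun y : U => ((u y.1 : (Mero.KStalk X y.1)ˣ) : Mero.KStalk X y.1)) :=
    fun U => (Mero.kLoc X).res (homOfLE le_top : U ⟶ ⊤) f.1.1 f.1.2
  have hpred' : ∀ U : X.Opens, (Mero.kLoc X).pred (fun y : U => (((u y.1)⁻¹ : (Mero.KStalk X y.1)ˣ) : Mero.KStalk X y.1)) :=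
    fun U => (Mero.kLoc X).res (homOfLE le_top : U ⟶ ⊤) (f⁻¹ : (Γ(Mero.kmod X, ⊤))ˣ).1.1 (f⁻¹ : (Γ(Mero.kmod X, ⊤))ˣ).1.2
  refine ⟨modOfIso (Mero.divLoc X D) (Mero.divLoc X D') (fun x => mulEquiv x (u x)) ?_ ?_⟩
  · intro U t ht
    exact ⟨Mero.kLoc_mul X U _ t (hpred U) ht.1,
      fun y => divCond_mul D D' y.1 (u y.1) (hu y.1) (t y) (ht.2 y)⟩
  · intro U t ht
    exact ⟨Mero.kLoc_mul X U _ t (hpred' U) ht.1,
      fun y => divCond_mul D' D y.1 (u y.1)⁻¹ (hu' y.1) (t y) (ht.2 y)⟩


end Groth.Agent.S5083
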