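import Groth.Statements.S8863
import Groth.Agent.Lib.Helper29.QCohUnit
import Mathlib.RingTheory.Ideal.AssociatedPrime.Localization
import Mathlib.RingTheory.Ideal.AssociatedPrime.Finiteness

set_option autoImplicit false
universe u
open CategoryTheory CategoryTheory.Limits AlgebraicGeometry TopologicalSpace
open SDiv

namespace Groth.Agent.S8863

open Groth.Agent.Lib.Helper29.QCohLoc

open Submodule in
theorem algebraMap_mem_nonZeroDivisors_iff {A : Type*} [CommRing A] [IsNoetherianRing A]
    (q : Ideal A) [q.IsPrime] (S : Type*) [CommRing S] [Algebra A S] [IsLocalization.AtPrime S q]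
    (a : A) :
    algebraMap A S a ∈ nonZeroDivisors S ↔ ∀ p ∈ associatedPrimes A A, p ≤ q → a ∉ p := by
  constructor
  · intro ha p hp hpq hap
    rw [AssociatedPrimes.mem_iff, isAssociatedPrime_iff] at hp
    obtain ⟨hpp, c, hc⟩ := hp
    have hac : a * c = 0 := by
      rw [hc, mem_colon_singleton] at hap
      simpa using hap
    have h1 : algebraMap A S c * algebraMap A S a = 0 := by
      rw [← map_mul, mul_comm, hac, map_zero]
    have h2 := (mem_nonZeroDivisors_iff_right.mp ha) _ h1
    rw [IsLocalization.map_eq_zero_iff q.primeCompl] at h2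
    obtain ⟨t, ht⟩ := h2
    have : (t : A) ∈ p := by
      rw [hc, mem_colon_singleton]
      simpa using ht
    exact t.2 (hpq this)
  · intro h
    by_contra hna
    have : IsNoetherianRing S := IsLocalization.isNoetherianRing q.primeCompl S inferInstance
    have hmem : algebraMap A S a ∈ (nonZeroDivisors S : Set S)ᶜ := hna
    rw [← biUnion_associatedPrimes_eq_compl_nonZeroDivisors] at hmem
    simp only [Set.mem_iUnion] at hmem
    obtain ⟨P, hP, haP⟩ := hmem
    have hP' : P.comap (algebraMap A S) ∈ associatedPrimes A A := by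
      have := Module.associatedPrimes.preimage_comap_associatedPrimes_eq_associatedPrimes_of_isLocalizedModule
        q.primeCompl S (Algebra.linearMap A S)
      rw [← this] at hP
      exact hP
    have hPprime : P.IsPrime := IsAssociatedPrime.isPrime hP
    refine h _ hP' ?_ haP
    intro c hc
    by_contra hcq
    have hu : IsUnit (algebraMap A S c) := IsLocalization.map_units S (⟨c, hcq⟩ : q.primeCompl)
    exact hPprime.ne_top (Ideal.eq_top_of_isUnit_mem _ hc hu)

/-- Let X be a locally Noetherian scheme and x a point of X. Then the monoid S_x of germs at x of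
regular sections of O_X (sections whose germ at every point of their open of definition is a
nonzerodivisor) is the whole monoid of nonzerodivisors of O_{X,x}; consequently K_{X,x} is the total
ring of fractions of O_{X,x}. -/
theorem result (X : Scheme.{u}) [IsLocallyNoetherian X] (x : ↥X) :
    Mero.regStalk X x = nonZeroDivisors ↑(X.presheaf.stalk x) := by
  apply le_antisymm (Mero.regStalk_le_nonZeroDivisors x)
  intro r hr
  obtain ⟨W, hW, hxW, a, rfl⟩ : ∃ (W : X.Opens) (_ : IsAffineOpen W) (hxW : x ∈ W) (a : Γ(X, W)),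
      X.presheaf.germ W x hxW a = r := by
    obtain ⟨W0, hx0, a0, rfl⟩ := TopCat.Presheaf.exists_germ_eq X.presheaf r
    obtain ⟨W, hW, hxW, hle⟩ := exists_isAffineOpen_mem_and_subset (x := x) (U := W0) hx0
    have hle' : W ≤ W0 := hle
    exact ⟨W, hW, hxW, X.presheaf.map (homOfLE hle').op a0, TopCat.Presheaf.germ_res_apply _ _ _ _ _⟩
  have : IsNoetherianRing Γ(X, W) := IsLocallyNoetherian.component_noetherian ⟨W, hW⟩
  have key : ∀ (y : X) (hy : y ∈ W),
      X.presheaf.germ W y hy a ∈ nonZeroDivisors (X.presheaf.stalk y) ↔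
        ∀ p ∈ associatedPrimes Γ(X, W) Γ(X, W), p ≤ (hW.primeIdealOf ⟨y, hy⟩).asIdeal → a ∉ p := by
    intro y hy
    let _ := X.presheaf.algebra_section_stalk ⟨y, hy⟩
    have : IsLocalization.AtPrime (X.presheaf.stalk y) (hW.primeIdealOf ⟨y, hy⟩).asIdeal :=
      hW.isLocalization_stalk ⟨y, hy⟩
    exact algebraMap_mem_nonZeroDivisors_iff _ _ a
  have hfin : (associatedPrimes Γ(X, W) Γ(X, W)).Finite := associatedPrimes.finite _ _
  have hch : ∀ p ∈ associatedPrimes Γ(X, W) Γ(X, W), a ∈ p →
      ∃ g ∈ p, g ∉ (hW.primeIdealOf ⟨x, hxW⟩).asIdeal := by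
    intro p hp hap
    by_contra hcon
    push Not at hcon
    exact (key x hxW).mp hr p hp hcon hap
  classical
  choose! g hg1 hg2 using hch
  let PP := hfin.toFinset.filter (fun p => a ∈ p)
  let G := ∏ p ∈ PP, g p
  have hGq : G ∉ (hW.primeIdealOf ⟨x, hxW⟩).asIdeal := by
    rw [Ideal.IsPrime.prod_mem_iff]
    push Not
    intro p hp
    have hp' := Finset.mem_filter.mp hp
    exact hg2 p (hfin.mem_toFinset.mp hp'.1) hp'.2
  have hGp : ∀ p ∈ associatedPrimes Γ(X, W) Γ(X, W), a ∈ p → G ∈ p := by
    intro p hp hap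
    have hmem : p ∈ PP := Finset.mem_filter.mpr ⟨hfin.mem_toFinset.mpr hp, hap⟩
    exact Ideal.mem_of_dvd _ (Finset.dvd_prod_of_mem g hmem) (hg1 p hp hap)
  have hxG : x ∈ X.basicOpen G := by
    by_contra hcon
    exact hGq ((mem_primeIdealOf_iff hW x hxW G).mpr hcon)
  refine ⟨X.basicOpen G, hxG, X.presheaf.map (homOfLE (X.basicOpen_le G)).op a, ?_, ?_⟩
  · intro y
    change X.presheaf.germ _ y.1 y.2 (X.presheaf.map _ a) ∈ _
    rw [TopCat.Presheaf.germ_res_apply]
    have hyW := X.basicOpen_le G y.2
    rw [key y.1 hyW]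
    intro p hp hpq hap
    have := hpq (hGp p hp hap)
    rw [mem_primeIdealOf_iff] at this
    exact this y.2
  · rw [TopCat.Presheaf.germ_res_apply]

end Groth.Agent.S8863
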