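import Groth.Statements.S5084
import Groth.Agent.S8863
import Groth.Agent.S5086
import Groth.Agent.Lib.Helper29.QCohAssMore
import Mathlib.RingTheory.Ideal.AssociatedPrime.Finiteness

set_option autoImplicit false
universe u
open CategoryTheory CategoryTheory.Limits AlgebraicGeometry TopologicalSpace
open Mero

namespace Groth.Agent.S5084

open Groth.Agent.Lib.Helper29.QCohLoc

theorem mkM_eq_zero_iff {X : Scheme.{u}} (F : X.Modules) (x : X) (m : F.presheaf.stalk x) :
    (LocalizedModule.mk m 1 : Mero.MStalk F x) = 0 ↔ ∃ t ∈ Mero.regStalk X x, t • m = 0 := by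
  rw [← LocalizedModule.zero_mk (1 : Mero.regStalk X x), LocalizedModule.mk_eq]
  constructor
  · rintro ⟨t, ht⟩
    refine ⟨t.1, t.2, ?_⟩
    simpa [Submonoid.smul_def] using ht
  · rintro ⟨t, ht, h⟩
    exact ⟨⟨t, ht⟩, by simpa [Submonoid.smul_def] using h⟩


/-- Let X be a locally Noetherian scheme and F a quasi-coherent O_X-module. Then F is torsion-free — the
canonical map from F to its sheaf of meromorphic sections K_X(F), m ↦ m/1, is a monomorphism, i.e.
at every point no germ of a regular function kills a nonzero element of the stalk of F — if and only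
if every associated point of F is an associated point of the structure sheaf (a point x such that
the maximal ideal of O_{X,x} is an associated prime of O_{X,x}). -/
theorem result (X : Scheme.{u}) [IsLocallyNoetherian X]
    (F : X.Modules) (hF : Coh.IsQCoh F) :
    Mono (Mero.toMer F) ↔
      ∀ x : ↥X, Curv2.IsAssPoint F x →
        IsAssociatedPrime (IsLocalRing.maximalIdeal ↑(X.presheaf.stalk x)) ↑(X.presheaf.stalk x) := by
  have : F.IsQuasicoherent := hF
  constructor
  · intro hmono x hx
    by_contra hnot
    -- a nonzerodivisor in the maximal ideal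
    obtain ⟨r, hrm, hrnzd⟩ : ∃ r ∈ IsLocalRing.maximalIdeal (X.presheaf.stalk x),
        r ∈ nonZeroDivisors (X.presheaf.stalk x) := by
      refine Groth.Agent.S5086.exists_mem_nzd_of_finite_primes
        (associatedPrimes (X.presheaf.stalk x) (X.presheaf.stalk x))
        (associatedPrimes.finite _ _) (fun P hP => IsAssociatedPrime.isPrime hP) ?_ _ ?_
      · intro b hb
        by_contra hcon
        have : b ∈ ((nonZeroDivisors (X.presheaf.stalk x) : Set (X.presheaf.stalk x)))ᶜ := hcon
        rw [← biUnion_associatedPrimes_eq_compl_nonZeroDivisors] at this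
        obtain ⟨P, hP, hbP⟩ := Set.mem_iUnion₂.mp this
        exact hb P hP hbP
      · intro P hP hle
        have hPp : P.IsPrime := IsAssociatedPrime.isPrime hP
        have : P = IsLocalRing.maximalIdeal (X.presheaf.stalk x) :=
          ((IsLocalRing.maximalIdeal.isMaximal _).eq_of_le hPp.ne_top hle).symm
        exact hnot (this ▸ hP)
    have hrreg : r ∈ Mero.regStalk X x := by rw [Groth.Agent.S8863.result]; exact hrnzd
    -- the associated point gives an element killed by the maximal ideal
    have hx' : IsAssociatedPrime (IsLocalRing.maximalIdeal (X.presheaf.stalk x))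
        (F.presheaf.stalk x) := hx
    rw [isAssociatedPrime_iff] at hx'
    obtain ⟨-, m, hm⟩ := hx'
    have hrm0 : r • m = 0 := by
      rw [hm, Submodule.mem_colon_singleton] at hrm
      simpa using hrm
    have hm0 : m ≠ 0 := by
      rintro rfl
      have : (1 : X.presheaf.stalk x) ∈ IsLocalRing.maximalIdeal (X.presheaf.stalk x) := by
        rw [hm, Submodule.mem_colon_singleton]
        simp
      exact (Ideal.ne_top_iff_one _).mp (IsLocalRing.maximalIdeal.isMaximal _).ne_top this
    apply hm0
    -- spread out
    obtain ⟨V1, hxV1, s1, rfl⟩ := TopCat.Presheaf.exists_germ_eq F.presheaf (x := x) m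
    obtain ⟨V2, hxV2, b2, hb2, rfl⟩ := hrreg
    set V := V1 ⊓ V2 with hV
    have hxV : x ∈ V := ⟨hxV1, hxV2⟩
    set s := F.presheaf.map (homOfLE (inf_le_left : V ≤ V1)).op s1 with hs
    set b := X.presheaf.map (homOfLE (inf_le_right : V ≤ V2)).op b2 with hb
    have hbreg : b ∈ Mero.regSub X V := Mero.regSub_res _ hb2
    have hgs : F.presheaf.germ V x hxV s = F.presheaf.germ V1 x hxV1 s1 := germ_res F V1 V inf_le_left x hxV s1
    have hgb : X.presheaf.germ V x hxV b = X.presheaf.germ V2 x hxV2 b2 :=
      TopCat.Presheaf.germ_res_apply _ _ _ _ _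
    have h0 : F.presheaf.germ V x hxV (b • s) = F.presheaf.germ V x hxV 0 := by
      rw [Mero.germ_smul, hgs, hgb, hrm0, map_zero]
    obtain ⟨W, hxW, iU, iV, hW⟩ := TopCat.Presheaf.germ_eq F.presheaf x hxV hxV _ 0 h0
    rw [map_zero] at hW
    have hWV : W ≤ V := iU.le
    set s' := F.presheaf.map (homOfLE hWV).op s with hs'
    set b' := X.presheaf.map (homOfLE hWV).op b with hb'
    have hb'reg : b' ∈ Mero.regSub X W := Mero.regSub_res _ hbreg
    have hbs' : b' • s' = 0 := by
      rw [hs', hb', ← res_smul]
      exact hW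
    have hker : (Mero.toMer F).app W s' = 0 := by
      change Mero.toMerFun F W s' = 0
      apply Subtype.ext
      funext y
      rw [Mero.toMerFun_apply]
      change (LocalizedModule.mk _ 1 : Mero.MStalk F y.1) = 0
      rw [mkM_eq_zero_iff]
      refine ⟨X.presheaf.germ W y.1 y.2 b', Mero.germ_mem_regStalk y hb'reg, ?_⟩
      rw [← Mero.germ_smul, hbs', map_zero]
    have hs'0 : s' = 0 := by
      apply app_injective_of_mono (Mero.toMer F) W
      rw [hker, map_zero]
    rw [← hgs, ← germ_res F V W hWV x hxW s, ← hs', hs'0, map_zero]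
  · intro hAss
    apply mono_of_app_injective
    intro U
    rw [injective_iff_map_eq_zero]
    intro s hs
    by_contra hs0
    -- a point with nonzero germ
    obtain ⟨y, hy, hgy⟩ : ∃ (y : X) (hy : y ∈ U), F.presheaf.germ U y hy s ≠ 0 := by
      by_contra hcon
      push Not at hcon
      apply hs0
      refine TopCat.Presheaf.section_ext ⟨F.presheaf, F.isSheaf⟩ _ _ _ (fun y hy => ?_)
      change F.presheaf.germ U y hy s = F.presheaf.germ U y hy 0
      rw [hcon y hy, map_zero]
    obtain ⟨W, hW, hyW, hWU⟩ := exists_isAffineOpen_mem_and_subset (x := y) (U := U) hy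
    have hWU' : W ≤ U := hWU
    set s' := F.presheaf.map (homOfLE hWU').op s with hs'
    have hs'0 : s' ≠ 0 := by
      intro h
      apply hgy
      rw [← germ_res F U W hWU' y hyW s, ← hs', h, map_zero]
    have hloc : LocAt F W := LocAt.of_isQuasicoherent F hW
    obtain ⟨z, hz, hzmin⟩ := exists_point_minimal_ann F hW s' hs'0
    have hrad := radical_ker_germ_of_mem_minimalPrimes F hW hloc z hz s' hzmin
    have hwa : Curv2.IsWeakAssPoint F z := (isWeakAssPoint_iff F hW hloc z hz).mpr ⟨s', hzmin⟩
    have hass := hAss z ((isAssPoint_iff_isWeakAssPoint F z).mpr hwa)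
    -- the kernel condition at `z`
    have hz0 : (LocalizedModule.mk (F.presheaf.germ U z (hWU hz) s) 1 : Mero.MStalk F z) = 0 := by
      have := congrArg (fun g : Γ(Mero.merMod F, U) => g.1 ⟨z, hWU hz⟩) hs
      exact this
    rw [mkM_eq_zero_iff] at hz0
    obtain ⟨t, htreg, ht⟩ := hz0
    have htnzd : t ∈ nonZeroDivisors (X.presheaf.stalk z) := Mero.regStalk_le_nonZeroDivisors z htreg
    have htm : t ∈ IsLocalRing.maximalIdeal (X.presheaf.stalk z) := by
      rw [← hrad]
      apply Ideal.le_radical
      rw [LinearMap.mem_ker, LinearMap.toSpanSingleton_apply, hs', germ_res]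
      exact ht
    rw [isAssociatedPrime_iff] at hass
    obtain ⟨-, c, hc⟩ := hass
    have htc : t • c = 0 := by
      rw [hc, Submodule.mem_colon_singleton] at htm
      simpa using htm
    have hc0 : c = 0 := by
      rw [smul_eq_mul, mul_comm] at htc
      exact (mem_nonZeroDivisors_iff_right.mp htnzd) _ htc
    have : (1 : X.presheaf.stalk z) ∈ IsLocalRing.maximalIdeal (X.presheaf.stalk z) := by
      rw [hc, Submodule.mem_colon_singleton, hc0]
      simp
    exact (Ideal.ne_top_iff_one _).mp (IsLocalRing.maximalIdeal.isMaximal _).ne_top this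

end Groth.Agent.S5084
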