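import Groth.Statements.S5085
import Mathlib.Tactic

set_option autoImplicit false
universe u
open CategoryTheory CategoryTheory.Limits AlgebraicGeometry TopologicalSpace
open Mero

namespace Groth.Agent.S5085

theorem mk_eq_zero_iff {X : Scheme.{u}} (x : X) (a : X.presheaf.stalk x) (b : Mero.regStalk X x) :
    (LocalizedModule.mk a b : Mero.KStalk X x) = 0 ↔ a = 0 := by
  constructor
  · intro h
    rw [← LocalizedModule.zero_mk b, LocalizedModule.mk_eq] at h
    obtain ⟨c, hc⟩ := h
    simp only [smul_zero, Submonoid.smul_def, smul_eq_mul] at hc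
    have hcn : (c : X.presheaf.stalk x) ∈ nonZeroDivisors _ := Mero.regStalk_le_nonZeroDivisors x c.2
    have hbn : (b : X.presheaf.stalk x) ∈ nonZeroDivisors _ := Mero.regStalk_le_nonZeroDivisors x b.2
    have h1 : (b : X.presheaf.stalk x) * a = 0 := (mul_left_mem_nonZeroDivisors_eq_zero_iff hcn).mp hc
    exact (mul_left_mem_nonZeroDivisors_eq_zero_iff hbn).mp h1
  · rintro rfl
    exact LocalizedModule.zero_mk b

theorem result (X : Scheme.{u}) (U V : X.Opens) (hVU : V ≤ U)
    (hV : ∀ W : X.Opens, W ≤ U →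
      Function.Injective ⇑(X.presheaf.map (homOfLE (inf_le_left : W ⊓ V ≤ W)).op)) :
    Function.Injective ⇑((Mero.kmod X).presheaf.map (homOfLE hVU).op) := by
  rw [injective_iff_map_eq_zero]
  intro s hs
  have hs' : ∀ y : V, s.1 ⟨y.1, hVU y.2⟩ = 0 := by
    intro y
    have := congrArg (fun t : Γ(Mero.kmod X, V) => t.1 y) hs
    exact this
  apply Subtype.ext
  funext x
  obtain ⟨W, hxW, i, a, b, hab⟩ := s.2 x
  have hWU : W ≤ U := i.le
  have ha0 : X.presheaf.map (homOfLE (inf_le_left : W ⊓ V ≤ W)).op a = 0 := by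
    apply TopCat.Presheaf.section_ext X.sheaf
    intro y hy
    have hyW : y ∈ W := hy.1
    have hyV : y ∈ V := hy.2
    change X.presheaf.germ (W ⊓ V) y hy _ = X.presheaf.germ (W ⊓ V) y hy 0
    rw [map_zero]
    have h1 := hab ⟨y, hyW⟩
    have h2 := hs' ⟨y, hyV⟩
    have h3 : (LocalizedModule.mk (X.presheaf.germ W y hyW a) (Mero.regGerm ⟨y, hyW⟩ b) :
        Mero.KStalk X y) = 0 := by
      rw [← h1]; exact h2
    rw [mk_eq_zero_iff] at h3
    rw [TopCat.Presheaf.germ_res_apply]
    exact h3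
  have ha : a = 0 := by
    apply hV W hWU
    rw [ha0, map_zero]
  have := hab ⟨x.1, hxW⟩
  have h5 : s.1 x = LocalizedModule.mk (X.presheaf.germ W x.1 hxW a) (Mero.regGerm ⟨x.1, hxW⟩ b) := this
  rw [h5, ha, map_zero]
  exact LocalizedModule.zero_mk _

end Groth.Agent.S5085
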