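import Groth.Statements.S5090
import Groth.Agent.Lib.Helper64.StalkSpec

set_option autoImplicit false
universe u
open CategoryTheory CategoryTheory.Limits AlgebraicGeometry TopologicalSpace
open Div21

namespace Groth.Agent.S5090

open Groth.Agent.Lib.Helper64.StalkSpec
set_option linter.style.haveILetI false

/-- Equivalence of conditions a'') and c): let X be a locally Noetherian scheme which is reduced at each
of its isolated points (for every point x such that {x} is open, the local ring O_{X,x} is reduced).
Then the following are equivalent. (a'') Every integral closed subscheme of X of codimension 1 is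
regularly immersed in X: for every point ζ whose local ring has dimension 1 and every specialization
x of ζ, the ideal of O_{X,x} defining the closure of ζ with its reduced structure (the preimage of
the maximal ideal of O_{X,ζ} under the specialization map) is generated by one non-zero-divisor of
O_{X,x}. (c) X is locally factorial: every local ring of X is a unique factorisation domain. -/
theorem result (X : Scheme.{u}) [IsLocallyNoetherian X]
    (hred : ∀ x : ↥X, IsOpen ({x} : Set ↥X) → IsReduced ↑(X.presheaf.stalk x)) :
    (∀ ζ : ↥X, ringKrullDim ↑(X.presheaf.stalk ζ) = 1 → ∀ (x : ↥X) (h : ζ ⤳ x),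
        ∃ t : ↑(X.presheaf.stalk x), t ∈ nonZeroDivisors ↑(X.presheaf.stalk x) ∧
          (IsLocalRing.maximalIdeal ↑(X.presheaf.stalk ζ)).comap (X.presheaf.stalkSpecializes h).hom =
            Ideal.span {t}) ↔
      ∀ x : ↥X, ∃ _ : IsDomain ↑(X.presheaf.stalk x), UniqueFactorizationMonoid ↑(X.presheaf.stalk x) := by
  constructor
  · intro H
    -- Step 1: points of positive codimension have integral local rings
    have hpos : ∀ x : X, 1 ≤ Order.coheight x → IsDomain (X.presheaf.stalk x) := by
      intro x hx
      obtain ⟨ζ, hζx, hζ⟩ := exists_specializes_coheight_eq_one x hx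
      have hdim : ringKrullDim (X.presheaf.stalk ζ) = 1 := by
        rw [AlgebraicGeometry.ringKrullDim_stalk_eq_coheight, hζ]; rfl
      obtain ⟨t, ht, hpt⟩ := H ζ hdim x hζx
      exact isDomain_of_prime_span_nonZeroDivisor _ (primeOf hζx) t ht hpt
    -- Step 2: all points
    have hdom : ∀ x : X, IsDomain (X.presheaf.stalk x) := by
      intro x
      by_cases hx : 1 ≤ Order.coheight x
      · exact hpos x hx
      have hx0 : Order.coheight x = 0 := by
        rw [not_le] at hx
        exact Order.lt_one_iff.mp hx
      by_cases hspec : ∀ y : X, x ⤳ y → y = x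
      · have hgen : ∀ ζ : X, ζ ⤳ x → ζ = x := by
          intro ζ hζ
          by_contra hne
          have hlt : x < ζ := lt_of_le_not_ge hζ fun hge => hne (Specializes.antisymm hζ hge).eq
          have : 0 < Order.coheight x := Order.coheight_pos.mpr (not_isMax_of_lt hlt)
          rw [hx0] at this
          exact lt_irrefl _ this
        have hopen := isOpen_singleton_of_forall_specializes x hgen hspec
        haveI := hred x hopen
        haveI : Ring.KrullDimLE 0 (X.presheaf.stalk x) := by
          rw [Ring.krullDimLE_iff, AlgebraicGeometry.ringKrullDim_stalk_eq_coheight, hx0]; rfl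
        haveI : IsArtinianRing (X.presheaf.stalk x) :=
          IsNoetherianRing.isArtinianRing_of_krullDimLE_zero
        exact (IsArtinianRing.isField_of_isReduced_of_isLocalRing (X.presheaf.stalk x)).isDomain
      · push Not at hspec
        obtain ⟨y, hxy, hne⟩ := hspec
        have hlt : y < x := lt_of_le_not_ge hxy fun hge => hne (Specializes.antisymm hge hxy).eq
        have hy : 1 ≤ Order.coheight y :=
          Order.one_le_iff_pos.mpr (Order.coheight_pos.mpr (not_isMax_of_lt hlt))
        haveI := hpos y hy
        exact isDomain_of_specializes hxy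
    intro x
    haveI := hdom x
    refine ⟨hdom x, ?_⟩
    rw [UniqueFactorizationMonoid.iff_forall_isPrincipal_of_height_eq_one]
    intro p hp hht
    obtain ⟨ζ, h, rfl⟩ := exists_specializes_primeOf_eq x p
    have hdim : ringKrullDim (X.presheaf.stalk ζ) = 1 := by
      rw [ringKrullDim_stalk_eq_height_primeOf h, hht]; rfl
    obtain ⟨t, -, hpt⟩ := H ζ hdim x h
    exact ⟨t, hpt⟩
  · intro H ζ hζ x h
    obtain ⟨hdom, hufd⟩ := H x
    have hht : (primeOf h).height = 1 := by
      have := ringKrullDim_stalk_eq_height_primeOf h
      rw [hζ] at this
      exact_mod_cast this.symm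
    obtain ⟨t, ht⟩ := (UniqueFactorizationMonoid.isPrincipal_of_height_eq_one hht).principal
    rw [Ideal.submodule_span_eq] at ht
    refine ⟨t, ?_, ht⟩
    rw [mem_nonZeroDivisors_iff_ne_zero]
    rintro rfl
    rw [Ideal.span_singleton_zero] at ht
    rw [ht, Ideal.height_bot] at hht
    exact zero_ne_one hht

end Groth.Agent.S5090
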