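import Groth.Statements.S5092
import Mathlib.RingTheory.Ideal.AssociatedPrime.Localization
import Mathlib.AlgebraicGeometry.Noetherian

set_option autoImplicit false
universe u
open CategoryTheory CategoryTheory.Limits AlgebraicGeometry TopologicalSpace
open Mero

namespace Groth.Agent.S5092

theorem not_mem_nzd_of_mem_of_isAssociatedPrime {R : Type*} [CommRing R] [IsLocalRing R]
    (h : IsAssociatedPrime (IsLocalRing.maximalIdeal R) R) {r : R}
    (hr : r ∈ IsLocalRing.maximalIdeal R) : r ∉ nonZeroDivisors R := by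
  obtain ⟨hp, c, hc⟩ := h
  intro hnzd
  rw [hc, Ideal.mem_radical_iff] at hr
  obtain ⟨n, hn⟩ := hr
  rw [Submodule.mem_colon_singleton, Submodule.mem_bot] at hn
  have hc0 : c = 0 := by
    have := (mem_nonZeroDivisors_iff_right.mp (pow_mem hnzd n)) c
    apply this
    rw [mul_comm]; exact hn
  subst hc0
  have : IsLocalRing.maximalIdeal R = ⊤ := by
    rw [hc]
    simp
  exact hp.ne_top this

theorem exists_assPoint_of_germ_not_nzd {X : Scheme.{u}} [IsLocallyNoetherian X] (V : X.Opens)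
    (t : Γ(X, V)) (x : X) (hx : x ∈ V)
    (ht : X.presheaf.germ V x hx t ∉ nonZeroDivisors (X.presheaf.stalk x)) :
    ∃ (x' : X) (hx' : x' ∈ V),
      IsAssociatedPrime (IsLocalRing.maximalIdeal (X.presheaf.stalk x')) (X.presheaf.stalk x') ∧
      X.presheaf.germ V x' hx' t ∈ IsLocalRing.maximalIdeal (X.presheaf.stalk x') := by
  obtain ⟨W, hW, hxW, hWV⟩ := Opens.isBasis_iff_nbhd.mp X.isBasis_affineOpens hx
  have hW' : IsAffineOpen W := hW
  have hB : IsNoetherianRing Γ(X, W) := IsLocallyNoetherian.component_noetherian ⟨W, hW⟩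
  set b : Γ(X, W) := X.presheaf.map (homOfLE hWV).op t with hb
  have hgerm : ∀ (z : X) (hz : z ∈ W), X.presheaf.germ W z hz b = X.presheaf.germ V z (hWV hz) t := by
    intro z hz
    exact TopCat.Presheaf.germ_res_apply X.presheaf (homOfLE hWV) z hz t
  let _ : Algebra Γ(X, W) (X.presheaf.stalk x) := X.presheaf.algebra_section_stalk ⟨x, hxW⟩
  have hloc : IsLocalization.AtPrime (X.presheaf.stalk x) (hW'.primeIdealOf ⟨x, hxW⟩).asIdeal :=
    hW'.isLocalization_stalk ⟨x, hxW⟩
  have hR' : IsNoetherianRing (X.presheaf.stalk x) :=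
    IsLocalization.isNoetherianRing (hW'.primeIdealOf ⟨x, hxW⟩).asIdeal.primeCompl _ hB
  have hmem : X.presheaf.germ W x hxW b ∈ ((nonZeroDivisors (X.presheaf.stalk x) : Set _))ᶜ := by
    rw [hgerm]; exact ht
  rw [← biUnion_associatedPrimes_eq_compl_nonZeroDivisors] at hmem
  obtain ⟨P', hP', hbP'⟩ := Set.mem_iUnion₂.mp hmem
  have hP := Module.associatedPrimes.comap_mem_associatedPrimes_of_mem_associatedPrimes_of_isLocalizedModule_of_fg
    (hW'.primeIdealOf ⟨x, hxW⟩).asIdeal.primeCompl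
    (Algebra.linearMap Γ(X, W) (X.presheaf.stalk x)) P' hP'
    ((isNoetherianRing_iff_ideal_fg _).mp hB _)
  have hPprime : (P'.comap (algebraMap Γ(X, W) (X.presheaf.stalk x))).IsPrime := hP.1
  let y : ↥(Spec Γ(X, W)) :=
    (⟨P'.comap (algebraMap Γ(X, W) (X.presheaf.stalk x)), hPprime⟩ : PrimeSpectrum Γ(X, W))
  have hyW : hW'.fromSpec y ∈ W := by
    have := hW'.range_fromSpec
    rw [← SetLike.mem_coe, ← this]
    exact ⟨y, rfl⟩
  let _ : Algebra Γ(X, W) (X.presheaf.stalk (hW'.fromSpec y)) :=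
    X.presheaf.algebra_section_stalk ⟨hW'.fromSpec y, hyW⟩
  have hloc' : IsLocalization.AtPrime (X.presheaf.stalk (hW'.fromSpec y)) y.asIdeal :=
    hW'.isLocalization_stalk' y hyW
  refine ⟨hW'.fromSpec y, hWV hyW, ?_, ?_⟩
  · apply Module.associatedPrimes.mem_associatedPrimes_of_comap_mem_associatedPrimes_of_isLocalizedModule
      y.asIdeal.primeCompl (Algebra.linearMap Γ(X, W) (X.presheaf.stalk (hW'.fromSpec y)))
    rw [show Ideal.comap (algebraMap Γ(X, W) (X.presheaf.stalk (hW'.fromSpec y)))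
      (IsLocalRing.maximalIdeal (X.presheaf.stalk (hW'.fromSpec y))) = y.asIdeal from
      IsLocalization.AtPrime.under_maximalIdeal (X.presheaf.stalk (hW'.fromSpec y)) y.asIdeal]
    exact hP
  · rw [← hgerm _ hyW]
    have := (IsLocalization.AtPrime.to_map_mem_maximal_iff (X.presheaf.stalk (hW'.fromSpec y))
      y.asIdeal b).mpr hbP'
    exact this

theorem result {X Y : Scheme.{u}} [IsLocallyNoetherian X] [IsLocallyNoetherian Y]
    (f : X ⟶ Y)
    (hf : ∀ x : ↥X, IsAssociatedPrime (IsLocalRing.maximalIdeal ↑(X.presheaf.stalk x)) ↑(X.presheaf.stalk x) →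
      IsAssociatedPrime (IsLocalRing.maximalIdeal ↑(Y.presheaf.stalk (f x))) ↑(Y.presheaf.stalk (f x))) :
    ∀ (U : Y.Opens) (s : Γ(Y, U)), s ∈ Mero.regSub Y U → f.app U s ∈ Mero.regSub X (f ⁻¹ᵁ U) := by
  intro U s hs
  rintro ⟨x, hx⟩
  by_contra hcon
  obtain ⟨x', hx', hass, hmem⟩ := exists_assPoint_of_germ_not_nzd (f ⁻¹ᵁ U) (f.app U s) x hx hcon
  have hass' := hf x' hass
  have hnzd : Y.presheaf.germ U (f x') hx' s ∈ nonZeroDivisors (Y.presheaf.stalk (f x')) :=
    hs ⟨f x', hx'⟩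
  have hunit : IsUnit (Y.presheaf.germ U (f x') hx' s) := by
    by_contra hnu
    exact not_mem_nzd_of_mem_of_isAssociatedPrime hass'
      ((IsLocalRing.mem_maximalIdeal _).mpr hnu) hnzd
  have hunit' : IsUnit ((f.stalkMap x') (Y.presheaf.germ U (f x') hx' s)) :=
    hunit.map (f.stalkMap x').hom
  have e := Scheme.Hom.germ_stalkMap_apply f U x' hx' s
  rw [e] at hunit'
  exact (IsLocalRing.mem_maximalIdeal _).mp hmem hunit'

end Groth.Agent.S5092
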