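import Groth.Statements.S5093
import Mathlib.RingTheory.Ideal.MinimalPrime.Basic
import Mathlib.RingTheory.Localization.Ideal
import Mathlib.AlgebraicGeometry.Stalk
import Mathlib.AlgebraicGeometry.Properties
import Mathlib.AlgebraicGeometry.Morphisms.Preimmersion

set_option autoImplicit false
universe u
open CategoryTheory CategoryTheory.Limits AlgebraicGeometry TopologicalSpace
open Mero

namespace Groth.Agent.S5093

theorem isUnit_of_nzd_of_unique_prime {R : Type*} [CommRing R] [IsLocalRing R]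
    (h : ∀ P : Ideal R, P.IsPrime → P = IsLocalRing.maximalIdeal R) {r : R}
    (hr : r ∈ nonZeroDivisors R) : IsUnit r := by
  by_contra hnu
  have hm : r ∈ IsLocalRing.maximalIdeal R := (IsLocalRing.mem_maximalIdeal _).mpr hnu
  have hnil : r ∈ nilradical R := by
    rw [nilradical_eq_sInf, Submodule.mem_sInf]
    intro P hP
    rw [h P hP]; exact hm
  obtain ⟨n, hn⟩ := hnil
  have := pow_mem hr n
  rw [hn] at this
  exact zero_notMem_nonZeroDivisors this

theorem unique_prime_of_maxPoint {Y : Scheme.{u}} (y : Y) (hy : ∀ z : Y, z ⤳ y → z = y)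
    (P : Ideal (Y.presheaf.stalk y)) (hP : P.IsPrime) :
    P = IsLocalRing.maximalIdeal (Y.presheaf.stalk y) := by
  let p : ↥(Spec (Y.presheaf.stalk y)) := (⟨P, hP⟩ : PrimeSpectrum (Y.presheaf.stalk y))
  have h1 : Y.fromSpecStalk y p ⤳ y := by
    have : Y.fromSpecStalk y p ∈ Set.range (Y.fromSpecStalk y) := ⟨p, rfl⟩
    rw [Scheme.range_fromSpecStalk] at this
    exact this
  have h2 := hy _ h1
  have h3 : Y.fromSpecStalk y p = Y.fromSpecStalk y (IsLocalRing.closedPoint (Y.presheaf.stalk y)) := by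
    rw [h2, Scheme.fromSpecStalk_closedPoint]
  have h4 := (Y.fromSpecStalk y).isEmbedding.injective h3
  have h5 := congrArg PrimeSpectrum.asIdeal h4
  exact h5

theorem exists_maxPoint_of_germ_not_nzd {X : Scheme.{u}} [IsReduced X] (V : X.Opens)
    (t : Γ(X, V)) (x : X) (hx : x ∈ V)
    (ht : X.presheaf.germ V x hx t ∉ nonZeroDivisors (X.presheaf.stalk x)) :
    ∃ (x' : X) (hx' : x' ∈ V), (∀ z : X, z ⤳ x' → z = x') ∧
      X.presheaf.germ V x' hx' t ∈ IsLocalRing.maximalIdeal (X.presheaf.stalk x') := by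
  obtain ⟨W, hW, hxW, hWV⟩ := Opens.isBasis_iff_nbhd.mp X.isBasis_affineOpens hx
  have hW' : IsAffineOpen W := hW
  set b : Γ(X, W) := X.presheaf.map (homOfLE hWV).op t with hb
  have hgerm : ∀ (z : X) (hz : z ∈ W), X.presheaf.germ W z hz b = X.presheaf.germ V z (hWV hz) t := by
    intro z hz
    exact TopCat.Presheaf.germ_res_apply X.presheaf (homOfLE hWV) z hz t
  let _ : Algebra Γ(X, W) (X.presheaf.stalk x) := X.presheaf.algebra_section_stalk ⟨x, hxW⟩
  have hloc : IsLocalization.AtPrime (X.presheaf.stalk x) (hW'.primeIdealOf ⟨x, hxW⟩).asIdeal :=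
    hW'.isLocalization_stalk ⟨x, hxW⟩
  set M := (hW'.primeIdealOf ⟨x, hxW⟩).asIdeal.primeCompl with hM
  rw [mem_nonZeroDivisors_iff_right] at ht
  push Not at ht
  obtain ⟨a', ha'g, ha'0⟩ := ht
  have hsInf : sInf (⊥ : Ideal (X.presheaf.stalk x)).minimalPrimes = ⊥ := by
    rw [Ideal.sInf_minimalPrimes]
    exact nilradical_eq_zero _
  have : a' ∉ sInf (⊥ : Ideal (X.presheaf.stalk x)).minimalPrimes := by
    rw [hsInf]; exact ha'0
  rw [Ideal.mem_sInf] at this
  push Not at this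
  obtain ⟨Q', hQ'min, ha'Q'⟩ := this
  have hQ'prime : Q'.IsPrime := hQ'min.1.1
  have hgQ' : X.presheaf.germ W x hxW b ∈ Q' := by
    rw [hgerm]
    have : a' * X.presheaf.germ V x hx t ∈ Q' := by rw [ha'g]; exact zero_mem _
    exact (hQ'prime.mem_or_mem this).resolve_left ha'Q'
  have hQprime : (Q'.comap (algebraMap Γ(X, W) (X.presheaf.stalk x))).IsPrime := inferInstance
  have hQdisj : Disjoint (M : Set Γ(X, W)) (Q'.comap (algebraMap Γ(X, W) (X.presheaf.stalk x))) :=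
    ((IsLocalization.isPrime_iff_isPrime_disjoint M (X.presheaf.stalk x) Q').mp hQ'prime).2
  let y : ↥(Spec Γ(X, W)) :=
    (⟨Q'.comap (algebraMap Γ(X, W) (X.presheaf.stalk x)), hQprime⟩ : PrimeSpectrum Γ(X, W))
  have hyW : hW'.fromSpec y ∈ W := by
    have := hW'.range_fromSpec
    rw [← SetLike.mem_coe, ← this]
    exact ⟨y, rfl⟩
  let _ : Algebra Γ(X, W) (X.presheaf.stalk (hW'.fromSpec y)) :=
    X.presheaf.algebra_section_stalk ⟨hW'.fromSpec y, hyW⟩
  have hloc' : IsLocalization.AtPrime (X.presheaf.stalk (hW'.fromSpec y)) y.asIdeal :=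
    hW'.isLocalization_stalk' y hyW
  refine ⟨hW'.fromSpec y, hWV hyW, ?_, ?_⟩
  · intro z hz
    have hzW : z ∈ W := hz.mem_open W.isOpen hyW
    have hspec : (⟨z, hzW⟩ : W) ⤳ ⟨hW'.fromSpec y, hyW⟩ :=
      (Topology.IsInducing.subtypeVal.specializes_iff
        (x := (⟨z, hzW⟩ : W)) (y := ⟨hW'.fromSpec y, hyW⟩)).mp hz
    have hspec' := hspec.map hW'.isoSpec.hom.continuous
    have hy' : hW'.isoSpec.hom ⟨hW'.fromSpec y, hyW⟩ = y := by
      apply hW'.fromSpec.isOpenEmbedding.injective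
      exact hW'.fromSpec_primeIdealOf ⟨hW'.fromSpec y, hyW⟩
    rw [hy'] at hspec'
    set pz : PrimeSpectrum Γ(X, W) := hW'.isoSpec.hom ⟨z, hzW⟩ with hpz
    have hle : @LE.le (PrimeSpectrum Γ(X, W)) _ pz y :=
      (PrimeSpectrum.le_iff_specializes pz y).mpr hspec'
    have hle' : pz.asIdeal ≤ Q'.comap (algebraMap Γ(X, W) (X.presheaf.stalk x)) := hle
    have hdisj : Disjoint (M : Set Γ(X, W)) pz.asIdeal := hQdisj.mono_right hle'
    have hmapprime := IsLocalization.isPrime_of_isPrime_disjoint M (X.presheaf.stalk x) pz.asIdeal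
      pz.isPrime hdisj
    have hmaple : Ideal.map (algebraMap Γ(X, W) (X.presheaf.stalk x)) pz.asIdeal ≤ Q' := by
      rw [Ideal.map_le_iff_le_comap]; exact hle'
    have hmapeq : Q' ≤ Ideal.map (algebraMap Γ(X, W) (X.presheaf.stalk x)) pz.asIdeal :=
      hQ'min.2 ⟨hmapprime, bot_le⟩ hmaple
    have hcm := IsLocalization.under_map_of_isPrime_disjoint M (X.presheaf.stalk x)
      pz.isPrime hdisj
    have hpzy : pz = y := by
      apply PrimeSpectrum.ext
      apply le_antisymm hle'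
      change Q'.comap _ ≤ pz.asIdeal
      rw [← hcm]
      exact Ideal.comap_mono hmapeq
    have := hW'.fromSpec_primeIdealOf ⟨z, hzW⟩
    change hW'.fromSpec pz = z at this
    rw [← this, hpzy]
  · rw [← hgerm _ hyW]
    exact (IsLocalization.AtPrime.to_map_mem_maximal_iff (X.presheaf.stalk (hW'.fromSpec y))
      y.asIdeal b).mpr hgQ'

theorem result {X Y : Scheme.{u}} [IsReduced X] (f : X ⟶ Y)
    (hY : ∀ y : ↥Y, ∃ W : Y.Opens, y ∈ W ∧
      {Z : Set ↥Y | Z ∈ irreducibleComponents ↥Y ∧ (Z ∩ (W : Set ↥Y)).Nonempty}.Finite)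
    (hf : ∀ ξ : ↥X, (∀ z : ↥X, z ⤳ ξ → z = ξ) → ∀ z : ↥Y, z ⤳ f ξ → z = f ξ) :
    ∀ (U : Y.Opens) (s : Γ(Y, U)), s ∈ Mero.regSub Y U → f.app U s ∈ Mero.regSub X (f ⁻¹ᵁ U) := by
  intro U s hs
  rintro ⟨x, hx⟩
  by_contra hcon
  obtain ⟨x', hx', hmax, hmem⟩ := exists_maxPoint_of_germ_not_nzd (f ⁻¹ᵁ U) (f.app U s) x hx hcon
  have hmax' := hf x' hmax
  have hnzd : Y.presheaf.germ U (f x') hx' s ∈ nonZeroDivisors (Y.presheaf.stalk (f x')) :=
    hs ⟨f x', hx'⟩
  have hunit : IsUnit (Y.presheaf.germ U (f x') hx' s) :=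
    isUnit_of_nzd_of_unique_prime (unique_prime_of_maxPoint (f x') hmax') hnzd
  have hunit' : IsUnit ((f.stalkMap x') (Y.presheaf.germ U (f x') hx' s)) :=
    hunit.map (f.stalkMap x').hom
  have e := Scheme.Hom.germ_stalkMap_apply f U x' hx' s
  rw [e] at hunit'
  exact (IsLocalRing.mem_maximalIdeal _).mp hmem hunit'

end Groth.Agent.S5093
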