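import Groth.Statements.S5094
import Groth.Agent.Lib.Helper41.BirNormal

set_option autoImplicit false
universe u
open CategoryTheory CategoryTheory.Limits AlgebraicGeometry TopologicalSpace
open Lim8

namespace Groth.Agent.S5094

/-- Let X and Y be integral schemes and f : X → Y a separated morphism, locally of finite type and
birational (f sends the generic point of X to the generic point of Y and its stalk map there, the
induced homomorphism of function fields, is an isomorphism). Let y be a normal point of Y (the local
ring O_{Y,y} is integrally closed) and suppose that some point of the fibre f⁻¹(y) is isolated in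
that fibre. Then y has an open neighbourhood U such that the restriction f⁻¹(U) → U of f is an
isomorphism. -/
theorem result {X Y : Scheme.{u}} [IsIntegral X]
    [IsIntegral Y] (f : X ⟶ Y) [IsSeparated f] [LocallyOfFiniteType f]
    (hgen : f (genericPoint X) = genericPoint Y) (hbir : IsIso (f.stalkMap (genericPoint X)))
    (y : ↥Y) (hy : IsIntegrallyClosed ↑(Y.presheaf.stalk y))
    (x : ↥(f.fiber y)) (hx : IsOpen ({x} : Set ↥(f.fiber y))) :
    ∃ U : Y.Opens, y ∈ U ∧ IsIso (f ∣_ U) := by
  have hfx : f (f.fiberι y x) = y := (f.fiberHomeo y x).2
  have hq := Groth.Agent.Lib.Helper41.quasiFiniteAt_of_isOpen_singleton_fiber f y x hx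
  have hy' : IsIntegrallyClosed (Y.presheaf.stalk (f (f.fiberι y x))) := by rw [hfx]; exact hy
  obtain ⟨U, hU, h⟩ := Groth.Agent.Lib.Helper41.exists_isIso_morphismRestrict_of_quasiFiniteAt f hbir
    (f.fiberι y x) hy' hq
  exact ⟨U, hfx ▸ hU, h⟩

end Groth.Agent.S5094
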