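import Groth.Statements.S5097
import Mathlib
import Groth.Agent.Lib.Helper65.CurveDiv
-- import your own Groth.Agent.* helpers here

set_option autoImplicit false
universe u
open CategoryTheory CategoryTheory.Limits AlgebraicGeometry TopologicalSpace
open Mero

namespace Groth.Agent.S5097

open Groth.Agent.Lib.Helper65.CurveDiv

theorem fracSec_val {X : Scheme.{u}} {V : X.Opens} (a b : Mero.regSub X V) (y : V) :
    (fracSec b.1 a).1 y = ((regUnit y.1 (Mero.regGerm y a) / regUnit y.1 (Mero.regGerm y b))⁻¹ :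
      (Mero.KStalk X y.1)ˣ) := by
  rw [inv_div, div_eq_mul_inv, fracSec_apply, lmk_eq_mk', Units.val_mul,
    Units.eq_mul_inv_iff_mul_eq]
  simp only [regUnit_val]
  exact IsLocalization.mk'_spec _ _ _

theorem divCond_fracSec {X : Scheme.{u}} (D : Mero.Divisor X) {V : X.Opens} (a b : Mero.regSub X V)
    (y : V)
    (hD : D.1 y.1 = regClass y.1 (Mero.regGerm y a) / regClass y.1 (Mero.regGerm y b)) :
    Mero.DivCond D y.1 ((fracSec b.1 a).1 y) := by
  intro g hg
  rw [hD, regClass, regClass, ← QuotientGroup.mk_div, QuotientGroup.eq] at hg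
  obtain ⟨v, hv⟩ := hg
  rw [fracSec_val]
  refine ⟨v, ?_⟩
  rw [← Units.val_mul, ← hv]
  rfl


/-- Injectivity of the canonical homomorphism from divisors to invertible fractional ideals: let X be a
scheme and D, D' two divisors on X such that, over every open subset U, a section t of the sheaf of
meromorphic functions lies in O_X(D) (t_x · g ∈ O_{X,x} for a representative g of the germ of D at
x, for all x in U) if and only if it lies in O_X(D'). Then D = D'. -/
theorem result (X : Scheme.{u}) (D D' : Mero.Divisor X)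
    (h : ∀ (U : X.Opens) (t : Γ(Mero.kmod X, U)),
      (∀ x : ↥U, Mero.DivCond D x.1 (t.1 x)) ↔ (∀ x : ↥U, Mero.DivCond D' x.1 (t.1 x))) :
    D = D' := by
  apply Subtype.ext
  funext x
  obtain ⟨V₁, hxV₁, -, a₁, b₁, h₁⟩ := local_structure D x ⊤ trivial
  obtain ⟨V, hxV, hVV₁, a', b', h'⟩ := local_structure D' x V₁ hxV₁
  let a : Mero.regSub X V := ⟨X.presheaf.map (homOfLE hVV₁).op a₁.1, Mero.regSub_res _ a₁.2⟩
  let b : Mero.regSub X V := ⟨X.presheaf.map (homOfLE hVV₁).op b₁.1, Mero.regSub_res _ b₁.2⟩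
  have hD : ∀ y : V, D.1 y.1 = regClass y.1 (Mero.regGerm y a) / regClass y.1 (Mero.regGerm y b) := by
    intro y
    rw [regGerm_res hVV₁ a₁ y, regGerm_res hVV₁ b₁ y]
    exact h₁ ⟨y.1, hVV₁ y.2⟩
  -- the two conditions
  have c1 := (h V (fracSec b.1 a)).mp (fun y => divCond_fracSec D a b y (hD y)) ⟨x, hxV⟩
  have c2 := (h V (fracSec b'.1 a')).mpr (fun y => divCond_fracSec D' a' b' y (h' y)) ⟨x, hxV⟩
  have hDx := hD ⟨x, hxV⟩
  have hD'x := h' ⟨x, hxV⟩
  rw [regClass, regClass, ← QuotientGroup.mk_div] at hDx hD'x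
  obtain ⟨r, hr⟩ := c1 _ hD'x
  obtain ⟨r', hr'⟩ := c2 _ hDx
  rw [fracSec_val, ← Units.val_mul] at hr hr'
  -- r * r' = 1
  have hrr : r * r' = 1 := by
    apply Mero.algebraMap_KStalk_injective x
    rw [map_mul, map_one]
    change algebraMap _ _ r * algebraMap _ _ r' = 1
    rw [hr, hr', ← Units.val_mul, ← Units.val_one, Units.val_inj, mul_assoc, mul_inv_cancel_left,
      inv_mul_cancel]
  have hru : IsUnit r := IsUnit.of_mul_eq_one r' hrr
  change D.1 x = D'.1 x
  rw [hDx, hD'x, QuotientGroup.eq]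
  refine ⟨hru.unit, ?_⟩
  apply Units.ext
  change algebraMap _ _ r = _
  rw [hr]


end Groth.Agent.S5097
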