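import Groth.Statements.S5098
import Mathlib
import Groth.Agent.Lib.Helper65.DivDepth
-- import your own Groth.Agent.* helpers here

set_option autoImplicit false
universe u
open CategoryTheory CategoryTheory.Limits AlgebraicGeometry TopologicalSpace
open Mero

namespace Groth.Agent.S5098
open Groth.Agent.Lib.Helper65.DivDepth in

/-- General form, for divisors on a scheme that need not be integral: let X be a locally Noetherian
scheme and D a divisor on X. If the germ of D is effective (resp. trivial) at every point x whose
local ring O_{X,x} has depth 1, then D is effective (resp. D is the unit divisor, in the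
multiplicative notation used here). -/
theorem result (X : Scheme.{u}) [IsLocallyNoetherian X] (D : Mero.Divisor X) :
    ((∀ x : ↥X, LocCoh.depth ↑(X.presheaf.stalk x) ↑(X.presheaf.stalk x) = 1 → Mero.IsEffectiveAt D x) →
        Mero.IsEffective D) ∧
      ((∀ x : ↥X, LocCoh.depth ↑(X.presheaf.stalk x) ↑(X.presheaf.stalk x) = 1 → D.1 x = 1) → D = 1) := by
  constructor
  · intro h x
    by_contra hx
    obtain ⟨z, hzS, -, hzmax⟩ := exists_maximal_generization {z | ¬ Mero.IsEffectiveAt D z} x hx
    apply hzS
    apply h z
    refine depth_eq_one_of_not_isEffectiveAt D z (fun z' hz' hne => ?_) hzS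
    by_contra hcon
    exact hne (hzmax z' hcon hz')
  · intro h
    apply Subtype.ext
    funext x
    by_contra hx
    obtain ⟨z, hzS, -, hzmax⟩ := exists_maximal_generization (Mero.supp D) x hx
    apply hzS
    apply h z
    exact depth_eq_one_of_maximal_mem_supp D z hzS hzmax


end Groth.Agent.S5098
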