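import Groth.Statements.S5104
import Mathlib

set_option autoImplicit false
universe u
open CategoryTheory CategoryTheory.Limits AlgebraicGeometry TopologicalSpace
open Rat20

namespace Groth.Agent.S5104

section helpers
open AlgebraicGeometry CategoryTheory Limits TopologicalSpace Opposite


/-- In a Noetherian quasi-sober space, a point in the closure of a locally closed set is a
specialization of a point of that set. -/
theorem exists_specializes_of_mem_closure {α : Type*} [TopologicalSpace α] [NoetherianSpace α]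
    [QuasiSober α] (F : Closeds α) :
    ∀ (O : Set α), IsOpen O → ∀ x : α, x ∈ closure (O ∩ (F : Set α)) →
      ∃ η ∈ O ∩ (F : Set α), η ⤳ x := by
  apply wellFounded_lt.induction F; clear F
  intro F H O hO x hx
  by_cases h₁ : IsPreirreducible (F : Set α)
  · have hne : (O ∩ (F : Set α)).Nonempty := by
      by_contra hcon
      rw [Set.not_nonempty_iff_eq_empty] at hcon
      rw [hcon, closure_empty] at hx
      exact hx
    obtain ⟨y, hyO, hyF⟩ := hne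
    have hirr : IsIrreducible (F : Set α) := ⟨⟨y, hyF⟩, h₁⟩
    obtain ⟨η, hη⟩ := QuasiSober.sober hirr F.isClosed
    have hηy : η ⤳ y := hη.specializes hyF
    have hxF : x ∈ (F : Set α) := closure_minimal Set.inter_subset_right F.isClosed hx
    refine ⟨η, ⟨hηy.mem_open hO hyO, hη.mem⟩, hη.specializes hxF⟩
  · simp only [isPreirreducible_iff_isClosed_union_isClosed, not_forall, not_or] at h₁
    obtain ⟨z₁, z₂, hz₁, hz₂, h, hz₁', hz₂'⟩ := h₁
    lift z₁ to Closeds α using hz₁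
    lift z₂ to Closeds α using hz₂
    have hcov : O ∩ (F : Set α) ⊆ (O ∩ ((F ⊓ z₁ : Closeds α) : Set α)) ∪
        (O ∩ ((F ⊓ z₂ : Closeds α) : Set α)) := by
      rintro y ⟨hyO, hyF⟩
      rcases h hyF with h1 | h2
      · exact Or.inl ⟨hyO, hyF, h1⟩
      · exact Or.inr ⟨hyO, hyF, h2⟩
    have hx' := closure_mono hcov hx
    rw [closure_union] at hx'
    rcases hx' with hx1 | hx2
    · obtain ⟨η, ⟨h1, h2⟩, h3⟩ := H (F ⊓ z₁) (inf_lt_left.2 hz₁') O hO x hx1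
      exact ⟨η, ⟨h1, h2.1⟩, h3⟩
    · obtain ⟨η, ⟨h1, h2⟩, h3⟩ := H (F ⊓ z₂) (inf_lt_left.2 hz₂') O hO x hx2
      exact ⟨η, ⟨h1, h2.1⟩, h3⟩

/-- local version. -/
theorem exists_specializes_of_mem_closure' {α : Type*} [TopologicalSpace α] (V : Set α)
    (hV : IsOpen V) [NoetherianSpace V] [QuasiSober V] {x : α} (hxV : x ∈ V) {O F : Set α}
    (hO : IsOpen O) (hF : IsClosed F) (hx : x ∈ closure (O ∩ F)) : ∃ η ∈ O ∩ F, η ⤳ x := by
  let x' : V := ⟨x, hxV⟩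
  have hx' : x' ∈ closure (((↑) : V → α) ⁻¹' O ∩ ((↑) : V → α) ⁻¹' F) := by
    rw [closure_subtype]
    have : ((↑) : V → α) '' (((↑) : V → α) ⁻¹' O ∩ ((↑) : V → α) ⁻¹' F) = (O ∩ F) ∩ V := by
      ext y
      constructor
      · rintro ⟨⟨y, hy⟩, ⟨h1, h2⟩, rfl⟩
        exact ⟨⟨h1, h2⟩, hy⟩
      · rintro ⟨⟨h1, h2⟩, hy⟩
        exact ⟨⟨y, hy⟩, ⟨h1, h2⟩, rfl⟩
    rw [this]
    rw [mem_closure_iff_nhds] at hx ⊢
    intro t ht
    have := hx (t ∩ V) (Filter.inter_mem ht (hV.mem_nhds hxV))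
    obtain ⟨y, ⟨hy1, hy2⟩, hy3⟩ := this
    exact ⟨y, hy1, hy3, hy2⟩
  obtain ⟨η, ⟨h1, h2⟩, h3⟩ := exists_specializes_of_mem_closure
    (⟨((↑) : V → α) ⁻¹' F, hF.preimage continuous_subtype_val⟩ : Closeds V)
    (((↑) : V → α) ⁻¹' O) (hO.preimage continuous_subtype_val) x' hx'
  exact ⟨η.1, ⟨h1, h2⟩, h3.map continuous_subtype_val⟩

/-- the key topological fact in the "locally finitely many components" case. -/
theorem exists_open_generic {α : Type*} [TopologicalSpace α] [QuasiSober α] (x : α)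
    (W : Set α) (hW : IsOpen W) (hxW : x ∈ W)
    (hfin : {Z : Set α | Z ∈ irreducibleComponents α ∧ (Z ∩ W).Nonempty}.Finite) :
    ∃ V : Set α, IsOpen V ∧ x ∈ V ∧ ∀ y ∈ V, ∃ η : α, η ⤳ y ∧ η ⤳ x := by
  let 𝒵 := {Z : Set α | Z ∈ irreducibleComponents α ∧ (Z ∩ W).Nonempty}
  let B : Set α := ⋃ Z ∈ {Z ∈ 𝒵 | x ∉ Z}, Z
  have hB : IsClosed B := by
    apply Set.Finite.isClosed_biUnion
    · exact hfin.subset (fun Z hZ => hZ.1)
    · intro Z hZ
      exact isClosed_of_mem_irreducibleComponents Z hZ.1.1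
  refine ⟨W ∩ Bᶜ, hW.inter hB.isOpen_compl, ⟨hxW, ?_⟩, ?_⟩
  · intro hxB
    simp only [B, Set.mem_iUnion] at hxB
    obtain ⟨Z, hZ, hxZ⟩ := hxB
    exact hZ.2 hxZ
  · rintro y ⟨hyW, hyB⟩
    let Z := irreducibleComponent y
    have hZ : Z ∈ irreducibleComponents α := irreducibleComponent_mem_irreducibleComponents y
    have hyZ : y ∈ Z := mem_irreducibleComponent
    have hZ𝒵 : Z ∈ 𝒵 := ⟨hZ, ⟨y, hyZ, hyW⟩⟩
    have hxZ : x ∈ Z := by
      by_contra hcon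
      apply hyB
      simp only [B, Set.mem_iUnion]
      exact ⟨Z, ⟨hZ𝒵, hcon⟩, hyZ⟩
    obtain ⟨η, hη⟩ := QuasiSober.sober isIrreducible_irreducibleComponent
      (isClosed_irreducibleComponent (x := y))
    exact ⟨η, hη.specializes hyZ, hη.specializes hxZ⟩


theorem isGermInjectiveAt_of_generic {X : Scheme.{u}} [IsReduced X] (x : X) (V₀ : X.Opens)
    (hxV₀ : x ∈ V₀) (hgen : ∀ y ∈ V₀, ∃ η : X, η ⤳ y ∧ η ⤳ x) : X.IsGermInjectiveAt x := by
  obtain ⟨_, ⟨V, hV, rfl⟩, hxV, hVV₀⟩ :=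
    X.isBasis_affineOpens.exists_subset_of_mem_open hxV₀ V₀.2
  refine ⟨V, hxV, hV, ?_⟩
  rw [injective_iff_map_eq_zero]
  intro a ha
  obtain ⟨V', hxV', iU, iV, e⟩ := X.presheaf.germ_eq x hxV hxV a 0 (by rw [ha, map_zero])
  rw [map_zero] at e
  rw [← basicOpen_eq_bot_iff]
  by_contra hne
  obtain ⟨y, hy⟩ : ((X.basicOpen a : X.Opens) : Set X).Nonempty := by
    rw [Set.nonempty_iff_ne_empty]
    intro h0
    exact hne (TopologicalSpace.Opens.ext h0)
  have hyV : y ∈ V := X.basicOpen_le a hy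
  obtain ⟨η, hηy, hηx⟩ := hgen y (hVV₀ hyV)
  have h1 : η ∈ X.basicOpen a := hηy.mem_open (X.basicOpen a).2 hy
  have h2 : η ∈ V' := hηx.mem_open V'.2 hxV'
  have h3 : η ∈ X.basicOpen (X.presheaf.map iU.op a) := by
    rw [Scheme.basicOpen_res]
    exact ⟨h2, h1⟩
  rw [e, Scheme.basicOpen_zero] at h3
  exact h3


theorem fromSpecStalkOfMem_homOfLE {X : Scheme.{u}} {W V : X.Opens} (e : W ≤ V) (z : X)
    (hzW : z ∈ W) :
    W.fromSpecStalkOfMem z hzW ≫ X.homOfLE e = V.fromSpecStalkOfMem z (e hzW) := by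
  rw [← cancel_mono V.ι, Category.assoc, X.homOfLE_ι, Scheme.Opens.fromSpecStalkOfMem_ι,
    Scheme.Opens.fromSpecStalkOfMem_ι]

theorem local_agree {X Y : Scheme.{u}} (U V₁ : X.Opens) (h : U.toScheme ⟶ Y)
    (v : V₁.toScheme ⟶ Y) (z : X) (hzU : z ∈ U) (hzV : z ∈ V₁) [hz : X.IsGermInjectiveAt z]
    (e : V₁.fromSpecStalkOfMem z hzV ≫ v = U.fromSpecStalkOfMem z hzU ≫ h) :
    ∃ (N : X.Opens) (hN1 : N ≤ U) (hN2 : N ≤ V₁), z ∈ N ∧
      X.homOfLE hN2 ≫ v = X.homOfLE hN1 ≫ h := by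
  let W : X.Opens := U ⊓ V₁
  have hzW : z ∈ W := ⟨hzU, hzV⟩
  let z' : W.toScheme := ⟨z, hzW⟩
  let f : W.toScheme ⟶ Y := X.homOfLE (inf_le_right : W ≤ V₁) ≫ v
  let g : W.toScheme ⟶ Y := X.homOfLE (inf_le_left : W ≤ U) ≫ h
  haveI : W.toScheme.IsGermInjectiveAt z' := by
    have : X.IsGermInjectiveAt (W.ι z') := hz
    exact (isGermInjectiveAt_iff_of_isOpenImmersion (f := W.ι) (x := z')).mp this
  have e1 : W.fromSpecStalkOfMem z hzW ≫ f = W.fromSpecStalkOfMem z hzW ≫ g := by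
    change W.fromSpecStalkOfMem z hzW ≫ X.homOfLE _ ≫ v = W.fromSpecStalkOfMem z hzW ≫ X.homOfLE _ ≫ h
    rw [← Category.assoc, ← Category.assoc, fromSpecStalkOfMem_homOfLE, fromSpecStalkOfMem_homOfLE]
    exact e
  have e2 : W.toScheme.fromSpecStalk z' ≫ f = W.toScheme.fromSpecStalk z' ≫ g := by
    rw [Scheme.Opens.fromSpecStalkOfMem, Category.assoc, Category.assoc] at e1
    exact (cancel_epi _).mp e1
  obtain ⟨N, hzN, hN⟩ := spread_out_unique_of_isGermInjective' f g e2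
  refine ⟨W.ι ''ᵁ N, (W.ι_image_le N).trans inf_le_left, (W.ι_image_le N).trans inf_le_right,
    ⟨z', hzN, rfl⟩, ?_⟩
  have h3 := congrArg (fun t => (W.ι.isoImage N).inv ≫ t) hN
  simp only [← Category.assoc, Scheme.Opens.isoImage_ι_inv_ι] at h3
  simpa only [f, g, ← Category.assoc, Scheme.homOfLE_homOfLE] using h3


theorem gen_agree {X Y : Scheme.{u}} (U V₁ : X.Opens) (h : U.toScheme ⟶ Y)
    (v : V₁.toScheme ⟶ Y) (x : X) (hxV : x ∈ V₁) (w : Spec (X.presheaf.stalk x) ⟶ Y)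
    (hw : w = V₁.fromSpecStalkOfMem x hxV ≫ v)
    (hP : pullback.fst (X.fromSpecStalk x) U.ι ≫ w = pullback.snd (X.fromSpecStalk x) U.ι ≫ h)
    (z : X) (hzx : z ⤳ x) (hzU : z ∈ U) (hzV : z ∈ V₁) :
    V₁.fromSpecStalkOfMem z hzV ≫ v = U.fromSpecStalkOfMem z hzU ≫ h := by
  have hc : Spec.map (X.presheaf.stalkSpecializes hzx) ≫ X.fromSpecStalk x =
      U.fromSpecStalkOfMem z hzU ≫ U.ι := by
    rw [Scheme.SpecMap_stalkSpecializes_fromSpecStalk, Scheme.Opens.fromSpecStalkOfMem_ι]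
  have h1 := congrArg (fun t => pullback.lift _ _ hc ≫ t) hP
  simp only [← Category.assoc, pullback.lift_fst, pullback.lift_snd] at h1
  rw [← h1, hw, ← Category.assoc]
  congr 1
  rw [← cancel_mono V₁.ι, Category.assoc, Scheme.Opens.fromSpecStalkOfMem_ι,
    Scheme.Opens.fromSpecStalkOfMem_ι, Scheme.SpecMap_stalkSpecializes_fromSpecStalk]


theorem agree_iSup {X Y : Scheme.{u}} (U V₁ : X.Opens) (h : U.toScheme ⟶ Y)
    (v : V₁.toScheme ⟶ Y) {T : Type*} (N : T → X.Opens) (hN1 : ∀ i, N i ≤ U)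
    (hN2 : ∀ i, N i ≤ V₁) (hN : ∀ i, X.homOfLE (hN2 i) ≫ v = X.homOfLE (hN1 i) ≫ h) :
    X.homOfLE (iSup_le hN2) ≫ v = X.homOfLE (iSup_le hN1) ≫ h := by
  apply (Scheme.Opens.iSupOpenCover N).hom_ext
  intro i
  change X.homOfLE (le_iSup N i) ≫ X.homOfLE _ ≫ v = X.homOfLE (le_iSup N i) ≫ X.homOfLE _ ≫ h
  rw [← Category.assoc, ← Category.assoc, Scheme.homOfLE_homOfLE, Scheme.homOfLE_homOfLE]
  exact hN i


theorem finish {X Y S : Scheme.{u}} (pX : X ⟶ S) (pY : Y ⟶ S) (U V₁ V' : X.Opens)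
    (h : U.toScheme ⟶ Y) (v : V₁.toScheme ⟶ Y) (hv2 : v ≫ pY = V₁.ι ≫ pX) (x : X)
    (hxV' : x ∈ V') (hV' : V' ≤ V₁)
    (hag : X.homOfLE ((inf_le_right : U ⊓ V' ≤ V').trans hV') ≫ v =
      X.homOfLE (inf_le_left : U ⊓ V' ≤ U) ≫ h) :
    ∃ (V : X.Opens) (v : (V : Scheme.{u}) ⟶ Y), x ∈ V ∧ v ≫ pY = V.ι ≫ pX ∧
        X.homOfLE (inf_le_right : U ⊓ V ≤ V) ≫ v = X.homOfLE (inf_le_left : U ⊓ V ≤ U) ≫ h := by
  refine ⟨V', X.homOfLE hV' ≫ v, hxV', ?_, ?_⟩
  · rw [Category.assoc, hv2, ← Category.assoc, X.homOfLE_ι]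
  · rw [← Category.assoc, Scheme.homOfLE_homOfLE]
    exact hag

/-- the reduced case: agreement on a dense open implies agreement. -/
theorem red_case {X Y S : Scheme.{u}} [IsReduced X] (pX : X ⟶ S) (pY : Y ⟶ S) [IsSeparated pY]
    (U V₁ : X.Opens) (h : U.toScheme ⟶ Y) (hh : h ≫ pY = U.ι ≫ pX)
    (v : V₁.toScheme ⟶ Y) (hv2 : v ≫ pY = V₁.ι ≫ pX) (x : X)
    (A : X.Opens) (hAU : A ≤ U) (hAV : A ≤ V₁)
    (hA : X.homOfLE hAV ≫ v = X.homOfLE hAU ≫ h)
    (hgenA : ∀ z : X, z ⤳ x → z ∈ U → z ∈ V₁ → z ∈ A)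
    (M : X.Opens) (hMU : M ≤ U) (hMV : M ≤ V₁)
    (hgen : ∀ y ∈ M, ∃ η : X, η ⤳ y ∧ η ⤳ x) :
    X.homOfLE hMV ≫ v = X.homOfLE hMU ≫ h := by
  have hred : IsReduced M.toScheme := inferInstance
  have hsep : (X.homOfLE hMV ≫ v) ≫ pY = (X.homOfLE hMU ≫ h) ≫ pY := by
    rw [Category.assoc, Category.assoc, hv2, hh, ← Category.assoc, ← Category.assoc,
      X.homOfLE_ι, X.homOfLE_ι]
  let ι : (A ⊓ M : X.Opens).toScheme ⟶ M.toScheme := X.homOfLE inf_le_right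
  haveI : IsDominant ι := by
    constructor
    rw [DenseRange, dense_iff_inter_open]
    rintro O' hO' ⟨p, hp⟩
    obtain ⟨η, hηy, hηx⟩ := hgen p.1 p.2
    have hηM : η ∈ M := hηy.mem_open M.2 p.2
    have hηA : η ∈ A := hgenA η hηx (hMU hηM) (hMV hηM)
    let η' : M.toScheme := ⟨η, hηM⟩
    have hsp : η' ⤳ p := by
      rw [← M.ι.isOpenEmbedding.isInducing.specializes_iff]
      exact hηy
    refine ⟨η', hsp.mem_open hO' hp, ⟨⟨η, hηA, hηM⟩, ?_⟩⟩
    exact X.homOfLE_apply' _ η _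
  refine ext_of_isDominant_of_isSeparated pY hsep ι ?_
  change X.homOfLE _ ≫ X.homOfLE _ ≫ v = X.homOfLE _ ≫ X.homOfLE _ ≫ h
  rw [← Category.assoc, ← Category.assoc, Scheme.homOfLE_homOfLE, Scheme.homOfLE_homOfLE]
  have := congrArg (fun t => X.homOfLE (inf_le_left : A ⊓ M ≤ A) ≫ t) hA
  simpa only [← Category.assoc, Scheme.homOfLE_homOfLE] using this


theorem noeth_case {X : Scheme.{u}} [IsLocallyNoetherian X] (U V₁ : X.Opens) (x : X)
    (hxV₁ : x ∈ V₁) (A : X.Opens)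
    (hgenA : ∀ z : X, z ⤳ x → z ∈ U → z ∈ V₁ → z ∈ A) :
    ∃ V' : X.Opens, x ∈ V' ∧ V' ≤ V₁ ∧ U ⊓ V' ≤ A := by
  obtain ⟨_, ⟨V₂, hV₂, rfl⟩, hxV₂, hV₂V₁⟩ :=
    X.isBasis_affineOpens.exists_subset_of_mem_open hxV₁ V₁.2
  haveI : IsNoetherianRing Γ(X, V₂) := IsLocallyNoetherian.component_noetherian ⟨V₂, hV₂⟩
  haveI : NoetherianSpace (V₂ : Set X) := noetherianSpace_of_isAffineOpen V₂ hV₂
  haveI : QuasiSober (V₂ : Set X) := V₂.isOpenEmbedding'.quasiSober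
  let C : Set X := ((U ⊓ V₂ : X.Opens) : Set X) ∩ (A : Set X)ᶜ
  have hxC : x ∉ closure C := by
    intro hx
    obtain ⟨η, ⟨⟨hηU, hηV₂⟩, hηA⟩, hηx⟩ := exists_specializes_of_mem_closure' (V₂ : Set X) V₂.2
      hxV₂ (U ⊓ V₂ : X.Opens).2 A.2.isClosed_compl hx
    exact hηA (hgenA η hηx hηU (hV₂V₁ hηV₂))
  refine ⟨V₂ ⊓ ⟨(closure C)ᶜ, isClosed_closure.isOpen_compl⟩, ⟨hxV₂, hxC⟩,
    fun y hy => hV₂V₁ hy.1, ?_⟩
  rintro y ⟨hyU, hyV₂, hyC⟩
  by_contra hyA
  exact hyC (subset_closure ⟨⟨hyU, hyV₂⟩, hyA⟩)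

end helpers

/-- Let X be an S-scheme which is locally Noetherian, or reduced with locally finite set of irreducible
components; let Y be separated and locally of finite presentation over S, U a schematically dense
open subset of X, h : U → Y an S-morphism (a pseudo-S-morphism ω of X into Y) and x a point of X.
Then ω is defined at x — some S-morphism from an open neighbourhood V of x to Y agrees with h on U ∩
V — if and only if the restriction of ω to Spec O_{X,x} is everywhere defined — some S-morphism Spec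
O_{X,x} → Y agrees with h after pulling back to Spec O_{X,x} ×_X U. (The published statement does
not assume Y separated over S and compares morphisms only on some schematically dense open; this row
assumes Y separated over S, where the two readings agree.) -/
theorem result {X Y S : Scheme.{u}} (pX : X ⟶ S) (pY : Y ⟶ S)
    [IsSeparated pY] [LocallyOfFinitePresentation pY]
    (hX : IsLocallyNoetherian X ∨ (IsReduced X ∧ ∀ x : ↥X, ∃ W : X.Opens, x ∈ W ∧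
      {Z : Set ↥X | Z ∈ irreducibleComponents ↥X ∧ (Z ∩ (W : Set ↥X)).Nonempty}.Finite))
    (U : X.Opens) (hU : CInt.IsSchematicallyDense U) (h : (U : Scheme.{u}) ⟶ Y) (hh : h ≫ pY = U.ι ≫ pX)
    (x : ↥X) :
    (∃ (V : X.Opens) (v : (V : Scheme.{u}) ⟶ Y), x ∈ V ∧ v ≫ pY = V.ι ≫ pX ∧
        X.homOfLE (inf_le_right : U ⊓ V ≤ V) ≫ v = X.homOfLE (inf_le_left : U ⊓ V ≤ U) ≫ h) ↔
      ∃ w : Spec (X.presheaf.stalk x) ⟶ Y, w ≫ pY = X.fromSpecStalk x ≫ pX ∧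
        pullback.fst (X.fromSpecStalk x) U.ι ≫ w = pullback.snd (X.fromSpecStalk x) U.ι ≫ h := by
  constructor
  · rintro ⟨V, v, hxV, hv, hag⟩
    refine ⟨V.fromSpecStalkOfMem x hxV ≫ v, ?_, ?_⟩
    · rw [Category.assoc, hv, ← Category.assoc, Scheme.Opens.fromSpecStalkOfMem_ι]
    · have hrange : Set.range ⇑(pullback.fst (X.fromSpecStalk x) U.ι ≫ X.fromSpecStalk x) ⊆
          Set.range ⇑(U ⊓ V).ι := by
        rintro _ ⟨p, rfl⟩
        rw [Scheme.Opens.range_ι]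
        constructor
        · rw [pullback.condition]
          exact ((pullback.snd (X.fromSpecStalk x) U.ι) p).2
        · have e1 : pullback.fst (X.fromSpecStalk x) U.ι ≫ X.fromSpecStalk x =
              (pullback.fst (X.fromSpecStalk x) U.ι ≫ V.fromSpecStalkOfMem x hxV) ≫ V.ι := by
            rw [Category.assoc, Scheme.Opens.fromSpecStalkOfMem_ι]
          rw [e1]
          exact (((pullback.fst (X.fromSpecStalk x) U.ι ≫ V.fromSpecStalkOfMem x hxV)) p).2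
      let q := IsOpenImmersion.lift (U ⊓ V).ι
        (pullback.fst (X.fromSpecStalk x) U.ι ≫ X.fromSpecStalk x) hrange
      have hq : q ≫ (U ⊓ V).ι = pullback.fst (X.fromSpecStalk x) U.ι ≫ X.fromSpecStalk x :=
        IsOpenImmersion.lift_fac _ _ _
      have hq1 : q ≫ X.homOfLE (inf_le_right : U ⊓ V ≤ V) =
          pullback.fst (X.fromSpecStalk x) U.ι ≫ V.fromSpecStalkOfMem x hxV := by
        rw [← cancel_mono V.ι, Category.assoc, X.homOfLE_ι, hq, Category.assoc,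
          Scheme.Opens.fromSpecStalkOfMem_ι]
      have hq2 : q ≫ X.homOfLE (inf_le_left : U ⊓ V ≤ U) =
          pullback.snd (X.fromSpecStalk x) U.ι := by
        rw [← cancel_mono U.ι, Category.assoc, X.homOfLE_ι, hq, pullback.condition]
      rw [← Category.assoc, ← hq1, Category.assoc, hag, ← Category.assoc, hq2]
  · rintro ⟨w, hw, hP⟩
    have hgi : ∀ z : X, X.IsGermInjectiveAt z := by
      rcases hX with hN | ⟨hred, hfin⟩
      · intro z; infer_instance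
      · intro z
        obtain ⟨W, hzW, hWfin⟩ := hfin z
        obtain ⟨V, hV, hzV, hgen⟩ := exists_open_generic z (W : Set X) W.2 hzW hWfin
        exact isGermInjectiveAt_of_generic z ⟨V, hV⟩ hzV hgen
    haveI := hgi x
    obtain ⟨V₁, hxV₁, v, hv1, hv2⟩ := spread_out_of_isGermInjective' pX pY w hw
    have key : ∀ z : {z : X // z ⤳ x ∧ z ∈ U ∧ z ∈ V₁}, ∃ (N : X.Opens) (hN1 : N ≤ U)
        (hN2 : N ≤ V₁), z.1 ∈ N ∧ X.homOfLE hN2 ≫ v = X.homOfLE hN1 ≫ h := by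
      rintro ⟨z, hzx, hzU, hzV⟩
      haveI := hgi z
      exact local_agree U V₁ h v z hzU hzV
        (gen_agree U V₁ h v x hxV₁ w hv1 hP z hzx hzU hzV)
    choose N hN1 hN2 hzN hN using key
    let A : X.Opens := ⨆ i, N i
    have hAU : A ≤ U := iSup_le hN1
    have hAV : A ≤ V₁ := iSup_le hN2
    have hA : X.homOfLE hAV ≫ v = X.homOfLE hAU ≫ h := agree_iSup U V₁ h v N hN1 hN2 hN
    have hgenA : ∀ z : X, z ⤳ x → z ∈ U → z ∈ V₁ → z ∈ A := fun z h1 h2 h3 =>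
      TopologicalSpace.Opens.mem_iSup.mpr ⟨⟨z, h1, h2, h3⟩, hzN _⟩
    rcases hX with hN | ⟨hred, hfin⟩
    · obtain ⟨V', hxV', hV'V₁, hV'A⟩ := noeth_case U V₁ x hxV₁ A hgenA
      refine finish pX pY U V₁ V' h v hv2 x hxV' hV'V₁ ?_
      have := congrArg (fun t => X.homOfLE hV'A ≫ t) hA
      simpa only [← Category.assoc, Scheme.homOfLE_homOfLE] using this
    · obtain ⟨W, hxW, hWfin⟩ := hfin x
      obtain ⟨V₂, hV₂, hxV₂, hgen⟩ := exists_open_generic x (W : Set X) W.2 hxW hWfin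
      let V' : X.Opens := V₁ ⊓ ⟨V₂, hV₂⟩
      refine finish pX pY U V₁ V' h v hv2 x ⟨hxV₁, hxV₂⟩ inf_le_left ?_
      exact red_case pX pY U V₁ h hh v hv2 x A hAU hAV hA hgenA (U ⊓ V') inf_le_left _
        (fun y hy => hgen y hy.2.2)

end Groth.Agent.S5104
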