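import Groth.Statements.S5105
import Mathlib
import Groth.Agent.Lib.Helper64.SecDivCartier

set_option autoImplicit false
universe u
open CategoryTheory CategoryTheory.Limits AlgebraicGeometry TopologicalSpace
open Div21

namespace Groth.Agent.S5105


/-- For an integral scheme (X is locally factorial exactly when the canonical map Pic(X) → Cl(X) is a
bijection; in the presence of (i), being bijective means that each codimension-1 cycle arises as the
Weil divisor of some rational section of an invertible module): suppose X is an integral scheme that
is normal and locally Noetherian. Then these two conditions are equivalent: (1) whenever Z is a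
function from the points of X to the integers that is zero away from the points of codimension 1
(coheight 1) and whose support is locally finite, one can find an invertible O_X-module L together
with a nonzero rational section s of L (a nonzero element of the generic fibre of L) such that, at
each point of codimension 1, the order of s equals the value Z takes there; (2) each local ring of X
is a unique factorisation domain. -/
theorem result (X : Scheme.{u}) [IsIntegral X]
    [IsLocallyNoetherian X] (hX : Pi1.IsNormalScheme X) :
    (∀ Z : ↥X → ℤ, (∀ x : ↥X, Order.coheight x ≠ 1 → Z x = 0) →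
        (∀ x : ↥X, ∃ W : X.Opens, x ∈ W ∧ {z : ↥X | z ∈ W ∧ Z z ≠ 0}.Finite) →
        ∃ (L : X.Modules) (_ : PicF.IsInvertible L) (s : Cyc.secFibre L (genericPoint ↥X)), s ≠ 0 ∧
          ∀ x : ↥X, Order.coheight x = 1 →
            Cyc.secOrdAt L (genericPoint ↥X) x (genericPoint_specializes x) s = Z x) ↔
      ∀ x : ↥X, UniqueFactorizationMonoid ↑(X.presheaf.stalk x) := by
    classical
    constructor
    · intro H x
      rw [UniqueFactorizationMonoid.iff_forall_isPrincipal_of_height_eq_one]
      intro p hp hht
      refine Groth.Agent.Lib.Helper64.LocFact.isPrincipal_of_exists_divisor hX x p hht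
        (fun x₀ hx₀ => ?_)
      obtain ⟨L, hL, s, hs, hord⟩ := H (fun z => if z = x₀ then 1 else 0)
        (fun z hz => by
          have hne : z ≠ x₀ := by
            rintro rfl
            exact hz hx₀
          exact if_neg hne)
        (fun z => ⟨⊤, trivial, (Set.finite_singleton x₀).subset (by
          rintro w ⟨-, hw⟩
          by_contra h
          exact hw (if_neg h))⟩)
      obtain ⟨v, rfl⟩ := Submodule.Quotient.mk_surjective _ s
      have hv : v ≠ 0 := by
        rintro rfl
        exact hs (Submodule.Quotient.mk_zero _)
      obtain ⟨D, hD⟩ := Groth.Agent.Lib.Helper64.SecDivCartier.exists_divisor_of_section hL v hv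
      refine ⟨D, fun f hf => ?_, fun z hne hz f hf => ?_⟩
      · exact (hD x₀ hx₀ f hf).trans ((hord x₀ hx₀).trans (if_pos rfl))
      · exact (hD z hz f hf).trans ((hord z hz).trans (if_neg hne))
    · intro hufd Z _ hZfin
      have hLF : Groth.Agent.Lib.Helper64.WeilSheaf.LocFinSupp Z := hZfin
      obtain ⟨v, hv⟩ := Groth.Agent.Lib.Helper64.WeilSheaf.exists_stalkVal_generic (hX := hX) hLF 1
      have hv0 : v ≠ 0 := by
        rintro rfl
        rw [Groth.Agent.Lib.Helper64.WeilSheaf.stalkVal_zero] at hv
        exact zero_ne_one hv
      refine ⟨Groth.Agent.Lib.Helper64.WeilSheaf.OD hX Z,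
        Groth.Agent.Lib.Helper64.RegInv.isInvertible_of_isRef1_of_ufd
          (Groth.Agent.Lib.Helper64.WeilSheaf.isRef1 hLF) hufd,
        Submodule.Quotient.mk v, ?_, fun x hx => ?_⟩
      · intro h0
        exact hv0 ((Groth.Agent.Lib.Helper64.SecOrd.mk_eq_zero_iff _ v).1 h0)
      · exact Groth.Agent.Lib.Helper64.WeilSheaf.secOrdAt_one hLF v hv x hx

end Groth.Agent.S5105
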