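import Groth.Statements.S5110
import Groth.Agent.Lib.Helper50.LimMax
import Groth.Agent.S5106

set_option autoImplicit false
universe u
open CategoryTheory CategoryTheory.Limits AlgebraicGeometry TopologicalSpace
open Lim8

namespace Groth.Agent.S5110

/-- Let (S_i) be a cofiltered system of schemes with affine transition morphisms and S its limit, such
that every S_i has finitely many maximal points and the transition morphisms send maximal points to
maximal points; let S_{i₀} be quasi-compact and V₀ an open subset of S_{i₀}, with inverse images V_i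
in the S_i over i₀ and V in S. If V₀ is dense in S_{i₀} then every V_i and V are dense. Conversely,
if V is dense in S and S has only finitely many maximal points, then V_i is dense in S_i for some i
over i₀. -/
theorem result {I : Type u} [SmallCategory I] [IsCofiltered I]
    (D : I ⥤ Scheme.{u}) (c : Limits.Cone D) (hc : Limits.IsLimit c)
    [∀ (i j : I) (g : i ⟶ j), IsAffineHom (D.map g)]
    (hfin : ∀ i : I, {s : ↥(D.obj i) | ∀ z : ↥(D.obj i), z ⤳ s → z = s}.Finite)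
    (hsys : ∀ (i j : I) (g : i ⟶ j) (s : ↥(D.obj i)), (∀ z : ↥(D.obj i), z ⤳ s → z = s) →
      ∀ z : ↥(D.obj j), z ⤳ D.map g s → z = D.map g s)
    (i₀ : I) [CompactSpace ↥(D.obj i₀)] (V₀ : (D.obj i₀).Opens) :
    (Dense (V₀ : Set ↥(D.obj i₀)) →
        (∀ (i : I) (g : i ⟶ i₀), Dense (((D.map g) ⁻¹ᵁ V₀ : (D.obj i).Opens) : Set ↥(D.obj i))) ∧
          Dense (((c.π.app i₀) ⁻¹ᵁ V₀ : c.pt.Opens) : Set ↥c.pt)) ∧
      (Dense (((c.π.app i₀) ⁻¹ᵁ V₀ : c.pt.Opens) : Set ↥c.pt) →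
        {s : ↥c.pt | ∀ z : ↥c.pt, z ⤳ s → z = s}.Finite →
          ∃ (i : I) (g : i ⟶ i₀), Dense (((D.map g) ⁻¹ᵁ V₀ : (D.obj i).Opens) : Set ↥(D.obj i))) := by
  constructor
  · intro hV₀
    have hM₀ : ∀ m : ↥(D.obj i₀), (∀ z : ↥(D.obj i₀), z ⤳ m → z = m) → m ∈ V₀ := fun m hm ↦
      Lib.Helper50.maximal_mem_of_dense (hfin i₀) (V₀ : Set ↥(D.obj i₀)) V₀.2 hV₀ m hm
    refine ⟨fun i g ↦ ?_, ?_⟩
    · apply Lib.Helper50.dense_of_forall_maximal_mem _ ((D.map g) ⁻¹ᵁ V₀).2
      intro m hm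
      exact hM₀ _ (hsys i i₀ g m hm)
    · apply Lib.Helper50.dense_of_forall_maximal_mem _ ((c.π.app i₀) ⁻¹ᵁ V₀).2
      intro m hm
      exact hM₀ _ ((Groth.Agent.S5106.result D c hc hfin hsys m).mp hm i₀)
  · intro hV hSfin
    by_contra hcon
    push Not at hcon
    let D' : Over i₀ ⥤ Scheme.{u} := Over.forget i₀ ⋙ D
    let c' : Limits.Cone D' := c.whisker (Over.forget i₀)
    have hc' : Limits.IsLimit c' := (Functor.Initial.isLimitWhiskerEquiv (Over.forget i₀) c).symm hc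
    have hD' : ∀ (i j : Over i₀) (f : i ⟶ j), IsAffineHom (D'.map f) := fun i j f ↦
      inferInstanceAs (IsAffineHom (D.map f.left))
    have hfin' : ∀ j : Over i₀, {s : ↥(D'.obj j) | ∀ z : ↥(D'.obj j), z ⤳ s → z = s}.Finite :=
      fun j ↦ hfin j.left
    have hsys' : ∀ (i j : Over i₀) (g : i ⟶ j) (s : ↥(D'.obj i)),
        (∀ z : ↥(D'.obj i), z ⤳ s → z = s) →
        ∀ z : ↥(D'.obj j), z ⤳ D'.map g s → z = D'.map g s := fun i j g s hs ↦
      hsys i.left j.left g.left s hs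
    let B : ∀ j : Over i₀, Set (D'.obj j) := fun j ↦
      {m | (∀ z : ↥(D.obj j.left), z ⤳ m → z = m) ∧ m ∉ (D.map j.hom) ⁻¹ᵁ V₀}
    have hBfin : ∀ j, (B j).Finite := fun j ↦ (hfin j.left).subset fun m hm ↦ hm.1
    have hBne : ∀ j, (B j).Nonempty := by
      intro j
      by_contra hemp
      rw [Set.not_nonempty_iff_eq_empty] at hemp
      apply hcon j.left j.hom
      apply Lib.Helper50.dense_of_forall_maximal_mem _ ((D.map j.hom) ⁻¹ᵁ V₀).2
      intro m hm
      by_contra hmV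
      have : m ∈ B j := ⟨hm, hmV⟩
      rw [hemp] at this
      exact this
    have hBmaps : ∀ {i j : Over i₀} (φ : i ⟶ j), Set.MapsTo (D'.map φ) (B i) (B j) := by
      intro i j φ m hm
      refine ⟨hsys i.left j.left φ.left m hm.1, fun hmem ↦ hm.2 ?_⟩
      have h1 : D.map j.hom (D.map φ.left m) ∈ V₀ := hmem
      rw [← Scheme.Hom.comp_apply, ← D.map_comp, Over.w φ] at h1
      exact h1
    obtain ⟨z, hz⟩ := Lib.Helper50.exists_of_finite_nonempty_system D' c' hc' B hBfin hBne hBmaps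
    have hzmax : ∀ y : ↥c.pt, y ⤳ z → y = z :=
      (Groth.Agent.S5106.result D' c' hc' hfin' hsys' z).mpr fun j ↦ (hz j).1
    have hzV : z ∈ (c.π.app i₀) ⁻¹ᵁ V₀ :=
      Lib.Helper50.maximal_mem_of_dense hSfin _ ((c.π.app i₀) ⁻¹ᵁ V₀).2 hV z hzmax
    have h2 := (hz (Over.mk (𝟙 i₀))).2
    apply h2
    show D.map (𝟙 i₀) (c.π.app i₀ z) ∈ V₀
    rw [D.map_id]
    exact hzV

end Groth.Agent.S5110
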