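import Groth.Statements.S5114
import Mathlib
import Groth.Agent.S5035

set_option autoImplicit false
universe u
open SGA1

namespace Groth.Agent.S5114

open IsLocalRing CategoryTheory CategoryTheory.Limits AlgebraicGeometry

/-- A morphism `g` through which a finite jointly surjective family of universally closed
morphisms factors is universally submersive. -/
theorem univSubmersive_of_family {S' S : Scheme.{u}} (g : S' ⟶ S) {ι : Type*} [Finite ι]
    (T : ι → Scheme.{u}) (k : ∀ i, T i ⟶ S') (hk : ∀ i, UniversallyClosed (k i ≫ g))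
    (hsurj : ∀ s : S, ∃ i, ∃ τ : T i, (k i ≫ g) τ = s) : SGA1.UnivSubmersive g := by
  intro X' Y' i₁ i₂ f' sq
  change Topology.IsQuotientMap f'
  rw [Topology.isQuotientMap_iff_isClosed]
  have hcov : ∀ y' : Y', ∃ i, ∃ z : ↥(pullback (k i ≫ g) i₂),
      pullback.snd (k i ≫ g) i₂ z = y' := by
    intro y'
    obtain ⟨i, τ, hτ⟩ := hsurj (i₂ y')
    obtain ⟨z, hz1, hz2⟩ := Scheme.Pullback.exists_preimage_pullback τ y' hτ
    exact ⟨i, z, hz2⟩
  let m : ∀ i, pullback (k i ≫ g) i₂ ⟶ X' := fun i =>
    sq.lift (pullback.snd _ _) (pullback.fst _ _ ≫ k i)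
      (by rw [← pullback.condition, Category.assoc])
  have hm : ∀ i, m i ≫ f' = pullback.snd _ _ := fun i => sq.lift_fst _ _ _
  refine ⟨?_, fun W => ⟨fun hW => hW.preimage f'.continuous, fun hW => ?_⟩⟩
  · intro y'
    obtain ⟨i, z, hz⟩ := hcov y'
    exact ⟨m i z, by rw [← Scheme.Hom.comp_apply, hm, hz]⟩
  · have hWeq : W = ⋃ i, pullback.snd (k i ≫ g) i₂ '' ((m i) ⁻¹' (f' ⁻¹' W)) := by
      ext y'
      simp only [Set.mem_iUnion, Set.mem_image, Set.mem_preimage]
      constructor
      · intro hy'
        obtain ⟨i, z, hz⟩ := hcov y'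
        refine ⟨i, z, ?_, hz⟩
        rw [← Scheme.Hom.comp_apply, hm, hz]
        exact hy'
      · rintro ⟨i, z, hz1, rfl⟩
        rw [← Scheme.Hom.comp_apply, hm] at hz1
        exact hz1
    rw [hWeq]
    exact isClosed_iUnion_of_finite
      (fun i => (pullback.snd (k i ≫ g) i₂).isClosedMap _ (hW.preimage (m i).continuous))

open AlgebraicGeometry CategoryTheory CategoryTheory.Limits in
theorem exists_finite_of_quasiFiniteAt (A : Type u) [CommRing A] [HenselianLocalRing A]
    {S' : Scheme.{u}} (g : S' ⟶ Spec (CommRingCat.of A)) [LocallyOfFiniteType g] (x : S')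
    (hx : g x = closedPoint A) (hq : g.QuasiFiniteAt x) :
    ∃ (T : Scheme.{u}) (k : T ⟶ S'), IsFinite (k ≫ g) ∧
      ∀ t : S', t ⤳ x → t ∈ Set.range k := by
  have hcov := S'.affineOpenCover.covers x
  generalize S'.affineOpenCover.idx x = i at hcov
  obtain ⟨q, rfl⟩ := hcov
  let ι := S'.affineOpenCover.f i
  let B : CommRingCat := S'.affineOpenCover.X i
  obtain ⟨φ, hφ⟩ := Spec.map_surjective (ι ≫ g)
  have hft : φ.hom.FiniteType := by
    rw [← HasRingHomProperty.Spec_iff (P := @LocallyOfFiniteType), hφ]
    infer_instance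
  algebraize [φ.hom]
  have hqf : (Spec.map φ).QuasiFiniteAt q := by
    rw [hφ]
    exact Scheme.Hom.quasiFiniteAt_comp_iff_of_isOpenImmersion.mpr hq
  have hlies : q.asIdeal.LiesOver (maximalIdeal A) := by
    constructor
    have h1 : (Spec.map φ) q = closedPoint A := by
      rw [hφ]
      exact hx
    exact (congrArg PrimeSpectrum.asIdeal h1).symm
  have hqfa : Algebra.QuasiFiniteAt A q.asIdeal := by
    let := Localization.AtPrime.algebraOfLiesOver (q.asIdeal.under A) q.asIdeal
    have h1 : Algebra.QuasiFinite (Localization.AtPrime (q.asIdeal.under A))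
        (Localization.AtPrime q.asIdeal) := by
      rw [← RingHom.quasiFinite_algebraMap]
      exact (RingHom.QuasiFinite.respectsIso.arrow_mk_iso_iff
        (Scheme.arrowStalkMapSpecIso ..)).mp hqf
    exact .trans _ (Localization.AtPrime (q.asIdeal.under A)) _
  have hfin : Module.Finite A (Localization.AtPrime q.asIdeal) :=
    Groth.Agent.S5035.finite_atPrime_of_henselian A B q.asIdeal
  let L : CommRingCat := CommRingCat.of (Localization.AtPrime q.asIdeal)
  let ψ : B ⟶ L := CommRingCat.ofHom (algebraMap B (Localization.AtPrime q.asIdeal))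
  refine ⟨Spec L, Spec.map ψ ≫ ι, ?_, ?_⟩
  · rw [Category.assoc, ← hφ, ← Spec.map_comp, IsFinite.SpecMap_iff]
    have h1 : (φ ≫ ψ).hom = algebraMap A (Localization.AtPrime q.asIdeal) := by
      ext a
      simp only [CommRingCat.hom_comp, RingHom.coe_comp, Function.comp_apply]
      rw [IsScalarTower.algebraMap_apply A B (Localization.AtPrime q.asIdeal)]
      rfl
    rw [h1]
    exact RingHom.finite_algebraMap.mpr hfin
  · intro t ht
    have htι : t ∈ Set.range ι := ht.mem_open ι.isOpenEmbedding.isOpen_range ⟨q, rfl⟩
    obtain ⟨p, rfl⟩ := htι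
    have hpq : p ⤳ q := ι.isOpenEmbedding.isInducing.specializes_iff.mp ht
    have hp : p ∈ Set.range (PrimeSpectrum.comap
        (algebraMap B (Localization.AtPrime q.asIdeal))) := by
      rw [PrimeSpectrum.localization_comap_range (Localization.AtPrime q.asIdeal)
        q.asIdeal.primeCompl]
      have hpq' : p.asIdeal ≤ q.asIdeal :=
        (PrimeSpectrum.le_iff_specializes p q).mpr hpq
      change Disjoint _ _
      rw [Set.disjoint_left]
      intro b hb hbp
      exact hb (hpq' hbp)
    obtain ⟨r, rfl⟩ := hp
    exact ⟨r, rfl⟩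

theorem quasiFiniteAt_of_finite_fibre {X Y : Scheme.{u}} (g : X ⟶ Y) [LocallyOfFiniteType g]
    (x : X) (hfin : (g ⁻¹' {g x}).Finite) : g.QuasiFiniteAt x := by
  rw [Scheme.Hom.quasiFiniteAt_iff_isOpen_singleton_asFiber]
  have hF : Finite ↥(g.fiber (g x)) := by
    have := hfin.to_subtype
    exact Finite.of_equiv _ (g.fiberHomeo (g x)).symm.toEquiv
  have hlft : LocallyOfFiniteType (g.fiberToSpecResidueField (g x)) :=
    MorphismProperty.pullback_snd _ _ inferInstance
  have hlqf : LocallyQuasiFinite (g.fiberToSpecResidueField (g x)) :=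
    LocallyQuasiFinite.of_finite_preimage_singleton _ (fun _ => Set.toFinite _)
  have : IsLocallyArtinian (g.fiber (g x)) :=
    IsLocallyArtinian.of_locallyQuasiFinite (g.fiberToSpecResidueField (g x))
  exact isOpen_discrete _

theorem henselianLocalRing_of_isAdicComplete (R : Type u) [CommRing R] [IsLocalRing R]
    [IsAdicComplete (IsLocalRing.maximalIdeal R) R] : HenselianLocalRing R := by
  have h : HenselianRing R (IsLocalRing.maximalIdeal R) := inferInstance
  exact { is_henselian := fun f hf a₀ h₁ h₂ => h.is_henselian f hf a₀ h₁ (h₂.map _) }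

/-- Let A be a complete Noetherian local ring, S = Spec A, and g : S' ⟶ S a surjective morphism of
finite type whose fibre over the closed point s is finite. If every point of S' specialises to some
point of the fibre over s (equivalently: the disjoint union of the spectra of the local rings of S'
at the points over s maps onto S'), then g is universally submersive. (The published statement
asserts an equivalence and does not mention surjectivity of g; the converse fails: for A a complete
discrete valuation ring with fraction field K, S' = S ⊔ Spec K ⟶ S has a section, hence is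
universally submersive, while the isolated point Spec K specialises to no point over s. This row
states the implication the published proof establishes, with the surjectivity it uses.) -/
theorem result (A : Type u) [CommRing A]
    [IsNoetherianRing A] [IsLocalRing A] [IsAdicComplete (IsLocalRing.maximalIdeal A) A]
    {S' : Scheme.{u}} (g : S' ⟶ Spec (CommRingCat.of A)) [LocallyOfFiniteType g] [QuasiCompact g]
    [Surjective g]
    (hfin : (g.base ⁻¹' {IsLocalRing.closedPoint A}).Finite)
    (hsp : ∀ t : S', ∃ s' : S', g.base s' = IsLocalRing.closedPoint A ∧ t ⤳ s') :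
    SGA1.UnivSubmersive g := by
  haveI : HenselianLocalRing A := henselianLocalRing_of_isAdicComplete A
  have key : ∀ x : ↥(g.base ⁻¹' {IsLocalRing.closedPoint A}),
      ∃ (T : Scheme.{u}) (k : T ⟶ S'), IsFinite (k ≫ g) ∧
        ∀ t : S', t ⤳ (x : S') → t ∈ Set.range k := by
    rintro ⟨x, hx⟩
    have hx' : g x = IsLocalRing.closedPoint A := hx
    have hq : g.QuasiFiniteAt x := by
      apply quasiFiniteAt_of_finite_fibre
      rw [hx']
      exact hfin
    exact exists_finite_of_quasiFiniteAt A g x hx' hq
  choose T k hk1 hk2 using key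
  haveI : Finite ↥(g.base ⁻¹' {IsLocalRing.closedPoint A}) := hfin.to_subtype
  refine univSubmersive_of_family g T k (fun i => ?_) ?_
  · haveI := hk1 i
    infer_instance
  · intro s
    obtain ⟨t, rfl⟩ := (inferInstance : Surjective g).surj s
    obtain ⟨s', hs', hts'⟩ := hsp t
    obtain ⟨τ, hτ⟩ := hk2 ⟨s', hs'⟩ t hts'
    refine ⟨⟨s', hs'⟩, τ, ?_⟩
    rw [Scheme.Hom.comp_apply, hτ]

end Groth.Agent.S5114
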