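import Groth.Statements.S5115
import Mathlib
import Groth.Agent.Lib.Helper46.RadDesc

set_option autoImplicit false
set_option linter.style.haveILetI false
universe u
open EtBase

namespace Groth.Agent.S5115

open AlgebraicGeometry CategoryTheory CategoryTheory.Limits in
theorem bc_map_left {S S' : Scheme.{u}} (g : S' ⟶ S) {A B : S.Etale} (a : A ⟶ B) :
    ((EtCoh.bc g).map a).left ≫ pullback.fst B.hom g = pullback.fst A.hom g ≫ a.left := by
  dsimp [EtCoh.bc]
  exact pullback.lift_fst _ _ _

open AlgebraicGeometry CategoryTheory CategoryTheory.Limits in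
theorem faithful_bc {S S' : Scheme.{u}} (g : S' ⟶ S) [Flat g] [Surjective g] :
    (EtCoh.bc g).Faithful := by
  constructor
  intro A B a b h
  apply MorphismProperty.Over.Hom.ext
  haveI : Epi (pullback.fst A.hom g) := Flat.epi_of_flat_of_surjective _
  rw [← cancel_epi (pullback.fst A.hom g), ← bc_map_left, ← bc_map_left, h]

open AlgebraicGeometry CategoryTheory CategoryTheory.Limits
  Groth.Agent.Lib.Helper46.RadDesc Groth.Agent.Lib.Helper81.EtDescent in
theorem full_bc {S S' : Scheme.{u}} (g : S' ⟶ S) [Flat g] [Surjective g] [QuasiCompact g]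
    [UniversallyInjective g] : (EtCoh.bc g).Full := by
  constructor
  intro A B h
  obtain ⟨hl, hhl⟩ : ∃ hl : pullback A.hom g ⟶ pullback B.hom g, hl = h.left := ⟨_, rfl⟩
  have hw : hl ≫ pullback.snd B.hom g = pullback.snd A.hom g := by
    rw [hhl]; exact MorphismProperty.Over.w h
  obtain ⟨pr, hpr⟩ : ∃ pr : pullback A.hom g ⟶ A.left, pr = pullback.fst A.hom g := ⟨_, rfl⟩
  haveI : Flat pr := by rw [hpr]; infer_instance
  haveI : Surjective pr := by rw [hpr]; infer_instance
  haveI : QuasiCompact pr := by rw [hpr]; infer_instance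
  haveI : EffectiveEpi pr := inferInstance
  haveI : Epi pr := Flat.epi_of_flat_of_surjective _
  obtain ⟨F, hF⟩ : ∃ F : pullback A.hom g ⟶ B.left, F = hl ≫ pullback.fst B.hom g := ⟨_, rfl⟩
  have hFB : F ≫ B.hom = pr ≫ A.hom := by
    rw [hF, Category.assoc, pullback.condition, ← Category.assoc, hw, hpr, pullback.condition]
  haveI : Etale B.hom := inferInstance
  have hcoc : ∀ {Z : Scheme.{u}} (g₁ g₂ : Z ⟶ pullback A.hom g), g₁ ≫ pr = g₂ ≫ pr →
      g₁ ≫ F = g₂ ≫ F := by
    intro Z g₁ g₂ hg
    have hx : (g₁ ≫ pullback.snd A.hom g) ≫ g = (g₂ ≫ pullback.snd A.hom g) ≫ g := by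
      rw [Category.assoc, Category.assoc, ← pullback.condition, ← hpr, ← Category.assoc,
        ← Category.assoc, hg]
    have hsurj := surjective_eqι g _ _ hx
    refine eq_of_comp_eq_of_surjective (eqι g _ _ hx) hsurj.surj B.hom _ _ ?_ ?_
    · rw [Category.assoc, Category.assoc, hFB, ← Category.assoc, ← Category.assoc, hg]
    · have e : eqι g _ _ hx ≫ g₁ = eqι g _ _ hx ≫ g₂ := by
        apply pullback.hom_ext
        · rw [Category.assoc, Category.assoc, ← hpr, hg]
        · rw [Category.assoc, Category.assoc]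
          exact eqι_comp g _ _ hx
      rw [← Category.assoc, ← Category.assoc, e]
  obtain ⟨a₀, ha₀⟩ : ∃ a₀ : A.left ⟶ B.left, pr ≫ a₀ = F :=
    ⟨EffectiveEpi.desc pr F (fun g₁ g₂ hg => hcoc g₁ g₂ hg), EffectiveEpi.fac _ _ _⟩
  have ha₀B : a₀ ≫ B.hom = A.hom := by
    rw [← cancel_epi pr, ← Category.assoc, ha₀, hFB]
  refine ⟨MorphismProperty.Over.homMk a₀ ha₀B, ?_⟩
  apply MorphismProperty.Over.Hom.ext
  change ((EtCoh.bc g).map (MorphismProperty.Over.homMk a₀ ha₀B)).left = h.left
  rw [← hhl]
  apply pullback.hom_ext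
  · have e : pullback.fst A.hom g ≫ a₀ = hl ≫ pullback.fst B.hom g := by rw [← hpr, ha₀, hF]
    exact (bc_map_left g (MorphismProperty.Over.homMk a₀ ha₀B)).trans e
  · exact (MorphismProperty.Over.w
      ((EtCoh.bc g).map (MorphismProperty.Over.homMk a₀ ha₀B))).trans hw.symm

open AlgebraicGeometry CategoryTheory CategoryTheory.Limits Desc
  Groth.Agent.Lib.Helper46.RadDesc in
theorem essSurj_bc {S S' : Scheme.{u}} (g : S' ⟶ S) [Flat g] [Surjective g] [QuasiCompact g]
    [UniversallyInjective g] : (EtCoh.bc g).EssSurj := by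
  constructor
  intro W'
  haveI : Etale W'.hom := inferInstance
  let WO : Over S' := Over.mk W'.hom
  haveI : Etale WO.hom := inferInstanceAs (Etale W'.hom)
  haveI : Etale (radDD (p := g) WO).obj.hom := inferInstanceAs (Etale W'.hom)
  obtain ⟨U, ⟨κ⟩⟩ := effective_of_radicial (p := g) (radDD WO)
  have hUet : Etale U.hom :=
    Groth.Agent.Lib.Helper5.DescProps.of_iso_toDD @Etale κ (inferInstanceAs (Etale W'.hom))
  obtain ⟨k, hk⟩ : ∃ k : pullback g U.hom ⟶ W'.left, k = κ.hom.hom.left := ⟨_, rfl⟩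
  haveI : IsIso k := by rw [hk]; exact Groth.Agent.Lib.Helper5.DescProps.isIso_hom_left κ
  have hk1 : k ≫ W'.hom = pullback.fst g U.hom := by rw [hk]; exact Over.w κ.hom.hom
  refine ⟨Scheme.Etale.mk U.hom, ⟨?_⟩⟩
  refine MorphismProperty.Over.isoMk (pullbackSymmetry U.hom g ≪≫ asIso k) ?_
  change ((pullbackSymmetry U.hom g).hom ≫ k) ≫ W'.hom = pullback.snd U.hom g
  rw [Category.assoc, hk1, pullbackSymmetry_hom_comp_fst]

open AlgebraicGeometry CategoryTheory CategoryTheory.Limits in
/-- Let g : S' ⟶ S be faithfully flat (flat and surjective), quasi-compact and radicial (universally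
injective). Then base change along g is an equivalence from the category of schemes etale over S to
the category of schemes etale over S'. -/
theorem result {S S' : Scheme.{u}} (g : S' ⟶ S)
    [Flat g] [Surjective g] [QuasiCompact g] [UniversallyInjective g] :
    (EtCoh.bc g).IsEquivalence := by
  exact ⟨faithful_bc g, full_bc g, essSurj_bc g⟩

end Groth.Agent.S5115
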