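import Groth.Statements.S5118
import Mathlib.RingTheory.Etale.StandardEtale
import Mathlib.Algebra.DualNumber

set_option autoImplicit false
universe u
open SGA1t

namespace Groth.Agent.S5118

theorem ker_fst_nilpotent (Q : Type u) [CommRing Q] :
    IsNilpotent (RingHom.ker ((TrivSqZeroExt.fstHom Q Q Q : TrivSqZeroExt Q Q →ₐ[Q] Q) :
      TrivSqZeroExt Q Q →+* Q)) := by
  have h : RingHom.ker ((TrivSqZeroExt.fstHom Q Q Q : TrivSqZeroExt Q Q →ₐ[Q] Q) :
      TrivSqZeroExt Q Q →+* Q) * RingHom.ker ((TrivSqZeroExt.fstHom Q Q Q : TrivSqZeroExt Q Q →ₐ[Q] Q) :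
      TrivSqZeroExt Q Q →+* Q) = ⊥ := by
    rw [eq_bot_iff, Ideal.mul_le]
    intro x hx y hy
    rw [RingHom.mem_ker] at hx hy
    rw [Ideal.mem_bot]
    have hx' : x.fst = 0 := hx
    have hy' : y.fst = 0 := hy
    ext
    · simp [hx']
    · simp [hx', hy']
  exact ⟨2, (pow_two (RingHom.ker ((TrivSqZeroExt.fstHom Q Q Q : TrivSqZeroExt Q Q →ₐ[Q] Q) :
      TrivSqZeroExt Q Q →+* Q))).trans h⟩

open Polynomial in
theorem subsingleton_of_unramified (A : Type u) [CommRing A] (n : ℕ)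
    [Algebra.FormallyUnramified A (AdjoinRoot ((X : A[X]) ^ n - 1))]
    (Q : Type u) [CommRing Q] [Algebra A Q] (hnQ : ((n : ℕ) : Q) = 0) : Subsingleton Q := by
  have h1 : Polynomial.eval₂ ((Algebra.ofId A (TrivSqZeroExt Q Q) : A →ₐ[A] TrivSqZeroExt Q Q) :
      A →+* TrivSqZeroExt Q Q) 1 ((X : A[X]) ^ n - 1) = 0 := by simp
  have h2 : Polynomial.eval₂ ((Algebra.ofId A (TrivSqZeroExt Q Q) : A →ₐ[A] TrivSqZeroExt Q Q) :
      A →+* TrivSqZeroExt Q Q) (1 + TrivSqZeroExt.inr 1) ((X : A[X]) ^ n - 1) = 0 := by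
    simp only [eval₂_sub, eval₂_pow, eval₂_X, eval₂_one]
    rw [sub_eq_zero]
    ext
    · rw [TrivSqZeroExt.fst_pow]; simp
    · rw [TrivSqZeroExt.snd_pow]
      simp [hnQ]
  have key : AdjoinRoot.liftAlgHom _ (Algebra.ofId A (TrivSqZeroExt Q Q)) _ h1 =
      AdjoinRoot.liftAlgHom _ (Algebra.ofId A _) _ h2 := by
    refine Algebra.FormallyUnramified.ext' _ (ker_fst_nilpotent Q) _ _ ?_
    intro x
    induction x using AdjoinRoot.induction_on with
    | ih p =>
      induction p using Polynomial.induction_on' with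
      | add p q hp hq => simp only [map_add, hp, hq]
      | monomial k a =>
        simp [← Polynomial.C_mul_X_pow_eq_monomial, TrivSqZeroExt.algebraMap_eq_inl']
  have := congrArg TrivSqZeroExt.snd (DFunLike.congr_fun key (AdjoinRoot.root _))
  simp at this
  exact subsingleton_of_zero_eq_one this

open Polynomial in
theorem etale_of_isUnit (A : Type u) [CommRing A] (n : ℕ) (hn : 1 ≤ n) (h : IsUnit ((n : ℕ) : A)) :
    Algebra.Etale A (AdjoinRoot ((X : A[X]) ^ n - 1)) := by
  obtain ⟨u, hu⟩ := h.exists_right_inv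
  have hmonic : ((X : A[X]) ^ n - 1).Monic := by
    have := Polynomial.monic_X_pow_sub_C (1 : A) (by omega : n ≠ 0)
    simpa using this
  let P : StandardEtalePair A :=
    { f := (X : A[X]) ^ n - 1
      monic_f := hmonic
      g := 1
      cond := by
        refine ⟨C u * X, -1, 0, ?_⟩
        obtain ⟨m, rfl⟩ : ∃ m, n = m + 1 := ⟨n - 1, by omega⟩
        simp only [derivative_sub, derivative_X_pow, derivative_one, sub_zero, pow_zero]
        have : (C ((m + 1 : ℕ) : A) * X ^ (m + 1 - 1)) * (C u * X) = C (((m + 1 : ℕ) : A) * u) * X ^ (m + 1) := by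
          simp only [Nat.add_sub_cancel, map_mul, pow_succ]
          ring
        rw [this, hu]
        simp }
  have hX : Polynomial.eval₂ ((Algebra.ofId A P.Ring : A →ₐ[A] P.Ring) : A →+* P.Ring) P.X
      ((X : A[X]) ^ n - 1) = 0 := P.hasMap_X.1
  have hroot : P.HasMap (AdjoinRoot.root ((X : A[X]) ^ n - 1)) := by
    refine ⟨?_, ?_⟩
    · change aeval _ ((X : A[X]) ^ n - 1) = 0
      rw [AdjoinRoot.aeval_eq, AdjoinRoot.mk_self]
    · change IsUnit (aeval _ (1 : A[X]))
      simp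
  let e : P.Ring ≃ₐ[A] AdjoinRoot ((X : A[X]) ^ n - 1) :=
    AlgEquiv.ofAlgHom (P.lift _ hroot) (AdjoinRoot.liftAlgHom _ (Algebra.ofId A P.Ring) P.X hX)
      (by ext; simp) (by ext; simp)
  exact Algebra.Etale.of_equiv e

open Polynomial in
theorem result (A : Type u) [CommRing A] (n : ℕ) (hn : 1 ≤ n) :
    Algebra.Etale A (AdjoinRoot ((X : A[X]) ^ n - 1)) ↔ IsUnit ((n : ℕ) : A) := by
  constructor
  · intro h
    have hnQ : ((n : ℕ) : A ⧸ Ideal.span {((n : ℕ) : A)}) = 0 := by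
      have : ((n : ℕ) : A ⧸ Ideal.span {((n : ℕ) : A)}) =
        Ideal.Quotient.mk (Ideal.span {((n : ℕ) : A)}) ((n : ℕ) : A) := by simp
      rw [this, Ideal.Quotient.eq_zero_iff_mem]
      exact Ideal.subset_span rfl
    have := subsingleton_of_unramified A n _ hnQ
    rw [Ideal.Quotient.subsingleton_iff, Ideal.span_singleton_eq_top] at this
    exact this
  · exact etale_of_isUnit A n hn

end Groth.Agent.S5118
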