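import Groth.Statements.S5119

set_option autoImplicit false
universe u
open scoped LaurentPolynomial
open SGA1t

namespace Groth.Agent.S5119

theorem key (A : Type u) [CommRing A] (n : ℕ) (hn : 1 ≤ n) (c : A[T;T⁻¹]) (j m : ℤ) :
    (((AddMonoidAlgebra.mapDomainRingHom A (AddMonoidHom.mulLeft (n : ℤ)) : A[T;T⁻¹] →+* A[T;T⁻¹]) c) *
      LaurentPolynomial.T j).coeff m = if (n : ℤ) ∣ m - j then c.coeff ((m - j) / n) else 0 := by
  have hn0 : (n : ℤ) ≠ 0 := by omega
  have hinj : Function.Injective (AddMonoidHom.mulLeft (n : ℤ)) := by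
    intro a b hab
    have hab' : (n : ℤ) * a = n * b := hab
    exact mul_left_cancel₀ hn0 hab'
  unfold LaurentPolynomial.T
  rw [AddMonoidAlgebra.coeff_mul_single_apply, mul_one, AddMonoidAlgebra.mapDomainRingHom_apply,
    AddMonoidAlgebra.coeff_mapDomain, ← sub_eq_add_neg]
  split_ifs with h
  · obtain ⟨k, hk⟩ := h
    rw [hk, Int.mul_ediv_cancel_left _ hn0]
    exact Finsupp.mapDomain_apply hinj _ _
  · apply Finsupp.mapDomain_of_notMem_range
    rintro ⟨k, hk⟩
    exact h ⟨k, hk.symm⟩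

theorem result (A : Type u) [CommRing A] (n : ℕ) (hn : 1 ≤ n) (q : A[T;T⁻¹]) :
    ∃! c : Fin n → A[T;T⁻¹],
      q = ∑ i : Fin n, (AddMonoidAlgebra.mapDomainRingHom A (AddMonoidHom.mulLeft (n : ℤ)) : A[T;T⁻¹] →+* A[T;T⁻¹]) (c i) *
        LaurentPolynomial.T (i : ℤ) := by
  have hn0 : (n : ℤ) ≠ 0 := by omega
  have hinj : ∀ i : ℤ, Function.Injective (fun k : ℤ => (n : ℤ) * k + i) := by
    intro i a b hab
    have hab' : (n : ℤ) * a + i = n * b + i := hab
    exact mul_left_cancel₀ hn0 (add_right_cancel hab')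
  have hsum : ∀ (c : Fin n → A[T;T⁻¹]) (m : ℤ),
      (∑ i : Fin n, (AddMonoidAlgebra.mapDomainRingHom A (AddMonoidHom.mulLeft (n : ℤ)) : A[T;T⁻¹] →+* A[T;T⁻¹]) (c i) *
        LaurentPolynomial.T (i : ℤ)).coeff m =
      (c ⟨(m % n).toNat, by
        have := Int.emod_lt_of_pos m (by omega : (0 : ℤ) < n)
        have := Int.emod_nonneg m hn0
        omega⟩).coeff (m / n) := by
    intro c m
    have h1 := Int.emod_lt_of_pos m (by omega : (0 : ℤ) < n)
    have h2 := Int.emod_nonneg m hn0
    rw [AddMonoidAlgebra.coeff_sum, Finsupp.finsetSum_apply]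
    rw [Finset.sum_eq_single ⟨(m % n).toNat, by omega⟩]
    · rw [key A n hn]
      have h3 : ((⟨(m % n).toNat, by omega⟩ : Fin n) : ℤ) = m % n := by
        simp [Int.toNat_of_nonneg h2]
      rw [h3]
      have h4 : m - m % n = n * (m / n) := by
        have := Int.emod_add_mul_ediv m n
        omega
      rw [if_pos ⟨m / n, h4⟩, h4, Int.mul_ediv_cancel_left _ hn0]
    · intro i _ hi
      rw [key A n hn, if_neg]
      intro hdvd
      apply hi
      ext
      have h5 : (m - (i : ℤ)) % n = 0 := Int.emod_eq_zero_of_dvd hdvd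
      have h6 : m % n = (i : ℤ) % n := by
        have := Int.emod_emod_of_dvd
        exact (Int.emod_eq_emod_iff_emod_sub_eq_zero).mpr h5
      have h7 : ((i : ℕ) : ℤ) % n = (i : ℕ) := Int.emod_eq_of_lt (by omega) (by have := i.2; omega)
      simp only
      omega
    · intro h; exact absurd (Finset.mem_univ _) h
  refine ⟨fun i => AddMonoidAlgebra.comapDomain (fun k : ℤ => (n : ℤ) * k + i) (hinj i) q, ?_, ?_⟩
  · apply AddMonoidAlgebra.ext
    ext m
    rw [hsum]
    have h1 := Int.emod_lt_of_pos m (by omega : (0 : ℤ) < n)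
    have h2 := Int.emod_nonneg m hn0
    rw [AddMonoidAlgebra.coeff_comapDomain, Finsupp.comapDomain_apply]
    congr 1
    simp only [Int.toNat_of_nonneg h2]
    have := Int.emod_add_mul_ediv m n
    omega
  · intro c hc
    funext i
    apply AddMonoidAlgebra.ext
    ext k
    rw [AddMonoidAlgebra.coeff_comapDomain, Finsupp.comapDomain_apply]
    rw [hc, hsum]
    have hi := i.2
    have e1 : ((n : ℤ) * k + (i : ℕ)) % n = (i : ℕ) := by
      rw [Int.add_comm, Int.add_mul_emod_self_left]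
      exact Int.emod_eq_of_lt (by omega) (by omega)
    have e2 : ((n : ℤ) * k + (i : ℕ)) / n = k := by
      rw [Int.add_comm, Int.add_mul_ediv_left _ _ hn0]
      rw [Int.ediv_eq_zero_of_lt (by omega) (by omega)]
      simp
    rw [e2]
    congr 2
    ext
    simp [e1]

end Groth.Agent.S5119
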