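import Groth.Statements.S5120

set_option autoImplicit false
universe u
open SGA1t

namespace Groth.Agent.S5120

open Polynomial

variable {A : Type u} [CommRing A]

noncomputable def Phi (p : ℕ) (c : Fin p → A[X]) : A[X] :=
  ∑ i : Fin p, aeval (X - X ^ p : A[X]) (c i) * X ^ (i : ℕ)

theorem Phi_split (p : ℕ) (a : Fin p → A) (c' : Fin p → A[X]) :
    Phi p (fun i => C (a i) + X * c' i) =
      (∑ i : Fin p, C (a i) * X ^ (i : ℕ)) + (X - X ^ p) * Phi p c' := by
  unfold Phi
  rw [Finset.mul_sum, ← Finset.sum_add_distrib]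
  refine Finset.sum_congr rfl fun i _ => ?_
  simp only [map_add, aeval_C, map_mul, aeval_X, Polynomial.algebraMap_eq]
  ring

theorem Phi_neg (p : ℕ) (c : Fin p → A[X]) : Phi p (fun i => - c i) = - Phi p c := by
  unfold Phi
  simp only [map_neg, neg_mul, Finset.sum_neg_distrib]

theorem Phi_zero (p : ℕ) : Phi p (fun _ => (0 : A[X])) = 0 := by
  unfold Phi
  simp

theorem Phi_sub (p : ℕ) (c d : Fin p → A[X]) : Phi p (fun i => c i - d i) = Phi p c - Phi p d := by
  unfold Phi
  simp only [map_sub, sub_mul, Finset.sum_sub_distrib]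

theorem hmonic (p : ℕ) (hp : 2 ≤ p) [Nontrivial A] : (X ^ p - X : A[X]).Monic := by
  apply monic_X_pow_sub
  rw [degree_X]
  exact_mod_cast (by omega : 1 < p)

theorem hdeg (p : ℕ) (hp : 2 ≤ p) [Nontrivial A] : (X ^ p - X : A[X]).degree = p := by
  rw [degree_sub_eq_left_of_degree_lt]
  · simp
  · rw [degree_X, degree_X_pow]
    exact_mod_cast (by omega : 1 < p)

theorem coeffs_zero (p : ℕ) (a : Fin p → A) (h : (∑ i : Fin p, C (a i) * X ^ (i : ℕ)) = 0) :
    a = 0 := by
  funext j
  have := congrArg (fun f => coeff f (j : ℕ)) h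
  simp only [finsetSum_coeff, coeff_C_mul_X_pow, coeff_zero] at this
  rw [Finset.sum_eq_single j] at this
  · simpa using this
  · intro i _ hij
    rw [if_neg]
    intro h'
    exact hij (Fin.ext h'.symm)
  · intro h'; exact absurd (Finset.mem_univ _) h'

theorem inj (p : ℕ) (hp : 2 ≤ p) [Nontrivial A] :
    ∀ (N : ℕ) (c : Fin p → A[X]), (∀ i, degree (c i) < N) → Phi p c = 0 → c = fun _ => 0 := by
  intro N
  induction N with
  | zero =>
    intro c hc _
    funext i
    have := hc i
    rw [degree_lt_iff_coeff_zero] at this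
    ext m
    simpa using this m (Nat.zero_le _)
  | succ N ih =>
    intro c hc h0
    have hc' : ∀ i, degree (divX (c i)) < N := by
      intro i
      have := hc i
      rw [degree_lt_iff_coeff_zero] at this ⊢
      intro m hm
      rw [coeff_divX]
      exact this (m + 1) (by omega)
    have hsplit : c = fun i => C ((c i).coeff 0) + X * divX (c i) := by
      funext i
      rw [add_comm, X_mul_divX_add]
    rw [hsplit, Phi_split] at h0
    have hdm := div_modByMonic_unique (f := (0 : A[X])) (- Phi p (fun i => divX (c i)))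
      (∑ i : Fin p, C ((c i).coeff 0) * X ^ (i : ℕ)) (hmonic p hp) ⟨by
        rw [← h0]; ring, by
        rw [hdeg p hp]
        exact degree_sum_fin_lt _⟩
    rw [zero_divByMonic, zero_modByMonic] at hdm
    have h1 : Phi p (fun i => divX (c i)) = 0 := by
      have := hdm.1
      rw [eq_comm, neg_eq_zero] at this
      exact this
    have h2 := ih _ hc' h1
    have h3 := coeffs_zero p _ hdm.2.symm
    funext i
    rw [hsplit]
    have h2i := congrFun h2 i
    have h3i := congrFun h3 i
    simp only [Pi.zero_apply] at h2i h3i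
    simp [h2i, h3i]

theorem small (p : ℕ) (r : A[X]) (hr : degree r < p) :
    r = ∑ i : Fin p, C (r.coeff i) * X ^ (i : ℕ) := by
  ext m
  simp only [finsetSum_coeff, coeff_C_mul_X_pow]
  by_cases hm : m < p
  · rw [Finset.sum_eq_single ⟨m, hm⟩]
    · simp
    · intro i _ hi
      rw [if_neg]
      intro h'
      exact hi (Fin.ext h'.symm)
    · intro h'; exact absurd (Finset.mem_univ _) h'
  · rw [Finset.sum_eq_zero]
    · exact (degree_lt_iff_coeff_zero _ _).mp hr m (by omega)
    · intro i _
      rw [if_neg]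
      have := i.2
      omega

theorem surj (p : ℕ) (hp : 2 ≤ p) [Nontrivial A] :
    ∀ (N : ℕ) (q : A[X]), natDegree q < N → ∃ c : Fin p → A[X], q = Phi p c := by
  intro N
  induction N with
  | zero => intro q hq; omega
  | succ N ih =>
    intro q hq
    have hm := hmonic (A := A) p hp
    have hnd : (X ^ p - X : A[X]).natDegree = p := natDegree_eq_of_degree_eq_some (hdeg p hp)
    have hqr := modByMonic_add_div q (X ^ p - X : A[X])
    have hr : degree (q %ₘ (X ^ p - X : A[X])) < p := by
      have := degree_modByMonic_lt q hm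
      rwa [hdeg p hp] at this
    obtain ⟨c', hc'⟩ : ∃ c' : Fin p → A[X], q /ₘ (X ^ p - X : A[X]) = Phi p c' := by
      by_cases hs : q /ₘ (X ^ p - X : A[X]) = 0
      · exact ⟨fun _ => 0, by rw [hs, Phi_zero]⟩
      · apply ih
        have h1 := natDegree_divByMonic q hm
        rw [hnd] at h1
        have h2 : p ≤ natDegree q := by
          by_contra hlt
          apply hs
          rw [divByMonic_eq_zero_iff hm, hdeg p hp]
          exact lt_of_le_of_lt degree_le_natDegree (by exact_mod_cast (by omega : natDegree q < p))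
        omega
    refine ⟨fun i => C ((q %ₘ (X ^ p - X : A[X])).coeff i) + X * (- c' i), ?_⟩
    rw [Phi_split, Phi_neg, ← hc', ← small p _ hr]
    refine hqr.symm.trans ?_
    ring

open Polynomial in
theorem result (p : ℕ) [Fact p.Prime] (A : Type u) [CommRing A] [CharP A p]
    (q : A[X]) :
    ∃! c : Fin p → A[X], q = ∑ i : Fin p, aeval (X - X ^ p : A[X]) (c i) * X ^ (i : ℕ) := by
  have hp : 2 ≤ p := (Fact.out : p.Prime).two_le
  cases subsingleton_or_nontrivial A with
  | inl h =>
    exact ⟨0, Subsingleton.elim _ _, fun _ _ => Subsingleton.elim _ _⟩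
  | inr h =>
    obtain ⟨c, hc⟩ := surj (A := A) p hp (natDegree q + 1) q (Nat.lt_succ_self _)
    refine ⟨c, hc, ?_⟩
    intro d hd
    have hd' : q = Phi p d := hd
    have h0 : Phi p (fun i => d i - c i) = 0 := by
      rw [Phi_sub, ← hc, ← hd', sub_self]
    obtain ⟨N, hN⟩ : ∃ N : ℕ, ∀ i, degree (d i - c i) < N := by
      refine ⟨(Finset.univ.sup fun i => natDegree (d i - c i)) + 1, fun i => ?_⟩
      refine lt_of_le_of_lt degree_le_natDegree ?_
      have : natDegree (d i - c i) ≤ Finset.univ.sup fun i => natDegree (d i - c i) :=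
        Finset.le_sup (f := fun i => natDegree (d i - c i)) (Finset.mem_univ i)
      exact_mod_cast Nat.lt_succ_of_le this
    have := inj p hp N _ hN h0
    funext i
    have hi := congrFun this i
    exact sub_eq_zero.mp hi

end Groth.Agent.S5120
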