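import Groth.Statements.S5122
import Mathlib
import Groth.Agent.Lib.Helper46.EtDescFpqc
import Groth.Agent.Lib.Helper46.EtDescLocal

set_option autoImplicit false
universe u
open SGA1

namespace Groth.Agent.S5122

open AlgebraicGeometry CategoryTheory CategoryTheory.Limits in
/-- Let g : S' ⟶ S be universally submersive, D a descent datum relative to g (functor-of-points form,
for the one-member family g) whose underlying S'-scheme is etale, separated and of finite type over
S', and p : S₁ ⟶ S faithfully flat and quasi-compact. Then D is effective in the fibred category of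
etale separated finite-type schemes (isomorphic to the canonical datum of some etale, separated,
quasi-compact S-scheme) if and only if the descent datum obtained by base change along p, relative
to S' ×_S S₁ ⟶ S₁, is effective in the same sense over S₁. -/
theorem result {S S' S₁ : Scheme.{u}} (g : S' ⟶ S) (hg : SGA1.UnivSubmersive g)
    (D : Desc.SchDDFam (fun _ : PUnit.{1} => g))
    [Etale (D.obj PUnit.unit).hom] [IsSeparated (D.obj PUnit.unit).hom] [QuasiCompact (D.obj PUnit.unit).hom]
    (p : S₁ ⟶ S) [Flat p] [Surjective p] [QuasiCompact p] :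
    (∃ U : Over S, Etale U.hom ∧ IsSeparated U.hom ∧ QuasiCompact U.hom ∧ Nonempty ((Desc.toDDFam (fun _ : PUnit.{1} => g)).obj U ≅ D)) ↔
      (∃ U : Over S₁, Etale U.hom ∧ IsSeparated U.hom ∧ QuasiCompact U.hom ∧
        Nonempty ((Desc.toDDFam (fun _ : PUnit.{1} => pullback.snd g p)).obj U ≅
          (Desc.pullDDFam (f := fun _ : PUnit.{1} => g) (f' := fun _ : PUnit.{1} => pullback.snd g p)
        (α := id) (p := p) (p' := fun _ => pullback.fst g p) (fun _ => pullback.condition)).obj D)) := by
  constructor
  · rintro ⟨U, hU, hUs, hUq, ⟨θ⟩⟩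
    refine ⟨Groth.Agent.Lib.Helper46.DescBC.bcOver U p, ?_, ?_, ?_,
      ⟨Groth.Agent.Lib.Helper46.DescBC.bcIso (f := fun _ : PUnit.{1} => g)
        (f' := fun _ : PUnit.{1} => pullback.snd g p) (α := id) (p := p)
        (p' := fun _ => pullback.fst g p) (fun _ => pullback.condition) U ≪≫
          (Desc.pullDDFam (f := fun _ : PUnit.{1} => g) (f' := fun _ : PUnit.{1} => pullback.snd g p)
            (α := id) (p := p) (p' := fun _ => pullback.fst g p)
            (fun _ => pullback.condition)).mapIso θ⟩⟩
    · change Etale (pullback.snd U.hom p)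
      infer_instance
    · change IsSeparated (pullback.snd U.hom p)
      infer_instance
    · change QuasiCompact (pullback.snd U.hom p)
      infer_instance
  · rintro ⟨U₁, hU₁, hU₁s, hU₁q, ⟨θ⟩⟩
    let D₁ : Desc.SchDD g := (Desc.SchDDFam.toSchDD g).obj D
    let θ₁ : (Desc.toDD (pullback.snd g p)).obj U₁ ≅
        Groth.Agent.Lib.Helper5.DescPull.pullDD p (pullback.fst g p) pullback.condition D₁ :=
      (Desc.SchDDFam.toSchDD (pullback.snd g p)).mapIso θ
    obtain ⟨U, hU, hUs, hUq, ⟨κ⟩⟩ :=
      Groth.Agent.Lib.Helper46.EtDescFpqc.effective_of_fpqc hg D₁ U₁ θ₁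
    exact ⟨U, hU, hUs, hUq, ⟨(Desc.SchDDFam.ofSchDD g).mapIso κ⟩⟩

end Groth.Agent.S5122
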