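import Groth.Statements.S5126
import Mathlib
import Groth.Agent.Lib.Helper46.EtDescCompl
import Groth.Agent.Lib.Helper46.EtDescSpread

set_option autoImplicit false
universe u
open SGA1

namespace Groth.Agent.S5126

open AlgebraicGeometry CategoryTheory CategoryTheory.Limits in
/-- The morphism `Spec Ô ⟶ Spec O` of the completion of a Noetherian local ring is flat, surjective
and quasi-compact; hence effectiveness over `Spec Ô` gives effectiveness over `Spec O`. -/
theorem effEt_stalk_of_completion {S S' : Scheme.{u}} [IsLocallyNoetherian S] (g : S' ⟶ S)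
    (hg : SGA1.UnivSubmersive g) [QuasiCompact g]
    (D : Desc.SchDDFam (fun _ : PUnit.{1} => g)) [Etale (D.obj PUnit.unit).hom]
    [QuasiCompact (D.obj PUnit.unit).hom] [IsSeparated (D.obj PUnit.unit).hom] (a : S)
    (H : Groth.Agent.Lib.Helper46.EtDescLocal.EffEt
      (pullback.snd g (Spec.map (CommRingCat.ofHom (algebraMap (S.presheaf.stalk a)
        (AdicCompletion (IsLocalRing.maximalIdeal (S.presheaf.stalk a)) (S.presheaf.stalk a)))) ≫
          S.fromSpecStalk a))
      (Groth.Agent.Lib.Helper46.EtDescLocal.pullD g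
        (Spec.map (CommRingCat.ofHom (algebraMap (S.presheaf.stalk a)
          (AdicCompletion (IsLocalRing.maximalIdeal (S.presheaf.stalk a)) (S.presheaf.stalk a)))) ≫
            S.fromSpecStalk a) D)) :
    Groth.Agent.Lib.Helper46.EtDescLocal.EffEt (pullback.snd g (S.fromSpecStalk a))
      (Groth.Agent.Lib.Helper46.EtDescLocal.pullD g (S.fromSpecStalk a) D) := by
  haveI : IsNoetherianRing (S.presheaf.stalk a) := inferInstance
  haveI : Module.Flat (S.presheaf.stalk a)
      (AdicCompletion (IsLocalRing.maximalIdeal (S.presheaf.stalk a)) (S.presheaf.stalk a)) :=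
    AdicCompletion.flat_of_isNoetherian _
  haveI : Module.FaithfullyFlat (S.presheaf.stalk a)
      (AdicCompletion (IsLocalRing.maximalIdeal (S.presheaf.stalk a)) (S.presheaf.stalk a)) :=
    Module.FaithfullyFlat.of_flat_of_isLocalHom
  obtain ⟨c, hc⟩ : ∃ c : Spec (CommRingCat.of (AdicCompletion
      (IsLocalRing.maximalIdeal (S.presheaf.stalk a)) (S.presheaf.stalk a))) ⟶
        Spec (S.presheaf.stalk a),
      c = Spec.map (CommRingCat.ofHom (algebraMap (S.presheaf.stalk a)
        (AdicCompletion (IsLocalRing.maximalIdeal (S.presheaf.stalk a)) (S.presheaf.stalk a)))) :=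
    ⟨_, rfl⟩
  rw [← hc] at H
  have hff : (CommRingCat.ofHom (algebraMap (S.presheaf.stalk a)
      (AdicCompletion (IsLocalRing.maximalIdeal (S.presheaf.stalk a))
        (S.presheaf.stalk a)))).hom.FaithfullyFlat := by
    change (algebraMap (S.presheaf.stalk a) (AdicCompletion
      (IsLocalRing.maximalIdeal (S.presheaf.stalk a)) (S.presheaf.stalk a))).FaithfullyFlat
    exact RingHom.faithfullyFlat_algebraMap_iff.mpr inferInstance
  have hfs := (flat_and_surjective_SpecMap_iff _).mpr hff
  haveI : Flat c := by rw [hc]; exact hfs.1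
  haveI : Surjective c := by rw [hc]; exact hfs.2
  have H' := Groth.Agent.Lib.Helper46.EtDescLocal.effEt_comp (S.fromSpecStalk a) c H
  have hg' : SGA1.UnivSubmersive (pullback.snd g (S.fromSpecStalk a)) :=
    Groth.Agent.Lib.Helper46.EtDescFull.univSubmersive_snd hg _
  haveI : Etale ((Groth.Agent.Lib.Helper46.EtDescLocal.pullD g (S.fromSpecStalk a) D).obj
      PUnit.unit).hom :=
    inferInstanceAs (Etale (pullback.snd (D.obj PUnit.unit).hom (pullback.fst g (S.fromSpecStalk a))))
  haveI : IsSeparated ((Groth.Agent.Lib.Helper46.EtDescLocal.pullD g (S.fromSpecStalk a) D).obj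
      PUnit.unit).hom :=
    inferInstanceAs (IsSeparated
      (pullback.snd (D.obj PUnit.unit).hom (pullback.fst g (S.fromSpecStalk a))))
  haveI : QuasiCompact ((Groth.Agent.Lib.Helper46.EtDescLocal.pullD g (S.fromSpecStalk a) D).obj
      PUnit.unit).hom :=
    inferInstanceAs (QuasiCompact
      (pullback.snd (D.obj PUnit.unit).hom (pullback.fst g (S.fromSpecStalk a))))
  exact Groth.Agent.Lib.Helper46.EtDescLocal.effEt_of_fpqc hg' _ c H'

open AlgebraicGeometry CategoryTheory CategoryTheory.Limits in
/-- Let S be locally Noetherian, g : S' ⟶ S universally submersive and of finite presentation, and D a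
descent datum relative to g (functor-of-points form, for the one-member family g) whose underlying
S'-scheme is etale, separated and of finite presentation over S'. Then D is the canonical datum of
some etale S-scheme if and only if for every point a of S the descent datum induced over the
spectrum of the adic completion Ô of the local ring O_{S,a} (mapping to S through Spec O_{S,a}) is
the canonical datum of some etale Ô-scheme. -/
theorem result {S S' : Scheme.{u}} [IsLocallyNoetherian S] (g : S' ⟶ S)
    (hg : SGA1.UnivSubmersive g) [LocallyOfFinitePresentation g] [QuasiCompact g] [QuasiSeparated g]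
    (D : Desc.SchDDFam (fun _ : PUnit.{1} => g)) [Etale (D.obj PUnit.unit).hom]
    [QuasiCompact (D.obj PUnit.unit).hom] [IsSeparated (D.obj PUnit.unit).hom] :
    (∃ U : Over S, Etale U.hom ∧ Nonempty ((Desc.toDDFam (fun _ : PUnit.{1} => g)).obj U ≅ D)) ↔ ∀ a : S,
      (∃ U : Over (Spec (CommRingCat.of (AdicCompletion (IsLocalRing.maximalIdeal (S.presheaf.stalk a)) (S.presheaf.stalk a)))), Etale U.hom ∧
        Nonempty ((Desc.toDDFam (fun _ : PUnit.{1} => pullback.snd g (Spec.map (CommRingCat.ofHom (algebraMap (S.presheaf.stalk a)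
          (AdicCompletion (IsLocalRing.maximalIdeal (S.presheaf.stalk a)) (S.presheaf.stalk a)))) ≫ S.fromSpecStalk a))).obj U ≅
          (Desc.pullDDFam (f := fun _ : PUnit.{1} => g) (f' := fun _ : PUnit.{1} => pullback.snd g (Spec.map (CommRingCat.ofHom (algebraMap (S.presheaf.stalk a)
          (AdicCompletion (IsLocalRing.maximalIdeal (S.presheaf.stalk a)) (S.presheaf.stalk a)))) ≫ S.fromSpecStalk a))
        (α := id) (p := (Spec.map (CommRingCat.ofHom (algebraMap (S.presheaf.stalk a)
          (AdicCompletion (IsLocalRing.maximalIdeal (S.presheaf.stalk a)) (S.presheaf.stalk a)))) ≫ S.fromSpecStalk a)) (p' := fun _ => pullback.fst g (Spec.map (CommRingCat.ofHom (algebraMap (S.presheaf.stalk a)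
          (AdicCompletion (IsLocalRing.maximalIdeal (S.presheaf.stalk a)) (S.presheaf.stalk a)))) ≫ S.fromSpecStalk a)) (fun _ => pullback.condition)).obj D)) := by
  constructor
  · intro H a
    exact Groth.Agent.Lib.Helper46.EtDescLocal.effEt_baseChange _ H
  · intro H
    have H' : ∀ a : S, Groth.Agent.Lib.Helper46.EtDescLocal.EffEt (pullback.snd g (S.fromSpecStalk a))
        (Groth.Agent.Lib.Helper46.EtDescLocal.pullD g (S.fromSpecStalk a) D) :=
      fun a => effEt_stalk_of_completion g hg D a (H a)
    choose W haW hW using fun a : S =>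
      Groth.Agent.Lib.Helper46.EtDescLocal.exists_nhd_effEt hg D a (H' a)
    refine Groth.Agent.Lib.Helper46.EtDescLocal.effEt_of_openCover hg D W ?_ hW
    rw [eq_top_iff]
    intro x _
    exact TopologicalSpace.Opens.mem_iSup.mpr ⟨x, haW x⟩

end Groth.Agent.S5126
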