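import Groth.Statements.S5128
import Mathlib.AlgebraicGeometry.Morphisms.FlatMono
import Mathlib.AlgebraicGeometry.Morphisms.FormallyUnramified
import Mathlib.AlgebraicGeometry.Morphisms.Etale

set_option autoImplicit false
universe u
open SGA1

namespace Groth.Agent.S5128

open AlgebraicGeometry CategoryTheory CategoryTheory.Limits

theorem isIso_of_etale_of_univInj_of_surj {X Y : Scheme.{u}} (h : X ⟶ Y) [Etale h]
    [UniversallyInjective h] [Surjective h] : IsIso h := by
  have hs : Surjective (pullback.diagonal h) := (UniversallyInjective.iff_diagonal h).mp inferInstance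
  have hd : IsIso (pullback.diagonal h) := by
    apply isIso_of_isOpenImmersion_of_opensRange_eq_top
    ext x
    simp only [Scheme.Hom.coe_opensRange, TopologicalSpace.Opens.coe_top, Set.mem_univ, iff_true]
    exact hs.surj x
  have hm : Mono h := (pullback.isIso_diagonal_iff h).mp hd
  have : IsOpenImmersion h := IsOpenImmersion.of_flat_of_mono h
  apply isIso_of_isOpenImmersion_of_opensRange_eq_top
  ext x
  simp only [Scheme.Hom.coe_opensRange, TopologicalSpace.Opens.coe_top, Set.mem_univ, iff_true]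
  exact Surjective.surj x

theorem graph_isOpenImmersion {S X Y : Scheme.{u}} (q : Y ⟶ S) [Etale q] (f : X ⟶ Y) :
    IsOpenImmersion (pullback.lift (𝟙 X) f (by simp) : X ⟶ pullback (f ≫ q) q) :=
  MorphismProperty.of_isPullback (P := @IsOpenImmersion)
    (pullback_lift_diagonal_isPullback f q) inferInstance

open AlgebraicGeometry CategoryTheory CategoryTheory.Limits in
theorem result {S X Y : Scheme.{u}} (p : X ⟶ S)
    (q : Y ⟶ S) [Etale q] :
    (∀ f : {f : X ⟶ Y // f ≫ q = p},
      IsOpenImmersion (pullback.lift (𝟙 X) f.1 ((Category.id_comp p).trans f.2.symm) : X ⟶ pullback p q)) ∧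
    ∀ Γ : (pullback p q).Opens, UniversallyInjective (Γ.ι ≫ pullback.fst p q) → Surjective (Γ.ι ≫ pullback.fst p q) →
      ∃! f : {f : X ⟶ Y // f ≫ q = p},
        Set.range (pullback.lift (𝟙 X) f.1 ((Category.id_comp p).trans f.2.symm) : X ⟶ pullback p q).base =
          (Γ : Set ↥(pullback p q)) := by
  have part1 : ∀ f : {f : X ⟶ Y // f ≫ q = p},
      IsOpenImmersion (pullback.lift (𝟙 X) f.1 ((Category.id_comp p).trans f.2.symm) : X ⟶ pullback p q) := by
    rintro ⟨f, rfl⟩
    exact graph_isOpenImmersion q f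
  refine ⟨part1, ?_⟩
  intro Γ hui hsurj
  have hiso : IsIso (Γ.ι ≫ pullback.fst p q) := isIso_of_etale_of_univInj_of_surj _
  have hfq : (inv (Γ.ι ≫ pullback.fst p q) ≫ Γ.ι ≫ pullback.snd p q) ≫ q = p := by
    rw [Category.assoc, Category.assoc, ← pullback.condition, ← Category.assoc Γ.ι,
      IsIso.inv_hom_id_assoc]
  have hgraph : ∀ f : {f : X ⟶ Y // f ≫ q = p},
      Set.range (pullback.lift (𝟙 X) f.1 ((Category.id_comp p).trans f.2.symm) : X ⟶ pullback p q).base =
          (Γ : Set ↥(pullback p q)) →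
      (pullback.lift (𝟙 X) f.1 ((Category.id_comp p).trans f.2.symm) : X ⟶ pullback p q) =
        inv (Γ.ι ≫ pullback.fst p q) ≫ Γ.ι := by
    intro f hf
    have := part1 f
    have hsub : Set.range (pullback.lift (𝟙 X) f.1 ((Category.id_comp p).trans f.2.symm) :
        X ⟶ pullback p q).base ⊆ Set.range Γ.ι.base := by
      rw [hf]; simp
    have hl := IsOpenImmersion.lift_fac Γ.ι _ hsub
    rw [← hl]
    congr 1
    rw [← cancel_mono (Γ.ι ≫ pullback.fst p q), IsIso.inv_hom_id, ← Category.assoc, hl]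
    exact pullback.lift_fst _ _ _
  let f₀ : {f : X ⟶ Y // f ≫ q = p} := ⟨inv (Γ.ι ≫ pullback.fst p q) ≫ Γ.ι ≫ pullback.snd p q, hfq⟩
  have hf₀ : (pullback.lift (𝟙 X) f₀.1 ((Category.id_comp p).trans f₀.2.symm) : X ⟶ pullback p q) =
        inv (Γ.ι ≫ pullback.fst p q) ≫ Γ.ι := by
    apply pullback.hom_ext
    · rw [pullback.lift_fst, Category.assoc, IsIso.inv_hom_id]
    · rw [pullback.lift_snd, Category.assoc]
  refine ⟨f₀, ?_, ?_⟩
  · change Set.range (pullback.lift (𝟙 X) f₀.1 ((Category.id_comp p).trans f₀.2.symm) : X ⟶ pullback p q).base = _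
    rw [hf₀, Scheme.Hom.comp_base, TopCat.coe_comp, Set.range_comp,
      Set.range_eq_univ.mpr (inv (Γ.ι ≫ pullback.fst p q)).surjective, Set.image_univ]
    simp
  · intro f hf
    have h1 := hgraph f hf
    apply Subtype.ext
    have h2 := congrArg (· ≫ pullback.snd p q) h1
    simp only [pullback.lift_snd, Category.assoc] at h2
    exact h2

end Groth.Agent.S5128
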