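import Groth.Statements.S5132
import Mathlib
-- import your own Groth.Agent.* helpers here

set_option autoImplicit false
open CategoryTheory AlgebraicGeometry
universe u
open SGA1

namespace Groth.Agent.S5132

/-- Quasi-compactness of a morphism descends along a surjective and quasi-compact base change; flatness
of the base change is not needed for this property. -/
theorem result :
    MorphismProperty.DescendsAlong @QuasiCompact (@Surjective ⊓ @QuasiCompact : MorphismProperty Scheme.{u}) := by
  constructor
  intro A X Y Z fst snd f g H hf hfst
  obtain ⟨hf1, hf2⟩ := hf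
  haveI : Surjective f := hf1
  haveI : QuasiCompact f := hf2
  haveI : QuasiCompact fst := hfst
  haveI : Surjective snd := MorphismProperty.of_isPullback (P := @Surjective) H hf1
  constructor
  intro U hU hUc
  have h1 : IsCompact (f ⁻¹' U) := QuasiCompact.isCompact_preimage U hU hUc
  have h2 : IsCompact (fst ⁻¹' (f ⁻¹' U)) :=
    QuasiCompact.isCompact_preimage _ (hU.preimage f.continuous) h1
  have h3 : g ⁻¹' U = snd '' (fst ⁻¹' (f ⁻¹' U)) := by
    have : fst ⁻¹' (f ⁻¹' U) = snd ⁻¹' (g ⁻¹' U) := by
      rw [← Set.preimage_comp, ← Set.preimage_comp]
      have hw : fst ≫ f = snd ≫ g := H.w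
      have : (f ∘ fst : A → Z) = (g ∘ snd : A → Z) := by
        funext a
        have := congrArg (fun φ : A ⟶ Z => φ a) hw
        simpa using this
      rw [this]
    rw [this, Set.image_preimage_eq _ snd.surjective]
  rw [h3]
  exact h2.image snd.continuous

end Groth.Agent.S5132
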