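import Groth.Statements.S5133
import Mathlib
import Groth.Agent.Lib.Helper64.QuasiFlat

set_option autoImplicit false
open CategoryTheory CategoryTheory.Limits AlgebraicGeometry
universe u
open SGA1

namespace Groth.Agent.S5133

/-- For a quasi-compact morphism f : X ⟶ Y and a flat surjective base change g : Y' ⟶ Y, with no
quasi-compactness asked of g, if the base change of f along g is a homeomorphism onto its image then
f is a homeomorphism onto its image. -/
theorem result {X Y Y' : Scheme.{u}} (f : X ⟶ Y)
    (g : Y' ⟶ Y) [QuasiCompact f] [Flat g] [Surjective g]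
    (h : Topology.IsEmbedding (pullback.snd f g).base) : Topology.IsEmbedding f.base := by
  open CategoryTheory.Limits in
  have hgen : GeneralizingMap g.base := Flat.generalizingMap g
  have hcond : ∀ z : ↥(pullback f g), f.base ((pullback.fst f g).base z) =
      g.base ((pullback.snd f g).base z) := by
    intro z
    rw [← Scheme.Hom.comp_apply, ← Scheme.Hom.comp_apply, pullback.condition]
  -- injectivity
  have hinj : Function.Injective f.base := by
    intro x₁ x₂ hx
    obtain ⟨y', hy'⟩ := ‹Surjective g›.surj (f.base x₁)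
    obtain ⟨z₁, hz₁, hz₁'⟩ := Scheme.Pullback.exists_preimage_pullback x₁ y' hy'.symm
    obtain ⟨z₂, hz₂, hz₂'⟩ := Scheme.Pullback.exists_preimage_pullback x₂ y' (hx ▸ hy'.symm)
    have : z₁ = z₂ := h.injective (hz₁'.trans hz₂'.symm)
    rw [← hz₁, ← hz₂, this]
  -- closed sets
  have hclosed : ∀ Z : Set ↥X, IsClosed Z → f.base ⁻¹' closure (f.base '' Z) ⊆ Z := by
    intro Z hZ x hx
    obtain ⟨W, i, hi, rfl⟩ :=
      Groth.Agent.Lib.Helper64.QuasiFlat.exists_closedImmersion_range_eq Z hZ
    have h1 := Groth.Agent.Lib.Helper64.QuasiFlat.preimage_closure_range_eq g hgen (i ≫ f)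
    rw [Scheme.Hom.comp_base, TopCat.coe_comp, Set.range_comp] at h1
    obtain ⟨y', hy'⟩ := ‹Surjective g›.surj (f.base x)
    obtain ⟨z, hz, hz'⟩ := Scheme.Pullback.exists_preimage_pullback x y' hy'.symm
    have h2 : y' ∈ g.base ⁻¹' closure (f.base '' Set.range i.base) := by
      change g.base y' ∈ closure (f.base '' Set.range i.base)
      rw [hy']; exact hx
    rw [h1] at h2
    set T : Set ↥(pullback f g) := (pullback.fst f g).base ⁻¹' Set.range i.base with hT
    have hTcl : IsClosed T := hZ.preimage (pullback.fst f g).continuous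
    have h3 : g.base ⁻¹' (f.base '' Set.range i.base) = (pullback.snd f g).base '' T := by
      ext w
      constructor
      · rintro ⟨x₀, hx₀, hx₀w⟩
        obtain ⟨z₀, hz₀, hz₀'⟩ := Scheme.Pullback.exists_preimage_pullback x₀ w hx₀w
        exact ⟨z₀, by rw [hT, Set.mem_preimage, hz₀]; exact hx₀, hz₀'⟩
      · rintro ⟨z₀, hz₀, rfl⟩
        exact ⟨(pullback.fst f g).base z₀, hz₀, hcond z₀⟩
    rw [h3] at h2
    have h4 : z ∈ closure T := by
      rw [h.isInducing.closure_eq_preimage_closure_image]
      change (pullback.snd f g).base z ∈ closure ((pullback.snd f g).base '' T)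
      rw [hz']; exact h2
    rw [hTcl.closure_eq] at h4
    have : (pullback.fst f g).base z ∈ Set.range i.base := h4
    rwa [hz] at this
  refine ⟨⟨?_⟩, hinj⟩
  apply TopologicalSpace.ext_isClosed
  intro Z
  rw [isClosed_induced_iff]
  constructor
  · intro hZ
    refine ⟨closure (f.base '' Z), isClosed_closure, ?_⟩
    apply Set.Subset.antisymm (hclosed Z hZ)
    intro x hx
    exact subset_closure ⟨x, hx, rfl⟩
  · rintro ⟨t, ht, rfl⟩
    exact ht.preimage f.continuous

end Groth.Agent.S5133
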