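import Groth.Statements.S5135
import Mathlib

set_option autoImplicit false
universe u
open scoped TensorProduct
open SGA1

namespace Groth.Agent.S5135

/-- The affine case, in submodule form (descent of submodules, equivalently of quotient modules): for A
⟶ A' faithfully flat, M an A-module and N' an A'-submodule of A' ⊗ M whose two extensions to (A' ⊗
A') ⊗ M, along a ↦ a ⊗ 1 and a ↦ 1 ⊗ a, generate the same submodule, N' is the base change of the
submodule of M formed by the elements m with 1 ⊗ m in N'. -/
theorem result (A A' : Type u) [CommRing A] [CommRing A'] [Algebra A A']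
    [Module.FaithfullyFlat A A'] (M : Type u) [AddCommGroup M] [Module A M] (N' : Submodule A' (A' ⊗[A] M))
    (h : Submodule.span (A' ⊗[A] A')
          ((N'.restrictScalars A).map
            ((Algebra.TensorProduct.includeLeft : A' →ₐ[A] A' ⊗[A] A').toLinearMap.rTensor M) : Set ((A' ⊗[A] A') ⊗[A] M)) =
        Submodule.span (A' ⊗[A] A')
          ((N'.restrictScalars A).map
            ((Algebra.TensorProduct.includeRight : A' →ₐ[A] A' ⊗[A] A').toLinearMap.rTensor M) : Set ((A' ⊗[A] A') ⊗[A] M))) :
    ((N'.restrictScalars A).comap (TensorProduct.mk A A' M 1)).baseChange A' = N' := by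
  classical
  apply le_antisymm
  · rw [Submodule.baseChange_eq_span, Submodule.span_le]
    rintro _ ⟨m, hm, rfl⟩
    exact hm
  · intro x hx
    let π : A' ⊗[A] M →ₗ[A] (A' ⊗[A] M) ⧸ N' := (N'.mkQ).restrictScalars A
    let d : M →ₗ[A] (A' ⊗[A] M) ⧸ N' := π ∘ₗ (TensorProduct.mk A A' M 1)
    have hNker : (N'.restrictScalars A).comap (TensorProduct.mk A A' M 1) = LinearMap.ker d := by
      ext m
      simp [d, π]
    have hex : Function.Exact
        (((N'.restrictScalars A).comap (TensorProduct.mk A A' M 1)).subtype.lTensor A')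
        (d.lTensor A') := by
      apply Module.Flat.lTensor_exact A'
      rw [hNker]
      exact LinearMap.exact_subtype_ker_map d
    let ψ : (A' ⊗[A] A') ⊗[A] M →ₗ[A] A' ⊗[A] ((A' ⊗[A] M) ⧸ N') :=
      (π.lTensor A') ∘ₗ (TensorProduct.assoc A A' A' M).toLinearMap
    have h1 : ∀ y, ψ ((Algebra.TensorProduct.includeLeft :
        A' →ₐ[A] A' ⊗[A] A').toLinearMap.rTensor M y) = d.lTensor A' y := by
      intro y
      induction y using TensorProduct.induction_on with
      | zero => simp
      | tmul a m => simp [ψ, d]
      | add y₁ y₂ h₁ h₂ => rw [map_add, map_add, map_add, h₁, h₂]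
    have h2 : ∀ (a b : A') (y : A' ⊗[A] M),
        ψ ((a ⊗ₜ[A] b) • (Algebra.TensorProduct.includeRight :
          A' →ₐ[A] A' ⊗[A] A').toLinearMap.rTensor M y) = a ⊗ₜ[A] π (b • y) := by
      intro a b y
      induction y using TensorProduct.induction_on with
      | zero => simp
      | tmul c m =>
        simp [ψ, TensorProduct.smul_tmul']
      | add y₁ y₂ h₁ h₂ =>
        rw [map_add, smul_add, map_add, h₁, h₂, smul_add, map_add, TensorProduct.tmul_add]
    have h3 : ∀ s : A' ⊗[A] A', ∀ y ∈ N', ψ (s • (Algebra.TensorProduct.includeRight :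
          A' →ₐ[A] A' ⊗[A] A').toLinearMap.rTensor M y) = 0 := by
      intro s y hy
      induction s using TensorProduct.induction_on with
      | zero => simp
      | tmul a b =>
        rw [h2]
        have : π (b • y) = 0 := by
          simp only [π, LinearMap.coe_restrictScalars, Submodule.mkQ_apply,
            Submodule.Quotient.mk_eq_zero]
          exact N'.smul_mem b hy
        rw [this, TensorProduct.tmul_zero]
      | add s₁ s₂ h₁ h₂ => rw [add_smul, map_add, h₁, h₂, add_zero]
    have h4 : ∀ z ∈ Submodule.span (A' ⊗[A] A')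
          ((N'.restrictScalars A).map
            ((Algebra.TensorProduct.includeRight : A' →ₐ[A] A' ⊗[A] A').toLinearMap.rTensor M) :
              Set ((A' ⊗[A] A') ⊗[A] M)), ∀ s : A' ⊗[A] A', ψ (s • z) = 0 := by
      intro z hz
      induction hz using Submodule.span_induction with
      | mem z hz =>
        obtain ⟨y, hy, rfl⟩ := hz
        intro s
        exact h3 s y hy
      | zero => intro s; simp
      | add z₁ z₂ _ _ h₁ h₂ => intro s; rw [smul_add, map_add, h₁, h₂, add_zero]
      | smul t z _ hz => intro s; rw [smul_smul]; exact hz _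
    have h5 : (Algebra.TensorProduct.includeLeft :
        A' →ₐ[A] A' ⊗[A] A').toLinearMap.rTensor M x ∈ Submodule.span (A' ⊗[A] A')
          ((N'.restrictScalars A).map
            ((Algebra.TensorProduct.includeLeft : A' →ₐ[A] A' ⊗[A] A').toLinearMap.rTensor M) :
              Set ((A' ⊗[A] A') ⊗[A] M)) :=
      Submodule.subset_span ⟨x, hx, rfl⟩
    rw [h] at h5
    have h6 := h4 _ h5 1
    rw [one_smul, h1] at h6
    obtain ⟨w, hw⟩ := (hex x).mp h6
    rw [Submodule.baseChange]
    exact ⟨w, hw⟩

end Groth.Agent.S5135
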