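import Groth.Statements.S5136
import Mathlib
import Groth.Agent.S4667

set_option autoImplicit false
open CategoryTheory CategoryTheory.Limits AlgebraicGeometry
universe u
open SGA1

namespace Groth.Agent.S5136

/-- The existence half of the exactness of H(S) ⟶ H(S') ⇉ H(S'') for closed subschemes: for g : S' ⟶ S
flat, surjective and quasi-compact, a quasi-coherent ideal sheaf on S' whose pullbacks along the two
projections of S' ×_S S' agree is the pullback of a quasi-coherent ideal sheaf on S. (Injectivity of
the pullback of ideal sheaves along g is the other half.) -/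
theorem result {S S' : Scheme.{u}} (g : S' ⟶ S) [Flat g] [Surjective g]
    [QuasiCompact g] (J' : S'.IdealSheafData)
    (h : J'.comap (pullback.fst g g) = J'.comap (pullback.snd g g)) :
    ∃ J : S.IdealSheafData, J.comap g = J' := by
  open CategoryTheory.Limits in
  refine ⟨J'.map g, le_antisymm (Scheme.IdealSheafData.comap_map_le _ _) ?_⟩
  let f : J'.subscheme ⟶ S := J'.subschemeι ≫ g
  have hqc : QuasiCompact f := inferInstanceAs (QuasiCompact (J'.subschemeι ≫ g))
  have h1 : (J'.map g).comap g = (pullback.snd f g).ker := by
    rw [Groth.Agent.S4667.result f g]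
    rfl
  let m : pullback f g ⟶ pullback g g :=
    pullback.map f g g g J'.subschemeι (𝟙 S') (𝟙 S) (by simp [f]) (by simp)
  have hm1 : m ≫ pullback.fst g g = pullback.fst f g ≫ J'.subschemeι := pullback.lift_fst _ _ _
  have hm2 : m ≫ pullback.snd g g = pullback.snd f g :=
    (pullback.lift_snd _ _ _).trans (Category.comp_id _)
  have hbig : IsPullback (pullback.fst f g) (m ≫ pullback.snd g g) (J'.subschemeι ≫ g) g := by
    rw [hm2]
    exact IsPullback.of_hasPullback f g
  have htop : IsPullback (pullback.fst f g) m J'.subschemeι (pullback.fst g g) :=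
    IsPullback.of_bot hbig hm1.symm (IsPullback.of_hasPullback g g)
  have hmker : m.ker = J'.comap (pullback.fst g g) := by
    have e := htop.flip.isoPullback_hom_fst
    rw [← e, Scheme.Hom.ker_comp_of_isIso]
    rfl
  rw [h1, ← hm2, ← Scheme.IdealSheafData.map_ker, hmker, h]
  exact Scheme.IdealSheafData.le_map_comap _ _

end Groth.Agent.S5136
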