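import Groth.Statements.S5138
import Mathlib
import Groth.Agent.Lib.Helper46.FppfSourceSm

set_option autoImplicit false
open CategoryTheory AlgebraicGeometry
universe u
open SGA1

namespace Groth.Agent.S5138

/-- For X ⟶ X' ⟶ Y locally of finite type over a locally Noetherian Y and a point x of X, if X ⟶ X' and
the composite X ⟶ Y are both etale near x then X' ⟶ Y is etale near the image of x; 'etale near a
point' is membership in the etale locus, the union of the opens on which the morphism is etale. (The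
published statement takes the morphisms of finite type; quasi-compactness plays no role in this
assertion about single points, so only local finiteness is assumed.) -/
theorem result {X X' Y : Scheme.{u}} (f : X ⟶ X') (g : X' ⟶ Y)
    [IsLocallyNoetherian Y] [LocallyOfFiniteType f] [LocallyOfFiniteType g] (x : X)
    (hf : x ∈ Pi1X.etaleLocus f) (hfg : x ∈ Pi1X.etaleLocus (f ≫ g)) : f.base x ∈ Pi1X.etaleLocus g := by
  obtain ⟨U₁', hU₁, hxU₁⟩ := TopologicalSpace.Opens.mem_sSup.mp hf
  obtain ⟨U₂', hU₂, hxU₂⟩ := TopologicalSpace.Opens.mem_sSup.mp hfg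
  let U₁ : X.Opens := U₁'
  let U₂ : X.Opens := U₂'
  have hE₁ : Etale (U₁.ι ≫ f) := hU₁
  have hE₂ : Etale (U₂.ι ≫ f ≫ g) := hU₂
  set W : X.Opens := U₁ ⊓ U₂ with hW
  have hxW : x ∈ W := ⟨hxU₁, hxU₂⟩
  have hW₁ : Etale (W.ι ≫ f) := by
    have : W.ι = X.homOfLE (inf_le_left : W ≤ U₁) ≫ U₁.ι := (X.homOfLE_ι _).symm
    rw [this, Category.assoc]
    infer_instance
  have hW₂ : Etale (W.ι ≫ f ≫ g) := by
    have : W.ι = X.homOfLE (inf_le_right : W ≤ U₂) ≫ U₂.ι := (X.homOfLE_ι _).symm
    rw [this, Category.assoc]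
    infer_instance
  set e0 : (W : Scheme.{u}) ⟶ X' := W.ι ≫ f with he0
  let V : X'.Opens := ⟨Set.range e0.base, e0.isOpenMap.isOpen_range⟩
  have hrange : Set.range e0.base ⊆ Set.range V.ι.base := by
    rw [Scheme.Opens.range_ι]
    exact le_rfl
  let e : (W : Scheme.{u}) ⟶ V := IsOpenImmersion.lift V.ι e0 hrange
  have hfac : e ≫ V.ι = e0 := IsOpenImmersion.lift_fac V.ι e0 hrange
  haveI hee : Etale e := by
    refine MorphismProperty.of_postcomp (W := @Etale) (W' := @IsOpenImmersion) e V.ι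
      inferInstance ?_
    rw [hfac]
    exact hW₁
  haveI : Surjective e := by
    constructor
    rintro ⟨y, ⟨w, rfl⟩⟩
    refine ⟨w, ?_⟩
    apply V.ι.injective
    rw [← Scheme.Hom.comp_apply, hfac]
    rfl
  haveI : Etale (e ≫ V.ι ≫ g) := by
    rw [← Category.assoc, hfac, he0, Category.assoc]
    exact hW₂
  have hV : Etale (V.ι ≫ g) :=
    Groth.Agent.Lib.Helper46.FppfSourceSch.etale_of_fppf_surjective_comp e (V.ι ≫ g)
  refine TopologicalSpace.Opens.mem_sSup.mpr ⟨V, hV, ?_⟩
  exact ⟨⟨x, hxW⟩, rfl⟩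

end Groth.Agent.S5138
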