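import Groth.Statements.S5140
import Groth.Agent.S5139
-- import your own Groth.Agent.* helpers here

set_option autoImplicit false
open CategoryTheory
universe u v u₂ v₂
open FibCat

namespace Groth.Agent.S5140

/-- If the structure functor of 𝒳 is transportable (isomorphisms of C lift to isomorphisms of 𝒳 with any
prescribed source over their source), then a functor 𝒳 ⟶ 𝒴 over C whose underlying functor is an
equivalence of categories is an equivalence over C. -/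
theorem result {C : Type u} [Category.{v} C]
    {𝒳 𝒴 : BasedCategory.{v₂, u₂} C}
    (h𝒳 : ∀ ⦃T S : C⦄ (α : T ≅ S) (ξ : 𝒳.obj), 𝒳.p.obj ξ = T →
      ∃ (ξ' : 𝒳.obj) (e : ξ ≅ ξ'), 𝒳.p.IsHomLift α.hom e.hom)
    (F : 𝒳 ⥤ᵇ 𝒴) [F.toFunctor.IsEquivalence] : FibCat.IsEquivOver F := by
  rw [Groth.Agent.S5139.result]
  refine ⟨⟨inferInstance, inferInstance⟩, fun η => ?_⟩
  let ξ₀ := F.toFunctor.objPreimage η
  let e₀ : F.toFunctor.obj ξ₀ ≅ η := F.toFunctor.objObjPreimageIso η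
  obtain ⟨ξ', ε, hε⟩ := h𝒳 (𝒴.p.mapIso e₀) ξ₀ (F.w_obj ξ₀).symm
  refine ⟨ξ', (F.toFunctor.mapIso ε).symm ≪≫ e₀, ?_⟩
  have h1 : 𝒴.p.IsHomLift (𝒴.p.mapIso e₀).hom (F.toFunctor.mapIso ε).hom := by
    change 𝒴.p.IsHomLift (𝒴.p.mapIso e₀).hom (F.toFunctor.map ε.hom)
    infer_instance
  have h2 : 𝒴.p.IsHomLift (𝒴.p.mapIso e₀).inv (F.toFunctor.mapIso ε).inv := inferInstance
  have h3 : 𝒴.p.IsHomLift (𝒴.p.map e₀.hom) e₀.hom := inferInstance
  have h4 : 𝒴.p.IsHomLift ((𝒴.p.mapIso e₀).inv ≫ 𝒴.p.map e₀.hom)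
      ((F.toFunctor.mapIso ε).inv ≫ e₀.hom) := inferInstance
  have h5 : (𝒴.p.mapIso e₀).inv ≫ 𝒴.p.map e₀.hom = 𝟙 _ := (𝒴.p.mapIso e₀).inv_hom_id
  rw [h5] at h4
  exact h4

end Groth.Agent.S5140
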