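import Groth.Statements.S5141
import Groth.Agent.S5139
-- import your own Groth.Agent.* helpers here

set_option autoImplicit false
open CategoryTheory
universe u v u₂ v₂
open FibCat

namespace Groth.Agent.S5141

/-- In the sharper form given by its proof: for an equivalence F : 𝒳 ⟶ 𝒴 over C, a morphism φ of 𝒳 is
cartesian (over its image in C) if and only if F φ is; in particular an equivalence over C is a
cartesian functor. -/
theorem result {C : Type u} [Category.{v} C]
    {𝒳 𝒴 : BasedCategory.{v₂, u₂} C} (F : 𝒳 ⥤ᵇ 𝒴) (hF : FibCat.IsEquivOver F) {a b : 𝒳.obj} (φ : a ⟶ b) :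
    𝒴.p.IsCartesian (𝒳.p.map φ) (F.toFunctor.map φ) ↔ 𝒳.p.IsCartesian (𝒳.p.map φ) φ := by
  obtain ⟨⟨hfull, hfaith⟩, hess⟩ := (Groth.Agent.S5139.result F).mp hF
  constructor
  · intro hc
    refine { toIsHomLift := inferInstance, universal_property := ?_ }
    intro a' φ' hφ'
    haveI : 𝒴.p.IsHomLift (𝒳.p.map φ) (F.toFunctor.map φ') := inferInstance
    obtain ⟨χ, ⟨hχ1, hχ2⟩, hχu⟩ := hc.universal_property (F.toFunctor.map φ')
    refine ⟨F.toFunctor.preimage χ, ⟨?_, ?_⟩, ?_⟩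
    · rw [← BasedFunctor.isHomLift_iff F]
      change 𝒴.p.IsHomLift (𝟙 (𝒳.p.obj a)) (F.toFunctor.map (F.toFunctor.preimage χ))
      rw [Functor.map_preimage]
      exact hχ1
    · apply F.toFunctor.map_injective
      rw [Functor.map_comp, Functor.map_preimage]
      exact hχ2
    · rintro χ' ⟨hχ'1, hχ'2⟩
      apply F.toFunctor.map_injective
      rw [Functor.map_preimage]
      apply hχu
      refine ⟨inferInstance, ?_⟩
      rw [← Functor.map_comp, hχ'2]
  · intro hc
    refine { toIsHomLift := inferInstance, universal_property := ?_ }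
    intro η' ψ hψ
    obtain ⟨ξ', e, he⟩ := hess η'
    have hdom : 𝒴.p.obj η' = 𝒳.p.obj a := IsHomLift.domain_eq 𝒴.p (𝒳.p.map φ) ψ
    rw [hdom] at he
    have hlift0 : 𝒴.p.IsHomLift (𝒳.p.map φ) (F.toFunctor.map (F.toFunctor.preimage (e.hom ≫ ψ))) := by
      rw [Functor.map_preimage]
      infer_instance
    haveI hlift : 𝒳.p.IsHomLift (𝒳.p.map φ) (F.toFunctor.preimage (e.hom ≫ ψ)) :=
      (BasedFunctor.isHomLift_iff F _ _).mp hlift0
    obtain ⟨χ₀, ⟨hχ1, hχ2⟩, hχu⟩ := hc.universal_property (F.toFunctor.preimage (e.hom ≫ ψ))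
    refine ⟨e.inv ≫ F.toFunctor.map χ₀, ⟨?_, ?_⟩, ?_⟩
    · haveI : 𝒴.p.IsHomLift (𝟙 (𝒳.p.obj a)) e.inv := inferInstance
      haveI : 𝒴.p.IsHomLift (𝟙 (𝒳.p.obj a)) (F.toFunctor.map χ₀) := inferInstance
      infer_instance
    · rw [Category.assoc, ← Functor.map_comp, hχ2, Functor.map_preimage, Iso.inv_hom_id_assoc]
    · rintro χ' ⟨hχ'1, hχ'2⟩
      rw [Iso.eq_inv_comp]
      have h1 : 𝒴.p.IsHomLift (𝟙 (𝒳.p.obj a)) (F.toFunctor.map (F.toFunctor.preimage (e.hom ≫ χ'))) := by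
        rw [Functor.map_preimage]
        infer_instance
      have h2 : 𝒳.p.IsHomLift (𝟙 (𝒳.p.obj a)) (F.toFunctor.preimage (e.hom ≫ χ')) :=
        (BasedFunctor.isHomLift_iff F _ _).mp h1
      have h3 := hχu (F.toFunctor.preimage (e.hom ≫ χ')) ⟨h2, by
        apply F.toFunctor.map_injective
        rw [Functor.map_comp, Functor.map_preimage, Functor.map_preimage, Category.assoc, hχ'2]⟩
      rw [← h3, Functor.map_preimage]

end Groth.Agent.S5141
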