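import Groth.Statements.S5142
import Groth.Agent.Lib.Helper83.FibProd
-- import your own Groth.Agent.* helpers here

set_option autoImplicit false
open CategoryTheory
universe u v u₂ v₂
open FibCat

namespace Groth.Agent.S5142

open Groth.Agent.Lib.Helper83.FibProd

section
variable {C : Type u} [Category.{v} C] {𝒳 𝒴 : BasedCategory.{v₂, u₂} C}

theorem cart_of_components {x y : (FibCat.fp (FibCat.toSelf 𝒳) (FibCat.toSelf 𝒴)).obj} (φ : x ⟶ y)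
    {R S : C} (f : R ⟶ S)
    [h₁ : 𝒳.p.IsCartesian f φ.hom.fst] [h₂ : 𝒴.p.IsCartesian f φ.hom.snd] :
    (FibCat.fp (FibCat.toSelf 𝒳) (FibCat.toSelf 𝒴)).p.IsCartesian f φ := by
  haveI hφ : (FibCat.fp (FibCat.toSelf 𝒳) (FibCat.toSelf 𝒴)).p.IsHomLift f φ :=
    (isHomLift_fst_iff φ f).mpr inferInstance
  refine { toIsHomLift := hφ, universal_property := ?_ }
  intro z ψ hψ
  haveI hψ1 : 𝒳.p.IsHomLift f ψ.hom.fst := (isHomLift_fst_iff ψ f).mp hψ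
  haveI hψ2 : 𝒴.p.IsHomLift f ψ.hom.snd := isHomLift_snd ψ f
  refine ⟨mkHom (𝟙 R) (Functor.IsCartesian.map 𝒳.p f φ.hom.fst ψ.hom.fst)
    (Functor.IsCartesian.map 𝒴.p f φ.hom.snd ψ.hom.snd), ⟨?_, ?_⟩, ?_⟩
  · rw [isHomLift_fst_iff]
    change 𝒳.p.IsHomLift (𝟙 R) (Functor.IsCartesian.map 𝒳.p f φ.hom.fst ψ.hom.fst)
    infer_instance
  · apply hom_ext'
    · change Functor.IsCartesian.map 𝒳.p f φ.hom.fst ψ.hom.fst ≫ φ.hom.fst = ψ.hom.fst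
      exact Functor.IsCartesian.fac 𝒳.p f φ.hom.fst ψ.hom.fst
    · change Functor.IsCartesian.map 𝒴.p f φ.hom.snd ψ.hom.snd ≫ φ.hom.snd = ψ.hom.snd
      exact Functor.IsCartesian.fac 𝒴.p f φ.hom.snd ψ.hom.snd
  · rintro χ ⟨hχ1, hχ2⟩
    haveI h1 : 𝒳.p.IsHomLift (𝟙 R) χ.hom.fst := (isHomLift_fst_iff χ (𝟙 R)).mp hχ1
    haveI h2 : 𝒴.p.IsHomLift (𝟙 R) χ.hom.snd := isHomLift_snd χ (𝟙 R)
    apply hom_ext'
    · change χ.hom.fst = Functor.IsCartesian.map 𝒳.p f φ.hom.fst ψ.hom.fst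
      apply Functor.IsCartesian.map_uniq
      have := congrArg (fun α => α.hom.fst) hχ2
      exact this
    · change χ.hom.snd = Functor.IsCartesian.map 𝒴.p f φ.hom.snd ψ.hom.snd
      apply Functor.IsCartesian.map_uniq
      have := congrArg (fun α => α.hom.snd) hχ2
      exact this

theorem fst_cart {x y : (FibCat.fp (FibCat.toSelf 𝒳) (FibCat.toSelf 𝒴)).obj} (φ : x ⟶ y)
    {R S : C} (f : R ⟶ S)
    [hc : (FibCat.fp (FibCat.toSelf 𝒳) (FibCat.toSelf 𝒴)).p.IsCartesian f φ] :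
    𝒳.p.IsCartesian f φ.hom.fst := by
  haveI hφ1 : 𝒳.p.IsHomLift f φ.hom.fst := (isHomLift_fst_iff φ f).mp inferInstance
  haveI hφ2 : 𝒴.p.IsHomLift f φ.hom.snd := isHomLift_snd φ f
  obtain ⟨hx, -⟩ := iso_hom_eq x
  refine { toIsHomLift := hφ1, universal_property := ?_ }
  intro a' ψ₁ hψ₁
  have hR : 𝒳.p.obj a' = 𝒴.p.obj x.obj.snd :=
    (IsHomLift.domain_eq 𝒳.p f ψ₁).trans
      ((IsHomLift.domain_eq 𝒳.p f φ.hom.fst).symm.trans hx)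
  let z : (FibCat.fp (FibCat.toSelf 𝒳) (FibCat.toSelf 𝒴)).obj := mkObj a' x.obj.snd hR
  let Ψ : z ⟶ y := @mkHom _ _ _ _ z y _ _ f ψ₁ φ.hom.snd hψ₁ hφ2
  haveI hΨ : (FibCat.fp (FibCat.toSelf 𝒳) (FibCat.toSelf 𝒴)).p.IsHomLift f Ψ :=
    (isHomLift_fst_iff Ψ f).mpr hψ₁
  let χ := Functor.IsCartesian.map (FibCat.fp (FibCat.toSelf 𝒳) (FibCat.toSelf 𝒴)).p f φ Ψ
  have hχfac : χ ≫ φ = Ψ := Functor.IsCartesian.fac _ f φ Ψ
  haveI hχ1 : 𝒳.p.IsHomLift (𝟙 R) χ.hom.fst := (isHomLift_fst_iff χ (𝟙 R)).mp inferInstance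
  haveI hχ2 : 𝒴.p.IsHomLift (𝟙 R) χ.hom.snd := isHomLift_snd χ (𝟙 R)
  refine ⟨χ.hom.fst, ⟨hχ1, congrArg (fun α => α.hom.fst) hχfac⟩, ?_⟩
  rintro χ₁' ⟨h1, h2⟩
  let X' : z ⟶ x := @mkHom _ _ _ _ z x _ _ (𝟙 R) χ₁' χ.hom.snd h1 hχ2
  haveI hX' : (FibCat.fp (FibCat.toSelf 𝒳) (FibCat.toSelf 𝒴)).p.IsHomLift (𝟙 R) X' :=
    (isHomLift_fst_iff X' (𝟙 R)).mpr h1
  have hX'fac : X' ≫ φ = Ψ := by
    apply hom_ext'
    · exact h2
    · exact congrArg (fun α => α.hom.snd) hχfac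
  have := Functor.IsCartesian.map_uniq (FibCat.fp (FibCat.toSelf 𝒳) (FibCat.toSelf 𝒴)).p f φ Ψ X' hX'fac
  exact congrArg (fun α => α.hom.fst) this

theorem snd_cart {x y : (FibCat.fp (FibCat.toSelf 𝒳) (FibCat.toSelf 𝒴)).obj} (φ : x ⟶ y)
    {R S : C} (f : R ⟶ S)
    [hc : (FibCat.fp (FibCat.toSelf 𝒳) (FibCat.toSelf 𝒴)).p.IsCartesian f φ] :
    𝒴.p.IsCartesian f φ.hom.snd := by
  haveI hφ1 : 𝒳.p.IsHomLift f φ.hom.fst := (isHomLift_fst_iff φ f).mp inferInstance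
  haveI hφ2 : 𝒴.p.IsHomLift f φ.hom.snd := isHomLift_snd φ f
  obtain ⟨hx, -⟩ := iso_hom_eq x
  refine { toIsHomLift := hφ2, universal_property := ?_ }
  intro c' ψ₂ hψ₂
  have hR : 𝒳.p.obj x.obj.fst = 𝒴.p.obj c' :=
    (IsHomLift.domain_eq 𝒳.p f φ.hom.fst).trans (IsHomLift.domain_eq 𝒴.p f ψ₂).symm
  let z : (FibCat.fp (FibCat.toSelf 𝒳) (FibCat.toSelf 𝒴)).obj := mkObj x.obj.fst c' hR
  let Ψ : z ⟶ y := @mkHom _ _ _ _ z y _ _ f φ.hom.fst ψ₂ hφ1 hψ₂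
  haveI hΨ : (FibCat.fp (FibCat.toSelf 𝒳) (FibCat.toSelf 𝒴)).p.IsHomLift f Ψ :=
    (isHomLift_fst_iff Ψ f).mpr hφ1
  let χ := Functor.IsCartesian.map (FibCat.fp (FibCat.toSelf 𝒳) (FibCat.toSelf 𝒴)).p f φ Ψ
  have hχfac : χ ≫ φ = Ψ := Functor.IsCartesian.fac _ f φ Ψ
  haveI hχ1 : 𝒳.p.IsHomLift (𝟙 R) χ.hom.fst := (isHomLift_fst_iff χ (𝟙 R)).mp inferInstance
  haveI hχ2 : 𝒴.p.IsHomLift (𝟙 R) χ.hom.snd := isHomLift_snd χ (𝟙 R)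
  refine ⟨χ.hom.snd, ⟨hχ2, congrArg (fun α => α.hom.snd) hχfac⟩, ?_⟩
  rintro χ₂' ⟨h1, h2⟩
  let X' : z ⟶ x := @mkHom _ _ _ _ z x _ _ (𝟙 R) χ.hom.fst χ₂' hχ1 h1
  haveI hX' : (FibCat.fp (FibCat.toSelf 𝒳) (FibCat.toSelf 𝒴)).p.IsHomLift (𝟙 R) X' :=
    (isHomLift_fst_iff X' (𝟙 R)).mpr hχ1
  have hX'fac : X' ≫ φ = Ψ := by
    apply hom_ext'
    · exact congrArg (fun α => α.hom.fst) hχfac
    · exact h2
  have := Functor.IsCartesian.map_uniq (FibCat.fp (FibCat.toSelf 𝒳) (FibCat.toSelf 𝒴)).p f φ Ψ X' hX'fac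
  exact congrArg (fun α => α.hom.snd) this

end

/-- A morphism of the fibre product 𝒳 ×_C 𝒴 of two categories over C is cartesian if and only if its two
components are cartesian (each over its image in C). The fibre product is taken as the 2-fibre
product over C of the two structure functors, whose objects are pairs over one object of C together
with an isomorphism of C lying over an identity. -/
theorem result {C : Type u} [Category.{v} C] {𝒳 𝒴 : BasedCategory.{v₂, u₂} C}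
    {x y : (FibCat.fp (FibCat.toSelf 𝒳) (FibCat.toSelf 𝒴)).obj} (φ : x ⟶ y) :
    (FibCat.fp (FibCat.toSelf 𝒳) (FibCat.toSelf 𝒴)).p.IsCartesian
        ((FibCat.fp (FibCat.toSelf 𝒳) (FibCat.toSelf 𝒴)).p.map φ) φ ↔
      𝒳.p.IsCartesian (𝒳.p.map φ.hom.fst) φ.hom.fst ∧ 𝒴.p.IsCartesian (𝒴.p.map φ.hom.snd) φ.hom.snd := by
  constructor
  · intro hc
    haveI := hc
    refine ⟨fst_cart φ ((FibCat.fp (FibCat.toSelf 𝒳) (FibCat.toSelf 𝒴)).p.map φ), ?_⟩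
    haveI h2 : 𝒴.p.IsCartesian ((FibCat.fp (FibCat.toSelf 𝒳) (FibCat.toSelf 𝒴)).p.map φ) φ.hom.snd :=
      snd_cart φ _
    exact isCartesian_of_isHomLift 𝒴.p ((FibCat.fp (FibCat.toSelf 𝒳) (FibCat.toSelf 𝒴)).p.map φ)
      (𝒴.p.map φ.hom.snd) φ.hom.snd
  · rintro ⟨h1, h2⟩
    haveI := h1
    haveI h2' : 𝒴.p.IsCartesian (𝒳.p.map φ.hom.fst) φ.hom.snd := by
      haveI := h2
      haveI : 𝒴.p.IsHomLift (𝒳.p.map φ.hom.fst) φ.hom.snd :=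
        FibCat.fp_isHomLift_snd (FibCat.toSelf 𝒳) (FibCat.toSelf 𝒴) φ
      exact isCartesian_of_isHomLift 𝒴.p (𝒴.p.map φ.hom.snd) (𝒳.p.map φ.hom.fst) φ.hom.snd
    exact cart_of_components φ (𝒳.p.map φ.hom.fst)

end Groth.Agent.S5142
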