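import Groth.Statements.S5143
import Groth.Agent.S5142
-- import your own Groth.Agent.* helpers here

set_option autoImplicit false
open CategoryTheory
universe u v u₂ v₂
open FibCat

namespace Groth.Agent.S5143

open Groth.Agent.Lib.Helper83.FibProd

theorem prefib {C : Type u} [Category.{v} C] {𝒳 𝒴 : BasedCategory.{v₂, u₂} C}
    (h₁ : 𝒳.p.IsPreFibered) (h₂ : 𝒴.p.IsPreFibered) :
    (FibCat.fp (FibCat.toSelf 𝒳) (FibCat.toSelf 𝒴)).p.IsPreFibered := by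
  refine ⟨?_⟩
  intro x R f
  obtain ⟨hx, -⟩ := iso_hom_eq x
  change R ⟶ 𝒳.p.obj x.obj.fst at f
  obtain ⟨b₁, φ₁, hφ₁⟩ := h₁.exists_isCartesian' f
  obtain ⟨b₂, φ₂, hφ₂⟩ := h₂.exists_isCartesian' (f ≫ eqToHom hx)
  haveI hl1 : 𝒳.p.IsHomLift f φ₁ := hφ₁.toIsHomLift
  haveI hl2 : 𝒴.p.IsHomLift f φ₂ := by
    have : 𝒴.p.IsHomLift (f ≫ eqToHom hx) φ₂ := hφ₂.toIsHomLift
    exact (IsHomLift.lift_comp_eqToHom_iff 𝒴.p f φ₂ hx).mp this
  haveI hc2 : 𝒴.p.IsCartesian f φ₂ := isCartesian_of_isHomLift 𝒴.p (f ≫ eqToHom hx) f φ₂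
  have hb : 𝒳.p.obj b₁ = 𝒴.p.obj b₂ :=
    (IsHomLift.domain_eq 𝒳.p f φ₁).trans (IsHomLift.domain_eq 𝒴.p f φ₂).symm
  let z : (FibCat.fp (FibCat.toSelf 𝒳) (FibCat.toSelf 𝒴)).obj := mkObj b₁ b₂ hb
  let Φ : z ⟶ x := @mkHom _ _ _ _ z x _ _ f φ₁ φ₂ hl1 hl2
  refine ⟨z, Φ, ?_⟩
  haveI : 𝒳.p.IsCartesian f Φ.hom.fst := hφ₁
  haveI : 𝒴.p.IsCartesian f Φ.hom.snd := hc2
  exact Groth.Agent.S5142.cart_of_components Φ f

theorem fib {C : Type u} [Category.{v} C] {𝒳 𝒴 : BasedCategory.{v₂, u₂} C}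
    (h₁ : 𝒳.p.IsFibered) (h₂ : 𝒴.p.IsFibered) :
    (FibCat.fp (FibCat.toSelf 𝒳) (FibCat.toSelf 𝒴)).p.IsFibered := by
  haveI := prefib h₁.toIsPreFibered h₂.toIsPreFibered
  refine { comp := ?_ }
  intro R S T f g a b c φ ψ hφ hψ
  haveI := Groth.Agent.S5142.fst_cart φ f
  haveI := Groth.Agent.S5142.snd_cart φ f
  haveI := Groth.Agent.S5142.fst_cart ψ g
  haveI := Groth.Agent.S5142.snd_cart ψ g
  haveI : 𝒳.p.IsCartesian (f ≫ g) (φ ≫ ψ).hom.fst := by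
    change 𝒳.p.IsCartesian (f ≫ g) (φ.hom.fst ≫ ψ.hom.fst)
    infer_instance
  haveI : 𝒴.p.IsCartesian (f ≫ g) (φ ≫ ψ).hom.snd := by
    change 𝒴.p.IsCartesian (f ≫ g) (φ.hom.snd ≫ ψ.hom.snd)
    infer_instance
  exact Groth.Agent.S5142.cart_of_components (φ ≫ ψ) (f ≫ g)

/-- The fibre product over C of two fibred (resp. prefibred) categories over C is fibred (resp.
prefibred); fibred and prefibred are Mathlib's notions for the structure functors, and the fibre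
product is the 2-fibre product over C of the two structure functors. -/
theorem result {C : Type u} [Category.{v} C] {𝒳 𝒴 : BasedCategory.{v₂, u₂} C} :
    (𝒳.p.IsFibered → 𝒴.p.IsFibered → (FibCat.fp (FibCat.toSelf 𝒳) (FibCat.toSelf 𝒴)).p.IsFibered) ∧
      (𝒳.p.IsPreFibered → 𝒴.p.IsPreFibered → (FibCat.fp (FibCat.toSelf 𝒳) (FibCat.toSelf 𝒴)).p.IsPreFibered) := by
  exact ⟨fib, prefib⟩

end Groth.Agent.S5143
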