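import Groth.Statements.S5144
import Mathlib
-- import your own Groth.Agent.* helpers here

set_option autoImplicit false
open CategoryTheory
universe u v u₂ v₂
open FibCat

namespace Groth.Agent.S5144

section
open Functor Opposite

variable {C : Type u} [Category.{v} C] {𝒳 : Type u₂} [Category.{v₂} 𝒳] (p : 𝒳 ⥤ C)

lemma isHomLift_op {R S : C} {a b : 𝒳} (f : R ⟶ S) (φ : a ⟶ b) [h : p.IsHomLift f φ] :
    p.op.IsHomLift f.op φ.op := by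
  cases h
  exact CategoryTheory.IsHomLift.map p.op φ.op

lemma isHomLift_unop {R S : Cᵒᵖ} {a b : 𝒳ᵒᵖ} (f : R ⟶ S) (φ : a ⟶ b) [h : p.op.IsHomLift f φ] :
    p.IsHomLift f.unop φ.unop := by
  cases h
  exact CategoryTheory.IsHomLift.map p φ.unop

lemma isCocartesian_unop {R S : Cᵒᵖ} {a b : 𝒳ᵒᵖ} (f : R ⟶ S) (φ : a ⟶ b)
    [h : p.op.IsCartesian f φ] : p.IsCocartesian f.unop φ.unop := by
  haveI : p.IsHomLift f.unop φ.unop := isHomLift_unop p f φ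
  refine ⟨fun {b'} φ' _ ↦ ?_⟩
  haveI : p.op.IsHomLift f φ'.op := isHomLift_op p f.unop φ'
  obtain ⟨χ, ⟨hχ1, hχ2⟩, hχ3⟩ := h.universal_property (a' := op b') φ'.op
  refine ⟨χ.unop, ⟨?_, ?_⟩, ?_⟩
  · exact isHomLift_unop p (𝟙 R) χ
  · exact congrArg Quiver.Hom.unop hχ2
  · rintro y ⟨hy1, hy2⟩
    have : y.op = χ := hχ3 y.op ⟨isHomLift_op p (𝟙 R.unop) y, congrArg Quiver.Hom.op hy2⟩
    exact congrArg Quiver.Hom.unop this

lemma isCartesian_op {R S : C} {a b : 𝒳} (f : R ⟶ S) (φ : a ⟶ b)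
    [h : p.IsCocartesian f φ] : p.op.IsCartesian f.op φ.op := by
  haveI : p.op.IsHomLift f.op φ.op := isHomLift_op p f φ
  refine ⟨fun {a'} φ' _ ↦ ?_⟩
  haveI : p.IsHomLift f φ'.unop := isHomLift_unop p f.op φ'
  obtain ⟨χ, ⟨hχ1, hχ2⟩, hχ3⟩ := h.universal_property (b' := a'.unop) φ'.unop
  refine ⟨χ.op, ⟨?_, ?_⟩, ?_⟩
  · exact isHomLift_op p (𝟙 S) χ
  · exact congrArg Quiver.Hom.op hχ2
  · rintro y ⟨hy1, hy2⟩
    have : y.unop = χ := hχ3 y.unop ⟨isHomLift_unop p (𝟙 (op S)) y, congrArg Quiver.Hom.unop hy2⟩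
    exact congrArg Quiver.Hom.op this

lemma isCartesian_unop {R S : Cᵒᵖ} {a b : 𝒳ᵒᵖ} (f : R ⟶ S) (φ : a ⟶ b)
    [h : p.op.IsCocartesian f φ] : p.IsCartesian f.unop φ.unop := by
  haveI : p.IsHomLift f.unop φ.unop := isHomLift_unop p f φ
  refine ⟨fun {a'} φ' _ ↦ ?_⟩
  haveI : p.op.IsHomLift f φ'.op := isHomLift_op p f.unop φ'
  obtain ⟨χ, ⟨hχ1, hχ2⟩, hχ3⟩ := h.universal_property (b' := op a') φ'.op
  refine ⟨χ.unop, ⟨?_, ?_⟩, ?_⟩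
  · exact isHomLift_unop p (𝟙 S) χ
  · exact congrArg Quiver.Hom.unop hχ2
  · rintro y ⟨hy1, hy2⟩
    have : y.op = χ := hχ3 y.op ⟨isHomLift_op p (𝟙 S.unop) y, congrArg Quiver.Hom.op hy2⟩
    exact congrArg Quiver.Hom.unop this

lemma isCocartesian_op {R S : C} {a b : 𝒳} (f : R ⟶ S) (φ : a ⟶ b)
    [h : p.IsCartesian f φ] : p.op.IsCocartesian f.op φ.op := by
  haveI : p.op.IsHomLift f.op φ.op := isHomLift_op p f φ
  refine ⟨fun {b'} φ' _ ↦ ?_⟩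
  haveI : p.IsHomLift f φ'.unop := isHomLift_unop p f.op φ'
  obtain ⟨χ, ⟨hχ1, hχ2⟩, hχ3⟩ := h.universal_property (a' := b'.unop) φ'.unop
  refine ⟨χ.op, ⟨?_, ?_⟩, ?_⟩
  · exact isHomLift_op p (𝟙 R) χ
  · exact congrArg Quiver.Hom.op hχ2
  · rintro y ⟨hy1, hy2⟩
    have : y.unop = χ := hχ3 y.unop ⟨isHomLift_unop p (𝟙 (op R)) y, congrArg Quiver.Hom.unop hy2⟩
    exact congrArg Quiver.Hom.op this

open IsPreFibered in
lemma isCocartesian_comp [p.IsFibered] {R S T : C} (f : R ⟶ S) (g : S ⟶ T) {a b c : 𝒳}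
    (ψ₁ : a ⟶ b) (ψ₂ : b ⟶ c) [p.IsCocartesian f ψ₁] [p.IsCocartesian g ψ₂] :
    p.IsCocartesian (f ≫ g) (ψ₁ ≫ ψ₂) := by
  refine ⟨fun {c'} θ _ ↦ ?_⟩
  have hc' : p.obj c' = T := IsHomLift.codomain_eq p (f ≫ g) θ
  let γ := pullbackMap hc' g
  have hγ : p.obj (pullbackObj hc' g) = S := pullbackObj_proj hc' g
  let φ := pullbackMap hγ f
  let τ := IsCartesian.map p (f ≫ g) (φ ≫ γ) θ
  have hτ : τ ≫ φ ≫ γ = θ := IsCartesian.fac p (f ≫ g) (φ ≫ γ) θ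
  let σ := IsCocartesian.map p f ψ₁ (τ ≫ φ)
  have hσ : ψ₁ ≫ σ = τ ≫ φ := IsCocartesian.fac p f ψ₁ (τ ≫ φ)
  let χ := IsCocartesian.map p g ψ₂ (σ ≫ γ)
  have hχ : ψ₂ ≫ χ = σ ≫ γ := IsCocartesian.fac p g ψ₂ (σ ≫ γ)
  refine ⟨χ, ⟨inferInstance, ?_⟩, ?_⟩
  · rw [Category.assoc, hχ, reassoc_of% hσ, hτ]
  · rintro χ' ⟨hχ'1, hχ'2⟩
    let σ' := IsCartesian.map p g γ (ψ₂ ≫ χ')
    have hσ' : σ' ≫ γ = ψ₂ ≫ χ' := IsCartesian.fac p g γ (ψ₂ ≫ χ')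
    let τ' := IsCartesian.map p f φ (ψ₁ ≫ σ')
    have hτ' : τ' ≫ φ = ψ₁ ≫ σ' := IsCartesian.fac p f φ (ψ₁ ≫ σ')
    have h1 : τ' = τ := by
      apply IsCartesian.map_uniq p (f ≫ g) (φ ≫ γ) θ
      rw [reassoc_of% hτ', hσ', ← Category.assoc, hχ'2]
    have h2 : σ' = σ := by
      apply IsCocartesian.map_uniq p f ψ₁ (τ ≫ φ)
      rw [← hτ', h1]
    apply IsCocartesian.map_uniq p g ψ₂ (σ ≫ γ)
    rw [← hσ', h2]

end

/-- If p : 𝒳 ⥤ C is both prefibred and co-prefibred (its opposite functor is prefibred), then p is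
fibred if and only if it is co-fibred (its opposite functor is fibred). Prefibred and fibred are
Mathlib's notions, which are the source's. -/
theorem result {C : Type u} [Category.{v} C] {𝒳 : Type u₂} [Category.{v₂} 𝒳]
    (p : 𝒳 ⥤ C) [p.IsPreFibered] [p.op.IsPreFibered] : p.IsFibered ↔ p.op.IsFibered := by
  constructor
  · intro h
    refine ⟨fun {R S T} f g {a b c} φ ψ _ _ ↦ ?_⟩
    haveI := isCocartesian_unop p f φ
    haveI := isCocartesian_unop p g ψ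
    haveI := isCocartesian_comp p g.unop f.unop ψ.unop φ.unop
    exact isCartesian_op p (g.unop ≫ f.unop) (ψ.unop ≫ φ.unop)
  · intro h
    refine ⟨fun {R S T} f g {a b c} φ ψ _ _ ↦ ?_⟩
    haveI := isCocartesian_op p f φ
    haveI := isCocartesian_op p g ψ
    haveI := isCocartesian_comp p.op g.op f.op ψ.op φ.op
    exact isCartesian_unop p (g.op ≫ f.op) (ψ.op ≫ φ.op)

end Groth.Agent.S5144
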