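import Groth.Statements.S5146
import Mathlib
-- import your own Groth.Agent.* helpers here

set_option autoImplicit false
universe u v w
open CategoryTheory PreGaloisCategory
open Pi1

namespace Groth.Agent.S5146

open CategoryTheory.Limits in
theorem nonempty_fiber_terminal {C' : Type u} [Category.{v} C'] [GaloisCategory C']
    (F' : C' ⥤ FintypeCat.{w}) [FiberFunctor F'] : Nonempty (F'.obj (⊤_ C')) := by
  let i : FintypeCat.of PUnit.{w+1} ⟶ F'.obj (⊤_ C') :=
    terminal.from (FintypeCat.of PUnit.{w+1}) ≫ (PreservesTerminal.iso F').inv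
  exact ⟨i PUnit.unit⟩

theorem whisker_smul {C C' : Type u} [Category.{v} C] [Category.{v} C'] (H : C ⥤ C')
    (F' : C' ⥤ FintypeCat.{w}) (X : C) (a : (H ⋙ F').obj X) (σ : Aut F') :
    (Pi1X.autWhisker H F' σ) • a = σ.hom.app (H.obj X) a := rfl

open CategoryTheory.Limits in
/-- For an exact functor H : C ⥤ C' of Galois categories with compatible fibre functors F' and F' ∘ H,
the induced homomorphism u of fundamental groups and a pointed connected object (X, a) of C with
stabilizer U of a: the image of u lies in U if and only if H(X) has a section from the final object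
of C' sending the point to a. -/
theorem result {C C' : Type u} [Category.{v} C] [Category.{v} C']
    [GaloisCategory C] [GaloisCategory C'] (H : C ⥤ C') [PreservesFiniteLimits H] [PreservesFiniteColimits H]
    (F' : C' ⥤ FintypeCat.{w}) [FiberFunctor F'] [FiberFunctor (H ⋙ F')] (X : C) [IsConnected X]
    (a : (H ⋙ F').obj X) :
    (Pi1X.autWhisker H F').range ≤ MulAction.stabilizer (Aut (H ⋙ F')) a ↔
      ∃ s : ⊤_ C' ⟶ H.obj X, ∀ t : F'.obj (⊤_ C'), F'.map s t = a := by
  constructor
  · intro hle
    have hfix : ∀ σ : Aut F', σ.hom.app (H.obj X) a = a := by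
      intro σ
      have := hle ⟨σ, rfl⟩
      rw [MulAction.mem_stabilizer_iff, whisker_smul] at this
      exact this
    let α : (functorToAction F').obj (⊤_ C') ⟶ (functorToAction F').obj (H.obj X) :=
      { hom := FintypeCat.homMk (fun _ => a)
        comm := by
          intro g
          ext t
          exact (hfix g).symm }
    obtain ⟨s, hs⟩ := (functorToAction F').map_surjective α
    refine ⟨s, fun t => ?_⟩
    have h1 : ((functorToAction F').map s).hom = α.hom := by rw [hs]
    rw [functorToAction_map] at h1
    rw [h1]
    rfl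
  · rintro ⟨s, hs⟩
    rintro _ ⟨σ, rfl⟩
    rw [MulAction.mem_stabilizer_iff, whisker_smul]
    obtain ⟨t⟩ := nonempty_fiber_terminal F'
    have h1 := hs t
    have h2 := hs (σ.hom.app (⊤_ C') t)
    rw [← h1]
    have h3 := NatTrans.naturality_apply σ.hom s t
    rw [h3]
    exact h2.trans h1.symm

end Groth.Agent.S5146
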