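import Groth.Statements.S5147
import Groth.Agent.Lib.Helper83.Pi1Triv

set_option autoImplicit false
universe u v w
open CategoryTheory PreGaloisCategory
open Pi1

namespace Groth.Agent.S5147

open CategoryTheory.Limits in
/-- In the situation of the first assertion, the stabilizer U of a contains the normal subgroup
generated by the image of u (hence also its closure, U being open) if and only if H(X) is isomorphic
to a finite coproduct of copies of the final object of C'. -/
theorem result {C C' : Type u} [Category.{v} C] [Category.{v} C']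
    [GaloisCategory C] [GaloisCategory C'] (H : C ⥤ C') [PreservesFiniteLimits H] [PreservesFiniteColimits H]
    (F' : C' ⥤ FintypeCat.{w}) [FiberFunctor F'] [FiberFunctor (H ⋙ F')] (X : C) [IsConnected X]
    (a : (H ⋙ F').obj X) :
    Subgroup.normalClosure ((Pi1X.autWhisker H F').range : Set (Aut (H ⋙ F'))) ≤ MulAction.stabilizer (Aut (H ⋙ F')) a ↔
      ∃ n : ℕ, Nonempty (H.obj X ≅ ∐ fun _ : Fin n => ⊤_ C') := by
  rw [← Groth.Agent.Lib.Helper83.Pi1.trivial_iff_exists_iso F' (H.obj X)]
  constructor
  · intro hle σ b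
    have : MulAction.IsPretransitive (Aut (H ⋙ F')) ((H ⋙ F').obj X) :=
      FiberFunctor.isPretransitive_of_isConnected (H ⋙ F') X
    obtain ⟨g, hg⟩ := MulAction.exists_smul_eq (Aut (H ⋙ F')) a b
    have hmem : Pi1X.autWhisker H F' σ ∈
        Subgroup.normalClosure ((Pi1X.autWhisker H F').range : Set (Aut (H ⋙ F'))) :=
      Subgroup.subset_normalClosure ⟨σ, rfl⟩
    have hn : g⁻¹ * Pi1X.autWhisker H F' σ * g ∈
        Subgroup.normalClosure ((Pi1X.autWhisker H F').range : Set (Aut (H ⋙ F'))) := by
      have := Subgroup.normalClosure_normal.conj_mem _ hmem g⁻¹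
      simpa using this
    have h1 := hle hn
    rw [MulAction.mem_stabilizer_iff, mul_smul, mul_smul, inv_smul_eq_iff, hg] at h1
    exact h1
  · intro htriv
    let N : Subgroup (Aut (H ⋙ F')) :=
      (MulAction.toPermHom (Aut (H ⋙ F')) ((H ⋙ F').obj X)).ker
    have hN : ((Pi1X.autWhisker H F').range : Set (Aut (H ⋙ F'))) ⊆ N := by
      rintro _ ⟨σ, rfl⟩
      change MulAction.toPermHom _ _ _ = 1
      ext b
      exact htriv σ b
    have hle : Subgroup.normalClosure ((Pi1X.autWhisker H F').range : Set (Aut (H ⋙ F'))) ≤ N :=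
      Subgroup.normalClosure_le_normal hN
    intro g hg
    have h1 : MulAction.toPermHom (Aut (H ⋙ F')) ((H ⋙ F').obj X) g = 1 := hle hg
    rw [MulAction.mem_stabilizer_iff]
    have h2 := congrArg (fun p => p a) h1
    exact h2

end Groth.Agent.S5147
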