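import Groth.Statements.S5148
import Groth.Agent.Lib.Helper83.Pi1

set_option autoImplicit false
universe u v w
open CategoryTheory PreGaloisCategory
open Pi1

namespace Groth.Agent.S5148

open CategoryTheory.Limits in
/-- For an exact functor H : C ⥤ C' of Galois categories with compatible fibre functors, the induced
homomorphism u of fundamental groups and a connected object X' of C' with a point a' of its fibre
and stabilizer U': the kernel of u lies in U' if and only if some connected subobject of some H(X)
maps to X'. -/
theorem result {C C' : Type u} [Category.{v} C] [Category.{v} C']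
    [GaloisCategory C] [GaloisCategory C'] (H : C ⥤ C') [PreservesFiniteLimits H] [PreservesFiniteColimits H]
    (F' : C' ⥤ FintypeCat.{w}) [FiberFunctor F'] [FiberFunctor (H ⋙ F')] (X' : C') [IsConnected X']
    (a' : F'.obj X') :
    (Pi1X.autWhisker H F').ker ≤ MulAction.stabilizer (Aut F') a' ↔
      ∃ (X : C) (Y' : C') (i : Y' ⟶ H.obj X) (q : Y' ⟶ X'), Mono i ∧ IsConnected Y' := by
  constructor
  · intro hle
    obtain ⟨X, y, hy⟩ := Groth.Agent.Lib.Helper83.Pi1.exists_stabilizer_le_of_ker_le H F'
      (MulAction.stabilizer (Aut F') a') (stabilizer_isOpen (Aut F') a') hle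
    obtain ⟨Y', i, y', hy', hconn, hmono⟩ := fiber_in_connected_component F' (H.obj X) y
    have hst : MulAction.stabilizer (Aut F') y' ≤ MulAction.stabilizer (Aut F') a' := by
      intro σ hσ
      apply hy
      change σ.hom.app _ y' = y' at hσ
      change σ.hom.app _ y = y
      rw [← hy', NatTrans.naturality_apply σ.hom i y', hσ]
    obtain ⟨q, -⟩ := Groth.Agent.Lib.Helper83.Pi1.exists_hom_of_stabilizer_le F' Y' X' y' a' hst
    exact ⟨X, Y', i, q, hmono, hconn⟩
  · rintro ⟨X, Y', i, q, hmono, hconn⟩
    intro σ hσ
    rw [Groth.Agent.Lib.Helper83.Pi1.mem_ker_autWhisker_iff] at hσ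
    rw [MulAction.mem_stabilizer_iff]
    change σ.hom.app _ a' = a'
    have hne : Nonempty (F'.obj Y') := nonempty_fiber_of_isConnected F' Y'
    obtain ⟨z, rfl⟩ := surjective_of_nonempty_fiber_of_isConnected F' q a'
    rw [NatTrans.naturality_apply σ.hom q z]
    congr 1
    have hinj : Function.Injective (F'.map i) :=
      ConcreteCategory.injective_of_mono_of_preservesPullback (F'.map i)
    apply hinj
    rw [← NatTrans.naturality_apply σ.hom i z]
    exact hσ X _

end Groth.Agent.S5148
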