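import Groth.Statements.S5156
-- import your own Groth.Agent.* helpers here
import Groth.Agent.S5155
import Mathlib.RingTheory.LocalRing.Quotient
import Mathlib.RingTheory.LocalRing.Length
import Groth.Agent.Lib.Helper85.Matlis

set_option autoImplicit false
universe u
open Matlis

namespace Groth.Agent.S5156

open IsLocalRing

section
variable (A B : Type u) [CommRing A] [IsLocalRing A] [CommRing B] [IsLocalRing B] [Algebra A B] [Module.Finite A B]

theorem comap_max : (maximalIdeal B).comap (algebraMap A B) = maximalIdeal A := by
  have : Algebra.IsIntegral A B := inferInstance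
  have := Ideal.isMaximal_comap_of_isIntegral_of_isMaximal (R := A) (maximalIdeal B)
  exact IsLocalRing.eq_maximalIdeal this

theorem isLocalHom_algebraMap : IsLocalHom (algebraMap A B) := by
  constructor
  intro a ha
  by_contra hna
  have h1 : a ∈ maximalIdeal A := (IsLocalRing.mem_maximalIdeal a).mpr hna
  rw [← comap_max A B, Ideal.mem_comap] at h1
  exact (IsLocalRing.mem_maximalIdeal _).mp h1 ha

theorem exists_pow_le [IsNoetherianRing B] :
    ∃ N : ℕ, maximalIdeal B ^ N ≤ Ideal.map (algebraMap A B) (maximalIdeal A) := by
  have : Algebra.IsIntegral A B := inferInstance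
  set J := Ideal.map (algebraMap A B) (maximalIdeal A) with hJ
  have hJle : J ≤ maximalIdeal B := by
    rw [hJ, Ideal.map_le_iff_le_comap, comap_max]
  have hmin : maximalIdeal B ∈ J.minimalPrimes := by
    refine ⟨⟨inferInstance, hJle⟩, ?_⟩
    rintro P ⟨hP, hJP⟩ hPm
    have := hP
    have h1 : maximalIdeal A ≤ P.comap (algebraMap A B) := by
      rw [← Ideal.map_le_iff_le_comap]; exact hJP
    have h2 : (P.comap (algebraMap A B)).IsMaximal := by
      have hne : P.comap (algebraMap A B) ≠ ⊤ := (Ideal.comap_isPrime _ P).ne_top
      have := (IsLocalRing.maximalIdeal.isMaximal A).eq_of_le hne h1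
      rw [← this]; infer_instance
    have h3 : P.IsMaximal := Ideal.isMaximal_of_isIntegral_of_isMaximal_comap P h2
    rw [IsLocalRing.eq_maximalIdeal h3]
  haveI := IsLocalRing.quotient_artinian_of_mem_minimalPrimes_of_isLocalRing J hmin
  exact IsLocalRing.exists_maximalIdeal_pow_le_of_isArtinianRing_quotient J

end


section
variable (A B : Type u) [CommRing A] [CommRing B] [Algebra A B] (E : Type u) [AddCommGroup E] [Module A E]

noncomputable abbrev H : ModuleCat.{u} B := (ModuleCat.coextendScalars (algebraMap A B)).obj (ModuleCat.of A E)

variable {A B E} in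
/-- the underlying A-linear map of an element of H. -/
noncomputable def toLin (φ : H A B E) : B →ₗ[A] E where
  toFun s := ModuleCat.CoextendScalars.equiv (algebraMap A B) (ModuleCat.of A E) φ s
  map_add' x y := map_add (ModuleCat.CoextendScalars.equiv (algebraMap A B) (ModuleCat.of A E) φ) x y
  map_smul' a x := by
    have := (ModuleCat.CoextendScalars.equiv (algebraMap A B) (ModuleCat.of A E) φ).map_smul a x
    rw [Algebra.smul_def]
    exact this

variable {A B E} in
theorem toLin_smul (s : B) (φ : H A B E) (s' : B) : toLin (s • φ) s' = toLin φ (s' * s) := rfl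

variable {A B E} in
theorem toLin_add (φ ψ : H A B E) : toLin (φ + ψ) = toLin φ + toLin ψ := rfl

variable {A B E} in
theorem toLin_injective : Function.Injective (toLin : H A B E → (B →ₗ[A] E)) := by
  intro φ ψ h
  apply ModuleCat.CoextendScalars.ext
  apply LinearMap.ext
  intro s
  exact LinearMap.congr_fun h s

variable {A B E} in
noncomputable def ofLin (g : B →ₗ[A] E) : H A B E :=
  (ModuleCat.CoextendScalars.equiv (algebraMap A B) (ModuleCat.of A E)).symm
    { toFun := fun s => g s
      map_add' := fun x y => map_add g x y
      map_smul' := fun a x => by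
        have h : ∀ y : B, g (algebraMap A B a * y) = a • g y := by
          intro y
          rw [← Algebra.smul_def]; exact g.map_smul a y
        exact h x }

variable {A B E} in
theorem toLin_ofLin (g : B →ₗ[A] E) : toLin (ofLin g) = g := rfl

theorem powerTorsion_H (I : Ideal A) (hE : LocCoh.IsPowerTorsion I E) [Module.Finite A B]
    (φ : H A B E) : ∃ n : ℕ, ∀ s ∈ (Ideal.map (algebraMap A B) I) ^ n, s • φ = 0 := by
  classical
  obtain ⟨S, hS⟩ := (Module.Finite.fg_top : (⊤ : Submodule A B).FG)
  -- choose exponents
  choose n hn using fun b : B => hE (toLin φ b)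
  let N := S.sup n
  have hkill : ∀ a ∈ I ^ N, ∀ b : B, a • toLin φ b = 0 := by
    intro a ha b
    have hb : b ∈ Submodule.span A (S : Set B) := by rw [hS]; trivial
    induction hb using Submodule.span_induction with
    | mem x hx =>
      apply hn x
      exact Ideal.pow_le_pow_right (Finset.le_sup (f := n) hx) ha
    | zero => simp
    | add x y _ _ hx hy => rw [map_add, smul_add, hx, hy, add_zero]
    | smul r x _ hx => rw [map_smul, smul_comm, hx, smul_zero]
  refine ⟨N, fun s hs => ?_⟩
  rw [← Ideal.map_pow] at hs
  apply toLin_injective
  apply LinearMap.ext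
  intro s'
  rw [toLin_smul]
  change _ = (0 : E)
  induction hs using Submodule.span_induction generalizing s' with
  | mem x hx =>
    obtain ⟨a, ha, rfl⟩ := hx
    rw [mul_comm, ← Algebra.smul_def, map_smul]
    exact hkill a ha s'
  | zero => simp
  | add x y _ _ hx hy => rw [mul_add, map_add, hx, hy, add_zero]
  | smul r x _ hx => rw [smul_eq_mul, ← mul_assoc]; exact hx _

end

section
variable (A B : Type u) [CommRing A] [IsLocalRing A] [CommRing B] [IsLocalRing B] [Algebra A B]
  (E : Type u) [AddCommGroup E] [Module A E]

/-- Hom_B(k_B, Hom_A(B,E)) → Hom_A(k_B, E) -/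
noncomputable def Phi : (ResidueField B →ₗ[B] H A B E) →+ (ResidueField B →ₗ[A] E) where
  toFun ψ :=
    { toFun := fun x => toLin (ψ x) 1
      map_add' := fun x y => by rw [map_add, toLin_add, LinearMap.add_apply]
      map_smul' := fun a x => by
        rw [← algebraMap_smul B a x, map_smul, toLin_smul, one_mul, RingHom.id_apply,
          Algebra.algebraMap_eq_smul_one, map_smul] }
  map_zero' := rfl
  map_add' ψ ψ' := rfl

theorem Phi_apply (ψ : ResidueField B →ₗ[B] H A B E) (x : ResidueField B) :
    Phi A B E ψ x = toLin (ψ x) 1 := rfl

theorem Phi_injective : Function.Injective (Phi A B E) := by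
  rw [injective_iff_map_eq_zero]
  intro ψ h
  apply LinearMap.ext
  intro x
  apply toLin_injective
  apply LinearMap.ext
  intro s
  have h1 : toLin (ψ x) s = toLin (ψ (s • x)) 1 := by
    rw [map_smul, toLin_smul, one_mul]
  rw [h1, ← Phi_apply, h]
  rfl

theorem Phi_surjective : Function.Surjective (Phi A B E) := by
  intro θ
  refine ⟨{ toFun := fun x => ofLin ((θ.comp ((LinearMap.toSpanSingleton B (ResidueField B) x).restrictScalars A)))
            map_add' := ?_
            map_smul' := ?_ }, ?_⟩
  · intro x y
    apply toLin_injective
    rw [toLin_add, toLin_ofLin, toLin_ofLin, toLin_ofLin]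
    apply LinearMap.ext
    intro s
    simp [LinearMap.toSpanSingleton_apply]
  · intro t x
    apply toLin_injective
    apply LinearMap.ext
    intro s
    rw [RingHom.id_apply, toLin_smul, toLin_ofLin, toLin_ofLin]
    simp [LinearMap.toSpanSingleton_apply, mul_smul]
  · apply LinearMap.ext
    intro x
    rw [Phi_apply]
    change toLin (ofLin _) 1 = _
    rw [toLin_ofLin]
    simp [LinearMap.toSpanSingleton_apply]

end


section
variable (A B : Type u) [CommRing A] [CommRing B] [Algebra A B] (E : Type u) [AddCommGroup E] [Module A E]

theorem injective_H [Module.Injective A E] : Module.Injective B (H A B E) := by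
  have : CategoryTheory.Injective (ModuleCat.of A E) := Module.injective_object_of_injective_module A E
  have : CategoryTheory.Injective (H A B E) :=
    CategoryTheory.Injective.injective_of_adjoint
      (ModuleCat.restrictCoextendScalarsAdj (algebraMap A B)) (ModuleCat.of A E)
  exact Module.injective_module_of_injective_object B (H A B E)

end

section
variable (A B : Type u) [CommRing A] [IsLocalRing A] [IsNoetherianRing A] [CommRing B] [IsLocalRing B]
  [Algebra A B] [Module.Finite A B]
  (E : Type u) [AddCommGroup E] [Module A E]

theorem length_M (f : IsLocalRing.ResidueField A →ₗ[A] E) (hf : InjHull.IsInjectiveHull f) :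
    Module.length B (ResidueField B →ₗ[B] H A B E) = 1 := by
  haveI := isLocalHom_algebraMap A B
  letI : Module A (ResidueField B →ₗ[B] H A B E) := Module.compHom _ (algebraMap A B)
  haveI : IsScalarTower A B (ResidueField B →ₗ[B] H A B E) :=
    IsScalarTower.of_algebraMap_smul (fun r x => rfl)
  let e : (ResidueField B →ₗ[B] H A B E) ≃ₗ[A] (ResidueField B →ₗ[A] E) :=
    LinearEquiv.ofBijective
      { toFun := Phi A B E
        map_add' := (Phi A B E).map_add
        map_smul' := fun a ψ => by
          apply LinearMap.ext
          intro x
          rw [RingHom.id_apply, LinearMap.smul_apply, Phi_apply, Phi_apply]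
          change toLin ((algebraMap A B a • ψ) x) 1 = _
          rw [LinearMap.smul_apply, toLin_smul, one_mul, Algebra.algebraMap_eq_smul_one, map_smul] }
      ⟨Phi_injective A B E, Phi_surjective A B E⟩
  have h1 := IsLocalRing.length_restrictScalars A B (ResidueField B →ₗ[B] H A B E)
  have h3 : Module.length A (ResidueField B) = Module.length (ResidueField A) (ResidueField B) :=
    Module.length_eq_of_surjective (M := ResidueField B) (residue_surjective (R := A))
  have hfin : Module.length (ResidueField A) (ResidueField B) ≠ ⊤ := by
    rw [Module.length_ne_top_iff]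
    exact isFiniteLength_iff_isNoetherian_isArtinian.mpr ⟨inferInstance, inferInstance⟩
  have hne : Module.length (ResidueField A) (ResidueField B) ≠ 0 := by
    simpa [pos_iff_ne_zero] using (Module.length_pos (R := ResidueField A) (M := ResidueField B))
  have hfl : IsFiniteLength A (ResidueField B) := by
    rw [← Module.length_ne_top_iff, h3]; exact hfin
  have h2 : Module.length A (ResidueField B →ₗ[A] E) = Module.length A (ResidueField B) :=
    Groth.Agent.Lib.Helper85.Matlis.length_hom hf _ hfl
  rw [e.length_eq, h2, h3] at h1
  set d := Module.length (ResidueField A) (ResidueField B) with hd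
  set l := Module.length B (ResidueField B →ₗ[B] H A B E) with hl
  -- d = l * d
  have : (1 : ℕ∞) * d = l * d := by rw [one_mul]; exact h1
  exact ((ENat.mul_left_strictMono hne hfin).injective this).symm

end


/-- Let A and B be Noetherian local rings with B a finite A-algebra, and E an injective hull of the
residue field of A (a dualizing module for A). Then Hom_A(B, E), as a B-module through the action on
the source, is an injective hull of the residue field of B (a dualizing module for B). -/
theorem result (A B : Type u) [CommRing A] [IsLocalRing A] [IsNoetherianRing A] [CommRing B] [IsLocalRing B] [IsNoetherianRing B] [Algebra A B] [Module.Finite A B] (E : Type u) [AddCommGroup E] [Module A E] (f : IsLocalRing.ResidueField A →ₗ[A] E) (hf : InjHull.IsInjectiveHull f) : ∃ g : IsLocalRing.ResidueField B →ₗ[B] (ModuleCat.coextendScalars (algebraMap A B)).obj (ModuleCat.of A E), InjHull.IsInjectiveHull g := by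
  have hinjE := hf.isInjective
  have htorsE := Groth.Agent.Lib.Helper85.Matlis.isPowerTorsion hf.toIsEssentialInj
  apply (Groth.Agent.S5155.result B (H A B E)).mpr
  refine ⟨injective_H A B E, ?_, Module.length_eq_one_iff.mp (length_M A B E f hf)⟩
  intro φ
  obtain ⟨N, hN⟩ := exists_pow_le A B
  obtain ⟨n, hn⟩ := powerTorsion_H A B E (IsLocalRing.maximalIdeal A) htorsE φ
  refine ⟨N * n, fun s hs => hn s ?_⟩
  rw [pow_mul] at hs
  exact Ideal.pow_right_mono hN n hs

end Groth.Agent.S5156
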