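import Groth.Statements.S5158
import Mathlib.RingTheory.AdicCompletion.AsTensorProduct
import Mathlib.RingTheory.AdicCompletion.Completeness

set_option autoImplicit false
universe u
open scoped TensorProduct
open Matlis

namespace Groth.Agent.S5158

theorem result (A : Type u) [CommRing A] [IsLocalRing A] [IsNoetherianRing A] (I : Type u) [AddCommGroup I] [Module A I] (hI : LocCoh.IsPowerTorsion (IsLocalRing.maximalIdeal A) I) : Function.Bijective (TensorProduct.mk A (AdicCompletion (IsLocalRing.maximalIdeal A) A) I 1) := by
  constructor
  · rw [injective_iff_map_eq_zero]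
    intro x hx
    obtain ⟨n, hn⟩ := hI x
    let N : Submodule A I := Submodule.span A {x}
    let x' : N := ⟨x, Submodule.mem_span_singleton_self x⟩
    have hinj := Module.Flat.lTensor_preserves_injective_linearMap
      (M := AdicCompletion (IsLocalRing.maximalIdeal A) A) N.subtype (Submodule.subtype_injective N)
    have h1 : (1 : AdicCompletion (IsLocalRing.maximalIdeal A) A) ⊗ₜ[A] x' = 0 := by
      apply hinj
      rw [LinearMap.lTensor_tmul, map_zero]
      exact hx
    have h2 := congrArg (AdicCompletion.ofTensorProduct (IsLocalRing.maximalIdeal A) N) h1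
    rw [AdicCompletion.ofTensorProduct_tmul, one_smul, map_zero] at h2
    have h3 := congrArg (AdicCompletion.eval (IsLocalRing.maximalIdeal A) N n) h2
    rw [AdicCompletion.eval_of, map_zero, Submodule.mkQ_apply, Submodule.Quotient.mk_eq_zero] at h3
    have h4 : (IsLocalRing.maximalIdeal A ^ n • ⊤ : Submodule A N) = ⊥ := by
      rw [eq_bot_iff, Submodule.smul_le]
      intro r hr y _
      obtain ⟨y, hy⟩ := y
      obtain ⟨b, rfl⟩ := Submodule.mem_span_singleton.mp hy
      rw [Submodule.mem_bot]
      apply Subtype.ext
      change r • b • x = 0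
      rw [smul_comm, hn r hr, smul_zero]
    rw [h4, Submodule.mem_bot] at h3
    exact congrArg Subtype.val h3
  · intro t
    induction t using TensorProduct.induction_on with
    | zero => exact ⟨0, map_zero _⟩
    | add t₁ t₂ h₁ h₂ =>
      obtain ⟨y₁, rfl⟩ := h₁
      obtain ⟨y₂, rfl⟩ := h₂
      exact ⟨y₁ + y₂, map_add _ _ _⟩
    | tmul b x =>
      obtain ⟨n, hn⟩ := hI x
      obtain ⟨a, ha⟩ := Submodule.mkQ_surjective _
        (AdicCompletion.eval (IsLocalRing.maximalIdeal A) A n b)
      have hker : b - a • (1 : AdicCompletion (IsLocalRing.maximalIdeal A) A) ∈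
          (IsLocalRing.maximalIdeal A ^ n • ⊤ :
            Submodule A (AdicCompletion (IsLocalRing.maximalIdeal A) A)) := by
        rw [AdicCompletion.pow_smul_top_eq_ker_eval
          (IsNoetherian.noetherian (IsLocalRing.maximalIdeal A)), LinearMap.mem_ker, map_sub,
          ← ha, sub_eq_zero, map_smul]
        rw [AdicCompletion.eval_apply, AdicCompletion.val_one]
        change Submodule.Quotient.mk a = a • Submodule.Quotient.mk (1 : A)
        rw [← Submodule.Quotient.mk_smul]
        congr 1
        exact (mul_one a).symm
      have hzero : ∀ c ∈ (IsLocalRing.maximalIdeal A ^ n • ⊤ :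
            Submodule A (AdicCompletion (IsLocalRing.maximalIdeal A) A)), c ⊗ₜ[A] x = 0 := by
        intro c hc
        refine Submodule.smul_induction_on hc ?_ ?_
        · intro r hr c' _
          rw [TensorProduct.smul_tmul, hn r hr, TensorProduct.tmul_zero]
        · intro c₁ c₂ h₁ h₂
          rw [TensorProduct.add_tmul, h₁, h₂, add_zero]
      refine ⟨a • x, ?_⟩
      have := hzero _ hker
      rw [TensorProduct.sub_tmul, sub_eq_zero] at this
      rw [this, TensorProduct.smul_tmul]
      rfl

end Groth.Agent.S5158
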