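import Groth.Statements.S5159
import Groth.Agent.Lib.Helper92.LocCohRep
import Groth.Agent.S5160
import Groth.Agent.Lib.Helper85.DepthLC
import Groth.Agent.Lib.Helper85.Matlis
import Groth.Agent.Lib.Helper77.RegularCM
import Groth.Agent.Lib.Helper76.RegularLocalGlDim

set_option autoImplicit false
universe u
open CategoryTheory Opposite
open Dual

namespace Groth.Agent.S5159

/-- a module of finite length over a local ring is killed by a power of the maximal ideal. -/
theorem exists_pow_smul_eq_zero_of_isFiniteLength {R : Type u} [CommRing R]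
    [IsLocalRing R] (N : Type u) [AddCommGroup N] [Module R N] (h : IsFiniteLength R N) :
    ∃ n : ℕ, ∀ r ∈ (IsLocalRing.maximalIdeal R) ^ n, ∀ x : N, r • x = 0 := by
  rw [isFiniteLength_iff_isNoetherian_isArtinian] at h
  obtain ⟨hN, hA⟩ := h
  let f : ℕ →o (Submodule R N)ᵒᵈ :=
    ⟨fun k => OrderDual.toDual ((IsLocalRing.maximalIdeal R) ^ k • (⊤ : Submodule R N)),
      fun a b hab => Submodule.smul_mono_left (Ideal.pow_le_pow_right hab)⟩
  obtain ⟨n, hn⟩ := IsArtinian.monotone_stabilizes f
  have h1 : (IsLocalRing.maximalIdeal R) ^ n • (⊤ : Submodule R N) =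
      (IsLocalRing.maximalIdeal R) ^ (n + 1) • (⊤ : Submodule R N) := hn (n + 1) (Nat.le_succ n)
  have h2 : (IsLocalRing.maximalIdeal R) ^ n • (⊤ : Submodule R N) = ⊥ := by
    apply Submodule.eq_bot_of_le_smul_of_le_jacobson_bot (IsLocalRing.maximalIdeal R) _
      (IsNoetherian.noetherian _)
    · conv_lhs => rw [h1]
      rw [pow_succ', mul_smul]
    · exact IsLocalRing.maximalIdeal_le_jacobson _
  refine ⟨n, fun r hr x => ?_⟩
  have : r • x ∈ (IsLocalRing.maximalIdeal R) ^ n • (⊤ : Submodule R N) :=
    Submodule.smul_mem_smul hr trivial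
  rw [h2] at this
  exact this

open Groth.Agent.Lib.Helper92.LC Groth.Agent.Lib.Helper92.OldExt IsLocalRing in
/-- Let A be a regular local ring of dimension n and M an A-module of finite length. Then Ext^i_A(M, A)
= 0 for i ≠ n and length Ext^n_A(M, A) = length M (the functor Ext^n_A(−, A) is dualizing). -/
theorem result (A : Type u) [CommRing A] [IsRegularLocalRing A] (n : ℕ) (hn : ringKrullDim A = n) (M : Type u) [AddCommGroup M] [Module A M] (hM : IsFiniteLength A M) : (∀ i : ℕ, i ≠ n → Subsingleton (((Ext A (ModuleCat.{u} A) i).obj (op (ModuleCat.of A M))).obj (ModuleCat.of A A))) ∧ Module.length A (((Ext A (ModuleCat.{u} A) n).obj (op (ModuleCat.of A M))).obj (ModuleCat.of A A)) = Module.length A M := by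
  haveI : IsNoetherianRing A := inferInstance
  obtain ⟨hN, hAr⟩ := isFiniteLength_iff_isNoetherian_isArtinian.1 hM
  haveI : Module.Finite A M := inferInstance
  -- support
  have hsupp : Module.support A M ⊆ PrimeSpectrum.zeroLocus ((maximalIdeal A : Ideal A) : Set A) := by
    obtain ⟨k, hk⟩ := exists_pow_smul_eq_zero_of_isFiniteLength M hM
    rw [Module.support_eq_zeroLocus]
    intro p hp
    rw [PrimeSpectrum.mem_zeroLocus] at hp ⊢
    apply Ideal.IsPrime.le_of_pow_le (n := k)
    refine le_trans ?_ hp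
    intro r hr
    rw [Module.mem_annihilator]
    exact hk r hr
  -- `H^i_m(A) = 0` for `i < n`
  have hdepth := Groth.Agent.Lib.Helper77.RegularCM.depth_eq_dim A
  have hdep : (n : ℕ∞) ≤ LocCoh.depth A A := by
    rw [hn] at hdepth
    have h1 : ((LocCoh.depth A A : ℕ∞) : WithBot ℕ∞) = ((n : ℕ∞) : WithBot ℕ∞) := hdepth
    exact (WithBot.coe_injective h1).ge
  have hH : ∀ i < n, Subsingleton (LocCoh.H (maximalIdeal A) i A) :=
    (Groth.Agent.Lib.Helper85.FLCrit.le_depth_iff A A n).1 hdep
  have hlow := ext_vanishing_of_H_vanishing (maximalIdeal A) n (ModuleCat.of A A) hH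
  obtain ⟨f, hf⟩ := Groth.Agent.S5160.result A n hn
  have hrep : Rep (maximalIdeal A) n (ModuleCat.of A A) :=
    rep_main (maximalIdeal A) n _ (fun i hi F _ _ _ hF => hlow F hF i (by omega))
  obtain ⟨e⟩ := hrep M hsupp
  constructor
  · intro i hi
    rcases lt_or_gt_of_ne hi with h | h
    · have := hlow M hsupp i h
      exact (Φ (R := A) (ModuleCat.of A M) (ModuleCat.of A A) i).injective.subsingleton
    · haveI := Groth.Agent.Lib.Helper76.hasProjectiveDimensionLT_of_isRegularLocalRing A n hn M
      refine ⟨fun x y => (Φ (R := A) (ModuleCat.of A M) (ModuleCat.of A A) i).injective ?_⟩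
      rw [Abelian.Ext.eq_zero_of_hasProjectiveDimensionLT
          (Φ (R := A) (ModuleCat.of A M) (ModuleCat.of A A) i x) (n + 1) (by omega),
        Abelian.Ext.eq_zero_of_hasProjectiveDimensionLT
          (Φ (R := A) (ModuleCat.of A M) (ModuleCat.of A A) i y) (n + 1) (by omega)]
  · rw [((Φ (R := A) (ModuleCat.of A M) (ModuleCat.of A A) n).trans e).length_eq]
    exact Groth.Agent.Lib.Helper85.Matlis.length_hom hf M hM

end Groth.Agent.S5159
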