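import Groth.Statements.S5162
import Groth.Agent.Lib.Helper92.LocCohExtCrit

set_option autoImplicit false
universe u
open CategoryTheory
open LocCoh

namespace Groth.Agent.S5162

open Groth.Agent.Lib.Helper92.LC in
/-- The affine case. Let A be a Noetherian ring, J an ideal, G any A-module and n ≥ 0. Then: H^i_J(G) =
0 for all i < n iff Ext^i_A(F, G) = 0 for all i < n and all finite A-modules F with Supp F ⊆ V(J),
iff Ext^i_A(F, G) = 0 for all i < n for one finite F with Supp F = V(J). (G is not assumed finitely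
generated.) -/
theorem result (A : Type u) [CommRing A] [IsNoetherianRing A] (J : Ideal A) (G : Type u) [AddCommGroup G] [Module A G] (n : ℕ) : ((∀ i : ℕ, i < n → Subsingleton (LocCoh.H J i G)) ↔ ∀ (F : Type u) [AddCommGroup F] [Module A F], Module.Finite A F → Module.support A F ⊆ PrimeSpectrum.zeroLocus (J : Set A) → ∀ i : ℕ, i < n → Subsingleton (Abelian.Ext (ModuleCat.of A F) (ModuleCat.of A G) i)) ∧ ((∀ i : ℕ, i < n → Subsingleton (LocCoh.H J i G)) ↔ ∃ (F : Type u) (_ : AddCommGroup F) (_ : Module A F), Module.Finite A F ∧ Module.support A F = PrimeSpectrum.zeroLocus (J : Set A) ∧ ∀ i : ℕ, i < n → Subsingleton (Abelian.Ext (ModuleCat.of A F) (ModuleCat.of A G) i)) := by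
  -- (b) ⇒ (a)
  have hba : (∀ (F : Type u) [AddCommGroup F] [Module A F], Module.Finite A F →
      Module.support A F ⊆ PrimeSpectrum.zeroLocus (J : Set A) → ∀ i : ℕ, i < n →
      Subsingleton (Abelian.Ext (ModuleCat.of A F) (ModuleCat.of A G) i)) →
      ∀ i : ℕ, i < n → Subsingleton (LocCoh.H J i G) := by
    intro h i hi
    refine ⟨fun y y' => ?_⟩
    suffices h0 : ∀ y : (localCohomology J i).obj (ModuleCat.of A G), y = 0 from
      (h0 y).trans (h0 y').symm
    intro y
    obtain ⟨t, x, rfl⟩ := exists_rep J i y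
    have hsupp : Module.support A (A ⧸ J ^ t) ⊆ PrimeSpectrum.zeroLocus (J : Set A) := by
      rw [Module.support_eq_zeroLocus, Ideal.annihilator_quotient]
      intro p hp
      rw [PrimeSpectrum.mem_zeroLocus] at hp ⊢
      exact Ideal.IsPrime.le_of_pow_le (n := t) hp
    have := h (A ⧸ J ^ t) inferInstance hsupp i hi
    rw [Subsingleton.elim x 0, mk_zero]
  refine ⟨⟨?_, hba⟩, ⟨?_, ?_⟩⟩
  · intro h F _ _ hFfin hF i hi
    exact ext_vanishing_of_H_vanishing J n (ModuleCat.of A G) h F hF i hi
  · intro h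
    refine ⟨A ⧸ J, inferInstance, inferInstance, inferInstance, ?_, ?_⟩
    · rw [Module.support_eq_zeroLocus, Ideal.annihilator_quotient]
    · intro i hi
      have hsupp : Module.support A (A ⧸ J) ⊆ PrimeSpectrum.zeroLocus (J : Set A) := by
        rw [Module.support_eq_zeroLocus, Ideal.annihilator_quotient]
      exact ext_vanishing_of_H_vanishing J n (ModuleCat.of A G) h (A ⧸ J) hsupp i hi
  · rintro ⟨F₀, _, _, hfin, hsupp, hext⟩
    apply hba
    intro F _ _ hFfin hF i hi
    exact ext_vanishing_of_one J F₀ hsupp n (ModuleCat.of A G) hext F hF i hi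

end Groth.Agent.S5162
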