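import Groth.Statements.S5163
import Mathlib.Tactic
import Mathlib.RingTheory.Ideal.AssociatedPrime.Basic
import Mathlib.RingTheory.LocalRing.Module
import Mathlib.Algebra.Module.FinitePresentation
import Mathlib.LinearAlgebra.Dual.Lemmas

set_option autoImplicit false
universe u
open LocCoh
open scoped TensorProduct

namespace Groth.Agent.S5163

/-- For modules over a Noetherian ring. Let P be a finite A-module and H any A-module with Supp H ⊆ Supp
P. If Hom_A(P, H) = 0 then H = 0. (The published lemma is stated over an arbitrary prescheme; its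
proof uses that a nonzero module has an associated prime, so the ring is taken Noetherian here.) -/
theorem result (A : Type u) [CommRing A] [IsNoetherianRing A] (P H : Type u) [AddCommGroup P] [Module A P] [Module.Finite A P] [AddCommGroup H] [Module A H] (hsupp : Module.support A H ⊆ Module.support A P) (hhom : Subsingleton (P →ₗ[A] H)) : Subsingleton H := by
  classical
  by_contra hne
  rw [not_subsingleton_iff_nontrivial] at hne
  obtain ⟨p, hp⟩ := associatedPrimes.nonempty A H
  obtain ⟨hpp, x, hx⟩ := (isAssociatedPrime_iff.1 hp)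
  have hann : ∀ a : A, a • x = 0 ↔ a ∈ p := by
    intro a
    rw [hx, Submodule.mem_colon_singleton, Submodule.mem_bot]
  let pp : PrimeSpectrum A := ⟨p, hpp⟩
  have hpH : pp ∈ Module.support A H := by
    rw [Module.mem_support_iff']
    exact ⟨x, fun r hr h0 => hr ((hann r).1 h0)⟩
  have hpP : pp ∈ Module.support A P := hsupp hpH
  rw [Module.mem_support_iff_nontrivial_residueField_tensorProduct] at hpP
  let κ := p.ResidueField
  let L := Localization.AtPrime p
  let Hp := LocalizedModule p.primeCompl H
  let x1 : Hp := LocalizedModule.mk x 1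
  have hx1 : x1 ≠ 0 := by
    intro h0
    rw [← LocalizedModule.zero_mk (1 : p.primeCompl), LocalizedModule.mk_eq] at h0
    obtain ⟨u, hu⟩ := h0
    simp only [smul_zero, one_smul, Submonoid.smul_def] at hu
    exact u.2 ((hann u).1 hu)
  let T : L →ₗ[L] Hp := LinearMap.toSpanSingleton L Hp x1
  have hT : IsLocalRing.maximalIdeal L ≤ LinearMap.ker T := by
    intro r hr
    obtain ⟨a, s, rfl⟩ := IsLocalization.exists_mk'_eq p.primeCompl r
    rw [IsLocalization.AtPrime.mk'_mem_maximal_iff L p] at hr
    rw [LinearMap.mem_ker]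
    change IsLocalization.mk' L a s • x1 = 0
    rw [← Localization.mk_eq_mk', LocalizedModule.mk_smul_mk, (hann a).2 hr,
      LocalizedModule.zero_mk]
  let ψ' : κ →ₗ[L] Hp := Submodule.liftQ (IsLocalRing.maximalIdeal L) T hT
  let ψ : κ →ₗ[A] Hp := ψ'.restrictScalars A
  have hψ : ∀ c : κ, c ≠ 0 → ψ c ≠ 0 := by
    intro c hc h0
    obtain ⟨r, rfl⟩ := Ideal.Quotient.mk_surjective c
    have hr : IsUnit r := by
      by_contra hnu
      apply hc
      exact Ideal.Quotient.eq_zero_iff_mem.2 ((IsLocalRing.mem_maximalIdeal r).2 hnu)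
    have h1 : r • x1 = 0 := h0
    exact hx1 ((hr.smul_eq_zero).1 h1)
  obtain ⟨v, hv⟩ := exists_ne (0 : κ ⊗[A] P)
  obtain ⟨lam, hlam⟩ : ∃ lam : Module.Dual κ (κ ⊗[A] P), lam v ≠ 0 := by
    by_contra hcon
    push Not at hcon
    exact hv ((Module.forall_dual_apply_eq_zero_iff κ v).1 hcon)
  have hy : ∃ y : P, lam (1 ⊗ₜ[A] y) ≠ 0 := by
    by_contra hcon
    push Not at hcon
    have hall : ∀ w : κ ⊗[A] P, lam w = 0 := by
      intro w
      induction w using TensorProduct.induction_on with
      | zero => simp
      | tmul c y =>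
        have : c ⊗ₜ[A] y = c • ((1 : κ) ⊗ₜ[A] y) := by
          rw [TensorProduct.smul_tmul', smul_eq_mul, mul_one]
        rw [this, map_smul, hcon y, smul_zero]
      | add a b ha hb => rw [map_add, ha, hb, add_zero]
    exact hlam (hall v)
  obtain ⟨y, hy⟩ := hy
  let h : P →ₗ[A] Hp :=
    ψ.comp ((lam.restrictScalars A).comp (TensorProduct.mk A κ P 1))
  have hhy : h y ≠ 0 := hψ _ hy
  haveI : Module.FinitePresentation A P := Module.finitePresentation_of_finite A P
  obtain ⟨h', s, hs⟩ := Module.FinitePresentation.exists_lift_of_isLocalizedModule p.primeCompl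
    (LocalizedModule.mkLinearMap p.primeCompl H) h
  have h'0 : h' = 0 := Subsingleton.elim _ _
  rw [h'0, LinearMap.comp_zero] at hs
  have h1 : s • h y = 0 := by
    have := LinearMap.congr_fun hs y
    simpa using this.symm
  have hsu : IsUnit (algebraMap A L (s : A)) := IsLocalization.map_units L s
  have h2 : (algebraMap A L (s : A)) • h y = 0 := by
    rw [algebraMap_smul]
    exact h1
  exact hhy ((hsu.smul_eq_zero).1 h2)

end Groth.Agent.S5163
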