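import Groth.Statements.S5165
import Mathlib.Tactic
import Mathlib.RingTheory.LocalProperties.ProjectiveDimension
import Mathlib.RingTheory.Spectrum.Prime.FreeLocus
import Mathlib.RingTheory.Ideal.KrullsHeightTheorem
import Groth.Agent.S0563

set_option autoImplicit false
universe u
open CategoryTheory
open LocCoh

namespace Groth.Agent.S5165

lemma isOpen_pdLocus {A : Type u} [CommRing A] [IsNoetherianRing A] (n : ℕ)
    (M : ModuleCat.{u} A) [Module.Finite A M] :
    IsOpen {p : PrimeSpectrum A |
      HasProjectiveDimensionLE (M.localizedModule p.asIdeal.primeCompl) n} := by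
  induction n generalizing M with
  | zero =>
    have : {p : PrimeSpectrum A |
        HasProjectiveDimensionLE (M.localizedModule p.asIdeal.primeCompl) 0} =
        Module.freeLocus A M := by
      ext p
      simp only [Set.mem_setOf_eq, HasProjectiveDimensionLE, zero_add,
        ← projective_iff_hasProjectiveDimensionLT_one, ← IsProjective.iff_projective]
      rw [Module.mem_freeLocus_of_isLocalization p (Localization.AtPrime p.asIdeal)
        (M.localizedModule p.asIdeal.primeCompl) (M.localizedModuleMkLinearMap _)]
      haveI : Module.Finite (Localization.AtPrime p.asIdeal)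
          (M.localizedModule p.asIdeal.primeCompl) :=
        Module.Finite.of_isLocalizedModule p.asIdeal.primeCompl
          (M.localizedModuleMkLinearMap p.asIdeal.primeCompl)
      exact ⟨fun h => Module.free_of_flat_of_isLocalRing, fun h => inferInstance⟩
    rw [this]
    haveI : Module.FinitePresentation A M := Module.finitePresentation_of_finite A M
    exact Module.isOpen_freeLocus
  | succ n ih =>
    rcases Module.exists_finite_presentation A M with ⟨P, _, _, _, _, f, surjf⟩
    let S := f.shortComplexKer
    have S_exact := LinearMap.shortExact_shortComplexKer surjf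
    have proj := ModuleCat.projective_of_categoryTheory_projective S.X₂
    let Sp (p : PrimeSpectrum A) := S.map (ModuleCat.localizedModuleFunctor p.1.primeCompl)
    have Sp_exact (p : PrimeSpectrum A) : (Sp p).ShortExact :=
      S_exact.map_of_exact (ModuleCat.localizedModuleFunctor p.asIdeal.primeCompl)
    have projp (p : PrimeSpectrum A) : Projective (Sp p).X₂ :=
      (ModuleCat.localizedModuleFunctor.{u} p.1.primeCompl).projective_obj_of_projective proj
    have key : ∀ p : PrimeSpectrum A,
        HasProjectiveDimensionLE (M.localizedModule p.asIdeal.primeCompl) (n + 1) ↔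
        HasProjectiveDimensionLE
          ((ModuleCat.of A (LinearMap.ker f)).localizedModule p.asIdeal.primeCompl) n := by
      intro p
      simp only [HasProjectiveDimensionLE]
      exact ((Sp_exact p).hasProjectiveDimensionLT_X₃_iff n (projp p))
    simp_rw [key]
    exact ih _

/-- Suppose A is a regular Noetherian ring and consider a finitely generated A-module M. Then some
natural number d bounds the projective dimension of M (equivalently, p ↦ proj.dim M_p stays bounded
as p ranges over Spec A, and this holds even if the Krull dimension of A is infinite). -/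
theorem result (A : Type u) [CommRing A] [IsRegularRing A] (M : Type u) [AddCommGroup M] [Module A M] [Module.Finite A M] : ∃ d : ℕ, HasProjectiveDimensionLE (ModuleCat.of A M) d := by
  let MM : ModuleCat.{u} A := ModuleCat.of A M
  haveI : Module.Finite A MM := inferInstanceAs (Module.Finite A M)
  have hcover : ∀ p : PrimeSpectrum A, ∃ n : ℕ,
      HasProjectiveDimensionLE (MM.localizedModule p.asIdeal.primeCompl) n := by
    intro p
    haveI : IsRegularLocalRing (Localization.AtPrime p.asIdeal) := inferInstance
    obtain ⟨d, hd⟩ : ∃ d : ℕ, ringKrullDim (Localization.AtPrime p.asIdeal) = d := by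
      have h1 : ringKrullDim (Localization.AtPrime p.asIdeal) ≠ ⊤ := ringKrullDim_ne_top
      have h2 : ringKrullDim (Localization.AtPrime p.asIdeal) ≠ ⊥ := ringKrullDim_ne_bot
      obtain ⟨x, hx⟩ := WithBot.ne_bot_iff_exists.1 h2
      have h3 : x ≠ ⊤ := by
        rintro rfl
        exact h1 hx.symm
      obtain ⟨d, rfl⟩ := ENat.ne_top_iff_exists.1 h3
      exact ⟨d, hx.symm⟩
    refine ⟨d, ?_⟩
    exact Groth.Agent.S0563.result (Localization.AtPrime p.asIdeal) d hd
      (MM.localizedModule p.asIdeal.primeCompl)
  let U : ℕ → Set (PrimeSpectrum A) := fun n =>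
    {p | HasProjectiveDimensionLE (MM.localizedModule p.asIdeal.primeCompl) n}
  have hU : ∀ n, IsOpen (U n) := fun n => isOpen_pdLocus n MM
  have hcov : (Set.univ : Set (PrimeSpectrum A)) ⊆ ⋃ n, U n := by
    intro p _
    obtain ⟨n, hn⟩ := hcover p
    exact Set.mem_iUnion.2 ⟨n, hn⟩
  obtain ⟨t, ht⟩ := isCompact_univ.elim_finite_subcover U hU hcov
  refine ⟨t.sup id, ?_⟩
  rw [ModuleCat.hasProjectiveDimensionLE_iff_forall_primeSpectrum]
  intro p
  obtain ⟨n, hn, hp⟩ : ∃ n ∈ t, p ∈ U n := by simpa using ht (Set.mem_univ p)
  have hle : n ≤ t.sup id := Finset.le_sup (f := id) hn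
  have hp' : HasProjectiveDimensionLE (MM.localizedModule p.asIdeal.primeCompl) n := hp
  exact hasProjectiveDimensionLT_of_ge _ (n + 1) (t.sup id + 1) (by omega)

end Groth.Agent.S5165
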