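import Groth.Statements.S5166
import Mathlib.Tactic
import Mathlib.RingTheory.Ideal.KrullsHeightTheorem
import Mathlib.RingTheory.Ideal.MinimalPrime.Noetherian

set_option autoImplicit false
universe u
open LocCoh

namespace Groth.Agent.S5166

lemma dim_le_one {D : Type u} [CommRing D] [IsDomain D] [IsLocalRing D] [IsNoetherianRing D]
    (x : D) (hx0 : x ≠ 0) (hxm : x ∈ IsLocalRing.maximalIdeal D)
    (hall : ∀ Q : Ideal D, Q.IsPrime → Q ≠ ⊥ → x ∈ Q) :
    (IsLocalRing.maximalIdeal D).height ≤ 1 := by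
  by_contra hcon
  rw [not_le] at hcon
  have hfin := Ideal.finite_minimalPrimes_of_isNoetherianRing D (Ideal.span {x})
  have hxtop : Ideal.span {x} ≠ ⊤ := by
    intro h
    rw [Ideal.span_singleton_eq_top] at h
    exact (IsLocalRing.mem_maximalIdeal x).1 hxm h
  have hnot : ¬ ((IsLocalRing.maximalIdeal D : Set D) ⊆
      ⋃ P ∈ (Ideal.span {x}).minimalPrimes, (P : Set D)) := by
    intro hsub
    obtain ⟨P, hP, hle⟩ := (Ideal.subset_union_prime_finite hfin (f := id) ⊥ ⊥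
      (fun P hP _ _ => hP.1.1)).1 hsub
    haveI := hP.1.1
    have hPm : P = IsLocalRing.maximalIdeal D :=
      le_antisymm (IsLocalRing.le_maximalIdeal hP.1.1.ne_top) hle
    have := Ideal.height_le_one_of_isPrincipal_of_mem_minimalPrimes (Ideal.span {x}) P hP
    rw [hPm] at this
    exact absurd this (not_le.2 hcon)
  rw [Set.not_subset] at hnot
  obtain ⟨y, hym, hyP⟩ := hnot
  simp only [Set.mem_iUnion, SetLike.mem_coe, not_exists] at hyP
  obtain ⟨⟨P0, hP0⟩⟩ := Ideal.nonempty_minimalPrimes hxtop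
  have hy0 : y ≠ 0 := by
    rintro rfl
    exact hyP P0 hP0 P0.zero_mem
  have hytop : Ideal.span {y} ≠ ⊤ := by
    intro h
    rw [Ideal.span_singleton_eq_top] at h
    exact (IsLocalRing.mem_maximalIdeal y).1 hym h
  obtain ⟨⟨Q, hQ⟩⟩ := Ideal.nonempty_minimalPrimes hytop
  haveI hQp : Q.IsPrime := hQ.1.1
  have hyQ : y ∈ Q := hQ.1.2 (Ideal.mem_span_singleton_self y)
  have hQbot : Q ≠ ⊥ := by
    rintro rfl
    exact hy0 ((Ideal.mem_bot).1 hyQ)
  have hxQ : x ∈ Q := hall Q hQp hQbot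
  obtain ⟨P, hP, hPQ⟩ := Ideal.exists_minimalPrimes_le
    (show Ideal.span {x} ≤ Q from (Ideal.span_singleton_le_iff_mem Q).2 hxQ)
  haveI hPp : P.IsPrime := hP.1.1
  have hPbot : P ≠ ⊥ := by
    rintro rfl
    exact hx0 ((Ideal.mem_bot).1 (hP.1.2 (Ideal.mem_span_singleton_self x)))
  have hQh := Ideal.height_le_one_of_isPrincipal_of_mem_minimalPrimes (Ideal.span {y}) Q hQ
  rcases eq_or_lt_of_le hPQ with heq | hlt
  · exact hyP P hP (heq ▸ hyQ)
  · have h1 := Ideal.height_add_one_le_of_lt_of_isPrime hlt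
    have h2 : P.height ≠ 0 := fun h => hPbot (Ideal.height_eq_zero_iff_eq_bot.1 h)
    have h3 : (1 : ℕ∞) ≤ P.height := Order.one_le_iff_ne_zero.2 h2
    have h4 : (2 : ℕ∞) ≤ Q.height := by
      calc (2 : ℕ∞) = 1 + 1 := by norm_num
        _ ≤ P.height + 1 := by gcongr
        _ ≤ Q.height := h1
    have h5 : (2 : ℕ∞) ≤ 1 := h4.trans hQh
    exact absurd h5 (by norm_num)

/-- In its local form at a point y ∈ Y (A = O_{X,y}). Let A be a Noetherian local ring and I ≠ A an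
ideal contained in no minimal prime of A. Then some prime p ⊉ I has dim A/p = 1. -/
theorem result (A : Type u) [CommRing A] [IsLocalRing A] [IsNoetherianRing A] (I : Ideal A) (hI : I ≠ ⊤) (hdense : ∀ q ∈ minimalPrimes A, ¬ I ≤ q) : ∃ p : PrimeSpectrum A, ¬ I ≤ p.asIdeal ∧ ringKrullDim (A ⧸ p.asIdeal) = 1 := by
  classical
  let 𝒮 : Set (Ideal A) := {p | p.IsPrime ∧ ¬ I ≤ p}
  have hne : 𝒮.Nonempty := by
    obtain ⟨⟨q, hq⟩⟩ := Ideal.nonempty_minimalPrimes (bot_ne_top : (⊥ : Ideal A) ≠ ⊤)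
    exact ⟨q, hq.1.1, hdense q hq⟩
  obtain ⟨p, ⟨hpp, hIp⟩, hmax⟩ := (wellFounded_gt (α := Ideal A)).has_min 𝒮 hne
  haveI := hpp
  have hIm : I ≤ IsLocalRing.maximalIdeal A := IsLocalRing.le_maximalIdeal hI
  obtain ⟨x, hxI, hxp⟩ := SetLike.not_le_iff_exists.1 hIp
  refine ⟨⟨p, hpp⟩, hIp, ?_⟩
  change ringKrullDim (A ⧸ p) = 1
  haveI : IsLocalRing (A ⧸ p) :=
    IsLocalRing.of_surjective' (Ideal.Quotient.mk p) Ideal.Quotient.mk_surjective
  have hx0 : Ideal.Quotient.mk p x ≠ 0 := fun h => hxp (Ideal.Quotient.eq_zero_iff_mem.1 h)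
  have hxm : Ideal.Quotient.mk p x ∈ IsLocalRing.maximalIdeal (A ⧸ p) := by
    have hproper : (IsLocalRing.maximalIdeal A).map (Ideal.Quotient.mk p) ≠ ⊤ := by
      intro h
      have h2 := congrArg (Ideal.comap (Ideal.Quotient.mk p)) h
      rw [Ideal.comap_map_of_surjective _ Ideal.Quotient.mk_surjective, Ideal.comap_top,
        ← RingHom.ker_eq_comap_bot, Ideal.mk_ker,
        sup_eq_left.2 (IsLocalRing.le_maximalIdeal hpp.ne_top)] at h2
      exact (IsLocalRing.maximalIdeal.isMaximal A).ne_top h2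
    exact IsLocalRing.le_maximalIdeal hproper (Ideal.mem_map_of_mem _ (hIm hxI))
  have hall : ∀ Q : Ideal (A ⧸ p), Q.IsPrime → Q ≠ ⊥ → Ideal.Quotient.mk p x ∈ Q := by
    intro Q hQ hQbot
    have hq : (Q.comap (Ideal.Quotient.mk p)).IsPrime := Ideal.IsPrime.comap _
    have hpq : p ≤ Q.comap (Ideal.Quotient.mk p) := by
      intro a ha
      rw [Ideal.mem_comap, Ideal.Quotient.eq_zero_iff_mem.2 ha]
      exact Q.zero_mem
    have hne' : Q.comap (Ideal.Quotient.mk p) ≠ p := by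
      intro h
      apply hQbot
      rw [← Ideal.map_comap_of_surjective _ Ideal.Quotient.mk_surjective Q, h,
        Ideal.map_quotient_self]
    have hlt : p < Q.comap (Ideal.Quotient.mk p) := lt_of_le_of_ne hpq (Ne.symm hne')
    by_contra hxQ
    have hIq : ¬ I ≤ Q.comap (Ideal.Quotient.mk p) := fun h => hxQ (h hxI)
    exact hmax _ ⟨hq, hIq⟩ hlt
  have key := dim_le_one (D := A ⧸ p) (Ideal.Quotient.mk p x) hx0 hxm hall
  have hge : (1 : ℕ∞) ≤ (IsLocalRing.maximalIdeal (A ⧸ p)).height := by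
    rw [Order.one_le_iff_ne_zero]
    intro h
    rw [Ideal.height_eq_zero_iff_eq_bot] at h
    rw [h, Ideal.mem_bot] at hxm
    exact hx0 hxm
  rw [← IsLocalRing.maximalIdeal_height_eq_ringKrullDim, le_antisymm key hge]
  rfl

end Groth.Agent.S5166
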