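import Groth.Statements.S5168
import Mathlib.Tactic
import Mathlib.Algebra.Module.Injective
import Mathlib.RingTheory.Filtration

set_option autoImplicit false
universe u
open InjHull

namespace Groth.Agent.S5168

/-- Let A be a Noetherian ring, J an ideal and H a J-power torsion A-module. Then H is injective if and
only if Hom_A(−, H) is exact on finite A-modules killed by a power of J, i.e. every linear map to H
from a submodule of such a module M extends to M. -/
theorem result (A : Type u) [CommRing A] [IsNoetherianRing A] (J : Ideal A) (H : Type u) [AddCommGroup H] [Module A H] (hH : LocCoh.IsPowerTorsion J H) : Module.Injective A H ↔ ∀ (M : Type u) [AddCommGroup M] [Module A M], Module.Finite A M → (∃ k : ℕ, (J ^ k) • (⊤ : Submodule A M) = ⊥) → ∀ (N : Submodule A M) (g : N →ₗ[A] H), ∃ g' : M →ₗ[A] H, g'.comp N.subtype = g := by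
  constructor
  · intro hinj M _ _ _ _ N g
    obtain ⟨h, hh⟩ := hinj.out N.subtype N.injective_subtype g
    exact ⟨h, LinearMap.ext hh⟩
  · intro hext
    apply Module.Baer.injective
    intro I g
    obtain ⟨n, s, hs⟩ := Module.Finite.exists_fin (R := A) (M := I)
    choose kk hkk using fun i => hH (g (s i))
    set k := Finset.univ.sup kk with hk
    have hkill : ∀ a ∈ J ^ k, ∀ x : I, a • g x = 0 := by
      intro a ha x
      have : a • g = 0 := by
        apply LinearMap.ext_on hs
        rintro _ ⟨i, rfl⟩
        simp only [LinearMap.smul_apply, LinearMap.zero_apply]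
        exact hkk i a (Ideal.pow_le_pow_right (Finset.le_sup (Finset.mem_univ i)) ha)
      simpa using LinearMap.congr_fun this x
    obtain ⟨c, hc⟩ := Ideal.exists_pow_inf_eq_pow_smul J (I : Submodule A A)
    set m := c + k with hm
    set P : Submodule A A := (LinearMap.ker g).map (Submodule.subtype I) with hP
    have hJI : J ^ k • (I : Submodule A A) ≤ P := by
      rw [Submodule.smul_le]
      intro a ha y hy
      refine ⟨a • ⟨y, hy⟩, ?_, rfl⟩
      change a • (⟨y, hy⟩ : I) ∈ LinearMap.ker g
      rw [LinearMap.mem_ker, map_smul]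
      exact hkill a ha ⟨y, hy⟩
    have hzero : ∀ (x : A) (hx : x ∈ I), x ∈ J ^ m → g ⟨x, hx⟩ = 0 := by
      intro x hx hxm
      have h1 : x ∈ (J ^ m • (⊤ : Submodule A A) ⊓ (I : Submodule A A)) := by
        refine ⟨?_, hx⟩
        rw [smul_eq_mul, Ideal.mul_top]
        exact hxm
      rw [hc m (by omega)] at h1
      have h2 : x ∈ J ^ k • (I : Submodule A A) := by
        have : m - c = k := by omega
        rw [this] at h1
        exact Submodule.smul_mono le_rfl inf_le_right h1
      obtain ⟨y, hy, hyx⟩ := hJI h2
      have : y = ⟨x, hx⟩ := Subtype.ext hyx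
      rw [← this]
      exact hy
    let φ : I →ₗ[A] (Submodule.map (J ^ m).mkQ (I : Submodule A A)) :=
      LinearMap.submoduleMap (J ^ m).mkQ (I : Submodule A A)
    have hφ : Function.Surjective φ := LinearMap.submoduleMap_surjective _ _
    have hker : LinearMap.ker φ ≤ LinearMap.ker g := by
      intro x hx
      rw [LinearMap.mem_ker] at hx ⊢
      have h1 : (J ^ m).mkQ (x : A) = 0 := by
        have := congrArg Subtype.val hx
        simpa [φ] using this
      rw [Submodule.mkQ_apply, Submodule.Quotient.mk_eq_zero] at h1
      exact hzero x x.2 h1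
    let gbar : (Submodule.map (J ^ m).mkQ (I : Submodule A A)) →ₗ[A] H :=
      ((LinearMap.ker φ).liftQ g hker).comp (φ.quotKerEquivOfSurjective hφ).symm.toLinearMap
    have hgbar : ∀ x : I, gbar (φ x) = g x := by
      intro x
      simp only [gbar, LinearMap.coe_comp, LinearEquiv.coe_coe, Function.comp_apply]
      have : (φ.quotKerEquivOfSurjective hφ).symm (φ x) = (LinearMap.ker φ).mkQ x := by
        rw [LinearEquiv.symm_apply_eq]
        rfl
      rw [this]
      rfl
    obtain ⟨g', hg'⟩ := hext (A ⧸ J ^ m) inferInstance
      ⟨m, by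
        rw [eq_bot_iff]
        rw [Submodule.smul_le]
        intro a ha y _
        obtain ⟨y, rfl⟩ := Submodule.Quotient.mk_surjective _ y
        rw [Submodule.mem_bot, ← Submodule.Quotient.mk_smul, Submodule.Quotient.mk_eq_zero,
          smul_eq_mul]
        exact Ideal.mul_mem_right _ _ ha⟩
      (Submodule.map (J ^ m).mkQ (I : Submodule A A)) gbar
    refine ⟨g'.comp (J ^ m).mkQ, ?_⟩
    intro x hx
    have h1 := LinearMap.congr_fun hg' (φ ⟨x, hx⟩)
    rw [hgbar] at h1
    rw [← h1]
    rfl

end Groth.Agent.S5168
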