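import Groth.Statements.S5170
import Mathlib.Tactic
import Mathlib.RingTheory.Length
import Mathlib.RingTheory.FiniteLength
import Mathlib.RingTheory.SimpleModule.Basic
import Mathlib.Algebra.Module.Injective
import Mathlib.RingTheory.LocalRing.ResidueField.Basic

set_option autoImplicit false
universe u
open Matlis

namespace Groth.Agent.S5170

section

variable {A : Type u} [CommRing A] [IsLocalRing A]
  {E : Type u} [AddCommGroup E] [Module A E]

lemma length_hom_residue (f : IsLocalRing.ResidueField A →ₗ[A] E)
    (hf : InjHull.IsInjectiveHull f) :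
    Module.length A (IsLocalRing.ResidueField A →ₗ[A] E) = 1 := by
  let k := IsLocalRing.ResidueField A
  let Φ : k →ₗ[A] (k →ₗ[A] E) :=
    { toFun := fun c => f.comp (LinearMap.mulLeft A c)
      map_add' := by
        intro c d
        ext x
        simp [add_mul]
      map_smul' := by
        intro a c
        ext x
        simp }
  have hΦ1 : ∀ c : k, Φ c 1 = f c := by
    intro c
    simp [Φ]
  have hinj : Function.Injective Φ := by
    intro c d h
    apply hf.injective
    rw [← hΦ1, ← hΦ1, h]
  have hkill : ∀ (g : k →ₗ[A] E) (a : A), a ∈ IsLocalRing.maximalIdeal A → a • g 1 = 0 := by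
    intro g a ha
    rw [← map_smul]
    have : a • (1 : k) = 0 := by
      rw [Algebra.smul_def, mul_one]
      exact (IsLocalRing.residue_eq_zero_iff a).2 ha
    rw [this, map_zero]
  have hext : ∀ g g' : k →ₗ[A] E, g 1 = g' 1 → g = g' := by
    intro g g' h
    ext x
    obtain ⟨a, rfl⟩ := IsLocalRing.residue_surjective x
    have : IsLocalRing.residue A a = a • (1 : k) := by
      rw [Algebra.smul_def, mul_one]
      rfl
    rw [this, map_smul, map_smul, h]
  have hsurj : Function.Surjective Φ := by
    intro g
    by_cases hg : g 1 = 0
    · refine ⟨0, ?_⟩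
      apply hext
      rw [hΦ1, map_zero, hg]
    · have hN : Submodule.span A {g 1} ≠ ⊥ := by
        rw [Ne, Submodule.span_singleton_eq_bot]
        exact hg
      have hmeet := hf.essential _ hN
      rw [Submodule.ne_bot_iff] at hmeet
      obtain ⟨e, ⟨he1, he2⟩, he0⟩ := hmeet
      obtain ⟨a, rfl⟩ := Submodule.mem_span_singleton.1 he1
      obtain ⟨c, hc⟩ := he2
      have hau : IsUnit a := by
        by_contra hnu
        exact he0 (hkill g a ((IsLocalRing.mem_maximalIdeal a).2 hnu))
      obtain ⟨u, rfl⟩ := hau
      refine ⟨(↑u⁻¹ : A) • c, ?_⟩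
      apply hext
      rw [hΦ1, map_smul, hc, smul_smul, Units.inv_mul, one_smul]
  have e : k ≃ₗ[A] (k →ₗ[A] E) := LinearEquiv.ofBijective Φ ⟨hinj, hsurj⟩
  rw [← e.length_eq, Module.length_eq_one_iff]
  have : IsSimpleModule A (A ⧸ IsLocalRing.maximalIdeal A) :=
    isSimpleModule_iff_isCoatom.2 (Ideal.isMaximal_def.1 (IsLocalRing.maximalIdeal.isMaximal A))
  exact this

end

/-- Applied to the dualizing functor Hom_A(−, E). Let A be a Noetherian local ring, E an injective hull
of the residue field and M an A-module of finite length. Then length Hom_A(M, E) = length M. -/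
theorem result (A : Type u) [CommRing A] [IsLocalRing A] [IsNoetherianRing A] (E : Type u) [AddCommGroup E] [Module A E] (f : IsLocalRing.ResidueField A →ₗ[A] E) (hf : InjHull.IsInjectiveHull f) (M : Type u) [AddCommGroup M] [Module A M] (hM : IsFiniteLength A M) : Module.length A (M →ₗ[A] E) = Module.length A M := by
  induction hM with
  | of_subsingleton =>
    rw [Module.length_eq_zero, Module.length_eq_zero]
  | @of_simple_quotient M _ _ N hsimple hN ih =>
    have h1 : Module.length A M = Module.length A N + Module.length A (M ⧸ N) :=
      Module.length_eq_add_of_exact N.subtype N.mkQ N.injective_subtype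
        (Submodule.mkQ_surjective N) (LinearMap.exact_subtype_mkQ N)
    have hinjE : Module.Injective A E := hf.isInjective
    have h2 : Module.length A (M →ₗ[A] E) =
        Module.length A ((M ⧸ N) →ₗ[A] E) + Module.length A (N →ₗ[A] E) := by
      refine Module.length_eq_add_of_exact (LinearMap.lcomp A E N.mkQ)
        (LinearMap.lcomp A E N.subtype) ?_ ?_ ?_
      · intro g g' h
        ext x
        exact LinearMap.congr_fun h x
      · intro g
        obtain ⟨h, hh⟩ := hinjE.out N.subtype N.injective_subtype g
        exact ⟨h, LinearMap.ext hh⟩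
      · intro g
        constructor
        · intro hg
          have hle : N ≤ LinearMap.ker g := by
            intro x hx
            rw [LinearMap.mem_ker]
            exact LinearMap.congr_fun hg ⟨x, hx⟩
          refine ⟨N.liftQ g hle, ?_⟩
          ext x
          simp
        · rintro ⟨g', rfl⟩
          ext x
          simp only [LinearMap.lcomp_apply', LinearMap.coe_comp, Function.comp_apply,
            Submodule.coe_subtype, Submodule.mkQ_apply, LinearMap.zero_apply]
          rw [(Submodule.Quotient.mk_eq_zero N).2 x.2, map_zero]
    obtain ⟨I, hI, ⟨e⟩⟩ := isSimpleModule_iff_quot_maximal.1 hsimple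
    have hIm : I = IsLocalRing.maximalIdeal A := IsLocalRing.eq_maximalIdeal hI
    subst hIm
    have h3 : Module.length A ((M ⧸ N) →ₗ[A] E) = 1 := by
      rw [← length_hom_residue f hf]
      exact (LinearEquiv.congrLeft E A e).length_eq
    have h4 : Module.length A (M ⧸ N) = 1 := Module.length_eq_one_iff.2 hsimple
    rw [h1, h2, h3, h4, ih, add_comm]

end Groth.Agent.S5170
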