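import Groth.Statements.S5171
import Groth.Agent.S0318
import Groth.Agent.S11654
import Groth.Agent.Lib.Helper67.Depth2
import Groth.Agent.Lib.Helper67.FlatDepth5

set_option autoImplicit false
universe u
open LocCoh

namespace Groth.Agent.S5171

open Groth.Agent.Lib.Helper67 in
theorem le_idealDepth_iff_H (A : Type u) [CommRing A] [IsNoetherianRing A] (J : Ideal A)
    (G : Type u) [AddCommGroup G] [Module A G] [Module.Finite A G]
    (hJG : J • (⊤ : Submodule A G) ≠ ⊤) (n : ℕ) :
    (n : ℕ∞) ≤ LocCoh.idealDepth J G ↔ ∀ i : ℕ, i < n → Subsingleton (LocCoh.H J i G) := by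
  rw [le_idealDepth_iff]
  simp only [hJG, false_or]
  constructor
  · rintro ⟨rs, hlen, hreg, hmem⟩ i hi
    exact Groth.Agent.S0318.vanish_of_regular J rs G hreg hmem i (hlen ▸ hi)
  · intro h
    obtain ⟨rs, hreg, hmem, hlen⟩ := Groth.Agent.S0318.exists_regular_of_vanish J n G hJG h
    exact ⟨rs, hlen, hreg, hmem⟩

theorem subsingleton_H_of_smul_top_eq_top (A : Type u) [CommRing A] (J : Ideal A)
    (G : Type u) [AddCommGroup G] [Module A G] [Module.Finite A G]
    (hJG : J • (⊤ : Submodule A G) = ⊤) (i : ℕ) : Subsingleton (LocCoh.H J i G) := by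
  obtain ⟨r, hr1, hr2⟩ := Submodule.exists_sub_one_mem_and_smul_eq_zero_of_fg_of_le_smul J
    (⊤ : Submodule A G) Module.Finite.fg_top (by rw [hJG])
  refine ⟨fun y z => ?_⟩
  suffices h : ∀ y : LocCoh.H J i G, y = 0 by rw [h y, h z]
  intro y
  have h1 : r • y = 0 := Groth.Agent.S11654.smul_H_eq_zero J i G r (fun m => hr2 m trivial) y
  obtain ⟨t, ht⟩ := Groth.Agent.S0318.exists_pow_smul_eq_zero J i y
  have h2 : (r - 1) ^ t • y = 0 := ht _ (Ideal.pow_mem_pow hr1 t)
  have h3 : ∃ c : A, (r - 1) ^ t = c * r + (-1) ^ t := by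
    have : (Ideal.Quotient.mk (Ideal.span {r})) ((r - 1) ^ t - (-1) ^ t) = 0 := by
      have hr0 : (Ideal.Quotient.mk (Ideal.span {r})) r = 0 :=
        Ideal.Quotient.eq_zero_iff_mem.mpr (Ideal.mem_span_singleton_self r)
      simp [map_sub, map_pow, hr0]
    rw [Ideal.Quotient.eq_zero_iff_mem, Ideal.mem_span_singleton'] at this
    obtain ⟨c, hc⟩ := this
    exact ⟨c, by rw [hc]; ring⟩
  obtain ⟨c, hc⟩ := h3
  rw [hc, add_smul, mul_smul, h1, smul_zero, zero_add] at h2
  have h4 : ((-1 : A) ^ t * (-1) ^ t) • y = 0 := by rw [mul_smul, h2, smul_zero]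
  rw [← mul_pow] at h4
  simpa using h4

/-- Let A be a Noetherian ring, J an ideal, n ≥ 0 and G a finite Cohen–Macaulay A-module (each
localization G_p is zero or Cohen–Macaulay). Then H^i_J(G) = 0 for i < n if and only if codim(V(J) ∩
Supp G, Supp G) ≥ n, i.e. dim Supp(G_p) ≥ n for every p ∈ V(J) ∩ Supp G. -/
theorem result (A : Type u) [CommRing A] [IsNoetherianRing A] (J : Ideal A) (G : Type u) [AddCommGroup G] [Module A G] [Module.Finite A G] (hCM : ∀ p : PrimeSpectrum A, Subsingleton (LocalizedModule p.asIdeal.primeCompl G) ∨ LocCoh.IsCohenMacaulayModule (Localization.AtPrime p.asIdeal) (LocalizedModule p.asIdeal.primeCompl G)) (n : ℕ) : (∀ i : ℕ, i < n → Subsingleton (LocCoh.H J i G)) ↔ ∀ p : PrimeSpectrum A, J ≤ p.asIdeal → p ∈ Module.support A G → (n : WithBot ℕ∞) ≤ Module.supportDim (Localization.AtPrime p.asIdeal) (LocalizedModule p.asIdeal.primeCompl G) := by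
  by_cases hJG : J • (⊤ : Submodule A G) = ⊤
  · constructor
    · intro _ p hJp hp
      exfalso
      have h1 : p ∈ Module.support A (G ⧸ (J • (⊤ : Submodule A G))) := by
        rw [Module.support_quotient]
        exact ⟨hp, hJp⟩
      rw [hJG] at h1
      rw [Module.mem_support_iff] at h1
      obtain ⟨x, y, hxy⟩ := h1
      apply hxy
      haveI : Subsingleton (G ⧸ (⊤ : Submodule A G)) := Submodule.Quotient.subsingleton_iff.mpr rfl
      exact Subsingleton.elim _ _
    · intro _ i _
      exact subsingleton_H_of_smul_top_eq_top A J G hJG i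
  · rw [← le_idealDepth_iff_H A J G hJG n,
      Groth.Agent.Lib.Helper67.idealDepth_eq_iInf_depth_localization, le_iInf₂_iff]
    constructor
    · intro h p hJp hp
      rcases hCM p with hsub | hcm
      · exfalso
        rw [Module.mem_support_iff] at hp
        exact not_subsingleton _ hsub
      · rw [hcm]
        exact_mod_cast h p hJp
    · intro h p hJp
      by_cases hp : p ∈ Module.support A G
      · rcases hCM p with hsub | hcm
        · exfalso
          rw [Module.mem_support_iff] at hp
          exact not_subsingleton _ hsub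
        · have := h p hJp hp
          rw [hcm] at this
          exact_mod_cast this
      · have hsub : Subsingleton (LocalizedModule p.asIdeal.primeCompl G) := by
          rw [Module.mem_support_iff] at hp
          exact not_nontrivial_iff_subsingleton.mp hp
        rw [Groth.Agent.Lib.Helper67.depth_eq_top_of_subsingleton]
        exact le_top

end Groth.Agent.S5171
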