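import Groth.Statements.S5175
import Mathlib.Tactic
import Mathlib.Algebra.Category.ModuleCat.ChangeOfRings
import Mathlib.LinearAlgebra.Dual.Lemmas
import Mathlib.RingTheory.LocalRing.ResidueField.Basic
import Mathlib.LinearAlgebra.FiniteDimensional.Lemmas
import Mathlib.RingTheory.Ideal.Quotient.Operations
import Groth.Agent.S5168

set_option autoImplicit false
universe u
open Matlis

namespace Groth.Agent.S5175

section

variable (k₀ : Type u) [Field k₀] (A : Type u) [CommRing A] [Algebra k₀ A]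

noncomputable abbrev DD : ModuleCat.{u} A :=
  (ModuleCat.coextendScalars (algebraMap k₀ A)).obj (ModuleCat.of k₀ k₀)

variable {k₀ A}

noncomputable def ev (g : DD k₀ A) (a : A) : k₀ := (ModuleCat.CoextendScalars.equiv (algebraMap k₀ A) _ g) a

lemma ev_ext {g g' : DD k₀ A} (h : ∀ a, ev g a = ev g' a) : g = g' := by
  apply ModuleCat.CoextendScalars.ext
  exact LinearMap.ext h

lemma ev_smul (s : A) (g : DD k₀ A) (a : A) : ev (s • g) a = ev g (a * s) := rfl

lemma ev_add (g g' : DD k₀ A) (a : A) : ev (g + g') a = ev g a + ev g' a := rfl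

lemma ev_zero (a : A) : ev (0 : DD k₀ A) a = 0 := rfl

lemma ev_map_add (g : DD k₀ A) (a b : A) : ev g (a + b) = ev g a + ev g b :=
  map_add (ModuleCat.CoextendScalars.equiv (algebraMap k₀ A) _ g) a b

lemma ev_map_zero (g : DD k₀ A) : ev g 0 = 0 :=
  map_zero (ModuleCat.CoextendScalars.equiv (algebraMap k₀ A) _ g)

lemma ev_map_smul (g : DD k₀ A) (r : k₀) (a : A) : ev g (algebraMap k₀ A r * a) = r * ev g a := by
  have := (ModuleCat.CoextendScalars.equiv (algebraMap k₀ A) _ g).map_smul r a
  exact this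

noncomputable def mkD (φ : A →ₗ[k₀] k₀) : DD k₀ A :=
  (ModuleCat.CoextendScalars.equiv (algebraMap k₀ A) _).symm
    { toFun := fun a => φ a
      map_add' := fun a b => map_add φ a b
      map_smul' := fun r a => by
        let a' : A := a
        change φ (algebraMap k₀ A r * a') = r • φ a'
        rw [← Algebra.smul_def]
        exact map_smul φ r a' }

lemma ev_mkD (φ : A →ₗ[k₀] k₀) (a : A) : ev (mkD φ) a = φ a := rfl

noncomputable def toLin (g : DD k₀ A) : A →ₗ[k₀] k₀ where
  toFun := ev g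
  map_add' := ev_map_add g
  map_smul' := fun r a => by
    rw [Algebra.smul_def, ev_map_smul]
    rfl

end

section

variable {k₀ : Type u} [Field k₀] {A : Type u} [CommRing A] [IsLocalRing A] [Algebra k₀ A]

open IsLocalRing

lemma mem_T (n : ℕ) (g : DD k₀ A) :
    g ∈ Submodule.torsionBySet A (DD k₀ A) ((maximalIdeal A ^ n : Ideal A) : Set A) ↔
      ∀ y ∈ maximalIdeal A ^ n, ev g y = 0 := by
  rw [Submodule.mem_torsionBySet_iff]
  constructor
  · intro h y hy
    have := h ⟨y, hy⟩
    have h2 := congrArg (fun t => ev t 1) this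
    simp only [ev_smul, one_mul, ev_zero] at h2
    exact h2
  · rintro h ⟨y, hy⟩
    apply ev_ext
    intro a
    rw [ev_smul, ev_zero]
    exact h _ (Ideal.mul_mem_left _ _ hy)

noncomputable abbrev Adual (k₀ : Type u) [Field k₀] (A : Type u) [CommRing A] [IsLocalRing A]
    [Algebra k₀ A] : Submodule A (DD k₀ A) :=
  ⨆ n : ℕ, Submodule.torsionBySet A (DD k₀ A) ((maximalIdeal A ^ n : Ideal A) : Set A)

lemma mem_Adual (g : DD k₀ A) :
    g ∈ Adual k₀ A ↔ ∃ n : ℕ, ∀ y ∈ maximalIdeal A ^ n, ev g y = 0 := by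
  have hmono : Monotone (fun n : ℕ =>
      Submodule.torsionBySet A (DD k₀ A) ((maximalIdeal A ^ n : Ideal A) : Set A)) := by
    intro n m hnm g hg
    rw [mem_T] at hg ⊢
    intro y hy
    exact hg y (Ideal.pow_le_pow_right hnm hy)
  rw [Submodule.mem_iSup_of_directed _ hmono.directed_le]
  simp_rw [mem_T]

lemma powerTorsion_Adual : LocCoh.IsPowerTorsion (maximalIdeal A) (Adual k₀ A) := by
  rintro ⟨g, hg⟩
  obtain ⟨n, hn⟩ := (mem_Adual g).1 hg
  refine ⟨n, fun a ha => ?_⟩
  apply Subtype.ext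
  apply ev_ext
  intro x
  change ev (a • g) x = ev 0 x
  rw [ev_smul, ev_zero]
  exact hn _ (Ideal.mul_mem_left _ _ ha)

end

section

variable {k₀ : Type u} [Field k₀] {A : Type u} [CommRing A] [IsLocalRing A] [Algebra k₀ A]
  [IsNoetherianRing A]

open IsLocalRing

lemma injective_Adual : Module.Injective A (Adual k₀ A) := by
  rw [Groth.Agent.S5168.result A (maximalIdeal A) (Adual k₀ A) powerTorsion_Adual]
  intro M _ _ _ ⟨k, hk⟩ N g
  letI : Module k₀ M := Module.compHom M (algebraMap k₀ A)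
  haveI : IsScalarTower k₀ A M := IsScalarTower.of_algebraMap_smul (fun r m => rfl)
  let γ : (N.restrictScalars k₀) →ₗ[k₀] k₀ :=
    { toFun := fun n => ev (g ⟨n.1, n.2⟩).1 1
      map_add' := by
        intro n n'
        have : (⟨(n + n').1, (n + n').2⟩ : N) = ⟨n.1, n.2⟩ + ⟨n'.1, n'.2⟩ := rfl
        rw [this, map_add]
        rfl
      map_smul' := by
        intro r n
        have : (⟨(r • n).1, (r • n).2⟩ : N) = algebraMap k₀ A r • (⟨n.1, n.2⟩ : N) := rfl
        rw [this, map_smul]
        change ev (algebraMap k₀ A r • (g ⟨n.1, n.2⟩).1) 1 = _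
        rw [ev_smul, one_mul, ← mul_one (algebraMap k₀ A r), ev_map_smul]
        rfl }
  obtain ⟨γ', hγ'⟩ := LinearMap.exists_extend γ
  let inner : M → (A →ₗ[k₀] k₀) := fun m =>
    { toFun := fun a => γ' (a • m)
      map_add' := fun a b => by rw [add_smul, map_add]
      map_smul' := fun r a => by rw [smul_assoc, map_smul]; rfl }
  have hmem : ∀ m, mkD (inner m) ∈ Adual k₀ A := by
    intro m
    rw [mem_Adual]
    refine ⟨k, fun y hy => ?_⟩
    rw [ev_mkD]
    change γ' (y • m) = 0
    have : y • m ∈ (maximalIdeal A ^ k) • (⊤ : Submodule A M) :=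
      Submodule.smul_mem_smul hy trivial
    rw [hk, Submodule.mem_bot] at this
    rw [this, map_zero]
  let g' : M →ₗ[A] Adual k₀ A :=
    { toFun := fun m => ⟨mkD (inner m), hmem m⟩
      map_add' := by
        intro m m'
        apply Subtype.ext
        apply ev_ext
        intro a
        change γ' (a • (m + m')) = γ' (a • m) + γ' (a • m')
        rw [smul_add, map_add]
      map_smul' := by
        intro s m
        apply Subtype.ext
        apply ev_ext
        intro a
        change γ' (a • s • m) = ev (s • mkD (inner m)) a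
        rw [ev_smul, ev_mkD]
        change γ' (a • s • m) = γ' ((a * s) • m)
        rw [mul_smul] }
  refine ⟨g', LinearMap.ext (fun n => Subtype.ext (ev_ext (fun a => ?_)))⟩
  change γ' (a • (n : M)) = ev (g n).1 a
  have h1 : γ' (a • (n : M)) = γ ⟨a • (n : M), N.smul_mem a n.2⟩ := by
    rw [← hγ']
    rfl
  rw [h1]
  change ev (g ⟨a • (n : M), _⟩).1 1 = _
  have : (⟨a • (n : M), N.smul_mem a n.2⟩ : N) = a • n := rfl
  rw [this, map_smul]
  change ev (a • (g n).1) 1 = _
  rw [ev_smul, one_mul]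

end

section

variable {k₀ : Type u} [Field k₀] {A : Type u} [CommRing A] [IsLocalRing A] [Algebra k₀ A]
  [IsNoetherianRing A] [Module.Finite k₀ (A ⧸ IsLocalRing.maximalIdeal A)]

open IsLocalRing

lemma exists_hull : ∃ f : ResidueField A →ₗ[A] Adual k₀ A, InjHull.IsInjectiveHull f := by
  classical
  let kq := A ⧸ maximalIdeal A
  letI : Field kq := Ideal.Quotient.field (maximalIdeal A)
  have hone : (1 : kq) ≠ 0 := one_ne_zero
  obtain ⟨lam, hlam⟩ : ∃ lam : Module.Dual k₀ kq, lam 1 ≠ 0 := by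
    by_contra hcon
    push Not at hcon
    exact hone ((Module.forall_dual_apply_eq_zero_iff k₀ (1 : kq)).1 hcon)
  let res : A →ₗ[k₀] kq := (Ideal.Quotient.mkₐ k₀ (maximalIdeal A)).toLinearMap
  have hres : ∀ a, res a = Ideal.Quotient.mk (maximalIdeal A) a := fun a => rfl
  let φ₀ : A →ₗ[k₀] k₀ := lam.comp res
  let Ψ : kq →ₗ[k₀] Module.Dual k₀ kq :=
    { toFun := fun c => lam.comp (LinearMap.mulLeft k₀ c)
      map_add' := by
        intro c d
        ext x
        simp [add_mul]
      map_smul' := by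
        intro r c
        ext x
        simp }
  have hΨ : ∀ c x, Ψ c x = lam (c * x) := fun c x => rfl
  have hΨinj : Function.Injective Ψ := by
    rw [← LinearMap.ker_eq_bot, LinearMap.ker_eq_bot']
    intro c hc
    by_contra hc0
    apply hlam
    have := LinearMap.congr_fun hc c⁻¹
    rw [hΨ, mul_inv_cancel₀ hc0] at this
    exact this
  have hΨsurj : Function.Surjective Ψ :=
    (LinearMap.injective_iff_surjective_of_finrank_eq_finrank
      (Subspace.dual_finrank_eq (K := k₀) (V := kq)).symm).1 hΨinj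
  have hφ₀mem : mkD φ₀ ∈ Adual k₀ A := by
    rw [mem_Adual]
    refine ⟨1, fun y hy => ?_⟩
    rw [pow_one] at hy
    rw [ev_mkD]
    change lam (res y) = 0
    rw [hres, Ideal.Quotient.eq_zero_iff_mem.2 hy, map_zero]
  let T : A →ₗ[A] Adual k₀ A := LinearMap.toSpanSingleton A (Adual k₀ A) ⟨mkD φ₀, hφ₀mem⟩
  have hTev : ∀ a x, ev (T a).1 x = lam (res x * res a) := by
    intro a x
    change ev (a • mkD φ₀) x = _
    rw [ev_smul, ev_mkD]
    change lam (res (x * a)) = _
    rw [hres, hres, hres, map_mul]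
  have hT : maximalIdeal A ≤ LinearMap.ker T := by
    intro a ha
    rw [LinearMap.mem_ker]
    apply Subtype.ext
    apply ev_ext
    intro x
    rw [hTev, hres a, Ideal.Quotient.eq_zero_iff_mem.2 ha, mul_zero, map_zero]
    rfl
  let f : ResidueField A →ₗ[A] Adual k₀ A := Submodule.liftQ (maximalIdeal A) T hT
  have hf : ∀ a, f (Ideal.Quotient.mk (maximalIdeal A) a) = T a := fun a => rfl
  refine ⟨f, ⟨⟨?_, ?_⟩, injective_Adual⟩⟩
  · rw [← LinearMap.ker_eq_bot, LinearMap.ker_eq_bot']
    intro c hc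
    obtain ⟨a, rfl⟩ := Ideal.Quotient.mk_surjective c
    rw [hf] at hc
    have h0 : Ψ (res a) = 0 := by
      ext x
      obtain ⟨x, rfl⟩ := Ideal.Quotient.mk_surjective x
      rw [hΨ, mul_comm]
      have := hTev a x
      rw [hc] at this
      exact this.symm
    have := hΨinj (h0.trans (map_zero Ψ).symm)
    exact this
  · intro N hN
    rw [Submodule.ne_bot_iff] at hN
    obtain ⟨⟨g, hgA⟩, hgN, hg0⟩ := hN
    have hg0' : g ≠ 0 := fun h => hg0 (Subtype.ext h)
    have hex := (mem_Adual g).1 hgA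
    let n₀ := Nat.find hex
    have hn₀ : ∀ y ∈ maximalIdeal A ^ n₀, ev g y = 0 := Nat.find_spec hex
    have hn₀pos : n₀ ≠ 0 := by
      intro h0
      apply hg0'
      apply ev_ext
      intro a
      rw [ev_zero]
      apply hn₀
      rw [h0, pow_zero, Ideal.one_eq_top]
      trivial
    obtain ⟨n₁, hn₁⟩ := Nat.exists_eq_succ_of_ne_zero hn₀pos
    have hnot : ¬ ∀ y ∈ maximalIdeal A ^ n₁, ev g y = 0 :=
      Nat.find_min hex (by omega)
    push Not at hnot
    obtain ⟨a, ha, hag⟩ := hnot
    let ψ : DD k₀ A := a • g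
    have hψA : ψ ∈ Adual k₀ A := (Adual k₀ A).smul_mem a hgA
    have hψN : (⟨ψ, hψA⟩ : Adual k₀ A) ∈ N := N.smul_mem a hgN
    have hψ0 : ψ ≠ 0 := by
      intro h
      apply hag
      have := congrArg (fun t => ev t 1) h
      simp only [ψ, ev_smul, one_mul, ev_zero] at this
      exact this
    have hψm : ∀ y ∈ maximalIdeal A, ev ψ y = 0 := by
      intro y hy
      change ev (a • g) y = 0
      rw [ev_smul]
      apply hn₀
      rw [hn₁, pow_succ']
      exact Ideal.mul_mem_mul hy ha
    have hker : (maximalIdeal A).restrictScalars k₀ ≤ LinearMap.ker (toLin ψ) := by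
      intro y hy
      rw [LinearMap.mem_ker]
      exact hψm y hy
    let ψbar : Module.Dual k₀ kq :=
      (((maximalIdeal A).restrictScalars k₀).liftQ (toLin ψ) hker).comp
        (Submodule.Quotient.restrictScalarsEquiv k₀ (maximalIdeal A)).symm.toLinearMap
    have hψbar : ∀ x : A, ψbar (Ideal.Quotient.mk (maximalIdeal A) x) = ev ψ x := fun x => rfl
    obtain ⟨c, hc⟩ := hΨsurj ψbar
    obtain ⟨a₀, rfl⟩ := Ideal.Quotient.mk_surjective c
    have hfψ : f (Ideal.Quotient.mk (maximalIdeal A) a₀) = ⟨ψ, hψA⟩ := by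
      rw [hf]
      apply Subtype.ext
      apply ev_ext
      intro x
      rw [hTev, ← hψbar, ← hc, hΨ, mul_comm]
      rfl
    rw [Submodule.ne_bot_iff]
    refine ⟨⟨ψ, hψA⟩, ⟨hψN, ⟨_, hfψ⟩⟩, fun h => hψ0 (congrArg Subtype.val h)⟩

end

/-- Let k₀ be a field and A a Noetherian local k₀-algebra with [k : k₀] finite, k the residue field.
Then the topological dual A' = colim_n Hom_{k₀}(A/m^n, k₀), i.e. the submodule of Hom_{k₀}(A, k₀) of
forms killing some power of m (A acting through the source), is an injective hull of k (it is the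
dualizing module of A). -/
theorem result (k₀ : Type u) [Field k₀] (A : Type u) [CommRing A] [IsLocalRing A] [IsNoetherianRing A] [Algebra k₀ A] [Module.Finite k₀ (A ⧸ IsLocalRing.maximalIdeal A)] : ∃ f : IsLocalRing.ResidueField A →ₗ[A] ↥(⨆ n : ℕ, Submodule.torsionBySet A ((ModuleCat.coextendScalars (algebraMap k₀ A)).obj (ModuleCat.of k₀ k₀)) ((IsLocalRing.maximalIdeal A ^ n : Ideal A) : Set A)), InjHull.IsInjectiveHull f :=
  exists_hull

end Groth.Agent.S5175
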