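import Groth.Statements.S5178
import Groth.Agent.Lib.Helper76.CIPres
import Groth.Agent.S0547

set_option autoImplicit false
universe u
open CInt

namespace Groth.Agent.S5178

open IsLocalRing Groth.Agent.Lib.Helper94.CILocal

/-- Let A be a Noetherian local ring of dimension d, and let the completion of A be presented as B/I
with B a regular local ring of dimension e and I an ideal whose minimal number of generators is q,
so that e − q is the geometric depth of A (this number does not depend on the presentation). Then e
− q ≤ d, and equality holds if and only if A is a complete intersection, i.e. its completion is a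
regular local ring modulo an ideal generated by a regular sequence. -/
theorem result (A : Type u) [CommRing A] [IsLocalRing A] [IsNoetherianRing A] (B : Type u) [CommRing B] [IsRegularLocalRing B] (I : Ideal B) (hpres : Nonempty (AdicCompletion (IsLocalRing.maximalIdeal A) A ≃+* B ⧸ I)) (d e : ℕ) (hd : ringKrullDim A = (d : WithBot ℕ∞)) (he : ringKrullDim B = (e : WithBot ℕ∞)) : (e : ℤ) - (I.spanFinrank : ℤ) ≤ (d : ℤ) ∧ ((e : ℤ) - (I.spanFinrank : ℤ) = (d : ℤ) ↔ Pi1.IsCompleteIntersection A) := by
  obtain ⟨ε⟩ := hpres
  have hInt : I ≠ ⊤ := by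
    intro h
    have : Subsingleton (B ⧸ I) := by
      rw [h]; exact Ideal.Quotient.subsingleton_iff.mpr rfl
    have h2 : Subsingleton (AdicCompletion (maximalIdeal A) A) := ε.toEquiv.subsingleton
    exact not_subsingleton _ h2
  have hIm : I ≤ maximalIdeal B := IsLocalRing.le_maximalIdeal hInt
  have hdq : ringKrullDim (B ⧸ I) = d := by
    rw [← ringKrullDim_eq_of_ringEquiv ε, Groth.Agent.S0547.result A, hd]
  have hkrull := ringKrullDim_le_ringKrullDim_quotient_add_spanFinrank I
    (by rw [ringJacobson_eq_maximalIdeal]; exact hIm)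
  rw [hdq, he] at hkrull
  have hk : e ≤ d + I.spanFinrank := by exact_mod_cast hkrull
  have hiff := isRegularIdeal_iff_dim B I hIm
  rw [hdq, he] at hiff
  refine ⟨by omega, ?_⟩
  constructor
  · intro h
    have h' : d + I.spanFinrank = e := by omega
    obtain ⟨rs, hreg, hrs⟩ := hiff.mpr (by exact_mod_cast h')
    refine ⟨B, inferInstance, inferInstance, rs, ?_, hreg, ⟨?_⟩⟩
    · intro r hr
      apply hIm
      rw [← hrs]
      exact Ideal.subset_span hr
    · exact ε.trans (Ideal.quotEquivOfEq hrs.symm)
  · rintro ⟨B', _, hB', rs, hmem, hreg, ⟨ε'⟩⟩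
    let φ : B →+* AdicCompletion (maximalIdeal A) A :=
      ε.symm.toRingHom.comp (Ideal.Quotient.mk I)
    let ψ : B' →+* AdicCompletion (maximalIdeal A) A :=
      ε'.symm.toRingHom.comp (Ideal.Quotient.mk (Ideal.span {r | r ∈ rs}))
    have hφ : Function.Surjective φ := ε.symm.surjective.comp Ideal.Quotient.mk_surjective
    have hψ : Function.Surjective ψ := ε'.symm.surjective.comp Ideal.Quotient.mk_surjective
    have hkφ : RingHom.ker φ = I := by rw [RingHom.ker_equiv_comp, Ideal.mk_ker]
    have hkψ : RingHom.ker ψ = Ideal.ofList rs := by rw [RingHom.ker_equiv_comp, Ideal.mk_ker]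
    have h1 : CInt.IsRegularIdeal (RingHom.ker ψ) := ⟨rs, hreg, hkψ.symm⟩
    have h2 := (Groth.Agent.Lib.Helper76.KosLen.isRegularIdeal_ker_iff φ ψ hφ hψ).mpr h1
    rw [hkφ] at h2
    have h3 := hiff.mp h2
    have : d + I.spanFinrank = e := by exact_mod_cast h3
    omega

end Groth.Agent.S5178
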