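import Groth.Statements.S5179
import Groth.Agent.Lib.Helper76.GeomDepth

set_option autoImplicit false
universe u
open CInt

namespace Groth.Agent.S5179

/-- Let A → A' be a flat local homomorphism of Noetherian local rings such that m_A A' is the maximal
ideal of A' and the residue field of A' is a separable extension of the residue field k of A
(separable in the sense that it is formally smooth over k; so A' ⊗_A k is a field separable over k).
Present the completions as Â ≅ B/I and Â' ≅ B'/I' with B, B' regular local rings of dimensions e,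
e'. Then e − μ(I) = e' − μ(I'), μ denoting the minimal number of generators: A and A' have the same
geometric depth. -/
theorem result (A A' : Type u) [CommRing A] [IsLocalRing A] [IsNoetherianRing A] [CommRing A'] [IsLocalRing A'] [IsNoetherianRing A'] [Algebra A A'] [IsLocalHom (algebraMap A A')] [Module.Flat A A'] (hmax : Ideal.map (algebraMap A A') (IsLocalRing.maximalIdeal A) = IsLocalRing.maximalIdeal A') (hsep : Algebra.FormallySmooth (IsLocalRing.ResidueField A) (IsLocalRing.ResidueField A')) (B B' : Type u) [CommRing B] [IsRegularLocalRing B] [CommRing B'] [IsRegularLocalRing B'] (I : Ideal B) (I' : Ideal B') (hpres : Nonempty (AdicCompletion (IsLocalRing.maximalIdeal A) A ≃+* B ⧸ I)) (hpres' : Nonempty (AdicCompletion (IsLocalRing.maximalIdeal A') A' ≃+* B' ⧸ I')) (e e' : ℕ) (he : ringKrullDim B = (e : WithBot ℕ∞)) (he' : ringKrullDim B' = (e' : WithBot ℕ∞)) : (e : ℤ) - (I.spanFinrank : ℤ) = (e' : ℤ) - (I'.spanFinrank : ℤ) := by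
  obtain ⟨ε⟩ := hpres
  obtain ⟨ε'⟩ := hpres'
  obtain ⟨n, y, hy⟩ := Submodule.fg_iff_exists_fin_generating_family.mp
    (IsLocalRing.maximalIdeal A).fg_of_isNoetherianRing
  have hy' : Ideal.span (Set.range (algebraMap A A' ∘ y)) = IsLocalRing.maximalIdeal A' := by
    rw [Set.range_comp, ← Ideal.map_span]
    have : Ideal.span (Set.range y) = IsLocalRing.maximalIdeal A := hy
    rw [this, hmax]
  have h1 := Groth.Agent.Lib.Helper76.KosLen.geomDepth_formula A y hy B I ε e he
  have h2 := Groth.Agent.Lib.Helper76.KosLen.geomDepth_formula A' (algebraMap A A' ∘ y) hy'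
    B' I' ε' e' he'
  have h3 : Groth.Agent.Lib.Helper76.KosLen.ell (algebraMap A A' ∘ y) =
      Groth.Agent.Lib.Helper76.KosLen.ell y :=
    Groth.Agent.Lib.Helper76.KosLen.ell_map_eq y hmax
  rw [h3] at h2
  have hfin : Groth.Agent.Lib.Helper76.KosLen.ell y ≠ ⊤ := by
    intro htop
    rw [htop, top_add] at h1
    exact ENat.natCast_ne_top _ (by exact_mod_cast h1)
  obtain ⟨l, hl⟩ := ENat.ne_top_iff_exists.mp hfin
  rw [← hl] at h1 h2
  have e1 : I.spanFinrank + n = l + e := by exact_mod_cast h1
  have e2 : I'.spanFinrank + n = l + e' := by exact_mod_cast h2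
  omega

end Groth.Agent.S5179
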