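import Groth.Statements.S5182
import Mathlib

set_option autoImplicit false
universe u
open CInt

namespace Groth.Agent.S5182

open Ideal RingTheory.Sequence

section Core

variable {A : Type u} [CommRing A]

theorem krull_sup [IsLocalRing A] [IsNoetherianRing A] (K J : Ideal A) (hJ : J ≠ ⊤) (x : A)
    (h : ∀ n : ℕ, x ∈ K ⊔ J ^ n) : x ∈ K := by
  have hk := Ideal.iInf_pow_smul_eq_bot_of_isLocalRing (M := A ⧸ K) J hJ
  have hx : (Ideal.Quotient.mk K x : A ⧸ K) ∈ (⨅ i : ℕ, J ^ i • ⊤ : Submodule A (A ⧸ K)) := by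
    rw [Submodule.mem_iInf]
    intro n
    obtain ⟨a, ha, b, hb, rfl⟩ := Submodule.mem_sup.mp (h n)
    have h1 : (Ideal.Quotient.mk K (a + b) : A ⧸ K) = b • (Ideal.Quotient.mk K 1 : A ⧸ K) := by
      rw [map_add, Ideal.Quotient.eq_zero_iff_mem.mpr ha, zero_add, Algebra.smul_def,
        Ideal.Quotient.algebraMap_eq, map_one, mul_one]
    rw [h1]
    exact Submodule.smul_mem_smul hb Submodule.mem_top
  rw [hk, Submodule.mem_bot] at hx
  exact Ideal.Quotient.eq_zero_iff_mem.mp hx

theorem ofList_take_succ (fs : List A) (i : ℕ) (h : i < fs.length) :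
    Ideal.ofList (fs.take (i + 1)) = Ideal.ofList (fs.take i) ⊔ Ideal.span {fs[i]} := by
  rw [List.take_succ_eq_append_getElem h, Ideal.ofList_append, Ideal.ofList_singleton]

variable (J : Ideal A) (fs : List A)

/-- the hypothesis extracted from normal flatness -/
def Hyp : Prop :=
  ∀ (m i : ℕ) (h : i < fs.length), ∀ x ∈ J ^ m,
    fs[i] * x ∈ Ideal.ofList (fs.take i) * J ^ m ⊔ J ^ (m + 1) →
      x ∈ Ideal.ofList (fs.take i) * J ^ m ⊔ J ^ (m + 1)

theorem pow_le_pow' (a b : ℕ) (h : a ≤ b) : J ^ b ≤ J ^ a := Ideal.pow_le_pow_right h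

theorem AR (H : Hyp J fs) : ∀ i, i ≤ fs.length → ∀ (k n : ℕ) (w : A),
    w ∈ Ideal.ofList (fs.take i) * J ^ k → w ∈ J ^ (k + n) →
      w ∈ Ideal.ofList (fs.take i) * J ^ (k + n) ⊔ J ^ (k + n + 1) := by
  intro i
  induction i with
  | zero =>
    intro _ k n w hw _
    simp only [List.take_zero, Ideal.ofList_nil, Ideal.bot_mul, Submodule.mem_bot] at hw
    subst hw
    exact zero_mem _
  | succ i ih =>
    intro hi k n w hw hwn
    have hi' : i < fs.length := hi
    have ihi := ih (le_of_lt hi')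
    set I := Ideal.ofList (fs.take i) with hI
    set f := fs[i] with hf
    rw [ofList_take_succ fs i hi', Ideal.sup_mul] at hw ⊢
    obtain ⟨a, ha, c, hc, rfl⟩ := Submodule.mem_sup.mp hw
    obtain ⟨b, hb, rfl⟩ := Ideal.mem_span_singleton_mul.mp hc
    -- improve `b`
    have key : ∀ j, j ≤ n → ∃ a' ∈ I * J ^ k, ∃ b' ∈ J ^ (k + j), a + f * b = a' + f * b' := by
      intro j
      induction j with
      | zero => intro _; exact ⟨a, ha, b, hb, rfl⟩
      | succ j ihj =>
        intro hj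
        obtain ⟨a', ha', b', hb', e⟩ := ihj (by omega)
        have hw1 : a + f * b ∈ J ^ (k + (j + 1)) := pow_le_pow' J _ _ (by omega) hwn
        have hw2 : a + f * b ∈ J ^ (k + j) := pow_le_pow' J _ _ (by omega) hwn
        have hfb : f * b' ∈ J ^ (k + j) := Ideal.mul_mem_left _ _ hb'
        have ha'j : a' ∈ J ^ (k + j) := by
          have : a' = (a + f * b) - f * b' := by rw [e]; ring
          rw [this]
          exact sub_mem hw2 hfb
        have ha'2 := ihi k j a' ha' ha'j
        have hfb2 : f * b' ∈ I * J ^ (k + j) ⊔ J ^ (k + j + 1) := by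
          have : f * b' = (a + f * b) - a' := by rw [e]; ring
          rw [this]
          exact sub_mem (Submodule.mem_sup_right hw1) ha'2
        have hb2 := H (k + j) i hi' b' hb' hfb2
        obtain ⟨b1, hb1, b2, hb2', rfl⟩ := Submodule.mem_sup.mp hb2
        refine ⟨a' + f * b1, ?_, b2, hb2', ?_⟩
        · refine add_mem ha' (Ideal.mul_mem_left _ _ ?_)
          exact Ideal.mul_mono_right (pow_le_pow' J _ _ (by omega)) hb1
        · rw [e]; ring
    obtain ⟨a', ha', b', hb', e⟩ := key n le_rfl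
    have ha'n : a' ∈ J ^ (k + n) := by
      have : a' = (a + f * b) - f * b' := by rw [e]; ring
      rw [this]
      exact sub_mem hwn (Ideal.mul_mem_left _ _ hb')
    have h1 := ihi k n a' ha' ha'n
    rw [e]
    obtain ⟨a1, ha1, a2, ha2, rfl⟩ := Submodule.mem_sup.mp h1
    have h2 : f * b' ∈ Ideal.span {f} * J ^ (k + n) :=
      Ideal.mem_span_singleton_mul.mpr ⟨b', hb', rfl⟩
    have h3 : a1 + a2 + f * b' = (a1 + f * b') + a2 := by ring
    rw [h3]
    exact Submodule.add_mem_sup
      (Submodule.add_mem_sup ha1 h2) ha2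

theorem G [IsLocalRing A] [IsNoetherianRing A] (hJ : J ≠ ⊤) (H : Hyp J fs) (k i : ℕ)
    (h : i < fs.length) (x : A) (hx : x ∈ J ^ k)
    (hfx : fs[i] * x ∈ Ideal.ofList (fs.take i) * J ^ k) :
    x ∈ Ideal.ofList (fs.take i) * J ^ k := by
  apply krull_sup _ J hJ
  have key : ∀ n, x ∈ Ideal.ofList (fs.take i) * J ^ k ⊔ J ^ (k + n) := by
    intro n
    induction n with
    | zero => exact Submodule.mem_sup_right hx
    | succ n ihn =>
      obtain ⟨y, hy, z, hz, rfl⟩ := Submodule.mem_sup.mp ihn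
      have hfz : fs[i] * z ∈ Ideal.ofList (fs.take i) * J ^ k := by
        have : fs[i] * z = fs[i] * (y + z) - fs[i] * y := by ring
        rw [this]
        exact sub_mem hfx (Ideal.mul_mem_left _ _ hy)
      have hfz2 : fs[i] * z ∈ J ^ (k + n) := Ideal.mul_mem_left _ _ hz
      have h1 := AR J fs H i (le_of_lt h) k n _ hfz hfz2
      have h2 := H (k + n) i h z hz h1
      obtain ⟨z1, hz1, z2, hz2, rfl⟩ := Submodule.mem_sup.mp h2
      have h3 : y + (z1 + z2) = (y + z1) + z2 := by ring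
      rw [h3]
      refine Submodule.add_mem_sup (add_mem hy ?_) hz2
      exact Ideal.mul_mono_right (pow_le_pow' J _ _ (by omega)) hz1
  intro n
  exact sup_le_sup_left (pow_le_pow' J _ _ (by omega)) _ (key n)

theorem weaklyRegular_sub (N : Ideal A) (fs : List A)
    (h : ∀ (i : ℕ) (hi : i < fs.length), ∀ x ∈ N,
      fs[i] * x ∈ Ideal.ofList (fs.take i) * N → x ∈ Ideal.ofList (fs.take i) * N) :
    IsWeaklyRegular ↥N fs := by
  rw [isWeaklyRegular_iff]
  intro i hi
  rw [isSMulRegular_quotient_iff_mem_of_smul_mem]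
  intro x hx
  rw [Submodule.mem_smul_top_iff] at hx ⊢
  have h1 := h i hi x.1 x.2 (by simpa [smul_eq_mul] using hx)
  simpa [smul_eq_mul] using h1

theorem hyp_of_weaklyRegular_quot (N J : Ideal A) (fs : List A)
    (h : IsWeaklyRegular (↥N ⧸ (J • ⊤ : Submodule A ↥N)) fs) (i : ℕ) (hi : i < fs.length)
    (x : A) (hx : x ∈ N)
    (hfx : fs[i] * x ∈ Ideal.ofList (fs.take i) * N ⊔ J * N) :
    x ∈ Ideal.ofList (fs.take i) * N ⊔ J * N := by
  set I := Ideal.ofList (fs.take i) with hI
  have key : ∀ y : ↥N, (Submodule.mkQ (J • ⊤ : Submodule A ↥N) y ∈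
      (I • ⊤ : Submodule A (↥N ⧸ (J • ⊤ : Submodule A ↥N)))) ↔ (y : A) ∈ I * N ⊔ J * N := by
    intro y
    have e1 : (I • ⊤ : Submodule A (↥N ⧸ (J • ⊤ : Submodule A ↥N))) =
        Submodule.map (Submodule.mkQ (J • ⊤ : Submodule A ↥N)) (I • ⊤) := by
      rw [Submodule.map_smul'', Submodule.map_top, Submodule.range_mkQ]
    rw [e1, ← Submodule.mem_comap, Submodule.comap_map_mkQ, ← Submodule.sup_smul,
      Submodule.mem_smul_top_iff, smul_eq_mul, Ideal.sup_mul, sup_comm]
  have hreg := (isSMulRegular_quotient_iff_mem_of_smul_mem _ _).mp (h.regular_mod_prev i hi)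
    (Submodule.mkQ (J • ⊤ : Submodule A ↥N) ⟨x, hx⟩) (by
      rw [← map_smul, key]
      simpa [smul_eq_mul] using hfx)
  rwa [key] at hreg

end Core

open TensorProduct in
/-- In the local algebraic form to which its proof reduces. Let A be a Noetherian local ring, J a proper
ideal such that A is normally flat along J, i.e. every J^k/J^{k+1} is a flat (equivalently free)
A/J-module, and f_1, …, f_r elements of A whose images form a weakly regular sequence on A/J (each
f_i a non-zero-divisor on A/J modulo the preceding ones). Then for every k ≥ 0 the f_i form a weakly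
regular sequence on the A-module J^k and on the A-module J^k/J^{k+1}; in particular (k = 0) on A
itself, so that they are regular on the Rees algebra ⊕ J^k and on the associated graded ring ⊕
J^k/J^{k+1}. -/
theorem result (A : Type u) [CommRing A] [IsLocalRing A] [IsNoetherianRing A] (J : Ideal A) (hJ : J ≠ ⊤) (hflat : ∀ k : ℕ, Module.Flat (A ⧸ J) (↥(J ^ k) ⧸ (J • (⊤ : Submodule A ↥(J ^ k))))) (fs : List A) (hreg : RingTheory.Sequence.IsWeaklyRegular (A ⧸ J) fs) (k : ℕ) : RingTheory.Sequence.IsWeaklyRegular (↥(J ^ k)) fs ∧ RingTheory.Sequence.IsWeaklyRegular (↥(J ^ k) ⧸ (J • (⊤ : Submodule A ↥(J ^ k)))) fs := by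
  have hG : ∀ m : ℕ, IsWeaklyRegular (↥(J ^ m) ⧸ (J • (⊤ : Submodule A ↥(J ^ m)))) fs := by
    intro m
    have := hflat m
    have h1 : IsWeaklyRegular (A ⧸ J) (fs.map (algebraMap A (A ⧸ J))) :=
      (isWeaklyRegular_map_algebraMap_iff (A ⧸ J) (A ⧸ J) fs).mpr hreg
    have h2 := h1.isWeaklyRegular_rTensor
      (M₂ := ↥(J ^ m) ⧸ (J • (⊤ : Submodule A ↥(J ^ m))))
    have h3 := ((TensorProduct.lid (A ⧸ J)
      (↥(J ^ m) ⧸ (J • (⊤ : Submodule A ↥(J ^ m))))).isWeaklyRegular_congr _).mp h2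
    exact (isWeaklyRegular_map_algebraMap_iff (A ⧸ J) _ fs).mp h3
  refine ⟨?_, hG k⟩
  have H : Hyp J fs := by
    intro m i hi x hx hfx
    have h1 := hyp_of_weaklyRegular_quot (J ^ m) J fs (hG m) i hi x hx
      (by rwa [← pow_succ'])
    rwa [← pow_succ'] at h1
  exact weaklyRegular_sub (J ^ k) fs (fun i hi x hx hfx => G J fs hJ H k i hi x hx hfx)

end Groth.Agent.S5182
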