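import Groth.Statements.S5205
import Groth.Agent.S5204
-- import your own Groth.Agent.* helpers here

set_option autoImplicit false
open CategoryTheory CategoryTheory.Limits
universe w v₁ u₁
open DescCat

namespace Groth.Agent.S5205

/-- First assertion: in a category with pullbacks: universal effective epimorphisms (morphisms all of
whose base changes are effective epimorphisms) are stable under composition. -/
theorem result {C : Type u₁} [Category.{v₁} C] [HasPullbacks C]
    {U T S : C} (v : U ⟶ T) (u : T ⟶ S)
    (hu : (MorphismProperty.universally (fun (A B : C) (p : A ⟶ B) => EffectiveEpi p)) u) (hv : (MorphismProperty.universally (fun (A B : C) (p : A ⟶ B) => EffectiveEpi p)) v) :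
    (MorphismProperty.universally (fun (A B : C) (p : A ⟶ B) => EffectiveEpi p)) (v ≫ u) := by
  intro X' Y' i₁ i₂ f' H
  have t : IsPullback (pullback.fst i₂ u) (pullback.snd i₂ u) i₂ u := IsPullback.of_hasPullback i₂ u
  have H' := IsPullback.of_right' H t
  have hf' : f' = t.lift f' (i₁ ≫ v) (by rw [H.w, Category.assoc]) ≫ pullback.fst i₂ u :=
    (t.lift_fst _ _ _).symm
  have hu' : EffectiveEpi (pullback.fst i₂ u) := hu _ _ _ t
  have hv'u : (MorphismProperty.universally (fun (A B : C) (p : A ⟶ B) => EffectiveEpi p))
      (t.lift f' (i₁ ≫ v) (by rw [H.w, Category.assoc])) :=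
    MorphismProperty.of_isPullback H'.flip hv
  have hv' : EffectiveEpi (t.lift f' (i₁ ≫ v) (by rw [H.w, Category.assoc])) :=
    MorphismProperty.universally_le _ _ hv'u
  have hv'epi : MorphismProperty.universally (MorphismProperty.epimorphisms C)
      (t.lift f' (i₁ ≫ v) (by rw [H.w, Category.assoc])) := by
    refine MorphismProperty.universally_mono ?_ _ hv'u
    intro A B p (hp : EffectiveEpi p)
    exact (inferInstance : Epi p)
  rw [hf']
  exact Groth.Agent.S5204.result _ _ hv'epi

end Groth.Agent.S5205
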