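import Groth.Statements.S5206
import Mathlib
-- import your own Groth.Agent.* helpers here

set_option autoImplicit false
open CategoryTheory CategoryTheory.Limits
universe w v₁ u₁
open DescCat

namespace Groth.Agent.S5206

theorem effectiveEpi_of_comp {C : Type u₁} [Category.{v₁} C] [HasPullbacks C]
    {X'' X' Y' : C} (a : X'' ⟶ X') (b : X' ⟶ Y')
    (h : (MorphismProperty.universally (fun (A B : C) (p : A ⟶ B) => EffectiveEpi p)) (a ≫ b)) :
    EffectiveEpi b := by
  haveI hab : EffectiveEpi (a ≫ b) := MorphismProperty.universally_le _ _ h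
  haveI hπ : EffectiveEpi (pullback.fst b (a ≫ b)) :=
    h _ _ _ (IsPullback.of_hasPullback b (a ≫ b))
  have key : ∀ {W : C} (e : X' ⟶ W)
      (he : ∀ {Z : C} (g₁ g₂ : Z ⟶ X'), g₁ ≫ b = g₂ ≫ b → g₁ ≫ e = g₂ ≫ e),
      ∀ {Z : C} (g₁ g₂ : Z ⟶ X''), g₁ ≫ a ≫ b = g₂ ≫ a ≫ b → g₁ ≫ a ≫ e = g₂ ≫ a ≫ e := by
    intro W e he Z g₁ g₂ hg
    have := he (g₁ ≫ a) (g₂ ≫ a) (by simpa using hg)
    simpa using this
  refine ⟨⟨{
    desc := fun e he ↦ EffectiveEpi.desc (a ≫ b) (a ≫ e) (key e @he)
    fac := fun e he ↦ by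
      rw [← cancel_epi (pullback.fst b (a ≫ b))]
      have c : pullback.fst b (a ≫ b) ≫ b = pullback.snd b (a ≫ b) ≫ a ≫ b := pullback.condition
      have h1 := he (pullback.fst b (a ≫ b)) (pullback.snd b (a ≫ b) ≫ a) (by simpa using c)
      rw [h1, reassoc_of% c]
      have h2 : (a ≫ b) ≫ EffectiveEpi.desc (a ≫ b) (a ≫ e) (key e @he) = a ≫ e :=
        EffectiveEpi.fac _ _ _
      rw [Category.assoc] at h2
      rw [h2, Category.assoc]
    uniq := fun e he m hm ↦ by
      apply EffectiveEpi.uniq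
      rw [Category.assoc, hm] }⟩⟩

/-- Second assertion: in a category with pullbacks: if `v ≫ u` is a universal effective epimorphism (all
base changes are effective epimorphisms), then so is `u`; nothing is assumed about `v`. -/
theorem result {C : Type u₁} [Category.{v₁} C] [HasPullbacks C]
    {U T S : C} (v : U ⟶ T) (u : T ⟶ S)
    (h : (MorphismProperty.universally (fun (A B : C) (p : A ⟶ B) => EffectiveEpi p)) (v ≫ u)) :
    (MorphismProperty.universally (fun (A B : C) (p : A ⟶ B) => EffectiveEpi p)) u := by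
  intro X' Y' i₁ i₂ f' H
  have t : IsPullback (pullback.fst i₁ v) (pullback.snd i₁ v) i₁ v := IsPullback.of_hasPullback i₁ v
  have H' : IsPullback (pullback.fst i₁ v ≫ f') (pullback.snd i₁ v) i₂ (v ≫ u) := t.paste_horiz H
  apply effectiveEpi_of_comp (pullback.fst i₁ v) f'
  exact MorphismProperty.of_isPullback H'.flip h

end Groth.Agent.S5206
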