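import Groth.Statements.S5208
import Mathlib
-- import your own Groth.Agent.* helpers here

set_option autoImplicit false
open CategoryTheory CategoryTheory.Limits
universe w v₁ u₁
open DescCat

namespace Groth.Agent.S5208

/-- The strong form established in its proof: if `u : T ⟶ S` admits a section and `T ×_S T` exists, then
for every presheaf of sets `F` the diagram `F(S) → F(T) ⇉ F(T ×_S T)` is exact. In particular `u` is
an effective epimorphism. -/
theorem result {C : Type u₁} [Category.{v₁} C]
    {T S : C} (u : T ⟶ S) [IsSplitEpi u] [HasPullback u u] (F : Cᵒᵖ ⥤ Type w) :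
    Function.Injective (F.map u.op) ∧
      ∀ y : F.obj (Opposite.op T),
        F.map (pullback.fst u u).op y = F.map (pullback.snd u u).op y →
          y ∈ Set.range (F.map u.op) := by
  have hsu : section_ u ≫ u = 𝟙 S := IsSplitEpi.id u
  constructor
  · intro a b hab
    have := congrArg (F.map (section_ u).op) hab
    simp only [← FunctorToTypes.map_comp_apply, ← op_comp, hsu] at this
    simpa using this
  · intro y hy
    refine ⟨F.map (section_ u).op y, ?_⟩
    let d : T ⟶ pullback u u := pullback.lift (𝟙 T) (u ≫ section_ u) (by
      rw [Category.id_comp, Category.assoc, hsu, Category.comp_id])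
    have h1 : d ≫ pullback.fst u u = 𝟙 T := pullback.lift_fst _ _ _
    have h2 : d ≫ pullback.snd u u = u ≫ section_ u := pullback.lift_snd _ _ _
    have := congrArg (F.map d.op) hy
    simp only [← FunctorToTypes.map_comp_apply, ← op_comp, h1, h2] at this
    simp only [op_id, FunctorToTypes.map_id_apply] at this
    refine Eq.trans ?_ this.symm
    simp only [op_comp, FunctorToTypes.map_comp_apply]

end Groth.Agent.S5208
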