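import Groth.Statements.S5209
import Groth.Agent.Lib.Helper57.UnivEffEpi

set_option autoImplicit false
open CategoryTheory CategoryTheory.Limits
universe w v₁ u₁
open DescCat

namespace Groth.Agent.S5209

open Groth.Agent.Lib.Helper57

/-- In a category with pullbacks, let `f : S' ⟶ S` be a universal effective epimorphism, that is, a
morphism all of whose base changes are effective epimorphisms. Then a morphism `g` over `S` is an
isomorphism (resp. a monomorphism) if and only if its base change along `f` is. -/
theorem result {C : Type u₁} [Category.{v₁} C] [HasPullbacks C]
    {S' S : C} (f : S' ⟶ S) (hf : (MorphismProperty.universally (fun (A B : C) (p : A ⟶ B) => EffectiveEpi p)) f) {X Y : Over S} (g : X ⟶ Y) :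
    (IsIso g ↔ IsIso ((Over.pullback f).map g)) ∧ (Mono g ↔ Mono ((Over.pullback f).map g)) := by
  have hmono : Mono ((Over.pullback f).map g) → Mono g := by
    intro h
    have h1 : Mono ((Over.pullback f).map g).left := inferInstance
    have h2 : Mono g.left := by
      have := mono_of_mono_pullback_lift hf X.hom Y.hom g.left (Over.w g)
        (hm := by simpa using h1)
      exact this
    exact Over.mono_of_mono_left g
  refine ⟨⟨fun h => inferInstance, fun h => ?_⟩, ⟨fun h => inferInstance, hmono⟩⟩
  have hm : Mono g := hmono inferInstance
  have hml : Mono g.left := inferInstance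
  have : EffectiveEpi (pullback.fst Y.hom f) := UE.effectiveEpi_fst hf _
  have hl : IsIso ((Over.pullback f).map g).left :=
    inferInstanceAs (IsIso ((Over.forget _).map ((Over.pullback f).map g)))
  have : IsIso ((Over.forget _).map g) := by
    refine isIso_of_mono_of_effectiveEpi_fac (pullback.fst Y.hom f) g.left
      (inv ((Over.pullback f).map g).left ≫ pullback.fst X.hom f) ?_
    rw [Category.assoc, IsIso.inv_comp_eq]
    simp [pullback.lift_fst]
  exact isIso_of_reflects_iso g (Over.forget _)

end Groth.Agent.S5209
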