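import Groth.Statements.S5210
import Groth.Agent.Lib.Helper57.UnivEffEpi

set_option autoImplicit false
open CategoryTheory CategoryTheory.Limits
universe w v₁ u₁
open DescCat

namespace Groth.Agent.S5210

open Groth.Agent.Lib.Helper57

/-- In a category with pullbacks, let `f : S' ⟶ S` be a universal effective epimorphism (all of its base
changes are effective epimorphisms) and `Y ⟶ S` a monomorphism. Then an object `X` over `S` admits a
morphism to `Y` over `S` if and only if it does so after base change along `f`. -/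
theorem result {C : Type u₁} [Category.{v₁} C] [HasPullbacks C]
    {S' S : C} (f : S' ⟶ S) (hf : (MorphismProperty.universally (fun (A B : C) (p : A ⟶ B) => EffectiveEpi p)) f) (X Y : Over S) [Mono Y.hom] :
    Nonempty (X ⟶ Y) ↔ Nonempty ((Over.pullback f).obj X ⟶ (Over.pullback f).obj Y) := by
  refine ⟨fun ⟨φ⟩ => ⟨(Over.pullback f).map φ⟩, fun ⟨φ⟩ => ?_⟩
  have : EffectiveEpi (pullback.fst X.hom f) := UE.effectiveEpi_fst hf _
  have hφ : φ.left ≫ pullback.snd Y.hom f = pullback.snd X.hom f := by
    simpa using Over.w φ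
  have he : (φ.left ≫ pullback.fst Y.hom f) ≫ Y.hom = pullback.fst X.hom f ≫ X.hom := by
    rw [Category.assoc, pullback.condition, ← Category.assoc, hφ, pullback.condition]
  let k : X.left ⟶ Y.left := EffectiveEpi.desc (pullback.fst X.hom f)
    (φ.left ≫ pullback.fst Y.hom f) (by
      intro Z g₁ g₂ h
      rw [← cancel_mono Y.hom]
      calc (g₁ ≫ φ.left ≫ pullback.fst Y.hom f) ≫ Y.hom
          = g₁ ≫ (φ.left ≫ pullback.fst Y.hom f) ≫ Y.hom := by simp
        _ = g₂ ≫ (φ.left ≫ pullback.fst Y.hom f) ≫ Y.hom := by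
            rw [he, ← Category.assoc, h, Category.assoc]
        _ = (g₂ ≫ φ.left ≫ pullback.fst Y.hom f) ≫ Y.hom := by simp)
  refine ⟨Over.homMk k ?_⟩
  rw [← cancel_epi (pullback.fst X.hom f), ← Category.assoc, EffectiveEpi.fac, he]

end Groth.Agent.S5210
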