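import Groth.Statements.S5211
import Groth.Agent.Lib.Helper57.UnivEffEpi

set_option autoImplicit false
open CategoryTheory CategoryTheory.Limits
universe w v₁ u₁
open DescCat

namespace Groth.Agent.S5211

open Groth.Agent.Lib.Helper57

/-- In a category with pullbacks: if `f : S' ⟶ S` is a universal effective epimorphism and the canonical
map `S' ×_S S' ⟶ S' ×_T S'` induced by `g : S ⟶ T` is an isomorphism, then `g` is a monomorphism. -/
theorem result {C : Type u₁} [Category.{v₁} C] [HasPullbacks C]
    {S' S T : C} (f : S' ⟶ S) (hf : (MorphismProperty.universally (fun (A B : C) (p : A ⟶ B) => EffectiveEpi p)) f) (g : S ⟶ T)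
    [IsIso (pullback.mapDesc f f g)] : Mono g := by
  refine mono_of_forall_coequalized hf g ?_
  intro W s₁ s₂ h
  let l : W ⟶ pullback (f ≫ g) (f ≫ g) := pullback.lift s₁ s₂ (by simpa using h)
  have h1 : inv (pullback.mapDesc f f g) ≫ pullback.fst f f = pullback.fst (f ≫ g) (f ≫ g) := by
    rw [IsIso.inv_comp_eq]; simp [pullback.lift_fst]
  have h2 : inv (pullback.mapDesc f f g) ≫ pullback.snd f f = pullback.snd (f ≫ g) (f ≫ g) := by
    rw [IsIso.inv_comp_eq]; simp [pullback.lift_snd]
  have e1 : s₁ = (l ≫ inv (pullback.mapDesc f f g)) ≫ pullback.fst f f := by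
    rw [Category.assoc, h1]; simp [l, pullback.lift_fst]
  have e2 : s₂ = (l ≫ inv (pullback.mapDesc f f g)) ≫ pullback.snd f f := by
    rw [Category.assoc, h2]; simp [l, pullback.lift_snd]
  rw [e1, e2, Category.assoc, Category.assoc, pullback.condition]
  simp only [Category.assoc]

end Groth.Agent.S5211
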