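import Groth.Statements.S5212
import Mathlib.RingTheory.LocalRing.ResidueField.Fiber
import Mathlib.LinearAlgebra.Charpoly.BaseChange
import Mathlib.RingTheory.TensorProduct.Free
import Mathlib.RingTheory.TensorProduct.Finite

set_option autoImplicit false
universe u
open GrpQ

namespace Groth.Agent.S5212

open TensorProduct

theorem isUnit_norm_iff {R S : Type*} [CommRing R] [CommRing S] [Algebra R S]
    [Module.Free R S] [Module.Finite R S] (x : S) : IsUnit (Algebra.norm R x) ↔ IsUnit x := by
  refine ⟨fun h => ?_, fun h => h.map (Algebra.norm R)⟩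
  rw [Algebra.norm_apply, ← LinearMap.isUnit_iff_isUnit_det] at h
  obtain ⟨g, hg⟩ := h.exists_right_inv
  have := congrArg (fun t => t 1) hg
  simp only [Module.End.mul_apply, Module.End.one_apply] at this
  exact IsUnit.of_mul_eq_one _ this

theorem norm_baseChange {A A' : Type*} (κ : Type*) [CommRing A] [CommRing A'] [Algebra A A']
    [CommRing κ] [Algebra A κ] [Module.Free A A'] [Module.Finite A A'] (a : A') :
    Algebra.norm κ ((1 : κ) ⊗ₜ[A] a) = algebraMap A κ (Algebra.norm A a) := by
  rw [Algebra.norm_apply, Algebra.norm_apply, ← LinearMap.det_baseChange]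
  congr 1
  ext x
  simp

/-- For `A'` finite and free as an `A`-module, a prime `p` of `A` and `a ∈ A'`, the element `a` belongs
to some prime of `A'` lying over `p` if and only if its norm belongs to `p`. (The published
statement allows `A'` projective of constant rank over `A`; this row takes `A'` free, where the norm
is the determinant of multiplication.) -/
theorem result {A A' : Type u} [CommRing A] [CommRing A'] [Algebra A A']
    [Module.Free A A'] [Module.Finite A A'] (p : Ideal A) [p.IsPrime] (a : A') :
    (∃ q : Ideal A', q.IsPrime ∧ q.LiesOver p ∧ a ∈ q) ↔ Algebra.norm A a ∈ p := by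
  have h1 : Algebra.norm A a ∈ p ↔
      ¬ IsUnit ((1 : p.ResidueField) ⊗ₜ[A] a : p.Fiber A') := by
    rw [← isUnit_norm_iff (R := p.ResidueField), norm_baseChange, isUnit_iff_ne_zero, not_not,
      Ideal.algebraMap_residueField_eq_zero]
  rw [h1]
  constructor
  · rintro ⟨q, hq, hqp, haq⟩ hu
    let Q := PrimeSpectrum.primesOverOrderIsoFiber A A' p ⟨q, hq, hqp⟩
    have hQ : (PrimeSpectrum.primesOverOrderIsoFiber A A' p).symm Q = ⟨q, hq, hqp⟩ :=
      OrderIso.symm_apply_apply _ _
    have hq' : q = Q.1.comap Algebra.TensorProduct.includeRight := by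
      have := congrArg Subtype.val hQ
      rw [PrimeSpectrum.coe_primesOverOrderIsoFiber_symm_apply] at this
      exact this.symm
    have hmem : ((1 : p.ResidueField) ⊗ₜ[A] a : p.Fiber A') ∈ Q.1 := by
      rw [hq'] at haq
      simpa using haq
    exact Q.2.ne_top (Ideal.eq_top_of_isUnit_mem _ hmem hu)
  · intro hu
    obtain ⟨M, hM, haM⟩ := exists_max_ideal_of_mem_nonunits hu
    let Q : PrimeSpectrum (p.Fiber A') := ⟨M, hM.isPrime⟩
    let q := (PrimeSpectrum.primesOverOrderIsoFiber A A' p).symm Q
    refine ⟨q.1, q.2.1, q.2.2, ?_⟩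
    rw [PrimeSpectrum.coe_primesOverOrderIsoFiber_symm_apply]
    simpa using haM

end Groth.Agent.S5212
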