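import Groth.Statements.S5215
import Groth.Agent.Lib.Helper57.UnivEffEpi

set_option autoImplicit false
open CategoryTheory CategoryTheory.Limits
universe w v₁ u₁
open DescCat

namespace Groth.Agent.S5215

open Groth.Agent.Lib.Helper57

/-- In a category with pullbacks: for a universally effective equivalence relation `p₁, p₂ : R ⇉ X` with
quotient map `π : X ⟶ X/R` and a morphism `g` out of the quotient, `g` is a monomorphism if and only
if `R` is the kernel pair of `π ≫ g`. -/
theorem result {C : Type u₁} [Category.{v₁} C] [HasPullbacks C]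
    {R X Z : C} {p₁ p₂ : R ⟶ X} (e : UniversallyEffectiveEquivalenceRelation p₁ p₂)
    (f : X ⟶ Z) (g : e.B ⟶ Z) (hg : e.π ≫ g = f) :
    Mono g ↔ IsKernelPair f p₁ p₂ := by
  subst hg
  refine ⟨fun h => e.isKernelPair.comp_of_mono, fun h => ?_⟩
  refine mono_of_forall_coequalized e.universally_effectiveEpi_π g ?_
  intro W s₁ s₂ hs
  have h1 : h.lift s₁ s₂ hs ≫ p₁ = s₁ := by simp
  have h2 : h.lift s₁ s₂ hs ≫ p₂ = s₂ := by simp
  calc s₁ ≫ e.π = (h.lift s₁ s₂ hs ≫ p₁) ≫ e.π := by rw [h1]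
    _ = (h.lift s₁ s₂ hs ≫ p₂) ≫ e.π := by
      rw [Category.assoc, Category.assoc, e.isKernelPair.w]
    _ = s₂ ≫ e.π := by rw [h2]

end Groth.Agent.S5215
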