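import Groth.Statements.S5220
import Mathlib.CategoryTheory.MorphismProperty.Limits

set_option autoImplicit false
open CategoryTheory CategoryTheory.Limits
universe w v₁ u₁
open GrpQ

namespace Groth.Agent.S5220

/-- In a category with pullbacks: let `d₀ d₁ : X₁ ⇉ X₀` admit a common section and let `f₀ : Y₀ ⟶ X₀` be
an effective epimorphism which is also a universal epimorphism. For the inverse-image pair `Y₁ :=
(Y₀ ×_{X₀,d₁} X₁) ×_{d₀,X₀} Y₀ ⇉ Y₀`, every morphism out of `Y₀` equalized by the two projections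
descends uniquely to a morphism out of `X₀` equalized by `d₀, d₁`. (Only the common section of the
groupoid structure is used.) -/
theorem result {C : Type u₁} [Category.{v₁} C] [HasPullbacks C]
    {X₁ X₀ Y₀ : C} (d₀ d₁ : X₁ ⟶ X₀) (s : X₀ ⟶ X₁) (hs₀ : s ≫ d₀ = 𝟙 X₀) (hs₁ : s ≫ d₁ = 𝟙 X₀)
    (f₀ : Y₀ ⟶ X₀) [EffectiveEpi f₀]
    (hf : MorphismProperty.universally (MorphismProperty.epimorphisms C) f₀)
    {T : C} (g : Y₀ ⟶ T)
    (hg : (pullback.fst (pullback.snd f₀ d₁ ≫ d₀) f₀ ≫ pullback.fst f₀ d₁) ≫ g =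
      pullback.snd (pullback.snd f₀ d₁ ≫ d₀) f₀ ≫ g) :
    ∃! h : X₀ ⟶ T, d₁ ≫ h = d₀ ≫ h ∧ f₀ ≫ h = g := by
  set_option backward.isDefEq.respectTransparency false in
  have hg' : ∀ {Z : C} (a b : Z ⟶ Y₀), a ≫ f₀ = b ≫ f₀ → a ≫ g = b ≫ g := by
    intro Z a b hab
    let l₁ : Z ⟶ pullback f₀ d₁ := pullback.lift a (a ≫ f₀ ≫ s) (by simp [hs₁])
    let l : Z ⟶ pullback (pullback.snd f₀ d₁ ≫ d₀) f₀ :=
      pullback.lift l₁ b (by simp [l₁, hs₀, hab])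
    have := congrArg (fun t => l ≫ t) hg
    simpa [l, l₁] using this
  have e1 : Epi (pullback.snd f₀ d₁) :=
    hf _ _ _ (IsPullback.of_hasPullback f₀ d₁).flip
  have e2 : Epi (pullback.fst (pullback.snd f₀ d₁ ≫ d₀) f₀) :=
    hf _ _ _ (IsPullback.of_hasPullback (pullback.snd f₀ d₁ ≫ d₀) f₀)
  refine ⟨EffectiveEpi.desc f₀ g hg', ⟨?_, EffectiveEpi.fac f₀ g hg'⟩, ?_⟩
  · rw [← cancel_epi (pullback.snd f₀ d₁),
      ← cancel_epi (pullback.fst (pullback.snd f₀ d₁ ≫ d₀) f₀)]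
    have h1 : pullback.fst (pullback.snd f₀ d₁ ≫ d₀) f₀ ≫ pullback.snd f₀ d₁ ≫ d₁ ≫
        EffectiveEpi.desc f₀ g hg' =
        (pullback.fst (pullback.snd f₀ d₁ ≫ d₀) f₀ ≫ pullback.fst f₀ d₁) ≫ g := by
      rw [← pullback.condition_assoc, EffectiveEpi.fac, Category.assoc]
    have h2 : pullback.fst (pullback.snd f₀ d₁ ≫ d₀) f₀ ≫ pullback.snd f₀ d₁ ≫ d₀ ≫
        EffectiveEpi.desc f₀ g hg' = pullback.snd (pullback.snd f₀ d₁ ≫ d₀) f₀ ≫ g := by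
      have := pullback.condition (f := pullback.snd f₀ d₁ ≫ d₀) (g := f₀)
      rw [reassoc_of% this, EffectiveEpi.fac]
    rw [h1, h2, hg]
  · rintro h' ⟨-, h2⟩
    rw [← cancel_epi f₀, h2, EffectiveEpi.fac]

end Groth.Agent.S5220
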