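import Groth.Statements.S5221
import Groth.Agent.S5220

set_option autoImplicit false
open CategoryTheory CategoryTheory.Limits
universe w v₁ u₁
open GrpQ

namespace Groth.Agent.S5221

theorem comp_coequalizes {C : Type u₁} [Category.{v₁} C] [HasPullbacks C]
    {X₁ X₀ Y₀ : C} (d₀ d₁ : X₁ ⟶ X₀) (f₀ : Y₀ ⟶ X₀) {T : C} (h : X₀ ⟶ T)
    (hh : d₁ ≫ h = d₀ ≫ h) :
    (pullback.fst (pullback.snd f₀ d₁ ≫ d₀) f₀ ≫ pullback.fst f₀ d₁) ≫ f₀ ≫ h =
      pullback.snd (pullback.snd f₀ d₁ ≫ d₀) f₀ ≫ f₀ ≫ h := by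
  have := pullback.condition (f := pullback.snd f₀ d₁ ≫ d₀) (g := f₀)
  rw [Category.assoc, pullback.condition_assoc, hh, ← reassoc_of% this]

/-- Existence part: in a category with pullbacks: with `d₀ d₁ : X₁ ⇉ X₀` admitting a common section and
`f₀ : Y₀ ⟶ X₀` an effective and universal epimorphism, the pair `(d₀, d₁)` has a coequalizer if and
only if its inverse-image pair on `Y₀` has one. -/
theorem result {C : Type u₁} [Category.{v₁} C] [HasPullbacks C]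
    {X₁ X₀ Y₀ : C} (d₀ d₁ : X₁ ⟶ X₀) (s : X₀ ⟶ X₁) (hs₀ : s ≫ d₀ = 𝟙 X₀) (hs₁ : s ≫ d₁ = 𝟙 X₀)
    (f₀ : Y₀ ⟶ X₀) [EffectiveEpi f₀]
    (hf : MorphismProperty.universally (MorphismProperty.epimorphisms C) f₀) :
    HasCoequalizer d₁ d₀ ↔
      HasCoequalizer (pullback.fst (pullback.snd f₀ d₁ ≫ d₀) f₀ ≫ pullback.fst f₀ d₁)
        (pullback.snd (pullback.snd f₀ d₁ ≫ d₀) f₀) := by
  have hepi : Epi f₀ := inferInstance
  constructor
  · intro H
    have w : (pullback.fst (pullback.snd f₀ d₁ ≫ d₀) f₀ ≫ pullback.fst f₀ d₁) ≫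
        f₀ ≫ coequalizer.π d₁ d₀ =
        pullback.snd (pullback.snd f₀ d₁ ≫ d₀) f₀ ≫ f₀ ≫ coequalizer.π d₁ d₀ :=
      comp_coequalizes d₀ d₁ f₀ _ (coequalizer.condition d₁ d₀)
    refine ⟨⟨⟨Cofork.ofπ (f₀ ≫ coequalizer.π d₁ d₀) w,
      Cofork.IsColimit.ofExistsUnique ?_⟩⟩⟩
    intro c
    obtain ⟨h, ⟨hh1, hh2⟩, huniq⟩ :=
      Groth.Agent.S5220.result d₀ d₁ s hs₀ hs₁ f₀ hf c.π c.condition
    refine ⟨coequalizer.desc h hh1, ?_, ?_⟩
    · change (Cofork.ofπ (f₀ ≫ coequalizer.π d₁ d₀) w).π ≫ coequalizer.desc h hh1 = c.π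
      simp [hh2]
    · intro m hm
      refine coequalizer.hom_ext (f := d₁) (g := d₀) ?_
      rw [coequalizer.π_desc]
      apply huniq
      refine ⟨?_, ?_⟩
      · rw [coequalizer.condition_assoc]
      · simpa using hm
  · intro H
    obtain ⟨p, ⟨hp1, hp2⟩, -⟩ :=
      Groth.Agent.S5220.result d₀ d₁ s hs₀ hs₁ f₀ hf (coequalizer.π _ _)
        (coequalizer.condition
          (pullback.fst (pullback.snd f₀ d₁ ≫ d₀) f₀ ≫ pullback.fst f₀ d₁)
          (pullback.snd (pullback.snd f₀ d₁ ≫ d₀) f₀))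
    refine ⟨⟨⟨Cofork.ofπ p hp1, Cofork.IsColimit.ofExistsUnique ?_⟩⟩⟩
    intro c
    have hc := comp_coequalizes d₀ d₁ f₀ c.π c.condition
    refine ⟨coequalizer.desc (f₀ ≫ c.π) hc, ?_, ?_⟩
    · change (Cofork.ofπ p hp1).π ≫ coequalizer.desc (f₀ ≫ c.π) hc = c.π
      rw [← cancel_epi f₀]
      simp only [Cofork.π_ofπ]
      rw [← Category.assoc, hp2, coequalizer.π_desc]
    · intro m hm
      refine coequalizer.hom_ext
        (f := pullback.fst (pullback.snd f₀ d₁ ≫ d₀) f₀ ≫ pullback.fst f₀ d₁)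
        (g := pullback.snd (pullback.snd f₀ d₁ ≫ d₀) f₀) ?_
      rw [coequalizer.π_desc, ← hp2, Category.assoc]
      simp only [Cofork.π_ofπ] at hm
      rw [hm]

end Groth.Agent.S5221
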