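import Groth.Statements.S5222
import Mathlib.CategoryTheory.Monoidal.Cartesian.Grp

set_option autoImplicit false
open CategoryTheory CategoryTheory.Limits MonoidalCategory
universe v₁ u₁
open DescCat

namespace Groth.Agent.S5222

open MonObj CartesianMonoidalCategory SemiCartesianMonoidalCategory

set_option backward.isDefEq.respectTransparency false in
theorem whisker_mul {C : Type u₁} [Category.{v₁} C] [CartesianMonoidalCategory C]
    {G K : C} [GrpObj G] (j : K ⟶ G) :
    (G ◁ j) ≫ μ[G] = fst G K * (snd G K ≫ j) := by
  rw [Hom.mul_def]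
  congr 1
  ext <;> simp

open MonObj CartesianMonoidalCategory SemiCartesianMonoidalCategory in
/-- In a cartesian monoidal category with pullbacks: for a homomorphism `f : G ⟶ G'` of group objects
with kernel `K = G ×_{G'} e`, the pair `G × K ⇉ G` given by the projection and by multiplication is
the kernel pair of `f`. -/
theorem result {C : Type u₁} [Category.{v₁} C]
    [CartesianMonoidalCategory C] [HasPullbacks C]
    {G G' : C} [GrpObj G] [GrpObj G'] (f : G ⟶ G') [IsMonHom f] :
    IsKernelPair f (fst G (pullback f η[G']))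
      ((G ◁ pullback.fst f η[G']) ≫ μ[G]) := by
  set_option backward.isDefEq.respectTransparency false in
  rw [whisker_mul]
  have hη : ∀ {T : C} (t : T ⟶ 𝟙_ C), t ≫ η[G'] = (1 : T ⟶ G') := by
    intro T t
    rw [Hom.one_def]
    congr 1
    exact toUnit_unique _ _
  refine IsPullback.mk' ?_ ?_ ?_
  · rw [MonObj.mul_comp, Category.assoc, pullback.condition, hη, MonObj.comp_one, _root_.mul_one]
  · intro T φ φ' h₁ h₂
    rw [MonObj.comp_mul, MonObj.comp_mul, h₁, mul_right_inj] at h₂
    have : φ ≫ snd G _ = φ' ≫ snd G _ := by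
      rw [← cancel_mono (pullback.fst f η[G'])]
      simpa using h₂
    exact CartesianMonoidalCategory.hom_ext _ _ h₁ this
  · intro T a b hab
    have hk : (a⁻¹ * b) ≫ f = toUnit T ≫ η[G'] := by
      rw [MonObj.mul_comp, GrpObj.inv_comp, hab, inv_mul_cancel, Hom.one_def]
    refine ⟨lift a (pullback.lift (a⁻¹ * b) (toUnit T) hk), by simp, ?_⟩
    rw [MonObj.comp_mul]
    simp

end Groth.Agent.S5222
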