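import Groth.Statements.S5225
import Groth.Agent.Lib.Helper5.QuotShEt
import Groth.Agent.Lib.Helper5.QuotSchemes

set_option autoImplicit false
open CategoryTheory CategoryTheory.Limits AlgebraicGeometry
universe u
open GrpQ

namespace Groth.Agent.S5225

/-- For the étale topology: let `s, t : R ⇉ U` be an equivalence relation of schemes over `S` with `s`
étale and surjective. A morphism `q : U ⟶ Y` over `S` is an étale surjective quotient with kernel
pair `R` if and only if `q` identifies `h_Y` with the étale quotient sheaf `U/R`. -/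
theorem result {S : Scheme.{u}} {R U Y : Over S} (s t : R ⟶ U)
    [IsEquivalenceRelation s t] [Etale s.left] [Surjective s.left]
    (q : U ⟶ Y) :
    (IsKernelPair q s t ∧ Etale q.left ∧ Surjective q.left) ↔
      QuotSh.IsQuotient Scheme.etalePrecoverage s t q := by
  constructor
  · rintro ⟨hk, h1, h2⟩
    haveI := Groth.Agent.Lib.Helper5.QuotShEt.epi_yon_map_of_etale q
    exact Groth.Agent.Lib.Helper5.QuotShK.isQuotient_of_isKernelPair_of_epi
      Scheme.etalePrecoverage s t q hk
  · intro hq
    obtain ⟨hk, hepi⟩ := Groth.Agent.Lib.Helper5.QuotShK.isKernelPair_of_isQuotient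
      Scheme.etalePrecoverage s t
      (Groth.Agent.Lib.Helper5.QuotSchemes.isEqvRel_of_isEquivalenceRelation s t) q hq
    haveI := hepi
    obtain ⟨R₀, hR₀, hl⟩ := Groth.Agent.Lib.Helper5.QuotShK.exists_local_lift_of_epi
      ((Groth.Agent.Lib.Helper5.QuotShK.yonK Scheme.etalePrecoverage S).map q) (𝟙 _)
    obtain ⟨ι, Yi, c, hc, hce, hcs⟩ :=
      Groth.Agent.Lib.Helper5.QuotShEt.exists_etale_family_of_mem_J R₀ hR₀
    choose x hx using fun i => hl (c i) (hc i)
    choose a ha using fun i =>
      (Groth.Agent.Lib.Helper5.QuotShK.yonK Scheme.etalePrecoverage S).map_surjective (x i)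
    have haq : ∀ i, a i ≫ q = c i := by
      intro i
      apply (Groth.Agent.Lib.Helper5.QuotShK.yonK Scheme.etalePrecoverage S).map_injective
      rw [Functor.map_comp, ha i, hx i, Category.comp_id]
    have hk' : IsPullback s.left t.left q.left q.left := hk.map (Over.forget S)
    obtain ⟨h1, h2⟩ := Groth.Agent.Lib.Helper5.QuotShEt.etale_surjective_of_local_sections
      s.left t.left q.left hk' (fun i => (Yi i).left) (fun i => (c i).left) hce hcs
      (fun i => (a i).left) (fun i => by rw [← Over.comp_left, haq i])
    exact ⟨hk, h1, h2⟩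

end Groth.Agent.S5225
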