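import Groth.Statements.S5226
import Groth.Agent.Lib.Helper57.SheafSets

set_option autoImplicit false
open CategoryTheory CategoryTheory.Limits
universe w v₁ u₁
open ShfCat

namespace Groth.Agent.S5226

/-- For sheaves of sets on a site with sheafification: if `R ⇉ X` is an equivalence relation with
(universally effective) quotient `X/R` and `Y ⊆ X` is a subsheaf with induced relation `R_Y`, then
the canonical map `Y/R_Y ⟶ X/R` is a monomorphism. Here `R_Y` is built as the iterated pullback of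
`R` along `Y ⟶ X` on both sides. -/
theorem result {C : Type u₁} [Category.{v₁} C]
    (J : GrothendieckTopology C) [HasSheafify J (Type w)]
    {R X Y : Sheaf J (Type w)} {p₁ p₂ : R ⟶ X} (e : UniversallyEffectiveEquivalenceRelation p₁ p₂)
    (ι : Y ⟶ X) [Mono ι]
    [HasCoequalizer (pullback.fst (pullback.fst p₁ ι ≫ p₂) ι ≫ pullback.snd p₁ ι)
      (pullback.snd (pullback.fst p₁ ι ≫ p₂) ι)]
    (g : coequalizer (pullback.fst (pullback.fst p₁ ι ≫ p₂) ι ≫ pullback.snd p₁ ι)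
      (pullback.snd (pullback.fst p₁ ι ≫ p₂) ι) ⟶ e.B)
    (hg : coequalizer.π _ _ ≫ g = ι ≫ e.π) :
    Mono g := by
  set_option backward.isDefEq.respectTransparency false in
  have hue := Groth.Agent.Lib.Helper57.ue_of_epi_sheaf J
    (coequalizer.π (pullback.fst (pullback.fst p₁ ι ≫ p₂) ι ≫ pullback.snd p₁ ι)
      (pullback.snd (pullback.fst p₁ ι ≫ p₂) ι))
  refine Groth.Agent.Lib.Helper57.mono_of_forall_coequalized hue g ?_
  intro W s₁ s₂ hs
  rw [hg] at hs
  have hs' : (s₁ ≫ ι) ≫ e.π = (s₂ ≫ ι) ≫ e.π := by simpa using hs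
  let l : W ⟶ R := e.isKernelPair.lift (s₁ ≫ ι) (s₂ ≫ ι) hs'
  have hl1 : l ≫ p₁ = s₁ ≫ ι := e.isKernelPair.lift_fst _ _ _
  have hl2 : l ≫ p₂ = s₂ ≫ ι := e.isKernelPair.lift_snd _ _ _
  let m₁ : W ⟶ pullback p₁ ι := pullback.lift l s₁ hl1
  let m : W ⟶ pullback (pullback.fst p₁ ι ≫ p₂) ι :=
    pullback.lift m₁ s₂ (by simp [m₁, hl2])
  have h1 : m ≫ (pullback.fst (pullback.fst p₁ ι ≫ p₂) ι ≫ pullback.snd p₁ ι) = s₁ := by
    simp [m, m₁]
  have h2 : m ≫ pullback.snd (pullback.fst p₁ ι ≫ p₂) ι = s₂ := by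
    simp [m]
  have hc := coequalizer.condition
    (pullback.fst (pullback.fst p₁ ι ≫ p₂) ι ≫ pullback.snd p₁ ι)
    (pullback.snd (pullback.fst p₁ ι ≫ p₂) ι)
  calc s₁ ≫ coequalizer.π _ _
      = m ≫ (pullback.fst (pullback.fst p₁ ι ≫ p₂) ι ≫ pullback.snd p₁ ι) ≫
          coequalizer.π _ _ := by rw [← Category.assoc, h1]
    _ = m ≫ pullback.snd (pullback.fst p₁ ι ≫ p₂) ι ≫ coequalizer.π _ _ := by rw [hc]
    _ = s₂ ≫ coequalizer.π _ _ := by rw [← Category.assoc, h2]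

end Groth.Agent.S5226
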