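import Groth.Statements.S5227
import Groth.Agent.Lib.Helper57.SheafSets
import Groth.Agent.Lib.Helper57.SubobjectDescent
import Mathlib.CategoryTheory.Sites.Subsheaf

set_option autoImplicit false
open CategoryTheory CategoryTheory.Limits
universe w v₁ u₁
open ShfCat

namespace Groth.Agent.S5227

/-- For sheaves of sets on a site with sheafification: for an equivalence relation `R ⇉ X` with
(universally effective) quotient `π : X ⟶ X/R`, inverse image along `π` is a bijection from the
subsheaves of `X/R` onto the subsheaves of `X` stable under `R` (those whose two inverse images in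
`R` agree). -/
theorem result {C : Type u₁} [Category.{v₁} C]
    (J : GrothendieckTopology C) [HasSheafify J (Type w)]
    {R X : Sheaf J (Type w)} {p₁ p₂ : R ⟶ X} (e : UniversallyEffectiveEquivalenceRelation p₁ p₂) :
    Function.Injective (Subobject.pullback e.π).obj ∧
      Set.range (Subobject.pullback e.π).obj =
        {Y : Subobject X | (Subobject.pullback p₁).obj Y = (Subobject.pullback p₂).obj Y} := by
  refine ⟨Groth.Agent.Lib.Helper57.subobject_pullback_injective e.universally_effectiveEpi_π, ?_⟩
  ext Y
  simp only [Set.mem_range, Set.mem_ofPred_eq]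
  constructor
  · rintro ⟨A, rfl⟩
    rw [← Subobject.pullback_comp, ← Subobject.pullback_comp, e.isKernelPair.w]
  · intro hY
    refine ⟨Subobject.mk (Sheaf.imageι (Y.arrow ≫ e.π)), ?_⟩
    exact Groth.Agent.Lib.Helper57.subobject_pullback_image_eq
      (fun _ _ _ _ _ _ _ _ H hg => by
        have := hg
        exact Groth.Agent.Lib.Helper57.epi_of_isPullback_sheaf J H)
      e.isKernelPair Y hY (Sheaf.toImage (Y.arrow ≫ e.π)) (Sheaf.imageι (Y.arrow ≫ e.π))
      (Sheaf.toImage_ι _)

end Groth.Agent.S5227
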