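import Groth.Statements.S5231
import Mathlib.CategoryTheory.Sites.Limits
import Mathlib.CategoryTheory.Limits.Constructions.EpiMono
import Mathlib.CategoryTheory.Limits.Preserves.Creates.Pullbacks

set_option autoImplicit false
open CategoryTheory
universe w v₁ u₁
open ShfCat

namespace Groth.Agent.S5231

open Opposite Limits

set_option backward.isDefEq.respectTransparency false in
theorem injective_app_of_mono {D : Type u₁} [Category.{v₁} D] (K : GrothendieckTopology D)
    {F G : Sheaf K (Type w)} (φ : F ⟶ G) [Mono φ] (Y : Dᵒᵖ) :
    Function.Injective (φ.hom.app Y) := by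
  have : PreservesLimitsOfShape WalkingCospan (sheafToPresheaf K (Type w)) := inferInstance
  have : (sheafToPresheaf K (Type w)).PreservesMonomorphisms :=
    preservesMonomorphisms_of_preservesLimitsOfShape _
  have h1 : Mono ((sheafToPresheaf K (Type w)).map φ) := inferInstance
  have h2 : Mono (φ.hom.app Y) := (NatTrans.mono_iff_mono_app _).1 h1 Y
  exact (mono_iff_injective _).1 h2

/-- (iii) ⇒ (i): a morphism `f` of sheaves of sets on a site is a monomorphism (resp. an epimorphism) as
soon as, for every object `S`, the morphisms `T ⟶ S` over which the restriction of `f` to the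
induced site `C/T` is a monomorphism (resp. an epimorphism) form a covering sieve. No sheafification
is assumed. (The published statement also treats isomorphisms in the same way; that case is left out
here.) -/
theorem result {C : Type u₁} [Category.{v₁} C]
    (J : GrothendieckTopology C) {F G : Sheaf J (Type w)} (f : F ⟶ G) :
    ((∀ S : C, ∃ R : Sieve S, R ∈ J S ∧ ∀ ⦃T : C⦄ (g : T ⟶ S), R g →
        Mono ((J.overPullback (Type w) T).map f)) → Mono f) ∧
    ((∀ S : C, ∃ R : Sieve S, R ∈ J S ∧ ∀ ⦃T : C⦄ (g : T ⟶ S), R g →
        Epi ((J.overPullback (Type w) T).map f)) → Epi f) := by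
  set_option backward.isDefEq.respectTransparency false in
  constructor
  · intro H
    suffices h : Mono f.hom from Sheaf.Hom.mono_of_presheaf_mono J _ f
    rw [NatTrans.mono_iff_mono_app]
    intro S
    rw [mono_iff_injective]
    intro x y hxy
    obtain ⟨R, hR, hRm⟩ := H S.unop
    refine (((isSheaf_iff_isSheaf_of_type _ _).1 F.2).isSeparated _ hR).ext ?_
    intro T g hg
    have := hRm g hg
    have hinj := injective_app_of_mono (J.over T) ((J.overPullback (Type w) T).map f)
      (op (Over.mk (𝟙 T)))
    apply hinj
    change f.hom.app (op T) (F.obj.map g.op x) = f.hom.app (op T) (F.obj.map g.op y)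
    rw [NatTrans.naturality_apply, NatTrans.naturality_apply, hxy]
  · intro H
    constructor
    intro Z a b hab
    ext S x
    obtain ⟨R, hR, hRm⟩ := H S.unop
    refine (((isSheaf_iff_isSheaf_of_type _ _).1 Z.2).isSeparated _ hR).ext ?_
    intro T g hg
    have := hRm g hg
    have hab' : (J.overPullback (Type w) T).map a = (J.overPullback (Type w) T).map b := by
      rw [← cancel_epi ((J.overPullback (Type w) T).map f), ← Functor.map_comp,
        ← Functor.map_comp, hab]
    have h3 := congrArg (fun t => t.hom.app (op (Over.mk (𝟙 T))) (G.obj.map g.op x)) hab'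
    change a.hom.app (op T) (G.obj.map g.op x) = b.hom.app (op T) (G.obj.map g.op x) at h3
    rw [NatTrans.naturality_apply, NatTrans.naturality_apply] at h3
    exact h3

end Groth.Agent.S5231
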