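import Groth.Statements.S5232
import Groth.Agent.Lib.Helper5.FppfRep
import Groth.Agent.Lib.Helper5.DescAffineFppf
import Groth.Agent.Lib.Helper5.QuotShBasic
import Groth.Agent.S0082

set_option autoImplicit false
open CategoryTheory CategoryTheory.Limits AlgebraicGeometry
universe u
open GrpQ

namespace Groth.Agent.S5232

/-- On the big fppf site of a scheme `S`, in the case where the local representing objects are affine
over the cover (so that the canonical descent datum is effective): if `Z` is an fppf sheaf over `S`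
and, for an fppf cover `S' ⟶ S`, the sheaf `Z ×_S S'` is represented over `S'` by a scheme affine
over `S'`, then `Z` is represented by a scheme affine over `S`. -/
theorem result {S S' : Scheme.{u}} (f : S' ⟶ S)
    [Flat f] [Surjective f] [LocallyOfFinitePresentation f]
    (Z : QuotSh.Sh Scheme.fppfPrecoverage S)
    (T' : Over S) (a : T' ⟶ Over.mk f) [IsAffineHom a.left]
    (φ : QuotSh.rep Scheme.fppfPrecoverage T' ≅ Z ⨯ QuotSh.rep Scheme.fppfPrecoverage (Over.mk f))
    (hφ : φ.hom ≫ prod.snd = QuotSh.repMap Scheme.fppfPrecoverage a) :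
    ∃ T : Over S, IsAffineHom T.hom ∧ Nonempty (QuotSh.rep Scheme.fppfPrecoverage T ≅ Z) := by
  -- the terminal object
  let Tt : Over S := Over.mk (𝟙 S)
  have hsub : ∀ (G : AlgSp.Sp S) (x y : G ⟶ (AlgSp.yon S).obj Tt), x = y := by
    intro G x y
    apply Sheaf.hom_ext
    ext A g
    apply ULift.ext
    exact Over.mkIdTerminal.hom_ext _ _
  let ξG : ∀ G : AlgSp.Sp S, G ⟶ (AlgSp.yon S).obj Tt := fun G =>
    ⟨{ app := fun A => ↾(fun _ => ULift.up (Over.mkIdTerminal.from A.unop))
       naturality := fun A B g => by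
        ext x
        apply ULift.ext
        exact Over.mkIdTerminal.hom_ext _ _ }⟩
  have tT : IsTerminal ((AlgSp.yon S).obj Tt) := IsTerminal.ofUniqueHom ξG (fun G m => hsub G _ _)
  let p : Over.mk f ⟶ Tt := Over.homMk f (by simp [Tt])
  haveI : Flat p.left := ‹Flat f›
  haveI : Surjective p.left := ‹Surjective f›
  haveI : LocallyOfFinitePresentation p.left := ‹LocallyOfFinitePresentation f›
  let ζ : (AlgSp.yon S).obj T' ⟶ Z :=
    (QuotSh.repIsoUliftYoneda Scheme.fppfPrecoverage T').inv ≫ φ.hom ≫ prod.fst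
  have base : IsPullback (prod.fst : Z ⨯ QuotSh.rep Scheme.fppfPrecoverage (Over.mk f) ⟶ Z)
      prod.snd (tT.from _) (tT.from _) :=
    IsPullback.of_is_product (prodIsProd _ _) tT
  have sq : IsPullback ζ ((AlgSp.yon S).map a) (ξG Z) ((AlgSp.yon S).map p) := by
    refine IsPullback.of_iso base
      (φ.symm ≪≫ QuotSh.repIsoUliftYoneda Scheme.fppfPrecoverage T') (Iso.refl _)
      (QuotSh.repIsoUliftYoneda Scheme.fppfPrecoverage (Over.mk f)) (Iso.refl _) ?_ ?_
      (hsub _ _ _) (hsub _ _ _)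
    · change prod.fst ≫ 𝟙 _ = (φ.inv ≫ _) ≫ _ ≫ φ.hom ≫ prod.fst
      simp
    · change prod.snd ≫ _ = (φ.inv ≫ _) ≫ (AlgSp.yon S).map a
      rw [Category.assoc, ← Groth.Agent.Lib.Helper5.repMap_comp_repIso_hom, ← Category.assoc _ _ (Iso.hom _), ← hφ]
      simp
  have heff : ∃ W₀ : Over Tt.left, Nonempty ((Desc.toDD p.left).obj W₀ ≅
      Groth.Agent.Lib.Helper5.FppfRep.descData (ξG Z) p ζ a sq) := by
    haveI : IsAffineHom (Groth.Agent.Lib.Helper5.FppfRep.descData (ξG Z) p ζ a sq).obj.hom := ‹IsAffineHom a.left›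
    exact Groth.Agent.Lib.Helper5.DescAffineFppf.effective_of_isAffineHom p.left _
  obtain ⟨W, w, e, k, -, hpb, -⟩ := Groth.Agent.Lib.Helper5.FppfRep.exists_rep_of_effective (ξG Z) p ζ a sq heff
  refine ⟨W, ?_, ⟨QuotSh.repIsoUliftYoneda Scheme.fppfPrecoverage W ≪≫ e⟩⟩
  have hw : w.left = W.hom := by
    have := Over.w w
    simpa [Tt] using this
  rw [← hw]
  haveI := Groth.Agent.S0082.result.{u}
  exact MorphismProperty.of_isPullback_of_descendsAlong (P := @IsAffineHom)
    (Q := @Surjective ⊓ @Flat ⊓ @LocallyOfFinitePresentation) hpb.flip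
    ⟨⟨‹Surjective f›, ‹Flat f›⟩, ‹LocallyOfFinitePresentation f›⟩ ‹IsAffineHom a.left›

end Groth.Agent.S5232
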