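import Groth.Statements.S5234
import Mathlib.AlgebraicGeometry.Morphisms.FlatDescent
import Mathlib.AlgebraicGeometry.Morphisms.LocalFlatDescent

set_option autoImplicit false
open CategoryTheory CategoryTheory.Limits AlgebraicGeometry MonoidalCategory
universe u
set_option backward.isDefEq.respectTransparency.types false
set_option linter.style.haveILetI false
open RedSub

namespace Groth.Agent.S5234

section Helpers
open MonObj GrpObj CartesianMonoidalCategory

/-- flatness satisfies fpqc descent -/
instance descendsAlong_flat : MorphismProperty.DescendsAlong (@Flat : MorphismProperty Scheme.{u})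
    (@Surjective ⊓ @Flat ⊓ @QuasiCompact) := by
  refine HasRingHomProperty.descendsAlong_flat (Q := RingHom.Flat)
    (RingHom.CodescendsAlong.mk _ RingHom.Flat.respectsIso ?_)
  intro R S T _ _ _ _ _ h h'
  rw [RingHom.flat_algebraMap_iff] at h' ⊢
  rw [RingHom.faithfullyFlat_algebraMap_iff] at h
  exact Module.Flat.of_flat_tensorProduct R T S

variable {S : Scheme.{u}} {G X : Over S} [GrpObj G]

theorem triv (a : AlgGrp.Action G X) (hX : IsIso (lift a.act (snd G X))) (S' : Over S)
    (x : S' ⟶ X) : ∃ e : S' ⊗ X ≅ S' ⊗ G, e.hom ≫ fst S' G = fst S' X := by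
  let θ := lift a.act (snd G X)
  haveI : IsIso θ := hX
  let φ : S' ⊗ G ⟶ S' ⊗ X := lift (fst S' G) (lift (snd S' G) (fst S' G ≫ x) ≫ a.act)
  let ψ : S' ⊗ X ⟶ S' ⊗ G :=
    lift (fst S' X) (lift (snd S' X) (fst S' X ≫ x) ≫ inv θ ≫ fst G X)
  have h1 : lift (snd S' G) (fst S' G ≫ x) ≫ θ =
      lift (lift (snd S' G) (fst S' G ≫ x) ≫ a.act) (fst S' G ≫ x) := by
    apply CartesianMonoidalCategory.hom_ext <;> simp [θ]
  have hφψ : φ ≫ ψ = 𝟙 _ := by
    apply CartesianMonoidalCategory.hom_ext
    · simp [φ, ψ]
    · simp only [φ, ψ, Category.assoc, lift_snd, Category.id_comp]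
      rw [← Category.assoc, comp_lift, lift_snd, ← Category.assoc (lift _ _) (fst S' X) x, lift_fst,
        ← h1, Category.assoc, IsIso.hom_inv_id_assoc, lift_fst]
  have hψφ : ψ ≫ φ = 𝟙 _ := by
    apply CartesianMonoidalCategory.hom_ext
    · simp [φ, ψ]
    · simp only [φ, ψ, Category.assoc, lift_snd, Category.id_comp]
      have hw : (lift (snd S' X) (fst S' X ≫ x) ≫ inv θ) ≫ θ = lift (snd S' X) (fst S' X ≫ x) := by
        rw [Category.assoc, IsIso.inv_hom_id, Category.comp_id]
      have hw1 : (lift (snd S' X) (fst S' X ≫ x) ≫ inv θ) ≫ a.act = snd S' X := by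
        have := congr_arg (fun f => f ≫ fst X X) hw
        simpa [θ] using this
      have hw2 : (lift (snd S' X) (fst S' X ≫ x) ≫ inv θ) ≫ snd G X = fst S' X ≫ x := by
        have := congr_arg (fun f => f ≫ snd X X) hw
        simpa [θ] using this
      have e : lift (fst S' X) (lift (snd S' X) (fst S' X ≫ x) ≫ inv θ ≫ fst G X) ≫
          lift (snd S' G) (fst S' G ≫ x) = lift (snd S' X) (fst S' X ≫ x) ≫ inv θ := by
        apply CartesianMonoidalCategory.hom_ext
        · simp
        · rw [hw2]
          simp
      rw [← Category.assoc, e, hw1]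
  exact ⟨⟨ψ, φ, hψφ, hφψ⟩, by simp [ψ]⟩

theorem prop_of_point (P : MorphismProperty Scheme.{u}) [P.RespectsIso] [P.IsStableUnderBaseChange]
    [P.DescendsAlong (@Surjective ⊓ @Flat ⊓ @LocallyOfFinitePresentation)]
    (a : AlgGrp.Action G X) (hX : IsIso (lift a.act (snd G X))) (hG : P G.hom) (S' : Over S)
    (h1 : Surjective S'.hom) (h2 : Flat S'.hom) (h3 : LocallyOfFinitePresentation S'.hom)
    (x : S' ⟶ X) : P X.hom := by
  obtain ⟨e, he⟩ := triv a hX S' x
  have hfst : P (pullback.fst S'.hom X.hom) := by
    have e1 : pullback.fst S'.hom X.hom = e.hom.left ≫ pullback.fst S'.hom G.hom := by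
      have := congr_arg Over.Hom.left he
      rw [Over.comp_left, Over.fst_left, Over.fst_left] at this
      exact this.symm
    rw [e1]
    haveI : IsIso e.hom.left := (inferInstance : IsIso ((Over.forget S).map e.hom))
    exact (MorphismProperty.cancel_left_of_respectsIso P e.hom.left _).2
      (MorphismProperty.pullback_fst _ _ hG)
  exact MorphismProperty.of_pullback_fst_of_descendsAlong (P := P)
    (Q := @Surjective ⊓ @Flat ⊓ @LocallyOfFinitePresentation) (f := S'.hom) (g := X.hom)
    ⟨⟨h1, h2⟩, h3⟩ hfst


end Helpers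

open CartesianMonoidalCategory SemiCartesianMonoidalCategory in
/-- (ii) ⇔ (iii), for schemes with the fppf topology: let `G` be an `S`-group scheme which is faithfully
flat and locally of finite presentation over `S`, acting on `X` so that `X` is formally principal
homogeneous. Then `X` is a torsor (its structure map is faithfully flat and locally of finite
presentation) if and only if `X` has a point over some faithfully flat, locally finitely presented
`S' ⟶ S`. -/
theorem result {S : Scheme.{u}} {G X : Over S} [GrpObj G]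
    (a : AlgGrp.Action G X)
    [Flat G.hom] [Surjective G.hom] [LocallyOfFinitePresentation G.hom]
    (hX : IsIso (lift a.act (snd G X))) :
    RedSub.IsTorsor a ↔
      ∃ S' : Over S, Surjective S'.hom ∧ Flat S'.hom ∧ LocallyOfFinitePresentation S'.hom ∧
        Nonempty (S' ⟶ X) := by
  constructor
  · rintro ⟨h1, h2, h3, _⟩
    exact ⟨X, h1, h2, h3, ⟨𝟙 X⟩⟩
  · rintro ⟨S', h1, h2, h3, ⟨x⟩⟩
    refine ⟨?_, ?_, ?_, hX⟩
    · exact prop_of_point (@Surjective : MorphismProperty Scheme.{u}) a hX inferInstance S' h1 h2 h3 x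
    · exact prop_of_point (@Flat : MorphismProperty Scheme.{u}) a hX inferInstance S' h1 h2 h3 x
    · exact prop_of_point (@LocallyOfFinitePresentation : MorphismProperty Scheme.{u}) a hX inferInstance S' h1 h2 h3 x

end Groth.Agent.S5234
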