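import Groth.Statements.S5235
import Mathlib.AlgebraicGeometry.PullbackCarrier

set_option autoImplicit false
open CategoryTheory CategoryTheory.Limits AlgebraicGeometry
universe u
open GrpQ

namespace Groth.Agent.S5235

section aux

variable {X X' : Scheme.{u}}

lemma range_mk_arrow {Z : Scheme.{u}} (f : Z ⟶ X) [Mono f] :
    Set.range (Subobject.mk f).arrow.base = Set.range f.base := by
  rw [← Subobject.underlyingIso_hom_comp_eq_mk]
  simp only [Scheme.Hom.comp_base, TopCat.hom_comp, ContinuousMap.coe_comp]
  rw [Set.range_comp, Set.range_eq_univ.mpr, Set.image_univ]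
  exact (Subobject.underlyingIso f).hom.homeomorph.surjective

lemma isOpenImmersion_mk_arrow {Z : Scheme.{u}} (f : Z ⟶ X) [IsOpenImmersion f] :
    IsOpenImmersion (Subobject.mk f).arrow := by
  rw [← Subobject.underlyingIso_hom_comp_eq_mk]
  infer_instance

lemma eq_of_range_eq (Y₁ Y₂ : Subobject X) [IsOpenImmersion Y₁.arrow] [IsOpenImmersion Y₂.arrow]
    (h : Set.range Y₁.arrow.base = Set.range Y₂.arrow.base) : Y₁ = Y₂ := by
  apply le_antisymm
  · exact Subobject.le_of_comm (IsOpenImmersion.lift Y₂.arrow Y₁.arrow h.le)
      (IsOpenImmersion.lift_fac _ _ _)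
  · exact Subobject.le_of_comm (IsOpenImmersion.lift Y₁.arrow Y₂.arrow h.ge)
      (IsOpenImmersion.lift_fac _ _ _)

lemma range_pullback_arrow (f : X ⟶ X') (Y' : Subobject X') :
    Set.range ((Subobject.pullback f).obj Y').arrow.base =
      f.base ⁻¹' Set.range Y'.arrow.base := by
  rw [Subobject.pullback_obj, range_mk_arrow]
  exact Scheme.Pullback.range_snd Y'.arrow f

lemma isOpenImmersion_pullback_arrow (f : X ⟶ X') (Y' : Subobject X')
    [IsOpenImmersion Y'.arrow] :
    IsOpenImmersion ((Subobject.pullback f).obj Y').arrow := by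
  rw [Subobject.pullback_obj]
  exact isOpenImmersion_mk_arrow _

end aux


/-- For schemes, with (M) the faithfully flat quasi-compact morphisms and (N) the open immersions: if `π
: X ⟶ X'` is flat, surjective and quasi-compact, then `Y' ↦ π⁻¹(Y')` is a bijection from open
subschemes of `X'` onto the open subschemes of `X` stable under the kernel pair of `π`. -/
theorem result {X X' : Scheme.{u}} (π : X ⟶ X')
    [Flat π] [Surjective π] [QuasiCompact π] :
    Set.BijOn (Subobject.pullback π).obj
      {Y' : Subobject X' | IsOpenImmersion Y'.arrow}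
      {Y : Subobject X | IsOpenImmersion Y.arrow ∧
        (Subobject.pullback (pullback.fst π π)).obj Y = (Subobject.pullback (pullback.snd π π)).obj Y} := by
  refine ⟨?_, ?_, ?_⟩
  · intro Y' hY'
    have : IsOpenImmersion Y'.arrow := hY'
    refine ⟨isOpenImmersion_pullback_arrow π Y', ?_⟩
    rw [← Subobject.pullback_comp, ← Subobject.pullback_comp, pullback.condition]
  · intro Y₁ h₁ Y₂ h₂ h
    have : IsOpenImmersion Y₁.arrow := h₁
    have : IsOpenImmersion Y₂.arrow := h₂
    apply eq_of_range_eq
    have h' := congrArg (fun Y : Subobject X => Set.range Y.arrow.base) h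
    simp only [range_pullback_arrow] at h'
    exact (Set.preimage_injective.mpr π.surjective) h'
  · intro Y hY
    obtain ⟨hY₁, hY₂⟩ := hY
    have : IsOpenImmersion Y.arrow := hY₁
    set U : Set X := Set.range Y.arrow.base with hU
    have hUo : IsOpen U := Y.arrow.isOpenEmbedding.isOpen_range
    have hstab : (pullback.fst π π).base ⁻¹' U = (pullback.snd π π).base ⁻¹' U := by
      have h' := congrArg (fun Z : Subobject (pullback π π) => Set.range Z.arrow.base) hY₂
      simpa only [range_pullback_arrow] using h'
    have hsat : π.base ⁻¹' (π.base '' U) = U := by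
      apply Set.Subset.antisymm
      · rintro x ⟨y, hy, hxy⟩
        obtain ⟨z, hz₁, hz₂⟩ := Scheme.Pullback.exists_preimage_pullback (f := π) (g := π) y x hxy
        have hz : z ∈ (pullback.fst π π).base ⁻¹' U := by
          rw [Set.mem_preimage, hz₁]; exact hy
        rw [hstab, Set.mem_preimage, hz₂] at hz
        exact hz
      · exact Set.subset_preimage_image _ _
    have hVo : IsOpen (π.base '' U) := by
      rw [← (Flat.isQuotientMap_of_surjective π).isOpen_preimage, hsat]
      exact hUo
    let V : X'.Opens := ⟨π.base '' U, hVo⟩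
    refine ⟨Subobject.mk V.ι, isOpenImmersion_mk_arrow _, ?_⟩
    have : IsOpenImmersion (Subobject.mk V.ι).arrow := isOpenImmersion_mk_arrow _
    have := isOpenImmersion_pullback_arrow π (Subobject.mk V.ι)
    apply eq_of_range_eq
    rw [range_pullback_arrow, range_mk_arrow]
    have : Set.range V.ι.base = π.base '' U := by
      simp [V]
    rw [this, hsat]

end Groth.Agent.S5235
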