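import Groth.Statements.S5238
import Mathlib
import Groth.Agent.Lib.Helper15.QFCover

set_option autoImplicit false
open CategoryTheory AlgebraicGeometry
universe w u
open GrpQ

namespace Groth.Agent.S5238

/-- the property "flat, lfp and locally quasi-finite" -/
abbrev PQF : MorphismProperty Scheme.{u} :=
  (@Flat ⊓ @LocallyOfFinitePresentation) ⊓ @LocallyQuasiFinite

instance : MorphismProperty.IsMultiplicative (@LocallyOfFinitePresentation.{u}) where
  id_mem _ := inferInstance

theorem PQF_le_isOpenMap : (PQF.{u}) ≤ fun _ _ f ↦ IsOpenMap f.base := by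
  intro X Y f hf
  have : Flat f := hf.1.1
  have : LocallyOfFinitePresentation f := hf.1.2
  exact f.isOpenMap

theorem fppfTopology_le : Scheme.fppfTopology.{u} ≤ Scheme.propQCTopology PQF.{u} := by
  rw [Precoverage.toGrothendieck_le_iff_le_toPrecoverage]
  intro X R hR
  rw [GrothendieckTopology.mem_toPrecoverage_iff]
  have hsurj : ∀ x : X, ∃ (Y : Scheme.{u}) (g : Y ⟶ X), R g ∧ x ∈ Set.range g := by
    have := hR.1
    rw [Presieve.mem_comap_jointlySurjectivePrecoverage_iff] at this
    exact this
  have hprop : ∀ ⦃Y : Scheme.{u}⦄ ⦃g : Y ⟶ X⦄, R g → Flat g ∧ LocallyOfFinitePresentation g :=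
    fun Y g hg => hR.2 hg
  have key : ∀ x : X, ∃ (Z : Scheme.{u}) (k : Z ⟶ X), IsAffine Z ∧ PQF k ∧ x ∈ Set.range k ∧
      Sieve.generate R k := by
    intro x
    obtain ⟨Y, g, hg, ⟨p, rfl⟩⟩ := hsurj x
    have := (hprop hg).1
    have := (hprop hg).2
    obtain ⟨Z, k, hZ, h1, h2, h3, h4⟩ :=
      Groth.Agent.Lib.Helper15.QFCover.exists_affine_qf_flat_over g p
    exact ⟨Z, k ≫ g, hZ, ⟨⟨h1, h2⟩, h3⟩, h4, ⟨Y, k, g, hg, rfl⟩⟩
  choose Z k hZ hk hx hgen using key
  have hmem : Presieve.ofArrows Z k ∈ Scheme.propQCPrecoverage PQF.{u} X := by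
    have h1 : Presieve.ofArrows Z k ∈ Scheme.precoverage PQF.{u} X := by
      rw [Scheme.ofArrows_mem_precoverage_iff]
      exact ⟨fun x => ⟨x, hx x⟩, hk⟩
    exact ⟨Scheme.precoverage_le_qcPrecoverage_of_isOpenMap PQF_le_isOpenMap _ h1, h1⟩
  have h2 := Precoverage.generate_mem_toGrothendieck hmem
  refine GrothendieckTopology.superset_covering _ ?_ h2
  rw [Sieve.generate_le_iff]
  rintro Y g ⟨x⟩
  exact hgen x

/-- A presheaf of sets on schemes is a sheaf for the fppf topology (the topology generated by jointly
surjective families of flat morphisms locally of finite presentation) if and only if it is a Zariski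
sheaf and satisfies the sheaf condition for every single morphism of affine schemes `T ⟶ S` which is
flat, surjective, locally of finite presentation and locally quasi-finite. (Between affine schemes
such a morphism is faithfully flat, of finite presentation and quasi-finite; that these quasi-finite
covers suffice rests on the existence of quasi-finite flat quasi-sections of flat surjective
morphisms locally of finite presentation.) -/
theorem result (F : Scheme.{u}ᵒᵖ ⥤ Type w) :
    Presheaf.IsSheaf Scheme.fppfTopology F ↔
      Presheaf.IsSheaf Scheme.zariskiTopology F ∧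
        ∀ (T S : Scheme.{u}) [IsAffine T] [IsAffine S] (f : T ⟶ S)
          [Flat f] [Surjective f] [LocallyOfFinitePresentation f] [LocallyQuasiFinite f],
          Presieve.IsSheafFor F (Presieve.singleton f) := by
  rw [isSheaf_iff_isSheaf_of_type, isSheaf_iff_isSheaf_of_type]
  constructor
  · intro hF
    refine ⟨Presieve.isSheaf_of_le _
      (Precoverage.toGrothendieck_mono Scheme.zariskiPrecoverage_le_fppfPrecoverage) hF, ?_⟩
    intro T S _ _ f _ _ _ _
    rw [Presieve.isSheafFor_iff_generate]
    exact hF _ (Precoverage.generate_mem_toGrothendieck f.singleton_mem_fppfPrecoverage)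
  · rintro ⟨hzar, hff⟩
    refine Presieve.isSheaf_of_le _ fppfTopology_le ?_
    rw [isSheaf_type_propQCTopology_iff]
    refine ⟨hzar, ?_⟩
    intro R S f hf hs
    have : Flat (Spec.map f) := hf.1.1
    have : LocallyOfFinitePresentation (Spec.map f) := hf.1.2
    have : LocallyQuasiFinite (Spec.map f) := hf.2
    exact hff _ _ (Spec.map f)

end Groth.Agent.S5238
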