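import Groth.Statements.S5257
import Groth.Agent.Lib.Helper6.TrFinal

set_option autoImplicit false
open CategoryTheory MonoidalCategory CartesianMonoidalCategory MonObj GrpObj AlgebraicGeometry
universe u
open SGA3x

namespace Groth.Agent.S5257

/-- Let H be an S-group of multiplicative type and of finite type, G an S-group smooth and affine over
S, and u₁, u₂ : H ⟶ G two homomorphisms of S-groups. Then the transporter of u₁ into u₂, the
subfunctor of G whose X-points are the g with int(g) ∘ u₁ = u₂ after every base change X' ⟶ X, is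
representable by a closed subscheme of G which is smooth over S. -/
theorem result {S : Scheme.{u}} (H G : Over S) [GrpObj H] [GrpObj G]
    (hH : SGA3x.IsMultTypeFT H) (hG : Smooth G.hom) (hGa : IsAffineHom G.hom) (u₁ u₂ : H ⟶ G) [IsMonHom u₁] [IsMonHom u₂] :
    ∃ (T : Over S) (j : T ⟶ G), IsClosedImmersion j.left ∧ Smooth T.hom ∧
      ∀ (X : Over S) (g : X ⟶ G), (∃ t : X ⟶ T, t ≫ j = g) ↔
        ∀ (X' : Over S) (x : X' ⟶ X) (h : X' ⟶ H), (x ≫ g) * (h ≫ u₁) * (x ≫ g)⁻¹ = h ≫ u₂ := by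
  have := hG
  have := hGa
  have hH' : ∃ (S' : Scheme.{u}) (f : S' ⟶ S), Flat f ∧ Surjective f ∧
      (∀ V : S.Opens, IsAffineOpen V →
        ∃ W : S'.Opens, IsCompact (W : Set S') ∧ f.base '' (W : Set S') = (V : Set S)) ∧
      ∀ s' : S', ∃ U : S'.Opens, s' ∈ U ∧ ∃ (M : Type) (_ : AddCommGroup M),
        Nonempty (Grp.mk (Red.bc (U.ι ≫ f) H) ≅ Grp.mk (Red.DS (U : Scheme.{u}) M)) := by
    obtain ⟨S', f, hfl, hsurj, hqc, hloc⟩ := hH
    refine ⟨S', f, hfl, hsurj, hqc, fun s' => ?_⟩
    obtain ⟨U, hsU, M, inst, _, hiso⟩ := hloc s'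
    exact ⟨U, hsU, M, inst, hiso⟩
  have hrep : Groth.Agent.Lib.Helper6.MultTypeClosed.HasRep H G True :=
    Groth.Agent.Lib.Helper6.MultTypeClosed.hasRep_of_multType H G hH
  have : IsSeparated G.hom := inferInstance
  have : LocallyOfFinitePresentation G.hom := inferInstance
  obtain ⟨C, c, hci, hfp, hpts⟩ :=
    Groth.Agent.Lib.Helper6.TrFinal.transporter_of_hasRep_fp hrep trivial u₁ u₂
  have := hci
  have := hfp
  refine ⟨C, c, hci,
    Groth.Agent.Lib.Helper6.TrGlobal.smooth_of_multType H G u₁ u₂ hH' C c hpts, ?_⟩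
  intro X g
  rw [hpts X g]
  constructor
  · intro h X' x a
    rw [h X' x a]
    group
  · intro h X' x a
    rw [← h X' x a]
    group

end Groth.Agent.S5257
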