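import Groth.Statements.S5262
import Groth.Agent.Lib.Helper3.IS10
-- import your own Groth.Agent.* helpers here

set_option autoImplicit false
universe u
open TensorProduct SGA3b
open SGA3b

namespace Groth.Agent.S5262

/-- Full faithfulness of the reduction functor. Let A be a henselian local ring with residue field k,
and G = Spec B, H = Spec C two A-groups of multiplicative type with B and C finite over A. Then
reduction to the closed fibre is a bijection from homomorphisms of A-groups G ⟶ H (bialgebra maps C
→ B) to homomorphisms of k-groups G₀ ⟶ H₀: two bialgebra maps C → B with the same reduction are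
equal, and every bialgebra map k ⊗ C → k ⊗ B over k is a reduction. (The published statement is an
equivalence of categories between groups of multiplicative type finite over A and over k; this row
states only full faithfulness, i.e. that reduction is bijective on homomorphisms.) (Affine group
schemes over an affine base are taken in Hopf-algebra form; base change is the tensor product; a
homomorphism of groups Spec A ⟶ Spec C is a bialgebra map C → A.) -/
theorem result (A : Type u) [CommRing A] [HenselianLocalRing A]
    (B : Type u) [CommRing B] [HopfAlgebra A B] [Module.Finite A B] (hG : IsMultType A B)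
    (C : Type u) [CommRing C] [HopfAlgebra A C] [Module.Finite A C] (hH : IsMultType A C) :
    (∀ φ ψ : C →ₐc[A] B, (∀ c : C, (1 : IsLocalRing.ResidueField A) ⊗ₜ[A] (φ c) =
        (1 : IsLocalRing.ResidueField A) ⊗ₜ[A] (ψ c)) → φ = ψ) ∧
    (∀ φ₀ : (IsLocalRing.ResidueField A ⊗[A] C) →ₐc[IsLocalRing.ResidueField A] (IsLocalRing.ResidueField A ⊗[A] B),
      ∃ φ : C →ₐc[A] B, ∀ c : C, φ₀ ((1 : IsLocalRing.ResidueField A) ⊗ₜ[A] c) =
        (1 : IsLocalRing.ResidueField A) ⊗ₜ[A] (φ c)) := by
  haveI := Groth.Agent.Lib.Helper3.IS8.projective_of_multType A B hG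
  haveI := Groth.Agent.Lib.Helper3.IS8.cocomm_of_multType A B hG
  haveI := Groth.Agent.Lib.Helper3.IS8.projective_of_multType A C hH
  haveI := Groth.Agent.Lib.Helper3.IS8.cocomm_of_multType A C hH
  haveI := Groth.Agent.Lib.Helper3.IS8.etale_dual_of_multType A B hG
  haveI := Groth.Agent.Lib.Helper3.IS8.etale_dual_of_multType A C hH
  exact ⟨fun φ ψ h => Groth.Agent.Lib.Helper3.IS10.inj B hG C hH φ ψ h,
    fun φ₀ => Groth.Agent.Lib.Helper3.IS10.surj φ₀⟩

end Groth.Agent.S5262
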