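import Groth.Statements.S5266
import Groth.Agent.Lib.Helper5.FpqcLocal
import Groth.Agent.S0084
import Mathlib

set_option autoImplicit false
set_option linter.style.haveILetI false
open CategoryTheory MonoidalCategory CartesianMonoidalCategory MonObj GrpObj AlgebraicGeometry
universe u
open SGA3x

namespace Groth.Agent.S5266

open CategoryTheory.Limits TopologicalSpace Opposite

section K

variable {U : Scheme.{u}} {I : Type u}

/-- the fold map -/
noncomputable abbrev fold (U : Scheme.{u}) (I : Type u) : (∐ fun _ : I => U) ⟶ U :=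
  Sigma.desc fun _ : I => 𝟙 U

lemma ι_fold (i : I) : Sigma.ι (fun _ : I => U) i ≫ fold U I = 𝟙 U := by
  simp [fold]

lemma exists_sigmaι_eq (x : ↥(∐ fun _ : I => U)) :
    ∃ (i : I) (a : U), Sigma.ι (fun _ : I => U) i a = x := by
  obtain ⟨⟨i, a⟩, rfl⟩ := (sigmaMk (fun _ : I => U)).surjective x
  exact ⟨i, a, (sigmaMk_mk (fun _ : I => U) i a).symm⟩

lemma fold_apply (i : I) (a : U) : fold U I (Sigma.ι (fun _ : I => U) i a) = a := by
  rw [← Scheme.Hom.comp_apply, ι_fold]; rfl

variable {Z : Scheme.{u}} (c : Z ⟶ ∐ fun _ : I => U)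

lemma lft_fold : LocallyOfFiniteType (fold U I) := by
  haveI : IsZariskiLocalAtSource @LocallyOfFiniteType.{u} :=
    HasRingHomProperty.instIsZariskiLocalAtSource (Q := RingHom.FiniteType)
  exact IsZariskiLocalAtSource.sigmaDesc (P := @LocallyOfFiniteType) fun _ => inferInstance

lemma existence_comp_fold [IsClosedImmersion c] :
    ValuativeCriterion.Existence (c ≫ fold U I) := by
  intro S
  -- the component hit by the generic point
  obtain ⟨i, a, ha⟩ := exists_sigmaι_eq ((S.i₁ ≫ c) default)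
  have hrange : Set.range (S.i₁ ≫ c) ⊆ Set.range (Sigma.ι (fun _ : I => U) i) := by
    rintro _ ⟨y, rfl⟩
    obtain rfl : y = default := Subsingleton.elim _ _
    exact ⟨a, ha⟩
  let m := IsOpenImmersion.lift (Sigma.ι (fun _ : I => U) i) (S.i₁ ≫ c) hrange
  have hm : m ≫ Sigma.ι (fun _ : I => U) i = S.i₁ ≫ c := IsOpenImmersion.lift_fac _ _ _
  let l' : Spec (.of S.R) ⟶ ∐ fun _ : I => U := S.i₂ ≫ Sigma.ι (fun _ : I => U) i
  have hw : S.i₁ ≫ c = Spec.map (CommRingCat.ofHom (algebraMap S.R S.K)) ≫ l' := by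
    have h1 := S.commSq.w
    change S.i₁ ≫ c = Spec.map (CommRingCat.ofHom (algebraMap S.R S.K)) ≫ S.i₂ ≫
      Sigma.ι (fun _ : I => U) i
    rw [← reassoc_of% h1]
    calc S.i₁ ≫ c = m ≫ Sigma.ι (fun _ : I => U) i := hm.symm
      _ = m ≫ Sigma.ι (fun _ : I => U) i ≫ fold U I ≫ Sigma.ι (fun _ : I => U) i := by
          rw [reassoc_of% (ι_fold (U := U) i)]
      _ = (S.i₁ ≫ c) ≫ fold U I ≫ Sigma.ι (fun _ : I => U) i := by
          rw [← hm, Category.assoc]
      _ = _ := by rw [Category.assoc]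
  let S' : ValuativeCommSq c :=
    { R := S.R, K := S.K, i₁ := S.i₁, i₂ := l', commSq := ⟨hw⟩ }
  have hc : ValuativeCriterion.Existence c := by
    have : UniversallyClosed c := inferInstance
    rw [UniversallyClosed.eq_valuativeCriterion] at this
    exact this.1
  obtain ⟨⟨l, hl1, hl2⟩⟩ := hc S'
  refine ⟨⟨⟨l, hl1, ?_⟩⟩⟩
  rw [reassoc_of% hl2]
  change (S.i₂ ≫ Sigma.ι (fun _ : I => U) i) ≫ fold U I = S.i₂
  rw [Category.assoc, ι_fold, Category.comp_id]


lemma isAffineHom_comp_fold [IsClosedImmersion c] [QuasiCompact (c ≫ fold U I)] :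
    IsAffineHom (c ≫ fold U I) := by
  refine ⟨fun A hA => ?_⟩
  have hcomp : IsCompact (((c ≫ fold U I) ⁻¹ᵁ A : Z.Opens) : Set Z) :=
    (c ≫ fold U I).isCompact_preimage hA.isCompact
  let O : I → Z.Opens := fun i => c ⁻¹ᵁ (Sigma.ι (fun _ : I => U) i).opensRange
  have hcov : (((c ≫ fold U I) ⁻¹ᵁ A : Z.Opens) : Set Z) ⊆ ⋃ i, (O i : Set Z) := by
    intro x _
    obtain ⟨i, a, ha⟩ := exists_sigmaι_eq (c x)
    exact Set.mem_iUnion.mpr ⟨i, a, ha⟩
  obtain ⟨F, hF⟩ := hcomp.elim_finite_subcover (fun i => (O i : Set Z)) (fun i => (O i).2) hcov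
  let B : (∐ fun _ : I => U).Opens :=
    ⨆ i ∈ (F : Set I), (Sigma.ι (fun _ : I => U) i) ''ᵁ A
  have hB : IsAffineOpen B := by
    refine IsAffineOpen.biSup_of_disjoint F.finite_toSet
      (fun i _ => hA.image_of_isOpenImmersion _) ?_
    intro i _ j _ hij
    have hd := disjoint_opensRange_sigmaι (fun _ : I => U) i j hij
    refine hd.mono ?_ ?_
    · exact (Sigma.ι (fun _ : I => U) i).image_le_opensRange A
    · exact (Sigma.ι (fun _ : I => U) j).image_le_opensRange A
  have heq : (c ≫ fold U I) ⁻¹ᵁ A = c ⁻¹ᵁ B := by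
    ext x
    constructor
    · intro hx
      obtain ⟨i, hiF, hxi⟩ : ∃ i ∈ F, x ∈ O i := by
        have := hF hx
        simpa using this
      obtain ⟨a, ha⟩ := hxi
      have hφ : (c ≫ fold U I) x = a := by
        rw [Scheme.Hom.comp_apply, ← ha, fold_apply]
      have haA : a ∈ A := by rw [← hφ]; exact hx
      change c x ∈ B
      refine Opens.mem_iSup.mpr ⟨i, Opens.mem_iSup.mpr ⟨hiF, ?_⟩⟩
      exact ⟨a, haA, ha⟩
    · intro hx
      change c x ∈ B at hx
      obtain ⟨i, hi⟩ := Opens.mem_iSup.mp hx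
      obtain ⟨_, a, haA, ha⟩ := Opens.mem_iSup.mp hi
      change (c ≫ fold U I) x ∈ A
      have ha' : Sigma.ι (fun _ : I => U) i a = c x := ha
      rw [Scheme.Hom.comp_apply, ← ha', fold_apply]
      exact haA
  rw [heq]
  exact IsAffineHom.isAffine_preimage _ hB

theorem isFinite_comp_fold [IsClosedImmersion c] [QuasiCompact (c ≫ fold U I)] :
    IsFinite (c ≫ fold U I) := by
  rw [IsFinite.iff_isIntegralHom_and_locallyOfFiniteType,
    IsIntegralHom.iff_universallyClosed_and_isAffineHom]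
  refine ⟨⟨?_, isAffineHom_comp_fold c⟩, ?_⟩
  · exact UniversallyClosed.of_valuativeCriterion _ (existence_comp_fold c)
  · haveI := lft_fold (U := U) (I := I)
    infer_instance

end K


section Main

lemma quasiCompactCover_of {S S' : Scheme.{u}} (f : S' ⟶ S)
    (hqc : ∀ V : S.Opens, IsAffineOpen V →
      ∃ W : S'.Opens, IsCompact (W : Set S') ∧ f.base '' (W : Set S') = (V : Set S))
    (Us : S' → S'.Opens) (hmem : ∀ s', s' ∈ Us s') :
    QuasiCompactCover
      ({ I₀ := S', X := fun s' => (Us s').toScheme, f := fun s' => (Us s').ι ≫ f } :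
        PreZeroHypercover.{u} S) := by
  refine ⟨fun {V} hV => ?_⟩
  obtain ⟨W, hWc, hWV⟩ := hqc V hV
  have hA : ∀ w : W, ∃ A : S'.Opens, IsAffineOpen A ∧ w.1 ∈ A ∧ A.1 ⊆ (Us w.1 ⊓ W : S'.Opens) :=
    fun w => exists_isAffineOpen_mem_and_subset (x := w.1) (U := Us w.1 ⊓ W) ⟨hmem w.1, w.2⟩
  choose A hAaff hAmem hAsub using hA
  obtain ⟨t, ht⟩ := hWc.elim_finite_subcover (fun w : W => ((A w : S'.Opens) : Set S'))
    (fun w => (A w).2) (fun x hx => Set.mem_iUnion.mpr ⟨⟨x, hx⟩, hAmem ⟨x, hx⟩⟩)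
  refine IsCompactOpenCovered.of_finite (κ := t) (fun k => (k.1.1 : S'))
    (fun k => (Us k.1.1).ι ⁻¹ᵁ (A k.1)) (fun k => ?_) ?_
  · change IsCompact ((Us k.1.1).ι ⁻¹' ((A k.1 : S'.Opens) : Set S'))
    rw [(Us k.1.1).ι.isOpenEmbedding.isInducing.isCompact_preimage_iff]
    · exact (hAaff k.1).isCompact
    · intro x hx
      rw [Scheme.Opens.range_ι]
      exact (hAsub k.1 hx).1
  · apply subset_antisymm
    · intro v hv
      obtain ⟨k, hk⟩ := Set.mem_iUnion.mp hv
      obtain ⟨x, hx, rfl⟩ := hk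
      rw [← hWV]
      refine ⟨(Us k.1.1).ι x, (hAsub k.1 hx).2, ?_⟩
      rfl
    · intro v hv
      rw [← hWV] at hv
      obtain ⟨w, hw, rfl⟩ := hv
      obtain ⟨k, hk⟩ := Set.mem_iUnion.mp (ht hw)
      obtain ⟨hkt, hwk⟩ := Set.mem_iUnion.mp hk
      refine Set.mem_iUnion.mpr ⟨⟨k, hkt⟩, ?_⟩
      have hwU : w ∈ Us k.1 := (hAsub k hwk).1
      refine ⟨⟨w, hwU⟩, hwk, ?_⟩
      rfl

set_option backward.isDefEq.respectTransparency.types false in
lemma isZLAT_isFinite : IsZariskiLocalAtTarget @IsFinite.{u} := inferInstance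

end Main


/-- Let R be a twisted constant S-scheme (fpqc-locally on S isomorphic to a constant scheme, the index
set being allowed to vary) and Z a closed subscheme of R which is quasi-compact over S. Then Z is
finite over S. -/
theorem result {S : Scheme.{u}} (R : Over S) (hR : TwC.IsTwConst TwC.Topology.fpqc R)
    {Z : Scheme.{u}} (z : Z ⟶ R.left) [IsClosedImmersion z] [QuasiCompact (z ≫ R.hom)] :
    IsFinite (z ≫ R.hom) := by
  obtain ⟨S', f, hflat, hsurj, hqc, hloc⟩ := hR
  choose Us hmem htriv using hloc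
  let 𝒰 : PreZeroHypercover.{u} S :=
    { I₀ := S', X := fun s' => (Us s').toScheme, f := fun s' => (Us s').ι ≫ f }
  haveI : QuasiCompactCover 𝒰 := quasiCompactCover_of f hqc Us hmem
  have hfl : ∀ i, Flat (𝒰.f i) := fun i => by
    change Flat ((Us i).ι ≫ f)
    infer_instance
  haveI := Groth.Agent.S0084.result.{u}
  haveI := isZLAT_isFinite.{u}
  refine Groth.Agent.Lib.Helper5.of_quasiCompactCover @IsFinite (z ≫ R.hom) 𝒰 hfl fun s' => ?_
  obtain ⟨I, ⟨e⟩⟩ := htriv s'
  change IsFinite (pullback.snd (z ≫ R.hom) ((Us s').ι ≫ f))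
  generalize (Us s').ι ≫ f = g at e
  -- base change of z
  let z' : pullback (z ≫ R.hom) g ⟶ pullback R.hom g :=
    pullback.map (z ≫ R.hom) g R.hom g z (𝟙 _) (𝟙 _) (by simp) (by simp)
  have hz'1 : z' ≫ pullback.snd R.hom g = pullback.snd (z ≫ R.hom) g :=
    (pullback.lift_snd _ _ _).trans (Category.comp_id _)
  have hz'2 : z' ≫ pullback.fst R.hom g = pullback.fst (z ≫ R.hom) g ≫ z :=
    pullback.lift_fst _ _ _
  have hsq : IsPullback z' (pullback.fst (z ≫ R.hom) g) (pullback.fst R.hom g) z := by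
    refine IsPullback.of_right ?_ hz'2 (IsPullback.of_hasPullback R.hom g).flip
    rw [hz'1]
    exact (IsPullback.of_hasPullback (z ≫ R.hom) g).flip
  haveI : IsClosedImmersion z' :=
    MorphismProperty.of_isPullback (P := @IsClosedImmersion) hsq.flip inferInstance
  let c : pullback (z ≫ R.hom) g ⟶ ∐ fun _ : I => (Us s').toScheme := z' ≫ e.hom.left
  have hc : c ≫ fold (Us s').toScheme I = pullback.snd (z ≫ R.hom) g := by
    have := Over.w e.hom
    change (z' ≫ e.hom.left) ≫ (TwC.const (Us s').toScheme I).hom = _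
    rw [Category.assoc, this, ← hz'1]
    rfl
  haveI : IsClosedImmersion c := by
    haveI : IsIso e.hom.left := by
      change IsIso ((Over.forget _).map e.hom)
      infer_instance
    exact inferInstanceAs (IsClosedImmersion (z' ≫ e.hom.left))
  haveI : QuasiCompact (c ≫ fold (Us s').toScheme I) := by
    rw [hc]; infer_instance
  rw [← hc]
  exact isFinite_comp_fold c

end Groth.Agent.S5266
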