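import Groth.Statements.S5280
import Groth.Agent.S5279

set_option autoImplicit false
open CategoryTheory MonoidalCategory CartesianMonoidalCategory MonObj GrpObj AlgebraicGeometry
universe u
open SGA3x

namespace Groth.Agent.S5280


open Magnet

section conj

variable {C : Type*} [Category C] [CartesianMonoidalCategory C] {G H : C} [GrpObj G] [GrpObj H]
  (u : G ⟶ H)

/-- the conjugation action morphism `(g, h) ↦ u(g) h u(g)⁻¹`. -/
def conjHom : G ⊗ H ⟶ H := (fst G H ≫ u) * snd G H * (fst G H ≫ u)⁻¹

theorem lift_conjHom {T : C} (g : T ⟶ G) (h : T ⟶ H) :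
    lift g h ≫ conjHom u = (g ≫ u) * h * (g ≫ u)⁻¹ := by
  unfold conjHom
  rw [MonObj.comp_mul, MonObj.comp_mul, GrpObj.comp_inv, lift_fst_assoc, lift_snd]

variable [IsMonHom u]

def conjMonAct : MonAct G H :=
  MonAct.mk' (conjHom u)
    (fun T x => by
      rw [lift_conjHom, MonObj.one_comp]
      group)
    (fun T g g' x => by
      rw [lift_conjHom, lift_conjHom, lift_conjHom, MonObj.mul_comp]
      group)

end conj


/-- Let i₀ : S₀ ⟶ S be a closed immersion whose ideal is locally nilpotent (nilpotent on each member of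
an affine open cover of S; in particular S₀ and S have the same underlying space), u : G ⟶ H a
homomorphism of S-groups with G of multiplicative type (fpqc-locally on S isomorphic, as a group, to
diagonalisable groups D(M), M allowed to vary and taken in Type 0) and H locally of finite
presentation over S. If the restriction u₀ of u to S₀ is central (u(g) commutes with h for all
points g of G and h of H defined over an S₀-scheme), then u is central. -/
theorem result {S S₀ : Scheme.{u}} (i₀ : S₀ ⟶ S) [IsClosedImmersion i₀]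
    (hnil : ∀ x : S, ∃ U : S.affineOpens, x ∈ (U : S.Opens) ∧ IsNilpotent (i₀.ker.ideal U))
    (G H : Over S) [GrpObj G] [GrpObj H] (hG : TwC.Locally S TwC.Topology.fpqc (fun S' f => ∃ (M : Type) (_ : AddCommGroup M), Nonempty (Grp.mk (Red.bc f G) ≅ Grp.mk (Red.DS S' M))))
    [LocallyOfFinitePresentation H.hom] (u : G ⟶ H) [IsMonHom u]
    (h0 : ∀ (Y : Over S) (p : Y ⟶ Over.mk i₀) (g : Y ⟶ G) (h : Y ⟶ H), (g ≫ u) * h = h * (g ≫ u)) :
    ∀ (Y : Over S) (g : Y ⟶ G) (h : Y ⟶ H), (g ≫ u) * h = h * (g ≫ u) := by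
  let m := conjMonAct u
  let a : AlgGrp.Action G H := ⟨m.act, m.one_act, m.mul_act⟩
  have h0' : ∀ (Y : Over S) (p : Y ⟶ Over.mk i₀) (g : Y ⟶ G) (x : Y ⟶ H),
      lift g x ≫ a.act = x := by
    intro Y p g x
    change lift g x ≫ conjHom u = x
    rw [lift_conjHom, h0 Y p g x, mul_inv_cancel_right]
  intro Y g h
  have h1 := Groth.Agent.S5279.result i₀ hnil G H hG a h0' Y g h
  change lift g h ≫ conjHom u = h at h1
  rw [lift_conjHom] at h1
  exact mul_inv_eq_iff_eq_mul.mp h1

end Groth.Agent.S5280
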