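import Groth.Statements.S5305
import Groth.Agent.S5257
import Groth.Agent.Lib.Helper51.SmoothSection
import Groth.Agent.Lib.Helper18.AdjMul

set_option autoImplicit false
open CategoryTheory MonoidalCategory CartesianMonoidalCategory MonObj GrpObj AlgebraicGeometry
universe u
open SGA3x

namespace Groth.Agent.S5305

/-- (ii) ⇒ (i): Let H be an S-group of multiplicative type and of finite type, G an S-group smooth and
affine over S, and u₁, u₂ : H ⟶ G two homomorphisms. Suppose that for every s ∈ S, writing s̄ for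
the spectrum of an algebraic closure of κ(s), the homomorphisms u₁ and u₂ restricted to points over
s̄ are conjugate by a point of G with values in s̄. Then u₁ and u₂ are conjugate locally for the
etale topology: every point of S is in the image of an etale S' ⟶ S over which there is an S'-point
g of G ×_S S' with u₂ = int(g) ∘ u₁ on points. -/
theorem result {S : Scheme.{u}} (H G : Over S) [GrpObj H] [GrpObj G]
    (hH : SGA3x.IsMultTypeFT H) (hG : Smooth G.hom) (hGa : IsAffineHom G.hom) (u₁ u₂ : H ⟶ G) [IsMonHom u₁] [IsMonHom u₂]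
    (hgeom : ∀ s : S, ∃ g : Over.mk (Red.geomPt s) ⟶ G, ∀ (X : Over S) (p : X ⟶ Over.mk (Red.geomPt s)) (h : X ⟶ H),
      h ≫ u₂ = (p ≫ g) * (h ≫ u₁) * (p ≫ g)⁻¹) :
    TwC.Locally S TwC.Topology.etale (fun S' f => ∃ g : 𝟙_ (Over S') ⟶ Red.bc f G,
      ∀ (X : Over S') (h : X ⟶ Red.bc f H),
        h ≫ (Over.pullback f).map u₂ = (toUnit X ≫ g) * (h ≫ (Over.pullback f).map u₁) * (toUnit X ≫ g)⁻¹) := by
  obtain ⟨T, j, hjc, hTs, hpts⟩ := Groth.Agent.S5257.result H G hH hG hGa u₁ u₂
  have := hTs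
  intro s
  -- the geometric point of the transporter
  obtain ⟨gs, hgs⟩ := hgeom s
  obtain ⟨ts, hts⟩ := (hpts (Over.mk (Red.geomPt s)) gs).mpr (fun X' x h => (hgs X' x h).symm)
  have hne : Nonempty ↥(Spec (CommRingCat.of (AlgebraicClosure (S.residueField s)))) :=
    inferInstance
  obtain ⟨y⟩ := hne
  have hy : T.hom (ts.left y) = s := by
    have h1 : ts.left ≫ T.hom = Red.geomPt s := Over.w ts
    rw [← Scheme.Hom.comp_apply, h1]
    have h2 : (Red.geomPt s) y ∈ Set.range (S.fromSpecResidueField s) := by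
      rw [Scheme.Hom.comp_apply]
      exact ⟨_, rfl⟩
    rw [Scheme.range_fromSpecResidueField] at h2
    exact h2
  obtain ⟨S', e, s', he, hes', h, hh⟩ :=
    Groth.Agent.Lib.Helper51.SmoothSection.exists_etale_section T.hom (ts.left y)
  refine ⟨S', e, he, ⟨s', by rw [← hy]; exact hes'⟩, ?_⟩
  let adj := Over.mapPullbackAdj e
  let X₀ : Over S' := 𝟙_ (Over S')
  let t₀ : (Over.map e).obj X₀ ⟶ T := Over.homMk h (by
    rw [hh]
    simp [X₀])
  let gS : (Over.map e).obj X₀ ⟶ G := t₀ ≫ j
  have hgS := (hpts _ gS).mp ⟨t₀, rfl⟩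
  refine ⟨adj.homEquiv X₀ G gS, ?_⟩
  intro X hX
  have hmul : ∀ (a b : X ⟶ Red.bc e G),
      (adj.homEquiv X G).symm (a * b) = (adj.homEquiv X G).symm a * (adj.homEquiv X G).symm b :=
    fun a b => Groth.Agent.Lib.Helper18.AdjMul.homEquiv_symm_mul adj G X a b
  rw [eq_mul_inv_iff_mul_eq]
  apply (adj.homEquiv X G).symm.injective
  rw [hmul, hmul, Adjunction.homEquiv_naturality_right_symm,
    Adjunction.homEquiv_naturality_right_symm, Adjunction.homEquiv_naturality_left_symm,
    Equiv.symm_apply_apply]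
  rw [← hgS _ ((Over.map e).map (toUnit X)) ((adj.homEquiv X H).symm hX)]
  group

end Groth.Agent.S5305
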