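import Groth.Statements.S5313
import Groth.Agent.Lib.Helper19.Grp.FibrewiseLoci
import Groth.Agent.Lib.Helper79.LfpOfComp
open Groth.Agent.Lib.Helper19

set_option autoImplicit false
universe u
open CategoryTheory CategoryTheory.Limits MonoidalCategory CartesianMonoidalCategory MonObj GrpObj AlgebraicGeometry
open SGA3

namespace Groth.Agent.S5313

/-- Let u : G → H be a homomorphism of S-group schemes, with G flat and locally of finite presentation
over S and H locally of finite type over S. Then the set U of points s of S such that the fibre u_s
: G_s → H_s over κ(s) is smooth is open in S, and the set of points of G at which u is smooth (u is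
smooth on some open neighbourhood) is the inverse image of U in G. (The published statement assumes
the finiteness and flatness conditions only at the points of the unit sections for the openness of
U; this row assumes them on all of G and H, the case in which the second assertion is stated.) -/
theorem result (S : Scheme.{u}) (G H : Over S) [GrpObj G] [GrpObj H] (u : G ⟶ H) [IsMonHom u]
    [Flat G.hom] [LocallyOfFinitePresentation G.hom] [LocallyOfFiniteType H.hom] :
    IsOpen {s : S | Smooth ((Over.pullback (S.fromSpecResidueField s)).map u).left} ∧
    {x : G.left | ∃ W : G.left.Opens, x ∈ W ∧ Smooth (W.ι ≫ u.left)} = G.hom.base ⁻¹' {s : S | Smooth ((Over.pullback (S.fromSpecResidueField s)).map u).left} := by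
  classical
  have hu : LocallyOfFinitePresentation u.left :=
    Groth.Agent.Lib.Helper79.lfp_of_comp (g := H.hom) (by rw [Over.w u]; infer_instance)
      inferInstance
  have hus : ∀ s : S, LocallyOfFinitePresentation (FibLoci.fibHom G H u s).left := fun s =>
    MorphismProperty.of_isPullback (P := @LocallyOfFinitePresentation)
      (FibLoci.isPullback_fib G H u s) hu
  have hflat : Flat (u.left ≫ H.hom) := by rw [Over.w u]; infer_instance
  have key := FibLoci.locus_eq_preimage_and_isOpen G H u
    (fun {X Y : Scheme.{u}} (f : X ⟶ Y) x => (f.stalkMap x).hom.FormallySmooth)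
    (by
      intro s x₁
      haveI := hus s
      constructor
      · intro hx₁
        exact @mem_smoothLocus_of_flat_of_smooth_fiberMap G.left H.left S H.hom u.left hu s _
          (FibLoci.fibι G s) (FibLoci.fibHom G H u s).left (hus s)
          (FibLoci.isPullback_fib G H u s) x₁
          (Flat.stalkMap (u.left ≫ H.hom) _) hx₁
      · intro hx
        exact preimage_smoothLocus_le_of_isPullback u.left (FibLoci.fibι H s)
          (FibLoci.fibHom G H u s).left (FibLoci.fibι G s) (FibLoci.isPullback_fib G H u s) hx)
    (by
      intro s ⟨x₁, hx₁⟩ y₁
      haveI : LocallyOfFiniteType ((Over.pullback (S.fromSpecResidueField s)).obj G).hom :=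
        inferInstanceAs (LocallyOfFiniteType (pullback.snd G.hom (S.fromSpecResidueField s)))
      haveI : LocallyOfFiniteType ((Over.pullback (S.fromSpecResidueField s)).obj H).hom :=
        inferInstanceAs (LocallyOfFiniteType (pullback.snd H.hom (S.fromSpecResidueField s)))
      exact forall_of_exists_of_isFlatBaseChangeInvariant (S.residueField s)
        isFlatBaseChangeInvariant_formallySmooth _ _ (FibLoci.fibHom G H u s) x₁ hx₁ y₁)
    u.left.smoothLocus.2
  have hE : {s : S | Smooth ((Over.pullback (S.fromSpecResidueField s)).map u).left} =
      {s : S | ∀ x₁, ((FibLoci.fibHom G H u s).left.stalkMap x₁).hom.FormallySmooth} := by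
    ext s
    haveI := hus s
    simp only [Set.mem_setOf_eq]
    rw [← Scheme.Hom.smoothLocus_eq_top_iff]
    constructor
    · intro h x₁
      have : x₁ ∈ (FibLoci.fibHom G H u s).left.smoothLocus := by rw [h]; trivial
      exact this
    · intro h
      ext x₁
      simp only [TopologicalSpace.Opens.coe_top, Set.mem_univ, iff_true]
      exact h x₁
  have hW : {x : G.left | ∃ W : G.left.Opens, x ∈ W ∧ Smooth (W.ι ≫ u.left)} =
      {x : G.left | (u.left.stalkMap x).hom.FormallySmooth} := by
    ext x
    exact (mem_smoothLocus_iff_exists_nhd u.left x).symm
  rw [hE, hW]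
  exact key

end Groth.Agent.S5313
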