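import Groth.Statements.S5315
import Groth.Agent.Lib.Helper19.Grp.FibrewiseLoci
import Groth.Agent.Lib.Helper19.Grp.BaseChangeHomogeneity
import Groth.Agent.Lib.Helper19.Sm.QuasiFiniteAtBaseChange
open Groth.Agent.Lib.Helper19

set_option autoImplicit false
universe u
open CategoryTheory CategoryTheory.Limits MonoidalCategory CartesianMonoidalCategory MonObj GrpObj AlgebraicGeometry
open SGA3

namespace Groth.Agent.S5315

/-- Let u : G → H be a homomorphism of S-group schemes which is locally of finite type, and suppose
every fibre G_s is locally of finite type over κ(s). Then the set U of points s of S such that u_s :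
G_s → H_s is locally quasi-finite is open in S, and the set of points of G at which u is
quasi-finite (u is locally quasi-finite on some open neighbourhood) is the inverse image of U in G.
(The published statement assumes u locally of finite type only near the unit section for the
openness of U; this row assumes it on all of G, the case in which the second assertion is stated.) -/
theorem result (S : Scheme.{u}) (G H : Over S) [GrpObj G] [GrpObj H] (u : G ⟶ H)
    [IsMonHom u] [LocallyOfFiniteType u.left] (hG : ∀ s : S, LocallyOfFiniteType (G.hom.fiberToSpecResidueField s)) :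
    IsOpen {s : S | LocallyQuasiFinite ((Over.pullback (S.fromSpecResidueField s)).map u).left} ∧
    {x : G.left | ∃ W : G.left.Opens, x ∈ W ∧ LocallyQuasiFinite (W.ι ≫ u.left)} =
      G.hom.base ⁻¹' {s : S | LocallyQuasiFinite ((Over.pullback (S.fromSpecResidueField s)).map u).left} := by
  classical
  have hus : ∀ s : S, LocallyOfFiniteType (FibLoci.fibHom G H u s).left := fun s =>
    MorphismProperty.of_isPullback (P := @LocallyOfFiniteType)
      (FibLoci.isPullback_fib G H u s) inferInstance
  have hinv : IsBaseChangeInvariant
      (fun {X Y : Scheme.{u}} (f : X ⟶ Y) x => f.QuasiFiniteAt x) := by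
    intro X' X Y' Y k f' f g sq hf x'
    haveI := hf
    exact quasiFiniteAt_iff_of_isPullback sq x'
  have key := FibLoci.locus_eq_preimage_and_isOpen G H u
    (fun {X Y : Scheme.{u}} (f : X ⟶ Y) x => f.QuasiFiniteAt x)
    (fun s x₁ => quasiFiniteAt_iff_of_isPullback (FibLoci.isPullback_fib G H u s) x₁)
    (by
      intro s ⟨x₁, hx₁⟩ y₁
      haveI := hus s
      exact forall_of_exists_of_isBaseChangeInvariant hinv _ _
        (FibLoci.fibHom G H u s) x₁ hx₁ y₁)
    u.left.isOpen_quasiFiniteAt
  have hE : {s : S | LocallyQuasiFinite ((Over.pullback (S.fromSpecResidueField s)).map u).left} =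
      {s : S | ∀ x₁, (FibLoci.fibHom G H u s).left.QuasiFiniteAt x₁} := by
    ext s
    haveI := hus s
    simp only [Set.mem_setOf_eq]
    rw [← Scheme.Hom.quasiFiniteLocus_eq_top_iff]
    constructor
    · intro h x₁
      have : x₁ ∈ (FibLoci.fibHom G H u s).left.quasiFiniteLocus := by rw [h]; trivial
      exact this
    · intro h
      ext x₁
      simp only [TopologicalSpace.Opens.coe_top, Set.mem_univ, iff_true]
      exact h x₁
  have hW : {x : G.left | ∃ W : G.left.Opens, x ∈ W ∧ LocallyQuasiFinite (W.ι ≫ u.left)} =
      {x : G.left | u.left.QuasiFiniteAt x} := by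
    ext x
    exact (quasiFiniteAt_iff_exists_nhd u.left x).symm
  rw [hE, hW]
  exact key

end Groth.Agent.S5315
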