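import Groth.Statements.S5316
import Groth.Agent.Lib.Helper19.Grp.FibrewiseLoci
import Groth.Agent.Lib.Helper19.Grp.BaseChangeHomogeneity
open Groth.Agent.Lib.Helper19

set_option autoImplicit false
universe u
open CategoryTheory CategoryTheory.Limits MonoidalCategory CartesianMonoidalCategory MonObj GrpObj AlgebraicGeometry
open SGA3

namespace Groth.Agent.S5316

/-- Let u : G → H be a homomorphism of S-group schemes which is locally of finite presentation, and
suppose every fibre G_s is locally of finite type over κ(s). Then the set U of points s of S such
that u_s : G_s → H_s is unramified (formally unramified; it is locally of finite presentation) is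
open in S, and the set of points of G at which u is unramified (formally unramified on some open
neighbourhood) is the inverse image of U in G. (The published statement assumes u locally of finite
presentation only near the unit section for the openness of U; this row assumes it on all of G, the
case in which the second assertion is stated.) -/
theorem result (S : Scheme.{u}) (G H : Over S) [GrpObj G] [GrpObj H] (u : G ⟶ H)
    [IsMonHom u] [LocallyOfFinitePresentation u.left] (hG : ∀ s : S, LocallyOfFiniteType (G.hom.fiberToSpecResidueField s)) :
    IsOpen {s : S | FormallyUnramified ((Over.pullback (S.fromSpecResidueField s)).map u).left} ∧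
    {x : G.left | ∃ W : G.left.Opens, x ∈ W ∧ FormallyUnramified (W.ι ≫ u.left)} =
      G.hom.base ⁻¹' {s : S | FormallyUnramified ((Over.pullback (S.fromSpecResidueField s)).map u).left} := by
  classical
  have hus : ∀ s : S, LocallyOfFiniteType (FibLoci.fibHom G H u s).left := fun s =>
    MorphismProperty.of_isPullback (P := @LocallyOfFiniteType)
      (FibLoci.isPullback_fib G H u s) inferInstance
  have key := FibLoci.locus_eq_preimage_and_isOpen G H u
    (fun {X Y : Scheme.{u}} (f : X ⟶ Y) x =>
      ∃ U : X.Opens, x ∈ U ∧ FormallyUnramified (U.ι ≫ f))
    (fun s x₁ => exists_nhd_formallyUnramified_iff_of_isPullback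
      (FibLoci.isPullback_fib G H u s) x₁)
    (by
      intro s ⟨x₁, hx₁⟩ y₁
      haveI := hus s
      exact forall_of_exists_of_isBaseChangeInvariant isBaseChangeInvariant_unramified _ _
        (FibLoci.fibHom G H u s) x₁ hx₁ y₁)
    (isOpen_iff_forall_mem_open.mpr fun x ⟨W, hx, hW⟩ =>
      ⟨W, fun y hy => ⟨W, hy, hW⟩, W.2, hx⟩)
  have hE : {s : S | FormallyUnramified ((Over.pullback (S.fromSpecResidueField s)).map u).left} =
      {s : S | ∀ x₁, ∃ U : ((Over.pullback (S.fromSpecResidueField s)).obj G).left.Opens,
        x₁ ∈ U ∧ FormallyUnramified (U.ι ≫ (FibLoci.fibHom G H u s).left)} := by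
    ext s
    simp only [Set.mem_setOf_eq]
    constructor
    · intro h x₁
      haveI : FormallyUnramified (FibLoci.fibHom G H u s).left := h
      exact ⟨⊤, trivial, MorphismProperty.comp_mem _ _ _
        (inferInstance : FormallyUnramified (⊤ : ((Over.pullback
          (S.fromSpecResidueField s)).obj G).left.Opens).ι) h⟩
    · intro h
      haveI := hus s
      exact formallyUnramified_of_forall_exists_nhd _ h
  rw [hE]
  exact key

end Groth.Agent.S5316
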