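import Groth.Statements.S5317
import Groth.Agent.S5314
import Groth.Agent.Lib.Helper19.Sm.EtaleRadicial
open Groth.Agent.Lib.Helper19

set_option autoImplicit false
universe u
open CategoryTheory CategoryTheory.Limits MonoidalCategory CartesianMonoidalCategory MonObj GrpObj AlgebraicGeometry
open SGA3

namespace Groth.Agent.S5317

/-- Let u : G → H be a homomorphism of S-group schemes which is universally injective (for instance a
monomorphism), with G flat and locally of finite presentation over S and H locally of finite type
over S. Then the set U of points s of S such that u_s : G_s → H_s is an open immersion is open in S,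
and the restriction of u over every open of S contained in U is an open immersion. -/
theorem result (S : Scheme.{u}) (G H : Over S) [GrpObj G] [GrpObj H]
    (u : G ⟶ H) [IsMonHom u] [UniversallyInjective u.left]
    [Flat G.hom] [LocallyOfFinitePresentation G.hom] [LocallyOfFiniteType H.hom] :
    IsOpen {s : S | IsOpenImmersion ((Over.pullback (S.fromSpecResidueField s)).map u).left} ∧
    ∀ W : S.Opens, (W : Set S) ⊆ {s : S | IsOpenImmersion ((Over.pullback (S.fromSpecResidueField s)).map u).left} → IsOpenImmersion ((G.hom ⁻¹ᵁ W).ι ≫ u.left) := by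
  classical
  obtain ⟨hopen, heq⟩ := Groth.Agent.S5314.result S G H u
  have hu : LocallyOfFinitePresentation u.left :=
    Groth.Agent.Lib.Helper79.lfp_of_comp (g := H.hom) (by rw [Over.w u]; infer_instance)
      inferInstance
  have hE : {s : S | IsOpenImmersion ((Over.pullback (S.fromSpecResidueField s)).map u).left} =
      {s : S | Etale ((Over.pullback (S.fromSpecResidueField s)).map u).left} := by
    ext s
    simp only [Set.mem_setOf_eq]
    constructor
    · intro h
      infer_instance
    · intro h
      haveI : UniversallyInjective ((Over.pullback (S.fromSpecResidueField s)).map u).left :=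
        MorphismProperty.of_isPullback (P := @UniversallyInjective)
          (FibLoci.isPullback_fib G H u s) inferInstance
      exact isOpenImmersion_of_etale_of_universallyInjective _
  rw [hE]
  refine ⟨hopen, fun W hW => ?_⟩
  have hV : ∀ x : G.left, x ∈ G.hom ⁻¹ᵁ W →
      ∃ W' : G.left.Opens, x ∈ W' ∧ Etale (W'.ι ≫ u.left) := by
    intro x hx
    have : x ∈ G.hom.base ⁻¹' {s : S | Etale ((Over.pullback
        (S.fromSpecResidueField s)).map u).left} := hW hx
    rw [← heq] at this
    exact this
  have het : Etale ((G.hom ⁻¹ᵁ W).ι ≫ u.left) := by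
    rw [etale_iff_smooth_and_formallyUnramified]
    constructor
    · rw [← Scheme.Hom.smoothLocus_eq_top_iff, ← Scheme.Hom.preimage_smoothLocus_eq]
      ext a
      simp only [TopologicalSpace.Opens.coe_top, Set.mem_univ, iff_true]
      obtain ⟨W', hxW', hW'⟩ := hV a.1 a.2
      exact (mem_smoothLocus_iff_exists_nhd u.left a.1).mpr ⟨W', hxW', inferInstance⟩
    · haveI : LocallyOfFiniteType ((G.hom ⁻¹ᵁ W).ι ≫ u.left) := inferInstance
      refine formallyUnramified_of_forall_exists_nhd _ fun a => ?_
      obtain ⟨W', hxW', hW'⟩ := hV a.1 a.2
      refine ⟨(G.hom ⁻¹ᵁ W).ι ⁻¹ᵁ W', hxW', ?_⟩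
      rw [← Category.assoc, ← morphismRestrict_ι, Category.assoc]
      exact MorphismProperty.comp_mem _ _ _
        (inferInstance : FormallyUnramified ((G.hom ⁻¹ᵁ W).ι ∣_ W')) inferInstance
  haveI : UniversallyInjective ((G.hom ⁻¹ᵁ W).ι ≫ u.left) :=
    MorphismProperty.comp_mem _ _ _ (inferInstance : UniversallyInjective (G.hom ⁻¹ᵁ W).ι)
      inferInstance
  exact isOpenImmersion_of_etale_of_universallyInjective _

end Groth.Agent.S5317
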