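import Groth.Statements.S5318
import Mathlib
import Groth.Agent.Lib.Helper19.UnramifiedFiber
import Groth.Agent.Lib.Helper19.Grp.UnramifiedArtin

set_option autoImplicit false
universe u
open CategoryTheory CategoryTheory.Limits MonoidalCategory CartesianMonoidalCategory MonObj GrpObj AlgebraicGeometry
open SGA3

namespace Groth.Agent.S5318

section Cat

variable {C : Type*} [Category C] [CartesianMonoidalCategory C] (G : C) [GrpObj G]

lemma isPullback_diag :
    IsPullback (lift (𝟙 G) (𝟙 G)) (toUnit G) (fst G G / snd G G) η[G] := by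
  refine ⟨⟨?_⟩, ⟨PullbackCone.IsLimit.mk _ (fun s => s.fst ≫ fst G G) ?_ ?_ ?_⟩⟩
  · rw [GrpObj.comp_div, lift_fst, lift_snd, div_self']
    rfl
  · intro s
    have h := s.condition
    rw [GrpObj.comp_div] at h
    have h1 : s.snd ≫ η[G] = 1 := by
      rw [toUnit_unique s.snd (toUnit _)]; rfl
    have h2 : s.fst ≫ fst G G = s.fst ≫ snd G G := div_eq_one.mp (h.trans h1)
    apply CartesianMonoidalCategory.hom_ext
    · simp
    · simp [h2]
  · intro s
    exact toUnit_unique _ _
  · intro s m h1 _
    rw [← h1]
    simp

end Cat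

variable {S : Scheme.{u}} (G : Over S) [GrpObj G]

omit [GrpObj G] in
lemma diag_left : (lift (𝟙 G) (𝟙 G)).left = pullback.diagonal G.hom := by
  apply pullback.hom_ext
  · rw [pullback.diagonal_fst]
    exact congrArg (fun m => m.left) (lift_fst (𝟙 G) (𝟙 G))
  · rw [pullback.diagonal_snd]
    exact congrArg (fun m => m.left) (lift_snd (𝟙 G) (𝟙 G))

omit [GrpObj G] in
theorem lfp_of_lft_of_isLocallyNoetherian {X S : Scheme.{u}} (g : X ⟶ S) [LocallyOfFiniteType g]
    [IsLocallyNoetherian S] : LocallyOfFinitePresentation g := by
  rw [HasRingHomProperty.iff_appLE (P := @LocallyOfFinitePresentation)]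
  intro U V e
  have hft : (g.appLE U V e).hom.FiniteType :=
    (HasRingHomProperty.iff_appLE (P := @LocallyOfFiniteType)).1 ‹_› U V e
  have : IsNoetherianRing Γ(S, U.1) := IsLocallyNoetherian.component_noetherian U
  algebraize [(g.appLE U V e).hom]
  exact Algebra.FinitePresentation.of_finiteType.1 hft

lemma unit_hom : η[G].left ≫ G.hom = 𝟙 _ := Over.w η[G]

/-- unit open immersion ⟹ diagonal open immersion -/
lemma diag_of_unit [IsOpenImmersion η[G].left] : IsOpenImmersion (pullback.diagonal G.hom) := by
  have hpb := (isPullback_diag G).map (Over.forget S)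
  rw [← diag_left]
  exact MorphismProperty.of_isPullback (P := @IsOpenImmersion) hpb.flip ‹_›

omit [GrpObj G] in
/-- a section of a morphism with open diagonal is an open immersion -/
lemma isOpenImmersion_of_section {X Y : Scheme.{u}} (f : X ⟶ Y) (s : Y ⟶ X) (hs : s ≫ f = 𝟙 Y)
    [IsOpenImmersion (pullback.diagonal f)] : IsOpenImmersion s := by
  have : MorphismProperty.HasOfPostcompProperty @IsOpenImmersion
      (MorphismProperty.diagonal @IsOpenImmersion) :=
    MorphismProperty.hasOfPostcompProperty_iff_le_diagonal.mpr le_rfl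
  have h1 : IsOpenImmersion (s ≫ f) := by rw [hs]; infer_instance
  exact MorphismProperty.of_postcomp (W := @IsOpenImmersion)
    (W' := MorphismProperty.diagonal @IsOpenImmersion) s f ‹_› h1

theorem part2 [LocallyOfFinitePresentation G.hom] :
    IsOpenImmersion η[G].left ↔ FormallyUnramified G.hom := by
  constructor
  · intro h
    have := diag_of_unit G
    infer_instance
  · intro h
    exact isOpenImmersion_of_section G.hom η[G].left (unit_hom G)

theorem part1_mp (h : IsOpenImmersion η[G].left) :
    (∃ W : G.left.Opens, (∀ p : ↥(𝟙_ (Over S)).left, η[G].left.base p ∈ W) ∧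
      LocallyOfFinitePresentation (W.ι ≫ G.hom)) ∧
    ∀ s : S, FormallyUnramified (G.hom.fiberToSpecResidueField s) ∧
      LocallyOfFinitePresentation (G.hom.fiberToSpecResidueField s) := by
  have hd := diag_of_unit G
  refine ⟨⟨η[G].left.opensRange, fun p => ⟨p, rfl⟩, ?_⟩, fun s => ?_⟩
  · have h1 : η[G].left.opensRange.ι = η[G].left.isoOpensRange.inv ≫ η[G].left := by
      rw [Iso.eq_inv_comp]
      exact Scheme.Hom.isoOpensRange_hom_ι _
    rw [h1, Category.assoc, unit_hom, Category.comp_id]
    infer_instance
  · have hds : IsOpenImmersion (pullback.diagonal (G.hom.fiberToSpecResidueField s)) :=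
      MorphismProperty.pullback_snd (P := MorphismProperty.diagonal @IsOpenImmersion)
        G.hom (S.fromSpecResidueField s) hd
    have hunr : FormallyUnramified (G.hom.fiberToSpecResidueField s) := inferInstance
    have hart : IsArtinianRing (S.residueField s) := by
      let _ : Field (S.residueField s) := inferInstance
      infer_instance
    have hlft : LocallyOfFiniteType (G.hom.fiberToSpecResidueField s) :=
      @Groth.Agent.Lib.Helper19.UnramifiedArtin.locallyOfFiniteType_of_isOpenImmersion_diagonal
        (S.residueField s) _ hart _ _ (G.hom.fiberToSpecResidueField s) hds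
    exact ⟨hunr, lfp_of_lft_of_isLocallyNoetherian _⟩

theorem part1_mpr (W : G.left.Opens) (hW : ∀ p : ↥(𝟙_ (Over S)).left, η[G].left.base p ∈ W)
    (hlfp : LocallyOfFinitePresentation (W.ι ≫ G.hom))
    (hfib : ∀ s : S, FormallyUnramified (G.hom.fiberToSpecResidueField s)) :
    IsOpenImmersion η[G].left := by
  have hlft : LocallyOfFiniteType (W.ι ≫ G.hom) := inferInstance
  have hunr : FormallyUnramified (W.ι ≫ G.hom) := by
    refine Groth.Agent.Lib.Helper19.formallyUnramified_of_fiberToSpecResidueField _ fun s => ?_
    have e : (W.ι ≫ G.hom).fiberToSpecResidueField s =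
        pullback.map (W.ι ≫ G.hom) (S.fromSpecResidueField s) G.hom (S.fromSpecResidueField s)
          W.ι (𝟙 _) (𝟙 _) (by simp) (by simp) ≫ G.hom.fiberToSpecResidueField s := by
      unfold Scheme.Hom.fiberToSpecResidueField
      rw [pullback.lift_snd, Category.comp_id]
    rw [e]
    have hm : FormallyUnramified (pullback.map (W.ι ≫ G.hom) (S.fromSpecResidueField s) G.hom
        (S.fromSpecResidueField s) W.ι (𝟙 _) (𝟙 _) (by simp) (by simp)) := by
      have : IsIso (pullback.diagonal (pullback.map (W.ι ≫ G.hom) (S.fromSpecResidueField s) G.hom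
          (S.fromSpecResidueField s) W.ι (𝟙 _) (𝟙 _) (by simp) (by simp))) :=
        (pullback.isIso_diagonal_iff _).mpr inferInstance
      infer_instance
    exact MorphismProperty.comp_mem _ _ _ hm (hfib s)
  have hdiag : IsOpenImmersion (pullback.diagonal (W.ι ≫ G.hom)) := inferInstance
  -- the section through W
  have hr : Set.range η[G].left.base ⊆ Set.range W.ι.base := by
    rintro _ ⟨p, rfl⟩
    rw [Scheme.Opens.range_ι]
    exact hW p
  let σ : S ⟶ W.toScheme := IsOpenImmersion.lift W.ι η[G].left hr
  have hσ : σ ≫ W.ι = η[G].left := IsOpenImmersion.lift_fac _ _ _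
  have hσ2 : σ ≫ (W.ι ≫ G.hom) = 𝟙 S := by
    rw [← Category.assoc, hσ]; exact unit_hom G
  have := isOpenImmersion_of_section (W.ι ≫ G.hom) σ hσ2
  rw [← hσ]
  infer_instance


/-- (ii) ⟺ (iii) and, for G locally of finite presentation over S, (ii) ⟺ (iv): let G be an S-group
scheme. The unit section of G is an open immersion if and only if G is locally of finite
presentation over S on some open containing the unit section and every fibre G_s is unramified
(formally unramified and locally of finite presentation) over κ(s). If G is locally of finite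
presentation over S, the unit section is an open immersion if and only if G is unramified over S. -/
theorem result (S : Scheme.{u}) (G : Over S) [GrpObj G] :
    (IsOpenImmersion η[G].left ↔
      ((∃ W : G.left.Opens, (∀ p : ↥(𝟙_ (Over S)).left, η[G].left.base p ∈ W) ∧ LocallyOfFinitePresentation (W.ι ≫ G.hom)) ∧
        ∀ s : S, FormallyUnramified (G.hom.fiberToSpecResidueField s) ∧ LocallyOfFinitePresentation (G.hom.fiberToSpecResidueField s))) ∧
    (LocallyOfFinitePresentation G.hom → (IsOpenImmersion η[G].left ↔ FormallyUnramified G.hom)) := by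
  refine ⟨⟨part1_mp G, ?_⟩, fun h => part2 G⟩
  rintro ⟨⟨W, hW, hlfp⟩, hfib⟩
  exact part1_mpr G W hW hlfp fun s => (hfib s).1

end Groth.Agent.S5318
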