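import Groth.Statements.S5320
import Mathlib
import Groth.Agent.S5316
import Groth.Agent.S5318

set_option autoImplicit false
universe u
open CategoryTheory CategoryTheory.Limits MonoidalCategory CartesianMonoidalCategory MonObj GrpObj AlgebraicGeometry
open SGA3

namespace Groth.Agent.S5320

section Cat

variable {C : Type*} [Category C] [CartesianMonoidalCategory C] {G H K : C} [GrpObj G] [GrpObj H]
  [GrpObj K] (u : G ⟶ H) [IsMonHom u] (i : K ⟶ G) [IsMonHom i]
  (hK : IsPullback i (toUnit K) u η[H])
  {P : C} (p1 p2 : P ⟶ G) (hP : IsPullback p1 p2 u u) (δ : G ⟶ P) (hδ1 : δ ≫ p1 = 𝟙 G)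
  (hδ2 : δ ≫ p2 = 𝟙 G)

include hK hP hδ1 hδ2 in
/-- The relative diagonal of a homomorphism is a base change of the unit section of its kernel. -/
lemma exists_isPullback_diag_kernel :
    ∃ k : P ⟶ K, IsPullback δ (toUnit G) k η[K] := by
  have hd : (p1 / p2) ≫ u = toUnit P ≫ η[H] := by
    rw [GrpObj.div_comp, hP.w, div_self']
    rfl
  obtain ⟨k, hk⟩ : ∃ k : P ⟶ K, k ≫ i = p1 / p2 :=
    ⟨hK.lift (p1 / p2) (toUnit P) hd, hK.lift_fst _ _ _⟩
  refine ⟨k, ?_⟩
  have hone : ∀ {T : C} (t : T ⟶ 𝟙_ C), t ≫ η[K] ≫ i = 1 := by
    intro T t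
    rw [IsMonHom.one_hom, toUnit_unique t (toUnit _)]
    rfl
  refine ⟨⟨?_⟩, ⟨PullbackCone.IsLimit.mk _ (fun s => s.fst ≫ p1) ?_ ?_ ?_⟩⟩
  · apply hK.hom_ext
    · rw [Category.assoc, hk, GrpObj.comp_div, hδ1, hδ2, div_self', Category.assoc, hone]
    · exact toUnit_unique _ _
  · intro s
    have h := s.condition
    have h2 : s.fst ≫ (p1 / p2) = 1 := by
      rw [← hk, ← Category.assoc, h, Category.assoc, hone]
    rw [GrpObj.comp_div] at h2
    have h3 : s.fst ≫ p1 = s.fst ≫ p2 := div_eq_one.mp h2
    apply hP.hom_ext
    · rw [Category.assoc, Category.assoc, hδ1, Category.comp_id]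
    · rw [Category.assoc, Category.assoc, hδ2, Category.comp_id, h3]
  · intro s
    exact toUnit_unique _ _
  · intro s m h1 _
    rw [← h1, Category.assoc, hδ1, Category.comp_id]

end Cat

variable {S : Scheme.{u}} {G H : Over S} [GrpObj G] [GrpObj H] (u : G ⟶ H) [IsMonHom u]
  {K : Over S} [GrpObj K] (i : K ⟶ G) [IsMonHom i] (hK : AlgGrp.IsKernel i u)

lemma toUnit_left (K : Over S) : (toUnit K).left = K.hom := by
  have := Over.w (toUnit K)
  simpa using this

include hK in
omit [GrpObj G] [IsMonHom u] [GrpObj K] [IsMonHom i] in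
lemma kernel_hom_bc : IsPullback i.left K.hom u.left η[H].left := by
  have := hK.map (Over.forget S)
  simpa [toUnit_left] using this

include hK in
lemma diag_of_unit_kernel [IsOpenImmersion η[K].left] :
    IsOpenImmersion (pullback.diagonal u.left) := by
  have hP := IsPullback.of_hasPullback u u
  let δ : G ⟶ pullback u u := pullback.diagonal u
  have hδ1 : δ ≫ pullback.fst u u = 𝟙 G := pullback.diagonal_fst u
  have hδ2 : δ ≫ pullback.snd u u = 𝟙 G := pullback.diagonal_snd u
  obtain ⟨k, hk⟩ := exists_isPullback_diag_kernel u i hK (pullback.fst u u) (pullback.snd u u) hP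
    δ hδ1 hδ2
  have hk' : IsPullback δ.left (toUnit G).left k.left η[K].left := hk.map (Over.forget S)
  have hP' : IsPullback (pullback.fst u u).left (pullback.snd u u).left u.left u.left :=
    hP.map (Over.forget S)
  have h1 : IsOpenImmersion δ.left :=
    MorphismProperty.of_isPullback (P := @IsOpenImmersion) hk'.flip ‹_›
  have e : pullback.diagonal u.left = δ.left ≫ hP'.isoPullback.hom := by
    apply pullback.hom_ext
    · rw [pullback.diagonal_fst, Category.assoc, hP'.isoPullback_hom_fst]
      exact (congrArg (fun m => m.left) hδ1).symm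
    · rw [pullback.diagonal_snd, Category.assoc, hP'.isoPullback_hom_snd]
      exact (congrArg (fun m => m.left) hδ2).symm
  rw [e]
  infer_instance


/-- Let u : G → H be a homomorphism of S-group schemes which is locally of finite presentation, with
every fibre G_s locally of finite type over κ(s), and let i : K → G be the kernel of u (the square
i, u, unit of H is cartesian, K with the group structure making i a homomorphism). The following are
equivalent: u is unramified (formally unramified); every fibre u_s : G_s → H_s is unramified; K is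
unramified over S; the unit section of K is an open immersion. -/
theorem result (S : Scheme.{u}) (G H : Over S) [GrpObj G] [GrpObj H] (u : G ⟶ H) [IsMonHom u]
    [LocallyOfFinitePresentation u.left] (hG : ∀ s : S, LocallyOfFiniteType (G.hom.fiberToSpecResidueField s)) (K : Over S) [GrpObj K] (i : K ⟶ G) [IsMonHom i] (hK : AlgGrp.IsKernel i u) :
    (FormallyUnramified u.left ↔ ∀ s : S, FormallyUnramified ((Over.pullback (S.fromSpecResidueField s)).map u).left) ∧
    (FormallyUnramified u.left ↔ FormallyUnramified K.hom) ∧
    (FormallyUnramified u.left ↔ IsOpenImmersion η[K].left) := by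
  have hbc := kernel_hom_bc u i hK
  have hKlfp : LocallyOfFinitePresentation K.hom :=
    MorphismProperty.of_isPullback (P := @LocallyOfFinitePresentation) hbc inferInstance
  have hb : FormallyUnramified u.left ↔ FormallyUnramified K.hom := by
    constructor
    · intro h
      exact MorphismProperty.of_isPullback (P := @FormallyUnramified) hbc h
    · intro h
      have : IsOpenImmersion η[K].left := (Groth.Agent.S5318.part2 K).mpr h
      have := diag_of_unit_kernel u i hK
      infer_instance
  refine ⟨⟨fun h s => ?_, fun h => ?_⟩, hb, hb.trans (Groth.Agent.S5318.part2 K).symm⟩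
  · exact MorphismProperty.of_isPullback (P := @FormallyUnramified)
      (Groth.Agent.Lib.Helper19.FibLoci.isPullback_fib G H u s) h
  · have key := (Groth.Agent.S5316.result S G H u hG).2
    refine Groth.Agent.Lib.Helper19.formallyUnramified_of_forall_exists_nhd _ fun x => ?_
    have hx : x ∈ G.hom.base ⁻¹' {s : S | FormallyUnramified
        ((Over.pullback (S.fromSpecResidueField s)).map u).left} := h _
    rw [← key] at hx
    exact hx

end Groth.Agent.S5320
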