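import Groth.Statements.S5319
import Mathlib
import Groth.Agent.S5315
import Groth.Agent.S5320

set_option autoImplicit false
universe u
open CategoryTheory CategoryTheory.Limits MonoidalCategory CartesianMonoidalCategory MonObj GrpObj AlgebraicGeometry
open SGA3

namespace Groth.Agent.S5319

section Cat

variable {C : Type*} [Category C] [CartesianMonoidalCategory C] {G H K : C} [GrpObj G] [GrpObj H]
  [GrpObj K] (u : G ⟶ H) [IsMonHom u] (i : K ⟶ G) [IsMonHom i]
  (hK : IsPullback i (toUnit K) u η[H])
  {P : C} (p1 p2 : P ⟶ G) (hP : IsPullback p1 p2 u u)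

include hK hP in
omit [GrpObj K] [IsMonHom i] in
lemma exists_k : ∃ k : P ⟶ K, k ≫ i = p1 / p2 := by
  have hd : (p1 / p2) ≫ u = toUnit P ≫ η[H] := by
    rw [GrpObj.div_comp, hP.w, div_self']
    rfl
  exact ⟨hK.lift (p1 / p2) (toUnit P) hd, hK.lift_fst _ _ _⟩

include hK hP in
omit [GrpObj K] [IsMonHom i] in
/-- `G ×_H G ≅ G × K` via `(g, g') ↦ (g, g g'⁻¹)`. -/
lemma isPullback_p1_k (k : P ⟶ K) (hk : k ≫ i = p1 / p2) :
    IsPullback p1 k (toUnit G) (toUnit K) := by
  have hlift : ∀ {T : C} (a : T ⟶ G) (b : T ⟶ K), a ≫ u = ((b ≫ i)⁻¹ * a) ≫ u := by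
    intro T a b
    have h1 : (b ≫ i) ≫ u = 1 := by
      rw [Category.assoc, hK.w, ← Category.assoc, toUnit_unique (b ≫ toUnit K) (toUnit _)]
      rfl
    rw [MonObj.mul_comp, GrpObj.inv_comp, h1, inv_one, _root_.one_mul]
  refine ⟨⟨toUnit_unique _ _⟩, ⟨PullbackCone.IsLimit.mk _
    (fun s => hP.lift s.fst ((s.snd ≫ i)⁻¹ * s.fst) (hlift _ _)) ?_ ?_ ?_⟩⟩
  · intro s
    exact hP.lift_fst _ _ _
  · intro s
    apply hK.hom_ext
    · rw [Category.assoc, hk, GrpObj.comp_div, hP.lift_fst, hP.lift_snd, div_eq_mul_inv,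
        _root_.mul_inv_rev, _root_.inv_inv, _root_.mul_inv_cancel_left]
    · exact toUnit_unique _ _
  · intro s m h1 h2
    apply hP.hom_ext
    · rw [hP.lift_fst, h1]
    · rw [hP.lift_snd, ← h1, ← h2, Category.assoc, hk, GrpObj.comp_div, _root_.inv_div, _root_.div_mul_cancel]

end Cat

variable {S : Scheme.{u}} {G H : Over S} [GrpObj G] [GrpObj H] (u : G ⟶ H) [IsMonHom u]
  {K : Over S} [GrpObj K] (i : K ⟶ G) [IsMonHom i] (hK : AlgGrp.IsKernel i u)

include hK in
omit [GrpObj K] [IsMonHom i] in
lemma lqf_of_kernel [LocallyOfFiniteType u.left] [LocallyQuasiFinite K.hom] :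
    LocallyQuasiFinite u.left := by
  have hP := IsPullback.of_hasPullback u u
  let δ : G ⟶ pullback u u := pullback.diagonal u
  have hδ2 : δ ≫ pullback.snd u u = 𝟙 G := pullback.diagonal_snd u
  obtain ⟨k, hk⟩ := exists_k u i hK (pullback.fst u u) (pullback.snd u u) hP
  have h1 := (isPullback_p1_k u i hK _ _ hP k hk).map (Over.forget S)
  have h1' : IsPullback (pullback.fst u u).left k.left G.hom K.hom := by
    simpa [Groth.Agent.S5320.toUnit_left] using h1
  have hP' : IsPullback (pullback.fst u u).left (pullback.snd u u).left u.left u.left :=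
    hP.map (Over.forget S)
  have hq : LocallyQuasiFinite (pullback.fst u u).left :=
    MorphismProperty.of_isPullback (P := @LocallyQuasiFinite) h1'.flip inferInstance
  rw [← Scheme.Hom.quasiFiniteLocus_eq_top_iff]
  ext x
  simp only [TopologicalSpace.Opens.coe_top, Set.mem_univ, iff_true]
  have h2 := (Groth.Agent.Lib.Helper19.quasiFiniteAt_iff_of_isPullback hP'.flip (δ.left x)).mp
    ((pullback.fst u u).left.quasiFiniteAt _)
  have e : (pullback.snd u u).left (δ.left x) = x := by
    rw [← Scheme.Hom.comp_apply, ← Over.comp_left, hδ2]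
    rfl
  rw [e] at h2
  exact h2


/-- Let u : G → H be a homomorphism of S-group schemes which is locally of finite type, with every fibre
G_s locally of finite type over κ(s), and let i : K → G be the kernel of u (the square i, u, unit of
H is cartesian). The following are equivalent: u is locally quasi-finite; every fibre u_s : G_s →
H_s is locally quasi-finite; K is locally quasi-finite over S; every fibre of K over S is a discrete
space. -/
theorem result (S : Scheme.{u}) (G H : Over S) [GrpObj G] [GrpObj H] (u : G ⟶ H) [IsMonHom u]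
    [LocallyOfFiniteType u.left] (hG : ∀ s : S, LocallyOfFiniteType (G.hom.fiberToSpecResidueField s)) (K : Over S) [GrpObj K] (i : K ⟶ G) [IsMonHom i] (hK : AlgGrp.IsKernel i u) :
    (LocallyQuasiFinite u.left ↔ ∀ s : S, LocallyQuasiFinite ((Over.pullback (S.fromSpecResidueField s)).map u).left) ∧
    (LocallyQuasiFinite u.left ↔ LocallyQuasiFinite K.hom) ∧
    (LocallyQuasiFinite u.left ↔ ∀ s : S, DiscreteTopology ↥(K.hom.base ⁻¹' {s})) := by
  have hbc := Groth.Agent.S5320.kernel_hom_bc u i hK
  have hKlft : LocallyOfFiniteType K.hom :=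
    MorphismProperty.of_isPullback (P := @LocallyOfFiniteType) hbc inferInstance
  have hb : LocallyQuasiFinite u.left ↔ LocallyQuasiFinite K.hom := by
    constructor
    · intro h
      exact MorphismProperty.of_isPullback (P := @LocallyQuasiFinite) hbc h
    · intro h
      exact lqf_of_kernel u i hK
  have hc : LocallyQuasiFinite K.hom ↔ ∀ s : S, DiscreteTopology ↥(K.hom.base ⁻¹' {s}) := by
    rw [locallyQuasiFinite_iff_isDiscrete_preimage_singleton]
    exact forall_congr' fun s => isDiscrete_iff_discreteTopology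
  refine ⟨⟨fun h s => ?_, fun h => ?_⟩, hb, hb.trans hc⟩
  · exact MorphismProperty.of_isPullback (P := @LocallyQuasiFinite)
      (Groth.Agent.Lib.Helper19.FibLoci.isPullback_fib G H u s) h
  · have key := (Groth.Agent.S5315.result S G H u hG).2
    rw [← Scheme.Hom.quasiFiniteLocus_eq_top_iff]
    ext x
    simp only [TopologicalSpace.Opens.coe_top, Set.mem_univ, iff_true]
    have hx : x ∈ G.hom.base ⁻¹' {s : S | LocallyQuasiFinite
        ((Over.pullback (S.fromSpecResidueField s)).map u).left} := h _
    rw [← key] at hx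
    exact (Groth.Agent.Lib.Helper19.quasiFiniteAt_iff_exists_nhd u.left x).mpr hx

end Groth.Agent.S5319
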