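import Groth.Statements.S5329
-- import your own Groth.Agent.* helpers here
import Groth.Agent.S10309
import Groth.Agent.Lib.Helper73.DimFormula.GrpFibreDim
import Groth.Agent.Lib.Helper8.LocConstr

set_option autoImplicit false
universe u
open CategoryTheory CategoryTheory.Limits MonoidalCategory CartesianMonoidalCategory MonObj GrpObj AlgebraicGeometry
open SGA3

namespace Groth.Agent.S5329

open Groth.Agent.Lib.Helper73 TopologicalSpace Topology

/-- Let G be an S-group scheme locally of finite type over S. Then (i) s ↦ dim G_s is upper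
semicontinuous on S; (ii) if G is locally of finite presentation over S, this function is locally
constructible: every point of S has an open neighbourhood V on which it takes finitely many values
and on which each of its level sets is constructible. (The published statement is for an S-scheme
locally of finite type with a section ε such that dim G_s = dim_{ε(s)} G_s for all s; this row takes
the case of a group scheme, where that condition holds.) -/
theorem result (S : Scheme.{u}) (G : Over S) [GrpObj G] [LocallyOfFiniteType G.hom] :
    UpperSemicontinuous (fun s : S => topologicalKrullDim ↥(G.hom.base ⁻¹' {s})) ∧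
    (LocallyOfFinitePresentation G.hom → ∀ s : S, ∃ V : S.Opens, s ∈ V ∧
      ((fun t : S => topologicalKrullDim ↥(G.hom.base ⁻¹' {t})) '' (V : Set S)).Finite ∧
      ∀ d : WithBot ℕ∞, Topology.IsConstructible {t : V | topologicalKrullDim ↥(G.hom.base ⁻¹' {(t : S)}) = d}) := by
  set f := G.hom with hf
  set e : S ⟶ G.left := (η[G] : 𝟙_ (Over S) ⟶ G).left with he
  have hef : e ≫ f = 𝟙 S := Over.w (η[G] : 𝟙_ (Over S) ⟶ G)
  have hefa : ∀ s : S, f (e s) = s := fun s => by
    rw [← Scheme.Hom.comp_apply, hef]; rfl
  have hd : ∀ s : S, topologicalKrullDim ↥(f.base ⁻¹' {s}) = FlatMor.fibreDimAt f (e s) := by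
    intro s
    rw [← (IsHomeomorph.topologicalKrullDim_eq _ (f.fiberHomeo s).isHomeomorph)]
    have := dim_fiber_eq_fibreDimAt_of_grpObj S G (e s)
    rw [← this, hefa s]
  have hfin : ∀ s : S, ∃ n : ℕ, FlatMor.fibreDimAt f (e s) = ((n : ℕ) : WithBot ℕ∞) := by
    intro s
    obtain ⟨ξ, -, -, -, hξ⟩ := exists_maximal_fiber_resTrdegNat_eq_fibreDimAt f (e s)
    exact ⟨_, hξ⟩
  have hU : ∀ n : ℕ, IsOpen {t : S | FlatMor.fibreDimAt f (e t) ≤ ((n : ℕ) : WithBot ℕ∞)} :=
    fun n => (isOpen_fibreDimAt_le n G.left S f).preimage e.continuous
  have hfun : (fun s : S => topologicalKrullDim ↥(f.base ⁻¹' {s})) =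
      fun s : S => FlatMor.fibreDimAt f (e s) := funext hd
  refine ⟨?_, ?_⟩
  · rw [hfun]
    intro s y hy
    obtain ⟨n, hn⟩ := hfin s
    refine Filter.mem_of_superset ((hU n).mem_nhds (show s ∈ {t : S | _} from hn.le)) ?_
    intro t ht
    have ht' : FlatMor.fibreDimAt f (e t) ≤ ((n : ℕ) : WithBot ℕ∞) := ht
    have hy' : ((n : ℕ) : WithBot ℕ∞) < y := by rw [← hn]; exact hy
    exact lt_of_le_of_lt ht' hy'
  · intro hfp s
    have hLC : ∀ n : ℕ, IsLocallyConstructible
        {t : S | FlatMor.fibreDimAt f (e t) ≤ ((n : ℕ) : WithBot ℕ∞)} := by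
      intro n
      have h1 : IsLocallyConstructible
          {w : G.left | FlatMor.fibreDimAt f w ≤ ((n : ℕ) : WithBot ℕ∞)} :=
        (Groth.Agent.S10309.fibrewiseProp_fibreDimAt_le n).isLocallyConstructible f
      exact Groth.Agent.Lib.Helper8.isLocallyConstructible_preimage e h1
    obtain ⟨V, hV, hsV, -⟩ := exists_isAffineOpen_mem_and_subset (X := S) (x := s) (U := ⊤) trivial
    have hVc : IsCompact (V : Set S) := hV.isCompact
    -- bounded on V
    obtain ⟨N, hN⟩ : ∃ N : ℕ, (V : Set S) ⊆
        {t : S | FlatMor.fibreDimAt f (e t) ≤ ((N : ℕ) : WithBot ℕ∞)} := by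
      have hdir : Directed (· ⊆ ·)
          (fun n : ℕ => {t : S | FlatMor.fibreDimAt f (e t) ≤ ((n : ℕ) : WithBot ℕ∞)}) := by
        refine directed_of_isDirected_le ?_
        intro a b hab t ht
        have ht' : FlatMor.fibreDimAt f (e t) ≤ ((a : ℕ) : WithBot ℕ∞) := ht
        refine le_trans ht' ?_
        exact_mod_cast hab
      obtain ⟨N, hN⟩ := hVc.elim_directed_cover _ hU (by
        intro t _
        obtain ⟨n, hn⟩ := hfin t
        exact Set.mem_iUnion.2 ⟨n, hn.le⟩) hdir
      exact ⟨N, hN⟩
    refine ⟨V, hsV, ?_, ?_⟩
    · rw [hfun]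
      refine ((Finset.range (N + 1)).finite_toSet.image
        (fun n : ℕ => ((n : ℕ) : WithBot ℕ∞))).subset ?_
      rintro _ ⟨t, ht, rfl⟩
      obtain ⟨n, hn⟩ := hfin t
      have h1 := hN ht
      rw [Set.mem_ofPred_eq, hn] at h1
      have h2 : n ≤ N := by exact_mod_cast h1
      refine ⟨n, ?_, hn.symm⟩
      simp only [Finset.coe_range, Set.mem_Iio]
      omega
    · intro d
      have : IsAffine (V : Scheme.{u}) := hV
      have hC : ∀ n : ℕ, IsConstructible
          {t : V | FlatMor.fibreDimAt f (e (t : S)) ≤ ((n : ℕ) : WithBot ℕ∞)} := by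
        intro n
        have h1 := (hLC n).preimage_of_isOpenEmbedding V.ι.isOpenEmbedding
        exact h1.isConstructible
      have hset : {t : V | topologicalKrullDim ↥(G.hom.base ⁻¹' {(t : S)}) = d} =
          {t : V | FlatMor.fibreDimAt f (e (t : S)) = d} := by
        ext t
        simp only [Set.mem_ofPred_eq]
        rw [← hd]
      rw [hset]
      by_cases hdn : ∃ n : ℕ, d = ((n : ℕ) : WithBot ℕ∞)
      · obtain ⟨n, rfl⟩ := hdn
        cases n with
        | zero =>
          convert hC 0 using 1
          ext t
          simp only [Set.mem_ofPred_eq]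
          obtain ⟨k, hk⟩ := hfin (t : S)
          rw [hk]
          constructor
          · intro h; exact h.le
          · intro h
            have : k ≤ 0 := by exact_mod_cast h
            have : k = 0 := by omega
            rw [this]
        | succ m =>
          have := (hC (m + 1)).sdiff (hC m)
          convert this using 1
          ext t
          simp only [Set.mem_ofPred_eq, Set.mem_sdiff]
          obtain ⟨k, hk⟩ := hfin (t : S)
          rw [hk]
          constructor
          · intro h
            have h' : k = m + 1 := by exact_mod_cast h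
            subst h'
            refine ⟨le_refl _, ?_⟩
            intro h2
            have : m + 1 ≤ m := by exact_mod_cast h2
            omega
          · rintro ⟨h1, h2⟩
            have h1' : k ≤ m + 1 := by exact_mod_cast h1
            have h2' : ¬ k ≤ m := by
              intro hh
              apply h2
              exact_mod_cast hh
            have : k = m + 1 := by omega
            rw [this]
      · convert IsConstructible.empty using 1
        ext t
        simp only [Set.mem_ofPred_eq, Set.mem_empty_iff_false, iff_false]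
        intro h
        obtain ⟨k, hk⟩ := hfin (t : S)
        exact hdn ⟨k, h.symm.trans hk⟩

end Groth.Agent.S5329
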