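import Groth.Statements.S5333
import Groth.Agent.Lib.Helper78.HomogSep
import Groth.Agent.Lib.Helper72.GrpComp

set_option autoImplicit false
universe u
open CategoryTheory CategoryTheory.Limits MonoidalCategory CartesianMonoidalCategory MonObj GrpObj AlgebraicGeometry
open SGA3

namespace Groth.Agent.S5333

/-- A morphism from a reduced scheme whose range lies in the range of a closed immersion factors
through it. -/
theorem exists_lift_of_isReduced {X Y W : Scheme.{u}} (i : X ⟶ Y) [IsClosedImmersion i]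
    [IsReduced W] (h : W ⟶ Y) (hh : Set.range h ⊆ Set.range i) : ∃ g : W ⟶ X, g ≫ i = h := by
  have hker : i.ker ≤ h.ker := by
    rw [← Scheme.IdealSheafData.map_bot h, ← Scheme.nilradical_eq_bot,
      ← Scheme.IdealSheafData.vanishingIdeal_top, Scheme.IdealSheafData.map_vanishingIdeal,
      ← Scheme.IdealSheafData.le_support_iff_le_vanishingIdeal]
    intro y hy
    show y ∈ ((Scheme.Hom.ker i).support : Set Y)
    rw [Scheme.Hom.support_ker]
    have hy' : y ∈ closure (h '' Set.univ) := hy
    rw [Set.image_univ] at hy'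
    exact closure_mono hh hy'
  exact ⟨IsClosedImmersion.lift i h hker, IsClosedImmersion.lift_fac _ _ _⟩

theorem isSeparated_of_ext {X S : Scheme.{u}} (f : X ⟶ S)
    (H : ∀ (T : Scheme.{u}) [IsReduced T] (g₁ g₂ : T ⟶ X) (U : T.Opens), g₁ ≫ f = g₂ ≫ f →
      Dense (U : Set T) → U.ι ≫ g₁ = U.ι ≫ g₂ → g₁ = g₂) : IsSeparated f := by
  refine ⟨IsClosedImmersion.of_isPreimmersion _ ?_⟩
  rw [← closure_subset_iff_isClosed]
  obtain ⟨T, j, hj, hT, hrange, -⟩ :=
    Groth.Agent.Lib.Helper72.GrpComp.exists_reduced_closedSubscheme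
      (closure (Set.range (pullback.diagonal f))) isClosed_closure
  let Δ := pullback.diagonal f
  let O := Δ.coborderRange
  let U : T.Opens := j ⁻¹ᵁ O
  have hO : (O : Set ↥(pullback f f)) = coborder (Set.range Δ) := rfl
  have hUdense : Dense (U : Set T) := by
    intro t
    rw [mem_closure_iff]
    intro N hN htN
    obtain ⟨N', hN', rfl⟩ := j.isEmbedding.isOpen_iff.mp hN
    have hjt : j t ∈ closure (Set.range Δ) := by rw [← hrange]; exact ⟨t, rfl⟩
    obtain ⟨d, hdN', hdD⟩ := mem_closure_iff.mp hjt N' hN' htN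
    have : d ∈ Set.range j := by rw [hrange]; exact subset_closure hdD
    obtain ⟨t', rfl⟩ := this
    refine ⟨t', hdN', ?_⟩
    show j t' ∈ (O : Set _)
    rw [hO]
    exact subset_coborder hdD
  have hsub : Set.range (U.ι ≫ j) ⊆ Set.range O.ι := by
    rintro _ ⟨t, rfl⟩
    rw [Scheme.Opens.range_ι, Scheme.Hom.comp_apply]
    have : U.ι t ∈ Set.range U.ι := ⟨t, rfl⟩
    rw [Scheme.Opens.range_ι] at this
    exact this
  let u' : (U : Scheme) ⟶ O := IsOpenImmersion.lift O.ι (U.ι ≫ j) hsub
  have hu' : u' ≫ O.ι = U.ι ≫ j := IsOpenImmersion.lift_fac _ _ _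
  have hΔ' : Δ.liftCoborder ≫ O.ι = Δ := Δ.liftCoborder_ι
  have hu'range : Set.range u' ⊆ Set.range Δ.liftCoborder := by
    rintro _ ⟨t, rfl⟩
    have h1 : O.ι (u' t) ∈ coborder (Set.range Δ) ∩ closure (Set.range Δ) := by
      refine ⟨?_, ?_⟩
      · have : O.ι (u' t) ∈ Set.range O.ι := ⟨_, rfl⟩
        rw [Scheme.Opens.range_ι] at this
        exact this
      · rw [← Scheme.Hom.comp_apply, hu', Scheme.Hom.comp_apply, ← hrange]
        exact ⟨_, rfl⟩
    rw [coborder_inter_closure] at h1
    obtain ⟨x, hx⟩ := h1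
    refine ⟨x, ?_⟩
    apply O.ι.isOpenEmbedding.injective
    rw [← Scheme.Hom.comp_apply, hΔ']
    exact hx
  obtain ⟨g, hg⟩ := exists_lift_of_isReduced Δ.liftCoborder u' hu'range
  have hUj : U.ι ≫ j = g ≫ Δ := by rw [← hu', ← hg, Category.assoc, hΔ']
  have hagree : U.ι ≫ (j ≫ pullback.fst f f) = U.ι ≫ (j ≫ pullback.snd f f) := by
    rw [← Category.assoc, ← Category.assoc, hUj, Category.assoc, Category.assoc,
      pullback.diagonal_fst, pullback.diagonal_snd]
  have hcomp : (j ≫ pullback.fst f f) ≫ f = (j ≫ pullback.snd f f) ≫ f := by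
    rw [Category.assoc, Category.assoc, pullback.condition]
  have heq := H T (j ≫ pullback.fst f f) (j ≫ pullback.snd f f) U hcomp hUdense hagree
  have hjΔ : j = (j ≫ pullback.fst f f) ≫ Δ := by
    apply pullback.hom_ext
    · rw [Category.assoc, pullback.diagonal_fst, Category.comp_id]
    · rw [Category.assoc, pullback.diagonal_snd, Category.comp_id, heq]
  rw [← hrange]
  rintro _ ⟨t, rfl⟩
  rw [hjΔ, Scheme.Hom.comp_apply]
  exact ⟨_, rfl⟩

/-- (i) ⟺ (iii) ⟺ (iv'): let f : X → S be a morphism of schemes. Then X is separated over S if and only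
if for every reduced scheme T and every two morphisms T → X with the same composite to S which agree
on a dense open subscheme of T are equal; and X is separated over S if and only if every two points
of X in the same fibre over S lie in a common open subscheme of X which is separated over S. -/
theorem result (X S : Scheme.{u}) (f : X ⟶ S) :
    (IsSeparated f ↔ ∀ (T : Scheme.{u}) [IsReduced T] (g₁ g₂ : T ⟶ X) (U : T.Opens), g₁ ≫ f = g₂ ≫ f →
      Dense (U : Set T) → U.ι ≫ g₁ = U.ι ≫ g₂ → g₁ = g₂) ∧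
    (IsSeparated f ↔ ∀ x₁ x₂ : X, f.base x₁ = f.base x₂ →
      ∃ V : X.Opens, x₁ ∈ V ∧ x₂ ∈ V ∧ IsSeparated (V.ι ≫ f)) := by
  refine ⟨⟨?_, isSeparated_of_ext f⟩, ⟨?_, ?_⟩⟩
  · intro hf T _ g₁ g₂ U hcomp hU hagree
    have : IsDominant U.ι := by
      rw [isDominant_iff, DenseRange, Scheme.Opens.range_ι]
      exact hU
    exact ext_of_isDominant_of_isSeparated f hcomp U.ι hagree
  · intro hf x₁ x₂ _
    exact ⟨⊤, trivial, trivial, inferInstance⟩
  · intro H
    refine ⟨IsClosedImmersion.of_isPreimmersion _ ?_⟩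
    rw [← closure_subset_iff_isClosed]
    intro z hz
    have hcond : f.base (pullback.fst f f z) = f.base (pullback.snd f f z) := by
      have := congrArg (fun φ : pullback f f ⟶ S => φ z) (pullback.condition (f := f) (g := f))
      simpa [Scheme.Hom.comp_apply] using this
    obtain ⟨V, h1, h2, hV⟩ := H _ _ hcond
    exact Groth.Agent.Lib.Helper78.HomogSep.closure_range_diagonal_inter_subset f V ⟨hz, h1, h2⟩

end Groth.Agent.S5333
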