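import Groth.Statements.S5337
import Groth.Agent.Lib.Helper72.GrpLocProp

set_option autoImplicit false
universe u
open CategoryTheory CategoryTheory.Limits MonoidalCategory CartesianMonoidalCategory MonObj GrpObj AlgebraicGeometry
open SGA3

namespace Groth.Agent.S5337

/-- A closed continuous surjection detects discreteness of saturated subsets. -/
theorem isDiscrete_of_isClosedMap {X' X : Type*} [TopologicalSpace X'] [TopologicalSpace X]
    (k : X' → X) (hk : IsClosedMap k) (hs : Function.Surjective k) (E : Set X)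
    (hD : _root_.IsDiscrete (k ⁻¹' E)) : _root_.IsDiscrete E := by
  rw [isDiscrete_iff_discreteTopology] at hD ⊢
  rw [discreteTopology_iff_isOpen_singleton]
  intro e
  have hcl : IsClosed ({d : ↥(k ⁻¹' E) | k d.1 ≠ e.1}) := isClosed_discrete _
  obtain ⟨C, hC, hCD⟩ := isClosed_induced_iff.mp hcl
  rw [isOpen_induced_iff]
  refine ⟨(k '' C)ᶜ, (hk C hC).isOpen_compl, ?_⟩
  ext e'
  simp only [Set.mem_preimage, Set.mem_compl_iff, Set.mem_image, not_exists, not_and,
    Set.mem_singleton_iff]
  constructor
  · intro h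
    by_contra hne
    obtain ⟨d, hd⟩ := hs e'.1
    have hdD : d ∈ k ⁻¹' E := by
      show k d ∈ E
      rw [hd]
      exact e'.2
    have hdC : (⟨d, hdD⟩ : ↥(k ⁻¹' E)) ∈ Subtype.val ⁻¹' C := by
      rw [hCD]
      show k d ≠ e.1
      rw [hd]
      exact fun h' => hne (Subtype.ext h')
    exact h d hdC hd
  · rintro rfl c hc hce
    have hcD : c ∈ k ⁻¹' E := by
      show k c ∈ E
      rw [hce]
      exact e'.2
    have : (⟨c, hcD⟩ : ↥(k ⁻¹' E)) ∈ Subtype.val ⁻¹' C := hc
    rw [hCD] at this
    exact this hce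

/-- Descent of local quasi-finiteness along a finite surjective base change. -/
theorem lqf_descend {X' X Y' Y : Scheme.{u}} {k : X' ⟶ X} {f' : X' ⟶ Y'} {f : X ⟶ Y}
    {g : Y' ⟶ Y} (sq : IsPullback k f' f g) (hg : IsFinite g) (hgs : Surjective g)
    (hf : LocallyOfFiniteType f) (h : LocallyQuasiFinite f') : LocallyQuasiFinite f := by
  rw [locallyQuasiFinite_iff_isDiscrete_preimage_singleton]
  intro y
  haveI : IsFinite k := MorphismProperty.of_isPullback sq.flip hg
  haveI : Surjective k := MorphismProperty.of_isPullback sq.flip hgs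
  have hF : _root_.IsDiscrete (g ⁻¹' {y}) := g.isDiscrete_preimage_singleton y
  have hD : _root_.IsDiscrete (f' ⁻¹' (g ⁻¹' {y})) := f'.isDiscrete_preimage hF
  have hDE : (f' ⁻¹' (g ⁻¹' {y}) : Set X') = k ⁻¹' (f ⁻¹' {y}) := by
    ext x'
    simp only [Set.mem_preimage, Set.mem_singleton_iff]
    rw [← Scheme.Hom.comp_apply, ← Scheme.Hom.comp_apply, sq.w]
  rw [hDE] at hD
  exact isDiscrete_of_isClosedMap k k.isClosedMap k.surjective _ hD

/-- Descent of properties satisfying fpqc descent along a finite flat surjective base change. -/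
theorem fpqc_descend (P : MorphismProperty Scheme.{u})
    [P.DescendsAlong (@Surjective ⊓ @Flat ⊓ @QuasiCompact)]
    {X' X Y' Y : Scheme.{u}} {k : X' ⟶ X} {f' : X' ⟶ Y'} {f : X ⟶ Y}
    {g : Y' ⟶ Y} (sq : IsPullback k f' f g) (hg : IsFinite g) (hgf : Flat g) (hgs : Surjective g)
    (h : P f') : P f :=
  MorphismProperty.of_isPullback_of_descendsAlong (P := P)
    (Q := @Surjective ⊓ @Flat ⊓ @QuasiCompact) sq.flip ⟨⟨hgs, hgf⟩, inferInstance⟩ h

/-- Quasi-finite, unramified, smooth and etale cases: let A be a local artinian ring, G an A-group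
scheme which is flat and locally of finite type over A, and u : G → H a homomorphism of A-group
schemes. If u is locally quasi-finite (resp. unramified, that is formally unramified and locally of
finite presentation, resp. smooth, resp. etale) on some nonempty open subscheme of G, then u is
locally quasi-finite (resp. unramified, resp. smooth, resp. etale). (Here u is automatically locally
of finite type.) -/
theorem result (A : Type u) [CommRing A] [IsArtinianRing A] [IsLocalRing A] (G H : Over (Spec (CommRingCat.of A))) [GrpObj G] [GrpObj H]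
    [Flat G.hom] [LocallyOfFiniteType G.hom] (u : G ⟶ H) [IsMonHom u] (W : G.left.Opens) (hW : (W : Set G.left).Nonempty) :
    (LocallyQuasiFinite (W.ι ≫ u.left) → LocallyQuasiFinite u.left) ∧
    (FormallyUnramified (W.ι ≫ u.left) → LocallyOfFinitePresentation (W.ι ≫ u.left) →
      FormallyUnramified u.left ∧ LocallyOfFinitePresentation u.left) ∧
    (Smooth (W.ι ≫ u.left) → Smooth u.left) ∧ (Etale (W.ι ≫ u.left) → Etale u.left) := by
  refine ⟨fun h => ?_, fun h1 h2 => ⟨?_, ?_⟩, fun h => ?_, fun h => ?_⟩
  · exact Groth.Agent.Lib.Helper72.GrpLocProp.hom_of_open @LocallyQuasiFinite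
      (fun sq hg _ hgs hf h' => lqf_descend sq hg hgs hf h') A G H u W hW h
  · exact Groth.Agent.Lib.Helper72.GrpLocProp.hom_of_open @FormallyUnramified
      (fun sq hg hgf hgs _ h' => fpqc_descend _ sq hg hgf hgs h') A G H u W hW h1
  · exact Groth.Agent.Lib.Helper72.GrpLocProp.hom_of_open @LocallyOfFinitePresentation
      (fun sq hg hgf hgs _ h' => fpqc_descend _ sq hg hgf hgs h') A G H u W hW h2
  · exact Groth.Agent.Lib.Helper72.GrpLocProp.hom_of_open @Smooth
      (fun sq hg hgf hgs _ h' => fpqc_descend _ sq hg hgf hgs h') A G H u W hW h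
  · exact Groth.Agent.Lib.Helper72.GrpLocProp.hom_of_open @Etale
      (fun sq hg hgf hgs _ h' => fpqc_descend _ sq hg hgf hgs h') A G H u W hW h

end Groth.Agent.S5337
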