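import Groth.Statements.S5340
import Groth.Agent.Lib.Helper1.LftK1
import Groth.Agent.Lib.Helper16.LftRC
import Groth.Agent.Lib.Helper20.LftK2

set_option autoImplicit false
universe u
open CategoryTheory CategoryTheory.Limits MonoidalCategory CartesianMonoidalCategory MonObj GrpObj AlgebraicGeometry
open SGA3

namespace Groth.Agent.S5340

section Sch

/-! ### part k : the two marketplace lemmas (helper1 + helper16, helper20) -/

theorem exists_lft_nbhd_of_baseChange (k K : Type u) [Field k] [Field K]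
    (j : Spec (CommRingCat.of K) ⟶ Spec (CommRingCat.of k))
    {X : Scheme.{u}} (f : X ⟶ Spec (CommRingCat.of k))
    (V : (pullback f j).Opens) [LocallyOfFiniteType (V.ι ≫ pullback.snd f j)]
    (x' : ↥(pullback f j)) (hx' : x' ∈ V) :
    ∃ U : X.Opens, pullback.fst f j x' ∈ U ∧ LocallyOfFiniteType (U.ι ≫ f) :=
  Groth.Agent.Lib.Helper1.LftK1.exists_lft_nbhd_of_baseChange_of_ringCore
    (fun k K B _ _ _ _ _ f' hft q' _ hf' =>
      Groth.Agent.Lib.Helper16.LftRC.ring_core k K B f' hft q' hf') k K j f V x' hx'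

theorem locallyOfFiniteType_of_residue (A : Type u) [CommRing A] [IsArtinianRing A] [IsLocalRing A]
    {X : Scheme.{u}} (f : X ⟶ Spec (CommRingCat.of A))
    [LocallyOfFiniteType (pullback.snd f
      (Spec.map (CommRingCat.ofHom (algebraMap A (IsLocalRing.ResidueField A)))))] :
    LocallyOfFiniteType f :=
  Groth.Agent.Lib.Helper20.LftK2.locallyOfFiniteType_of_residue A f

end Sch

section Sch

/-! ### part b -/

/-- Base change of an open subscheme locally of finite type. -/
theorem lft_preimage_bc {X S T : Scheme.{u}} (f : X ⟶ S) (j : T ⟶ S) (W : X.Opens)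
    [LocallyOfFiniteType (W.ι ≫ f)] :
    LocallyOfFiniteType (((pullback.fst f j) ⁻¹ᵁ W).ι ≫ pullback.snd f j) := by
  have sq1 := isPullback_morphismRestrict (pullback.fst f j) W
  have sq2 : IsPullback (pullback.fst f j) (pullback.snd f j) f j := IsPullback.of_hasPullback f j
  have sq := sq1.paste_vert sq2
  exact MorphismProperty.of_isPullback (P := @LocallyOfFiniteType) sq ‹_›

/-- Transport along an automorphism commuting with the structure morphism. -/
theorem lft_preimage_iso {P T : Scheme.{u}} (ρ : P ⟶ P) [IsIso ρ] (q : P ⟶ T) (hρ : ρ ≫ q = q)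
    (V₀ : P.Opens) [LocallyOfFiniteType (V₀.ι ≫ q)] :
    LocallyOfFiniteType ((ρ ⁻¹ᵁ V₀).ι ≫ q) := by
  have h1 : (ρ ⁻¹ᵁ V₀).ι ≫ q = (ρ ∣_ V₀) ≫ V₀.ι ≫ q := by
    rw [← Category.assoc (ρ ∣_ V₀), morphismRestrict_ι, Category.assoc, hρ]
  rw [h1]
  infer_instance

end Sch

section Sch

/-! ### part c -/

/-- translation by a `T`-point on `G ⊗ T`. -/
noncomputable def transl {S : Scheme.{u}} (G T : Over S) [GrpObj G] (s : T ⟶ G) : G ⊗ T ⟶ G ⊗ T :=
  lift ((snd G T ≫ s) * fst G T) (snd G T)

theorem transl_snd {S : Scheme.{u}} (G T : Over S) [GrpObj G] (s : T ⟶ G) :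
    transl G T s ≫ snd G T = snd G T := by
  simp [transl]

theorem transl_fst {S : Scheme.{u}} (G T : Over S) [GrpObj G] (s : T ⟶ G) :
    transl G T s ≫ fst G T = (snd G T ≫ s) * fst G T := by
  simp [transl]

theorem transl_comp {S : Scheme.{u}} (G T : Over S) [GrpObj G] (s s' : T ⟶ G) :
    transl G T s ≫ transl G T s' = transl G T (s' * s) := by
  apply CartesianMonoidalCategory.hom_ext
  · rw [Category.assoc, transl_fst, MonObj.comp_mul, ← Category.assoc, transl_snd, transl_fst,
      transl_fst, MonObj.comp_mul, _root_.mul_assoc]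
  · rw [Category.assoc, transl_snd, transl_snd, transl_snd]

theorem transl_one {S : Scheme.{u}} (G T : Over S) [GrpObj G] :
    transl G T (1 : T ⟶ G) = 𝟙 _ := by
  apply CartesianMonoidalCategory.hom_ext
  · rw [transl_fst, MonObj.comp_one, _root_.one_mul, Category.id_comp]
  · rw [transl_snd, Category.id_comp]

instance isIso_transl {S : Scheme.{u}} (G T : Over S) [GrpObj G] (s : T ⟶ G) :
    IsIso (transl G T s) :=
  ⟨⟨transl G T s⁻¹, by rw [transl_comp, _root_.inv_mul_cancel, transl_one],
    by rw [transl_comp, _root_.mul_inv_cancel, transl_one]⟩⟩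

theorem section_transl {S : Scheme.{u}} (G T : Over S) [GrpObj G] (a b : T ⟶ G) :
    lift a (𝟙 T) ≫ transl G T (b * a⁻¹) = lift b (𝟙 T) := by
  apply CartesianMonoidalCategory.hom_ext
  · rw [Category.assoc, transl_fst, MonObj.comp_mul, lift_snd_assoc, Category.id_comp, lift_fst,
      lift_fst, _root_.inv_mul_cancel_right]
  · rw [Category.assoc, transl_snd, lift_snd, lift_snd]

end Sch

section Sch

/-! ### part d -/

theorem lft_of_open_field (k : Type u) [Field k] (G : Over (Spec (CommRingCat.of k))) [GrpObj G]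
    (W : G.left.Opens) (hW : (W : Set G.left).Nonempty) [LocallyOfFiniteType (W.ι ≫ G.hom)] :
    LocallyOfFiniteType G.hom := by
  suffices H : ∀ x : G.left, ∃ U : G.left.Opens, x ∈ U ∧ LocallyOfFiniteType (U.ι ≫ G.hom) by
    choose U hxU hU using H
    haveI : IsZariskiLocalAtSource @LocallyOfFiniteType.{u} :=
      HasRingHomProperty.instIsZariskiLocalAtSource (Q := RingHom.FiniteType)
    refine IsZariskiLocalAtSource.of_iSup_eq_top U ?_ hU
    exact top_le_iff.1 fun x _ => TopologicalSpace.Opens.mem_iSup.2 ⟨x, hxU x⟩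
  intro x
  obtain ⟨w, hw⟩ := hW
  obtain ⟨z, hzx, hzw⟩ := Scheme.Pullback.exists_preimage_pullback (f := G.hom) (g := G.hom) x w
    (Subsingleton.elim _ _)
  let Z : Scheme.{u} := pullback G.hom G.hom
  let K : Type u := Z.residueField z
  let ζ : Spec (CommRingCat.of K) ⟶ Z := Z.fromSpecResidueField z
  let j : Spec (CommRingCat.of K) ⟶ Spec (CommRingCat.of k) := ζ ≫ pullback.fst G.hom G.hom ≫ G.hom
  let T : Over (Spec (CommRingCat.of k)) := Over.mk j
  let a : T ⟶ G := Over.homMk (ζ ≫ pullback.fst G.hom G.hom) (by simp [T, j])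
  let b : T ⟶ G := Over.homMk (ζ ≫ pullback.snd G.hom G.hom) (by simp [T, j, pullback.condition])
  let ρ : G ⊗ T ⟶ G ⊗ T := transl G T (b * a⁻¹)
  haveI : IsIso ρ.left := Functor.map_isIso (Over.forget _) ρ
  have hρ : ρ.left ≫ pullback.snd G.hom j = pullback.snd G.hom j :=
    congrArg (fun φ => φ.left) (transl_snd G T (b * a⁻¹))
  have hsec : (lift a (𝟙 T)).left ≫ ρ.left = (lift b (𝟙 T)).left :=
    congrArg (fun φ => φ.left) (section_transl G T a b)
  -- the point
  let pt : ↥(Spec (CommRingCat.of K)) := default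
  let x' : ↥(pullback G.hom j) := (lift a (𝟙 T)).left pt
  have hζ : ζ pt = z := Scheme.fromSpecResidueField_apply _ _
  have hx'1 : pullback.fst G.hom j x' = x := by
    have h1 : (lift a (𝟙 T)).left ≫ pullback.fst G.hom j = a.left :=
      congrArg (fun φ => φ.left) (lift_fst a (𝟙 T))
    have h2 := congrArg (fun φ : Spec (CommRingCat.of K) ⟶ G.left => φ pt) h1
    have h3 : a.left pt = x := by
      show pullback.fst G.hom G.hom (ζ pt) = x
      rw [hζ, hzx]
    exact h2.trans h3
  have hx'2 : pullback.fst G.hom j (ρ.left x') ∈ W := by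
    have h1 : (lift b (𝟙 T)).left ≫ pullback.fst G.hom j = b.left :=
      congrArg (fun φ => φ.left) (lift_fst b (𝟙 T))
    have h2 := congrArg (fun φ : Spec (CommRingCat.of K) ⟶ G.left => φ pt) (hsec ▸ h1)
    have h3 : b.left pt = w := by
      show pullback.snd G.hom G.hom (ζ pt) = w
      rw [hζ, hzw]
    have h4 : pullback.fst G.hom j (ρ.left x') = w := h2.trans h3
    rw [h4]
    exact hw
  let V₀ : (pullback G.hom j).Opens := (pullback.fst G.hom j) ⁻¹ᵁ W
  haveI : LocallyOfFiniteType (V₀.ι ≫ pullback.snd G.hom j) := lft_preimage_bc G.hom j W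
  haveI : LocallyOfFiniteType ((ρ.left ⁻¹ᵁ V₀).ι ≫ pullback.snd G.hom j) :=
    lft_preimage_iso ρ.left (pullback.snd G.hom j) hρ V₀
  obtain ⟨U, hU1, hU2⟩ := exists_lft_nbhd_of_baseChange k K j G.hom (ρ.left ⁻¹ᵁ V₀) x' hx'2
  exact ⟨U, hx'1 ▸ hU1, hU2⟩

end Sch

/-- Let A be a local artinian ring and G an A-group scheme. If some nonempty open subscheme of G is of
finite type over A, then G is locally of finite type over A. -/
theorem result (A : Type u) [CommRing A] [IsArtinianRing A] [IsLocalRing A] (G : Over (Spec (CommRingCat.of A))) [GrpObj G]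
    (W : G.left.Opens) (hW : (W : Set G.left).Nonempty) [LocallyOfFiniteType (W.ι ≫ G.hom)] [QuasiCompact (W.ι ≫ G.hom)] :
    LocallyOfFiniteType G.hom := by
  let g : Spec (CommRingCat.of (IsLocalRing.ResidueField A)) ⟶ Spec (CommRingCat.of A) :=
    Spec.map (CommRingCat.ofHom (algebraMap A (IsLocalRing.ResidueField A)))
  let G' : Over (Spec (CommRingCat.of (IsLocalRing.ResidueField A))) := Red.bc g G
  let W' : G'.left.Opens := (pullback.fst G.hom g) ⁻¹ᵁ W
  haveI : LocallyOfFiniteType (W'.ι ≫ G'.hom) := lft_preimage_bc G.hom g W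
  have hW' : (W' : Set G'.left).Nonempty := by
    obtain ⟨w, hw⟩ := hW
    haveI : Subsingleton (PrimeSpectrum A) := by
      refine ⟨fun p q => PrimeSpectrum.ext ?_⟩
      rw [IsLocalRing.eq_maximalIdeal (IsArtinianRing.isMaximal_of_isPrime p.asIdeal),
        IsLocalRing.eq_maximalIdeal (IsArtinianRing.isMaximal_of_isPrime q.asIdeal)]
    haveI : Subsingleton ↥(Spec (CommRingCat.of A)) := ‹Subsingleton (PrimeSpectrum A)›
    obtain ⟨z, hz1, -⟩ := Scheme.Pullback.exists_preimage_pullback (f := G.hom) (g := g) w default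
      (Subsingleton.elim _ _)
    refine ⟨z, ?_⟩
    show pullback.fst G.hom g z ∈ W
    rw [hz1]
    exact hw
  haveI : LocallyOfFiniteType (pullback.snd G.hom g) :=
    lft_of_open_field (IsLocalRing.ResidueField A) G' W' hW'
  exact locallyOfFiniteType_of_residue A G.hom

end Groth.Agent.S5340
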