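import Groth.Statements.S5339
import Groth.Agent.S5340
import Groth.Agent.Lib.Helper33.ZetaFrobStable
import Groth.Agent.Lib.Helper47.QfM1
import Groth.Agent.Lib.Helper45.QfM2
import Groth.Agent.Lib.Helper89.QfM3
import Groth.Agent.Lib.Helper19.Sm.SmoothFiberPointwise

set_option autoImplicit false
universe u
open CategoryTheory CategoryTheory.Limits MonoidalCategory CartesianMonoidalCategory MonObj GrpObj AlgebraicGeometry
open SGA3

namespace Groth.Agent.S5339

section Sch

/-! ### part k : the three marketplace lemmas (helper47, helper45, helper89) -/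

theorem locallyQuasiFinite_of_baseChange (k K : Type u) [Field k] [Field K]
    (j : Spec (CommRingCat.of K) ⟶ Spec (CommRingCat.of k))
    {X : Scheme.{u}} (f : X ⟶ Spec (CommRingCat.of k)) [LocallyOfFiniteType f]
    [LocallyQuasiFinite (pullback.snd f j)] : LocallyQuasiFinite f :=
  Groth.Agent.Lib.Helper47.QfM1.locallyQuasiFinite_of_baseChange k K j f

theorem locallyQuasiFinite_of_residue (A : Type u) [CommRing A] [IsArtinianRing A] [IsLocalRing A]
    {X : Scheme.{u}} (f : X ⟶ Spec (CommRingCat.of A)) [LocallyOfFiniteType f]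
    [LocallyQuasiFinite (pullback.snd f
      (Spec.map (CommRingCat.ofHom (algebraMap A (IsLocalRing.ResidueField A)))))] :
    LocallyQuasiFinite f :=
  Groth.Agent.Lib.Helper45.QfM2.locallyQuasiFinite_of_residue A f

theorem formallyUnramified_of_residue (A : Type u) [CommRing A] [IsArtinianRing A] [IsLocalRing A]
    {X : Scheme.{u}} (f : X ⟶ Spec (CommRingCat.of A))
    [FormallyUnramified (pullback.snd f
      (Spec.map (CommRingCat.ofHom (algebraMap A (IsLocalRing.ResidueField A)))))] :
    FormallyUnramified f :=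
  Groth.Agent.Lib.Helper89.QfM3.formallyUnramified_of_residue A f

end Sch

section Sch

/-! ### part a -/

theorem prop_preimage_bc (P : MorphismProperty Scheme.{u}) [P.IsStableUnderBaseChange]
    {X S T : Scheme.{u}} (f : X ⟶ S) (j : T ⟶ S) (W : X.Opens) (h : P (W.ι ≫ f)) :
    P (((pullback.fst f j) ⁻¹ᵁ W).ι ≫ pullback.snd f j) := by
  have sq1 := isPullback_morphismRestrict (pullback.fst f j) W
  have sq2 : IsPullback (pullback.fst f j) (pullback.snd f j) f j := IsPullback.of_hasPullback f j
  have sq := sq1.paste_vert sq2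
  exact MorphismProperty.of_isPullback (P := P) sq h

theorem prop_preimage_iso (P : MorphismProperty Scheme.{u}) [P.RespectsIso]
    {Q T : Scheme.{u}} (ρ : Q ⟶ Q) [IsIso ρ] (q : Q ⟶ T) (hρ : ρ ≫ q = q)
    (V₀ : Q.Opens) (h : P (V₀.ι ≫ q)) : P ((ρ ⁻¹ᵁ V₀).ι ≫ q) := by
  have h1 : (ρ ⁻¹ᵁ V₀).ι ≫ q = (ρ ∣_ V₀) ≫ V₀.ι ≫ q := by
    rw [← Category.assoc (ρ ∣_ V₀), morphismRestrict_ι, Category.assoc, hρ]
  rw [h1]
  exact (P.cancel_left_of_respectsIso (ρ ∣_ V₀) _).2 h

open Groth.Agent.S5340 in
/-- generic field case over an algebraically closed extension -/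
theorem prop_snd_of_open (P : MorphismProperty Scheme.{u}) [IsZariskiLocalAtSource P]
    [P.IsStableUnderBaseChange]
    (k : Type u) [Field k] (G : Over (Spec (CommRingCat.of k))) [GrpObj G]
    [LocallyOfFiniteType G.hom]
    (W : G.left.Opens) (hW : (W : Set G.left).Nonempty) (hP : P (W.ι ≫ G.hom))
    (K : Type u) [Field K] [IsAlgClosed K]
    (j : Spec (CommRingCat.of K) ⟶ Spec (CommRingCat.of k)) :
    P (pullback.snd G.hom j) := by
  let T : Over (Spec (CommRingCat.of k)) := Over.mk j
  let q : pullback G.hom j ⟶ Spec (CommRingCat.of K) := pullback.snd G.hom j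
  haveI : LocallyOfFiniteType q := inferInstanceAs (LocallyOfFiniteType (pullback.snd G.hom j))
  haveI : JacobsonSpace ↥(pullback G.hom j) := LocallyOfFiniteType.jacobsonSpace q
  let V₀ : (pullback G.hom j).Opens := (pullback.fst G.hom j) ⁻¹ᵁ W
  have hV₀ : P (V₀.ι ≫ q) := prop_preimage_bc P G.hom j W hP
  obtain ⟨w, hw⟩ := hW
  obtain ⟨w₀, hw₀, -⟩ := Scheme.Pullback.exists_preimage_pullback (f := G.hom) (g := j) w default
    (Subsingleton.elim _ _)
  have hV₀ne : (V₀ : Set ↥(pullback G.hom j)).Nonempty :=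
    ⟨w₀, by show pullback.fst G.hom j w₀ ∈ W; rw [hw₀]; exact hw⟩
  obtain ⟨w', hw'V, hw'c⟩ := nonempty_inter_closedPoints hV₀ne V₀.isOpen.isLocallyClosed
  obtain ⟨sb, hsb1, hsb2⟩ := Groth.Agent.Lib.Helper33.ZetaFrobStable.exists_section q w' hw'c
  suffices H : ∀ x' : ↥(pullback G.hom j), ∃ U : (pullback G.hom j).Opens, x' ∈ U ∧ P (U.ι ≫ q) by
    choose U hxU hU using H
    refine IsZariskiLocalAtSource.of_iSup_eq_top U ?_ hU
    exact top_le_iff.1 fun x _ => TopologicalSpace.Opens.mem_iSup.2 ⟨x, hxU x⟩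
  let L : Set ↥(pullback G.hom j) := {x' | ∃ U : (pullback G.hom j).Opens, x' ∈ U ∧ P (U.ι ≫ q)}
  have hLopen : IsOpen L := by
    rw [isOpen_iff_forall_mem_open]
    rintro x' ⟨U, hxU, hU⟩
    exact ⟨U, fun y hy => ⟨U, hy, hU⟩, U.isOpen, hxU⟩
  by_contra hne
  push Not at hne
  obtain ⟨x₀, hx₀⟩ := hne
  have hx₀L : x₀ ∈ Lᶜ := fun ⟨U, h1, h2⟩ => hx₀ U h1 h2
  obtain ⟨x', hx'L, hx'c⟩ := nonempty_inter_closedPoints (Z := Lᶜ) ⟨x₀, hx₀L⟩
    hLopen.isClosed_compl.isLocallyClosed
  obtain ⟨sa, hsa1, hsa2⟩ := Groth.Agent.Lib.Helper33.ZetaFrobStable.exists_section q x' hx'c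
  have hcond : ∀ s : Spec (CommRingCat.of K) ⟶ pullback G.hom j, s ≫ q = 𝟙 _ →
      (s ≫ pullback.fst G.hom j) ≫ G.hom = j := by
    intro s hs
    rw [Category.assoc, pullback.condition, ← Category.assoc]
    show (s ≫ q) ≫ j = j
    rw [hs, Category.id_comp]
  let a : T ⟶ G := Over.homMk (sa ≫ pullback.fst G.hom j) (hcond sa hsa1)
  let b : T ⟶ G := Over.homMk (sb ≫ pullback.fst G.hom j) (hcond sb hsb1)
  let ρ : G ⊗ T ⟶ G ⊗ T := transl G T (b * a⁻¹)
  haveI : IsIso ρ.left := Functor.map_isIso (Over.forget _) ρ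
  have hρ : ρ.left ≫ q = q := congrArg (fun φ => φ.left) (transl_snd G T (b * a⁻¹))
  have hsec : (lift a (𝟙 T)).left ≫ ρ.left = (lift b (𝟙 T)).left :=
    congrArg (fun φ => φ.left) (section_transl G T a b)
  have hlift : ∀ (s : Spec (CommRingCat.of K) ⟶ pullback G.hom j) (hs : s ≫ q = 𝟙 _),
      (lift (Over.homMk (s ≫ pullback.fst G.hom j) (hcond s hs) : T ⟶ G) (𝟙 T)).left = s := by
    intro s hs
    apply pullback.hom_ext
    · exact congrArg (fun φ => φ.left)
        (lift_fst (Over.homMk (s ≫ pullback.fst G.hom j) (hcond s hs) : T ⟶ G) (𝟙 T))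
    · have h1 := congrArg (fun φ => φ.left)
        (lift_snd (Over.homMk (s ≫ pullback.fst G.hom j) (hcond s hs) : T ⟶ G) (𝟙 T))
      exact h1.trans hs.symm
  have hla : (lift a (𝟙 T)).left = sa := hlift sa hsa1
  have hlb : (lift b (𝟙 T)).left = sb := hlift sb hsb1
  rw [hla, hlb] at hsec
  let pt : ↥(Spec (CommRingCat.of K)) := default
  have hρx : ρ.left x' = w' := by
    have h1 := congrArg (fun φ : Spec (CommRingCat.of K) ⟶ pullback G.hom j => φ pt) hsec
    have h2 : ρ.left (sa pt) = sb pt := h1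
    rw [hsa2 pt, hsb2 pt] at h2
    exact h2
  apply hx'L
  refine ⟨ρ.left ⁻¹ᵁ V₀, ?_, prop_preimage_iso P ρ.left q hρ V₀ hV₀⟩
  show ρ.left x' ∈ V₀
  rw [hρx]
  exact hw'V

end Sch

section Sch

/-! ### part b -/

/-- the field extension to an algebraic closure is an fpqc cover -/
theorem fpqc_algClosure (k : Type u) [Field k] :
    (@Surjective ⊓ @Flat ⊓ @QuasiCompact : MorphismProperty Scheme.{u})
      (Spec.map (CommRingCat.ofHom (algebraMap k (AlgebraicClosure k)))) := by
  refine ⟨⟨?_, ?_⟩, inferInstance⟩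
  · constructor
    intro x
    exact ⟨default, Subsingleton.elim _ _⟩
  · rw [HasRingHomProperty.Spec_iff (P := @Flat)]
    simp only [CommRingCat.hom_ofHom, RingHom.flat_algebraMap_iff]
    infer_instance

theorem descend_of_algClosure (P : MorphismProperty Scheme.{u})
    [P.DescendsAlong (@Surjective ⊓ @Flat ⊓ @QuasiCompact)]
    (k : Type u) [Field k] {X : Scheme.{u}} (f : X ⟶ Spec (CommRingCat.of k))
    (h : P (pullback.snd f (Spec.map (CommRingCat.ofHom (algebraMap k (AlgebraicClosure k)))))) :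
    P f :=
  MorphismProperty.of_isPullback_of_descendsAlong (P := P)
    (Q := (@Surjective ⊓ @Flat ⊓ @QuasiCompact : MorphismProperty Scheme.{u}))
    (IsPullback.of_hasPullback f _).flip (fpqc_algClosure k) h

theorem smooth_of_open_field (k : Type u) [Field k] (G : Over (Spec (CommRingCat.of k))) [GrpObj G]
    [LocallyOfFiniteType G.hom] (W : G.left.Opens) (hW : (W : Set G.left).Nonempty)
    (h : Smooth (W.ι ≫ G.hom)) : Smooth G.hom := by
  haveI : IsZariskiLocalAtSource @Smooth.{u} :=
    HasRingHomProperty.instIsZariskiLocalAtSource (Q := @RingHom.Smooth)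
  exact descend_of_algClosure @Smooth k G.hom
    (prop_snd_of_open @Smooth k G W hW h (AlgebraicClosure k) _)

theorem formallyUnramified_of_open_field (k : Type u) [Field k]
    (G : Over (Spec (CommRingCat.of k))) [GrpObj G]
    [LocallyOfFiniteType G.hom] (W : G.left.Opens) (hW : (W : Set G.left).Nonempty)
    (h : FormallyUnramified (W.ι ≫ G.hom)) : FormallyUnramified G.hom := by
  haveI : IsZariskiLocalAtSource @FormallyUnramified.{u} :=
    HasRingHomProperty.instIsZariskiLocalAtSource (Q := @RingHom.FormallyUnramified)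
  exact descend_of_algClosure @FormallyUnramified k G.hom
    (prop_snd_of_open @FormallyUnramified k G W hW h (AlgebraicClosure k) _)

theorem locallyQuasiFinite_of_open_field (k : Type u) [Field k]
    (G : Over (Spec (CommRingCat.of k))) [GrpObj G]
    [LocallyOfFiniteType G.hom] (W : G.left.Opens) (hW : (W : Set G.left).Nonempty)
    (h : LocallyQuasiFinite (W.ι ≫ G.hom)) : LocallyQuasiFinite G.hom := by
  haveI : IsZariskiLocalAtSource @LocallyQuasiFinite.{u} :=
    HasRingHomProperty.instIsZariskiLocalAtSource (Q := @RingHom.QuasiFinite)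
  haveI : LocallyQuasiFinite (pullback.snd G.hom
      (Spec.map (CommRingCat.ofHom (algebraMap k (AlgebraicClosure k))))) :=
    prop_snd_of_open @LocallyQuasiFinite k G W hW h (AlgebraicClosure k) _
  exact locallyQuasiFinite_of_baseChange k (AlgebraicClosure k)
    (Spec.map (CommRingCat.ofHom (algebraMap k (AlgebraicClosure k)))) G.hom

end Sch

section Sch

/-! ### part c -/

theorem subsingleton_spec (A : Type u) [CommRing A] [IsArtinianRing A] [IsLocalRing A] :
    Subsingleton ↥(Spec (CommRingCat.of A)) := by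
  have : Subsingleton (PrimeSpectrum A) := by
    refine ⟨fun p q => PrimeSpectrum.ext ?_⟩
    rw [IsLocalRing.eq_maximalIdeal (IsArtinianRing.isMaximal_of_isPrime p.asIdeal),
      IsLocalRing.eq_maximalIdeal (IsArtinianRing.isMaximal_of_isPrime q.asIdeal)]
  exact this

theorem nonempty_bc (A : Type u) [CommRing A] [IsArtinianRing A] [IsLocalRing A]
    {X : Scheme.{u}} (f : X ⟶ Spec (CommRingCat.of A)) (W : X.Opens) (hW : (W : Set X).Nonempty)
    {T : Scheme.{u}} [Nonempty T] (g : T ⟶ Spec (CommRingCat.of A)) :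
    (((pullback.fst f g) ⁻¹ᵁ W : (pullback f g).Opens) : Set ↥(pullback f g)).Nonempty := by
  obtain ⟨w, hw⟩ := hW
  haveI := subsingleton_spec A
  obtain ⟨z, hz1, -⟩ := Scheme.Pullback.exists_preimage_pullback (f := f) (g := g) w
    (Classical.arbitrary T) (Subsingleton.elim _ _)
  refine ⟨z, ?_⟩
  show pullback.fst f g z ∈ W
  rw [hz1]
  exact hw

open Groth.Agent.S5340 in
theorem lft_of_open (A : Type u) [CommRing A] [IsArtinianRing A] [IsLocalRing A]
    (G : Over (Spec (CommRingCat.of A))) [GrpObj G]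
    (W : G.left.Opens) (hW : (W : Set G.left).Nonempty) [LocallyOfFiniteType (W.ι ≫ G.hom)] :
    LocallyOfFiniteType G.hom := by
  let g : Spec (CommRingCat.of (IsLocalRing.ResidueField A)) ⟶ Spec (CommRingCat.of A) :=
    Spec.map (CommRingCat.ofHom (algebraMap A (IsLocalRing.ResidueField A)))
  let G' : Over (Spec (CommRingCat.of (IsLocalRing.ResidueField A))) := Red.bc g G
  let W' : G'.left.Opens := (pullback.fst G.hom g) ⁻¹ᵁ W
  haveI : LocallyOfFiniteType (W'.ι ≫ G'.hom) := lft_preimage_bc G.hom g W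
  have hW' : (W' : Set G'.left).Nonempty := nonempty_bc A G.hom W hW g
  haveI : LocallyOfFiniteType (pullback.snd G.hom g) :=
    lft_of_open_field (IsLocalRing.ResidueField A) G' W' hW'
  exact locallyOfFiniteType_of_residue A G.hom

end Sch

open Groth.Agent.Lib.Helper19 in

/-- Let A be a local artinian ring and G a flat A-group scheme (not assumed locally of finite type). If
G is locally quasi-finite and locally of finite type (resp. unramified, resp. smooth, resp. etale)
over A on some nonempty open subscheme, then G is locally quasi-finite and locally of finite type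
(resp. unramified, resp. smooth, resp. etale) over A. -/
theorem result (A : Type u) [CommRing A] [IsArtinianRing A] [IsLocalRing A] (G : Over (Spec (CommRingCat.of A))) [GrpObj G] [Flat G.hom]
    (W : G.left.Opens) (hW : (W : Set G.left).Nonempty) :
    (LocallyQuasiFinite (W.ι ≫ G.hom) → LocallyOfFiniteType (W.ι ≫ G.hom) → LocallyQuasiFinite G.hom ∧ LocallyOfFiniteType G.hom) ∧
    (FormallyUnramified (W.ι ≫ G.hom) → LocallyOfFinitePresentation (W.ι ≫ G.hom) →
      FormallyUnramified G.hom ∧ LocallyOfFinitePresentation G.hom) ∧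
    (Smooth (W.ι ≫ G.hom) → Smooth G.hom) ∧ (Etale (W.ι ≫ G.hom) → Etale G.hom) := by
  let g : Spec (CommRingCat.of (IsLocalRing.ResidueField A)) ⟶ Spec (CommRingCat.of A) :=
    Spec.map (CommRingCat.ofHom (algebraMap A (IsLocalRing.ResidueField A)))
  let G' : Over (Spec (CommRingCat.of (IsLocalRing.ResidueField A))) := Red.bc g G
  let W' : G'.left.Opens := (pullback.fst G.hom g) ⁻¹ᵁ W
  have hW' : (W' : Set G'.left).Nonempty := nonempty_bc A G.hom W hW g
  have key1 : LocallyOfFiniteType (W.ι ≫ G.hom) → LocallyOfFiniteType G.hom := fun h => by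
    haveI := h
    exact lft_of_open A G W hW
  have hbc : LocallyOfFiniteType G.hom → LocallyOfFiniteType G'.hom := fun h => by
    haveI := h
    exact inferInstanceAs (LocallyOfFiniteType (pullback.snd G.hom g))
  have key2 : FormallyUnramified (W.ι ≫ G.hom) → LocallyOfFinitePresentation (W.ι ≫ G.hom) →
      FormallyUnramified G.hom ∧ LocallyOfFinitePresentation G.hom := by
    intro hfu hlfp
    haveI := hlfp
    have hG : LocallyOfFiniteType G.hom := key1 inferInstance
    haveI := hbc hG
    have h1 : FormallyUnramified (W'.ι ≫ G'.hom) :=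
      prop_preimage_bc @FormallyUnramified G.hom g W hfu
    haveI : FormallyUnramified (pullback.snd G.hom g) :=
      formallyUnramified_of_open_field (IsLocalRing.ResidueField A) G' W' hW' h1
    exact ⟨formallyUnramified_of_residue A G.hom,
      LocallyOfFinitePresentation.iff_locallyOfFiniteType.2 hG⟩
  refine ⟨?_, key2, ?_, ?_⟩
  · intro hlqf hlft
    have hG : LocallyOfFiniteType G.hom := key1 hlft
    haveI := hG
    haveI := hbc hG
    have h1 : LocallyQuasiFinite (W'.ι ≫ G'.hom) :=
      prop_preimage_bc @LocallyQuasiFinite G.hom g W hlqf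
    haveI : LocallyQuasiFinite (pullback.snd G.hom g) :=
      locallyQuasiFinite_of_open_field (IsLocalRing.ResidueField A) G' W' hW' h1
    exact ⟨locallyQuasiFinite_of_residue A G.hom, hG⟩
  · intro hsm
    haveI := hsm
    have hG : LocallyOfFiniteType G.hom := key1 inferInstance
    haveI hGp : LocallyOfFinitePresentation G.hom :=
      LocallyOfFinitePresentation.iff_locallyOfFiniteType.2 hG
    rw [← Scheme.Hom.smoothLocus_eq_top_iff]
    ext x
    simp only [TopologicalSpace.Opens.coe_top, Set.mem_univ, iff_true, SetLike.mem_coe]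
    refine mem_smoothLocus_of_flat_of_smooth_fiber G.hom x (Flat.stalkMap G.hom x) ?_
    set s := G.hom x
    let gs : Spec (CommRingCat.of ↑((Spec (CommRingCat.of A)).residueField s)) ⟶
        Spec (CommRingCat.of A) := (Spec (CommRingCat.of A)).fromSpecResidueField s
    let Gs : Over (Spec (CommRingCat.of ↑((Spec (CommRingCat.of A)).residueField s))) :=
      Red.bc gs G
    let Ws : Gs.left.Opens := (pullback.fst G.hom gs) ⁻¹ᵁ W
    haveI : LocallyOfFiniteType Gs.hom :=
      inferInstanceAs (LocallyOfFiniteType (pullback.snd G.hom gs))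
    have h1 : Smooth (Ws.ι ≫ Gs.hom) := prop_preimage_bc @Smooth G.hom gs W hsm
    have h2 : Smooth Gs.hom :=
      smooth_of_open_field _ Gs Ws (nonempty_bc A G.hom W hW gs) h1
    exact h2
  · intro het
    haveI := het
    obtain ⟨h1, h2⟩ := key2 inferInstance inferInstance
    haveI := h1
    haveI := h2
    exact Etale.of_formallyUnramified_of_flat G.hom

end Groth.Agent.S5339
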