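import Groth.Statements.S5341
import Groth.Agent.Lib.Helper72.GrpdDim
import Groth.Agent.Lib.Helper72.GrpdOfGrp

set_option autoImplicit false
universe u
open CategoryTheory CategoryTheory.Limits MonoidalCategory CartesianMonoidalCategory MonObj GrpObj AlgebraicGeometry
open SGA3

namespace Groth.Agent.S5341

/-- Let G be a group scheme locally of finite type over a field k. Then (i) every irreducible component
of G has the same dimension as G; (ii) for every point g of G the local dimension of G at g (the
infimum of the dimensions of the open neighbourhoods of g) equals dim G. -/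
theorem result (k : Type u) [Field k] (G : Over (Spec (CommRingCat.of k))) [GrpObj G]
    [LocallyOfFiniteType G.hom] :
    (∀ Z ∈ irreducibleComponents ↥G.left, topologicalKrullDim ↥Z = topologicalKrullDim ↥G.left) ∧
    (∀ g : G.left, FlatMor.localDim ↥G.left g = topologicalKrullDim ↥G.left) := by
  have hG1 : LocallyOfFiniteType (Groth.Agent.Lib.Helper72.GrpdPts.ofGrp G).s :=
    (inferInstance : LocallyOfFiniteType G.hom)
  have hG2 : LocallyOfFiniteType (Groth.Agent.Lib.Helper72.GrpdPts.ofGrp G).t :=
    (inferInstance : LocallyOfFiniteType G.hom)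
  exact ⟨fun Z hZ => Groth.Agent.Lib.Helper72.GrpdDim.dim_component_eq
      (Groth.Agent.Lib.Helper72.GrpdPts.ofGrp G) k (Iso.refl _) hZ,
    fun g => Groth.Agent.Lib.Helper72.GrpdDim.localDim_eq_dim
      (Groth.Agent.Lib.Helper72.GrpdPts.ofGrp G) k (Iso.refl _) g⟩

end Groth.Agent.S5341
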