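import Groth.Statements.S5343
-- import your own Groth.Agent.* helpers here

set_option autoImplicit false
universe u
open CategoryTheory CategoryTheory.Limits MonoidalCategory CartesianMonoidalCategory MonObj GrpObj AlgebraicGeometry
open SGA3

namespace Groth.Agent.S5343

section Helpers
open TensorProduct
variable {R B : Type u} [CommRing R] [CommRing B] [Algebra R B]

/-- det trick: if all coefficient functionals of a projective module take values in the ideal `q` on
..., then every `b` is killed by some `d ≡ 1 mod q`. -/
lemma exists_smul_eq_zero (s : B →ₗ[R] (B →₀ R))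
    (hs : Finsupp.linearCombination R (id : B → B) ∘ₗ s = LinearMap.id)
    (q : Ideal R) (hq : ∀ (φ : B →ₗ[R] R) (b : B), φ b ∈ q) (b : B) :
    ∃ d : R, d - 1 ∈ q ∧ d • b = 0 := by
  classical
  set x := s b with hx
  have hb : Finsupp.linearCombination R (id : B → B) x = b := LinearMap.congr_fun hs b
  let S := x.support
  let C : Matrix S S R := fun i j => s (j : B) (i : B)
  let v : S → R := fun i => x i
  have hxsum : x = ∑ j ∈ S, x j • s j := by
    conv_lhs => rw [hx, ← hb, Finsupp.linearCombination_apply, Finsupp.sum, map_sum]
    refine Finset.sum_congr rfl fun j _ => ?_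
    rw [map_smul]; rfl
  have hCv : C.mulVec v = v := by
    funext i
    have := DFunLike.congr_fun hxsum (i : B)
    rw [Finsupp.finsetSum_apply] at this
    simp only [Matrix.mulVec, dotProduct, C, v]
    rw [this, ← Finset.sum_coe_sort S]
    refine Finset.sum_congr rfl fun j _ => ?_
    rw [Finsupp.smul_apply, smul_eq_mul, mul_comm]
  have h0 : (1 - C).mulVec v = 0 := by
    rw [Matrix.sub_mulVec, Matrix.one_mulVec, hCv, sub_self]
  have hdv : (1 - C).det • v = 0 := by
    have h1 : ((1 - C).adjugate * (1 - C)).mulVec v = 0 := by
      rw [← Matrix.mulVec_mulVec, h0, Matrix.mulVec_zero]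
    rw [Matrix.adjugate_mul, Matrix.smul_mulVec, Matrix.one_mulVec] at h1
    exact h1
  refine ⟨(1 - C).det, ?_, ?_⟩
  · rw [← Ideal.Quotient.eq, RingHom.map_det, map_one]
    have : (Ideal.Quotient.mk q).mapMatrix (1 - C) = 1 := by
      ext i j
      simp only [RingHom.mapMatrix_apply, Matrix.map_apply, Matrix.sub_apply, map_sub]
      have hc : Ideal.Quotient.mk q (C i j) = 0 := by
        rw [Ideal.Quotient.eq_zero_iff_mem]
        exact hq ((Finsupp.lapply (i : B)) ∘ₗ s) (j : B)
      rw [hc, sub_zero]
      by_cases hij : i = j
      · subst hij; simp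
      · simp [Matrix.one_apply_ne hij]
    rw [this, Matrix.det_one]
  · rw [← hb, ← map_smul]
    have : (1 - C).det • x = 0 := by
      ext i
      rw [Finsupp.smul_apply, Finsupp.zero_apply]
      by_cases hi : i ∈ S
      · exact congrFun hdv ⟨i, hi⟩
      · rw [Finsupp.notMem_support_iff.mp hi, smul_zero]
    rw [this, map_zero]

/-- description of the image via the trace ideal -/
lemma mem_range_iff [Module.Projective R B] (p : PrimeSpectrum R) :
    p ∈ Set.range (PrimeSpectrum.comap (algebraMap R B)) ↔
      ∃ (φ : B →ₗ[R] R) (b : B), φ b ∉ p.asIdeal := by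
  rw [← PrimeSpectrum.nontrivial_iff_mem_rangeComap]
  constructor
  · intro hnt
    by_contra hcon
    push Not at hcon
    obtain ⟨s, hs⟩ := Module.projective_def'.mp (inferInstance : Module.Projective R B)
    have hsub : Subsingleton (p.asIdeal.ResidueField ⊗[R] B) := by
      refine ⟨fun a c => ?_⟩
      suffices h : ∀ z : p.asIdeal.ResidueField ⊗[R] B, z = 0 by rw [h a, h c]
      intro z
      induction z using TensorProduct.induction_on with
      | zero => rfl
      | tmul x b =>
        have hb : Finsupp.linearCombination R (id : B → B) (s b) = b := LinearMap.congr_fun hs b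
        rw [← hb, Finsupp.linearCombination_apply, Finsupp.sum, TensorProduct.tmul_sum]
        refine Finset.sum_eq_zero fun c _ => ?_
        have hc : (s b) c ∈ p.asIdeal := hcon ((Finsupp.lapply c) ∘ₗ s) b
        rw [id, TensorProduct.tmul_smul, TensorProduct.smul_tmul', Algebra.smul_def,
          (Ideal.algebraMap_residueField_eq_zero).mpr hc, zero_mul, TensorProduct.zero_tmul]
      | add x y hx hy => rw [hx, hy, add_zero]
    exact not_subsingleton _ hsub
  · rintro ⟨φ, b, hb⟩
    let g : p.asIdeal.ResidueField ⊗[R] B →ₗ[R] p.asIdeal.ResidueField :=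
      (TensorProduct.rid R p.asIdeal.ResidueField).toLinearMap ∘ₗ φ.lTensor p.asIdeal.ResidueField
    have hg : g ((1 : p.asIdeal.ResidueField) ⊗ₜ[R] b) ≠ 0 := by
      have hg' : g ((1 : p.asIdeal.ResidueField) ⊗ₜ[R] b) =
          algebraMap R p.asIdeal.ResidueField (φ b) := by
        change (TensorProduct.rid R p.asIdeal.ResidueField)
          ((φ.lTensor p.asIdeal.ResidueField) ((1 : p.asIdeal.ResidueField) ⊗ₜ[R] b)) = _
        rw [LinearMap.lTensor_tmul, TensorProduct.rid_tmul, Algebra.smul_def]
        exact mul_one _
      rw [hg']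
      exact fun h => hb (Ideal.algebraMap_residueField_eq_zero.mp h)
    exact nontrivial_of_ne ((1 : p.asIdeal.ResidueField) ⊗ₜ[R] b) 0 (fun h => hg (by rw [h, map_zero]))

theorem main [Module.Projective R B] :
    IsClopen (Set.range (PrimeSpectrum.comap (algebraMap R B))) := by
  constructor
  · -- closed
    apply PrimeSpectrum.isClosed_range_of_stableUnderSpecialization
    intro p q hpq hp
    rw [mem_range_iff] at hp ⊢
    obtain ⟨φ, b, hb⟩ := hp
    by_contra hcon
    push Not at hcon
    obtain ⟨s, hs⟩ := Module.projective_def'.mp (inferInstance : Module.Projective R B)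
    obtain ⟨d, hd1, hd2⟩ := exists_smul_eq_zero s hs q.asIdeal hcon b
    have hle : p.asIdeal ≤ q.asIdeal := (PrimeSpectrum.le_iff_specializes p q).mpr hpq
    have hdq : d ∉ q.asIdeal := by
      intro hd
      have : (1 : R) ∈ q.asIdeal := by
        have := q.asIdeal.sub_mem hd hd1
        simpa using this
      exact q.isPrime.ne_top ((Ideal.eq_top_iff_one _).mpr this)
    have hdt : d * φ b ∈ p.asIdeal := by
      rw [← smul_eq_mul, ← map_smul, hd2, map_zero]
      exact p.asIdeal.zero_mem
    rcases p.isPrime.mem_or_mem hdt with h | h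
    · exact hdq (hle h)
    · exact hb h
  · -- open
    have : Set.range (PrimeSpectrum.comap (algebraMap R B)) =
        ⋃ (φ : B →ₗ[R] R) (b : B), (PrimeSpectrum.basicOpen (φ b) : Set (PrimeSpectrum R)) := by
      ext p
      rw [mem_range_iff]
      simp only [Set.mem_iUnion, SetLike.mem_coe, PrimeSpectrum.mem_basicOpen]
    rw [this]
    exact isOpen_iUnion fun φ => isOpen_iUnion fun b => (PrimeSpectrum.basicOpen (φ b)).isOpen

end Helpers


/-- Let R be a commutative ring and B a commutative R-algebra which is projective as an R-module. Then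
the image of Spec B → Spec R is an open and closed subset of Spec R. (The published statement
concerns a quasi-coherent algebra on any scheme which is a direct summand of a free module; this row
is the affine case.) -/
theorem result (R B : Type u) [CommRing R] [CommRing B] [Algebra R B] [Module.Projective R B] :
    IsClopen (Set.range (PrimeSpectrum.comap (algebraMap R B))) := by
  exact main

end Groth.Agent.S5343
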