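import Groth.Statements.S5344
import Groth.Agent.Lib.Helper72.GrpConnStable
import Groth.Agent.Lib.Helper72.ArtinRed
import Groth.Agent.Lib.Helper72.GrpCompQC
import Groth.Prelude.Def_ActBC

set_option autoImplicit false
universe u
open CategoryTheory CategoryTheory.Limits MonoidalCategory CartesianMonoidalCategory MonObj GrpObj AlgebraicGeometry
open SGA3

namespace Groth.Agent.S5344

open Groth.Agent.Lib.Helper72.ArtinRed Groth.Agent.Lib.Helper72.GrpComp
  Groth.Agent.Lib.Helper72.GrpConnStable

lemma homeo_image_cc {X Y : Type*} [TopologicalSpace X] [TopologicalSpace Y] (h : X ≃ₜ Y) (x : X) :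
    h '' connectedComponent x = connectedComponent (h x) := by
  apply Set.Subset.antisymm
  · exact h.continuous.image_connectedComponent_subset x
  · intro y hy
    have := h.symm.continuous.image_connectedComponent_subset (h x) ⟨y, hy, rfl⟩
    rw [h.symm_apply_apply] at this
    exact ⟨h.symm y, this, h.apply_symm_apply y⟩

section
variable {A : Type u} [CommRing A] [IsArtinianRing A] [IsLocalRing A]
  (G : Over (Spec (CommRingCat.of A))) [GrpObj G]

lemma map_mul_inv {T : Over (Spec (CommRingCat.of A))} (g h : T ⟶ G) :
    (Over.pullback (clPt A)).map (g * h⁻¹) =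
      (Over.pullback (clPt A)).map g * ((Over.pullback (clPt A)).map h)⁻¹ := by
  rw [Functor.map_mul]
  congr 1
  apply eq_inv_of_mul_eq_one_left
  rw [← Functor.map_mul, inv_mul_cancel, Functor.map_one]

lemma proj_ePt (pt : ↥(𝟙_ (Over (Spec (CommRingCat.of A)))).left) :
    proj G (ePt (Red.bc (clPt A) G)) = η[G].left.base pt := by
  have h1 : (η[Red.bc (clPt A) G]).left ≫ proj G =
      ((Functor.LaxMonoidal.ε (Over.pullback (clPt A))).left ≫
        pullback.fst (𝟙_ (Over (Spec (CommRingCat.of A)))).hom (clPt A)) ≫ η[G].left := by
    rw [Functor.obj.η_def, Over.comp_left, Category.assoc, Category.assoc]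
    congr 1
    exact ActBC.pullback_map_left_fst (clPt A) η[G]
  have h2 : proj G (ePt (Red.bc (clPt A) G)) =
      ((η[Red.bc (clPt A) G]).left ≫ proj G) (IsLocalRing.closedPoint _) := rfl
  rw [h2, h1, Scheme.Hom.comp_apply]
  congr 1
  exact (subsingleton_spec A).elim _ _

lemma image_component (pt : ↥(𝟙_ (Over (Spec (CommRingCat.of A)))).left) :
    proj G '' connectedComponent (ePt (Red.bc (clPt A) G)) =
      connectedComponent (η[G].left.base pt) := by
  have h := homeo_image_cc (homeo G) (ePt (Red.bc (clPt A) G))
  rw [homeo_apply, proj_ePt G pt] at h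
  exact h

lemma range_bc_subset (pt : ↥(𝟙_ (Over (Spec (CommRingCat.of A)))).left)
    {T : Over (Spec (CommRingCat.of A))} (g : T ⟶ G)
    (hg : Set.range g.left.base ⊆ connectedComponent (η[G].left.base pt)) :
    Set.range ((Over.pullback (clPt A)).map g).left ⊆
      connectedComponent (ePt (Red.bc (clPt A) G)) := by
  rintro _ ⟨t', rfl⟩
  have h1 : proj G (((Over.pullback (clPt A)).map g).left t') = g.left (proj T t') := by
    rw [← Scheme.Hom.comp_apply, ← Scheme.Hom.comp_apply]
    exact congrArg (fun f => f t') (ActBC.pullback_map_left_fst (clPt A) g)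
  have h2 : g.left (proj T t') ∈ connectedComponent (η[G].left.base pt) := hg ⟨_, rfl⟩
  rw [← h1, ← image_component G pt] at h2
  obtain ⟨z, hz, hzeq⟩ := h2
  have := (homeo G).injective hzeq
  rw [← this]
  exact hz

lemma range_subset_of_bc (pt : ↥(𝟙_ (Over (Spec (CommRingCat.of A)))).left)
    {T : Over (Spec (CommRingCat.of A))} (f : T ⟶ G)
    (hf : Set.range ((Over.pullback (clPt A)).map f).left ⊆
      connectedComponent (ePt (Red.bc (clPt A) G))) :
    Set.range f.left.base ⊆ connectedComponent (η[G].left.base pt) := by
  rintro _ ⟨t, rfl⟩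
  obtain ⟨t', rfl⟩ := (proj T).surjective t
  have h1 : proj G (((Over.pullback (clPt A)).map f).left t') = f.left (proj T t') := by
    rw [← Scheme.Hom.comp_apply, ← Scheme.Hom.comp_apply]
    exact congrArg (fun f => f t') (ActBC.pullback_map_left_fst (clPt A) f)
  rw [← image_component G pt]
  exact ⟨_, hf ⟨t', rfl⟩, h1⟩

end

/-- Let A be a local artinian ring and G an A-group scheme locally of finite type, and let G⁰ be the
connected component of the unit point. Then G⁰ is open in G; it is stable under the group law: for
every A-scheme T and all points g, h : T → G whose images lie in G⁰, the image of g h⁻¹ lies in G⁰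
(so G⁰ carries an open subgroup scheme, the neutral component); and it is normal: for every A-scheme
T, every point g : T → G and every point n : T → G whose image lies in G⁰, the image of g n g⁻¹ lies
in G⁰. -/
theorem result (A : Type u) [CommRing A] [IsArtinianRing A] [IsLocalRing A] (G : Over (Spec (CommRingCat.of A))) [GrpObj G] [LocallyOfFiniteType G.hom]
    (pt : ↥(𝟙_ (Over (Spec (CommRingCat.of A)))).left) :
    IsOpen (connectedComponent (η[G].left.base pt)) ∧
    (∀ (T : Over (Spec (CommRingCat.of A))) (g h : T ⟶ G), Set.range g.left.base ⊆ connectedComponent (η[G].left.base pt) →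
      Set.range h.left.base ⊆ connectedComponent (η[G].left.base pt) →
      Set.range (g * h⁻¹).left.base ⊆ connectedComponent (η[G].left.base pt)) ∧
    ∀ (T : Over (Spec (CommRingCat.of A))) (g n : T ⟶ G), Set.range n.left.base ⊆ connectedComponent (η[G].left.base pt) →
      Set.range (g * n * g⁻¹).left.base ⊆ connectedComponent (η[G].left.base pt) := by
  refine ⟨?_, ?_, ?_⟩
  · haveI : IsLocallyNoetherian G.left := LocallyOfFiniteType.isLocallyNoetherian G.hom
    haveI : LocallyConnectedSpace G.left :=
      Groth.Agent.Lib.Helper72.GrpCompQC.locallyConnectedSpace_of_isLocallyNoetherian _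
    exact isOpen_connectedComponent
  · intro T g h hg hh
    apply range_subset_of_bc G pt
    rw [map_mul_inv]
    exact range_mul_inv_subset _ _ _ (range_bc_subset G pt g hg) (range_bc_subset G pt h hh)
  · intro T g n hn
    apply range_subset_of_bc G pt
    rw [map_mul_inv, Functor.map_mul]
    exact range_conj_subset _ _ _ (range_bc_subset G pt n hn)

end Groth.Agent.S5344
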