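import Groth.Statements.S5346
import Groth.Agent.Lib.Helper72.ArtinStalk
import Mathlib.LinearAlgebra.TensorProduct.Quotient
import Mathlib.RingTheory.RingHom.FiniteType
import Mathlib.AlgebraicGeometry.Morphisms.FiniteType
import Mathlib.AlgebraicGeometry.Morphisms.Immersion

set_option autoImplicit false
universe u
open CategoryTheory CategoryTheory.Limits MonoidalCategory CartesianMonoidalCategory MonObj GrpObj AlgebraicGeometry
open SGA3

namespace Groth.Agent.S5346

open Groth.Agent.Lib.Helper72.ArtinRed Groth.Agent.Lib.Helper72.ArtinStalk TensorProduct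

theorem finiteType_of_tensor_residue {A : Type u} [CommRing A] [IsLocalRing A]
    (hn : IsNilpotent (IsLocalRing.maximalIdeal A))
    (C : Type u) [CommRing C] [Algebra A C]
    (h : RingHom.FiniteType (RingHomClass.toRingHom (Algebra.TensorProduct.includeRight
      (R := A) (A := C) (B := IsLocalRing.ResidueField A)))) :
    Algebra.FiniteType A C := by
  classical
  letI : Algebra (IsLocalRing.ResidueField A) (C ⊗[A] IsLocalRing.ResidueField A) :=
    (RingHomClass.toRingHom (Algebra.TensorProduct.includeRight
      (R := A) (A := C) (B := IsLocalRing.ResidueField A))).toAlgebra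
  have h' : Algebra.FiniteType (IsLocalRing.ResidueField A)
      (C ⊗[A] IsLocalRing.ResidueField A) := h
  obtain ⟨s, hs⟩ := h'.out
  have hsurj : Function.Surjective (fun c : C => c ⊗ₜ[A] (1 : IsLocalRing.ResidueField A)) :=
    TensorProduct.flip_mk_surjective C IsLocalRing.residue_surjective
  choose l hl using hsurj
  let t : Finset C := s.image l
  refine ⟨⟨t, ?_⟩⟩
  set S := Algebra.adjoin A (t : Set C) with hS
  have h1 : ∀ y ∈ Algebra.adjoin (IsLocalRing.ResidueField A) (s : Set (C ⊗[A] _)),
      ∃ x ∈ S, x ⊗ₜ[A] (1 : IsLocalRing.ResidueField A) = y := by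
    intro y hy
    induction hy using Algebra.adjoin_induction with
    | mem y hy =>
      exact ⟨l y, Algebra.subset_adjoin (Finset.mem_image_of_mem l hy), hl y⟩
    | algebraMap r =>
      obtain ⟨a, rfl⟩ := IsLocalRing.residue_surjective r
      refine ⟨algebraMap A C a, Subalgebra.algebraMap_mem _ _, ?_⟩
      change _ = (1 : C) ⊗ₜ[A] (IsLocalRing.residue A a)
      rw [Algebra.algebraMap_eq_smul_one, smul_tmul]
      congr 1
      rw [Algebra.smul_def, _root_.mul_one]
      rfl
    | add y z _ _ hy hz =>
      obtain ⟨x, hx, rfl⟩ := hy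
      obtain ⟨x', hx', rfl⟩ := hz
      exact ⟨x + x', S.add_mem hx hx', add_tmul _ _ _⟩
    | mul y z _ _ hy hz =>
      obtain ⟨x, hx, rfl⟩ := hy
      obtain ⟨x', hx', rfl⟩ := hz
      refine ⟨x * x', S.mul_mem hx hx', ?_⟩
      rw [Algebra.TensorProduct.tmul_mul_tmul, _root_.mul_one]
  have h2 : (⊤ : Submodule A C) ≤ Subalgebra.toSubmodule S ⊔
      (IsLocalRing.maximalIdeal A) • (⊤ : Submodule A C) := by
    intro c _
    obtain ⟨x, hx, hxc⟩ := h1 (c ⊗ₜ[A] 1) (by rw [hs]; exact Algebra.mem_top)
    have h3 : (c - x) ⊗ₜ[A] (1 : IsLocalRing.ResidueField A) = 0 := by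
      rw [sub_tmul, hxc, sub_self]
    have h4 : c - x ∈ (IsLocalRing.maximalIdeal A) • (⊤ : Submodule A C) := by
      have h3' : (c - x) ⊗ₜ[A] (1 : A ⧸ IsLocalRing.maximalIdeal A) = 0 := h3
      have h5 : TensorProduct.tensorQuotEquivQuotSMul C (IsLocalRing.maximalIdeal A)
          ((c - x) ⊗ₜ[A] (1 : A ⧸ IsLocalRing.maximalIdeal A)) = 0 := by
        rw [h3']; exact map_zero _
      have h6 : TensorProduct.tensorQuotEquivQuotSMul C (IsLocalRing.maximalIdeal A)
          ((c - x) ⊗ₜ[A] (1 : A ⧸ IsLocalRing.maximalIdeal A)) =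
          Submodule.Quotient.mk (c - x) := by
        rw [← map_one (Ideal.Quotient.mk (IsLocalRing.maximalIdeal A)),
          TensorProduct.tensorQuotEquivQuotSMul_tmul_mk, one_smul]
      rw [h6] at h5
      exact (Submodule.Quotient.mk_eq_zero _).mp h5
    have h7 : c = x + (c - x) := by ring
    rw [h7]
    exact Submodule.add_mem_sup hx h4
  have h8 := Groth.Agent.S5338.le_of_le_sup_smul _ hn ⊤ (Subalgebra.toSubmodule S) h2
  rw [eq_top_iff]
  intro c _
  exact h8 (Submodule.mem_top (x := c))


section
variable {A : Type u} [CommRing A] [IsArtinianRing A] [IsLocalRing A]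

lemma lft_snd_comp {U X S S' : Scheme.{u}} (j : U ⟶ X) [IsOpenImmersion j] (f : X ⟶ S)
    (i : S' ⟶ S) [LocallyOfFiniteType (pullback.snd f i)] :
    LocallyOfFiniteType (pullback.snd (j ≫ f) i) := by
  have h : pullback.snd (j ≫ f) i =
      pullback.map (j ≫ f) i f i j (𝟙 _) (𝟙 _) (by simp) (by simp) ≫ pullback.snd f i := by
    rw [pullback.lift_snd, Category.comp_id]
  rw [h]
  infer_instance

/-- The affine case. -/
theorem lft_Spec (C : Type u) [CommRing C] [Algebra A C]
    (h : LocallyOfFiniteType (pullback.snd (Spec.map (CommRingCat.ofHom (algebraMap A C)))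
      (Spec.map (CommRingCat.ofHom (algebraMap A (IsLocalRing.ResidueField A)))))) :
    LocallyOfFiniteType (Spec.map (CommRingCat.ofHom (algebraMap A C))) := by
  have h3 : LocallyOfFiniteType ((pullbackSpecIso A C (IsLocalRing.ResidueField A)).inv ≫
      pullback.snd _ _) := inferInstance
  rw [pullbackSpecIso_inv_snd, HasRingHomProperty.Spec_iff (P := @LocallyOfFiniteType)] at h3
  rw [HasRingHomProperty.Spec_iff (P := @LocallyOfFiniteType)]
  exact RingHom.finiteType_algebraMap.mpr
    (finiteType_of_tensor_residue isNilpotent_maximalIdeal C h3)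

theorem lft_of_isAffine (T : Scheme.{u}) [IsAffine T] (f : T ⟶ Spec (CommRingCat.of A))
    (h : LocallyOfFiniteType (pullback.snd f (clPt A))) : LocallyOfFiniteType f := by
  have h1 : LocallyOfFiniteType (T.isoSpec.inv ≫ f) := by
    letI : Algebra A Γ(T, ⊤) := (Spec.preimage (T.isoSpec.inv ≫ f)).hom.toAlgebra
    have e1 : Spec.map (CommRingCat.ofHom (algebraMap A Γ(T, ⊤))) = T.isoSpec.inv ≫ f :=
      Spec.map_preimage _
    rw [← e1]
    apply lft_Spec
    rw [e1]
    exact lft_snd_comp T.isoSpec.inv f (clPt A)
  have h2 : f = T.isoSpec.hom ≫ (T.isoSpec.inv ≫ f) := by simp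
  rw [h2]
  infer_instance

theorem lft_of_bc (X : Over (Spec (CommRingCat.of A)))
    (h : LocallyOfFiniteType (pullback.snd X.hom (clPt A))) : LocallyOfFiniteType X.hom := by
  rw [IsZariskiLocalAtSource.iff_of_openCover (P := @LocallyOfFiniteType) X.left.affineCover]
  intro j
  exact lft_of_isAffine _ _ (lft_snd_comp _ X.hom (clPt A))

theorem qc_of_bc (X : Over (Spec (CommRingCat.of A)))
    (h : QuasiCompact (pullback.snd X.hom (clPt A))) : QuasiCompact X.hom := by
  rw [HasAffineProperty.iff_of_isAffine (P := @QuasiCompact)] at h ⊢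
  haveI : CompactSpace ↥(Red.bc (clPt A) X).left := h
  have hs : Function.Surjective (proj X) := (proj X).surjective
  exact ⟨by
    rw [← Set.range_eq_univ.mpr hs]
    exact isCompact_range (proj X).continuous⟩

lemma range_eq {X Y : Over (Spec (CommRingCat.of A))} (u : X ⟶ Y) :
    Set.range u.left = proj Y '' Set.range ((Over.pullback (clPt A)).map u).left := by
  have w : ((Over.pullback (clPt A)).map u).left ≫ proj Y = proj X ≫ u.left :=
    ActBC.pullback_map_left_fst (clPt A) u
  ext y
  constructor
  · rintro ⟨x, rfl⟩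
    obtain ⟨x', rfl⟩ := (proj X).surjective x
    refine ⟨_, ⟨x', rfl⟩, ?_⟩
    rw [← Scheme.Hom.comp_apply, w, Scheme.Hom.comp_apply]
  · rintro ⟨_, ⟨x', rfl⟩, rfl⟩
    refine ⟨proj X x', ?_⟩
    rw [← Scheme.Hom.comp_apply, ← w, Scheme.Hom.comp_apply]

theorem isPreimmersion_of_bc {X Y : Over (Spec (CommRingCat.of A))} (u : X ⟶ Y)
    (h : IsPreimmersion ((Over.pullback (clPt A)).map u).left) : IsPreimmersion u.left := by
  have w : ((Over.pullback (clPt A)).map u).left ≫ proj Y = proj X ≫ u.left :=
    ActBC.pullback_map_left_fst (clPt A) u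
  refine { stalkMap_surjective := ?_, isEmbedding := ?_ }
  · intro x
    obtain ⟨x', rfl⟩ := (proj X).surjective x
    exact stalkMap_surjective_of_bc u
      (fun x' => ((Over.pullback (clPt A)).map u).left.stalkMap_surjective x') x'
  · have h1 : (u.left : X.left → Y.left) =
        (homeo Y) ∘ ((Over.pullback (clPt A)).map u).left ∘ (homeo X).symm := by
      funext x
      obtain ⟨x', rfl⟩ := (homeo X).surjective x
      change u.left (homeo X x') = homeo Y (((Over.pullback (clPt A)).map u).left
        ((homeo X).symm (homeo X x')))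
      rw [Homeomorph.symm_apply_apply, homeo_apply, homeo_apply, ← Scheme.Hom.comp_apply,
        ← Scheme.Hom.comp_apply, w]
    rw [h1]
    exact (homeo Y).isEmbedding.comp
      (((Over.pullback (clPt A)).map u).left.isEmbedding.comp (homeo X).symm.isEmbedding)

end

/-- Let A be a local artinian ring with residue field k and i : Spec k → Spec A the closed point. (i) If
X is an A-scheme whose base change X ⊗_A k is locally of finite type (resp. of finite type) over k,
then X is locally of finite type (resp. of finite type) over A. (ii) If u : X → Y is a morphism of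
A-schemes whose base change u ⊗_A k is an immersion (resp. a closed immersion), then u is an
immersion (resp. a closed immersion). -/
theorem result (A : Type u) [CommRing A] [IsArtinianRing A] [IsLocalRing A] (X Y : Over (Spec (CommRingCat.of A))) (u : X ⟶ Y) :
    letI i : Spec (CommRingCat.of (IsLocalRing.ResidueField A)) ⟶ (Spec (CommRingCat.of A)) := Spec.map (CommRingCat.ofHom (IsLocalRing.residue A))
    (LocallyOfFiniteType (pullback.snd X.hom i) → LocallyOfFiniteType X.hom) ∧
    (LocallyOfFiniteType (pullback.snd X.hom i) → QuasiCompact (pullback.snd X.hom i) → QuasiCompact X.hom) ∧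
    (IsImmersion ((Over.pullback i).map u).left → IsImmersion u.left) ∧
    (IsClosedImmersion ((Over.pullback i).map u).left → IsClosedImmersion u.left) := by
  refine ⟨lft_of_bc X, fun _ h => qc_of_bc X h, ?_, ?_⟩
  · intro h
    haveI h' : IsImmersion ((Over.pullback (clPt A)).map u).left := h
    haveI := isPreimmersion_of_bc u inferInstance
    refine { isLocallyClosed_range := ?_ }
    rw [range_eq u]
    exact (((Over.pullback (clPt A)).map u).left.isLocallyClosed_range).image
      (proj Y).isEmbedding.isInducing (proj Y).isClosedEmbedding.isClosed_range.isLocallyClosed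
  · intro h
    haveI h' : IsClosedImmersion ((Over.pullback (clPt A)).map u).left := h
    haveI := isPreimmersion_of_bc u inferInstance
    apply IsClosedImmersion.of_isPreimmersion
    rw [range_eq u]
    exact (proj Y).isClosedEmbedding.isClosedMap _
      ((Over.pullback (clPt A)).map u).left.isClosedEmbedding.isClosed_range

end Groth.Agent.S5346
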