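import Groth.Statements.S5349
import Groth.Agent.Lib.Helper72.HomogSpace
-- import your own Groth.Agent.* helpers here

set_option autoImplicit false
universe u
open CategoryTheory CategoryTheory.Limits MonoidalCategory CartesianMonoidalCategory MonObj GrpObj AlgebraicGeometry
open SGA3

namespace Groth.Agent.S5349

/-- Let G be a group scheme over a field k (not assumed of finite type) acting on an irreducible
k-scheme X so that the morphism G ×_k X → X ×_k X, (g, x) ↦ (gx, x), is surjective. Then X is
quasi-compact. -/
theorem result (k : Type u) [Field k] (G X : Over (Spec (CommRingCat.of k))) [GrpObj G] (a : AlgGrp.Action G X) (hΦ : Surjective (lift a.act (snd G X)).left)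
    [IrreducibleSpace X.left] : CompactSpace X.left := by
  obtain ⟨x⟩ : Nonempty ↥X.left := inferInstance
  obtain ⟨_, ⟨U, hU, rfl⟩, hxU, -⟩ :=
    X.left.isBasis_affineOpens.exists_subset_of_mem_open (Set.mem_univ x) isOpen_univ
  have hcpt := Groth.Agent.Lib.Helper72.HomogSpace.isCompact_image_act a U hU.isCompact
  rw [Groth.Agent.Lib.Helper72.HomogSpace.image_act_eq a hΦ U] at hcpt
  have huniv : (Set.univ : Set X.left) ∈ irreducibleComponents ↥X.left := by
    rw [irreducibleComponents_eq_singleton]; rfl
  let ξ : X.left := genericPoint ↥X.left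
  have hξ : closure {ξ} = (Set.univ : Set X.left) := (genericPoint_spec ↥X.left).def
  have hξU : ξ ∈ U := by
    have hspec : ξ ⤳ x := by rw [specializes_iff_mem_closure, hξ]; trivial
    exact hspec.mem_open U.isOpen hxU
  have hsub : (Set.univ : Set X.left) ⊆
      ⋃₀ {Z : Set X.left | Z ∈ irreducibleComponents ↥X.left ∧ ∃ ξ ∈ U, closure {ξ} = Z} :=
    Set.subset_sUnion_of_mem ⟨huniv, ξ, hξU, hξ⟩
  exact isCompact_univ_iff.1 (hcpt.of_isClosed_subset isClosed_univ hsub)

end Groth.Agent.S5349
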