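import Groth.Statements.S5353
import Groth.Agent.Lib.Helper19.Grp.UnramifiedArtin
import Groth.Agent.Lib.Helper62.GrpSeparated
import Groth.Agent.Lib.Helper19.FlatUnramified

set_option autoImplicit false
universe u
open CategoryTheory CategoryTheory.Limits MonoidalCategory CartesianMonoidalCategory MonObj GrpObj AlgebraicGeometry
open SGA3

namespace Groth.Agent.S5353

/-- Let A be a local artinian ring, G an A-group scheme which is flat and locally of finite type, i : G⁰
→ G an open subgroup scheme whose image is the connected component of the unit (the neutral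
component), and p : G → Q a homomorphism of A-group schemes which is surjective, flat and locally of
finite presentation with kernel G⁰ (Q is the quotient of G by G⁰). Then Q is etale over A. -/
theorem result (A : Type u) [CommRing A] [IsArtinianRing A] [IsLocalRing A] (G0 G Q : Over (Spec (CommRingCat.of A))) [GrpObj G0] [GrpObj G] [GrpObj Q]
    [Flat G.hom] [LocallyOfFiniteType G.hom] (i : G0 ⟶ G) [IsMonHom i] [IsOpenImmersion i.left]
    (pt : ↥(𝟙_ (Over (Spec (CommRingCat.of A)))).left) (hi : Set.range i.left.base = connectedComponent (η[G].left.base pt))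
    (p : G ⟶ Q) [IsMonHom p] [Surjective p.left] [Flat p.left] [LocallyOfFinitePresentation p.left]
    (hK : AlgGrp.IsKernel i p) : Etale Q.hom := by
  have sq := hK.map (Over.forget _)
  have hη : IsOpenImmersion η[Q].left :=
    MorphismProperty.of_isPullback_of_descendsAlong (P := @IsOpenImmersion)
      (Q := @Surjective ⊓ @Flat ⊓ @LocallyOfFinitePresentation) sq
      ⟨⟨inferInstanceAs (Surjective p.left), inferInstanceAs (Flat p.left)⟩,
        inferInstanceAs (LocallyOfFinitePresentation p.left)⟩
      (inferInstanceAs (IsOpenImmersion i.left))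
  have sqΔ := (Groth.Agent.Lib.Helper62.isPullback_diag_unit Q).map (Over.forget _)
  have hΔ : IsOpenImmersion (lift (𝟙 Q) (𝟙 Q)).left :=
    MorphismProperty.of_isPullback (P := @IsOpenImmersion) sqΔ.flip hη
  have e : Limits.pullback.diagonal Q.hom = (lift (𝟙 Q) (𝟙 Q)).left := by
    apply Limits.pullback.hom_ext
    · simp only [Limits.pullback.diagonal_fst, Over.lift_left]
      exact (Limits.pullback.lift_fst _ _ _).symm
    · simp only [Limits.pullback.diagonal_snd, Over.lift_left]
      exact (Limits.pullback.lift_snd _ _ _).symm
  haveI : IsOpenImmersion (Limits.pullback.diagonal Q.hom) := by rw [e]; exact hΔ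
  haveI : LocallyOfFiniteType Q.hom :=
    Groth.Agent.Lib.Helper19.UnramifiedArtin.locallyOfFiniteType_of_isOpenImmersion_diagonal A Q.hom
  haveI : IsNoetherianRing A := inferInstance
  haveI : LocallyOfFinitePresentation Q.hom :=
    LocallyOfFinitePresentation.iff_locallyOfFiniteType.mpr inferInstance
  haveI : Flat Q.hom := by
    refine Flat.of_stalkMap _ fun y => ?_
    obtain ⟨x, rfl⟩ := p.left.surjective y
    have h2 : Flat (p.left ≫ Q.hom) := by rw [Over.w p]; infer_instance
    exact Groth.Agent.Lib.Helper19.flat_stalkMap_of_flat_stalkMap_comp p.left Q.hom x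
      (Flat.stalkMap p.left x) (Flat.stalkMap (p.left ≫ Q.hom) x)
  exact Etale.of_formallyUnramified_of_flat Q.hom

end Groth.Agent.S5353
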