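import Groth.Statements.S5362
import Groth.Agent.Lib.Helper78.Semidirect
import Groth.Agent.S3024
import Groth.Agent.S5331
import Groth.Agent.Lib.Helper94.SmoothRed

set_option autoImplicit false
universe u
open CategoryTheory CategoryTheory.Limits MonoidalCategory CartesianMonoidalCategory MonObj GrpObj AlgebraicGeometry
open SGA3

namespace Groth.Agent.S5362

open Groth.Agent.Lib.Helper78.Semidirect in

/-- Let G be a group scheme locally of finite type over a field k, and a : A → G, b : B → G two closed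
subgroup schemes which are smooth and of finite type over k, such that B normalizes A (conjugating a
point of A by a point of B gives a point of A). Let i : Γ → G be the smallest closed subgroup scheme
of G through which both a and b factor. Then Γ is reduced and its underlying set is A·B, the image
of A ×_k B under (x, y) ↦ a(x) b(y). -/
theorem result (k : Type u) [Field k] (G A B : Over (Spec (CommRingCat.of k))) [GrpObj G] [GrpObj A] [GrpObj B]
    [LocallyOfFiniteType G.hom] (a : A ⟶ G) [IsMonHom a] [IsClosedImmersion a.left] (b : B ⟶ G) [IsMonHom b]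
    [IsClosedImmersion b.left] [Smooth A.hom] [QuasiCompact A.hom] [Smooth B.hom] [QuasiCompact B.hom]
    (hN : ∀ (T : Over (Spec (CommRingCat.of k))) (y : T ⟶ B) (x : T ⟶ A), ∃ x' : T ⟶ A, (y ≫ b) * (x ≫ a) * (y ≫ b)⁻¹ = x' ≫ a)
    (Γ : Over (Spec (CommRingCat.of k))) [GrpObj Γ] (i : Γ ⟶ G) [IsMonHom i] [IsClosedImmersion i.left]
    (ha : ∃ a' : A ⟶ Γ, a' ≫ i = a) (hb : ∃ b' : B ⟶ Γ, b' ≫ i = b)
    (hmin : ∀ (Γ' : Over (Spec (CommRingCat.of k))) (_ : GrpObj Γ') (i' : Γ' ⟶ G), IsMonHom i' → IsClosedImmersion i'.left →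
        (∃ a'' : A ⟶ Γ', a'' ≫ i' = a) → (∃ b'' : B ⟶ Γ', b'' ≫ i' = b) → ∃ j : Γ ⟶ Γ', j ≫ i' = i) :
    IsReduced Γ.left ∧ Set.range i.left.base = Set.range ((a ⊗ₘ b) ≫ μ[G]).left.base := by
  haveI : Mono a := Over.mono_of_mono_left a
  haveI : Mono i := Over.mono_of_mono_left i
  have hπdef : (a ⊗ₘ b) ≫ μ[G] = (fst A B ≫ a) * (snd A B ≫ b) := by
    rw [Hom.mul_def]
    congr 1
  obtain ⟨str, hπ⟩ := exists_grpObj_semidirect a b hN
  rw [hπdef]
  generalize hπ' : (fst A B ≫ a) * (snd A B ≫ b) = π at hπ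
  -- quasi-compactness and reducedness
  haveI : IsSeparated G.hom := Groth.Agent.S5331.result _ G
  haveI : QuasiCompact (A ⊗ B).hom := by
    rw [Over.tensorObj_hom]; infer_instance
  haveI : Smooth (A ⊗ B).hom := by
    rw [Over.tensorObj_hom]; infer_instance
  haveI : IsReduced (A ⊗ B).left :=
    Groth.Agent.Lib.Helper94.isReduced_of_smooth_of_field (A ⊗ B).hom
  haveI : QuasiCompact π.left := by
    haveI : QuasiCompact (π.left ≫ G.hom) := by rw [Over.w]; infer_instance
    exact QuasiCompact.of_comp π.left G.hom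
  obtain ⟨H', strH', i', f', hi', hf', hfi, hcl, hker, hqc, hsurj⟩ :=
    @Groth.Agent.S3024.result k _ (A ⊗ B) G str _ π hπ _
  haveI : Mono i' := Over.mono_of_mono_left i'
  haveI : IsSchemeTheoreticallyDominant f'.left := ⟨hker⟩
  haveI : IsReduced H'.left := IsSchemeTheoreticallyDominant.isReduced f'.left
  -- `a` and `b` factor through `H'`
  have ha' : ∃ a'' : A ⟶ H', a'' ≫ i' = a := by
    refine ⟨lift (𝟙 A) (toUnit A ≫ η) ≫ f', ?_⟩
    rw [Category.assoc, hfi, ← hπ', MonObj.comp_mul, lift_fst_assoc, lift_snd_assoc,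
      Category.id_comp, Category.assoc, IsMonHom.one_hom b, ← Hom.one_def, _root_.mul_one]
  have hb' : ∃ b'' : B ⟶ H', b'' ≫ i' = b := by
    refine ⟨lift (toUnit B ≫ η) (𝟙 B) ≫ f', ?_⟩
    rw [Category.assoc, hfi, ← hπ', MonObj.comp_mul, lift_fst_assoc, lift_snd_assoc,
      Category.id_comp, Category.assoc, IsMonHom.one_hom a, ← Hom.one_def, _root_.one_mul]
  obtain ⟨j, hj⟩ := hmin H' strH' i' hi' hcl ha' hb'
  -- `π` factors through `Γ`
  obtain ⟨a₀, ha₀⟩ := ha
  obtain ⟨b₀, hb₀⟩ := hb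
  have hπΓ : ((fst A B ≫ a₀) * (snd A B ≫ b₀)) ≫ i = f' ≫ i' := by
    rw [hfi, ← hπ', MonObj.mul_comp, Category.assoc, Category.assoc, ha₀, hb₀]
  obtain ⟨m₀, hm₀⟩ := Groth.Agent.Lib.Helper72.SchDominant.exists_lift_of_dominant f'.left
    i'.left i.left ((fst A B ≫ a₀) * (snd A B ≫ b₀)).left (by
      rw [← Over.comp_left, ← Over.comp_left, hπΓ])
  -- comparison of ranges
  have hr1 : Set.range i.left.base ⊆ Set.range i'.left.base := by
    rintro _ ⟨x, rfl⟩
    refine ⟨j.left.base x, ?_⟩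
    rw [← Scheme.Hom.comp_apply, ← Over.comp_left, hj]
  have hr2 : Set.range i'.left.base ⊆ Set.range i.left.base := by
    rintro _ ⟨x, rfl⟩
    refine ⟨m₀.base x, ?_⟩
    rw [← Scheme.Hom.comp_apply, hm₀]
  have hr3 : Set.range i'.left.base = Set.range π.left.base := by
    rw [← hfi, Over.comp_left, Scheme.Hom.comp_base, TopCat.coe_comp, Set.range_comp,
      hsurj.surj.range_eq, Set.image_univ]
  refine ⟨?_, (hr1.antisymm hr2).trans hr3⟩
  -- `Γ ≅ H'`
  have h1 : j.left ≫ m₀ = 𝟙 Γ.left := by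
    haveI : Mono i.left := inferInstance
    rw [← cancel_mono i.left, Category.assoc, hm₀, ← Over.comp_left, hj, Category.id_comp]
  have h2 : m₀ ≫ j.left = 𝟙 H'.left := by
    haveI : Mono i'.left := inferInstance
    rw [← cancel_mono i'.left, Category.assoc, ← Over.comp_left, hj, hm₀, Category.id_comp]
  haveI : IsIso j.left := ⟨m₀, h1, h2⟩
  exact isReduced_of_isOpenImmersion j.left

end Groth.Agent.S5362
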