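import Groth.Statements.S5363
import Groth.Agent.Lib.Helper78.Centralizer

set_option autoImplicit false
universe u
open CategoryTheory CategoryTheory.Limits MonoidalCategory CartesianMonoidalCategory MonObj GrpObj AlgebraicGeometry
open SGA3

namespace Groth.Agent.S5363

open Groth.Agent.Lib.Helper78.Centralizer in

/-- Let G be a group scheme over a field k and g a k-rational point of G. Then the smallest closed
subgroup scheme Γ of G through which g factors (the closed subgroup generated by g) is commutative. -/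
theorem result (k : Type u) [Field k] (G : Over (Spec (CommRingCat.of k))) [GrpObj G]
    (g : 𝟙_ (Over (Spec (CommRingCat.of k))) ⟶ G) (Γ : Over (Spec (CommRingCat.of k))) [GrpObj Γ] (i : Γ ⟶ G) [IsMonHom i] [IsClosedImmersion i.left]
    (hf : ∃ f' : 𝟙_ (Over (Spec (CommRingCat.of k))) ⟶ Γ, f' ≫ i = g)
    (hmin : ∀ (Γ' : Over (Spec (CommRingCat.of k))) (_ : GrpObj Γ') (i' : Γ' ⟶ G), IsMonHom i' → IsClosedImmersion i'.left →
        (∃ f'' : 𝟙_ (Over (Spec (CommRingCat.of k))) ⟶ Γ', f'' ≫ i' = g) → ∃ j : Γ ⟶ Γ', j ≫ i' = i) :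
    IsCommMonObj Γ := by
  haveI : Mono i := Over.mono_of_mono_left i
  -- step 1: `Γ` centralizes `g`
  obtain ⟨C₁, str₁, c₁, hc₁, hm₁, -, hu₁⟩ := centralizer_closed k G _ g
  have hg₁ : ∃ f'' : 𝟙_ (Over (Spec (CommRingCat.of k))) ⟶ C₁, f'' ≫ c₁ = g := by
    rw [hu₁]
    intro S'' s x
    rw [toUnit_unique s x]
  obtain ⟨j₁, hj₁⟩ := hmin C₁ str₁ c₁ hm₁ hc₁ hg₁
  have h1 := (hu₁ Γ i).mp ⟨j₁, hj₁⟩
  -- step 2: `Γ` centralizes `Γ`
  obtain ⟨C₂, str₂, c₂, hc₂, hm₂, -, hu₂⟩ := centralizer_closed k G Γ i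
  have hg₂ : ∃ f'' : 𝟙_ (Over (Spec (CommRingCat.of k))) ⟶ C₂, f'' ≫ c₂ = g := by
    rw [hu₂]
    intro S'' s x
    exact (h1 S'' x s).symm
  obtain ⟨j₂, hj₂⟩ := hmin C₂ str₂ c₂ hm₂ hc₂ hg₂
  have h2 := (hu₂ Γ i).mp ⟨j₂, hj₂⟩ (Γ ⊗ Γ) (fst Γ Γ) (snd Γ Γ)
  apply isCommMonObj_of_comm
  rw [← cancel_mono i, MonObj.mul_comp, MonObj.mul_comp]
  exact h2

end Groth.Agent.S5363
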