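import Groth.Statements.S5366
import Groth.Agent.Lib.Helper19.Grp.CommWordsScheme

set_option autoImplicit false
universe u
open CategoryTheory CategoryTheory.Limits MonoidalCategory CartesianMonoidalCategory MonObj GrpObj AlgebraicGeometry
open SGA3

namespace Groth.Agent.S5366

/-- (i) ⟺ (iii): let G be a smooth group scheme of finite type over a field k, Ω an algebraically closed
extension field of k and n a natural number. Then G is solvable of class n (the n-th term of the
derived series of the group G(T) is trivial for every k-scheme T) if and only if the n-th term of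
the derived series of the group of Ω-points G(Ω) is trivial; and G is nilpotent of class n (the n-th
term of the lower central series of G(T) is trivial for every T) if and only if the n-th term of the
lower central series of G(Ω) is trivial. -/
theorem result (k : Type u) [Field k] (G : Over (Spec (CommRingCat.of k))) [GrpObj G]
    [Smooth G.hom] [QuasiCompact G.hom] (Ω : Type u) [Field Ω] [Algebra k Ω] [IsAlgClosed Ω] (n : ℕ) :
    ((∀ T : Over (Spec (CommRingCat.of k)), derivedSeries (T ⟶ G) n = ⊥) ↔ derivedSeries ((Over.mk (Spec.map (CommRingCat.ofHom (algebraMap k Ω))) : Over (Spec (CommRingCat.of k))) ⟶ G) n = ⊥) ∧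
    ((∀ T : Over (Spec (CommRingCat.of k)), Subgroup.lowerCentralSeries (⊤ : Subgroup (T ⟶ G)) n = ⊥) ↔ Subgroup.lowerCentralSeries (⊤ : Subgroup (((Over.mk (Spec.map (CommRingCat.ofHom (algebraMap k Ω))) : Over (Spec (CommRingCat.of k))) ⟶ G))) n = ⊥) := by
  haveI : IsSeparated G.hom := Groth.Agent.Lib.Helper81.KPointsDense.isSeparated_grp k G
  haveI : IsSepClosed Ω := inferInstance
  refine ⟨⟨fun h => h _, fun h T => ?_⟩, ⟨fun h => h _, fun h T => ?_⟩⟩
  · apply Groth.Agent.Lib.Helper19.CommWords.derivedSeries_eq_bot_of_dC
    apply Groth.Agent.Lib.Helper19.CommWords.eq_of_points k Ω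
    intro p
    rw [Groth.Agent.Lib.Helper19.CommWords.comp_dC_eq_one G n _ h p, comp_one]
  · apply Groth.Agent.Lib.Helper19.CommWords.lowerCentralSeries_eq_bot_of_lC
    apply Groth.Agent.Lib.Helper19.CommWords.eq_of_points k Ω
    intro p
    rw [Groth.Agent.Lib.Helper19.CommWords.comp_lC_eq_one G n _ h p, comp_one]

end Groth.Agent.S5366
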