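import Groth.Statements.S5373
import Groth.Agent.Lib.Helper78.FpqcQuot
import Groth.Agent.Lib.Helper78.FpqcDescent
import Mathlib.AlgebraicGeometry.Morphisms.Immersion
import Mathlib.AlgebraicGeometry.Morphisms.Separated
import Mathlib.AlgebraicGeometry.Morphisms.FlatDescent
import Mathlib.AlgebraicGeometry.Morphisms.Proper

set_option autoImplicit false
universe u
set_option backward.isDefEq.respectTransparency.types false
set_option linter.style.haveILetI false
open CategoryTheory CategoryTheory.Limits MonoidalCategory CartesianMonoidalCategory MonObj GrpObj AlgebraicGeometry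
open SGA3

namespace Groth.Agent.S5373

open Groth.Agent.Lib.Helper78.FpqcCov Groth.Agent.Lib.Helper78.FpqcQuot

/-- Let p : X → Y be a morphism of S-schemes and v : X ×_Y X → X ×_S X the canonical monomorphism (the
graph of the effective equivalence relation defined by p). Then (i) v is an immersion, and a closed
immersion if Y is separated over S; (ii) if p is covering for the fpqc topology (some Z → Y which is
flat, surjective, with every affine open of Y the image of a quasi-compact open of Z, factors
through p), so that Y represents the quotient sheaf of X by this equivalence relation, and v is a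
closed immersion, then Y is separated over S. -/
theorem result (S : Scheme.{u}) (X Y : Over S) (p : X ⟶ Y) :
    letI v : (pullback p p) ⟶ X ⊗ X := lift (pullback.fst p p) (pullback.snd p p)
    IsImmersion v.left ∧ (IsSeparated Y.hom → IsClosedImmersion v.left) ∧
    ((∃ (Z : Scheme.{u}) (q : Z ⟶ Y.left) (r : Z ⟶ X.left), r ≫ p.left = q ∧ Surjective q ∧ Flat q ∧
        ∀ V : Y.left.Opens, IsAffineOpen V → ∃ W : Z.Opens, IsCompact (W : Set Z) ∧ q.base '' (W : Set Z) = (V : Set Y.left)) →
      IsClosedImmersion v.left → IsSeparated Y.hom) := by
  have sq := ((isPullback_kernelPair_diag p).map (Over.forget S)).flip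
  have hd : (Over.forget S).map (lift (𝟙 Y) (𝟙 Y)) = pullback.diagonal Y.hom := rfl
  rw [hd] at sq
  simp only [Over.forget_map] at sq
  refine ⟨?_, ?_, ?_⟩
  · have hi : IsImmersion (pullback.diagonal Y.hom) := inferInstance
    exact MorphismProperty.of_isPullback (P := @IsImmersion) sq hi
  · intro hsep
    exact MorphismProperty.of_isPullback (P := @IsClosedImmersion) sq
      hsep.isClosedImmersion_diagonal
  · intro hcov hv
    have hc : FpqcCov (p ⊗ₘ p).left :=
      fpqcCov_tensorHom p p (fpqcCov_of_data p.left hcov) (fpqcCov_of_data p.left hcov)
    haveI : IsClosedImmersion (lift (pullback.fst p p) (pullback.snd p p)).left := hv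
    have huc : UniversallyClosed (pullback.diagonal Y.hom) :=
      FpqcCov.descends @UniversallyClosed inferInstance hc sq
        (inferInstance : UniversallyClosed (lift (pullback.fst p p) (pullback.snd p p)).left)
    exact ⟨IsClosedImmersion.of_isPreimmersion _
      (Scheme.Hom.isClosedMap (pullback.diagonal Y.hom)).isClosed_range⟩

end Groth.Agent.S5373
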