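import Groth.Statements.S5369
import Groth.Agent.Lib.Helper78.FpqcQuot
import Groth.Agent.Lib.Helper78.FpqcDescent
import Groth.Agent.S5373
import Mathlib.AlgebraicGeometry.Morphisms.Immersion
import Mathlib.AlgebraicGeometry.Morphisms.Separated
import Mathlib.AlgebraicGeometry.Morphisms.FlatDescent
import Mathlib.AlgebraicGeometry.Morphisms.Proper

set_option autoImplicit false
universe u
set_option backward.isDefEq.respectTransparency.types false
set_option linter.style.haveILetI false
open CategoryTheory CategoryTheory.Limits MonoidalCategory CartesianMonoidalCategory MonObj GrpObj AlgebraicGeometry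
open SGA3

namespace Groth.Agent.S5369

open Groth.Agent.Lib.Helper78.FpqcCov Groth.Agent.Lib.Helper78.FpqcQuot

/-- Let u : G' → G be a monomorphism of S-group schemes and p : G → G'' a morphism of S-schemes which is
covering for the fpqc topology (some Z → G'' which is flat, surjective, with every affine open of
G'' the image of a quasi-compact open of Z, factors through p) and such that the square (g, h) ↦
g·u(h), first projection G ×_S G' → G, p, p is cartesian, so that G'' represents the fpqc quotient
sheaf G/G'. Let ε'' be the composite of the unit section of G with p. Then the square formed by u,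
the structure morphism G' → S, p and ε'' is cartesian; u is an immersion; and G'' is separated over
S if and only if u is a closed immersion, if and only if ε'' is a closed immersion. -/
theorem result (S : Scheme.{u}) (G G' G'' : Over S) [GrpObj G] [GrpObj G']
    (u : G' ⟶ G) [IsMonHom u] [Mono u] (p : G ⟶ G'')
    (hcov : (∃ (Z : Scheme.{u}) (q : Z ⟶ G''.left) (r : Z ⟶ G.left), r ≫ p.left = q ∧ Surjective q ∧ Flat q ∧
        ∀ V : G''.left.Opens, IsAffineOpen V → ∃ W : Z.Opens, IsCompact (W : Set Z) ∧ q.base '' (W : Set Z) = (V : Set G''.left)))
    (hsq : IsPullback ((G ◁ u) ≫ μ[G]) (fst G G') p p) :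
    IsPullback u (toUnit G') p (η[G] ≫ p) ∧ IsImmersion u.left ∧
    (IsSeparated G''.hom ↔ IsClosedImmersion u.left) ∧ (IsClosedImmersion u.left ↔ IsClosedImmersion (η[G] ≫ p).left) := by
  have hA : IsPullback u (toUnit G') p (η[G] ≫ p) := isPullback_kernel u p hsq.flip
  have sqA : IsPullback (toUnit G').left u.left (η[G] ≫ p).left p.left :=
    (hA.map (Over.forget S)).flip
  have hpc : FpqcCov p.left := fpqcCov_of_data p.left hcov
  have hw : (η[G] ≫ p).left ≫ G''.hom = 𝟙 S := Over.w (η[G] ≫ p)
  -- the unit section of `G''` is an immersion
  have himm : IsImmersion (η[G] ≫ p).left := by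
    haveI : IsImmersion ((η[G] ≫ p).left ≫ G''.hom) := by
      rw [hw]; exact (inferInstance : IsImmersion (𝟙 S))
    exact IsImmersion.of_comp (η[G] ≫ p).left G''.hom
  have h12 : IsClosedImmersion (η[G] ≫ p).left → IsClosedImmersion u.left := fun h =>
    MorphismProperty.of_isPullback (P := @IsClosedImmersion) sqA h
  have h21 : IsClosedImmersion u.left → IsClosedImmersion (η[G] ≫ p).left := by
    intro hu
    haveI := hu
    haveI := himm
    have huc : UniversallyClosed (η[G] ≫ p).left :=
      FpqcCov.descends @UniversallyClosed inferInstance hpc sqA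
        (inferInstance : UniversallyClosed u.left)
    exact IsClosedImmersion.of_isPreimmersion _
      (Scheme.Hom.isClosedMap (η[G] ≫ p).left).isClosed_range
  have h31 : IsSeparated G''.hom → IsClosedImmersion (η[G] ≫ p).left := by
    intro hs
    haveI := hs
    haveI : IsClosedImmersion ((η[G] ≫ p).left ≫ G''.hom) := by
      rw [hw]; exact (inferInstance : IsClosedImmersion (𝟙 S))
    exact IsClosedImmersion.of_comp (η[G] ≫ p).left G''.hom
  have h23 : IsClosedImmersion u.left → IsSeparated G''.hom := by
    intro hu
    refine (Groth.Agent.S5373.result S G G'' p).2.2 hcov ?_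
    have hv : lift (pullback.fst p p) (pullback.snd p p) =
        hsq.isoPullback.inv ≫ (G ◁ u) ≫ (shearSwap G).hom := by
      rw [Iso.eq_inv_comp, ← lift_act_fst_eq]
      apply CartesianMonoidalCategory.hom_ext
      · rw [Category.assoc, lift_fst, lift_fst, IsPullback.isoPullback_hom_fst]
      · rw [Category.assoc, lift_snd, lift_snd, IsPullback.isoPullback_hom_snd]
    have hGu : IsClosedImmersion (G ◁ u).left :=
      MorphismProperty.of_isPullback (P := @IsClosedImmersion)
        ((isPullback_whiskerLeft G u).map (Over.forget S)).flip hu
    haveI : IsIso hsq.isoPullback.inv.left :=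
      (inferInstance : IsIso ((Over.forget S).map hsq.isoPullback.inv))
    haveI : IsIso (shearSwap G).hom.left :=
      (inferInstance : IsIso ((Over.forget S).map (shearSwap G).hom))
    rw [hv, Over.comp_left, Over.comp_left]
    infer_instance
  exact ⟨hA, MorphismProperty.of_isPullback (P := @IsImmersion) sqA himm,
    ⟨fun h => h12 (h31 h), h23⟩, ⟨h21, h12⟩⟩

end Groth.Agent.S5369
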