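import Groth.Statements.S5370
import Groth.Agent.Lib.Helper78.FpqcQuot
import Groth.Agent.Lib.Helper78.FpqcDescent
import Groth.Agent.Lib.Helper62.FlatDescent
import Mathlib.AlgebraicGeometry.Morphisms.FlatDescent

set_option autoImplicit false
universe u
set_option backward.isDefEq.respectTransparency.types false
set_option linter.style.haveILetI false
open CategoryTheory CategoryTheory.Limits MonoidalCategory CartesianMonoidalCategory MonObj GrpObj AlgebraicGeometry
open SGA3

namespace Groth.Agent.S5370

open Groth.Agent.Lib.Helper78.FpqcCov Groth.Agent.Lib.Helper78.FpqcQuot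

/-- flatness satisfies fpqc descent -/
theorem descendsAlong_flat : MorphismProperty.DescendsAlong (@Flat : MorphismProperty Scheme.{u})
    (@Surjective ⊓ @Flat ⊓ @QuasiCompact) := by
  refine HasRingHomProperty.descendsAlong_flat (Q := RingHom.Flat)
    (RingHom.CodescendsAlong.mk _ RingHom.Flat.respectsIso ?_)
  intro R S T _ _ _ _ _ h h'
  rw [RingHom.flat_algebraMap_iff] at h' ⊢
  rw [RingHom.faithfullyFlat_algebraMap_iff] at h
  exact Module.Flat.of_flat_tensorProduct R T S

/-- the stalk maps of a flat morphism are injective. -/
theorem stalkMap_injective {X Y : Scheme.{u}} (f : X ⟶ Y) [Flat f] (x : X) :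
    Function.Injective (f.stalkMap x).hom := by
  algebraize [(f.stalkMap x).hom]
  have : Module.FaithfullyFlat (Y.presheaf.stalk (f x)) (X.presheaf.stalk x) :=
    @Module.FaithfullyFlat.of_flat_of_isLocalHom _ _ _ _ _ _ _
      (Flat.stalkMap f x) (f.toLRSHom.prop x)
  exact ‹RingHom.FaithfullyFlat _›.injective

/-- reducedness descends along a morphism dominated by a flat surjective one. -/
theorem isReduced_of_cover {X Y Z : Scheme.{u}} (p : X ⟶ Y) (r : Z ⟶ X) (q : Z ⟶ Y)
    (h : r ≫ p = q) (hq : Flat q) (hs : Surjective q) [IsReduced X] : IsReduced Y := by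
  subst h
  haveI : ∀ y : Y, _root_.IsReduced (Y.presheaf.stalk y) := by
    intro y
    obtain ⟨z, rfl⟩ := (r ≫ p).surjective y
    have hinj := stalkMap_injective (r ≫ p) z
    rw [Scheme.Hom.stalkMap_comp] at hinj
    have hinj' : Function.Injective (p.stalkMap (r z)).hom := by
      intro a b hab
      apply hinj
      change (r.stalkMap z).hom ((p.stalkMap (r z)).hom a) =
        (r.stalkMap z).hom ((p.stalkMap (r z)).hom b)
      rw [hab]
    exact isReduced_of_injective (p.stalkMap (r z)).hom hinj'
  exact isReduced_of_isReduced_stalk Y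

/-- Let u : G' → G be a monomorphism of S-group schemes and p : G → G'' a morphism of S-schemes which is
covering for the fpqc topology (some Z → G'' which is flat, surjective, with every affine open of
G'' the image of a quasi-compact open of Z, factors through p) and such that the square (g, h) ↦
g·u(h), first projection G ×_S G' → G, p, p is cartesian, so that G'' represents the fpqc quotient
sheaf G/G'. Then: (ix) if G is reduced, G'' is reduced; (xi) G' is flat over S if and only if p is
flat, and in that case G'' is flat over S if and only if G is flat over S. -/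
theorem result (S : Scheme.{u}) (G G' G'' : Over S) [GrpObj G] [GrpObj G']
    (u : G' ⟶ G) [IsMonHom u] [Mono u] (p : G ⟶ G'')
    (hcov : (∃ (Z : Scheme.{u}) (q : Z ⟶ G''.left) (r : Z ⟶ G.left), r ≫ p.left = q ∧ Surjective q ∧ Flat q ∧
        ∀ V : G''.left.Opens, IsAffineOpen V → ∃ W : Z.Opens, IsCompact (W : Set Z) ∧ q.base '' (W : Set Z) = (V : Set G''.left)))
    (hsq : IsPullback ((G ◁ u) ≫ μ[G]) (fst G G') p p) :
    (IsReduced G.left → IsReduced G''.left) ∧
    (Flat G'.hom ↔ Flat p.left) ∧ (Flat p.left → (Flat G''.hom ↔ Flat G.hom)) := by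
  have hA : IsPullback u (toUnit G') p (η[G] ≫ p) := isPullback_kernel u p hsq.flip
  have sqA : IsPullback u.left (toUnit G').left p.left (η[G] ≫ p).left :=
    hA.map (Over.forget S)
  have sqB : IsPullback ((G ◁ u) ≫ μ[G]).left (fst G G').left p.left p.left :=
    hsq.map (Over.forget S)
  have hpc : FpqcCov p.left := fpqcCov_of_data p.left hcov
  refine ⟨?_, ⟨?_, ?_⟩, ?_⟩
  · intro hG
    obtain ⟨Z, q, r, hrq, hs, hf, -⟩ := hcov
    exact isReduced_of_cover p.left r q hrq hf hs
  · intro hG'
    haveI : Flat G'.hom := hG'
    have hfst : Flat (fst G G').left := by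
      rw [Over.fst_left]
      infer_instance
    exact FpqcCov.descends @Flat descendsAlong_flat hpc sqB hfst
  · intro hp
    have h1 : Flat (toUnit G').left := MorphismProperty.of_isPullback (P := @Flat) sqA hp
    rwa [Over.toUnit_left] at h1
  · intro hp
    haveI := hp
    haveI : Surjective p.left := hpc.surjective
    constructor
    · intro hG''
      haveI := hG''
      rw [← Over.w p]
      infer_instance
    · intro hG
      haveI : Flat (p.left ≫ G''.hom) := by rw [Over.w p]; exact hG
      exact Groth.Agent.Lib.Helper62.flat_of_flat_comp_of_surjective p.left G''.hom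

end Groth.Agent.S5370
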