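import Groth.Statements.S5371
import Mathlib
import Groth.Agent.Lib.Helper78.FpqcDescent
import Groth.Agent.Lib.Helper78.FpqcQuot
import Groth.Agent.Lib.Helper46.FppfSourceSm
import Groth.Agent.Lib.Helper46.FppfEtale
import Groth.Agent.Lib.Helper46.EtLocal
import Groth.Agent.S0079
import Groth.Agent.S0080
import Groth.Agent.S4091

set_option autoImplicit false
universe u
open CategoryTheory CategoryTheory.Limits MonoidalCategory CartesianMonoidalCategory MonObj GrpObj AlgebraicGeometry
open SGA3

namespace Groth.Agent.S5371

private lemma qc_of_comp_surj {X Y S : Scheme.{u}} (p : X ⟶ Y) (q : Y ⟶ S) [Surjective p]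
    [QuasiCompact (p ≫ q)] : QuasiCompact q := by
  constructor
  intro U hU hUc
  have h1 : IsCompact ((p ≫ q) ⁻¹' U) := QuasiCompact.isCompact_preimage U hU hUc
  have h2 : q ⁻¹' U = p '' ((p ≫ q) ⁻¹' U) := by
    ext y
    constructor
    · intro hy
      obtain ⟨x, rfl⟩ := p.surjective y
      exact ⟨x, by simpa using hy, rfl⟩
    · rintro ⟨x, hx, rfl⟩
      simpa using hx
  rw [h2]
  exact h1.image p.continuous

open Groth.Agent.Lib.Helper46.FppfSourceSch in
private theorem specDescends_unram :
    SpecDescends (@LocallyOfFiniteType ⊓ @FormallyUnramified : MorphismProperty Scheme.{u}) := by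
  intro A B C φ ψ hψ hψ' hsurj hP
  obtain ⟨h1, h2⟩ := hP
  rw [← Spec.map_comp] at h1 h2
  have h1' : (φ ≫ ψ).hom.FiniteType := (HasRingHomProperty.Spec_iff (P := @LocallyOfFiniteType)).1 h1
  have h2' : (φ ≫ ψ).hom.FormallyUnramified :=
    (HasRingHomProperty.Spec_iff (P := @FormallyUnramified)).1 h2
  have hfl : ψ.hom.Flat := (HasRingHomProperty.Spec_iff (P := @Flat)).1 hψ
  have hfp : ψ.hom.FinitePresentation :=
    (HasRingHomProperty.Spec_iff (P := @LocallyOfFinitePresentation)).1 hψ'
  have hs : Function.Surjective (PrimeSpectrum.comap ψ.hom) := by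
    have := hsurj.surj
    exact this
  have hft : φ.hom.FiniteType := ringDescends_finiteType φ.hom ψ.hom hfl hfp hs h1'
  refine ⟨(HasRingHomProperty.Spec_iff (P := @LocallyOfFiniteType)).2 hft,
    (HasRingHomProperty.Spec_iff (P := @FormallyUnramified)).2 ?_⟩
  let _ := φ.hom.toAlgebra
  let _ := ψ.hom.toAlgebra
  let _ := (ψ.hom.comp φ.hom).toAlgebra
  have : IsScalarTower A B C := IsScalarTower.of_algebraMap_eq' rfl
  have : Module.Flat B C := hfl
  have : Module.FaithfullyFlat B C := Module.FaithfullyFlat.of_comap_surjective hs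
  have : Algebra.FiniteType A B := hft
  have : Algebra.FiniteType A C := h1'
  have : Algebra.FormallyUnramified A C := h2'
  exact Groth.Agent.Lib.Helper46.FppfEtale.formallyUnramified_of_faithfullyFlat A B C

private theorem unram_of_fppf_surjective_comp {X' X Y : Scheme.{u}} (e : X' ⟶ X)
    (f : X ⟶ Y) [Flat e] [LocallyOfFinitePresentation e] [Surjective e]
    (h1 : LocallyOfFiniteType (e ≫ f)) (h2 : FormallyUnramified (e ≫ f)) :
    FormallyUnramified f :=
  (Groth.Agent.Lib.Helper46.FppfSourceSch.of_fppf_surjective_comp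
    (P := @LocallyOfFiniteType ⊓ @FormallyUnramified) specDescends_unram e f ⟨h1, h2⟩).2

private lemma isDiscrete_of_preimage {α β : Type*} [TopologicalSpace α] [TopologicalSpace β]
    (p : α → β) (hp : IsOpenMap p) (hs : Function.Surjective p) (T : Set β)
    (h : IsDiscrete (p ⁻¹' T)) : IsDiscrete T := by
  rw [isDiscrete_iff_forall_mem_exists_isOpen] at h ⊢
  intro y hy
  obtain ⟨x, rfl⟩ := hs y
  obtain ⟨u, hu, hux⟩ := h x hy
  refine ⟨p '' u, hp u hu, ?_⟩
  ext z
  constructor
  · rintro ⟨⟨w, hw, rfl⟩, hz⟩
    have : w ∈ u ∩ p ⁻¹' T := ⟨hw, hz⟩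
    rw [hux] at this
    rw [Set.mem_singleton_iff] at this
    rw [this]; rfl
  · rintro rfl
    have : x ∈ u ∩ p ⁻¹' T := by rw [hux]; rfl
    exact ⟨⟨x, this.1, rfl⟩, hy⟩

private theorem lqf_of_fppf_surjective_comp {X' X Y : Scheme.{u}} (e : X' ⟶ X)
    (f : X ⟶ Y) [Flat e] [LocallyOfFinitePresentation e] [Surjective e]
    (h1 : LocallyOfFiniteType (e ≫ f)) (h2 : LocallyQuasiFinite (e ≫ f)) :
    LocallyQuasiFinite f := by
  haveI : LocallyOfFiniteType f :=
    Groth.Agent.Lib.Helper46.FppfSourceSch.locallyOfFiniteType_of_fppf_surjective_comp e f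
  rw [locallyQuasiFinite_iff_isDiscrete_preimage_singleton]
  intro y
  have h3 := (e ≫ f).isDiscrete_preimage_singleton y
  refine isDiscrete_of_preimage e e.isOpenMap e.surjective _ ?_
  have e0 : e ⁻¹' (f ⁻¹' {y}) = (e ≫ f) ⁻¹' {y} := by
    ext z; simp
  rw [e0]
  exact h3

/-- Let u : G' → G be a monomorphism of S-group schemes and p : G → G'' a morphism of S-schemes which is
covering for the fpqc topology (some Z → G'' which is flat, surjective, with every affine open of
G'' the image of a quasi-compact open of Z, factors through p) and such that the square (g, h) ↦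
g·u(h), first projection G ×_S G' → G, p, p is cartesian, so that G'' represents the fpqc quotient
sheaf G/G'. (xii) G' is flat and locally of finite presentation over S if and only if p is
surjective, flat and locally of finite presentation; in that case, if G is locally of finite
presentation (resp. locally of finite type, of finite type, smooth, etale, unramified, locally
quasi-finite) over S, so is G''. (xiii) If G' is flat and of finite presentation over S then p is of
finite presentation, and G is of finite presentation over S if and only if G'' is. -/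
theorem result (S : Scheme.{u}) (G G' G'' : Over S) [GrpObj G] [GrpObj G']
    (u : G' ⟶ G) [IsMonHom u] [Mono u] (p : G ⟶ G'')
    (hcov : (∃ (Z : Scheme.{u}) (q : Z ⟶ G''.left) (r : Z ⟶ G.left), r ≫ p.left = q ∧ Surjective q ∧ Flat q ∧
        ∀ V : G''.left.Opens, IsAffineOpen V → ∃ W : Z.Opens, IsCompact (W : Set Z) ∧ q.base '' (W : Set Z) = (V : Set G''.left)))
    (hsq : IsPullback ((G ◁ u) ≫ μ[G]) (fst G G') p p) :
    ((Flat G'.hom ∧ LocallyOfFinitePresentation G'.hom) ↔
      (Surjective p.left ∧ Flat p.left ∧ LocallyOfFinitePresentation p.left)) ∧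
    (Flat p.left → LocallyOfFinitePresentation p.left →
      (LocallyOfFinitePresentation G.hom → LocallyOfFinitePresentation G''.hom) ∧
      (LocallyOfFiniteType G.hom → LocallyOfFiniteType G''.hom) ∧
      (LocallyOfFiniteType G.hom → QuasiCompact G.hom → QuasiCompact G''.hom) ∧
      (Smooth G.hom → Smooth G''.hom) ∧ (Etale G.hom → Etale G''.hom) ∧
      (FormallyUnramified G.hom → LocallyOfFinitePresentation G.hom → FormallyUnramified G''.hom) ∧
      (LocallyQuasiFinite G.hom → LocallyOfFiniteType G.hom → LocallyQuasiFinite G''.hom)) ∧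
    (Flat G'.hom → LocallyOfFinitePresentation G'.hom → QuasiCompact G'.hom → QuasiSeparated G'.hom →
      QuasiCompact p.left ∧ QuasiSeparated p.left ∧ LocallyOfFinitePresentation p.left ∧
      ((LocallyOfFinitePresentation G.hom ∧ QuasiCompact G.hom ∧ QuasiSeparated G.hom) ↔
        (LocallyOfFinitePresentation G''.hom ∧ QuasiCompact G''.hom ∧ QuasiSeparated G''.hom))) := by
  have hp : Groth.Agent.Lib.Helper78.FpqcCov.FpqcCov p.left :=
    Groth.Agent.Lib.Helper78.FpqcCov.fpqcCov_of_data p.left hcov
  haveI hpsurj : Surjective p.left := hp.surjective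
  -- scheme-level squares
  have sq : IsPullback ((G ◁ u) ≫ μ[G]).left (fst G G').left p.left p.left :=
    hsq.map (Over.forget S)
  have hker := (Groth.Agent.Lib.Helper78.FpqcQuot.isPullback_kernel u p hsq.flip).map (Over.forget S)
  have hker' : IsPullback u.left (toUnit G').left p.left (η[G] ≫ p).left := hker
  have htu : (toUnit G').left = G'.hom := by
    have := Over.w (toUnit G')
    simpa using this
  have hfstpb : IsPullback (fst G G').left (snd G G').left G.hom G'.hom :=
    IsPullback.of_hasPullback G.hom G'.hom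
  have hGhom : G.hom = p.left ≫ G''.hom := (Over.w p).symm
  -- descent along p for properties of `fst`
  have desc : ∀ (P : MorphismProperty Scheme.{u}) [IsZariskiLocalAtTarget P]
      [P.IsStableUnderBaseChange],
      P.DescendsAlong (@Surjective ⊓ @Flat ⊓ @QuasiCompact : MorphismProperty Scheme.{u}) →
      P G'.hom → P p.left := by
    intro P _ _ hP h
    refine Groth.Agent.Lib.Helper78.FpqcCov.FpqcCov.descends P hP hp sq ?_
    exact P.of_isPullback hfstpb.flip h
  have part1 : (Flat G'.hom ∧ LocallyOfFinitePresentation G'.hom) ↔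
      (Surjective p.left ∧ Flat p.left ∧ LocallyOfFinitePresentation p.left) := by
    constructor
    · rintro ⟨h1, h2⟩
      exact ⟨hpsurj, desc @Flat inferInstance h1, desc @LocallyOfFinitePresentation inferInstance h2⟩
    · rintro ⟨-, h1, h2⟩
      rw [← htu]
      exact ⟨MorphismProperty.of_isPullback (P := @Flat) hker' h1,
        MorphismProperty.of_isPullback (P := @LocallyOfFinitePresentation) hker' h2⟩
  refine ⟨part1, ?_, ?_⟩
  · intro hfl hlfp
    refine ⟨?_, ?_, ?_, ?_, ?_, ?_, ?_⟩
    · intro h
      rw [hGhom] at h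
      exact Groth.Agent.Lib.Helper46.FppfSourceSch.locallyOfFinitePresentation_of_fppf_surjective_comp
        p.left G''.hom
    · intro h
      rw [hGhom] at h
      exact Groth.Agent.Lib.Helper46.FppfSourceSch.locallyOfFiniteType_of_fppf_surjective_comp
        p.left G''.hom
    · intro _ h
      rw [hGhom] at h
      exact qc_of_comp_surj p.left G''.hom
    · intro h
      rw [hGhom] at h
      exact Groth.Agent.Lib.Helper46.FppfSourceSch.smooth_of_fppf_surjective_comp p.left G''.hom
    · intro h
      rw [hGhom] at h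
      exact Groth.Agent.Lib.Helper46.FppfSourceSch.etale_of_fppf_surjective_comp p.left G''.hom
    · intro h h'
      rw [hGhom] at h h'
      exact unram_of_fppf_surjective_comp p.left G''.hom inferInstance h
    · intro h h'
      rw [hGhom] at h h'
      exact lqf_of_fppf_surjective_comp p.left G''.hom h' h
  · intro hfl hlfp hqc hqs
    have hpfl : Flat p.left := desc @Flat inferInstance hfl
    have hplfp : LocallyOfFinitePresentation p.left :=
      desc @LocallyOfFinitePresentation inferInstance hlfp
    have hpqc : QuasiCompact p.left := desc @QuasiCompact Groth.Agent.S0079.result hqc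
    have hpqs : QuasiSeparated p.left := desc @QuasiSeparated Groth.Agent.S0080.result hqs
    refine ⟨hpqc, hpqs, hplfp, ?_, ?_⟩
    · rintro ⟨h1, h2, h3⟩
      rw [hGhom] at h1 h2 h3
      exact (Groth.Agent.S4091.result p.left G''.hom).2 ⟨h1, h2, h3⟩
    · rintro ⟨h1, h2, h3⟩
      rw [hGhom]
      exact ⟨inferInstance, inferInstance, inferInstance⟩

end Groth.Agent.S5371
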