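import Groth.Statements.S5376
import Groth.Agent.Lib.Helper32.OrbitSpan

set_option autoImplicit false
universe u
open CategoryTheory CategoryTheory.Limits MonoidalCategory CartesianMonoidalCategory MonObj GrpObj AlgebraicGeometry
open SGA3

namespace Groth.Agent.S5376

/-- Let k be an algebraically closed field, A a finitely generated commutative Hopf algebra over k which
is reduced (a reduced affine algebraic k-group G), V a finite-dimensional A-comodule and v a vector
of V. Let E be the k-subspace of V spanned by the vectors g·v for g running over the k-points of G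
(algebra maps A → k). Then E is a subcomodule of V containing v, and it is the smallest one. -/
theorem result (k : Type u) [Field k] [IsAlgClosed k] (A : Type u) [CommRing A] [HopfAlgebra k A]
    [Algebra.FiniteType k A] [IsReduced A] (V : Type u) [AddCommGroup V] [Module k V] [HopfRep.Comod k A V]
    [Module.Finite k V] (v : V) :
    letI E : Submodule k V := Submodule.span k (Set.range fun g : A →ₐ[k] k => HopfRep.Comod.act k A V g v)
    HopfRep.IsSubcomod (k := k) (A := A) E ∧ v ∈ E ∧
      ∀ W : Submodule k V, HopfRep.IsSubcomod (k := k) (A := A) W → v ∈ W → E ≤ W := by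
  have hE := Groth.Agent.Lib.Helper32.OrbitSpan.main k A V v
  refine ⟨?_, ?_, ?_⟩
  · rw [hE]
    exact Groth.Agent.Lib.Helper96.isSub_orbit _ v
  · rw [hE]
    exact Groth.Agent.Lib.Helper96.mem_orbit_self _ v
  · intro W hW hv
    refine Submodule.span_le.mpr ?_
    rintro _ ⟨g, rfl⟩
    exact (Groth.Agent.Lib.Helper96.isSub_iff_slice _ W).mp hW v hv g.toLinearMap

end Groth.Agent.S5376
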