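import Mathlib
import Groth.Statements.S5377

set_option autoImplicit false
universe u
open CategoryTheory CategoryTheory.Limits MonoidalCategory CartesianMonoidalCategory MonObj GrpObj AlgebraicGeometry
open SGA3

namespace Groth.Agent.S5377

set_option linter.unusedSectionVars false
set_option linter.style.haveILetI false

section
variable {J : Type u} [SmallCategory J] [IsFiltered J] (A : J ⥤ CommRingCat.{u})

lemma w_apply {j k : J} (g : j ⟶ k) (a : A.obj j) :
    (colimit.ι A k).hom ((A.map g).hom a) = (colimit.ι A j).hom a := by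
  rw [← colimit.w A g]
  rfl

lemma exists_rep (s : (colimit A : CommRingCat.{u})) :
    ∃ (j : J) (a : A.obj j), (colimit.ι A j).hom a = s :=
  Concrete.colimit_exists_rep A s

lemma exists_map_eq {j : J} (a b : A.obj j)
    (h : (colimit.ι A j).hom a = (colimit.ι A j).hom b) :
    ∃ (k : J) (g : j ⟶ k), (A.map g).hom a = (A.map g).hom b := by
  obtain ⟨k, f, g, hfg⟩ := Concrete.colimit_exists_of_rep_eq A a b h
  refine ⟨IsFiltered.coeq f g, f ≫ IsFiltered.coeqHom f g, ?_⟩
  have h1 : (A.map (f ≫ IsFiltered.coeqHom f g)).hom a =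
      (A.map (IsFiltered.coeqHom f g)).hom ((A.map f).hom a) := by
    rw [A.map_comp]; rfl
  have h2 : (A.map (f ≫ IsFiltered.coeqHom f g)).hom b =
      (A.map (IsFiltered.coeqHom f g)).hom ((A.map g).hom b) := by
    rw [IsFiltered.coeq_condition, A.map_comp]; rfl
  rw [h1, h2]
  exact congrArg _ hfg

lemma exists_rep_fin (C : J ⥤ CommRingCat.{u}) {l m : ℕ} (r : Fin l → (colimit C : CommRingCat.{u}))
    (s : Fin m → (colimit A : CommRingCat.{u})) :
    ∃ (j : J) (c : Fin l → C.obj j) (a : Fin m → A.obj j),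
      (∀ i, (colimit.ι C j).hom (c i) = r i) ∧ ∀ i, (colimit.ι A j).hom (a i) = s i := by
  classical
  choose jc cc hcc using fun i => exists_rep C (r i)
  choose ja aa haa using fun i => exists_rep A (s i)
  obtain ⟨j, hj⟩ := IsFiltered.sup_objs_exists (Finset.univ.image jc ∪ Finset.univ.image ja)
  have hc : ∀ i, Nonempty (jc i ⟶ j) := fun i =>
    hj (Finset.mem_union_left _ (Finset.mem_image_of_mem _ (Finset.mem_univ i)))
  have ha : ∀ i, Nonempty (ja i ⟶ j) := fun i =>
    hj (Finset.mem_union_right _ (Finset.mem_image_of_mem _ (Finset.mem_univ i)))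
  refine ⟨j, fun i => (C.map (hc i).some).hom (cc i), fun i => (A.map (ha i).some).hom (aa i),
    fun i => ?_, fun i => ?_⟩
  · rw [w_apply, hcc]
  · rw [w_apply, haa]

lemma exists_rep_pair (C : J ⥤ CommRingCat.{u}) (r : (colimit C : CommRingCat.{u}))
    (s : (colimit A : CommRingCat.{u})) :
    ∃ (j : J) (c : C.obj j) (a : A.obj j),
      (colimit.ι C j).hom c = r ∧ (colimit.ι A j).hom a = s := by
  obtain ⟨j, c, a, hc, ha⟩ := exists_rep_fin A C (fun _ : Fin 1 => r) (fun _ : Fin 1 => s)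
  exact ⟨j, c 0, a 0, hc 0, ha 0⟩

variable {A} {C : J ⥤ CommRingCat.{u}} (φ : C ⟶ A)

lemma colimMap_ι_apply (j : J) (c : C.obj j) :
    (colimMap φ).hom ((colimit.ι C j).hom c) = (colimit.ι A j).hom ((φ.app j).hom c) := by
  have := ι_colimMap φ j
  exact congrArg (fun f => f.hom c) this

lemma nat_apply {j k : J} (g : j ⟶ k) (c : C.obj j) :
    (φ.app k).hom ((C.map g).hom c) = (A.map g).hom ((φ.app j).hom c) := by
  have := φ.naturality g
  exact congrArg (fun f => f.hom c) this

theorem flat (h : ∀ j, (φ.app j).hom.Flat) : (colimMap φ).hom.Flat := by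
  letI := (colimMap φ).hom.toAlgebra
  change Module.Flat (colimit C : CommRingCat.{u}) (colimit A : CommRingCat.{u})
  apply Module.Flat.of_forall_isTrivialRelation
  intro l r x hsum
  obtain ⟨j, c, a, hc, ha⟩ := exists_rep_fin A C r x
  have h0 : (colimit.ι A j).hom (∑ i, (φ.app j).hom (c i) * a i) = (colimit.ι A j).hom 0 := by
    rw [map_sum, map_zero, ← hsum]
    refine Finset.sum_congr rfl fun i _ => ?_
    rw [map_mul, ← colimMap_ι_apply, hc, ha, Algebra.smul_def]
    rfl
  obtain ⟨k, g, hg⟩ := exists_map_eq A _ _ h0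
  rw [map_sum, map_zero] at hg
  letI := (φ.app k).hom.toAlgebra
  haveI : Module.Flat (C.obj k) (A.obj k) := h k
  have hrel : ∑ i, (C.map g).hom (c i) • (A.map g).hom (a i) = 0 := by
    rw [← hg]
    refine Finset.sum_congr rfl fun i _ => ?_
    rw [Algebra.smul_def, map_mul, ← nat_apply]
    rfl
  obtain ⟨n, α, y, hy1, hy2⟩ := Module.Flat.isTrivialRelation_of_sum_smul_eq_zero (R := C.obj k) (M := A.obj k) hrel
  replace hy1 : ∀ i, (A.map g).hom (a i) = ∑ t, α i t • y t := hy1
  replace hy2 : ∀ t, ∑ i, (C.map g).hom (c i) * α i t = 0 := hy2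
  refine ⟨n, fun i t => (colimit.ι C k).hom (α i t), fun t => (colimit.ι A k).hom (y t),
    fun i => ?_, fun t => ?_⟩
  · change x i = ∑ t, (colimit.ι C k).hom (α i t) • (colimit.ι A k).hom (y t)
    rw [← ha i, ← w_apply A g, hy1 i, map_sum]
    refine Finset.sum_congr rfl fun t _ => ?_
    rw [Algebra.smul_def, Algebra.smul_def, map_mul]
    change _ = (colimMap φ).hom _ * _
    rw [colimMap_ι_apply]
    rfl
  · change ∑ i, r i * (colimit.ι C k).hom (α i t) = 0
    rw [← (map_zero (colimit.ι C k).hom), ← hy2 t, map_sum]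
    refine Finset.sum_congr rfl fun i _ => ?_
    rw [map_mul, w_apply, hc]

lemma map_mem (𝔪 : Ideal (colimit C : CommRingCat.{u})) {j k : J} (g : j ⟶ k) (a : A.obj j)
    (ha : a ∈ Ideal.map (φ.app j).hom (Ideal.comap (colimit.ι C j).hom 𝔪)) :
    (A.map g).hom a ∈ Ideal.map (φ.app k).hom (Ideal.comap (colimit.ι C k).hom 𝔪) := by
  have h1 : Ideal.map (A.map g).hom (Ideal.map (φ.app j).hom (Ideal.comap (colimit.ι C j).hom 𝔪)) ≤
      Ideal.map (φ.app k).hom (Ideal.comap (colimit.ι C k).hom 𝔪) := by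
    rw [Ideal.map_map]
    have : (A.map g).hom.comp (φ.app j).hom = (φ.app k).hom.comp (C.map g).hom := by
      ext c; exact (nat_apply φ g c).symm
    rw [this, ← Ideal.map_map]
    apply Ideal.map_mono
    rw [Ideal.map_le_iff_le_comap]
    intro c hc
    rw [Ideal.mem_comap] at hc
    rw [Ideal.mem_comap, Ideal.mem_comap, w_apply]
    exact hc
  exact h1 (Ideal.mem_map_of_mem _ ha)

theorem faithfullyFlat (h : ∀ j, (φ.app j).hom.FaithfullyFlat) :
    (colimMap φ).hom.FaithfullyFlat := by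
  have hflat := flat φ (fun j => (h j).flat)
  letI := (colimMap φ).hom.toAlgebra
  change Module.FaithfullyFlat (colimit C : CommRingCat.{u}) (colimit A : CommRingCat.{u})
  haveI : Module.Flat (colimit C : CommRingCat.{u}) (colimit A : CommRingCat.{u}) := hflat
  refine ⟨fun 𝔪 h𝔪 htop => ?_⟩
  have key : ∀ s ∈ (𝔪 • ⊤ : Submodule (colimit C : CommRingCat.{u}) (colimit A : CommRingCat.{u})),
      ∃ (k : J) (a : A.obj k), (colimit.ι A k).hom a = s ∧
        a ∈ Ideal.map (φ.app k).hom (Ideal.comap (colimit.ι C k).hom 𝔪) := by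
    intro s hs
    refine Submodule.smul_induction_on hs ?_ ?_
    · intro r hr s _
      obtain ⟨j, c, a, hc, ha⟩ := exists_rep_pair A C r s
      refine ⟨j, (φ.app j).hom c * a, ?_, ?_⟩
      · rw [map_mul, ← colimMap_ι_apply, hc, ha, Algebra.smul_def]
        rfl
      · exact Ideal.mul_mem_right _ _ (Ideal.mem_map_of_mem _ (by rw [Ideal.mem_comap, hc]; exact hr))
    · rintro s1 s2 ⟨k1, a1, h1, m1⟩ ⟨k2, a2, h2, m2⟩
      refine ⟨IsFiltered.max k1 k2, (A.map (IsFiltered.leftToMax k1 k2)).hom a1 +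
        (A.map (IsFiltered.rightToMax k1 k2)).hom a2, ?_, ?_⟩
      · rw [map_add, w_apply, w_apply, h1, h2]
      · exact Ideal.add_mem _ (map_mem φ 𝔪 _ _ m1) (map_mem φ 𝔪 _ _ m2)
  obtain ⟨k, a, ha1, ha2⟩ := key 1 (by rw [htop]; exact Submodule.mem_top)
  obtain ⟨k', g, hg⟩ := exists_map_eq A a 1 (by rw [ha1, map_one])
  rw [map_one] at hg
  have h1 := map_mem φ 𝔪 g a ha2
  rw [hg] at h1
  letI := (φ.app k').hom.toAlgebra
  haveI : Module.FaithfullyFlat (C.obj k') (A.obj k') := h k'
  have h2 := Ideal.comap_map_eq_self_of_faithfullyFlat (B := A.obj k')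
    (Ideal.comap (colimit.ι C k').hom 𝔪)
  have h3 : (1 : C.obj k') ∈ Ideal.comap (colimit.ι C k').hom 𝔪 := by
    rw [← h2, Ideal.mem_comap, map_one]
    exact h1
  rw [Ideal.mem_comap, map_one] at h3
  exact h𝔪.ne_top ((Ideal.eq_top_iff_one _).2 h3)

end

/-- Let (C_i → A_i)_i be a filtered direct system of homomorphisms of commutative rings, each of which
is faithfully flat. Then the induced homomorphism colim C_i → colim A_i is faithfully flat. -/
theorem result (J : Type u) [SmallCategory J] [IsFiltered J]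
    (C A : J ⥤ CommRingCat.{u}) (φ : C ⟶ A) (h : ∀ j : J, (φ.app j).hom.FaithfullyFlat) :
    (colimMap φ).hom.FaithfullyFlat := by
  exact faithfullyFlat φ h

end Groth.Agent.S5377
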