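import Groth.Statements.S5380
import Groth.Agent.Lib.Helper6.FlatRegular

set_option autoImplicit false
universe u
open CategoryTheory CategoryTheory.Limits MonoidalCategory CartesianMonoidalCategory MonObj GrpObj AlgebraicGeometry
open SGA3

namespace Groth.Agent.S5380

open TensorProduct in
theorem flat_quot_tensor {A : Type u} [CommRing A] (I : Ideal A) (M : Type u) [AddCommGroup M]
    [Module A M] (h : Module.Flat (A ⧸ I) (M ⧸ (I • (⊤ : Submodule A M)))) :
    Module.Flat (A ⧸ I) ((A ⧸ I) ⊗[A] M) := by
  let e₀ := TensorProduct.quotTensorEquivQuotSMul M I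
  let e : ((A ⧸ I) ⊗[A] M) ≃ₗ[A ⧸ I] (M ⧸ (I • (⊤ : Submodule A M))) :=
    { e₀ with
      map_smul' := by
        intro c x
        obtain ⟨a, rfl⟩ := Ideal.Quotient.mk_surjective c
        have h1 : (Ideal.Quotient.mk I a) • x = a • x := by
          rw [← Ideal.Quotient.algebraMap_eq, algebraMap_smul]
        have h2 : ∀ y : M ⧸ (I • (⊤ : Submodule A M)), (Ideal.Quotient.mk I a) • y = a • y := by
          intro y
          rw [← Ideal.Quotient.algebraMap_eq, algebraMap_smul]
        simp only [RingHom.id_apply, AddHom.toFun_eq_coe, LinearMap.coe_toAddHom,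
          LinearEquiv.coe_coe]
        rw [h1, h2, map_smul] }
  exact Module.Flat.of_linearEquiv e


/-- Let R be a discrete valuation ring with uniformizer π, A a flat commutative R-algebra and M an
A-module which is flat over R. Suppose that M/πM is a flat module over A/πA and that M ⊗_R K is a
flat module over A ⊗_R K, K the fraction field of R (equivalently, M[1/π] is flat over A[1/π], the
form used here). Then M is a flat A-module. -/
theorem result (R : Type u) [CommRing R] [IsDomain R] [IsDiscreteValuationRing R]
    (π : R) (hπ : Irreducible π) (A : Type u) [CommRing A] [Algebra R A] [Module.Flat R A]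
    (M : Type u) [AddCommGroup M] [Module A M] [Module R M] [IsScalarTower R A M] [Module.Flat R M]
    (h1 : Module.Flat (A ⧸ Ideal.span {algebraMap R A π}) (M ⧸ (Ideal.span {algebraMap R A π} • (⊤ : Submodule A M))))
    (h2 : Module.Flat (Localization.Away (algebraMap R A π)) (LocalizedModule (Submonoid.powers (algebraMap R A π)) M)) :
    Module.Flat A M := by
  have hπ0 : π ≠ 0 := hπ.ne_zero
  have hπnz : π ∈ nonZeroDivisors R := mem_nonZeroDivisors_of_ne_zero hπ0
  have hAreg : IsSMulRegular A π := Module.Flat.isSMulRegular_of_nonZeroDivisors hπnz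
  have hMreg : IsSMulRegular M π := Module.Flat.isSMulRegular_of_nonZeroDivisors hπnz
  have hA : algebraMap R A π ∈ nonZeroDivisors A := by
    rw [mem_nonZeroDivisors_iff_right]
    intro a ha
    apply hAreg
    change π • a = π • 0
    rw [smul_zero, Algebra.smul_def, mul_comm]
    exact ha
  have hM : IsSMulRegular M (algebraMap R A π) := by
    intro x y hxy
    apply hMreg
    change π • x = π • y
    have h3 : algebraMap R A π • x = algebraMap R A π • y := hxy
    rwa [algebraMap_smul, algebraMap_smul] at h3
  have := h2
  have := flat_quot_tensor (Ideal.span {algebraMap R A π}) M h1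
  exact Groth.Agent.Lib.Helper6.FlatRegular.flat_of_regular (algebraMap R A π) hA hM

end Groth.Agent.S5380
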