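import Groth.Statements.S5381
import Mathlib.RingTheory.Flat.TorsionFree
import Mathlib.AlgebraicGeometry.Morphisms.Flat

set_option autoImplicit false
universe u
open CategoryTheory CategoryTheory.Limits MonoidalCategory CartesianMonoidalCategory MonObj GrpObj AlgebraicGeometry
open SGA3

namespace Groth.Agent.S5381

/-- For S the spectrum of a Dedekind domain R: let X be a scheme which is flat, quasi-compact and
quasi-separated over R. Then the ring of global sections Γ(X, O_X) is a flat R-module. (The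
published remark takes S locally noetherian and regular of dimension 1 and also observes, when S is
local with closed point s and uniformizer π, that Γ(X, O_X)/πΓ(X, O_X) → Γ(X_s, O_{X_s}) is
injective; this row takes S the spectrum of a Dedekind domain and omits the injectivity.) -/
theorem result (R : Type u) [CommRing R] [IsDedekindDomain R]
    (X : Scheme.{u}) (f : X ⟶ Spec (CommRingCat.of R)) [Flat f] [QuasiCompact f] [QuasiSeparated f] :
    letI := ((Scheme.ΓSpecIso (CommRingCat.of R)).inv ≫ f.appTop).hom.toAlgebra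
    Module.Flat R Γ(X, ⊤) := by
  letI := ((Scheme.ΓSpecIso (CommRingCat.of R)).inv ≫ f.appTop).hom.toAlgebra
  rw [IsDedekindDomain.flat_iff_torsion_eq_bot]
  rw [eq_bot_iff]
  intro s hs
  rw [Submodule.mem_bot]
  rw [Submodule.mem_torsion_iff] at hs
  obtain ⟨r, hr⟩ := hs
  have hr0 : (r : R) ≠ 0 := nonZeroDivisors.ne_zero r.2
  -- the ring hom R → Γ(X, ⊤)
  let φ : R →+* Γ(X, ⊤) := ((Scheme.ΓSpecIso (CommRingCat.of R)).inv ≫ f.appTop).hom
  have hrs : φ r * s = 0 := hr
  apply TopCat.Presheaf.section_ext X.sheaf ⊤ s 0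
  intro x hx
  obtain ⟨V, hV, hxV, -⟩ := TopologicalSpace.Opens.isBasis_iff_nbhd.mp X.isBasis_affineOpens (U := ⊤) (x := x) trivial
  have hV' : IsAffineOpen V := hV
  -- flatness of R → Γ(X, V)
  have hflat : (f.appLE ⊤ V le_top).hom.Flat :=
    HasRingHomProperty.appLE (P := @Flat) f inferInstance ⟨⊤, isAffineOpen_top _⟩ ⟨V, hV'⟩ le_top
  let ψ : R →+* Γ(X, V) := ((Scheme.ΓSpecIso (CommRingCat.of R)).inv ≫ f.appLE ⊤ V le_top).hom
  have hψflat : ψ.Flat := by
    have h1 : ((Scheme.ΓSpecIso (CommRingCat.of R)).inv).hom.Flat :=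
      RingHom.Flat.of_bijective (ConcreteCategory.bijective_of_isIso (Scheme.ΓSpecIso (CommRingCat.of R)).inv)
    exact RingHom.Flat.comp h1 hflat
  have hψ : ∀ a : R, ψ a = X.presheaf.map (homOfLE (le_top : V ≤ ⊤)).op (φ a) := by
    intro a
    change (f.appLE ⊤ V le_top).hom _ = X.presheaf.map (homOfLE (le_top : V ≤ ⊤)).op ((f.appTop).hom _)
    rw [Scheme.Hom.appLE]
    rfl
  -- restriction of s to V is killed by ψ r
  have h1 : ψ r * X.presheaf.map (homOfLE (le_top : V ≤ ⊤)).op s = 0 := by
    rw [hψ, ← map_mul, hrs, map_zero]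
  letI := ψ.toAlgebra
  haveI : Module.Flat R Γ(X, V) := hψflat
  have hreg : IsSMulRegular R (r : R) := by
    rw [isSMulRegular_iff_right_eq_zero_of_smul]
    intro a ha
    exact (mul_eq_zero.1 ha).resolve_left hr0
  have hreg' := IsSMulRegular.of_flat (S := Γ(X, V)) hreg
  rw [isSMulRegular_iff_right_eq_zero_of_smul] at hreg'
  have h2 : X.presheaf.map (homOfLE (le_top : V ≤ ⊤)).op s = 0 := hreg' _ h1
  have h3 := congrArg (X.presheaf.germ V x hxV) h2
  rw [TopCat.Presheaf.germ_res_apply, map_zero] at h3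
  rw [map_zero]
  exact h3

end Groth.Agent.S5381
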