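import Groth.Statements.S5385
import Groth.Agent.Lib.Helper72.CMPoint

set_option autoImplicit false
universe u
open CategoryTheory CategoryTheory.Limits MonoidalCategory CartesianMonoidalCategory MonObj GrpObj AlgebraicGeometry
open SGA3

namespace Groth.Agent.S5385

/-- Let A be an artinian ring and X a nonempty scheme locally of finite type over A. Then X has a closed
point whose local ring is Cohen–Macaulay. -/
theorem result (A : Type u) [CommRing A] [IsArtinianRing A] (X : Scheme.{u})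
    (f : X ⟶ Spec (CommRingCat.of A)) [LocallyOfFiniteType f] [Nonempty X] :
    ∃ x : X, IsClosed ({x} : Set X) ∧ LocCoh.IsCohenMacaulayLocalRing (X.presheaf.stalk x) := by
  obtain ⟨x₀⟩ := ‹Nonempty X›
  obtain ⟨U, hU, hxU, -⟩ := exists_isAffineOpen_mem_and_subset (X := X) (x := x₀) (U := ⊤) trivial
  haveI : IsArtinianRing Γ(Spec (CommRingCat.of A), ⊤) :=
    (Scheme.ΓSpecIso (CommRingCat.of A)).symm.commRingCatIsoToRingEquiv.isArtinianRing
  have e : U ≤ f ⁻¹ᵁ ⊤ := fun _ _ => trivial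
  have hft : (f.appLE ⊤ U e).hom.FiniteType := f.finiteType_appLE (isAffineOpen_top _) hU e
  algebraize [(f.appLE ⊤ U e).hom]
  haveI : IsNoetherianRing Γ(X, U) :=
    Algebra.FiniteType.isNoetherianRing Γ(Spec (CommRingCat.of A), ⊤) _
  haveI : IsJacobsonRing Γ(X, U) :=
    isJacobsonRing_of_finiteType (A := Γ(Spec (CommRingCat.of A), ⊤))
  haveI : Nontrivial Γ(X, U) :=
    PrimeSpectrum.nonempty_iff_nontrivial.mp ⟨hU.primeIdealOf ⟨x₀, hxU⟩⟩
  obtain ⟨n, g, hg⟩ := Algebra.FiniteType.iff_quotient_mvPolynomial''.mp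
    (inferInstance : Algebra.FiniteType Γ(Spec (CommRingCat.of A), ⊤) Γ(X, U))
  have hdim : ringKrullDim Γ(X, U) ≤ n := by
    refine (ringKrullDim_le_of_surjective g.toRingHom hg).trans ?_
    rw [MvPolynomial.ringKrullDim_of_isNoetherianRing]
    have h0 : ringKrullDim Γ(Spec (CommRingCat.of A), ⊤) ≤ 0 := by
      have := (Ring.krullDimLE_iff (n := 0) (R := Γ(Spec (CommRingCat.of A), ⊤))).mp inferInstance
      simpa using this
    calc ringKrullDim Γ(Spec (CommRingCat.of A), ⊤) + (Nat.card (Fin n) : WithBot ℕ∞)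
        ≤ 0 + (Nat.card (Fin n) : WithBot ℕ∞) := by gcongr
      _ = n := by simp
  obtain ⟨m, hm, hCM⟩ := Groth.Agent.Lib.Helper72.CMPoint.exists_maximal_CM n Γ(X, U) hdim
  let y : Spec Γ(X, U) := ⟨m, hm.isPrime⟩
  let x' : ↥U := hU.isoSpec.inv y
  have hxy : hU.primeIdealOf ⟨x'.1, x'.2⟩ = y := by
    show hU.isoSpec.hom (hU.isoSpec.inv y) = y
    rw [← Scheme.Hom.comp_apply, Iso.inv_hom_id]
    rfl
  refine ⟨x'.1, ?_, ?_⟩
  · haveI : JacobsonSpace X := LocallyOfFiniteType.jacobsonSpace f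
    have hy : IsClosed ({y} : Set (Spec Γ(X, U))) :=
      (PrimeSpectrum.isClosed_singleton_iff_isMaximal y).mpr hm
    have h1 : IsClosed (hU.isoSpec.hom.base ⁻¹' {y}) := hy.preimage hU.isoSpec.hom.continuous
    have h3 : (hU.isoSpec.hom.base ⁻¹' {y}) = {x'} := by
      ext z
      simp only [Set.mem_singleton_iff, Set.mem_preimage]
      constructor
      · intro hz
        show z = hU.isoSpec.inv y
        rw [← hz]
        exact (congrArg (fun φ : (↑U : Scheme) ⟶ ↑U => φ.base z) hU.isoSpec.hom_inv_id).symm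
      · intro hz
        rw [hz]
        exact congrArg (fun φ : Spec Γ(X, U) ⟶ Spec Γ(X, U) => φ.base y) hU.isoSpec.inv_hom_id
    rw [h3] at h1
    have h2 : x' ∈ closedPoints _ := mem_closedPoints_iff.mpr h1
    have h4 := U.isOpenEmbedding.preimage_closedPoints
    have h5 : x' ∈ U.ι.base ⁻¹' closedPoints X := (Set.ext_iff.mp h4 x').mpr h2
    exact mem_closedPoints_iff.mp h5
  · rw [Groth.Agent.Lib.Helper11.CMLocalize.stalk_CM_iff hU x'.1 x'.2]
    have key : ∀ (z : PrimeSpectrum Γ(X, U)), z = y →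
        LocCoh.IsCohenMacaulayLocalRing (Localization.AtPrime z.asIdeal) := by
      intro z hz
      subst hz
      exact hCM
    exact key _ hxy

end Groth.Agent.S5385
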