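import Groth.Statements.S5386
import Groth.Agent.Lib.Helper72.StrictRat

set_option autoImplicit false
universe u
open CategoryTheory CategoryTheory.Limits MonoidalCategory CartesianMonoidalCategory MonObj GrpObj AlgebraicGeometry
open SGA3

namespace Groth.Agent.S5386

/-- Let A be a local artinian ring, G an A-group scheme which is flat and locally of finite type over A,
and x a closed point of G. Then there is a local A-algebra A', finite and free as an A-module, such
that every point of G ⊗_A A' lying over x is strictly rational over A': it is the image of the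
closed point under some section Spec A' → G ⊗_A A' of the projection. -/
theorem result (A : Type u) [CommRing A] [IsArtinianRing A] [IsLocalRing A] (G : Over (Spec (CommRingCat.of A))) [GrpObj G] [Flat G.hom]
    [LocallyOfFiniteType G.hom] (x : G.left) (hx : IsClosed ({x} : Set G.left)) :
    ∃ (A' : Type u) (_ : CommRing A') (_ : IsLocalRing A') (_ : Algebra A A') (_ : Module.Finite A A') (_ : Module.Free A A'),
      ∀ x' : ↥(pullback G.hom (Spec.map (CommRingCat.ofHom (algebraMap A A')))),
        (pullback.fst G.hom (Spec.map (CommRingCat.ofHom (algebraMap A A')))).base x' = x →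
        ∃ s : Spec (CommRingCat.of A') ⟶ pullback G.hom (Spec.map (CommRingCat.ofHom (algebraMap A A'))),
          s ≫ pullback.snd G.hom (Spec.map (CommRingCat.ofHom (algebraMap A A'))) = 𝟙 _ ∧ x' ∈ Set.range s.base := by
  obtain ⟨A₁, _, _, _, _, φ₁, hφ₁, hlift⟩ :=
    Groth.Agent.Lib.Helper72.StrictRat.exists_quasiSection A G x hx
  letI : Algebra A (AlgebraicClosure (IsLocalRing.ResidueField A)) :=
    ((algebraMap (IsLocalRing.ResidueField A) (AlgebraicClosure (IsLocalRing.ResidueField A))).comp
      (IsLocalRing.residue A)).toAlgebra
  obtain ⟨A', _, _, _, _, _, Φ, hΦ⟩ := Groth.Agent.Lib.Helper72.StrictRatAlg.exists_local A A₁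
    (AlgebraicClosure (IsLocalRing.ResidueField A))
  refine ⟨A', inferInstance, inferInstance, inferInstance, inferInstance, inferInstance, ?_⟩
  intro x' hx'
  exact Groth.Agent.Lib.Helper72.StrictRat.main_aux A G x hx A₁ φ₁ hφ₁ hlift
    (AlgebraicClosure (IsLocalRing.ResidueField A)) A' Φ hΦ _ rfl x' hx'

end Groth.Agent.S5386
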