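import Groth.Statements.S5387
import Mathlib

set_option autoImplicit false
universe u
open CategoryTheory CategoryTheory.Limits MonoidalCategory CartesianMonoidalCategory MonObj GrpObj AlgebraicGeometry
open SGA3

namespace Groth.Agent.S5387

/-- Let k be an algebraically closed field, G a group scheme locally of finite type over k and x a
closed point of G. Then the local ring of G at x is isomorphic to the local ring of G at the unit
point (an isomorphism is induced by a translation; this row asserts the existence of an isomorphism
of rings). -/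
theorem result (k : Type u) [Field k] [IsAlgClosed k] (G : Over (Spec (CommRingCat.of k))) [GrpObj G]
    [LocallyOfFiniteType G.hom] (pt : ↥(𝟙_ (Over (Spec (CommRingCat.of k)))).left) (x : G.left) (hx : IsClosed ({x} : Set G.left)) :
    Nonempty (G.left.presheaf.stalk (η[G].left.base pt) ≅ G.left.presheaf.stalk x) := by
  let x' : 𝟙_ (Over (Spec (CommRingCat.of k))) ⟶ G :=
    Over.homMk (pointOfClosedPoint G.hom x hx) (by simp)
  let a : G ⟶ G := toUnit G ≫ x'
  let T : G ≅ G :=
    { hom := a * 𝟙 G
      inv := a⁻¹ * 𝟙 G
      hom_inv_id := by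
        have h1 : (a * 𝟙 G) ≫ a = a := by
          simp only [a, ← Category.assoc]
          congr 1
          exact toUnit_unique _ _
        rw [comp_mul, comp_inv, h1]
        simp
      inv_hom_id := by
        have h1 : (a⁻¹ * 𝟙 G) ≫ a = a := by
          simp only [a, ← Category.assoc]
          congr 1
          exact toUnit_unique _ _
        rw [comp_mul, h1]
        simp }
  have hT : η[G] ≫ T.hom = x' := by
    change η[G] ≫ (a * 𝟙 G) = x'
    rw [comp_mul, Category.comp_id]
    have h2 : η[G] ≫ a = x' := by
      simp only [a, ← Category.assoc]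
      rw [toUnit_unique (η[G] ≫ toUnit G) (𝟙 _), Category.id_comp]
    have h3 : (η[G] : 𝟙_ _ ⟶ G) = 1 := by
      rw [Hom.one_def, toUnit_unique (toUnit (𝟙_ (Over (Spec (CommRingCat.of k))))) (𝟙 _),
        Category.id_comp]
    rw [h2, h3, _root_.mul_one]
  have hpt : T.hom.left.base (η[G].left.base pt) = x := by
    have := congrArg (fun φ => φ.left.base pt) hT
    simp only [Over.comp_left, Scheme.Hom.comp_base, TopCat.comp_app] at this
    rw [this]
    exact pointOfClosedPoint_apply G.hom x hx pt
  haveI : IsIso T.hom := ⟨T.inv, T.hom_inv_id, T.inv_hom_id⟩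
  haveI : IsIso T.hom.left := inferInstanceAs (IsIso ((Over.forget _).map T.hom))
  have e1 := asIso (T.hom.left.stalkMap (η[G].left.base pt))
  have e2 := G.left.presheaf.stalkCongr (.of_eq hpt)
  exact ⟨e1.symm ≪≫ e2⟩

end Groth.Agent.S5387
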