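import Groth.Statements.S5389
import Groth.Agent.Lib.Helper10.MaxOpen
import Groth.Agent.Lib.Helper10.GrpShear
import Mathlib

set_option autoImplicit false
universe u
open CategoryTheory CategoryTheory.Limits MonoidalCategory CartesianMonoidalCategory MonObj GrpObj AlgebraicGeometry
open SGA3

namespace Groth.Agent.S5389


open Groth.Agent.Lib.Helper10 in
/-- the key translation-invariance property -/
theorem key (P : MorphismProperty Scheme.{u}) [P.IsStableUnderBaseChange] [IsZariskiLocalAtTarget P]
    [P.DescendsAlong (@Flat ⊓ @Surjective ⊓ @QuasiCompact)]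
    (S : Scheme.{u}) (G H : Over S) [GrpObj G] [GrpObj H] (u : G ⟶ H) [IsMonHom u] [Flat G.hom] [UniversallyOpen G.hom]
    (W : H.left.Opens) (hW : P (u.left ∣_ W)) (hmax : ∀ W' : H.left.Opens, P (u.left ∣_ W') → W' ≤ W)
    (z : ↥(G ⊗ G).left) :
    (fst G G).left.base z ∈ u.left ⁻¹ᵁ W ↔ μ[G].left.base z ∈ u.left ⁻¹ᵁ W := by
  have sq1 := (GrpShear.sq_fst u).map (Over.forget S)
  have sq2 := (GrpShear.sq_mul u).map (Over.forget S)
  simp only [Over.forget_obj, Over.forget_map] at sq1 sq2
  have hfst : (fst H G).left = pullback.fst H.hom G.hom := rfl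
  haveI : Flat (fst H G).left := by rw [hfst]; infer_instance
  haveI : UniversallyOpen (fst H G).left := by rw [hfst]; infer_instance
  have ho1 : IsOpenMap (fst H G).left.base := (fst H G).left.isOpenMap
  haveI : IsIso (GrpShear.tau u).hom.left :=
    inferInstanceAs (IsIso ((Over.forget S).map (GrpShear.tau u).hom))
  haveI : Flat ((GrpShear.tau u).hom ≫ fst H G).left := by
    rw [Over.comp_left]; infer_instance
  haveI : UniversallyOpen ((GrpShear.tau u).hom ≫ fst H G).left := by
    rw [Over.comp_left]; infer_instance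
  have ho2 : IsOpenMap ((GrpShear.tau u).hom ≫ fst H G).left.base :=
    ((GrpShear.tau u).hom ≫ fst H G).left.isOpenMap
  have heq := MaxOpen.preimage_eq_preimage P sq1 sq2 ho1 ho2 W hW hmax
  have h1 : (fst G G).left.base z ∈ u.left ⁻¹ᵁ W ↔
      (u ▷ G).left.base z ∈ (fst H G).left ⁻¹ᵁ W := by
    have := congrArg (fun φ => φ.left.base z) (whiskerRight_fst u G)
    simp only [Over.comp_left, Scheme.Hom.comp_base, TopCat.comp_app] at this
    change u.left.base ((fst G G).left.base z) ∈ W ↔ (fst H G).left.base ((u ▷ G).left.base z) ∈ W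
    rw [this]
  have h2 : μ[G].left.base z ∈ u.left ⁻¹ᵁ W ↔
      (u ▷ G).left.base z ∈ ((GrpShear.tau u).hom ≫ fst H G).left ⁻¹ᵁ W := by
    have := congrArg (fun φ => φ.left.base z) (GrpShear.sq_mul u).w
    simp only [Over.comp_left, Scheme.Hom.comp_base, TopCat.comp_app] at this
    change u.left.base (μ[G].left.base z) ∈ W ↔
      ((GrpShear.tau u).hom ≫ fst H G).left.base ((u ▷ G).left.base z) ∈ W
    rw [Over.comp_left, Scheme.Hom.comp_base, TopCat.comp_app, this]
  rw [h1, h2, heq]

/-- Let P be a property of morphisms of schemes which is local on the target for the fpqc topology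
(stable under base change, Zariski-local on the target, and descending along flat surjective
quasi-compact morphisms). Let u : G → H be a homomorphism of S-group schemes with G flat and
universally open over S, W the largest open subscheme of H over which the restriction of u has P,
and V = u⁻¹(W). Then the image U of V in S is open and V is an open subgroup scheme of G over U: V
contains the unit point of every fibre of G that it meets, V is stable under the inversion of G, and
the product of a point of G ×_S G whose two projections lie in V lies in V. -/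
theorem result (P : MorphismProperty Scheme.{u}) [P.IsStableUnderBaseChange] [IsZariskiLocalAtTarget P]
    [P.DescendsAlong (@Flat ⊓ @Surjective ⊓ @QuasiCompact)]
    (S : Scheme.{u}) (G H : Over S) [GrpObj G] [GrpObj H] (u : G ⟶ H) [IsMonHom u] [Flat G.hom] [UniversallyOpen G.hom]
    (W : H.left.Opens) (hW : P (u.left ∣_ W)) (hmax : ∀ W' : H.left.Opens, P (u.left ∣_ W') → W' ≤ W) :
    letI V : G.left.Opens := u.left ⁻¹ᵁ W
    IsOpen (G.hom.base '' (V : Set G.left)) ∧
    (∀ g ∈ V, ∀ p : ↥(𝟙_ (Over S)).left, (𝟙_ (Over S)).hom.base p = G.hom.base g → η[G].left.base p ∈ V) ∧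
    (∀ g ∈ V, ι[G].left.base g ∈ V) ∧
    (∀ z : ↥(G ⊗ G).left, (fst G G).left.base z ∈ V → (snd G G).left.base z ∈ V → μ[G].left.base z ∈ V) := by
  have K := key P S G H u W hW hmax
  have hunit : ∀ g ∈ u.left ⁻¹ᵁ W, η[G].left.base ((toUnit G).left.base g) ∈ u.left ⁻¹ᵁ W := by
    intro g hg
    have e1 : lift (𝟙 G) ι[G] ≫ μ[G] = toUnit G ≫ η[G] := by
      have := mul_inv_cancel (𝟙 G : G ⟶ G)
      rwa [Hom.inv_def, Category.id_comp, Hom.mul_def, Hom.one_def] at this
    have e2 : lift (𝟙 G) ι[G] ≫ fst G G = 𝟙 G := lift_fst _ _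
    have a1 := congrArg (fun φ => φ.left.base g) e1
    have a2 := congrArg (fun φ => φ.left.base g) e2
    simp only [Over.comp_left, Scheme.Hom.comp_base, TopCat.comp_app, Over.id_left,
      Scheme.Hom.id_base, TopCat.id_app] at a1 a2
    rw [← a1]
    apply (K _).1
    rw [a2]
    exact hg
  refine ⟨?_, ?_, ?_, ?_⟩
  · exact G.hom.isOpenMap _ (u.left ⁻¹ᵁ W).isOpen
  · intro g hg p hp
    have hp' : p = (toUnit G).left.base g := by
      have h1 := congrArg (fun φ => φ.base g) (Over.w (toUnit G))
      simp only [Scheme.Hom.comp_base, TopCat.comp_app] at h1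
      have hinj : Function.Injective (𝟙_ (Over S)).hom.base := by
        have : (𝟙_ (Over S)).hom = 𝟙 S := rfl
        rw [this]
        exact fun a b h => h
      exact hinj (hp.trans h1.symm)
    rw [hp']
    exact hunit g hg
  · intro g hg
    have e1 : lift (toUnit G ≫ η[G]) ι[G] ≫ μ[G] = ι[G] := by
      have := one_mul (ι[G] : G ⟶ G)
      rwa [Hom.mul_def, Hom.one_def] at this
    have e2 : lift (toUnit G ≫ η[G]) ι[G] ≫ fst G G = toUnit G ≫ η[G] := lift_fst _ _
    have a1 := congrArg (fun φ => φ.left.base g) e1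
    have a2 := congrArg (fun φ => φ.left.base g) e2
    simp only [Over.comp_left, Scheme.Hom.comp_base, TopCat.comp_app] at a1 a2
    rw [← a1]
    apply (K _).1
    rw [a2]
    exact hunit g hg
  · intro z hz _
    exact (K z).1 hz

end Groth.Agent.S5389
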