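import Groth.Statements.S5390
import Mathlib.AlgebraicGeometry.Restrict
import Mathlib.AlgebraicGeometry.Morphisms.Flat
import Mathlib.AlgebraicGeometry.Morphisms.QuasiSeparated
import Mathlib.CategoryTheory.MorphismProperty.Descent

set_option autoImplicit false
universe u
open CategoryTheory CategoryTheory.Limits MonoidalCategory CartesianMonoidalCategory MonObj GrpObj AlgebraicGeometry
open SGA3

namespace Groth.Agent.S5390

/-- restriction of a pullback square to opens -/
theorem isPullback_restrict {X X' Y Y' : Scheme.{u}} {f' : X' ⟶ Y'} {k : X' ⟶ X} {g : Y' ⟶ Y}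
    {f : X ⟶ Y} (sq : IsPullback f' k g f) (U' : Y'.Opens) (U : Y.Opens)
    (gU : (U' : Scheme.{u}) ⟶ (U : Scheme.{u})) (hgU : gU ≫ U.ι = U'.ι ≫ g) :
    ∃ v, IsPullback (f' ∣_ U') v gU (f ∣_ U) := by
  have A := isPullback_morphismRestrict f' U'
  have C := isPullback_morphismRestrict f U
  have big := A.paste_vert sq
  rw [← hgU] at big
  exact ⟨_, IsPullback.of_bot' big C⟩


/-- Let P be a property of morphisms of schemes which is local on the target for the fpqc topology
(stable under base change, Zariski-local on the target, descending along flat surjective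
quasi-compact morphisms). Let f : X → Y be a morphism, g : Y' → Y a flat morphism whose underlying
map is open, and f' : X ×_Y Y' → Y' the base change. If W is the largest open of Y over which f has
P and W₁' the largest open of Y' over which f' has P, then W₁' = g⁻¹(W). -/
theorem result (P : MorphismProperty Scheme.{u}) [P.IsStableUnderBaseChange] [IsZariskiLocalAtTarget P]
    [P.DescendsAlong (@Flat ⊓ @Surjective ⊓ @QuasiCompact)]
    (X Y Y' : Scheme.{u}) (f : X ⟶ Y) (g : Y' ⟶ Y) [Flat g] (hg : IsOpenMap g.base)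
    (W : Y.Opens) (hW : P (f ∣_ W)) (hmax : ∀ W₀ : Y.Opens, P (f ∣_ W₀) → W₀ ≤ W)
    (W₁ : Y'.Opens) (hW₁ : P (pullback.snd f g ∣_ W₁)) (hmax₁ : ∀ W₀ : Y'.Opens, P (pullback.snd f g ∣_ W₀) → W₀ ≤ W₁) :
    W₁ = g ⁻¹ᵁ W := by
  have sq : IsPullback (pullback.snd f g) (pullback.fst f g) g f := (IsPullback.of_hasPullback f g).flip
  apply le_antisymm
  · -- W₁ ≤ g⁻¹ W
    intro y' hy'
    -- affine nbhd V of g y'
    obtain ⟨V, hV, hyV, -⟩ : ∃ V : Y.Opens, V ∈ Y.affineOpens ∧ g.base y' ∈ V ∧ V ≤ ⊤ :=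
      TopologicalSpace.Opens.isBasis_iff_nbhd.mp Y.isBasis_affineOpens
      (U := ⊤) (x := g.base y') trivial
    have hV' : IsAffineOpen V := hV
    -- affine nbhd V' of y' inside W₁ ⊓ g⁻¹ V
    obtain ⟨V', hV'a, hyV', hV'le⟩ : ∃ V' : Y'.Opens, V' ∈ Y'.affineOpens ∧ y' ∈ V' ∧
        V' ≤ W₁ ⊓ g ⁻¹ᵁ V :=
      TopologicalSpace.Opens.isBasis_iff_nbhd.mp Y'.isBasis_affineOpens
      (U := W₁ ⊓ g ⁻¹ᵁ V) (x := y') ⟨hy', hyV⟩
    have hV'aff : IsAffineOpen V' := hV'a
    -- image open
    let U : Y.Opens := ⟨g.base '' (V' : Set Y'), hg _ V'.isOpen⟩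
    have hUV : U ≤ V := by
      rintro _ ⟨z, hz, rfl⟩
      exact (hV'le hz).2
    have hV'U : V' ≤ g ⁻¹ᵁ U := fun z hz => ⟨z, hz, rfl⟩
    -- the restricted morphism
    let gU : (V' : Scheme.{u}) ⟶ (U : Scheme.{u}) := Y'.homOfLE hV'U ≫ (g ∣_ U)
    have hgU : gU ≫ U.ι = V'.ι ≫ g := by
      simp only [gU, Category.assoc, morphismRestrict_ι, Scheme.homOfLE_ι_assoc]
    obtain ⟨v, hv⟩ := isPullback_restrict sq V' U gU hgU
    -- P (f' |_ V')
    have hPV' : P (pullback.snd f g ∣_ V') := by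
      have sq2 : IsPullback (pullback.snd f g) (𝟙 _) (𝟙 _) (pullback.snd f g) := IsPullback.of_id_snd
      obtain ⟨v2, hv2⟩ := isPullback_restrict sq2 V' W₁ (Y'.homOfLE (hV'le.trans inf_le_left))
        (by simp)
      exact P.of_isPullback hv2.flip hW₁
    -- gU is flat surjective quasi-compact
    have hflat : Flat gU := by
      infer_instance
    have hsurj : Surjective gU := by
      constructor
      rintro ⟨u, z, hz, rfl⟩
      refine ⟨⟨z, hz⟩, ?_⟩
      apply Subtype.ext
      have := congrArg (fun φ => φ.base ⟨z, hz⟩) hgU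
      exact this
    have hqc : QuasiCompact gU := by
      haveI : IsAffine (V' : Scheme.{u}) := hV'aff
      haveI : QuasiSeparatedSpace (U : Scheme.{u}) :=
        (isQuasiSeparated_iff_quasiSeparatedSpace _ U.2).mp (hV'.isQuasiSeparated.of_subset hUV)
      infer_instance
    have hPU : P (f ∣_ U) :=
      MorphismProperty.DescendsAlong.of_isPullback (Q := @Flat ⊓ @Surjective ⊓ @QuasiCompact) hv
        ⟨⟨hflat, hsurj⟩, hqc⟩ hPV'
    exact hmax U hPU ⟨y', hyV', rfl⟩
  · -- g⁻¹ W ≤ W₁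
    apply hmax₁
    obtain ⟨v, hv⟩ := isPullback_restrict sq (g ⁻¹ᵁ W) W (g ∣_ W) (morphismRestrict_ι g W)
    exact P.of_isPullback hv.flip hW

end Groth.Agent.S5390
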