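import Groth.Statements.S5391
import Groth.Agent.Lib.Helper22.QuasiSection2
import Groth.Agent.Lib.Helper72.DimLFT
import Groth.Agent.Lib.Helper72.FibDim

set_option autoImplicit false
universe u
open CategoryTheory CategoryTheory.Limits MonoidalCategory CartesianMonoidalCategory MonObj GrpObj AlgebraicGeometry
open SGA3

namespace Groth.Agent.S5391

/-- Let f : X → S be a morphism locally of finite presentation, s a point of S and x a point of the
fibre X_s = f⁻¹(s) which is closed in it. Suppose f is universally open at the generic point z of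
some irreducible component Z of the fibre X_s containing x, with the local dimension of X_s at x
equal to dim Z. Then there are an affine scheme S', an etale morphism w : S' → S, a finite
surjective morphism of finite presentation π : S'' → S', and a morphism h : S'' → X with h f = π w,
such that exactly one point s'' of S'' lies over s, h(s'') = x, and h induces an isomorphism κ(x) ≅
κ(s''). -/
theorem result (X S : Scheme.{u}) (f : X ⟶ S) [LocallyOfFinitePresentation f]
    (s : S) (x : X) (hxs : f.base x = s) (hx : IsClosed ((Subtype.val : ↥(f.base ⁻¹' {s}) → X) ⁻¹' {x}))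
    (Z : Set ↥(f.base ⁻¹' {s})) (hZ : Z ∈ irreducibleComponents ↥(f.base ⁻¹' {s})) (hxZ : x ∈ (Subtype.val '' Z))
    (z : X) (hz : z ∈ Subtype.val '' Z ∧ Subtype.val '' Z ⊆ closure {z}) (hopen : EGA43.IsUnivOpenAt f z)
    (hdim : FlatMor.localDim ↥(f.base ⁻¹' {s}) ⟨x, hxs⟩ = topologicalKrullDim ↥Z) :
    ∃ (S' S'' : Scheme.{u}) (_ : IsAffine S') (w : S' ⟶ S) (π : S'' ⟶ S') (h : S'' ⟶ X),
      Etale w ∧ IsFinite π ∧ Surjective π ∧ LocallyOfFinitePresentation π ∧ h ≫ f = π ≫ w ∧
      ∃ s'' : S'', (π ≫ w).base ⁻¹' {s} = {s''} ∧ h.base s'' = x ∧ IsIso (h.residueFieldMap s'') := by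
  subst hxs
  obtain ⟨⟨zF, hzZ, hzF⟩, hzcl⟩ := hz
  have hfz : f.base z = f.base x := by rw [← hzF]; exact zF.2
  have hzx : z ⤳ x := specializes_iff_mem_closure.mpr (hzcl hxZ)
  have hZsub : Z ⊆ closure {zF} := by
    intro y hy
    rw [Topology.IsInducing.subtypeVal.closure_eq_preimage_closure_image, Set.image_singleton,
      hzF]
    exact hzcl ⟨y, hy, rfl⟩
  have hZcl : IsClosed Z := isClosed_of_mem_irreducibleComponents Z hZ
  have hZeq : Z = closure {zF} :=
    Set.Subset.antisymm hZsub (closure_minimal (Set.singleton_subset_iff.mpr hzZ) hZcl)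
  have hzmax : ∀ t : X, t ⤳ z → f.base t = f.base z → t = z := by
    intro t ht hft
    let tF : ↥(f.base ⁻¹' {f.base x}) := ⟨t, hft.trans hfz⟩
    have h1 : Z ⊆ closure {tF} := by
      refine hZsub.trans (closure_minimal ?_ isClosed_closure)
      rw [Set.singleton_subset_iff,
        Topology.IsInducing.subtypeVal.closure_eq_preimage_closure_image, Set.image_singleton]
      show zF.1 ∈ closure {t}
      rw [hzF]
      exact specializes_iff_mem_closure.mp ht
    have h2 : closure {tF} ⊆ Z := hZ.2 isIrreducible_singleton.closure h1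
    have h3 : tF ∈ Z := h2 (subset_closure rfl)
    have h4 : z ⤳ t := specializes_iff_mem_closure.mpr (hzcl ⟨tF, h3, rfl⟩)
    exact (ht.antisymm h4).eq
  have hQS := Groth.Agent.Lib.Helper72.FibDim.quasiSober_fibre f (f.base x)
  have hδ := Groth.Agent.Lib.Helper72.FibDim.isDimFun_fibre f (f.base x)
  have hdimZ : topologicalKrullDim ↥Z =
      ((Groth.Agent.Lib.Helper73.resTrdegNat f z : ℕ∞) : WithBot ℕ∞) := by
    have h1 := hδ.topologicalKrullDim_closure_singleton zF
    rw [← hZeq, hzF] at h1
    exact h1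
  have hx0 : Groth.Agent.Lib.Helper73.resTrdegNat f x = 0 := by
    by_contra hne
    obtain ⟨y, -, hxy, hyx⟩ := hδ.exists_specializes_of_ne_zero
      (⟨x, rfl⟩ : ↥(f.base ⁻¹' {f.base x})) Set.univ isOpen_univ trivial hne
    have hy : y ∈ closure ({⟨x, rfl⟩} : Set ↥(f.base ⁻¹' {f.base x})) :=
      specializes_iff_mem_closure.mp hxy
    have hcl : IsClosed ({⟨x, rfl⟩} : Set ↥(f.base ⁻¹' {f.base x})) := by
      convert hx using 1
      ext w
      simp only [Set.mem_singleton_iff, Set.mem_preimage]
      exact ⟨fun h => by rw [h], fun h => Subtype.ext h⟩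
    rw [hcl.closure_eq] at hy
    exact hyx hy
  have hfd : FlatMor.fibreDimAt f x ≤
      ((Groth.Agent.Lib.Helper73.resTrdegNat f z : ℕ) : WithBot ℕ∞) := by
    have h1 : FlatMor.fibreDimAt f x =
        FlatMor.localDim ↥(f.base ⁻¹' {f.base x}) ⟨x, rfl⟩ := by
      unfold FlatMor.fibreDimAt
      rw [Groth.Agent.Lib.Helper72.DimLFT.localDim_homeomorph (f.fiberHomeo (f.base x)) (f.asFiber x)]
      congr 1
      exact (f.fiberHomeo (f.base x)).apply_symm_apply _
    rw [h1, hdim, hdimZ]
    exact le_rfl
  exact Groth.Agent.Lib.Helper22.QuasiSection2.exists_quasiSection f x z hzx hfz hzmax hopen hx0 hfd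

end Groth.Agent.S5391
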