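import Groth.Statements.S5394
import Groth.Agent.Lib.Helper19.Grp.MulCover
import Groth.Agent.Lib.Helper79.LfpOfComp
open Groth.Agent.Lib.Helper19

set_option autoImplicit false
universe u
open CategoryTheory CategoryTheory.Limits MonoidalCategory CartesianMonoidalCategory MonObj GrpObj AlgebraicGeometry
open SGA3

namespace Groth.Agent.S5394

/-- Let G be an S-group scheme which is flat and locally of finite presentation over S and f : X → G a
morphism of S-schemes with X locally of finite presentation over S. Suppose that for every point s
of S and every maximal point g of the fibre G_s (generic point of an irreducible component) there is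
a point x of X with f(x) = g at which f is flat. Let V be the open subscheme of X where f is flat.
Then the morphism V ×_S V → G, (x, y) ↦ f(x)·f(y), is flat, locally of finite presentation and
surjective; in particular X ×_S X → G, (x, y) ↦ f(x)·f(y), is covering for the fppf topology. (The
published statement does not assume G flat over S and asserts only the covering property; this row
assumes G flat over S, as the flatness step of the printed proof does, and concludes the flat,
locally finitely presented, surjective form that proof establishes. Without flatness of G the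
flatness conclusion fails, e.g. for the identity of the closed subgroup tx = 0 of the additive group
over k[t].) -/
theorem result (S : Scheme.{u}) (G X : Over S) [GrpObj G] [LocallyOfFinitePresentation G.hom] [Flat G.hom]
    [LocallyOfFinitePresentation X.hom] (f : X ⟶ G)
    (hf : ∀ (s : S) (g : ↥(G.hom.base ⁻¹' {s})), closure {g} ∈ irreducibleComponents ↥(G.hom.base ⁻¹' {s}) →
      ∃ x : X.left, f.left.base x = g.1 ∧ (f.left.stalkMap x).hom.Flat)
    (V : X.left.Opens) (hV : (V : Set X.left) = {x : X.left | (f.left.stalkMap x).hom.Flat}) :
    letI fV : Over.mk (V.ι ≫ X.hom) ⟶ G := Over.homMk (V.ι ≫ f.left) ((Category.assoc _ _ _).trans (congrArg (V.ι ≫ ·) (Over.w f)))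
    Flat ((fV ⊗ₘ fV) ≫ μ[G]).left ∧ LocallyOfFinitePresentation ((fV ⊗ₘ fV) ≫ μ[G]).left ∧
      Surjective ((fV ⊗ₘ fV) ≫ μ[G]).left := by
  let fV : Over.mk (V.ι ≫ X.hom) ⟶ G := Over.homMk (V.ι ≫ f.left)
    ((Category.assoc _ _ _).trans (congrArg (V.ι ≫ ·) (Over.w f)))
  change Flat ((fV ⊗ₘ fV) ≫ μ[G]).left ∧ LocallyOfFinitePresentation ((fV ⊗ₘ fV) ≫ μ[G]).left ∧
      Surjective ((fV ⊗ₘ fV) ≫ μ[G]).left
  have hfl : LocallyOfFinitePresentation f.left :=
    Groth.Agent.Lib.Helper79.lfp_of_comp (g := G.hom) (by rw [Over.w f]; infer_instance)
      inferInstance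
  have hVmem : ∀ x : X.left, x ∈ V ↔ (f.left.stalkMap x).hom.Flat := by
    intro x
    rw [← SetLike.mem_coe, hV]
    rfl
  have hfVleft : fV.left = V.ι ≫ f.left := rfl
  have hflatV : Flat fV.left := by
    rw [hfVleft, Flat.iff_flat_stalkMap]
    intro v
    rw [Scheme.Hom.stalkMap_comp]
    have hiso : IsIso (V.ι.stalkMap v) := inferInstance
    exact (RingHom.Flat.respectsIso.cancel_right_isIso (f.left.stalkMap (V.ι v))
      (V.ι.stalkMap v)).mpr ((hVmem _).mp v.2)
  have hlfpV : LocallyOfFinitePresentation fV.left := by rw [hfVleft]; infer_instance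
  refine ⟨?_, ?_, ?_⟩
  · exact MulCover.prop_tensorHom_mul G @Flat fV fV hflatV hflatV inferInstance
  · exact MulCover.prop_tensorHom_mul G @LocallyOfFinitePresentation fV fV hlfpV hlfpV
      inferInstance
  · have hopen : IsOpen (Set.range fV.left) := fV.left.isOpenMap.isOpen_range
    have hdense : ∀ s : S, Dense ((FibLoci.fibι G s) ⁻¹' (Set.range fV.left)) := by
      intro s
      have := MulCover.dense_preimage_fiberι_of_maximal_points G.hom s (Set.range fV.left)
        (fun g hg => by
          obtain ⟨x, hx1, hx2⟩ := hf s g hg
          exact ⟨⟨x, (hVmem x).mpr hx2⟩, hx1⟩)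
      exact this
    exact MulCover.surjective_tensorHom_mul G fV fV hopen hopen hdense hdense

end Groth.Agent.S5394
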