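import Groth.Statements.S5395
import Groth.Agent.Lib.Helper19.Top.LocClosedPieces

set_option autoImplicit false
universe u
open CategoryTheory CategoryTheory.Limits MonoidalCategory CartesianMonoidalCategory MonObj GrpObj AlgebraicGeometry
open SGA3

namespace Groth.Agent.S5395

/-- Let k be an algebraically closed field, G a group scheme locally of finite type over k, and A, B two
ind-constructible subsets of G. Let A·B be the image under the multiplication of the set of points
of G ×_k G whose two projections lie in A and B. Then every closed point z of G lying in A·B is the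
product of a closed point of G ×_k G whose two projections lie in A and B (and are then closed
points): the rational points of A·B are the products of rational points of A and of B. -/
theorem result (k : Type u) [Field k] [IsAlgClosed k] (G : Over (Spec (CommRingCat.of k))) [GrpObj G]
    [LocallyOfFiniteType G.hom] (A B : Set G.left) (hA : ProCons.IsIndConstructible A) (hB : ProCons.IsIndConstructible B)
    (z : G.left) (hz : IsClosed ({z} : Set G.left))
    (hzAB : z ∈ μ[G].left.base '' {w : ↥(G ⊗ G).left | (fst G G).left.base w ∈ A ∧ (snd G G).left.base w ∈ B}) :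
    ∃ w : ↥(G ⊗ G).left, IsClosed ({w} : Set ↥(G ⊗ G).left) ∧ (fst G G).left.base w ∈ A ∧ (snd G G).left.base w ∈ B ∧
      μ[G].left.base w = z := by
  haveI : LocallyOfFiniteType (G ⊗ G).hom := by rw [Over.tensorObj_hom]; infer_instance
  haveI : JacobsonSpace ↥(G ⊗ G).left :=
    LocallyOfFiniteType.jacobsonSpace (Y := Spec _) (G ⊗ G).hom
  have hE : Groth.Agent.Lib.Helper19.LocClosedPieces.IsUnionLC
      ((((fst G G).left.base ⁻¹' A) ∩ ((snd G G).left.base ⁻¹' B)) ∩ (μ[G].left.base ⁻¹' {z})) := by
    refine Groth.Agent.Lib.Helper19.LocClosedPieces.IsUnionLC.inter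
      (Groth.Agent.Lib.Helper19.LocClosedPieces.IsUnionLC.inter ?_ ?_) ?_
    · exact (Groth.Agent.Lib.Helper19.LocClosedPieces.isUnionLC_of_isIndConstructible hA).preimage
        (fst G G).left.continuous
    · exact (Groth.Agent.Lib.Helper19.LocClosedPieces.isUnionLC_of_isIndConstructible hB).preimage
        (snd G G).left.continuous
    · exact (hz.preimage μ[G].left.continuous).isLocallyClosed.isUnionLC
  obtain ⟨w0, ⟨hw0A, hw0B⟩, hw0z⟩ := hzAB
  obtain ⟨w, ⟨⟨hwA, hwB⟩, hwz⟩, hw⟩ := hE.exists_isClosed_singleton ⟨w0, ⟨hw0A, hw0B⟩, hw0z⟩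
  exact ⟨w, hw, hwA, hwB, hwz⟩

end Groth.Agent.S5395
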