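import Groth.Statements.S5400
import Groth.Agent.S5325
import Groth.Agent.Lib.Helper22.NeutRep
import Groth.Agent.Lib.Helper19.GC.NeutralSet
import Groth.Agent.Lib.Helper73.LimBaseChange
import Groth.Agent.Lib.Helper73.LimConstructible
import Groth.Agent.Lib.Helper50.LimDesc12

set_option autoImplicit false
universe u
open CategoryTheory CategoryTheory.Limits MonoidalCategory CartesianMonoidalCategory MonObj GrpObj AlgebraicGeometry
open SGA3

namespace Groth.Agent.S5400

section Sch
open Topology

/-! ### part a -/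

/-- The neutral component functor is representable iff the neutral set is open. -/
theorem representable_iff_isOpen (S : Scheme.{u}) (G : Over S) [GrpObj G]
    [LocallyOfFinitePresentation G.hom] :
    (∃ (G0 : Over S) (i0 : G0 ⟶ G), Mono i0 ∧
      ∀ (T : Over S) (g : T ⟶ G), (∃ z : T ⟶ G0, z ≫ i0 = g) ↔
        Set.range g.left.base ⊆ SGA3x.neutralSet G) ↔ IsOpen (SGA3x.neutralSet G) := by
  constructor
  · rintro ⟨G0, i, hmono, hrep⟩
    haveI : Mono i.left := inferInstance
    have hrep' : ∀ (T : Scheme.{u}) (g : T ⟶ G.left),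
        (∃ z : T ⟶ G0.left, z ≫ i.left = g) ↔ Set.range g.base ⊆ SGA3x.neutralSet G := by
      intro T g
      have h1 := hrep (Over.mk (g ≫ G.hom)) (Over.homMk g rfl)
      constructor
      · rintro ⟨z, hz⟩
        refine h1.1 ⟨Over.homMk z ?_, ?_⟩
        · show z ≫ G0.hom = g ≫ G.hom
          rw [← hz, Category.assoc, Over.w i]
        · ext
          exact hz
      · intro hr
        obtain ⟨z, hz⟩ := h1.2 hr
        exact ⟨z.left, congrArg CommaMorphism.left hz⟩
    have hEind := (Groth.Agent.S5325.result S G).1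
    exact Groth.Agent.Lib.Helper22.NeutRep.isOpen_of_represents i.left _ hEind hrep'
  · intro hopen
    let U0 : G.left.Opens := ⟨SGA3x.neutralSet G, hopen⟩
    let G0 : Over S := Over.mk (U0.ι ≫ G.hom)
    let i0 : G0 ⟶ G := Over.homMk U0.ι rfl
    haveI : Mono i0.left := inferInstanceAs (Mono U0.ι)
    refine ⟨G0, i0, Over.mono_of_mono_left i0, fun T g => ?_⟩
    constructor
    · rintro ⟨z, rfl⟩
      rintro _ ⟨t, rfl⟩
      exact (z.left t).2
    · intro hr
      have hr' : Set.range g.left ⊆ Set.range U0.ι := by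
        rw [Scheme.Opens.range_ι]
        exact hr
      refine ⟨Over.homMk (IsOpenImmersion.lift U0.ι g.left hr') ?_, ?_⟩
      · show IsOpenImmersion.lift U0.ι g.left hr' ≫ (U0.ι ≫ G.hom) = T.hom
        rw [← Category.assoc, IsOpenImmersion.lift_fac, Over.w g]
      · ext
        exact IsOpenImmersion.lift_fac _ _ _

/-- Transport to the symmetric pullback. -/
theorem neutralSet_bc_symm {S S' : Scheme.{u}} (f : S' ⟶ S) (G : Over S) [GrpObj G] :
    (pullbackSymmetry f G.hom).hom ⁻¹' SGA3x.neutralSet (Red.bc f G) =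
      (pullback.snd f G.hom) ⁻¹' SGA3x.neutralSet G := by
  rw [Groth.Agent.Lib.Helper19.neutralSet_bc]
  have h : (pullbackSymmetry f G.hom).hom ≫ pullback.fst G.hom f = pullback.snd f G.hom :=
    pullbackSymmetry_hom_comp_fst _ _
  rw [← h]
  rfl

theorem isOpen_neutralSet_bc_iff {S S' : Scheme.{u}} (f : S' ⟶ S) (G : Over S) [GrpObj G] :
    IsOpen (SGA3x.neutralSet (Red.bc f G)) ↔
      IsOpen ((pullback.snd f G.hom) ⁻¹' SGA3x.neutralSet G) := by
  rw [← neutralSet_bc_symm]
  exact ((pullbackSymmetry f G.hom).hom.homeomorph).isOpen_preimage.symm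

end Sch

section Sch
open Topology

/-! ### part b -/

set_option backward.isDefEq.respectTransparency false in
open Groth.Agent.Lib.Helper73 in
theorem exists_isOpen_stage {I : Type u} [SmallCategory I] [IsCofiltered I]
    (D : I ⥤ Scheme.{u}) (c : Limits.Cone D) (hc : Limits.IsLimit c)
    [∀ (i i' : I) (f : i ⟶ i'), IsAffineHom (D.map f)] [∀ i, CompactSpace (D.obj i)]
    [∀ i, QuasiSeparatedSpace (D.obj i)]
    (j : I) {Y : Scheme.{u}} (g : Y ⟶ D.obj j) [QuasiCompact g] [QuasiSeparated g] (N : Set Y)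
    (hcons : ∀ a : Over j, IsConstructible ((pullback.snd (D.map a.hom) g) ⁻¹' N))
    (hconsS : IsConstructible ((pullback.snd (c.π.app j) g) ⁻¹' N))
    (hopen : IsOpen ((pullback.snd (c.π.app j) g) ⁻¹' N)) :
    ∃ a : Over j, IsOpen ((pullback.snd (D.map a.hom) g) ⁻¹' N) := by
  let E := bcDiagram D j g
  let cE := bcCone D c j g
  have hlim : IsLimit cE := isLimitBcCone D c j g hc
  haveI : ∀ (a b : Over j) (f : a ⟶ b), IsAffineHom (E.map f) := fun _ _ f => inferInstance
  haveI hcpt : ∀ a : Over j, CompactSpace (E.obj a) := fun a => by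
    let f' : D.obj a.left ⟶ D.obj j := D.map a.hom
    exact QuasiCompact.compactSpace_of_compactSpace (pullback.fst f' g)
  haveI hqs : ∀ a : Over j, QuasiSeparatedSpace (E.obj a) := fun a => by
    let f' : D.obj a.left ⟶ D.obj j := D.map a.hom
    exact quasiSeparatedSpace_of_quasiSeparated (pullback.fst f' g)
  haveI : CompactSpace c.pt := compactSpace_pt D c hc j
  haveI : CompactSpace cE.pt := by
    let f' : c.pt ⟶ D.obj j := c.π.app j
    exact QuasiCompact.compactSpace_of_compactSpace (pullback.fst f' g)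
  let U : cE.pt.Opens := ⟨_, hopen⟩
  have hU : IsCompact (U : Set cE.pt) := isCompact_of_isConstructible hconsS
  obtain ⟨a, -, V, hV, hVU⟩ := exists_compact_opens_preimage_eq E cE hlim (Over.mk (𝟙 j)) U hU
  let Ma : Set (E.obj a) := (pullback.snd (D.map a.hom) g) ⁻¹' N
  have hVc : IsConstructible (V : Set (E.obj a)) :=
    ((QuasiSeparatedSpace.isRetrocompact_iff_isCompact V.isOpen).2 hV).isConstructible V.isOpen
  have hC : IsConstructible (((V : Set (E.obj a)) \ Ma) ∪ (Ma \ (V : Set (E.obj a)))) :=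
    (hVc.sdiff (hcons a)).union ((hcons a).sdiff hVc)
  have hkey : ∀ p : cE.pt, cE.π.app a p ∈ (V : Set (E.obj a)) ↔ cE.π.app a p ∈ Ma := by
    intro p
    have h1 : cE.π.app a p ∈ (V : Set (E.obj a)) ↔ p ∈ U := by
      rw [← hVU]; rfl
    have h2 : pullback.snd (D.map a.hom) g (cE.π.app a p) = pullback.snd (c.π.app j) g p :=
      congrArg (fun φ : cE.pt ⟶ Y => φ p) (bcCone_π_app_snd D c j g a)
    rw [h1]
    show pullback.snd (c.π.app j) g p ∈ N ↔ pullback.snd (D.map a.hom) g (cE.π.app a p) ∈ N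
    rw [h2]
  have hpre : cE.π.app a ⁻¹' (((V : Set (E.obj a)) \ Ma) ∪ (Ma \ (V : Set (E.obj a)))) = ∅ := by
    rw [Set.eq_empty_iff_forall_notMem]
    rintro p (⟨h1, h2⟩ | ⟨h1, h2⟩)
    · exact h2 ((hkey p).1 h1)
    · exact h2 ((hkey p).2 h1)
  obtain ⟨b, φ, hφ⟩ := Groth.Agent.Lib.Helper50.exists_map_preimage_eq_empty_of_isConstructible
    E cE hlim a hC hpre
  refine ⟨b, ?_⟩
  have hMb : (pullback.snd (D.map b.hom) g) ⁻¹' N = E.map φ ⁻¹' (V : Set (E.obj a)) := by
    ext p
    have h2 : pullback.snd (D.map a.hom) g (E.map φ p) = pullback.snd (D.map b.hom) g p :=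
      congrArg (fun ψ : E.obj b ⟶ Y => ψ p) (bcDiagram_map_snd D j g φ)
    have h3 : E.map φ p ∉ (((V : Set (E.obj a)) \ Ma) ∪ (Ma \ (V : Set (E.obj a)))) := by
      intro h
      have : p ∈ E.map φ ⁻¹' (((V : Set (E.obj a)) \ Ma) ∪ (Ma \ (V : Set (E.obj a)))) := h
      rw [hφ] at this
      exact this
    have h4 : E.map φ p ∈ Ma ↔ pullback.snd (D.map b.hom) g p ∈ N := by
      show pullback.snd (D.map a.hom) g (E.map φ p) ∈ N ↔ _
      rw [h2]
    simp only [Set.mem_preimage]
    rw [← h4]
    constructor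
    · intro h
      by_contra h'
      exact h3 (Or.inr ⟨h, h'⟩)
    · intro h
      by_contra h'
      exact h3 (Or.inl ⟨h, h'⟩)
  rw [hMb]
  exact V.isOpen.preimage (E.map φ).continuous

end Sch

section Sch
open Topology

/-! ### part c -/

set_option backward.isDefEq.respectTransparency false in
/-- constructibility of the pulled-back neutral set in the symmetric pullback. -/
theorem isConstructible_snd_preimage {S S' : Scheme.{u}} (f : S' ⟶ S) (G : Over S) [GrpObj G]
    [LocallyOfFinitePresentation G.hom] [QuasiSeparated G.hom] [CompactSpace S']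
    [QuasiSeparatedSpace S'] :
    IsConstructible ((pullback.snd f G.hom) ⁻¹' SGA3x.neutralSet G) := by
  haveI : LocallyOfFinitePresentation (Red.bc f G).hom :=
    inferInstanceAs (LocallyOfFinitePresentation (pullback.snd G.hom f))
  have hqs : QuasiSeparated (Red.bc f G).hom :=
    inferInstanceAs (QuasiSeparated (pullback.snd G.hom f))
  have h1 : IsConstructible (SGA3x.neutralSet (Red.bc f G)) :=
    (Groth.Agent.S5325.result S' (Red.bc f G)).2.1 hqs inferInstance inferInstance
  rw [← neutralSet_bc_symm]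
  exact (pullbackSymmetry f G.hom).hom.isConstructible_preimage h1

end Sch

open Topology Groth.Agent.Lib.Helper73 in
set_option backward.isDefEq.respectTransparency false in

/-- Let S be the limit of a cofiltered system (S_i) of quasi-compact quasi-separated schemes with affine
transition morphisms, j an index and G_j an S_j-group scheme of finite presentation; put G = G_j
×_{S_j} S. Then the neutral component subfunctor of G is representable (there is a monomorphism G⁰ →
G through which a point factors exactly when its image lies in the union of the neutral components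
of the fibres) if and only if there is an index i over j such that the neutral component of G_j
×_{S_j} S_i is representable. -/
theorem result {I : Type u} [SmallCategory I] [IsCofiltered I]
    (D : I ⥤ Scheme.{u}) (c : Limits.Cone D) (hc : Limits.IsLimit c)
    [∀ (i i' : I) (f : i ⟶ i'), IsAffineHom (D.map f)] [∀ i, CompactSpace (D.obj i)] [∀ i, QuasiSeparatedSpace (D.obj i)]
    (j : I) (Gj : Over (D.obj j)) [GrpObj Gj]
    [LocallyOfFinitePresentation Gj.hom] [QuasiCompact Gj.hom] [QuasiSeparated Gj.hom] :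
    (∃ (G0 : Over c.pt) (i0 : G0 ⟶ Red.bc (c.π.app j) Gj), Mono i0 ∧
      ∀ (T : Over c.pt) (g : T ⟶ Red.bc (c.π.app j) Gj), (∃ z : T ⟶ G0, z ≫ i0 = g) ↔
        Set.range g.left.base ⊆ SGA3x.neutralSet (Red.bc (c.π.app j) Gj)) ↔
    ∃ (i : I) (f : i ⟶ j) (G0 : Over (D.obj i)) (i0 : G0 ⟶ Red.bc (D.map f) Gj), Mono i0 ∧
      ∀ (T : Over (D.obj i)) (g : T ⟶ Red.bc (D.map f) Gj), (∃ z : T ⟶ G0, z ≫ i0 = g) ↔
        Set.range g.left.base ⊆ SGA3x.neutralSet (Red.bc (D.map f) Gj) := by
  haveI hlfpS : LocallyOfFinitePresentation (Red.bc (c.π.app j) Gj).hom :=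
    inferInstanceAs (LocallyOfFinitePresentation (pullback.snd Gj.hom (c.π.app j)))
  have hlfp : ∀ (i : I) (f : i ⟶ j), LocallyOfFinitePresentation (Red.bc (D.map f) Gj).hom :=
    fun i f => inferInstanceAs (LocallyOfFinitePresentation (pullback.snd Gj.hom (D.map f)))
  have h1 := representable_iff_isOpen c.pt (Red.bc (c.π.app j) Gj)
  have h2 : (∃ (i : I) (f : i ⟶ j) (G0 : Over (D.obj i)) (i0 : G0 ⟶ Red.bc (D.map f) Gj), Mono i0 ∧
      ∀ (T : Over (D.obj i)) (g : T ⟶ Red.bc (D.map f) Gj), (∃ z : T ⟶ G0, z ≫ i0 = g) ↔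
        Set.range g.left.base ⊆ SGA3x.neutralSet (Red.bc (D.map f) Gj)) ↔
      ∃ (i : I) (f : i ⟶ j), IsOpen ((pullback.snd (D.map f) Gj.hom) ⁻¹' SGA3x.neutralSet Gj) := by
    constructor
    · rintro ⟨i, f, G0, i0, hm, hrep⟩
      haveI := hlfp i f
      exact ⟨i, f, (isOpen_neutralSet_bc_iff (D.map f) Gj).1
        ((representable_iff_isOpen _ _).1 ⟨G0, i0, hm, hrep⟩)⟩
    · rintro ⟨i, f, ha⟩
      haveI := hlfp i f
      obtain ⟨G0, i0, hm, hrep⟩ := (representable_iff_isOpen _ (Red.bc (D.map f) Gj)).2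
        ((isOpen_neutralSet_bc_iff (D.map f) Gj).2 ha)
      exact ⟨i, f, G0, i0, hm, hrep⟩
  rw [h1, h2, isOpen_neutralSet_bc_iff]
  haveI : IsAffineHom (c.π.app j) := isAffineHom_π_app D c hc j
  haveI : CompactSpace c.pt := compactSpace_pt D c hc j
  haveI : QuasiSeparatedSpace c.pt := quasiSeparatedSpace_of_quasiSeparated (c.π.app j)
  constructor
  · intro hopen
    obtain ⟨a, ha⟩ := exists_isOpen_stage D c hc j Gj.hom (SGA3x.neutralSet Gj)
      (fun a => isConstructible_snd_preimage (D.map a.hom) Gj)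
      (isConstructible_snd_preimage (S' := c.pt) (c.π.app j) Gj) hopen
    exact ⟨a.left, a.hom, ha⟩
  · rintro ⟨i, f, ha⟩
    have he : (pullback.snd (c.π.app j) Gj.hom) ⁻¹' SGA3x.neutralSet Gj =
        (bcCone D c j Gj.hom).π.app (Over.mk f) ⁻¹'
          ((pullback.snd (D.map f) Gj.hom) ⁻¹' SGA3x.neutralSet Gj) := by
      ext p
      have h2 : pullback.snd (D.map f) Gj.hom ((bcCone D c j Gj.hom).π.app (Over.mk f) p) =
          pullback.snd (c.π.app j) Gj.hom p :=
        congrArg (fun φ : (bcCone D c j Gj.hom).pt ⟶ Gj.left => φ p)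
          (bcCone_π_app_snd D c j Gj.hom (Over.mk f))
      simp only [Set.mem_preimage]
      rw [h2]
    rw [he]
    exact ha.preimage ((bcCone D c j Gj.hom).π.app (Over.mk f)).continuous

end Groth.Agent.S5400
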