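import Groth.Statements.S5401
import Groth.Agent.S5325
import Groth.Agent.Lib.Helper50.LimDesc12
import Groth.Agent.Lib.Helper73.LimConstructible
import Mathlib.Topology.Spectral.ConstructibleTopology

set_option autoImplicit false
universe u
open CategoryTheory CategoryTheory.Limits MonoidalCategory CartesianMonoidalCategory MonObj GrpObj AlgebraicGeometry
open SGA3

namespace Groth.Agent.S5401

section Sch
open Topology

/-! ### part a -/

/-- Pointwise: preimage of an ind-constructible set under a morphism from a quasi-separated scheme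
contains a constructible neighbourhood (for the constructible topology) of each of its points. -/
theorem exists_constructible_of_indConstructible {X Y : Scheme.{u}} [QuasiSeparatedSpace X]
    (v : X ⟶ Y) {E : Set Y} (hE : ProCons.IsIndConstructible E) (x : X) (hx : v x ∈ E) :
    ∃ C : Set X, IsConstructible C ∧ x ∈ C ∧ C ⊆ v ⁻¹' E := by
  obtain ⟨U, hU, hyU, 𝒮, h𝒮, heq⟩ := hE (v x)
  let Uo : Y.Opens := ⟨U, hU⟩
  have hmem : (⟨v x, hyU⟩ : ↥U) ∈ (Subtype.val ⁻¹' E : Set ↥U) := hx
  rw [heq] at hmem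
  obtain ⟨T, hT𝒮, hyT⟩ := hmem
  have hTE : T ⊆ (Subtype.val ⁻¹' E : Set ↥U) := by
    rw [heq]; exact Set.subset_sUnion_of_mem hT𝒮
  have hTlc : IsLocallyConstructible (X := ↥(Uo : Scheme.{u})) T := h𝒮 T hT𝒮
  let y : ↥(Uo : Scheme.{u}) := ⟨v x, hyU⟩
  obtain ⟨_, ⟨B₀, hB₀, rfl⟩, hyB, -⟩ :=
    (Uo : Scheme.{u}).isBasis_affineOpens.exists_subset_of_mem_open (Set.mem_univ y) isOpen_univ
  let B : (Uo : Scheme.{u}).Opens := B₀
  have hB : IsAffineOpen B := hB₀
  have hTB : IsConstructible (B.ι ⁻¹' T) := by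
    haveI : IsAffine ↑B := hB
    exact (hTlc.preimage_of_isOpenEmbedding B.ι.isOpenEmbedding).isConstructible
  let j : (B : Scheme.{u}) ⟶ Y := B.ι ≫ Uo.ι
  have hopen : IsOpen (v ⁻¹' Set.range j) := j.isOpenEmbedding.isOpen_range.preimage v.continuous
  have hxin : x ∈ v ⁻¹' Set.range j := ⟨⟨y, hyB⟩, rfl⟩
  obtain ⟨_, ⟨W₀, hW₀, rfl⟩, hxW, hWsub⟩ :=
    X.isBasis_affineOpens.exists_subset_of_mem_open hxin hopen
  let W : X.Opens := W₀
  have hW : IsAffineOpen W := hW₀
  have hrange : Set.range (W.ι ≫ v) ⊆ Set.range j := by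
    rintro _ ⟨p, rfl⟩
    exact hWsub p.2
  let w : (W : Scheme.{u}) ⟶ B := IsOpenImmersion.lift j (W.ι ≫ v) hrange
  have hw : w ≫ j = W.ι ≫ v := IsOpenImmersion.lift_fac _ _ _
  have hwpt : ∀ p : ↥(W : Scheme.{u}), Uo.ι (B.ι (w p)) = v (W.ι p) := by
    intro p
    have := congrArg (fun φ : (W : Scheme.{u}) ⟶ Y => φ p) hw
    exact this
  have hC : IsConstructible (w ⁻¹' (B.ι ⁻¹' T)) := w.isConstructible_preimage hTB
  refine ⟨W.ι '' (w ⁻¹' (B.ι ⁻¹' T)), ?_, ?_, ?_⟩
  · apply hC.image_of_isOpenEmbedding W.ι.isOpenEmbedding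
    rw [Scheme.Opens.range_ι]
    exact fun V hV hV' => QuasiSeparatedSpace.inter_isCompact _ _ W.isOpen hW.isCompact hV' hV
  · refine ⟨⟨x, hxW⟩, ?_, rfl⟩
    show B.ι (w ⟨x, hxW⟩) ∈ T
    have h1 : B.ι (w ⟨x, hxW⟩) = y := Uo.ι.isOpenEmbedding.injective (hwpt ⟨x, hxW⟩)
    rw [h1]
    exact hyT
  · rintro _ ⟨p, hp, rfl⟩
    have h1 : B.ι (w p) ∈ T := hp
    have h2 := hTE h1
    show v (W.ι p) ∈ E
    rw [← hwpt p]
    exact h2

/-- Constructible sets are open for the constructible topology of a compact space. -/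
theorem isOpen_constructibleTopology_of_isConstructible {X : Type*} [TopologicalSpace X]
    [CompactSpace X] {s : Set X} (hs : IsConstructible s) : IsOpen[constructibleTopology X] s := by
  refine Groth.Agent.Lib.Helper73.isConstructible_sdiff_union_induction
    (P := fun s => IsOpen[constructibleTopology X] s) ?_ ?_ hs
  · intro U V hU hU' hV hV'
    have h1 : IsCompact U := by simpa using hU' isCompact_univ isOpen_univ
    have h2 : IsCompact V := by simpa using hV' isCompact_univ isOpen_univ
    have h3 := h1.isOpen_constructibleTopology_of_isOpen hU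
    have h4 := IsCompact.isOpen_constructibleTopology_of_isClosed (s := Vᶜ) (by simpa using h2)
      hV.isClosed_compl
    rw [Set.sdiff_eq]
    exact @IsOpen.inter X (constructibleTopology X) U Vᶜ h3 h4
  · intro s t hs ht
    exact @IsOpen.union X s t (constructibleTopology X) hs ht

/-- Finite subcovers for covers by constructible sets of a spectral space. -/
theorem exists_finite_subcover_of_isConstructible {X : Type*} [TopologicalSpace X]
    [CompactSpace X] [QuasiSober X] [PrespectralSpace X] [QuasiSeparatedSpace X] {J : Type*}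
    (C : J → Set X) (hC : ∀ i, IsConstructible (C i)) (hcov : ∀ x : X, ∃ i, x ∈ C i) :
    ∃ F : Finset J, ∀ x : X, ∃ i ∈ F, x ∈ C i := by
  have hcpt := isCompact_univ (X := WithConstructibleTopology X)
  have hopen : ∀ i, IsOpen (WithTopology.ofTopology ⁻¹' C i : Set (WithConstructibleTopology X)) := by
    intro i
    rw [WithTopology.isOpen_iff]
    exact isOpen_constructibleTopology_of_isConstructible (hC i)
  have hsub : (Set.univ : Set (WithConstructibleTopology X)) ⊆
      ⋃ i, (WithTopology.ofTopology ⁻¹' C i : Set (WithConstructibleTopology X)) := by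
    intro z _
    obtain ⟨i, hi⟩ := hcov (WithTopology.ofTopology z)
    exact Set.mem_iUnion.2 ⟨i, hi⟩
  obtain ⟨F, hF⟩ := hcpt.elim_finite_subcover _ hopen hsub
  refine ⟨F, fun x => ?_⟩
  have := hF (Set.mem_univ (WithTopology.toTopology _ x))
  simp only [Set.mem_iUnion, Set.mem_preimage] at this
  obtain ⟨i, hi, hx⟩ := this
  exact ⟨i, hi, hx⟩

end Sch

open Topology in

/-- Let S₀ be a scheme, (S_i) a cofiltered system of quasi-compact quasi-separated S₀-schemes with
affine transition morphisms and S its limit, and G an S₀-group scheme locally of finite presentation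
over S₀. Write G⁰(T), for an S₀-scheme T, for the set of S₀-morphisms T → G whose image lies in the
union of the neutral components of the fibres of G. Then the canonical map colim G⁰(S_i) → G⁰(S) is
surjective: every element of G⁰(S) is the restriction of an element of G⁰(S_i) for some i. (The
published statement asserts that this map is bijective; its injectivity holds for S₀-morphisms to
any scheme locally of finite type over S₀ and is not stated here. The published setting takes S₀
quasi-compact and quasi-separated and the S_i affine over S₀; this row allows any cofiltered system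
of quasi-compact quasi-separated S₀-schemes with affine transition morphisms.) -/
theorem result {I : Type u} [SmallCategory I] [IsCofiltered I]
    (D : I ⥤ Scheme.{u}) (c : Limits.Cone D) (hc : Limits.IsLimit c)
    [∀ (i i' : I) (f : i ⟶ i'), IsAffineHom (D.map f)] [∀ i, CompactSpace (D.obj i)] [∀ i, QuasiSeparatedSpace (D.obj i)]
    (S₀ : Scheme.{u}) (q : ∀ i, D.obj i ⟶ S₀) (hq : ∀ (i i' : I) (f : i ⟶ i'), D.map f ≫ q i' = q i)
    (qlim : c.pt ⟶ S₀) (hqlim : ∀ i, c.π.app i ≫ q i = qlim)
    (G : Over S₀) [GrpObj G] [LocallyOfFinitePresentation G.hom] :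
    ∀ u : c.pt ⟶ G.left, u ≫ G.hom = qlim → Set.range u.base ⊆ SGA3x.neutralSet G →
      ∃ (i : I) (ui : D.obj i ⟶ G.left), ui ≫ G.hom = q i ∧ Set.range ui.base ⊆ SGA3x.neutralSet G ∧ c.π.app i ≫ ui = u := by
  intro u hu hrange
  -- step 1: factor through a stage
  let t : D ⟶ (Functor.const I).obj S₀ :=
    { app := q
      naturality := by intro i i' f; simp [hq] }
  obtain ⟨i, g, hg1, hg2⟩ := Scheme.exists_π_app_comp_eq_of_locallyOfFinitePresentation D t G.hom c hc u
    (by ext i : 2; simp [t, hu, hqlim])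
  have hg2' : g ≫ G.hom = q i := hg2
  have hind := (Groth.Agent.S5325.result S₀ G).1
  -- step 2: constructible pieces
  let Z : Set (D.obj i) := g ⁻¹' SGA3x.neutralSet G
  have hloc : ∀ s : D.obj i, s ∈ Z → ∃ C : Set (D.obj i), IsConstructible C ∧ s ∈ C ∧ C ⊆ Z :=
    fun s hs => exists_constructible_of_indConstructible g hind s hs
  choose! Cf hCf1 hCf2 hCf3 using hloc
  haveI : IsAffineHom (c.π.app i) := isAffineHom_π_app D c hc i
  haveI : CompactSpace c.pt := QuasiCompact.compactSpace_of_compactSpace (c.π.app i)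
  haveI : QuasiSeparatedSpace c.pt := quasiSeparatedSpace_of_quasiSeparated (c.π.app i)
  have hcov : ∀ p : c.pt, ∃ s : Z, p ∈ c.π.app i ⁻¹' Cf s.1 := by
    intro p
    have hp : c.π.app i p ∈ Z := by
      show g (c.π.app i p) ∈ SGA3x.neutralSet G
      apply hrange
      refine ⟨p, ?_⟩
      rw [← hg1]
      rfl
    exact ⟨⟨_, hp⟩, hCf2 _ hp⟩
  obtain ⟨F, hF⟩ := exists_finite_subcover_of_isConstructible (X := c.pt)
    (fun s : Z => c.π.app i ⁻¹' Cf s.1)
    (fun s => (c.π.app i).isConstructible_preimage (hCf1 s.1 s.2)) hcov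
  let Z' : Set (D.obj i) := ⋃ s ∈ (F : Set Z), Cf s.1
  have hZ'c : IsConstructible Z' :=
    IsConstructible.biUnion F.finite_toSet (fun s _ => hCf1 s.1 s.2)
  have hZ'sub : Z' ⊆ Z := by
    intro z hz
    simp only [Z', Set.mem_iUnion] at hz
    obtain ⟨s, hs, hz⟩ := hz
    exact hCf3 s.1 s.2 hz
  have hpre : c.π.app i ⁻¹' Z'ᶜ = ∅ := by
    rw [Set.eq_empty_iff_forall_notMem]
    intro p hp
    obtain ⟨s, hs, hps⟩ := hF p
    apply hp
    simp only [Z', Set.mem_iUnion]
    exact ⟨s, Finset.mem_coe.2 hs, hps⟩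
  obtain ⟨j, φ, hφ⟩ := Groth.Agent.Lib.Helper50.exists_map_preimage_eq_empty_of_isConstructible
    D c hc i hZ'c.compl hpre
  refine ⟨j, D.map φ ≫ g, ?_, ?_, ?_⟩
  · rw [Category.assoc, hg2', hq]
  · rintro _ ⟨z, rfl⟩
    have hz : D.map φ z ∈ Z' := by
      by_contra h
      have h' : z ∈ D.map φ ⁻¹' Z'ᶜ := h
      rw [hφ] at h'
      exact h'
    exact hZ'sub hz
  · rw [← Category.assoc, c.w, hg1]

end Groth.Agent.S5401
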