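import Groth.Statements.S5415
import Groth.Agent.Lib.Helper72.KerTorsor
import Groth.Agent.Lib.Helper72.EquivFlat
import Groth.Agent.Lib.Helper19.Grp.OrbitHomogeneity
import Groth.Agent.Lib.Helper5.DescProps

set_option autoImplicit false
universe u
open CategoryTheory MonoidalCategory CartesianMonoidalCategory MonObj GrpObj AlgebraicGeometry CategoryTheory.Limits
open SGA3x

namespace Groth.Agent.S5415

/-- Let G be an S-group scheme of finite presentation over S, p : G → G'' a homomorphism which is
surjective, flat and locally of finite presentation onto an S-group scheme G'' proper and of finite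
presentation over S, and i : G' → G its kernel, with G' flat and of finite presentation over S. Let
H be an S-group scheme which is of finite presentation over S, or locally of finite presentation
over a locally Noetherian S, and u : G → H a homomorphism. If the restriction u ∘ i of u to G' is
proper, then u is proper. -/
theorem result (S : Scheme.{u}) (G G' G'' : Over S) [GrpObj G] [GrpObj G'] [GrpObj G'']
    [QuasiCompact G.hom] [QuasiSeparated G.hom] [LocallyOfFinitePresentation G.hom]
    [IsProper G''.hom] [LocallyOfFinitePresentation G''.hom]
    [Flat G'.hom] [QuasiCompact G'.hom] [QuasiSeparated G'.hom] [LocallyOfFinitePresentation G'.hom]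
    (p : G ⟶ G'') [IsMonHom p] [Surjective p.left] [Flat p.left] [LocallyOfFinitePresentation p.left]
    (i : G' ⟶ G) [IsMonHom i] (hker : AlgGrp.IsKernel i p)
    (H : Over S) [GrpObj H] [LocallyOfFinitePresentation H.hom]
    (hH : (QuasiCompact H.hom ∧ QuasiSeparated H.hom) ∨ IsLocallyNoetherian S)
    (u : G ⟶ H) [IsMonHom u] (hu : IsProper (i ≫ u).left) : IsProper u.left := by
  -- the torsor square
  have sq := (Groth.Agent.Lib.Helper72.KerTorsor.isPullback p i hker u).map (Over.forget S)
  -- the cover `H ◁ p` is fpqc
  have sqc := (Groth.Agent.Lib.Helper19.isPullback_whiskerLeft_snd H p).map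
    (Over.forget S)
  have hG'' : p.left ≫ G''.hom = G.hom := Over.w p
  haveI : QuasiCompact (p.left ≫ G''.hom) := by rw [hG'']; infer_instance
  haveI : QuasiCompact p.left := QuasiCompact.of_comp p.left G''.hom
  have hc1 : Surjective (H ◁ p).left := MorphismProperty.of_isPullback (P := @Surjective) sqc.flip
    (inferInstanceAs (Surjective p.left))
  have hc2 : Flat (H ◁ p).left := MorphismProperty.of_isPullback (P := @Flat) sqc.flip
    (inferInstanceAs (Flat p.left))
  have hc3 : QuasiCompact (H ◁ p).left := MorphismProperty.of_isPullback (P := @QuasiCompact) sqc.flip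
    (inferInstanceAs (QuasiCompact p.left))
  -- the shear map is proper
  have sqs := (Groth.Agent.Lib.Helper72.EquivFlat.isPullback_fst_whiskerRight (i ≫ u) G).map
    (Over.forget S)
  have hs1 : IsProper ((i ≫ u) ▷ G).left := MorphismProperty.of_isPullback (P := @IsProper) sqs hu
  have hs2 : IsProper (Groth.Agent.Lib.Helper72.KerTorsor.shear i u).left := by
    rw [Groth.Agent.Lib.Helper72.KerTorsor.shear_eq', Over.comp_left]
    haveI : IsIso (Groth.Agent.Lib.Helper72.KerTorsor.rtr u).hom.left :=
      ((Over.forget S).mapIso (Groth.Agent.Lib.Helper72.KerTorsor.rtr u)).isIso_hom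
    infer_instance
  -- descent
  have hφ : IsProper (lift u p).left := by
    have hQ : (@Surjective ⊓ @Flat ⊓ @QuasiCompact : MorphismProperty Scheme.{u}) (H ◁ p).left :=
      ⟨⟨hc1, hc2⟩, hc3⟩
    haveI : IsProper ((Over.forget S).map (Groth.Agent.Lib.Helper72.KerTorsor.shear i u)) := hs2
    have h1 : IsSeparated (lift u p).left :=
      MorphismProperty.of_isPullback_of_descendsAlong (P := @IsSeparated)
        (Q := @Surjective ⊓ @Flat ⊓ @QuasiCompact) sq.flip hQ inferInstance
    have h2 : UniversallyClosed (lift u p).left :=
      MorphismProperty.of_isPullback_of_descendsAlong (P := @UniversallyClosed)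
        (Q := @Surjective ⊓ @Flat ⊓ @QuasiCompact) sq.flip hQ inferInstance
    have h3 : LocallyOfFiniteType (lift u p).left :=
      MorphismProperty.of_isPullback_of_descendsAlong (P := @LocallyOfFiniteType)
        (Q := @Surjective ⊓ @Flat ⊓ @QuasiCompact) sq.flip hQ inferInstance
    exact { }
  have hfst : IsProper (fst H G'').left := by
    rw [Over.fst_left]; infer_instance
  have : u.left = (lift u p).left ≫ (fst H G'').left := by
    rw [← Over.comp_left, lift_fst]
  rw [this]
  infer_instance

end Groth.Agent.S5415
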