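import Groth.Statements.S5427
import Mathlib.Data.ZMod.QuotientRing
import Mathlib.RingTheory.Int.Basic
import Mathlib.RingTheory.Bialgebra.MonoidAlgebra

set_option autoImplicit false
universe u
open CategoryTheory MonoidalCategory CartesianMonoidalCategory MonObj GrpObj AlgebraicGeometry CategoryTheory.Limits
open Red

namespace Groth.Agent.S5427

theorem exists_surj (M : Type) [AddCommGroup M] [AddGroup.FG M] [Nontrivial M] :
    ∃ (r : ℕ) (_ : r.Prime) (φ : M →+ ZMod r), Function.Surjective φ := by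
  have : Module.Finite ℤ M := Module.Finite.iff_addGroup_fg.mpr ‹_›
  obtain ⟨N, hN, -⟩ := (eq_top_or_exists_le_coatom (⊥ : Submodule ℤ M)).resolve_left bot_ne_top
  have : IsSimpleModule ℤ (M ⧸ N) := isSimpleModule_iff_isCoatom.mpr hN
  obtain ⟨I, hI, ⟨e⟩⟩ := isSimpleModule_iff_quot_maximal.mp this
  obtain ⟨p, hp⟩ : ∃ p : ℤ, I = Ideal.span {p} :=
    ⟨_, (Submodule.IsPrincipal.span_singleton_generator I).symm⟩
  have hIbot : I ≠ ⊥ := Ring.ne_bot_of_isMaximal_of_not_isField hI Int.not_isField
  have hp0 : p ≠ 0 := by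
    rintro rfl
    apply hIbot
    rw [hp]; simp
  have hprime : Prime p := by
    rw [← Ideal.span_singleton_prime hp0, ← hp]
    exact hI.isPrime
  have hr : p.natAbs.Prime := Int.prime_iff_natAbs_prime.mp hprime
  have hI' : I = Ideal.span {(p.natAbs : ℤ)} := by rw [hp, Int.span_natAbs]
  subst hI'
  let ψ : M →+ ZMod p.natAbs :=
    ((Int.quotientSpanNatEquivZMod p.natAbs).toAddMonoidHom.comp
      e.toAddMonoidHom).comp (N.mkQ.toAddMonoidHom)
  refine ⟨p.natAbs, hr, ψ, ?_⟩
  exact ((Int.quotientSpanNatEquivZMod p.natAbs).surjective.comp e.surjective).comp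
    (Submodule.mkQ_surjective N)

/-- Let S be a scheme and G = D_S(M) a diagonalizable S-group of finite type, M a non-trivial finitely
generated commutative group. Then there are a prime number r and a closed subgroup of G isomorphic
to (μ_r)_S: a homomorphism of S-groups D_S(ℤ/r) → D_S(M) which is a closed immersion. -/
theorem result (S : Scheme.{u}) (M : Type) [AddCommGroup M] [AddGroup.FG M] [Nontrivial M] :
    ∃ (r : ℕ) (_ : r.Prime) (j : Red.DS S (ZMod r) ⟶ Red.DS S M), IsMonHom j ∧ IsClosedImmersion j.left := by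
  obtain ⟨r, hr, φ, hφ⟩ := exists_surj M
  let ψ : MonoidAlgebra (ULift.{u} ℤ) (Multiplicative M) →ₐc[ULift.{u} ℤ]
      MonoidAlgebra (ULift.{u} ℤ) (Multiplicative (ZMod r)) :=
    MonoidAlgebra.mapDomainBialgHom (ULift.{u} ℤ) (AddMonoidHom.toMultiplicative φ)
  let m₀ := (bialgSpec (CommRingCat.of (ULift.{u} ℤ))).map (CommBialgCat.ofHom ψ).op
  let m : Red.diag (ULift.{u} ℤ) (ZMod r) ⟶ Red.diag (ULift.{u} ℤ) M := m₀.hom
  have hm : IsMonHom m := m₀.isMonHom_hom
  let t := Limits.IsTerminal.from specULiftZIsTerminal S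
  refine ⟨r, hr, (Over.pullback t).map m, inferInstance, ?_⟩
  have hmleft : m.left = Spec.map (CommRingCat.ofHom (ψ : MonoidAlgebra (ULift.{u} ℤ) (Multiplicative M) →+*
      MonoidAlgebra (ULift.{u} ℤ) (Multiplicative (ZMod r)))) := rfl
  have hsurj : Function.Surjective ψ := by
    intro x
    induction x using MonoidAlgebra.induction_linear with
    | zero => exact ⟨0, map_zero _⟩
    | add a b ha hb =>
      obtain ⟨a', rfl⟩ := ha
      obtain ⟨b', rfl⟩ := hb
      exact ⟨a' + b', map_add _ _ _⟩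
    | single n c =>
      obtain ⟨m', hm'⟩ := hφ (Multiplicative.toAdd n)
      refine ⟨MonoidAlgebra.single (Multiplicative.ofAdd m') c, ?_⟩
      simp only [ψ, MonoidAlgebra.mapDomainBialgHom_single]
      congr 1
  have hci : IsClosedImmersion m.left := by
    rw [hmleft]
    exact IsClosedImmersion.spec_of_surjective _ hsurj
  exact MorphismProperty.overPullbackMap (P := @IsClosedImmersion) t m hci

end Groth.Agent.S5427
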