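import Groth.Statements.S5434
-- import your own Groth.Agent.* helpers here

set_option autoImplicit false
universe u
open CategoryTheory MonoidalCategory CartesianMonoidalCategory MonObj GrpObj AlgebraicGeometry CategoryTheory.Limits
open SGA3x

namespace Groth.Agent.S5434

theorem ker_eq_bot_of_dense {X : Scheme.{u}} (U : X.Opens) (hU : CInt.IsSchematicallyDense U) :
    U.ι.ker = ⊥ := by
  rw [← le_bot_iff, Scheme.IdealSheafData.le_def]
  intro V x hx
  have h1 := U.ι.ideal_ker_le V hx
  rw [RingHom.mem_ker] at h1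
  have e : V.1 ⊓ U = U.ι ''ᵁ U.ι ⁻¹ᵁ V.1 := by
    rw [Scheme.Hom.image_preimage_eq_opensRange_inf, Scheme.Opens.opensRange_ι, inf_comm]
  have h1' : (X.presheaf.map
      (homOfLE (x := U.ι ''ᵁ U.ι ⁻¹ᵁ V.1) (by rw [← e]; exact inf_le_left)).op) x = 0 := h1
  have h3 : X.presheaf.map (homOfLE (inf_le_left : V.1 ⊓ U ≤ V.1)).op x = 0 := by
    have := congr_arg (X.presheaf.map (eqToHom e).op) h1'
    rw [map_zero, ← CommRingCat.comp_apply, ← Functor.map_comp] at this
    exact this
  have := hU V.1 (h3.trans (map_zero _).symm)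
  simpa using this

theorem dense_of_iso {X' X : Scheme.{u}} (φ : X' ⟶ X) [IsIso φ] (U : X.Opens)
    (h : CInt.IsSchematicallyDense (φ ⁻¹ᵁ U)) : CInt.IsSchematicallyDense U := by
  intro V a b hab
  have hinj : Function.Injective (φ.app V) := (ConcreteCategory.bijective_of_isIso (φ.app V)).1
  apply hinj
  apply h (φ ⁻¹ᵁ V)
  have h1 := congr_arg (φ.app (V ⊓ U)) hab
  rw [← CommRingCat.comp_apply, ← CommRingCat.comp_apply, φ.naturality] at h1
  exact h1

theorem eq_of_ker_eq_bot {X Y W : Scheme.{u}} (f g : X ⟶ Y) (j₀ : W ⟶ X) (hj₀ : j₀.ker = ⊥)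
    (hj₀fg : j₀ ≫ f = j₀ ≫ g) (hsurj : Function.Surjective (equalizer.ι f g)) : f = g := by
  have : IsClosedImmersion (equalizer.ι f g) :=
    IsClosedImmersion.of_isPreimmersion _ (by rw [hsurj.range_eq]; exact isClosed_univ)
  have hk : (equalizer.ι f g).ker = ⊥ := by
    have := Scheme.Hom.le_ker_comp (equalizer.lift j₀ hj₀fg) (equalizer.ι f g)
    rw [equalizer.lift_ι, hj₀] at this
    exact le_bot_iff.mp this
  have : IsIso (equalizer.ι f g) := IsClosedImmersion.isIso_iff_ker_eq_bot.mpr hk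
  rw [← cancel_epi (equalizer.ι f g)]
  exact equalizer.condition f g

theorem ext_of_ker_eq_bot_of_isSeparated {X Y Z W : Scheme.{u}} {f g : X ⟶ Y}
    (s : Y ⟶ Z) [IsSeparated s] (h : f ≫ s = g ≫ s)
    (j₀ : W ⟶ X) (hj₀ : j₀.ker = ⊥) (hU : j₀ ≫ f = j₀ ≫ g) : f = g := by
  let X' : Over Z := Over.mk (f ≫ s)
  let Y' : Over Z := Over.mk s
  let U' : Over Z := Over.mk (j₀ ≫ f ≫ s)
  let f' : X' ⟶ Y' := Over.homMk f
  let g' : X' ⟶ Y' := Over.homMk g h.symm
  let j₀' : U' ⟶ X' := Over.homMk j₀
  have : IsSeparated Y'.hom := ‹_›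
  have hj₀fg : j₀' ≫ f' = j₀' ≫ g' := by ext1; exact hU
  have hk : (equalizer.ι f' g').left.ker = ⊥ := by
    have := Scheme.Hom.le_ker_comp (equalizer.lift j₀' hj₀fg).left (equalizer.ι f' g').left
    rw [← Over.comp_left, equalizer.lift_ι] at this
    change _ ≤ j₀.ker at this
    rw [hj₀] at this
    exact le_bot_iff.mp this
  have : IsIso (equalizer.ι f' g').left := IsClosedImmersion.isIso_iff_ker_eq_bot.mpr hk
  rw [← cancel_epi (equalizer.ι f' g').left]
  exact congr($(equalizer.condition f' g').left)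

/-- Let X be an S-scheme and U an open subscheme of X which is schematically dense in X relative to S:
for every S′ → S the preimage of U in X ×_S S′ is schematically dense (restriction of functions to
it is injective on every open). Let Y be an S-scheme whose fibres Y_s are separated (over κ(s)). If
two S-morphisms f, g : X → Y agree on U, then f = g. -/
theorem result (S : Scheme.{u}) (X Y : Over S) (U : X.left.Opens) (hU : (∀ (S' : Scheme.{u}) (g : S' ⟶ S), CInt.IsSchematicallyDense ((pullback.fst X.hom g) ⁻¹ᵁ U)))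
    (hY : ∀ s : S, IsSeparated (pullback.snd Y.hom (S.fromSpecResidueField s)))
    (f g : X ⟶ Y) (h : U.ι ≫ f.left = U.ι ≫ g.left) : f = g := by
  apply Over.OverMorphism.ext
  have hUbot : U.ι.ker = ⊥ :=
    ker_eq_bot_of_dense U (dense_of_iso (pullback.fst X.hom (𝟙 S)) U (hU S (𝟙 S)))
  refine eq_of_ker_eq_bot f.left g.left U.ι hUbot h ?_
  intro x
  -- the fibre through x
  let s : S := X.hom x
  let σ := S.fromSpecResidueField s
  let t : Spec (S.residueField s) := IsLocalRing.closedPoint (S.residueField s)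
  obtain ⟨x', hx', -⟩ := Scheme.Pullback.exists_preimage_pullback (f := X.hom) (g := σ) x t
    (Scheme.fromSpecResidueField_apply s t).symm
  let A := pullback.fst X.hom σ
  let fs : pullback X.hom σ ⟶ pullback Y.hom σ :=
    pullback.map X.hom σ Y.hom σ f.left (𝟙 _) (𝟙 _) (by simp) (by simp)
  let gs : pullback X.hom σ ⟶ pullback Y.hom σ :=
    pullback.map X.hom σ Y.hom σ g.left (𝟙 _) (𝟙 _) (by simp) (by simp)
  have hfg : fs = gs := by
    have := hY s
    refine ext_of_ker_eq_bot_of_isSeparated (pullback.snd Y.hom σ) ?_ (A ⁻¹ᵁ U).ι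
      (ker_eq_bot_of_dense _ (hU _ σ)) ?_
    · simp only [fs, gs, pullback.lift_snd]
    · apply pullback.hom_ext
      · simp only [fs, gs, Category.assoc, pullback.lift_fst]
        rw [← Category.assoc, ← Category.assoc, ← morphismRestrict_ι, Category.assoc,
          Category.assoc, h]
      · simp only [fs, gs, Category.assoc, pullback.lift_snd]
  have hA : A ≫ f.left = A ≫ g.left := by
    have h1 : fs ≫ pullback.fst Y.hom σ = A ≫ f.left := by simp only [fs, A, pullback.lift_fst]
    have h2 : gs ≫ pullback.fst Y.hom σ = A ≫ g.left := by simp only [gs, A, pullback.lift_fst]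
    rw [← h1, ← h2, hfg]
  refine ⟨equalizer.lift A hA x', ?_⟩
  rw [← Scheme.Hom.comp_apply, equalizer.lift_ι]
  exact hx'

end Groth.Agent.S5434
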