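import Groth.Statements.S5445
import Groth.Agent.Lib.Helper16.RootD8

set_option autoImplicit false
open RootD

namespace Groth.Agent.S5445

/-- A system of positive roots of a root datum contains exactly one system of simple roots (simple
systems in the sense of conditions on roots only: linearly independent, every root a non-negative or
non-positive integer combination). -/
theorem result {ι M N : Type*} [AddCommGroup M] [AddCommGroup N]
    (P : RootPairing ι ℤ M N) [Finite ι] (S : Set ι) (hS : RootD.IsPosSys P S) :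
    ∃! Δ : Set ι, RootD.IsSimpleSys P Δ ∧ Δ ⊆ S := by
  obtain ⟨Δ, hΔ, hΔS⟩ := Lib.Helper16.exists_simpleSys_posOf_eq hS
  have key : ∀ Δ' : Set ι, RootD.IsSimpleSys P Δ' → Δ' ⊆ S → RootD.posOf P Δ' = S := by
    intro Δ' hΔ' hsub
    apply Lib.Helper16.eq_of_subset_of_cover_disjoint (P := P)
    · exact Lib.Helper16.posOf_subset_of_closed (Lib.Helper16.isPosSys_closed hS) hsub
    · exact Lib.Helper16.posOf_cover hΔ'
    · exact fun i hi => hS.disjoint hi
  refine ⟨Δ, ⟨hΔ, ?_⟩, ?_⟩
  · intro l hl
    rw [← hΔS]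
    exact Lib.Helper16.simple_mem_posOf l hl
  · rintro Δ' ⟨hΔ', hsub⟩
    apply Lib.Helper16.simpleSys_eq_of_posOf_eq hΔ' hΔ
    rw [key Δ' hΔ' hsub, hΔS]

end Groth.Agent.S5445
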