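import Groth.Statements.S5446
import Groth.Agent.Lib.Helper16.RootD15

set_option autoImplicit false
open RootD

namespace Groth.Agent.S5446

/-- If the roots indexed by Δ are indivisible and linearly independent and every root is, up to sign, a
non-negative rational combination of them (some positive multiple is a non-negative integer
combination), then Δ is a system of simple roots: every root is, up to sign, a non-negative integer
combination of Δ. -/
theorem result {ι M N : Type*} [AddCommGroup M] [AddCommGroup N]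
    (P : RootPairing ι ℤ M N) [Finite ι] (Δ : Set ι)
    (hind : ∀ i ∈ Δ, RootD.IsIndiv P i) (hli : LinearIndepOn ℤ P.root Δ)
    (hcone : ∀ k : ι, ∃ n : ℕ, 0 < n ∧
      (n • P.root k ∈ RootD.natSpan P Δ ∨ n • (-P.root k) ∈ RootD.natSpan P Δ)) :
    RootD.IsSimpleSys P Δ := by
  classical
  have htf := Lib.Helper16.torsionFreeM P
  set S : Set ι := {k | ∃ n : ℕ, 0 < n ∧ n • P.root k ∈ RootD.natSpan P Δ} with hSdef
  let satMon : AddSubmonoid M :=
    { carrier := {x | ∃ n : ℕ, 0 < n ∧ n • x ∈ RootD.natSpan P Δ}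
      add_mem' := by
        rintro x y ⟨n, hn, hx⟩ ⟨m, hm, hy⟩
        refine ⟨n * m, Nat.mul_pos hn hm, ?_⟩
        rw [smul_add]
        have h1 : (n * m) • x = m • (n • x) := by rw [mul_comm, mul_smul]
        have h2 : (n * m) • y = n • (m • y) := mul_smul _ _ _
        rw [h1, h2]
        exact add_mem (AddSubmonoid.nsmul_mem _ hx m) (AddSubmonoid.nsmul_mem _ hy n)
      zero_mem' := ⟨1, Nat.one_pos, by rw [smul_zero]; exact zero_mem _⟩ }
  have hS : RootD.IsPosSys P S := by
    refine ⟨?_, ?_, ?_⟩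
    · rintro i ⟨n, hn, h1⟩ ⟨m, hm, h2⟩
      rw [Lib.Helper16.root_negIdx] at h2
      have hx : (n * m) • P.root i ∈ RootD.natSpan P Δ := by
        rw [mul_comm, mul_smul]
        exact AddSubmonoid.nsmul_mem _ h1 m
      have hx' : -((n * m) • P.root i) ∈ RootD.natSpan P Δ := by
        rw [← smul_neg, mul_smul]
        exact AddSubmonoid.nsmul_mem _ h2 n
      have h0 := Lib.Helper16.eq_zero_of_mem_natSpan_of_neg_mem hli _ hx hx'
      exact P.ne_zero i (Lib.Helper16.nsmul_eq_zero_imp P _ (Nat.mul_pos hn hm) _ h0)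
    · intro k
      obtain ⟨n, hn, h1 | h1⟩ := hcone k
      · left; exact ⟨n, hn, h1⟩
      · right
        refine ⟨n, hn, ?_⟩
        rw [Lib.Helper16.root_negIdx]
        exact h1
    · intro k n hn hmem
      have hle : RootD.natSpan P S ≤ satMon := by
        unfold RootD.natSpan
        rw [AddSubmonoid.closure_le]
        rintro _ ⟨j, hj, rfl⟩
        exact hj
      obtain ⟨m, hm, h1⟩ := hle hmem
      exact ⟨m * n, Nat.mul_pos hm hn, by rw [mul_smul]; exact h1⟩
  obtain ⟨Δ₁, hΔ₁, hΔ₁S⟩ := Lib.Helper16.exists_simpleSys_posOf_eq hS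
  have hΔS : Δ ⊆ RootD.posOf P Δ₁ := by
    intro l hl
    rw [hΔ₁S]
    exact ⟨1, Nat.one_pos, by rw [one_smul]; exact AddSubmonoid.subset_closure ⟨l, hl, rfl⟩⟩
  have hsub : Δ₁ ⊆ Δ := by
    intro l₁ hl₁
    have h1 : l₁ ∈ S := hΔ₁S ▸ Lib.Helper16.simple_mem_posOf l₁ hl₁
    obtain ⟨n, hn, hmem⟩ := h1
    obtain ⟨c, hc, hcn⟩ := (Lib.Helper16.mem_natSpan_iff_finsupp P Δ _).mp hmem
    obtain ⟨l, hl, a, ha1, _, hla⟩ := Lib.Helper16.exists_smul_simple_of_nsmul hΔ₁ l₁ hl₁ n c
      (fun l hl => hΔS (hc hl)) hcn.symm hn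
    have hlΔ : l ∈ Δ := hc hl
    have h2 : (2 : ℤ) = a * P.pairing l₁ l := by
      have h4 := P.pairing_same l
      rw [← P.root_coroot_eq_pairing, hla, map_zsmul, LinearMap.smul_apply,
        P.root_coroot_eq_pairing, smul_eq_mul] at h4
      exact h4.symm
    have ha : a = 1 ∨ a = 2 := by
      have hdvd : a ∣ 2 := ⟨_, h2⟩
      have hle := Int.le_of_dvd (by norm_num) hdvd
      omega
    rcases ha with ha | ha
    · rw [ha, one_smul] at hla
      rw [← P.root.injective hla]
      exact hlΔ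
    · rw [ha] at hla
      exact absurd hla.symm (hind l hlΔ l₁)
  refine ⟨hli, fun k => ?_⟩
  have hmono : RootD.natSpan P Δ₁ ≤ RootD.natSpan P Δ :=
    AddSubmonoid.closure_mono (Set.image_mono hsub)
  rcases hΔ₁.mem_or_neg_mem k with h1 | h1
  · left; exact hmono h1
  · right; exact hmono h1

end Groth.Agent.S5446
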