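import Groth.Statements.S5456
import Groth.Agent.Lib.Helper16.RootD3

set_option autoImplicit false
open RootD

namespace Groth.Agent.S5456

/-- A set of roots is a system of positive roots if and only if it satisfies (P 1), (P 2) and is closed. -/
theorem result {ι M N : Type*} [AddCommGroup M] [AddCommGroup N]
    (P : RootPairing ι ℤ M N) [Finite ι] (S : Set ι) :
    RootD.IsPosSys P S ↔ ((∀ i ∈ S, P.reflectionPerm i i ∉ S) ∧ (∀ i : ι, i ∈ S ∨ P.reflectionPerm i i ∈ S) ∧
      RootD.IsClosedSub P S) := by
  classical
  constructor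
  · intro h
    refine ⟨fun i hi => h.disjoint hi, h.cover, ?_⟩
    intro i j k hi hj hk
    apply h.sat 1 Nat.one_pos
    rw [one_smul, hk]
    exact add_mem (AddSubmonoid.subset_closure ⟨i, hi, rfl⟩)
      (AddSubmonoid.subset_closure ⟨j, hj, rfl⟩)
  · rintro ⟨h1, h2, h3⟩
    refine ⟨fun i hi => h1 i hi, h2, ?_⟩
    intro k n hn hk
    by_contra hkS
    have hnk : P.reflectionPerm k k ∈ S := (h2 k).resolve_left hkS
    obtain ⟨c, hcS, hc⟩ := (Lib.Helper16.mem_natSpan_iff_finsupp P S _).mp hk
    have hc0 : c ≠ 0 := by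
      rintro rfl
      rw [map_zero] at hc
      exact P.ne_zero k (Lib.Helper16.nsmul_eq_zero_imp P n hn _ hc.symm)
    obtain ⟨i₀, hi₀⟩ := Finsupp.support_nonempty_iff.mpr hc0
    have hi₀S : i₀ ∈ S := hcS hi₀
    have hci₀ : 0 < c i₀ := Nat.pos_of_ne_zero (Finsupp.mem_support_iff.mp hi₀)
    have hle : Finsupp.single i₀ 1 ≤ c := by
      intro j
      rw [Finsupp.single_apply]
      split_ifs with h
      · rw [← h]; omega
      · exact Nat.zero_le _
    have hc_eq : c = (c - Finsupp.single i₀ 1) + Finsupp.single i₀ 1 :=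
      (tsub_add_cancel_of_le hle).symm
    have hsupp : (↑((c - Finsupp.single i₀ 1) +
        Finsupp.single (P.reflectionPerm k k) n).support : Set ι) ⊆ S := by
      intro j hj
      rw [Finset.mem_coe, Finsupp.mem_support_iff, Finsupp.add_apply, Finsupp.tsub_apply,
        Finsupp.single_apply, Finsupp.single_apply] at hj
      by_cases hjk : P.reflectionPerm k k = j
      · rw [← hjk]; exact hnk
      · rw [if_neg hjk, add_zero] at hj
        apply hcS
        rw [Finset.mem_coe, Finsupp.mem_support_iff]
        intro h0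
        apply hj
        rw [h0, Nat.zero_sub]
    have hlc : P.root (P.reflectionPerm i₀ i₀) = Finsupp.linearCombination ℕ P.root
        ((c - Finsupp.single i₀ 1) + Finsupp.single (P.reflectionPerm k k) n) := by
      have e1 := congrArg (Finsupp.linearCombination ℕ P.root) hc_eq
      rw [map_add, Finsupp.linearCombination_single, one_smul, hc] at e1
      rw [map_add, Finsupp.linearCombination_single, Lib.Helper16.root_negIdx,
        Lib.Helper16.root_negIdx, smul_neg, e1]
      abel
    have hreach := Lib.Helper16.reach_of_sum' P S _ _ hsupp hlc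
    exact h1 i₀ hi₀S (Lib.Helper16.reach_closed P h3 hreach)

end Groth.Agent.S5456
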