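import Groth.Statements.S5447
import Groth.Agent.Lib.Helper16.RootD15
import Groth.Agent.S5456

set_option autoImplicit false
open RootD

namespace Groth.Agent.S5447

/-- If every root can be written in exactly one way as an integer combination of the roots indexed by Δ
with coefficients all of the same sign, then these roots are linearly independent (so Δ is a system
of simple roots) and indivisible. -/
theorem result {ι M N : Type*} [AddCommGroup M] [AddCommGroup N]
    (P : RootPairing ι ℤ M N) [Finite ι] (Δ : Set ι)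
    (h : ∀ k : ι, ∃! c : ι →₀ ℤ, (↑c.support ⊆ Δ ∧ ((∀ j, 0 ≤ c j) ∨ (∀ j, c j ≤ 0)) ∧
      Finsupp.linearCombination ℤ P.root c = P.root k)) :
    RootD.IsSimpleSys P Δ ∧ ∀ i ∈ Δ, RootD.IsIndiv P i := by
  classical
  have hrep_of_pos : ∀ k, k ∈ RootD.posOf P Δ → ∃ c : ι →₀ ℤ, (↑c.support ⊆ Δ) ∧
      (∀ j, 0 ≤ c j) ∧ Finsupp.linearCombination ℤ P.root c = P.root k := by
    intro k hk
    obtain ⟨c, hc, hck⟩ := (Lib.Helper16.mem_natSpan_iff_finsupp P Δ _).mp hk
    refine ⟨Lib.Helper16.castZ c, ?_, ?_, ?_⟩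
    · exact (Finsupp.mem_supported ℤ _).mp (Lib.Helper16.castZ_mem_supported hc)
    · intro j
      rw [Lib.Helper16.castZ_apply]
      exact Int.natCast_nonneg _
    · rw [Lib.Helper16.lc_castZ, hck]
  have hpos_of_rep : ∀ (x : M) (c : ι →₀ ℤ), (↑c.support ⊆ Δ) → (∀ j, 0 ≤ c j) →
      Finsupp.linearCombination ℤ P.root c = x → x ∈ RootD.natSpan P Δ := by
    intro x c hc hnn hcx
    rw [← hcx, Finsupp.linearCombination_apply, Finsupp.sum]
    apply AddSubmonoid.sum_mem
    intro j hj
    have : c j • P.root j = (c j).toNat • P.root j := by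
      rw [← natCast_zsmul, Int.toNat_of_nonneg (hnn j)]
    rw [this]
    have hjmem : P.root j ∈ RootD.natSpan P Δ := AddSubmonoid.subset_closure ⟨j, hc hj, rfl⟩
    exact AddSubmonoid.nsmul_mem _ hjmem _
  have hS : RootD.IsPosSys P (RootD.posOf P Δ) := by
    rw [Groth.Agent.S5456.result]
    refine ⟨?_, ?_, Lib.Helper16.posOf_closed Δ⟩
    · intro i hi hni
      obtain ⟨c, hc, hcnn, hci⟩ := hrep_of_pos i hi
      obtain ⟨c', hc', hcnn', hci'⟩ := hrep_of_pos _ hni
      rw [Lib.Helper16.root_negIdx] at hci'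
      obtain ⟨c₀, _, huniq⟩ := h i
      have h1 := huniq c ⟨hc, Or.inl hcnn, hci⟩
      have h2 := huniq (-c') ⟨by rw [Finsupp.support_neg]; exact hc',
        Or.inr (fun j => by rw [Finsupp.neg_apply]; exact neg_nonpos.mpr (hcnn' j)),
        by rw [map_neg, hci', neg_neg]⟩
      have h3 : c = -c' := h1.trans h2.symm
      have h4 : c = 0 := by
        ext j
        have e := DFunLike.congr_fun h3 j
        rw [Finsupp.neg_apply] at e
        have := hcnn j
        have := hcnn' j
        simp only [Finsupp.coe_zero, Pi.zero_apply]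
        omega
      rw [h4, map_zero] at hci
      exact P.ne_zero i hci.symm
    · intro k
      obtain ⟨c, ⟨hc, hsign, hck⟩, _⟩ := h k
      rcases hsign with hs | hs
      · left
        exact hpos_of_rep _ c hc hs hck
      · right
        change P.root _ ∈ RootD.natSpan P Δ
        rw [Lib.Helper16.root_negIdx]
        apply hpos_of_rep _ (-c) (by rw [Finsupp.support_neg]; exact hc)
          (fun j => by rw [Finsupp.neg_apply]; exact neg_nonneg.mpr (hs j))
        rw [map_neg, hck]
  obtain ⟨Δ₁, hΔ₁, hΔ₁S⟩ := Lib.Helper16.exists_simpleSys_posOf_eq hS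
  have hΔpos : Δ ⊆ RootD.posOf P Δ₁ := by
    intro l hl
    rw [hΔ₁S]
    exact Lib.Helper16.simple_mem_posOf l hl
  have hsub1 : Δ₁ ⊆ Δ := by
    intro l₁ hl₁
    have h1 : l₁ ∈ RootD.posOf P Δ := hΔ₁S ▸ Lib.Helper16.simple_mem_posOf l₁ hl₁
    obtain ⟨c, hc, hcn⟩ := (Lib.Helper16.mem_natSpan_iff_finsupp P Δ _).mp h1
    obtain ⟨l, hl, a, ha1, ha2, hla⟩ := Lib.Helper16.exists_smul_simple_of_nsmul hΔ₁ l₁ hl₁ 1 c
      (fun l hl => hΔpos (hc hl)) (by rw [one_smul]; exact hcn.symm) Nat.one_pos
    have ha : a = 1 := by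
      have : a ≤ 1 := by exact_mod_cast ha2
      omega
    rw [ha, one_smul] at hla
    rw [← P.root.injective hla]
    exact hc hl
  have hsub2 : Δ ⊆ Δ₁ := by
    intro l hl
    have h1 : P.root l ∈ RootD.natSpan P Δ₁ := hΔpos hl
    obtain ⟨c₁, hc₁, hc₁l⟩ := (Lib.Helper16.mem_natSpan_iff_finsupp P Δ₁ _).mp h1
    obtain ⟨c₀, _, huniq⟩ := h l
    have e1 := huniq (Lib.Helper16.castZ c₁)
      ⟨(Finsupp.mem_supported ℤ _).mp
          (Lib.Helper16.castZ_mem_supported (fun j hj => hsub1 (hc₁ hj))),
        Or.inl (fun j => by rw [Lib.Helper16.castZ_apply]; exact Int.natCast_nonneg _),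
        by rw [Lib.Helper16.lc_castZ, hc₁l]⟩
    have e2 := huniq (Finsupp.single l 1) ⟨by
        intro j hj
        rw [Finset.mem_coe, Finsupp.mem_support_iff, Finsupp.single_apply] at hj
        by_cases hlj : l = j
        · rw [← hlj]; exact hl
        · rw [if_neg hlj] at hj; exact absurd rfl hj,
      Or.inl (fun j => by
        rw [Finsupp.single_apply]
        split_ifs <;> norm_num),
      by rw [Finsupp.linearCombination_single, one_smul]⟩
    have e3 : Lib.Helper16.castZ c₁ = Finsupp.single l 1 := e1.trans e2.symm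
    have e4 := DFunLike.congr_fun e3 l
    rw [Lib.Helper16.castZ_apply, Finsupp.single_eq_same] at e4
    apply hc₁
    rw [Finset.mem_coe, Finsupp.mem_support_iff]
    intro h0
    rw [h0] at e4
    norm_num at e4
  have hΔeq : Δ = Δ₁ := Set.Subset.antisymm hsub2 hsub1
  refine ⟨hΔeq ▸ hΔ₁, ?_⟩
  intro i hi j hj
  obtain ⟨cj, ⟨hcj, hsign, hcjj⟩, _⟩ := h j
  obtain ⟨c₀, _, huniq⟩ := h i
  have e1 := huniq ((2 : ℤ) • cj) ⟨by
      intro m hm
      apply hcj
      rw [Finset.mem_coe, Finsupp.mem_support_iff] at hm ⊢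
      intro h0
      apply hm
      rw [Finsupp.smul_apply, h0, smul_zero],
    by
      rcases hsign with hs | hs
      · left
        intro m
        rw [Finsupp.smul_apply, smul_eq_mul]
        have := hs m
        omega
      · right
        intro m
        rw [Finsupp.smul_apply, smul_eq_mul]
        have := hs m
        omega,
    by rw [map_smul, hcjj, hj]⟩
  have e2 := huniq (Finsupp.single i 1) ⟨by
      intro m hm
      rw [Finset.mem_coe, Finsupp.mem_support_iff, Finsupp.single_apply] at hm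
      by_cases him : i = m
      · rw [← him]; exact hi
      · rw [if_neg him] at hm; exact absurd rfl hm,
    Or.inl (fun m => by
      rw [Finsupp.single_apply]
      split_ifs <;> norm_num),
    by rw [Finsupp.linearCombination_single, one_smul]⟩
  have e3 : (2 : ℤ) • cj = Finsupp.single i 1 := e1.trans e2.symm
  have e4 := DFunLike.congr_fun e3 i
  rw [Finsupp.smul_apply, Finsupp.single_eq_same, smul_eq_mul] at e4
  omega

end Groth.Agent.S5447
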