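import Groth.Statements.S5449
import Groth.Agent.Lib.Helper16.RootD
-- import your own Groth.Agent.* helpers here

set_option autoImplicit false
open RootD

namespace Groth.Agent.S5449

/-- For a system of simple roots Δ, the roots that are non-negative integer combinations of Δ form a
system of positive roots; and a system of positive roots S contains Δ if and only if S is that set. -/
theorem result {ι M N : Type*} [AddCommGroup M] [AddCommGroup N]
    (P : RootPairing ι ℤ M N) [Finite ι] (Δ : Set ι) (hΔ : RootD.IsSimpleSys P Δ)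
    (S : Set ι) (hS : RootD.IsPosSys P S) :
    RootD.IsPosSys P (RootD.posOf P Δ) ∧ (Δ ⊆ S ↔ S = RootD.posOf P Δ) := by
  have hpos : RootD.IsPosSys P (RootD.posOf P Δ) := by
    refine ⟨?_, ?_, ?_⟩
    · intro i hi hni
      obtain ⟨l, hl⟩ := (Groth.Agent.Lib.Helper16.mem_posOf_iff_exists_pos hΔ i).mp hi
      have := (Groth.Agent.Lib.Helper16.negIdx_mem_posOf_iff hΔ i).mp hni l
      omega
    · intro i
      by_cases hi : i ∈ RootD.posOf P Δ
      · exact Or.inl hi
      · exact Or.inr ((Groth.Agent.Lib.Helper16.not_mem_posOf_iff hΔ i).mp hi)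
    · intro k n hn hk
      have hle : RootD.natSpan P (RootD.posOf P Δ) ≤ RootD.natSpan P Δ := by
        unfold RootD.natSpan
        rw [AddSubmonoid.closure_le]
        rintro _ ⟨j, hj, rfl⟩
        exact hj
      have hk' := hle hk
      rw [Groth.Agent.Lib.Helper16.mem_posOf_iff hΔ]
      intro l
      have h1 := Groth.Agent.Lib.Helper16.coV_nonneg_of_mem_natSpan hΔ _ hk' l
      have h2 : (⟨n • P.root k, Groth.Agent.Lib.Helper16.natSpan_le_spanΔ P Δ hk'⟩ :
          Groth.Agent.Lib.Helper16.spanΔ P Δ) = n • Groth.Agent.Lib.Helper16.rootV hΔ k := rfl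
      rw [h2, Groth.Agent.Lib.Helper16.coV_nsmul, Finsupp.smul_apply,
        ← Groth.Agent.Lib.Helper16.co_def] at h1
      rw [nsmul_eq_mul] at h1
      have hn' : (0 : ℤ) < n := by exact_mod_cast hn
      exact nonneg_of_mul_nonneg_right h1 hn'
  refine ⟨hpos, ?_, ?_⟩
  · intro hΔS
    apply Set.Subset.antisymm
    · intro k hk
      by_contra hk'
      have h1 := (Groth.Agent.Lib.Helper16.not_mem_posOf_iff hΔ k).mp hk'
      have h2 : P.reflectionPerm k k ∈ S := by
        apply hS.sat 1 one_pos
        rw [one_smul]
        have hle : RootD.natSpan P Δ ≤ RootD.natSpan P S :=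
          AddSubmonoid.closure_mono (Set.image_mono hΔS)
        exact hle h1
      exact hS.disjoint hk h2
    · intro k hk
      apply hS.sat 1 one_pos
      rw [one_smul]
      have hle : RootD.natSpan P Δ ≤ RootD.natSpan P S :=
        AddSubmonoid.closure_mono (Set.image_mono hΔS)
      exact hle hk
  · intro h l hl
    rw [h]
    exact Groth.Agent.Lib.Helper16.simple_mem_posOf l hl

end Groth.Agent.S5449
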