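import Groth.Statements.S5451
import Groth.Agent.Lib.Helper16.RootD2
-- import your own Groth.Agent.* helpers here

set_option autoImplicit false
open RootD

namespace Groth.Agent.S5451

theorem chain_aux {ι M N : Type*} [AddCommGroup M] [AddCommGroup N]
    (P : RootPairing ι ℤ M N) [Finite ι] {n : ℕ} (a : Fin n → ι) :
    ∀ (T : ℕ) (m : Fin n → ℕ) (k : ι), ∑ i, m i = T → P.root k = ∑ i, m i • P.root (a i) →
    ∃ (l : ℕ) (b : Fin l → Fin n), 0 < l ∧
      (∀ p : Fin l, ∃ j : ι, P.root j =
        ∑ q ∈ Finset.univ.filter (fun q : Fin l => q.val ≤ p.val), P.root (a (b q))) ∧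
      P.root k = ∑ q, P.root (a (b q)) := by
  classical
  intro T
  induction T with
  | zero =>
    intro m k hT hk
    exfalso
    have hm0 : ∀ i, m i = 0 := by
      intro i
      have := Finset.sum_eq_zero_iff.mp hT i (Finset.mem_univ i)
      exact this
    apply P.ne_zero k
    rw [hk]
    apply Finset.sum_eq_zero
    intro i _
    rw [hm0 i, zero_smul]
  | succ T ih =>
    intro m k hT hk
    have hk' : P.root k = ∑ i ∈ Finset.univ, ((m i : ℕ) : ℤ) • P.root (a i) := by
      rw [hk]
      apply Finset.sum_congr rfl
      intro i _
      rw [natCast_zsmul]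
    obtain ⟨i, -, hi1, hi2⟩ := Groth.Agent.Lib.Helper16.exists_pos_pairing_of_sum P Finset.univ a
      (fun i => (m i : ℤ)) (fun i _ => Int.natCast_nonneg _) k hk'
    have hmi : 0 < m i := by exact_mod_cast hi1
    by_cases hki : k = a i
    · refine ⟨1, fun _ => i, one_pos, ?_, ?_⟩
      · intro p
        refine ⟨k, ?_⟩
        have : Finset.univ.filter (fun q : Fin 1 => q.val ≤ p.val) = Finset.univ := by
          ext q
          simp only [Finset.mem_filter, Finset.mem_univ, true_and, iff_true]
          omega
        rw [this, Fin.sum_univ_one, hki]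
      · rw [Fin.sum_univ_one, hki]
    · have hpos := Groth.Agent.Lib.Helper16.pairing_pos_symm P (a i) k hi2
      obtain ⟨k', hk'root⟩ :=
        Groth.Agent.Lib.Helper16.root_sub_root_mem_of_pairing_pos P k (a i) hpos hki
      let m' : Fin n → ℕ := Function.update m i (m i - 1)
      have hm'sum : ∑ j, m' j = T := by
        have h1 : ∑ j, m j = ∑ j, m' j + 1 := by
          rw [← Finset.add_sum_erase _ _ (Finset.mem_univ i),
            ← Finset.add_sum_erase Finset.univ m' (Finset.mem_univ i)]
          have h2 : ∑ j ∈ Finset.univ.erase i, m' j = ∑ j ∈ Finset.univ.erase i, m j := by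
            apply Finset.sum_congr rfl
            intro j hj
            exact Function.update_of_ne (Finset.ne_of_mem_erase hj) _ _
          have h3 : m' i = m i - 1 := Function.update_self _ _ _
          rw [h2, h3]
          omega
        omega
      have hk'sum : P.root k' = ∑ j, m' j • P.root (a j) := by
        rw [hk'root, hk, ← Finset.add_sum_erase _ _ (Finset.mem_univ i),
          ← Finset.add_sum_erase Finset.univ (fun j => m' j • P.root (a j)) (Finset.mem_univ i)]
        have h2 : ∑ j ∈ Finset.univ.erase i, m' j • P.root (a j) =
            ∑ j ∈ Finset.univ.erase i, m j • P.root (a j) := by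
          apply Finset.sum_congr rfl
          intro j hj
          have : m' j = m j := Function.update_of_ne (Finset.ne_of_mem_erase hj) _ _
          rw [this]
        have h3 : m' i = m i - 1 := Function.update_self _ _ _
        rw [h2, h3]
        have h4 : m i = (m i - 1) + 1 := by omega
        conv_lhs => rw [h4, add_smul, one_smul]
        abel
      obtain ⟨l, b, hl, hchain, hsum⟩ := ih m' k' hm'sum hk'sum
      refine ⟨l + 1, Fin.snoc b i, Nat.succ_pos l, ?_, ?_⟩
      · intro p
        rw [Finset.sum_filter, Fin.sum_univ_castSucc]
        induction p using Fin.lastCases with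
        | last =>
          refine ⟨k, ?_⟩
          simp only [Fin.val_last, Fin.snoc_castSucc, Fin.snoc_last, le_refl, if_true]
          have : ∀ q : Fin l, (q.castSucc.val ≤ l) := fun q => by
            simp only [Fin.val_castSucc]
            exact q.isLt.le
          simp only [this, if_true]
          rw [← hsum, hk'root]
          abel
        | cast p' =>
          obtain ⟨j, hj⟩ := hchain p'
          refine ⟨j, ?_⟩
          rw [hj, Finset.sum_filter]
          simp only [Fin.val_castSucc, Fin.snoc_castSucc, Fin.val_last]
          have : ¬ (l ≤ p'.val) := not_le.mpr p'.isLt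
          rw [if_neg this, add_zero]
      · rw [Fin.sum_univ_castSucc]
        simp only [Fin.snoc_castSucc, Fin.snoc_last]
        rw [← hsum, hk'root]
        abel

/-- If a root is a positive integer combination of roots α_i, then it can be reached from 0 by
successively adding roots taken among the α_i in such a way that every partial sum is a root. -/
theorem result {ι M N : Type*} [AddCommGroup M] [AddCommGroup N]
    (P : RootPairing ι ℤ M N) [Finite ι] {n : ℕ} (a : Fin n → ι) (m : Fin n → ℕ)
    (hm : ∀ i, 0 < m i) (k : ι) (hk : P.root k = ∑ i, m i • P.root (a i)) :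
    ∃ (l : ℕ) (b : Fin l → Fin n), 0 < l ∧
      (∀ p : Fin l, ∃ j : ι, P.root j = ∑ q ∈ Finset.univ.filter (fun q : Fin l => q.val ≤ p.val), P.root (a (b q))) ∧
      P.root k = ∑ q, P.root (a (b q)) := by
  exact chain_aux P a (∑ i, m i) m k rfl hk

end Groth.Agent.S5451
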