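import Groth.Statements.S5455
import Groth.Agent.Lib.Helper16.RootD8

set_option autoImplicit false
open RootPairing
open scoped Pointwise
open RootD

namespace Groth.Agent.S5455

/-- The Weyl group acts transitively on the set of systems of simple roots (root-only sense). -/
theorem result {ι M N : Type*} [AddCommGroup M] [AddCommGroup N]
    (P : RootPairing ι ℤ M N) [Finite ι] (Δ Δ' : Set ι) (hΔ : RootD.IsSimpleSys P Δ)
    (hΔ' : RootD.IsSimpleSys P Δ') :
    ∃ g : P.Aut, g ∈ P.weylGroup ∧ (fun i : ι => g • i) '' Δ = Δ' := by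
  obtain ⟨g, hgW, hg⟩ := Lib.Helper16.exists_weyl_pos_subset hΔ
    (Lib.Helper16.posOf_closed (P := P) Δ') (Lib.Helper16.posOf_cover hΔ')
  refine ⟨g, hgW, ?_⟩
  apply Lib.Helper16.simpleSys_eq_of_posOf_eq (Lib.Helper16.isSimpleSys_image g hΔ) hΔ'
  rw [Lib.Helper16.posOf_image]
  apply Lib.Helper16.eq_of_subset_of_cover_disjoint (P := P)
  · rintro _ ⟨k, hk, rfl⟩
    exact hg k hk
  · exact Lib.Helper16.cover_image g (Lib.Helper16.posOf_cover hΔ)
  · exact Lib.Helper16.posOf_disjoint hΔ'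

end Groth.Agent.S5455
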