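import Groth.Statements.S5457
import Mathlib.Tactic
-- import your own Groth.Agent.* helpers here

set_option autoImplicit false
open RootD

namespace Groth.Agent.S5457

/-- Given a translation-invariant partial order (pulled back along an additive map to an ordered abelian
group) for which every root is > 0 or < 0, the roots > 0 form a system of positive roots. -/
theorem result {ι M N : Type*} [AddCommGroup M] [AddCommGroup N]
    (P : RootPairing ι ℤ M N) [Finite ι] {G : Type*} [AddCommGroup G] [PartialOrder G]
    [IsOrderedAddMonoid G] (φ : M →+ G) (hφ : ∀ i : ι, 0 < φ (P.root i) ∨ φ (P.root i) < 0) :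
    RootD.IsPosSys P {i : ι | 0 < φ (P.root i)} := by
  have hnegroot : ∀ i : ι, P.root (P.reflectionPerm i i) = -P.root i := by
    intro i
    rw [P.root_reflectionPerm, P.reflection_apply_self]
  refine ⟨?_, ?_, ?_⟩
  · intro i hi h
    simp only [Set.mem_ofPred_eq] at hi h
    rw [hnegroot, map_neg] at h
    have : φ (P.root i) < 0 := by
      have := neg_pos.mp h
      exact this
    exact lt_asymm hi this
  · intro i
    rcases hφ i with h | h
    · exact Or.inl h
    · right
      simp only [Set.mem_ofPred_eq]
      rw [hnegroot, map_neg]
      exact neg_pos.mpr h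
  · intro k n hn hk
    have hnonneg : ∀ x ∈ RootD.natSpan P {i : ι | 0 < φ (P.root i)}, 0 ≤ φ x := by
      intro x hx
      unfold RootD.natSpan at hx
      induction hx using AddSubmonoid.closure_induction with
      | mem y hy =>
        obtain ⟨i, hi, rfl⟩ := hy
        exact le_of_lt hi
      | zero => rw [map_zero]
      | add a b _ _ ha hb =>
        rw [map_add]
        exact add_nonneg ha hb
    have h1 := hnonneg _ hk
    rw [map_nsmul] at h1
    rcases hφ k with h | h
    · exact h
    · exfalso
      have h2 : 0 < n • (-φ (P.root k)) := nsmul_pos (neg_pos.mpr h) hn.ne'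
      rw [smul_neg] at h2
      have h3 := neg_pos.mp h2
      exact absurd h1 (not_le_of_gt h3)

end Groth.Agent.S5457
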