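import Groth.Statements.S5459
import Groth.Agent.Lib.Helper16.RootD8

set_option autoImplicit false
open RootD

namespace Groth.Agent.S5459

/-- A closed set of roots containing each root or its opposite is, for a suitable system of simple roots
Δ and a subset Δ' ⊆ Δ, the set of roots lying in ℕΔ ∪ (-ℕΔ'). -/
theorem result {ι M N : Type*} [AddCommGroup M] [AddCommGroup N]
    (P : RootPairing ι ℤ M N) [Finite ι] (P' : Set ι)
    (hP2 : ∀ i : ι, i ∈ P' ∨ P.reflectionPerm i i ∈ P') (hcl : RootD.IsClosedSub P P') :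
    ∃ Δ Δ' : Set ι, RootD.IsSimpleSys P Δ ∧ Δ' ⊆ Δ ∧
      P' = RootD.posOf P Δ ∪ {k : ι | -P.root k ∈ RootD.natSpan P Δ'} := by
  obtain ⟨Δ₀, hΔ₀⟩ := Lib.Helper16.exists_simpleSys P
  obtain ⟨g, _, hg⟩ := Lib.Helper16.exists_weyl_pos_subset hΔ₀ hcl hP2
  have hΔ := Lib.Helper16.isSimpleSys_image g hΔ₀
  have hSP : RootD.posOf P ((fun i : ι => g • i) '' Δ₀) ⊆ P' := by
    rw [Lib.Helper16.posOf_image]
    rintro _ ⟨k, hk, rfl⟩
    exact hg k hk
  exact ⟨_, _, hΔ, fun i hi => hi.1, Lib.Helper16.closed_superset_posOf_eq hΔ hcl hSP⟩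

end Groth.Agent.S5459
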