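import Groth.Statements.S5460
import Groth.Agent.Lib.Helper16.RootD13

set_option autoImplicit false
open RootD

namespace Groth.Agent.S5460

/-- A set of roots R' is the trace on R of a vector subspace (every root with a positive multiple in the
span of R' lies in R') if and only if R' is the set of roots in the span of a subset Δ' of some
system of simple roots Δ. -/
theorem result {ι M N : Type*} [AddCommGroup M] [AddCommGroup N]
    (P : RootPairing ι ℤ M N) [Finite ι] (R' : Set ι) :
    (∀ k : ι, (∃ n : ℕ, 0 < n ∧ n • P.root k ∈ Submodule.span ℤ (P.root '' R')) → k ∈ R') ↔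
      ∃ Δ Δ' : Set ι, RootD.IsSimpleSys P Δ ∧ Δ' ⊆ Δ ∧ R' = RootD.inSpan P Δ' := by
  classical
  constructor
  · intro hsat
    obtain ⟨g, hg⟩ := Lib.Helper16.exists_functional_ker_eq (P := P) (R' := R') hsat
    have hcl : RootD.IsClosedSub P {k | 0 ≤ g (P.root k)} := by
      intro i j k hi hj hk
      change 0 ≤ g (P.root k)
      rw [hk, map_add]
      exact add_nonneg hi hj
    have hP2 : ∀ i, i ∈ {k | 0 ≤ g (P.root k)} ∨
        P.reflectionPerm i i ∈ {k | 0 ≤ g (P.root k)} := by
      intro i
      rcases le_total 0 (g (P.root i)) with h | h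
      · left; exact h
      · right
        change 0 ≤ g (P.root _)
        rw [Lib.Helper16.root_negIdx, map_neg]
        exact neg_nonneg.mpr h
    obtain ⟨Δ₀, hΔ₀⟩ := Lib.Helper16.exists_simpleSys P
    obtain ⟨w, _, hw⟩ := Lib.Helper16.exists_weyl_pos_subset hΔ₀ hcl hP2
    have hΔ := Lib.Helper16.isSimpleSys_image w hΔ₀
    set Δ := (fun i : ι => w • i) '' Δ₀ with hΔdef
    have hSP : RootD.posOf P Δ ⊆ {k | 0 ≤ g (P.root k)} := by
      rw [hΔdef, Lib.Helper16.posOf_image]
      rintro _ ⟨k, hk, rfl⟩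
      exact hw k hk
    have hsub : {i | i ∈ Δ ∧ i ∈ R'} ⊆ Δ := fun i hi => hi.1
    refine ⟨Δ, {i | i ∈ Δ ∧ i ∈ R'}, hΔ, hsub, ?_⟩
    apply Set.Subset.antisymm
    · intro k hk
      rw [Lib.Helper16.mem_inSpan_iff hΔ hsub]
      intro l hl
      have hgl : 0 < g (P.root (l : ι)) := by
        have h1 : 0 ≤ g (P.root (l : ι)) := hSP (Lib.Helper16.simple_mem_posOf _ l.2)
        have h2 : g (P.root (l : ι)) ≠ 0 := by
          intro h0
          exact hl ⟨l.2, (hg _).mp h0⟩
        omega
      have hgk : g (P.root k) = 0 := (hg k).mpr hk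
      rw [Lib.Helper16.root_eq_sum hΔ k, map_sum] at hgk
      have hterm : ∀ l' ∈ (Lib.Helper16.co hΔ k).support,
          g (Lib.Helper16.co hΔ k l' • P.root (l' : ι)) =
            Lib.Helper16.co hΔ k l' * g (P.root (l' : ι)) := by
        intro l' _
        rw [map_zsmul, smul_eq_mul]
      rw [Finset.sum_congr rfl hterm] at hgk
      have hnn : ∀ l' : Δ, 0 ≤ g (P.root (l' : ι)) :=
        fun l' => hSP (Lib.Helper16.simple_mem_posOf _ l'.2)
      by_contra hne
      have hmem : l ∈ (Lib.Helper16.co hΔ k).support := Finsupp.mem_support_iff.mpr hne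
      rcases Lib.Helper16.co_sign hΔ k with hs | hs
      · have h3 := (Finset.sum_eq_zero_iff_of_nonneg
          (fun l' _ => mul_nonneg (hs l') (hnn l'))).mp hgk l hmem
        rcases mul_eq_zero.mp h3 with h4 | h4
        · exact hne h4
        · omega
      · have h3 := (Finset.sum_eq_zero_iff_of_nonpos
          (fun l' _ => mul_nonpos_of_nonpos_of_nonneg (hs l') (hnn l'))).mp hgk l hmem
        rcases mul_eq_zero.mp h3 with h4 | h4
        · exact hne h4
        · omega
    · intro k hk
      rw [← hg k]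
      have hvan : ∀ v ∈ Submodule.span ℤ (P.root '' {i | i ∈ Δ ∧ i ∈ R'}), g v = 0 := by
        intro v hv
        induction hv using Submodule.span_induction with
        | mem x hx =>
          obtain ⟨j, hj, rfl⟩ := hx
          exact (hg j).mpr hj.2
        | zero => exact map_zero _
        | add x y _ _ hx hy => rw [map_add, hx, hy, add_zero]
        | smul a x _ hx => rw [map_smul, hx, smul_zero]
      exact hvan _ hk
  · rintro ⟨Δ, Δ', hΔ, hsub, rfl⟩
    rintro k ⟨n, hn, hmem⟩
    have hle : Submodule.span ℤ (P.root '' RootD.inSpan P Δ') ≤ Submodule.span ℤ (P.root '' Δ') := by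
      rw [Submodule.span_le]
      rintro _ ⟨j, hj, rfl⟩
      exact hj
    have hmem' := hle hmem
    rw [Lib.Helper16.mem_inSpan_iff hΔ hsub]
    intro l hl
    have h1 := Lib.Helper16.coV_eq_zero_of_mem_span hΔ hsub l hl _ hmem'
    have h2 : (⟨n • P.root k, Lib.Helper16.span_image_le_spanΔ hsub hmem'⟩ :
        Lib.Helper16.spanΔ P Δ) = n • Lib.Helper16.rootV hΔ k := rfl
    rw [h2, Lib.Helper16.coV_nsmul, Finsupp.smul_apply, ← Lib.Helper16.co_def] at h1
    have h3 : (n : ℤ) * Lib.Helper16.co hΔ k l = 0 := by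
      rw [← h1]
      simp
    rcases mul_eq_zero.mp h3 with h4 | h4
    · omega
    · exact h4

end Groth.Agent.S5460
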