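import Groth.Statements.S5461
import Groth.Agent.Lib.Helper16.RootD13
import Groth.Agent.S5456

set_option autoImplicit false
open RootD

namespace Groth.Agent.S5461

/-- If R' is the trace of a vector subspace on the roots, every system of simple roots Δ' of the root
datum with roots R' is contained in a system of simple roots Δ of the whole datum, and R' is the set
of roots in the span of Δ'. -/
theorem result {ι M N : Type*} [AddCommGroup M] [AddCommGroup N]
    (P : RootPairing ι ℤ M N) [Finite ι] (R' : Set ι)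
    (hsat : ∀ k : ι, (∃ n : ℕ, 0 < n ∧ n • P.root k ∈ Submodule.span ℤ (P.root '' R')) → k ∈ R')
    (Δ' : Set ι) (hΔ'R : Δ' ⊆ R') (hli : LinearIndepOn ℤ P.root Δ')
    (hgen : ∀ k ∈ R', P.root k ∈ RootD.natSpan P Δ' ∨ -P.root k ∈ RootD.natSpan P Δ') :
    ∃ Δ : Set ι, RootD.IsSimpleSys P Δ ∧ Δ' ⊆ Δ ∧ R' = RootD.inSpan P Δ' := by
  classical
  obtain ⟨g, hg⟩ := Lib.Helper16.exists_functional_ker_eq (P := P) (R' := R') hsat
  have hnat_le : ∀ x ∈ RootD.natSpan P Δ', x ∈ Submodule.span ℤ (P.root '' Δ') := by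
    intro x hx
    have : RootD.natSpan P Δ' ≤ (Submodule.span ℤ (P.root '' Δ')).toAddSubmonoid := by
      unfold RootD.natSpan
      rw [AddSubmonoid.closure_le]
      exact Submodule.subset_span
    exact this hx
  have hR'eq : R' = RootD.inSpan P Δ' := by
    apply Set.Subset.antisymm
    · intro k hk
      rcases hgen k hk with h | h
      · exact hnat_le _ h
      · have := hnat_le _ h
        exact (Submodule.neg_mem_iff _).mp this
    · intro k hk
      apply hsat k
      refine ⟨1, Nat.one_pos, ?_⟩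
      rw [one_smul]
      exact Submodule.span_mono (Set.image_mono hΔ'R) hk
  set S : Set ι := {k | 0 < g (P.root k) ∨ (k ∈ R' ∧ P.root k ∈ RootD.natSpan P Δ')} with hSdef
  have hSnn : ∀ k ∈ S, 0 ≤ g (P.root k) := by
    rintro k (h | ⟨h, _⟩)
    · exact le_of_lt h
    · exact le_of_eq ((hg k).mpr h).symm
  have hS0 : ∀ k ∈ S, g (P.root k) = 0 → k ∈ R' ∧ P.root k ∈ RootD.natSpan P Δ' := by
    rintro k (h | h) h0
    · omega
    · exact h
  have hS : RootD.IsPosSys P S := by
    rw [Groth.Agent.S5456.result]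
    refine ⟨?_, ?_, ?_⟩
    · intro i hi hni
      have h1 := hSnn i hi
      have h2 := hSnn _ hni
      rw [Lib.Helper16.root_negIdx, map_neg] at h2
      have h0 : g (P.root i) = 0 := by omega
      have h3 := (hS0 i hi h0).2
      have h4 := (hS0 _ hni (by rw [Lib.Helper16.root_negIdx, map_neg, h0, neg_zero])).2
      rw [Lib.Helper16.root_negIdx] at h4
      exact P.ne_zero i (Lib.Helper16.eq_zero_of_mem_natSpan_of_neg_mem hli _ h3 h4)
    · intro i
      rcases lt_trichotomy (g (P.root i)) 0 with h | h | h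
      · right; left
        rw [Lib.Helper16.root_negIdx, map_neg]
        omega
      · have hiR : i ∈ R' := (hg i).mp h
        rcases hgen i hiR with h1 | h1
        · left; right; exact ⟨hiR, h1⟩
        · right; right
          refine ⟨(hg _).mp ?_, ?_⟩
          · rw [Lib.Helper16.root_negIdx, map_neg, h, neg_zero]
          · rw [Lib.Helper16.root_negIdx]; exact h1
      · left; left; exact h
    · intro i j k hi hj hk
      have h1 := hSnn i hi
      have h2 := hSnn j hj
      by_cases h0 : 0 < g (P.root k)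
      · left; exact h0
      · right
        rw [hk, map_add] at h0
        have hi0 : g (P.root i) = 0 := by omega
        have hj0 : g (P.root j) = 0 := by omega
        refine ⟨(hg k).mp ?_, ?_⟩
        · rw [hk, map_add, hi0, hj0, add_zero]
        · rw [hk]
          exact add_mem (hS0 i hi hi0).2 (hS0 j hj hj0).2
  obtain ⟨Δ, hΔ, hΔS⟩ := Lib.Helper16.exists_simpleSys_posOf_eq hS
  refine ⟨Δ, hΔ, ?_, hR'eq⟩
  intro l hl
  have hlS : l ∈ S := Or.inr ⟨hΔ'R hl, AddSubmonoid.subset_closure ⟨l, hl, rfl⟩⟩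
  have hlpos : l ∈ RootD.posOf P Δ := hΔS ▸ hlS
  rw [Groth.Agent.S5450.result P Δ hΔ l hlpos]
  rintro ⟨a, b, ha, hb, hab⟩
  rw [hΔS] at ha hb
  have hl0 : g (P.root l) = 0 := (hg l).mpr (hΔ'R hl)
  have h1 := hSnn a ha
  have h2 := hSnn b hb
  rw [hab, map_add] at hl0
  have ha0 : g (P.root a) = 0 := by omega
  have hb0 : g (P.root b) = 0 := by omega
  exact Lib.Helper16.not_sum_of_linIndep hli l hl _ _ (hS0 a ha ha0).2 (hS0 b hb hb0).2
    (P.ne_zero a) (P.ne_zero b) hab

end Groth.Agent.S5461
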