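import Groth.Statements.S5464
import Groth.Agent.Lib.Helper16.RootD14

set_option autoImplicit false
open RootD

namespace Groth.Agent.S5464

/-- Given an indivisible root α and a root γ not proportional to it, there is a system of simple roots
containing α and a simple root β of it with γ = aα + bβ, a, b ∈ ℕ. -/
theorem result {ι M N : Type*} [AddCommGroup M] [AddCommGroup N]
    (P : RootPairing ι ℤ M N) [Finite ι] (i k : ι) (hα : RootD.IsIndiv P i)
    (hli : LinearIndependent ℤ ![P.root i, P.root k]) :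
    ∃ Δ : Set ι, RootD.IsSimpleSys P Δ ∧ i ∈ Δ ∧
      ∃ j ∈ Δ, ∃ a b : ℕ, P.root k = a • P.root i + b • P.root j := by
  classical
  have htf := Lib.Helper16.torsionFreeM P
  obtain ⟨u, hu⟩ := Lib.Helper16.exists_functional_ker_eq (P := P)
    (Lib.Helper16.isSat_satSub (Submodule.span ℤ {P.root i}))
  obtain ⟨g, hg⟩ := Lib.Helper16.exists_functional_ker_eq (P := P)
    (Lib.Helper16.isSat_satSub (Submodule.span ℤ {P.root i, P.root k}))
  have hk1 : P.root k ∉ Lib.Helper16.satSub (Submodule.span ℤ {P.root i}) := by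
    rintro ⟨n, hn, hmem⟩
    obtain ⟨c, hc⟩ := Submodule.mem_span_singleton.mp hmem
    rw [LinearIndependent.pair_iff] at hli
    have := hli c (-(n : ℤ)) (by rw [hc, neg_smul, natCast_zsmul, add_neg_cancel])
    omega
  have huk : u (P.root k) ≠ 0 := fun h => hk1 ((hu k).mp h)
  obtain ⟨u', hu', hu'k⟩ : ∃ u' : M →ₗ[ℤ] ℤ,
      (∀ m, u' (P.root m) = 0 ↔ P.root m ∈ Lib.Helper16.satSub (Submodule.span ℤ {P.root i})) ∧
      0 < u' (P.root k) := by
    rcases lt_or_gt_of_ne huk with h | h
    · refine ⟨-u, fun m => ?_, ?_⟩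
      · rw [LinearMap.neg_apply, neg_eq_zero]; exact hu m
      · rw [LinearMap.neg_apply]; omega
    · exact ⟨u, hu, h⟩
  obtain ⟨K₂, hK₂, hlex₂⟩ := Lib.Helper16.exists_lex (P := P) u' (P.coroot' i)
  obtain ⟨K₁, hK₁, hlex₁⟩ := Lib.Helper16.exists_lex (P := P) g (K₂ • u' + P.coroot' i)
  set r₁ : M →ₗ[ℤ] ℤ := K₂ • u' + P.coroot' i with hr₁
  set f : M →ₗ[ℤ] ℤ := K₁ • g + r₁ with hf
  have hf_g0 : ∀ m, g (P.root m) = 0 → f (P.root m) = r₁ (P.root m) := by
    intro m hm
    rw [hf, LinearMap.add_apply, LinearMap.smul_apply, hm, smul_zero, zero_add]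
  have hr_u0 : ∀ m, u' (P.root m) = 0 → r₁ (P.root m) = P.pairing m i := by
    intro m hm
    rw [hr₁, LinearMap.add_apply, LinearMap.smul_apply, hm, smul_zero, zero_add]
    rfl
  have hfg : ∀ m, 0 < f (P.root m) → 0 ≤ g (P.root m) := by
    intro m hm
    by_contra hneg
    push Not at hneg
    have := (hlex₁ m).2 hneg
    omega
  have hfu : ∀ m, 0 < f (P.root m) → g (P.root m) = 0 → 0 ≤ u' (P.root m) := by
    intro m hm hg0
    by_contra hneg
    push Not at hneg
    have := (hlex₂ m).2 hneg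
    rw [hf_g0 m hg0] at hm
    omega
  have hfh : ∀ m, 0 < f (P.root m) → g (P.root m) = 0 → u' (P.root m) = 0 →
      0 < P.pairing m i := by
    intro m hm hg0 hu0
    rw [hf_g0 m hg0, hr_u0 m hu0] at hm
    exact hm
  have hgen : ∀ m, f (P.root m) ≠ 0 := by
    intro m
    rcases lt_trichotomy (g (P.root m)) 0 with hg' | hg' | hg'
    · have := (hlex₁ m).2 hg'; omega
    · rw [hf_g0 m hg']
      rcases lt_trichotomy (u' (P.root m)) 0 with hu'' | hu'' | hu''
      · have := (hlex₂ m).2 hu''; omega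
      · rw [hr_u0 m hu'']
        obtain ⟨n, hn, hmem⟩ := (hu' m).mp hu''
        obtain ⟨c, hc⟩ := Submodule.mem_span_singleton.mp hmem
        intro h0
        have e1 : (n : ℤ) * P.pairing m i = 2 * c := by
          have h := congrArg (fun x => P.toLinearMap x (P.coroot i)) hc
          simp only [map_zsmul, map_nsmul, LinearMap.smul_apply, P.root_coroot_eq_pairing,
            P.pairing_same, smul_eq_mul, nsmul_eq_mul] at h
          linarith
        rw [h0, mul_zero] at e1
        have hc0 : c = 0 := by omega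
        rw [hc0, zero_smul] at hc
        exact P.ne_zero m (Lib.Helper16.nsmul_eq_zero_imp P n hn _ hc.symm)
      · have := (hlex₂ m).1 hu''; omega
    · have := (hlex₁ m).1 hg'; omega
  have hΔ := Lib.Helper16.simpleOf_isSimpleSys P f hgen
  have hposeq : RootD.posOf P (Lib.Helper16.simpleOf P f) = {m | 0 < f (P.root m)} :=
    Lib.Helper16.posOf_simpleOf P f
  have hgi : g (P.root i) = 0 :=
    (hg i).mpr (Lib.Helper16.le_satSub _ (Submodule.subset_span (by simp)))
  have hui : u' (P.root i) = 0 :=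
    (hu' i).mpr (Lib.Helper16.le_satSub _ (Submodule.subset_span (by simp)))
  have hfi : 0 < f (P.root i) := by
    rw [hf_g0 i hgi, hr_u0 i hui, P.pairing_same]
    norm_num
  have hiΔ : i ∈ Lib.Helper16.simpleOf P f := by
    refine ⟨hfi, ?_⟩
    intro a ha b hb hab
    exfalso
    have ha' : 0 < f (P.root a) := ha
    have hb' : 0 < f (P.root b) := hb
    have hga := hfg a ha'
    have hgb := hfg b hb'
    have hg_sum : g (P.root a) + g (P.root b) = 0 := by rw [← map_add, ← hab, hgi]
    have hga0 : g (P.root a) = 0 := by omega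
    have hgb0 : g (P.root b) = 0 := by omega
    have hua := hfu a ha' hga0
    have hub := hfu b hb' hgb0
    have hu_sum : u' (P.root a) + u' (P.root b) = 0 := by rw [← map_add, ← hab, hui]
    have hua0 : u' (P.root a) = 0 := by omega
    have hub0 : u' (P.root b) = 0 := by omega
    have hpa := hfh a ha' hga0 hua0
    have hpb := hfh b hb' hgb0 hub0
    have hra := Lib.Helper16.root_eq_or_eq_two_smul i a hα ((hu' a).mp hua0) hpa
    have hrb := Lib.Helper16.root_eq_or_eq_two_smul i b hα ((hu' b).mp hub0) hpb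
    have hne := P.ne_zero i
    rcases hra with hra | hra <;> rcases hrb with hrb | hrb <;> rw [hra, hrb] at hab
    · have e : (1 : ℤ) • P.root i = 0 := by
        rw [show (1 : ℤ) • P.root i = (P.root i + P.root i) - P.root i by module]
        exact sub_eq_zero.mpr hab.symm
      rcases smul_eq_zero.mp e with h | h
      · omega
      · exact hne h
    · have e : (2 : ℤ) • P.root i = 0 := by
        rw [show (2 : ℤ) • P.root i = (P.root i + (2 : ℤ) • P.root i) - P.root i by module]
        exact sub_eq_zero.mpr hab.symm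
      rcases smul_eq_zero.mp e with h | h
      · omega
      · exact hne h
    · have e : (2 : ℤ) • P.root i = 0 := by
        rw [show (2 : ℤ) • P.root i = ((2 : ℤ) • P.root i + P.root i) - P.root i by module]
        exact sub_eq_zero.mpr hab.symm
      rcases smul_eq_zero.mp e with h | h
      · omega
      · exact hne h
    · have e : (3 : ℤ) • P.root i = 0 := by
        rw [show (3 : ℤ) • P.root i = ((2 : ℤ) • P.root i + (2 : ℤ) • P.root i) - P.root i by
          module]
        exact sub_eq_zero.mpr hab.symm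
      rcases smul_eq_zero.mp e with h | h
      · omega
      · exact hne h
  have hgk : g (P.root k) = 0 :=
    (hg k).mpr (Lib.Helper16.le_satSub _ (Submodule.subset_span (by simp)))
  have hkpos : k ∈ RootD.posOf P (Lib.Helper16.simpleOf P f) := by
    rw [hposeq]
    change 0 < f (P.root k)
    rw [hf_g0 k hgk]
    exact (hlex₂ k).1 hu'k
  have hk0 := (Lib.Helper16.mem_posOf_iff hΔ k).mp hkpos
  have hstepB : ∀ l : Lib.Helper16.simpleOf P f, Lib.Helper16.co hΔ k l ≠ 0 →
      g (P.root (l : ι)) = 0 := by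
    intro l hne
    have hgk' := hgk
    rw [Lib.Helper16.root_eq_sum hΔ k, map_sum] at hgk'
    have hterm : ∀ l' ∈ (Lib.Helper16.co hΔ k).support,
        g (Lib.Helper16.co hΔ k l' • P.root (l' : ι)) =
          Lib.Helper16.co hΔ k l' * g (P.root (l' : ι)) := by
      intro l' _
      rw [map_zsmul, smul_eq_mul]
    rw [Finset.sum_congr rfl hterm] at hgk'
    have hnn : ∀ l' : Lib.Helper16.simpleOf P f, 0 ≤ g (P.root (l' : ι)) := by
      intro l'
      apply hfg
      have : (l' : ι) ∈ RootD.posOf P (Lib.Helper16.simpleOf P f) :=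
        Lib.Helper16.simple_mem_posOf _ l'.2
      rw [hposeq] at this
      exact this
    have hmem : l ∈ (Lib.Helper16.co hΔ k).support := Finsupp.mem_support_iff.mpr hne
    have h3 := (Finset.sum_eq_zero_iff_of_nonneg
      (fun l' _ => mul_nonneg (hk0 l') (hnn l'))).mp hgk' l hmem
    rcases mul_eq_zero.mp h3 with h4 | h4
    · exact absurd h4 hne
    · exact h4
  have hstepA : ∃ l : Lib.Helper16.simpleOf P f, l ≠ ⟨i, hiΔ⟩ ∧ Lib.Helper16.co hΔ k l ≠ 0 := by
    by_contra hne
    push Not at hne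
    have hco : Lib.Helper16.co hΔ k =
        (Lib.Helper16.co hΔ k ⟨i, hiΔ⟩) • Lib.Helper16.co hΔ i := by
      rw [Lib.Helper16.co_simple hΔ i hiΔ]
      ext l
      rw [Finsupp.smul_apply, Finsupp.single_apply]
      by_cases hl : (⟨i, hiΔ⟩ : Lib.Helper16.simpleOf P f) = l
      · rw [if_pos hl, ← hl]
        simp
      · rw [if_neg hl]
        have := hne l (Ne.symm hl)
        simp [this]
    rw [Lib.Helper16.co_def, Lib.Helper16.co_def hΔ i, ← Lib.Helper16.coV_zsmul] at hco
    have h1 := Lib.Helper16.coV_injective hΔ hco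
    have h2 : P.root k = (Lib.Helper16.co hΔ k ⟨i, hiΔ⟩) • P.root i := congrArg Subtype.val h1
    rw [LinearIndependent.pair_iff] at hli
    have := hli (-(Lib.Helper16.co hΔ k ⟨i, hiΔ⟩)) 1 (by rw [h2]; module)
    exact one_ne_zero this.2
  obtain ⟨l, hli', hlne⟩ := hstepA
  have hlmem := (hg _).mp (hstepB l hlne)
  obtain ⟨n, hn, hnmem⟩ := hlmem
  obtain ⟨x, y, hxy⟩ := Submodule.mem_span_pair.mp hnmem
  have hcoord : n • Lib.Helper16.co hΔ (l : ι) =
      x • Lib.Helper16.co hΔ i + y • Lib.Helper16.co hΔ k := by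
    rw [Lib.Helper16.co_def, Lib.Helper16.co_def, Lib.Helper16.co_def,
      ← Lib.Helper16.coV_nsmul, ← Lib.Helper16.coV_zsmul, ← Lib.Helper16.coV_zsmul,
      ← Lib.Helper16.coV_add]
    congr 1
    apply Subtype.ext
    exact hxy.symm
  rw [Lib.Helper16.co_simple hΔ (l : ι) l.2, Lib.Helper16.co_simple hΔ i hiΔ] at hcoord
  have hcoord' : ∀ l' : Lib.Helper16.simpleOf P f,
      (n : ℤ) * (Finsupp.single l (1 : ℤ)) l' =
        x * (Finsupp.single (⟨i, hiΔ⟩ : Lib.Helper16.simpleOf P f) (1 : ℤ)) l' +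
          y * Lib.Helper16.co hΔ k l' := by
    intro l'
    have h5 := DFunLike.congr_fun hcoord l'
    simp only [Finsupp.smul_apply, Finsupp.add_apply, smul_eq_mul, nsmul_eq_mul,
      Subtype.coe_eta] at h5
    exact h5
  have hyne : y ≠ 0 := by
    intro hy0
    have h5 := hcoord' l
    rw [hy0, Finsupp.single_eq_same, Finsupp.single_eq_of_ne hli'] at h5
    have : (0 : ℤ) < n := by exact_mod_cast hn
    omega
  have hother : ∀ l' : Lib.Helper16.simpleOf P f, l' ≠ l → l' ≠ ⟨i, hiΔ⟩ →
      Lib.Helper16.co hΔ k l' = 0 := by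
    intro l' h1 h2
    have h5 := hcoord' l'
    rw [Finsupp.single_eq_of_ne h1, Finsupp.single_eq_of_ne h2] at h5
    have h6 : y * Lib.Helper16.co hΔ k l' = 0 := by omega
    rcases mul_eq_zero.mp h6 with h7 | h7
    · exact absurd h7 hyne
    · exact h7
  refine ⟨_, hΔ, hiΔ, (l : ι), l.2, (Lib.Helper16.co hΔ k ⟨i, hiΔ⟩).toNat,
    (Lib.Helper16.co hΔ k l).toNat, ?_⟩
  have hfin : Lib.Helper16.co hΔ k =
      (Lib.Helper16.co hΔ k ⟨i, hiΔ⟩).toNat • Lib.Helper16.co hΔ i +
        (Lib.Helper16.co hΔ k l).toNat • Lib.Helper16.co hΔ (l : ι) := by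
    rw [Lib.Helper16.co_simple hΔ (l : ι) l.2, Lib.Helper16.co_simple hΔ i hiΔ]
    ext l'
    simp only [Finsupp.smul_apply, Finsupp.add_apply, Finsupp.single_apply]
    have hi0 := hk0 ⟨i, hiΔ⟩
    have hl0 := hk0 l
    by_cases h1 : l' = l
    · rw [h1, if_neg (Ne.symm hli'), if_pos rfl]
      simp
      omega
    · by_cases h2 : l' = ⟨i, hiΔ⟩
      · rw [h2, if_pos rfl, if_neg hli']
        simp
        omega
      · rw [if_neg (Ne.symm h2), if_neg (Ne.symm h1), hother l' h1 h2]
        simp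
  rw [Lib.Helper16.co_def, Lib.Helper16.co_def, Lib.Helper16.co_def,
    ← Lib.Helper16.coV_nsmul, ← Lib.Helper16.coV_nsmul, ← Lib.Helper16.coV_add] at hfin
  have h9 := Lib.Helper16.coV_injective hΔ hfin
  exact congrArg Subtype.val h9

end Groth.Agent.S5464
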