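import Groth.Statements.S5465
import Groth.Agent.Lib.Helper16.RootD5

set_option autoImplicit false
open RootD

namespace Groth.Agent.S5465

/-- A map from the roots to an abelian group that is odd and additive on pairs of roots whose sum is a
root extends uniquely to a homomorphism on the lattice generated by the roots. -/
theorem result {ι M N : Type*} [AddCommGroup M] [AddCommGroup N]
    (P : RootPairing ι ℤ M N) [Finite ι] {G : Type*} [AddCommGroup G] (f : ι → G)
    (hneg : ∀ i : ι, f (P.reflectionPerm i i) = -f i)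
    (hadd : ∀ i j k : ι, P.root k = P.root i + P.root j → f k = f i + f j) :
    ∃! φ : Submodule.span ℤ (Set.range P.root) →+ G,
      ∀ i : ι, φ ⟨P.root i, Submodule.subset_span (Set.mem_range_self i)⟩ = f i := by
  classical
  obtain ⟨Δ, hΔ⟩ := Lib.Helper16.exists_simpleSys P
  have hle : Submodule.span ℤ (Set.range P.root) ≤ Lib.Helper16.spanΔ P Δ := by
    rw [Submodule.span_le]
    rintro _ ⟨k, rfl⟩
    exact Lib.Helper16.root_mem_spanΔ hΔ k
  let ψ : Lib.Helper16.spanΔ P Δ →ₗ[ℤ] G :=
    (Lib.Helper16.bas hΔ).constr ℤ (fun l : Δ => f (l : ι))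
  let φ : Submodule.span ℤ (Set.range P.root) →+ G :=
    ψ.toAddMonoidHom.comp (Submodule.inclusion hle).toAddMonoidHom
  have hφ : ∀ k : ι, φ ⟨P.root k, Submodule.subset_span (Set.mem_range_self k)⟩ =
      ψ (Lib.Helper16.rootV hΔ k) := fun k => rfl
  have hsimple : ∀ l : Δ, ψ (Lib.Helper16.rootV hΔ (l : ι)) = f (l : ι) := by
    intro l
    have h1 : Lib.Helper16.rootV hΔ (l : ι) = Lib.Helper16.bas hΔ l := by
      apply Subtype.ext
      rw [Lib.Helper16.bas_apply]
      rfl
    rw [h1]
    exact (Lib.Helper16.bas hΔ).constr_basis ℤ _ l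
  have hreach : ∀ k : ι, Lib.Helper16.Reach P Δ k → ψ (Lib.Helper16.rootV hΔ k) = f k := by
    intro k hk
    induction hk with
    | base hi => exact hsimple ⟨_, hi⟩
    | @step i j k _ hj hk ih =>
      have h1 : Lib.Helper16.rootV hΔ k = Lib.Helper16.rootV hΔ i + Lib.Helper16.rootV hΔ j := by
        apply Subtype.ext
        exact hk
      rw [h1, map_add, ih, hsimple ⟨j, hj⟩, hadd i j k hk]
  have hpos : ∀ k : ι, k ∈ RootD.posOf P Δ → ψ (Lib.Helper16.rootV hΔ k) = f k := by
    intro k hk
    apply hreach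
    obtain ⟨c, hc, hck⟩ := (Lib.Helper16.mem_natSpan_iff_finsupp P Δ _).mp hk
    exact Lib.Helper16.reach_of_sum' P Δ c k hc hck.symm
  refine ⟨φ, ?_, ?_⟩
  · intro k
    change φ ⟨P.root k, _⟩ = f k
    rw [hφ]
    by_cases hk : k ∈ RootD.posOf P Δ
    · exact hpos k hk
    · have hk' := (Lib.Helper16.not_mem_posOf_iff hΔ k).mp hk
      have h1 := hpos _ hk'
      have h2 : Lib.Helper16.rootV hΔ (P.reflectionPerm k k) = -Lib.Helper16.rootV hΔ k := by
        apply Subtype.ext
        exact Lib.Helper16.root_negIdx P k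
      rw [h2, map_neg, hneg k] at h1
      exact neg_injective h1
  · intro φ' hφ'
    have key : ∀ (x : M) (hx : x ∈ Submodule.span ℤ (Set.range P.root)),
        φ' ⟨x, hx⟩ = φ ⟨x, hx⟩ := by
      intro x hx
      induction hx using Submodule.span_induction with
      | mem x hx =>
        obtain ⟨k, rfl⟩ := hx
        rw [hφ' k, hφ]
        by_cases hk : k ∈ RootD.posOf P Δ
        · exact (hpos k hk).symm
        · have hk' := (Lib.Helper16.not_mem_posOf_iff hΔ k).mp hk
          have h1 := hpos _ hk'
          have h2 : Lib.Helper16.rootV hΔ (P.reflectionPerm k k) = -Lib.Helper16.rootV hΔ k := by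
            apply Subtype.ext
            exact Lib.Helper16.root_negIdx P k
          rw [h2, map_neg, hneg k] at h1
          exact (neg_injective h1).symm
      | zero =>
        have h0 : (⟨0, Submodule.zero_mem _⟩ : Submodule.span ℤ (Set.range P.root)) = 0 := rfl
        rw [h0, map_zero, map_zero]
      | add x y hx hy ihx ihy =>
        have h0 : (⟨x + y, Submodule.add_mem _ hx hy⟩ : Submodule.span ℤ (Set.range P.root)) =
            ⟨x, hx⟩ + ⟨y, hy⟩ := rfl
        rw [h0, map_add, map_add, ihx, ihy]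
      | smul a x hx ihx =>
        have h0 : (⟨a • x, Submodule.smul_mem _ a hx⟩ : Submodule.span ℤ (Set.range P.root)) =
            a • ⟨x, hx⟩ := rfl
        rw [h0, map_zsmul, map_zsmul, ihx]
    ext ⟨x, hx⟩
    exact key x hx

end Groth.Agent.S5465
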