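import Groth.Statements.S5466
import Groth.Agent.Lib.Helper16.RootD
-- import your own Groth.Agent.* helpers here

set_option autoImplicit false
open RootD

namespace Groth.Agent.S5466

/-- The reflection in a simple root β maps every positive root not proportional to β to a positive root. -/
theorem result {ι M N : Type*} [AddCommGroup M] [AddCommGroup N]
    (P : RootPairing ι ℤ M N) [Finite ι] (Δ : Set ι) (hΔ : RootD.IsSimpleSys P Δ)
    (k i : ι) (hk : k ∈ RootD.posOf P Δ) (hi : i ∈ Δ)
    (hli : LinearIndependent ℤ ![P.root k, P.root i]) :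
    P.reflectionPerm i k ∈ RootD.posOf P Δ := by
  classical
  have hex : ∃ l : Δ, l ≠ ⟨i, hi⟩ ∧ 0 < Groth.Agent.Lib.Helper16.co hΔ k l := by
    by_contra hne
    push Not at hne
    have hk0 := (Groth.Agent.Lib.Helper16.mem_posOf_iff hΔ k).mp hk
    have hco : Groth.Agent.Lib.Helper16.co hΔ k =
        (Groth.Agent.Lib.Helper16.co hΔ k ⟨i, hi⟩) • Groth.Agent.Lib.Helper16.co hΔ i := by
      rw [Groth.Agent.Lib.Helper16.co_simple hΔ i hi]
      ext l
      rw [Finsupp.smul_apply, Finsupp.single_apply]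
      by_cases hl : (⟨i, hi⟩ : Δ) = l
      · rw [if_pos hl, ← hl]
        simp
      · rw [if_neg hl]
        have := hne l (Ne.symm hl)
        have := hk0 l
        simp
        omega
    rw [Groth.Agent.Lib.Helper16.co_def, Groth.Agent.Lib.Helper16.co_def hΔ i,
      ← Groth.Agent.Lib.Helper16.coV_zsmul] at hco
    have h1 := Groth.Agent.Lib.Helper16.coV_injective hΔ hco
    have h2 : P.root k = (Groth.Agent.Lib.Helper16.co hΔ k ⟨i, hi⟩) • P.root i :=
      congrArg Subtype.val h1
    rw [LinearIndependent.pair_iff] at hli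
    have := hli 1 (-(Groth.Agent.Lib.Helper16.co hΔ k ⟨i, hi⟩)) (by rw [h2]; module)
    exact one_ne_zero this.1
  obtain ⟨l, hl, hlpos⟩ := hex
  rw [Groth.Agent.Lib.Helper16.mem_posOf_iff_exists_pos hΔ]
  refine ⟨l, ?_⟩
  rw [Groth.Agent.Lib.Helper16.co_reflection, Groth.Agent.Lib.Helper16.co_simple hΔ i hi,
    Finsupp.sub_apply, Finsupp.smul_apply, Finsupp.single_apply, if_neg (Ne.symm hl)]
  simpa using hlpos

end Groth.Agent.S5466
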