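import Groth.Statements.S5468
import Mathlib.Tactic

set_option autoImplicit false
open RootD

namespace Groth.Agent.S5468

/-- Two roots whose reflections are distinct and commute are orthogonal. -/
theorem result {ι M N : Type*} [AddCommGroup M] [AddCommGroup N]
    (P : RootPairing ι ℤ M N) [Finite ι] (i j : ι)
    (hne : P.reflection i ≠ P.reflection j) (hc : Commute (P.reflection i) (P.reflection j)) :
    P.IsOrthogonal i j := by
  have hrefl : Module.IsReflexive ℤ M := Module.IsReflexive.of_isPerfPair P.toLinearMap
  have htf : Module.IsTorsionFree ℤ M := inferInstance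
  by_contra hno
  have ha : P.pairing i j ≠ 0 := fun h0 => hno (RootPairing.isOrthogonal_iff_pairing_eq_zero.mpr h0)
  have hb : P.pairing j i ≠ 0 := fun h0 => ha (RootPairing.pairing_eq_zero_iff.mp h0)
  have key : ∀ x : M, (P.coroot' j x * P.pairing j i) • P.root i
      = (P.coroot' i x * P.pairing i j) • P.root j := by
    intro x
    have h1 := LinearEquiv.congr_fun hc.eq x
    simp only [LinearEquiv.mul_apply, RootPairing.reflection_apply, map_sub, map_smul,
      RootPairing.root_coroot'_eq_pairing, smul_eq_mul] at h1
    linear_combination (norm := module) h1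
  have h2 : P.pairing j i • P.root i = (2 : ℤ) • P.root j := by
    have h3 := key (P.root i)
    simp only [RootPairing.root_coroot'_eq_pairing, RootPairing.pairing_same] at h3
    have h4 : P.pairing i j • (P.pairing j i • P.root i - (2 : ℤ) • P.root j) = 0 := by
      linear_combination (norm := module) h3
    rcases smul_eq_zero.mp h4 with h5 | h5
    · exact absurd h5 ha
    · exact sub_eq_zero.mp h5
  have h2' : (2 : ℤ) • P.root i = P.pairing i j • P.root j := by
    have h3 := key (P.root j)
    simp only [RootPairing.root_coroot'_eq_pairing, RootPairing.pairing_same] at h3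
    have h4 : P.pairing j i • ((2 : ℤ) • P.root i - P.pairing i j • P.root j) = 0 := by
      linear_combination (norm := module) h3
    rcases smul_eq_zero.mp h4 with h5 | h5
    · exact absurd h5 hb
    · exact sub_eq_zero.mp h5
  apply hne
  ext x
  rw [RootPairing.reflection_apply, RootPairing.reflection_apply]
  have h6 : (2 : ℤ) • (P.coroot' i x • P.root i - P.coroot' j x • P.root j) = 0 := by
    have h3 := key x
    linear_combination (norm := module) P.coroot' i x • h2' + P.coroot' j x • h2 - h3
  rcases smul_eq_zero.mp h6 with h5 | h5
  · norm_num at h5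
  · rw [sub_eq_zero.mp h5]

end Groth.Agent.S5468
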