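import Groth.Statements.S5469
import Groth.Agent.Lib.Helper21.RootLen
import Mathlib.Tactic

set_option autoImplicit false
open RootPairing
open scoped Pointwise
open RootD

namespace Groth.Agent.S5469

open Groth.Agent.Lib.Helper21

theorem eq_of_root_eq {ι M N : Type*} [AddCommGroup M] [AddCommGroup N]
    (P : RootPairing ι ℤ M N) (g : P.Aut) (i j : ι) (h : g • P.root i = P.root j) : g • i = j := by
  apply P.root.injective
  rw [smul_idx_root, h]

/-- Two non-orthogonal roots of equal length (for the canonical form ℓ(x) = Σ_{u ∈ R^v} (u, x)²) are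
conjugate under the Weyl group. -/
theorem result {ι M N : Type*} [AddCommGroup M] [AddCommGroup N]
    (P : RootPairing ι ℤ M N) [Finite ι] [Fintype ι] (i j : ι) (hno : ¬ P.IsOrthogonal i j)
    (hl : P.RootForm (P.root i) (P.root i) = P.RootForm (P.root j) (P.root j)) :
    ∃ g : P.Aut, g ∈ P.weylGroup ∧ g • i = j := by
  have htf : Module.IsTorsionFree ℤ M := torsionFreeM P
  have ha : P.pairing i j ≠ 0 := fun h0 => hno (RootPairing.isOrthogonal_iff_pairing_eq_zero.mpr h0)
  have hb : P.pairing j i ≠ 0 := fun h0 => ha (RootPairing.pairing_eq_zero_iff.mp h0)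
  have hsw := len_swap P i j
  have hpos := len_pos P j
  rw [hl] at hsw
  have hab : P.pairing j i = P.pairing i j := mul_left_cancel₀ hpos.ne' hsw
  have hcox := coxeter_le_four P i j
  rw [hab] at hcox
  have hlm := len_mul_pairing P i j
  rw [hab, hl] at hlm
  set a := P.pairing i j with ha_def
  set L := P.RootForm (P.root j) (P.root j) with hL
  have hri : P.reflection i (P.root j) = P.root j - a • P.root i := by
    rw [RootPairing.reflection_apply_root, hab]
  have hrj : P.reflection j (P.root i) = P.root i - a • P.root j := by
    rw [RootPairing.reflection_apply_root]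
  have h4 : a * a ≤ 4 := by
    simp only [Set.mem_insert_iff, Set.mem_singleton_iff] at hcox
    rcases hcox with h | h | h | h | h <;> omega
  have hle : a ≤ 2 := by nlinarith
  have hge : -2 ≤ a := by nlinarith
  have hcases : a = 1 ∨ a = -1 ∨ a = 2 ∨ a = -2 := by omega
  rcases hcases with h1 | h1 | h1 | h1
  · refine ⟨Equiv.reflection P j * Equiv.reflection P i * Equiv.reflection P j,
      mul_mem (mul_mem (P.reflection_mem_weylGroup j) (P.reflection_mem_weylGroup i))
        (P.reflection_mem_weylGroup j), ?_⟩
    apply eq_of_root_eq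
    simp only [mul_smul, Equiv.reflection_smul, hrj, hri, map_sub, map_smul, map_neg,
      P.reflection_apply_self, h1]
    module
  · refine ⟨Equiv.reflection P i * Equiv.reflection P j,
      mul_mem (P.reflection_mem_weylGroup i) (P.reflection_mem_weylGroup j), ?_⟩
    apply eq_of_root_eq
    simp only [mul_smul, Equiv.reflection_smul, hrj, hri, map_sub, map_smul, map_neg,
      P.reflection_apply_self, h1]
    module
  · refine ⟨1, one_mem _, ?_⟩
    apply eq_of_root_eq
    rw [one_smul]
    have hx : P.root i - P.root j ∈ P.rootSpan ℤ :=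
      Submodule.sub_mem _ (root_mem_rootSpan P i) (root_mem_rootSpan P j)
    have hform : P.RootForm (P.root i - P.root j) (P.root i - P.root j) = 0 := by
      simp only [map_sub, LinearMap.sub_apply]
      rw [rootForm_comm P (P.root j) (P.root i), hl]
      rw [h1] at hlm
      linarith [hlm, hL]
    exact sub_eq_zero.mp (P.eq_zero_of_mem_rootSpan_of_rootForm_self_eq_zero hx hform)
  · refine ⟨Equiv.reflection P i, P.reflection_mem_weylGroup i, ?_⟩
    apply eq_of_root_eq
    rw [Equiv.reflection_smul, P.reflection_apply_self]
    have hx : P.root i + P.root j ∈ P.rootSpan ℤ :=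
      Submodule.add_mem _ (root_mem_rootSpan P i) (root_mem_rootSpan P j)
    have hform : P.RootForm (P.root i + P.root j) (P.root i + P.root j) = 0 := by
      simp only [map_add, LinearMap.add_apply]
      rw [rootForm_comm P (P.root j) (P.root i), hl]
      rw [h1] at hlm
      linarith [hlm, hL]
    have := P.eq_zero_of_mem_rootSpan_of_rootForm_self_eq_zero hx hform
    rw [neg_eq_iff_add_eq_zero, add_comm]
    rw [add_comm] at this
    rw [← this]

end Groth.Agent.S5469
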