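import Groth.Statements.S5470
import Groth.Agent.S5469
import Groth.Agent.Lib.Helper21.RootOrbit
import Mathlib.Tactic

set_option autoImplicit false
open RootPairing
open scoped Pointwise
open RootD

namespace Groth.Agent.S5470

open Groth.Agent.Lib.Helper21

/-- In an irreducible root datum the Weyl group acts transitively on the roots of any given length. -/
theorem result {ι M N : Type*} [AddCommGroup M] [AddCommGroup N]
    (P : RootPairing ι ℤ M N) [Finite ι] [Fintype ι] [Nonempty ι]
    (hirr : ∀ R' : Set ι, RootD.IsClosedSub P R' → RootD.IsSymmSub P R' → RootD.IsClosedSub P R'ᶜ →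
      RootD.IsSymmSub P R'ᶜ → R' = ∅ ∨ R' = Set.univ)
    (i j : ι) (hl : P.RootForm (P.root i) (P.root i) = P.RootForm (P.root j) (P.root j)) :
    ∃ g : P.Aut, g ∈ P.weylGroup ∧ g • i = j := by
  have hi : i ∈ nonOrth P i := by
    refine ⟨i, self_mem_weylOrbit P i, ?_⟩
    rw [orth_iff, P.pairing_same]
    norm_num
  rcases hirr (nonOrth P i) (nonOrth_closed P i) (nonOrth_symm P i) (nonOrth_compl_closed P i)
    (nonOrth_compl_symm P i) with h | h
  · rw [h] at hi
    exact absurd hi (Set.notMem_empty i)
  · have hj : j ∈ nonOrth P i := by rw [h]; exact Set.mem_univ j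
    obtain ⟨o, ⟨g, hg, rfl⟩, hno⟩ := hj
    have hlen : P.RootForm (P.root (g • i)) (P.root (g • i)) = P.RootForm (P.root j) (P.root j) := by
      rw [len_weyl_invariant P g hg, hl]
    obtain ⟨h', hh', hh⟩ := Groth.Agent.S5469.result P (g • i) j hno hlen
    exact ⟨h' * g, mul_mem hh' hg, by rw [mul_smul, hh]⟩

end Groth.Agent.S5470
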