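import Groth.Statements.S5471
import Groth.Agent.Lib.Helper21.RootOrbit
import Mathlib.Tactic

set_option autoImplicit false
open RootPairing
open scoped Pointwise
open RootD

namespace Groth.Agent.S5471

open Groth.Agent.Lib.Helper21

theorem connect {ι M N : Type*} [AddCommGroup M] [AddCommGroup N]
    (P : RootPairing ι ℤ M N) [Finite ι]
    (hirr : ∀ R' : Set ι, RootD.IsClosedSub P R' → RootD.IsSymmSub P R' → RootD.IsClosedSub P R'ᶜ →
      RootD.IsSymmSub P R'ᶜ → R' = ∅ ∨ R' = Set.univ) (i j : ι) :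
    ∃ g : P.Aut, g ∈ P.weylGroup ∧ ¬ P.IsOrthogonal (g • i) j := by
  have hi : i ∈ nonOrth P i := by
    refine ⟨i, self_mem_weylOrbit P i, ?_⟩
    rw [orth_iff, P.pairing_same]
    norm_num
  rcases hirr (nonOrth P i) (nonOrth_closed P i) (nonOrth_symm P i) (nonOrth_compl_closed P i)
    (nonOrth_compl_symm P i) with h | h
  · rw [h] at hi
    exact absurd hi (Set.notMem_empty i)
  · have hj : j ∈ nonOrth P i := by rw [h]; exact Set.mem_univ j
    obtain ⟨o, ⟨g, hg, rfl⟩, hno⟩ := hj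
    exact ⟨g, hg, hno⟩

theorem pair_set {ι M N : Type*} [AddCommGroup M] [AddCommGroup N]
    (P : RootPairing ι ℤ M N) [Finite ι] [P.IsReduced] (i j : ι) :
    (P.pairing i j, P.pairing j i) ∈
      ({(0, 0), (1, 1), (-1, -1), (1, 2), (2, 1), (-1, -2), (-2, -1), (1, 3), (3, 1), (-1, -3),
        (-3, -1), (2, 2), (-2, -2)} : Set (ℤ × ℤ)) := by
  have h := P.pairingIn_pairingIn_mem_set_of_isCrystal_of_isRed i j
  have h1 : P.pairingIn ℤ i j = P.pairing i j := by
    simpa using P.algebraMap_pairingIn ℤ i j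
  have h2 : P.pairingIn ℤ j i = P.pairing j i := by
    simpa using P.algebraMap_pairingIn ℤ j i
  rwa [h1, h2] at h

/-- In a reduced irreducible root datum the ratios of squared root lengths to the minimal one form one
of the sets {1}, {1, 2}, {1, 3}. -/
theorem result {ι M N : Type*} [AddCommGroup M] [AddCommGroup N]
    (P : RootPairing ι ℤ M N) [Finite ι] [Fintype ι] [Nonempty ι] [P.IsReduced]
    (hirr : ∀ R' : Set ι, RootD.IsClosedSub P R' → RootD.IsSymmSub P R' → RootD.IsClosedSub P R'ᶜ →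
      RootD.IsSymmSub P R'ᶜ → R' = ∅ ∨ R' = Set.univ)
    (i₀ : ι) (hmin : ∀ i : ι, P.RootForm (P.root i₀) (P.root i₀) ≤ P.RootForm (P.root i) (P.root i)) :
    (∀ i : ι, P.RootForm (P.root i) (P.root i) = P.RootForm (P.root i₀) (P.root i₀) ∨
        P.RootForm (P.root i) (P.root i) = 2 * P.RootForm (P.root i₀) (P.root i₀) ∨
        P.RootForm (P.root i) (P.root i) = 3 * P.RootForm (P.root i₀) (P.root i₀)) ∧
      ¬ ((∃ i : ι, P.RootForm (P.root i) (P.root i) = 2 * P.RootForm (P.root i₀) (P.root i₀)) ∧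
          ∃ j : ι, P.RootForm (P.root j) (P.root j) = 3 * P.RootForm (P.root i₀) (P.root i₀)) := by
  have hpos := len_pos P i₀
  constructor
  · intro i
    obtain ⟨g, hg, hno⟩ := connect P hirr i₀ i
    have hLo := len_weyl_invariant P g hg i₀
    have hsw := len_swap P (g • i₀) i
    rw [hLo] at hsw
    have hmi := hmin i
    rw [orth_iff] at hno
    have hset := pair_set P (g • i₀) i
    generalize P.pairing (g • i₀) i = a at *
    generalize P.pairing i (g • i₀) = b at *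
    generalize P.RootForm (P.root i₀) (P.root i₀) = L0 at *
    generalize P.RootForm (P.root i) (P.root i) = Li at *
    simp only [Set.mem_insert_iff, Set.mem_singleton_iff, Prod.mk.injEq] at hset
    rcases hset with ⟨ha, hb⟩ | ⟨ha, hb⟩ | ⟨ha, hb⟩ | ⟨ha, hb⟩ | ⟨ha, hb⟩ | ⟨ha, hb⟩ | ⟨ha, hb⟩ |
      ⟨ha, hb⟩ | ⟨ha, hb⟩ | ⟨ha, hb⟩ | ⟨ha, hb⟩ | ⟨ha, hb⟩ | ⟨ha, hb⟩ <;>
    subst ha <;> subst hb <;> omega
  · rintro ⟨⟨i, hi⟩, ⟨j, hj⟩⟩
    obtain ⟨g, hg, hno⟩ := connect P hirr i j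
    have hLo := len_weyl_invariant P g hg i
    have hsw := len_swap P (g • i) j
    rw [hLo, hi, hj] at hsw
    rw [orth_iff] at hno
    have hset := pair_set P (g • i) j
    generalize P.pairing (g • i) j = a at *
    generalize P.pairing j (g • i) = b at *
    generalize P.RootForm (P.root i₀) (P.root i₀) = L0 at *
    simp only [Set.mem_insert_iff, Set.mem_singleton_iff, Prod.mk.injEq] at hset
    rcases hset with ⟨ha, hb⟩ | ⟨ha, hb⟩ | ⟨ha, hb⟩ | ⟨ha, hb⟩ | ⟨ha, hb⟩ | ⟨ha, hb⟩ | ⟨ha, hb⟩ |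
      ⟨ha, hb⟩ | ⟨ha, hb⟩ | ⟨ha, hb⟩ | ⟨ha, hb⟩ | ⟨ha, hb⟩ | ⟨ha, hb⟩ <;>
    subst ha <;> subst hb <;> omega

end Groth.Agent.S5471
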