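import Groth.Statements.S5472
import Groth.Agent.Lib.Helper21.RootWeyl2
import Mathlib.Tactic

set_option autoImplicit false
open RootPairing
open scoped Pointwise
open RootD

namespace Groth.Agent.S5472

open Groth.Agent.Lib.Helper21
open Groth.Agent.Lib.Helper16 (root_smul)

theorem key {ι M N : Type*} [AddCommGroup M] [AddCommGroup N]
    (P : RootPairing ι ℤ M N) [Finite ι] (Δ : Set ι) (hΔ : RootD.IsSimpleSys P Δ)
    (k i j : ι) (hi : i ∈ Δ) (hj : j ∈ Δ)
    (hα : 0 < P.pairing k i) (hβ : 0 ≤ P.pairing k j) :
    ∀ n : ℕ, ∀ L : List ι, L.length = n → (∀ a ∈ L, a ∈ ({i, j} : Set ι)) →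
      0 ≤ ht hΔ k - ht hΔ (wordProd P L • k) ∧
      (wordProd P L ≠ 1 → wordProd P L ≠ Equiv.reflection P j →
        0 < ht hΔ k - ht hΔ (wordProd P L • k)) := by
  intro n
  induction n using Nat.strong_induction_on with
  | _ n ih =>
    intro L hlen hL
    rcases List.eq_nil_or_concat L with rfl | ⟨L0, a, rfl⟩
    · rw [wordProd_nil, one_smul, sub_self]
      exact ⟨le_refl _, fun h => absurd rfl h⟩
    · simp only [List.concat_eq_append] at hlen hL ⊢
      have hlen0 : L0.length + 1 = n := by rw [← hlen]; simp
      have ha : a = i ∨ a = j := by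
        have := hL a (by simp)
        simpa using this
      have haΔ : a ∈ Δ := by rcases ha with rfl | rfl <;> assumption
      have hL0 : ∀ b ∈ L0, b ∈ ({i, j} : Set ι) := fun b hb => hL b (by simp [hb])
      have hL0Δ : ∀ b ∈ L0, b ∈ Δ := by
        intro b hb
        have := hL0 b hb
        rcases (by simpa using this : b = i ∨ b = j) with rfl | rfl <;> assumption
      have hw : wordProd P (L0 ++ [a]) = wordProd P L0 * Equiv.reflection P a := by
        rw [wordProd_append, wordProd_singleton]
      by_cases hpos : wordProd P L0 • a ∈ posOf P Δ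
      · have hroot : P.root ((wordProd P L0 * Equiv.reflection P a) • k) =
            P.root (wordProd P L0 • k) - P.pairing k a • P.root (wordProd P L0 • a) := by
          have h1 : P.root (Equiv.reflection P a • k) = P.root k - P.pairing k a • P.root a := by
            change P.root (P.reflectionPerm a k) = _
            rw [P.root_reflectionPerm, P.reflection_apply_root]
          rw [mul_smul, root_smul, h1, smul_sub, smul_comm (wordProd P L0) (P.pairing k a),
            root_smul, root_smul]
        have hht := ht_sub_smul hΔ (P.pairing k a) hroot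
        have hhtpos := ht_pos_of_pos hΔ _ hpos
        obtain ⟨ih1, ih2⟩ := ih L0.length (by omega) L0 rfl hL0
        have hp : 0 ≤ P.pairing k a := by rcases ha with rfl | rfl; exact hα.le; exact hβ
        rw [hw, hht]
        constructor
        · nlinarith
        · intro hne1 hnej
          by_cases hai : a = i
          · rw [hai] at hhtpos ⊢
            nlinarith
          · have haj : a = j := ha.resolve_left hai
            rw [haj] at hne1 hnej
            have h1 : wordProd P L0 ≠ 1 := by
              intro h; apply hnej; rw [h, one_mul]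
            have h2 : wordProd P L0 ≠ Equiv.reflection P j := by
              intro h; apply hne1; rw [h, refl_mul_self]
            have := ih2 h1 h2
            nlinarith
      · obtain ⟨L', hsub, hlen', hprod⟩ := deletion_sublist hΔ L0 hL0Δ a haΔ hpos
        rw [hw, ← hprod]
        exact ih L'.length (by omega) L' rfl (fun b hb => hL0 b (hsub.subset hb))

/-- Let Δ be a system of simple roots (root-only sense), γ a positive root and α, β simple roots with
(γ, α^v) > 0 and (γ, β^v) ≥ 0 (equivalently: the order of s_α(γ) along Δ is smaller than that of γ,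
and the order of s_β(γ) is at most that of γ). Then for every w in the group generated by s_α and
s_β the order of w(γ) along Δ is at most that of γ, and strictly smaller unless w ∈ {1, s_β}. The
order is the sum of the coefficients along Δ; the conclusion is stated for the coefficient vector c
of γ - w(γ) along Δ: its coefficient sum is ≥ 0, and > 0 unless w = 1 or w = s_β. -/
theorem result {ι M N : Type*} [AddCommGroup M] [AddCommGroup N]
    (P : RootPairing ι ℤ M N) [Finite ι] (Δ : Set ι) (hΔ : RootD.IsSimpleSys P Δ)
    (k i j : ι) (hk : k ∈ RootD.posOf P Δ) (hi : i ∈ Δ) (hj : j ∈ Δ)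
    (hα : 0 < P.pairing k i) (hβ : 0 ≤ P.pairing k j)
    (g : P.Aut) (hg : g ∈ Subgroup.closure {Equiv.reflection P i, Equiv.reflection P j})
    (c : ι →₀ ℤ) (hc : ↑c.support ⊆ Δ)
    (hck : Finsupp.linearCombination ℤ P.root c = P.root k - P.root (g • k)) :
    0 ≤ c.sum (fun _ a => a) ∧ (g ≠ 1 → g ≠ Equiv.reflection P j → 0 < c.sum (fun _ a => a)) := by
  rw [sum_eq_ht_sub hΔ k (g • k) c hc hck]
  have hgW : g ∈ simpleWeyl P ({i, j} : Set ι) := by
    unfold simpleWeyl
    rwa [Set.image_pair]
  obtain ⟨L, hL, rfl⟩ := exists_word_of_mem_simpleWeyl g hgW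
  exact key P Δ hΔ k i j hi hj hα hβ _ L rfl hL

end Groth.Agent.S5472
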