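import Groth.Statements.S5473
import Groth.Agent.Lib.Helper21.RootLen
import Mathlib.Tactic

set_option autoImplicit false
open RootD

namespace Groth.Agent.S5473

open Groth.Agent.Lib.Helper21

theorem fix_of_pairing_two {ι M N : Type*} [AddCommGroup M] [AddCommGroup N]
    (P : RootPairing ι ℤ M N) [Fintype ι] (σ : ι ≃ ι) (h2 : ∀ i, P.pairing i (σ i) = 2) :
    ∀ i, σ i = i := by
  have hB : ∀ i, P.RootForm (P.root (σ i)) (P.root i) = P.RootForm (P.root (σ i)) (P.root (σ i)) := by
    intro i
    have := len_mul_pairing P (σ i) i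
    rw [h2 i] at this
    linarith
  have hdiff : ∀ i, P.RootForm (P.root i - P.root (σ i)) (P.root i - P.root (σ i)) =
      P.RootForm (P.root i) (P.root i) - P.RootForm (P.root (σ i)) (P.root (σ i)) := by
    intro i
    simp only [map_sub, LinearMap.sub_apply]
    rw [rootForm_comm P (P.root i) (P.root (σ i)), hB i]
    ring
  have hnonneg : ∀ i ∈ Finset.univ, 0 ≤ P.RootForm (P.root i) (P.root i) -
      P.RootForm (P.root (σ i)) (P.root (σ i)) := by
    intro i _
    rw [← hdiff i]
    exact P.zero_le_rootForm _
  have hsum : ∑ i, (P.RootForm (P.root i) (P.root i) -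
      P.RootForm (P.root (σ i)) (P.root (σ i))) = 0 := by
    rw [Finset.sum_sub_distrib, Equiv.sum_comp σ (fun i => P.RootForm (P.root i) (P.root i)), sub_self]
  intro i
  have hz := (Finset.sum_eq_zero_iff_of_nonneg hnonneg).mp hsum i (Finset.mem_univ i)
  rw [← hdiff i] at hz
  have hx : P.root i - P.root (σ i) ∈ P.rootSpan ℤ :=
    Submodule.sub_mem _ (root_mem_rootSpan P i) (root_mem_rootSpan P (σ i))
  have := P.eq_zero_of_mem_rootSpan_of_rootForm_self_eq_zero hx hz
  exact (P.root.injective (sub_eq_zero.mp this)).symm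

/-- If a linear map f and its transpose g induce bijections from the roots of R' onto the roots of R and
from the coroots of R onto the coroots of R' respectively (a morphism of root data in the
two-bijection sense), then the two bijections correspond: the coroot of α' is g applied to the
coroot of f(α'). -/
theorem result {ι M N ι' M' N' : Type*} [AddCommGroup M] [AddCommGroup N] [AddCommGroup M'] [AddCommGroup N']
    (P : RootPairing ι ℤ M N) (P' : RootPairing ι' ℤ M' N') [Finite ι] [Finite ι']
    (f : M' →ₗ[ℤ] M) (g : N →ₗ[ℤ] N') (hfg : ∀ (m' : M') (n : N), P.toLinearMap (f m') n = P'.toLinearMap m' (g n))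
    (e : ι' ≃ ι) (he : ∀ i' : ι', f (P'.root i') = P.root (e i'))
    (e' : ι ≃ ι') (he' : ∀ i : ι, g (P.coroot i) = P'.coroot (e' i)) :
    ∀ i' : ι', g (P.coroot (e i')) = P'.coroot i' := by
  classical
  let _ : Fintype ι' := Fintype.ofFinite ι'
  have key := fix_of_pairing_two P' (e.trans e') (by
    intro i'
    change P'.toLinearMap (P'.root i') (P'.coroot (e' (e i'))) = 2
    rw [← he', ← hfg, he]
    exact P.root_coroot_two (e i'))
  intro i'
  rw [he']
  congr 1
  exact key i'

end Groth.Agent.S5473
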