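import Groth.Statements.S5476
import Groth.Agent.Lib.Helper21.RootLen
import Mathlib.Tactic

set_option autoImplicit false
open RootD

namespace Groth.Agent.S5476

open Groth.Agent.Lib.Helper21 Module

theorem ker_pol_eq {ι M N : Type*} [AddCommGroup M] [AddCommGroup N]
    (P : RootPairing ι ℤ M N) [Fintype ι] :
    LinearMap.ker P.Polarization = (⨅ i : ι, LinearMap.ker (P.coroot' i) : Submodule ℤ M) := by
  ext x
  simp only [LinearMap.mem_ker, Submodule.mem_iInf]
  constructor
  · intro hx i
    have h1 : P.RootForm x x = 0 := by
      have := (P.polarization_apply_eq_zero_iff x).mp hx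
      rw [this]; rfl
    rw [P.rootForm_apply_apply] at h1
    have h2 := (Finset.sum_eq_zero_iff_of_nonneg (fun i _ => mul_self_nonneg _)).mp h1 i (Finset.mem_univ i)
    exact mul_self_eq_zero.mp h2
  · intro hx
    rw [P.Polarization_apply]
    exact Finset.sum_eq_zero (fun i _ => by rw [hx i, zero_smul])

theorem finrank_range_pol {ι M N : Type*} [AddCommGroup M] [AddCommGroup N]
    (P : RootPairing ι ℤ M N) [Fintype ι] [Module.Finite ℤ M] [Module.Finite ℤ N] :
    finrank ℤ (LinearMap.range P.Polarization) = finrank ℤ (P.rootSpan ℤ) := by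
  have h1 : (P.rootSpan ℤ).map P.Polarization ≤ LinearMap.range P.Polarization :=
    LinearMap.map_le_range
  have h2 : LinearMap.range P.Polarization ≤ P.corootSpan ℤ := by
    rintro _ ⟨x, rfl⟩
    rw [P.Polarization_apply]
    exact Submodule.sum_mem _ (fun i _ => Submodule.smul_mem _ _
      (Submodule.subset_span (Set.mem_range_self i)))
  have h3 := P.finrank_rootSpan_map_polarization_eq_finrank_corootSpan
  have h4 := Submodule.finrank_mono h1
  have h5 := Submodule.finrank_mono h2
  rw [← P.finrank_corootSpan_eq']
  omega

theorem part1 {ι M N : Type*} [AddCommGroup M] [AddCommGroup N]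
    (P : RootPairing ι ℤ M N) [Fintype ι] [Module.Finite ℤ M] [Module.Finite ℤ N] :
    finrank ℤ (⨅ i : ι, LinearMap.ker (P.coroot' i) : Submodule ℤ M) +
        finrank ℤ (Submodule.span ℤ (Set.range P.root)) = finrank ℤ M := by
  rw [← ker_pol_eq, ← (LinearMap.ker P.Polarization).finrank_quotient_add_finrank,
    (LinearMap.quotKerEquivRange P.Polarization).finrank_eq, finrank_range_pol, add_comm]

/-- The lattice of the coradical (weights killed by every coroot) and the lattice of the radical
(coweights killed by every root) both have rank rgred - rgss, the rank of the weight lattice minus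
the rank of the lattice generated by the roots; and the datum is semisimple (the roots span a
sublattice of full rank) if and only if the coradical lattice vanishes, if and only if the radical
lattice vanishes. -/
theorem result {ι M N : Type*} [AddCommGroup M] [AddCommGroup N]
    (P : RootPairing ι ℤ M N) [Finite ι] [Module.Finite ℤ M] [Module.Finite ℤ N] :
    (Module.finrank ℤ (⨅ i : ι, LinearMap.ker (P.coroot' i) : Submodule ℤ M) +
        Module.finrank ℤ (Submodule.span ℤ (Set.range P.root)) = Module.finrank ℤ M) ∧
      (Module.finrank ℤ (⨅ i : ι, LinearMap.ker (P.root' i) : Submodule ℤ N) +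
        Module.finrank ℤ (Submodule.span ℤ (Set.range P.root)) = Module.finrank ℤ M) ∧
      (Module.finrank ℤ (Submodule.span ℤ (Set.range P.root)) = Module.finrank ℤ M ↔
        (⨅ i : ι, LinearMap.ker (P.coroot' i) : Submodule ℤ M) = ⊥) ∧
      (Module.finrank ℤ (Submodule.span ℤ (Set.range P.root)) = Module.finrank ℤ M ↔
        (⨅ i : ι, LinearMap.ker (P.root' i) : Submodule ℤ N) = ⊥) := by
  classical
  let _ : Fintype ι := Fintype.ofFinite ι
  have htf : Module.IsTorsionFree ℤ M := torsionFreeM P
  have htfN : Module.IsTorsionFree ℤ N := torsionFreeM P.flip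
  have hfree : Module.Free ℤ M := inferInstance
  have h1 := part1 P
  have h2' := part1 P.flip
  have hNM : finrank ℤ M = finrank ℤ N := Module.finrank_of_isPerfPair P.toLinearMap
  have hcr : finrank ℤ (P.corootSpan ℤ) = finrank ℤ (P.rootSpan ℤ) := P.finrank_corootSpan_eq'
  have h2 : finrank ℤ (⨅ i : ι, LinearMap.ker (P.root' i) : Submodule ℤ N) +
        finrank ℤ (Submodule.span ℤ (Set.range P.root)) = finrank ℤ M := by
    have : finrank ℤ (⨅ i : ι, LinearMap.ker (P.flip.coroot' i) : Submodule ℤ N) +
        finrank ℤ (P.corootSpan ℤ) = finrank ℤ N := h2'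
    rw [hcr, ← hNM] at this
    exact this
  refine ⟨h1, h2, ?_, ?_⟩
  · rw [← Submodule.finrank_eq_zero (R := ℤ)]
    omega
  · rw [← Submodule.finrank_eq_zero (R := ℤ)]
    omega

end Groth.Agent.S5476
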