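import Groth.Statements.S5474
import Groth.Agent.S5476
import Mathlib.LinearAlgebra.FreeModule.Finite.Quotient
import Mathlib.Tactic

set_option autoImplicit false
open RootD

namespace Groth.Agent.S5474

open Groth.Agent.Lib.Helper21 Module

/-- Every morphism between semisimple root data is an isogeny (injective on weight lattices with finite
cokernel). -/
theorem result {ι M N ι' M' N' : Type*} [AddCommGroup M] [AddCommGroup N] [AddCommGroup M'] [AddCommGroup N']
    (P : RootPairing ι ℤ M N) (P' : RootPairing ι' ℤ M' N') [Finite ι] [Finite ι']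
    [Module.Finite ℤ M] [Module.Finite ℤ N] [Module.Finite ℤ M'] [Module.Finite ℤ N']
    (hss : Module.finrank ℤ (Submodule.span ℤ (Set.range P.root)) = Module.finrank ℤ M)
    (hss' : Module.finrank ℤ (Submodule.span ℤ (Set.range P'.root)) = Module.finrank ℤ M')
    (f : RootPairing.Hom P' P) :
    Function.Injective f.weightMap ∧ Finite (M ⧸ LinearMap.range f.weightMap) := by
  have htf : Module.IsTorsionFree ℤ M := torsionFreeM P
  have hfree : Module.Free ℤ M := inferInstance
  constructor
  · rw [← LinearMap.ker_eq_bot, eq_bot_iff]
    intro m' hm'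
    rw [LinearMap.mem_ker] at hm'
    have hbot := (Groth.Agent.S5476.result P').2.2.1.mp hss'
    rw [Submodule.mem_bot, ← Submodule.mem_bot (R := ℤ), ← hbot, Submodule.mem_iInf]
    intro i'
    rw [LinearMap.mem_ker]
    have h1 := RootPairing.Hom.weight_coweight_transpose_apply P' P (P.coroot (f.indexEquiv i')) f
    have h2 := LinearMap.congr_fun h1 m'
    have h3 := RootPairing.Hom.coroot_coweightMap_apply P' P (f.indexEquiv i') f
    rw [Equiv.symm_apply_apply] at h3
    simp only [LinearMap.dualMap_apply, h3, hm'] at h2
    simpa using h2.symm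
  · apply Submodule.finiteQuotientOfFreeOfRankEq
    have hle : Submodule.span ℤ (Set.range P.root) ≤ LinearMap.range f.weightMap := by
      rw [Submodule.span_le]
      rintro _ ⟨i, rfl⟩
      refine ⟨P'.root (f.indexEquiv.symm i), ?_⟩
      rw [RootPairing.Hom.root_weightMap_apply, Equiv.apply_symm_apply]
    have h4 := Submodule.finrank_mono hle
    have h5 := Submodule.finrank_le (LinearMap.range f.weightMap)
    omega

end Groth.Agent.S5474
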