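import Groth.Statements.S5475
import Groth.Agent.Lib.Helper21.RootWeyl
import Mathlib.Tactic

set_option autoImplicit false
open RootD

namespace Groth.Agent.S5475

open Groth.Agent.Lib.Helper21
open Groth.Agent.Lib.Helper16 (co co_simple coV coV_zsmul co_def rootV spanΔ root_mem_spanΔ
  exists_simpleSys root_smul)

/-- In an adjoint root datum every indivisible root is an indivisible element of the weight lattice. -/
theorem result {ι M N : Type*} [AddCommGroup M] [AddCommGroup N]
    (P : RootPairing ι ℤ M N) [Finite ι] (had : Submodule.span ℤ (Set.range P.root) = ⊤)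
    (i : ι) (hind : RootD.IsIndiv P i) (m : M) (n : ℤ) (h : n • m = P.root i) : n = 1 ∨ n = -1 := by
  classical
  obtain ⟨Δ, hΔ⟩ := exists_simpleSys P
  obtain ⟨g, _, j, hj, hgj⟩ := exists_simpleWeyl_conj hΔ i hind
  have htop : spanΔ P Δ = ⊤ := by
    rw [eq_top_iff, ← had, Submodule.span_le]
    rintro _ ⟨k, rfl⟩
    exact root_mem_spanΔ hΔ k
  set m' : M := g⁻¹ • m with hm'
  have hm'mem : m' ∈ spanΔ P Δ := by rw [htop]; exact Submodule.mem_top
  have h1 : n • m' = P.root j := by
    rw [hm', ← smul_comm, h, ← hgj, root_smul, inv_smul_smul]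
  have h2 : n • (⟨m', hm'mem⟩ : spanΔ P Δ) = rootV hΔ j := Subtype.ext h1
  have h3 := congrArg (fun x => coV hΔ x ⟨j, hj⟩) h2
  simp only [coV_zsmul, Finsupp.smul_apply, smul_eq_mul] at h3
  rw [← co_def, co_simple hΔ j hj, Finsupp.single_apply, if_pos rfl] at h3
  exact Int.eq_one_or_neg_one_of_mul_eq_one h3

end Groth.Agent.S5475
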