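import Groth.Statements.S5477
import Mathlib.LinearAlgebra.RootSystem.Finite.Nondegenerate
import Mathlib.Tactic

set_option autoImplicit false
open RootPairing
open scoped Pointwise
open RootD

namespace Groth.Agent.S5477

theorem pairing_weightMap {ι M N : Type*} [AddCommGroup M] [AddCommGroup N]
    (P : RootPairing ι ℤ M N) (u : P.Aut) (m : M) (n : N) :
    P.toLinearMap (u • m) n = P.toLinearMap m (u.coweightMap n) := by
  have h := RootPairing.Hom.weight_coweight_transpose_apply P P n u.toHom
  have h2 := LinearMap.congr_fun h m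
  have h3 : u • m = u.weightMap m := rfl
  rw [h3]
  simpa using h2

theorem smul_eq_of_fix {ι M N : Type*} [AddCommGroup M] [AddCommGroup N]
    (P : RootPairing ι ℤ M N) [Finite ι] (u : P.Aut)
    (hfix : ∀ i : ι, u • i = i) (m : M)
    (hs : ∃ n : ℕ, 0 < n ∧ n • (u • m - m) ∈ Submodule.span ℤ (Set.range P.root)) :
    u • m = m := by
  classical
  have hrefl : Module.IsReflexive ℤ M := Module.IsReflexive.of_isPerfPair P.toLinearMap
  have htf : Module.IsTorsionFree ℤ M := inferInstance
  let _ : Fintype ι := Fintype.ofFinite ι
  obtain ⟨n, hn, hx⟩ := hs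
  have hidx : ∀ i : ι, u.indexEquiv i = i := hfix
  have hco : ∀ i : ι, u.coweightMap (P.coroot i) = P.coroot i := by
    intro i
    have := RootPairing.Hom.coroot_coweightMap_apply P P i u.toHom
    rw [this]
    congr 1
    rw [Equiv.symm_apply_eq]
    exact (hidx i).symm
  have hzero : ∀ i : ι, P.coroot' i (n • (u • m - m)) = 0 := by
    intro i
    have h1 : P.coroot' i (u • m) = P.coroot' i m := by
      change P.toLinearMap (u • m) (P.coroot i) = P.toLinearMap m (P.coroot i)
      rw [pairing_weightMap, hco]
    rw [map_nsmul, map_sub, h1, sub_self, smul_zero]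
  have hform : P.RootForm (n • (u • m - m)) (n • (u • m - m)) = 0 := by
    rw [P.rootForm_apply_apply]
    exact Finset.sum_eq_zero (fun i _ => by rw [hzero i, mul_zero])
  have h0 := P.eq_zero_of_mem_rootSpan_of_rootForm_self_eq_zero hx hform
  have h0' : ((n : ℤ)) • (u • m - m) = 0 := by rwa [natCast_zsmul]
  rcases smul_eq_zero.mp h0' with h5 | h5
  · omega
  · exact sub_eq_zero.mp h5

/-- An automorphism of a root datum acting trivially on the radical (u(m) - m in the rational span of
the roots for all m) is determined by its action on the roots: if it fixes every root it is the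
identity. -/
theorem result {ι M N : Type*} [AddCommGroup M] [AddCommGroup N]
    (P : RootPairing ι ℤ M N) [Finite ι] (u : P.Aut)
    (hs : ∀ m : M, ∃ n : ℕ, 0 < n ∧ n • (u • m - m) ∈ Submodule.span ℤ (Set.range P.root))
    (hfix : ∀ i : ι, u • i = i) : u = 1 := by
  apply RootPairing.Equiv.weightHom_injective P
  rw [map_one]
  ext m
  exact smul_eq_of_fix P u hfix m (hs m)

end Groth.Agent.S5477
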