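import Groth.Statements.S5478
import Mathlib.LinearAlgebra.RootSystem.Finite.Nondegenerate
import Mathlib.Tactic

set_option autoImplicit false
open RootPairing
open scoped Pointwise
open RootD

namespace Groth.Agent.S5478

theorem pairing_weightMap {ι M N : Type*} [AddCommGroup M] [AddCommGroup N]
    (P : RootPairing ι ℤ M N) (u : P.Aut) (m : M) (n : N) :
    P.toLinearMap (u • m) n = P.toLinearMap m (u.coweightMap n) := by
  have h := RootPairing.Hom.weight_coweight_transpose_apply P P n u.toHom
  have h2 := LinearMap.congr_fun h m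
  have h3 : u • m = u.weightMap m := rfl
  rw [h3]
  simpa using h2

theorem smul_eq_of_index_eq {ι M N : Type*} [AddCommGroup M] [AddCommGroup N]
    (P : RootPairing ι ℤ M N) [Finite ι] (u v : P.Aut)
    (hidx : u.indexEquiv = v.indexEquiv) (m : M)
    (hs : ∃ n : ℕ, 0 < n ∧ n • (u • m - v • m) ∈ Submodule.span ℤ (Set.range P.root)) :
    u • m = v • m := by
  classical
  have hrefl : Module.IsReflexive ℤ M := Module.IsReflexive.of_isPerfPair P.toLinearMap
  have htf : Module.IsTorsionFree ℤ M := inferInstance
  let _ : Fintype ι := Fintype.ofFinite ι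
  obtain ⟨n, hn, hx⟩ := hs
  have hco : ∀ i : ι, u.coweightMap (P.coroot i) = v.coweightMap (P.coroot i) := by
    intro i
    rw [RootPairing.Hom.coroot_coweightMap_apply P P i u.toHom,
      RootPairing.Hom.coroot_coweightMap_apply P P i v.toHom, hidx]
  have hzero : ∀ i : ι, P.coroot' i (n • (u • m - v • m)) = 0 := by
    intro i
    have h1 : P.coroot' i (u • m) = P.coroot' i (v • m) := by
      change P.toLinearMap (u • m) (P.coroot i) = P.toLinearMap (v • m) (P.coroot i)
      rw [pairing_weightMap, pairing_weightMap, hco]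
    rw [map_nsmul, map_sub, h1, sub_self, smul_zero]
  have hform : P.RootForm (n • (u • m - v • m)) (n • (u • m - v • m)) = 0 := by
    rw [P.rootForm_apply_apply]
    exact Finset.sum_eq_zero (fun i _ => by rw [hzero i, mul_zero])
  have h0 := P.eq_zero_of_mem_rootSpan_of_rootForm_self_eq_zero hx hform
  have h0' : ((n : ℤ)) • (u • m - v • m) = 0 := by rwa [natCast_zsmul]
  rcases smul_eq_zero.mp h0' with h5 | h5
  · omega
  · exact sub_eq_zero.mp h5

/-- The group of automorphisms of a root datum that act trivially on the radical is finite. -/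
theorem result {ι M N : Type*} [AddCommGroup M] [AddCommGroup N]
    (P : RootPairing ι ℤ M N) [Finite ι] :
    Set.Finite {u : P.Aut | ∀ m : M, ∃ n : ℕ, 0 < n ∧ n • (u • m - m) ∈ Submodule.span ℤ (Set.range P.root)} := by
  refine Set.Finite.of_injOn (f := fun u : P.Aut => u.indexEquiv) (t := Set.univ)
    (fun _ _ => Set.mem_univ _) ?_ Set.finite_univ
  intro u hu v hv huv
  simp only [Set.mem_setOf_eq] at hu hv
  apply RootPairing.Equiv.weightHom_injective P
  ext m
  change u • m = v • m
  refine smul_eq_of_index_eq P u v huv m ?_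
  obtain ⟨n1, hn1, h1⟩ := hu m
  obtain ⟨n2, hn2, h2⟩ := hv m
  refine ⟨n1 * n2, Nat.mul_pos hn1 hn2, ?_⟩
  have : (n1 * n2) • (u • m - v • m) = n2 • (n1 • (u • m - m)) - n1 • (n2 • (v • m - m)) := by
    rw [smul_smul, smul_smul, mul_comm n2 n1, ← smul_sub]
    congr 1
    abel
  rw [this]
  exact Submodule.sub_mem _ (Submodule.smul_of_tower_mem _ n2 h1) (Submodule.smul_of_tower_mem _ n1 h2)

end Groth.Agent.S5478
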