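import Groth.Statements.S5479
import Groth.Agent.Lib.Helper21.RootWeyl
import Groth.Agent.S5455
import Mathlib.Tactic

set_option autoImplicit false
open RootPairing
open scoped Pointwise
open RootD

namespace Groth.Agent.S5479

open Groth.Agent.Lib.Helper21
open Groth.Agent.Lib.Helper16 (isSimpleSys_image simple_mem_posOf)

theorem image_image_smul {ι M N : Type*} [AddCommGroup M] [AddCommGroup N]
    (P : RootPairing ι ℤ M N) (g h : P.Aut) (Δ : Set ι) :
    (fun i : ι => (g * h) • i) '' Δ = (fun i : ι => g • i) '' ((fun i : ι => h • i) '' Δ) := by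
  rw [Set.image_image]
  simp only [mul_smul]

theorem image_one_smul {ι M N : Type*} [AddCommGroup M] [AddCommGroup N]
    (P : RootPairing ι ℤ M N) (Δ : Set ι) :
    (fun i : ι => (1 : P.Aut) • i) '' Δ = Δ := by
  simp

/-- Aut(R) is the semidirect product of the Weyl group by the stabiliser E_Δ of a system of simple
roots: every automorphism is uniquely w · e with w ∈ W and e(Δ) = Δ. -/
theorem result {ι M N : Type*} [AddCommGroup M] [AddCommGroup N]
    (P : RootPairing ι ℤ M N) [Finite ι] (Δ : Set ι) (hΔ : RootD.IsSimpleSys P Δ) (u : P.Aut) :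
    ∃! w : P.weylGroup, (fun i : ι => ((w : P.Aut)⁻¹ * u) • i) '' Δ = Δ := by
  have hΔ2 : RootD.IsSimpleSys P ((fun i : ι => u • i) '' Δ) := isSimpleSys_image u hΔ
  obtain ⟨g, hg, hgΔ⟩ := Groth.Agent.S5455.result P Δ _ hΔ hΔ2
  refine ⟨⟨g, hg⟩, ?_, ?_⟩
  · change (fun i : ι => (g⁻¹ * u) • i) '' Δ = Δ
    rw [image_image_smul, ← hgΔ, ← image_image_smul, inv_mul_cancel, image_one_smul]
  · rintro ⟨w, hw⟩ hwΔ
    change (fun i : ι => (w⁻¹ * u) • i) '' Δ = Δ at hwΔ
    apply Subtype.ext
    change w = g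
    have h1 : (fun i : ι => u • i) '' Δ = (fun i : ι => w • i) '' Δ := by
      have := congrArg (fun S => (fun i : ι => w • i) '' S) hwΔ
      change (fun i : ι => w • i) '' ((fun i : ι => (w⁻¹ * u) • i) '' Δ) =
        (fun i : ι => w • i) '' Δ at this
      rw [← image_image_smul, mul_inv_cancel_left] at this
      exact this
    have h2 : (fun i : ι => (g⁻¹ * w) • i) '' Δ = Δ := by
      rw [image_image_smul, ← h1, ← hgΔ, ← image_image_smul, inv_mul_cancel, image_one_smul]
    have h3 : g⁻¹ * w = 1 := by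
      apply weyl_eq_one_of_pos hΔ _ (mul_mem (inv_mem hg) hw)
      intro i hi
      apply simple_mem_posOf
      rw [← h2]
      exact ⟨i, hi, rfl⟩
    exact (inv_mul_eq_one.mp h3).symm

end Groth.Agent.S5479
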