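import Groth.Statements.S5483
import Groth.Agent.Lib.Helper21.RootSimple
import Mathlib.Tactic

set_option autoImplicit false
open RootD

namespace Groth.Agent.S5483

open Groth.Agent.Lib.Helper21
open Groth.Agent.Lib.Helper16 (co co_simple co_add co_sub co_sign mem_posOf_iff
  not_mem_posOf_iff root_negIdx co_reflection)

theorem pairing_zero_of_mem_span {ι M N : Type*} [AddCommGroup M] [AddCommGroup N]
    (P : RootPairing ι ℤ M N) (S : Set ι) (i : ι) (h : ∀ j ∈ S, P.pairing j i = 0)
    (x : M) (hx : x ∈ Submodule.span ℤ (P.root '' S)) : P.coroot' i x = 0 := by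
  induction hx using Submodule.span_induction with
  | mem y hy =>
    obtain ⟨j, hj, rfl⟩ := hy
    rw [P.root_coroot'_eq_pairing]
    exact h j hj
  | zero => simp
  | add a b _ _ ha hb => rw [map_add, ha, hb, add_zero]
  | smul c a _ ha => rw [map_smul, ha, smul_zero]

theorem mem_inSpan_iff {ι M N : Type*} [AddCommGroup M] [AddCommGroup N]
    (P : RootPairing ι ℤ M N) (S : Set ι) (k : ι) :
    k ∈ RootD.inSpan P S ↔ P.root k ∈ Submodule.span ℤ (P.root '' S) := Iff.rfl

theorem step {ι M N : Type*} [AddCommGroup M] [AddCommGroup N]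
    (P : RootPairing ι ℤ M N) [Finite ι] (Δ A B : Set ι) (hΔ : RootD.IsSimpleSys P Δ)
    (hA : A ⊆ Δ) (hB : B ⊆ Δ) (hAB : Disjoint A B)
    (horth : ∀ i ∈ A, ∀ j ∈ B, P.pairing j i = 0)
    (k' i k : ι) (hk' : k' ∈ posOf P Δ) (hi : i ∈ A)
    (hroot : P.root k = P.root k' + P.root i)
    (hB' : k' ∈ inSpan P B) : False := by
  classical
  have hiΔ : i ∈ Δ := hA hi
  have hiB : i ∉ B := fun h => (Set.disjoint_left.mp hAB) hi h
  have h0 : P.pairing k' i = 0 := by
    have := pairing_zero_of_mem_span P B i (horth i hi) (P.root k') hB'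
    rwa [P.root_coroot'_eq_pairing] at this
  have hki : P.pairing k i = 2 := by
    rw [RootPairing.pairing_eq_add_of_root_eq_add hroot, h0, P.pairing_same, zero_add]
  have hco : co hΔ (P.reflectionPerm i k) = co hΔ k' - co hΔ i := by
    rw [co_reflection, hki, co_add hΔ hroot]
    module
  have hci : co hΔ k' ⟨i, hiΔ⟩ = 0 := co_eq_zero_of_mem_span hΔ B hB k' hB' ⟨i, hiΔ⟩ hiB
  obtain ⟨l, hl⟩ := exists_co_pos hΔ k' hk'
  have hli : l ≠ ⟨i, hiΔ⟩ := by
    rintro rfl
    rw [hci] at hl
    exact lt_irrefl _ hl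
  apply not_mixed hΔ (P.reflectionPerm i k) l ⟨i, hiΔ⟩
  · rw [hco, co_simple hΔ i hiΔ, Finsupp.sub_apply, Finsupp.single_apply, if_neg (Ne.symm hli)]
    simpa using hl
  · rw [hco, co_simple hΔ i hiΔ, Finsupp.sub_apply, Finsupp.single_apply, if_pos rfl, hci]
    norm_num

/-- If a system of simple roots Δ is the disjoint union of two mutually orthogonal subsets Δ', Δ'', then
R_{Δ'} and R_{Δ''} partition the set of roots. -/
theorem result {ι M N : Type*} [AddCommGroup M] [AddCommGroup N]
    (P : RootPairing ι ℤ M N) [Finite ι] (Δ Δ' : Set ι) (hΔ : RootD.IsSimpleSys P Δ)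
    (hsub : Δ' ⊆ Δ) (horth : ∀ i ∈ Δ', ∀ j ∈ Δ \ Δ', P.IsOrthogonal i j) (k : ι) :
    (k ∈ RootD.inSpan P Δ' ∨ k ∈ RootD.inSpan P (Δ \ Δ')) ∧
      ¬ (k ∈ RootD.inSpan P Δ' ∧ k ∈ RootD.inSpan P (Δ \ Δ')) := by
  have hdisj : Disjoint Δ' (Δ \ Δ') := Set.disjoint_sdiff_right
  constructor
  · have hpos : ∀ k ∈ posOf P Δ, k ∈ RootD.inSpan P Δ' ∨ k ∈ RootD.inSpan P (Δ \ Δ') := by
      refine posOf_induction hΔ
        (p := fun k => k ∈ RootD.inSpan P Δ' ∨ k ∈ RootD.inSpan P (Δ \ Δ')) ?_ ?_
      · intro i hi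
        by_cases h : i ∈ Δ'
        · exact Or.inl (Submodule.subset_span ⟨i, h, rfl⟩)
        · exact Or.inr (Submodule.subset_span ⟨i, ⟨hi, h⟩, rfl⟩)
      · intro k' i k hk' hi hk hroot hco hpair ih
        by_cases h : i ∈ Δ'
        · rcases ih with ih | ih
          · left
            rw [mem_inSpan_iff, hroot]
            exact Submodule.add_mem _ ih (Submodule.subset_span ⟨i, h, rfl⟩)
          · exfalso
            exact step P Δ Δ' (Δ \ Δ') hΔ hsub Set.sdiff_subset hdisj
              (fun a ha b hb => (horth a ha b hb).2) k' i k hk' h hroot ih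
        · rcases ih with ih | ih
          · exfalso
            exact step P Δ (Δ \ Δ') Δ' hΔ Set.sdiff_subset hsub hdisj.symm
              (fun a ha b hb => (horth b hb a ha).1) k' i k hk' ⟨hi, h⟩ hroot ih
          · right
            rw [mem_inSpan_iff, hroot]
            exact Submodule.add_mem _ ih (Submodule.subset_span ⟨i, ⟨hi, h⟩, rfl⟩)
    by_cases hk : k ∈ posOf P Δ
    · exact hpos k hk
    · have hk' := (not_mem_posOf_iff hΔ k).mp hk
      have hneg : P.root k = -P.root (P.reflectionPerm k k) := by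
        rw [root_negIdx, neg_neg]
      rcases hpos _ hk' with h | h
      · left
        rw [mem_inSpan_iff, hneg]
        exact Submodule.neg_mem _ h
      · right
        rw [mem_inSpan_iff, hneg]
        exact Submodule.neg_mem _ h
  · rintro ⟨h1, h2⟩
    have hli : LinearIndepOn ℤ P.root (Δ' ∪ (Δ \ Δ')) := by
      rw [Set.union_sdiff_cancel hsub]
      exact hΔ.linInd
    have hd := ((linearIndepOn_union_iff hdisj).mp hli).2.2
    have := Submodule.disjoint_def.mp hd (P.root k) h1 h2
    exact P.ne_zero k this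

end Groth.Agent.S5483
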