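import Groth.Statements.S5482
import Groth.Agent.S5483
import Groth.Agent.Lib.Helper21.RootSimple
import Groth.Agent.Lib.Helper21.RootOrbit
import Mathlib.Tactic

set_option autoImplicit false
open RootD

namespace Groth.Agent.S5482

open Groth.Agent.Lib.Helper21
open Groth.Agent.Lib.Helper16 (co co_simple co_add co_sub co_sign mem_posOf_iff
  not_mem_posOf_iff root_negIdx co_reflection)

theorem neg_neg_idx {ι M N : Type*} [AddCommGroup M] [AddCommGroup N]
    (P : RootPairing ι ℤ M N) (k : ι) :
    P.reflectionPerm (P.reflectionPerm k k) (P.reflectionPerm k k) = k := by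
  apply P.root.injective
  rw [root_negIdx, root_negIdx, neg_neg]

theorem inSpan_subset {ι M N : Type*} [AddCommGroup M] [AddCommGroup N]
    (P : RootPairing ι ℤ M N) [Finite ι] (Δ : Set ι) (hΔ : RootD.IsSimpleSys P Δ) (T S : Set ι)
    (hc : RootD.IsClosedSub P T) (hs : RootD.IsSymmSub P T) (hSΔ : S ⊆ Δ) (hST : S ⊆ T) :
    RootD.inSpan P S ⊆ T := by
  classical
  have hpos : ∀ k ∈ posOf P Δ, k ∈ RootD.inSpan P S → k ∈ T := by
    refine posOf_induction hΔ (p := fun k => k ∈ RootD.inSpan P S → k ∈ T) ?_ ?_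
    · intro i hi hmem
      by_contra hiT
      have hiS : i ∉ S := fun h => hiT (hST h)
      have := co_eq_zero_of_mem_span hΔ S hSΔ i hmem ⟨i, hi⟩ hiS
      rw [co_simple hΔ i hi, Finsupp.single_apply, if_pos rfl] at this
      exact one_ne_zero this
    · intro k' i k hk' hi hk hroot hco hpair ih hmem
      have hiS : i ∈ S := by
        by_contra hiS
        have := co_eq_zero_of_mem_span hΔ S hSΔ k hmem ⟨i, hi⟩ hiS
        rw [this] at hco
        exact lt_irrefl _ hco
      have hk'mem : k' ∈ RootD.inSpan P S := by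
        have h1 : P.root k' = P.root k - P.root i := by rw [hroot]; abel
        change P.root k' ∈ Submodule.span ℤ (P.root '' S)
        rw [h1]
        exact Submodule.sub_mem _ hmem (Submodule.subset_span ⟨i, hiS, rfl⟩)
      exact hc (ih hk'mem) (hST hiS) hroot
  intro k hk
  by_cases hkp : k ∈ posOf P Δ
  · exact hpos k hkp hk
  · have hk' := (not_mem_posOf_iff hΔ k).mp hkp
    have hmem : P.reflectionPerm k k ∈ RootD.inSpan P S := by
      change P.root (P.reflectionPerm k k) ∈ Submodule.span ℤ (P.root '' S)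
      rw [root_negIdx]
      exact Submodule.neg_mem _ hk
    have := hs (hpos _ hk' hmem)
    rwa [neg_neg_idx] at this

theorem simple_orth {ι M N : Type*} [AddCommGroup M] [AddCommGroup N]
    (P : RootPairing ι ℤ M N) [Finite ι] (Δ : Set ι) (hΔ : RootD.IsSimpleSys P Δ) (R' : Set ι)
    (hc : RootD.IsClosedSub P R') (hs : RootD.IsSymmSub P R') (hc' : RootD.IsClosedSub P R'ᶜ)
    (hs' : RootD.IsSymmSub P R'ᶜ) (i j : ι) (hi : i ∈ Δ) (hj : j ∈ Δ) (hiR : i ∈ R') (hjR : j ∉ R') :
    P.IsOrthogonal i j := by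
  classical
  rw [orth_iff]
  have hij : i ≠ j := by rintro rfl; exact hjR hiR
  have hij' : (⟨i, hi⟩ : Δ) ≠ ⟨j, hj⟩ := fun h => hij (congrArg Subtype.val h)
  rcases lt_trichotomy (P.pairing i j) 0 with h | h | h
  · exfalso
    have hne : P.root i ≠ -P.root j := by
      intro heq
      have h1 : i = P.reflectionPerm j j := P.root.injective (by rw [root_negIdx, heq])
      have h2 : co hΔ i = -co hΔ j := by
        conv_lhs => rw [h1]
        exact Groth.Agent.Lib.Helper16.co_negIdx hΔ j
      have h3 := DFunLike.congr_fun h2 ⟨i, hi⟩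
      rw [co_simple hΔ i hi, co_simple hΔ j hj, Finsupp.neg_apply, Finsupp.single_apply,
        Finsupp.single_apply, if_pos rfl, if_neg (Ne.symm hij')] at h3
      norm_num at h3
    have hmem : P.root i + P.root j ∈ Set.range P.root := by
      apply P.root_add_root_mem_of_pairingIn_neg _ hne
      rw [pairing_eq]; exact h
    obtain ⟨k, hk⟩ := hmem
    by_cases hkR : k ∈ R'
    · apply hjR
      have : P.root j = P.root k + P.root (P.reflectionPerm i i) := by
        rw [root_negIdx, hk]; abel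
      exact hc hkR (hs hiR) this
    · have : P.root i = P.root k + P.root (P.reflectionPerm j j) := by
        rw [root_negIdx, hk]; abel
      exact (hc' hkR (hs' hjR) this) hiR
  · exact h
  · exfalso
    have hmem : P.root i - P.root j ∈ Set.range P.root := by
      apply P.root_sub_root_mem_of_pairingIn_pos _ hij
      rw [pairing_eq]; exact h
    obtain ⟨k, hk⟩ := hmem
    have hco := co_sub hΔ hk
    apply not_mixed hΔ k ⟨i, hi⟩ ⟨j, hj⟩
    · rw [hco, co_simple hΔ i hi, co_simple hΔ j hj, Finsupp.sub_apply, Finsupp.single_apply,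
        Finsupp.single_apply, if_pos rfl, if_neg (Ne.symm hij')]
      norm_num
    · rw [hco, co_simple hΔ i hi, co_simple hΔ j hj, Finsupp.sub_apply, Finsupp.single_apply,
        Finsupp.single_apply, if_pos rfl, if_neg hij']
      norm_num

/-- If the roots are partitioned into two closed symmetric subsets R', R'', then with Δ' = Δ ∩ R', Δ'' =
Δ ∩ R'' for a system of simple roots Δ one has R' = R_{Δ'}, R'' = R_{Δ''}, and Δ' is orthogonal to
Δ''. -/
theorem result {ι M N : Type*} [AddCommGroup M] [AddCommGroup N]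
    (P : RootPairing ι ℤ M N) [Finite ι] (Δ : Set ι) (hΔ : RootD.IsSimpleSys P Δ) (R' : Set ι)
    (hc : RootD.IsClosedSub P R') (hs : RootD.IsSymmSub P R') (hc' : RootD.IsClosedSub P R'ᶜ)
    (hs' : RootD.IsSymmSub P R'ᶜ) :
    R' = RootD.inSpan P (Δ ∩ R') ∧ R'ᶜ = RootD.inSpan P (Δ \ R') ∧
      ∀ i ∈ Δ ∩ R', ∀ j ∈ Δ \ R', P.IsOrthogonal i j := by
  have horth : ∀ i ∈ Δ ∩ R', ∀ j ∈ Δ \ R', P.IsOrthogonal i j := fun i hi j hj =>
    simple_orth P Δ hΔ R' hc hs hc' hs' i j hi.1 hj.1 hi.2 hj.2
  have hset : Δ \ (Δ ∩ R') = Δ \ R' := by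
    ext x
    simp only [Set.mem_sdiff, Set.mem_inter_iff, not_and]
    tauto
  have hpart := fun k => Groth.Agent.S5483.result P Δ (Δ ∩ R') hΔ Set.inter_subset_left
    (by rw [hset]; exact horth) k
  rw [hset] at hpart
  have ha : RootD.inSpan P (Δ ∩ R') ⊆ R' :=
    inSpan_subset P Δ hΔ R' (Δ ∩ R') hc hs Set.inter_subset_left Set.inter_subset_right
  have hb : RootD.inSpan P (Δ \ R') ⊆ R'ᶜ :=
    inSpan_subset P Δ hΔ R'ᶜ (Δ \ R') hc' hs' Set.sdiff_subset (fun x hx => hx.2)
  refine ⟨?_, ?_, horth⟩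
  · apply Set.Subset.antisymm _ ha
    intro k hk
    rcases (hpart k).1 with h | h
    · exact h
    · exact absurd hk (hb h)
  · apply Set.Subset.antisymm _ hb
    intro k hk
    rcases (hpart k).1 with h | h
    · exact absurd (ha h) hk
    · exact h

end Groth.Agent.S5482
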