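import Groth.Statements.S5484
import Groth.Agent.Lib.Helper21.RootLen
import Mathlib.LinearAlgebra.Matrix.ToLinearEquiv
import Mathlib.Analysis.Matrix.PosDef
import Mathlib.Algebra.Order.Star.Real
import Mathlib.Tactic

set_option autoImplicit false
open RootD

namespace Groth.Agent.S5484

open Groth.Agent.Lib.Helper21

theorem det_gram_pos {ι M N : Type*} [AddCommGroup M] [AddCommGroup N]
    (P : RootPairing ι ℤ M N) [Fintype ι] {n : Type*} [Fintype n] [DecidableEq n] (r : n → ι)
    (hli : LinearIndependent ℤ (fun a : n => P.root (r a))) :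
    0 < Matrix.det (Matrix.of fun (a b : n) => P.RootForm (P.root (r a)) (P.root (r b))) := by
  set G : Matrix n n ℤ := Matrix.of fun (a b : n) => P.RootForm (P.root (r a)) (P.root (r b)) with hG
  let B : Matrix ι n ℤ := Matrix.of fun k a => P.pairing (r a) k
  have hGB : G = B.transpose * B := by
    ext a b
    simp only [hG, B, Matrix.of_apply, Matrix.mul_apply, Matrix.transpose_apply]
    rw [P.rootForm_apply_apply]
    simp only [P.root_coroot'_eq_pairing]
  have hnonneg : 0 ≤ G.det := by
    have h1 : (G.map (Int.cast : ℤ → ℝ)) =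
        (B.map (Int.cast : ℤ → ℝ)).conjTranspose * (B.map (Int.cast : ℤ → ℝ)) := by
      rw [Matrix.conjTranspose_eq_transpose_of_trivial, hGB]
      rw [← Matrix.transpose_map]
      exact Matrix.map_mul (f := Int.castRingHom ℝ)
    have h2 := (Matrix.posSemidef_conjTranspose_mul_self (B.map (Int.cast : ℤ → ℝ))).det_nonneg
    rw [← h1] at h2
    have h3 : ((G.det : ℤ) : ℝ) = (G.map (Int.cast : ℤ → ℝ)).det := by
      have := RingHom.map_det (Int.castRingHom ℝ) G
      simpa [RingHom.mapMatrix_apply] using this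
    rw [← h3] at h2
    exact_mod_cast h2
  have hne : G.det ≠ 0 := by
    intro h0
    obtain ⟨v, hv, hGv⟩ := Matrix.exists_mulVec_eq_zero_iff.mpr h0
    apply hv
    have hform : P.RootForm (∑ a, v a • P.root (r a)) (∑ b, v b • P.root (r b)) = 0 := by
      have h1 : P.RootForm (∑ a, v a • P.root (r a)) (∑ b, v b • P.root (r b)) =
          ∑ a, v a * (G.mulVec v) a := by
        simp only [map_sum, LinearMap.sum_apply, map_smul, LinearMap.smul_apply, smul_eq_mul,
          Matrix.mulVec, dotProduct, hG, Matrix.of_apply]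
        apply Finset.sum_congr rfl
        intro a _
        simp only [Finset.mul_sum]
        apply Finset.sum_congr rfl
        intro b _
        rw [rootForm_comm P (P.root (r b)) (P.root (r a))]
        ring
      rw [h1, hGv]
      simp
    have hx : (∑ a, v a • P.root (r a)) ∈ P.rootSpan ℤ :=
      Submodule.sum_mem _ (fun a _ => Submodule.smul_mem _ _ (root_mem_rootSpan P (r a)))
    have hzero := P.eq_zero_of_mem_rootSpan_of_rootForm_self_eq_zero hx hform
    funext a
    exact (Fintype.linearIndependent_iff.mp hli) v hzero a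
  exact lt_of_le_of_ne hnonneg (Ne.symm hne)

open Classical in
/-- Every principal minor of the Cartan matrix (a_{α,β} = (α^v, β), α, β simple) is strictly positive. -/
theorem result {ι M N : Type*} [AddCommGroup M] [AddCommGroup N]
    (P : RootPairing ι ℤ M N) [Finite ι] (Δ : Finset ι) (hΔ : RootD.IsSimpleSys P (↑Δ : Set ι))
    (Δ' : Finset ι) (hsub : Δ' ⊆ Δ) :
    0 < Matrix.det (Matrix.of fun (a b : ↥Δ') => P.pairing (b : ι) (a : ι)) := by
  let _ : Fintype ι := Fintype.ofFinite ι
  have hli : LinearIndependent ℤ (fun a : ↥Δ' => P.root (a : ι)) := by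
    have h1 : LinearIndepOn ℤ P.root (↑Δ' : Set ι) :=
      hΔ.linInd.mono (by exact_mod_cast hsub)
    exact h1
  have hG := det_gram_pos P (fun a : ↥Δ' => (a : ι)) hli
  set A : Matrix ↥Δ' ↥Δ' ℤ := Matrix.of fun (a b : ↥Δ') => P.pairing (b : ι) (a : ι) with hA
  set G : Matrix ↥Δ' ↥Δ' ℤ :=
    Matrix.of fun (a b : ↥Δ') => P.RootForm (P.root (a : ι)) (P.root (b : ι)) with hGdef
  have hDA : Matrix.diagonal (fun a : ↥Δ' => P.RootForm (P.root (a : ι)) (P.root (a : ι))) * A =
      (2 : ℤ) • G := by
    ext a b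
    rw [Matrix.diagonal_mul, Matrix.smul_apply, smul_eq_mul]
    simp only [hA, hGdef, Matrix.of_apply]
    exact len_mul_pairing P (a : ι) (b : ι)
  have hdet := congrArg Matrix.det hDA
  rw [Matrix.det_mul, Matrix.det_diagonal, Matrix.det_smul] at hdet
  have hL : 0 < ∏ a : ↥Δ', P.RootForm (P.root (a : ι)) (P.root (a : ι)) :=
    Finset.prod_pos (fun a _ => len_pos P (a : ι))
  have hR : 0 < (2 : ℤ) ^ Fintype.card ↥Δ' * G.det := mul_pos (by positivity) hG
  rw [← hdet] at hR
  exact (mul_pos_iff_of_pos_left hL).mp hR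

end Groth.Agent.S5484
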