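import Groth.Statements.S5485
import Groth.Agent.Lib.Helper21.RootWeyl
import Mathlib.Tactic

set_option autoImplicit false
open RootD

namespace Groth.Agent.S5485

open Groth.Agent.Lib.Helper21
open Groth.Agent.Lib.Helper16 (co co_simple pos_dichotomy simple_mem_posOf not_mem_posOf_iff
  root_negIdx pairing_pos_symm)

theorem two_smul_coroot_of_root_eq {ι M N : Type*} [AddCommGroup M] [AddCommGroup N]
    (P : RootPairing ι ℤ M N) [Finite ι] (k i : ι) (h : P.root k = (2 : ℤ) • P.root i) :
    (2 : ℤ) • P.coroot k = P.coroot i := by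
  classical
  let _ : Fintype ι := Fintype.ofFinite ι
  have htf : Module.IsTorsionFree ℤ N := torsionFreeM P.flip
  have h1 := P.rootForm_self_smul_coroot k
  have h2 := P.rootForm_self_smul_coroot i
  have hL : P.RootForm (P.root k) (P.root k) = 4 * P.RootForm (P.root i) (P.root i) := by
    rw [h]
    simp only [map_smul, LinearMap.smul_apply, smul_eq_mul]
    ring
  rw [hL, h, map_smul] at h1
  have hpos := len_pos P i
  have h3 : (2 * P.RootForm (P.root i) (P.root i)) • ((2 : ℤ) • P.coroot k - P.coroot i) = 0 := by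
    rw [smul_sub, smul_smul, mul_smul 2 (P.RootForm (P.root i) (P.root i)) (P.coroot i), h2]
    have : (2 * P.RootForm (P.root i) (P.root i) * 2) = 4 * P.RootForm (P.root i) (P.root i) := by
      ring
    rw [this, h1]
    module
  rcases smul_eq_zero.mp h3 with h4 | h4
  · omega
  · exact sub_eq_zero.mp h4

theorem coroot_simple_linInd {ι M N : Type*} [AddCommGroup M] [AddCommGroup N]
    (P : RootPairing ι ℤ M N) [Finite ι] (Δ : Set ι) (hΔ : RootD.IsSimpleSys P Δ) :
    LinearIndependent ℤ (fun i : Δ => P.coroot i) := by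
  classical
  let _ : Fintype ι := Fintype.ofFinite ι
  have hli : LinearIndependent ℤ (fun i : Δ => P.root i) := hΔ.linInd
  rw [Fintype.linearIndependent_iff] at hli ⊢
  intro a ha i
  have h1 := congrArg (fun x => (2 : ℕ) • P.CoPolarization x) ha
  simp only [map_sum, map_smul, map_zero, smul_zero, Finset.smul_sum] at h1
  have h2 : ∀ j : Δ, (2 : ℕ) • a j • P.CoPolarization (P.coroot j) =
      (a j * P.CorootForm (P.coroot j) (P.coroot j)) • P.root j := by
    intro j
    rw [smul_comm, ← P.corootForm_self_smul_root, smul_smul]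
  rw [Finset.sum_congr rfl (fun j _ => h2 j)] at h1
  have h3 := hli _ h1 i
  have hpos : 0 < P.CorootForm (P.coroot i) (P.coroot i) := len_pos P.flip i
  rcases mul_eq_zero.mp h3 with h4 | h4
  · exact h4
  · omega

/-- If Δ is a system of simple roots then ind(Δ^v), the set of coroots of Δ with each divisible coroot
replaced by its half, is a system of simple coroots (a system of simple roots of the dual datum). -/
theorem result {ι M N : Type*} [AddCommGroup M] [AddCommGroup N]
    (P : RootPairing ι ℤ M N) [Finite ι] (Δ : Set ι) (hΔ : RootD.IsSimpleSys P Δ) :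
    RootD.IsSimpleSys P.flip {j : ι | ∃ i ∈ Δ, (j = i ∧ RootD.IsIndiv P.flip i) ∨ (2 : ℤ) • P.coroot j = P.coroot i} := by
  classical
  have htf : Module.IsTorsionFree ℤ N := torsionFreeM P.flip
  set Δv : Set ι := {j : ι | ∃ i ∈ Δ, (j = i ∧ RootD.IsIndiv P.flip i) ∨
    (2 : ℤ) • P.coroot j = P.coroot i} with hΔv
  have hgen : ∀ j ∈ Δv, P.coroot j ∈ natSpan P.flip Δv := fun j hj =>
    AddSubmonoid.subset_closure ⟨j, hj, rfl⟩
  have hsimple : ∀ i ∈ Δ, P.coroot i ∈ natSpan P.flip Δv := by
    intro i hi
    by_cases hind : RootD.IsIndiv P.flip i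
    · exact hgen i ⟨i, hi, Or.inl ⟨rfl, hind⟩⟩
    · unfold RootD.IsIndiv at hind
      push Not at hind
      obtain ⟨j, hj⟩ := hind
      have hj' : (2 : ℤ) • P.coroot j = P.coroot i := hj
      rw [← hj', ofNat_zsmul]
      exact AddSubmonoid.nsmul_mem _ (hgen j ⟨i, hi, Or.inr hj'⟩) 2
  have hpos : ∀ n : ℕ, ∀ k ∈ posOf P Δ, (ht hΔ k).toNat = n → P.coroot k ∈ natSpan P.flip Δv := by
    intro n
    induction n using Nat.strong_induction_on with
    | _ n ih =>
      intro k hk hn
      obtain ⟨i, hi, hpair, _⟩ := exists_simple_pairing_pos hΔ k hk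
      rcases pos_dichotomy hΔ i hi k hk with h | h | h
      · have hht := ht_reflection hΔ i hi k
        have h0 := ht_nonneg_of_pos hΔ _ h
        have ih' := ih (ht hΔ (P.reflectionPerm i k)).toNat (by omega) _ h rfl
        have hp : 0 < P.pairing i k := pairing_pos_symm P k i hpair
        have hco : P.coroot k = P.coroot (P.reflectionPerm i k) +
            (P.pairing i k).toNat • P.coroot i := by
          rw [P.coroot_reflectionPerm, P.coreflection_apply_coroot, ← natCast_zsmul,
            Int.toNat_of_nonneg hp.le]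
          abel
        rw [hco]
        exact AddSubmonoid.add_mem _ ih' (AddSubmonoid.nsmul_mem _ (hsimple i hi) _)
      · rw [h]; exact hsimple i hi
      · exact hgen k ⟨i, hi, Or.inr (two_smul_coroot_of_root_eq P k i h)⟩
  constructor
  · change LinearIndependent ℤ (fun j : Δv => P.coroot j)
    have hchoose : ∀ j : Δv, ∃ i : Δ, ∃ c : ℤ, c ≠ 0 ∧ (2 : ℤ) • P.coroot j = c • P.coroot i ∧
        ((j : ι) = i ∧ RootD.IsIndiv P.flip i ∨ (2 : ℤ) • P.coroot j = P.coroot i) := by
      rintro ⟨j, i, hi, ⟨rfl, h2⟩ | h⟩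
      · exact ⟨⟨j, hi⟩, 2, by norm_num, rfl, Or.inl ⟨rfl, h2⟩⟩
      · exact ⟨⟨i, hi⟩, 1, by norm_num, by rw [one_smul]; exact h, Or.inr h⟩
    choose τ c hc hτc hτ using hchoose
    have hτinj : Function.Injective τ := by
      intro j j' hjj'
      apply Subtype.ext
      rcases hτ j with ⟨h1, h2⟩ | h1 <;> rcases hτ j' with ⟨h1', h2'⟩ | h1'
      · rw [h1, h1', hjj']
      · exfalso
        rw [hjj'] at h2
        exact h2 j' h1'
      · exfalso
        rw [← hjj'] at h2'
        exact h2' j h1
      · rw [hjj', ← h1'] at h1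
        have h3 : (2 : ℤ) • (P.coroot j - P.coroot j') = 0 := by rw [smul_sub, h1, sub_self]
        rcases smul_eq_zero.mp h3 with h4 | h4
        · norm_num at h4
        · exact P.coroot.injective (sub_eq_zero.mp h4)
    have hli := (coroot_simple_linInd P Δ hΔ).comp τ hτinj
    let _ : Fintype Δv := Fintype.ofFinite Δv
    rw [Fintype.linearIndependent_iff] at hli ⊢
    intro a ha j
    have h1 : ∑ j : Δv, (a j * c j) • (P.coroot ∘ Subtype.val ∘ τ) j = 0 := by
      have h2 := congrArg (fun x => (2 : ℤ) • x) ha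
      simp only [Finset.smul_sum, smul_zero] at h2
      rw [← h2]
      apply Finset.sum_congr rfl
      intro j _
      change (a j * c j) • P.coroot (τ j) = (2 : ℤ) • a j • P.coroot j
      rw [smul_comm, hτc j, smul_smul]
    have h3 := hli _ h1 j
    rcases mul_eq_zero.mp h3 with h4 | h4
    · exact h4
    · exact absurd h4 (hc j)
  · intro k
    change P.coroot k ∈ natSpan P.flip Δv ∨ -P.coroot k ∈ natSpan P.flip Δv
    by_cases hk : k ∈ posOf P Δ
    · exact Or.inl (hpos _ k hk rfl)
    · right
      have hk' := (not_mem_posOf_iff hΔ k).mp hk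
      have h1 := hpos _ _ hk' rfl
      have h2 : P.coroot (P.reflectionPerm k k) = -P.coroot k := root_negIdx P.flip k
      rwa [h2] at h1

end Groth.Agent.S5485
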