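import Groth.Statements.S5487
import Mathlib.Tactic

set_option autoImplicit false
open RootD

namespace Groth.Agent.S5487

theorem len_mul_pairing {ι M N : Type*} [AddCommGroup M] [AddCommGroup N]
    (P : RootPairing ι ℤ M N) [Fintype ι] (i j : ι) :
    P.RootForm (P.root i) (P.root i) * P.pairing j i = 2 * P.RootForm (P.root i) (P.root j) := by
  have h := congrArg (fun n => P.toLinearMap (P.root j) n) (P.rootForm_self_smul_coroot i)
  simp only [map_smul, map_nsmul, RootPairing.root_coroot_eq_pairing,
    RootPairing.toLinearMap_apply_apply_Polarization, smul_eq_mul, nsmul_eq_mul] at h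
  exact_mod_cast h

theorem len_swap {ι M N : Type*} [AddCommGroup M] [AddCommGroup N]
    (P : RootPairing ι ℤ M N) [Fintype ι] (i j : ι) :
    P.RootForm (P.root i) (P.root i) * P.pairing j i =
      P.RootForm (P.root j) (P.root j) * P.pairing i j := by
  rw [len_mul_pairing, len_mul_pairing]
  have := (P.rootForm_symmetric).eq (P.root i) (P.root j)
  simp only [RingHom.id_apply] at this
  rw [this]

/-- For non-orthogonal roots α, β one has ℓ(α) ℓ(α^v) = ℓ(β) ℓ(β^v), where ℓ is the canonical quadratic
form of the datum and of its dual. -/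
theorem result {ι M N : Type*} [AddCommGroup M] [AddCommGroup N]
    (P : RootPairing ι ℤ M N) [Finite ι] [Fintype ι] (i j : ι) (h : ¬ P.IsOrthogonal i j) :
    P.RootForm (P.root i) (P.root i) * P.CorootForm (P.coroot i) (P.coroot i) =
      P.RootForm (P.root j) (P.root j) * P.CorootForm (P.coroot j) (P.coroot j) := by
  have hrefl : Module.IsReflexive ℤ M := Module.IsReflexive.of_isPerfPair P.toLinearMap
  have htf : Module.IsTorsionFree ℤ M := inferInstance
  have ha : P.pairing i j ≠ 0 := fun h0 => h (RootPairing.isOrthogonal_iff_pairing_eq_zero.mpr h0)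
  have hb : P.pairing j i ≠ 0 := fun h0 => ha (RootPairing.pairing_eq_zero_iff.mp h0)
  have h1 := len_swap P i j
  have h2 : P.CorootForm (P.coroot i) (P.coroot i) * P.pairing i j =
      P.CorootForm (P.coroot j) (P.coroot j) * P.pairing j i := len_swap P.flip i j
  have h3 : (P.pairing i j * P.pairing j i) *
      (P.RootForm (P.root i) (P.root i) * P.CorootForm (P.coroot i) (P.coroot i)) =
      (P.pairing i j * P.pairing j i) *
      (P.RootForm (P.root j) (P.root j) * P.CorootForm (P.coroot j) (P.coroot j)) := by
    linear_combination (P.CorootForm (P.coroot i) (P.coroot i) * P.pairing i j) * h1 +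
      (P.RootForm (P.root j) (P.root j) * P.pairing i j) * h2
  exact mul_left_cancel₀ (mul_ne_zero ha hb) h3

end Groth.Agent.S5487
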