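import Groth.Statements.S5489
import Mathlib.Tactic
import Mathlib.LinearAlgebra.RootSystem.Finite.Lemmas

set_option autoImplicit false
open RootD

namespace Groth.Agent.S5489

/-- If a root α, distinct from roots α_1, ..., α_n, is a non-negative rational combination of them, then
some α_l with non-zero coefficient has (α^v, α_l) > 0 and α - α_l a root. -/
theorem result {ι M N : Type*} [AddCommGroup M] [AddCommGroup N]
    (P : RootPairing ι ℤ M N) [Finite ι] {n : ℕ} (a : Fin n → ι) (m : Fin n → ℕ)
    (k : ι) (hne : ∀ l, a l ≠ k) (c : ℕ) (hc : 0 < c) (hk : c • P.root k = ∑ l, m l • P.root (a l)) :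
    ∃ l : Fin n, m l ≠ 0 ∧ 0 < P.pairing (a l) k ∧ P.root k - P.root (a l) ∈ Set.range P.root := by
  have h1 := congrArg (P.coroot' k) hk
  rw [map_nsmul, map_sum] at h1
  simp only [map_nsmul] at h1
  have h2 : ∀ i : ι, P.coroot' k (P.root i) = P.pairing i k := fun i => rfl
  simp only [h2, RootPairing.pairing_same] at h1
  have hpos : (0 : ℤ) < ∑ l, m l • P.pairing (a l) k := by
    rw [← h1]
    simp only [nsmul_eq_mul]
    positivity
  obtain ⟨l, -, hl⟩ := Finset.exists_lt_of_sum_lt (f := fun _ => (0 : ℤ))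
    (by simpa using hpos : ∑ l : Fin n, (0 : ℤ) < ∑ l, m l • P.pairing (a l) k)
  simp only [nsmul_eq_mul] at hl
  have hm : m l ≠ 0 := by
    rintro h0
    rw [h0] at hl
    simp at hl
  have hp : 0 < P.pairing (a l) k := by
    have : (0 : ℤ) < (m l : ℤ) := by exact_mod_cast Nat.pos_of_ne_zero hm
    exact (mul_pos_iff_of_pos_left this).mp hl
  refine ⟨l, hm, hp, ?_⟩
  have hp' : 0 < P.pairingIn ℤ k (a l) := by
    rw [P.zero_lt_pairingIn_iff' ℤ]
    have := P.algebraMap_pairingIn ℤ (a l) k
    simp only [algebraMap_int_eq, eq_intCast, Int.cast_id] at this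
    rw [this]
    exact hp
  exact P.root_sub_root_mem_of_pairingIn_pos hp' (hne l).symm

end Groth.Agent.S5489
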