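import Groth.Statements.S5491
import Mathlib.Tactic
import Mathlib.LinearAlgebra.RootSystem.Base
import Mathlib.LinearAlgebra.RootSystem.Finite.Lemmas

set_option autoImplicit false
open RootD

namespace Groth.Agent.S5491

open Classical in
/-- With ρ^v the half-sum of the positive coroots, the order (height) of any root α relative to the
simple system equals (ρ^v, α); equivalently 2·height(α) = Σ_{β > 0} (β^v, α). -/
theorem result {ι M N : Type*} [AddCommGroup M] [AddCommGroup N]
    (P : RootPairing ι ℤ M N) [Finite ι] [Fintype ι] [P.IsReduced] (b : P.Base) (i : ι) :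
    2 * b.height i = ∑ j, if b.IsPos j then P.pairing i j else 0 := by
  classical
  have hM : Module.IsReflexive ℤ M := .of_isPerfPair P.toLinearMap
  let F : M →ₗ[ℤ] ℤ := ∑ j, if b.IsPos j then P.coroot' j else 0
  have hF : ∀ k, F (P.root k) = ∑ j, if b.IsPos j then P.pairing k j else 0 := by
    intro k
    simp only [F, LinearMap.coe_sum, Finset.sum_apply]
    refine Finset.sum_congr rfl fun j _ => ?_
    split_ifs
    · simp
    · simp
  have hneg : ∀ s, b.height (P.reflectionPerm s s) = - b.height s := by
    intro s
    exact b.height_reflectionPerm_self s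
  have hs : ∀ s ∈ b.support, F (P.root s) = 2 := by
    intro s hs
    rw [hF]
    have hpos_s : b.IsPos s := b.isPos_of_mem_support hs
    rw [← Finset.add_sum_erase _ _ (Finset.mem_univ s), if_pos hpos_s, P.pairing_same]
    suffices h : ∑ j ∈ Finset.univ.erase s, (if b.IsPos j then P.pairing s j else 0) = 0 by
      rw [h]; ring
    rw [← Finset.sum_filter]
    set T := (Finset.univ.erase s).filter (fun j => b.IsPos j) with hT
    have hmem : ∀ j, j ∈ T → P.reflectionPerm s j ∈ T := by
      intro j hj
      simp only [hT, Finset.mem_filter, Finset.mem_erase, Finset.mem_univ, and_true, ne_eq] at hj ⊢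
      obtain ⟨hjs, hjp⟩ := hj
      refine ⟨?_, hjp.reflectionPerm hs hjs⟩
      intro hσ
      have : j = P.reflectionPerm s s := by
        have h2 := P.reflectionPerm_self s j
        rw [hσ] at h2
        exact h2.symm
      rw [this, RootPairing.Base.isPos_iff, hneg, RootPairing.Base.height_one_of_mem_support hs] at hjp
      omega
    have hsum : ∑ j ∈ T, P.pairing s j = ∑ j ∈ T, - P.pairing s j := by
      refine Finset.sum_equiv (P.reflectionPerm s) ?_ ?_
      · intro j
        refine ⟨hmem j, fun h => ?_⟩
        have := hmem _ h
        rwa [P.reflectionPerm_self] at this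
      · intro j _
        rw [P.pairing_reflectionPerm, P.pairing_reflectionPerm_self_left, neg_neg]
    rw [Finset.sum_neg_distrib] at hsum
    omega
  obtain ⟨f, -, -, hf⟩ := b.exists_root_eq_sum_int i
  rw [← hF, RootPairing.Base.height_eq_sum hf, hf, map_sum, Finset.mul_sum]
  refine Finset.sum_congr rfl fun j hj => ?_
  rw [map_smul, hs j hj, smul_eq_mul, mul_comm]

end Groth.Agent.S5491
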