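import Groth.Statements.S5492
import Mathlib.Tactic
import Mathlib.LinearAlgebra.RootSystem.Finite.Lemmas

set_option autoImplicit false
open RootD

namespace Groth.Agent.S5492

lemma natSpan_exists {ι M N : Type*} [AddCommGroup M] [AddCommGroup N]
    (P : RootPairing ι ℤ M N) (Δ : Set ι) (x : M) (hx : x ∈ RootD.natSpan P Δ) :
    ∃ c : Δ →₀ ℤ, (∀ d, 0 ≤ c d) ∧
      Finsupp.linearCombination ℤ (fun d : Δ => P.root d) c = x := by
  classical
  unfold RootD.natSpan at hx
  induction hx using AddSubmonoid.closure_induction with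
  | mem y hy =>
    obtain ⟨d, hd, rfl⟩ := hy
    refine ⟨Finsupp.single ⟨d, hd⟩ 1, fun e => ?_, by simp⟩
    rw [Finsupp.single_apply]
    split_ifs <;> norm_num
  | zero => exact ⟨0, fun _ => le_rfl, by simp⟩
  | add y z _ _ hy hz =>
    obtain ⟨c1, h1, rfl⟩ := hy
    obtain ⟨c2, h2, rfl⟩ := hz
    exact ⟨c1 + c2, fun d => add_nonneg (h1 d) (h2 d), by simp⟩

/-- Off-diagonal entries of the Cartan matrix of a system of simple roots are non-positive: (α^v, β) ≤ 0
for distinct simple roots α, β. -/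
theorem result {ι M N : Type*} [AddCommGroup M] [AddCommGroup N]
    (P : RootPairing ι ℤ M N) [Finite ι] (Δ : Set ι) (hΔ : RootD.IsSimpleSys P Δ) (i j : ι)
    (hi : i ∈ Δ) (hj : j ∈ Δ) (hij : i ≠ j) : P.pairing j i ≤ 0 := by
  classical
  by_contra hpos
  push Not at hpos
  have hpi : P.pairingIn ℤ j i = P.pairing j i := by
    have := P.algebraMap_pairingIn ℤ j i
    simpa using this
  have hpos' : 0 < P.pairingIn ℤ j i := by rw [hpi]; exact hpos
  obtain ⟨k, hk⟩ := P.root_sub_root_mem_of_pairingIn_pos hpos' (Ne.symm hij)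
  have hli : LinearIndependent ℤ (fun d : Δ => P.root d) := hΔ.linInd
  rw [linearIndependent_iff] at hli
  have hne : (⟨j, hj⟩ : Δ) ≠ ⟨i, hi⟩ := by
    intro h
    exact hij (congrArg Subtype.val h).symm
  rcases hΔ.mem_or_neg_mem k with hmem | hmem
  · obtain ⟨c, hc, hcx⟩ := natSpan_exists P Δ _ hmem
    have hl : Finsupp.linearCombination ℤ (fun d : Δ => P.root d)
        (Finsupp.single ⟨j, hj⟩ 1 - Finsupp.single ⟨i, hi⟩ 1 - c) = 0 := by
      rw [map_sub, map_sub, hcx, hk]
      simp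
    have h0 := hli _ hl
    have h1 := DFunLike.congr_fun h0 ⟨i, hi⟩
    simp only [Finsupp.coe_sub, Pi.sub_apply, Finsupp.coe_zero, Pi.zero_apply] at h1
    rw [Finsupp.single_eq_same, Finsupp.single_apply, if_neg hne] at h1
    have := hc ⟨i, hi⟩
    linarith
  · obtain ⟨c, hc, hcx⟩ := natSpan_exists P Δ _ hmem
    have hl : Finsupp.linearCombination ℤ (fun d : Δ => P.root d)
        (Finsupp.single ⟨i, hi⟩ 1 - Finsupp.single ⟨j, hj⟩ 1 - c) = 0 := by
      rw [map_sub, map_sub, hcx, hk]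
      simp
    have h0 := hli _ hl
    have h1 := DFunLike.congr_fun h0 ⟨j, hj⟩
    simp only [Finsupp.coe_sub, Pi.sub_apply, Finsupp.coe_zero, Pi.zero_apply] at h1
    rw [Finsupp.single_eq_same, Finsupp.single_apply, if_neg hne.symm] at h1
    have := hc ⟨j, hj⟩
    linarith

end Groth.Agent.S5492
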