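import Groth.Statements.S5493
import Mathlib.Tactic
import Mathlib.LinearAlgebra.RootSystem.Base
import Mathlib.LinearAlgebra.RootSystem.Hom
import Mathlib.LinearAlgebra.RootSystem.Basic

set_option autoImplicit false
open RootD

namespace Groth.Agent.S5493

theorem maps_root {ι M N ι' M' N' : Type*} [AddCommGroup M] [AddCommGroup N] [AddCommGroup M']
    [AddCommGroup N']
    (P : RootPairing ι ℤ M N) (P' : RootPairing ι' ℤ M' N') [Finite ι] [P.IsReduced]
    (had : Submodule.span ℤ (Set.range P.root) = ⊤)
    (b : P.Base) (b' : P'.Base) (u : ↥b.support ≃ ↥b'.support)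
    (hu : ∀ i j : ↥b.support, P.pairing (i : ι) (j : ι) = P'.pairing (u i : ι') (u j : ι'))
    (φ : M ≃ₗ[ℤ] M') (hφ : ∀ i : ↥b.support, φ (P.root i) = P'.root (u i)) (k : ι) :
    ∃ k' : ι', φ (P.root k) = P'.root k' := by
  have hspan : Submodule.span ℤ (P.root '' b.support) = ⊤ := by
    rw [b.span_int_root_support, had]
  have hint : ∀ j : ↥b.support, ∀ x : M, φ (P.reflection j x) = P'.reflection (u j) (φ x) := by
    intro j
    have h1 : (φ.toLinearMap ∘ₗ (P.reflection j).toLinearMap) =
        ((P'.reflection (u j)).toLinearMap ∘ₗ φ.toLinearMap) := by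
      apply LinearMap.ext_on hspan
      rintro _ ⟨i, hi, rfl⟩
      simp only [LinearMap.comp_apply, LinearEquiv.coe_coe]
      have h2 := hφ ⟨i, hi⟩
      have h3 := hu ⟨i, hi⟩ j
      simp only at h2 h3
      rw [P.reflection_apply_root, map_sub, map_smul, h2, hφ j, P'.reflection_apply_root, h3]
    intro x
    exact LinearMap.congr_fun h1 x
  refine b.induction_reflect k (p := fun k => ∃ k' : ι', φ (P.root k) = P'.root k') ?_ ?_ ?_
  · rintro i ⟨k', hk'⟩
    refine ⟨P'.reflectionPerm k' k', ?_⟩
    rw [P.root_reflectionPerm, P.reflection_apply_self, map_neg, hk', P'.root_reflectionPerm,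
      P'.reflection_apply_self]
  · intro i hi
    exact ⟨u ⟨i, hi⟩, hφ ⟨i, hi⟩⟩
  · rintro i j ⟨k', hk'⟩ hj
    refine ⟨P'.reflectionPerm (u ⟨j, hj⟩) k', ?_⟩
    rw [P.root_reflectionPerm, hint ⟨j, hj⟩, hk', P'.root_reflectionPerm]

/-- Adjoint case; the simply connected case is dual: two reduced adjoint root data with systems of
simple roots Δ, Δ' and a bijection u : Δ → Δ' respecting the Cartan matrices are isomorphic through
a unique isomorphism inducing u on Δ. -/
theorem result {ι M N ι' M' N' : Type*} [AddCommGroup M] [AddCommGroup N] [AddCommGroup M'] [AddCommGroup N']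
    (P : RootPairing ι ℤ M N) (P' : RootPairing ι' ℤ M' N') [Finite ι] [Finite ι'] [P.IsReduced] [P'.IsReduced]
    (had : Submodule.span ℤ (Set.range P.root) = ⊤) (had' : Submodule.span ℤ (Set.range P'.root) = ⊤)
    (b : P.Base) (b' : P'.Base) (u : ↥b.support ≃ ↥b'.support)
    (hu : ∀ i j : ↥b.support, P.pairing (i : ι) (j : ι) = P'.pairing (u i : ι') (u j : ι')) :
    ∃! e : RootPairing.Equiv P P', ∀ i : ↥b.support, e.indexEquiv (i : ι) = (u i : ι') := by
  classical
  have hM : Module.IsReflexive ℤ M := .of_isPerfPair P.toLinearMap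
  have hM' : Module.IsReflexive ℤ M' := .of_isPerfPair P'.toLinearMap
  have hspan : Submodule.span ℤ (P.root '' b.support) = ⊤ := by
    rw [b.span_int_root_support, had]
  have hspan' : Submodule.span ℤ (P'.root '' b'.support) = ⊤ := by
    rw [b'.span_int_root_support, had']
  have hrange : Set.range (fun i : b.support => P.root i) = P.root '' b.support := by
    ext x
    constructor
    · rintro ⟨⟨i, hi⟩, rfl⟩
      exact ⟨i, hi, rfl⟩
    · rintro ⟨i, hi, rfl⟩
      exact ⟨⟨i, hi⟩, rfl⟩
  have hrange' : Set.range (fun i : b'.support => P'.root i) = P'.root '' b'.support := by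
    ext x
    constructor
    · rintro ⟨⟨i, hi⟩, rfl⟩
      exact ⟨i, hi, rfl⟩
    · rintro ⟨i, hi, rfl⟩
      exact ⟨⟨i, hi⟩, rfl⟩
  let B : Module.Basis b.support ℤ M := Module.Basis.mk (v := fun i : b.support => P.root i)
    b.linearIndepOn_root (by rw [hrange, hspan])
  let B' : Module.Basis b'.support ℤ M' := Module.Basis.mk (v := fun i : b'.support => P'.root i)
    b'.linearIndepOn_root (by rw [hrange', hspan'])
  let φ : M ≃ₗ[ℤ] M' := B.equiv B' u
  have hφ : ∀ i : b.support, φ (P.root i) = P'.root (u i) := by
    intro i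
    have h1 : B i = P.root i := by simp [B]
    have h2 : B' (u i) = P'.root (u i) := by simp [B']
    rw [← h1, ← h2]
    exact Module.Basis.equiv_apply _ _ _ _
  have hφsymm : ∀ i : b'.support, φ.symm (P'.root i) = P.root (u.symm i) := by
    intro i
    rw [LinearEquiv.symm_apply_eq, hφ, Equiv.apply_symm_apply]
  have h1 := fun k => maps_root P P' had b b' u hu φ hφ k
  have h2 := fun k => maps_root P' P had' b' b u.symm
    (fun i j => by rw [hu, Equiv.apply_symm_apply, Equiv.apply_symm_apply]) φ.symm hφsymm k
  let e0 : ι → ι' := fun k => (h1 k).choose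
  have he0 : ∀ k, φ (P.root k) = P'.root (e0 k) := fun k => (h1 k).choose_spec
  have he0_bij : Function.Bijective e0 := by
    constructor
    · intro k1 k2 h
      apply P.root.injective
      apply φ.injective
      rw [he0, he0, h]
    · intro k'
      obtain ⟨k, hk⟩ := h2 k'
      refine ⟨k, P'.root.injective ?_⟩
      rw [← he0, ← hk, LinearEquiv.apply_symm_apply]
  let e : ι ≃ ι' := Equiv.ofBijective e0 he0_bij
  have he : ∀ k, φ (P.root k) = P'.root (e k) := he0
  have hdual : ∀ k : ι, (P'.coroot' (e k)) ∘ₗ φ.toLinearMap = P.coroot' k := by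
    intro k
    refine Module.Dual.eq_of_preReflection_mapsTo (Set.finite_range P.root) had ?_ ?_
      (P.root_coroot_two k) (P.mapsTo_reflection_root k)
    · simp only [LinearMap.comp_apply, LinearEquiv.coe_coe, he]
      exact P'.root_coroot_two (e k)
    · rintro _ ⟨j, rfl⟩
      rw [Module.preReflection_apply]
      refine ⟨e.symm (P'.reflectionPerm (e k) (e j)), ?_⟩
      apply φ.injective
      rw [he, Equiv.apply_symm_apply, P'.root_reflectionPerm, P'.reflection_apply, map_sub,
        map_smul, he, he]
      simp only [LinearMap.comp_apply, LinearEquiv.coe_coe, he]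
  let ψ : N' ≃ₗ[ℤ] N := P'.flip.toPerfPair.trans (φ.dualMap.trans P.flip.toPerfPair.symm)
  let E : RootPairing.Equiv P P' :=
    { weightMap := φ
      coweightMap := ψ
      indexEquiv := e
      weight_coweight_transpose := by ext; simp [ψ]
      root_weightMap := by ext; simp [he]
      coroot_coweightMap := by
        ext i'
        simp only [Function.comp_apply, LinearEquiv.coe_coe, ψ, LinearEquiv.trans_apply]
        rw [LinearEquiv.symm_apply_eq]
        have h3 := hdual (e.symm i')
        rw [Equiv.apply_symm_apply] at h3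
        exact h3
      bijective_weightMap := φ.bijective
      bijective_coweightMap := ψ.bijective }
  refine ⟨E, fun i => ?_, fun E' hE' => ?_⟩
  · show e i = u i
    apply P'.root.injective
    rw [← he, hφ]
  · have hw : E'.weightMap = E.weightMap := by
      apply LinearMap.ext_on hspan
      rintro _ ⟨i, hi, rfl⟩
      rw [RootPairing.Hom.root_weightMap_apply, hE' ⟨i, hi⟩]
      show _ = φ (P.root i)
      rw [hφ ⟨i, hi⟩]
    have hidx : E'.indexEquiv = E.indexEquiv := by
      ext k
      apply P'.root.injective
      rw [← RootPairing.Hom.root_weightMap_apply, ← RootPairing.Hom.root_weightMap_apply, hw]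
    have hcw : E'.coweightMap = E.coweightMap := by
      have h3 := E'.weight_coweight_transpose
      have h4 := E.weight_coweight_transpose
      rw [hw] at h3
      have h5 := h3.symm.trans h4
      ext n'
      apply P.flip.toPerfPair.injective
      exact LinearMap.congr_fun h5 n'
    exact RootPairing.Equiv.ext hw hcw hidx

end Groth.Agent.S5493
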