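import Groth.Statements.S5506
import Mathlib.Tactic
import Mathlib.LinearAlgebra.RootSystem.Finite.Lemmas
import Mathlib.LinearAlgebra.RootSystem.Reduced

set_option autoImplicit false
open RootD

namespace Groth.Agent.S5506

/-- The class of a root under 'joined by a chain of pairwise non-orthogonal roots' is closed and
symmetric, and so is its complement; these classes are the irreducible components. -/
theorem result {ι M N : Type*} [AddCommGroup M] [AddCommGroup N]
    (P : RootPairing ι ℤ M N) [Finite ι] (i : ι) :
    RootD.IsClosedSub P {j : ι | Relation.ReflTransGen (fun a b : ι => ¬ P.IsOrthogonal a b) i j} ∧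
      RootD.IsSymmSub P {j : ι | Relation.ReflTransGen (fun a b : ι => ¬ P.IsOrthogonal a b) i j} ∧
      RootD.IsClosedSub P {j : ι | Relation.ReflTransGen (fun a b : ι => ¬ P.IsOrthogonal a b) i j}ᶜ ∧
      RootD.IsSymmSub P {j : ι | Relation.ReflTransGen (fun a b : ι => ¬ P.IsOrthogonal a b) i j}ᶜ := by
  have : Module.IsReflexive ℤ M := .of_isPerfPair P.toLinearMap
  have hpair : ∀ a b k : ι, P.root k = P.root a + P.root b → ∀ c : ι,
      P.pairing k c = P.pairing a c + P.pairing b c := by
    intro a b k h c
    simp only [RootPairing.pairing, RootPairing.root', h, map_add, LinearMap.add_apply]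
  have H : ∀ a b k : ι, P.root k = P.root a + P.root b →
      ¬ P.IsOrthogonal a k ∨ ¬ P.IsOrthogonal b k := by
    intro a b k h
    by_contra hcon
    push_neg at hcon
    obtain ⟨h1, h2⟩ := hcon
    have e1 := hpair a b k h a
    have e2 := hpair a b k h b
    rw [h1.2, RootPairing.pairing_same] at e1
    rw [h2.2, RootPairing.pairing_same] at e2
    have hba : P.pairing b a = -2 := by linarith
    have hab : P.pairing a b = -2 := by linarith
    have hneg := (P.pairing_neg_two_neg_two_iff b a).mp ⟨hba, hab⟩
    have : P.root k = 0 := by rw [h, hneg]; abel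
    exact P.ne_zero k this
  have hselfr : ∀ a : ι, ¬ P.IsOrthogonal a (P.reflectionPerm a a) := by
    intro a h
    have := h.1
    rw [RootPairing.pairing_reflectionPerm_self_right, RootPairing.pairing_same] at this
    norm_num at this
  refine ⟨?_, ?_, ?_, ?_⟩
  · intro a b k ha hb h
    rcases H a b k h with h1 | h1
    · exact Relation.ReflTransGen.tail ha h1
    · exact Relation.ReflTransGen.tail hb h1
  · intro a ha
    exact Relation.ReflTransGen.tail ha (hselfr a)
  · intro a b k ha hb h hk
    rcases H a b k h with h1 | h1
    · exact ha (Relation.ReflTransGen.tail hk (fun ho => h1 ho.symm))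
    · exact hb (Relation.ReflTransGen.tail hk (fun ho => h1 ho.symm))
  · intro a ha hna
    exact ha (Relation.ReflTransGen.tail hna (fun ho => hselfr a ho.symm))

end Groth.Agent.S5506
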