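import Groth.Statements.S5494
import Mathlib.Tactic
import Groth.Agent.S5490
import Groth.Agent.S5506

set_option autoImplicit false
open RootD

namespace Groth.Agent.S5494

lemma allRoots {ι M N : Type*} [AddCommGroup M] [AddCommGroup N]
    (P : RootPairing ι ℤ M N) [Finite ι] (Δ : Set ι) (hΔ : RootD.IsSimpleSys P Δ)
    (S : Set ι) (hS : RootD.IsClosedSub P S) (hSs : RootD.IsSymmSub P S) (hΔS : Δ ⊆ S) :
    ∀ k : ι, k ∈ S := by
  intro k
  have hcl := (Groth.Agent.S5490.result P S).mp hS
  have hmono : RootD.natSpan P Δ ≤ RootD.natSpan P S :=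
    AddSubmonoid.closure_mono (Set.image_mono hΔS)
  rcases hΔ.mem_or_neg_mem k with h | h
  · exact hcl k (hmono h)
  · have hneg : P.root (P.reflectionPerm k k) = - P.root k := by
      rw [RootPairing.root_reflectionPerm, RootPairing.reflection_apply_self]
    have h1 : P.reflectionPerm k k ∈ S := hcl _ (by rw [hneg]; exact hmono h)
    have h2 := hSs h1
    have : P.reflectionPerm (P.reflectionPerm k k) (P.reflectionPerm k k) = k := by
      apply P.root.injective
      rw [RootPairing.root_reflectionPerm, RootPairing.reflection_apply_self, hneg, neg_neg]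
    rwa [this] at h2

/-- If a system of simple roots has no partition into two non-empty orthogonal subsets, then any two
roots are linked by a chain of roots with consecutive members non-orthogonal. -/
theorem result {ι M N : Type*} [AddCommGroup M] [AddCommGroup N]
    (P : RootPairing ι ℤ M N) [Finite ι] (Δ : Set ι) (hΔ : RootD.IsSimpleSys P Δ)
    (hconn : ∀ Δ' : Set ι, Δ' ⊆ Δ → (∀ i ∈ Δ', ∀ j ∈ Δ \ Δ', P.IsOrthogonal i j) → Δ' = ∅ ∨ Δ' = Δ)
    (i j : ι) : Relation.ReflTransGen (fun a b : ι => ¬ P.IsOrthogonal a b) i j := by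
  obtain ⟨h1, h2, h3, h4⟩ := Groth.Agent.S5506.result P i
  set C : Set ι := {j : ι | Relation.ReflTransGen (fun a b : ι => ¬ P.IsOrthogonal a b) i j} with hC
  have hiC : i ∈ C := Relation.ReflTransGen.refl
  have hort : ∀ d ∈ Δ ∩ C, ∀ e ∈ Δ \ (Δ ∩ C), P.IsOrthogonal d e := by
    intro d hd e he
    by_contra hno
    apply he.2
    exact ⟨he.1, Relation.ReflTransGen.tail hd.2 hno⟩
  rcases hconn (Δ ∩ C) Set.inter_subset_left hort with hemp | hfull
  · exfalso
    have hsub : Δ ⊆ Cᶜ := by
      intro d hd hdC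
      have : d ∈ Δ ∩ C := ⟨hd, hdC⟩
      rw [hemp] at this
      exact this
    exact allRoots P Δ hΔ Cᶜ h3 h4 hsub i hiC
  · have hsub : Δ ⊆ C := by
      intro d hd
      have : d ∈ Δ ∩ C := by rw [hfull]; exact hd
      exact this.2
    exact allRoots P Δ hΔ C h1 h2 hsub j

end Groth.Agent.S5494
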