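import Groth.Statements.S5495
import Mathlib.Tactic
import Mathlib.LinearAlgebra.RootSystem.Finite.Lemmas
import Mathlib.LinearAlgebra.RootSystem.Reduced

set_option autoImplicit false
open RootD

namespace Groth.Agent.S5495

lemma int_aux (p q : ℤ) (hpq : p * q = 4) (hodd : Odd p) : p = 1 ∨ p = -1 := by
  have hdvd : p ∣ 4 := ⟨q, hpq.symm⟩
  have hle : p ≤ 4 := Int.le_of_dvd (by norm_num) hdvd
  have hge : -4 ≤ p := by
    have : -p ∣ 4 := (neg_dvd).mpr hdvd
    have := Int.le_of_dvd (by norm_num) this
    linarith
  obtain ⟨t, ht⟩ := hodd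
  interval_cases p <;> omega

/-- If α is an indivisible root and kα is a root for a rational k, then k is an integer. -/
theorem result {ι M N : Type*} [AddCommGroup M] [AddCommGroup N]
    (P : RootPairing ι ℤ M N) [Finite ι] (i j : ι) (hind : RootD.IsIndiv P i) (a b : ℤ) (hb : b ≠ 0)
    (h : b • P.root j = a • P.root i) : b ∣ a := by
  have : Module.IsReflexive ℤ M := .of_isPerfPair P.toLinearMap
  have : Module.IsReflexive ℤ N := .of_isPerfPair P.flip.toLinearMap
  have h1 := congrArg (P.coroot' i) h
  have h2 := congrArg (P.coroot' j) h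
  rw [map_zsmul, map_zsmul] at h1 h2
  have e : ∀ x y : ι, P.coroot' y (P.root x) = P.pairing x y := fun x y => rfl
  rw [e, e, RootPairing.pairing_same, smul_eq_mul, smul_eq_mul] at h1 h2
  -- h1 : b * pairing j i = a * 2 ; h2 : b * 2 = a * pairing i j
  set p := P.pairing j i with hp
  set q := P.pairing i j with hq
  have hpq : p * q = 4 := by
    have : b * (p * q) = b * 4 := by
      calc b * (p * q) = (b * p) * q := by ring
        _ = (a * 2) * q := by rw [h1]
        _ = 2 * (a * q) := by ring
        _ = 2 * (b * 2) := by rw [h2]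
        _ = b * 4 := by ring
    exact mul_left_cancel₀ hb this
  rcases Int.even_or_odd p with ⟨p', hp'⟩ | hodd
  · refine ⟨p', ?_⟩
    have : 2 * a = 2 * (b * p') := by
      rw [hp'] at h1
      linarith
    linarith
  · exfalso
    have hp1 : p = 1 ∨ p = -1 := int_aux p q hpq hodd
    rcases hp1 with hp1 | hp1
    · have hq4 : q = 4 := by rw [hp1] at hpq; linarith
      have := (P.pairing_one_four_iff j i).mp ⟨hp1, hq4⟩
      exact hind j this.symm
    · have hq4 : q = -4 := by rw [hp1] at hpq; linarith
      have := (P.pairing_neg_one_neg_four_iff j i).mp ⟨hp1, hq4⟩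
      apply hind (P.reflectionPerm j j)
      rw [RootPairing.root_reflectionPerm, RootPairing.reflection_apply_self, this]
      simp

end Groth.Agent.S5495
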