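import Groth.Statements.S5496
import Mathlib.Tactic
import Mathlib.LinearAlgebra.RootSystem.Finite.Lemmas
import Mathlib.LinearAlgebra.RootSystem.Finite.Nondegenerate
import Mathlib.LinearAlgebra.RootSystem.WeylGroup
import Mathlib.GroupTheory.Index
import Mathlib.Data.ZMod.QuotientGroup

set_option autoImplicit false
open RootPairing
open scoped Pointwise
open RootD

namespace Groth.Agent.S5496

/-- For non-proportional roots α, β let n be the least integer n > 0 with (s_α s_β)^n(α) = α and (s_α
s_β)^n(β) = β. Then the subgroup W_{α,β} generated by s_α and s_β is presented by s_α² = s_β² = (s_α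
s_β)^n = 1; equivalently it has exactly 2n elements. -/
theorem result {ι M N : Type*} [AddCommGroup M] [AddCommGroup N]
    (P : RootPairing ι ℤ M N) [Finite ι] (i j : ι) (hli : LinearIndependent ℤ ![P.root i, P.root j])
    (n : ℕ) (hn : IsLeast {m : ℕ | 0 < m ∧ ((Equiv.reflection P i * Equiv.reflection P j) ^ m) • i = i ∧
      ((Equiv.reflection P i * Equiv.reflection P j) ^ m) • j = j} n) :
    Nat.card (Subgroup.closure ({Equiv.reflection P i, Equiv.reflection P j} : Set P.Aut)) = 2 * n := by
  classical
  have hfin := Fintype.ofFinite ι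
  have hM : Module.IsReflexive ℤ M := .of_isPerfPair P.toLinearMap
  have hMtf : IsAddTorsionFree M := .of_isTorsionFree ℤ M
  set s := Equiv.reflection P i with hs
  set t := Equiv.reflection P j with ht
  set r := s * t with hr
  have hsinv : s⁻¹ = s := Equiv.reflection_inv P i
  have htinv : t⁻¹ = t := Equiv.reflection_inv P j
  have hss : s * s = 1 := by
    calc s * s = s⁻¹ * s := by rw [hsinv]
      _ = 1 := inv_mul_cancel s
  have htt : t * t = 1 := by
    calc t * t = t⁻¹ * t := by rw [htinv]
      _ = 1 := inv_mul_cancel t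
  set G := Subgroup.closure ({s, t} : Set P.Aut) with hG
  have hsG : s ∈ G := Subgroup.subset_closure (by simp)
  have htG : t ∈ G := Subgroup.subset_closure (by simp)
  have hrG : r ∈ G := mul_mem hsG htG
  let V : Submodule ℤ M := Submodule.span ℤ {P.root i, P.root j}
  have hG1 : ∀ g ∈ G, (∀ x : M, g • x - x ∈ V) ∧
      (∀ x y : M, P.RootForm (g • x) (g • y) = P.RootForm x y) := by
    intro g hg
    induction hg using Subgroup.closure_induction with
    | mem g hg =>
      rcases hg with rfl | rfl
      · refine ⟨fun x => ?_, fun x y => ?_⟩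
        · rw [hs, Equiv.reflection_smul, RootPairing.reflection_apply, sub_sub_cancel_left]
          exact Submodule.neg_mem _ (Submodule.smul_mem _ _ (Submodule.subset_span (by simp)))
        · exact P.rootForm_reflection_reflection_apply i x y
      · refine ⟨fun x => ?_, fun x y => ?_⟩
        · rw [ht, Equiv.reflection_smul, RootPairing.reflection_apply, sub_sub_cancel_left]
          exact Submodule.neg_mem _ (Submodule.smul_mem _ _ (Submodule.subset_span (by simp)))
        · exact P.rootForm_reflection_reflection_apply j x y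
    | one => simp
    | mul g h _ _ ihg ihh =>
      refine ⟨fun x => ?_, fun x y => ?_⟩
      · rw [mul_smul]
        have h1 := ihg.1 (h • x)
        have h2 := ihh.1 x
        have : g • h • x - x = (g • h • x - h • x) + (h • x - x) := by abel
        rw [this]
        exact Submodule.add_mem _ h1 h2
      · rw [mul_smul, mul_smul, ihg.2, ihh.2]
    | inv g _ ih =>
      refine ⟨fun x => ?_, fun x y => ?_⟩
      · have h1 := ih.1 (g⁻¹ • x)
        rw [smul_inv_smul] at h1
        have : g⁻¹ • x - x = - (x - g⁻¹ • x) := by abel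
        rw [this]
        exact Submodule.neg_mem _ h1
      · have h1 := ih.2 (g⁻¹ • x) (g⁻¹ • y)
        rw [smul_inv_smul, smul_inv_smul] at h1
        exact h1.symm
  have hB : ∀ g ∈ G, g • i = i → g • j = j → g = 1 := by
    intro g hg hgi hgj
    obtain ⟨h1, h2⟩ := hG1 g hg
    have hri : g • P.root i = P.root i := by
      have h3 := Equiv.root_indexEquiv_eq_smul (P := P) i g
      rw [← h3]
      exact congrArg P.root hgi
    have hrj : g • P.root j = P.root j := by
      have h3 := Equiv.root_indexEquiv_eq_smul (P := P) j g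
      rw [← h3]
      exact congrArg P.root hgj
    apply Equiv.weightHom_injective P
    ext x
    change g • x = x
    have hv := h1 x
    have hvi : P.RootForm (g • x - x) (P.root i) = 0 := by
      rw [map_sub, LinearMap.sub_apply]
      nth_rewrite 1 [← hri]
      rw [h2, sub_self]
    have hvj : P.RootForm (g • x - x) (P.root j) = 0 := by
      rw [map_sub, LinearMap.sub_apply]
      nth_rewrite 1 [← hrj]
      rw [h2, sub_self]
    have hvv : P.RootForm (g • x - x) (g • x - x) = 0 := by
      obtain ⟨a, b, hab⟩ := Submodule.mem_span_pair.mp hv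
      have : P.RootForm (g • x - x) (a • P.root i + b • P.root j) = 0 := by
        rw [map_add, map_smul, map_smul, hvi, hvj]; simp
      rwa [hab] at this
    have hspan : g • x - x ∈ P.rootSpan ℤ := by
      refine Submodule.span_mono ?_ hv
      rintro y (rfl | rfl)
      · exact Set.mem_range_self i
      · exact Set.mem_range_self j
    have := P.eq_zero_of_mem_rootSpan_of_rootForm_self_eq_zero hspan hvv
    exact sub_eq_zero.mp this
  obtain ⟨⟨hn0, hni, hnj⟩, hnmin⟩ := hn
  have hrn : r ^ n = 1 := hB _ (pow_mem hrG n) hni hnj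
  have hord : orderOf r = n := by
    rw [orderOf_eq_iff hn0]
    refine ⟨hrn, fun m hm hm0 hrm => ?_⟩
    have hmem : m ∈ {m : ℕ | 0 < m ∧ (r ^ m) • i = i ∧ (r ^ m) • j = j} :=
      ⟨hm0, by rw [hrm, one_smul], by rw [hrm, one_smul]⟩
    have := hnmin hmem
    omega
  -- conjugation
  have hconj : s * r * s⁻¹ = r⁻¹ := by
    rw [hsinv, hr, mul_inv_rev, hsinv, htinv, ← mul_assoc, hss, one_mul]
  have hsr : ∀ k : ℤ, s * r ^ k = r ^ (-k) * s := by
    intro k
    have h1 : (s * r * s⁻¹) ^ k = s * r ^ k * s⁻¹ := conj_zpow
    rw [hconj, hsinv] at h1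
    have h2 : r ^ (-k) = s * r ^ k * s := by rw [← h1, inv_zpow, zpow_neg]
    rw [h2, mul_assoc, mul_assoc, hss, mul_one]
  have hts : t = s * r := by rw [hr, ← mul_assoc, hss, one_mul]
  have hform : ∀ g ∈ G, ∃ k : ℤ, g = r ^ k ∨ g = r ^ k * s := by
    have hleft : ∀ x ∈ ({s, t} : Set P.Aut), ∀ y : P.Aut, (∃ k : ℤ, y = r ^ k ∨ y = r ^ k * s) →
        ∃ k : ℤ, x * y = r ^ k ∨ x * y = r ^ k * s := by
      intro x hx y hy
      obtain ⟨k, hk | hk⟩ := hy
      · rcases hx with rfl | rfl
        · exact ⟨-k, Or.inr (by rw [hk, hsr])⟩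
        · refine ⟨-(k+1), Or.inr ?_⟩
          rw [hk, hts, mul_assoc, ← zpow_one_add, hsr, add_comm]
      · rcases hx with rfl | rfl
        · refine ⟨-k, Or.inl ?_⟩
          rw [hk, ← mul_assoc, hsr, mul_assoc, hss, mul_one]
        · refine ⟨-(k+1), Or.inl ?_⟩
          rw [hk, hts, mul_assoc, ← mul_assoc r, ← zpow_one_add, ← mul_assoc, hsr, mul_assoc, hss,
            mul_one, add_comm]
    intro g hg
    induction hg using Subgroup.closure_induction_left with
    | one => exact ⟨0, Or.inl (by simp)⟩
    | mul_left x hx y _ ih => exact hleft x hx y ih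
    | inv_mul_cancel x hx y _ ih =>
      have : x⁻¹ = x := by
        rcases hx with rfl | rfl
        · exact hsinv
        · exact htinv
      rw [this]
      exact hleft x hx y ih
  -- s is not the identity, t is not the identity
  have hne1 : ∀ a : ι, Equiv.reflection P a ≠ 1 := by
    intro a h1
    have h2 : Equiv.reflection P a • P.root a = P.root a := by rw [h1, one_smul]
    rw [Equiv.reflection_smul, RootPairing.reflection_apply_self] at h2
    have h3 : (2 : ℤ) • P.root a = 0 := by
      rw [two_smul]
      nth_rewrite 1 [← h2]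
      simp
    have h4 := (smul_eq_zero.mp h3).resolve_left (by norm_num)
    exact P.ne_zero a h4
  -- s not in zpowers r
  have hsH : s ∉ Subgroup.zpowers r := by
    intro hmem
    obtain ⟨k, hk⟩ := Subgroup.mem_zpowers_iff.mp hmem
    have hcomm : s * r = r * s := by
      rw [← hk, ← zpow_add_one, ← zpow_one_add, add_comm]
    have hst : s * t = t * s := by
      have h1 : s * (s * r) = s * (r * s) := by rw [hcomm]
      rw [← hts, hr, ← mul_assoc, ← mul_assoc, hss, one_mul] at h1
      exact h1
    have hrr : r * r = 1 := by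
      rw [hr, mul_assoc, ← mul_assoc t, ← hst, mul_assoc s t t, htt, mul_one, hss]
    have hr2 : r ^ (2 : ℤ) = 1 := by rw [zpow_two, hrr]
    have hkk : r ^ k = r ^ (k % 2) := by
      conv_lhs => rw [← Int.emod_add_mul_ediv k 2]
      rw [zpow_add, zpow_mul, hr2, one_zpow, mul_one]
    rcases Int.emod_two_eq_zero_or_one k with h0 | h1
    · rw [hkk, h0, zpow_zero] at hk
      exact hne1 i hk.symm
    · rw [hkk, h1, zpow_one, hr] at hk
      have : t = 1 := by
        have h5 : s * t = s * 1 := by rw [mul_one]; exact hk
        exact mul_left_cancel h5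
      exact hne1 j this
  have hHG : Subgroup.zpowers r ≤ G := by
    rw [Subgroup.zpowers_le]
    exact hrG
  have hidx : (Subgroup.zpowers r).relIndex G = 2 := by
    rw [Subgroup.relIndex_eq_two_iff_exists_notMem_and]
    refine ⟨s, hsG, hsH, fun b hb => ?_⟩
    obtain ⟨k, hk | hk⟩ := hform b hb
    · right
      rw [hk]
      exact Subgroup.zpow_mem_zpowers r k
    · left
      rw [hk, mul_assoc, hss, mul_one]
      exact Subgroup.zpow_mem_zpowers r k
  have hcard := Subgroup.relIndex_mul_relIndex ⊥ (Subgroup.zpowers r) G bot_le hHG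
  rw [Subgroup.relIndex_bot_left, Subgroup.relIndex_bot_left, hidx, Nat.card_zpowers, hord] at hcard
  rw [← hcard, mul_comm]

end Groth.Agent.S5496
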