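import Groth.Statements.S5497
import Mathlib.Tactic

set_option autoImplicit false
open RootD

namespace Groth.Agent.S5497

/-- For a partition of the roots into two closed symmetric subsets, whenever α, β, α + β are roots they
lie in the same part. -/
theorem result {ι M N : Type*} [AddCommGroup M] [AddCommGroup N]
    (P : RootPairing ι ℤ M N) [Finite ι] (R' : Set ι) (hc : RootD.IsClosedSub P R')
    (hs : RootD.IsSymmSub P R') (hc' : RootD.IsClosedSub P R'ᶜ) (hs' : RootD.IsSymmSub P R'ᶜ)
    (i j k : ι) (h : P.root k = P.root i + P.root j) :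
    (i ∈ R' ∧ j ∈ R' ∧ k ∈ R') ∨ (i ∉ R' ∧ j ∉ R' ∧ k ∉ R') := by
  have hneg : ∀ l : ι, P.root (P.reflectionPerm l l) = - P.root l := by
    intro l
    rw [RootPairing.root_reflectionPerm, RootPairing.reflection_apply_self]
  -- general claim for any closed symmetric S with closed symmetric complement
  have key : ∀ S : Set ι, RootD.IsClosedSub P S → RootD.IsSymmSub P S →
      RootD.IsClosedSub P Sᶜ → RootD.IsSymmSub P Sᶜ →
      ∀ i j k : ι, P.root k = P.root i + P.root j → i ∈ S → j ∈ S ∧ k ∈ S := by
    intro S hS hSs hSc hSsc i j k h hi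
    have hj : j ∈ S := by
      by_contra hj
      by_cases hk : k ∈ S
      · -- j = k + (-i)
        have : P.root j = P.root k + P.root (P.reflectionPerm i i) := by
          rw [hneg, h]; abel
        exact hj (hS hk (hSs hi) this)
      · -- i = k + (-j), all in complement
        have : P.root i = P.root k + P.root (P.reflectionPerm j j) := by
          rw [hneg, h]; abel
        exact (hSc hk (hSsc hj) this) hi
    exact ⟨hj, hS hi hj h⟩
  by_cases hi : i ∈ R'
  · left
    exact ⟨hi, key R' hc hs hc' hs' i j k h hi⟩
  · right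
    have hcc : RootD.IsClosedSub P R'ᶜᶜ := by rwa [compl_compl]
    have hsc : RootD.IsSymmSub P R'ᶜᶜ := by rwa [compl_compl]
    have := key R'ᶜ hc' hs' hcc hsc i j k h hi
    exact ⟨hi, this.1, this.2⟩

end Groth.Agent.S5497
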