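import Groth.Statements.S5505
import Mathlib.Tactic
import Mathlib.LinearAlgebra.RootSystem.Finite.Lemmas
import Groth.Agent.S5497

set_option autoImplicit false
open RootD

namespace Groth.Agent.S5505

/-- A subset of roots which, together with its complement, is closed and symmetric contains with any
root every root not orthogonal to it; so it is a union of irreducible components. -/
theorem result {ι M N : Type*} [AddCommGroup M] [AddCommGroup N]
    (P : RootPairing ι ℤ M N) [Finite ι] (R' : Set ι) (hc : RootD.IsClosedSub P R')
    (hs : RootD.IsSymmSub P R') (hc' : RootD.IsClosedSub P R'ᶜ) (hs' : RootD.IsSymmSub P R'ᶜ)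
    (i j : ι) (hi : i ∈ R') (hij : ¬ P.IsOrthogonal i j) : j ∈ R' := by
  have hpi : ∀ a b : ι, P.pairingIn ℤ a b = P.pairing a b := by
    intro a b
    have := P.algebraMap_pairingIn ℤ a b
    simpa using this
  have hne : P.pairing i j ≠ 0 := by
    intro h0
    apply hij
    exact ⟨h0, (P.pairing_eq_zero_iff' (i := i) (j := j)).mp h0⟩
  rcases lt_or_gt_of_ne hne with hlt | hgt
  · by_cases hneg : P.root i = - P.root j
    · have : j = P.reflectionPerm i i := by
        apply P.root.injective
        rw [RootPairing.root_reflectionPerm, RootPairing.reflection_apply_self, hneg, neg_neg]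
      rw [this]
      exact hs hi
    · have hlt' : P.pairingIn ℤ i j < 0 := by rw [hpi]; exact hlt
      obtain ⟨k, hk⟩ := P.root_add_root_mem_of_pairingIn_neg hlt' hneg
      rcases Groth.Agent.S5497.result P R' hc hs hc' hs' i j k hk with h | h
      · exact h.2.1
      · exact absurd hi h.1
  · by_cases hijeq : i = j
    · rw [← hijeq]; exact hi
    · have hgt' : 0 < P.pairingIn ℤ i j := by rw [hpi]; exact hgt
      obtain ⟨k, hk⟩ := P.root_sub_root_mem_of_pairingIn_pos hgt' hijeq
      have hk' : P.root i = P.root k + P.root j := by rw [hk]; abel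
      rcases Groth.Agent.S5497.result P R' hc hs hc' hs' k j i hk' with h | h
      · exact h.2.1
      · exact absurd hi h.2.2

end Groth.Agent.S5505
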