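import Groth.Statements.S5498
import Mathlib.Tactic
import Mathlib.LinearAlgebra.RootSystem.Finite.Lemmas
import Mathlib.LinearAlgebra.RootSystem.Finite.Nondegenerate
import Groth.Agent.S5505
import Groth.Agent.S5506

set_option autoImplicit false
open RootD

namespace Groth.Agent.S5498

/-- If R is irreducible then so is the dual datum R^v, and long(α)·long(α^v) (equivalently ℓ(α) ℓ(α^v))
is constant on the roots. -/
theorem result {ι M N : Type*} [AddCommGroup M] [AddCommGroup N]
    (P : RootPairing ι ℤ M N) [Finite ι] [Fintype ι] [Nonempty ι]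
    (hirr : ∀ R' : Set ι, RootD.IsClosedSub P R' → RootD.IsSymmSub P R' → RootD.IsClosedSub P R'ᶜ →
      RootD.IsSymmSub P R'ᶜ → R' = ∅ ∨ R' = Set.univ) :
    (∀ R' : Set ι, RootD.IsClosedSub P.flip R' → RootD.IsSymmSub P.flip R' → RootD.IsClosedSub P.flip R'ᶜ →
      RootD.IsSymmSub P.flip R'ᶜ → R' = ∅ ∨ R' = Set.univ) ∧
    ∀ i j : ι, P.RootForm (P.root i) (P.root i) * P.CorootForm (P.coroot i) (P.coroot i) =
      P.RootForm (P.root j) (P.root j) * P.CorootForm (P.coroot j) (P.coroot j) := by
  have hM : Module.IsReflexive ℤ M := .of_isPerfPair P.toLinearMap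
  have hN : Module.IsReflexive ℤ N := .of_isPerfPair P.flip.toLinearMap
  -- the class of any root is everything
  have hclass : ∀ i j : ι, Relation.ReflTransGen (fun a b : ι => ¬ P.IsOrthogonal a b) i j := by
    intro i j
    obtain ⟨h1, h2, h3, h4⟩ := Groth.Agent.S5506.result P i
    rcases hirr _ h1 h2 h3 h4 with h | h
    · exfalso
      have : i ∈ {j : ι | Relation.ReflTransGen (fun a b : ι => ¬ P.IsOrthogonal a b) i j} :=
        Relation.ReflTransGen.refl
      rw [h] at this
      exact this
    · have : j ∈ (Set.univ : Set ι) := Set.mem_univ j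
      rw [← h] at this
      exact this
  refine ⟨?_, ?_⟩
  · intro R' hc hs hc' hs'
    by_cases hne : R' = ∅
    · exact Or.inl hne
    · right
      obtain ⟨i, hi⟩ := Set.nonempty_iff_ne_empty.mpr hne
      apply Set.eq_univ_of_forall
      intro j
      have hch := hclass i j
      induction hch with
      | refl => exact hi
      | tail _ hbc ih =>
        refine Groth.Agent.S5505.result P.flip R' hc hs hc' hs' _ _ ih ?_
        intro ho
        exact hbc ⟨ho.2, ho.1⟩
  · intro i j
    have hch := hclass i j
    induction hch with
    | refl => rfl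
    | @tail b c _ hbc ih =>
      rw [ih]
      have hbc1 : P.pairing b c ≠ 0 := by
        intro h0
        exact hbc ⟨h0, (P.pairing_eq_zero_iff' (i := b) (j := c)).mp h0⟩
      have hbc2 : P.pairing c b ≠ 0 := by
        intro h0
        exact hbc ⟨(P.pairing_eq_zero_iff' (i := c) (j := b)).mp h0, h0⟩
      have e1 := P.toInvariantForm.pairing_mul_eq_pairing_mul_swap b c
      have e2 := P.flip.toInvariantForm.pairing_mul_eq_pairing_mul_swap b c
      simp only [RootPairing.toInvariantForm_form, RootPairing.pairing_flip] at e1 e2
      change P.pairing b c * P.CorootForm (P.coroot b) (P.coroot b) =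
        P.pairing c b * P.CorootForm (P.coroot c) (P.coroot c) at e2
      have hmul : (P.pairing c b * P.pairing b c) *
          (P.RootForm (P.root b) (P.root b) * P.CorootForm (P.coroot b) (P.coroot b)) =
          (P.pairing c b * P.pairing b c) *
          (P.RootForm (P.root c) (P.root c) * P.CorootForm (P.coroot c) (P.coroot c)) := by
        calc _ = (P.pairing c b * P.RootForm (P.root b) (P.root b)) *
              (P.pairing b c * P.CorootForm (P.coroot b) (P.coroot b)) := by ring
          _ = (P.pairing b c * P.RootForm (P.root c) (P.root c)) *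
              (P.pairing c b * P.CorootForm (P.coroot c) (P.coroot c)) := by rw [e1, e2]
          _ = _ := by ring
      exact mul_left_cancel₀ (mul_ne_zero hbc2 hbc1) hmul

end Groth.Agent.S5498
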