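import Groth.Statements.S5499
import Mathlib.Tactic
import Mathlib.LinearAlgebra.RootSystem.Finite.Lemmas
import Mathlib.LinearAlgebra.RootSystem.Finite.Nondegenerate

set_option autoImplicit false
open RootD

namespace Groth.Agent.S5499

/-- For an irreducible datum, where long(α) = ℓ(α)/ℓ(α₀) with ℓ(α₀) minimal: there is a unique
homomorphism u : Γ_0(R) → M^v with u(α) = long(α) α^v for every root α. -/
theorem result {ι M N : Type*} [AddCommGroup M] [AddCommGroup N]
    (P : RootPairing ι ℤ M N) [Finite ι] [Fintype ι]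
    (hirr : ∀ R' : Set ι, RootD.IsClosedSub P R' → RootD.IsSymmSub P R' → RootD.IsClosedSub P R'ᶜ →
      RootD.IsSymmSub P R'ᶜ → R' = ∅ ∨ R' = Set.univ)
    (i₀ : ι) (hmin : ∀ i : ι, P.RootForm (P.root i₀) (P.root i₀) ≤ P.RootForm (P.root i) (P.root i)) :
    ∃! u : Submodule.span ℤ (Set.range P.root) →+ N, ∀ i : ι,
      u ⟨P.root i, Submodule.subset_span (Set.mem_range_self i)⟩ =
        (P.RootForm (P.root i) (P.root i) / P.RootForm (P.root i₀) (P.root i₀)) • P.coroot i := by
  classical
  have hM : Module.IsReflexive ℤ M := .of_isPerfPair P.toLinearMap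
  have hN : Module.IsReflexive ℤ N := .of_isPerfPair P.flip.toLinearMap
  have hNtf : IsAddTorsionFree N := .of_isTorsionFree ℤ N
  set ℓ : ι → ℤ := fun k => P.RootForm (P.root k) (P.root k) with hℓ
  have hℓne : ∀ k, ℓ k ≠ 0 := fun k => RootPairing.IsAnisotropic.rootForm_root_ne_zero k
  have hℓpos : ∀ k, 0 < ℓ k := fun k => lt_of_le_of_ne (P.zero_le_rootForm _) (hℓne k).symm
  have hswap : ∀ a b, P.pairing b a * ℓ a = P.pairing a b * ℓ b :=
    fun a b => P.toInvariantForm.pairing_mul_eq_pairing_mul_swap a b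
  have h2B : ∀ a b, 2 * P.RootForm (P.root a) (P.root b) = P.pairing a b * ℓ b :=
    fun a b => P.toInvariantForm.two_mul_apply_root_root a b
  have hrefl_len : ∀ b k, ℓ (P.reflectionPerm b k) = ℓ k := by
    intro b k
    simp only [hℓ]
    rw [P.root_reflectionPerm, P.rootForm_reflection_reflection_apply]
  have hpair_add : ∀ a b k : ι, P.root k = P.root a + P.root b → ∀ c : ι,
      P.pairing k c = P.pairing a c + P.pairing b c := by
    intro a b k h c
    simp only [RootPairing.pairing, RootPairing.root', h, map_add, LinearMap.add_apply]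
  have hpi : ∀ a b : ι, P.pairingIn ℤ a b = P.pairing a b := by
    intro a b
    have := P.algebraMap_pairingIn ℤ a b
    simpa using this
  -- Step 1
  have step1 : ∀ i j : ι, ∃ o : ι, ℓ o = ℓ j ∧ P.pairing i o ≠ 0 := by
    intro i j
    let O : Set ι := {k | ℓ k = ℓ j}
    let R₁ : Set ι := {k | ∃ o ∈ O, P.pairing k o ≠ 0}
    have hR1 : R₁ = Set.univ := by
      have hcl : RootD.IsClosedSub P R₁ := by
        intro k1 k2 k3 hk1 hk2 h3
        by_contra hk3
        have hk3' : ∀ o ∈ O, P.pairing k3 o = 0 := by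
          intro o ho
          by_contra h
          exact hk3 ⟨o, ho, h⟩
        let V : Submodule ℤ M := Submodule.span ℤ (P.root '' O)
        have hV : ∀ k ∈ R₁, ∃ n : ℤ, n ≠ 0 ∧ n • P.root k ∈ V := by
          rintro k ⟨o, ho, hko⟩
          have hok : P.pairing o k ≠ 0 :=
            fun h => hko ((P.pairing_eq_zero_iff' (i := o) (j := k)).mp h)
          refine ⟨P.pairing o k, hok, ?_⟩
          have : P.pairing o k • P.root k = P.root o - P.root (P.reflectionPerm k o) := by
            rw [P.root_reflectionPerm, P.reflection_apply_root]; abel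
          rw [this]
          refine Submodule.sub_mem _ (Submodule.subset_span ⟨o, ho, rfl⟩)
            (Submodule.subset_span ⟨_, ?_, rfl⟩)
          show ℓ (P.reflectionPerm k o) = ℓ j
          rw [hrefl_len]; exact ho
        obtain ⟨n1, hn1, hv1⟩ := hV k1 hk1
        obtain ⟨n2, hn2, hv2⟩ := hV k2 hk2
        have hv3 : (n1 * n2) • P.root k3 ∈ V := by
          have : (n1 * n2) • (P.root k1 + P.root k2) =
              n2 • (n1 • P.root k1) + n1 • (n2 • P.root k2) := by
            rw [smul_add, smul_smul, smul_smul, mul_comm n2 n1]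
          rw [h3, this]
          exact Submodule.add_mem _ (Submodule.smul_mem _ _ hv1) (Submodule.smul_mem _ _ hv2)
        have hperp : ∀ x ∈ V, P.RootForm (P.root k3) x = 0 := by
          intro x hx
          induction hx using Submodule.span_induction with
          | mem x hx =>
            obtain ⟨o, ho, rfl⟩ := hx
            have := h2B k3 o
            rw [hk3' o ho, zero_mul] at this
            omega
          | zero => simp
          | add x y _ _ hx hy => rw [map_add, hx, hy, add_zero]
          | smul a x _ hx => rw [map_smul, hx, smul_zero]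
        have := hperp _ hv3
        rw [map_smul, smul_eq_mul] at this
        exact absurd this (mul_ne_zero (mul_ne_zero hn1 hn2) (hℓne k3))
      have hsy : RootD.IsSymmSub P R₁ := by
        rintro k ⟨o, ho, hko⟩
        refine ⟨o, ho, ?_⟩
        rw [P.pairing_reflectionPerm_self_left]
        exact neg_ne_zero.mpr hko
      have hcl' : RootD.IsClosedSub P R₁ᶜ := by
        intro k1 k2 k3 hk1 hk2 h3 hk3
        obtain ⟨o, ho, hko⟩ := hk3
        apply hko
        rw [hpair_add k1 k2 k3 h3 o]
        have h1 : P.pairing k1 o = 0 := by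
          by_contra h
          exact hk1 ⟨o, ho, h⟩
        have h2 : P.pairing k2 o = 0 := by
          by_contra h
          exact hk2 ⟨o, ho, h⟩
        rw [h1, h2, add_zero]
      have hsy' : RootD.IsSymmSub P R₁ᶜ := by
        intro k hk hk'
        obtain ⟨o, ho, hko⟩ := hk'
        rw [P.pairing_reflectionPerm_self_left] at hko
        exact hk ⟨o, ho, neg_ne_zero.mp hko⟩
      rcases hirr R₁ hcl hsy hcl' hsy' with h | h
      · exfalso
        have : j ∈ R₁ := ⟨j, rfl, by rw [P.pairing_same]; norm_num⟩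
        rw [h] at this
        exact this
      · exact h
    have : i ∈ R₁ := by rw [hR1]; trivial
    obtain ⟨o, ho, hio⟩ := this
    exact ⟨o, ho, hio⟩
  -- Step 2
  have hdvd : ∀ i, ℓ i₀ ∣ ℓ i := by
    intro i
    obtain ⟨o, ho, hio⟩ := step1 i₀ i
    rw [← ho]
    have e := hswap i₀ o
    have hle : ℓ i₀ ≤ ℓ o := hmin o
    have hp0 := hℓpos i₀
    have hset := P.pairingIn_pairingIn_mem_set_of_isCrystallographic i₀ o
    rw [hpi, hpi] at hset
    simp only [Set.mem_insert_iff, Set.mem_singleton_iff, Prod.mk.injEq] at hset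
    rcases hset with h|h|h|h|h|h|h|h|h|h|h|h|h|h|h|h|h <;> obtain ⟨hx, hy⟩ := h <;>
      rw [hx, hy] at e <;>
      first
      | exact absurd hx hio
      | exact ⟨1, by omega⟩
      | exact ⟨2, by omega⟩
      | exact ⟨3, by omega⟩
      | exact ⟨4, by omega⟩
      | (exfalso; omega)
  -- Step 3
  have hℓ0 : ℓ i₀ ≠ 0 := hℓne i₀
  have hex : ∀ x ∈ Submodule.span ℤ (Set.range P.root),
      ∃ n : N, ℓ i₀ • n = (2 : ℕ) • P.Polarization x := by
    intro x hx
    induction hx using Submodule.span_induction with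
    | mem x hx =>
      obtain ⟨i, rfl⟩ := hx
      refine ⟨(ℓ i / ℓ i₀) • P.coroot i, ?_⟩
      rw [smul_smul, Int.mul_ediv_cancel' (hdvd i)]
      exact P.rootForm_self_smul_coroot i
    | zero => exact ⟨0, by simp⟩
    | add x y _ _ hx hy =>
      obtain ⟨n1, h1⟩ := hx
      obtain ⟨n2, h2⟩ := hy
      exact ⟨n1 + n2, by rw [smul_add, h1, h2, map_add, smul_add]⟩
    | smul a x _ hx =>
      obtain ⟨n1, h1⟩ := hx
      exact ⟨a • n1, by rw [smul_comm, h1, map_smul, smul_comm]⟩
  have hinj : Function.Injective fun n : N => ℓ i₀ • n := smul_right_injective N hℓ0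
  let u0 : Submodule.span ℤ (Set.range P.root) → N := fun x => (hex x.1 x.2).choose
  have hu0 : ∀ x, ℓ i₀ • u0 x = (2 : ℕ) • P.Polarization x.1 := fun x => (hex x.1 x.2).choose_spec
  let u : Submodule.span ℤ (Set.range P.root) →+ N := AddMonoidHom.mk' u0 (by
    intro x y
    apply hinj
    simp only
    rw [smul_add, hu0, hu0, hu0, Submodule.coe_add, map_add, smul_add])
  have huniq : ∀ u₁ u₂ : Submodule.span ℤ (Set.range P.root) →+ N,
      (∀ i : ι, u₁ ⟨P.root i, Submodule.subset_span (Set.mem_range_self i)⟩ =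
        (ℓ i / ℓ i₀) • P.coroot i) →
      (∀ i : ι, u₂ ⟨P.root i, Submodule.subset_span (Set.mem_range_self i)⟩ =
        (ℓ i / ℓ i₀) • P.coroot i) → u₁ = u₂ := by
    intro u₁ u₂ h1 h2
    apply AddMonoidHom.ext
    rintro ⟨x, hx⟩
    induction hx using Submodule.span_induction with
    | mem x hx =>
      obtain ⟨i, rfl⟩ := hx
      rw [h1 i, h2 i]
    | zero => exact (map_zero u₁).trans (map_zero u₂).symm
    | add x y hx hy ihx ihy =>
      have : (⟨x + y, Submodule.add_mem _ hx hy⟩ : Submodule.span ℤ (Set.range P.root)) =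
          ⟨x, hx⟩ + ⟨y, hy⟩ := rfl
      rw [this, map_add, map_add, ihx, ihy]
    | smul a x hx ih =>
      have : (⟨a • x, Submodule.smul_mem _ a hx⟩ : Submodule.span ℤ (Set.range P.root)) =
          a • ⟨x, hx⟩ := rfl
      rw [this, map_zsmul, map_zsmul, ih]
  have hu : ∀ i : ι, u ⟨P.root i, Submodule.subset_span (Set.mem_range_self i)⟩ =
        (ℓ i / ℓ i₀) • P.coroot i := by
    intro i
    apply hinj
    show ℓ i₀ • u0 _ = ℓ i₀ • _
    rw [hu0, smul_smul, Int.mul_ediv_cancel' (hdvd i)]
    exact (P.rootForm_self_smul_coroot i).symm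
  exact ⟨u, hu, fun u' hu' => huniq u' u hu' hu⟩

end Groth.Agent.S5499
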