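import Groth.Statements.S5500
import Mathlib.Tactic
import Mathlib.LinearAlgebra.RootSystem.Finite.Lemmas
import Mathlib.LinearAlgebra.RootSystem.Finite.Nondegenerate
import Groth.Agent.S5506

set_option autoImplicit false
open RootD

namespace Groth.Agent.S5500

/-- For a p-morphism between irreducible reduced root data there is a rational constant k with k ·
long(u(α)) = q(α)² · long(α) for every root α; stated as the proportionality q(α)² ℓ(α) ℓ'(u β) =
q(β)² ℓ(β) ℓ'(u α) of the canonical quadratic forms. -/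
theorem result {ι M N ι' M' N' : Type*} [AddCommGroup M] [AddCommGroup N] [AddCommGroup M'] [AddCommGroup N']
    (P : RootPairing ι ℤ M N) (P' : RootPairing ι' ℤ M' N') [Finite ι] [Finite ι'] [Fintype ι] [Fintype ι'] [P.IsReduced] [P'.IsReduced]
    (hirr : ∀ R₁ : Set ι, RootD.IsClosedSub P R₁ → RootD.IsSymmSub P R₁ → RootD.IsClosedSub P R₁ᶜ →
      RootD.IsSymmSub P R₁ᶜ → R₁ = ∅ ∨ R₁ = Set.univ)
    (hirr' : ∀ R₁ : Set ι', RootD.IsClosedSub P' R₁ → RootD.IsSymmSub P' R₁ → RootD.IsClosedSub P' R₁ᶜ →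
      RootD.IsSymmSub P' R₁ᶜ → R₁ = ∅ ∨ R₁ = Set.univ)
    (p : ℕ) (hp : 0 < p) (f : M' →ₗ[ℤ] M) (g : N →ₗ[ℤ] N')
    (hfg : ∀ (m' : M') (n : N), P.toLinearMap (f m') n = P'.toLinearMap m' (g n))
    (u : ι ≃ ι') (q : ι → ℕ) (hq : ∀ i, ∃ e : ℕ, q i = p ^ e)
    (hroot : ∀ i : ι, f (P'.root (u i)) = (q i : ℤ) • P.root i)
    (hcoroot : ∀ i : ι, g (P.coroot i) = (q i : ℤ) • P'.coroot (u i)) (i j : ι) :
    ((q i : ℤ) ^ 2 * P.RootForm (P.root i) (P.root i)) * P'.RootForm (P'.root (u j)) (P'.root (u j)) =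
      ((q j : ℤ) ^ 2 * P.RootForm (P.root j) (P.root j)) * P'.RootForm (P'.root (u i)) (P'.root (u i)) := by
  have hM : Module.IsReflexive ℤ M := .of_isPerfPair P.toLinearMap
  have hM' : Module.IsReflexive ℤ M' := .of_isPerfPair P'.toLinearMap
  have hclass : ∀ i j : ι, Relation.ReflTransGen (fun a b : ι => ¬ P.IsOrthogonal a b) i j := by
    intro i j
    obtain ⟨h1, h2, h3, h4⟩ := Groth.Agent.S5506.result P i
    rcases hirr _ h1 h2 h3 h4 with h | h
    · exfalso
      have : i ∈ {j : ι | Relation.ReflTransGen (fun a b : ι => ¬ P.IsOrthogonal a b) i j} :=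
        Relation.ReflTransGen.refl
      rw [h] at this
      exact this
    · have : j ∈ (Set.univ : Set ι) := Set.mem_univ j
      rw [← h] at this
      exact this
  have key : ∀ a b : ι, (q b : ℤ) * P'.pairing (u a) (u b) = (q a : ℤ) * P.pairing a b := by
    intro a b
    have h1 := hfg (P'.root (u a)) (P.coroot b)
    rw [hroot, hcoroot] at h1
    simp only [map_smul, LinearMap.smul_apply, smul_eq_mul] at h1
    exact h1.symm
  have hq0 : ∀ a, (q a : ℤ) ≠ 0 := by
    intro a
    obtain ⟨e, he⟩ := hq a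
    rw [he]
    have : (p : ℤ) ≠ 0 := by exact_mod_cast hp.ne'
    exact_mod_cast pow_ne_zero e this
  have hl : ∀ a, P.RootForm (P.root a) (P.root a) ≠ 0 :=
    fun a => RootPairing.IsAnisotropic.rootForm_root_ne_zero a
  have hl' : ∀ a, P'.RootForm (P'.root a) (P'.root a) ≠ 0 :=
    fun a => RootPairing.IsAnisotropic.rootForm_root_ne_zero a
  have hch := hclass i j
  induction hch with
  | refl => rfl
  | @tail b c _ hbc ih =>
    have hx : P.pairing b c ≠ 0 := by
      intro h0
      exact hbc ⟨h0, (P.pairing_eq_zero_iff' (i := b) (j := c)).mp h0⟩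
    have hy : P.pairing c b ≠ 0 := by
      intro h0
      exact hbc ⟨(P.pairing_eq_zero_iff' (i := c) (j := b)).mp h0, h0⟩
    have e1 := key b c
    have e2 := key c b
    have e3 := P.toInvariantForm.pairing_mul_eq_pairing_mul_swap b c
    have e4 := P'.toInvariantForm.pairing_mul_eq_pairing_mul_swap (u b) (u c)
    simp only [RootPairing.toInvariantForm_form] at e3 e4
    have hx' : P'.pairing (u b) (u c) ≠ 0 := by
      intro h0
      rw [h0, mul_zero] at e1
      exact mul_ne_zero (hq0 b) hx e1.symm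
    -- step relation between b and c
    have hstep : ((q b : ℤ) ^ 2 * P.RootForm (P.root b) (P.root b)) * P'.RootForm (P'.root (u c)) (P'.root (u c)) =
        ((q c : ℤ) ^ 2 * P.RootForm (P.root c) (P.root c)) * P'.RootForm (P'.root (u b)) (P'.root (u b)) := by
      apply mul_left_cancel₀ (mul_ne_zero hy hx')
      linear_combination ((q b : ℤ)^2 * P'.pairing (u b) (u c) * P'.RootForm (P'.root (u c)) (P'.root (u c))) * e3
        - ((q b : ℤ)^2 * P.pairing b c * P.RootForm (P.root c) (P.root c)) * e4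
        + (P.RootForm (P.root c) (P.root c) * P'.RootForm (P'.root (u b)) (P'.root (u b)) * (q b : ℤ) * P.pairing b c) * e2
        - (P.RootForm (P.root c) (P.root c) * P'.RootForm (P'.root (u b)) (P'.root (u b)) * (q c : ℤ) * P.pairing c b) * e1
    -- transitivity
    apply mul_left_cancel₀ (mul_ne_zero (mul_ne_zero (pow_ne_zero 2 (hq0 b)) (hl b)) (hl' (u b)))
    linear_combination ((q c : ℤ) ^ 2 * P.RootForm (P.root c) (P.root c) * P'.RootForm (P'.root (u b)) (P'.root (u b))) * ih
      + ((q i : ℤ) ^ 2 * P.RootForm (P.root i) (P.root i) * P'.RootForm (P'.root (u b)) (P'.root (u b))) * hstep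

end Groth.Agent.S5500
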