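import Groth.Statements.S5501
import Mathlib.Tactic
import Mathlib.LinearAlgebra.RootSystem.Basic
import Mathlib.LinearAlgebra.RootSystem.Hom
import Mathlib.LinearAlgebra.FreeModule.Finite.Quotient
import Mathlib.LinearAlgebra.FreeModule.PID
import Mathlib.LinearAlgebra.Dual.Lemmas

set_option autoImplicit false
universe u v w
open RootD

namespace Groth.Agent.S5501

/-- Adjoint case; the simply connected case is dual: a semisimple root datum R is adjoint if and only if
every isogeny R' → R is an isomorphism. -/
theorem result {ι : Type u} {M : Type v} {N : Type w} [AddCommGroup M] [AddCommGroup N]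
    (P : RootPairing ι ℤ M N) [Finite ι] [Module.Finite ℤ M] [Module.Finite ℤ N]
    (hss : Module.finrank ℤ (Submodule.span ℤ (Set.range P.root)) = Module.finrank ℤ M) :
    Submodule.span ℤ (Set.range P.root) = ⊤ ↔
      ∀ (ι' : Type u) (M' N' : Type v) [AddCommGroup M'] [AddCommGroup N'] [Finite ι']
        [Module.Finite ℤ M'] [Module.Finite ℤ N'] (P' : RootPairing ι' ℤ M' N') (f : RootPairing.Hom P' P),
        Function.Injective f.weightMap → Finite (M ⧸ LinearMap.range f.weightMap) →
          Function.Bijective f.weightMap := by
  have hM : Module.IsReflexive ℤ M := .of_isPerfPair P.toLinearMap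
  have hMtf : IsAddTorsionFree M := .of_isTorsionFree ℤ M
  constructor
  · intro hspan ι' M' N' _ _ _ _ _ P' f hinj hfin
    refine ⟨hinj, ?_⟩
    rw [← LinearMap.range_eq_top, eq_top_iff, ← hspan, Submodule.span_le]
    rintro _ ⟨i, rfl⟩
    refine ⟨P'.root (f.indexEquiv.symm i), ?_⟩
    rw [RootPairing.Hom.root_weightMap_apply, Equiv.apply_symm_apply]
  · intro H
    let M' := Submodule.span ℤ (Set.range P.root)
    have hfree : Module.Free ℤ M := inferInstance
    have hfree' : Module.Free ℤ M' := inferInstance
    have hfin' : Module.Finite ℤ M' := inferInstance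
    have hrefl' : Module.IsReflexive ℤ M' := inferInstance
    let T : N →ₗ[ℤ] Module.Dual ℤ M' := M'.subtype.dualMap ∘ₗ P.toLinearMap.flip
    let P' : RootPairing ι ℤ M' (Module.Dual ℤ M') :=
      { toLinearMap := Module.Dual.eval ℤ M'
        root := ⟨fun i => ⟨P.root i, Submodule.subset_span (Set.mem_range_self i)⟩,
          fun i j h => P.root.injective (Subtype.ext_iff.mp h)⟩
        coroot := ⟨fun i => T (P.coroot i), fun i j h => P.coroot.injective
          (P.injOn_dualMap_subtype_span_root_coroot (Set.mem_range_self i)
            (Set.mem_range_self j) h)⟩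
        root_coroot_two := fun i => P.root_coroot_two i
        reflectionPerm := P.reflectionPerm
        reflectionPerm_root := fun i j => Subtype.ext (P.reflectionPerm_root i j)
        reflectionPerm_coroot := fun i j => by
          have := congrArg T (P.reflectionPerm_coroot i j)
          rw [map_sub, map_smul] at this
          exact this }
    let f : RootPairing.Hom P' P :=
      { weightMap := M'.subtype
        coweightMap := T
        indexEquiv := Equiv.refl ι
        weight_coweight_transpose := by ext n x; rfl
        root_weightMap := by ext i; rfl
        coroot_coweightMap := by ext i; rfl }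
    have hbij := H ι M' (Module.Dual ℤ M') P' f (Subtype.val_injective) (by
      have : LinearMap.range f.weightMap = M' := Submodule.range_subtype M'
      rw [this]
      exact Submodule.finiteQuotientOfFreeOfRankEq M' hss)
    have hsurj := hbij.2
    rw [← LinearMap.range_eq_top] at hsurj
    rw [← hsurj]
    exact (Submodule.range_subtype M').symm

end Groth.Agent.S5501
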