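import Groth.Statements.S5502
import Mathlib.Tactic
import Mathlib.LinearAlgebra.RootSystem.Finite.Lemmas
import Mathlib.LinearAlgebra.RootSystem.Finite.Nondegenerate

set_option autoImplicit false
open RootD

namespace Groth.Agent.S5502

/-- If β = Σ_{α ∈ Δ} a_α α along a system of simple roots Δ, then ℓ(β) divides 2 a_α ℓ(α), and 2ℓ(β)
divides it when α^v is indivisible (ℓ the canonical quadratic form). -/
theorem result {ι M N : Type*} [AddCommGroup M] [AddCommGroup N]
    (P : RootPairing ι ℤ M N) [Finite ι] [Fintype ι] (Δ : Set ι) (hΔ : RootD.IsSimpleSys P Δ)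
    (k : ι) (c : ι →₀ ℤ) (hc : ↑c.support ⊆ Δ) (hck : Finsupp.linearCombination ℤ P.root c = P.root k)
    (i : ι) (hi : i ∈ Δ) :
    P.RootForm (P.root k) (P.root k) ∣ 2 * c i * P.RootForm (P.root i) (P.root i) ∧
      (RootD.IsIndiv P.flip i → 2 * P.RootForm (P.root k) (P.root k) ∣ 2 * c i * P.RootForm (P.root i) (P.root i)) := by
  classical
  have hM : Module.IsReflexive ℤ M := .of_isPerfPair P.toLinearMap
  have hN : Module.IsReflexive ℤ N := .of_isPerfPair P.flip.toLinearMap
  have hNtf : IsAddTorsionFree N := .of_isTorsionFree ℤ N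
  have hMtf : IsAddTorsionFree M := .of_isTorsionFree ℤ M
  set ℓ : ι → ℤ := fun k => P.RootForm (P.root k) (P.root k) with hℓ
  have hℓne : ∀ k, ℓ k ≠ 0 := fun k => RootPairing.IsAnisotropic.rootForm_root_ne_zero k
  have hℓpos : ∀ k, 0 < ℓ k := fun k => lt_of_le_of_ne (P.zero_le_rootForm _) (hℓne k).symm
  have hswap : ∀ a b, P.pairing b a * ℓ a = P.pairing a b * ℓ b :=
    fun a b => P.toInvariantForm.pairing_mul_eq_pairing_mul_swap a b
  have h2B : ∀ a b, 2 * P.RootForm (P.root a) (P.root b) = P.pairing a b * ℓ b :=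
    fun a b => P.toInvariantForm.two_mul_apply_root_root a b
  have hrefl_len : ∀ b k, ℓ (P.reflectionPerm b k) = ℓ k := by
    intro b k
    simp only [hℓ]
    rw [P.root_reflectionPerm, P.rootForm_reflection_reflection_apply]
  -- Finsupp representation of elements of natSpan
  have hrepr : ∀ x ∈ RootD.natSpan P Δ, ∃ f : ι →₀ ℤ, (∀ a, 0 ≤ f a) ∧ (∀ a, f a ≠ 0 → a ∈ Δ) ∧
      Finsupp.linearCombination ℤ P.root f = x := by
    intro x hx
    induction hx using AddSubmonoid.closure_induction with
    | mem x hx =>
      obtain ⟨a, ha, rfl⟩ := hx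
      refine ⟨Finsupp.single a 1, ?_, ?_, by simp⟩
      · intro a'
        rw [Finsupp.single_apply]
        split_ifs <;> norm_num
      · intro a' h
        rw [Finsupp.single_apply] at h
        split_ifs at h with h'
        · exact h' ▸ ha
        · exact absurd rfl h
    | zero => exact ⟨0, by simp, by simp, by simp⟩
    | add x y _ _ ihx ihy =>
      obtain ⟨f, hf1, hf2, hf3⟩ := ihx
      obtain ⟨g, hg1, hg2, hg3⟩ := ihy
      refine ⟨f + g, fun a => add_nonneg (hf1 a) (hg1 a), ?_, by rw [map_add, hf3, hg3]⟩
      intro a h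
      by_contra hna
      apply h
      have h1 : f a = 0 := by
        by_contra h'
        exact hna (hf2 a h')
      have h2 : g a = 0 := by
        by_contra h'
        exact hna (hg2 a h')
      rw [Finsupp.add_apply, h1, h2, add_zero]
  have hli : ∀ f : ι →₀ ℤ, (∀ a, f a ≠ 0 → a ∈ Δ) →
      Finsupp.linearCombination ℤ P.root f = 0 → f = 0 := by
    intro f hf h0
    refine linearIndepOn_iff.mp hΔ.linInd f ?_ h0
    rw [Finsupp.mem_supported]
    intro a ha
    exact hf a (Finsupp.mem_support_iff.mp ha)
  have hli2 : ∀ f g : ι →₀ ℤ, (∀ a, f a ≠ 0 → a ∈ Δ) → (∀ a, g a ≠ 0 → a ∈ Δ) →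
      Finsupp.linearCombination ℤ P.root f = Finsupp.linearCombination ℤ P.root g → f = g := by
    intro f g hf hg h
    have h0 := hli (f - g) ?_ (by rw [map_sub, h, sub_self])
    · exact sub_eq_zero.mp h0
    · intro a ha
      by_contra hna
      apply ha
      have h1 : f a = 0 := by
        by_contra h'
        exact hna (hf a h')
      have h2 : g a = 0 := by
        by_contra h'
        exact hna (hg a h')
      rw [Finsupp.sub_apply, h1, h2, sub_zero]
  have hsingle_supp : ∀ (a : ι) (m : ℤ), a ∈ Δ → ∀ a', (Finsupp.single a m) a' ≠ 0 → a' ∈ Δ := by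
    intro a m ha a' h
    rw [Finsupp.single_apply] at h
    split_ifs at h with h'
    · exact h' ▸ ha
    · exact absurd rfl h
  -- key lemma
  have hkey : ∀ (β b : ι), b ∈ Δ → P.root β ∈ RootD.natSpan P Δ →
      -P.root (P.reflectionPerm b β) ∈ RootD.natSpan P Δ → ∃ c : ℤ, P.root β = c • P.root b := by
    intro β b hb hpos hneg
    obtain ⟨f, hf1, hf2, hf3⟩ := hrepr _ hpos
    obtain ⟨g, hg1, hg2, hg3⟩ := hrepr _ hneg
    rw [P.root_reflectionPerm, P.reflection_apply_root] at hg3
    have h0 : Finsupp.linearCombination ℤ P.root (f + g - Finsupp.single b (P.pairing β b)) = 0 := by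
      rw [map_sub, map_add, hf3, hg3, Finsupp.linearCombination_single]; abel
    have hz := hli _ ?_ h0
    · refine ⟨f b, ?_⟩
      have hfa : ∀ a, a ≠ b → f a = 0 := by
        intro a hab
        have h1 := DFunLike.congr_fun hz a
        simp only [Finsupp.coe_sub, Finsupp.coe_add, Pi.sub_apply, Pi.add_apply,
          Finsupp.single_apply, if_neg hab.symm, Finsupp.coe_zero, Pi.zero_apply] at h1
        have := hf1 a
        have := hg1 a
        omega
      have hfs : f = Finsupp.single b (f b) := by
        ext a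
        by_cases hab : a = b
        · subst hab; simp
        · rw [hfa a hab, Finsupp.single_apply, if_neg (Ne.symm hab)]
      rw [← hf3]
      conv_lhs => rw [hfs]
      rw [Finsupp.linearCombination_single]
    · intro a ha
      by_contra hna
      apply ha
      have h1 : f a = 0 := by
        by_contra h'
        exact hna (hf2 a h')
      have h2 : g a = 0 := by
        by_contra h'
        exact hna (hg2 a h')
      have h3 : b ≠ a := fun h => hna (h ▸ hb)
      simp only [Finsupp.coe_sub, Finsupp.coe_add, Pi.sub_apply, Pi.add_apply,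
          Finsupp.single_apply, if_neg h3, h1, h2]
      norm_num
  let Q : ι → Prop := fun k => ∀ c : ι →₀ ℤ, (∀ a, c a ≠ 0 → a ∈ Δ) →
    Finsupp.linearCombination ℤ P.root c = P.root k →
    ∀ i ∈ Δ, ℓ k ∣ 2 * c i * ℓ i ∧ (RootD.IsIndiv P.flip i → ℓ k ∣ c i * ℓ i)
  have hQ1 : ∀ (k b : ι), b ∈ Δ → Q k → Q (P.reflectionPerm b k) := by
    intro k b hb hQk c' hc' hlc i hi
    have hlc2 : Finsupp.linearCombination ℤ P.root (c' + Finsupp.single b (P.pairing k b)) =
        P.root k := by
      rw [map_add, hlc, Finsupp.linearCombination_single, P.root_reflectionPerm,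
        P.reflection_apply_root]
      abel
    have hsupp : ∀ a, (c' + Finsupp.single b (P.pairing k b)) a ≠ 0 → a ∈ Δ := by
      intro a ha
      by_contra hna
      apply ha
      have h1 : c' a = 0 := by
        by_contra h'
        exact hna (hc' a h')
      have h3 : b ≠ a := fun h => hna (h ▸ hb)
      rw [Finsupp.add_apply, h1, Finsupp.single_apply, if_neg h3, add_zero]
    obtain ⟨h1, h2⟩ := hQk _ hsupp hlc2 i hi
    rw [hrefl_len]
    have hdiv : ℓ k ∣ P.pairing k b * ℓ b := ⟨P.pairing b k, by rw [← hswap k b]; ring⟩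
    by_cases hib : i = b
    · subst hib
      rw [Finsupp.add_apply, Finsupp.single_eq_same] at h1 h2
      constructor
      · have e : 2 * c' i * ℓ i = 2 * (c' i + P.pairing k i) * ℓ i - 2 * (P.pairing k i * ℓ i) := by
          ring
        rw [e]
        exact dvd_sub h1 (Dvd.dvd.mul_left hdiv 2)
      · intro hind
        have h3 := h2 hind
        have e : c' i * ℓ i = (c' i + P.pairing k i) * ℓ i - P.pairing k i * ℓ i := by ring
        rw [e]
        exact dvd_sub h3 hdiv
    · rw [Finsupp.add_apply, Finsupp.single_apply, if_neg (Ne.symm hib), add_zero] at h1 h2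
      exact ⟨h1, h2⟩
  have hQ2 : ∀ k, Q k → Q (P.reflectionPerm k k) := by
    intro k hQk c' hc' hlc i hi
    have hlc2 : Finsupp.linearCombination ℤ P.root (-c') = P.root k := by
      rw [map_neg, hlc, P.root_reflectionPerm, P.reflection_apply_self, neg_neg]
    obtain ⟨h1, h2⟩ := hQk (-c') (by intro a ha; apply hc'; simpa using ha) hlc2 i hi
    rw [hrefl_len]
    rw [Finsupp.neg_apply] at h1 h2
    constructor
    · have e : 2 * c' i * ℓ i = -(2 * -c' i * ℓ i) := by ring
      rw [e]
      exact (dvd_neg).mpr h1
    · intro hind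
      have h3 := h2 hind
      have e : c' i * ℓ i = -(-c' i * ℓ i) := by ring
      rw [e]
      exact dvd_neg.mpr h3
  have hQ3 : ∀ a ∈ Δ, Q a := by
    intro a ha c hc hlc i hi
    have hcs : c = Finsupp.single a 1 := hli2 c _ hc (hsingle_supp a 1 ha)
      (by rw [hlc, Finsupp.linearCombination_single, one_smul])
    rw [hcs]
    by_cases hia : i = a
    · subst hia
      simp
    · simp [Finsupp.single_apply, Ne.symm hia]
  have hQ4 : ∀ k, ∀ a ∈ Δ, P.root k = (2 : ℤ) • P.root a → Q k := by
    intro k a ha hk c hc hlc i hi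
    have hcs : c = Finsupp.single a 2 := hli2 c _ hc (hsingle_supp a 2 ha)
      (by rw [hlc, Finsupp.linearCombination_single, hk])
    have hℓk : ℓ k = 4 * ℓ a := by
      simp only [hℓ]
      rw [hk]
      simp only [map_smul, LinearMap.smul_apply, smul_eq_mul]
      ring
    by_cases hia : i = a
    · subst hia
      rw [hcs, Finsupp.single_eq_same, hℓk]
      refine ⟨⟨1, by ring⟩, fun hind => ?_⟩
      exfalso
      apply hind k
      have h3 := (RootPairing.coroot_eq_smul_coroot_iff (P := P) (i := i) (j := k) (t := (2 : ℤ))).mpr hk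
      exact h3.symm
    · rw [hcs, Finsupp.single_apply, if_neg (Ne.symm hia)]
      simp
  -- height functional
  let ht : (ι →₀ ℤ) →ₗ[ℤ] ℤ := Finsupp.linearCombination ℤ (fun _ : ι => (1 : ℤ))
  have hht_nonneg : ∀ f : ι →₀ ℤ, (∀ a, 0 ≤ f a) → 0 ≤ ht f := by
    intro f hf
    simp only [ht, Finsupp.linearCombination_apply, Finsupp.sum, smul_eq_mul, mul_one]
    exact Finset.sum_nonneg fun a _ => hf a
  have hQ5 : ∀ n : ℕ, ∀ k, P.root k ∈ RootD.natSpan P Δ → ∀ f : ι →₀ ℤ, (∀ a, 0 ≤ f a) →
      (∀ a, f a ≠ 0 → a ∈ Δ) → Finsupp.linearCombination ℤ P.root f = P.root k →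
      (ht f).toNat = n → Q k := by
    intro n
    induction n using Nat.strong_induction_on with
    | _ n ih =>
    intro k hkpos f hf1 hf2 hf3 hsum
    by_cases hA : ∃ a ∈ Δ, ∃ m : ℤ, P.root k = m • P.root a
    · obtain ⟨a, ha, m, hm⟩ := hA
      have hfs : f = Finsupp.single a m := hli2 f _ hf2 (hsingle_supp a m ha)
        (by rw [hf3, Finsupp.linearCombination_single, hm])
      have hm0 : 0 ≤ m := by
        have h1 := hf1 a
        rw [hfs, Finsupp.single_eq_same] at h1
        exact h1
      have hp : m * P.pairing a k = 2 := by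
        have h1 : P.pairing k k = m * P.pairing a k := by
          simp only [RootPairing.pairing, RootPairing.root', hm, map_smul, LinearMap.smul_apply,
            smul_eq_mul]
        rw [← h1, P.pairing_same]
      have hm12 : m = 1 ∨ m = 2 := by
        have hdvd : m ∣ 2 := ⟨_, hp.symm⟩
        have hle : m ≤ 2 := Int.le_of_dvd (by norm_num) hdvd
        have hne : m ≠ 0 := by
          rintro rfl
          simp at hp
        have h3 : m ≠ 0 := hne
        interval_cases m
        · exact absurd rfl h3
        · exact Or.inl rfl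
        · exact Or.inr rfl
      rcases hm12 with rfl | rfl
      · have hka : k = a := P.root.injective (by rw [hm, one_smul])
        rw [hka]
        exact hQ3 a ha
      · exact hQ4 k a ha hm
    · push Not at hA
      have hpos : 0 < P.RootForm (P.root k) (P.root k) := hℓpos k
      have hexp : P.RootForm (P.root k) (P.root k) =
          ∑ a ∈ f.support, f a * P.RootForm (P.root k) (P.root a) := by
        conv_lhs => arg 2; rw [← hf3]
        rw [Finsupp.linearCombination_apply, Finsupp.sum, map_sum]
        refine Finset.sum_congr rfl fun a _ => ?_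
        rw [map_smul, smul_eq_mul]
      obtain ⟨a, ha_supp, ha_pos⟩ : ∃ a ∈ f.support,
          0 < f a * P.RootForm (P.root k) (P.root a) := by
        by_contra hcon
        push Not at hcon
        have h1 : ∑ a ∈ f.support, f a * P.RootForm (P.root k) (P.root a) ≤ 0 :=
          Finset.sum_nonpos hcon
        rw [← hexp] at h1
        omega
      have hfa : 0 < f a :=
        lt_of_le_of_ne (hf1 a) (Ne.symm (Finsupp.mem_support_iff.mp ha_supp))
      have hBpos : 0 < P.RootForm (P.root k) (P.root a) := (mul_pos_iff_of_pos_left hfa).mp ha_pos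
      have haΔ : a ∈ Δ := hf2 a (ne_of_gt hfa)
      have hpka : 0 < P.pairing k a := by
        have h1 := h2B k a
        have hl := hℓpos a
        by_contra hle
        push Not at hle
        have h3 : P.pairing k a * ℓ a ≤ 0 := mul_nonpos_of_nonpos_of_nonneg hle hl.le
        omega
      have hk'pos : P.root (P.reflectionPerm a k) ∈ RootD.natSpan P Δ := by
        rcases hΔ.mem_or_neg_mem (P.reflectionPerm a k) with h | h
        · exact h
        · exfalso
          obtain ⟨c, hc⟩ := hkey k a haΔ hkpos h
          exact hA a haΔ c hc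
      obtain ⟨f', hf'1, hf'2, hf'3⟩ := hrepr _ hk'pos
      have hf'eq : f' = f - Finsupp.single a (P.pairing k a) := by
        refine hli2 _ _ hf'2 ?_ ?_
        · intro a' ha'
          by_contra hna
          apply ha'
          have h1 : f a' = 0 := by
            by_contra h'
            exact hna (hf2 a' h')
          have h3 : a ≠ a' := fun h => hna (h ▸ haΔ)
          rw [Finsupp.sub_apply, h1, Finsupp.single_apply, if_neg h3, sub_zero]
        · rw [hf'3, map_sub, hf3, Finsupp.linearCombination_single, P.root_reflectionPerm,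
            P.reflection_apply_root]
      have hht' : ht f' = ht f - P.pairing k a := by
        rw [hf'eq, map_sub]
        simp only [ht, Finsupp.linearCombination_single, smul_eq_mul, mul_one]
      have h0' := hht_nonneg f' hf'1
      have hQk' : Q (P.reflectionPerm a k) :=
        ih (ht f').toNat (by omega) (P.reflectionPerm a k) hk'pos f' hf'1 hf'2 hf'3 rfl
      have h5 := hQ1 _ a haΔ hQk'
      rwa [P.reflectionPerm_self] at h5
  have hQall : ∀ k, Q k := by
    intro k
    rcases hΔ.mem_or_neg_mem k with h | h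
    · obtain ⟨f, hf1, hf2, hf3⟩ := hrepr _ h
      exact hQ5 _ k h f hf1 hf2 hf3 rfl
    · have h' : P.root (P.reflectionPerm k k) ∈ RootD.natSpan P Δ := by
        rw [P.root_reflectionPerm, P.reflection_apply_self]
        exact h
      obtain ⟨f, hf1, hf2, hf3⟩ := hrepr _ h'
      have h5 := hQ2 _ (hQ5 _ _ h' f hf1 hf2 hf3 rfl)
      have e : P.reflectionPerm (P.reflectionPerm k k) (P.reflectionPerm k k) = k := by
        apply P.root.injective
        rw [P.root_reflectionPerm, P.reflection_apply_self, P.root_reflectionPerm,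
          P.reflection_apply_self, neg_neg]
      rwa [e] at h5
  have hc' : ∀ a, c a ≠ 0 → a ∈ Δ :=
    fun a ha => hc (Finset.mem_coe.mpr (Finsupp.mem_support_iff.mpr ha))
  obtain ⟨h1, h2⟩ := hQall k c hc' hck i hi
  refine ⟨h1, fun hind => ?_⟩
  have h3 := mul_dvd_mul_left 2 (h2 hind)
  rwa [← mul_assoc] at h3

end Groth.Agent.S5502
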