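import Groth.Statements.S5504
import Mathlib.Tactic
import Mathlib.LinearAlgebra.RootSystem.Finite.Lemmas
import Mathlib.LinearAlgebra.RootSystem.WeylGroup

set_option autoImplicit false
open RootPairing
open scoped Pointwise
open RootD

namespace Groth.Agent.S5504

/-- Stated for the group generated by the simple reflections (rather than for the abstractly presented
group): if w = s_{α_1} ⋯ s_{α_m} is a word of minimal length in the simple reflections, then w(α_m)
is a negative root. -/
theorem result {ι M N : Type*} [AddCommGroup M] [AddCommGroup N]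
    (P : RootPairing ι ℤ M N) [Finite ι] (Δ : Set ι) (hΔ : RootD.IsSimpleSys P Δ)
    (l : List ι) (hl : ∀ a ∈ l, a ∈ Δ) (hne : l ≠ [])
    (hmin : ∀ l' : List ι, (∀ a ∈ l', a ∈ Δ) →
      (l'.map fun a => Equiv.reflection P a).prod = (l.map fun a => Equiv.reflection P a).prod → l.length ≤ l'.length) :
    -P.root ((l.map fun a => Equiv.reflection P a).prod • l.getLast hne) ∈ RootD.natSpan P Δ := by
  classical
  have hM : Module.IsReflexive ℤ M := .of_isPerfPair P.toLinearMap
  have hN : Module.IsReflexive ℤ N := .of_isPerfPair P.flip.toLinearMap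
  have hNtf : IsAddTorsionFree N := .of_isTorsionFree ℤ N
  set W : List ι → P.Aut := fun l => (l.map fun a => Equiv.reflection P a).prod with hW
  have hW_nil : W [] = 1 := by simp [hW]
  have hW_cons : ∀ b l, W (b :: l) = Equiv.reflection P b * W l := by intro b l; simp [hW]
  have hW_app : ∀ l1 l2, W (l1 ++ l2) = W l1 * W l2 := by intro l1 l2; simp [hW]
  have hinv : ∀ a, (Equiv.reflection P a)⁻¹ = Equiv.reflection P a := fun a => Equiv.reflection_inv P a
  have hsq : ∀ a, Equiv.reflection P a * Equiv.reflection P a = 1 := by
    intro a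
    calc Equiv.reflection P a * Equiv.reflection P a
        = (Equiv.reflection P a)⁻¹ * Equiv.reflection P a := by rw [hinv]
      _ = 1 := inv_mul_cancel _
  have hact : ∀ b k : ι, Equiv.reflection P b • k = P.reflectionPerm b k := fun _ _ => rfl
  have hroot_smul : ∀ (g : P.Aut) (k : ι), P.root (g • k) = g • P.root k :=
    fun g k => Equiv.root_indexEquiv_eq_smul (P := P) k g
  -- Finsupp representation of elements of natSpan
  have hrepr : ∀ x ∈ RootD.natSpan P Δ, ∃ f : ι →₀ ℤ, (∀ a, 0 ≤ f a) ∧ (∀ a, f a ≠ 0 → a ∈ Δ) ∧
      Finsupp.linearCombination ℤ P.root f = x := by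
    intro x hx
    induction hx using AddSubmonoid.closure_induction with
    | mem x hx =>
      obtain ⟨a, ha, rfl⟩ := hx
      refine ⟨Finsupp.single a 1, ?_, ?_, by simp⟩
      · intro a'
        rw [Finsupp.single_apply]
        split_ifs <;> norm_num
      · intro a' h
        rw [Finsupp.single_apply] at h
        split_ifs at h with h'
        · exact h' ▸ ha
        · exact absurd rfl h
    | zero => exact ⟨0, by simp, by simp, by simp⟩
    | add x y _ _ ihx ihy =>
      obtain ⟨f, hf1, hf2, hf3⟩ := ihx
      obtain ⟨g, hg1, hg2, hg3⟩ := ihy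
      refine ⟨f + g, fun a => add_nonneg (hf1 a) (hg1 a), ?_, by rw [map_add, hf3, hg3]⟩
      intro a h
      by_contra hna
      apply h
      have h1 : f a = 0 := by
        by_contra h'
        exact hna (hf2 a h')
      have h2 : g a = 0 := by
        by_contra h'
        exact hna (hg2 a h')
      rw [Finsupp.add_apply, h1, h2, add_zero]
  have hli : ∀ f : ι →₀ ℤ, (∀ a, f a ≠ 0 → a ∈ Δ) →
      Finsupp.linearCombination ℤ P.root f = 0 → f = 0 := by
    intro f hf h0
    refine linearIndepOn_iff.mp hΔ.linInd f ?_ h0
    rw [Finsupp.mem_supported]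
    intro a ha
    exact hf a (Finsupp.mem_support_iff.mp ha)
  -- simple roots are not negative
  have hsimple_not_neg : ∀ a ∈ Δ, -P.root a ∉ RootD.natSpan P Δ := by
    intro a ha hneg
    obtain ⟨g, hg1, hg2, hg3⟩ := hrepr _ hneg
    have h0 : Finsupp.linearCombination ℤ P.root (g + Finsupp.single a 1) = 0 := by
      rw [map_add, hg3, Finsupp.linearCombination_single]; simp
    have hz := hli _ ?_ h0
    · have := DFunLike.congr_fun hz a
      simp only [Finsupp.coe_add, Pi.add_apply, Finsupp.single_eq_same, Finsupp.coe_zero,
        Pi.zero_apply] at this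
      have := hg1 a
      omega
    · intro a' h
      by_contra hna
      apply h
      have h2 : g a' = 0 := by
        by_contra h'
        exact hna (hg2 a' h')
      have h3 : a ≠ a' := fun h => hna (h ▸ ha)
      rw [Finsupp.add_apply, h2, Finsupp.single_apply, if_neg h3, add_zero]
  -- key lemma
  have hkey : ∀ (β b : ι), b ∈ Δ → P.root β ∈ RootD.natSpan P Δ →
      -P.root (P.reflectionPerm b β) ∈ RootD.natSpan P Δ → ∃ c : ℤ, P.root β = c • P.root b := by
    intro β b hb hpos hneg
    obtain ⟨f, hf1, hf2, hf3⟩ := hrepr _ hpos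
    obtain ⟨g, hg1, hg2, hg3⟩ := hrepr _ hneg
    rw [P.root_reflectionPerm, P.reflection_apply_root] at hg3
    have h0 : Finsupp.linearCombination ℤ P.root (f + g - Finsupp.single b (P.pairing β b)) = 0 := by
      rw [map_sub, map_add, hf3, hg3, Finsupp.linearCombination_single]; abel
    have hz := hli _ ?_ h0
    · refine ⟨f b, ?_⟩
      have hfa : ∀ a, a ≠ b → f a = 0 := by
        intro a hab
        have h1 := DFunLike.congr_fun hz a
        simp only [Finsupp.coe_sub, Finsupp.coe_add, Pi.sub_apply, Pi.add_apply,
          Finsupp.single_apply, if_neg hab.symm, Finsupp.coe_zero, Pi.zero_apply] at h1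
        have := hf1 a
        have := hg1 a
        omega
      have hfs : f = Finsupp.single b (f b) := by
        ext a
        by_cases hab : a = b
        · subst hab; simp
        · rw [hfa a hab, Finsupp.single_apply, if_neg (Ne.symm hab)]
      rw [← hf3]
      conv_lhs => rw [hfs]
      rw [Finsupp.linearCombination_single]
    · intro a ha
      by_contra hna
      apply ha
      have h1 : f a = 0 := by
        by_contra h'
        exact hna (hf2 a h')
      have h2 : g a = 0 := by
        by_contra h'
        exact hna (hg2 a h')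
      have h3 : b ≠ a := fun h => hna (h ▸ hb)
      simp only [Finsupp.coe_sub, Finsupp.coe_add, Pi.sub_apply, Pi.add_apply,
          Finsupp.single_apply, if_neg h3, h1, h2]
      norm_num
  -- Lemma A
  have hA : ∀ (k b : ι) (c : ℤ), P.root k = c • P.root b →
      Equiv.reflection P k = Equiv.reflection P b := by
    intro k b c h
    apply Equiv.weightHom_injective P
    simp only [Equiv.weightHom_apply, Equiv.reflection_weightEquiv]
    ext x
    rw [RootPairing.reflection_apply, RootPairing.reflection_apply]
    have hco : c • P.coroot k = P.coroot b := P.smul_coroot_eq_of_root_eq_smul b k c h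
    have hco' : (P.coroot' b) x = c * (P.coroot' k) x := by
      simp only [RootPairing.coroot', ← hco, map_smul, LinearMap.smul_apply, smul_eq_mul]
    rw [h, hco', smul_smul, mul_comm]
  -- conjugation by a single reflection
  have hconj1 : ∀ b k : ι, Equiv.reflection P (P.reflectionPerm b k) =
      Equiv.reflection P b * Equiv.reflection P k * Equiv.reflection P b := by
    intro b k
    apply Equiv.weightHom_injective P
    rw [map_mul, map_mul]
    simp only [Equiv.weightHom_apply, Equiv.reflection_weightEquiv]
    exact P.reflection_reflectionPerm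
  -- Lemma B
  have hB : ∀ (l1 : List ι) (k : ι), Equiv.reflection P (W l1 • k) =
      W l1 * Equiv.reflection P k * (W l1)⁻¹ := by
    intro l1
    induction l1 with
    | nil => intro k; rw [hW_nil]; simp
    | cons b l1 ih =>
      intro k
      rw [hW_cons, mul_smul, hact, hconj1, ih, mul_inv_rev, hinv]
      simp only [mul_assoc]
  -- Lemma C
  have hC : ∀ (l0 : List ι), (∀ a ∈ l0, a ∈ Δ) → ∀ a ∈ Δ,
      -P.root (W l0 • a) ∈ RootD.natSpan P Δ →
      ∃ l' : List ι, (∀ a ∈ l', a ∈ Δ) ∧ l'.length < l0.length + 1 ∧
        W l' = W l0 * Equiv.reflection P a := by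
    intro l0
    induction l0 with
    | nil =>
      intro _ a ha hneg
      rw [hW_nil, one_smul] at hneg
      exact absurd hneg (hsimple_not_neg a ha)
    | cons b l1 ih =>
      intro hl0 a ha hneg
      have hbΔ : b ∈ Δ := hl0 b (List.mem_cons_self)
      have hl1 : ∀ a ∈ l1, a ∈ Δ := fun a h => hl0 a (List.mem_cons_of_mem _ h)
      rcases hΔ.mem_or_neg_mem (W l1 • a) with hpos | hneg1
      · -- β positive, s_b β negative
        rw [hW_cons, mul_smul, hact] at hneg
        obtain ⟨c, hc⟩ := hkey _ b hbΔ hpos hneg
        have h1 := hA _ b c hc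
        rw [hB] at h1
        refine ⟨l1, hl1, by simp, ?_⟩
        rw [hW_cons, ← h1]
        simp only [mul_assoc]
        rw [inv_mul_cancel_left, hsq, mul_one]
      · obtain ⟨l', hl', hlen, hWl'⟩ := ih hl1 a ha hneg1
        refine ⟨b :: l', ?_, by simp; omega, ?_⟩
        · intro x hx
          rcases List.mem_cons.mp hx with rfl | hx
          · exact hbΔ
          · exact hl' x hx
        · rw [hW_cons, hW_cons, hWl', mul_assoc]
  -- main
  by_contra hcon
  have hpos := (hΔ.mem_or_neg_mem (W l • l.getLast hne)).resolve_right hcon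
  have hsplit : l = l.dropLast ++ [l.getLast hne] := (List.dropLast_append_getLast hne).symm
  have ham : l.getLast hne ∈ Δ := hl _ (List.getLast_mem hne)
  have hWl : W l = W l.dropLast * Equiv.reflection P (l.getLast hne) := by
    conv_lhs => rw [hsplit]
    rw [hW_app, hW_cons, hW_nil, mul_one]
  have hneg : -P.root (W l.dropLast • l.getLast hne) ∈ RootD.natSpan P Δ := by
    rw [hWl, mul_smul, hact, hroot_smul, P.root_reflectionPerm, P.reflection_apply_self, smul_neg,
      ← hroot_smul] at hpos
    exact hpos
  obtain ⟨l', hl', hlen, hWl'⟩ := hC l.dropLast (fun a h => hl a (List.dropLast_subset l h)) _ ham hneg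
  have := hmin l' hl' (by rw [← hWl] at hWl'; exact hWl')
  have hlen2 : l.length = l.dropLast.length + 1 := by
    conv_lhs => rw [hsplit]
    simp
  omega

end Groth.Agent.S5504
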