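import Groth.Statements.S5585
import Groth.Agent.Lib.Helper45.ToposFin4

set_option autoImplicit false
open CategoryTheory CategoryTheory.Limits Opposite
universe u
open ToposFin

namespace Groth.Agent.S5585

/-- For an algebraic topos of sheaves of sets on a small site and a morphism f : X -> Y: if Y is
quasi-separated (resp. coherent), then X is quasi-separated (resp. coherent) if and only if f is a
quasi-separated (resp. coherent) morphism. -/
theorem result {C : Type u} [SmallCategory C] {J : GrothendieckTopology C}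
    (hE : ToposFin.IsAlgebraic J) {X Y : ToposFin.Sh J} (f : X ⟶ Y) :
    (ToposFin.IsQS Y → (ToposFin.IsQS X ↔ ToposFin.IsQSHom f)) ∧
    (ToposFin.IsCoherent Y → (ToposFin.IsCoherent X ↔ ToposFin.IsCohHom f)) := by
  have hqs : ToposFin.IsQS X → ToposFin.IsQSHom f := Groth.Agent.Lib.Helper45.isQSHom_of_isQS_of_isAlgebraic hE f
  refine ⟨fun hY => ⟨hqs, fun hf => Groth.Agent.Lib.Helper45.isQS_of_isQSHom_of_isQS f hf hY⟩,
    fun hY => ⟨fun hX => ⟨Groth.Agent.Lib.Helper45.isQCHom_of_isQC_of_isQS f hX.1 hY.2, hqs hX.2⟩,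
      fun hf => ⟨Groth.Agent.Lib.Helper45.isQC_of_isQCHom f hf.1 hY.1, Groth.Agent.Lib.Helper45.isQS_of_isQSHom_of_isQS f hf.2 hY.2⟩⟩⟩

end Groth.Agent.S5585
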