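import Groth.Statements.S5586
import Groth.Agent.Lib.Helper45.ToposFin4

set_option autoImplicit false
open CategoryTheory CategoryTheory.Limits Opposite
universe u
open ToposFin

namespace Groth.Agent.S5586

/-- Quasi-separated and coherent cases: for an algebraic topos of sheaves of sets on a small site: let f
: X -> Y be a morphism and (Y_i -> Y) a jointly epimorphic family. If the Y_i are quasi-separated
(resp. coherent), then f is quasi-separated (resp. coherent) if and only if every X x_Y Y_i is a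
quasi-separated (resp. coherent) object. -/
theorem result {C : Type u} [SmallCategory C]
    {J : GrothendieckTopology C} (hE : ToposFin.IsAlgebraic J) {X Y : ToposFin.Sh J} (f : X ⟶ Y)
    {ι : Type u} (Yi : ι → ToposFin.Sh J) (g : ∀ i, Yi i ⟶ Y)
    (hg : ∀ (Z : ToposFin.Sh J) (a b : Y ⟶ Z), (∀ i, g i ≫ a = g i ≫ b) → a = b) :
    ((∀ i, ToposFin.IsQS (Yi i)) → (ToposFin.IsQSHom f ↔ ∀ i, ToposFin.IsQS (pullback f (g i)))) ∧
    ((∀ i, ToposFin.IsCoherent (Yi i)) →
      (ToposFin.IsCohHom f ↔ ∀ i, ToposFin.IsCoherent (pullback f (g i)))) := by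
  have hg' : Groth.Agent.Lib.Helper45.JEpi g := (Groth.Agent.Lib.Helper45.jEpi_iff_forall g).2 hg
  have hgen := Groth.Agent.Lib.Helper45.hasQCGenerators_of_isAlgebraic hE
  refine ⟨fun hY => ⟨fun hf i => ?_, fun h => ?_⟩, fun hY => ⟨fun hf i => ⟨?_, ?_⟩, fun h => ⟨?_, ?_⟩⟩⟩
  · exact Groth.Agent.Lib.Helper45.isQS_of_isQSHom_of_isQS _ (Groth.Agent.Lib.Helper45.isQSHom_pullback_snd f (g i) hf) (hY i)
  · exact Groth.Agent.Lib.Helper45.isQSHom_of_local_on_target hgen f g hg' fun i =>
      Groth.Agent.Lib.Helper45.isQSHom_of_isQS_of_isAlgebraic hE _ (h i)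
  · exact Groth.Agent.Lib.Helper45.isQC_of_isQCHom _
      (Groth.Agent.Lib.Helper45.isQCHom_of_isPullback hf.1 (IsPullback.of_hasPullback f (g i))) (hY i).1
  · exact Groth.Agent.Lib.Helper45.isQS_of_isQSHom_of_isQS _ (Groth.Agent.Lib.Helper45.isQSHom_pullback_snd f (g i) hf.2) (hY i).2
  · exact Groth.Agent.Lib.Helper45.isQCHom_of_local_on_target hgen f g hg' fun i =>
      Groth.Agent.Lib.Helper45.isQCHom_of_isQC_of_isQS _ (h i).1 (hY i).2
  · exact Groth.Agent.Lib.Helper45.isQSHom_of_local_on_target hgen f g hg' fun i =>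
      Groth.Agent.Lib.Helper45.isQSHom_of_isQS_of_isAlgebraic hE _ (h i).2

end Groth.Agent.S5586
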