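import Groth.Statements.S5587
import Groth.Agent.Lib.Helper45.ToposFin4

set_option autoImplicit false
open CategoryTheory CategoryTheory.Limits Opposite
universe u
open ToposFin

namespace Groth.Agent.S5587

/-- For a locally coherent topos of sheaves of sets on a small site (given by a generating set of
quasi-compact objects stable under fibre products): a morphism f : X -> Y is quasi-separated if and
only if for every quasi-separated object Y' over Y the fibre product X x_Y Y' is quasi-separated. -/
theorem result {C : Type u} [SmallCategory C]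
    {J : GrothendieckTopology C} (S : Set (ToposFin.Sh J)) (hqc : ∀ K ∈ S, ToposFin.IsQC K)
    (hgen : ToposFin.IsGenerating S) (hpb : ToposFin.ClosedUnderPullbacks S) {X Y : ToposFin.Sh J} (f : X ⟶ Y) :
    ToposFin.IsQSHom f ↔
      ∀ (Y' : ToposFin.Sh J) (g : Y' ⟶ Y), ToposFin.IsQS Y' → ToposFin.IsQS (pullback f g) := by
  constructor
  · intro hf Y' g hY'
    exact Groth.Agent.Lib.Helper45.isQS_of_isQSHom_of_isQS _ (Groth.Agent.Lib.Helper45.isQSHom_pullback_snd f g hf) hY'
  · intro h
    have hE := Groth.Agent.Lib.Helper45.hasQCGenerators_of_isGenerating hqc hgen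
    obtain ⟨ι, F, π, hF, hπ⟩ := Groth.Agent.Lib.Helper45.exists_cover_of_isGenerating hgen Y
    refine Groth.Agent.Lib.Helper45.isQSHom_of_local_on_target hE f π hπ fun i => ?_
    have hXi : ToposFin.IsQS (pullback f (π i)) :=
      h _ (π i) (Groth.Agent.Lib.Helper45.isQS_of_mem_of_closedUnderPullbacks hqc hgen hpb (hF i))
    obtain ⟨κ, G, ρ, hG, hρ⟩ := Groth.Agent.Lib.Helper45.exists_cover_of_isGenerating hgen (pullback f (π i))
    refine Groth.Agent.Lib.Helper45.isQSHom_of_cover_with_qs_products hE _ G ρ hρ (fun k => hqc _ (hG k))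
      (fun k l => ?_) hXi
    obtain ⟨P, p, q, hP, sq⟩ := hpb (ρ k ≫ pullback.snd f (π i)) (ρ l ≫ pullback.snd f (π i))
      (hG k) (hG l) (hF i)
    exact Groth.Agent.Lib.Helper45.isQS_of_iso sq.isoPullback
      (Groth.Agent.Lib.Helper45.isQS_of_mem_of_closedUnderPullbacks hqc hgen hpb hP)

end Groth.Agent.S5587
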