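import Groth.Statements.S5596
import Groth.Agent.Lib.Helper4.EtStalk
import Mathlib.CategoryTheory.Abelian.GrothendieckAxioms.Types

set_option autoImplicit false
open CategoryTheory CategoryTheory.Limits AlgebraicGeometry Opposite
universe u
open EtDesc

namespace Groth.Agent.S5596

open Groth.Agent.Lib.Helper4

theorem pfl {X : Scheme.{u}} {Ω : Type u} [Field Ω] [IsSepClosed Ω]
    (ξ : Spec (CommRingCat.of Ω) ⟶ X) :
    PreservesFiniteLimits ((Scheme.pointSmallEtale ξ).sheafFiber (A := Type (u + 1))) :=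
  PointULift.preservesFiniteLimits_sheafFiber.{u, u + 1}
    (Scheme.pointSmallEtale ξ) (Type (u + 1))


/-- A morphism v : F -> G of etale sheaves of sets on a scheme X is a monomorphism (resp. an
epimorphism) if and only if for every geometric point ξ of X (a morphism from the spectrum of a
separably closed field) the map of stalks F_ξ -> G_ξ is injective (resp. surjective). -/
theorem result {X : Scheme.{u}} {F G : EtDesc.Sh X} (v : F ⟶ G) :
    (Mono v ↔ ∀ (Ω : Type u) [Field Ω] [IsSepClosed Ω] (ξ : Spec (CommRingCat.of Ω) ⟶ X),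
      Function.Injective (((Scheme.pointSmallEtale ξ).sheafFiber (A := Type (u + 1))).map v)) ∧
    (Epi v ↔ ∀ (Ω : Type u) [Field Ω] [IsSepClosed Ω] (ξ : Spec (CommRingCat.of Ω) ⟶ X),
      Function.Surjective (((Scheme.pointSmallEtale ξ).sheafFiber (A := Type (u + 1))).map v)) := by
  refine ⟨⟨?_, ?_⟩, ⟨?_, ?_⟩⟩
  · intro h Ω _ _ ξ
    have := pfl ξ
    have : Mono (((Scheme.pointSmallEtale ξ).sheafFiber (A := Type (u + 1))).map v) := inferInstance
    exact (mono_iff_injective _).1 this
  · intro h
    rw [PointULift.mono_iff_sheafFiber.{u, u + 1} (EtStalk.hfam X) (Type (u + 1)) v]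
    rintro ⟨_, ⟨s⟩⟩
    exact (mono_iff_injective _).2 (h _ _)
  · intro h Ω _ _ ξ
    have : Epi (((Scheme.pointSmallEtale ξ).sheafFiber (A := Type (u + 1))).map v) := inferInstance
    exact (epi_iff_surjective _).1 this
  · intro h
    rw [PointULift.epi_iff_sheafFiber.{u, u + 1} (EtStalk.hfam X) (Type (u + 1)) v]
    rintro ⟨_, ⟨s⟩⟩
    exact (epi_iff_surjective _).2 (h _ _)

end Groth.Agent.S5596
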