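import Groth.Statements.S5598
import Groth.Agent.Lib.Helper62.PCohDerived
import Groth.Agent.Lib.Helper62.SigmaGE

set_option autoImplicit false
universe w v u
open CategoryTheory CategoryTheory.Limits
open PCoh

namespace Groth.Agent.S5598

/-- (i') ⇔ (ii') (punctual site): let C be an abelian category and C₀ a strictly full additive
subcategory, quasi-stable under kernels of epimorphisms and quasi-liftable. An object F of D(C) is
n-pseudo-coherent (isomorphic in D(C) to a strictly n-pseudo-coherent complex) if and only if there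
are a strictly perfect complex E (bounded, all terms in C₀) and a morphism E ⟶ F of D(C) which is an
n-isomorphism: an isomorphism on H^i for i > n and an epimorphism on H^n. -/
theorem result {C : Type u} [Category.{v} C] [Abelian C] [HasDerivedCategory.{w} C]
    (P : ObjectProperty C) [P.IsClosedUnderIsomorphisms] [P.ContainsZero] (hsum : ∀ X Y : C, P X → P Y → P (X ⨯ Y))
    (hqs : PCoh.IsQuasiStableUnderKernels P) (hql : PCoh.IsQuasiLiftable P)
    (n : ℤ) (F : DerivedCategory C) :
    (∃ E : CochainComplex C ℤ, PCoh.IsStrictPC P n E ∧ Nonempty (DerivedCategory.Q.obj E ≅ F)) ↔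
      ∃ (E : CochainComplex C ℤ) (a b : ℤ) (α : DerivedCategory.Q.obj E ⟶ F),
        (∀ i : ℤ, i < a ∨ b < i → IsZero (E.X i)) ∧ (∀ i : ℤ, P (E.X i)) ∧
        (∀ i : ℤ, n < i → IsIso ((DerivedCategory.homologyFunctor C i).map α)) ∧
        Epi ((DerivedCategory.homologyFunctor C n).map α) := by
  constructor
  · rintro ⟨E, ⟨⟨b, hb⟩, hP⟩, ⟨e⟩⟩
    refine ⟨Groth.Agent.Lib.Helper62.sigmaGE n E, n, b,
      DerivedCategory.Q.map (Groth.Agent.Lib.Helper62.sigmaGEι n E) ≫ e.hom, ?_, ?_, ?_, ?_⟩
    · rintro i (hi | hi)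
      · exact Groth.Agent.Lib.Helper62.isZero_sigmaGE_X n E i hi
      · exact IsZero.of_mono_eq_zero ((Groth.Agent.Lib.Helper62.sigmaGEι n E).f i)
          ((hb i hi).eq_of_tgt _ _)
    · intro i
      by_cases hi : n ≤ i
      · exact P.prop_of_iso (Groth.Agent.Lib.Helper62.sigmaGEXIso n E i hi).symm (hP i hi)
      · exact P.prop_of_isZero (Groth.Agent.Lib.Helper62.isZero_sigmaGE_X n E i (by omega))
    · intro i hi
      rw [Functor.map_comp]
      have := (Groth.Agent.Lib.Helper62.isIso_homologyFunctor_map_Q_iff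
        (Groth.Agent.Lib.Helper62.sigmaGEι n E) i).2
        (Groth.Agent.Lib.Helper62.isIso_homologyMap_sigmaGEι n E i hi)
      infer_instance
    · rw [Functor.map_comp]
      have := (Groth.Agent.Lib.Helper62.epi_homologyFunctor_map_Q_iff
        (Groth.Agent.Lib.Helper62.sigmaGEι n E) n).2
        (Groth.Agent.Lib.Helper62.epi_homologyMap_sigmaGEι n E)
      infer_instance
  · rintro ⟨E, a, b, α, hz, hP, hiso, hepi⟩
    obtain ⟨F₀, ⟨eF⟩⟩ : ∃ F₀ : CochainComplex C ℤ, Nonempty (DerivedCategory.Q.obj F₀ ≅ F) :=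
      ⟨_, ⟨DerivedCategory.Q.objObjPreimageIso F⟩⟩
    have hE : PCoh.IsStrictPC P n E := ⟨⟨b, fun i hi => hz i (Or.inr hi)⟩, fun i _ => hP i⟩
    obtain ⟨A₂, s, f, hA₂, hs, hf⟩ :=
      Groth.Agent.Lib.Helper62.exists_lift_hom hsum hqs hql n E F₀ hE (α ≫ eF.inv)
    have hsi : IsIso (DerivedCategory.Q.map s) := (DerivedCategory.isIso_Q_map_iff_quasiIso C s).2 hs
    have hfiso : ∀ i : ℤ, n < i → IsIso (HomologicalComplex.homologyMap f i) := by
      intro i hi
      rw [← Groth.Agent.Lib.Helper62.isIso_homologyFunctor_map_Q_iff, ← hf, Functor.map_comp,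
        Functor.map_comp]
      have := hiso i hi
      infer_instance
    have hfepi : Epi (HomologicalComplex.homologyMap f n) := by
      rw [← Groth.Agent.Lib.Helper62.epi_homologyFunctor_map_Q_iff, ← hf, Functor.map_comp,
        Functor.map_comp]
      infer_instance
    obtain ⟨E', v, u', hvu, hu', hvmono, hviso⟩ :=
      Groth.Agent.Lib.Helper62.exists_factor n f hfiso hfepi
    obtain ⟨⟨b₂, hb₂⟩, hA₂P⟩ := hA₂
    have hu'i : IsIso (DerivedCategory.Q.map u') := (DerivedCategory.isIso_Q_map_iff_quasiIso C u').2 hu'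
    refine ⟨E', ⟨⟨max b₂ n, fun i hi => ?_⟩, fun i hi => ?_⟩, ⟨asIso (DerivedCategory.Q.map u') ≪≫ eF⟩⟩
    · have := hviso i (by have := le_max_right b₂ n; omega)
      exact (hb₂ i (by have := le_max_left b₂ n; omega)).of_iso (asIso (v.f i)).symm
    · have := hviso i hi
      exact P.prop_of_iso (asIso (v.f i)) (hA₂P i hi)

end Groth.Agent.S5598
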