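import Groth.Statements.S5606
import Groth.Agent.Lib.Helper62.PCohObj

set_option autoImplicit false
universe w v u
open CategoryTheory CategoryTheory.Limits
open PCoh

namespace Groth.Agent.S5606

/-- Let C be an abelian category, C₀ ⊆ C₁ strictly full additive subcategories with C₀ quasi-stable
under kernels of epimorphisms and quasi-liftable. If every object of C₁ is C₀-pseudo-coherent, then
C₁ is quasi-liftable in C and quasi-stable under kernels of epimorphisms. -/
theorem result {C : Type u} [Category.{v} C] [Abelian C] [HasDerivedCategory.{w} C]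
    (P : ObjectProperty C) [P.IsClosedUnderIsomorphisms] [P.ContainsZero] (hsum : ∀ X Y : C, P X → P Y → P (X ⨯ Y))
    (hqs : PCoh.IsQuasiStableUnderKernels P) (hql : PCoh.IsQuasiLiftable P)
    (P₁ : ObjectProperty C) [P₁.IsClosedUnderIsomorphisms] [P₁.ContainsZero]
    (hsum₁ : ∀ X Y : C, P₁ X → P₁ Y → P₁ (X ⨯ Y)) (hle : ∀ X : C, P X → P₁ X)
    (hpc : ∀ X : C, P₁ X → PCoh.IsPC P ((DerivedCategory.singleFunctor C 0).obj X)) :
    PCoh.IsQuasiLiftable P₁ ∧ PCoh.IsQuasiStableUnderKernels P₁ := by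
  have hft : ∀ X : C, P₁ X → PCoh.IsOfFiniteType P X := fun X hX =>
    Groth.Agent.Lib.Helper62.finiteType_of_isNPC_single hsum hqs hql X (hpc X hX 0)
  constructor
  · intro E F u hu hF
    obtain ⟨P₀, π, hP₀, hπ⟩ := hft F hF
    have h1 : Epi (pullback.snd u π) := inferInstance
    obtain ⟨P', v, hP', hv⟩ := hql _ _ (pullback.snd u π) h1 hP₀
    refine ⟨P', v ≫ pullback.fst u π, hle _ hP', ?_⟩
    rw [Category.assoc, pullback.condition, ← Category.assoc]
    infer_instance
  · intro K hex hb hK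
    have h := Groth.Agent.Lib.Helper62.isPC_single_X_zero hsum hqs hql K hex hb
      (fun i hi => hpc _ (hK i hi))
    obtain ⟨P₀, π, hP₀, hπ⟩ :=
      Groth.Agent.Lib.Helper62.finiteType_of_isNPC_single hsum hqs hql (K.X 0) (h 0)
    exact ⟨P₀, π, hle _ hP₀, hπ⟩

end Groth.Agent.S5606
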