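import Groth.Statements.S5612
import Mathlib.Tactic
import Groth.Agent.Lib.Helper43.TorDim
import Groth.Agent.Lib.Helper43.PerfAmp
import Groth.Agent.Lib.Helper84.FlatAmpTri
import Groth.Agent.S2066
import Groth.Agent.S6946
-- import your own Groth.Agent.* helpers here

set_option autoImplicit false
universe u
open CategoryTheory CategoryTheory.Limits
attribute [local instance] HasDerivedCategory.standard
open DRing

namespace Groth.Agent.S5612

open Groth.Agent.Lib.Helper84.FlatAmp

/-- bounded cohomology gives finite tor dimension when all modules have finite tor dimension -/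
lemma torAmp_of_bounded {A : Type u} [CommRing A]
    (hA : ∀ (M : Type u) [AddCommGroup M] [Module A M], DRing.HasFiniteTorDim A M) (K : Dual.D A)
    (a b : ℤ) (hab : ∀ i : ℤ, i < a ∨ b < i → Subsingleton (Dual.HD A K i)) :
    ∃ a' : ℤ, DRing.HasTorAmplitudeIn A a' b K := by
  classical
  have h1 : ∀ i : ℤ, ∃ n : ℕ, DRing.HasTorAmplitudeIn A (-(n : ℤ)) 0
      (Dual.inD A (Dual.HD A K i)) := by
    intro i
    obtain ⟨n, hn⟩ := hA (Dual.HD A K i)
    exact ⟨n, ((Groth.Agent.S6946.result A (Dual.HD A K i) n).1).1 hn⟩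
  choose n hn using h1
  let D : ℕ := ∑ i ∈ Finset.Icc a b, n i
  have hD : ∀ i : ℤ, a ≤ i → i ≤ b → n i ≤ D := fun i h1 h2 =>
    Finset.single_le_sum (f := n) (fun j _ => Nat.zero_le _) (Finset.mem_Icc.2 ⟨h1, h2⟩)
  refine ⟨a - D, torAmp_of_bounded_homology (a - D) b K a b ?_ ?_⟩
  · intro i hi
    haveI := hab i hi
    exact ModuleCat.isZero_of_subsingleton _
  · intro i
    by_cases hi : a ≤ i ∧ i ≤ b
    · have := hD i hi.1 hi.2
      exact torAmp_mono (hn i) (by lia) (by lia)
    · have hi' : i < a ∨ b < i := by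
        by_contra hcon
        push_neg at hcon
        exact hi ⟨hcon.1, hcon.2⟩
      haveI := hab i hi'
      exact torAmp_of_isZero
        (Functor.map_isZero _ (ModuleCat.isZero_of_subsingleton _)) _ _

/-- cohomology of an object with a representative vanishing outside `[a, b]` -/
lemma subsingleton_HD_of_vanishesOutside {A : Type u} [CommRing A] (K : Dual.D A) (E : DRing.Cx A)
    (a b : ℤ) (hE : DRing.VanishesOutside E a b) (e : DRing.toD E ≅ K) (i : ℤ)
    (hi : i < a ∨ b < i) : Subsingleton (Dual.HD A K i) := by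
  haveI := isGE_toD_of_vanishes (E := E) (a := a) (fun i hi => hE i (Or.inl hi))
  haveI := isLE_toD_of_vanishes (E := E) (b := b) (fun i hi => hE i (Or.inr hi))
  haveI : K.IsGE a := DerivedCategory.TStructure.t.isGE_of_iso e a
  haveI : K.IsLE b := DerivedCategory.TStructure.t.isLE_of_iso e b
  rcases hi with hi | hi
  · exact ModuleCat.subsingleton_of_isZero (DerivedCategory.isZero_of_isGE K a i hi)
  · exact ModuleCat.subsingleton_of_isZero (DerivedCategory.isZero_of_isLE K b i hi)

/-- Let A be a commutative ring all of whose modules have finite tor dimension (for instance A of finite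
global dimension) and K ∈ D(A). (i) K has finite tor dimension if and only if K has bounded
cohomology. (ii) K is perfect if and only if K has bounded cohomology and is pseudo-coherent. -/
theorem result {A : Type u} [CommRing A]
    (hA : ∀ (M : Type u) [AddCommGroup M] [Module A M], DRing.HasFiniteTorDim A M) (K : Dual.D A) :
    (DRing.HasFiniteTorDimCx A K ↔ ∃ a b : ℤ, ∀ i : ℤ, i < a ∨ b < i → Subsingleton (Dual.HD A K i)) ∧
      (DRing.IsPerfect A K ↔
        (∃ a b : ℤ, ∀ i : ℤ, i < a ∨ b < i → Subsingleton (Dual.HD A K i)) ∧ DRing.IsPseudoCoherent' A K) := by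
  refine ⟨⟨?_, ?_⟩, ⟨?_, ?_⟩⟩
  · rintro ⟨a, b, E, hE, -, ⟨e⟩⟩
    exact ⟨a, b, fun i hi => subsingleton_HD_of_vanishesOutside K E a b hE e i hi⟩
  · rintro ⟨a, b, hab⟩
    obtain ⟨a', h⟩ := torAmp_of_bounded hA K a b hab
    exact ⟨a', b, h⟩
  · rintro ⟨E, a, b, hE, hfp, ⟨e⟩⟩
    refine ⟨⟨a, b, fun i hi => subsingleton_HD_of_vanishesOutside K E a b hE e i hi⟩, ?_⟩
    exact (Groth.Agent.S2066.result K).1.1
      (Groth.Agent.Lib.Helper43.PerfAmp.pcAll_of_isPerfect ⟨E, a, b, hE, hfp, ⟨e⟩⟩)
  · rintro ⟨⟨a, b, hab⟩, hpc⟩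
    obtain ⟨a', h⟩ := torAmp_of_bounded hA K a b hab
    obtain ⟨P, h1, h2, h3⟩ := Groth.Agent.Lib.Helper43.PerfAmp.exists_perfect_amplitude K a' b
      ((Groth.Agent.S2066.result K).1.2 hpc (a' - 1)) h
    exact ⟨P, a', b, h1, h2, h3⟩

end Groth.Agent.S5612
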