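import Groth.Statements.S5613
import Mathlib.Tactic
import Mathlib.CategoryTheory.Triangulated.Pretriangulated
import Mathlib.CategoryTheory.Limits.Preserves.Shapes.Products
import Mathlib.CategoryTheory.Limits.Shapes.Biproducts

set_option autoImplicit false
universe v u
open CategoryTheory CategoryTheory.Limits CategoryTheory.Pretriangulated
open KZero

namespace Groth.Agent.S5613

section

open ZeroObject

variable {C : Type u} [Category.{v} C] [Preadditive C] [HasZeroObject C]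
    [HasShift C ℤ] [∀ n : ℤ, (shiftFunctor C n).Additive] [Pretriangulated C]

lemma cl_tri (T : Triangle C) (hT : T ∈ distTriang C) :
    KZero.clTri T.obj₂ = KZero.clTri T.obj₁ + KZero.clTri T.obj₃ := by
  have hmem : FreeAbelianGroup.of (⟨T.obj₂, trivial⟩ : Subtype (⊤ : ObjectProperty C)) -
      FreeAbelianGroup.of ⟨T.obj₁, trivial⟩ - FreeAbelianGroup.of ⟨T.obj₃, trivial⟩ ∈
      KZero.relTr (⊤ : ObjectProperty C) :=
    AddSubgroup.subset_closure ⟨T, trivial, trivial, trivial, hT, rfl⟩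
  have h0 := (QuotientAddGroup.eq_zero_iff _).mpr hmem
  simp only [QuotientAddGroup.mk_sub] at h0
  have : KZero.clTri T.obj₂ - KZero.clTri T.obj₁ - KZero.clTri T.obj₃ = 0 := h0
  rw [sub_sub, sub_eq_zero] at this
  exact this

lemma cl_zero : KZero.clTri (0 : C) = 0 := by
  have := cl_tri _ (contractible_distinguished (0 : C))
  simpa using this

lemma cl_iso {X Y : C} (e : X ≅ Y) : KZero.clTri X = KZero.clTri Y := by
  have h1 : Triangle.mk e.hom (0 : Y ⟶ 0) 0 ∈ distTriang C := by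
    refine isomorphic_distinguished _ (contractible_distinguished X) _ ?_
    exact Triangle.isoMk _ _ (Iso.refl _) e.symm (Iso.refl _)
      (by change e.hom ≫ e.inv = 𝟙 X ≫ 𝟙 X; simp)
      (by change (0 : Y ⟶ 0) ≫ 𝟙 0 = e.inv ≫ 0; simp)
      (by change (0 : (0 : C) ⟶ X⟦(1 : ℤ)⟧) ≫ (shiftFunctor C (1 : ℤ)).map (𝟙 X) = 𝟙 0 ≫ 0; simp)
  have := cl_tri _ h1
  simp only [Triangle.mk_obj₁, Triangle.mk_obj₂, Triangle.mk_obj₃, cl_zero, add_zero] at this
  exact this.symm

lemma cl_shift_one (X : C) : KZero.clTri (X⟦(1 : ℤ)⟧) = - KZero.clTri X := by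
  have := cl_tri _ (contractible_distinguished₂ X)
  simp only [Triangle.mk_obj₁, Triangle.mk_obj₂, Triangle.mk_obj₃, cl_zero] at this
  exact (neg_eq_of_add_eq_zero_right this.symm).symm

lemma cl_shift_two (X : C) : KZero.clTri (X⟦(2 : ℤ)⟧) = KZero.clTri X := by
  have e : X⟦(2 : ℤ)⟧ ≅ (X⟦(1 : ℤ)⟧)⟦(1 : ℤ)⟧ :=
    (shiftFunctorAdd' C (1 : ℤ) 1 2 (by norm_num)).app X
  rw [cl_iso e, cl_shift_one, cl_shift_one, neg_neg]

lemma cl_shift_even (X : C) (m : ℤ) : KZero.clTri (X⟦2 * m⟧) = KZero.clTri X := by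
  induction m using Int.induction_on generalizing X with
  | zero =>
    exact cl_iso ((shiftFunctorZero' C (2 * 0) (by norm_num)).app X)
  | succ k ih =>
    have e : X⟦2 * ((k : ℤ) + 1)⟧ ≅ (X⟦2 * (k : ℤ)⟧)⟦(2 : ℤ)⟧ :=
      (shiftFunctorAdd' C (2 * (k : ℤ)) 2 (2 * ((k : ℤ) + 1)) (by ring)).app X
    rw [cl_iso e, cl_shift_two, ih]
  | pred k ih =>
    have e : X⟦2 * (-(k : ℤ))⟧ ≅ (X⟦2 * (-(k : ℤ) - 1)⟧)⟦(2 : ℤ)⟧ :=
      (shiftFunctorAdd' C (2 * (-(k : ℤ) - 1)) 2 (2 * (-(k : ℤ))) (by ring)).app X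
    have h := ih X
    rw [cl_iso e, cl_shift_two] at h
    exact h

lemma cl_biprod (X Y : C) : KZero.clTri (X ⊞ Y) = KZero.clTri X + KZero.clTri Y :=
  cl_tri _ (binaryBiproductTriangle_distinguished X Y)

noncomputable def decompCofan (f : ℕ → C) (h : ℕ → C) (Q : C) (g : ∀ i, h i ⟶ Q)
    (φ : ∀ i, h i ≅ f (i + 1)) : Cofan f :=
  Cofan.mk (f 0 ⊞ Q) (fun i => match i with
    | 0 => biprod.inl
    | (i + 1) => (φ i).inv ≫ g i ≫ biprod.inr)

noncomputable def decompIsColimit (f : ℕ → C) (h : ℕ → C) (Q : C) (g : ∀ i, h i ⟶ Q)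
    (hc : IsColimit (Cofan.mk Q g)) (φ : ∀ i, h i ≅ f (i + 1)) :
    IsColimit (decompCofan f h Q g φ) :=
  Cofan.IsColimit.mk _
    (fun t => biprod.desc (t.inj 0)
      (Cofan.IsColimit.desc hc (fun i => (φ i).hom ≫ t.inj (i + 1))))
    (by
      intro t j
      cases j with
      | zero => simp [decompCofan]
      | succ i =>
        simp only [decompCofan, Cofan.mk_pt, Cofan.inj, Cofan.mk_ι_app, Category.assoc,
          biprod.inr_desc]
        have := Cofan.IsColimit.fac hc (fun i => (φ i).hom ≫ t.inj (i + 1)) i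
        simp only [Cofan.inj, Cofan.mk_ι_app] at this
        rw [this]
        simp)
    (by
      intro t m hm
      apply biprod.hom_ext'
      · simp only [biprod.inl_desc]
        exact hm 0
      · simp only [biprod.inr_desc]
        apply Cofan.IsColimit.hom_ext hc
        intro i
        rw [Cofan.IsColimit.fac]
        have := hm (i + 1)
        simp only [decompCofan, Cofan.mk_pt, Cofan.inj, Cofan.mk_ι_app, Category.assoc] at this
        simp only [Cofan.inj, Cofan.mk_ι_app]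
        rw [← this]
        simp)

end

/-- Let C be a pretriangulated category, L an object of C and n an integer such that the coproduct ∐_{i
≥ 0} L⟦2ni⟧ exists in C. Then cl(L) = 0 in K₀(C). -/
theorem result {C : Type u} [Category.{v} C] [Preadditive C] [HasZeroObject C]
    [HasShift C ℤ] [∀ n : ℤ, (shiftFunctor C n).Additive] [Pretriangulated C]
    (L : C) (n : ℤ) [HasCoproduct (fun i : ℕ => (shiftFunctor C (2 * n * (i : ℤ))).obj L)] :
    KZero.clTri L = 0 := by
  let f : ℕ → C := fun i => (shiftFunctor C (2 * n * (i : ℤ))).obj L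
  have hc : IsColimit (Cofan.mk ((shiftFunctor C (2 * n)).obj (∐ f))
      fun j => (shiftFunctor C (2 * n)).map (Sigma.ι f j)) :=
    isColimitOfHasCoproductOfPreservesColimit (shiftFunctor C (2 * n)) f
  let φ : ∀ i, ((shiftFunctor C (2 * n)).obj (f i)) ≅ f (i + 1) := fun i =>
    ((shiftFunctorAdd' C (2 * n * (i : ℤ)) (2 * n) (2 * n * ((i + 1 : ℕ) : ℤ))
      (by push_cast; ring)).app L).symm
  have hd := decompIsColimit f (fun i => (shiftFunctor C (2 * n)).obj (f i)) _ _ hc φ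
  let e : (∐ f) ≅ f 0 ⊞ (shiftFunctor C (2 * n)).obj (∐ f) :=
    (coproductIsCoproduct f).coconePointUniqueUpToIso hd
  have h1 := cl_iso e
  rw [cl_biprod, cl_shift_even] at h1
  have h2 : KZero.clTri (f 0) = KZero.clTri L :=
    cl_iso ((shiftFunctorZero' C (2 * n * ((0 : ℕ) : ℤ)) (by simp)).app L)
  rw [h2] at h1
  exact add_eq_right.1 h1.symm

end Groth.Agent.S5613
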