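import Groth.Statements.S5614
import Groth.Agent.S5613

set_option autoImplicit false
universe v u
open CategoryTheory CategoryTheory.Limits CategoryTheory.Pretriangulated
open KZero

namespace Groth.Agent.S5614

/-- Let C be a pretriangulated category and S a dense set of objects, meaning that every set of objects
which contains S and which contains the third vertex of a distinguished triangle as soon as it
contains the other two is all of C. Then K₀(C) is generated by the classes of the objects of S. -/
theorem result {C : Type u} [Category.{v} C] [Preadditive C] [HasZeroObject C]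
    [HasShift C ℤ] [∀ n : ℤ, (shiftFunctor C n).Additive] [Pretriangulated C]
    (S : Set C)
    (hdense : ∀ T : Set C, S ⊆ T →
      (∀ tr : Triangle C, tr ∈ distinguishedTriangles →
        (tr.obj₁ ∈ T → tr.obj₂ ∈ T → tr.obj₃ ∈ T) ∧ (tr.obj₁ ∈ T → tr.obj₃ ∈ T → tr.obj₂ ∈ T) ∧
          (tr.obj₂ ∈ T → tr.obj₃ ∈ T → tr.obj₁ ∈ T)) → T = Set.univ) :
    AddSubgroup.closure (KZero.clTri '' S) = (⊤ : AddSubgroup (KZero.K0tri C)) := by
  set H := AddSubgroup.closure (KZero.clTri '' S) with hH
  have hT := hdense {X | KZero.clTri X ∈ H} (fun X hX => AddSubgroup.subset_closure ⟨X, hX, rfl⟩) ?_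
  · rw [eq_top_iff]
    rintro x -
    obtain ⟨y, rfl⟩ := QuotientAddGroup.mk_surjective x
    induction y using FreeAbelianGroup.induction_on with
    | zero => exact H.zero_mem
    | of X =>
      have : X.1 ∈ {X | KZero.clTri X ∈ H} := by rw [hT]; trivial
      exact this
    | neg X hX =>
      rw [QuotientAddGroup.mk_neg]
      exact H.neg_mem hX
    | add x y hx hy =>
      rw [QuotientAddGroup.mk_add]
      exact H.add_mem hx hy
  · intro tr htr
    have h := Groth.Agent.S5613.cl_tri tr htr
    refine ⟨?_, ?_, ?_⟩
    · intro h1 h2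
      have h1' : KZero.clTri tr.obj₁ ∈ H := h1
      have h2' : KZero.clTri tr.obj₂ ∈ H := h2
      show KZero.clTri tr.obj₃ ∈ H
      have : KZero.clTri tr.obj₃ = KZero.clTri tr.obj₂ - KZero.clTri tr.obj₁ := by
        rw [h]; abel
      rw [this]
      exact H.sub_mem h2' h1'
    · intro h1 h3
      have h1' : KZero.clTri tr.obj₁ ∈ H := h1
      have h3' : KZero.clTri tr.obj₃ ∈ H := h3
      show KZero.clTri tr.obj₂ ∈ H
      rw [h]
      exact H.add_mem h1' h3'
    · intro h2 h3
      have h2' : KZero.clTri tr.obj₂ ∈ H := h2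
      have h3' : KZero.clTri tr.obj₃ ∈ H := h3
      show KZero.clTri tr.obj₁ ∈ H
      have : KZero.clTri tr.obj₁ = KZero.clTri tr.obj₂ - KZero.clTri tr.obj₃ := by
        rw [h]; abel
      rw [this]
      exact H.sub_mem h2' h3'

end Groth.Agent.S5614
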