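import Groth.Statements.S5624
-- import your own Groth.Agent.* helpers here
import Mathlib.CategoryTheory.Abelian.Refinements

set_option autoImplicit false
universe v u
open CategoryTheory CategoryTheory.Limits
open PCoh

namespace Groth.Agent.S5624

/-- Punctual site: let C be an abelian category and C₀ a strictly full additive subcategory,
quasi-liftable in C, and let 0 → F → G → H → 0 be a short exact sequence. If F and H are precoherent
relative to C₀ then G is precoherent; if F and H are of C₀-finite type then G is of C₀-finite type. -/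
theorem result {C : Type u} [Category.{v} C] [Abelian C]
    (P : ObjectProperty C) [P.IsClosedUnderIsomorphisms] [P.ContainsZero] (hsum : ∀ X Y : C, P X → P Y → P (X ⨯ Y))
    (hql : PCoh.IsQuasiLiftable P)
    (S : ShortComplex C) (hS : S.ShortExact) :
    ((∀ (E : C) (u : E ⟶ S.X₁), P E → PCoh.IsOfFiniteType P (kernel u)) → (∀ (E : C) (u : E ⟶ S.X₃), P E → PCoh.IsOfFiniteType P (kernel u)) →
        (∀ (E : C) (u : E ⟶ S.X₂), P E → PCoh.IsOfFiniteType P (kernel u))) ∧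
      (PCoh.IsOfFiniteType P S.X₁ → PCoh.IsOfFiniteType P S.X₃ → PCoh.IsOfFiniteType P S.X₂) := by
  have hmono : Mono S.f := hS.mono_f
  have hepig : Epi S.g := hS.epi_g
  have hex : S.Exact := hS.exact
  constructor
  · intro hF hH E u hE
    obtain ⟨E₃, ρ₃, hE₃, hρ₃⟩ := hH E (u ≫ S.g) hE
    have hk : (kernel.ι (u ≫ S.g) ≫ u) ≫ S.g = 0 := by
      rw [Category.assoc, kernel.condition]
    let w : kernel (u ≫ S.g) ⟶ S.X₁ := hex.lift (kernel.ι (u ≫ S.g) ≫ u) hk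
    have hw : w ≫ S.f = kernel.ι (u ≫ S.g) ≫ u := hex.lift_f _ hk
    obtain ⟨E₁, ρ₁, hE₁, hρ₁⟩ := hF E₃ (ρ₃ ≫ w) hE₃
    have ht0 : (kernel.ι (ρ₃ ≫ w) ≫ ρ₃ ≫ kernel.ι (u ≫ S.g)) ≫ u = 0 := by
      rw [Category.assoc, Category.assoc, ← hw, ← Category.assoc ρ₃, ← Category.assoc,
        kernel.condition, zero_comp]
    let t : kernel (ρ₃ ≫ w) ⟶ kernel u := kernel.lift u _ ht0
    have ht : t ≫ kernel.ι u = kernel.ι (ρ₃ ≫ w) ≫ ρ₃ ≫ kernel.ι (u ≫ S.g) := kernel.lift_ι _ _ _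
    have hepi : Epi t := by
      rw [epi_iff_surjective_up_to_refinements]
      intro T y
      have hy0 : (y ≫ kernel.ι u) ≫ (u ≫ S.g) = 0 := by
        rw [Category.assoc, ← Category.assoc (kernel.ι u), kernel.condition, zero_comp, comp_zero]
      let y' : T ⟶ kernel (u ≫ S.g) := kernel.lift (u ≫ S.g) (y ≫ kernel.ι u) hy0
      have hy' : y' ≫ kernel.ι (u ≫ S.g) = y ≫ kernel.ι u := kernel.lift_ι _ _ _
      obtain ⟨T₁, p, hp, x, hx⟩ := (epi_iff_surjective_up_to_refinements ρ₃).mp hρ₃ y'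
      have hy'w : y' ≫ w = 0 := by
        rw [← cancel_mono S.f, Category.assoc, hw, ← Category.assoc, hy', Category.assoc,
          kernel.condition, comp_zero, zero_comp]
      have hx0 : x ≫ (ρ₃ ≫ w) = 0 := by
        rw [← Category.assoc, ← hx, Category.assoc, hy'w, comp_zero]
      refine ⟨T₁, p, hp, kernel.lift (ρ₃ ≫ w) x hx0, ?_⟩
      rw [← cancel_mono (kernel.ι u), Category.assoc, Category.assoc, ht,
        ← Category.assoc (kernel.lift _ _ _), kernel.lift_ι, ← Category.assoc x, ← hx,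
        Category.assoc, hy']
    exact ⟨E₁, ρ₁ ≫ t, hE₁, epi_comp ρ₁ t⟩
  · rintro ⟨E₁, π₁, hE₁, hπ₁⟩ ⟨E₃, π₃, hE₃, hπ₃⟩
    have hsnd : Epi (pullback.snd S.g π₃) := Abelian.epi_pullback_of_epi_f S.g π₃
    obtain ⟨F', v, hF', hv⟩ := hql _ _ (pullback.snd S.g π₃) hsnd hE₃
    let φ : E₁ ⨯ F' ⟶ S.X₂ := prod.fst ≫ π₁ ≫ S.f + prod.snd ≫ v ≫ pullback.fst S.g π₃
    refine ⟨E₁ ⨯ F', φ, hsum _ _ hE₁ hF', ?_⟩
    rw [epi_iff_surjective_up_to_refinements]
    intro T y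
    have hepi3 : Epi ((v ≫ pullback.snd S.g π₃) ≫ π₃) := epi_comp _ _
    obtain ⟨T₁, p₁, hp₁, x₃, hx₃⟩ :=
      (epi_iff_surjective_up_to_refinements ((v ≫ pullback.snd S.g π₃) ≫ π₃)).mp hepi3 (y ≫ S.g)
    have hz0 : (p₁ ≫ y - x₃ ≫ v ≫ pullback.fst S.g π₃) ≫ S.g = 0 := by
      rw [Preadditive.sub_comp, Category.assoc, hx₃]
      simp only [Category.assoc]
      rw [pullback.condition, sub_self]
    let z : T₁ ⟶ S.X₁ := hex.lift _ hz0
    have hz : z ≫ S.f = p₁ ≫ y - x₃ ≫ v ≫ pullback.fst S.g π₃ := hex.lift_f _ hz0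
    obtain ⟨T₂, p₂, hp₂, x₁, hx₁⟩ := (epi_iff_surjective_up_to_refinements π₁).mp hπ₁ z
    refine ⟨T₂, p₂ ≫ p₁, epi_comp _ _, prod.lift x₁ (p₂ ≫ x₃), ?_⟩
    simp only [φ, Preadditive.comp_add, prod.lift_fst_assoc, prod.lift_snd_assoc]
    rw [← Category.assoc x₁, ← hx₁]
    simp only [Category.assoc]
    rw [hz, Preadditive.comp_sub, sub_add_cancel]

end Groth.Agent.S5624
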