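import Groth.Statements.S5625
import Groth.Agent.S2249
import Groth.Agent.Lib.Lead.PullbackAff4
import Mathlib.CategoryTheory.Adjunction.Restrict
import Mathlib.CategoryTheory.Adjunction.Unique

set_option autoImplicit false
universe u
open CategoryTheory AlgebraicGeometry
open QCohCat

namespace Groth.Agent.S5625

open Groth.Agent.Lib.Lead.PullbackAff

variable {X Y : Scheme.{u}} (f : X ⟶ Y)

/-- pushforward restricted to quasi-coherent modules, `f` qcqs. -/
noncomputable def pushQ [QuasiCompact f] [QuasiSeparated f] : QCohCat.QCoh X ⥤ QCohCat.QCoh Y :=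
  ObjectProperty.lift (QCohCat.isQCoh Y) ((QCohCat.isQCoh X).ι ⋙ Scheme.Modules.pushforward f)
    (fun M => by
      haveI : M.obj.IsQuasicoherent := M.property
      exact Groth.Agent.S2249.isQuasicoherent_pushforward_of_qcqs f M.obj)

/-- pullback restricted to quasi-coherent modules. -/
noncomputable def pullQ : QCohCat.QCoh Y ⥤ QCohCat.QCoh X :=
  ObjectProperty.lift (QCohCat.isQCoh X) ((QCohCat.isQCoh Y).ι ⋙ Scheme.Modules.pullback f)
    (fun M => by
      haveI : M.obj.IsQuasicoherent := M.property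
      exact isQuasicoherent_pullback f M.obj)

noncomputable def adjQ [QuasiCompact f] [QuasiSeparated f] : pullQ f ⊣ pushQ f :=
  (Scheme.Modules.pullbackPushforwardAdjunction f).restrictFullyFaithful
    (QCohCat.isQCoh Y).fullyFaithfulι (QCohCat.isQCoh X).fullyFaithfulι
    (Iso.refl _) (Iso.refl _)

/-- Let f : X ⟶ Y be a morphism of quasi-compact quasi-separated schemes and Q_X, Q_Y coherators (right
adjoints of the inclusions QCoh ⥤ Mod) on X and Y. Then Q_Y ∘ f_* and f_* ∘ Q_X agree: the two
composite functors Mod(O_X) ⥤ Mod(O_Y) are naturally isomorphic (existence of a natural isomorphism;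
the source's isomorphism is the canonical one between two right adjoints of the same functor). -/
theorem result {X Y : Scheme.{u}} [CompactSpace X] [QuasiSeparatedSpace X]
    [CompactSpace Y] [QuasiSeparatedSpace Y] (f : X ⟶ Y)
    (QX : X.Modules ⥤ QCohCat.QCoh X) (adjX : (QCohCat.isQCoh X).ι ⊣ QX)
    (QY : Y.Modules ⥤ QCohCat.QCoh Y) (adjY : (QCohCat.isQCoh Y).ι ⊣ QY) :
    Nonempty ((QX ⋙ (QCohCat.isQCoh X).ι ⋙ Scheme.Modules.pushforward f) ≅
      (Scheme.Modules.pushforward f ⋙ QY ⋙ (QCohCat.isQCoh Y).ι)) := by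
  haveI : QuasiCompact f := inferInstance
  haveI : QuasiSeparated f := inferInstance
  have adj1 : pullQ f ⋙ (QCohCat.isQCoh X).ι ⊣ QX ⋙ pushQ f := (adjQ f).comp adjX
  have adj2 : (QCohCat.isQCoh Y).ι ⋙ Scheme.Modules.pullback f ⊣
      Scheme.Modules.pushforward f ⋙ QY :=
    adjY.comp (Scheme.Modules.pullbackPushforwardAdjunction f)
  have e : QX ⋙ pushQ f ≅ Scheme.Modules.pushforward f ⋙ QY :=
    adj1.rightAdjointUniq adj2
  exact ⟨Functor.isoWhiskerRight e (QCohCat.isQCoh Y).ι⟩

end Groth.Agent.S5625
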