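import Groth.Statements.S5626
import Groth.Agent.Lib.Helper2.LocFreeAff
import Groth.Agent.Lib.Helper21.QCohSections

set_option autoImplicit false
universe u
open CategoryTheory CategoryTheory.Limits AlgebraicGeometry
open FlatMod

namespace Groth.Agent.S5626

open Scheme.Modules Groth.Agent.Lib.Helper2.LocFreeAff Groth.Agent.Lib.Helper21.QCohSections


/-- For the Zariski topos of a scheme (a special case of both hypotheses (i) and (ii) there): on a
scheme X, a direct summand of a finite free O_X-module is finite locally free. Here M is a direct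
summand of O_X^n in the sense that M ⊞ N ≅ O_X^n for some module N. -/
theorem result {X : Scheme.{u}} (M N : X.Modules) [HasBinaryBiproduct M N] (n : ℕ)
    (e : M ⊞ N ≅ FlatMod.freeMod X n) :
    FlatMod.IsFinLocFree M := by
  have := freeMod_isQuasicoherent X n
  let i : M ⟶ FlatMod.freeMod X n := biprod.inl ≫ e.hom
  let r : FlatMod.freeMod X n ⟶ M := e.inv ≫ biprod.fst
  have hir : i ≫ r = 𝟙 M := by simp [i, r]
  have : M.IsQuasicoherent := isQuasicoherent_of_retract i r hir
  apply isFinLocFree_of_projective
  intro x
  obtain ⟨_, ⟨U, hU : IsAffineOpen U, rfl⟩, hxU, -⟩ :=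
    (X.isBasis_affineOpens).exists_subset_of_mem_open (Set.mem_univ x) isOpen_univ
  refine ⟨U, hU, hxU, ?_⟩
  obtain ⟨eq⟩ := nonempty_sections_freeMod_equiv X n hU
  have hcomp : (appL r U).comp (appL i U) = LinearMap.id := by
    ext s
    have := congr($(congrArg (fun ψ : M ⟶ M => ψ.app U) hir) s)
    simpa using this
  have : Module.Free Γ(X, U) Γ(FlatMod.freeMod X n, U) := Module.Free.of_equiv eq.symm
  have : Module.Finite Γ(X, U) Γ(FlatMod.freeMod X n, U) := Module.Finite.equiv eq.symm
  constructor
  · apply Module.Finite.of_surjective (appL r U)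
    intro s
    exact ⟨appL i U s, LinearMap.congr_fun hcomp s⟩
  · exact Module.Projective.of_split (appL i U) (appL r U) hcomp

end Groth.Agent.S5626
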