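import Groth.Statements.S5656
import Mathlib

set_option autoImplicit false
universe u
open W4sga6xxiii


namespace Groth.Agent.S5656

open Polynomial

/-- `Ring.choose` on `ℤ` as a rational polynomial. -/
lemma choose_eq_eval (n : ℤ) (j : ℕ) :
    ((Ring.choose n j : ℤ) : ℚ) = (descPochhammer ℚ j).eval (n : ℚ) / (j.factorial : ℚ) := by
  have h := Ring.descPochhammer_eq_factorial_smul_choose n j
  rw [← Polynomial.eval_eq_smeval] at h
  have h2 : (((descPochhammer ℤ j).eval n : ℤ) : ℚ) = (descPochhammer ℚ j).eval (n : ℚ) := by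
    rw [← descPochhammer_map (Int.castRingHom ℚ), Polynomial.eval_intCast_map]
    simp
  rw [← h2, h]
  have hj : (j.factorial : ℚ) ≠ 0 := by exact_mod_cast j.factorial_ne_zero
  push_cast [nsmul_eq_mul]
  field_simp

/-- Along a single element a polynomial map is given by a rational polynomial. -/
lemma exists_poly {G : Type*} [AddCommGroup G] (f : G → ℚ) (hf : W4sga6xxiii.IsPolyMap f) (x : G) :
    ∃ P : ℚ[X], ∀ s : ℤ, f (s • x) = P.eval (s : ℚ) := by
  obtain ⟨m, y, -, hy⟩ := hf 1 (fun _ => x)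
  refine ⟨∑ k : Fin 1 → Fin (m + 1),
    C (y k / (((k 0 : ℕ).factorial : ℕ) : ℚ)) * descPochhammer ℚ (k 0 : ℕ), fun s => ?_⟩
  have := hy (fun _ => s)
  simp only [Finset.univ_unique, Fin.default_eq_zero, Fin.isValue, Finset.sum_singleton,
    Finset.prod_singleton] at this
  rw [this, Polynomial.eval_finsetSum]
  refine Finset.sum_congr rfl fun k _ => ?_
  rw [zsmul_eq_mul, choose_eq_eval, Polynomial.eval_mul, Polynomial.eval_C]
  ring

/-- For a polynomial with integer values on `ℕ`, `leadingCoeff * natDegree!` is an integer. -/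
lemma leadingCoeff_mul_factorial_int (Q : ℚ[X]) (h : ∀ n : ℕ, ∃ z : ℤ, Q.eval (n : ℚ) = z) :
    ∃ z : ℤ, Q.leadingCoeff * (Q.natDegree.factorial : ℚ) = z := by
  choose zf hzf using h
  have h1 := congrFun (Polynomial.fwdDiff_iter_degree_eq_factorial Q) 0
  rw [fwdDiff_iter_eq_sum_shift] at h1
  refine ⟨∑ k ∈ Finset.range (Q.natDegree + 1),
    ((-1 : ℤ) ^ (Q.natDegree - k) * (Q.natDegree.choose k : ℤ)) * zf k, ?_⟩
  have h2 : (Q.leadingCoeff • (Q.natDegree.factorial : ℚ → ℚ)) 0 =
      Q.leadingCoeff * (Q.natDegree.factorial : ℚ) := by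
    simp
  rw [← h2, ← h1]
  push_cast
  refine Finset.sum_congr rfl fun k _ => ?_
  rw [zsmul_eq_mul]
  have : Q.eval ((0 : ℚ) + k • (1 : ℚ)) = zf k := by
    rw [← hzf k]; simp
  rw [this]
  push_cast
  ring

/-- A rational polynomial all of whose `p^e`-rescalings are integer valued is constant. -/
lemma natDegree_eq_zero_of_rescale (P : ℚ[X]) (p : ℕ) [Fact p.Prime]
    (h : ∀ e : ℕ, ∃ Q : ℚ[X], P = Q.comp (C ((p : ℚ) ^ e) * X) ∧
      ∀ n : ℕ, ∃ z : ℤ, Q.eval (n : ℚ) = z) : P.natDegree = 0 := by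
  by_contra hm
  have hp : p.Prime := Fact.out
  have hp0 : (p : ℚ) ≠ 0 := by exact_mod_cast hp.ne_zero
  have hP0 : P ≠ 0 := by
    intro h0; rw [h0] at hm; simp at hm
  have hlead : P.leadingCoeff ≠ 0 := leadingCoeff_ne_zero.mpr hP0
  set m := P.natDegree with hmdef
  set r : ℚ := P.leadingCoeff * (m.factorial : ℚ) with hr
  have hr0 : r ≠ 0 := mul_ne_zero hlead (by exact_mod_cast m.factorial_ne_zero)
  have hval : ∀ e : ℕ, (e : ℤ) ≤ padicValRat p r := by
    intro e
    obtain ⟨Q, hPQ, hQ⟩ := h e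
    have hpe : ((p : ℚ) ^ e) ≠ 0 := pow_ne_zero _ hp0
    have hq1 : (C ((p : ℚ) ^ e) * X : ℚ[X]).natDegree = 1 := natDegree_C_mul_X _ hpe
    have hdeg : Q.natDegree = m := by
      have := congrArg natDegree hPQ
      rw [natDegree_comp, hq1, mul_one] at this
      exact this.symm
    have hl : P.leadingCoeff = Q.leadingCoeff * ((p : ℚ) ^ e) ^ m := by
      have := congrArg leadingCoeff hPQ
      rw [leadingCoeff_comp (by rw [hq1]; exact one_ne_zero), leadingCoeff_C_mul_X, hdeg] at this
      exact this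
    obtain ⟨z, hz⟩ := leadingCoeff_mul_factorial_int Q hQ
    rw [hdeg] at hz
    have hrz : r = (z : ℚ) * ((p : ℚ) ^ e) ^ m := by
      rw [hr, hl, ← hz]; ring
    have hz0 : (z : ℚ) ≠ 0 := by
      intro h0; rw [h0, zero_mul] at hrz; exact hr0 hrz
    rw [hrz, padicValRat.mul hz0 (pow_ne_zero _ hpe), padicValRat.pow, padicValRat.pow,
      padicValRat.self hp.one_lt, padicValRat.of_int]
    have h1 : (0 : ℤ) ≤ (padicValInt p z : ℤ) := Int.natCast_nonneg _
    have h2 : (1 : ℤ) ≤ (m : ℤ) := by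
      have : 1 ≤ m := Nat.one_le_iff_ne_zero.mpr hm
      exact_mod_cast this
    nlinarith [Int.natCast_nonneg e]
  have := hval ((padicValRat p r).toNat + 1)
  have h3 := Int.self_le_toNat (padicValRat p r)
  push_cast at this
  omega

end Groth.Agent.S5656

namespace Groth.Agent.S5656

/-- Let G be an abelian group and G' ⊆ G a subgroup which is divisible by some prime number p (every
element of G' is p times an element of G') and such that G/G' is a torsion group. Then every
polynomial map f : G → ℚ (admitting binomial expansions f(Σ n_i x_i) = Σ_k Π_i C(n_i, k_i) y_k along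
every finite sequence x) which takes only integer values is constant. -/
theorem result {G : Type u} [AddCommGroup G] (G' : AddSubgroup G)
    (p : ℕ) (hp : p.Prime) (hdiv : ∀ x ∈ G', ∃ y ∈ G', p • y = x) (htor : ∀ x : G, ∃ n : ℤ, n ≠ 0 ∧ n • x ∈ G')
    (f : G → ℚ) (hf : W4sga6xxiii.IsPolyMap f) (hint : ∀ x, ∃ z : ℤ, f x = z) (x : G) : f x = f 0 := by
  open Polynomial in
  haveI : Fact p.Prime := ⟨hp⟩
  have hinj : Function.Injective (Int.cast : ℤ → ℚ) := Int.cast_injective
  have key1 : ∀ g ∈ G', f g = f 0 := by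
    intro g hg
    obtain ⟨P, hP⟩ := exists_poly f hf g
    have hdiv' : ∀ e : ℕ, ∃ ge ∈ G', (p ^ e) • ge = g := by
      intro e
      induction e with
      | zero => exact ⟨g, hg, by simp⟩
      | succ e ih =>
        obtain ⟨ge, hge, hge'⟩ := ih
        obtain ⟨y, hy, hy'⟩ := hdiv ge hge
        exact ⟨y, hy, by rw [pow_succ, mul_smul, hy', hge']⟩
    have hV : ∀ e : ℕ, ∃ Q : ℚ[X], P = Q.comp (C ((p : ℚ) ^ e) * X) ∧
        ∀ n : ℕ, ∃ z : ℤ, Q.eval (n : ℚ) = z := by
      intro e
      obtain ⟨ge, hge, hge'⟩ := hdiv' e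
      obtain ⟨Q, hQ⟩ := exists_poly f hf ge
      refine ⟨Q, ?_, ?_⟩
      · apply Polynomial.eq_of_infinite_eval_eq
        apply Set.Infinite.mono _ (Set.infinite_range_of_injective hinj)
        rintro _ ⟨s, rfl⟩
        show eval (s : ℚ) P = eval (s : ℚ) (Q.comp (C ((p : ℚ) ^ e) * X))
        rw [← hP s, eval_comp, eval_mul, eval_C, eval_X]
        have : s • g = (s * (p : ℤ) ^ e) • ge := by
          rw [mul_smul, ← hge']
          congr 1
          rw [← natCast_zsmul]
          push_cast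
          rfl
        rw [this, hQ]
        push_cast
        ring_nf
      · intro n
        obtain ⟨z, hz⟩ := hint ((n : ℤ) • ge)
        exact ⟨z, by rw [← hz, hQ]; simp⟩
    have hdeg := natDegree_eq_zero_of_rescale P p hV
    have hC := Polynomial.eq_C_of_natDegree_eq_zero hdeg
    have h1 : f g = P.eval 1 := by
      have := hP 1
      simpa using this
    have h0 : f 0 = P.eval 0 := by
      have := hP 0
      simpa using this
    rw [h1, h0, hC]
    simp
  obtain ⟨n, hn0, hn⟩ := htor x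
  obtain ⟨P, hP⟩ := exists_poly f hf x
  have hPC : P = C (f 0) := by
    apply Polynomial.eq_of_infinite_eval_eq
    have hinj2 : Function.Injective (fun s : ℤ => ((n * s : ℤ) : ℚ)) := by
      intro a b hab
      have : n * a = n * b := hinj hab
      exact mul_left_cancel₀ hn0 this
    apply Set.Infinite.mono _ (Set.infinite_range_of_injective hinj2)
    rintro _ ⟨s, rfl⟩
    show eval ((n * s : ℤ) : ℚ) P = eval ((n * s : ℤ) : ℚ) (C (f 0))
    rw [← hP, eval_C]
    have : (n * s) • x = s • (n • x) := by rw [mul_comm, mul_smul]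
    rw [this]
    exact key1 _ (G'.zsmul_mem hn s)
  have := hP 1
  rw [one_smul] at this
  rw [this, hPC]
  simp

end Groth.Agent.S5656
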