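import Groth.Statements.S5657
import Mathlib

set_option autoImplicit false
universe u
open TensorProduct
open W4sga6xxiii

set_option linter.unusedSectionVars false

namespace Groth.Agent.S5657Aux
open Polynomial

variable {A : Type u} [CommRing A]

/-- truncated binomial polynomial -/
noncomputable def pol (m : ℕ) (n : ℤ) : ℤ[X] :=
  ∑ k ∈ Finset.range (m + 1), C (Ring.choose n k) * X ^ k

theorem pol_coeff (m : ℕ) (n : ℤ) (d : ℕ) (hd : d < m + 1) :
    (pol m n).coeff d = Ring.choose n d := by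
  unfold pol
  rw [Polynomial.finsetSum_coeff]
  simp only [Polynomial.coeff_C_mul_X_pow]
  rw [Finset.sum_eq_single d]
  · simp
  · intro b _ hb
    rw [if_neg (fun h => hb h.symm)]
  · intro h
    exact absurd (Finset.mem_range.mpr hd) h

theorem pol_mul (m : ℕ) (n1 n2 : ℤ) :
    X ^ (m + 1) ∣ pol m n1 * pol m n2 - pol m (n1 + n2) := by
  rw [Polynomial.X_pow_dvd_iff]
  intro d hd
  rw [Polynomial.coeff_sub, Polynomial.coeff_mul, pol_coeff m _ d hd,
    Ring.add_choose_eq d (Commute.all n1 n2), sub_eq_zero]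
  refine Finset.sum_congr rfl fun ij hij => ?_
  have h := Finset.HasAntidiagonal.mem_antidiagonal.mp hij
  rw [pol_coeff m _ _ (by omega), pol_coeff m _ _ (by omega)]

/-- the value `Σ_k C(n,k) a^k` -/
noncomputable def E (m : ℕ) (a : A) (n : ℤ) : A :=
  ∑ k : Fin (m + 1), ((Ring.choose n (k : ℕ) : ℤ) : A) * a ^ (k : ℕ)

theorem E_eq_aeval (m : ℕ) (a : A) (n : ℤ) : E m a n = aeval a (pol m n) := by
  unfold E pol
  rw [map_sum, ← Finset.sum_range (fun k => ((Ring.choose n k : ℤ) : A) * a ^ k)]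
  refine Finset.sum_congr rfl fun k _ => ?_
  rw [map_mul, map_pow, aeval_X, aeval_C]
  simp

theorem E_add (m : ℕ) (a : A) (ha : a ^ (m + 1) = 0) (n1 n2 : ℤ) :
    E m a (n1 + n2) = E m a n1 * E m a n2 := by
  obtain ⟨q, hq⟩ := pol_mul m n1 n2
  rw [E_eq_aeval, E_eq_aeval, E_eq_aeval, ← map_mul]
  have : pol m n1 * pol m n2 = pol m (n1 + n2) + X ^ (m + 1) * q := by
    rw [← hq]; ring
  rw [this, map_add, map_mul, map_pow, aeval_X, ha, zero_mul, add_zero]

theorem E_zero (m : ℕ) (a : A) : E m a 0 = 1 := by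
  unfold E
  rw [Finset.sum_eq_single (0 : Fin (m + 1))]
  · simp [Ring.choose_zero_right]
  · intro b _ hb
    have hb' : (b : ℕ) ≠ 0 := fun h => hb (Fin.ext h)
    obtain ⟨j, hj⟩ := Nat.exists_eq_succ_of_ne_zero hb'
    rw [hj, Ring.choose_zero_succ]
    simp
  · intro h; exact absurd (Finset.mem_univ _) h

theorem E_one (m : ℕ) (a : A) (ha : a ^ (m + 1) = 0) : E m a 1 = 1 + a := by
  have h1 : E m a 1 = ∑ k ∈ Finset.range (m + 2), ((Ring.choose (1 : ℤ) k : ℤ) : A) * a ^ k := by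
    unfold E
    rw [← Finset.sum_range (fun k => ((Ring.choose (1 : ℤ) k : ℤ) : A) * a ^ k),
      Finset.sum_range_succ _ (m + 1), ha, mul_zero, add_zero]
  rw [h1, Finset.sum_range_succ', Finset.sum_range_succ']
  have h2 : ∀ k ∈ Finset.range m,
      ((Ring.choose (1 : ℤ) (k + 1 + 1) : ℤ) : A) * a ^ (k + 1 + 1) = 0 := by
    intro k _
    have : Ring.choose (1 : ℤ) (k + 1 + 1) = 0 := by
      have := Ring.choose_natCast (R := ℤ) 1 (k + 1 + 1)
      rw [Nat.cast_one] at this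
      rw [this, Nat.choose_eq_zero_of_lt (by omega)]; rfl
    rw [this]; simp
  rw [Finset.sum_eq_zero h2]
  have h3 : Ring.choose (1 : ℤ) (0 + 1) = 1 := by
    rw [zero_add, Ring.choose_one_right]
  rw [h3, Ring.choose_zero_right]
  simp [add_comm]

theorem coe_zpow_eq (m : ℕ) (u : Aˣ) (a : A) (hua : (u : A) = 1 + a) (ha : a ^ (m + 1) = 0)
    (n : ℤ) : ((u ^ n : Aˣ) : A) = E m a n := by
  let φ : Multiplicative ℤ →* A := (Units.coeHom A).comp (zpowersHom Aˣ u)
  let ψ : Multiplicative ℤ →* A :=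
    { toFun := fun z => E m a (Multiplicative.toAdd z)
      map_one' := E_zero m a
      map_mul' := fun z w => E_add m a ha _ _ }
  have hφψ : φ = ψ := by
    apply MonoidHom.ext_mint
    show ((u ^ (1 : ℤ) : Aˣ) : A) = E m a 1
    rw [zpow_one, hua, E_one m a ha]
  have := DFunLike.congr_fun hφψ (Multiplicative.ofAdd n)
  exact this

end Groth.Agent.S5657Aux

namespace Groth.Agent.S5657

/-- Let A be a commutative ring, I an ideal of A with I^{m+1} = 0, and P ⊆ Aˣ the subgroup of units of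
the form 1 + y with y ∈ I. Then the map P → A ⊗_ℤ ℚ, x ↦ x ⊗ 1, is a polynomial map of degree ≤ m on
the abelian group P (written additively): along every finite sequence x_1, …, x_r in P one has
x_1^{n_1}⋯x_r^{n_r} ⊗ 1 = Σ_k Π_i C(n_i, k_i) y_k with y_k = 0 whenever k_1 + ⋯ + k_r > m. -/
theorem result (A : Type u) [CommRing A] (I : Ideal A) (m : ℕ) (hI : I ^ (m + 1) = ⊥)
    (P : Subgroup Aˣ) (hP : ∀ u : Aˣ, u ∈ P ↔ (u : A) - 1 ∈ I) :
    W4sga6xxiii.IsPolyMapLE (fun u : Additive P => (((Additive.toMul u : P) : Aˣ) : A) ⊗ₜ[ℤ] (1 : ℚ)) m := by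
  classical
  intro r x
  -- the nilpotent parts
  set a : Fin r → A := fun i => (((Additive.toMul (x i) : P) : Aˣ) : A) - 1 with ha_def
  have haI : ∀ i, a i ∈ I := fun i => (hP _).mp (Additive.toMul (x i)).2
  have hapow : ∀ i, a i ^ (m + 1) = 0 := by
    intro i
    have : a i ^ (m + 1) ∈ I ^ (m + 1) := Ideal.pow_mem_pow (haI i) _
    rw [hI] at this
    exact this
  have hua : ∀ i, (((Additive.toMul (x i) : P) : Aˣ) : A) = 1 + a i := by
    intro i; rw [ha_def]; ring
  refine ⟨fun k => (∏ i, a i ^ ((k i : Fin (m + 1)) : ℕ)) ⊗ₜ[ℤ] (1 : ℚ), ?_, ?_⟩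
  · intro k hk
    have h1 : ∏ i, a i ^ ((k i : Fin (m + 1)) : ℕ) ∈ I ^ (∑ i, ((k i : Fin (m + 1)) : ℕ)) := by
      rw [← Finset.prod_pow_eq_pow_sum]
      exact Ideal.prod_mem_prod fun i _ => Ideal.pow_mem_pow (haI i) _
    have h2 : I ^ (∑ i, ((k i : Fin (m + 1)) : ℕ)) ≤ I ^ (m + 1) :=
      Ideal.pow_le_pow_right (by omega)
    have h3 := h2 h1
    rw [hI] at h3
    show (∏ i, a i ^ ((k i : Fin (m + 1)) : ℕ)) ⊗ₜ[ℤ] (1 : ℚ) = 0
    rw [(Submodule.mem_bot A).mp h3, TensorProduct.zero_tmul]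
  · intro n
    -- compute the unit
    have hval : (((Additive.toMul (∑ i, n i • x i) : P) : Aˣ) : A)
        = ∏ i, Groth.Agent.S5657Aux.E m (a i) (n i) := by
      have h1 : Additive.toMul (∑ i, n i • x i) = ∏ i, (Additive.toMul (x i)) ^ (n i) := by
        rw [toMul_sum]
        exact Finset.prod_congr rfl fun i _ => toMul_zsmul _ _
      rw [h1]
      have h2 : (((∏ i, (Additive.toMul (x i)) ^ (n i) : P) : Aˣ) : A)
          = ∏ i, ((((Additive.toMul (x i) : P) : Aˣ) ^ (n i) : Aˣ) : A) := by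
        rw [show ((∏ i, (Additive.toMul (x i)) ^ (n i) : P) : Aˣ)
            = ∏ i, (((Additive.toMul (x i)) ^ (n i) : P) : Aˣ) from map_prod P.subtype _ _]
        rw [Units.coe_prod]
        rfl
      rw [h2]
      refine Finset.prod_congr rfl fun i _ => ?_
      exact Groth.Agent.S5657Aux.coe_zpow_eq m _ (a i) (hua i) (hapow i) (n i)
    show (((Additive.toMul (∑ i, n i • x i) : P) : Aˣ) : A) ⊗ₜ[ℤ] (1 : ℚ) = _
    rw [hval]
    unfold Groth.Agent.S5657Aux.E
    rw [Finset.prod_univ_sum, Fintype.piFinset_univ, TensorProduct.sum_tmul]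
    refine Finset.sum_congr rfl fun k _ => ?_
    rw [Finset.prod_mul_distrib, ← Int.cast_prod, ← zsmul_eq_mul, TensorProduct.smul_tmul']

end Groth.Agent.S5657
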