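import Groth.Statements.S5658
import Mathlib

set_option autoImplicit false
universe u
open CAlg

namespace Groth.Agent.S5658

open Matrix
open scoped commutatorElement


section Blocks
variable {R : Type u} [CommRing R] {m : Type} [Fintype m] [DecidableEq m]

/-- upper block unipotent -/
def upU (X : Matrix m Unit R) : GL (m ⊕ Unit) R :=
  ⟨fromBlocks 1 X 0 1, fromBlocks 1 (-X) 0 1,
    by simp [fromBlocks_multiply], by simp [fromBlocks_multiply]⟩

/-- lower block unipotent -/
def loL (Z : Matrix Unit m R) : GL (m ⊕ Unit) R :=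
  ⟨fromBlocks 1 0 Z 1, fromBlocks 1 0 (-Z) 1,
    by simp [fromBlocks_multiply], by simp [fromBlocks_multiply]⟩

/-- block diagonal scalar -/
def dg (m : Type) [Fintype m] [DecidableEq m] (u : Rˣ) : GL (m ⊕ Unit) R :=
  ⟨fromBlocks ((u : R) • 1) 0 0 1, fromBlocks ((↑u⁻¹ : R) • 1) 0 0 1,
    by simp [fromBlocks_multiply, smul_smul], by simp [fromBlocks_multiply, smul_smul]⟩

theorem upU_val (X : Matrix m Unit R) : (upU X).val = fromBlocks 1 X 0 1 := rfl
theorem loL_val (Z : Matrix Unit m R) : (loL Z).val = fromBlocks 1 0 Z 1 := rfl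

theorem comm_dg_upU (u : Rˣ) (Y : Matrix m Unit R) :
    ⁅dg m u, upU Y⁆ = upU (((u : R) - 1) • Y) := by
  apply Units.ext
  simp only [commutatorElement_def]
  show (fromBlocks ((u : R) • 1) 0 0 1 * fromBlocks 1 Y 0 1 * fromBlocks ((↑u⁻¹ : R) • 1) 0 0 1
    * fromBlocks 1 (-Y) 0 1 : Matrix (m ⊕ Unit) (m ⊕ Unit) R) = fromBlocks 1 (((u : R) - 1) • Y) 0 1
  simp [fromBlocks_multiply, smul_smul, sub_smul]
  abel

theorem comm_dg_loL (u : Rˣ) (Y : Matrix Unit m R) :
    ⁅(dg m u)⁻¹, loL Y⁆ = loL (((u : R) - 1) • Y) := by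
  apply Units.ext
  simp only [commutatorElement_def, inv_inv]
  show (fromBlocks ((↑u⁻¹ : R) • 1) 0 0 1 * fromBlocks 1 0 Y 1 * fromBlocks ((u : R) • 1) 0 0 1
    * fromBlocks 1 0 (-Y) 1 : Matrix (m ⊕ Unit) (m ⊕ Unit) R) = fromBlocks 1 0 (((u : R) - 1) • Y) 1
  simp [fromBlocks_multiply, smul_smul, sub_smul]
  abel

theorem upU_mem (u : Rˣ) (hu : IsUnit ((u : R) - 1)) (X : Matrix m Unit R) :
    upU X ∈ commutator (GL (m ⊕ Unit) R) := by
  have h : upU X = ⁅dg m u, upU ((↑hu.unit⁻¹ : R) • X)⁆ := by
    rw [comm_dg_upU, smul_smul]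
    have : ((u : R) - 1) * (↑hu.unit⁻¹ : R) = 1 := hu.mul_val_inv
    rw [this, one_smul]
  rw [h]
  exact Subgroup.commutator_mem_commutator (Subgroup.mem_top _) (Subgroup.mem_top _)

theorem loL_mem (u : Rˣ) (hu : IsUnit ((u : R) - 1)) (X : Matrix Unit m R) :
    loL X ∈ commutator (GL (m ⊕ Unit) R) := by
  have h : loL X = ⁅(dg m u)⁻¹, loL ((↑hu.unit⁻¹ : R) • X)⁆ := by
    rw [comm_dg_loL, smul_smul]
    have : ((u : R) - 1) * (↑hu.unit⁻¹ : R) = 1 := hu.mul_val_inv
    rw [this, one_smul]
  rw [h]
  exact Subgroup.commutator_mem_commutator (Subgroup.mem_top _) (Subgroup.mem_top _)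

end Blocks



section Grp

theorem map_mem_commutator {G H : Type*} [Group G] [Group H] (f : G →* H) {g : G}
    (hg : g ∈ commutator G) : f g ∈ commutator H := by
  have h1 : f g ∈ Subgroup.map f (commutator G) := Subgroup.mem_map_of_mem f hg
  rw [commutator_def, Subgroup.map_commutator] at h1
  exact Subgroup.commutator_mono le_top le_top h1

theorem det_eq_one_of_mem_commutator {R : Type*} [CommRing R] {n : Type*} [Fintype n]
    [DecidableEq n] {c : GL n R} (hc : c ∈ commutator (GL n R)) : c.val.det = 1 := by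
  have h := Abelianization.commutator_subset_ker (Matrix.GeneralLinearGroup.det (n := n) (R := R)) hc
  rw [MonoidHom.mem_ker] at h
  have := congrArg Units.val h
  simpa using this

end Grp

section GoodDefs

variable {n : Type} [Fintype n] [DecidableEq n]

/-- `s` lies in the commutator subgroup after passing to an étale neighbourhood of `p`. -/
def Good (A : Type u) [CommRing A] (p : PrimeSpectrum A) (s : GL n A) : Prop :=
  ∃ (A' : Type u) (_ : CommRing A') (_ : Algebra A A'), Algebra.Etale A A' ∧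
    (∃ q : PrimeSpectrum A', q.asIdeal.comap (algebraMap A A') = p.asIdeal) ∧
    Matrix.GeneralLinearGroup.map (algebraMap A A') s ∈ commutator (GL n A')

variable {A : Type u} [CommRing A] {p : PrimeSpectrum A}

theorem good_of_mem {s : GL n A} (hs : s ∈ commutator (GL n A)) : Good A p s := by
  refine ⟨A, inferInstance, inferInstance, inferInstance, ⟨p, ?_⟩, ?_⟩
  · simp
  · have : Matrix.GeneralLinearGroup.map (algebraMap A A) s = s := by
      ext i j; simp
    rwa [this]

theorem good_of_nbhd {s : GL n A} (A₁ : Type u) [CommRing A₁] [Algebra A A₁] [Algebra.Etale A A₁]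
    (p₁ : PrimeSpectrum A₁) (hp₁ : p₁.asIdeal.comap (algebraMap A A₁) = p.asIdeal)
    (h : Good A₁ p₁ (Matrix.GeneralLinearGroup.map (algebraMap A A₁) s)) : Good A p s := by
  obtain ⟨A', _, _, het, ⟨q, hq⟩, hmem⟩ := h
  let _ : Algebra A A' := ((algebraMap A₁ A').comp (algebraMap A A₁)).toAlgebra
  have : IsScalarTower A A₁ A' := IsScalarTower.of_algebraMap_eq (fun x => rfl)
  refine ⟨A', inferInstance, inferInstance, Algebra.Etale.comp A A₁ A', ⟨q, ?_⟩, ?_⟩
  · rw [IsScalarTower.algebraMap_eq A A₁ A', ← Ideal.comap_comap, hq, hp₁]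
  · rw [IsScalarTower.algebraMap_eq A A₁ A', Matrix.GeneralLinearGroup.map_comp]
    exact hmem

theorem good_mul {s t c₁ c₂ : GL n A} (hc₁ : c₁ ∈ commutator (GL n A))
    (hc₂ : c₂ ∈ commutator (GL n A)) (hs : s = c₁ * t * c₂) (h : Good A p t) : Good A p s := by
  obtain ⟨A', _, _, het, hq, hmem⟩ := h
  refine ⟨A', inferInstance, inferInstance, het, hq, ?_⟩
  rw [hs, map_mul, map_mul]
  exact mul_mem (mul_mem (map_mem_commutator _ hc₁) hmem) (map_mem_commutator _ hc₂)

end GoodDefs



section Emb
variable {R : Type u} [CommRing R] {m : Type} [Fintype m] [DecidableEq m]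

/-- block embedding `g ↦ diag(g, 1)` -/
def iota : GL m R →* GL (m ⊕ Unit) R where
  toFun g := ⟨fromBlocks g.val 0 0 1, fromBlocks g⁻¹.val 0 0 1,
    by simp [fromBlocks_multiply], by simp [fromBlocks_multiply]⟩
  map_one' := by apply Units.ext; simp
  map_mul' g h := by apply Units.ext; simp [fromBlocks_multiply]

theorem iota_val (g : GL m R) : (iota g).val = fromBlocks g.val 0 0 1 := rfl

theorem map_iota {S : Type u} [CommRing S] (f : R →+* S) (g : GL m R) :
    Matrix.GeneralLinearGroup.map f (iota g) = iota (Matrix.GeneralLinearGroup.map f g) := by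
  apply Units.ext
  ext i j
  rcases i with i | i <;> rcases j with j | j <;>
    simp [iota_val, Matrix.GeneralLinearGroup.map]

variable {m' : Type} [Fintype m'] [DecidableEq m']

/-- reindexing -/
def reGL (e : m ≃ m') : GL m R ≃* GL m' R :=
  Units.mapEquiv (Matrix.reindexAlgEquiv R R e).toMulEquiv

theorem reGL_val (e : m ≃ m') (g : GL m R) : (reGL e g).val = Matrix.reindex e e g.val := rfl

theorem map_reGL {S : Type u} [CommRing S] (f : R →+* S) (e : m ≃ m') (g : GL m R) :
    Matrix.GeneralLinearGroup.map f (reGL e g) = reGL e (Matrix.GeneralLinearGroup.map f g) := by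
  apply Units.ext
  ext i j
  simp [reGL_val, Matrix.GeneralLinearGroup.map]

theorem det_reGL (e : m ≃ m') (g : GL m R) : (reGL e g).val.det = g.val.det := by
  rw [reGL_val, Matrix.det_reindex_self]

end Emb



section Blocks2
variable {R : Type u} [CommRing R] {m : Type} [Fintype m] [DecidableEq m]


theorem upU_mul_apply_inl (X : Matrix m Unit R) (T : Matrix (m ⊕ Unit) (m ⊕ Unit) R) (i : m)
    (k : m ⊕ Unit) :
    ((fromBlocks 1 X 0 1 : Matrix (m ⊕ Unit) (m ⊕ Unit) R) * T) (Sum.inl i) k
      = T (Sum.inl i) k + X i () * T (Sum.inr ()) k := by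
  simp [Matrix.mul_apply, Fintype.sum_sum_type, Matrix.one_apply]

theorem upU_mul_apply_inr (X : Matrix m Unit R) (T : Matrix (m ⊕ Unit) (m ⊕ Unit) R)
    (k : m ⊕ Unit) :
    ((fromBlocks 1 X 0 1 : Matrix (m ⊕ Unit) (m ⊕ Unit) R) * T) (Sum.inr ()) k
      = T (Sum.inr ()) k := by
  simp [Matrix.mul_apply, Fintype.sum_sum_type]

theorem loL_mul_apply_inr (Z : Matrix Unit m R) (T : Matrix (m ⊕ Unit) (m ⊕ Unit) R)
    (k : m ⊕ Unit) :
    ((fromBlocks 1 0 Z 1 : Matrix (m ⊕ Unit) (m ⊕ Unit) R) * T) (Sum.inr ()) k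
      = ∑ j, Z () j * T (Sum.inl j) k + T (Sum.inr ()) k := by
  simp [Matrix.mul_apply, Fintype.sum_sum_type]

theorem elim_val (A : Matrix m m R) (B : Matrix m Unit R) (C : Matrix Unit m R) :
    (fromBlocks 1 (-B) 0 1 * fromBlocks A B C 1 * fromBlocks 1 0 (-C) 1 :
      Matrix (m ⊕ Unit) (m ⊕ Unit) R) = fromBlocks (A - B * C) 0 0 1 := by
  simp [fromBlocks_multiply, sub_eq_add_neg]

end Blocks2

section Pivot

theorem exists_pivot {A : Type u} [CommRing A] (p : PrimeSpectrum A) {m : Type} [Fintype m]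
    [DecidableEq m] (M : Matrix (m ⊕ Unit) (m ⊕ Unit) A) (hdet : M.det = 1) :
    ∃ Z : Matrix Unit m A,
      ((fromBlocks 1 0 Z 1 : Matrix (m ⊕ Unit) (m ⊕ Unit) A) * M) (Sum.inr ()) (Sum.inr ())
        ∉ p.asIdeal := by
  by_cases h0 : M (Sum.inr ()) (Sum.inr ()) ∈ p.asIdeal
  · have hex : ∃ j : m, M (Sum.inl j) (Sum.inr ()) ∉ p.asIdeal := by
      by_contra hcon
      push Not at hcon
      have h1 : M.det ∈ p.asIdeal := by
        rw [Matrix.det_eq_sum_mul_adjugate_col M (Sum.inr ())]
        refine Ideal.sum_mem _ (fun k _ => Ideal.mul_mem_right _ _ ?_)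
        rcases k with j | ⟨⟩
        · exact hcon j
        · exact h0
      rw [hdet] at h1
      exact p.isPrime.ne_top ((Ideal.eq_top_iff_one _).mpr h1)
    obtain ⟨j, hj⟩ := hex
    refine ⟨fun _ k => if k = j then 1 else 0, ?_⟩
    rw [loL_mul_apply_inr]
    simp only [ite_mul, one_mul, zero_mul, Finset.sum_ite_eq', Finset.mem_univ, if_true]
    intro hmem
    exact hj ((Ideal.add_mem_iff_left _ h0).mp hmem)
  · refine ⟨0, ?_⟩
    rw [loL_mul_apply_inr]
    simpa using h0

end Pivot


section Good2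
variable {A : Type u} [CommRing A] {p : PrimeSpectrum A} {m : Type} [Fintype m] [DecidableEq m]

theorem good_iota {s : GL m A} (h : Good A p s) : Good A p (iota s) := by
  obtain ⟨A', _, _, het, hq, hmem⟩ := h
  refine ⟨A', inferInstance, inferInstance, het, hq, ?_⟩
  rw [map_iota]
  exact map_mem_commutator _ hmem

theorem good_of_reGL {m' : Type} [Fintype m'] [DecidableEq m'] (e : m ≃ m') {s : GL m A}
    (h : Good A p (reGL e s)) : Good A p s := by
  obtain ⟨A', _, _, het, hq, hmem⟩ := h
  refine ⟨A', inferInstance, inferInstance, het, hq, ?_⟩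
  rw [map_reGL] at hmem
  have := map_mem_commutator (reGL (R := A') e).symm.toMonoidHom hmem
  simpa using this

end Good2

section Elim
variable {R : Type u} [CommRing R] {m : Type} [Fintype m] [DecidableEq m]

theorem elim (u : Rˣ) (hu : IsUnit ((u : R) - 1)) (t : GL (m ⊕ Unit) R) (i₀ : m)
    (hd : IsUnit (t.val (Sum.inr ()) (Sum.inr ()))) :
    ∃ c₁ ∈ commutator (GL (m ⊕ Unit) R), ∃ c₂ ∈ commutator (GL (m ⊕ Unit) R),
      ∃ M' : Matrix m m R, (c₁ * t * c₂).val = fromBlocks M' 0 0 1 := by
  set d : R := t.val (Sum.inr ()) (Sum.inr ()) with hd_def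
  set y : R := (↑hd.unit⁻¹ : R) * (1 - t.val (Sum.inl i₀) (Sum.inr ())) with hy
  set X₁ : Matrix m Unit R := fun i _ => if i = i₀ then y else 0 with hX₁
  set Z₂ : Matrix Unit m R := fun _ j => if j = i₀ then (1 - d) else 0 with hZ₂
  set T₃ : Matrix (m ⊕ Unit) (m ⊕ Unit) R := (loL Z₂ * upU X₁ * t).val with hT₃
  have hT₃' : T₃ = fromBlocks 1 0 Z₂ 1 * (fromBlocks 1 X₁ 0 1 * t.val) := by
    simp [hT₃, Units.val_mul, loL_val, upU_val, mul_assoc]
  have hdd : d * (↑hd.unit⁻¹ : R) = 1 := hd.mul_val_inv
  have h2 : ((fromBlocks 1 X₁ 0 1 : Matrix (m ⊕ Unit) (m ⊕ Unit) R) * t.val) (Sum.inl i₀)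
      (Sum.inr ()) = 1 := by
    rw [upU_mul_apply_inl]
    simp only [hX₁, if_true]
    rw [hy, ← hd_def]
    linear_combination (1 - t.val (Sum.inl i₀) (Sum.inr ())) * hdd
  have h3 : T₃ (Sum.inr ()) (Sum.inr ()) = 1 := by
    rw [hT₃', loL_mul_apply_inr]
    simp only [hZ₂, ite_mul, zero_mul, Finset.sum_ite_eq', Finset.mem_univ, if_true]
    rw [h2, upU_mul_apply_inr, ← hd_def]
    ring
  have hblocks : ∃ (A : Matrix m m R) (B : Matrix m Unit R) (C : Matrix Unit m R),
      T₃ = fromBlocks A B C 1 := by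
    refine ⟨T₃.toBlocks₁₁, T₃.toBlocks₁₂, T₃.toBlocks₂₁, ?_⟩
    have hD : T₃.toBlocks₂₂ = 1 := by
      ext ⟨⟩ ⟨⟩
      simpa [Matrix.toBlocks₂₂] using h3
    rw [← hD, Matrix.fromBlocks_toBlocks]
  obtain ⟨A, B, C, hABC⟩ := hblocks
  refine ⟨upU (-B) * (loL Z₂ * upU X₁), ?_, loL (-C), loL_mem u hu _, A - B * C, ?_⟩
  · exact mul_mem (upU_mem u hu _) (mul_mem (loL_mem u hu _) (upU_mem u hu _))
  · have : (upU (-B) * (loL Z₂ * upU X₁) * t * loL (-C)).val
        = fromBlocks 1 (-B) 0 1 * T₃ * fromBlocks 1 0 (-C) 1 := by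
      simp [hT₃, Units.val_mul, loL_val, upU_val, mul_assoc]
    rw [this, hABC, elim_val]

end Elim

section Primes

theorem exists_prime_over {A A' K : Type u} [CommRing A] [CommRing A'] [Algebra A A'] [Field K]
    (g : A →+* K) (φ : A' →+* K) (hφ : φ.comp (algebraMap A A') = g) (p : PrimeSpectrum A)
    (hg : RingHom.ker g = p.asIdeal) :
    ∃ q : PrimeSpectrum A', q.asIdeal.comap (algebraMap A A') = p.asIdeal :=
  ⟨⟨RingHom.ker φ, RingHom.ker_isPrime φ⟩, by rw [← hg, ← hφ, RingHom.comap_ker]⟩

theorem exists_prime_over_away {A : Type u} [CommRing A] (p : PrimeSpectrum A) (x : A)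
    (hx : x ∉ p.asIdeal) :
    ∃ q : PrimeSpectrum (Localization.Away x),
      q.asIdeal.comap (algebraMap A (Localization.Away x)) = p.asIdeal := by
  have hunit : IsUnit (algebraMap A p.asIdeal.ResidueField x) := by
    rw [isUnit_iff_ne_zero, ne_eq, ← RingHom.mem_ker, Ideal.ker_algebraMap_residueField]
    exact hx
  exact exists_prime_over (algebraMap A p.asIdeal.ResidueField) (IsLocalization.Away.lift x hunit)
    (IsLocalization.Away.lift_comp ..) p (Ideal.ker_algebraMap_residueField _)

end Primes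

section Claim

theorem claim (r : ℕ) : ∀ (m : Type) [Fintype m] [DecidableEq m], Fintype.card m = r →
    ∀ (A : Type u) [CommRing A] (u : Aˣ) (_ : IsUnit ((u : A) - 1)) (p : PrimeSpectrum A)
      (s : GL m A), s.val.det = 1 → Good A p s := by
  induction r with
  | zero =>
    intro m _ _ hm A _ u hu p s hs
    have : IsEmpty m := Fintype.card_eq_zero_iff.mp hm
    have : s = 1 := by
      apply Units.ext
      exact Subsingleton.elim _ _
    rw [this]
    exact good_of_mem (one_mem _)
  | succ r ih =>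
    intro m _ _ hm A _ u hu p s hs
    rcases Nat.eq_zero_or_pos r with hr | hr
    · subst hr
      obtain ⟨hU⟩ := Fintype.card_eq_one_iff_nonempty_unique.mp hm
      let _ : Unique m := hU
      have : s = 1 := by
        apply Units.ext
        ext i j
        rw [Matrix.det_unique] at hs
        rw [Unique.eq_default i, Unique.eq_default j, hs]
        simp
      rw [this]
      exact good_of_mem (one_mem _)
    · have e : m ≃ (Fin r ⊕ Unit) := Fintype.equivOfCardEq (by simp [hm])
      apply good_of_reGL e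
      set s' := reGL e s with hs'_def
      have hs' : s'.val.det = 1 := by rw [det_reGL]; exact hs
      obtain ⟨Z, hZ⟩ := exists_pivot p s'.val hs'
      obtain ⟨x, hx_def⟩ : ∃ x : A, x = ((fromBlocks 1 0 Z 1 :
        Matrix (Fin r ⊕ Unit) (Fin r ⊕ Unit) A) * s'.val) (Sum.inr ()) (Sum.inr ()) := ⟨_, rfl⟩
      rw [← hx_def] at hZ
      obtain ⟨p₁, hp₁⟩ := exists_prime_over_away p x hZ
      have : Algebra.Etale A (Localization.Away x) := Algebra.Etale.of_isLocalizationAway x
      apply good_of_nbhd (Localization.Away x) p₁ hp₁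
      set f := algebraMap A (Localization.Away x) with hf
      set s₁ := Matrix.GeneralLinearGroup.map f s' with hs₁
      set u₁ : (Localization.Away x)ˣ := Units.map f u with hu₁_def
      have hu₁ : IsUnit ((u₁ : Localization.Away x) - 1) := by
        have := hu.map f
        simpa [hu₁_def] using this
      set t := loL (Z.map f) * s₁ with ht_def
      have ht : t.val (Sum.inr ()) (Sum.inr ()) = f x := by
        have hfx : f x = f (((fromBlocks 1 0 Z 1 :
            Matrix (Fin r ⊕ Unit) (Fin r ⊕ Unit) A) * s'.val) (Sum.inr ()) (Sum.inr ())) :=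
          congrArg f hx_def
        rw [ht_def, Units.val_mul, loL_val, loL_mul_apply_inr, hfx, loL_mul_apply_inr]
        simp [hs₁, Matrix.GeneralLinearGroup.map_apply]
      have hd : IsUnit (t.val (Sum.inr ()) (Sum.inr ())) := by
        rw [ht]
        exact IsLocalization.Away.algebraMap_isUnit x
      obtain ⟨c₁, hc₁, c₂, hc₂, M', hM'⟩ := elim u₁ hu₁ t ⟨0, hr⟩ hd
      have hdets₁ : s₁.val.det = 1 := by
        have : s₁.val = f.mapMatrix s'.val := rfl
        rw [this, ← RingHom.map_det, hs', map_one]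
      have hdet' : M'.det = 1 := by
        have h1 : (c₁ * t * c₂).val.det = 1 := by
          rw [ht_def]
          simp only [Units.val_mul, Matrix.det_mul, det_eq_one_of_mem_commutator hc₁,
            det_eq_one_of_mem_commutator hc₂,
            det_eq_one_of_mem_commutator (loL_mem u₁ hu₁ (Z.map f)), hdets₁, mul_one]
        rw [hM', Matrix.det_fromBlocks_zero₂₁, Matrix.det_one, mul_one] at h1
        exact h1
      set g' : GL (Fin r) (Localization.Away x) :=
        Matrix.GeneralLinearGroup.mk'' M' (by rw [hdet']; exact isUnit_one) with hg'_def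
      have hg' : c₁ * t * c₂ = iota g' := Units.ext (by rw [hM', iota_val]; rfl)
      have hIH := ih (Fin r) (by simp) (Localization.Away x) u₁ hu₁ p₁ g' hdet'
      refine good_mul (c₁ := (loL (Z.map f))⁻¹ * c₁⁻¹) (c₂ := c₂⁻¹) ?_ ?_ ?_ (good_iota hIH)
      · exact mul_mem (inv_mem (loL_mem u₁ hu₁ _)) (inv_mem hc₁)
      · exact inv_mem hc₂
      · rw [← hg', ht_def]
        group

end Claim

section Main
open Polynomial

/-- the standard étale pair `(X² + X + 1, 3)` -/
noncomputable def etP (A : Type u) [CommRing A] : StandardEtalePair A where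
  f := X ^ 2 + X + 1
  monic_f := by monicity!
  g := C 3
  cond := ⟨-(C 2 * X + 1), C 4, 1, by
    simp only [derivative_add, derivative_X_pow, derivative_X, derivative_one, pow_one]
    have h2 : (C ((2 : ℕ) : A) : A[X]) = 2 := by
      rw [Nat.cast_ofNat]
      exact map_ofNat C 2
    have h3 : (C (3 : A) : A[X]) = 3 := map_ofNat C 3
    have h4 : (C (4 : A) : A[X]) = 4 := map_ofNat C 4
    have h2' : (C (2 : A) : A[X]) = 2 := map_ofNat C 2
    rw [h2, h3, h4, h2']
    ring⟩

theorem exists_nbhd_unit (A : Type u) [CommRing A] (p : PrimeSpectrum A) :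
    ∃ (A₀ : Type u) (_ : CommRing A₀) (_ : Algebra A A₀), Algebra.Etale A A₀ ∧
      (∃ q : PrimeSpectrum A₀, q.asIdeal.comap (algebraMap A A₀) = p.asIdeal) ∧
      ∃ u : A₀ˣ, IsUnit ((u : A₀) - 1) := by
  by_cases h2 : (2 : A) ∈ p.asIdeal
  · -- use the standard étale algebra
    have h3 : (3 : A) ∉ p.asIdeal := by
      intro h3
      have : (1 : A) ∈ p.asIdeal := by
        have := p.asIdeal.sub_mem h3 h2
        norm_num at this
        exact this
      exact p.isPrime.ne_top ((Ideal.eq_top_iff_one _).mpr this)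
    let P := etP A
    refine ⟨P.Ring, inferInstance, inferInstance, inferInstance, ?_, ?_⟩
    · -- prime over p
      let κ := p.asIdeal.ResidueField
      let K := AlgebraicClosure κ
      have hker : RingHom.ker (algebraMap A K) = p.asIdeal := by
        ext a
        rw [RingHom.mem_ker, IsScalarTower.algebraMap_apply A κ K,
          map_eq_zero_iff _ (algebraMap κ K).injective, ← RingHom.mem_ker,
          Ideal.ker_algebraMap_residueField]
      obtain ⟨x₀, hx₀⟩ := IsAlgClosed.exists_root (X ^ 2 + X + 1 : K[X]) (by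
        have : (X ^ 2 + X + 1 : K[X]).Monic := by monicity!
        have hd : (X ^ 2 + X + 1 : K[X]).natDegree = 2 := by compute_degree!
        rw [Polynomial.degree_eq_natDegree this.ne_zero, hd]
        norm_num)
      have hmap : P.HasMap x₀ := by
        refine ⟨?_, ?_⟩
        · have : P.f = X ^ 2 + X + 1 := rfl
          rw [this]
          simpa using hx₀
        · have : P.g = C 3 := rfl
          rw [this, aeval_C, isUnit_iff_ne_zero, ne_eq, ← RingHom.mem_ker, hker]
          exact h3
      exact exists_prime_over (algebraMap A K) (P.lift x₀ hmap).toRingHom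
        (P.lift x₀ hmap).comp_algebraMap p hker
    · -- the unit
      have hX := P.hasMap_X
      have hx : P.X ^ 2 + P.X + 1 = 0 := by
        have h := hX.1
        have : P.f = X ^ 2 + X + 1 := rfl
        rw [this] at h
        simpa using h
      have h3u : IsUnit (3 : P.Ring) := by
        have h := hX.2
        have : P.g = C 3 := rfl
        rw [this, aeval_C] at h
        have h' : (algebraMap A P.Ring) 3 = 3 := map_ofNat _ 3
        rwa [h'] at h
      refine ⟨⟨P.X, -(P.X + 1), by linear_combination (-1 : P.Ring) * hx,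
        by linear_combination (-1 : P.Ring) * hx⟩, ?_⟩
      have : (P.X - 1) * (P.X + 2) = -3 := by linear_combination hx
      exact isUnit_of_mul_isUnit_left (this ▸ h3u.neg)
  · refine ⟨Localization.Away (2 : A), inferInstance, inferInstance,
      Algebra.Etale.of_isLocalizationAway (2 : A), exists_prime_over_away p 2 h2,
      (IsLocalization.Away.algebraMap_isUnit (S := Localization.Away (2 : A)) (2 : A)).unit, ?_⟩
    have : ((IsLocalization.Away.algebraMap_isUnit (S := Localization.Away (2 : A)) (2 : A)).unit :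
        Localization.Away (2 : A)) - 1 = 1 := by
      rw [IsUnit.unit_spec, ← map_one (algebraMap A (Localization.Away (2 : A))), ← map_sub]
      norm_num
    rw [this]
    exact isUnit_one

end Main

/-- On the big étale site of a scheme the sheaf of commutator subgroups of Gl(n) is Sl(n) = Ker(det).
Concretely: let A be a commutative ring, n ≥ 0, s ∈ SL_n(A) and p a prime ideal of A. Then there are
an étale A-algebra A' with a prime ideal lying over p such that the image of s in GL_n(A') lies in
the commutator subgroup of GL_n(A'). (The inclusion of commutators in SL_n being clear, this is the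
content of the statement.) -/
theorem result (A : Type u) [CommRing A] (n : ℕ)
    (s : Matrix.SpecialLinearGroup (Fin n) A) (p : PrimeSpectrum A) :
    ∃ (A' : Type u) (_ : CommRing A') (_ : Algebra A A'), Algebra.Etale A A' ∧
      (∃ q : PrimeSpectrum A', q.asIdeal.comap (algebraMap A A') = p.asIdeal) ∧
      (Matrix.GeneralLinearGroup.map (algebraMap A A')) (Matrix.SpecialLinearGroup.toGL s) ∈
        commutator (Matrix.GeneralLinearGroup (Fin n) A') := by
  obtain ⟨A₀, _, _, het, ⟨p₀, hp₀⟩, u, hu⟩ := exists_nbhd_unit A p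
  have hdet : (Matrix.GeneralLinearGroup.map (algebraMap A A₀)
      (Matrix.SpecialLinearGroup.toGL s)).val.det = 1 := by
    have : (Matrix.GeneralLinearGroup.map (algebraMap A A₀)
      (Matrix.SpecialLinearGroup.toGL s)).val = (algebraMap A A₀).mapMatrix s.val := rfl
    rw [this, ← RingHom.map_det, s.det_coe, map_one]
  have h := claim n (Fin n) (by simp) A₀ u hu p₀ _ hdet
  exact good_of_nbhd A₀ p₀ hp₀ h

end Groth.Agent.S5658
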