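import Groth.Statements.S5665
import Mathlib
import Groth.Agent.Lib.Helper86.ExtReg

set_option autoImplicit false
universe u
open CategoryTheory
open Dual

namespace Groth.Agent.S5665

open Abelian Groth.Agent.Lib.Helper86.ExtReg

/-- Let `A` be a commutative ring, `xs = (x_1, …, x_p)` a sequence in `A` such that each `x_i` is a
non-zero-divisor on `A/(x_1, …, x_{i-1})`, `J` the ideal generated by the `x_i` and `M` any
`A`-module. Then `Ext^p_A(A/J, M)` is isomorphic, as an `A`-module, to `M/JM`. (Existence of an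
`A`-linear isomorphism only; the published isomorphism is the one induced by the Koszul complex of
`xs`.) -/
theorem result (A : Type u) [CommRing A] (xs : List A) (hreg : RingTheory.Sequence.IsWeaklyRegular A xs) (M : Type u) [AddCommGroup M] [Module A M] : Nonempty (Abelian.Ext (ModuleCat.of A (A ⧸ Ideal.ofList xs)) (ModuleCat.of A M) xs.length ≃ₗ[A] (M ⧸ (Ideal.ofList xs • (⊤ : Submodule A M)))) := by
  have hproj : ∀ i, 0 < i → Subsingleton (Ext (ModuleCat.of A A) (ModuleCat.of A M) i) := by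
    intro i hi
    obtain ⟨j, rfl⟩ : ∃ j, i = j + 1 := ⟨i - 1, by omega⟩
    exact Ext.subsingleton_of_projective _ _ j
  obtain ⟨-, h2⟩ := ext_quot_ofList (ModuleCat.of A M) xs (ModuleCat.of A A) 0 hreg hproj
  obtain ⟨φ⟩ := h2 xs.length (zero_add _).symm
  have hI : Ideal.ofList xs • (⊤ : Submodule A A) = Ideal.ofList xs := by
    rw [smul_eq_mul, Ideal.mul_top]
  let e : ModuleCat.of A (A ⧸ Ideal.ofList xs) ≅
      ModuleCat.of A (A ⧸ Ideal.ofList xs • (⊤ : Submodule A A)) :=
    (Submodule.quotEquivOfEq _ _ hI.symm).toModuleIso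
  let e0 : Ext (ModuleCat.of A A) (ModuleCat.of A M) 0 ≃ₗ[A] M :=
    Ext.linearEquiv₀ ≪≫ₗ ModuleCat.homLinearEquiv (S := A) ≪≫ₗ LinearMap.ringLmapEquivSelf A A M
  exact ⟨(extCongrLeft e _ _).symm ≪≫ₗ φ ≪≫ₗ quotSMulTopCongr (Ideal.ofList xs) e0⟩

end Groth.Agent.S5665
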