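import Groth.Statements.S5666
import Groth.Agent.Lib.Helper84.ExtSplit

set_option autoImplicit false
universe u
open CategoryTheory
open Dual

namespace Groth.Agent.S5666

open Groth.Agent.Lib.Helper84 Groth.Agent.Lib.Helper86

/-- All degrees, for a module killed by `J`: let `A` be a commutative ring, `xs = (x_1, …, x_p)` a
sequence in `A` such that each `x_i` is a non-zero-divisor on `A/(x_1, …, x_{i-1})`, `J` the ideal
generated by the `x_i`, and `M` an `A`-module with `JM = 0`. Then for every `i`, `Ext^i_A(A/J, M)`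
is isomorphic as an `A`-module to `M^(p choose i)` (so it vanishes for `i > p`). (Existence of an
`A`-linear isomorphism only; the published one is `Ext^i_A(A/J, M) ≅ Hom_A(Λ^i(J/J^2), M)` with
`J/J^2` free of rank `p` over `A/J`.) -/
theorem result (A : Type u) [CommRing A] (xs : List A) (hreg : RingTheory.Sequence.IsWeaklyRegular A xs) (M : Type u) [AddCommGroup M] [Module A M] (hJM : Ideal.ofList xs • (⊤ : Submodule A M) = ⊥) (i : ℕ) : Nonempty (Abelian.Ext (ModuleCat.of A (A ⧸ Ideal.ofList xs)) (ModuleCat.of A M) i ≃ₗ[A] (Fin (xs.length.choose i) → M)) := by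
  classical
  set J := Ideal.ofList xs with hJ
  have hKM : ExtSplit.Killed J (ModuleCat.of A M) := by
    intro a ha m
    have : a • m ∈ J • (⊤ : Submodule A M) := Submodule.smul_mem_smul ha Submodule.mem_top
    rw [hJM] at this
    simpa using this
  have hxs : ∀ x ∈ xs, x ∈ J := fun x hx => Ideal.subset_span hx
  obtain ⟨D⟩ := ExtSplit.nonempty_natIso_quot_ofList (J := J) xs (ModuleCat.of A A) ExtSplit.c₀
    hxs hreg (fun i => ExtSplit.nonempty_natIso_self i) i
  have hc : ExtSplit.T^[xs.length] ExtSplit.c₀ i = xs.length.choose i :=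
    ExtSplit.iterate_T_c₀ _ _
  have hI : J • (⊤ : Submodule A A) = J := by
    rw [smul_eq_mul, Ideal.mul_top]
  let e : ModuleCat.of A (A ⧸ J) ≅ ModuleCat.of A (A ⧸ J • (⊤ : Submodule A A)) :=
    (Submodule.quotEquivOfEq _ _ hI.symm).toModuleIso
  have key : Nonempty (Abelian.Ext (ModuleCat.of A (A ⧸ J)) (ModuleCat.of A M) i ≃ₗ[A]
      (Fin (ExtSplit.T^[xs.length] ExtSplit.c₀ i) → M)) :=
    ⟨(ExtReg.extCongrLeft e _ _).symm ≪≫ₗ (D.θ (ModuleCat.of A M) hKM).symm⟩
  rw [hc] at key
  exact key

end Groth.Agent.S5666
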