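import Groth.Statements.S5670
import Groth.Agent.Lib.Helper51.SchemeIdem

set_option autoImplicit false
universe u
open Pi1

namespace Groth.Agent.S5670

set_option linter.style.haveILetI false
set_option linter.unusedSectionVars false
set_option backward.isDefEq.respectTransparency false
set_option backward.defeqAttrib.useBackward true
open CategoryTheory Limits AlgebraicGeometry Opposite TopologicalSpace

/-- idempotent global sections of a connected scheme are trivial -/
theorem idem_trivial_of_connectedSpace (X : Scheme.{u}) [ConnectedSpace X] (e : Γ(X, ⊤))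
    (he : IsIdempotentElem e) : e = 0 ∨ e = 1 := by
  have hdisj : X.basicOpen e ⊓ X.basicOpen (1 - e) = ⊥ := by
    rw [← Scheme.basicOpen_mul, mul_sub, mul_one, he.eq, sub_self, Scheme.basicOpen_zero]
  have hcov : X.basicOpen e ⊔ X.basicOpen (1 - e) = ⊤ := by
    rw [eq_top_iff]
    intro x _
    have hx : x ∈ (⊤ : X.Opens) := trivial
    rcases IsLocalRing.isUnit_or_isUnit_one_sub_self (X.presheaf.germ ⊤ x hx e) with h | h
    · exact Or.inl ((X.mem_basicOpen e x hx).mpr h)
    · refine Or.inr ((X.mem_basicOpen (1 - e) x hx).mpr ?_)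
      simpa using h
  have hclopen : IsClopen (X.basicOpen e : Set X) := by
    refine ⟨?_, (X.basicOpen e).2⟩
    have : (X.basicOpen e : Set X) = (X.basicOpen (1 - e) : Set X)ᶜ := by
      have h1 : (X.basicOpen e : Set X) ∩ (X.basicOpen (1 - e) : Set X) = ∅ := by
        have := congrArg (fun W : X.Opens => (W : Set X)) hdisj
        simpa using this
      have h2 : (X.basicOpen e : Set X) ∪ (X.basicOpen (1 - e) : Set X) = Set.univ := by
        have := congrArg (fun W : X.Opens => (W : Set X)) hcov
        simpa using this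
      ext x
      constructor
      · intro hx hx'
        have : x ∈ (∅ : Set X) := h1 ▸ ⟨hx, hx'⟩
        exact this
      · intro hx
        have : x ∈ (X.basicOpen e : Set X) ∪ (X.basicOpen (1 - e) : Set X) := h2 ▸ Set.mem_univ x
        exact this.resolve_right hx
    rw [this]
    exact (X.basicOpen (1 - e)).2.isClosed_compl
  have hunit : ∀ a : Γ(X, ⊤), X.basicOpen a = ⊤ → IsUnit a := by
    intro a ha
    apply X.toRingedSpace.isUnit_of_isUnit_germ ⊤ a
    intro x hx
    have hx' : x ∈ X.basicOpen a := by rw [ha]; trivial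
    exact (X.mem_basicOpen a x hx).mp hx'
  rcases isClopen_iff.mp hclopen with h | h
  · left
    have h1 : X.basicOpen e = ⊥ := by ext x; simp [h]
    have h2 : X.basicOpen (1 - e) = ⊤ := by
      have := hcov
      rw [h1, bot_sup_eq] at this
      exact this
    have h3 : IsUnit (1 - e) := hunit _ h2
    have h4 : (1 - e) = 1 := (IsIdempotentElem.iff_eq_one_of_isUnit h3).mp he.one_sub
    have : e = 1 - (1 - e) := by ring
    rw [this, h4, sub_self]
  · right
    have h1 : X.basicOpen e = ⊤ := by ext x; simp [h]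
    have h3 : IsUnit e := hunit _ h1
    exact (IsIdempotentElem.iff_eq_one_of_isUnit h3).mp he

section main

variable {X Y Y' : Scheme.{u}} (f : X ⟶ Y) [IsProper f] [IsNoetherian X] [IsNoetherian Y]
  (hf : ∀ U : Y.Opens, Function.Bijective (f.app U)) (g : Y' ⟶ Y) [IsFinite g] [Etale g]

include hf in
lemma isIso_snd_app_of_isAffineOpen {US : Y.Opens} (hUS : IsAffineOpen US) :
    IsIso ((pullback.snd f g).app (g ⁻¹ᵁ US)) := by
  have H : IsPullback (pullback.fst f g) (pullback.snd f g) f g := IsPullback.of_hasPullback f g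
  have hUT : IsAffineOpen (g ⁻¹ᵁ US) := hUS.preimage g
  have hUX : IsCompact (X := X) (f ⁻¹ᵁ US) := f.isCompact_preimage hUS.isCompact
  have hUX' : IsQuasiSeparated (α := X) (f ⁻¹ᵁ US) := IsQuasiSeparated.of_quasiSeparatedSpace _
  have h1 := isIso_pushoutSection_of_isQuasiSeparated_of_flat_right H
    (US := US) (UT := g ⁻¹ᵁ US) (UX := f ⁻¹ᵁ US) le_rfl le_rfl
    (UY := pullback.fst f g ⁻¹ᵁ (f ⁻¹ᵁ US) ⊓ pullback.snd f g ⁻¹ᵁ (g ⁻¹ᵁ US)) rfl hUS hUT hUX hUX'
  have h2 := (isIso_pushoutSection_iff H (US := US) (UT := g ⁻¹ᵁ US) (UX := f ⁻¹ᵁ US) le_rfl le_rfl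
    (UY := pullback.fst f g ⁻¹ᵁ (f ⁻¹ᵁ US) ⊓ pullback.snd f g ⁻¹ᵁ (g ⁻¹ᵁ US)) rfl).mp h1
  have h3 : IsIso (f.appLE US (f ⁻¹ᵁ US) le_rfl) := by
    rw [Scheme.Hom.appLE_eq_app]
    exact (ConcreteCategory.isIso_iff_bijective _).mpr (hf US)
  have h4 := h2.isIso_inr_of_isIso h3
  have heq : pullback.fst f g ⁻¹ᵁ (f ⁻¹ᵁ US) ⊓ pullback.snd f g ⁻¹ᵁ (g ⁻¹ᵁ US) =
      pullback.snd f g ⁻¹ᵁ (g ⁻¹ᵁ US) := by
    rw [inf_eq_right]
    rw [← Scheme.Hom.comp_preimage, ← Scheme.Hom.comp_preimage, pullback.condition]
  rw [Scheme.Hom.app_eq_appLE]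
  exact (Scheme.Hom.appLE_congr (pullback.snd f g) _ rfl heq (fun φ => IsIso φ)).mp h4

include hf in
lemma isIso_snd_appTop : IsIso (pullback.snd f g).appTop := by
  let F : TopCat.Sheaf CommRingCat Y :=
    (TopCat.Sheaf.pushforward CommRingCat g.base).obj Y'.sheaf
  let G : TopCat.Sheaf CommRingCat Y :=
    (TopCat.Sheaf.pushforward CommRingCat g.base).obj
      ((TopCat.Sheaf.pushforward CommRingCat (pullback.snd f g).base).obj (pullback f g).sheaf)
  let ψ : Y'.sheaf ⟶
      (TopCat.Sheaf.pushforward CommRingCat (pullback.snd f g).base).obj (pullback f g).sheaf :=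
    ⟨(pullback.snd f g).c⟩
  let φ : F ⟶ G := (TopCat.Sheaf.pushforward CommRingCat g.base).map ψ
  have hB : Opens.IsBasis (Set.range (Subtype.val : Y.affineOpens → Y.Opens)) := by
    rw [Subtype.range_coe]
    exact Y.isBasis_affineOpens
  have hφ : IsIso φ := TopCat.Sheaf.isIso_iff_isIso_basis
    (B := (Subtype.val : Y.affineOpens → Y.Opens)) hB
    (fun U => isIso_snd_app_of_isAffineOpen f hf g U.2)
  have h1 : IsIso φ.hom := (inferInstance : IsIso ((sheafToPresheaf _ _).map φ))
  have h2 : IsIso (φ.hom.app (op ⊤)) := inferInstance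
  exact h2

include hf in
theorem connected_pullback [ConnectedSpace Y'] : ConnectedSpace ↥(pullback f g) := by
  have hiso := isIso_snd_appTop f hf g
  have hbij : Function.Bijective (pullback.snd f g).appTop :=
    (ConcreteCategory.isIso_iff_bijective _).mp hiso
  haveI : Nonempty ↥(pullback f g) := by
    by_contra hne
    rw [not_nonempty_iff] at hne
    have h01 : (1 : Γ(Y', ⊤)) = 0 := hbij.1 (Subsingleton.elim _ _)
    haveI : Nonempty ↥(⊤ : Y'.Opens) := ⟨⟨Classical.arbitrary Y', trivial⟩⟩
    exact one_ne_zero h01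
  apply Groth.Agent.Lib.Helper51.connectedSpace_of_forall_idempotent
  intro e he
  obtain ⟨e', rfl⟩ := hbij.2 e
  have he' : IsIdempotentElem e' := hbij.1 (by rw [map_mul]; exact he)
  rcases idem_trivial_of_connectedSpace Y' e' he' with h | h
  · left; rw [h, map_zero]
  · right; rw [h, map_one]

end main


open CategoryTheory CategoryTheory.Limits AlgebraicGeometry in
/-- Let `f : X → Y` be a proper morphism of Noetherian schemes such that `O_Y → f_* O_X` is an
isomorphism (bijective on sections over every open of `Y`). Then for every connected finite étale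
`Y'` over `Y`, the base change `X ×_Y Y'` is connected; equivalently, `f` induces a surjection on
étale fundamental groups. -/
theorem result {X Y Y' : Scheme.{u}} (f : X ⟶ Y) [IsProper f] [IsNoetherian X] [IsNoetherian Y] (hf : ∀ U : Y.Opens, Function.Bijective (f.app U)) (g : Y' ⟶ Y) [IsFinite g] [Etale g] [ConnectedSpace Y'] : ConnectedSpace ↥(pullback f g) := by
  exact connected_pullback f hf g


end Groth.Agent.S5670
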