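import Groth.Statements.S5671
import Groth.Agent.Lib.Helper77.RegularCM
import Groth.Agent.Lib.Helper67.CM2
import Mathlib.RingTheory.Depth.Rees

set_option autoImplicit false
universe u
open CategoryTheory
open Dual

namespace Groth.Agent.S5671

section Aux
open IsLocalRing CategoryTheory LocCoh

open Groth.Agent.Lib.Helper67

theorem main (A : Type u) [CommRing A] [IsRegularLocalRing A] (M : Type u) [AddCommGroup M] [Module A M] [Module.Finite A M] (p : ℕ) (hdim : Module.supportDim A M + p ≤ ringKrullDim A) (i : ℕ) (hi : i < p) : Subsingleton (Abelian.Ext (ModuleCat.of A M) (ModuleCat.of A A) i) := by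
  rcases subsingleton_or_nontrivial M with hs | hnt
  · have hz : Limits.IsZero (ModuleCat.of A M) := ModuleCat.isZero_of_subsingleton _
    have := hz.hasProjectiveDimensionLT_zero
    exact HasProjectiveDimensionLT.subsingleton (ModuleCat.of A M) 0 i (Nat.zero_le i) _
  set I := Module.annihilator A M with hIdef
  have hI : I ≠ ⊤ := by
    intro h
    rw [Module.annihilator_eq_top_iff] at h
    exact not_subsingleton M h
  have hCM : IsCohenMacaulayModule A A :=
    (Groth.Agent.Lib.Helper77.RegularCM.isCohenMacaulayLocalRing A).supportDim_eq_depth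
  have h1 := supportDim_eq_add_idealDepth_of_CM A hCM I hI
  have hItop : (I • (⊤ : Submodule A A)) = I := by simp
  have h2 : Module.supportDim A (A ⧸ (I • (⊤ : Submodule A A))) = Module.supportDim A M := by
    rw [hItop, Module.supportDim_quotient_eq_ringKrullDim,
      Module.supportDim_eq_ringKrullDim_quotient_annihilator]
  have h3 : (p : ℕ∞) ≤ idealDepth I A := by
    rw [Module.supportDim_self_eq_ringKrullDim, h2] at h1
    rw [h1] at hdim
    obtain ⟨k, hk⟩ := supportDim_eq_natCast (R := A) M
    rw [hk] at hdim
    have h4 : ((k : ℕ∞) + (p : ℕ∞)) ≤ (k : ℕ∞) + idealDepth I A := by exact_mod_cast hdim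
    exact (ENat.add_le_add_iff_left (ENat.natCast_ne_top k)).mp h4
  have hIA : I • (⊤ : Submodule A A) ≠ ⊤ := by
    rw [hItop]; exact hI
  rw [le_idealDepth_iff] at h3
  rcases h3 with h3 | ⟨rs, hlen, hreg, hmem⟩
  · exact absurd h3 hIA
  · have hregular : RingTheory.Sequence.IsRegular A rs :=
      isRegular_of_isWeaklyRegular_of_mem I hIA hreg hmem
    have hsupp : Module.support A (ModuleCat.of A M) ⊆ PrimeSpectrum.zeroLocus I := by
      change Module.support A M ⊆ _
      rw [Module.support_eq_zeroLocus]
    exact ModuleCat.subsingleton_ext_of_exists_isRegular I (ModuleCat.of A M) hsupp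
      (ModuleCat.of A A) (lt_top_iff_ne_top.mpr hIA) rs hmem hregular i (by rw [hlen]; exact hi)


end Aux

/-- First assertion, in the local-algebra form to which its proof reduces it: let `A` be a regular local
ring of dimension `n`, `p ≥ 0`, and `M` a finite `A`-module whose support has dimension at most `n -
p`. Then `Ext^i_A(M, A) = 0` for every `i < p`. (The geometric statement: on a nonsingular
`n`-dimensional variety the sheaves `Ext^i(F, L)` vanish for `i < p` when `F` is coherent with
support of dimension `≤ n - p` and `L` is locally free.) -/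
theorem result (A : Type u) [CommRing A] [IsRegularLocalRing A] (M : Type u) [AddCommGroup M] [Module A M] [Module.Finite A M] (p : ℕ) (hdim : Module.supportDim A M + p ≤ ringKrullDim A) (i : ℕ) (hi : i < p) : Subsingleton (Abelian.Ext (ModuleCat.of A M) (ModuleCat.of A A) i) := by
  exact main A M p hdim i hi

end Groth.Agent.S5671
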