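import Mathlib
-- Template for statement S5673 (row 5672; see the milestone table for weights).
-- Copy to Groth/Agent/S5673.lean and replace the sorry. The statement below is byte-identical to the frozen
-- statement Dual.GrothFrozen.S5673 (Groth/Statements/S5673.lean; the theorem Dual.tor_quotient_top_of_weaklyRegular);
-- the grader kernel-checks Groth.Agent.S5673.result against that frozen type. Keep the theorem IN THIS FILE
-- (a `result` declared elsewhere and merely imported here is not credited); helpers may live anywhere
-- under Groth/Agent/.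
import Groth.Statements.S5673
import Groth.Agent.Lib.Helper24.TorRegular

set_option autoImplicit false
universe u
open CategoryTheory
open Dual

namespace Groth.Agent.S5673

/-- Let `A` be a commutative ring, `xs = (x_1, …, x_p)` a sequence in `A` such that each `x_i` is a
non-zero-divisor on `A/(x_1, …, x_{i-1})`, `J` the ideal generated by the `x_i` and `M` any
`A`-module. Then `Tor_p^A(A/J, M)` (Mathlib's `Tor'`, the left derived functors of `- ⊗ M` evaluated
at `A/J`, i.e. computed from a resolution of `A/J`) is isomorphic as an `A`-module to `Hom_A(A/J,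
M)`, i.e. to the elements of `M` killed by `J`. (Existence of an `A`-linear isomorphism only; the
published one is induced by the Koszul complex of `xs`.) -/
theorem result (A : Type u) [CommRing A] (xs : List A) (hreg : RingTheory.Sequence.IsWeaklyRegular A xs) (M : Type u) [AddCommGroup M] [Module A M] : Nonempty (↑(((Tor' (ModuleCat.{u} A) xs.length).obj (ModuleCat.of A (A ⧸ Ideal.ofList xs))).obj (ModuleCat.of A M)) ≃ₗ[A] ((A ⧸ Ideal.ofList xs) →ₗ[A] M)) := by
  classical
  let F : ModuleCat.{u} A ⥤ ModuleCat.{u} A :=
    (MonoidalCategory.tensoringRight (ModuleCat.{u} A)).obj (ModuleCat.of A M)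
  have : F.Additive := inferInstanceAs ((MonoidalCategory.tensorRight (ModuleCat.of A M)).Additive)
  have : F.Linear A := inferInstanceAs ((MonoidalCategory.tensorRight (ModuleCat.of A M)).Linear A)
  have : Limits.PreservesFiniteColimits F := by
    have h1 : Limits.PreservesFiniteColimits (MonoidalCategory.tensorLeft (ModuleCat.of A M)) :=
      inferInstance
    exact Limits.preservesFiniteColimits_of_natIso
      (BraidedCategory.tensorLeftIsoTensorRight (ModuleCat.of A M))
  have hproj : Projective (ModuleCat.of A A) :=
    (IsProjective.iff_projective (R := A) (P := A)).mp inferInstance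
  have hvan : ∀ i, 0 < i → Limits.IsZero ((F.leftDerived i).obj (ModuleCat.of A A)) := by
    intro i hi
    obtain ⟨j, rfl⟩ : ∃ j, i = j + 1 := ⟨i - 1, by omega⟩
    exact Functor.isZero_leftDerived_obj_projective_succ F j (ModuleCat.of A A)
  obtain ⟨-, ⟨e⟩⟩ := Groth.Agent.Lib.Helper24.TorRegular.leftDerived_quotient_regular F xs A hreg 0
    xs.length (zero_add _) hvan
  have hI : Ideal.ofList xs • (⊤ : Submodule A A) = Ideal.ofList xs := by
    rw [smul_eq_mul, Ideal.mul_top]
  let e0 : (A ⧸ Ideal.ofList xs) ≃ₗ[A] (A ⧸ (Ideal.ofList xs • (⊤ : Submodule A A))) :=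
    Submodule.quotEquivOfEq _ _ hI.symm
  let e1 := ((F.leftDerived xs.length).mapIso e0.toModuleIso).toLinearEquiv
  let e2 : ((F.leftDerived 0).obj (ModuleCat.of A A)) ≃ₗ[A] M :=
    ((F.leftDerivedZeroIsoSelf.app (ModuleCat.of A A)) ≪≫
      (MonoidalCategory.leftUnitor (ModuleCat.of A M))).toLinearEquiv
  exact ⟨e1 ≪≫ₗ e ≪≫ₗ Groth.Agent.Lib.Helper24.TorRegular.torsCongr xs e2 ≪≫ₗ
    Groth.Agent.Lib.Helper24.TorRegular.torsEquivHom xs M⟩

end Groth.Agent.S5673
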