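import Groth.Statements.S5675
import Mathlib
import Groth.Agent.Lib.Helper86.ExtReg
import Groth.Agent.Lib.Helper99.DetPrE

set_option autoImplicit false
universe u
open CategoryTheory
open Dual

namespace Groth.Agent.S5675

/-- Let `k` be a perfect field, `A` a regular affine `k`-algebra of dimension `n` — here: `A` finitely
generated and smooth over `k` with `Ω_{A/k}` of rank `n` at every prime — and `xs = (x_1, …, x_p)`,
`p ≤ n`, a sequence with each `x_i` a non-zero-divisor on `A/(x_1, …, x_{i-1})`, generating an ideal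
`J` such that `A/J` is again a regular (smooth) affine `k`-algebra. Write `Ω^m` for `m`-th exterior
powers of Kähler differentials. Then `Ext^p_A(Ω^(n-p)(A/J), Ω^n(A))` is isomorphic to `A/J` as an
`A`-module. (Existence of an `A`-linear isomorphism only; the published one is canonical and
compatible with localisation, its unit being the fundamental class of `J` in `A`.) -/
theorem result (k : Type u) [Field k] [PerfectField k] (A : Type u) [CommRing A] [Algebra k A] [Algebra.FiniteType k A] [Algebra.Smooth k A] (n : ℕ) (hn : ∀ q : PrimeSpectrum A, Module.rankAtStalk (Ω[A⁄k]) q = n) (xs : List A) (hreg : RingTheory.Sequence.IsWeaklyRegular A xs) (J : Ideal A) (hJ : Ideal.ofList xs = J) [Algebra.Smooth k (A ⧸ J)] (p : ℕ) (hp : xs.length = p) (hpn : p ≤ n) : Nonempty (Abelian.Ext (ModuleCat.of A ↥((⋀[A ⧸ J]^(n - p) (Ω[(A ⧸ J)⁄k])).restrictScalars A)) (ModuleCat.of A ↥(⋀[A]^n (Ω[A⁄k]))) p ≃ₗ[A] (A ⧸ J)) := by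
  subst hJ
  subst hp
  have hI : Ideal.ofList xs = Ideal.span (Set.range xs.get) := by
    rw [Set.range_list_get]
  obtain ⟨e⟩ := Groth.Agent.Lib.Helper99.DetPr.nonempty_top_equiv k (Ideal.ofList xs) xs.get hI
    hn hpn (by rw [List.ofFn_get]; exact hreg)
  have h1 : ∀ q, Module.rankAtStalk (R := A) (↥(⋀[A]^n (Ω[A⁄k]))) q = 1 := by
    intro q
    rw [Groth.Agent.Lib.Helper99.DetPr.rankAtStalk_extPow, hn, Nat.choose_self]
  obtain ⟨φ⟩ := Groth.Agent.Lib.Helper99.DetPr.nonempty_ext_equiv (↥(⋀[A]^n (Ω[A⁄k]))) h1 hreg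
  exact ⟨(Groth.Agent.Lib.Helper86.ExtReg.extCongrLeft e.toModuleIso _ _).symm ≪≫ₗ φ⟩

end Groth.Agent.S5675
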