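import Groth.Statements.S5697
import Groth.Agent.Lib.Helper72.TauUnivOpen

set_option autoImplicit false
universe u
open CategoryTheory CategoryTheory.Limits MonoidalCategory CartesianMonoidalCategory MonObj GrpObj AlgebraicGeometry
open FGA

namespace Groth.Agent.S5697

/-- Let S be a locally Noetherian scheme and G a commutative group scheme locally of finite type over S.
Assume that the union of the connected components of the identity of the fibres of G is closed in G,
and that G ⟶ S is universally open at the points of that union: for every base change S' ⟶ S, the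
structure map of G' = G ×_S S' is open at every point of the identity-component set of G' (the image
of every open neighbourhood is a neighbourhood). Then the prime-to-p torsion component set (points x
some n-th power of which, n ≥ 1 prime to the residue characteristic exponent, lies in the
identity-component set) is universally open over S at the points of the identity-component set, in
the same sense: for every base change S' ⟶ S, every point x' of the identity-component set of G' and
every open neighbourhood U of x', the image in S' of the intersection of U with the prime-to-p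
torsion component set of G' is a neighbourhood of the image of x'. (The published statement
concludes this at every point of the prime-to-p torsion component set; it fails for the closed
subgroup scheme of the constant group ℤ/2 over a discrete valuation ring of residue characteristic
different from 2 that keeps the non-identity element only over the closed point: there the
identity-component set is a copy of the base, all hypotheses hold, and the isolated non-identity
point over the closed point is 2-torsion with image the closed point alone. The published proof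
treats neighbourhoods of points of the identity-component set, so the conclusion is stated at those
points here.) -/
theorem result (S : Scheme.{u}) [IsLocallyNoetherian S]
    (G : Over S) [GrpObj G] [IsCommMonObj G] [LocallyOfFiniteType G.hom] (h0 : IsClosed (SGA3x.neutralSet G))
    (hopen : ∀ (S' : Scheme.{u}) (g : S' ⟶ S) (x' : ↥(Red.bc g G).left), x' ∈ SGA3x.neutralSet (Red.bc g G) →
      ∀ U : Set ↥(Red.bc g G).left, IsOpen U → x' ∈ U →
        (Red.bc g G).hom.base '' U ∈ nhds ((Red.bc g G).hom.base x'))
    (S' : Scheme.{u}) (g : S' ⟶ S) (x' : ↥(Red.bc g G).left)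
    (hx' : x' ∈ SGA3x.neutralSet (Red.bc g G))
    (U : Set ↥(Red.bc g G).left) (hU : IsOpen U) (hxU : x' ∈ U) :
    (Red.bc g G).hom.base '' (U ∩ {x : ↥(Red.bc g G).left | ∃ n : ℕ, 0 < n ∧ Nat.Coprime n (ringExpChar (S'.residueField ((Red.bc g G).hom.base x))) ∧
        ((𝟙 (Red.bc g G) : (Red.bc g G) ⟶ (Red.bc g G)) ^ n).left.base x ∈ SGA3x.neutralSet (Red.bc g G)}) ∈
      nhds ((Red.bc g G).hom.base x')
  := by
  classical
  haveI : LocallyOfFinitePresentation G.hom :=
    LocallyOfFinitePresentation.iff_locallyOfFiniteType.mpr inferInstance
  haveI : LocallyOfFinitePresentation (Red.bc g G).hom := by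
    dsimp [Red.bc]; infer_instance
  have hLC : Topology.IsLocallyConstructible (SGA3x.neutralSet (Red.bc g G)) := by
    rw [Groth.Agent.Lib.Helper19.neutralSet_bc]
    exact Groth.Agent.Lib.Helper72.NeutralOpen.isLocallyConstructible_preimage _
      (Groth.Agent.Lib.Helper72.NeutralOpen.isLocallyConstructible_neutralSet G)
  have hUO : ∀ x ∈ SGA3x.neutralSet (Red.bc g G), EGA43.IsUnivOpenAt (Red.bc g G).hom x := by
    intro x hx Y' g' x'' hx'' V hV
    obtain ⟨V₁, hV₁V, hV₁o, hxV₁⟩ := mem_nhds_iff.mp hV
    let θ : pullback (Red.bc g G).hom g' ≅ pullback G.hom (g' ≫ g) :=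
      pullbackLeftPullbackSndIso G.hom g g'
    have hθ1 : θ.hom ≫ pullback.fst G.hom (g' ≫ g) =
        pullback.fst (Red.bc g G).hom g' ≫ pullback.fst G.hom g :=
      pullbackLeftPullbackSndIso_hom_fst G.hom g g'
    have hθ2 : θ.hom ≫ pullback.snd G.hom (g' ≫ g) = pullback.snd (Red.bc g G).hom g' :=
      pullbackLeftPullbackSndIso_hom_snd G.hom g g'
    have hθ2a : ∀ w : ↥(pullback (Red.bc g G).hom g'),
        (pullback.snd G.hom (g' ≫ g)).base (θ.hom.base w) =
          (pullback.snd (Red.bc g G).hom g').base w := by
      intro w
      have := congrArg (fun φ : pullback (Red.bc g G).hom g' ⟶ Y' => φ.base w) hθ2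
      simpa using this
    have hz : θ.hom.base x'' ∈ SGA3x.neutralSet (Red.bc (g' ≫ g) G) := by
      rw [Groth.Agent.Lib.Helper19.neutralSet_bc]
      show (pullback.fst G.hom (g' ≫ g)).base (θ.hom.base x'') ∈ SGA3x.neutralSet G
      have h1 := congrArg (fun φ : pullback (Red.bc g G).hom g' ⟶ G.left => φ.base x'') hθ1
      simp only [Scheme.Hom.comp_base, TopCat.hom_comp, ContinuousMap.comp_apply] at h1
      rw [h1, hx'']
      rw [Groth.Agent.Lib.Helper19.neutralSet_bc] at hx
      exact hx
    have hV₂o : IsOpen (θ.hom.base '' V₁) := θ.hom.homeomorph.isOpenMap _ hV₁o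
    have h3 := hopen Y' (g' ≫ g) (θ.hom.base x'') hz (θ.hom.base '' V₁) hV₂o ⟨x'', hxV₁, rfl⟩
    have h4 : (Red.bc (g' ≫ g) G).hom.base (θ.hom.base x'') =
        (pullback.snd (Red.bc g G).hom g').base x'' := hθ2a x''
    rw [h4] at h3
    refine Filter.mem_of_superset h3 ?_
    rintro _ ⟨_, ⟨w, hw, rfl⟩, rfl⟩
    exact ⟨w, hV₁V hw, (hθ2a w).symm⟩
  have key := Groth.Agent.Lib.Helper72.TauUnivOpen.image_inter_neutralSet_mem_nhds (Red.bc g G)
    hLC hUO x' hx' U hU hxU
  refine Filter.mem_of_superset key (Set.image_mono ?_)
  rintro z ⟨hzU, hzN⟩
  refine ⟨hzU, 1, Nat.one_pos, Nat.coprime_one_left _, ?_⟩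
  rw [pow_one]
  simpa using hzN

end Groth.Agent.S5697
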