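import Groth.Statements.S5713
import Groth.Agent.Lib.Helper3.AzSplit
import Groth.Agent.Lib.Helper3.RedCharpoly
import Mathlib.RingTheory.PowerBasis
import Mathlib.LinearAlgebra.Matrix.Charpoly.Coeff
-- import your own Groth.Agent.* helpers here

set_option autoImplicit false
universe u v
open TensorProduct
open Dix

namespace Groth.Agent.S5713

open Polynomial

open Groth.Agent.Lib.Helper3

/-- a monic polynomial of degree `r` killing `ξ` puts `ξ^r` in the span of the lower powers -/
lemma pow_mem_span_of_monic {R : Type*} [CommRing R] {A : Type*} [Ring A] [Algebra R A] (ξ : A)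
    (p : R[X]) (hp : p.Monic) (r : ℕ) (hdeg : p.natDegree = r) (h : aeval ξ p = 0) :
    ξ ^ r ∈ Submodule.span R (Set.range (fun i : Fin r => ξ ^ (i : ℕ))) := by
  have h1 := hp.as_sum
  rw [hdeg] at h1
  rw [h1, map_add, map_pow, aeval_X, map_sum] at h
  have h2 : ξ ^ r = -∑ i ∈ Finset.range r, aeval ξ (C (p.coeff i) * X ^ i) :=
    eq_neg_of_add_eq_zero_left h
  rw [h2]
  apply Submodule.neg_mem
  apply Submodule.sum_mem
  intro i hi
  rw [map_mul, aeval_C, map_pow, aeval_X, ← Algebra.smul_def]
  exact Submodule.smul_mem _ _ (Submodule.subset_span ⟨⟨i, Finset.mem_range.mp hi⟩, rfl⟩)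

/-- the dimension of `k[x]` is the degree of the minimal polynomial (noncommutative ambient ring) -/
lemma finrank_adjoin_eq_natDegree_minpoly {k : Type*} [Field k] {B : Type*} [Ring B] [Algebra k B]
    [FiniteDimensional k B] (x : B) :
    Module.finrank k (Algebra.adjoin k ({x} : Set B)) = (minpoly k x).natDegree := by
  have hx : IsIntegral k x := Algebra.IsIntegral.isIntegral x
  have hli := linearIndependent_pow (K := k) x
  have hspan : Subalgebra.toSubmodule (Algebra.adjoin k ({x} : Set B)) =
      Submodule.span k (Set.range fun i : Fin (minpoly k x).natDegree => x ^ (i : ℕ)) := by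
    apply le_antisymm
    · intro y hy
      rw [Subalgebra.mem_toSubmodule, Algebra.adjoin_singleton_eq_range_aeval] at hy
      obtain ⟨f, rfl⟩ := hy
      exact hx.mem_span_pow ⟨f, rfl⟩
    · rw [Submodule.span_le]
      rintro _ ⟨i, rfl⟩
      exact Subalgebra.pow_mem _ (Algebra.subset_adjoin (Set.mem_singleton x)) _
  have h1 : Module.finrank k (Algebra.adjoin k ({x} : Set B)) =
      Module.finrank k (Subalgebra.toSubmodule (Algebra.adjoin k ({x} : Set B))) := rfl
  rw [h1, hspan, finrank_span_eq_card hli, Fintype.card_fin]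

theorem main (R : Type u) [CommRing R] [IsLocalRing R] (A : Type u) [Ring A] [Algebra R A]
    [IsAzumaya R A] (r : ℕ) (hA : Module.finrank R A = r ^ 2) (ξ : A)
    (hrk : Module.finrank (IsLocalRing.ResidueField R)
      (Algebra.adjoin (IsLocalRing.ResidueField R)
        ({(1 : IsLocalRing.ResidueField R) ⊗ₜ[R] ξ} : Set (IsLocalRing.ResidueField R ⊗[R] A))) = r) :
    LinearIndependent R (fun i : Fin r => ξ ^ (i : ℕ)) ∧
      ξ ^ r ∈ Submodule.span R (Set.range (fun i : Fin r => ξ ^ (i : ℕ))) := by
  classical
  set k := IsLocalRing.ResidueField R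
  haveI : Module.Free R A := Module.free_of_flat_of_isLocalRing
  constructor
  · -- linear independence from the special fibre
    have hd : (minpoly k ((1 : k) ⊗ₜ[R] ξ)).natDegree = r := by
      rw [← finrank_adjoin_eq_natDegree_minpoly, hrk]
    have hli := linearIndependent_pow (K := k) ((1 : k) ⊗ₜ[R] ξ)
    apply Module.IsLocalRing.linearIndependent_of_flat
    have h2 : (TensorProduct.mk R k A 1 ∘ fun i : Fin r => ξ ^ (i : ℕ)) =
        (fun i : Fin (minpoly k ((1 : k) ⊗ₜ[R] ξ)).natDegree => ((1 : k) ⊗ₜ[R] ξ) ^ (i : ℕ)) ∘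
          Fin.cast hd.symm := by
      ext1 i
      simp only [Function.comp_apply, TensorProduct.mk_apply, Fin.val_cast]
      rw [Algebra.TensorProduct.tmul_pow, one_pow]
    rw [h2]
    exact hli.comp _ (Fin.cast_injective _)
  · have hrank : ∀ p : PrimeSpectrum R, Module.rankAtStalk A p = r ^ 2 := by
      intro p
      rw [Module.rankAtStalk_eq_finrank_of_free, Pi.natCast_apply, hA]
      rfl
    obtain ⟨S, _, _, hFF, ⟨φ⟩⟩ := AzSplit.exists_faithfullyFlat_split R A r hrank
    obtain ⟨p, hp⟩ := RedChar.exists_redCharpoly φ ξ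
    have hinj : Function.Injective (algebraMap R S) := FaithfulSMul.algebraMap_injective R S
    have hmonic : p.Monic := by
      apply Polynomial.monic_of_injective hinj
      rw [hp]
      exact Matrix.charpoly_monic _
    have hdeg : p.natDegree = r := by
      rw [← Polynomial.natDegree_map_eq_of_injective hinj, hp]
      rcases subsingleton_or_nontrivial S with hS | hS
      · -- `S` trivial forces `R` trivial
        have : Subsingleton R := hinj.subsingleton
        exact absurd (inferInstance : Nontrivial R) (not_nontrivial_iff_subsingleton.mpr this)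
      · rw [Matrix.charpoly_natDegree_eq_dim, Fintype.card_fin]
    exact pow_mem_span_of_monic ξ p hmonic r hdeg (RedChar.aeval_redCharpoly φ ξ p hp)


/-- Over a local base. Let R be a local ring with residue field k, A an Azumaya algebra over R of rank
r², and ξ ∈ A an element whose image ξ̄ = 1 ⊗ ξ in k ⊗_R A is regular, i.e. generates a commutative
subalgebra k[ξ̄] which is étale over k (all elements separable) of dimension r. Then the powers 1,
ξ, …, ξ^{r-1} are linearly independent over R and ξ^r lies in their R-linear span; thus R[ξ] is a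
free R-module of rank r closed under multiplication, and ξ is a regular section over all of Spec R. -/
theorem result (R : Type u) [CommRing R] [IsLocalRing R] (A : Type u) [Ring A] [Algebra R A] [IsAzumaya R A] (r : ℕ) (hA : Module.finrank R A = r ^ 2) (ξ : A) (hsep : Algebra.IsSeparable (IsLocalRing.ResidueField R) (Algebra.adjoin (IsLocalRing.ResidueField R) ({(1 : IsLocalRing.ResidueField R) ⊗ₜ[R] ξ} : Set (IsLocalRing.ResidueField R ⊗[R] A)))) (hrk : Module.finrank (IsLocalRing.ResidueField R) (Algebra.adjoin (IsLocalRing.ResidueField R) ({(1 : IsLocalRing.ResidueField R) ⊗ₜ[R] ξ} : Set (IsLocalRing.ResidueField R ⊗[R] A))) = r) : LinearIndependent R (fun i : Fin r => ξ ^ (i : ℕ)) ∧ ξ ^ r ∈ Submodule.span R (Set.range (fun i : Fin r => ξ ^ (i : ℕ))) := by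
  exact main R A r hA ξ hrk

end Groth.Agent.S5713
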