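import Groth.Statements.S5725
import Groth.Agent.Lib.Helper35.RVA4
import Groth.Agent.Lib.Helper35.PbGen

set_option autoImplicit false
universe u
open CategoryTheory CategoryTheory.Limits AlgebraicGeometry TopologicalSpace Opposite
open scoped HomogeneousIdeal
open EGA2

namespace Groth.Agent.S5725

/-- Let q : X → Y be a quasi-compact morphism and L an invertible O_X-module. If L is very ample
relative to q (isomorphic to i^*O_{P(E)}(1) for a Y-immersion i : X → P(E) into the projective
bundle of a quasi-coherent O_Y-module E), then the canonical morphism q^*(q_*L) → L, the counit of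
the adjunction between inverse and direct image, is an epimorphism. (The published statement also
records that q_*L is quasi-coherent, which holds because q is then quasi-compact and separated, and
lists a further property, that the morphism into the projective bundle of q_*L attached to this
epimorphism is an immersion; with that property the converse holds. Those parts are not stated
here.) -/
theorem result {X Y : Scheme.{u}} (q : X ⟶ Y) [QuasiCompact q] (L : X.Modules)
    (hL : PicF.IsInvertible L) (h : RelProj.IsRelVeryAmple q L) :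
    Epi ((Scheme.Modules.pullbackPushforwardAdjunction q).counit.app L) := by
  obtain ⟨E, hE, 𝒮, j, hj, P, p, chart, hP, O1, lam, hO1, i, hi, hip, ⟨e⟩⟩ := h
  subst hip
  have hgen := Groth.Agent.Lib.Helper35.RVA.isGenDegOne_of_isGrSymAlg hE hj
  have h' : Epi ((Scheme.Modules.pullbackPushforwardAdjunction (i ≫ p)).counit.app
      ((Scheme.Modules.pullback i).obj O1)) := by
    apply Groth.Agent.Lib.Helper35.RVA.epi_counit_of_sections
    intro x
    obtain ⟨V, hV, hxV⟩ := Groth.Agent.Lib.Helper74.RelTilde.exists_affine_mem p (i x)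
    obtain ⟨y, hy⟩ := Groth.Agent.Lib.Helper74.RelTilde.exists_emb_eq (chart := chart) V hV (i x) hxV
    obtain ⟨a, ha, hay⟩ := Groth.Agent.Lib.Helper74.TwistGen.exists_deg_one_notMem (hgen V hV) y
    obtain ⟨σ, hσ⟩ := Groth.Agent.Lib.Helper35.RVA.exists_sec_isGen hO1 V hV a ha
    let D : P.Opens := RelProj.emb p chart V hV ''ᵁ (Proj.basicOpen (𝒮.deg V hV) a)
    have hDV : D ≤ p ⁻¹ᵁ V := by
      rintro _ ⟨z, -, rfl⟩
      exact Groth.Agent.Lib.Helper74.RelTilde.emb_mem V hV z
    have hpre : RelProj.emb p chart V hV ⁻¹ᵁ D = Proj.basicOpen (𝒮.deg V hV) a :=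
      (RelProj.emb p chart V hV).preimage_image_eq _
    have hgenD := hσ D hDV (fun z hz => by
      rw [hpre] at hz
      exact (Proj.mem_basicOpen _ a z).1 hz)
    refine ⟨V, i ⁻¹ᵁ D, i.preimage_mono hDV,
      Groth.Agent.Lib.Helper35.PbInv.pbSec i O1 (p ⁻¹ᵁ V) σ, ?_, ?_⟩
    · change i x ∈ D
      rw [← hy]
      exact ⟨y, (Proj.mem_basicOpen _ a y).2 hay, rfl⟩
    · have h1 := Groth.Agent.Lib.Helper35.PbInv.pbSec_rs i O1 hDV σ
      have h2 := Groth.Agent.Lib.Helper35.PbInv.isGen_pbSec i O1 D _ hgenD
      exact h1 ▸ h2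
  have hnat := (Scheme.Modules.pullbackPushforwardAdjunction (i ≫ p)).counit.naturality e.hom
  have h2 : Epi ((Scheme.Modules.pullbackPushforwardAdjunction (i ≫ p)).counit.app L ≫ e.hom) := by
    have : Epi (((Scheme.Modules.pushforward (i ≫ p) ⋙ Scheme.Modules.pullback (i ≫ p)).map e.hom) ≫
        (Scheme.Modules.pullbackPushforwardAdjunction (i ≫ p)).counit.app
          ((Scheme.Modules.pullback i).obj O1)) := epi_comp _ _
    rw [hnat] at this
    exact this
  have h3 : (Scheme.Modules.pullbackPushforwardAdjunction (i ≫ p)).counit.app L =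
      ((Scheme.Modules.pullbackPushforwardAdjunction (i ≫ p)).counit.app L ≫ e.hom) ≫ e.inv := by
    rw [Category.assoc, e.hom_inv_id]
    exact (Category.comp_id _).symm
  rw [h3]
  exact epi_comp _ _

end Groth.Agent.S5725
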