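import Groth.Statements.S5732
import Groth.Agent.Lib.Helper35.RVA6

set_option autoImplicit false
universe u
open CategoryTheory CategoryTheory.Limits AlgebraicGeometry TopologicalSpace Opposite
open scoped HomogeneousIdeal
open EGA2

namespace Groth.Agent.S5732

/-- Let E be a quasi-coherent O_Y-module with graded symmetric algebra 𝒮 (j : E → 𝒮 landing in degree
one), p : P = P(E) → Y its projective bundle with its charts over affine opens, and O_P(1) the
fundamental sheaf with its chart identifications. Let φ : E → p_*O_P(1) be the canonical map,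
characterised as follows: for an affine open U and a section e of E over U, the section φ(e) of
O_P(1) over p⁻¹(U), read on the chart Proj(𝒮(U)), has value j(e)/1 at every point. Then the morphism
p^*E → O_P(1) adjoint to φ is an epimorphism. -/
theorem result {Y P : Scheme.{u}} (E : Y.Modules) (hE : Coh.IsQCoh E)
    (𝒮 : RelProj.QCGrAlg Y) (j : E ⟶ 𝒮.toModule) (hj : RelProj.IsGrSymAlg E 𝒮 j) (p : P ⟶ Y)
    (chart : ∀ (U : Y.Opens) (hU : IsAffineOpen U), ((p ⁻¹ᵁ U : P.Opens) : Scheme.{u}) ≅ Proj (𝒮.deg U hU))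
    (hP : RelProj.IsRelProj 𝒮 p chart) (O1 : P.Modules)
    (lam : ∀ (U : Y.Opens) (hU : IsAffineOpen U),
      O1 ⟶ (Scheme.Modules.pushforward (RelProj.emb p chart U hU)).obj (GrTwist.twist (𝒮.deg U hU) 1))
    (hO1 : RelProj.IsRelTwist 𝒮 p chart 1 O1 lam)
    (φ : E ⟶ (Scheme.Modules.pushforward p).obj O1)
    (hφ : ∀ (U : Y.Opens) (hU : IsAffineOpen U) (e : Γ(E, U))
      (y : ↥(RelProj.emb p chart U hU ⁻¹ᵁ (p ⁻¹ᵁ U))),
      GrTwist.val (V := RelProj.emb p chart U hU ⁻¹ᵁ (p ⁻¹ᵁ U))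
          ((lam U hU).app (p ⁻¹ᵁ U) ((φ.app U) e)) y =
        algebraMap (𝒮.presheaf.obj (op U)) (GrTwist.Loc (𝒮.deg U hU) y.1)
          ((j.app U) e : 𝒮.presheaf.obj (op U))) :
    Epi (((Scheme.Modules.pullbackPushforwardAdjunction p).homEquiv E O1).symm φ) := by
  haveI : E.IsQuasicoherent := hE
  apply Groth.Agent.Lib.Helper35.RVA.epi_adj_of_sections p E O1 φ
  intro x
  obtain ⟨U, hU, hxU⟩ := Groth.Agent.Lib.Helper74.RelTilde.exists_affine_mem p x
  obtain ⟨y, rfl⟩ := Groth.Agent.Lib.Helper74.RelTilde.exists_emb_eq (chart := chart) U hU x hxU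
  obtain ⟨e, he⟩ : ∃ e : Γ(E, U), ((j.app U) e : 𝒮.presheaf.obj (op U)) ∉ y.asHomogeneousIdeal := by
    by_contra hcon
    push_neg at hcon
    have hirr := open scoped Groth.Agent.Lib.Helper74.SymQ in
      Groth.Agent.Lib.Helper74.InvSym.irrelevant_le_span_range (𝒮.deg U hU)
      (Groth.Agent.Lib.Helper74.SymQ.isSymmetricAlgebra_of_isSymAlg hj.1 U hU)
      (𝒮.str_mem U hU) (hj.2 U hU)
    refine y.not_irrelevant_le (hirr.trans (Ideal.span_le.mpr ?_))
    rintro _ ⟨m, rfl⟩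
    exact hcon m
  set a : 𝒮.presheaf.obj (op U) := (j.app U) e with ha_def
  have ha : a ∈ 𝒮.deg U hU 1 := hj.2 U hU e
  let D : (Proj (𝒮.deg U hU)).Opens := Proj.basicOpen (𝒮.deg U hU) a
  let W : P.Opens := RelProj.emb p chart U hU ''ᵁ D
  have hWU : W ≤ p ⁻¹ᵁ U := by
    rintro _ ⟨z, -, rfl⟩
    exact Groth.Agent.Lib.Helper74.RelTilde.emb_mem U hU z
  have hpre : RelProj.emb p chart U hU ⁻¹ᵁ W = D := (RelProj.emb p chart U hU).preimage_image_eq D
  have hD : ∀ z ∈ RelProj.emb p chart U hU ⁻¹ᵁ W, a ∉ z.asHomogeneousIdeal := by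
    intro z hz
    rw [hpre] at hz
    exact (Proj.mem_basicOpen _ a z).1 hz
  refine ⟨U, W, hWU, e, ⟨y, (Proj.mem_basicOpen _ a y).2 he, rfl⟩, ?_⟩
  have hσ : (lam U hU).app (p ⁻¹ᵁ U) ((φ.app U).hom e) =
      Groth.Agent.Lib.Helper74.TwistNat.fracSec (𝒮.deg U hU) a ha 1 SetLike.GradedOne.one_mem
        (by simp) (RelProj.emb p chart U hU ⁻¹ᵁ (p ⁻¹ᵁ U)) (fun z _ => GrMod.one_nin z) := by
    apply Groth.Agent.Lib.Helper74.TwistNat.sec_ext
    intro y'
    rw [Groth.Agent.Lib.Helper74.TwistNat.fracSec_val]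
    refine (hφ U hU e y').trans ?_
    exact (Localization.mk_one_eq_algebraMap _).symm
  refine Groth.Agent.Lib.Helper74.TwistGen.isGen_of_lam hO1 U hU W hWU _ ?_
  rw [Groth.Agent.Lib.Helper74.RelTilde.hom_res, hσ]
  exact Groth.Agent.Lib.Helper74.TwistNat.isGen_fracSec (𝒮.deg U hU) a ha 1
    SetLike.GradedOne.one_mem (by simp) _ (fun z _ => GrMod.one_nin z) hD

end Groth.Agent.S5732
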