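import Groth.Statements.S5742
import Mathlib
import Groth.Agent.Lib.Helper11.KrullSpec

set_option autoImplicit false
universe u
open Coherent

namespace Groth.Agent.S5742

section helpers
open CategoryTheory AlgebraicGeometry Limits
open Groth.Agent.Lib.Helper11.KrullSpec


theorem stalk_eq (A : Type u) [CommRing A] (I : Ideal A) {X Y : Scheme.{u}}
    [IsLocallyNoetherian X] (f : X ⟶ Spec (CommRingCat.of A)) (φ ψ : X ⟶ Y)
    (e : ∀ n : ℕ, CohB1.thickι f I n ≫ φ = CohB1.thickι f I n ≫ ψ) (x : X)
    (hx : I ≤ (f x).asIdeal) :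
    X.fromSpecStalk x ≫ φ = X.fromSpecStalk x ≫ ψ := by
  let θ : CommRingCat.of A ⟶ X.presheaf.stalk x := Spec.preimage (X.fromSpecStalk x ≫ f)
  have hθ : Spec.map θ = X.fromSpecStalk x ≫ f := Spec.map_preimage _
  let J : Ideal (X.presheaf.stalk x) := Ideal.map θ.hom I
  have hcl : (Spec.map θ) (IsLocalRing.closedPoint (X.presheaf.stalk x)) = f x := by
    rw [hθ, Scheme.Hom.comp_apply, Scheme.fromSpecStalk_closedPoint]
  have hJle : J ≤ IsLocalRing.maximalIdeal (X.presheaf.stalk x) := by
    rw [Ideal.map_le_iff_le_comap]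
    rw [← hcl] at hx
    exact hx
  have hJ : J ≠ ⊤ := fun h => (IsLocalRing.maximalIdeal.isMaximal _).ne_top (top_le_iff.mp (h ▸ hJle))
  have hle : ∀ n : ℕ, I ^ (n + 1) ≤ Ideal.comap θ.hom (J ^ (n + 1)) := by
    intro n
    rw [← Ideal.map_le_iff_le_comap, Ideal.map_pow]
  refine hom_ext_of_forall_quotient_pow (R := (X.presheaf.stalk x : Type u)) J hJ _ _ (fun n => ?_)
  have compat : (Spec.map (CommRingCat.ofHom (Ideal.Quotient.mk (J ^ (n + 1)))) ≫ X.fromSpecStalk x) ≫ f =
      Spec.map (CommRingCat.ofHom (Ideal.quotientMap (J ^ (n + 1)) θ.hom (hle n))) ≫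
        CohB1.specQuot I n := by
    rw [Category.assoc, ← hθ, CohB1.specQuot, ← Spec.map_comp, ← Spec.map_comp]
    congr 1
  let r : Spec (CommRingCat.of ((X.presheaf.stalk x : Type u) ⧸ J ^ (n + 1))) ⟶ CohB1.thick f I n :=
    pullback.lift _ _ compat
  have hr : r ≫ CohB1.thickι f I n =
      Spec.map (CommRingCat.ofHom (Ideal.Quotient.mk (J ^ (n + 1)))) ≫ X.fromSpecStalk x :=
    pullback.lift_fst _ _ _
  have h1 := congr(r ≫ $(e n))
  rw [← Category.assoc, ← Category.assoc, hr, Category.assoc, Category.assoc] at h1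
  exact h1

end helpers

open AlgebraicGeometry CategoryTheory CategoryTheory.Limits in
/-- Let A be a Noetherian ring separated and complete for the I-adic topology, X proper over Spec A and
Y locally of finite type over Spec A; write X_n = X ×_A Spec(A/I^(n+1)). Two A-morphisms φ, ψ : X →
Y whose restrictions to X_n coincide for every n are equal. (The published statement takes Y
separated and of finite type over A, which the surjectivity half needs; injectivity uses neither
separatedness nor quasi-compactness of Y. Together with the existence of an A-morphism inducing any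
compatible system of morphisms X_n → Y_n, this is the bijectivity of f ↦ f̂ from A-morphisms X → Y
to morphisms of the completions.) -/
theorem result (A : Type u) [CommRing A] [IsNoetherianRing A]
    (I : Ideal A) [IsAdicComplete I A] {X Y : Scheme.{u}} (f : X ⟶ Spec (CommRingCat.of A))
    (h : Y ⟶ Spec (CommRingCat.of A)) [IsProper f] [LocallyOfFiniteType h] (φ ψ : X ⟶ Y)
    (hφ : φ ≫ h = f) (hψ : ψ ≫ h = f)
    (e : ∀ n : ℕ, CohB1.thickι f I n ≫ φ = CohB1.thickι f I n ≫ ψ) : φ = ψ := by
  haveI : IsLocallyNoetherian X := LocallyOfFiniteType.isLocallyNoetherian f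
  apply Scheme.hom_ext_of_forall
  intro x
  have hC : IsClosed (f '' closure {x}) := f.isClosedMap _ isClosed_closure
  obtain ⟨K, hK⟩ := (PrimeSpectrum.isClosed_iff_zeroLocus_ideal _).mp hC
  have hKne : K ≠ ⊤ := by
    intro hK'
    have : (f '' closure {x}).Nonempty := ⟨f x, x, subset_closure rfl, rfl⟩
    rw [hK, hK'] at this
    simp at this
    exact Set.not_nonempty_empty this
  obtain ⟨M, hM, hKM⟩ := Ideal.exists_le_maximal K hKne
  have hMmem : (⟨M, hM.isPrime⟩ : PrimeSpectrum A) ∈ f '' closure {x} := by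
    rw [hK]; exact hKM
  obtain ⟨x₀, hx₀, hfx₀⟩ := hMmem
  have hIM : I ≤ (f x₀).asIdeal := by
    rw [hfx₀]
    exact (IsAdicComplete.le_jacobson_bot I).trans (sInf_le ⟨bot_le, hM⟩)
  obtain ⟨U, hx₀U, hU⟩ := spread_out_unique_of_isGermInjective' φ ψ (stalk_eq A I f φ ψ e x₀ hIM)
  exact ⟨U, (specializes_iff_mem_closure.mpr hx₀).mem_open U.2 hx₀U, hU⟩

end Groth.Agent.S5742
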