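import Groth.Statements.S5744
import Groth.Agent.Lib.Helper2.QCohProd

set_option autoImplicit false
universe u
open Coherent

namespace Groth.Agent.S5744

open AlgebraicGeometry CategoryTheory CategoryTheory.Limits TopologicalSpace
open Groth.Agent.Lib.Helper2.KerSec Groth.Agent.Lib.Helper2.QCohProd

section
variable {X : Scheme.{u}}

theorem piObj_eq_iInf {κ : Type*} (W : κ → X.Opens) [HasProduct W] : ∏ᶜ W = ⨅ k, W k := by
  apply le_antisymm
  · exact le_iInf fun k => (Pi.π W k).le
  · exact (Pi.lift (fun k => homOfLE (iInf_le W k)) : (⨅ k, W k) ⟶ ∏ᶜ W).le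

theorem isQuasicoherent_pushRestr [X.IsSeparated] (W : X.Opens) (hW : IsAffineOpen W) (F : X.Modules)
    [F.IsQuasicoherent] : ((CechOX.pushRestr W).obj F).IsQuasicoherent := by
  haveI : IsAffine W := hW
  haveI : IsAffineHom (W.ι ≫ terminal.from X) := isAffineHom_of_isAffine _
  haveI : IsAffineHom W.ι := IsAffineHom.of_comp W.ι (terminal.from X)
  haveI : (F.restrict W.ι).IsQuasicoherent := inferInstance
  exact isQuasicoherent_pushforward_of_qcqs W.ι (F.restrict W.ι)

end

open AlgebraicGeometry CategoryTheory in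

open AlgebraicGeometry CategoryTheory in
/-- For the Čech complex of sheaves indexed by all ordered tuples with products as terms; over a finite
index type these terms are finite direct sums. Let X be a separated scheme, (U_i)_{i ∈ ι} a finite
family of affine opens covering X, and F a quasi-coherent O_X-module. Then for every p the degree-p
term of the Čech complex of sheaves 𝔠(𝒰, F), the product over ordered (p+1)-tuples of the direct
images (j_{i_0…i_p})_*(F|_{U_{i_0…i_p}}), is a quasi-coherent O_X-module. -/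
theorem result {X : Scheme.{u}} [X.IsSeparated] {ι : Type u}
    [Finite ι] (𝒰 : ι → X.Opens) (h𝒰 : ∀ i, IsAffineOpen (𝒰 i)) (hcov : ⨆ i, 𝒰 i = ⊤)
    (F : X.Modules) [Coh.IsQCoh F] (p : ℕ) :
    Coh.IsQCoh (((CechOX.cechSh 𝒰).obj F).X p) := by
  haveI : F.IsQuasicoherent := ‹Coh.IsQCoh F›
  change (∏ᶜ fun i : Fin (p + 1) → ι => (CechOX.pushRestr (∏ᶜ (𝒰 ∘ i))).obj F).IsQuasicoherent
  haveI : ∀ i : Fin (p + 1) → ι, ((CechOX.pushRestr (∏ᶜ (𝒰 ∘ i))).obj F).IsQuasicoherent := by
    intro i
    refine isQuasicoherent_pushRestr _ ?_ F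
    rw [piObj_eq_iInf]
    exact IsAffineOpen.iInf fun k => h𝒰 (i k)
  exact isQuasicoherent_piObj _

end Groth.Agent.S5744
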