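import Groth.Statements.S5747
-- import your own Groth.Agent.* helpers here
import Groth.Agent.Lib.Helper33.GrModFTn
import Groth.Agent.Lib.Helper64.FinTypeConv
import Groth.Agent.S8285

set_option autoImplicit false
universe u
open CategoryTheory CategoryTheory.Limits AlgebraicGeometry Opposite TopologicalSpace
open scoped HomogeneousIdeal
noncomputable section
open Coherent

namespace Groth.Agent.S5747
open Groth.Agent.Lib.Helper33.GrModLib Groth.Agent.Lib.Helper33.GrModEpi Groth.Agent.Lib.Helper33.GrModFT Groth.Agent.Lib.Helper33.GrModFTn Groth.Agent.Lib.Helper64.FinTypeStalk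


/-- Let Y be a Noetherian scheme, 𝒮 a quasi-coherent positively graded O_Y-algebra of finite type
(generators of any positive degrees), p : X = Proj(𝒮) → Y its relative homogeneous spectrum with its
charts over the affine opens, and n any integer. Then the homogeneous component O_X(n), given
through its chartwise identifications with the twisting modules O(n) on the Proj 𝒮(U), is a coherent
O_X-module (quasi-coherent of finite type; X is locally Noetherian). -/
theorem result {Y X : Scheme.{u}} [AlgebraicGeometry.IsNoetherian Y]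
    (𝒮 : RelProj.QCGrAlg Y)
    (hft : ∀ (U : Y.Opens) (hU : IsAffineOpen U), (𝒮.str.app (op U)).hom.FiniteType)
    (p : X ⟶ Y)
    (chart : ∀ (U : Y.Opens) (hU : IsAffineOpen U), (((p ⁻¹ᵁ U : X.Opens) : Scheme.{u}) ≅ Proj (𝒮.deg U hU)))
    (hP : RelProj.IsRelProj 𝒮 p chart) (n : ℤ) (L : X.Modules)
    (lam : ∀ (U : Y.Opens) (hU : IsAffineOpen U),
      L ⟶ (Scheme.Modules.pushforward (RelProj.emb p chart U hU)).obj (GrTwist.twist (𝒮.deg U hU) n))
    (hL : RelProj.IsRelTwist 𝒮 p chart n L lam) : Coh.IsCoh L := by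
  classical
  refine ⟨Groth.Agent.S8285.result 𝒮 p chart hP n L lam hL, ?_⟩
  apply isFiniteType_of_local_generators
  intro x
  obtain ⟨U, hU, hxU⟩ := exists_affine_mem p x
  have hR : (RelProj.emb p chart U hU).opensRange = p ⁻¹ᵁ U := opensRange_emb U hU
  obtain ⟨x₁, hx₁⟩ : ∃ x₁, (RelProj.emb p chart U hU).base x₁ = x := by
    have : x ∈ (RelProj.emb p chart U hU).opensRange := hR ▸ hxU
    exact this
  obtain ⟨δ, hδ, f, hf, hfx⟩ := exists_pos_not_mem (𝒮.deg U hU) x₁
  haveI : IsNoetherianRing Γ(Y, U) := IsLocallyNoetherian.component_noetherian ⟨U, hU⟩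
  haveI : IsNoetherianRing (𝒮.presheaf.obj (op U)) := by
    letI := (𝒮.str.app (op U)).hom.toAlgebra
    haveI : Algebra.FiniteType Γ(Y, U) (𝒮.presheaf.obj (op U)) := hft U hU
    exact Algebra.FiniteType.isNoetherianRing Γ(Y, U) _
  obtain ⟨r, σ, hσ⟩ := chart_generators_twist (𝒮.deg U hU) (RelProj.emb p chart U hU) n (lam U hU)
    (fun W hW => hL.bijective U hU W (hW.trans hR.le)) f hδ hf
  exact ⟨(RelProj.emb p chart U hU) ''ᵁ (ProjectiveSpectrum.basicOpen (𝒮.deg U hU) f),
    ⟨x₁, hfx, hx₁⟩, r, σ, hσ⟩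

end Groth.Agent.S5747
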