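import Groth.Statements.S5750
import Mathlib
import Groth.Agent.Lib.Helper93.SerreVanClosed

set_option autoImplicit false
universe u
open Coherent

namespace Groth.Agent.S5750

open Polynomial Filter in
lemma leadingCoeff_nonneg_of_eventually (P : Polynomial ℚ) (N : ℤ)
    (h : ∀ n : ℤ, N ≤ n → 0 ≤ P.eval (n : ℚ)) : 0 ≤ P.leadingCoeff := by
  by_contra hneg
  rw [not_le] at hneg
  by_cases hdeg : 0 < P.degree
  · have ht := Polynomial.tendsto_atBot_of_leadingCoeff_nonpos P hdeg hneg.le
    have ht2 : Tendsto (fun n : ℕ => P.eval (((n : ℤ) : ℚ))) atTop atBot := by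
      have h3 : Tendsto (fun n : ℕ => (((n : ℤ) : ℚ))) atTop atTop := by
        simpa using tendsto_natCast_atTop_atTop (R := ℚ)
      exact ht.comp h3
    obtain ⟨n, hn1, hn2⟩ := ((ht2.eventually (eventually_lt_atBot 0)).and
      (eventually_ge_atTop N.toNat)).exists
    have hNn : N ≤ (n : ℤ) := by
      have := Int.self_le_toNat N
      omega
    have := h n hNn
    linarith
  · have hC := Polynomial.eq_C_of_degree_le_zero (not_lt.1 hdeg)
    have h0 := h N le_rfl
    rw [hC, Polynomial.eval_C] at h0
    rw [hC, Polynomial.leadingCoeff_C] at hneg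
    linarith

open AlgebraicGeometry CategoryTheory in
/-- Let A be an Artinian local ring, i : X → P^r_A a closed immersion compatible with the structure
morphisms to Spec A, F a coherent O_X-module and F(n) = F ⊗ i^* O(n). If a polynomial P over ℚ
satisfies P(n) = χ_A(F(n)) = Σ_{j ≤ r} (-1)^j length_A H^j(X, F(n)) for every integer n (the Hilbert
polynomial of F), then the leading coefficient of P is non-negative. -/
theorem result (A : Type u) [CommRing A]
    [IsArtinianRing A] [IsLocalRing A] (r : ℕ) (X : Scheme.{u}) [X.Over (Spec (CommRingCat.of A))]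
    (i : X ⟶ CohB1.ProjSpace r A) [IsClosedImmersion i]
    (hi : i ≫ CohB1.ProjSpace.toSpec r A = X ↘ Spec (CommRingCat.of A)) (F : X.Modules) (hF : Coh.IsCoh F)
    (P : Polynomial ℚ)
    (hP : ∀ n : ℤ, ((Finset.range (r + 1)).sum fun j => (-1 : ℚ) ^ j *
        ((Module.length A (Coh.HH X (CohB1.tensorMod F
          ((Scheme.Modules.pullback i).obj (Twist.twistProjSpace r A n))) j)).toNat : ℚ)) = P.eval (n : ℚ)) :
    0 ≤ P.leadingCoeff := by
  obtain ⟨N, hN⟩ := Groth.Agent.Lib.Helper93.SerreVanClosed.serre_vanishing_closed A r X i F hF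
  refine leadingCoeff_nonneg_of_eventually P N (fun n hn => ?_)
  rw [← hP n, Finset.sum_eq_single 0]
  · simp
  · intro j _ hj0
    haveI := hN n hn j (Nat.pos_of_ne_zero hj0)
    rw [Module.length_eq_zero]
    simp
  · intro h
    exact absurd (Finset.mem_range.2 (Nat.succ_pos r)) h

end Groth.Agent.S5750
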