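import Groth.Statements.S5751
import Groth.Agent.Lib.Helper98.GrSerreBridge
import Groth.Agent.Lib.Helper98.GrSerreGen

set_option autoImplicit false
universe u
open CategoryTheory CategoryTheory.Limits AlgebraicGeometry Opposite TopologicalSpace
open scoped HomogeneousIdeal
noncomputable section
open Coherent

namespace Groth.Agent.S5751

section Helpers

open Groth.Agent.Lib.Helper98

variable {A σ : Type u} [CommRing A] [SetLike σ A] [AddSubgroupClass σ A] (𝒜 : ℕ → σ) [GradedRing 𝒜]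
variable {M τ : Type u} [AddCommGroup M] [Module A M] [SetLike τ M] [AddSubgroupClass τ M] (ℳ : ℕ → τ)
  [SetLike.GradedSMul 𝒜 ℳ] [DirectSum.Decomposition ℳ]

/-- `s` is the global fraction `m / 1` -/
def IsGlob {n : ℤ} (s : GrMod.sect 𝒜 ℳ n (op ⊤)) (m : M) : Prop :=
  ∀ x : (⊤ : Opens (ProjectiveSpectrum.top 𝒜)),
    ((s.1 x : GrMod.tildeAt 𝒜 ℳ n x.1) : GrMod.LocMod 𝒜 (M := M) x.1) = LocalizedModule.mk m 1

omit [DirectSum.Decomposition ℳ] in
lemma IsGlob.ext {n : ℤ} {s s' : GrMod.sect 𝒜 ℳ n (op ⊤)} {m : M} (h : IsGlob 𝒜 ℳ s m)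
    (h' : IsGlob 𝒜 ℳ s' m) : s = s' :=
  Subtype.ext (funext fun x => Subtype.ext ((h x).trans (h' x).symm))

omit [DirectSum.Decomposition ℳ] in
lemma IsGlob.add {n : ℤ} {s s' : GrMod.sect 𝒜 ℳ n (op ⊤)} {m m' : M} (h : IsGlob 𝒜 ℳ s m)
    (h' : IsGlob 𝒜 ℳ s' m') : IsGlob 𝒜 ℳ (s + s') (m + m') := by
  intro x
  have e1 : (LocalizedModule.mk (m + m') 1 : GrMod.LocMod 𝒜 (M := M) x.1) =
      LocalizedModule.mk m 1 + LocalizedModule.mk m' 1 :=
    (LocalizedModule.mkLinearMap _ M).map_add _ _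
  rw [e1, ← h x, ← h' x, Submodule.coe_add, Pi.add_apply, Submodule.coe_add]

omit [DirectSum.Decomposition ℳ] in
lemma IsGlob.neg {n : ℤ} {s : GrMod.sect 𝒜 ℳ n (op ⊤)} {m : M} (h : IsGlob 𝒜 ℳ s m) :
    IsGlob 𝒜 ℳ (-s) (-m) := by
  intro x
  have e1 : (LocalizedModule.mk (-m) 1 : GrMod.LocMod 𝒜 (M := M) x.1) =
      - LocalizedModule.mk m 1 :=
    (LocalizedModule.mkLinearMap _ M).map_neg _
  rw [e1, ← h x, Submodule.coe_neg, Pi.neg_apply, Submodule.coe_neg]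

omit [DirectSum.Decomposition ℳ] in
lemma exists_isGlob {N : ℕ} (hN : Function.Surjective (GrMod.alpha 𝒜 ℳ N)) :
    ∀ (n' : ℤ) (_ : n' = (N : ℤ)) (s : GrMod.sect 𝒜 ℳ n' (op ⊤)), ∃ m ∈ ℳ N, IsGlob 𝒜 ℳ s m := by
  intro n' h s
  subst h
  obtain ⟨m, hm⟩ := hN s
  exact ⟨m, m.2, fun x => by rw [← hm]; rfl⟩

end Helpers


/-- Over an affine base, for a graded ring generated in degree one, let S be a Noetherian commutative
ring positively graded by additive subgroups with irrelevant ideal generated by S_1, X = Proj S, and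
M a graded S-module (non-negatively graded here, the direct sum of its pieces) satisfying (TF): for
some k the submodule generated by the homogeneous elements of degree ≥ k is finitely generated.
Consider the graded module of sections n ↦ N_n = Γ(X, M(n)~), on which a homogeneous a ∈ S_e acts by
N_n → N_{n+e}, s ↦ (a/1)·s. Then there is k such that for every e ≥ 0 the group N_{k+e} is generated
by the images a · N_k, a ∈ S_e. (For a ring generated in degree one, condition (TF) for the graded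
module ⊕_n N_n is this eventual generation together with the finiteness of each N_n over S_0.) -/
theorem result {A σ : Type u} [CommRing A]
    [IsNoetherianRing A] [SetLike σ A] [AddSubgroupClass σ A] (𝒜 : ℕ → σ) [GradedRing 𝒜]
    (hgen : (HomogeneousIdeal.irrelevant 𝒜).toIdeal = Ideal.span (𝒜 1 : Set A))
    {M τ : Type u} [AddCommGroup M] [Module A M] [SetLike τ M] [AddSubgroupClass τ M] (ℳ : ℕ → τ)
    [SetLike.GradedSMul 𝒜 ℳ] [DirectSum.Decomposition ℳ]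
    (hTF : ∃ k : ℕ, (Submodule.span A (⋃ i ∈ Set.Ici k, (ℳ i : Set M))).FG) :
    ∃ k : ℕ, ∀ e : ℕ,
      (⨆ a : 𝒜 e, (GrMod.smulSect 𝒜 ℳ a (k : ℤ)
        (op (⊤ : Opens (ProjectiveSpectrum.top 𝒜)))).range) = ⊤ := by
  obtain ⟨N0, hN0⟩ := Groth.Agent.Lib.Helper98.GrSerreBridge.alpha_bijective_of_TF 𝒜 ℳ hTF
  obtain ⟨k1, hk1⟩ := Groth.Agent.Lib.Helper98.GrSerreGen.exists_mem_C 𝒜 ℳ hgen hTF
  refine ⟨max N0 k1, fun e => ?_⟩
  set k := max N0 k1 with hk
  rw [eq_top_iff]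
  intro s _
  obtain ⟨m, hm, hsm⟩ := exists_isGlob 𝒜 ℳ (hN0 (k + e) (le_trans (le_max_left _ _) (Nat.le_add_right _ _))).2
    ((k : ℤ) + (e : ℕ)) (by push_cast; rfl) s
  have hmC := hk1 k (le_max_right _ _) e m hm
  -- every element of `C k e` is the value of a section in the supremum
  have key : ∀ m ∈ Groth.Agent.Lib.Helper98.GrSerreGen.C 𝒜 ℳ k e,
      ∃ s' ∈ (⨆ a : 𝒜 e, (GrMod.smulSect 𝒜 ℳ a (k : ℤ)
        (op (⊤ : Opens (ProjectiveSpectrum.top 𝒜)))).range), IsGlob 𝒜 ℳ s' m := by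
    intro m hm
    induction hm using AddSubgroup.closure_induction with
    | mem x hx =>
      obtain ⟨a, ha, m', hm', rfl⟩ := hx
      refine ⟨GrMod.smulSect 𝒜 ℳ (⟨a, ha⟩ : 𝒜 e) (k : ℤ) (op ⊤) (GrMod.globalOf 𝒜 ℳ (⟨m', hm'⟩ : ℳ k)),
        AddSubgroup.mem_iSup_of_mem (⟨a, ha⟩ : 𝒜 e) (AddMonoidHom.mem_range.2 ⟨_, rfl⟩), fun x => ?_⟩
      change (Localization.mk a (1 : x.1.asHomogeneousIdeal.toIdeal.primeCompl) : GrTwist.Loc 𝒜 x.1) •
        (LocalizedModule.mk m' 1 : GrMod.LocMod 𝒜 (M := M) x.1) = LocalizedModule.mk (a • m') 1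
      rw [LocalizedModule.mk_smul_mk, one_mul]
    | zero =>
      refine ⟨0, zero_mem _, fun x => ?_⟩
      rw [LocalizedModule.zero_mk]; rfl
    | add u v _ _ hu hv =>
      obtain ⟨s1, hs1, h1⟩ := hu
      obtain ⟨s2, hs2, h2⟩ := hv
      exact ⟨s1 + s2, add_mem hs1 hs2, h1.add 𝒜 ℳ h2⟩
    | neg u _ hu =>
      obtain ⟨s1, hs1, h1⟩ := hu
      exact ⟨-s1, neg_mem hs1, h1.neg 𝒜 ℳ⟩
  obtain ⟨s', hs', hs'm⟩ := key m hmC
  rw [IsGlob.ext 𝒜 ℳ hsm hs'm]
  exact hs'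

end Groth.Agent.S5751
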