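import Groth.Statements.S5753
-- import your own Groth.Agent.* helpers here
import Groth.Agent.Lib.Lead.Fix5753

set_option autoImplicit false
universe u
open EGA41

namespace Groth.Agent.S5753

/-- Let A be a Noetherian local ring with maximal ideal m and residue field k, and N a finitely
generated A-module. Then no element of m is N-regular (multiplication by it injective) if and only
if Hom_A(k, N) is nonzero. Applied to N = M/(x_1 M + ... + x_n M) for an M-regular sequence (x_i) in
m, this says that the sequence cannot be extended by an element of m if and only if Hom_A(k, M/(x_1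
M + ... + x_n M)) ≠ 0. (The published statement allows an arbitrary module; for the direct sum N of
the quotients of a two-dimensional regular local ring by all its height-one primes no element of m
is N-regular while Hom_A(k, N) = 0, and the published proof uses finiteness of the set of associated
primes, so N is taken finitely generated here.) -/
theorem result (A : Type u) [CommRing A]
    [IsLocalRing A] [IsNoetherianRing A] (N : Type u) [AddCommGroup N] [Module A N] [Module.Finite A N] :
    (∀ x ∈ IsLocalRing.maximalIdeal A, ¬ IsSMulRegular N x) ↔
      Nontrivial (IsLocalRing.ResidueField A →ₗ[A] N) := by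
  classical
  constructor
  · intro h
    have hass := (Groth.Agent.Lib.Lead.Fix5753.maximalIdeal_mem_ass_iff A N).mpr h
    obtain ⟨hprime, y, hy⟩ := isAssociatedPrime_iff.mp hass
    have hy0 : y ≠ 0 := by
      intro h0
      have : (1 : A) ∈ IsLocalRing.maximalIdeal A := by
        rw [hy, Submodule.mem_colon_singleton, h0, smul_zero]
        exact Submodule.zero_mem _
      exact (Ideal.ne_top_iff_one _).mp hprime.ne_top this
    have hle : IsLocalRing.maximalIdeal A ≤ LinearMap.ker (LinearMap.toSpanSingleton A N y) := by
      intro x hx
      rw [LinearMap.mem_ker, LinearMap.toSpanSingleton_apply]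
      have : x ∈ (⊥ : Submodule A N).colon {y} := hy ▸ hx
      rw [Submodule.mem_colon_singleton, Submodule.mem_bot] at this
      exact this
    let φ : IsLocalRing.ResidueField A →ₗ[A] N :=
      Submodule.liftQ (IsLocalRing.maximalIdeal A) (LinearMap.toSpanSingleton A N y) hle
    have hφ1 : φ (IsLocalRing.residue A 1) = y := by
      show Submodule.liftQ _ _ hle (Submodule.Quotient.mk 1) = y
      rw [Submodule.liftQ_apply, LinearMap.toSpanSingleton_apply, one_smul]
    refine ⟨φ, 0, fun h0 => hy0 ?_⟩
    rw [← hφ1, h0, LinearMap.zero_apply]
  · intro hnt x hx hreg
    obtain ⟨φ, hφ⟩ := exists_ne (0 : IsLocalRing.ResidueField A →ₗ[A] N)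
    have hy0 : φ (IsLocalRing.residue A 1) ≠ 0 := by
      intro h0
      apply hφ
      ext z
      obtain ⟨a, rfl⟩ := IsLocalRing.residue_surjective z
      have : IsLocalRing.residue A a = a • IsLocalRing.residue A 1 := by
        rw [Algebra.smul_def, map_one, mul_one]
        rfl
      rw [this, map_smul, h0, smul_zero, LinearMap.zero_apply]
    have hxy : x • φ (IsLocalRing.residue A 1) = 0 := by
      rw [← map_smul]
      have : x • IsLocalRing.residue A 1 = 0 := by
        rw [Algebra.smul_def, map_one, mul_one]
        exact (IsLocalRing.residue_eq_zero_iff x).mpr hx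
      rw [this, map_zero]
    exact hy0 (isSMulRegular_iff_right_eq_zero_of_smul.mp hreg _ hxy)

end Groth.Agent.S5753
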