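import Groth.Statements.S5754
-- import your own Groth.Agent.* helpers here
import Mathlib.RingTheory.Ideal.AssociatedPrime.Localization
import Mathlib.RingTheory.Ideal.AssociatedPrime.Finiteness
import Mathlib.Algebra.Module.Torsion.Basic
import Mathlib.Tactic

set_option autoImplicit false
universe u
open EGA41

namespace Groth.Agent.S5754

open Pointwise

/-- Let A be a Noetherian ring, M a finitely generated A-module and t an element of A which is
M-regular. For every associated prime p of M, every prime ideal minimal among those containing p +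
tA is an associated prime of M/tM. -/
theorem result (A : Type u) [CommRing A]
    [IsNoetherianRing A] (M : Type u) [AddCommGroup M] [Module A M] [Module.Finite A M] (t : A)
    (ht : IsSMulRegular M t) (p : Ideal A) (hp : p ∈ associatedPrimes A M) (q : Ideal A)
    (hq : q ∈ (p ⊔ Ideal.span {t}).minimalPrimes) : q ∈ associatedPrimes A (QuotSMulTop t M) := by
  classical
  obtain ⟨hpprime, x, hx⟩ := isAssociatedPrime_iff.mp hp
  have hxp : ∀ a : A, a ∈ p ↔ a • x = 0 := by
    intro a
    rw [hx, Submodule.mem_colon_singleton, Submodule.mem_bot]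
  let N : Submodule A M := Submodule.torsionBySet A M (p : Set A)
  have hN : ∀ m : M, m ∈ N ↔ ∀ a ∈ p, a • m = 0 := by
    intro m
    rw [Submodule.mem_torsionBySet_iff]
    exact ⟨fun h a ha => h ⟨a, ha⟩, fun h a => h a.1 a.2⟩
  have hxN : x ∈ N := (hN x).mpr fun a ha => (hxp a).mp ha
  have hann : Module.annihilator A N = p := by
    apply le_antisymm
    · intro a ha
      rw [Module.mem_annihilator] at ha
      have := ha ⟨x, hxN⟩
      rw [hxp]
      exact congrArg Subtype.val this
    · intro a ha
      rw [Module.mem_annihilator]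
      intro n
      apply Subtype.ext
      exact (hN n.1).mp n.2 a ha
  have hNfin : Module.Finite A N := inferInstance
  have hinj : Function.Injective (QuotSMulTop.map t N.subtype) := by
    rw [injective_iff_map_eq_zero]
    intro z hz
    obtain ⟨n, rfl⟩ := Submodule.Quotient.mk_surjective _ z
    rw [QuotSMulTop.map_apply_mk, Submodule.Quotient.mk_eq_zero,
      Submodule.mem_smul_pointwise_iff_exists] at hz
    obtain ⟨m, -, hm⟩ := hz
    have hmN : m ∈ N := by
      rw [hN]
      intro a ha
      apply ht
      show t • a • m = t • 0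
      rw [smul_zero, smul_comm, hm]
      exact (hN n.1).mp n.2 a ha
    rw [Submodule.Quotient.mk_eq_zero, Submodule.mem_smul_pointwise_iff_exists]
    exact ⟨⟨m, hmN⟩, trivial, Subtype.ext hm⟩
  apply associatedPrimes.subset_of_injective hinj
  apply Module.associatedPrimes.minimalPrimes_annihilator_subset_associatedPrimes A (QuotSMulTop t N)
  have hsupp : ∀ r : PrimeSpectrum A,
      Module.annihilator A (QuotSMulTop t N) ≤ r.asIdeal ↔ p ⊔ Ideal.span {t} ≤ r.asIdeal := by
    intro r
    have h1 : r ∈ Module.support A (QuotSMulTop t N) ↔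
        Module.annihilator A (QuotSMulTop t N) ≤ r.asIdeal := by
      rw [Module.support_eq_zeroLocus, PrimeSpectrum.mem_zeroLocus, SetLike.coe_subset_coe]
    rw [← h1, Module.support_quotSMulTop, Set.mem_inter_iff, Module.support_eq_zeroLocus, hann,
      PrimeSpectrum.mem_zeroLocus, PrimeSpectrum.mem_zeroLocus, SetLike.coe_subset_coe,
      Set.singleton_subset_iff, sup_le_iff, Ideal.span_le, Set.singleton_subset_iff]
  have hqprime : q.IsPrime := hq.1.1
  refine ⟨⟨hqprime, (hsupp ⟨q, hqprime⟩).mpr hq.1.2⟩, ?_⟩
  rintro r ⟨hrprime, hr⟩ hrq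
  exact hq.2 ⟨hrprime, (hsupp ⟨r, hrprime⟩).mp hr⟩ hrq

end Groth.Agent.S5754
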