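import Groth.Statements.S5765
import Mathlib.RingTheory.Localization.Finiteness
import Mathlib.RingTheory.Localization.AtPrime.Basic
import Mathlib.RingTheory.Spectrum.Prime.Topology
-- import your own Groth.Agent.* helpers here

set_option autoImplicit false
universe u
open EGA41

namespace Groth.Agent.S5765

/-- Let A be a ring, M a finitely generated A-module and p a prime ideal of A. Then dim_{A_p}(M_p) +
dim_A(M/pM) ≤ dim_A(M). -/
theorem result (A : Type u) [CommRing A] (M : Type u)
    [AddCommGroup M] [Module A M] [Module.Finite A M] (p : Ideal A) [p.IsPrime] :
    Module.supportDim (Localization.AtPrime p) (LocalizedModule p.primeCompl M) +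
        Module.supportDim A (M ⧸ (p • (⊤ : Submodule A M))) ≤ Module.supportDim A M := by
  by_cases hp : (⟨p, inferInstance⟩ : PrimeSpectrum A) ∈ Module.support A M
  swap
  · rw [Module.notMem_support_iff] at hp
    rw [Module.supportDim_eq_bot_of_subsingleton, WithBot.bot_add]
    exact bot_le
  · let P : Module.support A M := ⟨⟨p, inferInstance⟩, hp⟩
    haveI : Nonempty (Module.support A M) := ⟨P⟩
    have h1 : Module.supportDim (Localization.AtPrime p) (LocalizedModule p.primeCompl M) ≤
        (Order.height P : WithBot ℕ∞) := by
      rw [Order.height_eq_krullDim_Iic]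
      unfold Module.supportDim
      have hmem : ∀ Q : Module.support (Localization.AtPrime p) (LocalizedModule p.primeCompl M),
          PrimeSpectrum.comap (algebraMap A (Localization.AtPrime p)) Q.1 ∈ Module.support A M := by
        intro Q
        rw [Module.mem_support_iff_of_finite]
        have hQ := Module.mem_support_iff_of_finite.mp Q.2
        intro a ha
        show algebraMap A (Localization.AtPrime p) a ∈ Q.1.asIdeal
        apply hQ
        rw [Module.mem_annihilator]
        intro x
        induction x using LocalizedModule.induction_on with
        | h m s =>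
          rw [algebraMap_smul, LocalizedModule.smul'_mk, Module.mem_annihilator.mp ha m,
            LocalizedModule.zero_mk]
      have hle : ∀ Q : Module.support (Localization.AtPrime p) (LocalizedModule p.primeCompl M),
          (⟨PrimeSpectrum.comap (algebraMap A (Localization.AtPrime p)) Q.1, hmem Q⟩ :
            Module.support A M) ≤ P := by
        intro Q
        show Ideal.comap (algebraMap A (Localization.AtPrime p)) Q.1.asIdeal ≤ p
        have h := IsLocalRing.le_maximalIdeal Q.1.2.ne_top
        have h2 := Ideal.comap_mono (f := algebraMap A (Localization.AtPrime p)) h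
        have h3 : Ideal.comap (algebraMap A (Localization.AtPrime p))
            (IsLocalRing.maximalIdeal (Localization.AtPrime p)) = p :=
          Localization.AtPrime.under_maximalIdeal
        rw [h3] at h2
        exact h2
      refine Order.krullDim_le_of_strictMono
        (fun Q => (⟨⟨PrimeSpectrum.comap (algebraMap A (Localization.AtPrime p)) Q.1, hmem Q⟩,
          hle Q⟩ : Set.Iic P)) ?_
      intro Q Q' hlt
      have hinj := PrimeSpectrum.localization_comap_injective (Localization.AtPrime p) p.primeCompl
      have hle' : PrimeSpectrum.comap (algebraMap A (Localization.AtPrime p)) Q.1 ≤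
          PrimeSpectrum.comap (algebraMap A (Localization.AtPrime p)) Q'.1 :=
        Ideal.comap_mono (le_of_lt hlt)
      refine lt_of_le_of_ne hle' ?_
      intro h
      have h3 : PrimeSpectrum.comap (algebraMap A (Localization.AtPrime p)) Q.1 =
          PrimeSpectrum.comap (algebraMap A (Localization.AtPrime p)) Q'.1 := by
        simpa using congrArg (fun z : Set.Iic P => (z.1.1 : PrimeSpectrum A)) h
      exact (ne_of_lt hlt) (Subtype.ext (hinj h3))
    have h2 : Module.supportDim A (M ⧸ (p • (⊤ : Submodule A M))) ≤
        (Order.coheight P : WithBot ℕ∞) := by
      rw [Order.coheight_eq_krullDim_Ici]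
      unfold Module.supportDim
      have hq : ∀ q : PrimeSpectrum A, q ∈ Module.support A (M ⧸ (p • (⊤ : Submodule A M))) →
          q ∈ Module.support A M ∧ q ∈ PrimeSpectrum.zeroLocus (p : Set A) := by
        intro q h0
        rw [Module.support_quotient] at h0
        exact h0
      refine Order.krullDim_le_of_strictMono
        (fun q => (⟨⟨q.1, (hq q.1 q.2).1⟩, (hq q.1 q.2).2⟩ : Set.Ici P)) ?_
      intro q q' hlt
      exact hlt
    calc _ ≤ (Order.height P : WithBot ℕ∞) + (Order.coheight P : WithBot ℕ∞) := add_le_add h1 h2
      _ = ((Order.height P + Order.coheight P : ℕ∞) : WithBot ℕ∞) := (WithBot.coe_add _ _).symm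
      _ ≤ _ := by
        unfold Module.supportDim
        rw [Order.krullDim_eq_iSup_height_add_coheight_of_nonempty]
        exact WithBot.coe_le_coe.mpr
          (le_iSup (fun a : Module.support A M => Order.height a + Order.coheight a) P)

end Groth.Agent.S5765
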