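import Groth.Statements.S5767
import Mathlib
import Groth.Agent.Lib.Helper90.DimQuot

set_option autoImplicit false
universe u
open EGA41

namespace Groth.Agent.S5767

/-- Let A be a semi-local Noetherian ring, M a finitely generated A-module and x an element of the
Jacobson radical of A. One always has dim(M/xM) ≥ dim(M) - 1; equality dim(M/xM) = dim(M) - 1 holds
if and only if x belongs to none of the prime ideals p of Supp(M) with dim(A/p) = dim(M). Stated as:
dim(M/xM) + 1 = dim(M) iff x avoids those primes. -/
theorem result (A : Type u) [CommRing A] [IsNoetherianRing A]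
    [Finite (MaximalSpectrum A)] (M : Type u) [AddCommGroup M] [Module A M] [Module.Finite A M] (x : A)
    (hx : x ∈ Ring.jacobson A) :
    Module.supportDim A (QuotSMulTop x M) + 1 = Module.supportDim A M ↔
      ∀ p : PrimeSpectrum A, p ∈ Module.support A M →
        ringKrullDim (A ⧸ p.asIdeal) = Module.supportDim A M → x ∉ p.asIdeal := by
  have hxJ : x ∈ (Module.annihilator A M).jacobson :=
    (Module.annihilator A M).ringJacobson_le_jacobson hx
  have hge : Module.supportDim A M ≤ Module.supportDim A (QuotSMulTop x M) + 1 :=
    Module.supportDim_le_supportDim_quotSMulTop_succ_of_mem_jacobson hxJ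
  constructor
  · intro heq p hp hdim hxp
    have hp' : p ∈ Module.support A (QuotSMulTop x M) := by
      rw [Module.support_quotSMulTop]
      exact ⟨hp, by simpa using hxp⟩
    have h1 : ringKrullDim (A ⧸ p.asIdeal) ≤ Module.supportDim A (QuotSMulTop x M) :=
      Groth.Agent.Lib.Helper90.Assoc.ringKrullDim_quotient_le_supportDim _
        (Module.mem_support_iff_of_finite.mp hp')
    rw [hdim, ← heq] at h1
    have hnt : Nontrivial (QuotSMulTop x M) := by
      by_contra hc
      rw [not_nontrivial_iff_subsingleton] at hc
      have : Module.support A (QuotSMulTop x M) = ∅ := Module.support_eq_empty_iff.mpr hc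
      rw [this] at hp'
      exact hp'
    rcases Groth.Agent.Lib.Helper90.DimParam.withBot_enat_cases
      (Module.supportDim A (QuotSMulTop x M)) with hb | ht | ⟨d, hd⟩
    · exact Module.supportDim_ne_bot_of_nontrivial A (QuotSMulTop x M) hb
    · exact Groth.Agent.Lib.Helper90.DimQuot.supportDim_ne_top (A := A) (QuotSMulTop x M) ht
    · rw [hd] at h1
      have : d + 1 ≤ d := by exact_mod_cast h1
      omega
  · intro h
    refine le_antisymm ?_ hge
    rcases subsingleton_or_nontrivial (QuotSMulTop x M) with hs | hn
    · rw [Module.supportDim_eq_bot_of_subsingleton]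
      simp
    have hM : Nontrivial M := by
      by_contra hc
      rw [not_nontrivial_iff_subsingleton] at hc
      have : Subsingleton (QuotSMulTop x M) := Quotient.instSubsingletonQuotient _
      exact not_subsingleton _ this
    obtain ⟨d, hd⟩ := Groth.Agent.Lib.Helper90.DimQuot.exists_supportDim_eq_nat (A := A) M
    have : Nonempty (Module.support A (QuotSMulTop x M)) :=
      Module.nonempty_support_of_nontrivial.to_subtype
    rw [hd]
    simp only [Module.supportDim, Order.krullDim_eq_iSup_length]
    have hcast : ((d : ℕ) : WithBot ℕ∞) = (((d : ℕ) : ℕ∞) : WithBot ℕ∞) := rfl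
    rw [hcast]
    have h1 : ((1 : ℕ∞) : WithBot ℕ∞) = 1 := rfl
    rw [← h1, ← WithBot.coe_add, WithBot.coe_le_coe, ENat.iSup_add, iSup_le_iff]
    intro p
    let q : LTSeries (PrimeSpectrum A) := p.map Subtype.val (fun _ _ hlt => hlt)
    have hq := Groth.Agent.Lib.Helper90.DimQuot.length_le_ringKrullDim_quotient_head q
    have hhead : q.head = p.head.1 := by simp [q]
    have hp : p.head.1 ∈ Module.support A M ∩ PrimeSpectrum.zeroLocus {x} := by
      rw [← Module.support_quotSMulTop]
      exact p.head.2
    have hxp : x ∈ p.head.1.asIdeal := by simpa using hp.2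
    have hle : ringKrullDim (A ⧸ p.head.1.asIdeal) ≤ Module.supportDim A M :=
      Groth.Agent.Lib.Helper90.Assoc.ringKrullDim_quotient_le_supportDim _
        (Module.mem_support_iff_of_finite.mp hp.1)
    have hne : ringKrullDim (A ⧸ p.head.1.asIdeal) ≠ Module.supportDim A M :=
      fun he => h p.head.1 hp.1 he hxp
    have hlt : ringKrullDim (A ⧸ p.head.1.asIdeal) < (d : WithBot ℕ∞) := by
      rw [← hd]
      exact lt_of_le_of_ne hle hne
    rw [hhead] at hq
    have hlen : q.length = p.length := by simp [q]
    rw [hlen] at hq
    have h2 : ((p.length : ℕ) : WithBot ℕ∞) < (d : WithBot ℕ∞) := lt_of_le_of_lt hq hlt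
    have h3 : p.length < d := by exact_mod_cast h2
    have h4 : p.length + 1 ≤ d := h3
    exact_mod_cast h4

end Groth.Agent.S5767
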