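import Groth.Statements.S5768
import Mathlib
import Groth.Agent.Lib.Helper90.DimQuot2

set_option autoImplicit false
universe u
open EGA41
open Groth.Agent.Lib.Helper90

namespace Groth.Agent.S5768

/-- Let A be a semi-local Noetherian ring with Jacobson radical r, M a nonzero finitely generated
A-module and x_1, ..., x_k elements of r. One always has dim(M/(x_1 M + ... + x_k M)) ≥ dim(M) - k,
and equality holds if and only if there exist further elements of r which together with the x_i form
a system of parameters for M (dim(M) elements of r modulo which M has finite length). -/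
theorem result (A : Type u) [CommRing A]
    [IsNoetherianRing A] [Finite (MaximalSpectrum A)] (M : Type u) [AddCommGroup M] [Module A M]
    [Module.Finite A M] [Nontrivial M] (xs : List A) (hxs : ∀ x ∈ xs, x ∈ Ring.jacobson A) :
    Module.supportDim A (M ⧸ (Ideal.ofList xs • (⊤ : Submodule A M))) + xs.length = Module.supportDim A M ↔
      ∃ ys : List A, (∀ y ∈ ys, y ∈ Ring.jacobson A) ∧
        ((xs ++ ys).length : WithBot ℕ∞) = Module.supportDim A M ∧
        IsFiniteLength A (M ⧸ (Ideal.ofList (xs ++ ys) • (⊤ : Submodule A M))) := by
  classical
  set N := M ⧸ (Ideal.ofList xs • (⊤ : Submodule A M)) with hN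
  obtain ⟨d, hd⟩ := DimQuot.exists_supportDim_eq_nat (A := A) M
  have hL1 := DimQuot.supportDim_le_quot_ofList_add_length xs M hxs
  constructor
  · intro heq
    have hNnt : Nontrivial N := by
      by_contra hc
      rw [not_nontrivial_iff_subsingleton] at hc
      rw [Module.supportDim_eq_bot_of_subsingleton, hd] at heq
      simp at heq
    obtain ⟨e, he⟩ := DimQuot.exists_supportDim_eq_nat (A := A) N
    rw [he, hd] at heq
    have hek : e + xs.length = d := by exact_mod_cast heq
    obtain ⟨n, hn, y, hy, hfl⟩ := DimParam.exists_params (A := A) e (M := N) he.le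
    have hen : e ≤ n := by
      have := DimParam.supportDim_le_of_isFiniteLength_quot n y hy hfl
      rw [he] at this
      exact_mod_cast this
    have hne : n = e := le_antisymm hn hen
    subst hne
    refine ⟨List.ofFn y, ?_, ?_, ?_⟩
    · intro z hz
      obtain ⟨i, rfl⟩ := (List.mem_ofFn' y z).mp hz
      exact hy i
    · rw [hd, List.length_append, List.length_ofFn]
      have : xs.length + n = d := by omega
      exact_mod_cast this
    · have e1 := DimQuot.quotOfListAppendEquiv M xs (List.ofFn y)
      rw [DimQuot.ofList_ofFn] at e1
      exact e1.symm.isFiniteLength hfl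
  · rintro ⟨ys, hys, hlen, hfl⟩
    have e1 := DimQuot.quotOfListAppendEquiv M xs ys
    have hfl' : IsFiniteLength A (N ⧸ (Ideal.span (Set.range ys.get) • (⊤ : Submodule A N))) := by
      rw [← DimQuot.ofList_eq_span_range_get]
      exact e1.isFiniteLength hfl
    have h2 : Module.supportDim A N ≤ (ys.length : ℕ) :=
      DimParam.supportDim_le_of_isFiniteLength_quot ys.length ys.get
        (fun i => hys _ (List.get_mem ys i)) hfl'
    refine le_antisymm ?_ hL1
    rw [← hlen, List.length_append]
    calc Module.supportDim A N + (xs.length : WithBot ℕ∞)
        ≤ (ys.length : WithBot ℕ∞) + xs.length := by gcongr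
      _ = ((xs.length + ys.length : ℕ) : WithBot ℕ∞) := by
          push_cast
          rw [add_comm]

end Groth.Agent.S5768
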