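import Groth.Statements.S5771
import Groth.Agent.S5769
import Mathlib.RingTheory.KrullDimension.NonZeroDivisors
-- import your own Groth.Agent.* helpers here

set_option autoImplicit false
universe u
open EGA41

namespace Groth.Agent.S5771

/-- Let φ : A → B be a local homomorphism of Noetherian local rings, m the maximal ideal of A, and
suppose mB is an ideal of definition of B (equivalently dim(B/mB) = 0). Then dim(B) ≤ dim(A); if
moreover A is an integral domain and dim(A) = dim(B), then φ is injective. -/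
theorem result (A B : Type u) [CommRing A] [CommRing B]
    [IsLocalRing A] [IsLocalRing B] [IsNoetherianRing A] [IsNoetherianRing B] [Algebra A B]
    [IsLocalHom (algebraMap A B)]
    (hdef : ringKrullDim (B ⧸ (IsLocalRing.maximalIdeal A).map (algebraMap A B)) = 0) :
    ringKrullDim B ≤ ringKrullDim A ∧
      (IsDomain A → ringKrullDim A = ringKrullDim B → Function.Injective (algebraMap A B)) := by
  have part1 : ∀ (A' : Type u) [CommRing A'] [IsLocalRing A'] [IsNoetherianRing A'] [Algebra A' B]
      [IsLocalHom (algebraMap A' B)],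
      ringKrullDim (B ⧸ (IsLocalRing.maximalIdeal A').map (algebraMap A' B)) = 0 →
      ringKrullDim B ≤ ringKrullDim A' := by
    intro A' _ _ _ _ _ h
    have := Groth.Agent.S5769.result A' B
    rw [h, add_zero] at this
    exact this
  refine ⟨part1 A hdef, ?_⟩
  intro hdom heq
  rw [injective_iff_map_eq_zero]
  intro r hr
  by_contra hr0
  let I : Ideal A := Ideal.span {r}
  have hI : ∀ a ∈ I, algebraMap A B a = 0 := by
    intro a ha
    obtain ⟨c, rfl⟩ := Ideal.mem_span_singleton'.mp ha
    rw [map_mul, hr, mul_zero]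
  have hrm : r ∈ IsLocalRing.maximalIdeal A := by
    rw [IsLocalRing.mem_maximalIdeal]
    intro hu
    have := hu.map (algebraMap A B)
    rw [hr] at this
    exact not_isUnit_zero this
  have hIm : I ≤ IsLocalRing.maximalIdeal A := by
    rw [Ideal.span_le]
    simpa using hrm
  have hIne : I ≠ ⊤ := fun h => Ideal.IsPrime.ne_top' (top_le_iff.mp (h ▸ hIm))
  haveI : Nontrivial (A ⧸ I) := Ideal.Quotient.nontrivial_iff.mpr hIne
  haveI : IsLocalRing (A ⧸ I) :=
    IsLocalRing.of_surjective' (Ideal.Quotient.mk I) Ideal.Quotient.mk_surjective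
  let ψ : A ⧸ I →+* B := Ideal.Quotient.lift I (algebraMap A B) hI
  letI : Algebra (A ⧸ I) B := ψ.toAlgebra
  have hψ : ∀ a : A, algebraMap (A ⧸ I) B (Ideal.Quotient.mk I a) = algebraMap A B a := fun a => rfl
  haveI : IsLocalHom (algebraMap (A ⧸ I) B) := by
    constructor
    intro a ha
    obtain ⟨a, rfl⟩ := Ideal.Quotient.mk_surjective a
    rw [hψ] at ha
    exact (isUnit_of_map_unit (algebraMap A B) a ha).map _
  have hmax : IsLocalRing.maximalIdeal (A ⧸ I) =
      (IsLocalRing.maximalIdeal A).map (Ideal.Quotient.mk I) := by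
    rcases Ideal.map_eq_top_or_isMaximal_of_surjective (Ideal.Quotient.mk I)
      Ideal.Quotient.mk_surjective (IsLocalRing.maximalIdeal.isMaximal A) with h | h
    · exfalso
      have h1 : (1 : A ⧸ I) ∈ (IsLocalRing.maximalIdeal A).map (Ideal.Quotient.mk I) := by
        rw [h]; trivial
      rw [Ideal.mem_map_iff_of_surjective _ Ideal.Quotient.mk_surjective] at h1
      obtain ⟨x, hx, hx1⟩ := h1
      have : x - 1 ∈ I := by
        rw [← Ideal.Quotient.eq, hx1, map_one]
      have h2 : (1 : A) ∈ IsLocalRing.maximalIdeal A := by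
        have := Ideal.sub_mem _ hx (hIm this)
        simpa using this
      exact Ideal.IsPrime.ne_top' ((Ideal.eq_top_iff_one _).mpr h2)
    · exact (IsLocalRing.eq_maximalIdeal h).symm
  have hmap : (IsLocalRing.maximalIdeal (A ⧸ I)).map (algebraMap (A ⧸ I) B) =
      (IsLocalRing.maximalIdeal A).map (algebraMap A B) := by
    rw [hmax, Ideal.map_map]
    rfl
  have h1 : ringKrullDim B ≤ ringKrullDim (A ⧸ I) := part1 (A ⧸ I) (by rw [hmap]; exact hdef)
  have h2 : ringKrullDim (A ⧸ I) + 1 ≤ ringKrullDim A :=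
    ringKrullDim_quotient_succ_le_of_nonZeroDivisor (mem_nonZeroDivisors_of_ne_zero hr0)
  have h3 : ringKrullDim B + 1 ≤ ringKrullDim B := by
    calc ringKrullDim B + 1 ≤ ringKrullDim (A ⧸ I) + 1 := by gcongr
      _ ≤ ringKrullDim A := h2
      _ = ringKrullDim B := heq
  have hbot := ringKrullDim_ne_bot (R := B)
  have htop := ringKrullDim_ne_top (R := B)
  obtain ⟨y, hy⟩ := WithBot.ne_bot_iff_exists.mp hbot
  rw [← hy] at h3 htop
  have hy' : y ≠ ⊤ := fun h => htop (by rw [h]; rfl)
  obtain ⟨n, rfl⟩ := ENat.ne_top_iff_exists.mp hy'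
  have h4 : ((n + 1 : ℕ) : WithBot ℕ∞) ≤ (n : WithBot ℕ∞) := by
    simpa using h3
  have h5 : n + 1 ≤ n := by exact_mod_cast h4
  omega

end Groth.Agent.S5771
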