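import Groth.Statements.S5772
import Mathlib.RingTheory.Filtration
-- import your own Groth.Agent.* helpers here

set_option autoImplicit false
universe u
open scoped Pointwise
open EGA41

namespace Groth.Agent.S5772

/-- Let A be a Noetherian ring, M a finitely generated A-module and f an element of A. Then f is
M-regular (multiplication by f on M is injective) if and only if f is M-quasi-regular, i.e. the
canonical surjection (M/fM)[T] → gr(M) for the (f)-adic filtration is bijective, which amounts to:
for every k ≥ 0 and x ∈ M, f^k x ∈ f^(k+1) M implies x ∈ fM. -/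
theorem result (A : Type u) [CommRing A] [IsNoetherianRing A] (M : Type u)
    [AddCommGroup M] [Module A M] [Module.Finite A M] (f : A) :
    IsSMulRegular M f ↔
      ∀ (k : ℕ) (x : M), f ^ k • x ∈ f ^ (k + 1) • (⊤ : Submodule A M) → x ∈ f • (⊤ : Submodule A M) := by
  constructor
  · intro hreg k x hx
    rw [Submodule.mem_smul_pointwise_iff_exists] at hx ⊢
    obtain ⟨y, -, hy⟩ := hx
    refine ⟨y, Submodule.mem_top, ?_⟩
    have h1 : f ^ k • (f • y) = f ^ k • x := by
      rw [← hy, smul_smul, pow_succ]
    exact (hreg.pow k) h1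
  · intro H x y hxy
    have hxy' : f • x = f • y := hxy
    set z := x - y with hz
    have hfz : f • z = 0 := by rw [hz, smul_sub, hxy', sub_self]
    have hmem : ∀ n : ℕ, ∃ w : M, z = f ^ n • w := by
      intro n
      induction n with
      | zero => exact ⟨z, by simp⟩
      | succ n ih =>
        obtain ⟨w, hw⟩ := ih
        have h1 : f ^ (n + 1) • w ∈ f ^ (n + 1 + 1) • (⊤ : Submodule A M) := by
          have : f ^ (n + 1) • w = 0 := by
            rw [pow_succ', ← smul_smul, ← hw, hfz]
          rw [this]
          exact Submodule.zero_mem _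
        have h2 := H (n + 1) w h1
        rw [Submodule.mem_smul_pointwise_iff_exists] at h2
        obtain ⟨w', -, hw'⟩ := h2
        refine ⟨w', ?_⟩
        rw [hw, ← hw', smul_smul, pow_succ]
    have hz_mem : z ∈ (⨅ i : ℕ, (Ideal.span {f}) ^ i • ⊤ : Submodule A M) := by
      rw [Submodule.mem_iInf]
      intro n
      obtain ⟨w, hw⟩ := hmem n
      rw [hw, Ideal.span_singleton_pow]
      exact Submodule.smul_mem_smul (Ideal.mem_span_singleton_self _) Submodule.mem_top
    rw [Ideal.mem_iInf_smul_pow_eq_bot_iff] at hz_mem
    obtain ⟨⟨r, hr⟩, hrz⟩ := hz_mem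
    obtain ⟨a, rfl⟩ := Ideal.mem_span_singleton'.mp hr
    have : z = 0 := by
      rw [← hrz]
      show (a * f) • z = 0
      rw [← smul_smul, hfz, smul_zero]
    exact sub_eq_zero.mp this

end Groth.Agent.S5772
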