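import Groth.Statements.S5776
import Mathlib.RingTheory.Regular.RegularSequence

set_option autoImplicit false
universe u
open EGA41

namespace Groth.Agent.S5776

open RingTheory.Sequence Function Pointwise in
theorem isWeaklyRegular_of_exact {A : Type u} [CommRing A] (rs : List A) :
    ∀ {M' M M'' : Type u} [AddCommGroup M'] [Module A M'] [AddCommGroup M] [Module A M]
      [AddCommGroup M''] [Module A M''] (f : M' →ₗ[A] M) (g : M →ₗ[A] M'')
      (_ : Injective f) (_ : Surjective g) (_ : Exact f g)
      (_ : IsWeaklyRegular M' rs) (_ : IsWeaklyRegular M'' rs), IsWeaklyRegular M rs := by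
  induction rs with
  | nil => intros; exact IsWeaklyRegular.nil A _
  | cons r rs ih =>
    intro M' M M'' _ _ _ _ _ _ f g hf hg hfg h' h''
    rw [isWeaklyRegular_cons_iff] at h' h'' ⊢
    refine ⟨isSMulRegular_of_range_eq_ker hf hfg.linearMap_ker_eq.symm h'.1 h''.1, ?_⟩
    refine ih (QuotSMulTop.map r f) (QuotSMulTop.map r g) ?_ (QuotSMulTop.map_surjective r hg)
      (QuotSMulTop.map_exact r hfg hg) h'.2 h''.2
    have h0 : Exact (0 : PUnit.{u+1} →ₗ[A] M') f := (LinearMap.exact_zero_iff_injective _ f).mpr hf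
    have := QuotSMulTop.map_first_exact_on_four_term_exact_of_isSMulRegular_last h0 hfg h''.1
    rw [map_zero] at this
    exact (LinearMap.exact_zero_iff_injective _ _).mp this

open RingTheory.Sequence Function Pointwise in
theorem isWeaklyRegular_mul_cons {A : Type u} [CommRing A] {M : Type u} [AddCommGroup M] [Module A M]
    (a b : A) (rs : List A) (ha : IsWeaklyRegular M (a :: rs)) (hb : IsWeaklyRegular M (b :: rs)) :
    IsWeaklyRegular M ((a * b) :: rs) := by
  rw [isWeaklyRegular_cons_iff] at ha hb ⊢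
  refine ⟨ha.1.mul hb.1, ?_⟩
  have h1 : (a • ⊤ : Submodule A M) ≤ ((a * b) • ⊤ : Submodule A M).comap (LinearMap.lsmul A M b) := by
    intro x hx
    obtain ⟨y, -, rfl⟩ := (Submodule.mem_smul_pointwise_iff_exists _ _ _).mp hx
    rw [Submodule.mem_comap, LinearMap.lsmul_apply, smul_smul, mul_comm b a]
    exact Submodule.smul_mem_pointwise_smul _ _ _ Submodule.mem_top
  have h2 : ((a * b) • ⊤ : Submodule A M) ≤ (b • ⊤ : Submodule A M) := by
    intro x hx
    obtain ⟨y, -, rfl⟩ := (Submodule.mem_smul_pointwise_iff_exists _ _ _).mp hx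
    rw [mul_comm, mul_smul]
    exact Submodule.smul_mem_pointwise_smul _ _ _ Submodule.mem_top
  let φ : QuotSMulTop a M →ₗ[A] QuotSMulTop (a * b) M := Submodule.mapQ _ _ (LinearMap.lsmul A M b) h1
  let π : QuotSMulTop (a * b) M →ₗ[A] QuotSMulTop b M := Submodule.factor h2
  refine isWeaklyRegular_of_exact rs φ π ?_ (Submodule.factor_surjective h2) ?_ ha.2 hb.2
  · rw [← LinearMap.ker_eq_bot, LinearMap.ker_eq_bot']
    intro x hx
    obtain ⟨x, rfl⟩ := Submodule.Quotient.mk_surjective _ x
    have hx' : b • x ∈ ((a * b) • ⊤ : Submodule A M) := by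
      have : φ (Submodule.Quotient.mk x) = Submodule.Quotient.mk (b • x) := rfl
      rw [this, Submodule.Quotient.mk_eq_zero] at hx
      exact hx
    obtain ⟨y, -, hy⟩ := (Submodule.mem_smul_pointwise_iff_exists _ _ _).mp hx'
    rw [mul_comm, mul_smul] at hy
    have := hb.1 hy
    rw [Submodule.Quotient.mk_eq_zero, ← this]
    exact Submodule.smul_mem_pointwise_smul _ _ _ Submodule.mem_top
  · intro x
    obtain ⟨x, rfl⟩ := Submodule.Quotient.mk_surjective _ x
    have hπ : π (Submodule.Quotient.mk x) = Submodule.Quotient.mk x := rfl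
    rw [hπ, Submodule.Quotient.mk_eq_zero]
    constructor
    · intro hx
      obtain ⟨y, -, rfl⟩ := (Submodule.mem_smul_pointwise_iff_exists _ _ _).mp hx
      exact ⟨Submodule.Quotient.mk y, rfl⟩
    · rintro ⟨y, hy⟩
      obtain ⟨y, rfl⟩ := Submodule.Quotient.mk_surjective _ y
      have : φ (Submodule.Quotient.mk y) = Submodule.Quotient.mk (b • y) := rfl
      rw [this, Submodule.Quotient.eq] at hy
      have hby : b • y ∈ (b • ⊤ : Submodule A M) :=
        Submodule.smul_mem_pointwise_smul _ _ _ Submodule.mem_top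
      have := (b • ⊤ : Submodule A M).sub_mem hby (h2 hy)
      simpa using this

open RingTheory.Sequence in
theorem isWeaklyRegular_pow_cons {A : Type u} [CommRing A] {M : Type u} [AddCommGroup M] [Module A M]
    (a : A) (rs : List A) (ha : IsWeaklyRegular M (a :: rs)) (k : ℕ) (hk : 1 ≤ k) :
    IsWeaklyRegular M ((a ^ k) :: rs) := by
  induction k, hk using Nat.le_induction with
  | base => simpa using ha
  | succ k hk ih => rw [pow_succ]; exact isWeaklyRegular_mul_cons _ _ rs ih ha

open RingTheory.Sequence in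
theorem isWeaklyRegular_ofFn_pow {A : Type u} [CommRing A] (n : ℕ) :
    ∀ (M : Type u) [AddCommGroup M] [Module A M] (f : Fin n → A) (v : Fin n → ℕ)
      (_ : ∀ i, 1 ≤ v i) (_ : IsWeaklyRegular M (List.ofFn f)),
      IsWeaklyRegular M (List.ofFn fun i => f i ^ v i) := by
  induction n with
  | zero => intro M _ _ f v hv hf; simp
  | succ n ih =>
    intro M _ _ f v hv hf
    rw [List.ofFn_succ] at hf ⊢
    have h1 := isWeaklyRegular_pow_cons _ _ hf (v 0) (hv 0)
    rw [isWeaklyRegular_cons_iff] at h1 ⊢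
    exact ⟨h1.1, ih _ (fun i => f i.succ) (fun i => v i.succ) (fun i => hv _) h1.2⟩

/-- Let A be a ring, M an A-module and (f_i)_{1 ≤ i ≤ n} an M-regular sequence of elements of A. Then
for any exponents v_i ≥ 1 the sequence (f_i ^ v_i) is again M-regular. -/
theorem result (A : Type u) [CommRing A] (M : Type u) [AddCommGroup M]
    [Module A M] (n : ℕ) (f : Fin n → A) (v : Fin n → ℕ) (hv : ∀ i, 1 ≤ v i)
    (hf : RingTheory.Sequence.IsWeaklyRegular M (List.ofFn f)) :
    RingTheory.Sequence.IsWeaklyRegular M (List.ofFn fun i => f i ^ v i) := by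
  exact isWeaklyRegular_ofFn_pow n M f v hv hf

end Groth.Agent.S5776
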