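import Groth.Statements.S5778
import Mathlib
import Groth.Agent.Lib.Helper90.SamuelLocal
import Groth.Agent.S8163

set_option autoImplicit false
universe u
open EGA41

namespace Groth.Agent.S5778

/-- Let A be a Noetherian local ring with maximal ideal m, residue field k, and let r be the dimension
of the k-vector space m/m². Then A is regular if and only if the canonical surjection of graded
k-algebras from the symmetric algebra of m/m² onto the associated graded ring of A for the m-adic
filtration is bijective. Since that surjection is bijective exactly when source and target have the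
same length in every degree, the condition is expressed here as: length_A(A/m^(s+1)) equals the
binomial coefficient C(s+r, r) for every s ≥ 0. -/
theorem result (A : Type u) [CommRing A] [IsLocalRing A]
    [IsNoetherianRing A] :
    IsRegularLocalRing A ↔
      ∀ s : ℕ, Module.length A (A ⧸ IsLocalRing.maximalIdeal A ^ (s + 1)) =
        ((s + Module.finrank (IsLocalRing.ResidueField A) (IsLocalRing.CotangentSpace A)).choose s : ℕ∞) := by
  set r := Module.finrank (IsLocalRing.ResidueField A) (IsLocalRing.CotangentSpace A) with hr
  constructor
  · intro h s
    have hdim : ringKrullDim A = (r : WithBot ℕ∞) :=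
      ((IsRegularLocalRing.iff_finrank_cotangentSpace A).mp h).symm
    rw [Groth.Agent.S8163.result A r hdim (s + 1) (Nat.succ_le_succ (Nat.zero_le s))]
    have h1 : s + 1 + r - 1 = s + r := by omega
    rw [h1, add_comm s r, Nat.choose_symm_add]
  · intro h
    rw [IsRegularLocalRing.iff_finrank_cotangentSpace, ← hr]
    have key := Groth.Agent.Lib.Helper90.SamuelLocal.natDegree_eq_ringKrullDim A
      (Q := (Polynomial.preHilbertPoly ℚ r 0).comp (Polynomial.X - Polynomial.C 1)) 1 (by
        intro n hn
        obtain ⟨s, rfl⟩ : ∃ s, n = s + 1 := ⟨n - 1, by omega⟩
        rw [h s, Groth.Agent.Lib.Helper90.HSPoly.eval_comp_X_sub_C]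
        have h2 : ((s + 1 : ℕ) : ℚ) - 1 = (s : ℚ) := by push_cast; ring
        rw [h2, Polynomial.preHilbertPoly_eq_choose_sub_add ℚ r (Nat.zero_le s), ENat.toNat_coe,
          Nat.sub_zero, add_comm s r, Nat.choose_symm_add])
    rw [Groth.Agent.Lib.Helper90.HSPoly.natDegree_comp_X_sub_C,
      Polynomial.natDegree_preHilbertPoly] at key
    exact key

end Groth.Agent.S5778
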