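import Groth.Statements.S5779
import Groth.Agent.Lib.Helper76.RegularLocalGlDim
import Mathlib.Tactic
import Mathlib.LinearAlgebra.Dimension.OrzechProperty

set_option autoImplicit false
universe u
open EGA41

namespace Groth.Agent.S5779

section Aux
open IsLocalRing

variable (A : Type u) [CommRing A] [IsLocalRing A]

theorem span_le_max {r : ℕ} (x : Fin r → maximalIdeal A) :
    Ideal.span (Set.range fun i => (x i : A)) ≤ maximalIdeal A := by
  rw [Ideal.span_le]; rintro _ ⟨i, rfl⟩; exact (x i).2

theorem quot_nontrivial (J : Ideal A) (hJ : J ≤ maximalIdeal A) : Nontrivial (A ⧸ J) := by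
  rw [Ideal.Quotient.nontrivial_iff]
  rintro rfl
  exact (maximalIdeal.isMaximal A).ne_top (top_le_iff.mp hJ)

theorem quot_local (J : Ideal A) (hJ : J ≤ maximalIdeal A) : IsLocalRing (A ⧸ J) :=
  have := quot_nontrivial A J hJ
  IsLocalRing.of_surjective' (Ideal.Quotient.mk J) Ideal.Quotient.mk_surjective

theorem max_quot (J : Ideal A) [IsLocalRing (A ⧸ J)] (T : Set A)
    (h : J ⊔ Ideal.span T = maximalIdeal A) :
    maximalIdeal (A ⧸ J) = Ideal.span ((Ideal.Quotient.mk J) '' T) := by
  rw [← map_maximalIdeal_of_surjective (Ideal.Quotient.mk J) Ideal.Quotient.mk_surjective, ← h,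
    Ideal.map_sup, Ideal.map_quotient_self, bot_sup_eq, Ideal.map_span]

theorem dim_nat (R : Type u) [CommRing R] [IsLocalRing R] [IsNoetherianRing R] :
    ∃ e : ℕ, ringKrullDim R = e := by
  have hd' : ringKrullDim R ≠ ⊥ := ringKrullDim_ne_bot
  have hd'' : ringKrullDim R ≠ ⊤ := ringKrullDim_ne_top
  cases h : ringKrullDim R with
  | bot => exact absurd h hd'
  | coe a =>
    cases a with
    | top => exact absurd h hd''
    | coe n => exact ⟨n, rfl⟩

variable [IsNoetherianRing A]

theorem dim_le (r : ℕ) (x : Fin r → maximalIdeal A) :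
    ringKrullDim A ≤ ringKrullDim (A ⧸ Ideal.span (Set.range fun i => (x i : A))) + r := by
  refine le_trans (ringKrullDim_le_ringKrullDim_quotient_add_encard
    (Set.range fun i => (x i : A)) ?_) ?_
  · rw [IsLocalRing.ringJacobson_eq_maximalIdeal]
    rintro _ ⟨i, rfl⟩; exact (x i).2
  · gcongr
    have h1 : (Set.range fun i => (x i : A)).encard ≤ (r : ℕ∞) := by
      rw [← Set.image_univ]
      refine le_trans (Set.encard_image_le _ _) ?_
      simp [Set.encard_univ]
    exact_mod_cast h1

/-- extend lin indep family of classes to generators -/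
theorem exists_extend (r : ℕ) (x : Fin r → maximalIdeal A)
    (hli : LinearIndependent (ResidueField A) (fun i => (maximalIdeal A).toCotangent (x i))) :
    ∃ T : Set A, T.Finite ∧ T.ncard + r ≤ (maximalIdeal A).spanFinrank ∧
      Ideal.span (Set.range fun i => (x i : A)) ⊔ Ideal.span T = maximalIdeal A := by
  classical
  set v : Fin r → CotangentSpace A := fun i => (maximalIdeal A).toCotangent (x i) with hv
  have hinj : Function.Injective v := hli.injective
  have hli' : LinearIndepOn (ResidueField A) id (Set.range v) := hli.linearIndepOn_id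
  obtain ⟨B, hvB, b, hbrange⟩ : ∃ (B : Set (CotangentSpace A)) (_ : Set.range v ⊆ B)
      (b : Module.Basis B (ResidueField A) (CotangentSpace A)), Set.range b = B :=
    ⟨hli'.extend (Set.subset_univ _), hli'.subset_extend _, Module.Basis.extend hli',
      Module.Basis.range_extend hli'⟩
  have hBfin : B.Finite := by
    have : Finite B := Module.Finite.finite_basis b
    exact Set.toFinite B
  have hBcard : B.ncard = (maximalIdeal A).spanFinrank := by
    rw [spanFinrank_maximalIdeal_eq_finrank_cotangentSpace,
      Module.finrank_eq_nat_card_basis b, Nat.card_coe_set_eq]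
  have hBspan : Submodule.span (ResidueField A) B = ⊤ := by
    have := b.span_eq
    rwa [hbrange] at this
  let σ := Function.surjInv (maximalIdeal A).toCotangent_surjective
  have hσ : ∀ w, (maximalIdeal A).toCotangent (σ w) = w :=
    Function.surjInv_eq (maximalIdeal A).toCotangent_surjective
  have hrcard : (Set.range v).ncard = r := by
    rw [← Set.image_univ, Set.ncard_image_of_injective _ hinj, Set.ncard_univ, Nat.card_fin]
  have hB'card : (B \ Set.range v).ncard + r = (maximalIdeal A).spanFinrank := by
    have h2 := Set.ncard_sdiff_add_ncard_of_subset hvB hBfin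
    omega
  let S : Set (maximalIdeal A) := Set.range x ∪ σ '' (B \ Set.range v)
  have hS : (maximalIdeal A).toCotangent '' S = B := by
    ext w
    simp only [S, Set.image_union, Set.mem_union, Set.mem_image, Set.mem_range, Set.mem_sdiff]
    constructor
    · rintro (⟨_, ⟨i, rfl⟩, rfl⟩ | ⟨_, ⟨w', ⟨hw', -⟩, rfl⟩, rfl⟩)
      · exact hvB ⟨i, rfl⟩
      · rwa [hσ]
    · intro hw
      by_cases hwv : w ∈ Set.range v
      · obtain ⟨i, rfl⟩ := hwv
        left; exact ⟨x i, ⟨i, rfl⟩, rfl⟩
      · right; exact ⟨σ w, ⟨w, ⟨hw, fun ⟨i, hi⟩ => hwv ⟨i, hi⟩⟩, rfl⟩, hσ w⟩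
  have hspan : Submodule.span A S = ⊤ :=
    CotangentSpace.span_image_eq_top_iff.mp (by rw [hS]; exact hBspan)
  refine ⟨(fun w => (σ w : A)) '' (B \ Set.range v), (hBfin.subset Set.sdiff_subset).image _, ?_, ?_⟩
  · have := Set.ncard_image_le (f := fun w => (σ w : A)) (hBfin.subset (Set.sdiff_subset (t := Set.range v)))
    omega
  · have h4 := congrArg (Submodule.map (maximalIdeal A).subtype) hspan
    rw [Submodule.map_span, Submodule.map_top, Submodule.range_subtype] at h4
    rw [← Ideal.span_union]
    refine Eq.trans ?_ h4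
    show Ideal.span _ = Ideal.span _
    congr 1
    ext a
    simp only [S, Set.image_union, Set.mem_union, Set.mem_image, Set.mem_range, Set.mem_sdiff,
      Submodule.subtype_apply]
    constructor
    · rintro (⟨i, rfl⟩ | ⟨w, hw, rfl⟩)
      · left; exact ⟨x i, ⟨i, rfl⟩, rfl⟩
      · right; exact ⟨σ w, ⟨w, hw, rfl⟩, rfl⟩
    · rintro (⟨_, ⟨i, rfl⟩, rfl⟩ | ⟨_, ⟨w, hw, rfl⟩, rfl⟩)
      · left; exact ⟨i, rfl⟩
      · right; exact ⟨w, hw, rfl⟩


theorem forward (r : ℕ) (x : Fin r → maximalIdeal A) (hreg : IsRegularLocalRing A)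
    (hli : LinearIndependent (ResidueField A) (fun i => (maximalIdeal A).toCotangent (x i))) :
    ringKrullDim (A ⧸ Ideal.span (Set.range fun i => (x i : A))) + r = ringKrullDim A ∧
      IsRegularLocalRing (A ⧸ Ideal.span (Set.range fun i => (x i : A))) := by
  set J := Ideal.span (Set.range fun i => (x i : A)) with hJ
  have hJm : J ≤ maximalIdeal A := span_le_max A x
  have := quot_local A J hJm
  obtain ⟨T, hTfin, hTcard, hT⟩ := exists_extend A r x hli
  have hm' := max_quot A J T hT
  have hfin : (maximalIdeal (A ⧸ J)).spanFinrank ≤ T.ncard := by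
    rw [hm']
    exact le_trans (Submodule.spanFinrank_span_le_ncard_of_finite (hTfin.image _))
      (Set.ncard_image_le hTfin)
  have hdim := dim_le A r x
  have hreg' : ((maximalIdeal A).spanFinrank : WithBot ℕ∞) = ringKrullDim A :=
    IsRegularLocalRing.spanFinrank_maximalIdeal
  have hle : ringKrullDim (A ⧸ J) ≤ (maximalIdeal (A ⧸ J)).spanFinrank :=
    ringKrullDim_le_spanFinrank_maximalIdeal _
  obtain ⟨e, he⟩ := dim_nat (A ⧸ J)
  rw [he] at hle hdim ⊢
  rw [← hreg'] at hdim ⊢
  have h1 : (maximalIdeal A).spanFinrank ≤ e + r := by exact_mod_cast hdim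
  have h2 : e ≤ (maximalIdeal (A ⧸ J)).spanFinrank := by exact_mod_cast hle
  have h3 : (maximalIdeal (A ⧸ J)).spanFinrank = e := by omega
  have h4 : (maximalIdeal A).spanFinrank = e + r := by omega
  refine ⟨?_, ?_⟩
  · rw [h4]; norm_cast
  · rw [isRegularLocalRing_iff, he, h3]

theorem backward (r : ℕ) (x : Fin r → maximalIdeal A)
    (hdim : ringKrullDim (A ⧸ Ideal.span (Set.range fun i => (x i : A))) + r = ringKrullDim A)
    (hregJ : IsRegularLocalRing (A ⧸ Ideal.span (Set.range fun i => (x i : A)))) :
    IsRegularLocalRing A ∧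
      LinearIndependent (ResidueField A) (fun i => (maximalIdeal A).toCotangent (x i)) := by
  classical
  set J := Ideal.span (Set.range fun i => (x i : A)) with hJ
  set π := Ideal.Quotient.mk J with hπ
  have hπs : Function.Surjective π := Ideal.Quotient.mk_surjective
  obtain ⟨e, he⟩ := dim_nat (A ⧸ J)
  obtain ⟨z, hz⟩ := Groth.Agent.Lib.Helper76.exists_fin_span_range_eq_maximalIdeal (A ⧸ J) e he
  choose y hy using fun j => hπs (z j)
  have hmem : ∀ a : A, a ∈ maximalIdeal A ↔ π a ∈ maximalIdeal (A ⧸ J) := by
    intro a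
    have : IsLocalHom π := hπs.isLocalHom π
    rw [mem_maximalIdeal, mem_maximalIdeal, map_mem_nonunits_iff]
  have hym : ∀ j, y j ∈ maximalIdeal A := by
    intro j
    rw [hmem, hy, ← hz]
    exact Ideal.subset_span ⟨j, rfl⟩
  have hJm : J ≤ maximalIdeal A := span_le_max A x
  have hm : J ⊔ Ideal.span (Set.range y) = maximalIdeal A := by
    apply le_antisymm
    · refine sup_le hJm ?_
      rw [Ideal.span_le]; rintro _ ⟨j, rfl⟩; exact hym j
    · intro a ha
      have h1 : π a ∈ Ideal.map π (Ideal.span (Set.range y)) := by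
        rw [Ideal.map_span, ← Set.range_comp]
        have : (π ∘ y) = z := funext hy
        rw [this, hz]
        exact (hmem a).mp ha
      obtain ⟨b, hb, hba⟩ := (Ideal.mem_map_iff_of_surjective π hπs).mp h1
      have h2 : a - b ∈ J := by
        rw [← Ideal.Quotient.eq_zero_iff_mem, map_sub, hba, sub_self]
      have : a = (a - b) + b := by ring
      rw [this]
      exact Ideal.add_mem _ (Ideal.mem_sup_left h2) (Ideal.mem_sup_right hb)
  let w : Fin r ⊕ Fin e → maximalIdeal A := Sum.elim x (fun j => ⟨y j, hym j⟩)
  have hw : Ideal.span (Set.range fun i => (w i : A)) = maximalIdeal A := by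
    refine Eq.trans ?_ hm
    rw [← Ideal.span_union]
    congr 1
    ext a
    simp only [Set.mem_range, Set.mem_union, Sum.exists, w, Sum.elim_inl, Sum.elim_inr]
  have hwtop : Submodule.span A (Set.range w) = ⊤ := by
    apply Submodule.map_injective_of_injective (maximalIdeal A).injective_subtype
    rw [Submodule.map_span, Submodule.map_top, Submodule.range_subtype, ← Set.range_comp]
    exact hw
  have hspan : Submodule.span (ResidueField A) ((maximalIdeal A).toCotangent '' Set.range w) = ⊤ :=
    CotangentSpace.span_image_eq_top_iff.mpr hwtop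
  have hcard : (maximalIdeal A).spanFinrank ≤ e + r := by
    rw [← hw]
    refine le_trans (Submodule.spanFinrank_span_le_ncard_of_finite (Set.finite_range _)) ?_
    rw [← Set.image_univ]
    refine le_trans (Set.ncard_image_le Set.finite_univ) ?_
    simp [Set.ncard_univ, add_comm]
  rw [he] at hdim
  have hAreg : IsRegularLocalRing A := by
    apply IsRegularLocalRing.of_spanFinrank_maximalIdeal_le
    rw [← hdim]
    exact_mod_cast hcard
  refine ⟨hAreg, ?_⟩
  have hfr : Module.finrank (ResidueField A) (CotangentSpace A) = e + r := by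
    have h1 : ((maximalIdeal A).spanFinrank : WithBot ℕ∞) = ringKrullDim A :=
      IsRegularLocalRing.spanFinrank_maximalIdeal
    rw [← hdim] at h1
    rw [← spanFinrank_maximalIdeal_eq_finrank_cotangentSpace]
    exact_mod_cast h1
  have hlin : LinearIndependent (ResidueField A) ((maximalIdeal A).toCotangent ∘ w) := by
    apply linearIndependent_of_top_le_span_of_card_eq_finrank
    · rw [Set.range_comp, hspan]
    · rw [Fintype.card_sum, Fintype.card_fin, Fintype.card_fin]
      change r + e = Module.finrank (ResidueField A) (CotangentSpace A)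
      rw [hfr, add_comm]
  exact hlin.comp Sum.inl Sum.inl_injective


end Aux

/-- Let A be a Noetherian local ring with maximal ideal m and residue field k, (x_i)_{1 ≤ i ≤ r}
elements of m and J = x_1 A + ... + x_r A. Then A is regular with the classes of the x_i in m/m²
linearly independent over k (equivalently: the x_i are part of a regular system of parameters) if
and only if the x_i are part of a system of parameters of A (dim(A/J) = dim(A) - r) and A/J is
regular. When these conditions hold, J is a prime ideal. -/
theorem result (A : Type u) [CommRing A] [IsLocalRing A]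
    [IsNoetherianRing A] (r : ℕ) (x : Fin r → IsLocalRing.maximalIdeal A) :
    ((IsRegularLocalRing A ∧
        LinearIndependent (IsLocalRing.ResidueField A)
          (fun i => (IsLocalRing.maximalIdeal A).toCotangent (x i))) ↔
      (ringKrullDim (A ⧸ Ideal.span (Set.range fun i => (x i : A))) + r = ringKrullDim A ∧
        IsRegularLocalRing (A ⧸ Ideal.span (Set.range fun i => (x i : A))))) ∧
    (IsRegularLocalRing (A ⧸ Ideal.span (Set.range fun i => (x i : A))) →
      ringKrullDim (A ⧸ Ideal.span (Set.range fun i => (x i : A))) + r = ringKrullDim A →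
        (Ideal.span (Set.range fun i => (x i : A))).IsPrime) := by
  refine ⟨⟨fun ⟨h1, h2⟩ => forward A r x h1 h2, fun ⟨h1, h2⟩ => backward A r x h1 h2⟩, ?_⟩
  intro hreg _
  rw [← Ideal.Quotient.isDomain_iff_prime]
  exact Groth.Agent.Lib.Helper76.isDomain_of_isRegularLocalRing _

end Groth.Agent.S5779
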