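import Groth.Statements.S5780
import Mathlib.RingTheory.Ideal.AssociatedPrime.Finiteness
import Mathlib.RingTheory.Nakayama

set_option autoImplicit false
universe u
open EGA41

namespace Groth.Agent.S5780

/-- Let A be a Noetherian local ring with maximal ideal m. If every element of m which is not in m² is a
zero divisor in A, then there is a nonzero c in A with c m = 0, i.e. m is an associated prime of A. -/
theorem result (A : Type u) [CommRing A]
    [IsLocalRing A] [IsNoetherianRing A]
    (h : ∀ a ∈ IsLocalRing.maximalIdeal A, a ∉ IsLocalRing.maximalIdeal A ^ 2 → ¬ IsSMulRegular A a) :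
    IsLocalRing.maximalIdeal A ∈ associatedPrimes A A := by
  set m := IsLocalRing.maximalIdeal A with hm
  have hsub : ((m : Ideal A) : Set A) ⊆ ⋃ i ∈ (insert (m ^ 2) (associatedPrimes A A)), ((id i : Ideal A) : Set A) := by
    intro a ha
    by_cases h2 : a ∈ m ^ 2
    · exact Set.mem_biUnion (Set.mem_insert _ _) h2
    · have hnr := h a ha h2
      have : a ∈ ⋃ p ∈ associatedPrimes A A, (p : Set A) := by
        rw [biUnion_associatedPrimes_eq_compl_regular A A]
        exact hnr
      rw [Set.mem_iUnion₂] at this
      obtain ⟨p, hp, hap⟩ := this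
      exact Set.mem_biUnion (Set.mem_insert_of_mem _ hp) hap
  have hfin : (insert (m ^ 2) (associatedPrimes A A)).Finite :=
    (associatedPrimes.finite A A).insert _
  obtain ⟨i, hi, hmi⟩ := (Ideal.subset_union_prime_finite hfin (f := id) (m ^ 2) (m ^ 2)
    (fun i hi h1 _ => by
      rcases hi with rfl | hi
      · exact absurd rfl h1
      · exact IsAssociatedPrime.isPrime hi)).mp hsub
  rcases hi with rfl | hi
  · have hbot : m = ⊥ := by
      have hle : m ≤ m • m := by simpa [pow_two] using hmi
      exact Submodule.eq_bot_of_le_smul_of_le_jacobson_bot m m (IsNoetherian.noetherian m) hle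
        (IsLocalRing.maximalIdeal_le_jacobson _)
    obtain ⟨P, hP⟩ := associatedPrimes.nonempty A A
    have hPp : P.IsPrime := IsAssociatedPrime.isPrime hP
    have : P = m := by
      apply le_antisymm (IsLocalRing.le_maximalIdeal hPp.ne_top)
      rw [hm.symm, hbot]; exact bot_le
    rwa [← this]
  · have hPp : (id i : Ideal A).IsPrime := IsAssociatedPrime.isPrime hi
    have : i = m := by
      apply le_antisymm (IsLocalRing.le_maximalIdeal hPp.ne_top) hmi
    rwa [← this]

end Groth.Agent.S5780
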