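import Groth.Statements.S5783
import Groth.Agent.Lib.Helper77.MiracleFlat
import Groth.Agent.Lib.Helper77.FlatDepth4
import Groth.Agent.Lib.Helper77.RegularCM
import Groth.Agent.Lib.Helper73.DimFT.Basic

set_option autoImplicit false
universe u
open EGA41

namespace Groth.Agent.S5783

section Aux
open IsLocalRing LocCoh

open Groth.Agent.Lib.Helper77.FlatDepth

theorem main (A B : Type u) [CommRing A] [CommRing B]
    [IsRegularLocalRing A] [IsLocalRing B] [Algebra A B] [IsLocalHom (algebraMap A B)] [Module.Finite A B] :
    Module.Free A B ↔ LocCoh.IsCohenMacaulayLocalRing B ∧ Function.Injective (algebraMap A B) := by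
  have hNB : IsNoetherianRing B := IsNoetherianRing.of_finite A B
  have hF0 : ringKrullDim (B ⧸ (maximalIdeal A).map (algebraMap A B)) = 0 :=
    dim_fib_zero_of_finite A B
  have hFCM : IsCohenMacaulayLocalRing (B ⧸ (maximalIdeal A).map (algebraMap A B)) :=
    isCM_of_dim_zero _ hF0
  have hACM : IsCohenMacaulayLocalRing A :=
    Groth.Agent.Lib.Helper77.RegularCM.isCohenMacaulayLocalRing A
  constructor
  · intro hfree
    have hflat : Module.Flat A B := inferInstance
    refine ⟨(isCM_iff A B).mpr ⟨hACM, hFCM⟩, ?_⟩
    exact FaithfulSMul.algebraMap_injective A B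
  · rintro ⟨hCM, hinj⟩
    have hint : Algebra.IsIntegral A B := Algebra.IsIntegral.of_finite A B
    have hdim : ringKrullDim B = ringKrullDim A :=
      Groth.Agent.Lib.Helper73.ringKrullDim_eq_of_isIntegral_of_injective hinj
    have hflat : Module.Flat A B := by
      apply Groth.Agent.Lib.Helper77.MiracleFlat.miracle_flatness
      rw [hF0, add_zero, hdim]
    exact Module.free_of_flat_of_isLocalRing


end Aux

/-- Let A be a regular local ring, B a local ring and ρ : A → B a local homomorphism making B a finitely
generated A-module. Then B is a free A-module if and only if B is a Cohen-Macaulay ring and ρ is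
injective (the latter being equivalent to dim(B) = dim(A)). -/
theorem result (A B : Type u) [CommRing A] [CommRing B]
    [IsRegularLocalRing A] [IsLocalRing B] [Algebra A B] [IsLocalHom (algebraMap A B)] [Module.Finite A B] :
    Module.Free A B ↔ LocCoh.IsCohenMacaulayLocalRing B ∧ Function.Injective (algebraMap A B) := by
  exact main A B

end Groth.Agent.S5783
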