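import Groth.Statements.S5787
import Mathlib

set_option autoImplicit false
universe u
open CategoryTheory
open EGA41

namespace Groth.Agent.S5787

open CategoryTheory.Abelian IsLocalRing

section
variable (A : Type u) [CommRing A] [IsLocalRing A]

theorem mem_annihilator_residueField (x : A) (hx : x ∈ maximalIdeal A) :
    x ∈ Module.annihilator A (ResidueField A) := by
  rw [Module.mem_annihilator]
  intro c
  obtain ⟨a, rfl⟩ := IsLocalRing.residue_surjective c
  rw [Algebra.smul_def]
  change residue A x * residue A a = 0
  rw [(IsLocalRing.residue_eq_zero_iff x).mpr hx, zero_mul]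

theorem main : ∀ (xs : List A) (M : Type u) [AddCommGroup M] [Module A M],
    (∀ x ∈ xs, x ∈ maximalIdeal A) → RingTheory.Sequence.IsWeaklyRegular M xs →
    (∀ i < xs.length, ∀ e : Ext (ModuleCat.of A (ResidueField A)) (ModuleCat.of A M) i, e = 0) ∧
    Nonempty ((ResidueField A →ₗ[A] (M ⧸ (Ideal.ofList xs • (⊤ : Submodule A M)))) ≃+
      Ext (ModuleCat.of A (ResidueField A)) (ModuleCat.of A M) xs.length) := by
  intro xs
  induction xs with
  | nil =>
    intro M _ _ _ _
    refine ⟨fun i hi => absurd hi (by simp), ?_⟩
    have hbot : (Ideal.ofList ([] : List A) • (⊤ : Submodule A M)) = ⊥ := by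
      rw [Ideal.ofList_nil, Submodule.bot_smul]
    let e1 : (M ⧸ (Ideal.ofList ([] : List A) • (⊤ : Submodule A M))) ≃ₗ[A] M :=
      Submodule.quotEquivOfEqBot _ hbot
    let e2 : (ResidueField A →ₗ[A] (M ⧸ (Ideal.ofList ([] : List A) • (⊤ : Submodule A M)))) ≃+
        (ResidueField A →ₗ[A] M) := (LinearEquiv.congrRight e1).toAddEquiv
    let e3 : (ResidueField A →ₗ[A] M) ≃+
        (ModuleCat.of A (ResidueField A) ⟶ ModuleCat.of A M) :=
      (ModuleCat.homAddEquiv (M := ModuleCat.of A (ResidueField A)) (N := ModuleCat.of A M)).symm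
    exact ⟨(e2.trans e3).trans Ext.addEquiv₀.symm⟩
  | cons x xs ih =>
    intro M _ _ hmem hreg
    obtain ⟨hx, hrs⟩ := (RingTheory.Sequence.isWeaklyRegular_cons_iff M x xs).mp hreg
    have hxm : x ∈ maximalIdeal A := hmem x List.mem_cons_self
    have hmem' : ∀ y ∈ xs, y ∈ maximalIdeal A := fun y hy => hmem y (List.mem_cons_of_mem _ hy)
    obtain ⟨ih1, ⟨ih2⟩⟩ := ih (QuotSMulTop x M) hmem' hrs
    have hxk := mem_annihilator_residueField A x hxm
    have hS : ((ModuleCat.of A M).smulShortComplex x).ShortExact :=
      IsSMulRegular.smulShortComplex_shortExact (M := ModuleCat.of A M) hx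
    have hzero : ∀ (n : ℕ) (y : Ext (ModuleCat.of A (ResidueField A)) (ModuleCat.of A M) n),
        y.comp (Ext.mk₀ ((ModuleCat.of A M).smulShortComplex x).f) (add_zero n) = 0 := by
      intro n y
      have h := Ext.postcomp_smul_id_eq_zero_of_mem_annihilator (M := ModuleCat.of A M)
        (N := ModuleCat.of A (ResidueField A)) hxk n
      have h2 := ConcreteCategory.congr_hom h y
      exact h2
    constructor
    · intro i hi e
      match i, e with
      | 0, e =>
        apply Ext.addEquiv₀.injective
        rw [map_zero]
        ext c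
        apply hx
        change x • (Ext.addEquiv₀ e).hom c = x • (0 : M)
        rw [smul_zero, ← map_smul, Module.mem_annihilator.mp hxk c, map_zero]
      | j + 1, e =>
        obtain ⟨e3, he3⟩ := Ext.covariant_sequence_exact₁ _ hS e (hzero _ e) (n₀ := j) rfl
        have : e3 = 0 := ih1 j (by simpa using hi) e3
        rw [← he3, this]
        exact Ext.zero_comp _ _ _ _ _
    · let δ : Ext (ModuleCat.of A (ResidueField A)) (ModuleCat.of A (QuotSMulTop x M)) xs.length →+
          Ext (ModuleCat.of A (ResidueField A)) (ModuleCat.of A M) (xs.length + 1) :=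
        hS.extClass.postcomp (ModuleCat.of A (ResidueField A)) rfl
      have hδ : ∀ e, δ e = e.comp hS.extClass rfl := fun e => rfl
      have hbij : Function.Bijective δ := by
        constructor
        · rw [injective_iff_map_eq_zero]
          intro e he
          rw [hδ] at he
          obtain ⟨e2, he2⟩ := Ext.covariant_sequence_exact₃ _ hS e rfl he
          have hxs : xs.length < (x :: xs).length := by simp
          -- Ext^{n-1}(k, M) vanishes
          have hv : ∀ i < xs.length + 1,
              ∀ e : Ext (ModuleCat.of A (ResidueField A)) (ModuleCat.of A M) i, e = 0 := by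
            intro i hi e
            match i, e with
            | 0, e =>
              apply Ext.addEquiv₀.injective
              rw [map_zero]
              ext c
              apply hx
              change x • (Ext.addEquiv₀ e).hom c = x • (0 : M)
              rw [smul_zero, ← map_smul, Module.mem_annihilator.mp hxk c, map_zero]
            | j + 1, e =>
              obtain ⟨e3, he3⟩ := Ext.covariant_sequence_exact₁ _ hS e (hzero _ e) (n₀ := j) rfl
              have : e3 = 0 := ih1 j (by omega) e3
              rw [← he3, this]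
              exact Ext.zero_comp _ _ _ _ _
          have : e2 = 0 := hv xs.length (by omega) e2
          rw [← he2, this]
          exact Ext.zero_comp _ _ _ _ _
        · intro y
          obtain ⟨e3, he3⟩ := Ext.covariant_sequence_exact₁ _ hS y (hzero _ y) (n₀ := xs.length) rfl
          exact ⟨e3, he3⟩
      let e1 : (M ⧸ (Ideal.ofList (x :: xs) • (⊤ : Submodule A M))) ≃ₗ[A]
          QuotSMulTop x M ⧸ (Ideal.ofList xs • ⊤ : Submodule A (QuotSMulTop x M)) :=
        Submodule.quotOfListConsSMulTopEquivQuotSMulTopInner M x xs
      let e2 : (ResidueField A →ₗ[A] (M ⧸ (Ideal.ofList (x :: xs) • (⊤ : Submodule A M)))) ≃+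
          (ResidueField A →ₗ[A]
            (QuotSMulTop x M ⧸ (Ideal.ofList xs • ⊤ : Submodule A (QuotSMulTop x M)))) :=
        (LinearEquiv.congrRight e1).toAddEquiv
      exact ⟨(e2.trans ih2).trans (AddEquiv.ofBijective δ hbij)⟩

end

/-- Let A be a Noetherian local ring with maximal ideal m and residue field k, M an A-module and
(x_i)_{1 ≤ i ≤ n} an M-regular sequence of elements of m. Then Hom_A(k, M/(x_1 M + ... + x_n M)) and
Ext^n_A(k, M) are isomorphic (existence of an isomorphism; stated for the underlying abelian
groups). -/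
theorem result (A : Type u) [CommRing A] [IsLocalRing A]
    [IsNoetherianRing A] (M : Type u) [AddCommGroup M] [Module A M] (xs : List A)
    (hxs : ∀ x ∈ xs, x ∈ IsLocalRing.maximalIdeal A) (hreg : RingTheory.Sequence.IsWeaklyRegular M xs) :
    Nonempty ((IsLocalRing.ResidueField A →ₗ[A] (M ⧸ (Ideal.ofList xs • (⊤ : Submodule A M)))) ≃+
      Abelian.Ext (ModuleCat.of A (IsLocalRing.ResidueField A)) (ModuleCat.of A M) xs.length) := by
  exact (main A xs M hxs hreg).2

end Groth.Agent.S5787
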