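import Groth.Statements.S5789
import Mathlib.RingTheory.Regular.ProjectiveDimension
import Mathlib.RingTheory.Ideal.AssociatedPrime.Finiteness

set_option autoImplicit false
universe u
open CategoryTheory
open EGA41

namespace Groth.Agent.S5789

open CategoryTheory Abelian in
theorem ext_subsingleton_of_finite (A : Type u) [CommRing A] [IsNoetherianRing A]
    (M : ModuleCat.{u} A) (k : ℕ)
    (h : ∀ I : Ideal A, Subsingleton (Ext M (ModuleCat.of A (A ⧸ I)) k))
    (N : Type u) [AddCommGroup N] [Module A N] [hN : Module.Finite A N] :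
    Subsingleton (Ext M (ModuleCat.of A N) k) := by
  induction hN using IsNoetherianRing.induction_on_isQuotientEquivQuotientPrime A with
  | subsingleton N =>
    refine ⟨fun x y => ?_⟩
    have hz : Limits.IsZero (ModuleCat.of A N) := ModuleCat.isZero_of_subsingleton _
    have hx : ∀ z : Ext M (ModuleCat.of A N) k, z = 0 := fun z => by
      rw [← z.comp_mk₀_id, hz.eq_zero_of_tgt (𝟙 _), Ext.mk₀_zero, Ext.comp_zero]
    rw [hx x, hx y]
  | quotient N p f =>
    have := h p.1
    refine ⟨fun x y => ?_⟩
    let e : ModuleCat.of A N ≅ ModuleCat.of A (A ⧸ p.1) := f.toModuleIso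
    have hx : ∀ z : Ext M (ModuleCat.of A N) k, z = 0 := fun z => by
      rw [← z.comp_mk₀_id, ← e.hom_inv_id, ← Ext.mk₀_comp_mk₀, ← Ext.comp_assoc_of_second_deg_zero,
        Subsingleton.elim (z.comp (Ext.mk₀ e.hom) (add_zero k)) 0, Ext.zero_comp]
    rw [hx x, hx y]
  | exact N₁ N₂ N₃ f g hf hg hfg h₁ h₃ =>
    refine ⟨fun x y => ?_⟩
    let S : ShortComplex (ModuleCat.{u} A) :=
      ModuleCat.shortComplexOfCompEqZero f g (by ext x; exact hfg.apply_apply_eq_zero x)
    have hS : S.ShortExact := ModuleCat.shortComplex_shortExact S hfg hf hg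
    have hx : ∀ z : Ext M (ModuleCat.of A N₂) k, z = 0 := fun z => by
      obtain ⟨x₁, hx₁⟩ := Ext.covariant_sequence_exact₂ M hS z (Subsingleton.elim _ _)
      rw [← hx₁, Subsingleton.elim x₁ 0, Ext.zero_comp]
    rw [hx x, hx y]

/-- Let A be a Noetherian ring, M a finitely generated A-module and n ≥ 0. Then M has projective
dimension at most n if and only if Ext^(n+1)_A(M, N) = 0 for every monogenous A-module N, i.e. every
N = A/I with I an ideal. -/
theorem result (A : Type u) [CommRing A] [IsNoetherianRing A]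
    (M : Type u) [AddCommGroup M] [Module A M] [Module.Finite A M] (n : ℕ) :
    HasProjectiveDimensionLT (ModuleCat.of A M) (n + 1) ↔
      ∀ I : Ideal A, Subsingleton (Abelian.Ext (ModuleCat.of A M) (ModuleCat.of A (A ⧸ I)) (n + 1)) := by
  constructor
  · intro h I
    exact HasProjectiveDimensionLT.subsingleton _ (n + 1) (n + 1) le_rfl _
  · intro h
    apply ModuleCat.hasProjectiveDimensionLT_of_forall_finite
    intro L hL
    exact ext_subsingleton_of_finite A (ModuleCat.of A M) (n + 1) h L

end Groth.Agent.S5789
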