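import Groth.Statements.S5791
import Mathlib.RingTheory.LocalProperties.ProjectiveDimension

set_option autoImplicit false
universe u
open CategoryTheory
open EGA41

namespace Groth.Agent.S5791

/-- Let A be a Noetherian ring and M a finitely generated A-module. The projective dimension of M is the
supremum over the prime ideals p of the projective dimensions of M_p over A_p; equivalently, for
every n, M has projective dimension at most n if and only if every M_p has projective dimension at
most n over A_p. -/
theorem result (A : Type u) [CommRing A] [IsNoetherianRing A]
    (M : Type u) [AddCommGroup M] [Module A M] [Module.Finite A M] (n : ℕ) :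
    HasProjectiveDimensionLT (ModuleCat.of A M) (n + 1) ↔
      ∀ p : PrimeSpectrum A, HasProjectiveDimensionLT
        (ModuleCat.of (Localization.AtPrime p.asIdeal) (LocalizedModule p.asIdeal.primeCompl M)) (n + 1) := by
  have key := ModuleCat.hasProjectiveDimensionLE_iff_forall_primeSpectrum.{u, u} n (ModuleCat.of A M)
  have iso : ∀ p : PrimeSpectrum A,
      (ModuleCat.of A M).localizedModule p.1.primeCompl ≅
        ModuleCat.of (Localization.AtPrime p.asIdeal) (LocalizedModule p.asIdeal.primeCompl M) :=
    fun p => (Shrink.linearEquiv.{u} (Localization.AtPrime p.asIdeal)
      (LocalizedModule p.asIdeal.primeCompl M)).toModuleIso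
  constructor
  · intro h p
    have h' : HasProjectiveDimensionLE (ModuleCat.of A M) n := h
    have := key.mp h' p
    exact hasProjectiveDimensionLT_of_iso (iso p) (n + 1)
  · intro h
    refine key.mpr fun p => ?_
    have := h p
    exact hasProjectiveDimensionLT_of_iso (iso p).symm (n + 1)

end Groth.Agent.S5791
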