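import Groth.Statements.S5795
import Groth.Agent.Lib.Helper84.TopDim

set_option autoImplicit false
universe u
open TopDim

namespace Groth.Agent.S5795

/-- Let X be a Noetherian Kolmogoroff space and x a point of X. Then x is isolated in X if and only if
dim_x(X) = 0. -/
theorem result (X : Type u) [TopologicalSpace X]
    [TopologicalSpace.NoetherianSpace X] [T0Space X] (x : X) :
    IsOpen ({x} : Set X) ↔ FlatMor.localDim X x = 0 := by
  constructor
  · intro hx
    apply le_antisymm
    · unfold FlatMor.localDim
      refine (iInf_le _ ⟨⟨{x}, hx⟩, rfl⟩).trans ?_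
      haveI : Nonempty (({x} : Set X)) := ⟨⟨x, rfl⟩⟩
      exact (Groth.Agent.Lib.Helper84.dim_eq_zero_of_discrete
        (X := (({x} : Set X)))).le
    · unfold FlatMor.localDim
      refine le_iInf fun U => ?_
      haveI : Nonempty ((U.1 : Set X)) := ⟨⟨x, U.2⟩⟩
      exact Groth.Agent.Lib.Helper84.dim_nonneg_of_nonempty
  · intro h
    have h1 : FlatMor.localDim X x < 1 := by rw [h]; exact zero_lt_one
    unfold FlatMor.localDim at h1
    obtain ⟨U, hU⟩ := iInf_lt_iff.1 h1
    have hU0 : topologicalKrullDim (U.1 : Set X) ≤ 0 := by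
      have h2 := (Order.krullDim_lt_coe_iff (n := 1)).1 (by exact_mod_cast hU)
      unfold topologicalKrullDim Order.krullDim
      refine iSup_le fun p => ?_
      have := h2 p
      have h3 : p.length = 0 := by omega
      rw [h3]
      rfl
    obtain ⟨_, hd⟩ := Groth.Agent.Lib.Helper84.finite_discrete_of_dim_le_zero hU0
    have hopen : IsOpen ({⟨x, U.2⟩} : Set (U.1 : Set X)) := isOpen_discrete _
    have := U.1.isOpen.isOpenMap_subtype_val _ hopen
    simpa using this

end Groth.Agent.S5795
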