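import Groth.Statements.S5797
import Groth.Agent.Lib.Helper84.TopDim

set_option autoImplicit false
universe u
open TopDim

namespace Groth.Agent.S5797

/-- If a topological space X is a finite union of closed subsets X_i, then dim(X) = sup_i dim(X_i)
(combinatorial dimensions). -/
theorem result (X : Type u) [TopologicalSpace X] (ι : Type u)
    [Finite ι] (Y : ι → Set X) (hY : ∀ i, IsClosed (Y i)) (hcov : ⋃ i, Y i = Set.univ) :
    topologicalKrullDim X = ⨆ i, topologicalKrullDim (Y i) := by
  apply le_antisymm
  · unfold topologicalKrullDim Order.krullDim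
    refine iSup_le fun p => ?_
    obtain ⟨i, -, hi⟩ := Groth.Agent.Lib.Helper84.exists_subset_of_finite_closed_cover
      (Set.univ : Set ι) Set.finite_univ Y (fun i _ => hY i) (p.last : Set X)
      p.last.isIrreducible (by
        intro x _
        have : x ∈ ⋃ i, Y i := by rw [hcov]; trivial
        obtain ⟨i, hi⟩ := Set.mem_iUnion.1 this
        exact Set.mem_iUnion₂.2 ⟨i, trivial, hi⟩)
    exact (Groth.Agent.Lib.Helper84.length_le_dim_of_subset (Y i) p hi).trans
      (le_iSup (fun i => topologicalKrullDim (Y i)) i)
  · exact iSup_le fun i => topologicalKrullDim_subspace_le X _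

end Groth.Agent.S5797
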