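import Groth.Statements.S5798
import Groth.Agent.Lib.Helper84.TopDim

set_option autoImplicit false
universe u
open TopDim

namespace Groth.Agent.S5798

/-- If (U_i) is an open covering of a topological space X, then dim(X) = sup_i dim(U_i). -/
theorem result (X : Type u) [TopologicalSpace X] (ι : Type u)
    (U : ι → TopologicalSpace.Opens X) (hcov : ⨆ i, U i = ⊤) :
    topologicalKrullDim X = ⨆ i, topologicalKrullDim (U i) := by
  apply le_antisymm
  · unfold topologicalKrullDim Order.krullDim
    refine iSup_le fun p => ?_
    obtain ⟨x, hx⟩ := p.head.isIrreducible.nonempty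
    have hxU : x ∈ (⨆ i, U i : TopologicalSpace.Opens X) := by rw [hcov]; trivial
    obtain ⟨i, hi⟩ := TopologicalSpace.Opens.mem_iSup.1 hxU
    exact (Groth.Agent.Lib.Helper84.length_le_dim_of_isOpen (U i : Set X) (U i).isOpen p
      ⟨x, hx, hi⟩).trans (le_iSup (fun i => topologicalKrullDim (U i)) i)
  · exact iSup_le fun i => topologicalKrullDim_subspace_le X _

end Groth.Agent.S5798
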