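import Groth.Statements.S5799
import Groth.Agent.Lib.Helper84.TopDim

set_option autoImplicit false
universe u
open TopDim

namespace Groth.Agent.S5799

/-- If (X_i) is a locally finite covering of a topological space X by closed subsets, then dim(X) =
sup_i dim(X_i). -/
theorem result (X : Type u) [TopologicalSpace X]
    (ι : Type u) (Y : ι → Set X) (hY : ∀ i, IsClosed (Y i)) (hlf : LocallyFinite Y) (hcov : ⋃ i, Y i = Set.univ) :
    topologicalKrullDim X = ⨆ i, topologicalKrullDim (Y i) := by
  apply le_antisymm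
  · unfold topologicalKrullDim Order.krullDim
    refine iSup_le fun p => ?_
    obtain ⟨x, hx⟩ := p.head.isIrreducible.nonempty
    obtain ⟨t, ht, hfin⟩ := hlf x
    obtain ⟨U, hUt, hUo, hxU⟩ := mem_nhds_iff.1 ht
    set F : Set ι := {i | (Y i ∩ t).Nonempty} with hF
    have hxl : x ∈ (p.last : Set X) := p.head_le_last hx
    have hsub : (p.last : Set X) ⊆ closure ((p.last : Set X) ∩ U) :=
      subset_closure_inter_of_isPreirreducible_of_isOpen p.last.isIrreducible.isPreirreducible
        hUo ⟨x, hxl, hxU⟩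
    have hcl : IsClosed (⋃ i ∈ F, Y i) := hfin.isClosed_biUnion fun i _ => hY i
    have hcov' : (p.last : Set X) ⊆ ⋃ i ∈ F, Y i := by
      refine hsub.trans (closure_minimal ?_ hcl)
      rintro y ⟨-, hyU⟩
      have : y ∈ ⋃ i, Y i := by rw [hcov]; trivial
      obtain ⟨i, hi⟩ := Set.mem_iUnion.1 this
      exact Set.mem_iUnion₂.2 ⟨i, ⟨y, hi, hUt hyU⟩, hi⟩
    obtain ⟨i, -, hi⟩ := Groth.Agent.Lib.Helper84.exists_subset_of_finite_closed_cover
      F hfin Y (fun i _ => hY i) (p.last : Set X) p.last.isIrreducible hcov'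
    exact (Groth.Agent.Lib.Helper84.length_le_dim_of_subset (Y i) p hi).trans
      (le_iSup (fun i => topologicalKrullDim (Y i)) i)
  · exact iSup_le fun i => topologicalKrullDim_subspace_le X _

end Groth.Agent.S5799
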