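import Groth.Statements.S5800
import Groth.Agent.Lib.Helper84.TopDim
import Groth.Agent.S5797

set_option autoImplicit false
universe u
open TopDim

namespace Groth.Agent.S5800

theorem dim_le_of_comp {A B X : Type*} [TopologicalSpace A] [TopologicalSpace B]
    [TopologicalSpace X] (a : A → X) (b : B → X) (g : A → B) (ha : Topology.IsInducing a)
    (hb : Topology.IsInducing b) (h : b ∘ g = a) :
    topologicalKrullDim A ≤ topologicalKrullDim B :=
  ((hb.of_comp_iff).1 (h ▸ ha)).topologicalKrullDim_le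

/-- Let X be a topological space, x a point of X and (Y_i) a finite family of closed subsets each
containing x whose union is X. Then dim_x(X) = sup_i dim_x(Y_i). (The published statement lets the
Y_i be closed subsets of a neighbourhood U of x covering U; this row is the case U = X.) -/
theorem result (X : Type u) [TopologicalSpace X] (x : X)
    (ι : Type u) [Finite ι] (Y : ι → Set X) (hY : ∀ i, IsClosed (Y i)) (hx : ∀ i, x ∈ Y i)
    (hcov : ⋃ i, Y i = Set.univ) :
    FlatMor.localDim X x = ⨆ i, FlatMor.localDim (Y i) ⟨x, hx i⟩ := by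
  classical
  apply le_antisymm
  · -- choose optimal neighbourhoods in each `Y i`
    have hatt : ∀ i, ∃ W : {W : TopologicalSpace.Opens (Y i) // (⟨x, hx i⟩ : Y i) ∈ W},
        topologicalKrullDim (W.1 : Set (Y i)) = FlatMor.localDim (Y i) ⟨x, hx i⟩ := by
      intro i
      haveI : Nonempty {W : TopologicalSpace.Opens (Y i) // (⟨x, hx i⟩ : Y i) ∈ W} :=
        ⟨⟨⊤, trivial⟩⟩
      obtain ⟨W, hW⟩ := ciInf_mem (fun W : {W : TopologicalSpace.Opens (Y i) //
        (⟨x, hx i⟩ : Y i) ∈ W} => topologicalKrullDim (W.1 : Set (Y i)))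
      exact ⟨W, hW⟩
    choose W hW using hatt
    have hV : ∀ i, ∃ V : Set X, IsOpen V ∧ (Subtype.val : Y i → X) ⁻¹' V = ((W i).1 : Set (Y i)) :=
      fun i => isOpen_induced_iff.1 (W i).1.isOpen
    choose V hVo hVW using hV
    let V₀ : TopologicalSpace.Opens X := ⟨⋂ i, V i, isOpen_iInter_of_finite hVo⟩
    have hxV₀ : x ∈ V₀ := by
      change x ∈ ⋂ i, V i
      rw [Set.mem_iInter]
      intro i
      have : (⟨x, hx i⟩ : Y i) ∈ (Subtype.val : Y i → X) ⁻¹' V i := by
        rw [hVW i]; exact (W i).2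
      exact this
    have h1 : FlatMor.localDim X x ≤ topologicalKrullDim (V₀ : Set X) := by
      unfold FlatMor.localDim
      exact iInf_le (fun U : {U : TopologicalSpace.Opens X // x ∈ U} =>
        topologicalKrullDim (U.1 : Set X)) ⟨V₀, hxV₀⟩
    refine h1.trans ?_
    let Y' : ι → Set (↥(V₀ : Set X)) := fun i => (Subtype.val : ↥(V₀ : Set X) → X) ⁻¹' (Y i)
    have hY' : ∀ i, IsClosed (Y' i) := fun i => (hY i).preimage continuous_subtype_val
    have hcov' : ⋃ i, Y' i = Set.univ := by
      simp only [Y']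
      rw [← Set.preimage_iUnion, hcov, Set.preimage_univ]
    have h2 := Groth.Agent.S5797.result (↥(V₀ : Set X)) ι Y' hY' hcov'
    rw [h2]
    refine iSup_le fun i => ?_
    refine le_trans ?_ ((hW i).le.trans (le_iSup (fun i => FlatMor.localDim (Y i) ⟨x, hx i⟩) i))
    let g : ↥(Y' i) → ↥((W i).1 : Set (Y i)) := fun v =>
      ⟨⟨v.1.1, v.2⟩, by
        have hv : v.1.1 ∈ ⋂ i, V i := v.1.2
        have : (⟨v.1.1, v.2⟩ : Y i) ∈ (Subtype.val : Y i → X) ⁻¹' V i :=
          Set.mem_iInter.1 hv i
        rw [hVW i] at this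
        exact this⟩
    exact dim_le_of_comp (X := X) (fun v => v.1.1) (fun w => w.1.1) g
      (Topology.IsInducing.subtypeVal.comp Topology.IsInducing.subtypeVal)
      (Topology.IsInducing.subtypeVal.comp Topology.IsInducing.subtypeVal) rfl
  · refine iSup_le fun i => ?_
    unfold FlatMor.localDim
    refine le_iInf fun U => ?_
    let W : {W : TopologicalSpace.Opens (Y i) // (⟨x, hx i⟩ : Y i) ∈ W} :=
      ⟨⟨(Subtype.val : Y i → X) ⁻¹' (U.1 : Set X), U.1.isOpen.preimage continuous_subtype_val⟩,
        U.2⟩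
    refine (iInf_le _ W).trans ?_
    let g : ((W.1 : TopologicalSpace.Opens (Y i)) : Set (Y i)) → (U.1 : Set X) := fun w =>
      ⟨w.1.1, w.2⟩
    exact dim_le_of_comp (X := X) (fun w => w.1.1) (fun u => u.1) g
      (Topology.IsInducing.subtypeVal.comp Topology.IsInducing.subtypeVal)
      Topology.IsInducing.subtypeVal rfl

end Groth.Agent.S5800
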