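import Groth.Statements.S5801

set_option autoImplicit false
universe u
open scoped Pointwise
open EGA41

namespace Groth.Agent.S5801

/-- Let A be a ring, M an A-module and f ∈ A, and consider the canonical surjection (M/fM)[T] → gr(M)
for the (f)-adic filtration, whose injectivity says: for all k ≥ 0 and x ∈ M, f^k x ∈ f^(k+1) M
implies x ∈ fM. If f is M-regular this map is bijective; conversely, if it is bijective and M is
separated for the (f)-adic topology (the intersection of the f^k M is zero), then f is M-regular. -/
theorem result (A : Type u) [CommRing A] (M : Type u)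
    [AddCommGroup M] [Module A M] (f : A) :
    (IsSMulRegular M f →
        ∀ (k : ℕ) (x : M), f ^ k • x ∈ f ^ (k + 1) • (⊤ : Submodule A M) → x ∈ f • (⊤ : Submodule A M)) ∧
      ((⨅ k : ℕ, f ^ k • (⊤ : Submodule A M)) = ⊥ →
        (∀ (k : ℕ) (x : M), f ^ k • x ∈ f ^ (k + 1) • (⊤ : Submodule A M) → x ∈ f • (⊤ : Submodule A M)) →
          IsSMulRegular M f) := by
  refine ⟨fun hreg k x hx => ?_, fun hsep hgr => ?_⟩
  · rw [Submodule.mem_smul_pointwise_iff_exists] at hx ⊢
    obtain ⟨y, -, hy⟩ := hx
    refine ⟨y, trivial, ?_⟩
    have hk : IsSMulRegular M (f ^ k) := hreg.pow k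
    apply hk
    simp only
    rw [← hy, pow_succ, mul_smul]
  · have key : ∀ x : M, f • x = 0 → ∀ k : ℕ, x ∈ f ^ k • (⊤ : Submodule A M) := by
      intro x hx k
      induction k with
      | zero => simp
      | succ k ih =>
        rw [Submodule.mem_smul_pointwise_iff_exists] at ih ⊢
        obtain ⟨y, -, hy⟩ := ih
        have h1 : f ^ (k + 1) • y ∈ f ^ (k + 1 + 1) • (⊤ : Submodule A M) := by
          have : f ^ (k + 1) • y = 0 := by
            rw [pow_succ', mul_smul, hy, hx]
          rw [this]
          exact Submodule.zero_mem _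
        have h2 := hgr (k + 1) y h1
        rw [Submodule.mem_smul_pointwise_iff_exists] at h2
        obtain ⟨z, -, hz⟩ := h2
        refine ⟨z, trivial, ?_⟩
        rw [pow_succ, mul_smul, hz, hy]
    rw [isSMulRegular_iff_right_eq_zero_of_smul]
    intro x hx
    have : x ∈ (⨅ k : ℕ, f ^ k • (⊤ : Submodule A M)) := by
      rw [Submodule.mem_iInf]
      exact key x hx
    rw [hsep] at this
    simpa using this

end Groth.Agent.S5801
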