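import Groth.Statements.S5807
import Mathlib.RingTheory.RegularLocalRing.Polynomial
import Mathlib.RingTheory.Localization.LocalizationLocalization
import Mathlib.RingTheory.Localization.Defs
-- import your own Groth.Agent.* helpers here

set_option autoImplicit false
universe u
open EGA41

namespace Groth.Agent.S5807


theorem isRegularRing_localization (P : Type u) [CommRing P] [IsRegularRing P] (M : Submonoid P) :
    IsRegularRing (Localization M) := by
  have : IsNoetherianRing (Localization M) := IsLocalization.isNoetherianRing M _ inferInstance
  rw [isRegularRing_iff]
  intro p hp
  have h := IsRegularRing.isRegularLocalRing_localization (R := P)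
    (p.comap (algebraMap P (Localization M)))
  exact IsRegularLocalRing.of_ringEquiv
    (IsLocalization.localizationLocalizationAtPrimeIsoLocalization M p).toRingEquiv

/-- Let A be a Noetherian ring which is a quotient of a regular ring B, and C an A-algebra of finite
type. Then every ring of fractions of C is a quotient of a regular ring. -/
theorem result (B A C : Type u) [CommRing B]
    [IsRegularRing B] [CommRing A] (π : B →+* A) (hπ : Function.Surjective π) [CommRing C] [Algebra A C]
    [Algebra.FiniteType A C] (S : Submonoid C) :
    ∃ (R : Type u) (_ : CommRing R) (_ : IsRegularRing R) (f : R →+* Localization S),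
      Function.Surjective f := by
  classical
  obtain ⟨n, ψ, hψ⟩ := Algebra.FiniteType.iff_quotient_mvPolynomial''.mp
    (inferInstance : Algebra.FiniteType A C)
  let φ₁ : MvPolynomial (Fin n) B →+* MvPolynomial (Fin n) A := MvPolynomial.map π
  have hφ₁ : Function.Surjective φ₁ := MvPolynomial.map_surjective π hπ
  let φ : MvPolynomial (Fin n) B →+* C := (ψ : MvPolynomial (Fin n) A →+* C).comp φ₁
  have hφ : Function.Surjective φ := hψ.comp hφ₁
  let M := S.comap φ
  have hM : M.map φ = S := Submonoid.map_comap_eq_of_surjective hφ S
  haveI : IsLocalization (M.map φ) (Localization S) := by rw [hM]; infer_instance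
  exact ⟨Localization M, inferInstance, isRegularRing_localization _ M,
    IsLocalization.map (Localization S) φ M.le_comap_map,
    IsLocalization.map_surjective_of_surjective M (Localization M) (Localization S) hφ⟩

end Groth.Agent.S5807
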