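import Groth.Statements.S5808
import Mathlib
import Groth.Agent.Lib.Helper90.ParamIdeal

set_option autoImplicit false
universe u
open EGA41
open Groth.Agent.Lib.Helper90

namespace Groth.Agent.S5808

/-- Let A be a semi-local Noetherian ring with spectrum X and Jacobson radical r, and a an ideal of A
distinct from A with codim(V(a), X) = h > 0 (h is the height of a). Then there exist h elements x_1,
..., x_h of a which are part of a system of parameters of A (so lie in r and can be completed by
elements of r to dim(A) elements generating an ideal modulo which A has finite length) and such that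
codim(V(a), V(x_1 A + ... + x_h A)) = 0, i.e. the image of a in A/(x_1 A + ... + x_h A) has height
0. -/
theorem result (A : Type u) [CommRing A] [IsNoetherianRing A]
    [Finite (MaximalSpectrum A)] (a : Ideal A) (ha : a ≠ ⊤) (h : ℕ) (hh : a.height = h) (hpos : 0 < h) :
    ∃ x : Fin h → A, (∀ i, x i ∈ a) ∧ (∀ i, x i ∈ Ring.jacobson A) ∧
      (∃ ys : List A, (∀ y ∈ ys, y ∈ Ring.jacobson A) ∧
        (((h + ys.length : ℕ) : ℕ∞) : WithBot ℕ∞) = ringKrullDim A ∧
        IsFiniteLength A (A ⧸ (Ideal.span (Set.range x) ⊔ Ideal.ofList ys))) ∧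
      (a.map (Ideal.Quotient.mk (Ideal.span (Set.range x)))).height = 0 := by
  classical
  obtain ⟨x, hxa, hxr, hdim, hht⟩ := ParamIdeal.exists_seq a ha h hh h le_rfl
  set I := Ideal.span (Set.range x) with hI
  have hIa : I ≤ a := Ideal.span_le.mpr (by rintro _ ⟨j, rfl⟩; exact hxa j)
  have hItop : I ≠ ⊤ := fun ht => ha (top_le_iff.mp (ht ▸ hIa))
  refine ⟨x, hxa, hxr, ?_, ?_⟩
  · -- part of a system of parameters
    have hntA : Nontrivial A := by
      by_contra hc
      rw [not_nontrivial_iff_subsingleton] at hc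
      exact ha (Subsingleton.elim _ _)
    have hnt : Nontrivial (A ⧸ I) := Ideal.Quotient.nontrivial_iff.mpr hItop
    obtain ⟨s, hs, hcard⟩ := ParamIdeal.exists_finset_range x
    have hge : ringKrullDim A ≤ ringKrullDim (A ⧸ I) + s.card := by
      have := ringKrullDim_le_ringKrullDim_quotient_add_card s
        (by rw [hs]; rintro _ ⟨j, rfl⟩; exact hxr j)
      rwa [hs] at this
    obtain ⟨D, hD⟩ := DimQuot.exists_supportDim_eq_nat (A := A) A
    rw [Module.supportDim_self_eq_ringKrullDim] at hD
    obtain ⟨e, he⟩ := DimQuot.exists_supportDim_eq_nat (A := A) (A ⧸ I)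
    have he' : ringKrullDim (A ⧸ I) = e := by
      rw [← Module.supportDim_quotient_eq_ringKrullDim]; exact he
    rw [he', hD] at hge hdim
    have h1 : e + h ≤ D := by exact_mod_cast hdim
    have h2 : D ≤ e + s.card := by exact_mod_cast hge
    have hDe : D = e + h := by omega
    obtain ⟨n, hn, y, hy, hfl⟩ := DimParam.exists_params (A := A) e (M := A ⧸ I) he.le
    have hen : e ≤ n := by
      have := DimParam.supportDim_le_of_isFiniteLength_quot n y hy hfl
      rw [he] at this
      exact_mod_cast this
    have hne : n = e := le_antisymm hn hen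
    subst hne
    refine ⟨List.ofFn y, ?_, ?_, ?_⟩
    · intro z hz
      obtain ⟨i, rfl⟩ := (List.mem_ofFn' y z).mp hz
      exact hy i
    · rw [List.length_ofFn, hD, hDe, add_comm]
      rfl
    · rw [DimQuot.ofList_ofFn]
      set J := Ideal.span (Set.range y) with hJ
      let g : (A ⧸ I) →ₗ[A] (A ⧸ (I ⊔ J)) :=
        Submodule.mapQ I (I ⊔ J) LinearMap.id (by
          intro z hz
          exact Ideal.mem_sup_left hz)
      have hg : Function.Surjective g := by
        intro z
        obtain ⟨b, rfl⟩ := Submodule.Quotient.mk_surjective _ z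
        exact ⟨Submodule.Quotient.mk b, rfl⟩
      have hkill : ∀ c ∈ J, ∀ z : A ⧸ (I ⊔ J), c • z = 0 := by
        intro c hc z
        obtain ⟨b, rfl⟩ := Submodule.Quotient.mk_surjective _ z
        rw [← Submodule.Quotient.mk_smul, Submodule.Quotient.mk_eq_zero]
        exact Ideal.mul_mem_right b _ (Ideal.mem_sup_right hc)
      exact hfl.of_surjective (DimParam.liftQuot_surjective J g hkill hg)
  · -- the image of `a` has height zero
    obtain ⟨P, hPp, haP, hPh⟩ := Ideal.exists_isPrime_height_eq hh
    have hIP : I ≤ P := hIa.trans haP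
    have hPmin : P ∈ I.minimalPrimes := by
      refine ⟨⟨hPp, hIP⟩, ?_⟩
      rintro q ⟨hqp, hIq⟩ hqP
      by_contra hPq
      have hlt : q < P := lt_of_le_not_ge hqP hPq
      obtain ⟨q', hq', hq'q⟩ := Ideal.exists_minimalPrimes_le hIq
      have hq'p : q'.IsPrime := hq'.1.1
      have hq'lt : q' < P := lt_of_le_of_lt hq'q hlt
      have hq'max : ¬ q'.IsMaximal := fun hm =>
        absurd (hm.eq_of_le hPp.ne_top hq'lt.le) (ne_of_lt hq'lt)
      have h2 := hht q' hq' hq'max
      have h3 := Ideal.height_add_one_le_of_lt_of_isPrime hq'lt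
      rw [hPh] at h3
      have h4 : ((h + 1 : ℕ) : ℕ∞) ≤ (h : ℕ∞) := by
        calc ((h + 1 : ℕ) : ℕ∞) = (h : ℕ∞) + 1 := by push_cast; rfl
          _ ≤ q'.height + 1 := by gcongr
          _ ≤ h := h3
      have : h + 1 ≤ h := by exact_mod_cast h4
      omega
    rw [Ideal.minimalPrimes_eq_comap] at hPmin
    obtain ⟨Q, hQ, hQP⟩ := hPmin
    have hQp : Q.IsPrime := hQ.1.1
    have hQ0 : Q.height = 0 := Ideal.height_eq_zero_iff.mpr hQ
    have hle : a.map (Ideal.Quotient.mk I) ≤ Q := by
      rw [Ideal.map_le_iff_le_comap, hQP]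
      exact haP
    exact le_antisymm (hQ0 ▸ Ideal.height_mono hle) zero_le

end Groth.Agent.S5808
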