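import Groth.Statements.S5809
import Groth.Agent.Lib.Helper68.TorMod
import Mathlib.RingTheory.LocalRing.Module
import Mathlib.RingTheory.Finiteness.Cardinality

set_option autoImplicit false
universe u
open CategoryTheory
open EGA41

namespace Groth.Agent.S5809


section aux

open Groth.Agent.Lib.Helper68 Groth.Agent.Lib.Helper68.TorMod

variable (A : Type u) [CommRing A] [IsLocalRing A] [IsNoetherianRing A]

lemma part1 (n : ℕ) : ∀ (M : Type u) [AddCommGroup M] [Module A M] [Module.Finite A M],
    HasProjectiveDimensionLT (ModuleCat.of A M) (n + 1) →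
      ∀ i : ℕ, n < i → Limits.IsZero (((Tor (ModuleCat.{u} A) i).obj
          (ModuleCat.of A (IsLocalRing.ResidueField A))).obj (ModuleCat.of A M)) := by
  induction n with
  | zero =>
    intro M _ _ _ h i hi
    have hp : Projective (ModuleCat.of A M) := projective_iff_hasProjectiveDimensionLT_one.2 h
    haveI : Module.Projective A M := (IsProjective.iff_projective M).2 hp
    obtain ⟨j, rfl⟩ : ∃ j, i = j + 1 := ⟨i - 1, by omega⟩
    exact isZero_tor_succ_of_projective _ M j
  | succ n ih =>
    intro M _ _ _ h i hi
    obtain ⟨m, g, hg⟩ := Module.Finite.exists_fin' A M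
    have hex : Function.Exact (LinearMap.ker g).subtype g := LinearMap.exact_subtype_ker_map g
    have hS := sc_shortExact (LinearMap.ker g).subtype g hex (Submodule.injective_subtype _) hg
    have hproj : Projective (sc (LinearMap.ker g).subtype g hex).X₂ :=
      (IsProjective.iff_projective (Fin m → A)).1 inferInstance
    have hK : HasProjectiveDimensionLT (ModuleCat.of A (LinearMap.ker g)) (n + 1) :=
      (hS.hasProjectiveDimensionLT_X₃_iff n hproj).1 h
    obtain ⟨j, rfl⟩ : ∃ j, i = j + 2 := ⟨i - 2, by omega⟩
    exact isZero_tor_succ_succ _ (LinearMap.ker g).subtype g hex (Submodule.injective_subtype _) hg j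
      (isZero_tor_succ_of_projective _ (Fin m → A) (j + 1))
      (ih (LinearMap.ker g) hK (j + 1) (by omega))

lemma part2 (n : ℕ) : ∀ (M : Type u) [AddCommGroup M] [Module A M] [Module.Finite A M],
    Limits.IsZero (((Tor (ModuleCat.{u} A) (n + 1)).obj
          (ModuleCat.of A (IsLocalRing.ResidueField A))).obj (ModuleCat.of A M)) →
      HasProjectiveDimensionLT (ModuleCat.of A M) (n + 1) := by
  induction n with
  | zero =>
    intro M _ _ _ h
    obtain ⟨m, g, hg⟩ := Module.Finite.exists_fin' A M
    have hex : Function.Exact (LinearMap.ker g).subtype g := LinearMap.exact_subtype_ker_map g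
    obtain ⟨e⟩ := tor_one_linearEquiv_ker (ModuleCat.of A (IsLocalRing.ResidueField A))
      (LinearMap.ker g).subtype g hex (Submodule.injective_subtype _) hg
      (isZero_tor_succ_of_projective _ (Fin m → A) 0)
    have hsub := ModuleCat.subsingleton_of_isZero h
    have hinj : Function.Injective
        ((LinearMap.ker g).subtype.lTensor (IsLocalRing.ResidueField A)) := by
      rw [← LinearMap.ker_eq_bot, eq_bot_iff]
      intro x hx
      have h1 : e.symm ⟨x, hx⟩ = 0 := Subsingleton.elim _ _
      have h2 : (⟨x, hx⟩ : LinearMap.ker
          ((LinearMap.ker g).subtype.lTensor (IsLocalRing.ResidueField A))) = 0 := by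
        rw [← e.apply_symm_apply ⟨x, hx⟩, h1, map_zero]
      exact congrArg Subtype.val h2
    haveI : Module.Free A M :=
      Module.free_of_lTensor_residueField_injective (LinearMap.ker g).subtype g hg hex hinj
    have hp : Projective (ModuleCat.of A M) := (IsProjective.iff_projective M).1 inferInstance
    exact projective_iff_hasProjectiveDimensionLT_one.1 hp
  | succ n ih =>
    intro M _ _ _ h
    obtain ⟨m, g, hg⟩ := Module.Finite.exists_fin' A M
    have hex : Function.Exact (LinearMap.ker g).subtype g := LinearMap.exact_subtype_ker_map g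
    have hS := sc_shortExact (LinearMap.ker g).subtype g hex (Submodule.injective_subtype _) hg
    have hproj : Projective (sc (LinearMap.ker g).subtype g hex).X₂ :=
      (IsProjective.iff_projective (Fin m → A)).1 inferInstance
    refine (hS.hasProjectiveDimensionLT_X₃_iff n hproj).2 ?_
    apply ih (LinearMap.ker g)
    exact LeftDerivedLES.isZero_left (tF (ModuleCat.of A (IsLocalRing.ResidueField A))) hS (n + 1) h
      (isZero_tor_succ_of_projective _ (Fin m → A) n)

end aux

/-- Let A be a Noetherian local ring with residue field k, M a finitely generated A-module and n ≥ 0.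
For M to have projective dimension at most n it is necessary that Tor^A_i(M, k) = 0 for all i > n,
and it suffices that Tor^A_(n+1)(M, k) = 0. (Tor is written here as the left derived functors of k ⊗
- evaluated at M, i.e. computed from a projective resolution of M.) -/
theorem result (A : Type u) [CommRing A] [IsLocalRing A]
    [IsNoetherianRing A] (M : Type u) [AddCommGroup M] [Module A M] [Module.Finite A M] (n : ℕ) :
    (HasProjectiveDimensionLT (ModuleCat.of A M) (n + 1) →
        ∀ i : ℕ, n < i → Limits.IsZero (((Tor (ModuleCat.{u} A) i).obj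
          (ModuleCat.of A (IsLocalRing.ResidueField A))).obj (ModuleCat.of A M))) ∧
      (Limits.IsZero (((Tor (ModuleCat.{u} A) (n + 1)).obj
          (ModuleCat.of A (IsLocalRing.ResidueField A))).obj (ModuleCat.of A M)) →
        HasProjectiveDimensionLT (ModuleCat.of A M) (n + 1)) := by
  exact ⟨part1 A n M, part2 A n M⟩

end Groth.Agent.S5809
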