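import Groth.Statements.S5810
import Groth.Agent.Lib.Helper67.FlatDepth8
import Groth.Agent.S0543
import Mathlib.RingTheory.AdicCompletion.LocalRing
import Mathlib.RingTheory.AdicCompletion.AsTensorProduct

set_option autoImplicit false
universe u
open EGA41

namespace Groth.Agent.S5810

/-- Let A be a Noetherian local ring with maximal ideal m and M a finitely generated A-module; write Â
and M̂ for the m-adic completions. Then prof_A(M) = prof_Â(M̂). -/
theorem result (A : Type u) [CommRing A] [IsLocalRing A] [IsNoetherianRing A] (M : Type u)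
    [AddCommGroup M] [Module A M] [Module.Finite A M] :
    LocCoh.depth (AdicCompletion (IsLocalRing.maximalIdeal A) A) (AdicCompletion (IsLocalRing.maximalIdeal A) M) =
      LocCoh.depth A M := by
  haveI : IsNoetherianRing (AdicCompletion (IsLocalRing.maximalIdeal A) A) :=
    Groth.Agent.S0543.result A (IsLocalRing.maximalIdeal A)
  have hmap : (IsLocalRing.maximalIdeal A).map
      (algebraMap A (AdicCompletion (IsLocalRing.maximalIdeal A) A)) =
      IsLocalRing.maximalIdeal (AdicCompletion (IsLocalRing.maximalIdeal A) A) :=
    AdicCompletion.maximalIdeal_eq_map.symm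
  have h0 := Groth.Agent.Lib.Helper67.depth_fibre_eq_zero_of_height_eq_zero
    (Groth.Agent.Lib.Helper67.height_eq_zero_of_map_maximalIdeal_eq hmap)
  have h1 := Groth.Agent.Lib.Helper67.depth_tensor_eq_add_quotient (R := A)
    (S := AdicCompletion (IsLocalRing.maximalIdeal A) A)
    (AdicCompletion (IsLocalRing.maximalIdeal A) A) M
  rw [h0, add_zero] at h1
  rw [← h1]
  exact (Groth.Agent.Lib.Helper67.depth_congr
    (AdicCompletion.ofTensorProductEquivOfFiniteNoetherian (IsLocalRing.maximalIdeal A) M)).symm

end Groth.Agent.S5810
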