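import Groth.Statements.S5813
import Mathlib.Tactic

set_option autoImplicit false
universe u
open EGA41

namespace Groth.Agent.S5813

section aux
variable {B : Type u} [CommRing B] (J : Ideal B)
    {M : Type u} [AddCommGroup M] [Module (B ⧸ J) M] [Module B M] [IsScalarTower B (B ⧸ J) M]

omit [Module B M] [IsScalarTower B (B ⧸ J) M] in
lemma proj_incl (X : Exal.Ext B (B ⧸ J) M) (z : M) : X.proj (X.incl z) = 0 :=
  (X.isExtension.exact _).2 ⟨z, rfl⟩

omit [Module B M] [IsScalarTower B (B ⧸ J) M] in
lemma incl_mul_incl (X : Exal.Ext B (B ⧸ J) M) (z z' : M) : X.incl z * X.incl z' = 0 := by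
  rw [X.isExtension.mul_incl, proj_incl, zero_smul, map_zero]

lemma algebraMap_mul_incl (X : Exal.Ext B (B ⧸ J) M) (b : B) (z : M) :
    algebraMap B X.E b * X.incl z = X.incl (b • z) := by
  rw [X.isExtension.mul_incl, AlgHom.commutes, algebraMap_smul]

lemma incl_idealToKer (X : Exal.Ext B (B ⧸ J) M) (j : J) :
    X.incl (X.idealToKer J j) = algebraMap B X.E j :=
  X.incl_kerLift (algebraMap B X.E j) (X.proj_algebraMap_eq_zero J j)

omit [Module B M] [IsScalarTower B (B ⧸ J) M] in
lemma exists_decomp (X : Exal.Ext B (B ⧸ J) M) (e : X.E) :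
    ∃ (b : B) (m : M), e = algebraMap B X.E b + X.incl m := by
  obtain ⟨b, hb⟩ := Ideal.Quotient.mk_surjective (X.proj e)
  have hk : X.proj (e - algebraMap B X.E b) = 0 := by
    rw [map_sub, AlgHom.commutes, Ideal.Quotient.algebraMap_eq, hb, sub_self]
  refine ⟨b, X.kerLift _ hk, ?_⟩
  rw [X.incl_kerLift]; ring

lemma exists_hom (X Y : Exal.Ext B (B ⧸ J) M)
    (hw : ∀ j : J, X.idealToKer J j = Y.idealToKer J j) :
    ∃ F : X.E →ₐ[B] Y.E, ∀ b m, F (algebraMap B X.E b + X.incl m) =
      algebraMap B Y.E b + Y.incl m := by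
  classical
  choose β μ hβμ using exists_decomp J X
  let F₀ : X.E → Y.E := fun e => algebraMap B Y.E (β e) + Y.incl (μ e)
  have hwd : ∀ b m, F₀ (algebraMap B X.E b + X.incl m) = algebraMap B Y.E b + Y.incl m := by
    intro b m
    have h1 := hβμ (algebraMap B X.E b + X.incl m)
    show algebraMap B Y.E (β (algebraMap B X.E b + X.incl m)) +
      Y.incl (μ (algebraMap B X.E b + X.incl m)) = _
    generalize β (algebraMap B X.E b + X.incl m) = b' at h1 ⊢
    generalize μ (algebraMap B X.E b + X.incl m) = m' at h1 ⊢
    have hmk : Ideal.Quotient.mk J (b - b') = 0 := by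
      have h2 := congrArg X.proj h1
      rw [map_add, map_add, proj_incl, proj_incl, AlgHom.commutes, AlgHom.commutes, add_zero,
        add_zero, Ideal.Quotient.algebraMap_eq] at h2
      rw [map_sub, h2, sub_self]
    have hj : b - b' ∈ J := Ideal.Quotient.eq_zero_iff_mem.1 hmk
    have h3 : X.incl m' = X.incl (X.idealToKer J ⟨b - b', hj⟩ + m) := by
      rw [map_add, incl_idealToKer]
      show X.incl m' = algebraMap B X.E (b - b') + X.incl m
      rw [map_sub]
      linear_combination -h1
    have h4 := X.isExtension.incl_injective h3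
    rw [h4, hw, map_add, incl_idealToKer]
    show algebraMap B Y.E b' + (algebraMap B Y.E (b - b') + Y.incl m) = _
    rw [map_sub]
    ring
  have hdec : ∀ e : X.E, ∃ b m, e = algebraMap B X.E b + X.incl m := exists_decomp J X
  have h_one : F₀ 1 = 1 := by
    have := hwd 1 0
    rw [map_one, map_zero, add_zero, map_one, map_zero, add_zero] at this
    exact this
  have h_mul : ∀ e e', F₀ (e * e') = F₀ e * F₀ e' := by
    intro e e'
    obtain ⟨b, m, rfl⟩ := hdec e
    obtain ⟨b', m', rfl⟩ := hdec e'
    have hX : (algebraMap B X.E b + X.incl m) * (algebraMap B X.E b' + X.incl m') =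
        algebraMap B X.E (b * b') + X.incl (b • m' + b' • m) := by
      rw [map_add, ← algebraMap_mul_incl, ← algebraMap_mul_incl, map_mul]
      have := incl_mul_incl J X m m'
      linear_combination this
    have hY : (algebraMap B Y.E b + Y.incl m) * (algebraMap B Y.E b' + Y.incl m') =
        algebraMap B Y.E (b * b') + Y.incl (b • m' + b' • m) := by
      rw [map_add, ← algebraMap_mul_incl, ← algebraMap_mul_incl, map_mul]
      have := incl_mul_incl J Y m m'
      linear_combination this
    rw [hX, hwd, hwd, hwd, hY]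
  have h_zero : F₀ 0 = 0 := by
    have := hwd 0 0
    rw [map_zero, map_zero, add_zero, map_zero, map_zero, add_zero] at this
    exact this
  have h_add : ∀ e e', F₀ (e + e') = F₀ e + F₀ e' := by
    intro e e'
    obtain ⟨b, m, rfl⟩ := hdec e
    obtain ⟨b', m', rfl⟩ := hdec e'
    have hX : (algebraMap B X.E b + X.incl m) + (algebraMap B X.E b' + X.incl m') =
        algebraMap B X.E (b + b') + X.incl (m + m') := by
      rw [map_add, map_add]; ring
    rw [hX, hwd, hwd, hwd, map_add, map_add]; ring
  have h_comm : ∀ b, F₀ (algebraMap B X.E b) = algebraMap B Y.E b := by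
    intro b
    have := hwd b 0
    rw [map_zero, add_zero, map_zero, add_zero] at this
    exact this
  exact ⟨{ toFun := F₀
           map_one' := h_one
           map_mul' := h_mul
           map_zero' := h_zero
           map_add' := h_add
           commutes' := h_comm }, hwd⟩

end aux

/-- Injectivity, commutative form. Let J be an ideal of the commutative ring B, C = B ⧸ J, M a C-module.
Two B-extensions of C by M whose induced linear maps J/J² → M (obtained from the restriction to J of
the structure map B → E) coincide are equivalent. -/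
theorem result {B : Type u} [CommRing B] (J : Ideal B)
    {M : Type u} [AddCommGroup M] [Module (B ⧸ J) M] [Module B M] [IsScalarTower B (B ⧸ J) M]
    (X Y : Exal.Ext B (B ⧸ J) M) (h : X.conormalMap J = Y.conormalMap J) :
    Nonempty (X.Equiv Y) := by
  have hw : ∀ j : J, X.idealToKer J j = Y.idealToKer J j := by
    intro j
    have := LinearMap.congr_fun h (Submodule.Quotient.mk j)
    exact this
  obtain ⟨F, hF⟩ := exists_hom J X Y hw
  obtain ⟨G, hG⟩ := exists_hom J Y X (fun j => (hw j).symm)
  have hGF : ∀ e, G (F e) = e := by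
    intro e
    obtain ⟨b, m, rfl⟩ := exists_decomp J X e
    rw [hF, hG]
  have hFG : ∀ e, F (G e) = e := by
    intro e
    obtain ⟨b, m, rfl⟩ := exists_decomp J Y e
    rw [hG, hF]
  refine ⟨{ toAlgEquiv := AlgEquiv.ofAlgHom F G (AlgHom.ext hFG) (AlgHom.ext hGF)
            proj_apply := ?_
            apply_incl := ?_ }⟩
  · intro e
    obtain ⟨b, m, rfl⟩ := exists_decomp J X e
    show Y.proj (F _) = _
    rw [hF, map_add, map_add, proj_incl, proj_incl, AlgHom.commutes, AlgHom.commutes]
  · intro z
    show F (X.incl z) = Y.incl z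
    have := hF 0 z
    rw [map_zero, zero_add, map_zero, zero_add] at this
    exact this

end Groth.Agent.S5813
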