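import Groth.Statements.S5814
import Mathlib.Tactic

set_option autoImplicit false
universe u
open EGA41

namespace Groth.Agent.S5814

attribute [local instance] Exal.opModule Exal.isCentralScalar_opModule

section aux
variable {B : Type u} [CommRing B] (J : Ideal B)
    {M : Type u} [AddCommGroup M] [Module (B ⧸ J) M] [Module B M] [IsScalarTower B (B ⧸ J) M]

lemma smul_eq_zero_of_mem (j : B) (hj : j ∈ J) (m : M) : j • m = 0 := by
  rw [← algebraMap_smul (B ⧸ J) j m, Ideal.Quotient.algebraMap_eq,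
    Ideal.Quotient.eq_zero_iff_mem.2 hj, zero_smul]

def relIdeal (w₀ : J →ₗ[B] M) : Ideal (TrivSqZeroExt B M) where
  carrier := {t | ∃ j : J, t = TrivSqZeroExt.inl (j : B) - TrivSqZeroExt.inr (w₀ j)}
  add_mem' := by
    rintro _ _ ⟨j, rfl⟩ ⟨j', rfl⟩
    refine ⟨j + j', ?_⟩
    rw [map_add, Submodule.coe_add, TrivSqZeroExt.inl_add, TrivSqZeroExt.inr_add]
    abel
  zero_mem' := ⟨0, by simp⟩
  smul_mem' := by
    rintro t _ ⟨j, rfl⟩
    refine ⟨TrivSqZeroExt.fst t • j, ?_⟩
    apply TrivSqZeroExt.ext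
    · simp
    · simp only [smul_eq_mul, TrivSqZeroExt.snd_mul, TrivSqZeroExt.snd_sub, TrivSqZeroExt.snd_inl,
        TrivSqZeroExt.snd_inr, zero_sub, TrivSqZeroExt.fst_sub, TrivSqZeroExt.fst_inl,
        TrivSqZeroExt.fst_inr, sub_zero, map_smul, smul_neg]
      have : MulOpposite.op (j : B) • TrivSqZeroExt.snd t = 0 :=
        smul_eq_zero_of_mem J (j : B) j.2 _
      rw [this, add_zero]

lemma mem_relIdeal (w₀ : J →ₗ[B] M) (t : TrivSqZeroExt B M) :
    t ∈ relIdeal J w₀ ↔ ∃ j : J, t = TrivSqZeroExt.inl (j : B) - TrivSqZeroExt.inr (w₀ j) :=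
  Iff.rfl

end aux

/-- Surjectivity, commutative form. Let J be an ideal of the commutative ring B, C = B ⧸ J, M a
C-module. Every linear map w : J/J² → M arises from a B-extension of C by M: there is an extension
whose induced map J/J² → M is w. Together with the injectivity statement this is the canonical
bijection between Hom_C(J/J², M) and the classes of B-extensions of C by M. -/
theorem result {B : Type u} [CommRing B] (J : Ideal B)
    {M : Type u} [AddCommGroup M] [Module (B ⧸ J) M] [Module B M] [IsScalarTower B (B ⧸ J) M]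
    (w : J.Cotangent →ₗ[B] M) :
    ∃ X : Exal.Ext B (B ⧸ J) M, X.conormalMap J = w := by
  classical
  let w₀ : J →ₗ[B] M := w ∘ₗ J.toCotangent
  let K : Ideal (TrivSqZeroExt B M) := relIdeal J w₀
  letI algE : Algebra B (TrivSqZeroExt B M ⧸ K) :=
    ((Ideal.Quotient.mk K).comp (TrivSqZeroExt.inlHom B M : B →+* TrivSqZeroExt B M)).toAlgebra
  have halg : ∀ b : B, algebraMap B (TrivSqZeroExt B M ⧸ K) b =
      Ideal.Quotient.mk K (TrivSqZeroExt.inl b) := fun b => rfl
  let p₀ : TrivSqZeroExt B M →+* B ⧸ J :=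
    (Ideal.Quotient.mk J).comp (TrivSqZeroExt.fstHom B B M : TrivSqZeroExt B M →+* B)
  have hp₀ : ∀ t, p₀ t = Ideal.Quotient.mk J (TrivSqZeroExt.fst t) := fun t => rfl
  have hp₀K : ∀ t ∈ K, p₀ t = 0 := by
    rintro _ ⟨j, rfl⟩
    rw [hp₀, TrivSqZeroExt.fst_sub, TrivSqZeroExt.fst_inl, TrivSqZeroExt.fst_inr, sub_zero]
    exact Ideal.Quotient.eq_zero_iff_mem.2 j.2
  let p : (TrivSqZeroExt B M ⧸ K) →ₐ[B] B ⧸ J :=
    { toRingHom := Ideal.Quotient.lift K p₀ hp₀K
      commutes' := fun b => by
        show Ideal.Quotient.lift K p₀ hp₀K (Ideal.Quotient.mk K (TrivSqZeroExt.inl b)) = _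
        rw [Ideal.Quotient.lift_mk, hp₀, TrivSqZeroExt.fst_inl]
        rfl }
  have hp : ∀ t, p (Ideal.Quotient.mk K t) = Ideal.Quotient.mk J (TrivSqZeroExt.fst t) :=
    fun t => rfl
  let i : M →+ (TrivSqZeroExt B M ⧸ K) :=
    (Ideal.Quotient.mk K : TrivSqZeroExt B M →+* _).toAddMonoidHom.comp
      (TrivSqZeroExt.inrHom B M).toAddMonoidHom
  have hi : ∀ z, i z = Ideal.Quotient.mk K (TrivSqZeroExt.inr z) := fun z => rfl
  have hext : Exal.IsExtension p i :=
    { proj_surjective := by
        intro c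
        obtain ⟨b, rfl⟩ := Ideal.Quotient.mk_surjective c
        exact ⟨Ideal.Quotient.mk K (TrivSqZeroExt.inl b), by rw [hp, TrivSqZeroExt.fst_inl]⟩
      incl_injective := by
        intro m m' h
        rw [hi, hi, Ideal.Quotient.eq] at h
        obtain ⟨j, hj⟩ := h
        have h1 := congrArg TrivSqZeroExt.fst hj
        have h2 := congrArg TrivSqZeroExt.snd hj
        simp only [TrivSqZeroExt.fst_sub, TrivSqZeroExt.fst_inr, sub_zero, TrivSqZeroExt.fst_inl,
          sub_self] at h1
        have hj0 : j = 0 := Subtype.ext h1.symm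
        simp only [TrivSqZeroExt.snd_sub, TrivSqZeroExt.snd_inr, TrivSqZeroExt.snd_inl, zero_sub,
          hj0, map_zero, neg_zero] at h2
        exact sub_eq_zero.1 h2
      exact := by
        intro x
        obtain ⟨t, rfl⟩ := Ideal.Quotient.mk_surjective x
        rw [hp, Ideal.Quotient.eq_zero_iff_mem]
        constructor
        · intro hj
          refine ⟨TrivSqZeroExt.snd t + w₀ ⟨_, hj⟩, ?_⟩
          rw [hi, Ideal.Quotient.eq]
          refine ⟨-⟨_, hj⟩, ?_⟩
          apply TrivSqZeroExt.ext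
          · simp
          · simp
        · rintro ⟨z, hz⟩
          rw [hi, Ideal.Quotient.eq] at hz
          obtain ⟨j, hj⟩ := hz
          have h1 := congrArg TrivSqZeroExt.fst hj
          simp only [TrivSqZeroExt.fst_sub, TrivSqZeroExt.fst_inr, zero_sub, TrivSqZeroExt.fst_inl,
            sub_zero] at h1
          have : TrivSqZeroExt.fst t = -(j : B) := by rw [← h1, neg_neg]
          rw [this]
          exact J.neg_mem j.2
      mul_incl := by
        intro x z
        obtain ⟨t, rfl⟩ := Ideal.Quotient.mk_surjective x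
        rw [hi, hi, hp, ← map_mul]
        congr 1
        apply TrivSqZeroExt.ext
        · simp
        · simp only [TrivSqZeroExt.snd_mul, TrivSqZeroExt.snd_inr, TrivSqZeroExt.fst_inr,
            MulOpposite.op_zero, zero_smul, add_zero]
          rw [← Ideal.Quotient.algebraMap_eq, algebraMap_smul] }
  let X : Exal.Ext B (B ⧸ J) M :=
    { E := TrivSqZeroExt B M ⧸ K, proj := p, incl := i, isExtension := hext }
  refine ⟨X, ?_⟩
  apply LinearMap.ext
  intro c
  obtain ⟨j, rfl⟩ := J.toCotangent_surjective c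
  show X.idealToKer J j = w (J.toCotangent j)
  apply hext.incl_injective
  have h1 : X.incl (X.idealToKer J j) = algebraMap B X.E j :=
    X.incl_kerLift (algebraMap B X.E j) (X.proj_algebraMap_eq_zero J j)
  show X.incl (X.idealToKer J j) = i (w₀ j)
  rw [h1, hi]
  show Ideal.Quotient.mk K (TrivSqZeroExt.inl (j : B)) = _
  rw [Ideal.Quotient.eq]
  exact ⟨j, rfl⟩

end Groth.Agent.S5814
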