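import Groth.Statements.S5815
import Groth.Prelude.Def_Exal2

set_option autoImplicit false
universe u
open EGA41

namespace Groth.Agent.S5815

section aux

variable (A B : Type u) [CommRing A] [CommRing B] [Algebra A B]

lemma ker_sq_eq_bot {L : Type u} [AddCommGroup L] [Module B L] (X : Exal.Ext A B L) :
    RingHom.ker (X.proj : X.E →+* B) ^ 2 = ⊥ := by
  rw [eq_bot_iff, sq, Ideal.mul_le]
  intro r hr t ht
  rw [RingHom.mem_ker] at hr ht
  obtain ⟨z, rfl⟩ := (X.isExtension.exact t).1 ht
  rw [Ideal.mem_bot, X.isExtension.mul_incl]
  have : (X.proj r : B) = 0 := hr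
  rw [this, zero_smul, map_zero]

lemma isTrivial_of_formallySmooth [Algebra.FormallySmooth A B]
    (L : Type u) [AddCommGroup L] [Module B L] (X : Exal.Ext A B L) : X.IsTrivial := by
  have hnil : IsNilpotent (RingHom.ker (X.proj : X.E →+* B)) := ⟨2, ker_sq_eq_bot A B X⟩
  exact ⟨Algebra.FormallySmooth.liftOfSurjective (AlgHom.id A B) X.proj
    X.isExtension.proj_surjective hnil,
    fun b => Algebra.FormallySmooth.liftOfSurjective_apply (AlgHom.id A B) X.proj
      X.isExtension.proj_surjective hnil b⟩

lemma formallySmooth_of_trivial
    (h : ∀ (L : Type u) [AddCommGroup L] [Module B L] (X : Exal.Ext A B L), X.IsTrivial) :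
    Algebra.FormallySmooth A B := by
  let P := MvPolynomial B A
  let f : P →ₐ[A] B := MvPolynomial.aeval id
  have hf : Function.Surjective f := fun b => ⟨MvPolynomial.X b, by rw [MvPolynomial.aeval_X]; rfl⟩
  let J : Ideal P := RingHom.ker f.toRingHom
  let e : (P ⧸ J) ≃ₐ[A] B := Ideal.quotientKerAlgEquivOfSurjective hf
  let _ : Module B J.Cotangent := Module.compHom J.Cotangent (e.symm : B →+* P ⧸ J)
  let X0 : Exal.Ext A (P ⧸ J) J.Cotangent := (Exal.Ext.infinitesimal J).restrictBase A
  let X : Exal.Ext A B J.Cotangent :=
    { E := X0.E
      proj := (e : (P ⧸ J) →ₐ[A] B).comp X0.proj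
      incl := X0.incl
      isExtension :=
        { proj_surjective := e.surjective.comp X0.isExtension.proj_surjective
          incl_injective := X0.isExtension.incl_injective
          exact := fun x => by
            rw [← X0.isExtension.exact x]
            simp
          mul_incl := fun x z => by
            rw [X0.isExtension.mul_incl]
            congr 1
            change _ = e.symm (e (X0.proj x)) • z
            rw [AlgEquiv.symm_apply_apply] } }
  obtain ⟨s, hs⟩ := h J.Cotangent X
  let g : B →ₐ[A] P ⧸ RingHom.ker f.toRingHom ^ 2 :=
    { toRingHom := (s : B →+* X.E)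
      commutes' := fun a => by
        have := s.commutes a
        exact this }
  refine Algebra.FormallySmooth.of_split f g ?_
  ext b
  have hb := hs b
  have key : ∀ x : P ⧸ J ^ 2, f.kerSquareLift x = X.proj x := by
    intro x
    obtain ⟨y, rfl⟩ := Ideal.Quotient.mk_surjective x
    rfl
  exact (key (s b)).trans hb

end aux

/-- Discrete case. A commutative A-algebra B is formally smooth if and only if every A-extension of B by
a B-module L is trivial (has an A-algebra section). A and B are taken in one universe and L ranges
over that universe. (The published statement is for topological rings, with direct-limit classes of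
extensions; this row is its discrete case.) -/
theorem result (A B : Type u) [CommRing A] [CommRing B] [Algebra A B] :
    Algebra.FormallySmooth A B ↔
      ∀ (L : Type u) [AddCommGroup L] [Module B L] (X : Exal.Ext A B L), X.IsTrivial := by
  constructor
  · intro h L _ _ X
    exact isTrivial_of_formallySmooth A B L X
  · intro h
    exact formallySmooth_of_trivial A B h

end Groth.Agent.S5815
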