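import Groth.Statements.S5816
import Mathlib.RingTheory.Ideal.Quotient.Operations
import Mathlib.RingTheory.Ideal.Maps
import Mathlib.Algebra.Algebra.Subalgebra.Basic
import Mathlib.Algebra.Algebra.Prod
-- import your own Groth.Agent.* helpers here

set_option autoImplicit false
universe u
open EGA41

namespace Groth.Agent.S5816


section aux

lemma ker_sq_eq_bot {A B : Type u} [CommRing A] [CommRing B] [Algebra A B]
    {L : Type u} [AddCommGroup L] [Module B L] (X : Exal.Ext A B L) :
    RingHom.ker (X.proj : X.E →+* B) ^ 2 = ⊥ := by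
  rw [eq_bot_iff, sq, Ideal.mul_le]
  intro r hr t ht
  rw [RingHom.mem_ker] at hr ht
  obtain ⟨z, rfl⟩ := (X.isExtension.exact t).1 ht
  rw [Ideal.mem_bot, X.isExtension.mul_incl]
  have : (X.proj r : B) = 0 := hr
  rw [this, zero_smul, map_zero]

variable (Λ A B : Type u) [CommRing Λ]
    [CommRing A] [CommRing B] [Algebra Λ A] [Algebra Λ B] [Algebra A B] [IsScalarTower Λ A B]

lemma forward (h : EGA41.IsFormallySmoothRel Λ A B)
    (L : Type u) [AddCommGroup L] [Module B L] (X : Exal.Ext A B L)
    (hX : X.IsTrivialOver Λ) : X.IsTrivial := by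
  obtain ⟨s, hs⟩ := hX
  let algΛ : Algebra Λ X.E := ((algebraMap A X.E).comp (algebraMap Λ A)).toAlgebra
  have : IsScalarTower Λ A X.E := IsScalarTower.of_algebraMap_eq (fun x => rfl)
  have hsurj : Function.Surjective X.proj := X.isExtension.proj_surjective
  let J : Ideal X.E := RingHom.ker (X.proj : X.E →+* B)
  let e : (X.E ⧸ J) ≃ₐ[A] B := Ideal.quotientKerAlgEquivOfSurjective hsurj
  let u₀ : B →ₐ[A] X.E ⧸ J := e.symm
  let s' : B →+* X.E := s.toRingHom
  have hs' : ∀ b, X.proj (s' b) = b := hs
  let u : B →ₐ[Λ] X.E :=
    { toRingHom := s'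
      commutes' := fun l => s.commutes l }
  have hu : (Ideal.Quotient.mkₐ Λ J).comp u = u₀.restrictScalars Λ := by
    ext b
    change Ideal.Quotient.mk J (s' b) = e.symm b
    rw [AlgEquiv.eq_symm_apply]
    exact hs' b
  obtain ⟨v, hv⟩ := h X.E J (ker_sq_eq_bot X) u₀ ⟨u, hu⟩
  refine ⟨v, fun b => ?_⟩
  have h1 : Ideal.Quotient.mk J (v b) = e.symm b := by
    have := congrArg (fun f => f b) hv
    exact this
  rw [AlgEquiv.eq_symm_apply] at h1
  exact h1

lemma backward
    (h : ∀ (L : Type u) [AddCommGroup L] [Module B L] (X : Exal.Ext A B L),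
        X.IsTrivialOver Λ → X.IsTrivial) : EGA41.IsFormallySmoothRel Λ A B := by
  intro C _ _ _ _ J hJ u₀ ⟨u, hu⟩
  have hu' : ∀ b, Ideal.Quotient.mk J (u b) = u₀ b := fun b => by
    have := congrArg (fun f => f b) hu
    exact this
  have hJ2 : ∀ x ∈ J, ∀ y ∈ J, x * y = 0 := by
    intro x hx y hy
    have : x * y ∈ J ^ 2 := by
      rw [sq]; exact Ideal.mul_mem_mul hx hy
    rw [hJ] at this
    exact this
  -- the B-module structure on J through u
  let modBJ : Module B J := Module.compHom J (u : B →+* C)
  have smul_def : ∀ (b : B) (z : J), ((b • z : J) : C) = u b * (z : C) := fun b z => rfl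
  -- the fibre product algebra
  let f₁ : (C × B) →ₐ[A] C ⧸ J := (Ideal.Quotient.mkₐ A J).comp (AlgHom.fst A C B)
  let f₂ : (C × B) →ₐ[A] C ⧸ J := u₀.comp (AlgHom.snd A C B)
  let E : Subalgebra A (C × B) := AlgHom.equalizer f₁ f₂
  have memE : ∀ x : C × B, x ∈ E ↔ Ideal.Quotient.mk J x.1 = u₀ x.2 := fun x => by
    rw [AlgHom.mem_equalizer]; rfl
  let proj : E →ₐ[A] B := (AlgHom.snd A C B).comp E.val
  have hincl_mem : ∀ z : J, (((z : C), (0 : B)) : C × B) ∈ E := fun z => by
    rw [memE]
    change Ideal.Quotient.mk J (z : C) = u₀ 0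
    rw [map_zero, Ideal.Quotient.eq_zero_iff_mem]
    exact z.2
  let incl : J →+ E :=
    { toFun := fun z => ⟨((z : C), (0 : B)), hincl_mem z⟩
      map_zero' := by
        apply Subtype.ext
        rfl
      map_add' := fun z w => by
        apply Subtype.ext
        change (((z + w : J) : C), (0 : B)) = ((z : C), (0 : B)) + ((w : C), (0 : B))
        rw [Prod.mk_add_mk, add_zero]
        rfl }
  have hext : Exal.IsExtension proj incl := by
    refine ⟨?_, ?_, ?_, ?_⟩
    · intro b
      refine ⟨⟨(u b, b), ?_⟩, rfl⟩
      rw [memE]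
      exact hu' b
    · intro z w hzw
      have := congrArg (fun x : E => (x : C × B).1) hzw
      exact Subtype.ext this
    · intro x
      constructor
      · intro hx
        have hx2 : (x : C × B).2 = 0 := hx
        have hx1 : (x : C × B).1 ∈ J := by
          have := (memE x).1 x.2
          rw [hx2, map_zero, Ideal.Quotient.eq_zero_iff_mem] at this
          exact this
        refine ⟨⟨(x : C × B).1, hx1⟩, ?_⟩
        apply Subtype.ext
        change ((x : C × B).1, (0 : B)) = (x : C × B)
        rw [← hx2]
      · rintro ⟨z, rfl⟩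
        rfl
    · intro x z
      apply Subtype.ext
      change (x : C × B) * ((z : C), (0 : B)) = ((((x : C × B).2 • z : J) : C), (0 : B))
      rw [smul_def]
      have hd : (x : C × B).1 - u (x : C × B).2 ∈ J := by
        rw [← Ideal.Quotient.eq, (memE x).1 x.2, hu']
      have := hJ2 _ hd _ z.2
      rw [sub_mul, sub_eq_zero] at this
      refine Prod.ext ?_ ?_
      · change (x : C × B).1 * (z : C) = _
        exact this
      · change (x : C × B).2 * 0 = 0
        exact mul_zero _
  let X : Exal.Ext A B J :=
    { E := E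
      proj := proj
      incl := incl
      isExtension := hext }
  have hXΛ : X.IsTrivialOver Λ := by
    have hmemu : ∀ b : B, ((u b, b) : C × B) ∈ E := fun b => by
      rw [memE]; exact hu' b
    let σ : B →+* E :=
      { toFun := fun b => ⟨(u b, b), hmemu b⟩
        map_one' := by
          apply Subtype.ext
          change (u 1, (1 : B)) = (1 : C × B)
          rw [map_one]; rfl
        map_mul' := fun b c => by
          apply Subtype.ext
          change (u (b * c), b * c) = ((u b, b) : C × B) * (u c, c)
          rw [map_mul]; rfl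
        map_zero' := by
          apply Subtype.ext
          change (u 0, (0 : B)) = (0 : C × B)
          rw [map_zero]; rfl
        map_add' := fun b c => by
          apply Subtype.ext
          change (u (b + c), b + c) = ((u b, b) : C × B) + (u c, c)
          rw [map_add]; rfl }
    let σ' : B →+* (X.restrictBase Λ).E := σ
    refine ⟨{ toRingHom := σ', commutes' := ?_ }, fun b => rfl⟩
    intro l
    change σ (algebraMap Λ B l) = algebraMap A E (algebraMap Λ A l)
    apply Subtype.ext
    change (u (algebraMap Λ B l), algebraMap Λ B l) =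
      ((algebraMap A C (algebraMap Λ A l), algebraMap A B (algebraMap Λ A l)) : C × B)
    rw [u.commutes, IsScalarTower.algebraMap_apply Λ A C, IsScalarTower.algebraMap_apply Λ A B]
  obtain ⟨t, ht⟩ := h J X hXΛ
  let t' : B →ₐ[A] E := t
  have ht' : ∀ b, ((t' b : E) : C × B).2 = b := ht
  refine ⟨(AlgHom.fst A C B).comp (E.val.comp t'), ?_⟩
  ext b
  change Ideal.Quotient.mk J ((t' b : E) : C × B).1 = u₀ b
  rw [(memE _).1 (t' b).2, ht']

end aux

/-- Discrete case. For ring maps Λ → A → B, B is formally smooth over A relative to Λ (square-zero test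
ideals) if and only if every A-extension of B by a B-module L which is Λ-trivial is A-trivial. Λ, A,
B are taken in one universe and L ranges over it. (The published statement is for topological rings;
this row is its discrete case.) -/
theorem result (Λ A B : Type u) [CommRing Λ]
    [CommRing A] [CommRing B] [Algebra Λ A] [Algebra Λ B] [Algebra A B] [IsScalarTower Λ A B] :
    EGA41.IsFormallySmoothRel Λ A B ↔
      ∀ (L : Type u) [AddCommGroup L] [Module B L] (X : Exal.Ext A B L),
        X.IsTrivialOver Λ → X.IsTrivial := by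
  constructor
  · intro h L _ _ X hX
    exact forward Λ A B h L X hX
  · intro h
    exact backward Λ A B h

end Groth.Agent.S5816
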