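import Groth.Statements.S5817
import Mathlib.Tactic

set_option autoImplicit false
universe u v
open EGA41

namespace Groth.Agent.S5817

attribute [local instance] Exal.opModule Exal.isCentralScalar_opModule

/-- Commutative rings, exactness at Der_A(B, L). For ring maps A → B → C and a C-module L, the
B-extension of C by L attached to an A-derivation D : B → L (middle ring C ⊕ L, made a B-algebra
through x ↦ (x, D x)) is trivial if and only if D is the composite of B → C with an A-derivation C →
L. -/
theorem result {A : Type u} {B C L : Type v} [CommRing A] [CommRing B] [CommRing C]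
    [Algebra A B] [Algebra B C] [Algebra A C] [IsScalarTower A B C]
    [AddCommGroup L] [Module C L] [Module B L] [IsScalarTower B C L] [Module A L] [IsScalarTower A B L]
    [IsScalarTower A C L]
    (D : Derivation A B L) :
    (Exal.Ext.ofDerivation (C := C) D).IsTrivial ↔
      ∃ D' : Derivation A C L, D'.compAlgebraMap B = D := by
  constructor
  · rintro ⟨s, hs⟩
    let σ : C → TrivSqZeroExt C L := fun c => s c
    have hfst : ∀ c : C, TrivSqZeroExt.fst (σ c) = c := hs
    have halg : ∀ x : B, σ (algebraMap B C x) =
        TrivSqZeroExt.inl (algebraMap B C x) + TrivSqZeroExt.inr (D x) := by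
      intro x
      show s (algebraMap B C x) = _
      rw [AlgHom.commutes]
      rfl
    have hmul : ∀ c c' : C, σ (c * c') = σ c * σ c' := fun c c' => map_mul s c c'
    have hadd : ∀ c c' : C, σ (c + c') = σ c + σ c' := fun c c' => map_add s c c'
    have hleib : ∀ c c' : C, TrivSqZeroExt.snd (σ (c * c')) =
        c • TrivSqZeroExt.snd (σ c') + c' • TrivSqZeroExt.snd (σ c) := by
      intro c c'
      rw [hmul, TrivSqZeroExt.snd_mul, hfst, hfst]
      rfl
    let D₀ : C →ₗ[A] L :=
      { toFun := fun c => TrivSqZeroExt.snd (σ c)
        map_add' := fun c c' => by rw [hadd, TrivSqZeroExt.snd_add]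
        map_smul' := fun a c => by
          rw [RingHom.id_apply, Algebra.smul_def, hleib,
            IsScalarTower.algebraMap_apply A B C, halg, TrivSqZeroExt.snd_add,
            TrivSqZeroExt.snd_inl, TrivSqZeroExt.snd_inr, zero_add, Derivation.map_algebraMap,
            smul_zero, add_zero, ← IsScalarTower.algebraMap_apply A B C, algebraMap_smul] }
    refine ⟨Derivation.mk' D₀ hleib, ?_⟩
    ext x
    show TrivSqZeroExt.snd (σ (algebraMap B C x)) = D x
    rw [halg, TrivSqZeroExt.snd_add, TrivSqZeroExt.snd_inl, TrivSqZeroExt.snd_inr, zero_add]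
  · rintro ⟨D', rfl⟩
    let s₀ : C →+* TrivSqZeroExt C L := Exal.Ext.derivationHom (C := C) D'
    refine ⟨{ toRingHom := s₀, commutes' := ?_ }, ?_⟩
    · intro x
      show TrivSqZeroExt.inl (algebraMap C C (algebraMap B C x)) +
        TrivSqZeroExt.inr (D' (algebraMap B C x)) =
        TrivSqZeroExt.inl (algebraMap B C x) + TrivSqZeroExt.inr (D' (algebraMap B C x))
      rfl
    · intro c
      show TrivSqZeroExt.fst (TrivSqZeroExt.inl (algebraMap C C c) + TrivSqZeroExt.inr (D' c)) = c
      rw [TrivSqZeroExt.fst_add, TrivSqZeroExt.fst_inl, TrivSqZeroExt.fst_inr, add_zero]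
      rfl

end Groth.Agent.S5817
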