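import Groth.Statements.S5818
import Mathlib.Tactic

set_option autoImplicit false
universe u v
open EGA41

namespace Groth.Agent.S5818

attribute [local instance] Exal.opModule Exal.isCentralScalar_opModule

section basic
variable {A : Type u} {B L : Type v} [CommRing A] [CommRing B] [Algebra A B] [AddCommGroup L]
  [Module B L]

lemma proj_incl (X : Exal.Ext A B L) (z : L) : X.proj (X.incl z) = 0 :=
  (X.isExtension.exact _).2 ⟨z, rfl⟩

lemma incl_mul_incl (X : Exal.Ext A B L) (z z' : L) : X.incl z * X.incl z' = 0 := by
  rw [X.isExtension.mul_incl, proj_incl, zero_smul, map_zero]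

lemma incl_mul (X : Exal.Ext A B L) (z : L) (x : X.E) : X.incl z * x = X.incl (X.proj x • z) := by
  rw [mul_comm, X.isExtension.mul_incl]

end basic

/-- Commutative rings, exactness at Exalcom_B(C, L) on underlying pointed sets. For ring maps A → B → C
and a C-module L, a B-extension of C by L is A-trivial if and only if it is equivalent to the
extension attached to some A-derivation B → L. -/
theorem result {A : Type u} {B C L : Type v} [CommRing A] [CommRing B] [CommRing C]
    [Algebra A B] [Algebra B C] [Algebra A C] [IsScalarTower A B C]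
    [AddCommGroup L] [Module C L] [Module B L] [IsScalarTower B C L] [Module A L] [IsScalarTower A B L]
    [IsScalarTower A C L]
    (X : Exal.Ext B C L) :
    X.IsTrivialOver A ↔
      ∃ D : Derivation A B L, Nonempty (X.Equiv (Exal.Ext.ofDerivation (C := C) D)) := by
  constructor
  · rintro ⟨s, hs⟩
    let σ : C →+* X.E := s.toRingHom
    have hσproj : ∀ c, X.proj (σ c) = c := hs
    have hσalg : ∀ a : A, σ (algebraMap A C a) = algebraMap B X.E (algebraMap A B a) :=
      fun a => s.commutes a
    have hker : ∀ x : B, X.proj (algebraMap B X.E x - σ (algebraMap B C x)) = 0 := by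
      intro x
      rw [map_sub, AlgHom.commutes, hσproj, sub_self]
    let D₀ : B → L := fun x => X.kerLift _ (hker x)
    have hD₀ : ∀ x, X.incl (D₀ x) = algebraMap B X.E x - σ (algebraMap B C x) :=
      fun x => X.incl_kerLift _ (hker x)
    have hadd : ∀ x y, D₀ (x + y) = D₀ x + D₀ y := by
      intro x y
      apply X.isExtension.incl_injective
      rw [map_add, hD₀, hD₀, hD₀, map_add, map_add, map_add]
      ring
    have hleib : ∀ x y, D₀ (x * y) = x • D₀ y + y • D₀ x := by
      intro x y
      apply X.isExtension.incl_injective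
      have h1 : X.incl (x • D₀ y) = algebraMap B X.E x * X.incl (D₀ y) := by
        rw [X.isExtension.mul_incl, AlgHom.commutes, algebraMap_smul]
      have h2 : X.incl (y • D₀ x) = σ (algebraMap B C y) * X.incl (D₀ x) := by
        rw [X.isExtension.mul_incl, hσproj, algebraMap_smul]
      rw [map_add, h1, h2, hD₀, hD₀, hD₀, map_mul, map_mul, map_mul]
      ring
    have hzero : ∀ a : A, D₀ (algebraMap A B a) = 0 := by
      intro a
      apply X.isExtension.incl_injective
      rw [hD₀, map_zero, ← IsScalarTower.algebraMap_apply A B C, hσalg, sub_self]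
    let D₁ : B →ₗ[A] L :=
      { toFun := D₀
        map_add' := hadd
        map_smul' := fun a x => by
          rw [RingHom.id_apply, Algebra.smul_def, hleib, hzero, smul_zero, add_zero, algebraMap_smul] }
    let D : Derivation A B L := Derivation.mk' D₁ hleib
    have hDapp : ∀ x, D x = D₀ x := fun x => rfl
    refine ⟨D, ⟨Exal.Ext.Equiv.symm ?_⟩⟩
    let G₀ : TrivSqZeroExt C L →+* X.E :=
      { toFun := fun t => σ (TrivSqZeroExt.fst t) + X.incl (TrivSqZeroExt.snd t)
        map_one' := by
          rw [TrivSqZeroExt.fst_one, TrivSqZeroExt.snd_one, map_one, map_zero, add_zero]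
        map_zero' := by
          rw [TrivSqZeroExt.fst_zero, TrivSqZeroExt.snd_zero, map_zero, map_zero, add_zero]
        map_add' := fun t t' => by
          rw [TrivSqZeroExt.fst_add, TrivSqZeroExt.snd_add, map_add, map_add]
          ring
        map_mul' := fun t t' => by
          rw [TrivSqZeroExt.fst_mul, TrivSqZeroExt.snd_mul, map_mul, map_add]
          have h1 : X.incl (TrivSqZeroExt.fst t • TrivSqZeroExt.snd t') =
              σ (TrivSqZeroExt.fst t) * X.incl (TrivSqZeroExt.snd t') := by
            rw [X.isExtension.mul_incl, hσproj]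
          have h2 : X.incl (MulOpposite.op (TrivSqZeroExt.fst t') • TrivSqZeroExt.snd t) =
              X.incl (TrivSqZeroExt.snd t) * σ (TrivSqZeroExt.fst t') := by
            rw [incl_mul, hσproj]
            rfl
          rw [h1, h2, add_mul, mul_add, mul_add, incl_mul_incl]
          ring }
    have hG₀ : ∀ t, G₀ t = σ (TrivSqZeroExt.fst t) + X.incl (TrivSqZeroExt.snd t) := fun t => rfl
    let G : (Exal.Ext.ofDerivation (C := C) D).E →ₐ[B] X.E :=
      { toRingHom := G₀
        commutes' := fun x => by
          show G₀ (TrivSqZeroExt.inl (algebraMap B C x) + TrivSqZeroExt.inr (D x)) = _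
          rw [hG₀, TrivSqZeroExt.fst_add, TrivSqZeroExt.snd_add, TrivSqZeroExt.fst_inl,
            TrivSqZeroExt.fst_inr, TrivSqZeroExt.snd_inl, TrivSqZeroExt.snd_inr, add_zero, zero_add,
            hDapp, hD₀]
          ring }
    have hGapp : ∀ t : TrivSqZeroExt C L, G t = σ (TrivSqZeroExt.fst t) + X.incl (TrivSqZeroExt.snd t) :=
      fun t => rfl
    have hGinj : Function.Injective G := by
      rw [injective_iff_map_eq_zero]
      intro t ht
      have ht' : σ (TrivSqZeroExt.fst (t : TrivSqZeroExt C L)) +
          X.incl (TrivSqZeroExt.snd (t : TrivSqZeroExt C L)) = 0 := ht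
      have h1 := congrArg X.proj ht'
      rw [map_add, hσproj, proj_incl, add_zero, map_zero] at h1
      rw [h1, map_zero, zero_add] at ht'
      have h2 : TrivSqZeroExt.snd (t : TrivSqZeroExt C L) = 0 :=
        X.isExtension.incl_injective (by rw [ht', map_zero])
      exact TrivSqZeroExt.ext h1 h2
    have hGsurj : Function.Surjective G := by
      intro x
      have hk : X.proj (x - σ (X.proj x)) = 0 := by rw [map_sub, hσproj, sub_self]
      refine ⟨(TrivSqZeroExt.inl (X.proj x) + TrivSqZeroExt.inr (X.kerLift _ hk) :
        TrivSqZeroExt C L), ?_⟩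
      rw [hGapp, TrivSqZeroExt.fst_add, TrivSqZeroExt.snd_add, TrivSqZeroExt.fst_inl,
        TrivSqZeroExt.fst_inr, TrivSqZeroExt.snd_inl, TrivSqZeroExt.snd_inr, add_zero, zero_add,
        X.incl_kerLift]
      ring
    refine { toAlgEquiv := AlgEquiv.ofBijective G ⟨hGinj, hGsurj⟩, proj_apply := ?_, apply_incl := ?_ }
    · intro t
      show X.proj (G t) = TrivSqZeroExt.fst (t : TrivSqZeroExt C L)
      rw [hGapp, map_add, hσproj, proj_incl, add_zero]
    · intro z
      show G (TrivSqZeroExt.inr z : TrivSqZeroExt C L) = X.incl z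
      rw [hGapp, TrivSqZeroExt.fst_inr, TrivSqZeroExt.snd_inr, map_zero, zero_add]
  · rintro ⟨D, ⟨e⟩⟩
    let s₀ : C →+* X.E :=
      (e.symm.toAlgEquiv : (Exal.Ext.ofDerivation (C := C) D).E →+* X.E).comp
        (TrivSqZeroExt.inlHom C L : C →+* TrivSqZeroExt C L)
    have hs₀ : ∀ c, s₀ c = e.symm.toAlgEquiv (TrivSqZeroExt.inl c : TrivSqZeroExt C L) := fun c => rfl
    refine ⟨{ toRingHom := s₀, commutes' := ?_ }, ?_⟩
    · intro a
      show s₀ (algebraMap A C a) = algebraMap B X.E (algebraMap A B a)
      rw [hs₀, ← e.symm.toAlgEquiv.commutes (algebraMap A B a)]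
      congr 1
      show _ = TrivSqZeroExt.inl (algebraMap B C (algebraMap A B a)) +
        TrivSqZeroExt.inr (D (algebraMap A B a))
      rw [Derivation.map_algebraMap, TrivSqZeroExt.inr_zero, add_zero,
        ← IsScalarTower.algebraMap_apply A B C]
    · intro c
      show X.proj (s₀ c) = c
      rw [hs₀, e.symm.proj_apply]
      rfl

end Groth.Agent.S5818
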