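import Groth.Statements.S5819
import Mathlib.Tactic

set_option autoImplicit false
universe u v
open EGA41

namespace Groth.Agent.S5819

/-- Commutative rings, exactness at Exalcom_A(C, L) on underlying pointed sets. For ring maps A → B → C
and a C-module L, an A-extension Y of C by L pulls back to a trivial A-extension of B if and only if
Y is equivalent to some B-extension of C by L viewed as an A-extension. -/
theorem result {A : Type u} {B C L : Type v} [CommRing A]
    [CommRing B] [CommRing C] [Algebra A B] [Algebra B C] [Algebra A C] [IsScalarTower A B C]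
    [AddCommGroup L] [Module C L] [Module B L] [IsScalarTower B C L]
    (Y : Exal.Ext A C L) :
    (Y.pullback B).IsTrivial ↔
      ∃ X : Exal.Ext B C L, Nonempty ((X.restrictBase A).Equiv Y) := by
  constructor
  · rintro ⟨s, hs⟩
    let s' : B → Y.fiberProd B := fun b => s b
    let t : B →ₐ[A] Y.E := (AlgHom.fst A Y.E B).comp ((Y.fiberProd B).val.comp s)
    have htapp : ∀ b, t b = ((s' b : Y.fiberProd B) : Y.E × B).1 := fun b => rfl
    have hsnd : ∀ b, ((s' b : Y.fiberProd B) : Y.E × B).2 = b := hs
    have ht : ∀ b, Y.proj (t b) = algebraMap B C b := by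
      intro b
      have hmem : ((s' b : Y.fiberProd B) : Y.E × B) ∈ Y.fiberProd B := (s' b).2
      have h2 : Y.proj ((s' b : Y.fiberProd B) : Y.E × B).1 =
          algebraMap B C ((s' b : Y.fiberProd B) : Y.E × B).2 := by
        unfold Exal.Ext.fiberProd at hmem
        rw [AlgHom.mem_equalizer] at hmem
        exact hmem
      rw [hsnd] at h2
      rw [htapp]
      exact h2
    let algBE : Algebra B Y.E := t.toRingHom.toAlgebra
    have halg : ∀ b, algebraMap B Y.E b = t b := fun b => rfl
    let X : Exal.Ext B C L :=
      { E := Y.E
        proj := { toRingHom := Y.proj.toRingHom, commutes' := fun b => ht b }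
        incl := Y.incl
        isExtension :=
          { proj_surjective := Y.isExtension.proj_surjective
            incl_injective := Y.isExtension.incl_injective
            exact := Y.isExtension.exact
            mul_incl := Y.isExtension.mul_incl } }
    have hcomm : ∀ a : A, (RingEquiv.refl Y.E) (algebraMap A (X.restrictBase A).E a) =
        algebraMap A Y.E a := by
      intro a
      show t (algebraMap A B a) = algebraMap A Y.E a
      exact t.commutes a
    let eq : (X.restrictBase A).E ≃ₐ[A] Y.E := AlgEquiv.ofRingEquiv (f := RingEquiv.refl Y.E) hcomm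
    exact ⟨X, ⟨{ toAlgEquiv := eq
                 proj_apply := fun x => rfl
                 apply_incl := fun z => rfl }⟩⟩
  · rintro ⟨X, ⟨e⟩⟩
    let φ : B →ₐ[A] (X.restrictBase A).E :=
      { toRingHom := algebraMap B X.E, commutes' := fun a => rfl }
    let g : B →ₐ[A] Y.E := (e.toAlgEquiv : (X.restrictBase A).E →ₐ[A] Y.E).comp φ
    have hg : ∀ b, Y.proj (g b) = algebraMap B C b := by
      intro b
      show Y.proj (e.toAlgEquiv (φ b)) = _
      rw [e.proj_apply]
      show X.proj (algebraMap B X.E b) = _
      rw [AlgHom.commutes]
    let f : B →ₐ[A] Y.E × B := AlgHom.prod g (AlgHom.id A B)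
    have hf : ∀ b, f b ∈ Y.fiberProd B := by
      intro b
      unfold Exal.Ext.fiberProd
      rw [AlgHom.mem_equalizer]
      exact hg b
    exact ⟨AlgHom.codRestrict f (Y.fiberProd B) hf, fun b => rfl⟩

end Groth.Agent.S5819
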