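import Groth.Statements.S5820
import Groth.Agent.Lib.Helper74.CharHom

set_option autoImplicit false
universe u v
open EGA41

namespace Groth.Agent.S5820

open TensorProduct KaehlerDifferential Groth.Agent.Lib.Helper74.CharHom

/-- For ring maps A → B → C, a C-module L and a B-extension X of C by L with middle ring E which is
A-trivial, there is exactly one C-linear map χ from the imperfection module Υ_{C/B/A} = ker(C ⊗_B
Ω_{B/A} → Ω_{C/A}) to L making the defining square commute, i.e. such that z ↦ 1 ⊗ d(χ z) ∈ C ⊗_E
Ω_{E/A} agrees on Υ_{C/B/A} with the map induced by B → E. This χ is the characteristic homomorphism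
of X. (The published statement also asserts that both rows of its diagram are exact; this row states
only the commutativity of the left square and the existence and uniqueness of χ.) -/
theorem result {A : Type u} {B C L : Type v} [CommRing A] [CommRing B] [CommRing C]
    [Algebra A B] [Algebra B C] [Algebra A C] [IsScalarTower A B C] [AddCommGroup L] [Module C L]
    (X : Exal.Ext B C L) (hX : X.IsTrivialOver A) :
    ∃! χ : ↥(EGA41.imperfection A B C) →ₗ[C] L, X.IsCharHom A χ := by
  have hinj := deltaL_injective A X hX
  have hex : ∀ z : EGA41.imperfection A B C,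
      ∃ l : L, X.deltaL A l = X.baseChangeToMiddle A (z : C ⊗[B] Ω[B⁄A]) := by
    intro z
    apply exists_deltaL_eq
    rw [mapBaseChange_baseChangeToMiddle]
    exact z.2
  choose χ₀ hχ₀ using hex
  refine ⟨{ toFun := χ₀, map_add' := ?_, map_smul' := ?_ }, ?_, ?_⟩
  · intro z z'
    apply hinj
    rw [map_add, hχ₀, hχ₀, hχ₀, Submodule.coe_add, map_add]
  · intro c z
    apply hinj
    rw [RingHom.id_apply, deltaL_smul, hχ₀, hχ₀, Submodule.coe_smul, baseChangeToMiddle_smul]
  · exact hχ₀
  · intro χ' hχ'
    ext z
    apply hinj
    rw [hχ' z]
    exact (hχ₀ z).symm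

end Groth.Agent.S5820
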