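import Groth.Statements.S5821
import Groth.Agent.Lib.Helper74.CharHom

set_option autoImplicit false
universe u v
open EGA41

namespace Groth.Agent.S5821

open TensorProduct KaehlerDifferential Groth.Agent.Lib.Helper74.CharHom

section
variable {A : Type u} {B : Type v} [CommRing A] [CommRing B] [Algebra A B] (K : Ideal B)

lemma ker_eq : RingHom.ker (algebraMap B (B ⧸ K)) = K := by
  rw [Ideal.Quotient.algebraMap_eq, Ideal.mk_ker]

lemma one_tmul_D_mem (k : B) (hk : k ∈ K) :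
    ((1 : B ⧸ K) ⊗ₜ[B] D A B k) ∈ EGA41.imperfection A B (B ⧸ K) := by
  change mapBaseChange A B (B ⧸ K) _ = 0
  rw [mapBaseChange_tmul, one_smul, KaehlerDifferential.map_D, Ideal.Quotient.algebraMap_eq,
    Ideal.Quotient.eq_zero_iff_mem.2 hk, map_zero]

lemma exists_eq_one_tmul_D (z : EGA41.imperfection A B (B ⧸ K)) :
    ∃ k : B, k ∈ K ∧ (z : (B ⧸ K) ⊗[B] Ω[B⁄A]) = (1 : B ⧸ K) ⊗ₜ[B] D A B k := by
  obtain ⟨y, hy⟩ := (exact_kerCotangentToTensor_mapBaseChange A B (B ⧸ K)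
    Ideal.Quotient.mk_surjective z.1).1 z.2
  obtain ⟨x, rfl⟩ := Ideal.toCotangent_surjective _ y
  refine ⟨x.1, ?_, ?_⟩
  · exact (SetLike.ext_iff.1 (ker_eq K) x.1).1 x.2
  · rw [← hy, kerCotangentToTensor_toCotangent]

lemma one_tmul_D_eq_zero (k : B) (hk : k ∈ K ^ 2) :
    ((1 : B ⧸ K) ⊗ₜ[B] D A B k) = 0 := by
  have hk1 : k ∈ RingHom.ker (algebraMap B (B ⧸ K)) := by
    rw [ker_eq]; exact Ideal.pow_le_self two_ne_zero hk
  have h0 : (RingHom.ker (algebraMap B (B ⧸ K))).toCotangent ⟨k, hk1⟩ = 0 := by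
    rw [Ideal.toCotangent_eq_zero]
    have h3 : RingHom.ker (algebraMap B (B ⧸ K)) ^ 2 = K ^ 2 := by rw [ker_eq]
    exact (SetLike.ext_iff.1 h3 k).2 hk
  have := kerCotangentToTensor_toCotangent A B (B ⧸ K) ⟨k, hk1⟩
  rw [h0, map_zero] at this
  exact this.symm

lemma deltaL_toCotangent (k : K) :
    (Exal.Ext.infinitesimal K).deltaL A (K.toCotangent k) =
      (Exal.Ext.infinitesimal K).baseChangeToMiddle A ((1 : B ⧸ K) ⊗ₜ[B] D A B k.1) := by
  rw [baseChangeToMiddle_tmul, deltaL_apply, KaehlerDifferential.map_D]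
  congr 2

end

/-- For a ring map A → B, an ideal K of B, C = B ⧸ K and the B-extension E = B ⧸ K² of C by K/K², if E
is A-trivial then its characteristic homomorphism Υ_{C/B/A} → K/K² is bijective (stated for every
C-linear χ satisfying the defining square, of which there is exactly one). -/
theorem result {A : Type u} {B : Type v} [CommRing A] [CommRing B] [Algebra A B]
    (K : Ideal B) (hK : (Exal.Ext.infinitesimal K).IsTrivialOver A)
    (χ : ↥(EGA41.imperfection A B (B ⧸ K)) →ₗ[B ⧸ K] K.Cotangent)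
    (hχ : (Exal.Ext.infinitesimal K).IsCharHom A χ) :
    Function.Bijective χ := by
  have hinj := deltaL_injective A (Exal.Ext.infinitesimal K) hK
  have key : ∀ (k : B) (hk : k ∈ K),
      χ ⟨(1 : B ⧸ K) ⊗ₜ[B] D A B k, one_tmul_D_mem K k hk⟩ = K.toCotangent ⟨k, hk⟩ := by
    intro k hk
    apply hinj
    rw [hχ, deltaL_toCotangent]
  constructor
  · rw [injective_iff_map_eq_zero]
    intro z hz
    obtain ⟨k, hk, hzk⟩ := exists_eq_one_tmul_D K z
    have hz' : z = ⟨(1 : B ⧸ K) ⊗ₜ[B] D A B k, one_tmul_D_mem K k hk⟩ := Subtype.ext hzk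
    rw [hz', key k hk, Ideal.toCotangent_eq_zero] at hz
    rw [hz']
    exact Subtype.ext (one_tmul_D_eq_zero K k hz)
  · intro l
    obtain ⟨k, rfl⟩ := K.toCotangent_surjective l
    exact ⟨⟨(1 : B ⧸ K) ⊗ₜ[B] D A B k.1, one_tmul_D_mem K k.1 k.2⟩, key k.1 k.2⟩

end Groth.Agent.S5821
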