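import Groth.Statements.S5822
import Groth.Agent.Lib.Helper74.CharHomDer
import Groth.Agent.S5818

set_option autoImplicit false
universe u v
open scoped TensorProduct
open EGA41

namespace Groth.Agent.S5822

open TensorProduct KaehlerDifferential Groth.Agent.Lib.Helper74.CharHom

/-- Injectivity. For ring maps A → B → C and a C-module L, assume (i) L is an injective C-module, or
(ii) Υ_{C/B/A} is a direct summand of C ⊗_B Ω_{B/A} and Ω_{C/A} → Ω_{C/B} has a right inverse. Then
two A-trivial B-extensions of C by L with a common characteristic homomorphism are equivalent: the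
map from classes of A-trivial extensions to Hom_C(Υ_{C/B/A}, L) is injective. -/
theorem result {A : Type u} {B C L : Type v} [CommRing A] [CommRing B] [CommRing C]
    [Algebra A B] [Algebra B C] [Algebra A C] [IsScalarTower A B C] [AddCommGroup L] [Module C L]
    (h : Module.Injective C L ∨
      ((∃ r : C ⊗[B] Ω[B⁄A] →ₗ[C] ↥(EGA41.imperfection A B C), ∀ z : ↥(EGA41.imperfection A B C), r z = z) ∧
        ∃ s : Ω[C⁄B] →ₗ[C] Ω[C⁄A], ∀ ω : Ω[C⁄B], KaehlerDifferential.map A B C C (s ω) = ω))
    (X Y : Exal.Ext B C L) (hX : X.IsTrivialOver A) (hY : Y.IsTrivialOver A)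
    (χ : ↥(EGA41.imperfection A B C) →ₗ[C] L) (hXχ : X.IsCharHom A χ) (hYχ : Y.IsCharHom A χ) :
    Nonempty (X.Equiv Y) := by
  let _ : Module B L := Module.compHom L (algebraMap B C)
  have _ : IsScalarTower B C L := ⟨fun b c l => by
    change (b • c) • l = algebraMap B C b • c • l
    rw [Algebra.smul_def, mul_smul]⟩
  let _ : Module A L := Module.compHom L (algebraMap A C)
  have _ : IsScalarTower A C L := ⟨fun a c l => by
    change (a • c) • l = algebraMap A C a • c • l
    rw [Algebra.smul_def, mul_smul]⟩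
  have _ : IsScalarTower A B L := ⟨fun a b l => by
    change algebraMap B C (a • b) • l = algebraMap A C a • algebraMap B C b • l
    rw [Algebra.smul_def, map_mul, ← IsScalarTower.algebraMap_apply A B C, mul_smul]⟩
  obtain ⟨D₁, ⟨e₁⟩⟩ := (Groth.Agent.S5818.result X).1 hX
  obtain ⟨D₂, ⟨e₂⟩⟩ := (Groth.Agent.S5818.result Y).1 hY
  have h₁ := isCharHom_of_equiv A e₁ hX χ hXχ
  have h₂ := isCharHom_of_equiv A e₂ hY χ hYχ
  rw [isCharHom_ofDerivation_iff] at h₁ h₂
  have h' : Module.Injective C L ∨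
      ∃ s : Ω[C⁄B] →ₗ[C] Ω[C⁄A], ∀ ω : Ω[C⁄B], KaehlerDifferential.map A B C C (s ω) = ω := by
    rcases h with h | ⟨_, hs⟩
    · exact Or.inl h
    · exact Or.inr hs
  obtain ⟨Ψ, hΨ⟩ := exists_factor A B C h' (phi D₁ - phi D₂) (fun z hz => by
    rw [LinearMap.sub_apply, ← h₁ ⟨z, hz⟩, ← h₂ ⟨z, hz⟩, sub_self])
  let δ : Derivation A C L := Ψ.compDer (KaehlerDifferential.D A C)
  have hδ : ∀ b, δ (algebraMap B C b) = D₁ b - D₂ b := by
    intro b
    have := hΨ ((1 : C) ⊗ₜ[B] KaehlerDifferential.D A B b)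
    rw [mapBaseChange_tmul, one_smul, KaehlerDifferential.map_D, LinearMap.sub_apply, phi_tmul_D,
      phi_tmul_D, one_smul, one_smul] at this
    exact this
  exact ⟨e₁.trans ((equivOfDer D₁ D₂ δ hδ).trans e₂.symm)⟩

end Groth.Agent.S5822
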