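import Groth.Statements.S5823
import Groth.Agent.Lib.Helper74.CharHomDer

set_option autoImplicit false
universe u v
open scoped TensorProduct
open EGA41

namespace Groth.Agent.S5823

open TensorProduct KaehlerDifferential Groth.Agent.Lib.Helper74.CharHom

/-- Surjectivity. For ring maps A → B → C and a C-module L, assume (i) L is an injective C-module, or
(ii) Υ_{C/B/A} is a direct summand of C ⊗_B Ω_{B/A} and Ω_{C/A} → Ω_{C/B} has a right inverse. Then
every C-linear map Υ_{C/B/A} → L is the characteristic homomorphism of an A-trivial B-extension of C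
by L. -/
theorem result {A : Type u} {B C L : Type v} [CommRing A] [CommRing B] [CommRing C]
    [Algebra A B] [Algebra B C] [Algebra A C] [IsScalarTower A B C] [AddCommGroup L] [Module C L]
    (h : Module.Injective C L ∨
      ((∃ r : C ⊗[B] Ω[B⁄A] →ₗ[C] ↥(EGA41.imperfection A B C), ∀ z : ↥(EGA41.imperfection A B C), r z = z) ∧
        ∃ s : Ω[C⁄B] →ₗ[C] Ω[C⁄A], ∀ ω : Ω[C⁄B], KaehlerDifferential.map A B C C (s ω) = ω))
    (χ : ↥(EGA41.imperfection A B C) →ₗ[C] L) :
    ∃ X : Exal.Ext B C L, X.IsTrivialOver A ∧ X.IsCharHom A χ := by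
  have hφ : ∃ φ : C ⊗[B] Ω[B⁄A] →ₗ[C] L,
      ∀ z : EGA41.imperfection A B C, φ (z : C ⊗[B] Ω[B⁄A]) = χ z := by
    rcases h with h | ⟨⟨r, hr⟩, _⟩
    · obtain ⟨φ, hφ⟩ := Module.Injective.extension_property C L
        (↥(EGA41.imperfection A B C)) (C ⊗[B] Ω[B⁄A])
        (EGA41.imperfection A B C).subtype (Submodule.injective_subtype _) χ
      exact ⟨φ, fun z => LinearMap.congr_fun hφ z⟩
    · exact ⟨χ ∘ₗ r, fun z => by rw [LinearMap.comp_apply, hr z]⟩
  obtain ⟨φ, hφ⟩ := hφ
  let _ : Module B L := Module.compHom L (algebraMap B C)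
  have _ : IsScalarTower B C L := ⟨fun b c l => by
    change (b • c) • l = algebraMap B C b • c • l
    rw [Algebra.smul_def, mul_smul]⟩
  let _ : Module A L := Module.compHom L (algebraMap A C)
  have _ : IsScalarTower A C L := ⟨fun a c l => by
    change (a • c) • l = algebraMap A C a • c • l
    rw [Algebra.smul_def, mul_smul]⟩
  have _ : IsScalarTower A B L := ⟨fun a b l => by
    change algebraMap B C (a • b) • l = algebraMap A C a • algebraMap B C b • l
    rw [Algebra.smul_def, map_mul, ← IsScalarTower.algebraMap_apply A B C, mul_smul]⟩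
  let D : Derivation A B L :=
    ((φ.restrictScalars B).comp (TensorProduct.mk B C Ω[B⁄A] 1)).compDer (KaehlerDifferential.D A B)
  have hD : ∀ b, D b = φ ((1 : C) ⊗ₜ[B] KaehlerDifferential.D A B b) := fun b => rfl
  have hphi : ∀ w, phi D w = φ w := by
    have : (phi D).toAddMonoidHom = φ.toAddMonoidHom := by
      apply addHom_ext_tmul_D A
      intro c b
      change phi D (c ⊗ₜ[B] KaehlerDifferential.D A B b) = φ (c ⊗ₜ[B] KaehlerDifferential.D A B b)
      rw [phi_tmul_D, hD, ← map_smul, TensorProduct.smul_tmul', smul_eq_mul, mul_one]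
    exact fun w => DFunLike.congr_fun this w
  refine ⟨Exal.Ext.ofDerivation (C := C) D, isTrivialOver_of_section A _ (sec D) (sec_comp D), ?_⟩
  rw [isCharHom_ofDerivation_iff]
  intro z
  rw [hphi, hφ]

end Groth.Agent.S5823
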