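import Mathlib
import Groth.Statements.S5824
import Groth.Agent.S5822
import Groth.Agent.S5823

set_option autoImplicit false
universe u v
open EGA41

namespace Groth.Agent.S5824

open TensorProduct

theorem isTrivialOver_of_formallySmooth {A : Type u} {B C L : Type v} [CommRing A] [CommRing B]
    [CommRing C] [Algebra A B] [Algebra B C] [Algebra A C] [IsScalarTower A B C] [AddCommGroup L]
    [Module C L] [Algebra.FormallySmooth A C] (X : Exal.Ext B C L) : X.IsTrivialOver A := by
  have hsq : RingHom.ker ((X.restrictBase A).proj : (X.restrictBase A).E →+* C) ^ 2 = ⊥ := by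
    rw [eq_bot_iff, sq, Ideal.mul_le]
    intro r hr t ht
    rw [RingHom.mem_ker] at hr ht
    obtain ⟨z, rfl⟩ := ((X.restrictBase A).isExtension.exact t).1 ht
    rw [Ideal.mem_bot, (X.restrictBase A).isExtension.mul_incl]
    have : ((X.restrictBase A).proj r : C) = 0 := hr
    rw [this, zero_smul, map_zero]
  have hnil : IsNilpotent (RingHom.ker ((X.restrictBase A).proj : (X.restrictBase A).E →+* C)) :=
    ⟨2, hsq⟩
  exact ⟨Algebra.FormallySmooth.liftOfSurjective (AlgHom.id A C) (X.restrictBase A).proj
    (X.restrictBase A).isExtension.proj_surjective hnil,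
    fun b => Algebra.FormallySmooth.liftOfSurjective_apply (AlgHom.id A C) (X.restrictBase A).proj
      (X.restrictBase A).isExtension.proj_surjective hnil b⟩

theorem exists_retraction_and_section {A : Type u} {B C : Type v} [CommRing A] [CommRing B]
    [CommRing C] [Algebra A B] [Algebra B C] [Algebra A C] [IsScalarTower A B C]
    [Algebra.FormallySmooth A C] [Module.Projective C Ω[C⁄B]] :
    (∃ r : C ⊗[B] Ω[B⁄A] →ₗ[C] ↥(EGA41.imperfection A B C),
        ∀ z : ↥(EGA41.imperfection A B C), r z = z) ∧
      ∃ s : Ω[C⁄B] →ₗ[C] Ω[C⁄A], ∀ ω : Ω[C⁄B], KaehlerDifferential.map A B C C (s ω) = ω := by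
  obtain ⟨s, hs⟩ := Module.projective_lifting_property (KaehlerDifferential.map A B C C)
    LinearMap.id (KaehlerDifferential.map_surjective A B C)
  have hs' : ∀ ω, KaehlerDifferential.map A B C C (s ω) = ω := fun ω => LinearMap.congr_fun hs ω
  refine ⟨?_, s, hs'⟩
  let f := KaehlerDifferential.mapBaseChange A B C
  have hex : Function.Exact f (KaehlerDifferential.map A B C C) :=
    KaehlerDifferential.exact_mapBaseChange_map A B C
  have hmem : ∀ ω : Ω[C⁄A], ω - s (KaehlerDifferential.map A B C C ω) ∈ LinearMap.range f := by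
    intro ω
    rw [← hex.linearMap_ker_eq, LinearMap.mem_ker, map_sub, hs', sub_self]
  let q : Ω[C⁄A] →ₗ[C] LinearMap.range f :=
    LinearMap.codRestrict (LinearMap.range f) (LinearMap.id - s ∘ₗ KaehlerDifferential.map A B C C)
      (fun ω => hmem ω)
  have hq : q ∘ₗ (LinearMap.range f).subtype = LinearMap.id := by
    ext ⟨ω, hω⟩
    change ω - s (KaehlerDifferential.map A B C C ω) = ω
    rw [← hex.linearMap_ker_eq, LinearMap.mem_ker] at hω
    rw [hω, map_zero, sub_zero]
  have hproj : Module.Projective C (LinearMap.range f) :=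
    Module.Projective.of_split (LinearMap.range f).subtype q hq
  obtain ⟨t, ht⟩ := Module.projective_lifting_property f.rangeRestrict LinearMap.id
    f.surjective_rangeRestrict
  have ht' : ∀ y : LinearMap.range f, f (t y) = y := fun y =>
    congrArg Subtype.val (LinearMap.congr_fun ht y)
  refine ⟨LinearMap.codRestrict (EGA41.imperfection A B C) (LinearMap.id - t ∘ₗ f.rangeRestrict)
    (fun x => ?_), fun z => ?_⟩
  · change f (x - t (f.rangeRestrict x)) = 0
    rw [map_sub, ht']
    exact sub_self _
  · apply Subtype.ext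
    change (z : C ⊗[B] Ω[B⁄A]) - t (f.rangeRestrict z) = z
    have hz : f.rangeRestrict (z : C ⊗[B] Ω[B⁄A]) = 0 := Subtype.ext z.2
    rw [hz, map_zero, sub_zero]

/-- For ring maps A → B → C with C formally smooth over A (discrete topologies) and Ω_{C/B} a projective
C-module, and a C-module L, the characteristic homomorphism is a bijection from the classes of all
B-extensions of C by L (each of which is A-trivial) onto Hom_C(Υ_{C/B/A}, L): injectivity on classes
and surjectivity. -/
theorem result {A : Type u} {B C L : Type v} [CommRing A] [CommRing B] [CommRing C]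
    [Algebra A B] [Algebra B C] [Algebra A C] [IsScalarTower A B C] [AddCommGroup L] [Module C L]
    [Algebra.FormallySmooth A C] [Module.Projective C Ω[C⁄B]] :
    (∀ (X Y : Exal.Ext B C L) (χ : ↥(EGA41.imperfection A B C) →ₗ[C] L),
        X.IsCharHom A χ → Y.IsCharHom A χ → Nonempty (X.Equiv Y)) ∧
      ∀ χ : ↥(EGA41.imperfection A B C) →ₗ[C] L, ∃ X : Exal.Ext B C L, X.IsCharHom A χ := by
  have h := exists_retraction_and_section (A := A) (B := B) (C := C)
  refine ⟨fun X Y χ hX hY => ?_, fun χ => ?_⟩
  · exact Groth.Agent.S5822.result (Or.inr h) X Y (isTrivialOver_of_formallySmooth X)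
      (isTrivialOver_of_formallySmooth Y) χ hX hY
  · obtain ⟨X, -, hX⟩ := Groth.Agent.S5823.result (L := L) (Or.inr h) χ
    exact ⟨X, hX⟩

end Groth.Agent.S5824
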