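import Groth.Statements.S5825
-- import your own Groth.Agent.* helpers here

set_option autoImplicit false
universe u v w
open EGA41

namespace Groth.Agent.S5825

/-- Let A be a topological ring, M, N topological A-modules with the topologies deduced from that of A,
and u : M → N a continuous linear map with dense image (a formal epimorphism). Then u is a formal
bimorphism (dense image and inducing) if and only if, for every open ideal J of A, the induced map
M/JM → N/JN is bijective (injectivity and surjectivity are written out elementwise). -/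
theorem result {A : Type u} {M : Type v} {N : Type w} [CommRing A]
    [TopologicalSpace A] [AddCommGroup M] [Module A M] [TopologicalSpace M] [AddCommGroup N] [Module A N]
    [TopologicalSpace N] (hM : TopMod.IsDeduced A M) (hN : TopMod.IsDeduced A N) (u : M →L[A] N)
    (hu : DenseRange u) :
    IsDenseInducing u ↔
      ∀ J : Ideal A, IsOpen (J : Set A) →
        (∀ x : M, u x ∈ (J • ⊤ : Submodule A N) → x ∈ (J • ⊤ : Submodule A M)) ∧
          ∀ y : N, ∃ x : M, y - u x ∈ (J • ⊤ : Submodule A N) := by
  obtain ⟨hMg, hMb⟩ := hM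
  obtain ⟨hNg, hNb⟩ := hN
  have hsurj : ∀ J : Ideal A, IsOpen (J : Set A) →
      ∀ y : N, ∃ x : M, y - u x ∈ (J • ⊤ : Submodule A N) := by
    intro J hJ y
    have hnb : {z : N | y - z ∈ (J • ⊤ : Submodule A N)} ∈ nhds y := by
      have hc : ContinuousAt (fun z : N => y - z) y :=
        (continuous_const.sub continuous_id).continuousAt
      have h0 : ((J • ⊤ : Submodule A N) : Set N) ∈ nhds (y - y) := by
        rw [sub_self]; exact hNb.mem_of_mem hJ
      exact hc.preimage_mem_nhds h0
    obtain ⟨x, hx⟩ := hu.mem_nhds hnb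
    exact ⟨x, hx⟩
  have hpre_ge : ∀ J : Ideal A, ((J • ⊤ : Submodule A M) : Set M) ⊆
      u ⁻¹' ((J • ⊤ : Submodule A N) : Set N) := by
    intro J x hx
    change u x ∈ (J • ⊤ : Submodule A N)
    refine Submodule.smul_induction_on hx ?_ ?_
    · intro a ha m _
      rw [map_smul]
      exact Submodule.smul_mem_smul ha Submodule.mem_top
    · intro x y hx hy
      rw [map_add]; exact add_mem hx hy
  constructor
  · intro hdi J hJ
    refine ⟨?_, hsurj J hJ⟩
    have hind := hdi.toIsInducing
    rw [IsTopologicalAddGroup.isInducing_iff_nhds_zero] at hind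
    have h1 : ((J • ⊤ : Submodule A M) : Set M) ∈ (nhds (0 : N)).comap u :=
      hind ▸ hMb.mem_of_mem hJ
    obtain ⟨J', hJ', hJ'sub⟩ := (hNb.comap u).mem_iff.1 h1
    have claim : ∀ n ∈ (J • ⊤ : Submodule A N), ∃ m ∈ (J • ⊤ : Submodule A M),
        n - u m ∈ (J' • ⊤ : Submodule A N) := by
      intro n hn
      refine Submodule.smul_induction_on hn ?_ ?_
      · intro a ha n' _
        obtain ⟨m, hm⟩ := hsurj J' hJ' n'
        refine ⟨a • m, Submodule.smul_mem_smul ha Submodule.mem_top, ?_⟩
        rw [map_smul, ← smul_sub]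
        exact Submodule.smul_mem _ a hm
      · rintro x y ⟨m1, hm1, h1⟩ ⟨m2, hm2, h2⟩
        refine ⟨m1 + m2, add_mem hm1 hm2, ?_⟩
        rw [map_add]
        have : x + y - (u m1 + u m2) = (x - u m1) + (y - u m2) := by abel
        rw [this]; exact add_mem h1 h2
    intro x hx
    obtain ⟨m, hm, hm'⟩ := claim (u x) hx
    have h2 : x - m ∈ (J • ⊤ : Submodule A M) :=
      hJ'sub (by change u (x - m) ∈ (J' • ⊤ : Submodule A N); rw [map_sub]; exact hm')
    have h3 := add_mem h2 hm
    rwa [sub_add_cancel] at h3
  · intro h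
    refine ⟨?_, hu⟩
    rw [IsTopologicalAddGroup.isInducing_iff_nhds_zero]
    refine hMb.eq_of_same_basis ((hNb.comap u).congr (fun _ => Iff.rfl) (fun J hJ => ?_))
    exact Set.Subset.antisymm (fun x hx => (h J hJ).1 x hx) (hpre_ge J)

end Groth.Agent.S5825
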