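import Groth.Statements.S5826
-- import your own Groth.Agent.* helpers here

set_option autoImplicit false
universe u v w
open EGA41

namespace Groth.Agent.S5826

open Topology in
lemma continuous_of_ker {G H : Type*} [AddCommGroup G] [TopologicalSpace G]
    [IsTopologicalAddGroup G] [AddCommGroup H] [TopologicalSpace H] [DiscreteTopology H]
    (f : G →+ H) (S : Set G) (hS : S ∈ 𝓝 (0 : G)) (hker : ∀ x ∈ S, f x = 0) : Continuous f := by
  apply continuous_of_continuousAt_zero f
  rw [ContinuousAt, map_zero, nhds_discrete H]
  exact Filter.tendsto_pure.2 (Filter.mem_of_superset hS hker)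

lemma smul_top_quot_eq_zero {A : Type u} {M : Type v} [CommRing A] [AddCommGroup M] [Module A M]
    (J : Ideal A) (a : A) (ha : a ∈ J) (y : M ⧸ (J • ⊤ : Submodule A M)) : a • y = 0 := by
  obtain ⟨m, rfl⟩ := Submodule.Quotient.mk_surjective _ y
  rw [← Submodule.Quotient.mk_smul, Submodule.Quotient.mk_eq_zero]
  exact Submodule.smul_mem_smul ha Submodule.mem_top


/-- Let A be a topological ring, M, N topological A-modules with the topologies deduced from that of A,
u : M → N a continuous linear map. Then u is formally left invertible if and only if, for every open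
ideal J of A, the induced map M/JM → N/JN is left invertible, i.e. some linear map N → M/JM composes
with u to the projection M → M/JM. -/
theorem result {A : Type u} {M : Type v} {N : Type w}
    [CommRing A] [TopologicalSpace A] [AddCommGroup M] [Module A M] [TopologicalSpace M] [AddCommGroup N]
    [Module A N] [TopologicalSpace N] (hM : TopMod.IsDeduced A M) (hN : TopMod.IsDeduced A N)
    (u : M →L[A] N) :
    TopMod.IsFormallyLeftInvertible u ↔
      ∀ J : Ideal A, IsOpen (J : Set A) →
        ∃ w : N →ₗ[A] M ⧸ (J • ⊤ : Submodule A M), ∀ x : M, w (u x) = Submodule.Quotient.mk x := by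
  obtain ⟨hMg, hMb⟩ := hM
  obtain ⟨hNg, hNb⟩ := hN
  constructor
  · intro h J hJ
    let _ : TopologicalSpace (M ⧸ (J • ⊤ : Submodule A M)) := ⊥
    have : DiscreteTopology (M ⧸ (J • ⊤ : Submodule A M)) := ⟨rfl⟩
    have hcont : Continuous (Submodule.mkQ (J • ⊤ : Submodule A M)) := by
      refine continuous_of_ker (Submodule.mkQ (J • ⊤ : Submodule A M)).toAddMonoidHom
        ((J • ⊤ : Submodule A M) : Set M) (hMb.mem_of_mem hJ) ?_
      intro x hx
      exact (Submodule.Quotient.mk_eq_zero _).2 hx
    obtain ⟨w, hw⟩ := h (M ⧸ (J • ⊤ : Submodule A M))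
      ⟨Submodule.mkQ (J • ⊤ : Submodule A M), hcont⟩
    exact ⟨w.toLinearMap, fun x => hw x⟩
  · intro h E _ _ _ _ v
    have hker : {x : M | v x = 0} ∈ nhds (0 : M) := by
      have : (v ⁻¹' {0}) ∈ nhds (0 : M) :=
        v.continuous.continuousAt.preimage_mem_nhds (by
          rw [map_zero]; exact (isOpen_discrete _).mem_nhds rfl)
      exact this
    obtain ⟨J, hJ, hJsub⟩ := hMb.mem_iff.1 hker
    obtain ⟨w, hw⟩ := h J hJ
    have hle : (J • ⊤ : Submodule A M) ≤ LinearMap.ker v.toLinearMap := by
      intro x hx
      exact hJsub hx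
    let vbar : (M ⧸ (J • ⊤ : Submodule A M)) →ₗ[A] E :=
      Submodule.liftQ (J • ⊤ : Submodule A M) v.toLinearMap hle
    let w' : N →ₗ[A] E := vbar.comp w
    have hcont : Continuous w' := by
      refine continuous_of_ker w'.toAddMonoidHom
        ((J • ⊤ : Submodule A N) : Set N) (hNb.mem_of_mem hJ) ?_
      intro x hx
      change w' x = 0
      refine Submodule.smul_induction_on hx ?_ ?_
      · intro a ha n _
        change vbar (w (a • n)) = 0
        rw [map_smul, smul_top_quot_eq_zero J a ha, map_zero]
      · intro x y hx hy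
        rw [map_add, hx, hy, add_zero]
    refine ⟨⟨w', hcont⟩, fun x => ?_⟩
    change vbar (w (u x)) = v x
    rw [hw x]
    rfl

end Groth.Agent.S5826
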