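import Groth.Statements.S5827
import Mathlib.Algebra.Ring.GeomSum
import Mathlib.Tactic

set_option autoImplicit false
universe u v w
open EGA41

namespace Groth.Agent.S5827


section aux

lemma continuous_of_ker_mem_nhds {A : Type*} {G : Type*} {H : Type*} [Ring A] [AddCommGroup G]
    [Module A G] [TopologicalSpace G] [IsTopologicalAddGroup G] [AddCommGroup H] [Module A H]
    [TopologicalSpace H] [DiscreteTopology H] (f : G →ₗ[A] H) (U : Set G) (hU : U ∈ nhds (0 : G))
    (hf : ∀ x ∈ U, f x = 0) : Continuous f := by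
  rw [continuous_discrete_rng]
  intro b
  rw [isOpen_iff_mem_nhds]
  intro x hx
  have h1 : Filter.Tendsto (fun y => y - x) (nhds x) (nhds 0) := by
    have hc : Continuous fun y : G => y - x := continuous_id.sub continuous_const
    have h2 : Filter.Tendsto (fun y : G => y - x) (nhds x) (nhds (x - x)) := hc.tendsto x
    rw [sub_self] at h2
    exact h2
  filter_upwards [h1 hU] with y hy
  have := hf _ hy
  rw [map_sub, sub_eq_zero] at this
  rw [Set.mem_preimage, Set.mem_singleton_iff, this]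
  exact hx

lemma core {A : Type u} [CommRing A] {M : Type v} {N : Type w} [AddCommGroup M] [Module A M]
    [AddCommGroup N] [Module A N]
    (𝔏 J : Ideal A) (hJ𝔏 : J ≤ 𝔏) (n : ℕ) (hn : 𝔏 ^ n ≤ J)
    [Module.Projective (A ⧸ J) (N ⧸ (J • (⊤ : Submodule A N)))]
    (u : M →ₗ[A] N) (w₀ : N →ₗ[A] M ⧸ (𝔏 • ⊤ : Submodule A M))
    (hw₀ : ∀ x, w₀ (u x) = Submodule.Quotient.mk x) :
    ∃ r : N →ₗ[A] M ⧸ (J • ⊤ : Submodule A M), ∀ x, r (u x) = Submodule.Quotient.mk x := by
  have hT : Module.IsTorsionBySet A (M ⧸ (𝔏 • ⊤ : Submodule A M)) J := by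
    intro x a
    obtain ⟨m, rfl⟩ := Submodule.Quotient.mk_surjective _ x
    rw [← Submodule.Quotient.mk_smul, Submodule.Quotient.mk_eq_zero]
    exact Submodule.smul_mem_smul (hJ𝔏 a.2) Submodule.mem_top
  letI : Module (A ⧸ J) (M ⧸ (𝔏 • ⊤ : Submodule A M)) := hT.module
  haveI : IsScalarTower A (A ⧸ J) (M ⧸ (𝔏 • ⊤ : Submodule A M)) := hT.isScalarTower
  have hle1 : (J • ⊤ : Submodule A M) ≤ 𝔏 • ⊤ := Submodule.smul_mono hJ𝔏 le_rfl
  let f : (M ⧸ (J • ⊤ : Submodule A M)) →ₗ[A] (M ⧸ (𝔏 • ⊤ : Submodule A M)) :=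
    Submodule.mapQ _ _ LinearMap.id hle1
  have hf_mk : ∀ m : M, f (Submodule.Quotient.mk m) = Submodule.Quotient.mk m := fun m => rfl
  have hf_surj : Function.Surjective f := by
    intro t
    obtain ⟨m, rfl⟩ := Submodule.Quotient.mk_surjective _ t
    exact ⟨Submodule.Quotient.mk m, rfl⟩
  have hle2 : (J • ⊤ : Submodule A N) ≤ LinearMap.ker w₀ := by
    rw [Submodule.smul_le]
    intro a ha y _
    rw [LinearMap.mem_ker, map_smul]
    exact @hT (w₀ y) ⟨a, ha⟩
  let g : (N ⧸ (J • ⊤ : Submodule A N)) →ₗ[A] (M ⧸ (𝔏 • ⊤ : Submodule A M)) :=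
    Submodule.liftQ _ w₀ hle2
  have hg_mk : ∀ y : N, g (Submodule.Quotient.mk y) = w₀ y := fun y => rfl
  have hsurjmk : Function.Surjective (algebraMap A (A ⧸ J)) := Ideal.Quotient.mk_surjective
  obtain ⟨h', hh'⟩ := Module.projective_lifting_property (f.extendScalarsOfSurjective hsurjmk)
    (g.extendScalarsOfSurjective hsurjmk) hf_surj
  let r₀ : (N ⧸ (J • ⊤ : Submodule A N)) →ₗ[A] (M ⧸ (J • ⊤ : Submodule A M)) :=
    h'.restrictScalars A
  have hr₀ : ∀ q, f (r₀ q) = g q := fun q => LinearMap.congr_fun hh' q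
  have hle3 : (J • ⊤ : Submodule A M) ≤ Submodule.comap u (J • ⊤ : Submodule A N) := by
    rw [Submodule.smul_le]
    intro a ha m _
    rw [Submodule.mem_comap, map_smul]
    exact Submodule.smul_mem_smul ha Submodule.mem_top
  let ū : (M ⧸ (J • ⊤ : Submodule A M)) →ₗ[A] (N ⧸ (J • ⊤ : Submodule A N)) :=
    Submodule.mapQ _ _ u hle3
  have hū_mk : ∀ m : M, ū (Submodule.Quotient.mk m) = Submodule.Quotient.mk (u m) := fun m => rfl
  let φ : Module.End A (M ⧸ (J • ⊤ : Submodule A M)) := r₀ ∘ₗ ū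
  have hfφ : ∀ p, f (φ p) = f p := by
    intro p
    obtain ⟨m, rfl⟩ := Submodule.Quotient.mk_surjective _ p
    change f (r₀ (ū (Submodule.Quotient.mk m))) = _
    rw [hr₀, hū_mk, hg_mk, hw₀, hf_mk]
  let ε : Module.End A (M ⧸ (J • ⊤ : Submodule A M)) := 1 - φ
  have hkerf : ∀ p, f p = 0 → p ∈ (𝔏 • ⊤ : Submodule A (M ⧸ (J • ⊤ : Submodule A M))) := by
    intro p hp
    obtain ⟨m, rfl⟩ := Submodule.Quotient.mk_surjective _ p
    rw [hf_mk, Submodule.Quotient.mk_eq_zero] at hp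
    refine Submodule.smul_induction_on
      (p := fun m => (Submodule.Quotient.mk m : M ⧸ (J • ⊤ : Submodule A M)) ∈
        (𝔏 • ⊤ : Submodule A (M ⧸ (J • ⊤ : Submodule A M)))) hp ?_ ?_
    · intro a ha m' _
      change Submodule.Quotient.mk (a • m') ∈ _
      rw [Submodule.Quotient.mk_smul]
      exact Submodule.smul_mem_smul ha Submodule.mem_top
    · intro x y hx hy
      change Submodule.Quotient.mk (x + y) ∈ _
      rw [Submodule.Quotient.mk_add]
      exact Submodule.add_mem _ hx hy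
  have hε : ∀ p, ε p ∈ (𝔏 • ⊤ : Submodule A (M ⧸ (J • ⊤ : Submodule A M))) := by
    intro p
    apply hkerf
    change f (p - φ p) = 0
    rw [map_sub, hfφ, sub_self]
  have hpow : ∀ (i : ℕ) p, (ε ^ i) p ∈ (𝔏 ^ i • ⊤ : Submodule A (M ⧸ (J • ⊤ : Submodule A M))) := by
    intro i
    induction i with
    | zero =>
      intro p
      rw [pow_zero, Ideal.one_eq_top, Submodule.top_smul]
      exact Submodule.mem_top
    | succ i ih =>
      intro p
      have hstep : (ε ^ (i + 1)) p = (ε ^ i) (ε p) := by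
        rw [pow_succ]; rfl
      rw [hstep]
      have key : ∀ y ∈ (𝔏 • ⊤ : Submodule A (M ⧸ (J • ⊤ : Submodule A M))),
          (ε ^ i) y ∈ (𝔏 ^ (i + 1) • ⊤ : Submodule A (M ⧸ (J • ⊤ : Submodule A M))) := by
        intro y hy
        refine Submodule.smul_induction_on
          (p := fun y => (ε ^ i) y ∈
            (𝔏 ^ (i + 1) • ⊤ : Submodule A (M ⧸ (J • ⊤ : Submodule A M)))) hy ?_ ?_
        · intro a ha z _
          change (ε ^ i) (a • z) ∈ _
          rw [map_smul, pow_succ', Submodule.mul_smul]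
          exact Submodule.smul_mem_smul ha (ih z)
        · intro x y hx hy
          change (ε ^ i) (x + y) ∈ _
          rw [map_add]
          exact Submodule.add_mem _ hx hy
      exact key _ (hε p)
  have hJP : (J • ⊤ : Submodule A (M ⧸ (J • ⊤ : Submodule A M))) = ⊥ := by
    rw [eq_bot_iff, Submodule.smul_le]
    intro a ha p _
    obtain ⟨m, rfl⟩ := Submodule.Quotient.mk_surjective _ p
    rw [Submodule.mem_bot, ← Submodule.Quotient.mk_smul, Submodule.Quotient.mk_eq_zero]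
    exact Submodule.smul_mem_smul ha Submodule.mem_top
  have hεn : ε ^ n = 0 := by
    refine LinearMap.ext fun p => ?_
    have h1 := hpow n p
    have h2 : (𝔏 ^ n • ⊤ : Submodule A (M ⧸ (J • ⊤ : Submodule A M))) ≤ J • ⊤ :=
      Submodule.smul_mono hn le_rfl
    have h3 := h2 h1
    rw [hJP, Submodule.mem_bot] at h3
    rw [h3]
    rfl
  let ψ : Module.End A (M ⧸ (J • ⊤ : Submodule A M)) := ∑ i ∈ Finset.range n, ε ^ i
  have hψφ : ψ * φ = 1 := by
    have h1 : ψ * (1 - ε) = 1 - ε ^ n := geom_sum_mul_neg ε n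
    rw [hεn, sub_zero] at h1
    have h2 : (1 : Module.End A (M ⧸ (J • ⊤ : Submodule A M))) - ε = φ := by
      change 1 - (1 - φ) = φ
      abel
    rw [h2] at h1
    exact h1
  refine ⟨ψ ∘ₗ r₀ ∘ₗ (J • ⊤ : Submodule A N).mkQ, fun x => ?_⟩
  change ψ (r₀ (Submodule.Quotient.mk (u x))) = _
  rw [← hū_mk]
  change (ψ * φ) (Submodule.Quotient.mk x) = _
  rw [hψφ]
  rfl

end aux

/-- Let A be a preadmissible topological ring with an ideal of definition 𝔏, M, N topological A-modules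
with the topologies deduced from that of A such that N/JN is a projective (A/J)-module for every
open ideal J, and u : M → N a continuous linear map. Then u is formally left invertible if and only
if the induced map M/𝔏M → N/𝔏N is left invertible. -/
theorem result {A : Type u} {M : Type v}
    {N : Type w} [CommRing A] [TopologicalSpace A] [AddCommGroup M] [Module A M] [TopologicalSpace M]
    [AddCommGroup N] [Module A N] [TopologicalSpace N] (hA : LinTop.IsPreadmissible A) (𝔏 : Ideal A)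
    (h𝔏 : LinTop.IsIdealOfDefinition A 𝔏) (hM : TopMod.IsDeduced A M) (hN : TopMod.IsDeduced A N)
    (hproj : ∀ J : Ideal A, IsOpen (J : Set A) → Module.Projective (A ⧸ J) (N ⧸ (J • (⊤ : Submodule A N))))
    (u : M →L[A] N) :
    TopMod.IsFormallyLeftInvertible u ↔
      ∃ w : N →ₗ[A] M ⧸ (𝔏 • ⊤ : Submodule A M), ∀ x : M, w (u x) = Submodule.Quotient.mk x := by
  haveI : IsTopologicalAddGroup M := hM.1
  haveI : IsTopologicalAddGroup N := hN.1
  constructor
  · intro h
    letI : TopologicalSpace (M ⧸ (𝔏 • ⊤ : Submodule A M)) := ⊥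
    haveI : DiscreteTopology (M ⧸ (𝔏 • ⊤ : Submodule A M)) := ⟨rfl⟩
    have hcont : Continuous (𝔏 • ⊤ : Submodule A M).mkQ :=
      continuous_of_ker_mem_nhds _ ((𝔏 • ⊤ : Submodule A M) : Set M)
        (hM.2.mem_of_mem h𝔏.1) (fun x hx => (Submodule.Quotient.mk_eq_zero _).2 hx)
    obtain ⟨w, hw⟩ := h (M ⧸ (𝔏 • ⊤ : Submodule A M)) ⟨(𝔏 • ⊤ : Submodule A M).mkQ, hcont⟩
    exact ⟨w.toLinearMap, fun x => hw x⟩
  · rintro ⟨w₀, hw₀⟩ E _ _ _ _ v
    have hker : (v ⁻¹' {0}) ∈ nhds (0 : M) :=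
      ((isOpen_discrete ({0} : Set E)).preimage v.continuous).mem_nhds (by simp)
    obtain ⟨J₀, hJ₀open, hJ₀⟩ := hM.2.mem_iff.1 hker
    have hJopen : IsOpen (((J₀ ⊓ 𝔏 : Ideal A)) : Set A) := by
      have : (((J₀ ⊓ 𝔏 : Ideal A)) : Set A) = (J₀ : Set A) ∩ (𝔏 : Set A) := rfl
      rw [this]
      exact hJ₀open.inter h𝔏.1
    obtain ⟨n, -, hn⟩ := h𝔏.2 _ (hJopen.mem_nhds (zero_mem (J₀ ⊓ 𝔏 : Ideal A)))
    haveI := hproj (J₀ ⊓ 𝔏) hJopen
    obtain ⟨r, hr⟩ := core 𝔏 (J₀ ⊓ 𝔏) inf_le_right n hn u.toLinearMap w₀ hw₀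
    have hle : ((J₀ ⊓ 𝔏 : Ideal A) • ⊤ : Submodule A M) ≤ LinearMap.ker v.toLinearMap := by
      intro x hx
      have h1 : x ∈ (J₀ • ⊤ : Submodule A M) := Submodule.smul_mono inf_le_left le_rfl hx
      have h2 := hJ₀ h1
      simpa using h2
    let vbar : (M ⧸ ((J₀ ⊓ 𝔏 : Ideal A) • ⊤ : Submodule A M)) →ₗ[A] E :=
      Submodule.liftQ _ v.toLinearMap hle
    let w : N →ₗ[A] E := vbar ∘ₗ r
    have hwker : ∀ x ∈ (((J₀ ⊓ 𝔏 : Ideal A) • ⊤ : Submodule A N) : Set N), w x = 0 := by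
      intro x hx
      have hx' : x ∈ ((J₀ ⊓ 𝔏 : Ideal A) • ⊤ : Submodule A N) := hx
      refine Submodule.smul_induction_on (p := fun x => w x = 0) hx' ?_ ?_
      · intro a ha y _
        change vbar (r (a • y)) = 0
        rw [map_smul]
        obtain ⟨m, hm⟩ := Submodule.Quotient.mk_surjective _ (r y)
        rw [← hm, ← Submodule.Quotient.mk_smul]
        have : (Submodule.Quotient.mk (a • m) :
            M ⧸ ((J₀ ⊓ 𝔏 : Ideal A) • ⊤ : Submodule A M)) = 0 := by
          rw [Submodule.Quotient.mk_eq_zero]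
          exact Submodule.smul_mem_smul ha Submodule.mem_top
        rw [this, map_zero]
      · intro x y hx hy
        change w (x + y) = 0
        rw [map_add, hx, hy, add_zero]
    have hwcont : Continuous w :=
      continuous_of_ker_mem_nhds w _ (hN.2.mem_of_mem hJopen) hwker
    refine ⟨⟨w, hwcont⟩, fun x => ?_⟩
    change vbar (r (u x)) = v x
    have := hr x
    change r (u x) = _ at this
    rw [this]
    rfl

end Groth.Agent.S5827
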