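import Groth.Statements.S5828
-- import your own Groth.Agent.* helpers here

set_option autoImplicit false
universe u v
open EGA41

namespace Groth.Agent.S5828

section aux

variable {A : Type u} {C L : Type v} [CommRing A] [CommRing C] [Algebra A C]
  [AddCommGroup L] [Module C L] [Module A L] [IsScalarTower A C L] (X : Exal.Ext A C L)

lemma proj_incl (z : L) : X.proj (X.incl z) = 0 :=
  (X.isExtension.exact (X.incl z)).2 ⟨z, rfl⟩

lemma incl_mul_incl (z z' : L) : X.incl z * X.incl z' = 0 := by
  rw [X.isExtension.mul_incl, proj_incl, zero_smul, map_zero]

noncomputable def derHom (D : Derivation A C L) : X.E →ₐ[A] X.E where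
  toFun x := x + X.incl (D (X.proj x))
  map_one' := by simp
  map_mul' x y := by
    have h1 : X.incl (D (X.proj x)) * y = X.incl (X.proj y • D (X.proj x)) := by
      rw [mul_comm, X.isExtension.mul_incl]
    simp only [map_mul, Derivation.leibniz, map_add, add_mul, mul_add, X.isExtension.mul_incl,
      incl_mul_incl, add_zero, h1, proj_incl]
    abel
  map_zero' := by simp
  map_add' x y := by
    simp only [map_add]
    abel
  commutes' a := by
    simp

lemma derHom_apply (D : Derivation A C L) (x : X.E) :
    derHom X D x = x + X.incl (D (X.proj x)) := rfl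

lemma proj_derHom (D : Derivation A C L) (x : X.E) : X.proj (derHom X D x) = X.proj x := by
  rw [derHom_apply, map_add, proj_incl, add_zero]

lemma derHom_comp_neg (D : Derivation A C L) (x : X.E) : derHom X D (derHom X (-D) x) = x := by
  rw [derHom_apply, proj_derHom, derHom_apply]
  simp

lemma derHom_neg_comp (D : Derivation A C L) (x : X.E) : derHom X (-D) (derHom X D x) = x := by
  rw [derHom_apply, proj_derHom, derHom_apply]
  simp

end aux


/-- Commutative case. For an A-extension X of C by a C-module L, with middle ring E, projection p and
inclusion i, the A-derivations D : C → L and the self-equivalences of X correspond under D ↦ (x ↦ x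
+ i (D (p x))): every derivation defines a self-equivalence with this formula, and every
self-equivalence is of this form for exactly one derivation. (Bijection of sets; the published
statement also records compatibility with the group laws.) -/
theorem result {A : Type u} {C L : Type v} [CommRing A] [CommRing C] [Algebra A C]
    [AddCommGroup L] [Module C L] [Module A L] [IsScalarTower A C L] (X : Exal.Ext A C L) :
    (∀ D : Derivation A C L, ∃ e : X.Equiv X, ∀ x : X.E, e.toAlgEquiv x = x + X.incl (D (X.proj x))) ∧
      ∀ e : X.Equiv X, ∃! D : Derivation A C L, ∀ x : X.E, e.toAlgEquiv x = x + X.incl (D (X.proj x)) := by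
  refine ⟨?_, ?_⟩
  · intro D
    refine ⟨{ toAlgEquiv := AlgEquiv.ofAlgHom (derHom X D) (derHom X (-D))
                (AlgHom.ext (derHom_comp_neg X D)) (AlgHom.ext (derHom_neg_comp X D))
              proj_apply := fun x => proj_derHom X D x
              apply_incl := fun z => by
                change derHom X D (X.incl z) = X.incl z
                rw [derHom_apply, proj_incl, map_zero, map_zero, add_zero] }, fun x => rfl⟩
  · intro e
    have hinj := X.isExtension.incl_injective
    have hsurj := X.isExtension.proj_surjective
    have hker : ∀ x : X.E, X.proj (e.toAlgEquiv x - x) = 0 := by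
      intro x
      rw [map_sub, e.proj_apply, sub_self]
    let δ : X.E → L := fun x => X.kerLift (e.toAlgEquiv x - x) (hker x)
    have hδ : ∀ x, X.incl (δ x) = e.toAlgEquiv x - x := fun x => X.incl_kerLift _ (hker x)
    have hδ_incl : ∀ z : L, δ (X.incl z) = 0 := by
      intro z
      apply hinj
      rw [hδ, e.apply_incl, sub_self, map_zero]
    have hδ_add : ∀ x y, δ (x + y) = δ x + δ y := by
      intro x y
      apply hinj
      rw [map_add, hδ, hδ, hδ, map_add]
      abel
    have hδ_wd : ∀ x y, X.proj x = X.proj y → δ x = δ y := by
      intro x y hxy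
      have h0 : X.proj (x - y) = 0 := by rw [map_sub, hxy, sub_self]
      obtain ⟨w, hw⟩ := (X.isExtension.exact (x - y)).1 h0
      have : x = y + X.incl w := by rw [hw]; abel
      rw [this, hδ_add, hδ_incl, add_zero]
    have hδ_mul : ∀ x y, δ (x * y) = X.proj x • δ y + X.proj y • δ x := by
      intro x y
      apply hinj
      have hx : e.toAlgEquiv x = x + X.incl (δ x) := by rw [hδ]; abel
      have hy : e.toAlgEquiv y = y + X.incl (δ y) := by rw [hδ]; abel
      have h1 : X.incl (δ x) * y = X.incl (X.proj y • δ x) := by
        rw [mul_comm, X.isExtension.mul_incl]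
      rw [hδ, map_mul, hx, hy, map_add, ← X.isExtension.mul_incl, ← h1]
      simp only [add_mul, mul_add, incl_mul_incl, add_zero]
      abel
    have hδ_alg : ∀ a : A, δ (algebraMap A X.E a) = 0 := by
      intro a
      apply hinj
      rw [hδ, AlgEquiv.commutes, sub_self, map_zero]
    let s : C → X.E := Function.surjInv hsurj
    have hs : ∀ c, X.proj (s c) = c := Function.surjInv_eq hsurj
    let D₀ : C →ₗ[A] L :=
      { toFun := fun c => δ (s c)
        map_add' := by
          intro c c'
          rw [← hδ_add]
          apply hδ_wd
          rw [map_add, hs, hs, hs]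
        map_smul' := by
          intro a c
          have h1 : δ (s (a • c)) = δ (algebraMap A X.E a * s c) := by
            apply hδ_wd
            rw [map_mul, hs, hs, AlgHom.commutes, Algebra.smul_def]
          rw [h1, hδ_mul, hδ_alg, smul_zero, add_zero, AlgHom.commutes, RingHom.id_apply,
            algebraMap_smul] }
    have hD₀ : ∀ x : X.E, D₀ (X.proj x) = δ x := by
      intro x
      change δ (s (X.proj x)) = δ x
      apply hδ_wd
      rw [hs]
    let D : Derivation A C L := Derivation.mk' D₀ (by
      intro c c'
      change δ (s (c * c')) = c • δ (s c') + c' • δ (s c)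
      have h1 : δ (s (c * c')) = δ (s c * s c') := by
        apply hδ_wd
        rw [map_mul, hs, hs, hs]
      rw [h1, hδ_mul, hs, hs])
    have hD : ∀ x : X.E, D (X.proj x) = δ x := hD₀
    refine ⟨D, ?_, ?_⟩
    · intro x
      rw [hD, hδ]
      abel
    · intro D' hD'
      ext c
      obtain ⟨x, rfl⟩ := hsurj c
      apply hinj
      have h1 := hD' x
      rw [hD, hδ, h1]
      abel

end Groth.Agent.S5828
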