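import Groth.Statements.S5830
import Mathlib

set_option autoImplicit false
universe u v
open EGA41

namespace Groth.Agent.S5830

section
variable {A : Type u} {B : Type v} [CommRing A] [CommRing B] [Algebra A B]
  {L : Type v} [AddCommGroup L] [Module B L] [Module A L] [IsScalarTower A B L]

def HExt (_f : B →ₗ[A] B →ₗ[A] L) : Type v := B × L

variable (f : B →ₗ[A] B →ₗ[A] L)

instance : AddCommGroup (HExt f) := inferInstanceAs (AddCommGroup (B × L))
instance : Module A (HExt f) := inferInstanceAs (Module A (B × L))

omit [IsScalarTower A B L] in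
theorem f_one_left (hcoc : ∀ x y z : B, f (x * y) z + z • f x y = x • f y z + f x (y * z))
    (b : B) : f 1 b = b • f 1 1 := by
  have := hcoc 1 1 b
  rw [one_mul, one_mul, one_smul] at this
  have h2 : b • f 1 1 = f 1 b := add_left_cancel this
  exact h2.symm

@[reducible] noncomputable def HExt.commRing (hsymm : ∀ x y : B, f x y = f y x)
    (hcoc : ∀ x y z : B, f (x * y) z + z • f x y = x • f y z + f x (y * z)) :
    CommRing (HExt f) :=
  { (inferInstance : AddCommGroup (HExt f)) with
    mul := fun x y => ((x.1 * y.1, x.1 • y.2 + y.1 • x.2 + f x.1 y.1) : B × L)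
    one := ((1, - f 1 1) : B × L)
    left_distrib := by
      rintro ⟨a, l⟩ ⟨b, m⟩ ⟨c, n⟩
      refine Prod.ext (mul_add a b c) ?_
      change a • (m + n) + (b + c) • l + f a (b + c) =
        (a • m + b • l + f a b) + (a • n + c • l + f a c)
      rw [map_add, smul_add, add_smul]
      abel
    right_distrib := by
      rintro ⟨a, l⟩ ⟨b, m⟩ ⟨c, n⟩
      refine Prod.ext (add_mul a b c) ?_
      change (a + b) • n + c • (l + m) + f (a + b) c =
        (a • n + c • l + f a c) + (b • n + c • m + f b c)
      rw [map_add, LinearMap.add_apply, smul_add, add_smul]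
      abel
    zero_mul := by
      rintro ⟨a, l⟩
      refine Prod.ext (zero_mul a) ?_
      change (0 : B) • l + a • (0 : L) + f 0 a = 0
      rw [map_zero, LinearMap.zero_apply, zero_smul, smul_zero, add_zero, add_zero]
    mul_zero := by
      rintro ⟨a, l⟩
      refine Prod.ext (mul_zero a) ?_
      change a • (0 : L) + (0 : B) • l + f a 0 = 0
      rw [map_zero, zero_smul, smul_zero, add_zero, add_zero]
    mul_assoc := by
      rintro ⟨a, l⟩ ⟨b, m⟩ ⟨c, n⟩
      refine Prod.ext (mul_assoc a b c) ?_
      change (a * b) • n + c • (a • m + b • l + f a b) + f (a * b) c =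
        a • (b • n + c • m + f b c) + (b * c) • l + f a (b * c)
      have h := hcoc a b c
      simp only [smul_add, mul_smul]
      rw [smul_comm c a m, smul_comm c b l]
      calc a • b • n + (a • c • m + b • c • l + c • f a b) + f (a * b) c
          = a • b • n + a • c • m + b • c • l + (f (a * b) c + c • f a b) := by abel
        _ = a • b • n + a • c • m + b • c • l + (a • f b c + f a (b * c)) := by rw [h]
        _ = a • b • n + a • c • m + a • f b c + b • c • l + f a (b * c) := by abel
    one_mul := by
      rintro ⟨a, l⟩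
      refine Prod.ext (one_mul a) ?_
      change (1 : B) • l + a • (- f 1 1) + f 1 a = l
      rw [f_one_left f hcoc a, one_smul, smul_neg]
      abel
    mul_one := by
      rintro ⟨a, l⟩
      refine Prod.ext (mul_one a) ?_
      change a • (- f 1 1) + (1 : B) • l + f a 1 = l
      rw [hsymm a 1, f_one_left f hcoc a, one_smul, smul_neg]
      abel
    mul_comm := by
      rintro ⟨a, l⟩ ⟨b, m⟩
      refine Prod.ext (mul_comm a b) ?_
      change a • m + b • l + f a b = b • l + a • m + f b a
      rw [hsymm a b]
      abel }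

end

/-- Discrete case. If B is a formally smooth A-algebra then, for every B-module L, every A-bilinear
symmetric Hochschild 2-cocycle f : B × B → L (f(xy, z) + z f(x, y) = x f(y, z) + f(x, yz)) is a
Hochschild 2-coboundary: f(x, y) = x g(y) − g(xy) + y g(x) for some A-linear g : B → L. (The
published statement is for topological algebras and open ideals; this row is its discrete case.) -/
theorem result {A : Type u} {B : Type v} [CommRing A] [CommRing B]
    [Algebra A B] [Algebra.FormallySmooth A B] {L : Type v} [AddCommGroup L] [Module B L] [Module A L]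
    [IsScalarTower A B L] (f : B →ₗ[A] B →ₗ[A] L) (hsymm : ∀ x y : B, f x y = f y x)
    (hcoc : ∀ x y z : B, f (x * y) z + z • f x y = x • f y z + f x (y * z)) :
    ∃ g : B →ₗ[A] L, ∀ x y : B, f x y = x • g y - g (x * y) + y • g x := by
  let _ : CommRing (HExt f) := HExt.commRing f hsymm hcoc
  have hmul : ∀ x y : HExt f, x * y =
      ((x.1 * y.1, x.1 • y.2 + y.1 • x.2 + f x.1 y.1) : B × L) := fun _ _ => rfl
  have hone : (1 : HExt f) = ((1, - f 1 1) : B × L) := rfl
  have hsmul : ∀ (a : A) (x : HExt f), a • x = ((a • x.1, a • x.2) : B × L) := fun _ _ => rfl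
  let _ : Algebra A (HExt f) := Algebra.ofModule
    (by
      intro a x y
      refine Prod.ext (smul_mul_assoc a x.1 y.1) ?_
      change (a • x.1) • y.2 + y.1 • (a • x.2) + f (a • x.1) y.1 =
        a • (x.1 • y.2 + y.1 • x.2 + f x.1 y.1)
      rw [map_smul, LinearMap.smul_apply, smul_add, smul_add, smul_assoc, smul_comm y.1 a x.2])
    (by
      intro a x y
      refine Prod.ext (mul_smul_comm a x.1 y.1) ?_
      change x.1 • (a • y.2) + (a • y.1) • x.2 + f x.1 (a • y.1) =
        a • (x.1 • y.2 + y.1 • x.2 + f x.1 y.1)
      rw [map_smul, smul_add, smul_add, smul_assoc, smul_comm x.1 a y.2])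
  let π : HExt f →ₐ[A] B :=
    { toFun := Prod.fst
      map_one' := rfl
      map_mul' := fun _ _ => rfl
      map_zero' := rfl
      map_add' := fun _ _ => rfl
      commutes' := fun a => by
        rw [Algebra.algebraMap_eq_smul_one, Algebra.algebraMap_eq_smul_one, hsmul]
        rfl }
  have hπ : Function.Surjective π := fun b => ⟨((b, 0) : B × L), rfl⟩
  have hker : IsNilpotent (RingHom.ker (π : HExt f →+* B)) := by
    refine ⟨2, ?_⟩
    rw [pow_two, Ideal.zero_eq_bot, eq_bot_iff, Ideal.mul_le]
    intro x hx y hy
    rw [RingHom.mem_ker] at hx hy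
    have hx1 : x.1 = 0 := hx
    have hy1 : y.1 = 0 := hy
    rw [Ideal.mem_bot, hmul, hx1, hy1]
    refine Prod.ext (zero_mul _) ?_
    change (0 : B) • y.2 + (0 : B) • x.2 + f 0 0 = 0
    simp
  let σ := Algebra.FormallySmooth.liftOfSurjective (AlgHom.id A B) π hπ hker
  have hσ : ∀ b, (σ b).1 = b := fun b =>
    Algebra.FormallySmooth.liftOfSurjective_apply (AlgHom.id A B) π hπ hker b
  let g : B →ₗ[A] L :=
    { toFun := fun b => - (σ b).2
      map_add' := fun x y => by
        rw [map_add]
        change -((σ x).2 + (σ y).2) = _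
        rw [neg_add]
      map_smul' := fun a x => by
        rw [map_smul, hsmul]
        change -(a • (σ x).2) = _
        rw [smul_neg]
        rfl }
  refine ⟨g, fun x y => ?_⟩
  have h1 := congrArg Prod.snd (map_mul σ x y)
  rw [hmul] at h1
  change (σ (x * y)).2 = (σ x).1 • (σ y).2 + (σ y).1 • (σ x).2 + f (σ x).1 (σ y).1 at h1
  rw [hσ x, hσ y] at h1
  change f x y = x • (- (σ y).2) - (- (σ (x * y)).2) + y • (- (σ x).2)
  rw [h1, smul_neg, smul_neg]
  abel

end Groth.Agent.S5830
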