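import Groth.Statements.S5831
import Mathlib.Tactic
-- import your own Groth.Agent.* helpers here

set_option autoImplicit false
universe u
open EGA41

namespace Groth.Agent.S5831

/-- Discrete case. Let B be an A-algebra which is a projective A-module (A and B in one universe). If
for every B-module L in that universe every A-bilinear symmetric Hochschild 2-cocycle B × B → L is a
coboundary, then B is formally smooth over A. (The published statement assumes B formally projective
as a topological A-module; for discrete rings this is projectivity.) -/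
theorem result {A B : Type u} [CommRing A]
    [CommRing B] [Algebra A B] [Module.Projective A B]
    (h : ∀ (L : Type u) [AddCommGroup L] [Module B L] [Module A L] [IsScalarTower A B L]
      (f : B →ₗ[A] B →ₗ[A] L), (∀ x y : B, f x y = f y x) →
        (∀ x y z : B, f (x * y) z + z • f x y = x • f y z + f x (y * z)) →
          ∃ g : B →ₗ[A] L, ∀ x y : B, f x y = x • g y - g (x * y) + y • g x) :
    Algebra.FormallySmooth A B := by
  apply Algebra.FormallySmooth.of_comp_surjective
  intro E _ _ I hI φ
  have hII : ∀ x ∈ I, ∀ y ∈ I, x * y = 0 := by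
    intro x hx y hy
    have h1 : x * y ∈ I ^ 2 := by rw [pow_two]; exact Ideal.mul_mem_mul hx hy
    rw [hI] at h1
    exact h1
  obtain ⟨σ, hσ⟩ := Module.projective_lifting_property (Ideal.Quotient.mkₐ A I).toLinearMap
    φ.toLinearMap Ideal.Quotient.mk_surjective
  have hσ' : ∀ x, Ideal.Quotient.mk I (σ x) = φ x := fun x => LinearMap.congr_fun hσ x
  have hmul : ∀ x y, σ x * σ y - σ (x * y) ∈ I := by
    intro x y
    rw [← Ideal.Quotient.eq_zero_iff_mem, map_sub, map_mul, hσ', hσ', hσ', map_mul, sub_self]
  have hone : σ 1 - 1 ∈ I := by
    rw [← Ideal.Quotient.eq_zero_iff_mem, map_sub, hσ', map_one, map_one, sub_self]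
  letI modBI : Module B I :=
    { smul := fun b i => ⟨σ b * i, I.mul_mem_left _ i.2⟩
      one_smul := fun i => by
        apply Subtype.ext
        change σ 1 * (i : E) = i
        have := hII _ hone _ i.2
        linear_combination this
      mul_smul := fun x y i => by
        apply Subtype.ext
        change σ (x * y) * (i : E) = σ x * (σ y * i)
        have := hII _ (hmul x y) _ i.2
        linear_combination -this
      smul_zero := fun x => by
        apply Subtype.ext
        change σ x * ((0 : I) : E) = ((0 : I) : E)
        simp
      smul_add := fun x i j => by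
        apply Subtype.ext
        change σ x * ((i + j : I) : E) = σ x * i + σ x * j
        simp [mul_add]
      add_smul := fun x y i => by
        apply Subtype.ext
        change σ (x + y) * (i : E) = σ x * i + σ y * i
        rw [map_add, add_mul]
      zero_smul := fun i => by
        apply Subtype.ext
        change σ 0 * (i : E) = ((0 : I) : E)
        simp }
  have hsmul : ∀ (b : B) (i : I), ((b • i : I) : E) = σ b * i := fun b i => rfl
  haveI : IsScalarTower A B I := ⟨fun a b i => by
    apply Subtype.ext
    rw [hsmul, map_smul, smul_mul_assoc]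
    rfl⟩
  let f : B →ₗ[A] B →ₗ[A] I := LinearMap.mk₂ A
    (fun x y => ⟨σ x * σ y - σ (x * y), hmul x y⟩)
    (fun x x' y => by
      apply Subtype.ext
      simp only [Submodule.coe_add, add_mul, map_add]
      ring)
    (fun a x y => by
      apply Subtype.ext
      simp [smul_mul_assoc, smul_sub])
    (fun x y y' => by
      apply Subtype.ext
      simp only [Submodule.coe_add, mul_add, map_add]
      ring)
    (fun a x y => by
      apply Subtype.ext
      simp [mul_smul_comm, smul_sub])
  have hf : ∀ x y, ((f x y : I) : E) = σ x * σ y - σ (x * y) := fun x y => rfl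
  obtain ⟨g, hg⟩ := h I f
    (fun x y => by
      apply Subtype.ext
      rw [hf, hf, mul_comm (σ x), mul_comm x])
    (fun x y z => by
      apply Subtype.ext
      simp only [Submodule.coe_add, hsmul, hf]
      rw [mul_assoc x y z]
      ring)
  have hg' : ∀ x y, σ x * σ y - σ (x * y) = σ x * (g y : E) - (g (x * y) : E) + σ y * (g x : E) := by
    intro x y
    have := congrArg (fun i : I => (i : E)) (hg x y)
    simpa only [hf, Submodule.coe_add, Submodule.coe_sub, hsmul] using this
  let σ' : B →ₗ[A] E := σ - (I.subtype.restrictScalars A) ∘ₗ g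
  have hσ'app : ∀ x, σ' x = σ x - (g x : E) := fun x => rfl
  have hmulσ' : ∀ x y, σ' (x * y) = σ' x * σ' y := by
    intro x y
    rw [hσ'app, hσ'app, hσ'app]
    have h1 := hg' x y
    have h2 := hII _ (g x).2 _ (g y).2
    linear_combination -h1 - h2
  have hσ'1 : σ' 1 = 1 := by
    have hee : σ' 1 * σ' 1 = σ' 1 := by rw [← hmulσ', mul_one]
    have hmem : σ' 1 - 1 ∈ I := by
      rw [hσ'app]
      have : σ 1 - (g 1 : E) - 1 = (σ 1 - 1) - (g 1 : E) := by ring
      rw [this]
      exact sub_mem hone (g 1).2
    have hii := hII _ hmem _ hmem
    linear_combination hee - hii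
  refine ⟨AlgHom.ofLinearMap σ' hσ'1 hmulσ', ?_⟩
  apply AlgHom.ext
  intro x
  change Ideal.Quotient.mk I (σ' x) = φ x
  rw [hσ'app, map_sub, hσ', Ideal.Quotient.eq_zero_iff_mem.mpr (g x).2, sub_zero]

end Groth.Agent.S5831
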