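import Groth.Statements.S5832
import Mathlib.Tactic

set_option autoImplicit false
universe u u' v
open EGA41

namespace Groth.Agent.S5832

attribute [local instance] Exal.opModule Exal.isCentralScalar_opModule

section basic
variable {A : Type u'} {B L : Type v} [CommRing A] [CommRing B] [Algebra A B] [AddCommGroup L]
  [Module B L]

lemma proj_incl (X : Exal.Ext A B L) (z : L) : X.proj (X.incl z) = 0 :=
  (X.isExtension.exact _).2 ⟨z, rfl⟩

lemma incl_mul_incl (X : Exal.Ext A B L) (z z' : L) : X.incl z * X.incl z' = 0 := by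
  rw [X.isExtension.mul_incl, proj_incl, zero_smul, map_zero]

lemma incl_mul (X : Exal.Ext A B L) (z : L) (x : X.E) : X.incl z * x = X.incl (X.proj x • z) := by
  rw [mul_comm, X.isExtension.mul_incl]

end basic

def Car (C L : Type v) [CommRing C] [AddCommGroup L] [Module C L] : Type v := TrivSqZeroExt C L

instance (C L : Type v) [CommRing C] [AddCommGroup L] [Module C L] : CommRing (Car C L) :=
  inferInstanceAs (CommRing (TrivSqZeroExt C L))

/-- Surjectivity at the end of the sequence. For ring maps Λ → A → B → C and a C-module L, every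
Λ-trivial A-extension of B by L is equivalent to the inverse image along B → C of a Λ-trivial
A-extension of C by L. (Exactness at the other places is that of the six-term derivation-extension
sequence restricted to Λ-trivial classes.) -/
theorem result {Λ : Type u} {A : Type u'} {B C L : Type v}
    [CommRing Λ] [CommRing A] [CommRing B] [CommRing C] [Algebra Λ A] [Algebra Λ B] [Algebra Λ C]
    [Algebra A B] [Algebra B C] [Algebra A C] [IsScalarTower Λ A B] [IsScalarTower Λ A C] [IsScalarTower A B C]
    [AddCommGroup L] [Module C L] [Module B L] [IsScalarTower B C L]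
    (Y : Exal.Ext A B L) (hY : Y.IsTrivialOver Λ) :
    ∃ X : Exal.Ext A C L, X.IsTrivialOver Λ ∧ Nonempty ((X.pullback B).Equiv Y) := by
  obtain ⟨s, hs⟩ := hY
  let σ' : B →+* Y.E := s.toRingHom
  have hσproj : ∀ b, Y.proj (σ' b) = b := hs
  have hσalg : ∀ l : Λ, σ' (algebraMap Λ B l) = algebraMap A Y.E (algebraMap Λ A l) :=
    fun l => s.commutes l
  have hker : ∀ a : A, Y.proj (algebraMap A Y.E a - σ' (algebraMap A B a)) = 0 := by
    intro a
    rw [map_sub, AlgHom.commutes, hσproj, sub_self]
  let d : A → L := fun a => Y.kerLift _ (hker a)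
  have hd : ∀ a, Y.incl (d a) = algebraMap A Y.E a - σ' (algebraMap A B a) :=
    fun a => Y.incl_kerLift _ (hker a)
  have hsm : ∀ (a : A) (z : L), (algebraMap A C a) • z = (algebraMap A B a) • z := by
    intro a z
    rw [IsScalarTower.algebraMap_apply A B C, algebraMap_smul]
  have hdadd : ∀ a a', d (a + a') = d a + d a' := by
    intro a a'
    apply Y.isExtension.incl_injective
    rw [map_add, hd, hd, hd, map_add, map_add, map_add]
    ring
  have hdmul : ∀ a a', d (a * a') = (algebraMap A C a) • d a' + (algebraMap A C a') • d a := by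
    intro a a'
    apply Y.isExtension.incl_injective
    have h1 : Y.incl ((algebraMap A C a) • d a') = algebraMap A Y.E a * Y.incl (d a') := by
      rw [Y.isExtension.mul_incl, AlgHom.commutes, hsm]
    have h2 : Y.incl ((algebraMap A C a') • d a) = σ' (algebraMap A B a') * Y.incl (d a) := by
      rw [Y.isExtension.mul_incl, hσproj, hsm]
    rw [map_add, h1, h2, hd, hd, hd, map_mul, map_mul, map_mul]
    ring
  have hdΛ : ∀ l : Λ, d (algebraMap Λ A l) = 0 := by
    intro l
    apply Y.isExtension.incl_injective
    rw [hd, map_zero, ← IsScalarTower.algebraMap_apply Λ A B, hσalg, sub_self]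
  have hd1 : d 1 = 0 := by
    have := hdΛ 1
    rwa [map_one] at this
  let ρ₀ : A → TrivSqZeroExt C L := fun a =>
    TrivSqZeroExt.inl (algebraMap A C a) + TrivSqZeroExt.inr (d a)
  have hρ₀fst : ∀ a, TrivSqZeroExt.fst (ρ₀ a) = algebraMap A C a := by
    intro a
    show TrivSqZeroExt.fst (TrivSqZeroExt.inl (algebraMap A C a) + TrivSqZeroExt.inr (d a)) = _
    rw [TrivSqZeroExt.fst_add, TrivSqZeroExt.fst_inl, TrivSqZeroExt.fst_inr, add_zero]
  have hρ₀snd : ∀ a, TrivSqZeroExt.snd (ρ₀ a) = d a := by
    intro a
    show TrivSqZeroExt.snd (TrivSqZeroExt.inl (algebraMap A C a) + TrivSqZeroExt.inr (d a)) = _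
    rw [TrivSqZeroExt.snd_add, TrivSqZeroExt.snd_inl, TrivSqZeroExt.snd_inr, zero_add]
  let ρ' : A →+* TrivSqZeroExt C L :=
    { toFun := ρ₀
      map_one' := by
        apply TrivSqZeroExt.ext
        · rw [hρ₀fst, map_one, TrivSqZeroExt.fst_one]
        · rw [hρ₀snd, hd1, TrivSqZeroExt.snd_one]
      map_mul' := fun a a' => by
        apply TrivSqZeroExt.ext
        · rw [hρ₀fst, TrivSqZeroExt.fst_mul, hρ₀fst, hρ₀fst, map_mul]
        · rw [hρ₀snd, TrivSqZeroExt.snd_mul, hρ₀fst, hρ₀fst, hρ₀snd, hρ₀snd, hdmul]
          rfl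
      map_zero' := by
        have h0 : d 0 = 0 := by
          have := hdΛ 0
          rwa [map_zero] at this
        apply TrivSqZeroExt.ext
        · rw [hρ₀fst, map_zero, TrivSqZeroExt.fst_zero]
        · rw [hρ₀snd, h0, TrivSqZeroExt.snd_zero]
      map_add' := fun a a' => by
        apply TrivSqZeroExt.ext
        · rw [hρ₀fst, TrivSqZeroExt.fst_add, hρ₀fst, hρ₀fst, map_add]
        · rw [hρ₀snd, TrivSqZeroExt.snd_add, hρ₀snd, hρ₀snd, hdadd] }
  let ρ : A →+* Car C L := ρ'
  have hρ : ∀ a, ρ a = ρ₀ a := fun a => rfl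
  letI algX : Algebra A (Car C L) := ρ.toAlgebra
  let X : Exal.Ext A C L :=
    { E := Car C L
      proj :=
        { toFun := fun x => TrivSqZeroExt.fst (x : TrivSqZeroExt C L)
          map_one' := TrivSqZeroExt.fst_one
          map_mul' := TrivSqZeroExt.fst_mul
          map_zero' := TrivSqZeroExt.fst_zero
          map_add' := TrivSqZeroExt.fst_add
          commutes' := fun a => by
            exact hρ₀fst a }
      incl := (TrivSqZeroExt.inrHom C L).toAddMonoidHom
      isExtension :=
        { proj_surjective := fun c => ⟨(TrivSqZeroExt.inl c : TrivSqZeroExt C L), rfl⟩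
          incl_injective := TrivSqZeroExt.inr_injective
          exact := fun x => by
            constructor
            · intro hx
              exact ⟨TrivSqZeroExt.snd (x : TrivSqZeroExt C L), TrivSqZeroExt.ext hx.symm rfl⟩
            · rintro ⟨z, rfl⟩
              rfl
          mul_incl := fun x z => by
            refine TrivSqZeroExt.ext ?_ ?_
            · change TrivSqZeroExt.fst (x : TrivSqZeroExt C L) * 0 = 0
              exact mul_zero _
            · change TrivSqZeroExt.fst (x : TrivSqZeroExt C L) • z +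
                MulOpposite.op (0 : C) • TrivSqZeroExt.snd (x : TrivSqZeroExt C L) =
                TrivSqZeroExt.fst (x : TrivSqZeroExt C L) • z
              rw [MulOpposite.op_zero, zero_smul, add_zero] } }
  have hXproj : ∀ x : X.E, X.proj x = TrivSqZeroExt.fst (x : TrivSqZeroExt C L) := fun x => rfl
  have hXincl : ∀ z : L, (X.incl z : TrivSqZeroExt C L) = TrivSqZeroExt.inr z := fun z => rfl
  have hXalg : ∀ a : A, algebraMap A X.E a = ρ₀ a := fun a => rfl
  refine ⟨X, ?_, ?_⟩
  · refine ⟨{ toRingHom := (TrivSqZeroExt.inlHom C L : C →+* TrivSqZeroExt C L)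
              commutes' := ?_ }, fun c => rfl⟩
    intro l
    show (TrivSqZeroExt.inl (algebraMap Λ C l) : TrivSqZeroExt C L) = ρ₀ (algebraMap Λ A l)
    apply TrivSqZeroExt.ext
    · rw [hρ₀fst, TrivSqZeroExt.fst_inl, ← IsScalarTower.algebraMap_apply Λ A C]
    · rw [hρ₀snd, hdΛ, TrivSqZeroExt.snd_inl]
  · refine ⟨?_⟩
    let fp : X.fiberProd B → TrivSqZeroExt C L × B := fun x => ((x : X.E × B).1, (x : X.E × B).2)
    have hfp : ∀ x : X.fiberProd B, TrivSqZeroExt.fst (fp x).1 = algebraMap B C (fp x).2 := by
      intro x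
      have hmem : (x : X.E × B) ∈ X.fiberProd B := x.2
      unfold Exal.Ext.fiberProd at hmem
      rw [AlgHom.mem_equalizer] at hmem
      exact hmem
    let G₀ : X.fiberProd B → Y.E := fun x => σ' (fp x).2 + Y.incl (TrivSqZeroExt.snd (fp x).1)
    have hfpmul : ∀ x x' : X.fiberProd B, fp (x * x') = ((fp x).1 * (fp x').1, (fp x).2 * (fp x').2) :=
      fun x x' => rfl
    have hfpadd : ∀ x x' : X.fiberProd B, fp (x + x') = ((fp x).1 + (fp x').1, (fp x).2 + (fp x').2) :=
      fun x x' => rfl
    have hfpone : fp 1 = (1, 1) := rfl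
    have hfpzero : fp 0 = (0, 0) := rfl
    have hfpalg : ∀ a : A, fp (algebraMap A (X.fiberProd B) a) = (ρ₀ a, algebraMap A B a) :=
      fun a => rfl
    have hsmB : ∀ (b : B) (z : L), (algebraMap B C b) • z = b • z := fun b z => algebraMap_smul C b z
    let G : X.fiberProd B →ₐ[A] Y.E :=
      { toFun := G₀
        map_one' := by
          show σ' (fp 1).2 + Y.incl (TrivSqZeroExt.snd (fp 1).1) = 1
          rw [hfpone]
          simp
        map_mul' := fun x x' => by
          show σ' (fp (x * x')).2 + Y.incl (TrivSqZeroExt.snd (fp (x * x')).1) =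
            (σ' (fp x).2 + Y.incl (TrivSqZeroExt.snd (fp x).1)) *
              (σ' (fp x').2 + Y.incl (TrivSqZeroExt.snd (fp x').1))
          rw [hfpmul]
          simp only [TrivSqZeroExt.snd_mul, map_mul, map_add]
          have h1 : Y.incl (TrivSqZeroExt.fst (fp x).1 • TrivSqZeroExt.snd (fp x').1) =
              σ' (fp x).2 * Y.incl (TrivSqZeroExt.snd (fp x').1) := by
            rw [Y.isExtension.mul_incl, hσproj, hfp, hsmB]
          have h2 : Y.incl (MulOpposite.op (TrivSqZeroExt.fst (fp x').1) •
              TrivSqZeroExt.snd (fp x).1) =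
              Y.incl (TrivSqZeroExt.snd (fp x).1) * σ' (fp x').2 := by
            rw [incl_mul, hσproj]
            show Y.incl (TrivSqZeroExt.fst (fp x').1 • TrivSqZeroExt.snd (fp x).1) = _
            rw [hfp, hsmB]
          rw [h1, h2]
          have h3 := incl_mul_incl Y (TrivSqZeroExt.snd (fp x).1) (TrivSqZeroExt.snd (fp x').1)
          linear_combination -h3
        map_zero' := by
          show σ' (fp 0).2 + Y.incl (TrivSqZeroExt.snd (fp 0).1) = 0
          rw [hfpzero]
          simp
        map_add' := fun x x' => by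
          show σ' (fp (x + x')).2 + Y.incl (TrivSqZeroExt.snd (fp (x + x')).1) =
            (σ' (fp x).2 + Y.incl (TrivSqZeroExt.snd (fp x).1)) +
              (σ' (fp x').2 + Y.incl (TrivSqZeroExt.snd (fp x').1))
          rw [hfpadd]
          simp only [TrivSqZeroExt.snd_add, map_add]
          ring
        commutes' := fun a => by
          show σ' (fp (algebraMap A (X.fiberProd B) a)).2 +
            Y.incl (TrivSqZeroExt.snd (fp (algebraMap A (X.fiberProd B) a)).1) = _
          rw [hfpalg]
          show σ' (algebraMap A B a) + Y.incl (TrivSqZeroExt.snd (ρ₀ a)) = _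
          rw [hρ₀snd, hd]
          ring }
    have hGapp : ∀ x, G x = σ' (fp x).2 + Y.incl (TrivSqZeroExt.snd (fp x).1) := fun x => rfl
    have hGinj : Function.Injective G := by
      rw [injective_iff_map_eq_zero]
      intro x hx
      rw [hGapp] at hx
      have h1 := congrArg Y.proj hx
      rw [map_add, hσproj, proj_incl, add_zero, map_zero] at h1
      rw [h1, map_zero, zero_add] at hx
      have h2 : TrivSqZeroExt.snd (fp x).1 = 0 :=
        Y.isExtension.incl_injective (by rw [hx, map_zero])
      have h3 : TrivSqZeroExt.fst (fp x).1 = 0 := by rw [hfp, h1, map_zero]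
      apply Subtype.ext
      apply Prod.ext
      · exact TrivSqZeroExt.ext h3 h2
      · exact h1
    have hGsurj : Function.Surjective G := by
      intro y
      have hk : Y.proj (y - σ' (Y.proj y)) = 0 := by rw [map_sub, hσproj, sub_self]
      let t : TrivSqZeroExt C L :=
        TrivSqZeroExt.inl (algebraMap B C (Y.proj y)) + TrivSqZeroExt.inr (Y.kerLift _ hk)
      have hmem : ((t, Y.proj y) : X.E × B) ∈ X.fiberProd B := by
        unfold Exal.Ext.fiberProd
        rw [AlgHom.mem_equalizer]
        show TrivSqZeroExt.fst t = algebraMap B C (Y.proj y)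
        simp [t]
      refine ⟨⟨(t, Y.proj y), hmem⟩, ?_⟩
      rw [hGapp]
      show σ' (Y.proj y) + Y.incl (TrivSqZeroExt.snd t) = y
      simp only [t, TrivSqZeroExt.snd_add, TrivSqZeroExt.snd_inl, TrivSqZeroExt.snd_inr, zero_add,
        Y.incl_kerLift]
      ring
    exact
      { toAlgEquiv := AlgEquiv.ofBijective G ⟨hGinj, hGsurj⟩
        proj_apply := fun x => by
          show Y.proj (G x) = (fp x).2
          rw [hGapp, map_add, hσproj, proj_incl, add_zero]
        apply_incl := fun z => by
          show G ((X.pullback B).incl z) = Y.incl z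
          rw [hGapp]
          show σ' 0 + Y.incl (TrivSqZeroExt.snd (TrivSqZeroExt.inr z : TrivSqZeroExt C L)) = _
          rw [map_zero, zero_add, TrivSqZeroExt.snd_inr] }

end Groth.Agent.S5832
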