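import Groth.Statements.S5835
import Groth.Agent.Lib.Helper97.KaehlerColim
import Mathlib.LinearAlgebra.TensorProduct.RightExactness
import Mathlib.Tactic

set_option autoImplicit false
universe v w
open scoped TensorProduct
open EGA41

namespace Groth.Agent.S5835


section gen

universe u₁ u₂ u₃ u₄

variable {k₀ : Type u₁} {K : Type u₂} {L : Type u₃} {M : Type u₄}
    [CommRing k₀] [CommRing K] [CommRing L] [CommRing M]
    [Algebra k₀ K] [Algebra k₀ L] [Algebra K L] [Algebra K M] [Algebra L M] [IsScalarTower K L M]
    [Algebra k₀ M] [IsScalarTower k₀ K L] [IsScalarTower k₀ K M] [IsScalarTower k₀ L M]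

lemma map_map_KLM (ω : Ω[K⁄k₀]) :
    KaehlerDifferential.map k₀ k₀ L M (KaehlerDifferential.map k₀ k₀ K L ω) =
      KaehlerDifferential.map k₀ k₀ K M ω := by
  have hω : ω ∈ Submodule.span K (Set.range (KaehlerDifferential.D k₀ K)) := by
    rw [KaehlerDifferential.span_range_derivation]; exact Submodule.mem_top
  induction hω using Submodule.span_induction with
  | mem x hx =>
    obtain ⟨a, rfl⟩ := hx
    simp only [KaehlerDifferential.map_D, ← IsScalarTower.algebraMap_apply K L M]
  | zero => simp only [map_zero]
  | add x y _ _ hx hy => simp only [map_add, hx, hy]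
  | smul a x _ hx =>
    rw [map_smul (KaehlerDifferential.map k₀ k₀ K L), map_smul (KaehlerDifferential.map k₀ k₀ K M),
      ← hx]
    rw [← algebraMap_smul L a (KaehlerDifferential.map k₀ k₀ K L x), map_smul, algebraMap_smul]

lemma compat_b (z : M ⊗[L] (L ⊗[K] Ω[K⁄k₀])) :
    KaehlerDifferential.mapBaseChange k₀ L M
        ((KaehlerDifferential.mapBaseChange k₀ K L).baseChange M z) =
      KaehlerDifferential.mapBaseChange k₀ K M
        (TensorProduct.AlgebraTensorModule.cancelBaseChange K L M M (Ω[K⁄k₀]) z) := by
  induction z using TensorProduct.induction_on with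
  | zero => simp only [map_zero]
  | add x y hx hy => simp only [map_add, hx, hy]
  | tmul m v =>
    induction v using TensorProduct.induction_on with
    | zero => simp only [TensorProduct.tmul_zero, map_zero]
    | add x y hx hy => simp only [TensorProduct.tmul_add, map_add, hx, hy]
    | tmul l ω =>
      rw [LinearMap.baseChange_tmul, KaehlerDifferential.mapBaseChange_tmul,
        KaehlerDifferential.mapBaseChange_tmul,
        TensorProduct.AlgebraTensorModule.cancelBaseChange_tmul,
        KaehlerDifferential.mapBaseChange_tmul, map_smul, map_map_KLM]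
      rw [← algebraMap_smul M l (KaehlerDifferential.map k₀ k₀ K M ω), smul_smul,
        Algebra.smul_def l m, mul_comm]

end gen

section case3

variable {k₀ : Type w} {K : Type w} [Field k₀] [Field K] [Algebra k₀ K]

lemma D_eq_zero_of_mem_pPower (p : ℕ) [CharP K p] (a : K)
    (ha : a ∈ EGA41.pPowerSubalgebra p k₀ K) : KaehlerDifferential.D k₀ K a = 0 := by
  unfold EGA41.pPowerSubalgebra at ha
  induction ha using Algebra.adjoin_induction with
  | mem x hx =>
    obtain ⟨b, rfl⟩ := hx
    rw [Derivation.leibniz_pow]
    have : (p : K) = 0 := CharP.cast_eq_zero K p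
    rw [← Nat.cast_smul_eq_nsmul K, this, zero_smul]
  | algebraMap r => exact Derivation.map_algebraMap _ r
  | add x y _ _ hx hy => rw [map_add, hx, hy, add_zero]
  | mul x y _ _ hx hy => rw [Derivation.leibniz, hx, hy, smul_zero, smul_zero, add_zero]

end case3

/-- For fields k₀ ⊆ k ⊆ K ⊆ L, the map of imperfection modules Υ_{L/K/k₀} → Υ_{L/K/k} induced by
Ω_{K/k₀} → Ω_{K/k} is injective (k is k₀-admissible for the extension L of K) in each of the
following cases: L is separable over k; L is separable over K; k lies in k₀(K^p), p the
characteristic exponent. Separable means geometrically reduced (not necessarily algebraic). -/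
theorem result {k : Type v} {k₀ K L : Type w}
    [Field k₀] [Field k] [Field K] [Field L] [Algebra k₀ k] [Algebra k₀ K] [Algebra k₀ L] [Algebra k K]
    [Algebra k L] [Algebra K L] [IsScalarTower k₀ k K] [IsScalarTower k₀ k L] [IsScalarTower k₀ K L]
    [IsScalarTower k K L] (p : ℕ) [ExpChar K p]
    (h : Algebra.IsGeometricallyReduced k L ∨ Algebra.IsGeometricallyReduced K L ∨
      ∀ x : k, algebraMap k K x ∈ EGA41.pPowerSubalgebra p k₀ K) :
    ∀ z : L ⊗[K] Ω[K⁄k₀], z ∈ EGA41.imperfection k₀ K L →
      (KaehlerDifferential.map k₀ k K K).baseChange L z = 0 → z = 0 := by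
  intro z hz1 hz2
  have hz1' : KaehlerDifferential.mapBaseChange k₀ K L z = 0 := hz1
  -- the case where `L ⊗ Ω_{K/k₀} → Ω_{L/k₀}` is injective
  have caseInj : Function.Injective (KaehlerDifferential.mapBaseChange k₀ K L) → z = 0 := by
    intro hinj
    apply hinj
    rw [hz1', map_zero]
  -- the case where `L ⊗ Ω_{k/k₀} → Ω_{L/k₀}` is injective
  have caseInj' : Function.Injective (KaehlerDifferential.mapBaseChange k₀ k L) → z = 0 := by
    intro hinj
    have hE := lTensor_exact L (KaehlerDifferential.exact_mapBaseChange_map k₀ k K)
      (KaehlerDifferential.map_surjective k₀ k K)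
    obtain ⟨y, hy⟩ := (hE z).1 hz2
    have hy' : (KaehlerDifferential.mapBaseChange k₀ k K).baseChange L y = z := hy
    have h1 := compat_b (k₀ := k₀) (K := k) (L := K) (M := L) y
    rw [hy', hz1'] at h1
    have h2 : TensorProduct.AlgebraTensorModule.cancelBaseChange k K L L (Ω[k⁄k₀]) y = 0 := by
      apply hinj
      rw [← h1, map_zero]
    have h3 : y = 0 := by
      have := (TensorProduct.AlgebraTensorModule.cancelBaseChange k K L L (Ω[k⁄k₀])).injective
      apply this
      rw [h2, map_zero]
    rw [← hy', h3, map_zero]
  rcases h with h | h | h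
  · exact caseInj' Groth.Agent.Lib.Helper97.KaehlerColim.mapBaseChange_injective_of_isGeometricallyReduced
  · exact caseInj Groth.Agent.Lib.Helper97.KaehlerColim.mapBaseChange_injective_of_isGeometricallyReduced
  · rcases ‹ExpChar K p› with _ | ⟨hprime⟩
    · -- characteristic zero
      exact caseInj Groth.Agent.Lib.Helper97.KaehlerColim.mapBaseChange_injective_of_perfectField
    · -- characteristic p
      have hD : ∀ x : k, KaehlerDifferential.D k₀ K (algebraMap k K x) = 0 := fun x =>
        D_eq_zero_of_mem_pPower p _ (h x)
      have hmap0 : ∀ ω : Ω[k⁄k₀], KaehlerDifferential.map k₀ k₀ k K ω = 0 := by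
        intro ω
        have hω : ω ∈ Submodule.span k (Set.range (KaehlerDifferential.D k₀ k)) := by
          rw [KaehlerDifferential.span_range_derivation]; exact Submodule.mem_top
        induction hω using Submodule.span_induction with
        | mem x hx =>
          obtain ⟨a, rfl⟩ := hx
          rw [KaehlerDifferential.map_D, hD]
        | zero => simp only [map_zero]
        | add x y _ _ hx hy => simp only [map_add, hx, hy, add_zero]
        | smul a x _ hx => rw [map_smul, hx, smul_zero]
      have hmbc0 : ∀ y : K ⊗[k] Ω[k⁄k₀], KaehlerDifferential.mapBaseChange k₀ k K y = 0 := by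
        intro y
        induction y using TensorProduct.induction_on with
        | zero => simp only [map_zero]
        | add x y hx hy => simp only [map_add, hx, hy, add_zero]
        | tmul c ω => rw [KaehlerDifferential.mapBaseChange_tmul, hmap0, smul_zero]
      have hinj : Function.Injective (KaehlerDifferential.map k₀ k K K) := by
        rw [injective_iff_map_eq_zero]
        intro ω hω
        obtain ⟨y, hy⟩ := (KaehlerDifferential.exact_mapBaseChange_map k₀ k K ω).1 hω
        rw [← hy, hmbc0]
      have hinjL : Function.Injective ((KaehlerDifferential.map k₀ k K K).baseChange L) :=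
        Module.Flat.lTensor_preserves_injective_linearMap (M := L) _ hinj
      apply hinjL
      rw [hz2, map_zero]

end Groth.Agent.S5835
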