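import Groth.Statements.S5836
import Mathlib.RingTheory.Kaehler.Basic
import Mathlib.LinearAlgebra.Dimension.RankNullity
import Mathlib.LinearAlgebra.TensorProduct.RightExactness
import Mathlib.Tactic

set_option autoImplicit false
universe u u' u'' w
open scoped TensorProduct
open EGA41

namespace Groth.Agent.S5836

section gen

variable {k : Type u} {k' : Type u'} {K L : Type w}
    [CommRing k] [CommRing k'] [CommRing K] [CommRing L]
    [Algebra k k'] [Algebra k K] [Algebra k' K] [IsScalarTower k k' K]
    [Algebra K L] [Algebra k L] [Algebra k' L]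
    [IsScalarTower k K L] [IsScalarTower k' K L] [IsScalarTower k k' L]

lemma map_map_KL (ω : Ω[K⁄k]) :
    KaehlerDifferential.map k' k' K L (KaehlerDifferential.map k k' K K ω) =
      KaehlerDifferential.map k k' L L (KaehlerDifferential.map k k K L ω) := by
  have hω : ω ∈ Submodule.span K (Set.range (KaehlerDifferential.D k K)) := by
    rw [KaehlerDifferential.span_range_derivation]; exact Submodule.mem_top
  induction hω using Submodule.span_induction with
  | mem x hx =>
    obtain ⟨a, rfl⟩ := hx
    simp only [KaehlerDifferential.map_D, Algebra.algebraMap_self, RingHom.id_apply]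
  | zero => simp only [map_zero]
  | add x y _ _ hx hy => simp only [map_add, hx, hy]
  | smul a x _ hx =>
    rw [map_smul, map_smul, map_smul, hx]
    rw [← algebraMap_smul L a (KaehlerDifferential.map k k K L x), map_smul, algebraMap_smul]

lemma naturality (z : L ⊗[K] Ω[K⁄k]) :
    KaehlerDifferential.mapBaseChange k' K L ((KaehlerDifferential.map k k' K K).baseChange L z) =
      KaehlerDifferential.map k k' L L (KaehlerDifferential.mapBaseChange k K L z) := by
  induction z using TensorProduct.induction_on with
  | zero => simp only [map_zero]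
  | tmul l ω =>
    rw [LinearMap.baseChange_tmul, KaehlerDifferential.mapBaseChange_tmul,
      KaehlerDifferential.mapBaseChange_tmul, map_smul, map_map_KL]
  | add x y hx hy => simp only [map_add, hx, hy]

lemma exists_lift (y : L ⊗[k'] Ω[k'⁄k]) :
    ∃ t : L ⊗[K] Ω[K⁄k], KaehlerDifferential.mapBaseChange k K L t =
        KaehlerDifferential.mapBaseChange k k' L y ∧
      (KaehlerDifferential.map k k' K K).baseChange L t = 0 := by
  induction y using TensorProduct.induction_on with
  | zero => exact ⟨0, by simp only [map_zero], by simp only [map_zero]⟩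
  | add x y hx hy =>
    obtain ⟨t, ht1, ht2⟩ := hx
    obtain ⟨t', ht1', ht2'⟩ := hy
    exact ⟨t + t', by simp only [map_add, ht1, ht1'], by simp only [map_add, ht2, ht2', add_zero]⟩
  | tmul l ω =>
    have hω : ω ∈ Submodule.span k' (Set.range (KaehlerDifferential.D k k')) := by
      rw [KaehlerDifferential.span_range_derivation]; exact Submodule.mem_top
    induction hω using Submodule.span_induction generalizing l with
    | mem x hx =>
      obtain ⟨c, rfl⟩ := hx
      refine ⟨l ⊗ₜ[K] KaehlerDifferential.D k K (algebraMap k' K c), ?_, ?_⟩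
      · rw [KaehlerDifferential.mapBaseChange_tmul, KaehlerDifferential.mapBaseChange_tmul,
          KaehlerDifferential.map_D, KaehlerDifferential.map_D,
          ← IsScalarTower.algebraMap_apply k' K L]
      · rw [LinearMap.baseChange_tmul, KaehlerDifferential.map_D, Algebra.algebraMap_self,
          RingHom.id_apply, Derivation.map_algebraMap, TensorProduct.tmul_zero]
    | zero => exact ⟨0, by simp only [TensorProduct.tmul_zero, map_zero], by simp only [map_zero]⟩
    | add x y _ _ hx hy =>
      obtain ⟨t, ht1, ht2⟩ := hx l
      obtain ⟨t', ht1', ht2'⟩ := hy l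
      exact ⟨t + t', by simp only [TensorProduct.tmul_add, map_add, ht1, ht1'],
        by simp only [map_add, ht2, ht2', add_zero]⟩
    | smul a x _ hx =>
      obtain ⟨t, ht1, ht2⟩ := hx (a • l)
      refine ⟨t, ?_, ht2⟩
      rw [ht1, TensorProduct.smul_tmul]

end gen

section comp

variable {k : Type u} {k' : Type u'} {k'' : Type u''} {K L : Type w}
    [CommRing k] [CommRing k'] [CommRing k''] [CommRing K] [CommRing L]
    [Algebra k k'] [Algebra k k''] [Algebra k' k''] [IsScalarTower k k' k'']
    [Algebra k K] [Algebra k' K] [Algebra k'' K] [IsScalarTower k k' K] [IsScalarTower k' k'' K]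
    [IsScalarTower k k'' K] [Algebra K L]

lemma map_comp_K (ω : Ω[K⁄k]) :
    KaehlerDifferential.map k' k'' K K (KaehlerDifferential.map k k' K K ω) =
      KaehlerDifferential.map k k'' K K ω := by
  have hω : ω ∈ Submodule.span K (Set.range (KaehlerDifferential.D k K)) := by
    rw [KaehlerDifferential.span_range_derivation]; exact Submodule.mem_top
  induction hω using Submodule.span_induction with
  | mem x hx =>
    obtain ⟨a, rfl⟩ := hx
    simp only [KaehlerDifferential.map_D, Algebra.algebraMap_self, RingHom.id_apply]
  | zero => simp only [map_zero]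
  | add x y _ _ hx hy => simp only [map_add, hx, hy]
  | smul a x _ hx => simp only [map_smul, hx]

lemma baseChange_comp (z : L ⊗[K] Ω[K⁄k]) :
    (KaehlerDifferential.map k' k'' K K).baseChange L
        ((KaehlerDifferential.map k k' K K).baseChange L z) =
      (KaehlerDifferential.map k k'' K K).baseChange L z := by
  induction z using TensorProduct.induction_on with
  | zero => simp only [map_zero]
  | tmul l ω => simp only [LinearMap.baseChange_tmul, map_comp_K]
  | add x y hx hy => simp only [map_add, hx, hy]

end comp

/-- For fields k ⊆ k' ⊆ k'' ⊆ K ⊆ L put Δ(L/K, a/b) = ker(Υ_{L/K/b} → Υ_{L/K/a}) ⊆ L ⊗_K Ω_{K/b}. Then 0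
→ Δ(L/K, k'/k) → Δ(L/K, k''/k) → Δ(L/K, k''/k') → 0 is exact: stated as the surjectivity of the map
induced by L ⊗_K Ω_{K/k} → L ⊗_K Ω_{K/k'} (exactness on the left and in the middle hold by
construction), together with the resulting identity of ranks d(L/K, k''/k) = d(L/K, k''/k') + d(L/K,
k'/k). -/
theorem result {k : Type u} {k' : Type u'} {k'' : Type u''} {K L : Type w}
    [Field k] [Field k'] [Field k''] [Field K] [Field L]
    [Algebra k k'] [Algebra k k''] [Algebra k' k''] [IsScalarTower k k' k'']
    [Algebra k K] [Algebra k' K] [Algebra k'' K] [IsScalarTower k k' K] [IsScalarTower k' k'' K]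
    [IsScalarTower k k'' K] [Algebra K L] [Algebra k L] [Algebra k' L] [Algebra k'' L]
    [IsScalarTower k K L] [IsScalarTower k' K L] [IsScalarTower k'' K L] :
    (∀ w : L ⊗[K] Ω[K⁄k'], w ∈ EGA41.imperfection k' K L →
        (KaehlerDifferential.map k' k'' K K).baseChange L w = 0 →
          ∃ z : L ⊗[K] Ω[K⁄k], z ∈ EGA41.imperfection k K L ∧
            (KaehlerDifferential.map k k'' K K).baseChange L z = 0 ∧
              (KaehlerDifferential.map k k' K K).baseChange L z = w) ∧
      Module.rank L ↥(EGA41.imperfection k K L ⊓
            LinearMap.ker ((KaehlerDifferential.map k k'' K K).baseChange L)) =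
        Module.rank L ↥(EGA41.imperfection k' K L ⊓
              LinearMap.ker ((KaehlerDifferential.map k' k'' K K).baseChange L)) +
          Module.rank L ↥(EGA41.imperfection k K L ⊓
              LinearMap.ker ((KaehlerDifferential.map k k' K K).baseChange L)) := by
  haveI : IsScalarTower k k' L := IsScalarTower.of_algebraMap_eq (fun x => by
    rw [IsScalarTower.algebraMap_apply k K L, IsScalarTower.algebraMap_apply k k' K,
      ← IsScalarTower.algebraMap_apply k' K L])
  have hsurj : ∀ w : L ⊗[K] Ω[K⁄k'], w ∈ EGA41.imperfection k' K L →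
        (KaehlerDifferential.map k' k'' K K).baseChange L w = 0 →
          ∃ z : L ⊗[K] Ω[K⁄k], z ∈ EGA41.imperfection k K L ∧
            (KaehlerDifferential.map k k'' K K).baseChange L z = 0 ∧
              (KaehlerDifferential.map k k' K K).baseChange L z = w := by
    intro w hw hw0
    have hs : Function.Surjective ((KaehlerDifferential.map k k' K K).baseChange L) := by
      rw [LinearMap.baseChange_eq_ltensor]
      exact LinearMap.lTensor_surjective _ (KaehlerDifferential.map_surjective k k' K)
    obtain ⟨z₀, hz₀⟩ := hs w
    have h1 : KaehlerDifferential.map k k' L L (KaehlerDifferential.mapBaseChange k K L z₀) = 0 := by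
      rw [← naturality, hz₀]
      exact hw
    obtain ⟨y, hy⟩ := (KaehlerDifferential.exact_mapBaseChange_map k k' L _).1 h1
    obtain ⟨t, ht1, ht2⟩ := exists_lift (K := K) y
    refine ⟨z₀ - t, ?_, ?_, ?_⟩
    · show KaehlerDifferential.mapBaseChange k K L (z₀ - t) = 0
      rw [map_sub, ht1, hy, sub_self]
    · rw [← baseChange_comp (k' := k'), map_sub, ht2, sub_zero, hz₀, hw0]
    · rw [map_sub, ht2, sub_zero, hz₀]
  refine ⟨hsurj, ?_⟩
  set f' := (KaehlerDifferential.map k k' K K).baseChange L with hf'
  set f'' := (KaehlerDifferential.map k k'' K K).baseChange L with hf''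
  set g := (KaehlerDifferential.map k' k'' K K).baseChange L with hg
  have hcomp : ∀ z, g (f' z) = f'' z := fun z => baseChange_comp (k' := k') z
  set V'' := EGA41.imperfection k K L ⊓ LinearMap.ker f'' with hV''
  set V' := EGA41.imperfection k K L ⊓ LinearMap.ker f' with hV'
  set W := EGA41.imperfection k' K L ⊓ LinearMap.ker g with hW
  let F : V'' →ₗ[L] L ⊗[K] Ω[K⁄k'] := f' ∘ₗ V''.subtype
  have hrange : LinearMap.range F = W := by
    apply le_antisymm
    · rintro _ ⟨⟨z, hz1, hz2⟩, rfl⟩
      refine ⟨?_, ?_⟩
      · show KaehlerDifferential.mapBaseChange k' K L (f' z) = 0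
        rw [naturality]
        have : KaehlerDifferential.mapBaseChange k K L z = 0 := hz1
        rw [this, map_zero]
      · show g (f' z) = 0
        rw [hcomp]; exact hz2
    · rintro w ⟨hw1, hw2⟩
      obtain ⟨z, hz1, hz2, hz3⟩ := hsurj w hw1 hw2
      exact ⟨⟨z, hz1, hz2⟩, hz3⟩
  have hle : V' ≤ V'' := by
    rintro z ⟨hz1, hz2⟩
    refine ⟨hz1, ?_⟩
    have hz2' : f' z = 0 := hz2
    show f'' z = 0
    rw [← hcomp, hz2', map_zero]
  have hker : LinearMap.ker F = Submodule.comap V''.subtype V' := by
    ext ⟨z, hz⟩
    simp only [F, LinearMap.mem_ker, LinearMap.comp_apply, Submodule.subtype_apply,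
      Submodule.mem_comap]
    constructor
    · intro h
      exact ⟨hz.1, h⟩
    · intro h
      exact h.2
  have h1 := LinearMap.rank_range_add_rank_ker (R := L) (M := V'') (M₁ := L ⊗[K] Ω[K⁄k']) F
  rw [hrange, hker, (Submodule.comapSubtypeEquivOfLe hle).rank_eq] at h1
  exact h1.symm

end Groth.Agent.S5836
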