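import Groth.Statements.S5837
import Groth.Agent.S5836
import Mathlib.RingTheory.Flat.Equalizer
import Mathlib.LinearAlgebra.Dimension.Constructions
import Mathlib.LinearAlgebra.Dimension.RankNullity
import Mathlib.LinearAlgebra.TensorProduct.RightExactness
import Mathlib.Tactic
-- import your own Groth.Agent.* helpers here

set_option autoImplicit false
universe u u' w
open scoped TensorProduct
open EGA41

namespace Groth.Agent.S5837


section lemA

variable {L M : Type w} [Field L] [Field M] [Algebra L M] {V W W₂ : Type w}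
  [AddCommGroup V] [Module L V] [AddCommGroup W] [Module L W] [AddCommGroup W₂] [Module L W₂]

lemma rank_ker_baseChange (g : V →ₗ[L] W) :
    Module.rank M (LinearMap.ker (g.baseChange M)) = Module.rank L (LinearMap.ker g) := by
  have h1 : LinearMap.ker (g.baseChange M) =
      LinearMap.range ((LinearMap.ker g).subtype.baseChange M) :=
    Module.Flat.ker_lTensor_eq M M g
  have hinj : Function.Injective ((LinearMap.ker g).subtype.baseChange M) := by
    have := Module.Flat.lTensor_preserves_injective_linearMap (M := M)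
      (LinearMap.ker g).subtype (Submodule.injective_subtype _)
    exact this
  rw [h1, ← (LinearEquiv.ofInjective _ hinj).rank_eq, Module.rank_baseChange, Cardinal.lift_id]

lemma ker_baseChange_prod (b : V →ₗ[L] W) (f : V →ₗ[L] W₂) :
    LinearMap.ker ((b.prod f).baseChange M) =
      LinearMap.ker (b.baseChange M) ⊓ LinearMap.ker (f.baseChange M) := by
  ext z
  simp only [Submodule.mem_inf, LinearMap.mem_ker]
  constructor
  · intro h
    constructor
    · have hb : b = (LinearMap.fst L W W₂) ∘ₗ (b.prod f) := by ext; simp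
      rw [hb, LinearMap.baseChange_comp, LinearMap.comp_apply, h, map_zero]
    · have hf : f = (LinearMap.snd L W W₂) ∘ₗ (b.prod f) := by ext; simp
      rw [hf, LinearMap.baseChange_comp, LinearMap.comp_apply, h, map_zero]
  · rintro ⟨h1, h2⟩
    have hbf : b.prod f = (LinearMap.inl L W W₂) ∘ₗ b + (LinearMap.inr L W W₂) ∘ₗ f := by
      ext <;> simp
    rw [hbf, LinearMap.baseChange_add, LinearMap.add_apply, LinearMap.baseChange_comp,
      LinearMap.baseChange_comp, LinearMap.comp_apply, LinearMap.comp_apply, h1, h2, map_zero,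
      map_zero, add_zero]

end lemA

section gen

variable {k₀ : Type u} {K L M : Type w}
    [CommRing k₀] [CommRing K] [CommRing L] [CommRing M]
    [Algebra k₀ K] [Algebra k₀ L] [Algebra K L] [Algebra K M] [Algebra L M] [IsScalarTower K L M]
    [Algebra k₀ M] [IsScalarTower k₀ K L] [IsScalarTower k₀ K M] [IsScalarTower k₀ L M]

lemma map_map_KLM (ω : Ω[K⁄k₀]) :
    KaehlerDifferential.map k₀ k₀ L M (KaehlerDifferential.map k₀ k₀ K L ω) =
      KaehlerDifferential.map k₀ k₀ K M ω := by
  have hω : ω ∈ Submodule.span K (Set.range (KaehlerDifferential.D k₀ K)) := by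
    rw [KaehlerDifferential.span_range_derivation]; exact Submodule.mem_top
  induction hω using Submodule.span_induction with
  | mem x hx =>
    obtain ⟨a, rfl⟩ := hx
    simp only [KaehlerDifferential.map_D, ← IsScalarTower.algebraMap_apply K L M]
  | zero => simp only [map_zero]
  | add x y _ _ hx hy => simp only [map_add, hx, hy]
  | smul a x _ hx =>
    rw [map_smul (KaehlerDifferential.map k₀ k₀ K L), map_smul (KaehlerDifferential.map k₀ k₀ K M),
      ← hx]
    rw [← algebraMap_smul L a (KaehlerDifferential.map k₀ k₀ K L x), map_smul, algebraMap_smul]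

lemma compat_b (z : M ⊗[L] (L ⊗[K] Ω[K⁄k₀])) :
    KaehlerDifferential.mapBaseChange k₀ L M
        ((KaehlerDifferential.mapBaseChange k₀ K L).baseChange M z) =
      KaehlerDifferential.mapBaseChange k₀ K M
        (TensorProduct.AlgebraTensorModule.cancelBaseChange K L M M (Ω[K⁄k₀]) z) := by
  induction z using TensorProduct.induction_on with
  | zero => simp only [map_zero]
  | add x y hx hy => simp only [map_add, hx, hy]
  | tmul m v =>
    induction v using TensorProduct.induction_on with
    | zero => simp only [TensorProduct.tmul_zero, map_zero]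
    | add x y hx hy => simp only [TensorProduct.tmul_add, map_add, hx, hy]
    | tmul l ω =>
      rw [LinearMap.baseChange_tmul, KaehlerDifferential.mapBaseChange_tmul,
        KaehlerDifferential.mapBaseChange_tmul,
        TensorProduct.AlgebraTensorModule.cancelBaseChange_tmul,
        KaehlerDifferential.mapBaseChange_tmul, map_smul, map_map_KLM]
      rw [← algebraMap_smul M l (KaehlerDifferential.map k₀ k₀ K M ω), smul_smul,
        Algebra.smul_def l m, mul_comm]

end gen

section gen2

variable {k₀ : Type u} {k : Type u'} {K L M : Type w}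
    [CommRing k₀] [CommRing k] [CommRing K] [CommRing L] [CommRing M] [Algebra k₀ k]
    [Algebra k₀ K] [Algebra k K] [IsScalarTower k₀ k K]
    [Algebra K L] [Algebra K M] [Algebra L M] [IsScalarTower K L M]

lemma compat_f (z : M ⊗[L] (L ⊗[K] Ω[K⁄k₀])) :
    TensorProduct.AlgebraTensorModule.cancelBaseChange K L M M (Ω[K⁄k])
        (((KaehlerDifferential.map k₀ k K K).baseChange L).baseChange M z) =
      (KaehlerDifferential.map k₀ k K K).baseChange M
        (TensorProduct.AlgebraTensorModule.cancelBaseChange K L M M (Ω[K⁄k₀]) z) := by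
  induction z using TensorProduct.induction_on with
  | zero => simp only [map_zero]
  | add x y hx hy => simp only [map_add, hx, hy]
  | tmul m v =>
    induction v using TensorProduct.induction_on with
    | zero => simp only [TensorProduct.tmul_zero, map_zero]
    | add x y hx hy => simp only [TensorProduct.tmul_add, map_add, hx, hy]
    | tmul l ω =>
      simp only [LinearMap.baseChange_tmul,
        TensorProduct.AlgebraTensorModule.cancelBaseChange_tmul]

end gen2

/-- Rank form. For fields k₀ ⊆ k ⊆ K ⊆ L ⊆ M, with Δ(F/E, k/k₀) = ker(Υ_{F/E/k₀} → Υ_{F/E/k}) and d its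
rank, one has d(M/K, k/k₀) = d(M/L, k/k₀) + d(L/K, k/k₀) (cardinal ranks; the published statement
gives the short exact sequence 0 → Δ(L/K, k/k₀) ⊗_L M → Δ(M/K, k/k₀) → Δ(M/L, k/k₀) → 0, of which
this row states the rank identity). -/
theorem result {k₀ : Type u} {k : Type u'} {K L M : Type w}
    [Field k₀] [Field k] [Field K] [Field L] [Field M] [Algebra k₀ k]
    [Algebra k₀ K] [Algebra k K] [IsScalarTower k₀ k K] [Algebra k₀ L] [Algebra k L] [IsScalarTower k₀ k L]
    [Algebra K L] [Algebra K M] [Algebra L M] [IsScalarTower K L M]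
    [Algebra k₀ M] [Algebra k M] [IsScalarTower k₀ K L] [IsScalarTower k K L]
    [IsScalarTower k₀ K M] [IsScalarTower k K M] [IsScalarTower k₀ L M] [IsScalarTower k L M] :
    Module.rank M ↥(EGA41.imperfection k₀ K M ⊓
          LinearMap.ker ((KaehlerDifferential.map k₀ k K K).baseChange M)) =
      Module.rank M ↥(EGA41.imperfection k₀ L M ⊓
            LinearMap.ker ((KaehlerDifferential.map k₀ k L L).baseChange M)) +
        Module.rank L ↥(EGA41.imperfection k₀ K L ⊓
            LinearMap.ker ((KaehlerDifferential.map k₀ k K K).baseChange L)) := by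
  classical
  -- notation
  let b : L ⊗[K] Ω[K⁄k₀] →ₗ[L] Ω[L⁄k₀] := KaehlerDifferential.mapBaseChange k₀ K L
  let f : L ⊗[K] Ω[K⁄k₀] →ₗ[L] L ⊗[K] Ω[K⁄k] := (KaehlerDifferential.map k₀ k K K).baseChange L
  let b' : L ⊗[K] Ω[K⁄k] →ₗ[L] Ω[L⁄k] := KaehlerDifferential.mapBaseChange k K L
  let π : Ω[L⁄k₀] →ₗ[L] Ω[L⁄k] := KaehlerDifferential.map k₀ k L L
  let a : L ⊗[k] Ω[k⁄k₀] →ₗ[L] Ω[L⁄k₀] := KaehlerDifferential.mapBaseChange k₀ k L
  let bM := b.baseChange M
  let fM := f.baseChange M
  let b'M := b'.baseChange M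
  let πM := π.baseChange M
  let aM := a.baseChange M
  let βL : M ⊗[L] Ω[L⁄k₀] →ₗ[M] Ω[M⁄k₀] := KaehlerDifferential.mapBaseChange k₀ L M
  let e : M ⊗[L] (L ⊗[K] Ω[K⁄k₀]) ≃ₗ[M] M ⊗[K] Ω[K⁄k₀] :=
    TensorProduct.AlgebraTensorModule.cancelBaseChange K L M M (Ω[K⁄k₀])
  let e' : M ⊗[L] (L ⊗[K] Ω[K⁄k]) ≃ₗ[M] M ⊗[K] Ω[K⁄k] :=
    TensorProduct.AlgebraTensorModule.cancelBaseChange K L M M (Ω[K⁄k])
  have hnat : ∀ v, b' (f v) = π (b v) := fun v => Groth.Agent.S5836.naturality (k := k₀) (k' := k) v
  have hnatM : ∀ z, πM (bM z) = b'M (fM z) := by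
    intro z
    induction z using TensorProduct.induction_on with
    | zero => simp only [map_zero]
    | add x y hx hy => simp only [map_add, hx, hy]
    | tmul m v =>
      simp only [πM, bM, b'M, fM, LinearMap.baseChange_tmul, hnat]
  have hcb : ∀ z, βL (bM z) = KaehlerDifferential.mapBaseChange k₀ K M (e z) := fun z => compat_b z
  have hcf : ∀ z, e' (fM z) = (KaehlerDifferential.map k₀ k K K).baseChange M (e z) :=
    fun z => compat_f z
  -- exactness
  have hex : ∀ w, πM w = 0 → ∃ y, aM y = w := by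
    intro w hw
    have hE := lTensor_exact M (KaehlerDifferential.exact_mapBaseChange_map k₀ k L)
      (KaehlerDifferential.map_surjective k₀ k L)
    obtain ⟨y, hy⟩ := (hE w).1 hw
    exact ⟨y, hy⟩
  -- lifting
  have hlift : ∀ y : M ⊗[L] (L ⊗[k] Ω[k⁄k₀]), ∃ t : M ⊗[L] (L ⊗[K] Ω[K⁄k₀]),
      bM t = aM y ∧ fM t = 0 := by
    intro y
    induction y using TensorProduct.induction_on with
    | zero => exact ⟨0, by simp only [map_zero], by simp only [map_zero]⟩
    | add x y hx hy =>
      obtain ⟨t, ht1, ht2⟩ := hx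
      obtain ⟨t', ht1', ht2'⟩ := hy
      exact ⟨t + t', by simp only [map_add, ht1, ht1'], by simp only [map_add, ht2, ht2', add_zero]⟩
    | tmul m y =>
      obtain ⟨t, ht1, ht2⟩ := Groth.Agent.S5836.exists_lift (k := k₀) (k' := k) (K := K) (L := L) y
      refine ⟨m ⊗ₜ[L] t, ?_, ?_⟩
      · simp only [bM, aM, b, a, LinearMap.baseChange_tmul, ht1]
      · simp only [fM, f, LinearMap.baseChange_tmul, ht2, TensorProduct.tmul_zero]
  -- the submodules
  set D₁ : Submodule M (M ⊗[L] (L ⊗[K] Ω[K⁄k₀])) :=
    LinearMap.ker (βL ∘ₗ bM) ⊓ LinearMap.ker fM with hD₁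
  set ΔML : Submodule M (M ⊗[L] Ω[L⁄k₀]) := EGA41.imperfection k₀ L M ⊓ LinearMap.ker πM with hΔML
  set ΔMK : Submodule M (M ⊗[K] Ω[K⁄k₀]) := EGA41.imperfection k₀ K M ⊓
          LinearMap.ker ((KaehlerDifferential.map k₀ k K K).baseChange M) with hΔMK
  let F : D₁ →ₗ[M] M ⊗[L] Ω[L⁄k₀] := bM ∘ₗ D₁.subtype
  have hrange : LinearMap.range F = ΔML := by
    apply le_antisymm
    · rintro _ ⟨⟨z, hz1, hz2⟩, rfl⟩
      refine ⟨?_, ?_⟩
      · show βL (bM z) = 0
        exact hz1
      · show πM (bM z) = 0
        have hz2' : fM z = 0 := hz2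
        rw [hnatM, hz2', map_zero]
    · rintro w ⟨hw1, hw2⟩
      have hw1' : βL w = 0 := hw1
      obtain ⟨y, hy⟩ := hex w hw2
      obtain ⟨t, ht1, ht2⟩ := hlift y
      refine ⟨⟨t, ?_, ht2⟩, ?_⟩
      · show βL (bM t) = 0
        rw [ht1, hy, hw1']
      · show bM t = w
        rw [ht1, hy]
  have hle : LinearMap.ker bM ⊓ LinearMap.ker fM ≤ D₁ := by
    rintro z ⟨hz1, hz2⟩
    refine ⟨?_, hz2⟩
    have hz1' : bM z = 0 := hz1
    show βL (bM z) = 0
    rw [hz1', map_zero]
  have hker : LinearMap.ker F = Submodule.comap D₁.subtype (LinearMap.ker bM ⊓ LinearMap.ker fM) := by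
    ext ⟨z, hz⟩
    simp only [F, LinearMap.mem_ker, LinearMap.comp_apply, Submodule.subtype_apply,
      Submodule.mem_comap, Submodule.mem_inf]
    constructor
    · intro h
      exact ⟨h, hz.2⟩
    · intro h
      exact h.1
  have h1 := LinearMap.rank_range_add_rank_ker (R := M) (M := D₁) (M₁ := M ⊗[L] Ω[L⁄k₀]) F
  rw [hrange, hker, (Submodule.comapSubtypeEquivOfLe hle).rank_eq] at h1
  -- the kernel
  have h2 : Module.rank M ↥(LinearMap.ker bM ⊓ LinearMap.ker fM) =
      Module.rank L ↥(EGA41.imperfection k₀ K L ⊓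
            LinearMap.ker ((KaehlerDifferential.map k₀ k K K).baseChange L)) := by
    rw [← ker_baseChange_prod (M := M) b f, rank_ker_baseChange, LinearMap.ker_prod]
    rfl
  -- transfer along e
  have h3 : ΔMK = D₁.map (e : M ⊗[L] (L ⊗[K] Ω[K⁄k₀]) →ₗ[M] M ⊗[K] Ω[K⁄k₀]) := by
    ext z
    rw [Submodule.mem_map_equiv]
    constructor
    · rintro ⟨hz1, hz2⟩
      refine ⟨?_, ?_⟩
      · show βL (bM (e.symm z)) = 0
        rw [hcb, LinearEquiv.apply_symm_apply]
        exact hz1
      · show fM (e.symm z) = 0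
        apply e'.injective
        rw [hcf, LinearEquiv.apply_symm_apply, map_zero]
        exact hz2
    · rintro ⟨hz1, hz2⟩
      have hz1' : βL (bM (e.symm z)) = 0 := hz1
      have hz2' : fM (e.symm z) = 0 := hz2
      refine ⟨?_, ?_⟩
      · show KaehlerDifferential.mapBaseChange k₀ K M z = 0
        rw [hcb, LinearEquiv.apply_symm_apply] at hz1'
        exact hz1'
      · show (KaehlerDifferential.map k₀ k K K).baseChange M z = 0
        have := hcf (e.symm z)
        rw [LinearEquiv.apply_symm_apply, hz2', map_zero] at this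
        exact this.symm
  have h4 : Module.rank M ΔMK = Module.rank M D₁ := by
    rw [h3]
    exact (e.submoduleMap D₁).rank_eq.symm
  rw [h4, ← h1, h2]

end Groth.Agent.S5837
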