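import Groth.Statements.S5838
import Groth.Agent.S5826
import Mathlib.Algebra.Module.Projective
import Mathlib.RingTheory.Ideal.Quotient.Operations
import Mathlib.Algebra.Module.Torsion.Basic
import Mathlib.Topology.Algebra.IsUniformGroup.Basic
import Mathlib.Topology.Algebra.OpenSubgroup

set_option autoImplicit false
universe u v w
open EGA41

namespace Groth.Agent.S5838

section algebra

variable {A : Type u} [CommRing A]

/-- lifting property of a module projective over `A ⧸ J` against surjections of `A`-modules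
killed by `J`. -/
lemma lift_of_projective (J : Ideal A) {P X Y : Type*} [AddCommGroup P] [Module A P]
    [Module (A ⧸ J) P] [IsScalarTower A (A ⧸ J) P] [Module.Projective (A ⧸ J) P]
    [AddCommGroup X] [Module A X] [AddCommGroup Y] [Module A Y]
    (hX : Module.IsTorsionBySet A X J) (hY : Module.IsTorsionBySet A Y J)
    (f : X →ₗ[A] Y) (hf : Function.Surjective f) (g : P →ₗ[A] Y) :
    ∃ h : P →ₗ[A] X, ∀ p, f (h p) = g p := by
  letI := hX.module
  letI := hY.module
  haveI : IsScalarTower A (A ⧸ J) X := hX.isScalarTower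
  haveI : IsScalarTower A (A ⧸ J) Y := hY.isScalarTower
  have hs : Function.Surjective (algebraMap A (A ⧸ J)) := Ideal.Quotient.mk_surjective
  obtain ⟨h, hh⟩ := Module.projective_lifting_property (f.extendScalarsOfSurjective hs)
    (g.extendScalarsOfSurjective hs) hf
  exact ⟨h.restrictScalars A, fun p => LinearMap.congr_fun hh p⟩

lemma torsion_quot {M : Type*} [AddCommGroup M] [Module A M] (J J' : Ideal A) (hJ : J ≤ J') :
    Module.IsTorsionBySet A (M ⧸ (J' • ⊤ : Submodule A M)) J := by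
  intro y a
  obtain ⟨a, ha⟩ := a
  obtain ⟨m, rfl⟩ := Submodule.Quotient.mk_surjective _ y
  change a • Submodule.Quotient.mk m = 0
  rw [← Submodule.Quotient.mk_smul, Submodule.Quotient.mk_eq_zero]
  exact Submodule.smul_mem_smul (hJ ha) Submodule.mem_top

end algebra

section analysis

variable {A : Type u} {M : Type v} [CommRing A] [TopologicalSpace A] [AddCommGroup M] [Module A M]

lemma basis_nat [TopologicalSpace M] (𝔍 : ℕ → Ideal A) (h𝔍open : ∀ n, IsOpen (𝔍 n : Set A))
    (h𝔍basis : (nhds (0 : A)).HasBasis (fun _ : ℕ => True) (fun n => (𝔍 n : Set A)))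
    (hM : TopMod.IsDeduced A M) :
    (nhds (0 : M)).HasBasis (fun _ : ℕ => True)
      (fun n => ((𝔍 n • ⊤ : Submodule A M) : Set M)) := by
  refine ⟨fun s => ?_⟩
  rw [hM.2.mem_iff]
  constructor
  · rintro ⟨J, hJ, hsub⟩
    have h0 : (J : Set A) ∈ nhds (0 : A) := hJ.mem_nhds J.zero_mem
    obtain ⟨n, -, hn⟩ := h𝔍basis.mem_iff.1 h0
    refine ⟨n, trivial, subset_trans ?_ hsub⟩
    have hle : 𝔍 n ≤ J := hn
    exact Submodule.smul_mono_left hle
  · rintro ⟨n, -, hsub⟩
    exact ⟨𝔍 n, h𝔍open n, hsub⟩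

lemma eq_zero_of_forall_mem [TopologicalSpace M] [T1Space M] (𝔍 : ℕ → Ideal A)
    (hb : (nhds (0 : M)).HasBasis (fun _ : ℕ => True)
      (fun n => ((𝔍 n • ⊤ : Submodule A M) : Set M)))
    (m : M) (h : ∀ n, m ∈ (𝔍 n • ⊤ : Submodule A M)) : m = 0 := by
  by_contra hne
  have h0 : ({m}ᶜ : Set M) ∈ nhds (0 : M) :=
    isOpen_compl_singleton.mem_nhds (fun h' => hne (Set.mem_singleton_iff.1 h').symm)
  obtain ⟨n, -, hn⟩ := hb.mem_iff.1 h0
  exact hn (h n) rfl

lemma exists_limit [UniformSpace M] [IsUniformAddGroup M] [CompleteSpace M] (𝔍 : ℕ → Ideal A)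
    (h𝔍anti : Antitone 𝔍)
    (hb : (nhds (0 : M)).HasBasis (fun _ : ℕ => True)
      (fun n => ((𝔍 n • ⊤ : Submodule A M) : Set M)))
    (c : ℕ → M) (hc : ∀ n, c (n + 1) - c n ∈ (𝔍 n • ⊤ : Submodule A M)) :
    ∃ m : M, ∀ n, m - c n ∈ (𝔍 n • ⊤ : Submodule A M) := by
  have hmono : ∀ {n k : ℕ}, n ≤ k → (𝔍 k • ⊤ : Submodule A M) ≤ 𝔍 n • ⊤ :=
    fun h => Submodule.smul_mono_left (h𝔍anti h)
  have key : ∀ n k, n ≤ k → c k - c n ∈ (𝔍 n • ⊤ : Submodule A M) := by
    intro n k hnk
    induction k, hnk using Nat.le_induction with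
    | base => simp
    | succ k hk ih =>
      have e : c (k + 1) - c n = (c (k + 1) - c k) + (c k - c n) := by abel
      rw [e]
      exact add_mem (hmono hk (hc k)) ih
  have hcauchy : CauchySeq c := by
    rw [(hb.uniformity_of_nhds_zero).cauchySeq_iff]
    intro n _
    refine ⟨n, fun k hk l hl => ?_⟩
    change c l - c k ∈ (𝔍 n • ⊤ : Submodule A M)
    have e : c l - c k = (c l - c n) - (c k - c n) := by abel
    rw [e]
    exact sub_mem (key n l hl) (key n k hk)
  obtain ⟨m, hm⟩ := cauchySeq_tendsto_of_complete hcauchy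
  refine ⟨m, fun n => ?_⟩
  have hopen : IsOpen ((𝔍 n • ⊤ : Submodule A M) : Set M) :=
    (𝔍 n • ⊤ : Submodule A M).toAddSubgroup.isOpen_of_mem_nhds (g := 0) (hb.mem_of_mem trivial)
  have hclosed : IsClosed ((𝔍 n • ⊤ : Submodule A M) : Set M) :=
    (𝔍 n • ⊤ : Submodule A M).toAddSubgroup.isClosed_of_isOpen hopen
  have ht : Filter.Tendsto (fun k => c k - c n) Filter.atTop (nhds (m - c n)) :=
    hm.sub_const _
  refine hclosed.mem_of_tendsto ht ?_
  filter_upwards [Filter.eventually_ge_atTop n] with k hk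
  exact key n k hk

end analysis

section stepsec

variable {A : Type u} {M : Type v} {N : Type w} [CommRing A] [AddCommGroup M] [Module A M]
  [AddCommGroup N] [Module A N]

lemma step (J J' : Ideal A) (hle : J' ≤ J) (u : M →ₗ[A] N)
    [Module.Projective (A ⧸ J')
      ((N ⧸ LinearMap.range u) ⧸ (J' • (⊤ : Submodule A (N ⧸ LinearMap.range u))))]
    (wn : N →ₗ[A] M ⧸ (J • ⊤ : Submodule A M))
    (hwn : ∀ x, wn (u x) = Submodule.Quotient.mk x)
    (w' : N →ₗ[A] M ⧸ (J' • ⊤ : Submodule A M))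
    (hw' : ∀ x, w' (u x) = Submodule.Quotient.mk x) :
    ∃ w'' : N →ₗ[A] M ⧸ (J' • ⊤ : Submodule A M),
      (∀ x, w'' (u x) = Submodule.Quotient.mk x) ∧
      ∀ y, Submodule.factor (Submodule.smul_mono_left hle : (J' • ⊤ : Submodule A M) ≤ J • ⊤)
        (w'' y) = wn y := by
  set π := Submodule.factor
    (Submodule.smul_mono_left hle : (J' • ⊤ : Submodule A M) ≤ J • ⊤) with hπ
  let δ : N →ₗ[A] M ⧸ (J • ⊤ : Submodule A M) := wn - π ∘ₗ w'
  have hδ : ∀ x, δ (u x) = 0 := by
    intro x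
    change wn (u x) - π (w' (u x)) = 0
    rw [hwn, hw']
    exact sub_self _
  let δ1 : (N ⧸ LinearMap.range u) →ₗ[A] M ⧸ (J • ⊤ : Submodule A M) :=
    (LinearMap.range u).liftQ δ (by
      rintro _ ⟨x, rfl⟩
      exact hδ x)
  let δ2 : ((N ⧸ LinearMap.range u) ⧸ (J' • (⊤ : Submodule A (N ⧸ LinearMap.range u)))) →ₗ[A]
      M ⧸ (J • ⊤ : Submodule A M) :=
    (J' • (⊤ : Submodule A (N ⧸ LinearMap.range u))).liftQ δ1 (by
      rw [Submodule.smul_le]
      intro a ha c _
      rw [LinearMap.mem_ker, map_smul]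
      have ht := torsion_quot (M := M) J' J hle
      exact @ht (δ1 c) ⟨a, ha⟩)
  obtain ⟨ε, hε⟩ := lift_of_projective J' (torsion_quot (M := M) J' J' le_rfl)
    (torsion_quot (M := M) J' J hle) π (Submodule.factor_surjective _) δ2
  refine ⟨w' + ε ∘ₗ (Submodule.mkQ _) ∘ₗ (Submodule.mkQ (LinearMap.range u)), ?_, ?_⟩
  · intro x
    have h0 : Submodule.mkQ (LinearMap.range u) (u x) = 0 :=
      (Submodule.Quotient.mk_eq_zero _).2 ⟨x, rfl⟩
    change w' (u x) + ε (Submodule.mkQ _ (Submodule.mkQ (LinearMap.range u) (u x))) = _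
    rw [h0, map_zero, map_zero, add_zero, hw']
  · intro y
    change π (w' y + ε (Submodule.mkQ _ (Submodule.mkQ (LinearMap.range u) y))) = wn y
    rw [map_add, hε]
    change π (w' y) + (wn y - π (w' y)) = wn y
    abel

end stepsec

/-- Let A be a topological ring with a countable decreasing fundamental system (𝔍_n) of open ideals, M
and N topological A-modules with the topologies deduced from that of A, M Hausdorff and complete,
and u : M → N a continuous linear map such that for every n the cokernel of M/𝔍_n M → N/𝔍_n N is a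
projective (A/𝔍_n)-module. Then u is formally left invertible if and only if it has a linear left
inverse. (The published statement adds that u is then a topological isomorphism onto a topological
direct factor.) -/
theorem result {A : Type u} {M : Type v} {N : Type w}
    [CommRing A] [TopologicalSpace A] [AddCommGroup M] [Module A M] [UniformSpace M] [IsUniformAddGroup M]
    [CompleteSpace M] [T2Space M] [AddCommGroup N] [Module A N] [TopologicalSpace N]
    (𝔍 : ℕ → Ideal A) (h𝔍open : ∀ n, IsOpen (𝔍 n : Set A)) (h𝔍anti : Antitone 𝔍)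
    (h𝔍basis : (nhds (0 : A)).HasBasis (fun _ : ℕ => True) (fun n => (𝔍 n : Set A)))
    (hM : TopMod.IsDeduced A M) (hN : TopMod.IsDeduced A N) (u : M →L[A] N)
    (hcoker : ∀ n, Module.Projective (A ⧸ 𝔍 n)
      ((N ⧸ LinearMap.range u.toLinearMap) ⧸ (𝔍 n • (⊤ : Submodule A (N ⧸ LinearMap.range u.toLinearMap))))) :
    TopMod.IsFormallyLeftInvertible u ↔ ∃ w : N →ₗ[A] M, ∀ x : M, w (u x) = x := by
  have hb := basis_nat 𝔍 h𝔍open h𝔍basis hM
  have h26 := Groth.Agent.S5826.result hM hN u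
  constructor
  · intro hfl
    have h1 := h26.1 hfl
    have hmono : ∀ n, (𝔍 (n + 1) • ⊤ : Submodule A M) ≤ 𝔍 n • ⊤ :=
      fun n => Submodule.smul_mono_left (h𝔍anti (Nat.le_succ n))
    have hstep : ∀ n (wn : {w : N →ₗ[A] M ⧸ (𝔍 n • ⊤ : Submodule A M) //
          ∀ x, w (u x) = Submodule.Quotient.mk x}),
        ∃ w'' : {w : N →ₗ[A] M ⧸ (𝔍 (n + 1) • ⊤ : Submodule A M) //
          ∀ x, w (u x) = Submodule.Quotient.mk x},
          ∀ y, Submodule.factor (hmono n) (w''.1 y) = wn.1 y := by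
      intro n wn
      obtain ⟨w', hw'⟩ := h1 (𝔍 (n + 1)) (h𝔍open (n + 1))
      haveI := hcoker (n + 1)
      obtain ⟨w'', h1'', h2''⟩ := step (𝔍 n) (𝔍 (n + 1)) (h𝔍anti (Nat.le_succ n))
        u.toLinearMap wn.1 wn.2 w' hw'
      exact ⟨⟨w'', h1''⟩, h2''⟩
    choose next hnext using hstep
    obtain ⟨w0, hw0⟩ := h1 (𝔍 0) (h𝔍open 0)
    let W : ∀ n, {w : N →ₗ[A] M ⧸ (𝔍 n • ⊤ : Submodule A M) //
        ∀ x, w (u x) = Submodule.Quotient.mk x} :=
      fun n => Nat.rec ⟨w0, hw0⟩ (fun n wn => next n wn) n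
    have hW : ∀ n y, Submodule.factor (hmono n) ((W (n + 1)).1 y) = (W n).1 y :=
      fun n y => hnext n (W n) y
    have hex : ∀ y : N, ∃ m : M, ∀ n,
        (Submodule.Quotient.mk m : M ⧸ (𝔍 n • ⊤ : Submodule A M)) = (W n).1 y := by
      intro y
      have hsurj : ∀ n, ∃ c : M,
          (Submodule.Quotient.mk c : M ⧸ (𝔍 n • ⊤ : Submodule A M)) = (W n).1 y :=
        fun n => Submodule.Quotient.mk_surjective _ _
      choose c hc using hsurj
      have hcc : ∀ n, c (n + 1) - c n ∈ (𝔍 n • ⊤ : Submodule A M) := by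
        intro n
        rw [← Submodule.Quotient.eq, hc n, ← hW n y, ← hc (n + 1)]
        rfl
      obtain ⟨m, hm⟩ := exists_limit 𝔍 h𝔍anti hb c hcc
      refine ⟨m, fun n => ?_⟩
      rw [← hc n, Submodule.Quotient.eq]
      exact hm n
    choose wfun hwfun using hex
    have uniq : ∀ m m' : M, (∀ n, (Submodule.Quotient.mk m : M ⧸ (𝔍 n • ⊤ : Submodule A M)) =
        Submodule.Quotient.mk m') → m = m' := by
      intro m m' h
      have h0 := eq_zero_of_forall_mem 𝔍 hb (m - m')
        (fun n => (Submodule.Quotient.eq _).1 (h n))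
      exact sub_eq_zero.1 h0
    refine ⟨{ toFun := wfun
              map_add' := fun y y' => uniq _ _ (fun n => ?_)
              map_smul' := fun a y => uniq _ _ (fun n => ?_) }, fun x => uniq _ _ (fun n => ?_)⟩
    · rw [hwfun, Submodule.Quotient.mk_add, hwfun, hwfun, map_add]
    · rw [hwfun, RingHom.id_apply, Submodule.Quotient.mk_smul, hwfun, map_smul]
    · change Submodule.Quotient.mk (wfun (u x)) = _
      rw [hwfun, (W n).2]
  · rintro ⟨w, hw⟩
    refine h26.2 (fun J _ => ⟨(Submodule.mkQ _) ∘ₗ w, fun x => ?_⟩)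
    change Submodule.Quotient.mk (w (u x)) = _
    rw [hw]

end Groth.Agent.S5838
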