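import Groth.Statements.S5839
import Groth.Agent.S5838
import Mathlib.RingTheory.Nilpotent.Basic

set_option autoImplicit false
universe u v w
open EGA41

namespace Groth.Agent.S5839

set_option linter.style.haveILetI false
open Groth.Agent.S5838

section stepsec

variable {A : Type u} {M : Type v} {N : Type w} [CommRing A] [AddCommGroup M] [Module A M]
  [AddCommGroup N] [Module A N]

/-- an endomorphism with image in `J • ⊤` has `k`-th power with image in `J ^ k • ⊤` -/
lemma range_pow_le (J : Ideal A) {X : Type*} [AddCommGroup X] [Module A X]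
    (ε : Module.End A X) (hε : ∀ x, ε x ∈ (J • ⊤ : Submodule A X)) (k : ℕ) :
    ∀ x, (ε ^ k) x ∈ (J ^ k • ⊤ : Submodule A X) := by
  induction k with
  | zero => intro x; simp
  | succ k ih =>
    intro x
    have e : ε ^ (k + 1) = ε * ε ^ k := pow_succ' ε k
    rw [e, Module.End.mul_apply]
    have h1 : (ε ^ k) x ∈ (J ^ k • ⊤ : Submodule A X) := ih x
    have h2 : Submodule.map ε (J ^ k • ⊤ : Submodule A X) ≤ J ^ (k + 1) • ⊤ := by
      rw [Submodule.map_smul'', pow_succ, Submodule.mul_smul]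
      apply Submodule.smul_mono le_rfl
      rintro _ ⟨y, -, rfl⟩
      exact hε y
    exact h2 ⟨_, h1, rfl⟩

/-- nilpotent lifting step: a left inverse modulo `J` lifts to a compatible left inverse modulo
`J' ≤ J` when `J ^ k ≤ J'` and `N / J' N` is projective over `A / J'`. -/
lemma lift_step (J J' : Ideal A) (hle : J' ≤ J) (k : ℕ) (hk : J ^ k ≤ J') (u : M →ₗ[A] N)
    [Module.Projective (A ⧸ J') (N ⧸ (J' • (⊤ : Submodule A N)))]
    (wJ : N →ₗ[A] M ⧸ (J • ⊤ : Submodule A M))
    (hwJ : ∀ x, wJ (u x) = Submodule.Quotient.mk x) :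
    ∃ w' : N →ₗ[A] M ⧸ (J' • ⊤ : Submodule A M),
      (∀ x, w' (u x) = Submodule.Quotient.mk x) ∧
      ∀ y, Submodule.factor (Submodule.smul_mono_left hle : (J' • ⊤ : Submodule A M) ≤ J • ⊤)
        (w' y) = wJ y := by
  set π := Submodule.factor
    (Submodule.smul_mono_left hle : (J' • ⊤ : Submodule A M) ≤ J • ⊤) with hπ
  -- `wJ` factors through `N / J' N`
  let wbar : (N ⧸ (J' • (⊤ : Submodule A N))) →ₗ[A] M ⧸ (J • ⊤ : Submodule A M) :=
    (J' • (⊤ : Submodule A N)).liftQ wJ (by
      rw [Submodule.smul_le]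
      intro a ha c _
      rw [LinearMap.mem_ker, map_smul]
      have ht := torsion_quot (M := M) J' J hle
      exact @ht (wJ c) ⟨a, ha⟩)
  obtain ⟨vbar, hvbar⟩ := lift_of_projective J' (torsion_quot (M := M) J' J' le_rfl)
    (torsion_quot (M := M) J' J hle) π (Submodule.factor_surjective _) wbar
  let v : N →ₗ[A] M ⧸ (J' • ⊤ : Submodule A M) := vbar ∘ₗ Submodule.mkQ _
  have hv : ∀ y, π (v y) = wJ y := by
    intro y
    change π (vbar (Submodule.mkQ _ y)) = _
    rw [hvbar]
    rfl
  -- the endomorphism `t` of `M / J' M` induced by `v ∘ u`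
  let t : Module.End A (M ⧸ (J' • ⊤ : Submodule A M)) :=
    (J' • (⊤ : Submodule A M)).liftQ (v ∘ₗ u) (by
      rw [Submodule.smul_le]
      intro a ha c _
      rw [LinearMap.mem_ker, map_smul]
      have ht := torsion_quot (M := M) J' J' le_rfl
      exact @ht ((v ∘ₗ u) c) ⟨a, ha⟩)
  have ht_mk : ∀ x : M, t (Submodule.Quotient.mk x) = v (u x) := fun x => rfl
  have hπt : ∀ z, π (t z) = π z := by
    intro z
    obtain ⟨x, rfl⟩ := Submodule.Quotient.mk_surjective _ z
    rw [ht_mk, hv, hwJ]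
    rfl
  -- `t - 1` has image in `J • ⊤`
  have hε : ∀ z, (t - 1) z ∈ (J • ⊤ : Submodule A (M ⧸ (J' • ⊤ : Submodule A M))) := by
    intro z
    have h0 : π ((t - 1) z) = 0 := by
      rw [LinearMap.sub_apply, map_sub, hπt, Module.End.one_apply, sub_self]
    obtain ⟨x, hx⟩ := Submodule.Quotient.mk_surjective _ ((t - 1) z)
    rw [← hx] at h0 ⊢
    have h1 : x ∈ (J • ⊤ : Submodule A M) := by
      have : π (Submodule.Quotient.mk x) = Submodule.Quotient.mk x := rfl
      rw [this, Submodule.Quotient.mk_eq_zero] at h0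
      exact h0
    have h2 : Submodule.map (Submodule.mkQ (J' • ⊤ : Submodule A M)) (J • ⊤ : Submodule A M) ≤
        J • ⊤ := by
      rw [Submodule.map_smul'']
      exact Submodule.smul_mono le_rfl le_top
    exact h2 ⟨x, h1, rfl⟩
  have hnil : IsNilpotent (t - 1) := by
    refine ⟨k, LinearMap.ext fun z => ?_⟩
    have h1 := range_pow_le J (t - 1) hε k z
    have h2 : (J ^ k • ⊤ : Submodule A (M ⧸ (J' • ⊤ : Submodule A M))) ≤ ⊥ := by
      rw [Submodule.smul_le]
      intro a ha c _
      rw [Submodule.mem_bot]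
      have ht := torsion_quot (M := M) J' J' le_rfl
      exact @ht c ⟨a, hk ha⟩
    have h3 := h2 h1
    rw [Submodule.mem_bot] at h3
    rw [h3]
    rfl
  have hunit : IsUnit t := by
    have : t = 1 + (t - 1) := by abel
    rw [this]
    exact hnil.isUnit_one_add
  obtain ⟨⟨t', s, hts, hst⟩, rfl⟩ := hunit
  refine ⟨s ∘ₗ v, ?_, ?_⟩
  · intro x
    change s (v (u x)) = _
    rw [← ht_mk, ← Module.End.mul_apply, hst, Module.End.one_apply]
  · intro y
    change π (s (v y)) = _
    rw [← hπt, ← Module.End.mul_apply, hts, Module.End.one_apply, hv]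

end stepsec

/-- Let A be preadmissible with ideal of definition 𝔏, the topologies of M and N deduced from that of A,
N/JN projective over A/J for every open ideal J; assuming moreover a countable decreasing
fundamental system of open ideals and M Hausdorff and complete, u : M → N has a linear left inverse
if and only if the induced map M/𝔏M → N/𝔏N has one (both being equivalent to formal left
invertibility). -/
theorem result {A : Type u} {M : Type v} {N : Type w}
    [CommRing A] [TopologicalSpace A] [AddCommGroup M] [Module A M] [UniformSpace M] [IsUniformAddGroup M]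
    [CompleteSpace M] [T2Space M] [AddCommGroup N] [Module A N] [TopologicalSpace N]
    (𝔍 : ℕ → Ideal A) (h𝔍open : ∀ n, IsOpen (𝔍 n : Set A)) (h𝔍anti : Antitone 𝔍)
    (h𝔍basis : (nhds (0 : A)).HasBasis (fun _ : ℕ => True) (fun n => (𝔍 n : Set A)))
    (hM : TopMod.IsDeduced A M) (hN : TopMod.IsDeduced A N) (u : M →L[A] N)
    (hA : LinTop.IsPreadmissible A) (𝔏 : Ideal A) (h𝔏 : LinTop.IsIdealOfDefinition A 𝔏)
    (hproj : ∀ J : Ideal A, IsOpen (J : Set A) → Module.Projective (A ⧸ J) (N ⧸ (J • (⊤ : Submodule A N)))) :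
    (∃ w : N →ₗ[A] M, ∀ x : M, w (u x) = x) ↔
      ∃ w₀ : N →ₗ[A] M ⧸ (𝔏 • ⊤ : Submodule A M), ∀ x : M, w₀ (u x) = Submodule.Quotient.mk x := by
  constructor
  · rintro ⟨w, hw⟩
    refine ⟨(Submodule.mkQ _) ∘ₗ w, fun x => ?_⟩
    change Submodule.Quotient.mk (w (u x)) = _
    rw [hw]
  · rintro ⟨w₀, hw₀⟩
    let J : ℕ → Ideal A := fun n => 𝔍 n ⊓ 𝔏
    have hJopen : ∀ n, IsOpen (J n : Set A) := fun n => by
      change IsOpen ((𝔍 n ⊓ 𝔏 : Ideal A) : Set A)
      rw [Submodule.coe_inf]
      exact (h𝔍open n).inter h𝔏.1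
    have hJanti : Antitone J := fun a b hab => inf_le_inf_right _ (h𝔍anti hab)
    have hJle : ∀ n, J n ≤ 𝔏 := fun n => inf_le_right
    have hJbasis : (nhds (0 : A)).HasBasis (fun _ : ℕ => True) (fun n => (J n : Set A)) := by
      refine ⟨fun s => ?_⟩
      constructor
      · intro hs
        have h𝔏nhds : (𝔏 : Set A) ∈ nhds (0 : A) := h𝔏.1.mem_nhds 𝔏.zero_mem
        obtain ⟨n, -, hn⟩ := h𝔍basis.mem_iff.1 (Filter.inter_mem hs h𝔏nhds)
        refine ⟨n, trivial, fun a ha => (hn ?_).1⟩
        exact ha.1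
      · rintro ⟨n, -, hn⟩
        exact Filter.mem_of_superset ((hJopen n).mem_nhds (J n).zero_mem) hn
    have hpow : ∀ n, ∃ k, 𝔏 ^ k ≤ J n := fun n => by
      obtain ⟨k, -, hk⟩ := h𝔏.2 (J n) ((hJopen n).mem_nhds (J n).zero_mem)
      exact ⟨k, hk⟩
    have hb := basis_nat J hJopen hJbasis hM
    obtain ⟨k0, hk0⟩ := hpow 0
    haveI := hproj (J 0) (hJopen 0)
    obtain ⟨w0, hw0, -⟩ := lift_step 𝔏 (J 0) (hJle 0) k0 hk0 u.toLinearMap w₀ hw₀
    have hmono : ∀ n, (J (n + 1) • ⊤ : Submodule A M) ≤ J n • ⊤ :=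
      fun n => Submodule.smul_mono_left (hJanti (Nat.le_succ n))
    have hstep : ∀ n (wn : {w : N →ₗ[A] M ⧸ (J n • ⊤ : Submodule A M) //
          ∀ x, w (u x) = Submodule.Quotient.mk x}),
        ∃ w'' : {w : N →ₗ[A] M ⧸ (J (n + 1) • ⊤ : Submodule A M) //
          ∀ x, w (u x) = Submodule.Quotient.mk x},
          ∀ y, Submodule.factor (hmono n) (w''.1 y) = wn.1 y := by
      intro n wn
      obtain ⟨k, hk⟩ := hpow (n + 1)
      haveI := hproj (J (n + 1)) (hJopen (n + 1))
      have hk' : J n ^ k ≤ J (n + 1) := (Ideal.pow_right_mono (hJle n) k).trans hk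
      obtain ⟨w'', h1'', h2''⟩ := lift_step (J n) (J (n + 1)) (hJanti (Nat.le_succ n)) k hk'
        u.toLinearMap wn.1 wn.2
      exact ⟨⟨w'', h1''⟩, h2''⟩
    choose next hnext using hstep
    let W : ∀ n, {w : N →ₗ[A] M ⧸ (J n • ⊤ : Submodule A M) //
        ∀ x, w (u x) = Submodule.Quotient.mk x} :=
      fun n => Nat.rec ⟨w0, hw0⟩ (fun n wn => next n wn) n
    have hW : ∀ n y, Submodule.factor (hmono n) ((W (n + 1)).1 y) = (W n).1 y :=
      fun n y => hnext n (W n) y
    have hex : ∀ y : N, ∃ m : M, ∀ n,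
        (Submodule.Quotient.mk m : M ⧸ (J n • ⊤ : Submodule A M)) = (W n).1 y := by
      intro y
      have hsurj : ∀ n, ∃ c : M,
          (Submodule.Quotient.mk c : M ⧸ (J n • ⊤ : Submodule A M)) = (W n).1 y :=
        fun n => Submodule.Quotient.mk_surjective _ _
      choose c hc using hsurj
      have hcc : ∀ n, c (n + 1) - c n ∈ (J n • ⊤ : Submodule A M) := by
        intro n
        rw [← Submodule.Quotient.eq, hc n, ← hW n y, ← hc (n + 1)]
        rfl
      obtain ⟨m, hm⟩ := exists_limit J hJanti hb c hcc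
      refine ⟨m, fun n => ?_⟩
      rw [← hc n, Submodule.Quotient.eq]
      exact hm n
    choose wfun hwfun using hex
    have uniq : ∀ m m' : M, (∀ n, (Submodule.Quotient.mk m : M ⧸ (J n • ⊤ : Submodule A M)) =
        Submodule.Quotient.mk m') → m = m' := by
      intro m m' h
      have h0 := eq_zero_of_forall_mem J hb (m - m')
        (fun n => (Submodule.Quotient.eq _).1 (h n))
      exact sub_eq_zero.1 h0
    refine ⟨{ toFun := wfun
              map_add' := fun y y' => uniq _ _ (fun n => ?_)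
              map_smul' := fun a y => uniq _ _ (fun n => ?_) }, fun x => uniq _ _ (fun n => ?_)⟩
    · rw [hwfun, Submodule.Quotient.mk_add, hwfun, hwfun, map_add]
    · rw [hwfun, RingHom.id_apply, Submodule.Quotient.mk_smul, hwfun, map_smul]
    · change Submodule.Quotient.mk (wfun (u x)) = _
      rw [hwfun, (W n).2]

end Groth.Agent.S5839
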