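import Groth.Statements.S5844
import Groth.Agent.Lib.Helper21.ZClosPure

set_option autoImplicit false
universe u
open ZClos

namespace Groth.Agent.S5844

open CategoryTheory CategoryTheory.Limits AlgebraicGeometry in
/-- a) ⇔ b'), injective case: for a locally Noetherian scheme X, a subset Z of X stable under
specialization and an arbitrary O_X-module F, F is Z-pure if and only if for every closed subset T
of X contained in Z and every quasi-compact (that is, Noetherian) open subset V of X, the
restriction map Γ(V, F) → Γ(V ∩ (X ∖ T), F) is injective. -/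
theorem result (X : Scheme.{u}) [IsLocallyNoetherian X] (Z : Set X)
    (hZ : StableUnderSpecialization Z) (F : X.Modules) :
    ZClos.IsZPure Z F ↔ ∀ (T : ZClos.Cl Z) (V : X.Opens), IsCompact (V : Set X) →
      Function.Injective (F.presheaf.map (homOfLE (inf_le_left : V ⊓ T.U ≤ V)).op) := by
  rw [Groth.Agent.Lib.Helper21.ZClosPure.isZPure_iff_injective]
  constructor
  · intro h T V hV
    exact (Groth.Agent.Lib.Helper21.ZClosPure.injective_res_of_eq F
      (Groth.Agent.Lib.Helper21.ZClosPure.cap_eq' T.U V) _ inf_le_left).mp (h T V hV)
  · intro h T V hV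
    exact (Groth.Agent.Lib.Helper21.ZClosPure.injective_res_of_eq F
      (Groth.Agent.Lib.Helper21.ZClosPure.cap_eq' T.U V) _ inf_le_left).mpr (h T V hV)

end Groth.Agent.S5844
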