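import Groth.Statements.S5858
import Groth.Agent.Lib.Helper21.ZClosAssDim

set_option autoImplicit false
universe u
open ZClos

namespace Groth.Agent.S5858

open CategoryTheory CategoryTheory.Limits AlgebraicGeometry in
/-- For a locally Noetherian scheme X, a subset Z of X stable under specialization and a coherent
O_X-module F whose Z-closure H⁰_{X/Z}(F) is coherent: for every associated point x of F outside Z
and every specialization y of x lying in Z, the closure of y has codimension at least 2 in the
closure of x, that is, the quotient of O_{X,y} by the prime ideal of the generization x has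
dimension at least 2. -/
theorem result (X : Scheme.{u}) [IsLocallyNoetherian X] (Z : Set X)
    (hZ : StableUnderSpecialization Z) (F : X.Modules) (hF : Coh.IsCoh F)
    (hH : Coh.IsCoh ((ZClos.H0 Z).obj F))
    (x : X) (hx : x ∈ AssSch.Ass F) (hxZ : x ∉ Z) (y : X) (hy : y ∈ Z) (h : x ⤳ y) :
    (2 : WithBot ℕ∞) ≤ ringKrullDim (X.presheaf.stalk y ⧸
      (IsLocalRing.maximalIdeal (X.presheaf.stalk x)).comap (X.presheaf.stalkSpecializes h).hom) := by
  haveI : ((ZClos.H0 Z).obj F).IsQuasicoherent := hH.1
  haveI : Module.Finite (X.presheaf.stalk y) (((ZClos.H0 Z).obj F).presheaf.stalk y) :=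
    Groth.Agent.Lib.Helper64.FinTypeStalk.finite_stalk _ hH.2 y
  have h1 := Groth.Agent.Lib.Helper21.ZClosHartogs.two_le_depth_of_isZClosed hZ _ hH
    (Groth.Agent.Lib.Helper21.ZClosIdem.isZClosed_H0 Z F) y hy
  have h2 := Groth.Agent.Lib.Helper21.ZClosAssDim.comap_mem_associatedPrimes
    ((ZClos.H0 Z).obj F) h (Groth.Agent.Lib.Helper21.ZClosAssDim.isAssPoint_H0 Z F x hxZ hx)
  have h3 := Groth.Agent.Lib.Helper67.depth_le_ringKrullDim_quotient_of_mem_associatedPrimes
    (R := X.presheaf.stalk y) (((ZClos.H0 Z).obj F).presheaf.stalk y) h2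
  refine le_trans ?_ h3
  have h4 : ((2 : ℕ∞) : WithBot ℕ∞) ≤
      ((LocCoh.depth (X.presheaf.stalk y) (((ZClos.H0 Z).obj F).presheaf.stalk y) : ℕ∞) :
        WithBot ℕ∞) := WithBot.coe_le_coe.2 h1
  exact h4

end Groth.Agent.S5858
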