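import Groth.Statements.S5863
import Mathlib
import Groth.Agent.S5862

set_option autoImplicit false
universe u
open RadPt

namespace Groth.Agent.S5863

section helpers
open CategoryTheory CategoryTheory.Limits AlgebraicGeometry


open Groth.Agent.S5862

lemma pi_of_surjective {F E : Type*} [Field F] [Field E] (f : F →+* E)
    (hf : Function.Surjective f) : f.IsPurelyInseparable := by
  algebraize [f]
  rw [RingHom.IsPurelyInseparable, isPurelyInseparable_iff]
  intro x
  obtain ⟨a, rfl⟩ := hf x
  exact ⟨isIntegral_algebraMap, fun _ => ⟨a, rfl⟩⟩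

lemma resMap_surjective {X Y : Scheme.{u}} (f : X ⟶ Y) [SurjectiveOnStalks f] (x : X) :
    Function.Surjective (f.residueFieldMap x).hom := by
  intro b
  obtain ⟨b', rfl⟩ := IsLocalRing.residue_surjective b
  obtain ⟨a', rfl⟩ := f.stalkMap_surjective x b'
  exact ⟨IsLocalRing.residue _ a', rfl⟩

/-- The key identity of residue field maps for the fibre. -/
lemma resMap_fiber {X Y : Scheme.{u}} (f : X ⟶ Y) (y : Y) (z : f.fiber y) :
    ∃ (e : Y.residueField (f (f.fiberι y z)) →+* (Spec (Y.residueField y)).residueField (f.fiberToSpecResidueField y z)),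
      Function.Surjective e ∧
      ((f.fiberι y).residueFieldMap z).hom.comp (f.residueFieldMap (f.fiberι y z)).hom =
        ((f.fiberToSpecResidueField y).residueFieldMap z).hom.comp e := by
  have h1 := Scheme.Hom.residueFieldMap_congr (f.fiber_fac y) z
  rw [Scheme.residueFieldMap_comp, Scheme.residueFieldMap_comp] at h1
  have hpt : f (f.fiberι y z) = (Y.fromSpecResidueField y) (f.fiberToSpecResidueField y z) := by
    rw [← Scheme.Hom.comp_apply, ← Scheme.Hom.comp_apply, f.fiber_fac]
  refine ⟨(((Y.fromSpecResidueField y).residueFieldMap (f.fiberToSpecResidueField y z)).hom).comp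
    (Y.residueFieldCongr hpt).hom.hom, ?_, ?_⟩
  · exact (resMap_surjective _ _).comp
      ((ConcreteCategory.bijective_of_isIso (Y.residueFieldCongr _).hom).2)
  · have := congr(($h1).hom)
    simpa [RingHom.comp_assoc] using this

lemma isRadicialAt_iff {X Y : Scheme.{u}} (f : X ⟶ Y) (y : Y) :
    RadPt.IsRadicialAt f y ↔ UniversallyInjective (f.fiberToSpecResidueField y) := by
  have htfae := (tfae_universallyInjective (f.fiberToSpecResidueField y)).out 0 2
  rw [htfae]
  have hmem : ∀ z : f.fiber y, f (f.fiberι y z) = y := fun z => by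
    have : f.fiberι y z ∈ Set.range (f.fiberι y) := ⟨z, rfl⟩
    rw [f.range_fiberι] at this
    exact this
  constructor
  · rintro ⟨h1, h2⟩
    refine ⟨fun z z' _ => (f.fiberι y).isEmbedding.injective (h1 _ _ (hmem z) (hmem z')), fun z => ?_⟩
    obtain ⟨e, he, heq⟩ := resMap_fiber f y z
    have hpi : (((f.fiberι y).residueFieldMap z).hom.comp
        (f.residueFieldMap (f.fiberι y z)).hom).IsPurelyInseparable :=
      RingHom.IsPurelyInseparable.comp (h2 _ (hmem z)) (pi_of_surjective _ (resMap_surjective _ _))
    rw [heq] at hpi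
    exact pi_of_comp_top hpi
  · rintro ⟨h1, h2⟩
    refine ⟨fun x x' hx hx' => ?_, fun x hx => ?_⟩
    · have e1 := f.fiberι_fiberHomeo_symm y ⟨x, hx⟩
      have e2 := f.fiberι_fiberHomeo_symm y ⟨x', hx'⟩
      have : (f.fiberHomeo y).symm ⟨x, hx⟩ = (f.fiberHomeo y).symm ⟨x', hx'⟩ :=
        h1 (by rw [f.fiberToSpecResidueField_apply, f.fiberToSpecResidueField_apply])
      rw [this] at e1
      exact e1.symm.trans e2
    · have e1 : f.fiberι y ((f.fiberHomeo y).symm ⟨x, hx⟩) = x := f.fiberι_fiberHomeo_symm y ⟨x, hx⟩
      generalize (f.fiberHomeo y).symm ⟨x, hx⟩ = z at e1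
      subst e1
      obtain ⟨e, he, heq⟩ := resMap_fiber f y z
      have hpi : (((f.fiberToSpecResidueField y).residueFieldMap z).hom.comp e).IsPurelyInseparable :=
        RingHom.IsPurelyInseparable.comp (pi_of_surjective _ he) (h2 z)
      rw [← heq] at hpi
      exact pi_of_comp_bot hpi

end helpers

open CategoryTheory AlgebraicGeometry in
/-- Let f : X → Y and h : Y' → Y be morphisms of schemes, f' : X ×_Y Y' → Y' the base change of f (any
cartesian square), y' a point of Y' and y = h(y'). Then f is radicial at y if and only if f' is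
radicial at y'. -/
theorem result {X Y X' Y' : Scheme.{u}} {f : X ⟶ Y} {h : Y' ⟶ Y} {f' : X' ⟶ Y'} {h' : X' ⟶ X}
    (sq : IsPullback h' f' f h) (y' : Y') :
    RadPt.IsRadicialAt f (h y') ↔ RadPt.IsRadicialAt f' y' := by
  rw [isRadicialAt_iff, isRadicialAt_iff]
  have hp := isPullback_fiberToSpecResidueField_of_isPullback sq y'
  constructor
  · intro H
    exact MorphismProperty.of_isPullback (P := @UniversallyInjective) hp H
  · intro H
    refine MorphismProperty.of_isPullback_of_descendsAlong (P := @UniversallyInjective)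
      (Q := @Surjective ⊓ @Flat ⊓ @QuasiCompact) hp.flip ⟨⟨?_, ?_⟩, ?_⟩ H
    · constructor
      intro p
      refine ⟨IsLocalRing.closedPoint _, Subsingleton.elim (α := PrimeSpectrum _) _ _⟩
    · rw [HasRingHomProperty.Spec_iff (P := @Flat)]
      algebraize [(h.residueFieldMap y').hom]
      rw [RingHom.Flat]
      infer_instance
    · infer_instance

end Groth.Agent.S5863
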