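import Groth.Statements.S5866
import Groth.Agent.S5865

set_option autoImplicit false
universe u
open RadPt

namespace Groth.Agent.S5866

open CategoryTheory AlgebraicGeometry in
/-- Let f : X → Y be a morphism of schemes which is integral and whose induced morphism of reduced
schemes is birational. Then Y is geometrically unibranch (at every point) if and only if X is
geometrically unibranch and f is radicial (universally injective). -/
theorem result {X Y : Scheme.{u}} (f : X ⟶ Y) [IsIntegralHom f] (hf : RadPt.IsBirational f) :
    (∀ y : Y, CAlg2.IsGeomUnibranch (Y.presheaf.stalk y)) ↔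
      ((∀ x : X, CAlg2.IsGeomUnibranch (X.presheaf.stalk x)) ∧ UniversallyInjective f) := by
  have key := fun y => Groth.Agent.S5865.result f hf y
  have htfae := (tfae_universallyInjective f).out 0 2
  rw [htfae]
  constructor
  · intro h
    refine ⟨fun x => ((key (f x)).mp (h (f x))).2 x rfl, ?_, ?_⟩
    · intro x x' hxx'
      exact ((key (f x)).mp (h (f x))).1.1 x x' rfl hxx'.symm
    · intro x
      exact ((key (f x)).mp (h (f x))).1.2 x rfl
  · rintro ⟨hx, hinj, hpi⟩ y
    refine (key y).mpr ⟨⟨?_, ?_⟩, fun x _ => hx x⟩
    · intro x x' h1 h2
      exact hinj (h1.trans h2.symm)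
    · intro x h1
      exact hpi x

end Groth.Agent.S5866
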