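import Groth.Statements.S5868
import Groth.Agent.Lib.Helper21.ZHullCodim
import Groth.Agent.S2666

set_option autoImplicit false
universe u
open ZClos

namespace Groth.Agent.S5868

open CategoryTheory CategoryTheory.Limits AlgebraicGeometry in
/-- d) ⇒ a), second sufficient condition: let X be a locally Noetherian scheme, Z a subset of X stable
under specialization and F a coherent O_X-module none of whose associated points lies in Z. Assume
that for every affine open V of X with ring A and every associated point x of F in V, with prime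
ideal p ⊂ A, the domain A/p is universally catenary and N-1 (its integral closure is a finite
module); that is, the reduced closed subschemes on the closures of the associated points of F are
universally catenary with finite normalization. If, for a directed family of closed subsets T of X
contained in Z and covering Z, each direct image i_*(F|X∖T) is coherent, then H⁰_{X/Z}(F) is
coherent. (The published statement also allows, in place of the condition on the closures of the
associated points, that X be locally immersible in a regular scheme; this row omits that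
alternative.) -/
theorem result (X : Scheme.{u}) [IsLocallyNoetherian X] (Z : Set X)
    (hZ : StableUnderSpecialization Z) (F : X.Modules) (hF : Coh.IsCoh F)
    (hass : ∀ x ∈ AssSch.Ass F, x ∉ Z)
    (hX : ∀ (V : X.Opens) (hV : IsAffineOpen V) (x : X) (hxV : x ∈ V), x ∈ AssSch.Ass F →
        CAlg.IsUniversallyCatenary (Γ(X, V) ⧸ (hV.primeIdealOf ⟨x, hxV⟩).asIdeal) ∧
          CAlg.IsN1 (Γ(X, V) ⧸ (hV.primeIdealOf ⟨x, hxV⟩).asIdeal))
    (𝒯 : Set (ZClos.Cl Z)) (hdir : DirectedOn (· ≤ ·) 𝒯) (hcov : ∀ z ∈ Z, ∃ T ∈ 𝒯, z ∈ (T.1 : Set X))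
    (hd : ∀ T ∈ 𝒯, Coh.IsCoh ((ZClos.resPush T.U).obj F)) :
    Coh.IsCoh ((ZClos.H0 Z).obj F) := by
  haveI := hF.1
  haveI : ((ZClos.H0 Z).obj F).IsQuasicoherent :=
    Groth.Agent.Lib.Helper21.QCohColim.isQuasicoherent_H0 Z F
  refine ⟨inferInstance, ?_⟩
  apply Groth.Agent.Lib.Lead.CohAff.isFiniteType_of_finite_sections
  intro x
  obtain ⟨_, ⟨V, hV : IsAffineOpen V, rfl⟩, hxV, -⟩ :=
    (X.isBasis_affineOpens).exists_subset_of_mem_open (Set.mem_univ x) isOpen_univ
  refine ⟨V, hV, hxV, ?_⟩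
  haveI : IsNoetherianRing Γ(X, V) := IsLocallyNoetherian.component_noetherian ⟨V, hV⟩
  apply Groth.Agent.Lib.Helper21.ZHullLocal.finite_sections_H0 hV F Z hZ hF
  intro p hpAss hpZ
  obtain ⟨hpp, hxAss⟩ :=
    Groth.Agent.Lib.Helper21.ZHullLocal.mem_ass_of_mem_associatedPrimes hV F p hpAss
  haveI := hpp
  have hη : (⟨p, hpp⟩ : PrimeSpectrum Γ(X, V)) ∉ hV.fromSpec.base ⁻¹' Z :=
    fun h => hpZ ⟨hpp, h⟩
  apply Groth.Agent.Lib.Helper21.ZHullMain.isCoh_H0_quot (A := Γ(X, V)) p
    (hV.fromSpec.base ⁻¹' Z) hη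
  · intro y hyZ hpy
    obtain ⟨T, hT𝒯, hyT⟩ := hcov (hV.fromSpec y) hyZ
    refine Groth.Agent.Lib.Helper21.ZHullCodim.two_le_height hV F T.U (hd T hT𝒯) p hpAss ?_ y ?_
    · intro hpT
      exact hη (T.2 hpT)
    · intro hyU
      exact hyU hyT
  · have hxV' := Groth.Agent.Lib.Lead.QCohAff.fromSpec_mem hV (⟨p, hpp⟩ : PrimeSpectrum Γ(X, V))
    have hprime := Groth.Agent.Lib.Lead.QCohAff.primeIdealOf_fromSpec hV
      (⟨p, hpp⟩ : PrimeSpectrum Γ(X, V)) hxV'
    have key : ∀ q : PrimeSpectrum Γ(X, V), q = ⟨p, hpp⟩ →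
        CAlg.IsUniversallyCatenary (Γ(X, V) ⧸ q.asIdeal) ∧ CAlg.IsN1 (Γ(X, V) ⧸ q.asIdeal) →
        EGA4.HeightOneHullFinite (Γ(X, V) ⧸ p) := by
      rintro q rfl ⟨h1, h2⟩
      exact Groth.Agent.S2666.result _ h1 h2
    exact key _ hprime (hX V hV _ hxV' hxAss)

end Groth.Agent.S5868
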