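import Groth.Statements.S5888
import Groth.Agent.Lib.Helper22.GenStrDim

set_option autoImplicit false
universe u
open CategoryTheory AlgebraicGeometry
open ConsProp

namespace Groth.Agent.S5888

/-- For a given set Φ of values (natural numbers, with −∞ = ⊥ the dimension of the empty scheme), the
property of an algebraic k-scheme X that the dimension of X belongs to Φ is a constructible property
of algebraic schemes. The dimension is the Krull dimension of the underlying topological space,
valued in WithBot ℕ∞. -/
theorem result (Φ : Set (WithBot ℕ∞)) :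
    ConsProp.IsCons (fun Y T g => topologicalKrullDim ↥Y ∈ Φ) := by
  open Groth.Agent.Lib.Helper22.GenStr in
  refine ⟨?_, ?_⟩
  · intro Y Y' T T' g g' e h _ _ _ _ _ _ hsq
    change topologicalKrullDim ↥Y ∈ Φ ↔ topologicalKrullDim ↥Y' ∈ Φ
    rw [topologicalKrullDim_eq_of_isPullback_subsingleton g g' e h hsq]
  · intro X S u _ _ _ _
    have key : ∃ (V : S.Opens) (d : WithBot ℕ∞), genericPoint S ∈ V ∧
        ∀ y ∈ V, topologicalKrullDim ↥(u.fiber y) = d := by
      obtain ⟨N, hN⟩ := exists_nat_topologicalKrullDim_fiber_le u (genericPoint S)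
      generalize hd : topologicalKrullDim ↥(u.fiber (genericPoint S)) = d at hN
      induction d using WithBot.recBotCoe with
      | bot =>
        obtain ⟨V, hV, hV'⟩ := exists_open_forall_topologicalKrullDim_fiber_eq_bot u hd
        exact ⟨V, ⊥, hV, hV'⟩
      | coe x =>
        induction x using ENat.recTopCoe with
        | top =>
          exfalso
          have h1 : ((⊤ : ℕ∞) : WithBot ℕ∞) ≤ ((N : ℕ∞) : WithBot ℕ∞) := hN
          rw [WithBot.coe_le_coe] at h1
          exact absurd h1 (by simp)
        | coe n =>
          obtain ⟨V, hV, hV'⟩ := exists_open_forall_topologicalKrullDim_fiber_eq u n hd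
          exact ⟨V, (n : WithBot ℕ∞), hV, hV'⟩
    obtain ⟨V, d, hηV, hV⟩ := key
    by_cases hd : d ∈ Φ
    · left
      refine ⟨genericPoint S, mem_interior.2 ⟨V, fun y hy => ?_, V.isOpen, hηV⟩⟩
      change topologicalKrullDim ↥(u.fiber y) ∈ Φ
      rw [hV y hy]; exact hd
    · right
      refine ⟨genericPoint S, mem_interior.2 ⟨V, fun y hy => ?_, V.isOpen, hηV⟩⟩
      change ¬ (topologicalKrullDim ↥(u.fiber y) ∈ Φ)
      rw [hV y hy]; exact hd

end Groth.Agent.S5888
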