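import Groth.Statements.S5886
import Groth.Agent.Lib.Helper78.ConsOne
import Groth.Agent.S5888

set_option autoImplicit false
set_option linter.style.haveILetI false
universe u
open CategoryTheory AlgebraicGeometry
open ConsProp

namespace Groth.Agent.S5886

open Groth.Agent.Lib.Helper78.ConsOne Groth.Agent.Lib.Helper78.ConsPair CategoryTheory.Limits

theorem isLocallyArtinian_of_subsingleton (T : Scheme.{u}) [IsIntegral T] [Subsingleton T] :
    IsLocallyArtinian T := by
  haveI : IsNoetherian T := isNoetherian_of_subsingleton T
  exact IsLocallyArtinian.of_topologicalKrullDim_le_zero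
    (topologicalKrullDim_zero_of_discreteTopology T)

theorem isFinite_iff_dim_le_zero {Y T : Scheme.{u}} [IsIntegral T] [Subsingleton T] (g : Y ⟶ T)
    [LocallyOfFiniteType g] [QuasiCompact g] :
    IsFinite g ↔ topologicalKrullDim ↥Y ∈ {d : WithBot ℕ∞ | d ≤ 0} := by
  haveI : IsNoetherian T := isNoetherian_of_subsingleton T
  haveI : IsLocallyArtinian T := isLocallyArtinian_of_subsingleton T
  haveI : IsNoetherian Y := isNoetherian_of_finiteType g
  constructor
  · intro hg
    haveI : IsLocallyArtinian Y := IsLocallyArtinian.of_locallyQuasiFinite g
    exact topologicalKrullDim_zero_of_discreteTopology Y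
  · intro hd
    haveI : IsLocallyArtinian Y := IsLocallyArtinian.of_topologicalKrullDim_le_zero hd
    haveI : LocallyQuasiFinite g := by
      rw [locallyQuasiFinite_iff_isDiscrete_preimage_singleton]
      intro x
      exact DiscreteTopology.isDiscrete
    exact IsFinite.of_locallyQuasiFinite g

/-- The property of an algebraic k-scheme X of being finite over k is a constructible property of
algebraic schemes (invariant under extension of the base field; over an integral Noetherian base,
for a family of finite type, the set of points with finite fibre or its complement contains a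
nonempty open subset). -/
theorem result :
    ConsProp.IsCons (fun Y T g => AlgebraicGeometry.IsFinite g) := by
  have H := Groth.Agent.S5888.result {d : WithBot ℕ∞ | d ≤ 0}
  refine ⟨?_, ?_⟩
  · intro Y Y' T T' g g' e h _ _ _ _ _ _ sq
    haveI : LocallyOfFiniteType g' :=
      MorphismProperty.of_isPullback (P := @LocallyOfFiniteType) sq inferInstance
    haveI : QuasiCompact g' :=
      MorphismProperty.of_isPullback (P := @QuasiCompact) sq inferInstance
    change IsFinite g ↔ IsFinite g'
    rw [isFinite_iff_dim_le_zero g, isFinite_iff_dim_le_zero g']
    exact H.1 g g' e h sq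
  · intro X S u _ _ _ _
    have e : ConsProp.locus (fun Y T g => AlgebraicGeometry.IsFinite g) u =
        ConsProp.locus (fun Y T g => topologicalKrullDim ↥Y ∈ {d : WithBot ℕ∞ | d ≤ 0}) u := by
      ext s
      exact isFinite_iff_dim_le_zero (u.fiberToSpecResidueField s)
    rw [e]
    exact H.2 u

end Groth.Agent.S5886
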