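import Groth.Statements.S5889
import Groth.Agent.Lib.Helper78.ConsOne
import Groth.Agent.S5886

set_option autoImplicit false
set_option linter.style.haveILetI false
universe u
open CategoryTheory AlgebraicGeometry
open ConsProp

namespace Groth.Agent.S5889

open Groth.Agent.Lib.Helper78.ConsOne Groth.Agent.Lib.Helper78.ConsPair
  Groth.Agent.Lib.Helper78.ConsMor CategoryTheory.Limits

theorem isConsMor_congr {P P' : ∀ ⦃X Y T : Scheme.{u}⦄, (X ⟶ Y) → (Y ⟶ T) → Prop}
    (h : ∀ ⦃X Y T : Scheme.{u}⦄ (f : X ⟶ Y) (g : Y ⟶ T) [IsIntegral T] [Subsingleton T]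
      [LocallyOfFiniteType g] [QuasiCompact g] [LocallyOfFiniteType (f ≫ g)]
      [QuasiCompact (f ≫ g)], P f g ↔ P' f g)
    (hP : ConsProp.IsConsMor P) : ConsProp.IsConsMor P' := by
  refine ⟨?_, ?_⟩
  · intro X X' Y Y' T T' f g f' g' eX eY hh _ _ _ _ _ _ _ _ hY hX
    haveI : LocallyOfFiniteType g' :=
      MorphismProperty.of_isPullback (P := @LocallyOfFiniteType) hY inferInstance
    haveI : QuasiCompact g' :=
      MorphismProperty.of_isPullback (P := @QuasiCompact) hY inferInstance
    haveI : LocallyOfFiniteType (f' ≫ g') :=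
      MorphismProperty.of_isPullback (P := @LocallyOfFiniteType) (hX.paste_vert hY) inferInstance
    haveI : QuasiCompact (f' ≫ g') :=
      MorphismProperty.of_isPullback (P := @QuasiCompact) (hX.paste_vert hY) inferInstance
    rw [← h f g, ← h f' g']
    exact hP.1 f g f' g' eX eY hh hY hX
  · intro X Y S f g _ _ _ _ _ _
    have e : ConsProp.locusMor P' f g = ConsProp.locusMor P f g := by
      ext s
      haveI : LocallyOfFiniteType (MoreMor.fiberMap f g s ≫ g.fiberToSpecResidueField s) := by
        rw [fiberMap_toSpec]; infer_instance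
      haveI : QuasiCompact (MoreMor.fiberMap f g s ≫ g.fiberToSpecResidueField s) := by
        rw [fiberMap_toSpec]; infer_instance
      exact (h (MoreMor.fiberMap f g s) (g.fiberToSpecResidueField s)).symm
    rw [e]
    exact hP.2 f g

/-- Being quasi-finite (locally of finite type, quasi-compact, with discrete fibres) is a constructible
property of morphisms of algebraic schemes. -/
theorem result :
    ConsProp.IsConsMor
      (fun X Y T f g => AlgebraicGeometry.LocallyOfFiniteType f ∧ AlgebraicGeometry.QuasiCompact f ∧
        AlgebraicGeometry.LocallyQuasiFinite f) := by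
  refine isConsMor_congr ?_ (isConsMor_PAll Groth.Agent.S5886.result)
  intro X Y T f g _ _ _ _ _ _
  haveI : IsNoetherian T := isNoetherian_of_subsingleton T
  haveI : IsNoetherian X := isNoetherian_of_finiteType (f ≫ g)
  haveI : LocallyOfFiniteType f := locallyOfFiniteType_of_comp f g
  haveI : QuasiCompact f := inferInstance
  constructor
  · intro H
    exact ⟨inferInstance, inferInstance, locallyQuasiFinite_iff_isFinite_fiber.2 H⟩
  · rintro ⟨_, _, h3⟩
    exact locallyQuasiFinite_iff_isFinite_fiber.1 h3

end Groth.Agent.S5889
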