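import Groth.Statements.S5891
import Groth.Agent.Lib.Helper78.ConsMor
import Groth.Agent.Lib.Helper50.LimStage
import Groth.Agent.S4787
import Groth.Agent.S15543

set_option autoImplicit false
universe u
open CategoryTheory AlgebraicGeometry
open ConsProp

namespace Groth.Agent.S5891

open CategoryTheory.Limits Groth.Agent.Lib.Helper78.ConsMor Groth.Agent.Lib.Helper50

theorem isProConstructible_univ {X : Type*} [TopologicalSpace X] :
    ProCons.IsProConstructible (Set.univ : Set X) := by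
  intro x
  refine ⟨Set.univ, isOpen_univ, Set.mem_univ x, ∅, ?_, ?_⟩
  · intro T hT
    exact absurd hT (Set.notMem_empty T)
  · simp

/-- Let S = lim S_i be a cofiltered limit of schemes with affine transition maps, i₀ an index with
S_{i₀} quasi-compact, g₀ : Y₀ ⟶ S_{i₀} and f₀ : X₀ ⟶ Y₀ morphisms with g₀ and f₀ ≫ g₀ of finite
presentation (locally of finite presentation, quasi-compact and quasi-separated), and f : X ⟶ Y over
g : Y ⟶ S the base change of f₀ along S ⟶ S_{i₀} (pullback squares). Let P(f, X, Y, k) be an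
ind-constructible property of morphisms of algebraic schemes. Then P holds for the morphism of
fibres f_s : X_s ⟶ Y_s over κ(s) for every point s of S if and only if there is an index j over i₀
such that, for the base change f_j : X_j ⟶ Y_j of f₀ along S_j ⟶ S_{i₀}, P holds for (f_j)_t for
every point t of S_j. -/
theorem result
    {P : ∀ ⦃X Y T : Scheme.{u}⦄, (X ⟶ Y) → (Y ⟶ T) → Prop} (hP : ConsProp.IsIndConsMor P)
    {I : Type u} [SmallCategory I] [IsCofiltered I]
    (D : I ⥤ Scheme.{u}) (c : Limits.Cone D) (hc : Limits.IsLimit c)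
    [∀ (i j : I) (a : i ⟶ j), IsAffineHom (D.map a)] (i₀ : I) [CompactSpace ↥(D.obj i₀)]
    {X₀ Y₀ : Scheme.{u}} (f₀ : X₀ ⟶ Y₀) (g₀ : Y₀ ⟶ D.obj i₀)
    [LocallyOfFinitePresentation g₀] [QuasiCompact g₀] [QuasiSeparated g₀]
    [LocallyOfFinitePresentation (f₀ ≫ g₀)] [QuasiCompact (f₀ ≫ g₀)] [QuasiSeparated (f₀ ≫ g₀)]
    {X Y : Scheme.{u}} (f : X ⟶ Y) (g : Y ⟶ c.pt) (qY : Y ⟶ Y₀) (qX : X ⟶ X₀)
    (hY : IsPullback qY g g₀ (c.π.app i₀)) (hX : IsPullback qX f f₀ qY) :
    (∀ s : ↥c.pt, s ∈ ConsProp.locusMor P f g) ↔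
      ∃ (j : I) (φ : j ⟶ i₀) (Xj Yj : Scheme.{u}) (fj : Xj ⟶ Yj) (gj : Yj ⟶ D.obj j)
        (pY : Yj ⟶ Y₀) (pX : Xj ⟶ X₀), IsPullback pY gj g₀ (D.map φ) ∧ IsPullback pX fj f₀ pY ∧
          ∀ t : ↥(D.obj j), t ∈ ConsProp.locusMor P fj gj := by
  have hfs := hP.1
  have e := locusMor_of_isPullback (P := P) hfs hY hX
  constructor
  · intro h
    have : CompactSpace ↥((StageSetup.D₀ D i₀).obj (Over.mk (𝟙 i₀))) :=
      inferInstanceAs (CompactSpace ↥(D.obj i₀))
    have hind : ProCons.IsIndConstructible (locusMor P f₀ g₀) :=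
      isIndConstructible_locusMor hP f₀ g₀
    have key := (Groth.Agent.S4787.result (StageSetup.D₀ D i₀) (StageSetup.c₀ D c i₀)
      (StageSetup.hc₀ D c hc i₀) (Over.mk (𝟙 i₀)) (fun _ => Set.univ)
      (fun j => (D.map j.hom).base ⁻¹' locusMor P f₀ g₀)
      (fun _ => isProConstructible_univ)
      (fun j => Groth.Agent.S15543.result (D.map j.hom) _ hind)
      (fun _ _ _ => Set.subset_univ _)
      (by
        intro j k φ x hx
        simp only [Set.mem_preimage] at hx ⊢
        have hw : D.map φ.left ≫ D.map k.hom = D.map j.hom := by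
          rw [← D.map_comp, Over.w]
        rw [← hw]
        exact hx)).1 (by
        intro s _
        have hs := h s
        rw [e] at hs
        refine Set.mem_iUnion.2 ⟨Over.mk (𝟙 i₀), ?_⟩
        change (D.map (𝟙 i₀)).base ((c.π.app i₀).base s) ∈ locusMor P f₀ g₀
        rw [D.map_id]
        exact hs)
    obtain ⟨j, _, hj⟩ := key
    refine ⟨j.left, j.hom, _, _, pullback.snd f₀ (pullback.fst g₀ (D.map j.hom)),
      pullback.snd g₀ (D.map j.hom), pullback.fst g₀ (D.map j.hom), pullback.fst f₀ _,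
      IsPullback.of_hasPullback _ _, IsPullback.of_hasPullback _ _, ?_⟩
    intro t
    rw [locusMor_baseChange hfs f₀ g₀ (D.map j.hom)]
    exact hj j (𝟙 j) (Set.mem_univ t)
  · rintro ⟨j, φ, Xj, Yj, fj, gj, pY, pX, hYj, hXj, h⟩ s
    rw [e]
    have e' := locusMor_of_isPullback (P := P) hfs hYj hXj
    have hs := h ((c.π.app j).base s)
    rw [e'] at hs
    have hw : c.π.app j ≫ D.map φ = c.π.app i₀ := c.w φ
    simp only [Set.mem_preimage] at hs ⊢
    rw [← hw]
    exact hs

end Groth.Agent.S5891
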