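import Groth.Statements.S5902
import Groth.Agent.Lib.Helper78.GeomPair
import Groth.Agent.S9190

set_option autoImplicit false
universe u
open CategoryTheory AlgebraicGeometry
open ConsPropPair

namespace Groth.Agent.S5902

open Groth.Agent.Lib.Helper78.GeomPair

/-- Case of the property of being separated: let P(X, Y, k) be the relation between a field k and two
algebraic k-schemes X, Y: there are an extension field k′ of k (a one-point integral scheme T′ over
T = Spec k) and a k′-morphism g : X_(k′) ⟶ Y_(k′) between the base changes (cartesian squares over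
T′ ⟶ T) which is separated. Then P is an ind-constructible property of pairs of algebraic schemes. -/
theorem result :
    ConsPropPair.IsIndConsPair
      (fun X Y T gX gY => ∃ (T' X' Y' : Scheme.{u}) (h : T' ⟶ T) (gX' : X' ⟶ T') (gY' : Y' ⟶ T')
        (eX : X' ⟶ X) (eY : Y' ⟶ Y), IsIntegral T' ∧ Subsingleton ↥T' ∧
          IsPullback eX gX' gX h ∧ IsPullback eY gY' gY h ∧
            ∃ g : X' ⟶ Y', g ≫ gY' = gX' ∧ AlgebraicGeometry.IsSeparated g) := by
  refine isIndConsPair (Q := @IsSeparated) ?_ ?_
  · intro X Y X' Y' f f' a b sq hf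
    exact MorphismProperty.of_isPullback (P := @IsSeparated) sq hf
  · intro I _ _ D c hc _ i₀ _ _ X₀ Y₀ f₀ g₀ _ _ _ _ _ _ X Y f g qY qX hY hX hf
    have : IsSeparated f := hf
    have : CompactSpace ↥Y₀ := QuasiCompact.compactSpace_of_compactSpace g₀
    have : QuasiSeparatedSpace ↥Y₀ := quasiSeparatedSpace_of_quasiSeparated g₀
    have : CompactSpace ↥X₀ := QuasiCompact.compactSpace_of_compactSpace (f₀ ≫ g₀)
    have : QuasiSeparatedSpace ↥X₀ := quasiSeparatedSpace_of_quasiSeparated (f₀ ≫ g₀)
    exact Groth.Agent.S9190.result D c hc i₀ f₀ g₀ f g qY qX hY hX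

end Groth.Agent.S5902
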