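import Groth.Statements.S5905
import Groth.Agent.Lib.Helper78.GeomPair
import Groth.Agent.S2592
import Groth.Agent.S2338
import Groth.Agent.S2339

set_option autoImplicit false
universe u
open CategoryTheory AlgebraicGeometry
open ConsPropPair

namespace Groth.Agent.S5905

open Groth.Agent.Lib.Helper78.GeomPair CategoryTheory.Limits

theorem isQuasiAffine_of_isIso {X Y : Scheme.{u}} (e : X ⟶ Y) [IsIso e] : Mor2.IsQuasiAffine e := by
  refine ⟨inferInstance, fun V hV => ?_⟩
  have h1 : IsAffineOpen (e ⁻¹ᵁ V) := hV.preimage e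
  have : IsAffine (e ⁻¹ᵁ V : Scheme.{u}) := h1
  infer_instance

/-- Case of the property of being quasi-affine: let P(X, Y, k) be the relation between a field k and two
algebraic k-schemes X, Y: there are an extension field k′ of k (a one-point integral scheme T′ over
T = Spec k) and a k′-morphism g : X_(k′) ⟶ Y_(k′) between the base changes (cartesian squares over
T′ ⟶ T) which is quasi-affine (quasi-compact, with quasi-affine preimages of affine opens). Then P
is an ind-constructible property of pairs of algebraic schemes. -/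
theorem result :
    ConsPropPair.IsIndConsPair
      (fun X Y T gX gY => ∃ (T' X' Y' : Scheme.{u}) (h : T' ⟶ T) (gX' : X' ⟶ T') (gY' : Y' ⟶ T')
        (eX : X' ⟶ X) (eY : Y' ⟶ Y), IsIntegral T' ∧ Subsingleton ↥T' ∧
          IsPullback eX gX' gX h ∧ IsPullback eY gY' gY h ∧
            ∃ g : X' ⟶ Y', g ≫ gY' = gX' ∧ MoreMor.IsQuasiAffineHom g) := by
  refine isIndConsPair (Q := fun _ _ f => MoreMor.IsQuasiAffineHom f) ?_ ?_
  · intro X Y X' Y' f f' a b sq (hf : MoreMor.IsQuasiAffineHom f)
    have h1 : Mor2.IsQuasiAffine (pullback.snd f b) := Groth.Agent.S2339.result f hf b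
    have h2 : Mor2.IsQuasiAffine (sq.isoPullback.hom ≫ pullback.snd f b) :=
      Groth.Agent.S2338.result _ _ (isQuasiAffine_of_isIso _) h1
    rw [IsPullback.isoPullback_hom_snd] at h2
    exact h2
  · intro I _ _ D c hc _ i₀ _ _ X₀ Y₀ f₀ g₀ _ _ _ _ _ _ X Y f g qY qX hY hX
      (hf : MoreMor.IsQuasiAffineHom f)
    exact Groth.Agent.S2592.result D c hc i₀ f₀ g₀ f g qY qX hY hX hf

end Groth.Agent.S5905
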