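import Groth.Statements.S5908
import Groth.Agent.Lib.Helper78.ConsPair
import Groth.Agent.Lib.Helper50.LimStage
import Groth.Agent.S4787
import Groth.Agent.S15543

set_option autoImplicit false
universe u
open CategoryTheory AlgebraicGeometry
open ConsPropPair

namespace Groth.Agent.S5908

open CategoryTheory.Limits Groth.Agent.Lib.Helper78.ConsPair Groth.Agent.Lib.Helper50

theorem isProConstructible_univ {X : Type*} [TopologicalSpace X] :
    ProCons.IsProConstructible (Set.univ : Set X) := by
  intro x
  refine ⟨Set.univ, isOpen_univ, Set.mem_univ x, ∅, ?_, ?_⟩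
  · intro T hT
    exact absurd hT (Set.notMem_empty T)
  · simp

/-- Form for relations between two schemes: let S = lim S_i be a cofiltered limit of schemes with affine
transition maps, i₀ an index with S_{i₀} quasi-compact, u₀ : X₀ ⟶ S_{i₀} and v₀ : Y₀ ⟶ S_{i₀}
morphisms of finite presentation (locally of finite presentation, quasi-compact and
quasi-separated), and u : X ⟶ S, v : Y ⟶ S their base changes along S ⟶ S_{i₀} (pullback squares).
Let P(X, Y, k) be an ind-constructible property of pairs of algebraic schemes. Then P holds for the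
pair of fibres (X_s, Y_s) over κ(s) for every point s of S if and only if there is an index j over
i₀ such that, for the base changes u_j : X_j ⟶ S_j and v_j : Y_j ⟶ S_j of u₀ and v₀, P holds for the
pair of fibres over every point of S_j. (The published statement is for relations on morphisms and
is extended there, with the same proof, to relations involving several schemes; this row is that
form. With the relation of being geometrically isomorphic it says: all pairs of fibres X_s, Y_s are
geometrically isomorphic if and only if this already holds at some stage.) -/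
theorem result
    {P : ∀ ⦃X Y T : Scheme.{u}⦄, (X ⟶ T) → (Y ⟶ T) → Prop} (hP : ConsPropPair.IsIndConsPair P)
    {I : Type u} [SmallCategory I] [IsCofiltered I]
    (D : I ⥤ Scheme.{u}) (c : Limits.Cone D) (hc : Limits.IsLimit c)
    [∀ (i j : I) (a : i ⟶ j), IsAffineHom (D.map a)] (i₀ : I) [CompactSpace ↥(D.obj i₀)]
    {X₀ Y₀ : Scheme.{u}} (u₀ : X₀ ⟶ D.obj i₀) (v₀ : Y₀ ⟶ D.obj i₀)
    [LocallyOfFinitePresentation u₀] [QuasiCompact u₀] [QuasiSeparated u₀]
    [LocallyOfFinitePresentation v₀] [QuasiCompact v₀] [QuasiSeparated v₀]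
    {X Y : Scheme.{u}} (u : X ⟶ c.pt) (v : Y ⟶ c.pt) (qX : X ⟶ X₀) (qY : Y ⟶ Y₀)
    (hX : IsPullback qX u u₀ (c.π.app i₀)) (hY : IsPullback qY v v₀ (c.π.app i₀)) :
    (∀ s : ↥c.pt, s ∈ ConsPropPair.locusPair P u v) ↔
      ∃ (j : I) (φ : j ⟶ i₀) (Xj Yj : Scheme.{u}) (uj : Xj ⟶ D.obj j) (vj : Yj ⟶ D.obj j)
        (pX : Xj ⟶ X₀) (pY : Yj ⟶ Y₀), IsPullback pX uj u₀ (D.map φ) ∧ IsPullback pY vj v₀ (D.map φ) ∧
          ∀ t : ↥(D.obj j), t ∈ ConsPropPair.locusPair P uj vj := by
  have hfs := hP.1
  have e := locusPair_of_isPullback (P := P) hfs hX hY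
  constructor
  · intro h
    have : CompactSpace ↥((StageSetup.D₀ D i₀).obj (Over.mk (𝟙 i₀))) :=
      inferInstanceAs (CompactSpace ↥(D.obj i₀))
    have hind : ProCons.IsIndConstructible (locusPair P u₀ v₀) :=
      isIndConstructible_locusPair hP u₀ v₀
    have key := (Groth.Agent.S4787.result (StageSetup.D₀ D i₀) (StageSetup.c₀ D c i₀)
      (StageSetup.hc₀ D c hc i₀) (Over.mk (𝟙 i₀)) (fun _ => Set.univ)
      (fun j => (D.map j.hom).base ⁻¹' locusPair P u₀ v₀)
      (fun _ => isProConstructible_univ)
      (fun j => Groth.Agent.S15543.result (D.map j.hom) _ hind)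
      (fun _ _ _ => Set.subset_univ _)
      (by
        intro j k φ x hx
        simp only [Set.mem_preimage] at hx ⊢
        have hw : D.map φ.left ≫ D.map k.hom = D.map j.hom := by
          rw [← D.map_comp, Over.w]
        rw [← hw]
        exact hx)).1 (by
        intro s _
        have hs := h s
        rw [e] at hs
        refine Set.mem_iUnion.2 ⟨Over.mk (𝟙 i₀), ?_⟩
        change (D.map (𝟙 i₀)).base ((c.π.app i₀).base s) ∈ locusPair P u₀ v₀
        rw [D.map_id]
        exact hs)
    obtain ⟨j, _, hj⟩ := key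
    refine ⟨j.left, j.hom, pullback u₀ (D.map j.hom), pullback v₀ (D.map j.hom),
      pullback.snd _ _, pullback.snd _ _, pullback.fst _ _, pullback.fst _ _,
      IsPullback.of_hasPullback _ _, IsPullback.of_hasPullback _ _, ?_⟩
    intro t
    rw [locusPair_of_isPullback hfs (IsPullback.of_hasPullback u₀ (D.map j.hom))
      (IsPullback.of_hasPullback v₀ (D.map j.hom))]
    exact hj j (𝟙 j) (Set.mem_univ t)
  · rintro ⟨j, φ, Xj, Yj, uj, vj, pX, pY, hXj, hYj, h⟩ s
    rw [e]
    have e' := locusPair_of_isPullback (P := P) hfs hXj hYj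
    have hs := h ((c.π.app j).base s)
    rw [e'] at hs
    have hw : c.π.app j ≫ D.map φ = c.π.app i₀ := c.w φ
    simp only [Set.mem_preimage] at hs ⊢
    rw [← hw]
    exact hs

end Groth.Agent.S5908
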