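import Mathlib
-- Template for statement S5911 (row 5910; see the milestone table for weights).
-- Copy to Groth/Agent/S5911.lean and replace the sorry. The statement below is byte-identical to the frozen
-- statement EGA43.GrothFrozen.S5911 (Groth/Statements/S5911.lean; the theorem EGA43.flat_iff_of_ideallySeparated_symbolicPowers);
-- the grader kernel-checks Groth.Agent.S5911.result against that frozen type. Keep the theorem IN THIS FILE
-- (a `result` declared elsewhere and merely imported here is not credited); helpers may live anywhere
-- under Groth/Agent/.
import Groth.Statements.S5911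
import Groth.Agent.Lib.Helper24.IdeallySep

set_option autoImplicit false
universe u
open TensorProduct
open EGA43

namespace Groth.Agent.S5911

/-- Let A be a Noetherian ring, J an ideal of A and M an A-module which is ideally separated for the
J-adic topology (for every ideal a of A the module a ⊗_A M is J-adically separated). Let (p_i) be a
finite family of prime ideals of A containing J, let J_n be the intersection of the symbolic powers
p_i^{(n)} (preimages in A of the n-th powers of the maximal ideals of the local rings A_{p_i}), and
assume every power J^n contains some J_m. Then M is flat if and only if (A/J) ⊗_A M is flat over A/J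
and M_{p_i} is flat over A_{p_i} for every i. -/
theorem result {A : Type u} [CommRing A] [IsNoetherianRing A]
    (J : Ideal A) (M : Type u) [AddCommGroup M] [Module A M]
    (hsep : ∀ a : Ideal A, IsHausdorff J (↥a ⊗[A] M))
    {r : ℕ} (p : Fin r → Ideal A) [∀ i, (p i).IsPrime] (hp : ∀ i, J ≤ p i)
    (htop : ∀ n : ℕ, ∃ m : ℕ,
      ⨅ i, Ideal.comap (algebraMap A (Localization.AtPrime (p i))) (IsLocalRing.maximalIdeal (Localization.AtPrime (p i)) ^ m) ≤ J ^ n) :
    Module.Flat A M ↔
      Module.Flat (A ⧸ J) ((A ⧸ J) ⊗[A] M) ∧
        ∀ i, Module.Flat (Localization.AtPrime (p i)) (LocalizedModule (p i).primeCompl M) := by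
  classical
  constructor
  · intro h
    exact ⟨inferInstance, fun i => inferInstance⟩
  · rintro ⟨h0, hq⟩
    refine Groth.Agent.Lib.Helper24.IdeallySep.flat_of_filtration J M hsep
      (fun i => (p i).primeCompl) ?_
      (fun m => ⨅ i, Ideal.comap (algebraMap A (Localization.AtPrime (p i)))
        (IsLocalRing.maximalIdeal (Localization.AtPrime (p i)) ^ m)) ?_ ?_ htop ?_
    · intro i
      have := hq i
      exact Module.Flat.trans A (Localization.AtPrime (p i)) (LocalizedModule (p i).primeCompl M)
    · simp [Ideal.one_eq_top]
    · intro m
      rw [Ideal.mul_le]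
      intro a ha b hb
      rw [Ideal.mem_iInf] at hb ⊢
      intro i
      rw [Ideal.mem_comap, map_mul, pow_succ']
      refine Ideal.mul_mem_mul ?_ (hb i)
      rw [IsLocalization.AtPrime.to_map_mem_maximal_iff (Localization.AtPrime (p i)) (p i)]
      exact hp i ha
    · intro m x hx hxs
      rw [Ideal.mem_iInf] at hx ⊢
      intro i
      obtain ⟨s, hs, hsx⟩ := hxs i
      rw [Ideal.mem_iInf] at hsx
      have h1 := hsx i
      rw [Ideal.mem_comap, map_mul] at h1
      have hu : IsUnit (algebraMap A (Localization.AtPrime (p i)) s) :=
        IsLocalization.map_units (Localization.AtPrime (p i)) (⟨s, hs⟩ : (p i).primeCompl)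
      rw [Ideal.mem_comap]
      exact (Ideal.unit_mul_mem_iff_mem _ hu).mp h1

end Groth.Agent.S5911
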