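import Mathlib
-- Template for statement S5912 (row 5911; see the milestone table for weights).
-- Copy to Groth/Agent/S5912.lean and replace the sorry. The statement below is byte-identical to the frozen
-- statement EGA43.GrothFrozen.S5912 (Groth/Statements/S5912.lean; the theorem EGA43.flat_iff_of_ideallySeparated_gr_flat);
-- the grader kernel-checks Groth.Agent.S5912.result against that frozen type. Keep the theorem IN THIS FILE
-- (a `result` declared elsewhere and merely imported here is not credited); helpers may live anywhere
-- under Groth/Agent/.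
import Groth.Statements.S5912
import Groth.Agent.Lib.Helper24.IdeallySep

set_option autoImplicit false
universe u
open TensorProduct
open EGA43

namespace Groth.Agent.S5912

/-- Let A be a Noetherian ring, J an ideal of A and M an A-module which is ideally separated for the
J-adic topology (for every ideal a of A the module a ⊗_A M is J-adically separated), and suppose
every quotient J^k/J^{k+1} is a flat (A/J)-module (the associated graded ring of A along J is flat
over A/J). Then M is flat if and only if (A/J) ⊗_A M is flat over A/J and M_p is flat over A_p for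
every associated prime p of the A-module A/J. -/
theorem result {A : Type u} [CommRing A] [IsNoetherianRing A]
    (J : Ideal A) (M : Type u) [AddCommGroup M] [Module A M]
    (hsep : ∀ a : Ideal A, IsHausdorff J (↥a ⊗[A] M))
    (hgr : ∀ k : ℕ, Module.Flat (A ⧸ J) ((A ⧸ J) ⊗[A] ↥(J ^ k))) :
    Module.Flat A M ↔
      Module.Flat (A ⧸ J) ((A ⧸ J) ⊗[A] M) ∧
        ∀ q : associatedPrimes A (A ⧸ J),
          haveI : q.1.IsPrime := IsAssociatedPrime.isPrime q.2
          Module.Flat (Localization.AtPrime q.1) (LocalizedModule q.1.primeCompl M) := by
  classical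
  constructor
  · intro h
    exact ⟨inferInstance, fun q => inferInstance⟩
  · rintro ⟨h0, hq⟩
    have hfin : Finite (associatedPrimes A (A ⧸ J)) :=
      Set.finite_coe_iff.mpr (associatedPrimes.finite A (A ⧸ J))
    let S : associatedPrimes A (A ⧸ J) → Submonoid A := fun q =>
      @Ideal.primeCompl A _ q.1 (IsAssociatedPrime.isPrime q.2)
    refine Groth.Agent.Lib.Helper24.IdeallySep.flat_of_filtration J M hsep S ?_
      (fun m => J ^ m) ?_ ?_ ?_ ?_
    · intro q
      have : q.1.IsPrime := IsAssociatedPrime.isPrime q.2
      have := hq q
      exact Module.Flat.trans A (Localization.AtPrime q.1) (LocalizedModule q.1.primeCompl M)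
    · simp
    · intro m
      rw [pow_succ']
    · intro n
      exact ⟨n, le_rfl⟩
    · intro m x hx hxs
      have := hgr m
      have hu : (1 : A ⧸ J) ⊗ₜ[A] (⟨x, hx⟩ : ↥(J ^ m)) = 0 := by
        refine Groth.Agent.Lib.Helper24.IdeallySep.eq_zero_of_forall_torsion J (↥(J ^ m)) S
          (G := A ⧸ J) ?_ ?_ _ ?_
        · intro a ha g
          obtain ⟨b, rfl⟩ := Ideal.Quotient.mk_surjective g
          rw [Algebra.smul_def, Ideal.Quotient.algebraMap_eq, ← map_mul,
            Ideal.Quotient.eq_zero_iff_mem]
          exact Ideal.mul_mem_right _ _ ha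
        · intro g hg
          refine Groth.Agent.Lib.Helper24.IdeallySep.eq_zero_of_forall_associatedPrimes (A := A) g ?_
          intro q hq'
          obtain ⟨s, hs, hsg⟩ := hg ⟨q, hq'⟩
          exact ⟨s, hs, hsg⟩
        · intro q
          obtain ⟨s, hs, hsx⟩ := hxs q
          refine ⟨s, hs, ?_⟩
          rw [TensorProduct.smul_tmul', TensorProduct.smul_tmul,
            Groth.Agent.Lib.Helper24.IdeallySep.one_tmul_eq_zero_iff,
            Groth.Agent.Lib.Helper24.IdeallySep.mem_smul_top_iff]
          rw [pow_succ'] at hsx
          exact hsx
      rw [Groth.Agent.Lib.Helper24.IdeallySep.one_tmul_eq_zero_iff,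
        Groth.Agent.Lib.Helper24.IdeallySep.mem_smul_top_iff] at hu
      rw [pow_succ']
      exact hu

end Groth.Agent.S5912
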