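import Groth.Statements.S5913
import Mathlib
import Groth.Agent.S3431
import Groth.Agent.Lib.Helper63.JacobsonLC

set_option autoImplicit false
universe u
open CategoryTheory AlgebraicGeometry
open EGA43

namespace Groth.Agent.S5913

open TopologicalSpace

theorem not_semilocal_dim_one_of_isJacobsonRing (D : Type*) [CommRing D] [IsDomain D]
    [IsJacobsonRing D] : ¬ (Finite (MaximalSpectrum D) ∧ ringKrullDim D = 1) := by
  rintro ⟨hfin, hdim⟩
  have hjac : (⊥ : Ideal D).jacobson = ⊥ :=
    IsJacobsonRing.out' ⊥ (Ideal.IsPrime.isRadical Ideal.isPrime_bot)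
  have : Fintype (MaximalSpectrum D) := Fintype.ofFinite _
  have hprod : ∏ m : MaximalSpectrum D, m.asIdeal ≤ ⊥ := by
    rw [← hjac]
    refine le_trans Ideal.prod_le_inf ?_
    refine le_sInf ?_
    rintro J ⟨-, hJmax⟩
    exact Finset.inf_le (Finset.mem_univ (⟨J, hJmax⟩ : MaximalSpectrum _))
  have hprod0 : ∏ m : MaximalSpectrum D, m.asIdeal = 0 := le_bot_iff.mp hprod
  obtain ⟨m, -, hm⟩ := Finset.prod_eq_zero_iff.mp hprod0
  have hfield : IsField D := Ring.isField_iff_maximal_bot.mpr (by
    rw [← Ideal.zero_eq_bot, ← hm]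
    exact m.isMaximal)
  rw [ringKrullDim_eq_zero_of_isField hfield] at hdim
  exact zero_ne_one hdim

/-- In the locally Noetherian form: a locally Noetherian scheme X is Jacobson if and only if it has no
subscheme isomorphic to the spectrum of a semi-local integral domain of dimension 1, i.e. there is
no immersion Spec R ⟶ X with R an integral domain having finitely many maximal ideals and Krull
dimension 1. -/
theorem result (X : Scheme.{u}) [IsLocallyNoetherian X] :
    JacobsonSpace X ↔
      ∀ (R : CommRingCat.{u}) [IsDomain R] (i : Spec R ⟶ X) [IsImmersion i],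
        ¬ (Finite (MaximalSpectrum R) ∧ ringKrullDim R = 1) := by
  constructor
  · intro hJ R _ i _
    have h1 : JacobsonSpace i.coborderRange :=
      JacobsonSpace.of_isOpenEmbedding i.coborderRange.ι.isOpenEmbedding
    have h2 : JacobsonSpace (Spec R) :=
      JacobsonSpace.of_isClosedEmbedding i.liftCoborder.isClosedEmbedding
    have h3 : IsJacobsonRing R := PrimeSpectrum.isJacobsonRing_iff_jacobsonSpace.mpr h2
    exact not_semilocal_dim_one_of_isJacobsonRing R
  · intro H
    have hcov : IsOpenCover (fun V : X.affineOpens => (V : Opens X)) :=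
      iSup_affineOpens_eq_top X
    rw [hcov.jacobsonSpace_iff]
    rintro ⟨V, hV⟩
    have : IsNoetherianRing Γ(X, V) := IsLocallyNoetherian.component_noetherian ⟨V, hV⟩
    have hJR : IsJacobsonRing Γ(X, V) := by
      rw [Groth.Agent.S3431.result]
      intro p hp hsd
      let i : Spec (CommRingCat.of (Γ(X, V) ⧸ p)) ⟶ X :=
        Spec.map (CommRingCat.ofHom (Ideal.Quotient.mk p)) ≫ hV.fromSpec
      have : IsClosedImmersion (Spec.map (CommRingCat.ofHom (Ideal.Quotient.mk p))) :=
        IsClosedImmersion.spec_of_surjective _ Ideal.Quotient.mk_surjective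
      have : IsImmersion i := IsImmersion.isImmersion_iff_exists.mpr
        ⟨_, _, _, this, hV.isOpenImmersion_fromSpec, rfl⟩
      exact H (CommRingCat.of (Γ(X, V) ⧸ p)) i hsd
    have hJS : JacobsonSpace (Spec Γ(X, V)) :=
      PrimeSpectrum.isJacobsonRing_iff_jacobsonSpace.mp hJR
    exact JacobsonSpace.of_isClosedEmbedding
      (Scheme.homeoOfIso hV.isoSpec).isClosedEmbedding

end Groth.Agent.S5913
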