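import Groth.Statements.S5921
import Groth.Agent.Lib.Helper73.SkMod.ChartSetup

set_option autoImplicit false
open CategoryTheory AlgebraicGeometry
universe u
open EGA43

namespace Groth.Agent.S5921

/-- Let f : X ⟶ Y be a morphism locally of finite presentation and F a finitely presented O_X-module
which is f-flat; for x in X write F_{f x} for the restriction of F to the fibre of f through x. The
rectified depth of F_{f x} at x is the depth of its stalk at x over the local ring of the fibre at x
plus the dimension of the closure of x inside the fibre. Then this function of x is lower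
semicontinuous on X: for every natural number n, the set of points x with prof((F_{f x})_x) + dim
cl{x} ≥ n (closure taken in the fibre) is open in X. -/
theorem result {X Y : Scheme.{u}} (f : X ⟶ Y) [LocallyOfFinitePresentation f]
    (F : X.Modules) (hF : CohB1.IsFP F) (hflat : FlatMod.IsFlatOver f F) (n : ℕ) :
    IsOpen {x : X | (n : WithBot ℕ∞) ≤
      ((LocCoh.depth ((f.fiber (f.base x)).presheaf.stalk (f.asFiber x)) (((Scheme.Modules.pullback (f.fiberι (f.base x))).obj F).presheaf.stalk (f.asFiber x)) : ℕ∞) : WithBot ℕ∞) +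
        topologicalKrullDim ↥(closure ({f.asFiber x} : Set ↥(f.fiber (f.base x))))} := by
  open Groth.Agent.Lib.Helper73 in
  haveI : SheafOfModules.IsFinitePresentation (R := X.ringCatSheaf) F := hF
  haveI hq : F.IsQuasicoherent :=
    SheafOfModules.QuasicoherentData.isQuasicoherent (R := X.ringCatSheaf) (M := F)
      (SheafOfModules.IsFinitePresentation.exists_quasicoherentData
        (R := X.ringCatSheaf) F).choose
  rw [isOpen_iff_mem_nhds]
  intro x₀ hx₀
  obtain ⟨U, hU, V, hV, hUV, m, hm, ρ, hx₀U, hρ, hρA, hfin, hfp, hfl⟩ :=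
    exists_chart_data f F hF hflat x₀
  letI : Module (MvPolynomial m Γ(Y, V)) Γ(F, U) := Module.compHom Γ(F, U) ρ
  letI : Module Γ(Y, V) Γ(F, U) := Module.compHom Γ(F, U) (f.appLE V U hUV).hom
  haveI := chart_isScalarTower f F hUV m ρ hρA
  have hopen := isOpen_fibPdM_lt Γ(Y, V) m Γ(F, U) (Nat.card m + 1 - n)
  let g : U → PrimeSpectrum (MvPolynomial m Γ(Y, V)) :=
    fun y => PrimeSpectrum.comap ρ (hU.primeIdealOf y)
  have hg : Continuous g :=
    (PrimeSpectrum.continuous_comap ρ).comp hU.isoSpec.hom.continuous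
  have hW := U.isOpen.isOpenMap_subtype_val _ (hopen.preimage hg)
  refine Filter.mem_of_superset (hW.mem_nhds ⟨⟨x₀, hx₀U⟩, ?_, rfl⟩) ?_
  · exact (rectifiedDepth_ge_iff_chart f F hU hV hUV m ρ hρ hρA x₀ hx₀U n).1 hx₀
  · rintro _ ⟨⟨y, hy⟩, hmem, rfl⟩
    exact (rectifiedDepth_ge_iff_chart f F hU hV hUV m ρ hρ hρA y hy n).2 hmem

end Groth.Agent.S5921
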