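import Groth.Statements.S5925
import Groth.Agent.Lib.Helper73.DimFormula.Hypersurface

set_option autoImplicit false
open CategoryTheory AlgebraicGeometry
universe u
open EGA43

namespace Groth.Agent.S5925

/-- Let Y be an irreducible locally Noetherian scheme, f : X ⟶ Y a morphism locally of finite type which
is equidimensional at the point x, y = f x and e = dim_x(f⁻¹(y)). Let g be a global section of O_X
vanishing at x whose zero set X' contains no maximal point of f⁻¹(y). Then X', with its reduced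
closed subscheme structure, is equidimensional over Y at x; dim_x(X' ∩ f⁻¹(y)) = e − 1; and every
irreducible component of X' containing x has codimension 1 in X, i.e. the local ring of X at its
generic point has Krull dimension 1. (Stated for a global section; the published statement takes g
on an affine open neighbourhood of x, to which this applies after restriction, and its codimension
assertion codim(X', X) = 1 is read for the components of X' through x: a component of the zero set
not passing through x can be a whole irreducible component of X disjoint from the fibre, of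
codimension 0.) -/
theorem result {X Y : Scheme.{u}} [IrreducibleSpace Y]
    [IsLocallyNoetherian Y] (f : X ⟶ Y) [LocallyOfFiniteType f] (x : X) (hf : EGA43.IsEquidimAt f x)
    (g : Γ(X, ⊤)) (hgx : x ∈ X.zeroLocus ({g} : Set Γ(X, ⊤)))
    (hmax : ∀ z : X, f.base z = f.base x → (∀ z' : X, f.base z' = f.base x → z ∈ closure ({z'} : Set X) → z' = z) →
      z ∉ X.zeroLocus ({g} : Set Γ(X, ⊤))) :
    (∀ w : ↥(Scheme.IdealSheafData.vanishingIdeal ⟨X.zeroLocus ({g} : Set Γ(X, ⊤)), X.zeroLocus_isClosed _⟩).subscheme,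
        (Scheme.IdealSheafData.vanishingIdeal ⟨X.zeroLocus ({g} : Set Γ(X, ⊤)), X.zeroLocus_isClosed _⟩).subschemeι.base w = x →
        EGA43.IsEquidimAt ((Scheme.IdealSheafData.vanishingIdeal ⟨X.zeroLocus ({g} : Set Γ(X, ⊤)), X.zeroLocus_isClosed _⟩).subschemeι ≫ f) w) ∧
      FlatMor.localDim ↥(X.zeroLocus ({g} : Set Γ(X, ⊤)) ∩ f.base ⁻¹' {f.base x}) ⟨x, ⟨hgx, rfl⟩⟩ + 1 = FlatMor.fibreDimAt f x ∧
      ∀ Z ∈ irreducibleComponents ↥(X.zeroLocus ({g} : Set Γ(X, ⊤))), (⟨x, hgx⟩ : ↥(X.zeroLocus ({g} : Set Γ(X, ⊤)))) ∈ Z →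
        ∀ ξ : ↥(X.zeroLocus ({g} : Set Γ(X, ⊤))), closure ({ξ} : Set ↥(X.zeroLocus ({g} : Set Γ(X, ⊤)))) = Z →
          ringKrullDim (X.presheaf.stalk (ξ : X)) = 1 := by
  open Groth.Agent.Lib.Helper73 in
  have hLN : IsLocallyNoetherian X := LocallyOfFiniteType.isLocallyNoetherian f
  obtain ⟨e, U, hxU, hA, hB⟩ := (isEquidimAt_iff f x).mp hf
  set K : Set X := X.zeroLocus ({g} : Set Γ(X, ⊤)) with hKdef
  have hK : IsClosed K := X.zeroLocus_isClosed _
  have hmaxK : ∀ z : X, f z = f x → (∀ t : X, t ⤳ z → f t = f z → t = z) → z ∉ K := by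
    intro z hfz hzmax
    apply hmax z hfz
    intro z' hfz' hz
    exact hzmax z' (specializes_iff_mem_closure.mpr hz) (hfz'.trans hfz.symm)
  have hfd : FlatMor.fibreDimAt f x = e := by
    apply fibreDimAt_eq_of_forall_maximal
    intro ζ hζx _ hζmax
    exact hB ζ (hζx.mem_open U.isOpen hxU) hζmax
  have hP := resTrdegNat_add_one_le_of_mem_closed f x e U hxU hB K hK hmaxK
  have hBpt : ∀ ξ' : X, ξ' ∈ K → ξ' ⤳ x → (∀ t ∈ K, t ⤳ ξ' → t = ξ') →
      f ξ' = genericPoint Y ∧ resTrdegNat f ξ' + 1 = e ∧ ringKrullDim (X.presheaf.stalk ξ') = 1 := by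
    intro ξ' hξ'K hξ'x hξ'max
    exact maximal_point_of_cut f x e U hxU hB K hK hmaxK hA ξ' hξ'K hξ'x
      (ringKrullDim_stalk_le_one_of_maximal_zeroLocus g ξ' hξ'K hξ'max)
  have he1 : 1 ≤ e := by
    have := hP x hgx specializes_rfl
    omega
  refine ⟨?_, ?_, ?_⟩
  · -- equidimensionality of the reduced subscheme
    intro w hw
    refine isEquidimAt_of_cut f x e U hxU hB K hK hmaxK hA
      (fun ξ' hξ'K hξ'max => ringKrullDim_stalk_le_one_of_maximal_zeroLocus g ξ' hξ'K hξ'max)
      (Scheme.IdealSheafData.vanishingIdeal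
        ⟨X.zeroLocus ({g} : Set Γ(X, ⊤)), X.zeroLocus_isClosed _⟩).subschemeι ?_ w hw
    rw [Scheme.IdealSheafData.range_subschemeι]
    exact Scheme.IdealSheafData.coe_support_vanishingIdeal _
  · -- the local dimension of the cut fibre
    rw [hfd]
    have hloc : FlatMor.localDim ↥(K ∩ f.base ⁻¹' {f.base x}) ⟨x, ⟨hgx, rfl⟩⟩ =
        ((e - 1 : ℕ) : WithBot ℕ∞) := by
      apply le_antisymm
      · apply localDim_interFiber_le f K (f x) hK
        intro ζ hζK _ hζx
        have := hP ζ hζK hζx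
        omega
      · obtain ⟨ξ', hξ'K, hξ'x, hξ'max⟩ := exists_maximal_specializes_of_isClosed K hK x hgx
        obtain ⟨-, h3, -⟩ := hBpt ξ' hξ'K hξ'x hξ'max
        obtain ⟨z, hξz, hzx, hfz, hzmax⟩ := exists_maximal_fiber_between f ξ' x hξ'x
        have h4 := resTrdegNat_le_of_maximal_in_closure_fiber f ξ' z hξz hzmax
        have hzK : z ∈ K := hξz.mem_closed hK hξ'K
        have h5 := resTrdegNat_le_localDim_interFiber f K (f x) hK ⟨x, ⟨hgx, rfl⟩⟩
          ⟨z, hzK, hfz⟩ hzx
        refine le_trans ?_ h5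
        have : e - 1 ≤ resTrdegNat f z := by omega
        exact_mod_cast this
    rw [hloc]
    have : e - 1 + 1 = e := by omega
    exact_mod_cast congrArg (fun n : ℕ => ((n : ℕ) : WithBot ℕ∞)) this
  · -- codimension one
    intro Z hZ hxZ ξ hξZ
    have hξx : ξ.1 ⤳ x := by
      have h1 : (⟨x, hgx⟩ : ↥K) ∈ closure ({ξ} : Set ↥K) := by rw [hξZ]; exact hxZ
      have h2 : ξ ⤳ (⟨x, hgx⟩ : ↥K) := specializes_iff_mem_closure.mpr h1
      exact (subtype_specializes_iff ξ _).mp h2
    have hξmax : ∀ t ∈ K, t ⤳ ξ.1 → t = ξ.1 := by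
      intro t ht htξ
      have h1 : (⟨t, ht⟩ : ↥K) ⤳ ξ := (subtype_specializes_iff _ ξ).mpr htξ
      have h2 : Z ⊆ closure ({(⟨t, ht⟩ : ↥K)} : Set ↥K) := by
        rw [← hξZ]; exact h1.closure_subset
      have h3 : closure ({(⟨t, ht⟩ : ↥K)} : Set ↥K) ⊆ Z :=
        hZ.2 isIrreducible_singleton.closure h2
      have h4 : ξ ⤳ (⟨t, ht⟩ : ↥K) := by
        rw [specializes_iff_mem_closure, hξZ]
        exact h3 (subset_closure rfl)
      have h5 : ξ.1 ⤳ t := (subtype_specializes_iff ξ _).mp h4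
      exact (htξ.antisymm h5).eq
    exact (hBpt ξ.1 ξ.2 hξx hξmax).2.2

end Groth.Agent.S5925
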