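import Groth.Statements.S5934
import Mathlib
import Groth.Agent.Lib.Helper19.Sm.SmoothFiberPointwise

set_option autoImplicit false
open CategoryTheory AlgebraicGeometry
universe u
open EGA43

namespace Groth.Agent.S5934

/-- Let f : X ⟶ Y be a proper, flat morphism of finite presentation. The set of points y of Y whose
fibre X_y is geometrically regular, i.e. smooth over the residue field κ(y), is open in Y. -/
theorem result {X Y : Scheme.{u}} (f : X ⟶ Y) [IsProper f] [Flat f]
    [LocallyOfFinitePresentation f] :
    IsOpen {y : Y | Smooth (f.fiberToSpecResidueField y)} := by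
  open CategoryTheory.Limits in
  have hset : {y : Y | Smooth (f.fiberToSpecResidueField y)} =
      (f.base '' ((f.smoothLocus : Set X)ᶜ))ᶜ := by
    ext y
    simp only [Set.mem_setOf_eq, Set.mem_compl_iff, Set.mem_image, not_exists, not_and]
    constructor
    · intro hy x hx hxy
      subst hxy
      refine hx (Groth.Agent.Lib.Helper19.mem_smoothLocus_of_flat_of_smooth_fiber f x ?_ hy)
      exact Flat.stalkMap f x
    · intro h
      have hlfp : LocallyOfFinitePresentation (f.fiberToSpecResidueField y) :=
        inferInstanceAs (LocallyOfFinitePresentation (pullback.snd _ _))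
      rw [← Scheme.Hom.smoothLocus_eq_top_iff]
      have H : IsPullback (f.fiberι y) (f.fiberToSpecResidueField y) f
          (Y.fromSpecResidueField y) := IsPullback.of_hasPullback _ _
      refine top_le_iff.mp (le_trans ?_
        (Groth.Agent.Lib.Helper19.preimage_smoothLocus_le_of_isPullback f _ _ _ H))
      intro z _
      change f.fiberι y z ∈ f.smoothLocus
      by_contra hz
      refine h (f.fiberι y z) hz ?_
      have : f.fiberι y z ∈ Set.range (f.fiberι y) := ⟨z, rfl⟩
      rw [f.range_fiberι y] at this
      exact this
  rw [hset]
  exact (f.isClosedMap _ f.smoothLocus.2.isClosed_compl).isOpen_compl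

end Groth.Agent.S5934
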