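import Groth.Statements.S5939
-- import your own Groth.Agent.* helpers here

set_option autoImplicit false
universe u
open CategoryTheory AlgebraicGeometry
open Unram17

namespace Groth.Agent.S5939

/-- Let f : X ⟶ Y be faithfully flat, locally of finite presentation and quasi-compact, and let g : Y ⟶
Z be a morphism such that f ≫ g is of finite presentation (locally of finite presentation,
quasi-compact and quasi-separated). Then g is quasi-compact and quasi-separated; together with the
descent of local finite presentation along f this says that g is of finite presentation. This is the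
case f quasi-compact. -/
theorem result {X Y Z : Scheme.{u}} (f : X ⟶ Y) (g : Y ⟶ Z)
    [Surjective f] [Flat f] [LocallyOfFinitePresentation f] [QuasiCompact f]
    [LocallyOfFinitePresentation (f ≫ g)] [QuasiCompact (f ≫ g)] [QuasiSeparated (f ≫ g)] :
    QuasiCompact g ∧ QuasiSeparated g := by
  have hsurj : Function.Surjective f := f.surjective
  refine ⟨⟨?_⟩, ?_⟩
  · intro U hU hUc
    have h1 : IsCompact ((f ≫ g) ⁻¹' U) :=
      QuasiCompact.isCompact_preimage (f := f ≫ g) U hU hUc
    have h2 : (f ≫ g) ⁻¹' U = f ⁻¹' (g ⁻¹' U) := by
      ext x; simp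
    rw [h2] at h1
    have h3 := h1.image f.continuous
    rwa [Set.image_preimage_eq _ hsurj] at h3
  · refine HasAffineProperty.of_iSup_eq_top (P := @QuasiSeparated)
      (fun i : Z.affineOpens => i) (iSup_affineOpens_eq_top Z) (fun U => ?_)
    change QuasiSeparatedSpace ↥(g ⁻¹ᵁ U.1)
    refine (isQuasiSeparated_iff_quasiSeparatedSpace _ (g ⁻¹ᵁ U.1).2).mp ?_
    have hqs : IsQuasiSeparated ((f ≫ g) ⁻¹ᵁ U.1 : Set X) :=
      Scheme.Hom.isQuasiSeparated_preimage (f ≫ g) U.2.isQuasiSeparated
    intro V W hV hVo hVc hW hWo hWc
    have h1 : IsCompact (f ⁻¹' V ∩ f ⁻¹' W) := by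
      refine hqs (f ⁻¹' V) (f ⁻¹' W) ?_ (hVo.preimage f.continuous)
        (QuasiCompact.isCompact_preimage (f := f) V hVo hVc) ?_ (hWo.preimage f.continuous)
        (QuasiCompact.isCompact_preimage (f := f) W hWo hWc)
      · intro x hx
        have := hV hx
        simpa using this
      · intro x hx
        have := hW hx
        simpa using this
    rw [← Set.preimage_inter] at h1
    have h3 := h1.image f.continuous
    rwa [Set.image_preimage_eq _ hsurj] at h3

end Groth.Agent.S5939
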