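import Groth.Statements.S5942
import Mathlib
import Groth.Agent.Lib.Helper78.LimGlobal
import Groth.Agent.Lib.Helper46.LimUnram

set_option autoImplicit false
universe u
open CategoryTheory AlgebraicGeometry
open Unram17

namespace Groth.Agent.S5942

open Groth.Agent.Lib.Helper46 Groth.Agent.Lib.Helper50 Groth.Agent.Lib.Helper50.StageSetup in

/-- Let S = lim S_i be a cofiltered limit of schemes with affine transition maps, let X₀ and Y₀ be
schemes locally of finite presentation over a stage S_{i₀}, f₀ : X₀ ⟶ Y₀ an S_{i₀}-morphism, and f :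
X ⟶ Y the base change of f₀ along S ⟶ S_{i₀} (base changes are expressed by pullback squares).
Assume X₀ quasi-compact. Then f is formally unramified if and only if, for some index j over i₀, the
base change f_j : X_j ⟶ Y_j of f₀ along S_j ⟶ S_{i₀} is formally unramified (f and every f_j are
locally of finite presentation, being morphisms between schemes locally of finite presentation over
a common base, so formally unramified means unramified here). This is the case of unramified
morphisms. -/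
theorem result {I : Type u} [SmallCategory I] [IsCofiltered I]
    (D : I ⥤ Scheme.{u}) (c : Limits.Cone D) (hc : Limits.IsLimit c)
    [∀ (i j : I) (f : i ⟶ j), IsAffineHom (D.map f)] (i₀ : I)
    {X₀ Y₀ : Scheme.{u}} (f₀ : X₀ ⟶ Y₀) (g₀ : Y₀ ⟶ D.obj i₀)
    [LocallyOfFinitePresentation g₀] [LocallyOfFinitePresentation (f₀ ≫ g₀)]
    [CompactSpace ↥X₀]
    {X Y : Scheme.{u}} (f : X ⟶ Y) (g : Y ⟶ c.pt) (qY : Y ⟶ Y₀) (qX : X ⟶ X₀)
    (hY : IsPullback qY g g₀ (c.π.app i₀)) (hX : IsPullback qX f f₀ qY) :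
    FormallyUnramified f ↔
      ∃ (j : I) (φ : j ⟶ i₀) (Xj Yj : Scheme.{u}) (fj : Xj ⟶ Yj) (gj : Yj ⟶ D.obj j) (pY : Yj ⟶ Y₀)
        (pX : Xj ⟶ X₀), IsPullback pY gj g₀ (D.map φ) ∧ IsPullback pX fj f₀ pY ∧ FormallyUnramified fj := by
  haveI : IsZariskiLocalAtSource @FormallyUnramified.{u} :=
    HasRingHomProperty.instIsZariskiLocalAtSource (Q := @RingHom.FormallyUnramified)
  refine Groth.Agent.Lib.Helper78.LimGlobal.global_iff_stage_of_local D c hc i₀ f₀ g₀ f g qY qX hY hX
    @FormallyUnramified ?_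
  intro hPf x
  have : LocallyOfFinitePresentation f₀ := locallyOfFinitePresentation_of_comp f₀ g₀
  have hlfp : LocallyOfFinitePresentation ((τ D i₀ f₀ g₀).app (Over.mk (𝟙 i₀))) :=
    inferInstanceAs (LocallyOfFinitePresentation (Limits.pullback.snd f₀ (γ D i₀ g₀ _)))
  have hPU : FormallyUnramified ((⊤ : X.Opens).ι ≫ f) :=
    IsZariskiLocalAtSource.comp (P := @FormallyUnramified) hPf _
  obtain ⟨j, _, V, hxV, hPV⟩ := LimLoc.exists_nhd_stage (P := @FormallyUnramified)
    (Q := @RingHom.FormallyUnramified)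
    (τ D i₀ f₀ g₀)
    (cF D c i₀ f₀ g₀ f g qY qX hY hX) (cE D c i₀ g₀ g qY hY) (hcE D c hc i₀ g₀ g qY hY) f
    (fun φ => isPullback_τ D i₀ f₀ g₀ φ)
    (fun j => isPullback_bcConeπ (E D i₀ g₀) (γ D i₀ g₀) f₀ (cE D c i₀ g₀ g qY hY) qY
      (hb' D c i₀ g₀ g qY hY) qX f hX j) LimUnram.stageProp_formallyUnramified
    (fun a i _ h => by
      have hi : FormallyUnramified i := inferInstance
      exact MorphismProperty.comp_mem _ a i h hi)
    (hcF D c hc i₀ f₀ g₀ f g qY qX hY hX)
    (Over.mk (𝟙 i₀)) x ⊤ trivial hPU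
  exact ⟨j, V, hxV, hPV⟩

end Groth.Agent.S5942
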