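import Groth.Statements.S5947
import Groth.Agent.Lib.Helper48.OmegaAff26

set_option autoImplicit false
universe u
open CategoryTheory AlgebraicGeometry TopologicalSpace
open Nrm16

namespace Groth.Agent.S5947

/-- Let A be a commutative ring, B an A-algebra and L a B-module; put S = Spec A, X = Spec B and let F
be the O_X-module associated with L. For an S-derivation D of O_X into F write Γ(D) : B → L for its
effect on global sections (global sections of O_X and of F being identified with B and L by the
canonical isomorphisms). Then D ↦ Γ(D) is a bijection from the set of S-derivations of O_X into F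
onto the set of A-derivations of B into L: every Γ(D) is an A-derivation, and every A-derivation of
B into L is Γ(D) for exactly one D. (The published statement asserts an isomorphism of B-modules; no
module structure is placed on sheaf derivations here, so this row states the bijection.) -/
theorem result (A B : Type u) [CommRing A] [CommRing B] [Algebra A B]
    (L : Type u) [AddCommGroup L] [Module B L] [Module A L] [IsScalarTower A B L] :
    (∀ D : OmegaSh.Der (Spec.map (CommRingCat.ofHom (algebraMap A B))) (tilde (ModuleCat.of (CommRingCat.of B) L)),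
      ∃ δ : Derivation A B L, ∀ t : B, D.app ⊤ ((Scheme.ΓSpecIso (CommRingCat.of B)).inv t) =
        (tilde.isoTop (ModuleCat.of (CommRingCat.of B) L)).hom (δ t)) ∧
    ∀ δ : Derivation A B L,
      ∃! D : OmegaSh.Der (Spec.map (CommRingCat.ofHom (algebraMap A B))) (tilde (ModuleCat.of (CommRingCat.of B) L)),
        ∀ t : B, D.app ⊤ ((Scheme.ΓSpecIso (CommRingCat.of B)).inv t) =
          (tilde.isoTop (ModuleCat.of (CommRingCat.of B) L)).hom (δ t) := by
  open Groth.Agent.Lib.Helper48.OmegaAff in
  set M := ModuleCat.of (CommRingCat.of B) L with hM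
  set f := Spec.map (CommRingCat.ofHom (algebraMap A B)) with hf
  set γ := Scheme.ΓSpecIso (CommRingCat.of B) with hγ
  let E : L ≃+ Γ(tilde M, ⊤) := tildeTopEquiv M
  have hE : ∀ l : L, (tilde.isoTop M).hom l = E l := fun l => rfl
  have hlin : ∀ (b : B) (l : L), E (b • l) = γ.inv b • E l := fun b l => tildeTopEquiv_smul M b l
  have hlin' : ∀ (b : B) (s : Γ(tilde M, ⊤)), E.symm (γ.inv b • s) = b • E.symm s :=
    fun b s => tildeTopEquiv_symm_smul M b s
  have hγ1 : ∀ x : Γ(Spec (CommRingCat.of B), ⊤), γ.inv (γ.hom x) = x :=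
    fun x => congr($(γ.hom_inv_id) x)
  have hγ2 : ∀ t : B, γ.hom (γ.inv t) = t := fun t => congr($(γ.inv_hom_id) t)
  have hnat : ∀ a : A, γ.inv (algebraMap A B a) =
      f.appTop ((Scheme.ΓSpecIso (CommRingCat.of A)).inv a) := fun a =>
    congr($(Scheme.ΓSpecIso_inv_naturality (CommRingCat.ofHom (algebraMap A B))) a)
  constructor
  · intro D
    have hDalg : ∀ a : A, D.app ⊤ (γ.inv (algebraMap A B a)) = 0 := by
      intro a
      rw [hnat]
      exact der_app_app f D ⊤ _
    let δ₀ : B →ₗ[A] L :=
      { toFun := fun t => E.symm (D.app ⊤ (γ.inv t))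
        map_add' := fun t t' => by
          rw [map_add, map_add, map_add]
        map_smul' := fun a t => by
          change E.symm (D.app ⊤ (γ.inv (a • t))) = a • E.symm (D.app ⊤ (γ.inv t))
          rw [Algebra.smul_def, map_mul, der_app_mul, hDalg, smul_zero, add_zero, hlin',
            algebraMap_smul] }
    refine ⟨Derivation.mk' δ₀ (fun t t' => ?_), fun t => ?_⟩
    · change E.symm (D.app ⊤ (γ.inv (t * t'))) =
        t • E.symm (D.app ⊤ (γ.inv t')) + t' • E.symm (D.app ⊤ (γ.inv t))
      rw [map_mul, der_app_mul, map_add, hlin', hlin']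
    · change D.app ⊤ (γ.inv t) = E (E.symm (D.app ⊤ (γ.inv t)))
      rw [AddEquiv.apply_symm_apply]
  · intro δ
    let δ' : Γ(Spec (CommRingCat.of B), ⊤) →+ Γ(tilde M, ⊤) :=
      AddMonoidHom.mk' (fun x => E (δ (γ.hom x))) (fun x y => by
        rw [map_add, map_add, map_add])
    have hmul : ∀ x y : Γ(Spec (CommRingCat.of B), ⊤), δ' (x * y) = x • δ' y + y • δ' x := by
      intro x y
      change E (δ (γ.hom (x * y))) = x • E (δ (γ.hom y)) + y • E (δ (γ.hom x))
      rw [map_mul, Derivation.leibniz, map_add, hlin, hlin, hγ1, hγ1]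
    have hkill : ∀ c : Γ(Spec (CommRingCat.of A), ⊤), δ' (f.appTop c) = 0 := by
      intro c
      change E (δ (γ.hom (f.appTop c))) = 0
      have h1 : γ.hom (f.appTop c) =
          algebraMap A B ((Scheme.ΓSpecIso (CommRingCat.of A)).hom c) :=
        congr($(Scheme.ΓSpecIso_naturality (CommRingCat.ofHom (algebraMap A B))) c)
      rw [h1, Derivation.map_algebraMap, map_zero]
    refine ⟨derOfGlobal f δ' hmul hkill, fun t => ?_, fun D' hD' => ?_⟩
    · rw [derOfGlobal_app_top]
      change E (δ (γ.hom (γ.inv t))) = _
      rw [hγ2]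
      rfl
    · apply der_ext_of_app_top
      rw [derOfGlobal_app_top]
      ext x
      rw [← hγ1 x, hD']
      change _ = E (δ (γ.hom (γ.inv (γ.hom x))))
      rw [hγ2]
      rfl

end Groth.Agent.S5947
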