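import Groth.Statements.S5957
-- import your own Groth.Agent.* helpers here
import Groth.Agent.Lib.Helper33.PPLib
import Mathlib.Tactic

set_option autoImplicit false
universe u
open CategoryTheory CategoryTheory.Limits AlgebraicGeometry TopologicalSpace Opposite
open Nrm16

namespace Groth.Agent.S5957

open Groth.Agent.Lib.Helper33.PPLib

theorem isIso_inclusion {X : Scheme.{u}} {I J : X.IdealSheafData} (h : I ≤ J) (h' : I = J) :
    IsIso (Scheme.IdealSheafData.inclusion h) := by
  subst h'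
  rw [Scheme.IdealSheafData.inclusion_id]
  infer_instance

theorem isIso_toInfNbhd_zero {X Y : Scheme.{u}} (i : Y ⟶ X) [IsClosedImmersion i] :
    IsIso (PrinPart.toInfNbhd i 0) := by
  have : IsIso (Scheme.IdealSheafData.inclusion (PrinPart.ker_pow_succ_le i 0)) :=
    isIso_inclusion _ (by simp)
  unfold PrinPart.toInfNbhd
  infer_instance

theorem pr1_zero_eq {X S : Scheme.{u}} (f : X ⟶ S) : PrinPart.pr1 f 0 = PrinPart.pr2 f 0 := by
  have : IsIso (PrinPart.toNbhd f 0) := isIso_toInfNbhd_zero _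
  rw [← cancel_epi (PrinPart.toNbhd f 0), PrinPart.toNbhd_pr1, PrinPart.toNbhd_pr2]

/-- κ -/
theorem exists_kappa {X : Scheme.{u}} (F : X.Modules) :
    ∃ κ : (Scheme.Modules.pushforward (𝟙 X)).obj ((Scheme.Modules.pullback (𝟙 X)).obj F) ⟶ F,
      ∀ (U : X.Opens) (t : Γ(F, U)), κ.app U (OmegaSh.pullSect (𝟙 X) F U t) = t := by
  refine ⟨(Scheme.Modules.pushforward (𝟙 X)).map ((Scheme.Modules.pullbackId X).hom.app F) ≫
    (Scheme.Modules.pushforwardId X).hom.app F, fun U t => ?_⟩
  have h := unit_conjugateEquiv Adjunction.id (Scheme.Modules.pullbackPushforwardAdjunction (𝟙 X))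
    (Scheme.Modules.pullbackId X).hom F
  rw [Scheme.Modules.conjugateEquiv_pullbackId_hom] at h
  have h2 : (Scheme.Modules.pullbackPushforwardAdjunction (𝟙 X)).unit.app F ≫
      ((Scheme.Modules.pushforward (𝟙 X)).map ((Scheme.Modules.pullbackId X).hom.app F) ≫
      (Scheme.Modules.pushforwardId X).hom.app F) = 𝟙 F := by
    rw [← Category.assoc, ← h]
    simp
  exact congrArg (fun φ => (Scheme.Modules.Hom.app φ U) t) h2


/-- Let f : X ⟶ S be a morphism of schemes, F and G two O_X-modules and D : F ⟶ G a homomorphism of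
sheaves of abelian groups. Then D is a differential operator of order at most 0 relative to S if and
only if D is O_X-linear: D(a·t) = a·D(t) for every open U, every function a on U and every section t
of F over U. -/
theorem result {X S : Scheme.{u}} (f : X ⟶ S) (F G : X.Modules)
    (D : F.presheaf ⟶ G.presheaf) :
    PrinPart.IsDiffOpLE f F G 0 D ↔
      ∀ (U : X.Opens) (a : Γ(X, U)) (t : Γ(F, U)), D.app (op U) (a • t) = a • D.app (op U) t := by
  constructor
  · rintro ⟨u, hu⟩ U a t
    rw [hu, hu, ← Scheme.Modules.Hom.app_smul]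
    congr 1
    rw [PrinPart.dP_apply, PrinPart.dP_apply, OmegaSh.pullSect_smul, Scheme.Modules.map_smul]
    have key := Scheme.Hom.congr_app (pr1_zero_eq f) U
    have key2 : (PrinPart.pr1 f 0).app U a = _ := congr($key a)
    change _ = ((PrinPart.pr1 f 0).app U a) • (((Scheme.Modules.pullback (PrinPart.pr2 f 0)).obj F).presheaf.map
      (homOfLE (PrinPart.preimage_pr1 f 0 U).le).op (OmegaSh.pullSect (PrinPart.pr2 f 0) F U t))
    rw [key2]
    rfl
  · intro hlin
    let Dlin : F ⟶ G := ⟨PresheafOfModules.homMk D (fun U a t => hlin U.unop a t)⟩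
    have hDlin : ∀ (U : X.Opens) (t : Γ(F, U)), Dlin.app U t = D.app (op U) t := fun U t => rfl
    obtain ⟨τ, hτ⟩ := exists_tau (PrinPart.toNbhd f 0) (𝟙 X) (𝟙 X) (PrinPart.pr1 f 0) (PrinPart.pr2 f 0)
      (PrinPart.toNbhd_pr1 f 0) (PrinPart.toNbhd_pr2 f 0) F
    obtain ⟨κ, hκ⟩ := exists_kappa F
    refine ⟨τ ≫ κ ≫ Dlin, fun U t => ?_⟩
    rw [PrinPart.dP_apply]
    have := hτ U (PrinPart.preimage_pr1 f 0 U).le le_rfl t
    have h3 : ((Scheme.Modules.pullback (𝟙 X)).obj F).presheaf.map (homOfLE (le_refl ((𝟙 X) ⁻¹ᵁ U))).op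
        (OmegaSh.pullSect (𝟙 X) F U t) = OmegaSh.pullSect (𝟙 X) F U t := by
      have : (homOfLE (le_refl ((𝟙 X) ⁻¹ᵁ U))).op = 𝟙 _ := rfl
      rw [this, CategoryTheory.Functor.map_id]
      rfl
    have e1 := this.trans h3
    have e2 : D.app (op U) t = Dlin.app U (κ.app U (OmegaSh.pullSect (𝟙 X) F U t)) := by
      rw [hκ, hDlin]
    rw [e2, ← e1]
    rfl


end Groth.Agent.S5957
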