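import Groth.Statements.S5961
import Groth.Agent.Lib.Helper48.DiffOp2

set_option autoImplicit false
universe u
open CategoryTheory CategoryTheory.Limits AlgebraicGeometry TopologicalSpace Opposite
open Nrm16

namespace Groth.Agent.S5961

/-- Let f : X ⟶ S be a morphism of schemes, G an O_X-module and D : O_X ⟶ G a differential operator of
order at most 1 relative to S. Then D can be written in exactly one way as v + d with v : O_X ⟶ G an
O_X-linear map and d an S-derivation of O_X into G. -/
theorem result {X S : Scheme.{u}} (f : X ⟶ S) (G : X.Modules)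
    (D : (Coh.structureModule X).presheaf ⟶ G.presheaf)
    (hD : PrinPart.IsDiffOpLE f (Coh.structureModule X) G 1 D) :
    ∃! p : (Coh.structureModule X ⟶ G) × OmegaSh.Der f G,
      ∀ (U : X.Opens) (a : Γ(X, U)),
        D.app (op U) (OmegaSh.strSect X U a) = p.1.app U (OmegaSh.strSect X U a) + p.2.app U a := by
  obtain ⟨u, hu⟩ := hD
  refine ⟨(Groth.Agent.Lib.Helper48.DiffOp.linPart D,
    Groth.Agent.Lib.Helper48.DiffOp.derPart f D u hu), ?_, ?_⟩
  · intro U a
    change _ = (Groth.Agent.Lib.Helper48.DiffOp.linPart D).app U (OmegaSh.strSect X U a) +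
      (Groth.Agent.Lib.Helper48.DiffOp.derPart f D u hu).app U a
    rw [Groth.Agent.Lib.Helper48.DiffOp.linPart_app,
      Groth.Agent.Lib.Helper48.DiffOp.derPart_app,
      Groth.Agent.Lib.Helper48.DiffOp.dval_apply]
    abel
  · rintro ⟨v', d'⟩ h'
    have h1 : ∀ U : X.Opens, v'.app U (OmegaSh.strSect X U 1) =
        Groth.Agent.Lib.Helper48.DiffOp.dval D U 1 := by
      intro U
      have := h' U 1
      change _ = v'.app U (OmegaSh.strSect X U 1) + d'.app U 1 at this
      have hd1 : d'.app U 1 = 0 := d'.d_one (op U)
      rw [hd1, add_zero] at this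
      exact this.symm
    have hv : v' = Groth.Agent.Lib.Helper48.DiffOp.linPart D := by
      apply Groth.Agent.Lib.Helper48.DiffOp.hom_ext_structure
      intro U
      rw [h1 U, Groth.Agent.Lib.Helper48.DiffOp.linPart_app_one]
    subst hv
    have hd : d' = Groth.Agent.Lib.Helper48.DiffOp.derPart f D u hu := by
      ext W a
      change d'.app W.unop a = (Groth.Agent.Lib.Helper48.DiffOp.derPart f D u hu).app W.unop a
      have := h' W.unop a
      change _ = (Groth.Agent.Lib.Helper48.DiffOp.linPart D).app W.unop
        (OmegaSh.strSect X W.unop a) + d'.app W.unop a at this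
      rw [Groth.Agent.Lib.Helper48.DiffOp.linPart_app] at this
      rw [Groth.Agent.Lib.Helper48.DiffOp.derPart_app,
        Groth.Agent.Lib.Helper48.DiffOp.dval_apply, this]
      abel
    rw [hd]

end Groth.Agent.S5961
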