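import Groth.Statements.S5967
import Groth.Agent.Lib.Helper48.StalkPush
import Groth.Agent.Lib.Helper48.NbhdSymm
import Groth.Agent.Lib.Helper48.PullUnit
import Groth.Agent.Lib.Helper12.SkyFlat

set_option autoImplicit false
universe u
open CategoryTheory CategoryTheory.Limits AlgebraicGeometry TopologicalSpace Opposite
open Nrm16

namespace Groth.Agent.S5967

/-- Let f : X ⟶ S be a morphism of schemes and n a natural number, and assume that P^n_{X/S} is a flat
O_X-module for its left structure. Then the functor F ↦ P^n_{X/S}(F) on O_X-modules preserves finite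
limits (so it is exact). -/
theorem result {X S : Scheme.{u}} (f : X ⟶ S) (n : ℕ)
    (hP : FlatMod.IsFlat (PrinPart.P f n)) :
    PreservesFiniteLimits
      ((Scheme.Modules.pullback (PrinPart.pr2 f n)) ⋙ (Scheme.Modules.pushforward (PrinPart.pr1 f n))) := by
  have hpt : ∀ x : X, PrinPart.pr1 f n (PrinPart.toNbhd f n x) = x := by
    intro x
    rw [← Scheme.Hom.comp_apply, PrinPart.toNbhd_pr1]
    rfl
  have htp : ∀ z : PrinPart.nbhd f n, PrinPart.toNbhd f n (PrinPart.pr1 f n z) = z := by
    intro z
    obtain ⟨y, rfl⟩ := PrinPart.toInfNbhd_surjective (PrinPart.diagCl f) n z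
    exact congrArg _ (hpt y)
  -- `pr1` is inducing
  have hind : Topology.IsInducing (PrinPart.pr1 f n) := by
    refine Topology.IsInducing.of_comp (PrinPart.pr1 f n).continuous
      (PrinPart.toNbhd f n).continuous ?_
    have : (⇑(PrinPart.toNbhd f n) ∘ ⇑(PrinPart.pr1 f n)) = id := funext htp
    rw [this]
    exact Topology.IsInducing.id
  -- `P^n ≅ pr1_* O`
  have e : PrinPart.P f n ≅ Groth.Agent.Lib.Helper48.StalkPush.pushO (PrinPart.pr1 f n) :=
    (Scheme.Modules.pushforward (PrinPart.pr1 f n)).mapIso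
      (asIso (Groth.Agent.Lib.Helper48.PullUnit.unitHom (PrinPart.pr2 f n)))
  have hflat1 : Flat (PrinPart.pr1 f n) :=
    Groth.Agent.Lib.Helper48.StalkPush.flat_of_isFlat_pushO _ hind
      (Groth.Agent.Lib.Helper12.StalkExact.flatMod_of_iso e hP)
  have : IsIso (Groth.Agent.Lib.Helper48.NbhdSymm.symm f n) :=
    ⟨Groth.Agent.Lib.Helper48.NbhdSymm.symm f n,
      Groth.Agent.Lib.Helper48.NbhdSymm.symm_symm' f n,
      Groth.Agent.Lib.Helper48.NbhdSymm.symm_symm' f n⟩
  have hflat2 : Flat (PrinPart.pr2 f n) := by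
    rw [← Groth.Agent.Lib.Helper48.NbhdSymm.symm_pr1 f n]
    infer_instance
  have : PreservesFiniteLimits (Scheme.Modules.pullback (PrinPart.pr2 f n)) :=
    Groth.Agent.Lib.Helper12.Sky.preservesFiniteLimits_pullback_of_flat _
  have : PreservesFiniteLimits (Scheme.Modules.pushforward (PrinPart.pr1 f n)) :=
    haveI := (Scheme.Modules.pullbackPushforwardAdjunction (PrinPart.pr1 f n)).rightAdjoint_preservesLimits
    inferInstance
  exact comp_preservesFiniteLimits _ _

end Groth.Agent.S5967
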