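import Groth.Statements.S5974
import Groth.Agent.Lib.Helper48.Conormal6

set_option autoImplicit false
universe u
open CategoryTheory CategoryTheory.Limits AlgebraicGeometry TopologicalSpace Opposite
open Nrm16

namespace Groth.Agent.S5974

/-- Let f : Y ⟶ X and j : Y' ⟶ Y be quasi-compact immersions. Let φ₁ : j^* N_{Y/X} ⟶ N_{Y'/X} and φ₂ :
N_{Y'/X} ⟶ N_{Y'/Y} be the canonical maps of conormal sheaves (the first induced by the identity of
X, the second by f, on local sections of the ideals). Then φ₂ is an epimorphism and the image of φ₁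
is the kernel of φ₂: the sequence j^* N_{Y/X} ⟶ N_{Y'/X} ⟶ N_{Y'/Y} ⟶ 0 is exact. (The published
statement allows arbitrary immersions; this row assumes them quasi-compact, the case in which the
conormal sheaves used here are those of the immersions.) -/
theorem result {Y' Y X : Scheme.{u}} (f : Y ⟶ X) [IsImmersion f] [QuasiCompact f]
    (j : Y' ⟶ Y) [IsImmersion j] [QuasiCompact j]
    (φ₁ : (Scheme.Modules.pullback j).obj (Omega.conormal f) ⟶ Omega.conormal (j ≫ f))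
    (hφ₁ : OmegaSh.IsConormalMap (j ≫ f) f (𝟙 X) j φ₁)
    (φ₂ : (Scheme.Modules.pullback (𝟙 Y')).obj (Omega.conormal (j ≫ f)) ⟶ Omega.conormal j)
    (hφ₂ : OmegaSh.IsConormalMap j (j ≫ f) f (𝟙 Y') φ₂) :
    Epi φ₂ ∧
      imageSubobject φ₁ =
        kernelSubobject ((Scheme.Modules.pullbackId Y').inv.app (Omega.conormal (j ≫ f)) ≫ φ₂) := by
  classical
  let 𝓑 : Set Y'.Opens := {U | IsAffineOpen U ∧ ∃ V : X.Opens,
    Groth.Agent.Lib.Helper48.Conormal.IsGoodFor f V ∧ U ≤ (j ≫ f) ⁻¹ᵁ V}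
  have hB : TopologicalSpace.Opens.IsBasis 𝓑 := by
    rw [TopologicalSpace.Opens.isBasis_iff_nbhd]
    intro O y hy
    obtain ⟨V, hV, hyV, -, -⟩ := Groth.Agent.Lib.Helper48.Conormal.exists_goodFor f (j y) ⊤ trivial ⊤ trivial
    have hmem : y ∈ (j ≫ f) ⁻¹ᵁ V ⊓ O := ⟨hyV, hy⟩
    obtain ⟨_, ⟨U, hU : IsAffineOpen U, rfl⟩, hyU, hUle⟩ :=
      (Y'.isBasis_affineOpens).exists_subset_of_mem_open hmem ((j ≫ f) ⁻¹ᵁ V ⊓ O).isOpen
    have hUle' : U ≤ (j ≫ f) ⁻¹ᵁ V ⊓ O := hUle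
    exact ⟨U, ⟨hU, V, hV, hUle'.trans inf_le_left⟩, hyU, hUle'.trans inf_le_right⟩
  have hepi : Epi (Groth.Agent.Lib.Helper48.Conormal.ψ₂ f j φ₂) := by
    refine Groth.Agent.Lib.Helper48.Conormal.epi_of_basis _ _ hB ?_
    rintro U ⟨hU, V, hV, e⟩
    exact Groth.Agent.Lib.Helper48.Conormal.ψ₂_app_surjective f j φ₂ hφ₂ hV hU e
  have w : φ₁ ≫ Groth.Agent.Lib.Helper48.Conormal.ψ₂ f j φ₂ = 0 := by
    refine Groth.Agent.Lib.Helper48.Conormal.hom_ext_of_basis _ _ _ hB ?_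
    rintro U ⟨hU, V, hV, e⟩ s
    rw [Scheme.Modules.Hom.comp_app, Scheme.Modules.Hom.zero_app]
    exact Groth.Agent.Lib.Helper48.Conormal.φ₁_ψ₂_app f j φ₁ hφ₁ φ₂ hφ₂ hV hU e s
  have hex : (ShortComplex.mk φ₁ (Groth.Agent.Lib.Helper48.Conormal.ψ₂ f j φ₂) w).Exact := by
    refine Groth.Agent.Lib.Helper48.Conormal.exact_of_basis _ _ hB ?_
    rintro U ⟨hU, V, hV, e⟩ y hy
    exact Groth.Agent.Lib.Helper48.Conormal.three_exact_app f j φ₁ hφ₁ φ₂ hφ₂ hV hU e y hy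
  refine ⟨?_, (ShortComplex.exact_iff_image_eq_kernel _).mp hex⟩
  have h1 : Epi ((Scheme.Modules.pullbackId Y').hom.app (Omega.conormal (j ≫ f)) ≫
      Groth.Agent.Lib.Helper48.Conormal.ψ₂ f j φ₂) := epi_comp _ _
  have h2 : (Scheme.Modules.pullbackId Y').hom.app (Omega.conormal (j ≫ f)) ≫
      Groth.Agent.Lib.Helper48.Conormal.ψ₂ f j φ₂ = φ₂ := by
    unfold Groth.Agent.Lib.Helper48.Conormal.ψ₂
    rw [← Category.assoc, Iso.hom_inv_id_app, Category.id_comp]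
  rw [h2] at h1
  exact h1

end Groth.Agent.S5974
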