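import Groth.Statements.S5976
import Groth.Agent.Lib.Helper48.Conormal5

set_option autoImplicit false
universe u
open CategoryTheory CategoryTheory.Limits AlgebraicGeometry TopologicalSpace Opposite
open Nrm16

namespace Groth.Agent.S5976

/-- Let f : Y ⟶ Z be a morphism and j : X ⟶ Y a quasi-compact immersion. Let (Ω_{Y/Z}, d) and (Ω_{X/Z},
d') be sheaves of differentials (universal derivations), φ : N_{X/Y} ⟶ j^*Ω_{Y/Z} the canonical map
from the conormal sheaf of j (class of a local section s of the ideal ↦ pullback of d s) and c :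
j^*Ω_{Y/Z} ⟶ Ω_{X/Z} the canonical map compatible with the derivations. Then c is an epimorphism and
the image of φ is the kernel of c: the sequence N_{X/Y} ⟶ j^*Ω_{Y/Z} ⟶ Ω_{X/Z} ⟶ 0 is exact. (The
published statement allows any immersion j; this row assumes j quasi-compact, the case in which the
conormal sheaf used here is that of j.) -/
theorem result {X Y Z : Scheme.{u}} (f : Y ⟶ Z) (j : X ⟶ Y)
    [IsImmersion j] [QuasiCompact j]
    (ΩY : Y.Modules) (dY : OmegaSh.Der f ΩY) (hY : OmegaSh.IsUniversal dY)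
    (ΩX : X.Modules) (dX : OmegaSh.Der (j ≫ f) ΩX) (hX : OmegaSh.IsUniversal dX)
    (φ : Omega.conormal j ⟶ (Scheme.Modules.pullback j).obj ΩY) (hφ : OmegaSh.IsConormalDiff j dY φ)
    (c : (Scheme.Modules.pullback j).obj ΩY ⟶ ΩX) (hc : OmegaSh.IsDiffCompat j dY dX c) :
    Epi c ∧ imageSubobject φ = kernelSubobject c := by
  classical
  let Pred : Y.Opens → Prop := fun V => ∃ W : Z.Opens, IsAffineOpen W ∧ V ≤ f ⁻¹ᵁ W
  have hB := Groth.Agent.Lib.Helper48.Conormal.isBasis_goodFor j Pred
    (fun x => Groth.Agent.Lib.Helper48.Conormal.exists_over_affine f (j x))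
  have hepi : Epi c := by
    refine Groth.Agent.Lib.Helper48.Conormal.epi_of_basis c _ hB ?_
    rintro U ⟨V, hV, ⟨W, hW, hVW⟩, rfl⟩
    exact Groth.Agent.Lib.Helper48.Conormal.c_app_surjective f j dY dX hX c hc hV hW hVW
  have w : φ ≫ c = 0 := by
    refine Groth.Agent.Lib.Helper48.Conormal.hom_ext_of_basis _ _ _ hB ?_
    rintro U ⟨V, hV, ⟨W, hW, hVW⟩, rfl⟩ s
    rw [Scheme.Modules.Hom.comp_app, Scheme.Modules.Hom.zero_app]
    exact Groth.Agent.Lib.Helper48.Conormal.φ_c_app f j dY dX φ hφ c hc hV s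
  have hex : (ShortComplex.mk φ c w).Exact := by
    refine Groth.Agent.Lib.Helper48.Conormal.exact_of_basis _ _ hB ?_
    rintro U ⟨V, hV, ⟨W, hW, hVW⟩, rfl⟩ y hy
    exact Groth.Agent.Lib.Helper48.Conormal.exact_app f j dY hY dX hX φ hφ c hc hV hW hVW y hy
  exact ⟨hepi, (ShortComplex.exact_iff_image_eq_kernel _).mp hex⟩

end Groth.Agent.S5976
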