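import Groth.Statements.S5977
import Groth.Agent.Lib.Helper48.PnGen2
import Groth.Agent.Lib.Helper48.Conormal2

set_option autoImplicit false
universe u
open CategoryTheory CategoryTheory.Limits AlgebraicGeometry TopologicalSpace Opposite
open Nrm16

namespace Groth.Agent.S5977

/-- Let f : Y ⟶ Z be a morphism and j : X ⟶ Y a closed immersion, and let φ : j^* P^n_{Y/Z} ⟶ P^n_{X/Z}
be the canonical O_X-linear map of sheaves of principal parts of order n, the one sending the
pullback of d^n b to d^n (j♯ b). Then φ is an epimorphism. (The published statement also identifies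
the kernel of φ as the ideal generated by the pullback of d^n of the ideal of j; this row states the
surjectivity.) -/
theorem result {X Y Z : Scheme.{u}} (f : Y ⟶ Z) (j : X ⟶ Y) [IsClosedImmersion j] (n : ℕ)
    (φ : (Scheme.Modules.pullback j).obj (PrinPart.P f n) ⟶ PrinPart.P (j ≫ f) n)
    (hφ : PrinPart.IsPMap f (j ≫ f) j n φ) :
    Epi φ := by
  apply Groth.Agent.Lib.Helper48.PnGen.epi_of_dP_mem (j ≫ f) n (Coh.structureModule X) φ
  intro U t x hx
  obtain ⟨V, ⟨hV, hjV, hsurj⟩, hxV, -, hVU⟩ :=
    Groth.Agent.Lib.Helper48.Conormal.exists_goodFor j x U hx ⊤ trivial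
  obtain ⟨b, hb⟩ := hsurj (X.presheaf.map (homOfLE hVU).op (OmegaSh.fnSect X U t))
  refine ⟨j ⁻¹ᵁ V, hVU, hxV,
    OmegaSh.pullSect j (PrinPart.P f n) V (PrinPart.dn f n V b), ?_⟩
  have h1 := hφ V b
  refine h1.trans ?_
  rw [hb]
  rfl

end Groth.Agent.S5977
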