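import Groth.Statements.S5985
import Groth.Agent.Lib.Helper57.EtQF4

set_option autoImplicit false
universe u
open CategoryTheory AlgebraicGeometry
open Unram

namespace Groth.Agent.S5985

/-- Let f : X ⟶ Y be separated and locally of finite type, and y a point of Y whose fibre f⁻¹(y) is
finite (hence discrete). Then there are an étale morphism g : Y' ⟶ Y, a point y' of Y' with g(y') =
y inducing an isomorphism of residue fields κ(y) ≅ κ(y'), and two complementary open subschemes V, W
of X' = X ×_Y Y' such that V ⟶ Y' is finite and W contains no point of X' lying over y'. -/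
theorem result {X Y : Scheme.{u}} (f : X ⟶ Y)
    [LocallyOfFiniteType f] [IsSeparated f] (y : Y) (hfin : (f ⁻¹' {y}).Finite) :
    ∃ (Y' : Scheme.{u}) (g : Y' ⟶ Y) (y' : Y'), Etale g ∧ g y' = y ∧
      IsIso (g.residueFieldMap y') ∧
      ∃ (V W : (Limits.pullback f g).Opens), IsCompl V W ∧
        IsFinite (V.ι ≫ Limits.pullback.snd f g) ∧
        ∀ x : ↥(Limits.pullback f g), Limits.pullback.snd f g x = y' → x ∈ V := by
  classical
  open Groth.Agent.Lib.Helper57.EtQF in
  have hfinite : Finite ↥(f ⁻¹' {y}) := hfin.to_subtype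
  have hqf : ∀ i : ↥(f ⁻¹' {y}), f.QuasiFiniteAt i.1 := by
    rintro ⟨x, hx⟩
    obtain rfl : f x = y := hx
    have : Finite (f.fiber (f x)) := (f.fiberHomeo (f x)).finite_iff.mpr hfinite
    exact Scheme.Hom.quasiFiniteAt_iff_isOpen_singleton_asFiber.mpr (isOpen_discrete _)
  obtain ⟨U, g, u, hg, hu, hiso, X', p, f', sq, P, hP, hdisj⟩ :=
    exists_pieces f y (fun i : ↥(f ⁻¹' {y}) => i.1) Subtype.val_injective (fun i => i.2) hqf
  choose V v hVclopen hVfin hvV hvu hvx hVuniq hVrange using fun i => (P i).exists_opens sq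
  have hVdisj : ∀ i i', i ≠ i' → Disjoint (V i) (V i') := by
    intro i i' hii'
    rw [← TopologicalSpace.Opens.coe_disjoint, hVrange, hVrange]
    exact Set.disjoint_image_of_injective
      (sq.isoPullback.hom.homeomorph.injective) (hdisj i i' hii')
  have hfinV : IsFinite ((⨆ i, V i).ι ≫ Limits.pullback.snd f g) :=
    isFinite_iSup_ι_comp _ V hVdisj hVfin
  have hclosed : IsClosed ((⨆ i, V i : (Limits.pullback f g).Opens) : Set ↥(Limits.pullback f g)) := by
    rw [TopologicalSpace.Opens.coe_iSup]
    exact isClosed_iUnion_of_finite fun i => (hVclopen i).1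
  refine ⟨U, g, u, hg, hu, hiso, ⨆ i, V i, ⟨_, hclosed.isOpen_compl⟩, ?_, hfinV, ?_⟩
  · exact isCompl_compl _ hclosed
  · intro x hx
    have hfx : f (Limits.pullback.fst f g x) = y := by
      rw [← Scheme.Hom.comp_apply, Limits.pullback.condition, Scheme.Hom.comp_apply, hx, hu]
    let i : ↥(f ⁻¹' {y}) := ⟨Limits.pullback.fst f g x, hfx⟩
    have : x = v i := by
      have := hiso
      refine eq_of_fst_eq_of_snd_eq u x (v i) hx (hvu i) ?_
      rw [hvx i, hP i]
    rw [this]
    exact TopologicalSpace.Opens.mem_iSup.mpr ⟨i, hvV i⟩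

end Groth.Agent.S5985
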