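import Groth.Statements.S5995
import Groth.Agent.Lib.Helper69.RatSec2

set_option autoImplicit false
universe u
open CategoryTheory AlgebraicGeometry
open Unram

namespace Groth.Agent.S5995

/-- Let Y be a reduced scheme whose irreducible components form a locally finite family and all of whose
local rings are geometrically unibranch, f : X ⟶ Y a separated, locally of finite type, formally
unramified morphism, and u : U ⟶ X a section of f over a dense open U of Y which cannot be extended:
whenever v is a section of f over an open V agreeing with u on U ∩ V, V is contained in U (so U is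
the domain of definition of the rational section defined by u). Then the image u(U) is an open and
closed subset of X. -/
theorem result {X Y : Scheme.{u}} [IsReduced Y]
    (hcomp : LocallyFinite (fun Z : ↥(irreducibleComponents ↥Y) => (Z : Set ↥Y)))
    (f : X ⟶ Y) [IsSeparated f] [LocallyOfFiniteType f] [FormallyUnramified f]
    (U : Y.Opens) (hU : Dense (U : Set ↥Y)) (u : (U : Scheme.{u}) ⟶ X) (hu : u ≫ f = U.ι)
    (hY : ∀ y : Y, CAlg2.IsGeomUnibranch (Y.presheaf.stalk y))
    (hmax : ∀ (V : Y.Opens) (v : (V : Scheme.{u}) ⟶ X), v ≫ f = V.ι →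
      Y.homOfLE (inf_le_left : U ⊓ V ≤ U) ≫ u = Y.homOfLE (inf_le_right : U ⊓ V ≤ V) ≫ v → V ≤ U) :
    IsOpen (Set.range u) ∧ IsClosed (Set.range u) := by
  haveI : IsOpenImmersion u := by
    haveI : IsOpenImmersion (u ≫ f) := by rw [hu]; infer_instance
    exact Groth.Agent.Lib.Helper69.RatSec.isOpenImmersion_of_comp_unramified u f
  refine ⟨u.isOpenEmbedding.isOpen_range, ?_⟩
  rw [← closure_subset_iff_isClosed]
  intro x₀ hx₀
  obtain ⟨V, v, hyV, hv, hagree⟩ :=
    Groth.Agent.Lib.Helper69.RatSec.extend_section hcomp f U hU u hu x₀ (hY (f x₀)) hx₀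
  have hVU := hmax V v hv hagree
  have hfU : f x₀ ∈ U := hVU hyV
  -- `u` lifts to a section of `f ∣_ U`, which is a closed immersion
  have hrange : Set.range u ⊆ Set.range (f ⁻¹ᵁ U).ι := by
    rintro _ ⟨t, rfl⟩
    rw [Scheme.Opens.range_ι]
    show f (u t) ∈ U
    rw [Groth.Agent.Lib.Helper69.RatSec.apply_section f U u hu t]
    exact t.2
  set u' : U.toScheme ⟶ (f ⁻¹ᵁ U).toScheme := IsOpenImmersion.lift (f ⁻¹ᵁ U).ι u hrange with hu'
  have hu'ι : u' ≫ (f ⁻¹ᵁ U).ι = u := IsOpenImmersion.lift_fac _ _ _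
  have hsec : u' ≫ (f ∣_ U) = 𝟙 _ := by
    rw [← cancel_mono U.ι, Category.assoc, morphismRestrict_ι, ← Category.assoc, hu'ι, hu,
      Category.id_comp]
  haveI : IsSeparated (f ∣_ U) :=
    MorphismProperty.of_isPullback (P := @IsSeparated) (isPullback_morphismRestrict f U).flip ‹_›
  haveI : IsClosedImmersion (u' ≫ (f ∣_ U)) := by rw [hsec]; infer_instance
  haveI : IsClosedImmersion u' := IsClosedImmersion.of_comp u' (f ∣_ U)
  have hcl' : IsClosed (Set.range u') := u'.isClosedEmbedding.isClosed_range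
  have hmem : (⟨x₀, hfU⟩ : (f ⁻¹ᵁ U).toScheme) ∈ closure (Set.range u') := by
    rw [(f ⁻¹ᵁ U).ι.isOpenEmbedding.isInducing.closure_eq_preimage_closure_image]
    show x₀ ∈ closure ((f ⁻¹ᵁ U).ι '' Set.range u')
    rw [← Set.range_comp]
    have : (⇑(f ⁻¹ᵁ U).ι ∘ ⇑u') = ⇑u := by
      funext t
      exact congrArg (fun φ : U.toScheme ⟶ X => φ t) hu'ι
    rw [this]
    exact hx₀
  rw [hcl'.closure_eq] at hmem
  obtain ⟨t, ht⟩ := hmem
  refine ⟨t, ?_⟩
  have h1 : u t = (f ⁻¹ᵁ U).ι (u' t) := (congrArg (fun φ : U.toScheme ⟶ X => φ t) hu'ι).symm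
  rw [h1, ht]
  rfl


end Groth.Agent.S5995
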