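import Groth.Statements.S5999
import Groth.Agent.Lib.Helper72.Jacobian

set_option autoImplicit false
universe u
open SGA1

namespace Groth.Agent.S5999

open TensorProduct in
/-- Let R be a Noetherian ring, A an R-algebra of finite type, F an element of A, P a prime ideal of
A/(F) and q its preimage in A, and suppose A is smooth over R at q. Then the hypersurface A/(F) is
smooth over R at P if and only if either F is zero in the local ring A_q (F vanishes on a
neighbourhood of q) or the image dF(q) of the differential of F in κ(q) ⊗_A Ω_{A/R} is nonzero. -/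
theorem result
    (R A : Type u) [CommRing R] [CommRing A] [IsNoetherianRing R] [Algebra R A] [Algebra.FiniteType R A]
    (F : A) (P : Ideal (A ⧸ Ideal.span ({F} : Set A))) [P.IsPrime]
    (hX : Algebra.IsSmoothAt R (P.comap (Ideal.Quotient.mk (Ideal.span ({F} : Set A))))) :
    letI q : Ideal A := P.comap (Ideal.Quotient.mk (Ideal.span ({F} : Set A)))
    Algebra.IsSmoothAt R P ↔ algebraMap A (Localization.AtPrime q) F = 0 ∨
      (1 : q.ResidueField) ⊗ₜ[A] KaehlerDifferential.D R A F ≠ 0 := by
  have hI : (Ideal.span ({F} : Set A)).FG := ⟨{F}, by simp⟩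
  have : Algebra.FormallySmooth R
      (Localization.AtPrime (P.comap (Ideal.Quotient.mk (Ideal.span ({F} : Set A))))) := hX
  have : Algebra.EssFiniteType A
      (Localization.AtPrime (P.comap (Ideal.Quotient.mk (Ideal.span ({F} : Set A))))) :=
    Algebra.EssFiniteType.of_isLocalization _
      (P.comap (Ideal.Quotient.mk (Ideal.span ({F} : Set A)))).primeCompl
  have : Algebra.EssFiniteType R
      (Localization.AtPrime (P.comap (Ideal.Quotient.mk (Ideal.span ({F} : Set A))))) :=
    Algebra.EssFiniteType.comp R A _
  exact (Groth.Agent.Lib.Helper72.Jac.smooth_iff_injective_jac R A _ P hI).trans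
    (Groth.Agent.Lib.Helper72.Jac.injective_jac_singleton_iff R A F P)

end Groth.Agent.S5999
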