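import Groth.Statements.S6001
import Groth.Agent.Lib.Helper67.AnRedEtale

set_option autoImplicit false
universe u
open SGA1

namespace Groth.Agent.S6001

/-- Let A be a Noetherian local ring which is analytically reduced (its completion has no nonzero
nilpotents), and let B be the local ring at a prime q, lying over the maximal ideal of A, of an
A-algebra C of finite type that is etale over A at q (an etale local homomorphism A ⟶ B). Then B is
analytically reduced, and in particular reduced. -/
theorem result (A C : Type u) [CommRing A] [IsLocalRing A]
    [IsNoetherianRing A] [CommRing C] [Algebra A C] [Algebra.FiniteType A C] (q : Ideal C) [q.IsPrime]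
    (hq : Ideal.comap (algebraMap A C) q = IsLocalRing.maximalIdeal A) (hC : Algebra.IsEtaleAt A q)
    (hA : IsReduced (AdicCompletion (IsLocalRing.maximalIdeal A) A)) :
    IsReduced (AdicCompletion (IsLocalRing.maximalIdeal (Localization.AtPrime q)) (Localization.AtPrime q)) ∧
      IsReduced (Localization.AtPrime q) := by
  have h1 := Groth.Agent.Lib.Helper67.AnRedEtale.isReduced_cpl_of_isEtaleAt A C q hq hC hA
  refine ⟨h1, ?_⟩
  haveI hCN : IsNoetherianRing C := Algebra.FiniteType.isNoetherianRing A C
  haveI : IsNoetherianRing (Localization.AtPrime q) :=
    IsLocalization.isNoetherianRing q.primeCompl _ inferInstance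
  have hinj : Function.Injective (algebraMap (Localization.AtPrime q)
      (AdicCompletion (IsLocalRing.maximalIdeal (Localization.AtPrime q))
        (Localization.AtPrime q))) := by
    intro x y h
    exact AdicCompletion.of_injective (IsLocalRing.maximalIdeal (Localization.AtPrime q))
      (Localization.AtPrime q) h
  exact isReduced_of_injective _ hinj

end Groth.Agent.S6001
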