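import Mathlib
import Groth.Statements.S6003
import Groth.Agent.Lib.Helper9.TorsorSch
import Groth.Agent.S0079
import Groth.Agent.S9867

set_option autoImplicit false
universe u
open CategoryTheory AlgebraicGeometry
open SGA1

namespace Groth.Agent.S6003

open MonoidalCategory CartesianMonoidalCategory MonObj GrpObj in
theorem surjective_hom {S : Scheme.{u}} (G : Over S) [GrpObj G] : Surjective G.hom := by
  refine ⟨fun x => ⟨(η[G]).left x, ?_⟩⟩
  rw [← Scheme.Hom.comp_apply, Over.w η[G]]
  rfl

/-- Let G be an S-group scheme which is flat and quasi-compact over S and let G act on the S-scheme X.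
Then X is a principal homogeneous bundle under G (a pseudo-torsor which acquires sections on the
members of some fpqc covering family of S) if and only if X is formally principal homogeneous (a
pseudo-torsor) and the structure morphism X → S is faithfully flat and quasi-compact. -/
theorem result {S : Scheme.{u}}
    (G X : Over S) [GrpObj G] [Flat G.hom] [QuasiCompact G.hom] (a : AlgGrp.Action G X) :
    NonAbH1.IsTorsorFor Scheme.fpqcPrecoverage a ↔
      (NonAbH1.IsPseudoTorsorSch a ∧ Surjective X.hom ∧ Flat X.hom ∧ QuasiCompact X.hom) := by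
  constructor
  · intro h
    refine ⟨h.1, ?_, ?_, ?_⟩
    · exact Groth.Agent.Lib.Helper9.TorsorSch.prop_of_isTorsorFor_fpqc @Surjective
        inferInstance a h (surjective_hom G)
    · exact Groth.Agent.Lib.Helper9.TorsorSch.prop_of_isTorsorFor_fpqc @Flat
        Groth.Agent.S9867.flat_descendsAlong a h inferInstance
    · exact Groth.Agent.Lib.Helper9.TorsorSch.prop_of_isTorsorFor_fpqc @QuasiCompact
        Groth.Agent.S0079.result a h inferInstance
  · rintro ⟨hps, hsurj, hflat, hqc⟩
    refine ⟨hps, Presieve.singleton X.hom, Scheme.Hom.singleton_mem_fpqcPrecoverage X.hom, ?_⟩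
    rintro S' f ⟨⟩
    exact ⟨𝟙 _, Category.id_comp _⟩

end Groth.Agent.S6003
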