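import Groth.Statements.S6005
import Groth.Agent.S18975
import Groth.Agent.Lib.Helper5.FpqcLocal
import Groth.Agent.Lib.Lead.GmTorsor
import Groth.Agent.Lib.Lead.ZariskiSpread
import Mathlib.AlgebraicGeometry.Morphisms.LocalFlatDescent

set_option autoImplicit false
universe u
open CategoryTheory AlgebraicGeometry
open SGA1

namespace Groth.Agent.S6005

/-- Every principal homogeneous bundle under the multiplicative group over S (a pseudo-torsor which
acquires sections on the members of some fpqc covering family of S) is locally trivial, i.e. is a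
torsor for the Zariski topology: S is covered by open subschemes over which it acquires sections.
(The published statement covers every S-group isomorphic to the general linear group of any rank;
this row is the rank-one case.) -/
theorem result {S : Scheme.{u}} (X : Over S)
    (a : AlgGrp.Action (Red.Gm S) X) (h : NonAbH1.IsTorsorFor Scheme.fpqcPrecoverage a) :
    NonAbH1.IsTorsorFor Scheme.zariskiPrecoverage a := by
  obtain ⟨hps, Rc, hRq, hsec⟩ := h
  have hGm : Smooth (Red.Gm S).hom := Groth.Agent.Lib.Lead.GmTorsor.smooth_Gm S
  -- the cartesian square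
  have hprod : IsPullback (CartesianMonoidalCategory.fst X X) (CartesianMonoidalCategory.snd X X)
      (CartesianMonoidalCategory.toUnit X) (CartesianMonoidalCategory.toUnit X) :=
    IsPullback.of_is_product' (CartesianMonoidalCategory.tensorProductIsBinaryProduct X X)
      CartesianMonoidalCategory.isTerminalTensorUnit
  haveI : IsIso (CartesianMonoidalCategory.lift a.act
      (CartesianMonoidalCategory.snd (Red.Gm S) X)) := hps
  have hcart : IsPullback a.act (CartesianMonoidalCategory.snd (Red.Gm S) X)
      (CartesianMonoidalCategory.toUnit X) (CartesianMonoidalCategory.toUnit X) := by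
    refine IsPullback.of_iso hprod
      (asIso (CartesianMonoidalCategory.lift a.act
        (CartesianMonoidalCategory.snd (Red.Gm S) X))).symm
      (Iso.refl _) (Iso.refl _) (Iso.refl _) ?_ ?_ ?_ ?_
    · simp
    · simp
    · simp
    · simp
  have hφ : (CartesianMonoidalCategory.toUnit X).left = X.hom := Over.toUnit_left
  -- smoothness of X
  have hsm : Smooth X.hom := by
    apply Groth.Agent.Lib.Helper5.of_mem_fpqcPrecoverage @Smooth X.hom Rc hRq
    intro Y' f hf
    obtain ⟨s, hs⟩ := hsec f hf
    obtain ⟨top, sq⟩ := Groth.Agent.S18975.isPullback_of_section a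
      (CartesianMonoidalCategory.toUnit X) hcart
      (Y := MonoidalCategoryStruct.tensorUnit (Over S)) f s (by rw [hφ]; exact hs)
    rw [hφ] at sq
    have h1 : Smooth (Limits.pullback.snd (Red.Gm S).hom
        (f ≫ (MonoidalCategoryStruct.tensorUnit (Over S)).hom)) :=
      MorphismProperty.pullback_snd (P := @Smooth) _ _ hGm
    rw [← sq.isoPullback_hom_snd] at h1
    exact (MorphismProperty.cancel_left_of_respectsIso @Smooth _ _).mp h1
  -- surjectivity of X
  have hsurj : Function.Surjective X.hom := by
    intro y
    obtain ⟨𝒰, rfl⟩ := Precoverage.mem_iff_exists_zeroHypercover.mp hRq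
    have h2 := 𝒰.mem₀.2
    rw [Scheme.presieve₀_mem_precoverage_iff] at h2
    obtain ⟨i, y', hy'⟩ := h2.1 y
    obtain ⟨s, hs⟩ := hsec (𝒰.f i) (Presieve.ofArrows.mk i)
    refine ⟨s.base y', ?_⟩
    rw [← Scheme.Hom.comp_apply]
    rw [show s ≫ X.hom = 𝒰.f i from hs]
    exact hy'
  haveI : Smooth X.hom := hsm
  haveI : Surjective X.hom := ⟨hsurj⟩
  refine ⟨hps, ?_⟩
  apply Groth.Agent.Lib.Lead.ZariskiSpread.isLocallyTrivialFor_zariski_of_local X
  intro R _ j
  exact Groth.Agent.Lib.Lead.GmTorsor.exists_section_local X a hps R j

end Groth.Agent.S6005
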