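import Groth.Statements.S6006
import Groth.Agent.S18975
import Groth.Agent.S2094
import Groth.Agent.Lib.Helper5.FpqcLocal
import Groth.Agent.Lib.Lead.GaTorsor
import Mathlib.AlgebraicGeometry.Morphisms.LocalFlatDescent

set_option autoImplicit false
universe u
open CategoryTheory AlgebraicGeometry
open SGA1

namespace Groth.Agent.S6006

/-- Every principal homogeneous bundle under the additive group over S (a pseudo-torsor which acquires
sections on the members of some fpqc covering family of S) is locally trivial, i.e. is a torsor for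
the Zariski topology: S is covered by open subschemes over which it acquires sections. -/
theorem result {S : Scheme.{u}} (X : Over S)
    (a : AlgGrp.Action (Red.Ga S) X) (h : NonAbH1.IsTorsorFor Scheme.fpqcPrecoverage a) :
    NonAbH1.IsTorsorFor Scheme.zariskiPrecoverage a := by
  obtain ⟨hps, Rc, hRq, hsec⟩ := h
  -- the additive group is smooth
  have hGaZ : Smooth (Red.GaZ.{u}).hom := by
    change Smooth (Spec.map (CommRingCat.ofHom (algebraMap (ULift.{u} ℤ)
      (SymmetricAlgebra (ULift.{u} ℤ) (ULift.{u} ℤ)))))
    rw [HasRingHomProperty.Spec_iff (P := @Smooth)]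
    exact RingHom.smooth_algebraMap.mpr
      (Groth.Agent.S2094.result.mpr ⟨inferInstance, inferInstance⟩)
  have hGa : Smooth (Red.Ga S).hom := by
    haveI := hGaZ
    change Smooth (Limits.pullback.snd _ _)
    infer_instance
  -- the cartesian square
  have hprod : IsPullback (CartesianMonoidalCategory.fst X X) (CartesianMonoidalCategory.snd X X)
      (CartesianMonoidalCategory.toUnit X) (CartesianMonoidalCategory.toUnit X) :=
    IsPullback.of_is_product' (CartesianMonoidalCategory.tensorProductIsBinaryProduct X X)
      CartesianMonoidalCategory.isTerminalTensorUnit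
  haveI : IsIso (CartesianMonoidalCategory.lift a.act
      (CartesianMonoidalCategory.snd (Red.Ga S) X)) := hps
  have hcart : IsPullback a.act (CartesianMonoidalCategory.snd (Red.Ga S) X)
      (CartesianMonoidalCategory.toUnit X) (CartesianMonoidalCategory.toUnit X) := by
    refine IsPullback.of_iso hprod
      (asIso (CartesianMonoidalCategory.lift a.act
        (CartesianMonoidalCategory.snd (Red.Ga S) X))).symm
      (Iso.refl _) (Iso.refl _) (Iso.refl _) ?_ ?_ ?_ ?_
    · simp
    · simp
    · simp
    · simp
  have hφ : (CartesianMonoidalCategory.toUnit X).left = X.hom := Over.toUnit_left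
  -- smoothness of X
  have hsm : Smooth X.hom := by
    apply Groth.Agent.Lib.Helper5.of_mem_fpqcPrecoverage @Smooth X.hom Rc hRq
    intro Y' f hf
    obtain ⟨s, hs⟩ := hsec f hf
    obtain ⟨top, sq⟩ := Groth.Agent.S18975.isPullback_of_section a
      (CartesianMonoidalCategory.toUnit X) hcart
      (Y := MonoidalCategoryStruct.tensorUnit (Over S)) f s (by rw [hφ]; exact hs)
    rw [hφ] at sq
    have h1 : Smooth (Limits.pullback.snd (Red.Ga S).hom
        (f ≫ (MonoidalCategoryStruct.tensorUnit (Over S)).hom)) :=
      MorphismProperty.pullback_snd (P := @Smooth) _ _ hGa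
    rw [← sq.isoPullback_hom_snd] at h1
    exact (MorphismProperty.cancel_left_of_respectsIso @Smooth _ _).mp h1
  -- surjectivity of X
  have hsurj : Function.Surjective X.hom := by
    intro y
    obtain ⟨𝒰, rfl⟩ := Precoverage.mem_iff_exists_zeroHypercover.mp hRq
    have h2 := 𝒰.mem₀.2
    rw [Scheme.presieve₀_mem_precoverage_iff] at h2
    obtain ⟨i, y', hy'⟩ := h2.1 y
    obtain ⟨s, hs⟩ := hsec (𝒰.f i) (Presieve.ofArrows.mk i)
    refine ⟨s.base y', ?_⟩
    rw [← Scheme.Hom.comp_apply]
    rw [show s ≫ X.hom = 𝒰.f i from hs]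
    exact hy'
  haveI : Smooth X.hom := hsm
  haveI : Surjective X.hom := ⟨hsurj⟩
  refine ⟨hps, ?_⟩
  let 𝒲 := S.affineOpenCover
  refine ⟨𝒲.openCover.presieve₀, 𝒲.openCover.mem₀, ?_⟩
  rintro _ _ ⟨i⟩
  exact Groth.Agent.Lib.Lead.GaTorsor.exists_section X a hps (𝒲.X i) (𝒲.f i)

end Groth.Agent.S6006
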