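import Mathlib
import Groth.Statements.S6011
import Groth.Agent.Lib.Helper9.TorsorSch

set_option autoImplicit false
universe u
open CategoryTheory AlgebraicGeometry
open SGA1

namespace Groth.Agent.S6011

open MonoidalCategory CartesianMonoidalCategory MonObj GrpObj in
/-- An S-scheme X with an action of the S-group G is trivial — equivariantly isomorphic over S to G
acting on itself by translation — if and only if it is formally principal homogeneous (a
pseudo-torsor) and admits a section over S. -/
theorem result {S : Scheme.{u}}
    (G X : Over S) [GrpObj G] (a : AlgGrp.Action G X) :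
    Nonempty (NonAbH1.EquivIso (NonAbH1.trivialAction G) a) ↔
      (NonAbH1.IsPseudoTorsorSch a ∧ NonAbH1.HasSectionOver X (𝟙 S)) := by
  constructor
  · rintro ⟨e⟩
    refine ⟨Groth.Agent.Lib.Helper9.TorsorSch.isPseudoTorsorSch_of_equivIso e
      (NonAbH1.isPseudoTorsorSch_trivialAction G), (η[G] ≫ e.iso.hom).left, ?_⟩
    exact Over.w (η[G] ≫ e.iso.hom)
  · rintro ⟨h, s, hs⟩
    exact ⟨Groth.Agent.Lib.Helper9.TorsorSch.equivIsoOfSection a h
      (Groth.Agent.Lib.Helper9.TorsorSch.sectionHom s hs)⟩

end Groth.Agent.S6011
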