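import Groth.Statements.S6012
-- import your own Groth.Agent.* helpers here

set_option autoImplicit false
open CategoryTheory
universe v₁ v₂ u₁ u₂
open FibCat FibCat.Cleavage

namespace Groth.Agent.S6012

section aux

variable {𝒮 : Type u₁} {𝒳 : Type u₂} [Category.{v₁} 𝒮] [Category.{v₂} 𝒳] {p : 𝒳 ⥤ 𝒮}
  (K : FibCat.Cleavage p)

set_option backward.isDefEq.respectTransparency false in
set_option backward.isDefEq.respectTransparency.types false in
lemma isIso_comp_app [p.IsFibered] {R S T : 𝒮} (f : T ⟶ S) (g : R ⟶ T) (a : p.Fiber S) :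
    IsIso ((K.comp f g).app a) := by
  have hc : p.IsCartesian (g ≫ f) (K.lift (K.obj_proj a.2 f) g ≫ K.lift a.2 f) := inferInstance
  refine ⟨⟨Functor.Fiber.homMk p R (Functor.IsCartesian.map p (g ≫ f)
      (K.lift (K.obj_proj a.2 f) g ≫ K.lift a.2 f) (K.lift a.2 (g ≫ f))), ?_, ?_⟩⟩
  · apply Functor.Fiber.hom_ext
    have h1 : p.IsHomLift (𝟙 R) (Functor.Fiber.fiberInclusion.map ((K.comp f g).app a ≫
      Functor.Fiber.homMk p R (Functor.IsCartesian.map p (g ≫ f)
      (K.lift (K.obj_proj a.2 f) g ≫ K.lift a.2 f) (K.lift a.2 (g ≫ f))))) := inferInstance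
    have h2 : p.IsHomLift (𝟙 R) (Functor.Fiber.fiberInclusion.map
      (𝟙 ((K.inverseImage f ⋙ K.inverseImage g).obj a))) := inferInstance
    apply Functor.IsCartesian.ext p (g ≫ f) (K.lift (K.obj_proj a.2 f) g ≫ K.lift a.2 f)
    simp only [Functor.map_comp, Category.assoc, FibCat.Cleavage.comp_app,
      Functor.Fiber.fiberInclusion_homMk, Functor.IsCartesian.fac, Functor.map_id]
    exact (Category.id_comp _).symm
  · apply Functor.Fiber.hom_ext
    have h1 : p.IsHomLift (𝟙 R) (Functor.Fiber.fiberInclusion.map (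
      Functor.Fiber.homMk p R (Functor.IsCartesian.map p (g ≫ f)
      (K.lift (K.obj_proj a.2 f) g ≫ K.lift a.2 f) (K.lift a.2 (g ≫ f))) ≫
      (K.comp f g).app a)) := inferInstance
    have h2 : p.IsHomLift (𝟙 R) (Functor.Fiber.fiberInclusion.map
      (𝟙 ((K.inverseImage (g ≫ f)).obj a))) := inferInstance
    apply Functor.IsCartesian.ext p (g ≫ f) (K.lift a.2 (g ≫ f))
    simp only [Functor.map_comp, Category.assoc, FibCat.Cleavage.comp_app,
      Functor.Fiber.fiberInclusion_homMk, Functor.IsCartesian.fac, Functor.map_id]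
    exact (Category.id_comp _).symm

set_option backward.isDefEq.respectTransparency false in
set_option backward.isDefEq.respectTransparency.types false in
lemma comp_of_isIso (h : ∀ (R S T : 𝒮) (f : T ⟶ S) (g : R ⟶ T), IsIso (K.comp f g))
    {R S T : 𝒮} (f : R ⟶ S) (g : S ⟶ T) {a b c : 𝒳} (φ : a ⟶ b) (ψ : b ⟶ c)
    [p.IsCartesian f φ] [p.IsCartesian g ψ] : p.IsCartesian (f ≫ g) (φ ≫ ψ) := by
  have hc : p.obj c = T := IsHomLift.codomain_eq p g ψ
  let α := Functor.IsCartesian.domainUniqueUpToIso p g (K.lift hc g) ψ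
  have hψ' : ψ = α.hom ≫ K.lift hc g := by simp [α]
  have hb' : p.obj (K.obj hc g) = S := K.obj_proj hc g
  have : p.IsCartesian f (φ ≫ α.hom) := inferInstance
  let β := Functor.IsCartesian.domainUniqueUpToIso p f (K.lift hb' f) (φ ≫ α.hom)
  have hφ' : φ ≫ α.hom = β.hom ≫ K.lift hb' f := by simp [β]
  have := h R T S g f
  have : IsIso ((K.comp g f).app (Functor.Fiber.mk (p := p) hc)) := inferInstance
  let γ : K.obj hb' f ≅ K.obj hc (f ≫ g) :=
    asIso (Functor.Fiber.fiberInclusion.map ((K.comp g f).app (Functor.Fiber.mk (p := p) hc)))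
  have hγ : γ.hom ≫ K.lift hc (f ≫ g) = K.lift hb' f ≫ K.lift hc g :=
    Functor.IsCartesian.fac p (f ≫ g) (K.lift hc (f ≫ g)) _
  have key : φ ≫ ψ = (β ≪≫ γ).hom ≫ K.lift hc (f ≫ g) := by
    rw [hψ', ← Category.assoc, hφ', Iso.trans_hom, Category.assoc, Category.assoc, hγ]
  rw [key]
  have : p.IsHomLift (𝟙 R) γ.hom :=
    (inferInstance : p.IsHomLift (𝟙 R) (Functor.Fiber.fiberInclusion.map
      ((K.comp g f).app (Functor.Fiber.mk (p := p) hc))))
  have : p.IsHomLift (𝟙 R) (β ≪≫ γ).hom := by rw [Iso.trans_hom]; infer_instance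
  infer_instance

set_option backward.isDefEq.respectTransparency false in
set_option backward.isDefEq.respectTransparency.types false in
lemma main_aux :
    p.IsFibered ↔ ∀ (R S T : 𝒮) (f : T ⟶ S) (g : R ⟶ T), IsIso (K.comp f g) := by
  constructor
  · intro hp R S T f g
    have : ∀ a, IsIso ((K.comp f g).app a) := fun a => isIso_comp_app K f g a
    exact NatIso.isIso_of_isIso_app _
  · intro h
    exact { toIsPreFibered := K.isPreFibered
            comp := fun f g _ _ _ φ ψ _ _ => comp_of_isIso K h f g φ ψ }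

end aux

/-- Let `K` be a cleavage of an arbitrary functor `p : 𝒳 ⥤ 𝒮` (one chosen cartesian lift of every base
morphism at every object over its target; `p` is not assumed fibred). Then `p` is a fibred category
(composites of cartesian morphisms are cartesian) if and only if, for all composable base morphisms
`g : R ⟶ T` and `f : T ⟶ S`, the comparison natural transformation `c_{f,g}` from `g^* f^*` to
`(fg)^*` determined by `K` is an isomorphism. -/
theorem result (𝒮 : Type u₁) (𝒳 : Type u₂) [Category.{v₁} 𝒮] [Category.{v₂} 𝒳] (p : 𝒳 ⥤ 𝒮) (K : FibCat.Cleavage p) :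
    p.IsFibered ↔ ∀ (R S T : 𝒮) (f : T ⟶ S) (g : R ⟶ T), IsIso (K.comp f g) := by
  exact main_aux K

end Groth.Agent.S6012
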