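import Groth.Statements.S6013
import Groth.Agent.S6012

set_option autoImplicit false
open CategoryTheory
universe v₁ v₂ u₁ u₂
open FibCat FibCat.Cleavage

namespace Groth.Agent.S6013

section aux

variable {𝒮 : Type u₁} {𝒳 : Type u₂} [Category.{v₁} 𝒮] [Category.{v₂} 𝒳] {p : 𝒳 ⥤ 𝒮}
  (K : FibCat.Cleavage p)

set_option backward.isDefEq.respectTransparency false in
set_option backward.isDefEq.respectTransparency.types false in
lemma isIso_lift_id [p.IsFibered] {S : 𝒮} (a : p.Fiber S) : IsIso (K.lift a.2 (𝟙 S)) := by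
  have : p.IsStronglyCartesian (𝟙 S) (K.lift a.2 (𝟙 S)) := inferInstance
  exact Functor.IsStronglyCartesian.isIso_of_base_isIso p (𝟙 S) (K.lift a.2 (𝟙 S))

set_option backward.isDefEq.respectTransparency false in
set_option backward.isDefEq.respectTransparency.types false in
/-- the natural transformation `(𝟙 S)^* ⟶ 𝟭` given by the chosen lifts of the identity -/
noncomputable def idTrans (S : 𝒮) : K.inverseImage (𝟙 S) ⟶ 𝟭 (p.Fiber S) where
  app a := Functor.Fiber.homMk p S (K.lift a.2 (𝟙 S))
  naturality a b φ := by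
    apply Functor.Fiber.hom_ext
    exact Functor.IsCartesian.fac p (𝟙 S) (K.lift b.2 (𝟙 S)) _

set_option backward.isDefEq.respectTransparency false in
set_option backward.isDefEq.respectTransparency.types false in
lemma isIso_idTrans [p.IsFibered] (S : 𝒮) : IsIso (idTrans K S) := by
  have : ∀ a, IsIso ((idTrans K S).app a) := by
    intro a
    have h1 : IsIso (K.lift a.2 (𝟙 S)) := isIso_lift_id K a
    have h2 : p.IsHomLift (𝟙 S) (inv (K.lift a.2 (𝟙 S))) := inferInstance
    refine ⟨⟨Functor.Fiber.homMk p S (inv (K.lift a.2 (𝟙 S))), ?_, ?_⟩⟩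
    · apply Functor.Fiber.hom_ext
      exact IsIso.hom_inv_id (K.lift a.2 (𝟙 S))
    · apply Functor.Fiber.hom_ext
      exact IsIso.inv_hom_id (K.lift a.2 (𝟙 S))
  exact NatIso.isIso_of_isIso_app _

set_option backward.isDefEq.respectTransparency false in
set_option backward.isDefEq.respectTransparency.types false in
lemma nonempty_iso_id [p.IsFibered] {S : 𝒮} (h : S ⟶ S) (e : h = 𝟙 S) :
    Nonempty (K.inverseImage h ≅ 𝟭 (p.Fiber S)) := by
  subst e
  have := isIso_idTrans K S
  exact ⟨asIso (idTrans K S)⟩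

set_option backward.isDefEq.respectTransparency false in
set_option backward.isDefEq.respectTransparency.types false in
lemma main_aux [p.IsFibered] {S T : 𝒮} (f : T ⟶ S) [IsIso f] :
    (K.inverseImage f).IsEquivalence := by
  have hc := (Groth.Agent.S6012.result 𝒮 𝒳 p K).mp inferInstance
  have h1 : IsIso (K.comp f (inv f)) := hc S S T f (inv f)
  have h2 : IsIso (K.comp (inv f) f) := hc T T S (inv f) f
  obtain ⟨e1⟩ := nonempty_iso_id K (inv f ≫ f) (IsIso.inv_hom_id f)
  obtain ⟨e2⟩ := nonempty_iso_id K (f ≫ inv f) (IsIso.hom_inv_id f)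
  exact (CategoryTheory.Equivalence.mk (K.inverseImage f) (K.inverseImage (inv f))
    ((asIso (K.comp f (inv f)) ≪≫ e1).symm) (asIso (K.comp (inv f) f) ≪≫ e2)).isEquivalence_functor

end aux

/-- Let `p : 𝒳 ⥤ 𝒮` be a fibred category with a cleavage `K`, and let `f : T ⟶ S` be an isomorphism of
the base. Then the inverse-image functor `f^*` of `K`, from the fibre over `S` to the fibre over
`T`, is an equivalence of categories. -/
theorem result (𝒮 : Type u₁) (𝒳 : Type u₂) [Category.{v₁} 𝒮] [Category.{v₂} 𝒳] (p : 𝒳 ⥤ 𝒮) [p.IsFibered] (K : FibCat.Cleavage p)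
    (S T : 𝒮) (f : T ⟶ S) [IsIso f] : (K.inverseImage f).IsEquivalence := by
  exact main_aux K f

end Groth.Agent.S6013
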