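import Groth.Statements.S6018
-- import your own Groth.Agent.* helpers here

set_option autoImplicit false
open CategoryTheory
universe v₁ v₂ v₃ u₁ u₂ u₃
open FibCat FibCat.Cleavage

namespace Groth.Agent.S6018

section aux

variable {𝒮 : Type u₁} {𝒳 : Type u₂} [Category.{v₁} 𝒮] [Category.{v₂} 𝒳] {p : 𝒳 ⥤ 𝒮}
  (K : FibCat.Cleavage p) {C : Type u₃} [Category.{v₃} C] {F G : 𝒳 ⥤ C}

set_option backward.isDefEq.respectTransparency false in
set_option backward.isDefEq.respectTransparency.types false in
lemma nat_aux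
    (u : ∀ S : 𝒮, (Functor.Fiber.fiberInclusion ⋙ F : p.Fiber S ⥤ C) ⟶
      Functor.Fiber.fiberInclusion ⋙ G)
    (hu : ∀ ⦃T S : 𝒮⦄ (f : T ⟶ S) (a : p.Fiber S),
      F.map ((K.transport f).app a) ≫ (u S).app a =
        (u T).app ((K.inverseImage f).obj a) ≫ G.map ((K.transport f).app a))
    {T S : 𝒮} (f : T ⟶ S) (a' : p.Fiber S) (b' : p.Fiber T)
    (φ : Functor.Fiber.fiberInclusion.obj b' ⟶ Functor.Fiber.fiberInclusion.obj a')
    [p.IsHomLift f φ] :
    F.map φ ≫ (u S).app a' = (u T).app b' ≫ G.map φ := by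
  let χ : Functor.Fiber.fiberInclusion.obj b' ⟶ K.obj a'.2 f :=
    Functor.IsCartesian.map p f (K.lift a'.2 f) φ
  have hχ : χ ≫ K.lift a'.2 f = φ := Functor.IsCartesian.fac p f (K.lift a'.2 f) φ
  have hχlift : p.IsHomLift (𝟙 T) χ := inferInstance
  let χ' : b' ⟶ (K.inverseImage f).obj a' := ⟨χ, hχlift⟩
  have h1 : F.map (K.lift a'.2 f) ≫ (u S).app a' =
      (u T).app ((K.inverseImage f).obj a') ≫ G.map (K.lift a'.2 f) := hu f a'
  have h2 : F.map χ ≫ (u T).app ((K.inverseImage f).obj a') =
      (u T).app b' ≫ G.map χ := (u T).naturality χ'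
  have e1 : F.map φ = F.map χ ≫ F.map (K.lift a'.2 f) := by rw [← F.map_comp, hχ]
  have e2 : G.map φ = G.map χ ≫ G.map (K.lift a'.2 f) := by rw [← G.map_comp, hχ]
  rw [e1, e2]
  refine Eq.trans (Category.assoc _ _ _) ?_
  refine Eq.trans (congrArg (fun t => F.map χ ≫ t) h1) ?_
  refine Eq.trans (Category.assoc _ _ _).symm ?_
  refine Eq.trans (congrArg (fun t => t ≫ G.map (K.lift a'.2 f)) h2) ?_
  exact Category.assoc _ _ _

set_option backward.isDefEq.respectTransparency false in
set_option backward.isDefEq.respectTransparency.types false in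
lemma main_aux
    (u : ∀ S : 𝒮, (Functor.Fiber.fiberInclusion ⋙ F : p.Fiber S ⥤ C) ⟶
      Functor.Fiber.fiberInclusion ⋙ G)
    (hu : ∀ ⦃T S : 𝒮⦄ (f : T ⟶ S) (a : p.Fiber S),
      F.map ((K.transport f).app a) ≫ (u S).app a =
        (u T).app ((K.inverseImage f).obj a) ≫ G.map ((K.transport f).app a)) :
    ∃! v : F ⟶ G, ∀ (S : 𝒮) (a : p.Fiber S), v.app a.1 = (u S).app a := by
  refine ⟨{ app := fun x => (u (p.obj x)).app (Functor.Fiber.mk (p := p) (rfl : p.obj x = p.obj x))
            naturality := fun b a φ =>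
              nat_aux K u hu (p.map φ) (Functor.Fiber.mk (p := p) (rfl : p.obj a = p.obj a))
                (Functor.Fiber.mk (p := p) (rfl : p.obj b = p.obj b)) φ }, ?_, ?_⟩
  · intro S a
    obtain ⟨x, rfl⟩ := a
    rfl
  · intro v' hv'
    ext x
    exact hv' (p.obj x) (Functor.Fiber.mk (p := p) (rfl : p.obj x = p.obj x))

end aux


/-- Let `K` be a cleavage of a functor `p : 𝒳 ⥤ 𝒮` (neither fibredness nor normalisation is assumed),
let `F, G : 𝒳 ⥤ C` be functors, and for every object `S` of the base let `u_S` be a natural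
transformation between the restrictions of `F` and `G` to the fibre over `S`. If the family is
compatible with the transport morphisms `α_f(a) : f^* a ⟶ a` of `K`, i.e. `G(α_f(a)) ∘ u_T(f^* a) =
u_S(a) ∘ F(α_f(a))` for every base morphism `f : T ⟶ S` and every `a` over `S`, then there is
exactly one natural transformation `F ⟶ G` whose component at every object is the prescribed one.
(The published statement is an isomorphism between the category of all functors `𝒳 ⥤ C` and the
category of compatible families of functors on the fibres of a normalised cloven category; this row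
is its assertion on morphisms, whose published proof does not use the normalisation, so none is
assumed here.) -/
theorem result (𝒮 : Type u₁) (𝒳 : Type u₂) [Category.{v₁} 𝒮]
    [Category.{v₂} 𝒳] (p : 𝒳 ⥤ 𝒮) (K : FibCat.Cleavage p) (C : Type u₃) [Category.{v₃} C] (F G : 𝒳 ⥤ C)
    (u : ∀ S : 𝒮, (Functor.Fiber.fiberInclusion ⋙ F : p.Fiber S ⥤ C) ⟶ Functor.Fiber.fiberInclusion ⋙ G)
    (hu : ∀ ⦃T S : 𝒮⦄ (f : T ⟶ S) (a : p.Fiber S),
      F.map ((K.transport f).app a) ≫ (u S).app a = (u T).app ((K.inverseImage f).obj a) ≫ G.map ((K.transport f).app a)) :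
    ∃! v : F ⟶ G, ∀ (S : 𝒮) (a : p.Fiber S), v.app a.1 = (u S).app a := by
  exact main_aux K u hu

end Groth.Agent.S6018
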