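import Groth.Statements.S6019
-- import your own Groth.Agent.* helpers here

set_option autoImplicit false
open CategoryTheory
universe v₁ v₂ u₁ u₂
open FibCat FibCat.Cleavage

namespace Groth.Agent.S6019

section aux

variable {𝒮 : Type u₁} {𝒳 : Type u₂} [Category.{v₁} 𝒮] [Category.{v₂} 𝒳] (p : 𝒳 ⥤ 𝒮)

set_option backward.isDefEq.respectTransparency false in
set_option backward.isDefEq.respectTransparency.types false in
lemma exists_norm [p.IsPreFibered] {R S : 𝒮} {a : 𝒳} (ha : p.obj a = S) (f : R ⟶ S) :
    ∃ (b : 𝒳) (φ : b ⟶ a), p.IsCartesian f φ ∧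
      ((∃ e : R = S, f = eqToHom e) → ∃ h : b = a, φ = eqToHom h) := by
  by_cases h : ∃ e : R = S, f = eqToHom e
  · obtain ⟨e, rfl⟩ := h
    subst e
    refine ⟨a, 𝟙 a, ?_, fun _ => ⟨rfl, rfl⟩⟩
    have : p.IsHomLift (𝟙 R) (𝟙 a) := IsHomLift.id ha
    rw [eqToHom_refl]
    infer_instance
  · exact ⟨Functor.IsPreFibered.pullbackObj ha f, Functor.IsPreFibered.pullbackMap ha f,
      inferInstance, fun h' => absurd h' h⟩

set_option backward.isDefEq.respectTransparency false in
set_option backward.isDefEq.respectTransparency.types false in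
lemma main_aux [p.IsPreFibered] : ∃ K : FibCat.Cleavage p, K.IsNormalised := by
  refine ⟨{ obj := fun ha f => (exists_norm p ha f).choose
            lift := fun ha f => (exists_norm p ha f).choose_spec.choose
            isCartesian := fun ha f => (exists_norm p ha f).choose_spec.choose_spec.1 }, ?_⟩
  intro S a ha
  exact (exists_norm p ha (𝟙 S)).choose_spec.choose_spec.2 ⟨rfl, by simp⟩

end aux

/-- A pre-fibred category admits a normalised cleavage: if every base morphism `R ⟶ p(a)` has a
cartesian morphism over it with target `a`, then one cartesian lift can be chosen for every base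
morphism at every object over its target in such a way that the chosen lift of each identity `𝟙 S`
at each object `a` over `S` is the identity of `a` (identities are transport morphisms). -/
theorem result (𝒮 : Type u₁) (𝒳 : Type u₂) [Category.{v₁} 𝒮] [Category.{v₂} 𝒳]
    (p : 𝒳 ⥤ 𝒮) [p.IsPreFibered] : ∃ K : FibCat.Cleavage p, K.IsNormalised := by
  exact main_aux p

end Groth.Agent.S6019
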