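import Groth.Statements.S6033
import Groth.Agent.Lib.Helper42.LCSpec3

set_option autoImplicit false
universe u
open CategoryTheory CategoryTheory.Limits TopologicalSpace AlgebraicGeometry
open LocCohZ

namespace Groth.Agent.S6033

/-- Let A be a commutative ring such that the underlying space of X = Spec A is Noetherian. Then M~ is
flasque for every injective A-module M if and only if colim_n H^1(f^n, M) = 0 (direct limit of
Koszul cohomology of the powers) for every finite family f of elements of A and every injective
A-module M; and in that case colim_n H^i(f^n, M) = 0 for all i > 0 as well. -/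
theorem result (A : Type u) [CommRing A]
    [NoetherianSpace (PrimeSpectrum A)] :
    ((∀ (M : Type u) [AddCommGroup M] [Module A M], Module.Injective A M →
        TopCat.Sheaf.IsFlasque (Coh.toAb (AlgebraicGeometry.tilde (R := CommRingCat.of A) (ModuleCat.of A M)))) ↔
      ∀ (fs : List A) (M : Type u) [AddCommGroup M] [Module A M], Module.Injective A M →
        Subsingleton (CohIII.koszulHLim fs (ModuleCat.of A M) 1)) ∧
    ((∀ (M : Type u) [AddCommGroup M] [Module A M], Module.Injective A M →
        TopCat.Sheaf.IsFlasque (Coh.toAb (AlgebraicGeometry.tilde (R := CommRingCat.of A) (ModuleCat.of A M)))) →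
      ∀ (fs : List A) (M : Type u) [AddCommGroup M] [Module A M], Module.Injective A M →
        ∀ i : ℕ, 0 < i → Subsingleton (CohIII.koszulHLim fs (ModuleCat.of A M) i)) := by
  refine ⟨⟨fun h fs M _ _ hM => ?_, fun h M _ _ hM => ?_⟩, fun h fs M _ _ hM i hi => ?_⟩
  · exact Groth.Agent.Lib.Helper42.LCSpec3.subsingleton_of_isFlasque A fs (ModuleCat.of A M)
      (h M hM) 1 Nat.one_pos
  · exact Groth.Agent.Lib.Helper42.LCSpec3.isFlasque_of_subsingleton A (ModuleCat.of A M)
      (fun fs => h fs M hM)
  · exact Groth.Agent.Lib.Helper42.LCSpec3.subsingleton_of_isFlasque A fs (ModuleCat.of A M)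
      (h M hM) i hi

end Groth.Agent.S6033
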