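import Groth.Statements.S6038
import Groth.Agent.S6026
import Groth.Agent.Lib.Helper42.DimKey
import Groth.Agent.Lib.Helper42.LCSingle2

set_option autoImplicit false
universe u
open CategoryTheory CategoryTheory.Limits TopologicalSpace AlgebraicGeometry
open LocCohZ

namespace Groth.Agent.S6038

/-- In the case F = O_X (where Ext^i_Y(O_X, G) is the local cohomology sheaf ℋ^i_Y(G)). Let X be a
locally Noetherian scheme whose local rings are all regular, Y a closed subset with open complement
U, G a coherent O_X-module with underlying abelian sheaf F, and i a natural number with dim O_{X,x}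
< i for every x ∈ Y. Then ℋ^i_Y(F) = 0. -/
theorem result (X : Scheme.{u}) [IsLocallyNoetherian X]
    (hreg : ∀ x : X, IsRegularLocalRing (X.presheaf.stalk x)) (U : X.Opens) (G : X.Modules) (hG : Coh.IsCoh G)
    (i : ℕ) (hi : ∀ x : X, x ∉ (U : Set X) → ringKrullDim (X.presheaf.stalk x) < (i : WithBot ℕ∞)) :
    IsZero ((LocCohZ.HZsh (X := X.carrier) U i).obj (Coh.toAb G)) := by
  have hB : Opens.IsBasis (X.affineOpens : Set X.Opens) := X.isBasis_affineOpens
  have hq : G.IsQuasicoherent := hG.1
  apply Groth.Agent.Lib.Helper42.LCSingle2.isZero_HZsh_of_basis_single (X := X.carrier) U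
    (X.affineOpens : Set X.Opens) hB i (Coh.toAb G)
  intro V' hV
  obtain ⟨V, rfl⟩ : ∃ V : X.Opens, V = V' := ⟨V', rfl⟩
  obtain ⟨e, -⟩ := Groth.Agent.S6026.result (X := X.carrier) (inf_le_left : V ⊓ U ≤ V) i
  have hW : ((Opens.map (CohCx.incl (X := X.carrier) V)).obj (V ⊓ U)) = V.ι ⁻¹ᵁ U := by
    apply Opens.ext
    ext y
    exact ⟨fun hy => hy.2, fun hy => ⟨y.2, hy⟩⟩
  have e' := e (Coh.toAb G)
  rw [hW] at e'
  refine e'.toEquiv.subsingleton_congr.2 ?_
  exact Groth.Agent.Lib.Helper42.DimKey.key G V hV U i (fun x _ hxU => hi x hxU)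

end Groth.Agent.S6038
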