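import Groth.Statements.S6041
import Groth.Agent.Lib.Helper5.QuotShDescend

set_option autoImplicit false
open CategoryTheory CategoryTheory.Limits AlgebraicGeometry MonoidalCategory
universe u
open GrpQ

namespace Groth.Agent.S6041

open CartesianMonoidalCategory in
/-- For schemes and the fppf topology, easy direction: let `s, t : R ⇉ U` be a pair of morphisms of
schemes over `S` (in the source an equivalence relation), `T` a scheme over `S` and `i : Z ⟶ U ×_S
T` such that `Z ⟶ T` is flat, surjective and locally of finite presentation and any two points of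
`Z` over the same point of `T` have `R`-related images in `U`. Then the composite `h_Z ⟶ h_U ⟶ U/R`
descends to exactly one section of the fppf quotient sheaf `U/R` over `T`. -/
theorem result {S : Scheme.{u}} {R U : Over S} (s t : R ⟶ U)
    (T Z : Over S) (i : Z ⟶ U ⊗ T)
    [Flat (i ≫ snd U T).left] [Surjective (i ≫ snd U T).left] [LocallyOfFinitePresentation (i ≫ snd U T).left]
    (hZZ : ∀ (T' : Over S) (z₁ z₂ : T' ⟶ Z), z₁ ≫ i ≫ snd U T = z₂ ≫ i ≫ snd U T →
      ∃ r : T' ⟶ R, r ≫ s = z₁ ≫ i ≫ fst U T ∧ r ≫ t = z₂ ≫ i ≫ fst U T) :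
    ∃! σ : QuotSh.rep Scheme.fppfPrecoverage T ⟶ QuotSh.quot Scheme.fppfPrecoverage s t,
      QuotSh.repMap Scheme.fppfPrecoverage (i ≫ fst U T) ≫ QuotSh.quotπ Scheme.fppfPrecoverage s t =
        QuotSh.repMap Scheme.fppfPrecoverage (i ≫ snd U T) ≫ σ := by
  haveI : Epi ((AlgSp.yon S).map (i ≫ CartesianMonoidalCategory.snd U T)) :=
    Groth.Agent.Lib.Helper5.QuotSchemes.epi_yon_map_of_fppf _
  obtain ⟨σ', hσ', huniq⟩ := Groth.Agent.Lib.Helper5.QuotShDescend.existsUnique_desc_of_epi
    ((AlgSp.yon S).map (i ≫ CartesianMonoidalCategory.snd U T))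
    ((AlgSp.yon S).map (i ≫ CartesianMonoidalCategory.fst U T) ≫ Groth.Agent.Lib.Helper5.quotπ' s t) (by
      intro T' g₁ g₂ hg
      obtain ⟨z₁, rfl⟩ := (AlgSp.yon S).map_surjective g₁
      obtain ⟨z₂, rfl⟩ := (AlgSp.yon S).map_surjective g₂
      rw [← Functor.map_comp, ← Functor.map_comp] at hg
      obtain ⟨r, hr1, hr2⟩ := hZZ T' z₁ z₂ ((AlgSp.yon S).map_injective hg)
      rw [← Category.assoc, ← Category.assoc, ← Functor.map_comp, ← Functor.map_comp, ← hr1, ← hr2,
        Functor.map_comp, Functor.map_comp, Category.assoc, Category.assoc,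
        Groth.Agent.Lib.Helper5.quotπ'_condition])
  have key : ∀ σ : QuotSh.rep Scheme.fppfPrecoverage T ⟶ QuotSh.quot Scheme.fppfPrecoverage s t,
      (QuotSh.repMap Scheme.fppfPrecoverage (i ≫ CartesianMonoidalCategory.fst U T) ≫
        QuotSh.quotπ Scheme.fppfPrecoverage s t =
        QuotSh.repMap Scheme.fppfPrecoverage (i ≫ CartesianMonoidalCategory.snd U T) ≫ σ) ↔
      (AlgSp.yon S).map (i ≫ CartesianMonoidalCategory.snd U T) ≫
        ((QuotSh.repIsoUliftYoneda Scheme.fppfPrecoverage T).inv ≫ σ) =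
        (AlgSp.yon S).map (i ≫ CartesianMonoidalCategory.fst U T) ≫
          Groth.Agent.Lib.Helper5.quotπ' s t := by
    intro σ
    have e1 : (AlgSp.yon S).map (i ≫ CartesianMonoidalCategory.snd U T) ≫
        ((QuotSh.repIsoUliftYoneda Scheme.fppfPrecoverage T).inv ≫ σ) =
        (QuotSh.repIsoUliftYoneda Scheme.fppfPrecoverage Z).inv ≫
          QuotSh.repMap Scheme.fppfPrecoverage (i ≫ CartesianMonoidalCategory.snd U T) ≫ σ := by
      rw [← Category.assoc, ← Groth.Agent.Lib.Helper5.repIso_inv_comp_repMap, Category.assoc]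
    have e2 : (AlgSp.yon S).map (i ≫ CartesianMonoidalCategory.fst U T) ≫
        Groth.Agent.Lib.Helper5.quotπ' s t =
        (QuotSh.repIsoUliftYoneda Scheme.fppfPrecoverage Z).inv ≫
          QuotSh.repMap Scheme.fppfPrecoverage (i ≫ CartesianMonoidalCategory.fst U T) ≫
            QuotSh.quotπ Scheme.fppfPrecoverage s t := by
      change _ ≫ (_ ≫ _) = _
      rw [← Category.assoc, ← Groth.Agent.Lib.Helper5.repIso_inv_comp_repMap, Category.assoc]
    rw [e1, e2, cancel_epi]
    exact eq_comm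
  refine ⟨(QuotSh.repIsoUliftYoneda Scheme.fppfPrecoverage T).hom ≫ σ', ?_, ?_⟩
  · change QuotSh.repMap Scheme.fppfPrecoverage (i ≫ CartesianMonoidalCategory.fst U T) ≫
        QuotSh.quotπ Scheme.fppfPrecoverage s t =
        QuotSh.repMap Scheme.fppfPrecoverage (i ≫ CartesianMonoidalCategory.snd U T) ≫ _
    rw [key, Iso.inv_hom_id_assoc]
    exact hσ'
  · intro σ hσ
    have h1 := huniq _ ((key σ).1 hσ)
    rw [← h1, Iso.hom_inv_id_assoc]

end Groth.Agent.S6041
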