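import Groth.Statements.S6047
import Groth.Agent.Lib.Helper72.SheafTensor
import Groth.Agent.Lib.Helper72.QuotGrp
import Mathlib.Tactic.Group

set_option autoImplicit false
open CategoryTheory CategoryTheory.Limits MonoidalCategory
universe w v₁ u₁
open ShfCat

namespace Groth.Agent.S6047

open Groth.Agent.Lib.Helper72

section abstract

set_option linter.unusedSectionVars false

open MonObj CartesianMonoidalCategory SemiCartesianMonoidalCategory

variable {E : Type*} [Category E] [CartesianMonoidalCategory E] [HasCoequalizers E]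
  [hpres : ∀ X : E, PreservesColimitsOfShape WalkingParallelPair (tensorLeft X)]
  {H G : E} [hH : GrpObj H] [hG : GrpObj G] (u : H ⟶ G)

lemma cond_elem {X : E} (x : X ⟶ G) (k : X ⟶ H) :
    (x * (k ≫ u)) ≫ coequalizer.π (fst G H) ((G ◁ u) ≫ μ) =
      x ≫ coequalizer.π (fst G H) ((G ◁ u) ≫ μ) := by
  have h := coequalizer.condition (fst G H) ((G ◁ u) ≫ μ)
  have h2 := congrArg (fun t => lift x k ≫ t) h
  simp only [lift_fst_assoc, lift_whiskerLeft_assoc, Category.assoc] at h2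
  rw [Hom.mul_def, Category.assoc]
  exact h2.symm

lemma comp_mul_eq {X : E} (k : X ⟶ G ⊗ G) : k ≫ μ = (k ≫ fst _ _) * (k ≫ snd _ _) := by
  rw [Hom.mul_def]
  congr 1
  ext <;> simp

lemma gu_eq : (G ◁ u) ≫ μ = fst G H * (snd G H ≫ u) := by
  rw [comp_mul_eq, whiskerLeft_fst, whiskerLeft_snd]

lemma act_cond' {Z : E} (p : G ⟶ Z)
    (hp : ∀ {X : E} (x : X ⟶ G) (k : X ⟶ H), (x * (k ≫ u)) ≫ p = x ≫ p) :
    G ◁ fst G H ≫ μ ≫ p = G ◁ ((G ◁ u) ≫ μ) ≫ μ ≫ p := by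
  have e1 : G ◁ fst G H ≫ μ = fst _ _ * (snd _ _ ≫ fst _ _) := by
    rw [comp_mul_eq]; simp
  have e2 : G ◁ ((G ◁ u) ≫ μ) ≫ μ =
      (fst _ _ * (snd _ _ ≫ fst _ _)) * ((snd _ _ ≫ snd _ _) ≫ u) := by
    rw [comp_mul_eq, whiskerLeft_fst, whiskerLeft_snd, gu_eq, MonObj.comp_mul, _root_.mul_assoc]
    simp only [Category.assoc]
  rw [← Category.assoc, ← Category.assoc (G ◁ _), e1, e2, hp]

noncomputable def act : G ⊗ coequalizer (fst G H) ((G ◁ u) ≫ μ) ⟶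
    coequalizer (fst G H) ((G ◁ u) ≫ μ) :=
  whiskerDesc (fst G H) ((G ◁ u) ≫ μ) G (μ ≫ coequalizer.π (fst G H) ((G ◁ u) ≫ μ))
    (act_cond' u _ (fun x k => cond_elem u x k))

lemma act_fac : G ◁ coequalizer.π (fst G H) ((G ◁ u) ≫ μ) ≫ act (hpres := hpres) u =
    μ ≫ coequalizer.π (fst G H) ((G ◁ u) ≫ μ) :=
  whisker_π_desc _ _ _ _ _

variable (hn : ∀ (Y : E) (g : Y ⟶ G) (h : Y ⟶ H), ∃ h' : Y ⟶ H, g * (h ≫ u) * g⁻¹ = h' ≫ u)

include hn in
lemma mul_cond : (fst G H ▷ coequalizer (fst G H) ((G ◁ u) ≫ μ)) ≫ act (hpres := hpres) u =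
    (((G ◁ u) ≫ μ) ▷ coequalizer (fst G H) ((G ◁ u) ≫ μ)) ≫ act (hpres := hpres) u := by
  apply whisker_π_hom_ext (fst G H) ((G ◁ u) ≫ μ) (G ⊗ H)
  rw [whisker_exchange_assoc, act_fac, whisker_exchange_assoc, act_fac]
  have e1 : fst G H ▷ G ≫ μ = (fst (G ⊗ H) G ≫ fst G H) * snd (G ⊗ H) G := by
    rw [comp_mul_eq, whiskerRight_fst, whiskerRight_snd]
  have e2 : ((G ◁ u) ≫ μ) ▷ G ≫ μ =
      ((fst (G ⊗ H) G ≫ fst G H) * ((fst (G ⊗ H) G ≫ snd G H) ≫ u)) * snd (G ⊗ H) G := by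
    rw [comp_mul_eq, whiskerRight_fst, whiskerRight_snd, gu_eq, MonObj.comp_mul]
    simp only [Category.assoc]
  obtain ⟨h', hh'⟩ := hn _ (snd (G ⊗ H) G)⁻¹ (fst (G ⊗ H) G ≫ snd G H)
  have e3 : ((fst (G ⊗ H) G ≫ fst G H) * ((fst (G ⊗ H) G ≫ snd G H) ≫ u)) * snd (G ⊗ H) G =
      ((fst (G ⊗ H) G ≫ fst G H) * snd (G ⊗ H) G) * (h' ≫ u) := by
    rw [← hh']; group
  rw [← Category.assoc, ← Category.assoc (((G ◁ u) ≫ μ) ▷ G), e1, e2, e3, cond_elem]

noncomputable def mulQ : coequalizer (fst G H) ((G ◁ u) ≫ μ) ⊗ coequalizer (fst G H) ((G ◁ u) ≫ μ) ⟶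
    coequalizer (fst G H) ((G ◁ u) ≫ μ) :=
  whiskerRightDesc (fst G H) ((G ◁ u) ≫ μ) _ (act (hpres := hpres) u) (mul_cond u hn)

lemma mulQ_fac : (coequalizer.π (fst G H) ((G ◁ u) ≫ μ) ⊗ₘ coequalizer.π (fst G H) ((G ◁ u) ≫ μ)) ≫
    mulQ (hpres := hpres) u hn = μ ≫ coequalizer.π (fst G H) ((G ◁ u) ≫ μ) := by
  rw [tensorHom_def', Category.assoc]
  erw [whiskerRight_π_desc]
  exact act_fac u

variable [hu : IsMonHom u]

include hn in
lemma inv_cond' {Z : E} (p : G ⟶ Z)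
    (hp : ∀ {X : E} (x : X ⟶ G) (k : X ⟶ H), (x * (k ≫ u)) ≫ p = x ≫ p) :
    fst G H ≫ ι ≫ p = ((G ◁ u) ≫ μ) ≫ ι ≫ p := by
  obtain ⟨h', hh'⟩ := hn _ (fst G H) (snd G H)⁻¹
  rw [GrpObj.inv_comp] at hh'
  have e3 : (fst G H * (snd G H ≫ u))⁻¹ = (fst G H)⁻¹ * (h' ≫ u) := by
    rw [← hh']; group
  rw [← Category.assoc, ← Category.assoc _ ι, gu_eq, ← Hom.inv_def, ← Hom.inv_def, e3, hp]

include hn in
lemma inv_cond : fst G H ≫ ι ≫ coequalizer.π (fst G H) ((G ◁ u) ≫ μ) =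
    ((G ◁ u) ≫ μ) ≫ ι ≫ coequalizer.π (fst G H) ((G ◁ u) ≫ μ) :=
  inv_cond' u hn _ (fun x k => cond_elem u x k)

noncomputable def invQ : coequalizer (fst G H) ((G ◁ u) ≫ μ) ⟶ coequalizer (fst G H) ((G ◁ u) ≫ μ) :=
  coequalizer.desc (ι ≫ coequalizer.π (fst G H) ((G ◁ u) ≫ μ)) (inv_cond u hn)

lemma invQ_fac : coequalizer.π (fst G H) ((G ◁ u) ≫ μ) ≫ invQ u hn =
    ι ≫ coequalizer.π (fst G H) ((G ◁ u) ≫ μ) :=
  coequalizer.π_desc _ _

include hn in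
theorem abstract_result :
    ∃! str : GrpObj (coequalizer (fst G H) ((G ◁ u) ≫ hG.mul)),
      @IsMonHom E _ _ G (coequalizer (fst G H) ((G ◁ u) ≫ hG.mul)) hG.toMonObj str.toMonObj
        (coequalizer.π (fst G H) ((G ◁ u) ≫ hG.mul)) := by
  have hst : StableEpi (coequalizer.π (fst G H) ((G ◁ u) ≫ hG.mul)) :=
    stableEpi_coequalizer_π _ _
  refine ⟨grpObjOfStableEpi _ hst (mulQ (hpres := hpres) u hn) (mulQ_fac u hn) (invQ u hn)
    (invQ_fac u hn), ?_, ?_⟩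
  · exact @IsMonHom.mk _ _ _ _ _ _ (_) _ rfl (mulQ_fac u hn).symm
  · intro str' hstr'
    apply GrpObj.ext
    apply MonObj.ext
    have := (hst.tensorHom hst).epi
    rw [← cancel_epi (coequalizer.π (fst G H) ((G ◁ u) ≫ hG.mul) ⊗ₘ
      coequalizer.π (fst G H) ((G ◁ u) ≫ hG.mul))]
    have h1 := @IsMonHom.mul_hom _ _ _ _ _ _ (_) _ hstr'
    rw [← h1]
    exact (mulQ_fac u hn).symm

end abstract

open MonObj CartesianMonoidalCategory SemiCartesianMonoidalCategory in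
/-- Let `u : H ⟶ G` be a monomorphism of sheaves of groups on a site identifying `H` with a normal
subgroup sheaf of `G`. Then the quotient sheaf `G/H` (the coequalizer, in sheaves of sets, of the
projection and the multiplication `G × H ⇉ G`) carries exactly one structure of sheaf of groups for
which the canonical map `G ⟶ G/H` is a homomorphism. Stated for sheaves of sets valued in `Type w`
whenever sheafification exists; group sheaves are group objects for the cartesian monoidal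
structure. -/
theorem result {C : Type u₁} [Category.{v₁} C]
    (J : GrothendieckTopology C) [HasSheafify J (Type w)]
    {H G : Sheaf J (Type w)} [hH : GrpObj H] [hG : GrpObj G] (u : H ⟶ G) [Mono u]
    (hu : @IsMonHom (Sheaf J (Type w)) _ _ H G hH.toMonObj hG.toMonObj u)
    (hn : ∀ (Y : Sheaf J (Type w)) (g : Y ⟶ G) (h : Y ⟶ H), ∃ h' : Y ⟶ H, g * (h ≫ u) * g⁻¹ = h' ≫ u) :
    ∃! str : GrpObj (coequalizer (fst G H) ((G ◁ u) ≫ hG.mul)),
      @IsMonHom (Sheaf J (Type w)) _ _ G (coequalizer (fst G H) ((G ◁ u) ≫ hG.mul)) hG.toMonObj str.toMonObj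
        (coequalizer.π (fst G H) ((G ◁ u) ≫ hG.mul)) := by
  have hp : ∀ X : Sheaf J (Type w),
      PreservesColimitsOfShape WalkingParallelPair (tensorLeft X) :=
    fun X => sheaf_tensorLeft_preservesCoequalizers J X
  exact abstract_result (hpres := hp) (hu := hu) u hn

end Groth.Agent.S6047
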