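import Groth.Statements.S6048
import Groth.Agent.Lib.Helper57.SheafSets

set_option autoImplicit false
open CategoryTheory CategoryTheory.Limits MonoidalCategory
universe w v₁ u₁
open ShfCat

namespace Groth.Agent.S6048

open Groth.Agent.Lib.Helper57

section parts

open CartesianMonoidalCategory SemiCartesianMonoidalCategory

variable {C : Type u₁} [Category.{v₁} C]
  (J : GrothendieckTopology C) [HasSheafify J (Type w)]
  {R X : Sheaf J (Type w)} {p₁ p₂ : R ⟶ X}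
  (e : UniversallyEffectiveEquivalenceRelation p₁ p₂) (Y : Sheaf J (Type w))

lemma exists_lift (Z : Sheaf J (Type w)) (ι : Z ⟶ X ⊗ Y) (hmono : Mono ι)
    (hstab : ∀ (W : Sheaf J (Type w)) (r : W ⟶ R) (y : W ⟶ Y),
        (∃ z : W ⟶ Z, z ≫ ι = lift (r ≫ p₁) y) ↔ (∃ z : W ⟶ Z, z ≫ ι = lift (r ≫ p₂) y))
    (hepi : Epi (ι ≫ snd X Y)) (f : Y ⟶ e.B)
    (hfac : (ι ≫ snd X Y) ≫ f = (ι ≫ fst X Y) ≫ e.π)
    {W : Sheaf J (Type w)} (a : W ⟶ X) (b : W ⟶ Y) (hab : a ≫ e.π = b ≫ f) :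
    ∃ z : W ⟶ Z, z ≫ ι = lift a b := by
  have hsq := (IsPullback.of_hasPullback (ι ≫ snd X Y) b).flip
  have hepi' : Epi (pullback.snd (ι ≫ snd X Y) b) := epi_of_isPullback_sheaf J hsq
  have hreg : IsRegularEpi (pullback.snd (ι ≫ snd X Y) b) :=
    IsRegularEpiCategory.regularEpiOfEpi _
  have heff : EffectiveEpi (pullback.snd (ι ≫ snd X Y) b) := inferInstance
  obtain ⟨w', hw'⟩ : ∃ w', w' = pullback.snd (ι ≫ snd X Y) b := ⟨_, rfl⟩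
  obtain ⟨z', hz'⟩ : ∃ z', z' = pullback.fst (ι ≫ snd X Y) b := ⟨_, rfl⟩
  have hcond : z' ≫ ι ≫ snd X Y = w' ≫ b := by
    rw [hw', hz']; exact pullback.condition
  rw [← hw'] at hepi' heff
  have hk : (z' ≫ ι ≫ fst X Y) ≫ e.π = (w' ≫ a) ≫ e.π := by
    have h1 : (z' ≫ ι ≫ fst X Y) ≫ e.π = z' ≫ (ι ≫ snd X Y) ≫ f := by
      rw [hfac]; simp only [Category.assoc]
    rw [h1]
    simp only [Category.assoc]
    rw [reassoc_of% hcond, hab]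
  have hr1 := e.isKernelPair.lift_fst _ _ hk
  have hr2 := e.isKernelPair.lift_snd _ _ hk
  obtain ⟨r, hr⟩ : ∃ r, r = e.isKernelPair.lift _ _ hk := ⟨_, rfl⟩
  rw [← hr] at hr1 hr2
  have h3 : ∃ z : pullback (ι ≫ snd X Y) b ⟶ Z, z ≫ ι = lift (r ≫ p₁) (w' ≫ b) := by
    refine ⟨z', ?_⟩
    ext
    · rw [Category.assoc, lift_fst, hr1]
    · rw [Category.assoc, lift_snd, hcond]
  obtain ⟨z'', hz''⟩ := (hstab _ r (w' ≫ b)).1 h3
  rw [hr2] at hz''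
  have hz3 : z'' ≫ ι = w' ≫ lift a b := by
    rw [hz'']; ext <;> simp
  have hdesc : ∀ {T : Sheaf J (Type w)} (g₁ g₂ : T ⟶ pullback (ι ≫ snd X Y) b),
      g₁ ≫ w' = g₂ ≫ w' → g₁ ≫ z'' = g₂ ≫ z'' := by
    intro T g₁ g₂ hg
    rw [← cancel_mono ι, Category.assoc, Category.assoc, hz3, reassoc_of% hg]
  refine ⟨EffectiveEpi.desc w' z'' hdesc, ?_⟩
  rw [← cancel_epi w', EffectiveEpi.fac_assoc, hz3]

lemma partA (Z : Sheaf J (Type w)) (ι : Z ⟶ X ⊗ Y) (hmono : Mono ι)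
    (hstab : ∀ (W : Sheaf J (Type w)) (r : W ⟶ R) (y : W ⟶ Y),
        (∃ z : W ⟶ Z, z ≫ ι = lift (r ≫ p₁) y) ↔ (∃ z : W ⟶ Z, z ≫ ι = lift (r ≫ p₂) y))
    (hepi : Epi (ι ≫ snd X Y))
    (hrel : ∀ (W : Sheaf J (Type w)) (z₁ z₂ : W ⟶ Z), z₁ ≫ ι ≫ snd X Y = z₂ ≫ ι ≫ snd X Y →
        ∃ r : W ⟶ R, r ≫ p₁ = z₁ ≫ ι ≫ fst X Y ∧ r ≫ p₂ = z₂ ≫ ι ≫ fst X Y) :
    ∃! f : Y ⟶ e.B, IsPullback (ι ≫ fst X Y) (ι ≫ snd X Y) e.π f := by
  have hw : p₁ ≫ e.π = p₂ ≫ e.π := e.isKernelPair.w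
  have hreg : IsRegularEpi (ι ≫ snd X Y) := IsRegularEpiCategory.regularEpiOfEpi _
  have heff : EffectiveEpi (ι ≫ snd X Y) := inferInstance
  have hdesc : ∀ {W : Sheaf J (Type w)} (g₁ g₂ : W ⟶ Z),
      g₁ ≫ ι ≫ snd X Y = g₂ ≫ ι ≫ snd X Y →
      g₁ ≫ (ι ≫ fst X Y) ≫ e.π = g₂ ≫ (ι ≫ fst X Y) ≫ e.π := by
    intro W g₁ g₂ hg
    obtain ⟨r, hr1, hr2⟩ := hrel W g₁ g₂ hg
    simp only [Category.assoc]
    rw [← reassoc_of% hr1, ← reassoc_of% hr2, hw]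
  let f : Y ⟶ e.B := EffectiveEpi.desc (ι ≫ snd X Y) ((ι ≫ fst X Y) ≫ e.π) hdesc
  have hfac : (ι ≫ snd X Y) ≫ f = (ι ≫ fst X Y) ≫ e.π := EffectiveEpi.fac _ _ _
  have hex : ∀ s : PullbackCone e.π f, ∃ z : s.pt ⟶ Z, z ≫ ι = lift s.fst s.snd :=
    fun s => exists_lift J e Y Z ι hmono hstab hepi f hfac s.fst s.snd s.condition
  choose l hl using hex
  refine ⟨f, ?_, ?_⟩
  · refine ⟨⟨hfac.symm⟩, ⟨PullbackCone.IsLimit.mk _ l ?_ ?_ ?_⟩⟩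
    · intro s
      rw [← Category.assoc, hl, lift_fst]
    · intro s
      rw [← Category.assoc, hl, lift_snd]
    · intro s m hm1 hm2
      rw [← cancel_mono ι, hl]
      ext
      · rw [Category.assoc, lift_fst, hm1]
      · rw [Category.assoc, lift_snd, hm2]
  · intro f' hf'
    have : Epi (ι ≫ snd X Y) := hepi
    rw [← cancel_epi (ι ≫ snd X Y), hfac, hf'.w]

lemma partB (f : Y ⟶ e.B) : ∃ (Z : Sheaf J (Type w)) (ι : Z ⟶ X ⊗ Y), Mono ι ∧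
      (∀ (W : Sheaf J (Type w)) (r : W ⟶ R) (y : W ⟶ Y),
        (∃ z : W ⟶ Z, z ≫ ι = lift (r ≫ p₁) y) ↔ (∃ z : W ⟶ Z, z ≫ ι = lift (r ≫ p₂) y)) ∧
      Epi (ι ≫ snd X Y) ∧
      (∀ (W : Sheaf J (Type w)) (z₁ z₂ : W ⟶ Z), z₁ ≫ ι ≫ snd X Y = z₂ ≫ ι ≫ snd X Y →
        ∃ r : W ⟶ R, r ≫ p₁ = z₁ ≫ ι ≫ fst X Y ∧ r ≫ p₂ = z₂ ≫ ι ≫ fst X Y) ∧
      IsPullback (ι ≫ fst X Y) (ι ≫ snd X Y) e.π f := by
  have hw : p₁ ≫ e.π = p₂ ≫ e.π := e.isKernelPair.w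
  have key : ∀ (W : Sheaf J (Type w)) (a : W ⟶ X) (y : W ⟶ Y),
      (∃ z : W ⟶ pullback e.π f, z ≫ lift (pullback.fst e.π f) (pullback.snd e.π f) = lift a y) ↔
        a ≫ e.π = y ≫ f := by
    intro W a y
    constructor
    · rintro ⟨z, hz⟩
      have h1 : z ≫ pullback.fst e.π f = a := by
        have := congrArg (fun t => t ≫ fst X Y) hz
        simpa using this
      have h2 : z ≫ pullback.snd e.π f = y := by
        have := congrArg (fun t => t ≫ snd X Y) hz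
        simpa using this
      rw [← h1, ← h2, Category.assoc, Category.assoc, pullback.condition]
    · intro h
      refine ⟨pullback.lift a y h, ?_⟩
      apply CartesianMonoidalCategory.hom_ext
      · rw [Category.assoc, lift_fst, lift_fst, pullback.lift_fst]
      · rw [Category.assoc, lift_snd, lift_snd, pullback.lift_snd]
  refine ⟨pullback e.π f, lift (pullback.fst e.π f) (pullback.snd e.π f), ?_, ?_, ?_, ?_, ?_⟩
  · constructor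
    intro T g₁ g₂ hg
    apply pullback.hom_ext
    · have := congrArg (fun t => t ≫ fst X Y) hg
      simpa using this
    · have := congrArg (fun t => t ≫ snd X Y) hg
      simpa using this
  · intro W r y
    rw [key, key, Category.assoc, Category.assoc, hw]
  · rw [lift_snd]
    have : EffectiveEpi (pullback.snd e.π f) :=
      e.universally_effectiveEpi_π _ _ _ (IsPullback.of_hasPullback e.π f).flip
    infer_instance
  · intro W z₁ z₂ hz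
    simp only [lift_snd, lift_fst] at hz ⊢
    have hk : (z₁ ≫ pullback.fst e.π f) ≫ e.π = (z₂ ≫ pullback.fst e.π f) ≫ e.π := by
      rw [Category.assoc, Category.assoc, pullback.condition, reassoc_of% hz]
    exact ⟨e.isKernelPair.lift _ _ hk, e.isKernelPair.lift_fst _ _ hk,
      e.isKernelPair.lift_snd _ _ hk⟩
  · rw [lift_fst, lift_snd]
    exact IsPullback.of_hasPullback e.π f

end parts

open CartesianMonoidalCategory SemiCartesianMonoidalCategory in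
/-- For sheaves of sets on a site with sheafification: let `p₁, p₂ : R ⇉ X` be an equivalence relation
of sheaves with universally effective quotient `π : X ⟶ X/R` and `Y` a sheaf. (a) A subsheaf `Z ⊆ X
× Y` stable under `R × Y`, covering `Y`, and any two of whose points over the same point of `Y` are
`R`-related, is the pullback of `π` along exactly one `f : Y ⟶ X/R`; (b) every `f : Y ⟶ X/R` arises
in this way. -/
theorem result {C : Type u₁} [Category.{v₁} C]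
    (J : GrothendieckTopology C) [HasSheafify J (Type w)]
    {R X : Sheaf J (Type w)} {p₁ p₂ : R ⟶ X}
    (e : UniversallyEffectiveEquivalenceRelation p₁ p₂) (Y : Sheaf J (Type w)) :
    (∀ (Z : Sheaf J (Type w)) (ι : Z ⟶ X ⊗ Y), Mono ι →
      (∀ (W : Sheaf J (Type w)) (r : W ⟶ R) (y : W ⟶ Y),
        (∃ z : W ⟶ Z, z ≫ ι = lift (r ≫ p₁) y) ↔ (∃ z : W ⟶ Z, z ≫ ι = lift (r ≫ p₂) y)) →
      Epi (ι ≫ snd X Y) →
      (∀ (W : Sheaf J (Type w)) (z₁ z₂ : W ⟶ Z), z₁ ≫ ι ≫ snd X Y = z₂ ≫ ι ≫ snd X Y →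
        ∃ r : W ⟶ R, r ≫ p₁ = z₁ ≫ ι ≫ fst X Y ∧ r ≫ p₂ = z₂ ≫ ι ≫ fst X Y) →
      ∃! f : Y ⟶ e.B, IsPullback (ι ≫ fst X Y) (ι ≫ snd X Y) e.π f) ∧
    (∀ f : Y ⟶ e.B, ∃ (Z : Sheaf J (Type w)) (ι : Z ⟶ X ⊗ Y), Mono ι ∧
      (∀ (W : Sheaf J (Type w)) (r : W ⟶ R) (y : W ⟶ Y),
        (∃ z : W ⟶ Z, z ≫ ι = lift (r ≫ p₁) y) ↔ (∃ z : W ⟶ Z, z ≫ ι = lift (r ≫ p₂) y)) ∧
      Epi (ι ≫ snd X Y) ∧
      (∀ (W : Sheaf J (Type w)) (z₁ z₂ : W ⟶ Z), z₁ ≫ ι ≫ snd X Y = z₂ ≫ ι ≫ snd X Y →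
        ∃ r : W ⟶ R, r ≫ p₁ = z₁ ≫ ι ≫ fst X Y ∧ r ≫ p₂ = z₂ ≫ ι ≫ fst X Y) ∧
      IsPullback (ι ≫ fst X Y) (ι ≫ snd X Y) e.π f) := by
  exact ⟨fun Z ι hmono hstab hepi hrel => partA J e Y Z ι hmono hstab hepi hrel,
    fun f => partB J e Y f⟩

end Groth.Agent.S6048
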