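import Groth.Statements.S6050
import Groth.Agent.Lib.Helper72.SheafTensor
import Groth.Agent.Lib.Helper72.QuotKer
import Groth.Agent.Lib.Helper72.SubGrp
import Groth.Agent.Lib.Helper57.SubobjectDescent
import Mathlib.CategoryTheory.Sites.Subsheaf

set_option autoImplicit false
open CategoryTheory CategoryTheory.Limits MonoidalCategory
universe w v₁ u₁
open ShfCat

namespace Groth.Agent.S6050

open Groth.Agent.Lib.Helper72 Groth.Agent.Lib.Helper57

section abstract

set_option linter.unusedSectionVars false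

open MonObj CartesianMonoidalCategory SemiCartesianMonoidalCategory

variable {E : Type*} [Category E] [CartesianMonoidalCategory E] [HasCoequalizers E]
  [HasPullbacks E] [Balanced E]
  [hpres : ∀ X : E, PreservesColimitsOfShape WalkingParallelPair (tensorLeft X)]
  {H G : E} [hH : GrpObj H] [hG : GrpObj G] (u : H ⟶ G) [Mono u] [hu : IsMonHom u]
  [hQ : GrpObj (coequalizer (fst G H) ((G ◁ u) ≫ μ))]
  [hπ : IsMonHom (coequalizer.π (fst G H) ((G ◁ u) ≫ μ))]
  (hker : IsKernelPair (coequalizer.π (fst G H) ((G ◁ u) ≫ μ)) (fst G H) ((G ◁ u) ≫ μ))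
  (hstab : ∀ ⦃P Q P' Q' : E⦄ ⦃g : P ⟶ Q⦄ ⦃g' : P' ⟶ Q'⦄ ⦃i₁ : P' ⟶ P⦄ ⦃i₂ : Q' ⟶ Q⦄,
      IsPullback g' i₁ i₂ g → Epi g → Epi g')
  (heff : ∀ {X Y : E} (f : X ⟶ Y), Epi f → EffectiveEpi f)
  (himg : ∀ {X Y : E} (f : X ⟶ Y), ∃ (I : E) (q : X ⟶ I) (m : I ⟶ Y), Epi q ∧ Mono m ∧ q ≫ m = f)

include hpres in
lemma stable_π : StableEpi (coequalizer.π (fst G H) ((G ◁ u) ≫ μ)) := stableEpi_coequalizer_π _ _

include hpres hstab in
lemma lift1 {T : E} (g : T ⟶ coequalizer (fst G H) ((G ◁ u) ≫ μ)) :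
    ∃ (T' : E) (e : T' ⟶ T) (a : T' ⟶ G), Epi e ∧
      a ≫ coequalizer.π (fst G H) ((G ◁ u) ≫ μ) = e ≫ g := by
  have hπe : Epi (coequalizer.π (fst G H) ((G ◁ u) ≫ μ)) := inferInstance
  exact ⟨_, pullback.snd (coequalizer.π (fst G H) ((G ◁ u) ≫ μ)) g,
    pullback.fst (coequalizer.π (fst G H) ((G ◁ u) ≫ μ)) g,
    hstab (IsPullback.of_hasPullback _ g).flip hπe, pullback.condition⟩

include hpres hstab in
lemma lift2 {T : E} (g₁ g₂ : T ⟶ coequalizer (fst G H) ((G ◁ u) ≫ μ)) :
    ∃ (T' : E) (e : T' ⟶ T) (a₁ a₂ : T' ⟶ G), Epi e ∧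
      a₁ ≫ coequalizer.π (fst G H) ((G ◁ u) ≫ μ) = e ≫ g₁ ∧
      a₂ ≫ coequalizer.π (fst G H) ((G ◁ u) ≫ μ) = e ≫ g₂ := by
  have hst := stable_π (hpres := hpres) u
  have hPq : Epi (coequalizer.π (fst G H) ((G ◁ u) ≫ μ) ⊗ₘ
      coequalizer.π (fst G H) ((G ◁ u) ≫ μ)) := (hst.tensorHom hst).epi
  have hcond := pullback.condition (f := coequalizer.π (fst G H) ((G ◁ u) ≫ μ) ⊗ₘ
      coequalizer.π (fst G H) ((G ◁ u) ≫ μ)) (g := lift g₁ g₂)
  refine ⟨_, pullback.snd _ (lift g₁ g₂), pullback.fst _ (lift g₁ g₂) ≫ fst _ _,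
    pullback.fst _ (lift g₁ g₂) ≫ snd _ _,
    hstab (IsPullback.of_hasPullback _ (lift g₁ g₂)).flip hPq, ?_, ?_⟩
  · have := congrArg (fun t => t ≫ fst _ _) hcond
    simpa using this
  · have := congrArg (fun t => t ≫ snd _ _) hcond
    simpa using this

/-- pullback of a closed subobject is closed and contains `H`. -/
lemma mapsTo_aux (K' : Subobject (coequalizer (fst G H) ((G ◁ u) ≫ μ))) (hK' : SubClosed K') :
    Subobject.mk u ≤ (Subobject.pullback (coequalizer.π (fst G H) ((G ◁ u) ≫ μ))).obj K' ∧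
      SubClosed ((Subobject.pullback (coequalizer.π (fst G H) ((G ◁ u) ≫ μ))).obj K') := by
  constructor
  · apply Subobject.le_of_factors
    rw [pullback_factors_iff]
    have h1 : (Subobject.mk u).arrow ≫ coequalizer.π (fst G H) ((G ◁ u) ≫ μ) = 1 := by
      have h2 := quot_cond_elem u (1 : (Subobject.mk u : E) ⟶ G)
        ((Subobject.underlyingIso u).hom)
      rw [_root_.one_mul, MonObj.one_comp, Subobject.underlyingIso_hom_comp_eq_mk] at h2
      exact h2
    rw [h1]
    exact hK'.one' _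
  · refine ⟨?_, ?_, ?_⟩
    · rw [pullback_factors_iff, IsMonHom.one_hom]
      exact hK'.one
    · intro T g₁ g₂ h₁ h₂
      rw [pullback_factors_iff] at h₁ h₂ ⊢
      rw [MonObj.mul_comp]
      exact hK'.mul _ _ h₁ h₂
    · intro T g h₁
      rw [pullback_factors_iff] at h₁ ⊢
      rw [GrpObj.inv_comp]
      exact hK'.inv _ h₁

include hpres hstab heff in
/-- a subobject of the quotient whose pullback is closed is closed. -/
lemma closed_of_pullback_closed (K' : Subobject (coequalizer (fst G H) ((G ◁ u) ≫ μ)))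
    (hK : SubClosed ((Subobject.pullback (coequalizer.π (fst G H) ((G ◁ u) ≫ μ))).obj K')) :
    SubClosed K' := by
  refine ⟨?_, ?_, ?_⟩
  · have := hK.one
    rw [pullback_factors_iff, IsMonHom.one_hom] at this
    exact this
  · intro T g₁ g₂ h₁ h₂
    obtain ⟨T', e, a₁, a₂, he, ha₁, ha₂⟩ := lift2 (hpres := hpres) u hstab g₁ g₂
    have := heff e he
    apply factors_of_effectiveEpi_comp e
    rw [MonObj.comp_mul, ← ha₁, ← ha₂, ← MonObj.mul_comp, ← pullback_factors_iff]
    apply hK.mul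
    · rw [pullback_factors_iff, ha₁]
      exact Subobject.factors_of_factors_right _ h₁
    · rw [pullback_factors_iff, ha₂]
      exact Subobject.factors_of_factors_right _ h₂
  · intro T g h₁
    obtain ⟨T', e, a, he, ha⟩ := lift1 (hpres := hpres) u hstab g
    have := heff e he
    apply factors_of_effectiveEpi_comp e
    rw [GrpObj.comp_inv, ← ha, ← GrpObj.inv_comp, ← pullback_factors_iff]
    apply hK.inv
    rw [pullback_factors_iff, ha]
    exact Subobject.factors_of_factors_right _ h₁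

include hker hstab himg in
/-- every closed subobject of `G` containing `H` is a pullback. -/
lemma surj_aux (K : Subobject G) (hle : Subobject.mk u ≤ K) (hK : SubClosed K) :
    ∃ K' : Subobject (coequalizer (fst G H) ((G ◁ u) ≫ μ)),
      (Subobject.pullback (coequalizer.π (fst G H) ((G ◁ u) ≫ μ))).obj K' = K := by
  have hu' : ∀ {T : E} (x : T ⟶ H), K.Factors (x ≫ u) := by
    intro T x
    apply Subobject.factors_of_le _ hle
    exact Subobject.factors_of_factors_right x (Subobject.mk_factors_self u)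
  have hY : (Subobject.pullback (fst G H)).obj K = (Subobject.pullback ((G ◁ u) ≫ μ)).obj K := by
    apply le_antisymm
    · apply Subobject.le_of_factors
      have h1 : K.Factors (((Subobject.pullback (fst G H)).obj K).arrow ≫ fst G H) := by
        rw [← pullback_factors_iff]; exact Subobject.factors_self _
      rw [pullback_factors_iff, comp_orbit_map]
      exact hK.mul _ _ h1 (hu' _)
    · apply Subobject.le_of_factors
      have h1 : K.Factors (((Subobject.pullback ((G ◁ u) ≫ μ)).obj K).arrow ≫ (G ◁ u) ≫ μ) := by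
        rw [← pullback_factors_iff]; exact Subobject.factors_self _
      rw [comp_orbit_map] at h1
      rw [pullback_factors_iff]
      have h2 := hK.mul _ _ h1 (hK.inv _ (hu' (((Subobject.pullback ((G ◁ u) ≫ μ)).obj K).arrow ≫
        snd G H)))
      rwa [mul_inv_cancel_right] at h2
  obtain ⟨I, q, m, hq, hm, hfac⟩ := himg (K.arrow ≫ coequalizer.π (fst G H) ((G ◁ u) ≫ μ))
  exact ⟨Subobject.mk m, subobject_pullback_image_eq hstab hker K hY q m hfac⟩

omit [HasCoequalizers E] [HasPullbacks E] [Balanced E] hpres in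
lemma factors_iff_exists {Y T : E} (A : Subobject Y) (f : T ⟶ Y) :
    A.Factors f ↔ ∃ t : T ⟶ (A : E), t ≫ A.arrow = f := by
  constructor
  · intro h
    exact ⟨A.factorThru f h, Subobject.factorThru_arrow _ _ _⟩
  · rintro ⟨t, rfl⟩
    exact Subobject.factors_comp_arrow _

omit [HasCoequalizers E] [HasPullbacks E] [Balanced E] hpres in
lemma normal_iff {M : E} [GrpObj M] (A : Subobject M) :
    (∀ (Y : E) (g : Y ⟶ M) (k : Y ⟶ (A : E)),
      ∃ k' : Y ⟶ (A : E), g * (k ≫ A.arrow) * g⁻¹ = k' ≫ A.arrow) ↔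
    (∀ (Y : E) (g x : Y ⟶ M), A.Factors x → A.Factors (g * x * g⁻¹)) := by
  constructor
  · intro h Y g x hx
    obtain ⟨t, rfl⟩ := (factors_iff_exists A x).1 hx
    obtain ⟨k', hk'⟩ := h Y g t
    rw [hk']
    exact Subobject.factors_comp_arrow _
  · intro h Y g k
    obtain ⟨t, ht⟩ := (factors_iff_exists A _).1 (h Y g (k ≫ A.arrow)
      (Subobject.factors_comp_arrow _))
    exact ⟨t, ht.symm⟩

include hpres hstab heff in
lemma normal_pullback_iff (K' : Subobject (coequalizer (fst G H) ((G ◁ u) ≫ μ))) :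
    (∀ (Y : E) (g x : Y ⟶ coequalizer (fst G H) ((G ◁ u) ≫ μ)),
      K'.Factors x → K'.Factors (g * x * g⁻¹)) ↔
    (∀ (Y : E) (g x : Y ⟶ G),
      ((Subobject.pullback (coequalizer.π (fst G H) ((G ◁ u) ≫ μ))).obj K').Factors x →
      ((Subobject.pullback (coequalizer.π (fst G H) ((G ◁ u) ≫ μ))).obj K').Factors
        (g * x * g⁻¹)) := by
  constructor
  · intro h Y g x hx
    rw [pullback_factors_iff] at hx ⊢
    rw [MonObj.mul_comp, MonObj.mul_comp, GrpObj.inv_comp]
    exact h Y _ _ hx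
  · intro h Y g x hx
    obtain ⟨T', e, a₁, a₂, he, ha₁, ha₂⟩ := lift2 (hpres := hpres) u hstab g x
    have := heff e he
    apply factors_of_effectiveEpi_comp e
    rw [MonObj.comp_mul, MonObj.comp_mul, GrpObj.comp_inv, ← ha₁, ← ha₂, ← GrpObj.inv_comp,
      ← MonObj.mul_comp, ← MonObj.mul_comp, ← pullback_factors_iff]
    apply h
    rw [pullback_factors_iff, ha₂]
    exact Subobject.factors_of_factors_right _ hx

include hpres hker hstab heff himg in
theorem abstract_result :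
    Set.BijOn (Subobject.pullback (coequalizer.π (fst G H) ((G ◁ u) ≫ hG.mul))).obj
      {K' : Subobject (coequalizer (fst G H) ((G ◁ u) ≫ hG.mul)) |
        ∃ str : GrpObj (K' : E),
          @IsMonHom E _ _ _ _ str.toMonObj hQ.toMonObj K'.arrow}
      {K : Subobject G | Subobject.mk u ≤ K ∧
        ∃ str : GrpObj (K : E),
          @IsMonHom E _ _ _ _ str.toMonObj hG.toMonObj K.arrow} ∧
    ∀ (K' : Subobject (coequalizer (fst G H) ((G ◁ u) ≫ hG.mul)))
      (str' : GrpObj (K' : E))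
      (str : GrpObj ((Subobject.pullback (coequalizer.π (fst G H) ((G ◁ u) ≫ hG.mul))).obj K' : E)),
      @IsMonHom E _ _ _ _ str'.toMonObj hQ.toMonObj K'.arrow →
      @IsMonHom E _ _ _ _ str.toMonObj hG.toMonObj
        ((Subobject.pullback (coequalizer.π (fst G H) ((G ◁ u) ≫ hG.mul))).obj K').arrow →
      ((∀ (Y : E) (g : Y ⟶ coequalizer (fst G H) ((G ◁ u) ≫ hG.mul))
          (k : Y ⟶ (K' : E)),
          ∃ k' : Y ⟶ (K' : E), g * (k ≫ K'.arrow) * g⁻¹ = k' ≫ K'.arrow) ↔
        (∀ (Y : E) (g : Y ⟶ G)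
          (k : Y ⟶ ((Subobject.pullback (coequalizer.π (fst G H) ((G ◁ u) ≫ hG.mul))).obj K' : E)),
          ∃ k' : Y ⟶ ((Subobject.pullback (coequalizer.π (fst G H) ((G ◁ u) ≫ hG.mul))).obj K' : E),
            g * (k ≫ ((Subobject.pullback (coequalizer.π (fst G H) ((G ◁ u) ≫ hG.mul))).obj K').arrow) * g⁻¹ =
              k' ≫ ((Subobject.pullback (coequalizer.π (fst G H) ((G ◁ u) ≫ hG.mul))).obj K').arrow)) := by
  have hπe : Epi (coequalizer.π (fst G H) ((G ◁ u) ≫ hG.mul)) := inferInstance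
  have hUE : UE (coequalizer.π (fst G H) ((G ◁ u) ≫ hG.mul)) := by
    intro X' Y' i₁ i₂ f' hsq
    exact heff _ (hstab hsq hπe)
  refine ⟨⟨?_, ?_, ?_⟩, ?_⟩
  · intro K' hK'
    rw [Set.mem_ofPred_eq, subClosed_iff] at hK'
    have := mapsTo_aux u K' hK'
    rw [Set.mem_ofPred_eq, subClosed_iff]
    exact this
  · intro K₁ _ K₂ _ h12
    exact subobject_pullback_injective hUE h12
  · intro K hK
    rw [Set.mem_ofPred_eq, subClosed_iff] at hK
    obtain ⟨K', hK'⟩ := surj_aux u hker hstab himg K hK.1 hK.2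
    refine ⟨K', ?_, hK'⟩
    rw [Set.mem_ofPred_eq, subClosed_iff]
    apply closed_of_pullback_closed (hpres := hpres) u hstab heff
    rw [hK']
    exact hK.2
  · intro K' _ _ _ _
    rw [normal_iff, normal_iff]
    exact normal_pullback_iff (hpres := hpres) u hstab heff K'

end abstract

open MonObj CartesianMonoidalCategory SemiCartesianMonoidalCategory in
/-- Let `u : H ⟶ G` be a normal subgroup sheaf of a sheaf of groups `G` on a site, `G' = G/H` the
quotient sheaf with its group structure making `π : G ⟶ G'` a homomorphism. Then `K' ↦ K' ×_{G'} G`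
is a bijection from the subgroup sheaves of `G'` onto the subgroup sheaves of `G` containing `H`
(its inverse is `K ↦ K/H`), and normal subgroup sheaves correspond to normal subgroup sheaves.
Stated for sheaves of sets in `Type w` with sheafification; a subgroup sheaf is a subobject
admitting a group structure for which its inclusion is a homomorphism. -/
theorem result {C : Type u₁} [Category.{v₁} C]
    (J : GrothendieckTopology C) [HasSheafify J (Type w)]
    {H G : Sheaf J (Type w)} [hH : GrpObj H] [hG : GrpObj G] (u : H ⟶ G) [Mono u]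
    (hu : @IsMonHom (Sheaf J (Type w)) _ _ H G hH.toMonObj hG.toMonObj u)
    (hn : ∀ (Y : Sheaf J (Type w)) (g : Y ⟶ G) (h : Y ⟶ H), ∃ h' : Y ⟶ H, g * (h ≫ u) * g⁻¹ = h' ≫ u)
    [hQ : GrpObj (coequalizer (fst G H) ((G ◁ u) ≫ hG.mul))]
    (hπ : @IsMonHom (Sheaf J (Type w)) _ _ G (coequalizer (fst G H) ((G ◁ u) ≫ hG.mul)) hG.toMonObj hQ.toMonObj
      (coequalizer.π (fst G H) ((G ◁ u) ≫ hG.mul))) :
    Set.BijOn (Subobject.pullback (coequalizer.π (fst G H) ((G ◁ u) ≫ hG.mul))).obj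
      {K' : Subobject (coequalizer (fst G H) ((G ◁ u) ≫ hG.mul)) |
        ∃ str : GrpObj (K' : Sheaf J (Type w)),
          @IsMonHom (Sheaf J (Type w)) _ _ _ _ str.toMonObj hQ.toMonObj K'.arrow}
      {K : Subobject G | Subobject.mk u ≤ K ∧
        ∃ str : GrpObj (K : Sheaf J (Type w)),
          @IsMonHom (Sheaf J (Type w)) _ _ _ _ str.toMonObj hG.toMonObj K.arrow} ∧
    ∀ (K' : Subobject (coequalizer (fst G H) ((G ◁ u) ≫ hG.mul)))
      (str' : GrpObj (K' : Sheaf J (Type w)))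
      (str : GrpObj ((Subobject.pullback (coequalizer.π (fst G H) ((G ◁ u) ≫ hG.mul))).obj K' : Sheaf J (Type w))),
      @IsMonHom (Sheaf J (Type w)) _ _ _ _ str'.toMonObj hQ.toMonObj K'.arrow →
      @IsMonHom (Sheaf J (Type w)) _ _ _ _ str.toMonObj hG.toMonObj
        ((Subobject.pullback (coequalizer.π (fst G H) ((G ◁ u) ≫ hG.mul))).obj K').arrow →
      ((∀ (Y : Sheaf J (Type w)) (g : Y ⟶ coequalizer (fst G H) ((G ◁ u) ≫ hG.mul))
          (k : Y ⟶ (K' : Sheaf J (Type w))),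
          ∃ k' : Y ⟶ (K' : Sheaf J (Type w)), g * (k ≫ K'.arrow) * g⁻¹ = k' ≫ K'.arrow) ↔
        (∀ (Y : Sheaf J (Type w)) (g : Y ⟶ G)
          (k : Y ⟶ ((Subobject.pullback (coequalizer.π (fst G H) ((G ◁ u) ≫ hG.mul))).obj K' : Sheaf J (Type w))),
          ∃ k' : Y ⟶ ((Subobject.pullback (coequalizer.π (fst G H) ((G ◁ u) ≫ hG.mul))).obj K' : Sheaf J (Type w)),
            g * (k ≫ ((Subobject.pullback (coequalizer.π (fst G H) ((G ◁ u) ≫ hG.mul))).obj K').arrow) * g⁻¹ =
              k' ≫ ((Subobject.pullback (coequalizer.π (fst G H) ((G ◁ u) ≫ hG.mul))).obj K').arrow)) := by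
  have hp : ∀ X : Sheaf J (Type w),
      PreservesColimitsOfShape WalkingParallelPair (tensorLeft X) :=
    fun X => sheaf_tensorLeft_preservesCoequalizers J X
  have hker := isKernelPair_quotient J u hu
  have hstab : ∀ ⦃P Q P' Q' : Sheaf J (Type w)⦄ ⦃g : P ⟶ Q⦄ ⦃g' : P' ⟶ Q'⦄ ⦃i₁ : P' ⟶ P⦄
      ⦃i₂ : Q' ⟶ Q⦄, IsPullback g' i₁ i₂ g → Epi g → Epi g' := by
    intro P Q P' Q' g g' i₁ i₂ hsq hg
    exact epi_of_isPullback_sheaf J hsq
  have heff : ∀ {X Y : Sheaf J (Type w)} (f : X ⟶ Y), Epi f → EffectiveEpi f := by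
    intro X Y f hf
    have : IsRegularEpi f := IsRegularEpiCategory.regularEpiOfEpi f
    infer_instance
  have himg : ∀ {X Y : Sheaf J (Type w)} (f : X ⟶ Y),
      ∃ (I : Sheaf J (Type w)) (q : X ⟶ I) (m : I ⟶ Y), Epi q ∧ Mono m ∧ q ≫ m = f := by
    intro X Y f
    exact ⟨Sheaf.image f, Sheaf.toImage f, Sheaf.imageι f, inferInstance, inferInstance,
      Sheaf.toImage_ι f⟩
  exact abstract_result (hpres := hp) (hu := hu) (hπ := hπ) u hker hstab heff himg

end Groth.Agent.S6050
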