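import Groth.Statements.S6051
import Groth.Agent.Lib.Helper72.SheafTensor
import Groth.Agent.Lib.Helper72.QuotAct

set_option autoImplicit false
open CategoryTheory CategoryTheory.Limits MonoidalCategory
universe w v₁ u₁
open ShfCat

namespace Groth.Agent.S6051

open Groth.Agent.Lib.Helper72

section abstract

set_option linter.unusedSectionVars false

open MonObj CartesianMonoidalCategory SemiCartesianMonoidalCategory

variable {E : Type*} [Category E] [CartesianMonoidalCategory E] [HasCoequalizers E]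
  [hpres : ∀ X : E, PreservesColimitsOfShape WalkingParallelPair (tensorLeft X)]
  {H G : E} [hG : GrpObj G] (u : H ⟶ G)

lemma cond_elem {X : E} (x : X ⟶ G) (k : X ⟶ H) :
    (x * (k ≫ u)) ≫ coequalizer.π (fst G H) ((G ◁ u) ≫ μ) =
      x ≫ coequalizer.π (fst G H) ((G ◁ u) ≫ μ) := by
  have h := coequalizer.condition (fst G H) ((G ◁ u) ≫ μ)
  have h2 := congrArg (fun t => lift x k ≫ t) h
  simp only [lift_fst_assoc, lift_whiskerLeft_assoc, Category.assoc] at h2
  rw [Hom.mul_def, Category.assoc]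
  exact h2.symm

lemma comp_mul_eq {X : E} (k : X ⟶ G ⊗ G) : k ≫ μ = (k ≫ fst _ _) * (k ≫ snd _ _) := by
  rw [Hom.mul_def]
  congr 1
  ext <;> simp

lemma act_cond' {Z : E} (p : G ⟶ Z)
    (hp : ∀ {X : E} (x : X ⟶ G) (k : X ⟶ H), (x * (k ≫ u)) ≫ p = x ≫ p) :
    G ◁ fst G H ≫ μ ≫ p = G ◁ ((G ◁ u) ≫ μ) ≫ μ ≫ p := by
  have e1 : G ◁ fst G H ≫ μ = fst _ _ * (snd _ _ ≫ fst _ _) := by
    rw [comp_mul_eq]; simp
  have e2 : G ◁ ((G ◁ u) ≫ μ) ≫ μ =
      (fst _ _ * (snd _ _ ≫ fst _ _)) * ((snd _ _ ≫ snd _ _) ≫ u) := by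
    rw [comp_mul_eq, whiskerLeft_fst, whiskerLeft_snd, comp_mul_eq (G ◁ u), whiskerLeft_fst,
      whiskerLeft_snd, MonObj.comp_mul, _root_.mul_assoc]
    simp only [Category.assoc]
  rw [← Category.assoc, ← Category.assoc (G ◁ _), e1, e2, hp]

lemma act_cond :
    G ◁ fst G H ≫ μ ≫ coequalizer.π (fst G H) ((G ◁ u) ≫ μ) =
      G ◁ ((G ◁ u) ≫ μ) ≫ μ ≫ coequalizer.π (fst G H) ((G ◁ u) ≫ μ) :=
  act_cond' u _ (fun x k => cond_elem u x k)

theorem abstract_result :
    ∃! act : G ⊗ coequalizer (fst G H) ((G ◁ u) ≫ μ) ⟶ coequalizer (fst G H) ((G ◁ u) ≫ μ),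
      (η ▷ coequalizer (fst G H) ((G ◁ u) ≫ μ)) ≫ act =
          (λ_ (coequalizer (fst G H) ((G ◁ u) ≫ μ))).hom ∧
        (μ ▷ coequalizer (fst G H) ((G ◁ u) ≫ μ)) ≫ act =
          (α_ G G (coequalizer (fst G H) ((G ◁ u) ≫ μ))).hom ≫ (G ◁ act) ≫ act ∧
        μ ≫ coequalizer.π (fst G H) ((G ◁ u) ≫ μ) =
          (G ◁ coequalizer.π (fst G H) ((G ◁ u) ≫ μ)) ≫ act := by
  have hfac := whisker_π_desc (fst G H) ((G ◁ u) ≫ μ) G
    (μ ≫ coequalizer.π (fst G H) ((G ◁ u) ≫ μ)) (act_cond u)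
  refine ⟨whiskerDesc (fst G H) ((G ◁ u) ≫ μ) G
    (μ ≫ coequalizer.π (fst G H) ((G ◁ u) ≫ μ)) (act_cond u), ⟨?_, ?_, ?_⟩, ?_⟩
  · apply whisker_π_hom_ext (fst G H) ((G ◁ u) ≫ μ) (𝟙_ E)
    rw [whisker_exchange_assoc, hfac, MonObj.one_mul_assoc, leftUnitor_naturality]
  · apply whisker_π_hom_ext (fst G H) ((G ◁ u) ≫ μ) (G ⊗ G)
    rw [whisker_exchange_assoc, hfac, associator_naturality_right_assoc,
      ← whiskerLeft_comp_assoc, hfac, whiskerLeft_comp_assoc, hfac, MonObj.mul_assoc_assoc]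
  · exact hfac.symm
  · rintro act' ⟨-, -, h3⟩
    apply whisker_π_hom_ext (fst G H) ((G ◁ u) ≫ μ) G
    rw [hfac, ← h3]

end abstract

open MonObj CartesianMonoidalCategory SemiCartesianMonoidalCategory in
/-- Let `u : H ⟶ G` be a monomorphism of sheaves of groups on a site and `G/H` the quotient sheaf
(coequalizer in sheaves of sets of the projection and the multiplication `G × H ⇉ G`), with `π : G ⟶
G/H`. Then `G/H` carries exactly one action of `G` (a unital, associative morphism `G × G/H ⟶ G/H`)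
for which `π` is equivariant for the action of `G` on itself by left translations. Stated for
sheaves of sets in `Type w` with sheafification. (The published statement adds that this structure
is functorial in the pair `(G, H)`; that clause is not stated here.) -/
theorem result {C : Type u₁} [Category.{v₁} C]
    (J : GrothendieckTopology C) [HasSheafify J (Type w)]
    {H G : Sheaf J (Type w)} [hH : GrpObj H] [hG : GrpObj G] (u : H ⟶ G) [Mono u]
    (hu : @IsMonHom (Sheaf J (Type w)) _ _ H G hH.toMonObj hG.toMonObj u) :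
    ∃! act : G ⊗ coequalizer (fst G H) ((G ◁ u) ≫ hG.mul) ⟶ coequalizer (fst G H) ((G ◁ u) ≫ hG.mul),
      (hG.one ▷ coequalizer (fst G H) ((G ◁ u) ≫ hG.mul)) ≫ act =
          (λ_ (coequalizer (fst G H) ((G ◁ u) ≫ hG.mul))).hom ∧
        (hG.mul ▷ coequalizer (fst G H) ((G ◁ u) ≫ hG.mul)) ≫ act =
          (α_ G G (coequalizer (fst G H) ((G ◁ u) ≫ hG.mul))).hom ≫ (G ◁ act) ≫ act ∧
        hG.mul ≫ coequalizer.π (fst G H) ((G ◁ u) ≫ hG.mul) =
          (G ◁ coequalizer.π (fst G H) ((G ◁ u) ≫ hG.mul)) ≫ act := by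
  have hp : ∀ X : Sheaf J (Type w),
      PreservesColimitsOfShape WalkingParallelPair (tensorLeft X) :=
    fun X => sheaf_tensorLeft_preservesCoequalizers J X
  exact abstract_result (hpres := hp) u

end Groth.Agent.S6051
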