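import Groth.Statements.S6054
import Groth.Agent.Lib.Helper72.SheafTensor
import Groth.Agent.Lib.Helper72.QuotKer

set_option autoImplicit false
open CategoryTheory CategoryTheory.Limits MonoidalCategory
universe w v₁ u₁
open ShfCat

namespace Groth.Agent.S6054

open Groth.Agent.Lib.Helper72

section abstract

set_option linter.unusedSectionVars false

open MonObj CartesianMonoidalCategory SemiCartesianMonoidalCategory

variable {E : Type*} [Category E] [CartesianMonoidalCategory E] [HasCoequalizers E]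
  [HasPullbacks E]
  [hpres : ∀ X : E, PreservesColimitsOfShape WalkingParallelPair (tensorLeft X)]
  {H K G : E} [hH : GrpObj H] [hK : GrpObj K] [hG : GrpObj G]
  (h : H ⟶ K) (k : K ⟶ G)


variable
  (act : coequalizer (fst G H) ((G ◁ (h ≫ k)) ≫ μ) ⊗ coequalizer (fst K H) ((K ◁ h) ≫ μ) ⟶ coequalizer (fst G H) ((G ◁ (h ≫ k)) ≫ μ))
  (hact : (coequalizer.π (fst G H) ((G ◁ (h ≫ k)) ≫ μ) ⊗ₘ coequalizer.π (fst K H) ((K ◁ h) ≫ μ)) ≫ act =
    (G ◁ k) ≫ μ ≫ coequalizer.π (fst G H) ((G ◁ (h ≫ k)) ≫ μ))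
  (qbar : coequalizer (fst G H) ((G ◁ (h ≫ k)) ≫ μ) ⟶ coequalizer (fst G K) ((G ◁ k) ≫ μ))
  (hq : coequalizer.π (fst G H) ((G ◁ (h ≫ k)) ≫ μ) ≫ qbar = coequalizer.π (fst G K) ((G ◁ k) ≫ μ))

include hpres in
lemma stable_πH : StableEpi (coequalizer.π (fst G H) ((G ◁ (h ≫ k)) ≫ μ)) := stableEpi_coequalizer_π _ _

include hpres in
lemma stable_πKH : StableEpi (coequalizer.π (fst K H) ((K ◁ h) ≫ μ)) := stableEpi_coequalizer_π _ _

include hact hq hpres in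
lemma wq : fst _ _ ≫ qbar = act ≫ qbar := by
  have := ((stable_πH (hpres := hpres) h k).tensorHom (stable_πKH (hpres := hpres) h)).epi
  rw [← cancel_epi (coequalizer.π (fst G H) ((G ◁ (h ≫ k)) ≫ μ) ⊗ₘ coequalizer.π (fst K H) ((K ◁ h) ≫ μ)), tensorHom_fst_assoc, hq,
    reassoc_of% hact, hq]
  simpa using coequalizer.condition (fst G K) ((G ◁ k) ≫ μ)

include hact hq hpres in
lemma isColimit_qbar : Nonempty (IsColimit (Cofork.ofπ qbar (wq (hpres := hpres) h k act hact qbar hq))) := by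
  have hepi := ((stable_πH (hpres := hpres) h k).tensorHom (stable_πKH (hpres := hpres) h)).epi
  have hπ : Epi (coequalizer.π (fst G H) ((G ◁ (h ≫ k)) ≫ μ)) := inferInstance
  refine ⟨Cofork.IsColimit.mk' _ (fun s => ?_)⟩
  have hs : fst _ _ ≫ s.π = act ≫ s.π := s.condition
  have hcond : (fst G K) ≫ coequalizer.π (fst G H) ((G ◁ (h ≫ k)) ≫ μ) ≫ s.π = ((G ◁ k) ≫ μ) ≫ coequalizer.π (fst G H) ((G ◁ (h ≫ k)) ≫ μ) ≫ s.π := by
    have h1 := congrArg (fun t => (coequalizer.π (fst G H) ((G ◁ (h ≫ k)) ≫ μ) ⊗ₘ coequalizer.π (fst K H) ((K ◁ h) ≫ μ)) ≫ t) hs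
    simp only [tensorHom_fst_assoc, reassoc_of% hact] at h1
    simpa using h1
  refine ⟨coequalizer.desc (coequalizer.π (fst G H) ((G ◁ (h ≫ k)) ≫ μ) ≫ s.π) hcond, ?_, ?_⟩
  · rw [← cancel_epi (coequalizer.π (fst G H) ((G ◁ (h ≫ k)) ≫ μ))]
    change _ ≫ qbar ≫ _ = _
    rw [reassoc_of% hq, coequalizer.π_desc]
  · have hu : ∀ (m' : coequalizer (fst G K) ((G ◁ k) ≫ μ) ⟶ s.pt), qbar ≫ m' = s.π →
        m' = coequalizer.desc (coequalizer.π (fst G H) ((G ◁ (h ≫ k)) ≫ μ) ≫ s.π) hcond := by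
      intro m' hm'
      apply coequalizer.hom_ext
      rw [coequalizer.π_desc, ← hq, Category.assoc, hm']
    intro m hm
    exact hu m hm

variable [Mono k] [hk : IsMonHom k]
  (hker : IsKernelPair (coequalizer.π (fst G H) ((G ◁ (h ≫ k)) ≫ μ)) (fst G H) ((G ◁ (h ≫ k)) ≫ μ))
  (hstab : ∀ {X Y X' Y' : E} {f : X ⟶ Y} [Epi f] {i₁ : X' ⟶ X} {i₂ : Y' ⟶ Y} {f' : X' ⟶ Y'},
    IsPullback f' i₁ i₂ f → Epi f')

include hact hpres hker hstab in
lemma mono_lift_act : Mono (lift act (fst _ _)) := by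
  constructor
  intro T m₁ m₂ hm
  have h2 : m₁ ≫ fst _ _ = m₂ ≫ fst _ _ := by
    simpa using congrArg (fun t => t ≫ snd _ _) hm
  have h1 : m₁ ≫ act = m₂ ≫ act := by
    simpa using congrArg (fun t => t ≫ fst _ _) hm
  suffices hs : m₁ ≫ snd _ _ = m₂ ≫ snd _ _ by
    ext
    · exact h2
    · exact hs
  have hPq : Epi (coequalizer.π (fst G H) ((G ◁ (h ≫ k)) ≫ μ) ⊗ₘ (coequalizer.π (fst K H) ((K ◁ h) ≫ μ) ⊗ₘ coequalizer.π (fst K H) ((K ◁ h) ≫ μ))) :=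
    ((stable_πH (hpres := hpres) h k).tensorHom
      ((stable_πKH (hpres := hpres) h).tensorHom (stable_πKH (hpres := hpres) h))).epi
  let t : T ⟶ coequalizer (fst G H) ((G ◁ (h ≫ k)) ≫ μ) ⊗ (coequalizer (fst K H) ((K ◁ h) ≫ μ) ⊗ coequalizer (fst K H) ((K ◁ h) ≫ μ)) :=
    lift (m₁ ≫ fst _ _) (lift (m₁ ≫ snd _ _) (m₂ ≫ snd _ _))
  let Pq := coequalizer.π (fst G H) ((G ◁ (h ≫ k)) ≫ μ) ⊗ₘ (coequalizer.π (fst K H) ((K ◁ h) ≫ μ) ⊗ₘ coequalizer.π (fst K H) ((K ◁ h) ≫ μ))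
  have he : Epi (pullback.snd Pq t) := hstab (IsPullback.of_hasPullback Pq t).flip
  have hcond : pullback.fst Pq t ≫ Pq = pullback.snd Pq t ≫ t := pullback.condition
  rw [← cancel_epi (pullback.snd Pq t)]
  obtain ⟨e, he_def⟩ : ∃ e, e = pullback.snd Pq t := ⟨_, rfl⟩
  obtain ⟨s, hs_def⟩ : ∃ s, s = pullback.fst Pq t := ⟨_, rfl⟩
  rw [← he_def] at he ⊢
  rw [← he_def, ← hs_def] at hcond
  obtain ⟨a, ha_def⟩ : ∃ a, a = s ≫ fst _ _ := ⟨_, rfl⟩
  obtain ⟨c₁, hc₁_def⟩ : ∃ c, c = s ≫ snd _ _ ≫ fst _ _ := ⟨_, rfl⟩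
  obtain ⟨c₂, hc₂_def⟩ : ∃ c, c = s ≫ snd _ _ ≫ snd _ _ := ⟨_, rfl⟩
  have ha : a ≫ coequalizer.π (fst G H) ((G ◁ (h ≫ k)) ≫ μ) = e ≫ m₁ ≫ fst _ _ := by
    have := congrArg (fun x => x ≫ fst _ _) hcond
    rw [ha_def]
    simpa [Pq, t] using this
  have hc₁ : c₁ ≫ coequalizer.π (fst K H) ((K ◁ h) ≫ μ) = e ≫ m₁ ≫ snd _ _ := by
    have := congrArg (fun x => x ≫ snd _ _ ≫ fst _ _) hcond
    rw [hc₁_def]
    simpa [Pq, t] using this
  have hc₂ : c₂ ≫ coequalizer.π (fst K H) ((K ◁ h) ≫ μ) = e ≫ m₂ ≫ snd _ _ := by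
    have := congrArg (fun x => x ≫ snd _ _ ≫ snd _ _) hcond
    rw [hc₂_def]
    simpa [Pq, t] using this
  have key₁ : e ≫ m₁ ≫ act = (a * (c₁ ≫ k)) ≫ coequalizer.π (fst G H) ((G ◁ (h ≫ k)) ≫ μ) := by
    have e1 : e ≫ m₁ = lift a c₁ ≫
        (coequalizer.π (fst G H) ((G ◁ (h ≫ k)) ≫ μ) ⊗ₘ coequalizer.π (fst K H) ((K ◁ h) ≫ μ)) := by
      ext
      · rw [Category.assoc, Category.assoc, tensorHom_fst, lift_fst_assoc]; exact ha.symm
      · rw [Category.assoc, Category.assoc, tensorHom_snd, lift_snd_assoc]; exact hc₁.symm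
    rw [← Category.assoc, e1, Category.assoc, hact, ← Category.assoc, ← Category.assoc,
      Category.assoc _ (G ◁ k), comp_orbit_map, lift_fst, lift_snd]
  have key₂ : e ≫ m₂ ≫ act = (a * (c₂ ≫ k)) ≫ coequalizer.π (fst G H) ((G ◁ (h ≫ k)) ≫ μ) := by
    have e1 : e ≫ m₂ = lift a c₂ ≫
        (coequalizer.π (fst G H) ((G ◁ (h ≫ k)) ≫ μ) ⊗ₘ coequalizer.π (fst K H) ((K ◁ h) ≫ μ)) := by
      ext
      · rw [Category.assoc, Category.assoc, tensorHom_fst, lift_fst_assoc, ← h2]; exact ha.symm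
      · rw [Category.assoc, Category.assoc, tensorHom_snd, lift_snd_assoc]; exact hc₂.symm
    rw [← Category.assoc, e1, Category.assoc, hact, ← Category.assoc, ← Category.assoc,
      Category.assoc _ (G ◁ k), comp_orbit_map, lift_fst, lift_snd]
  have hrel : (a * (c₁ ≫ k)) ≫ coequalizer.π (fst G H) ((G ◁ (h ≫ k)) ≫ μ) =
      (a * (c₂ ≫ k)) ≫ coequalizer.π (fst G H) ((G ◁ (h ≫ k)) ≫ μ) := by
    rw [← key₁, ← key₂, h1]
  have hr1 := hker.lift_fst _ _ hrel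
  have hr2 := hker.lift_snd _ _ hrel
  obtain ⟨r, hr_def⟩ : ∃ r, r = hker.lift _ _ hrel := ⟨_, rfl⟩
  rw [← hr_def] at hr1 hr2
  rw [comp_orbit_map, hr1, _root_.mul_assoc] at hr2
  have hr3 := mul_left_cancel hr2
  have hr4 : (c₁ * ((r ≫ snd G H) ≫ h)) ≫ k = c₂ ≫ k := by
    rw [MonObj.mul_comp, Category.assoc]; exact hr3
  rw [cancel_mono] at hr4
  rw [← hc₁, ← hc₂, ← hr4, quot_cond_elem]

end abstract

open MonObj CartesianMonoidalCategory SemiCartesianMonoidalCategory in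
/-- Let `G` be a sheaf of groups on a site, `K ⊆ G` a subgroup sheaf and `H ⊆ K` a subgroup sheaf normal
in `K`. With `G/H`, `K/H`, `G/K` the quotient sheaves, the right action of `K/H` on `G/H` induced by
multiplication is free, and the canonical map `G/H ⟶ G/K` identifies `G/K` with the quotient
`(G/H)/(K/H)` (it is a coequalizer of the projection and the action). Sheaves of sets in `Type w`
with sheafification; the action and the map `G/H ⟶ G/K` are pinned by their compatibility with `G ×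
K ⟶ G ⟶ G/H` and with `G ⟶ G/K`. (The published statement adds that for `K` normal in `G` the
identification respects the group structures; that clause is not stated.) -/
theorem result {C : Type u₁} [Category.{v₁} C]
    (J : GrothendieckTopology C) [HasSheafify J (Type w)]
    {H K G : Sheaf J (Type w)} [hH : GrpObj H] [hK : GrpObj K] [hG : GrpObj G]
    (h : H ⟶ K) (k : K ⟶ G) [Mono h] [Mono k]
    (hh : @IsMonHom (Sheaf J (Type w)) _ _ H K hH.toMonObj hK.toMonObj h)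
    (hk : @IsMonHom (Sheaf J (Type w)) _ _ K G hK.toMonObj hG.toMonObj k)
    (hn : ∀ (Y : Sheaf J (Type w)) (x : Y ⟶ K) (y : Y ⟶ H), ∃ y' : Y ⟶ H, x * (y ≫ h) * x⁻¹ = y' ≫ h)
    (act : coequalizer (fst G H) ((G ◁ (h ≫ k)) ≫ hG.mul) ⊗ coequalizer (fst K H) ((K ◁ h) ≫ hK.mul) ⟶
      coequalizer (fst G H) ((G ◁ (h ≫ k)) ≫ hG.mul))
    (hact : (coequalizer.π (fst G H) ((G ◁ (h ≫ k)) ≫ hG.mul) ⊗ₘ coequalizer.π (fst K H) ((K ◁ h) ≫ hK.mul)) ≫ act =
      (G ◁ k) ≫ hG.mul ≫ coequalizer.π (fst G H) ((G ◁ (h ≫ k)) ≫ hG.mul))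
    (qbar : coequalizer (fst G H) ((G ◁ (h ≫ k)) ≫ hG.mul) ⟶ coequalizer (fst G K) ((G ◁ k) ≫ hG.mul))
    (hq : coequalizer.π (fst G H) ((G ◁ (h ≫ k)) ≫ hG.mul) ≫ qbar = coequalizer.π (fst G K) ((G ◁ k) ≫ hG.mul)) :
    Mono (lift act (fst _ _)) ∧
    ∃ wq : fst _ _ ≫ qbar = act ≫ qbar, Nonempty (IsColimit (Cofork.ofπ qbar wq)) := by
  have hp : ∀ X : Sheaf J (Type w),
      PreservesColimitsOfShape WalkingParallelPair (tensorLeft X) :=
    fun X => sheaf_tensorLeft_preservesCoequalizers J X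
  have hhk : @IsMonHom (Sheaf J (Type w)) _ _ H G hH.toMonObj hG.toMonObj (h ≫ k) :=
    @instIsMonHomComp _ _ _ _ _ _ (_) (_) (_) h k hh hk
  have hker := isKernelPair_quotient J (h ≫ k) hhk
  refine ⟨mono_lift_act (hpres := hp) (hk := hk) h k act hact hker
    (fun H => Groth.Agent.Lib.Helper57.epi_of_isPullback_sheaf J H),
    wq (hpres := hp) h k act hact qbar hq, isColimit_qbar (hpres := hp) h k act hact qbar hq⟩

end Groth.Agent.S6054
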