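import Groth.Statements.S6057
-- import your own Groth.Agent.* helpers here

set_option autoImplicit false
open CategoryTheory
universe v₁ u₁
open ShfCat

namespace Groth.Agent.S6057

open Opposite

section aux

variable {C : Type u₁} [Category.{v₁} C] (J : GrothendieckTopology C) {S : C}
  {F : Cᵒᵖ ⥤ Type v₁} (φ : F ⟶ yoneda.obj S)

lemma sep_of_sep (hF : Presieve.IsSeparated J F) :
    Presieve.IsSeparated (J.over S) (ShfCat.relPsh φ) := by
  intro Y R hR x t₁ t₂ h₁ h₂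
  apply Subtype.ext
  have hR' : Sieve.overEquiv Y R ∈ J Y.left := (J.mem_over_iff R).1 hR
  refine (hF _ hR').ext ?_
  intro Z f hf
  have hf' : R (Over.homMk f : Over.mk (f ≫ Y.hom) ⟶ Y) := (Sieve.overEquiv_iff _ _).1 hf
  have e1 := congrArg Subtype.val (h₁ _ hf')
  have e2 := congrArg Subtype.val (h₂ _ hf')
  exact e1.trans e2.symm

lemma phi_eq_of_agree (hS : Presieve.IsSheaf J (yoneda.obj S)) {X : C} (R : Sieve X)
    (hR : R ∈ J X) (t₁ t₂ : F.obj (op X))
    (h : ∀ ⦃Z : C⦄ (f : Z ⟶ X), R f → φ.app (op Z) (F.map f.op t₁) = φ.app (op Z) (F.map f.op t₂)) :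
    φ.app (op X) t₁ = φ.app (op X) t₂ := by
  refine (hS.isSeparated _ hR).ext ?_
  intro Z f hf
  rw [← NatTrans.naturality_apply φ f.op t₁, ← NatTrans.naturality_apply φ f.op t₂]
  exact h f hf

lemma sep_of_relSep (hS : Presieve.IsSheaf J (yoneda.obj S))
    (hG : Presieve.IsSeparated (J.over S) (ShfCat.relPsh φ)) :
    Presieve.IsSeparated J F := by
  intro X R hR x t₁ t₂ h₁ h₂
  have hagree : ∀ ⦃Z : C⦄ (f : Z ⟶ X), R f → F.map f.op t₁ = F.map f.op t₂ :=
    fun Z f hf => (h₁ f hf).trans (h₂ f hf).symm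
  have hφ : φ.app (op X) t₁ = φ.app (op X) t₂ :=
    phi_eq_of_agree J φ hS R hR t₁ t₂ (fun Z f hf => by rw [hagree f hf])
  let Y : Over S := Over.mk (φ.app (op X) t₁)
  let t₁' : (ShfCat.relPsh φ).obj (op Y) := ⟨t₁, rfl⟩
  let t₂' : (ShfCat.relPsh φ).obj (op Y) := ⟨t₂, hφ.symm⟩
  have hR' : (Sieve.overEquiv Y).symm R ∈ (J.over S) Y := J.overEquiv_symm_mem_over Y R hR
  have : t₁' = t₂' := by
    refine (hG _ hR').ext ?_
    intro Z g hg
    have hg' : R g.left := (Sieve.overEquiv_symm_iff _ _).1 hg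
    apply Subtype.ext
    exact hagree g.left hg'
  exact congrArg Subtype.val this

lemma fam_congr {D : Type*} [Category D] {P : Dᵒᵖ ⥤ Type v₁} {X : D} {R : Presieve X}
    (x : Presieve.FamilyOfElements P R) {Z : D} {f g : Z ⟶ X} (h : f = g) (hf : R f) (hg : R g) :
    x f hf = x g hg := by
  subst h; rfl

lemma sheaf_of_sheaf (hS : Presieve.IsSheaf J (yoneda.obj S)) (hF : Presieve.IsSheaf J F) :
    Presieve.IsSheaf (J.over S) (ShfCat.relPsh φ) := by
  intro Y R hR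
  rw [← Presieve.isSeparatedFor_and_exists_isAmalgamation_iff_isSheafFor]
  refine ⟨sep_of_sep J φ hF.isSeparated R hR, ?_⟩
  intro x hx
  have hxs := hx.to_sieveCompatible
  have hR' : Sieve.overEquiv Y R ∈ J Y.left := (J.mem_over_iff R).1 hR
  let x' : Presieve.FamilyOfElements F (Sieve.overEquiv Y R).arrows :=
    fun Z f hf => (x (Over.homMk f : Over.mk (f ≫ Y.hom) ⟶ Y) ((Sieve.overEquiv_iff _ _).1 hf)).1
  have hx' : x'.Compatible := by
    rw [Presieve.compatible_iff_sieveCompatible]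
    intro Z W f g hf
    let g' : Over.mk ((g ≫ f) ≫ Y.hom) ⟶ Over.mk (f ≫ Y.hom) := Over.homMk g (by simp)
    have hf' : R (Over.homMk f : Over.mk (f ≫ Y.hom) ⟶ Y) := (Sieve.overEquiv_iff _ _).1 hf
    have e := hxs (Over.homMk f : Over.mk (f ≫ Y.hom) ⟶ Y) g' hf'
    have e2 : g' ≫ (Over.homMk f : Over.mk (f ≫ Y.hom) ⟶ Y) =
        (Over.homMk (g ≫ f) : Over.mk ((g ≫ f) ≫ Y.hom) ⟶ Y) := by
      ext; simp [g']
    have hgf' : R (Over.homMk (g ≫ f) : Over.mk ((g ≫ f) ≫ Y.hom) ⟶ Y) :=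
      e2 ▸ R.downward_closed hf' g'
    have e6 : x' (g ≫ f) (Sieve.downward_closed _ hf g) =
        (x (Over.homMk (g ≫ f) : Over.mk ((g ≫ f) ≫ Y.hom) ⟶ Y) hgf').1 := rfl
    have e7 : x' f hf = (x (Over.homMk f : Over.mk (f ≫ Y.hom) ⟶ Y) hf').1 := rfl
    rw [e6, e7, ← fam_congr x e2 (R.downward_closed hf' g') hgf', e]
    rfl
  obtain ⟨t, ht, -⟩ := hF _ hR' x' hx'
  have hφt : φ.app (op Y.left) t = Y.hom := by
    refine (hS.isSeparated _ hR').ext ?_
    intro Z f hf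
    rw [← NatTrans.naturality_apply φ f.op t, ht f hf]
    exact (x (Over.homMk f : Over.mk (f ≫ Y.hom) ⟶ Y) ((Sieve.overEquiv_iff _ _).1 hf)).2
  refine ⟨⟨t, hφt⟩, ?_⟩
  intro Z g hg
  apply Subtype.ext
  change F.map g.left.op t = (x g hg).1
  let ι : Over.mk (g.left ≫ Y.hom) ⟶ Z := Over.homMk (𝟙 _) (by simp)
  have e3 : ι ≫ g = (Over.homMk g.left : Over.mk (g.left ≫ Y.hom) ⟶ Y) := by
    ext; simp [ι]
  have hR3 : R (Over.homMk g.left : Over.mk (g.left ≫ Y.hom) ⟶ Y) :=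
    e3 ▸ R.downward_closed hg ι
  have hgl : (Sieve.overEquiv Y R) g.left := (Sieve.overEquiv_iff _ _).2 hR3
  have e4 : F.map g.left.op t = x' g.left hgl := ht g.left hgl
  have e5 := hxs g ι hg
  have e8 : x' g.left hgl =
      (x (Over.homMk g.left : Over.mk (g.left ≫ Y.hom) ⟶ Y) hR3).1 := rfl
  rw [e4, e8, ← fam_congr x e3 (R.downward_closed hg ι) hR3, e5]
  change F.map (𝟙 Z.left).op (x g hg).1 = _
  simp

lemma sheaf_of_relSheaf (hS : Presieve.IsSheaf J (yoneda.obj S))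
    (hG : Presieve.IsSheaf (J.over S) (ShfCat.relPsh φ)) : Presieve.IsSheaf J F := by
  intro X R hR
  rw [← Presieve.isSeparatedFor_and_exists_isAmalgamation_iff_isSheafFor]
  refine ⟨sep_of_relSep J φ hS hG.isSeparated R hR, ?_⟩
  intro x hx
  have hxs := hx.to_sieveCompatible
  have hy : (x.map φ).Compatible := hx.map φ
  obtain ⟨s, hs, -⟩ := hS _ hR (x.map φ) hy
  let Y : Over S := Over.mk s
  have hR' := J.overEquiv_symm_mem_over Y R hR
  let xt : Presieve.FamilyOfElements (ShfCat.relPsh φ) ((Sieve.overEquiv Y).symm R).arrows :=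
    fun Z g hg => ⟨x g.left ((Sieve.overEquiv_symm_iff _ _).1 hg), by
      have h1 := hs g.left ((Sieve.overEquiv_symm_iff _ _).1 hg)
      have h2 : g.left ≫ s = Z.hom := Over.w g
      exact h1.symm.trans h2⟩
  have hxt : xt.Compatible := by
    rw [Presieve.compatible_iff_sieveCompatible]
    intro Z W g h hg
    apply Subtype.ext
    exact hxs g.left h.left ((Sieve.overEquiv_symm_iff _ _).1 hg)
  obtain ⟨t', ht', -⟩ := hG _ hR' xt hxt
  refine ⟨t'.1, ?_⟩
  intro Z f hf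
  have hg : ((Sieve.overEquiv Y).symm R) (Over.homMk f : Over.mk (f ≫ s) ⟶ Y) :=
    (Sieve.overEquiv_symm_iff _ _).2 hf
  exact congrArg Subtype.val (ht' (Over.homMk f : Over.mk (f ≫ s) ⟶ Y) hg)

end aux

/-- Let `S` be an object whose representable presheaf is a sheaf for `J` and `φ : F ⟶ h_S` a morphism of
presheaves of sets. The relative presheaf on `C/S` (sections of `F` over `T` lying over the given `T
⟶ S`) is separated (resp. a sheaf) for the induced topology on `C/S` if and only if `F` is separated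
(resp. a sheaf). -/
theorem result {C : Type u₁} [Category.{v₁} C] (J : GrothendieckTopology C)
    {S : C} (hS : Presieve.IsSheaf J (yoneda.obj S)) {F : Cᵒᵖ ⥤ Type v₁} (φ : F ⟶ yoneda.obj S) :
    (Presieve.IsSeparated (J.over S) (ShfCat.relPsh φ) ↔ Presieve.IsSeparated J F) ∧
    (Presieve.IsSheaf (J.over S) (ShfCat.relPsh φ) ↔ Presieve.IsSheaf J F) := by
  exact ⟨⟨fun h => sep_of_relSep J φ hS h, fun h => sep_of_sep J φ h⟩,
    ⟨fun h => sheaf_of_relSheaf J φ hS h, fun h => sheaf_of_sheaf J φ hS h⟩⟩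

end Groth.Agent.S6057
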