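import Groth.Statements.S6063
import Mathlib

set_option autoImplicit false
universe u
open CategoryTheory AlgebraicGeometry
open TensorProduct
open SGA3x

set_option linter.unusedSectionVars false

namespace Groth.Agent.S6063Aux

section Alg

variable {A : Type u} [CommRing A] (J : Ideal A) (k : ℕ)
  [hfree : Module.Free (A ⧸ J) ((A ⧸ J) ⊗[A] ↥(J ^ k))]

/-- index set of the chosen basis -/
abbrev Λ := Module.Free.ChooseBasisIndex (A ⧸ J) ((A ⧸ J) ⊗[A] ↥(J ^ k))

/-- the chosen basis -/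
noncomputable abbrev β : Module.Basis (Λ J k) (A ⧸ J) ((A ⧸ J) ⊗[A] ↥(J ^ k)) :=
  Module.Free.chooseBasis (A ⧸ J) ((A ⧸ J) ⊗[A] ↥(J ^ k))

/-- coordinates of the class of an element of `J^k` -/
noncomputable def r : ↥(J ^ k) →ₗ[A] (Λ J k →₀ A ⧸ J) :=
  ((β J k).repr.restrictScalars A).toLinearMap ∘ₗ (TensorProduct.mk A (A ⧸ J) ↥(J ^ k) 1)

theorem exists_lift_basis (l : Λ J k) : ∃ e : ↥(J ^ k), (1 : A ⧸ J) ⊗ₜ[A] e = β J k l := by
  have hs : Function.Surjective (TensorProduct.mk A (A ⧸ J) ↥(J ^ k) 1) :=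
    TensorProduct.mk_surjective A _ _ Ideal.Quotient.mk_surjective
  exact hs (β J k l)

/-- lifts of the basis vectors -/
noncomputable def e (l : Λ J k) : ↥(J ^ k) := (exists_lift_basis J k l).choose

theorem e_spec (l : Λ J k) : (1 : A ⧸ J) ⊗ₜ[A] (e J k l) = β J k l :=
  (exists_lift_basis J k l).choose_spec

/-- a zero-preserving set-theoretic section of `A → A/J` -/
noncomputable def sec (x : A ⧸ J) : A := by
  classical exact if x = 0 then 0 else (Ideal.Quotient.mk_surjective x).choose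

theorem sec_zero : sec J (0 : A ⧸ J) = 0 := by
  classical
  simp [sec]

theorem mk_sec (x : A ⧸ J) : Ideal.Quotient.mk J (sec J x) = x := by
  classical
  unfold sec
  split_ifs with h
  · simp [h]
  · exact (Ideal.Quotient.mk_surjective x).choose_spec

theorem mem_pow_succ_of_tmul_eq_zero (a : ↥(J ^ k)) (h : (1 : A ⧸ J) ⊗ₜ[A] a = 0) :
    (a : A) ∈ J ^ (k + 1) := by
  have h1 : (TensorProduct.quotTensorEquivQuotSMul ↥(J ^ k) J) ((1 : A ⧸ J) ⊗ₜ[A] a) = 0 := by
    rw [h, map_zero]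
  have h2 : Submodule.Quotient.mk a = (0 : ↥(J ^ k) ⧸ (J • ⊤ : Submodule A ↥(J ^ k))) := by
    rw [← h1]
    have := TensorProduct.quotTensorEquivQuotSMul_mk_tmul (M := ↥(J ^ k)) J (1 : A) a
    rw [one_smul, map_one] at this
    exact this.symm
  rw [Submodule.Quotient.mk_eq_zero] at h2
  have h3 : ∀ x ∈ (J • ⊤ : Submodule A ↥(J ^ k)), (x : A) ∈ J ^ (k + 1) := by
    intro x hx
    refine Submodule.smul_induction_on hx ?_ ?_
    · intro j hj m _
      rw [pow_succ']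
      exact Ideal.mul_mem_mul hj m.2
    · intro x y hx hy
      exact Ideal.add_mem _ hx hy
  exact h3 a h2

end Alg

section Alg2

variable {A : Type u} [CommRing A] (J : Ideal A) (k : ℕ)
  [hfree : Module.Free (A ⧸ J) ((A ⧸ J) ⊗[A] ↥(J ^ k))]
  (B B0 : Type u) [CommRing B] [CommRing B0] [Algebra A B] [Algebra A B0] [Algebra (A ⧸ J) B0]
  [IsScalarTower A (A ⧸ J) B0] (ι : B →ₐ[A] B0)

/-- multiplication map -/
noncomputable def θ : ↥(J ^ k) ⊗[A] B →ₗ[A] B :=
  TensorProduct.lift ((LinearMap.lsmul A B).comp (J ^ k).subtype)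

omit hfree in
@[simp] theorem θ_tmul (a : ↥(J ^ k)) (b : B) : θ J k B (a ⊗ₜ b) = (a : A) • b := by
  simp [θ]

omit hfree in
theorem θ_injective [Module.Flat A B] : Function.Injective (θ J k B) := by
  have h1 : θ J k B = (TensorProduct.lid A B).toLinearMap ∘ₗ (LinearMap.rTensor B (J ^ k).subtype) := by
    apply TensorProduct.ext'
    intro a b
    simp
  rw [h1]
  exact (TensorProduct.lid A B).injective.comp
    (Module.Flat.rTensor_preserves_injective_linearMap _ Subtype.val_injective)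

omit hfree in
theorem θ_surj (b : B) (hb : b ∈ (J ^ k).map (algebraMap A B)) : ∃ τ, θ J k B τ = b := by
  unfold Ideal.map at hb
  induction hb using Submodule.span_induction with
  | mem x hx =>
    obtain ⟨a, ha, rfl⟩ := hx
    exact ⟨(⟨a, ha⟩ : ↥(J ^ k)) ⊗ₜ 1, by simp [Algebra.smul_def]⟩
  | zero => exact ⟨0, map_zero _⟩
  | add x y _ _ hx hy =>
    obtain ⟨τ1, h1⟩ := hx
    obtain ⟨τ2, h2⟩ := hy
    exact ⟨τ1 + τ2, by rw [map_add, h1, h2]⟩
  | smul b' x _ hx =>
    obtain ⟨τ, h⟩ := hx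
    refine ⟨LinearMap.lTensor _ (LinearMap.mulLeft A b') τ, ?_⟩
    rw [← h]
    clear h
    induction τ using TensorProduct.induction_on with
    | zero => simp
    | tmul a b => simp [mul_smul_comm]
    | add a b ha hb => simp only [map_add, ha, hb, smul_add]

/-- the coordinate maps -/
noncomputable def c (l : Λ J k) : ↥(J ^ k) ⊗[A] B →ₗ[A] B0 :=
  TensorProduct.lift (LinearMap.mk₂ A (fun (a : ↥(J ^ k)) (b : B) => (r J k a l) • ι b)
    (by intro a a' b; rw [map_add, Finsupp.add_apply, add_smul])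
    (by intro x a b; rw [map_smul, Finsupp.smul_apply, smul_assoc])
    (by intro a b b'; rw [map_add, smul_add])
    (by
      intro x a b
      rw [map_smul, Algebra.smul_def (r J k a l), Algebra.smul_def (r J k a l),
        Algebra.smul_def x, Algebra.smul_def x, mul_left_comm]))

@[simp] theorem c_tmul (l : Λ J k) (a : ↥(J ^ k)) (b : B) :
    c J k B B0 ι l (a ⊗ₜ b) = (r J k a l) • ι b := by
  simp [c]

theorem key1 (τ : ↥(J ^ k) ⊗[A] B) : ∃ y : Λ J k →₀ B, (∀ l, ι (y l) = c J k B B0 ι l τ) ∧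
    θ J k B τ - y.sum (fun l yl => ((e J k l : ↥(J ^ k)) : A) • yl) ∈
      (J ^ (k + 1)).map (algebraMap A B) := by
  classical
  induction τ using TensorProduct.induction_on with
  | zero => exact ⟨0, by simp, by simp⟩
  | add τ1 τ2 h1 h2 =>
    obtain ⟨y1, hy1, hz1⟩ := h1
    obtain ⟨y2, hy2, hz2⟩ := h2
    refine ⟨y1 + y2, fun l => by simp [hy1, hy2], ?_⟩
    rw [Finsupp.sum_add_index' (by simp) (by intros; simp [smul_add]), map_add]
    have := Ideal.add_mem _ hz1 hz2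
    convert this using 1
    abel
  | tmul a b =>
    set ra := r J k a with hra
    let y : Λ J k →₀ B := Finsupp.onFinset ra.support (fun l => (sec J (ra l)) • b) (by
      intro l hl
      rw [Finsupp.mem_support_iff]
      intro h0
      apply hl
      rw [h0, sec_zero, zero_smul])
    refine ⟨y, fun l => ?_, ?_⟩
    · show ι ((sec J (ra l)) • b) = _
      rw [c_tmul, map_smul, ← hra]
      conv_rhs => rw [← mk_sec J (ra l)]
      rw [← Ideal.Quotient.algebraMap_eq, algebraMap_smul]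
    · -- the element a' = a - Σ sec(ra l) e_l lies in J^{k+1}
      have hsum : y.sum (fun l yl => ((e J k l : ↥(J ^ k)) : A) • yl) =
          ((ra.sum (fun l q => sec J q • e J k l) : ↥(J ^ k)) : A) • b := by
        rw [Finsupp.sum, Finsupp.sum]
        have hsupp : y.support ⊆ ra.support := Finsupp.support_onFinset_subset
        rw [Finset.sum_subset hsupp (by
          intro l _ hl
          rw [Finsupp.notMem_support_iff] at hl
          rw [hl, smul_zero])]
        rw [AddSubmonoidClass.coe_finset_sum, Finset.sum_smul]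
        apply Finset.sum_congr rfl
        intro l _
        show ((e J k l : ↥(J ^ k)) : A) • ((sec J (ra l)) • b) = _
        rw [smul_smul]
        congr 1
        simp [mul_comm]
      rw [hsum, θ_tmul, ← sub_smul]
      have ha' : (1 : A ⧸ J) ⊗ₜ[A] (a - ra.sum (fun l q => sec J q • e J k l)) = 0 := by
        rw [TensorProduct.tmul_sub, sub_eq_zero, Finsupp.sum, TensorProduct.tmul_sum]
        have h1 := (β J k).linearCombination_repr ((1 : A ⧸ J) ⊗ₜ[A] a)
        rw [Finsupp.linearCombination_apply, Finsupp.sum] at h1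
        rw [← h1]
        apply Finset.sum_congr rfl
        intro l _
        rw [TensorProduct.tmul_smul, e_spec, ← algebraMap_smul (A ⧸ J) (sec J (ra l)),
          Ideal.Quotient.algebraMap_eq, mk_sec]
        rfl
      have hmem := mem_pow_succ_of_tmul_eq_zero J k _ ha'
      rw [Algebra.smul_def]
      apply Ideal.mul_mem_right
      have := Ideal.mem_map_of_mem (algebraMap A B) hmem
      rw [Submodule.coe_sub] at this
      exact this

theorem key1' (hι : RingHom.ker ι.toRingHom ≤ J.map (algebraMap A B)) (τ : ↥(J ^ k) ⊗[A] B)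
    (h : ∀ l, c J k B B0 ι l τ = 0) : θ J k B τ ∈ (J ^ (k + 1)).map (algebraMap A B) := by
  obtain ⟨y, hy, hz⟩ := key1 J k B B0 ι τ
  have h2 : y.sum (fun l yl => ((e J k l : ↥(J ^ k)) : A) • yl) ∈
      (J ^ (k + 1)).map (algebraMap A B) := by
    apply Ideal.sum_mem
    intro l _
    have h3 : y l ∈ J.map (algebraMap A B) := hι (by
      show ι (y l) = 0
      rw [hy, h])
    show ((e J k l : ↥(J ^ k)) : A) • y l ∈ _
    rw [Algebra.smul_def, pow_succ, Ideal.map_mul]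
    exact Ideal.mul_mem_mul (Ideal.mem_map_of_mem _ (e J k l).2) h3
  have := Ideal.add_mem _ hz h2
  rwa [sub_add_cancel] at this

end Alg2

section Alg3

variable {A : Type u} [CommRing A] (J : Ideal A) (k : ℕ)
  [hfree : Module.Free (A ⧸ J) ((A ⧸ J) ⊗[A] ↥(J ^ k))]
  (B B0 : Type u) [CommRing B] [CommRing B0] [Algebra A B] [Algebra A B0] [Algebra (A ⧸ J) B0]
  [IsScalarTower A (A ⧸ J) B0] (ι : B →ₐ[A] B0)
  (D D0 : Type u) [CommRing D] [CommRing D0] [Algebra A D] [Algebra A D0] [Algebra (A ⧸ J) D0]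
  [IsScalarTower A (A ⧸ J) D0] (ιD : D →ₐ[A] D0)
  (ψ : B →ₐ[A] D) (ψ0 : B0 →ₐ[A] D0) (hsq : ∀ b, ψ0 (ι b) = ιD (ψ b))

omit hfree in
theorem ψ0_smul (q : A ⧸ J) (y : B0) : ψ0 (q • y) = q • ψ0 y := by
  obtain ⟨a, rfl⟩ := Ideal.Quotient.mk_surjective q
  rw [← Ideal.Quotient.algebraMap_eq, algebraMap_smul, algebraMap_smul, map_smul]

include hsq in
theorem c_nat (l : Λ J k) (τ : ↥(J ^ k) ⊗[A] B) :
    ψ0 (c J k B B0 ι l τ) = c J k D D0 ιD l (LinearMap.lTensor _ ψ.toLinearMap τ) := by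
  induction τ using TensorProduct.induction_on with
  | zero => simp
  | tmul a b =>
    rw [c_tmul, ψ0_smul, hsq, LinearMap.lTensor_tmul, c_tmul]
    rfl
  | add x y hx hy => simp only [map_add, hx, hy]

omit hfree in
theorem θ_nat (τ : ↥(J ^ k) ⊗[A] B) :
    ψ (θ J k B τ) = θ J k D (LinearMap.lTensor _ ψ.toLinearMap τ) := by
  induction τ using TensorProduct.induction_on with
  | zero => simp
  | tmul a b =>
    rw [θ_tmul, map_smul, LinearMap.lTensor_tmul, θ_tmul]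
    rfl
  | add x y hx hy => simp only [map_add, hx, hy]

include hsq in
theorem c_vanish [Module.Flat A D] (τ : ↥(J ^ k) ⊗[A] B) (h : ψ (θ J k B τ) = 0) (l : Λ J k) :
    ψ0 (c J k B B0 ι l τ) = 0 := by
  rw [c_nat J k B B0 ι D D0 ιD ψ ψ0 hsq]
  have : LinearMap.lTensor _ ψ.toLinearMap τ = 0 :=
    θ_injective J k D (by rw [← θ_nat, h, map_zero])
  rw [this, map_zero]

end Alg3

theorem alg_step {A : Type u} [CommRing A] (J : Ideal A) (k : ℕ)
    [hfree : Module.Free (A ⧸ J) ((A ⧸ J) ⊗[A] ↥(J ^ k))]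
    {B B0 : Type u} [CommRing B] [CommRing B0] (φ : A →+* B) (ι : B →+* B0)
    (hι : RingHom.ker ι ≤ J.map φ) (σ : A ⧸ J →+* B0)
    (hσ : ∀ a, σ (Ideal.Quotient.mk J a) = ι (φ a))
    {T : Type u} (D D0 : T → Type u) [∀ s, CommRing (D s)] [∀ s, CommRing (D0 s)]
    (ψ : ∀ s, B →+* D s) (ιD : ∀ s, D s →+* D0 s) (ψ0 : ∀ s, B0 →+* D0 s)
    (hsq : ∀ s b, ψ0 s (ι b) = ιD s (ψ s b))
    (hflat : ∀ s, ((ψ s).comp φ).Flat)
    (hinj : ∀ x : B0, (∀ s, ψ0 s x = 0) → x = 0)
    (b : B) (hb : b ∈ (J ^ k).map φ) (hb0 : ∀ s, ψ s b = 0) : b ∈ (J ^ (k + 1)).map φ := by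
  letI : Algebra A B := φ.toAlgebra
  letI : Algebra A B0 := (ι.comp φ).toAlgebra
  letI : Algebra (A ⧸ J) B0 := σ.toAlgebra
  haveI : IsScalarTower A (A ⧸ J) B0 := IsScalarTower.of_algebraMap_eq (fun a => (hσ a).symm)
  let ι' : B →ₐ[A] B0 := { ι with commutes' := fun a => rfl }
  obtain ⟨τ, hτ⟩ := θ_surj J k B b hb
  rw [← hτ]
  apply key1' J k B B0 ι' hι τ
  intro l
  apply hinj
  intro s
  letI : Algebra A (D s) := ((ψ s).comp φ).toAlgebra
  letI : Algebra A (D0 s) := ((ιD s).comp ((ψ s).comp φ)).toAlgebra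
  letI : Algebra (A ⧸ J) (D0 s) := ((ψ0 s).comp σ).toAlgebra
  haveI : IsScalarTower A (A ⧸ J) (D0 s) := IsScalarTower.of_algebraMap_eq (fun a => by
    show ιD s (ψ s (φ a)) = ψ0 s (σ (Ideal.Quotient.mk J a))
    rw [hσ, hsq])
  haveI : Module.Flat A (D s) := hflat s
  let ψ' : B →ₐ[A] D s := { ψ s with commutes' := fun a => rfl }
  have hc : ∀ a : A, ψ0 s (ι (φ a)) = ιD s (ψ s (φ a)) := fun a => hsq s _
  let ψ0' : B0 →ₐ[A] D0 s := { ψ0 s with commutes' := hc }
  let ιD' : D s →ₐ[A] D0 s := { ιD s with commutes' := fun a => rfl }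
  exact c_vanish J k B B0 ι' (D s) (D0 s) ιD' ψ' ψ0' (hsq s) τ (by rw [hτ]; exact hb0 s) l

end Groth.Agent.S6063Aux

namespace Groth.Agent.S6063Aux2

open CategoryTheory.Limits

theorem lpt {X Y : Scheme.{u}} (f : X ⟶ Y) (V : X.Opens) : V ≤ f ⁻¹ᵁ ⊤ := fun _ _ => trivial

section Ker

variable {X : Scheme.{u}} (A : CommRingCat.{u}) (p : X ⟶ Spec A) (J : Ideal ↑A)

/-- the closed immersion of the reduction -/
noncomputable abbrev gJ : Spec (CommRingCat.of (↑A ⧸ J)) ⟶ Spec A :=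
  Spec.map (CommRingCat.ofHom (Ideal.Quotient.mk J))

/-- structure map on sections over `W` -/
noncomputable abbrev φW (W : X.Opens) : ↑A →+* Γ(X, W) :=
  (p.appLE ⊤ W (lpt p W)).hom.comp (Scheme.ΓSpecIso A).inv.hom

theorem ker_le (W : X.Opens) (hW : IsAffineOpen W) :
    RingHom.ker ((pullback.fst p (gJ A J)).app W).hom ≤ J.map (φW A p W) := by
  set g := gJ A J
  set K := J.map (φW A p W) with hK
  have H : IsPullback (pullback.fst p g) (pullback.snd p g) p g := IsPullback.of_hasPullback p g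
  have hiso := isIso_pushoutSection_of_isAffineOpen H (US := ⊤) (UT := ⊤) (UX := W)
    (UY := (pullback.fst p g) ⁻¹ᵁ W) (lpt _ _) (lpt _ _) (by simp) (isAffineOpen_top _)
    (isAffineOpen_top _) hW
  have hpo := (isIso_pushoutSection_iff H (US := ⊤) (UT := ⊤) (UX := W)
    (UY := (pullback.fst p g) ⁻¹ᵁ W) (lpt _ _) (lpt _ _) (by simp)).mp hiso
  -- the cocone to Γ(X,W)/K
  let q1 : Γ(X, W) ⟶ CommRingCat.of (Γ(X, W) ⧸ K) := CommRingCat.ofHom (Ideal.Quotient.mk K)
  let lft : (↑A ⧸ J) →+* (Γ(X, W) ⧸ K) := Ideal.Quotient.lift J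
    ((Ideal.Quotient.mk K).comp (φW A p W)) (by
      intro a ha
      rw [RingHom.comp_apply, Ideal.Quotient.eq_zero_iff_mem]
      exact Ideal.mem_map_of_mem _ ha)
  let q2 : Γ(Spec (CommRingCat.of (↑A ⧸ J)), ⊤) ⟶ CommRingCat.of (Γ(X, W) ⧸ K) :=
    (Scheme.ΓSpecIso (CommRingCat.of (↑A ⧸ J))).hom ≫ CommRingCat.ofHom lft
  have hw : p.appLE ⊤ W (lpt _ _) ≫ q1 = g.appLE ⊤ ⊤ (lpt _ _) ≫ q2 := by
    have h1 : g.appLE ⊤ ⊤ (lpt _ _) = g.appTop := by
      simp only [Scheme.Hom.appLE, Scheme.Hom.appTop]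
      exact (Category.comp_id _)
    rw [h1]
    show _ = g.appTop ≫ (Scheme.ΓSpecIso (CommRingCat.of (↑A ⧸ J))).hom ≫ CommRingCat.ofHom lft
    rw [← Category.assoc, Scheme.ΓSpecIso_naturality, Category.assoc]
    rw [← cancel_epi (Scheme.ΓSpecIso A).inv, Iso.inv_hom_id_assoc]
    ext a
    show Ideal.Quotient.mk K ((p.appLE ⊤ W (lpt _ _)).hom ((Scheme.ΓSpecIso A).inv.hom a)) =
      lft (Ideal.Quotient.mk J a)
    rw [Ideal.Quotient.lift_mk]
    rfl
  intro x hx
  have h2 : (pullback.fst p g).appLE W ((pullback.fst p g) ⁻¹ᵁ W) (by simp) ≫ hpo.desc q1 q2 hw = q1 :=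
    hpo.inl_desc q1 q2 hw
  have h3 : q1.hom x = 0 := by
    rw [← h2]
    show (hpo.desc q1 q2 hw).hom (((pullback.fst p g).appLE W ((pullback.fst p g) ⁻¹ᵁ W) _).hom x) = 0
    have h4 : ((pullback.fst p g).appLE W ((pullback.fst p g) ⁻¹ᵁ W) (by simp)).hom x = 0 := by
      rw [Scheme.Hom.appLE_eq_app]
      exact hx
    rw [h4, map_zero]
  exact Ideal.Quotient.eq_zero_iff_mem.mp h3

end Ker

section Main

theorem appLE_congr_hom {X Y : Scheme.{u}} {f f' : X ⟶ Y} (h : f = f') (U : Y.Opens) (V : X.Opens)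
    (e : V ≤ f ⁻¹ᵁ U) : f.appLE U V e = f'.appLE U V (h ▸ e) := by
  subst h; rfl

variable {X : Scheme.{u}} (A : CommRingCat.{u}) (p : X ⟶ Spec A) (J : Ideal ↑A)
  {ι : Type u} (Z : ι → Scheme.{u}) (v : ∀ i, Z i ⟶ X)

/-- the reduction of `v i` -/
noncomputable abbrev v0 (i : ι) : pullback (v i ≫ p) (gJ A J) ⟶ pullback p (gJ A J) :=
  pullback.map (v i ≫ p) (gJ A J) p (gJ A J) (v i) (𝟙 _) (𝟙 _)
    (Category.comp_id _) ((Category.comp_id _).trans (Category.id_comp _).symm)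

theorem v0_fst (i : ι) : v0 A p J Z v i ≫ pullback.fst p (gJ A J) =
    pullback.fst (v i ≫ p) (gJ A J) ≫ v i := by
  exact pullback.lift_fst _ _ _

/-- restriction of sections -/
noncomputable abbrev res (Y : Scheme.{u}) {W W' : Y.Opens} (h : W ≤ W') : Γ(Y, W') →+* Γ(Y, W) :=
  (Y.presheaf.map (homOfLE h).op).hom

/-- the structure map `A/J → Γ(X₀, π⁻¹W)` -/
noncomputable abbrev σW (W : X.Opens) :
    (↑A ⧸ J) →+* Γ(pullback p (gJ A J), (pullback.fst p (gJ A J)) ⁻¹ᵁ W) :=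
  ((pullback.snd p (gJ A J)).appLE ⊤ ((pullback.fst p (gJ A J)) ⁻¹ᵁ W) (lpt _ _)).hom.comp
    (Scheme.ΓSpecIso (CommRingCat.of (↑A ⧸ J))).inv.hom

theorem σW_mk (W : X.Opens) (a : ↑A) :
    σW A p J W (Ideal.Quotient.mk J a) = ((pullback.fst p (gJ A J)).app W).hom (φW A p W a) := by
  have h1 : CommRingCat.ofHom (Ideal.Quotient.mk J) ≫
      (Scheme.ΓSpecIso (CommRingCat.of (↑A ⧸ J))).inv ≫
      (pullback.snd p (gJ A J)).appLE ⊤ ((pullback.fst p (gJ A J)) ⁻¹ᵁ W) (lpt _ _) =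
      (Scheme.ΓSpecIso A).inv ≫ p.appLE ⊤ W (lpt _ _) ≫ (pullback.fst p (gJ A J)).app W := by
    rw [Scheme.Hom.app_eq_appLE, Scheme.Hom.appLE_comp_appLE,
      appLE_congr_hom (pullback.condition (f := p) (g := gJ A J)),
      ← Scheme.Hom.appLE_comp_appLE _ _ ⊤ ⊤ _ (lpt _ _) (lpt _ _)]
    have h2 : (gJ A J).appLE ⊤ ⊤ (lpt _ _) = (gJ A J).appTop := by
      simp only [Scheme.Hom.appLE, Scheme.Hom.appTop]
      exact (Category.comp_id _)
    rw [h2, ← Category.assoc, ← Category.assoc]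
    congr 1
    rw [← cancel_mono (Scheme.ΓSpecIso (CommRingCat.of (↑A ⧸ J))).hom, Category.assoc,
      Iso.inv_hom_id, Category.comp_id, Category.assoc, Scheme.ΓSpecIso_naturality,
      Iso.inv_hom_id_assoc]
  have := congrArg (fun f => f.hom a) h1
  exact this

end Main

section Main2

variable {X : Scheme.{u}} (A : CommRingCat.{u}) (p : X ⟶ Spec A) (J : Ideal ↑A)
  {ι : Type u} (Z : ι → Scheme.{u}) (v : ∀ i, Z i ⟶ X)

theorem preimage_le (i : ι) (W : X.Opens) (U : (Z i).Opens) (hU : U ≤ (v i) ⁻¹ᵁ W) :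
    (pullback.fst (v i ≫ p) (gJ A J)) ⁻¹ᵁ U ≤
      (v0 A p J Z v i) ⁻¹ᵁ ((pullback.fst p (gJ A J)) ⁻¹ᵁ W) := by
  intro x hx
  show (pullback.fst p (gJ A J)).base ((v0 A p J Z v i).base x) ∈ W
  have h1 : (pullback.fst p (gJ A J)).base ((v0 A p J Z v i).base x) =
      (v i).base ((pullback.fst (v i ≫ p) (gJ A J)).base x) := by
    rw [← Scheme.Hom.comp_apply, ← Scheme.Hom.comp_apply, v0_fst]
  rw [h1]
  exact hU hx

theorem sq (i : ι) (W : X.Opens) (U : (Z i).Opens) (hU : U ≤ (v i) ⁻¹ᵁ W) (b : Γ(X, W)) :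
    ((v0 A p J Z v i).appLE _ _ (preimage_le A p J Z v i W U hU)).hom
      (((pullback.fst p (gJ A J)).app W).hom b) =
    ((pullback.fst (v i ≫ p) (gJ A J)).app U).hom (((v i).appLE W U hU).hom b) := by
  have h1 : (pullback.fst p (gJ A J)).app W ≫
      (v0 A p J Z v i).appLE _ _ (preimage_le A p J Z v i W U hU) =
      (v i).appLE W U hU ≫ (pullback.fst (v i ≫ p) (gJ A J)).app U := by
    rw [Scheme.Hom.app_eq_appLE, Scheme.Hom.app_eq_appLE, Scheme.Hom.appLE_comp_appLE,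
      Scheme.Hom.appLE_comp_appLE, appLE_congr_hom (v0_fst A p J Z v i)]
  exact congrArg (fun f => f.hom b) h1

theorem flat_comp [∀ i, Flat (v i ≫ p)] (i : ι) (W : X.Opens) (U : (Z i).Opens)
    (hUa : IsAffineOpen U) (hU : U ≤ (v i) ⁻¹ᵁ W) :
    (((v i).appLE W U hU).hom.comp (φW A p W)).Flat := by
  have h1 : ((v i).appLE W U hU).hom.comp (φW A p W) =
      ((v i ≫ p).appLE ⊤ U (lpt _ _)).hom.comp (Scheme.ΓSpecIso A).inv.hom := by
    have h2 : p.appLE ⊤ W (lpt _ _) ≫ (v i).appLE W U hU = (v i ≫ p).appLE ⊤ U (lpt _ _) := by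
      rw [Scheme.Hom.appLE_comp_appLE]
    rw [← h2]
    rfl
  rw [h1]
  refine RingHom.Flat.comp (RingHom.Flat.of_bijective ?_) ?_
  · exact (ConcreteCategory.bijective_of_isIso (Scheme.ΓSpecIso A).inv)
  · exact HasRingHomProperty.appLE @Flat (v i ≫ p) inferInstance ⟨⊤, isAffineOpen_top _⟩
      ⟨U, hUa⟩ (lpt _ _)

end Main2

section Main3

variable {X : Scheme.{u}} (A : CommRingCat.{u}) (p : X ⟶ Spec A) (J : Ideal ↑A)
  {ι : Type u} (Z : ι → Scheme.{u}) (v : ∀ i, Z i ⟶ X)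

theorem inj_of_h0
    (h0 : ∀ (V : (pullback p (gJ A J)).Opens) (t : Γ(pullback p (gJ A J), V)),
      (∀ i, ((v0 A p J Z v i).app V).hom t = 0) → t = 0)
    (W : X.Opens) (x : Γ(pullback p (gJ A J), (pullback.fst p (gJ A J)) ⁻¹ᵁ W))
    (hx : ∀ (i : ι) (U : (Z i).Opens) (_ : IsAffineOpen U) (hU : U ≤ (v i) ⁻¹ᵁ W),
      ((v0 A p J Z v i).appLE _ _ (preimage_le A p J Z v i W U hU)).hom x = 0) : x = 0 := by
  apply h0
  intro i
  refine (pullback (v i ≫ p) (gJ A J)).sheaf.eq_of_locally_eq'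
    (fun s : {U : (Z i).Opens // IsAffineOpen U ∧ U ≤ (v i) ⁻¹ᵁ W} =>
      (pullback.fst (v i ≫ p) (gJ A J)) ⁻¹ᵁ s.1)
    ((v0 A p J Z v i) ⁻¹ᵁ ((pullback.fst p (gJ A J)) ⁻¹ᵁ W))
    (fun s => homOfLE (preimage_le A p J Z v i W s.1 s.2.2)) ?_ _ 0 ?_
  · intro y hy
    have h1 : (pullback.fst (v i ≫ p) (gJ A J)).base y ∈ (v i) ⁻¹ᵁ W := by
      show (v i).base ((pullback.fst (v i ≫ p) (gJ A J)).base y) ∈ W
      have h2 : (pullback.fst p (gJ A J)).base ((v0 A p J Z v i).base y) =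
          (v i).base ((pullback.fst (v i ≫ p) (gJ A J)).base y) := by
        rw [← Scheme.Hom.comp_apply, ← Scheme.Hom.comp_apply, v0_fst]
      rw [← h2]
      exact hy
    obtain ⟨_, ⟨U, hUa, rfl⟩, hyU, hUsub⟩ :=
      (Z i).isBasis_affineOpens.exists_subset_of_mem_open h1 ((v i) ⁻¹ᵁ W).2
    exact TopologicalSpace.Opens.mem_iSup.2 ⟨⟨U, hUa, hUsub⟩, hyU⟩
  · intro s
    have h3 := hx i s.1 s.2.1 s.2.2
    change res (pullback (v i ≫ p) (gJ A J)) (preimage_le A p J Z v i W s.1 s.2.2)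
      (((v0 A p J Z v i).app _).hom x) = res _ _ 0
    rw [map_zero]
    exact h3

theorem hb0 (i : ι) (V W : X.Opens) (hWV : W ≤ V) (U : (Z i).Opens) (hU : U ≤ (v i) ⁻¹ᵁ W)
    (t : Γ(X, V)) (ht : ((v i).app V).hom t = 0) :
    ((v i).appLE W U hU).hom (res X hWV t) = 0 := by
  have h1 : X.presheaf.map (homOfLE hWV).op ≫ (v i).appLE W U hU =
      (v i).app V ≫ (Z i).presheaf.map (homOfLE (hU.trans
        ((TopologicalSpace.Opens.map (v i).base).map (homOfLE hWV)).le)).op := by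
    rw [Scheme.Hom.map_appLE]
    rfl
  have h2 := congrArg (fun f => f.hom t) h1
  simp only [CommRingCat.hom_comp, RingHom.comp_apply] at h2
  rw [ht, map_zero] at h2
  exact h2

end Main3

open CategoryTheory.Limits in
theorem main {X : Scheme.{u}} (A : CommRingCat.{u}) (p : X ⟶ Spec A) [Flat p]
    (J : Ideal ↑A) (hJ : IsNilpotent J) (hfree : ∀ k : ℕ, Module.Free (↑A ⧸ J) ((↑A ⧸ J) ⊗[↑A] ↥(J ^ k)))
    {ι : Type u} (Z : ι → Scheme.{u}) (v : ∀ i, Z i ⟶ X) [∀ i, IsImmersion (v i)] [∀ i, Flat (v i ≫ p)]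
    (h0 : ∀ (V : (pullback p (Spec.map (CommRingCat.ofHom (Ideal.Quotient.mk J)))).Opens) (t : Γ(pullback p (Spec.map (CommRingCat.ofHom (Ideal.Quotient.mk J))), V)),
      (∀ i, (pullback.map (v i ≫ p) (Spec.map (CommRingCat.ofHom (Ideal.Quotient.mk J))) p (Spec.map (CommRingCat.ofHom (Ideal.Quotient.mk J))) (v i) (𝟙 _) (𝟙 _)
        (Category.comp_id _) ((Category.comp_id _).trans (Category.id_comp _).symm)).app V t = 0) → t = 0) :
    ∀ (V : X.Opens) (t : Γ(X, V)), (∀ i, (v i).app V t = 0) → t = 0 := by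
  intro V t ht
  obtain ⟨n, hn⟩ := hJ
  have key : ∀ k : ℕ, ∀ (W : X.Opens) (_ : IsAffineOpen W) (hWV : W ≤ V),
      res X hWV t ∈ (J ^ k).map (φW A p W) := by
    intro k
    induction k with
    | zero =>
      intro W hW hWV
      rw [pow_zero, Ideal.one_eq_top, Ideal.map_top]
      trivial
    | succ k ih =>
      intro W hW hWV
      haveI := hfree k
      exact Groth.Agent.S6063Aux.alg_step J k (φW A p W) ((pullback.fst p (gJ A J)).app W).hom
        (ker_le A p J W hW) (σW A p J W) (σW_mk A p J W)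
        (T := Σ i : ι, {U : (Z i).Opens // IsAffineOpen U ∧ U ≤ (v i) ⁻¹ᵁ W})
        (fun s => Γ(Z s.1, s.2.1))
        (fun s => Γ(pullback (v s.1 ≫ p) (gJ A J),
          (pullback.fst (v s.1 ≫ p) (gJ A J)) ⁻¹ᵁ s.2.1))
        (fun s => ((v s.1).appLE W s.2.1 s.2.2.2).hom)
        (fun s => ((pullback.fst (v s.1 ≫ p) (gJ A J)).app s.2.1).hom)
        (fun s => ((v0 A p J Z v s.1).appLE _ _ (preimage_le A p J Z v s.1 W s.2.1 s.2.2.2)).hom)
        (fun s b => sq A p J Z v s.1 W s.2.1 s.2.2.2 b)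
        (fun s => flat_comp A p Z v s.1 W s.2.1 s.2.2.1 s.2.2.2)
        (fun x hx => inj_of_h0 A p J Z v h0 W x (fun i U hUa hU => hx ⟨i, U, hUa, hU⟩))
        (res X hWV t) (ih W hW hWV)
        (fun s => hb0 Z v s.1 V W hWV s.2.1 s.2.2.2 t (ht s.1))
  refine X.sheaf.eq_of_locally_eq'
    (fun s : {W : X.Opens // IsAffineOpen W ∧ W ≤ V} => s.1) V (fun s => homOfLE s.2.2) ?_ t 0 ?_
  · intro y hy
    obtain ⟨_, ⟨W, hWa, rfl⟩, hyW, hWsub⟩ :=
      X.isBasis_affineOpens.exists_subset_of_mem_open hy V.2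
    exact TopologicalSpace.Opens.mem_iSup.2 ⟨⟨W, hWa, hWsub⟩, hyW⟩
  · intro s
    have h1 := key n s.1 s.2.1 s.2.2
    rw [hn, Ideal.zero_eq_bot, Ideal.map_bot, Ideal.mem_bot] at h1
    change res X s.2.2 t = res X s.2.2 0
    rw [map_zero]
    exact h1

-- NEXT2
end Groth.Agent.S6063Aux2

namespace Groth.Agent.S6063

open CategoryTheory.Limits in
/-- Over an affine base with free successive quotients. Let A be a ring, J a nilpotent ideal of A such
that every quotient J^k/J^(k+1) is a free (A/J)-module, p : X ⟶ Spec A a flat morphism and (v_i :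
Z_i ⟶ X) a family of subschemes of X (immersions) with every Z_i flat over Spec A. If the family of
reductions Z_i ×_A (A/J) ⟶ X ×_A (A/J) is schematically dense, i.e. a section of the structure sheaf
of X ×_A (A/J) over an open subset whose pullback to every member vanishes is zero, then the family
(v_i) is schematically dense in X in the same sense. (The published statement has an arbitrary base
S and a nilpotent quasi-coherent ideal of the structure sheaf whose successive quotients are locally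
free modulo the ideal; the assertion is local on S and on X, and this row is the case of an affine
base with free successive quotients.) -/
theorem result {X : Scheme.{u}} (A : CommRingCat.{u}) (p : X ⟶ Spec A) [Flat p]
    (J : Ideal ↑A) (hJ : IsNilpotent J) (hfree : ∀ k : ℕ, Module.Free (↑A ⧸ J) ((↑A ⧸ J) ⊗[↑A] ↥(J ^ k)))
    {ι : Type u} (Z : ι → Scheme.{u}) (v : ∀ i, Z i ⟶ X) [∀ i, IsImmersion (v i)] [∀ i, Flat (v i ≫ p)]
    (h0 : ∀ (V : (pullback p (Spec.map (CommRingCat.ofHom (Ideal.Quotient.mk J)))).Opens) (t : Γ(pullback p (Spec.map (CommRingCat.ofHom (Ideal.Quotient.mk J))), V)),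
      (∀ i, (pullback.map (v i ≫ p) (Spec.map (CommRingCat.ofHom (Ideal.Quotient.mk J))) p (Spec.map (CommRingCat.ofHom (Ideal.Quotient.mk J))) (v i) (𝟙 _) (𝟙 _)
        (Category.comp_id _) ((Category.comp_id _).trans (Category.id_comp _).symm)).app V t = 0) → t = 0) :
    ∀ (V : X.Opens) (t : Γ(X, V)), (∀ i, (v i).app V t = 0) → t = 0 := by
  exact Groth.Agent.S6063Aux2.main A p J hJ hfree Z v h0

end Groth.Agent.S6063
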