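import Groth.Statements.S6075
import Groth.Agent.Lib.Helper19.Grp.Words
open Groth.Agent.Lib.Helper19

set_option autoImplicit false
universe u
open CategoryTheory CategoryTheory.Limits MonoidalCategory CartesianMonoidalCategory MonObj GrpObj AlgebraicGeometry
open SGA3

namespace Groth.Agent.S6075

/-- Let k be an algebraically closed field, G a group scheme locally of finite type over k, X a
geometrically reduced k-scheme locally of finite type, and f : X → G a k-morphism. Consider the
k-points g of G whose underlying point lies under a word in f: there are a k-scheme T, a point p of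
T, n ≥ 0, T-valued points x_1, …, x_n of X and signs such that the T-valued point f(x_1)^{±1} ⋯
f(x_n)^{±1} of G maps p to the point of g. These k-points form exactly the subgroup of G(k)
generated by the k-points of G whose underlying point lies in the image of f. (Words of length zero
are allowed here, so that the unit is on both sides when X is empty; for nonempty X this changes
nothing, while the published statement, with words of positive length only, fails for empty X.) -/
theorem result (k : Type u) [Field k] [IsAlgClosed k]
    (G X : Over (Spec (CommRingCat.of k))) [GrpObj G] [LocallyOfFiniteType G.hom]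
    [LocallyOfFiniteType X.hom] [GeometricallyReduced X.hom] (f : X ⟶ G) :
    {g : 𝟙_ (Over (Spec (CommRingCat.of k))) ⟶ G | ∃ (n : ℕ) (T : Over (Spec (CommRingCat.of k))) (p : T.left) (p₀ : (𝟙_ (Over (Spec (CommRingCat.of k)))).left)
        (x : Fin n → (T ⟶ X)) (ε : Fin n → Bool), ((List.ofFn fun j : Fin n => if ε j then x j ≫ f else (x j ≫ f)⁻¹).prod : T ⟶ G).left.base p = g.left.base p₀} =
      ((Subgroup.closure {g : 𝟙_ (Over (Spec (CommRingCat.of k))) ⟶ G | ∃ p₀ : (𝟙_ (Over (Spec (CommRingCat.of k)))).left, g.left.base p₀ ∈ Set.range f.left.base} :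
        Subgroup (𝟙_ (Over (Spec (CommRingCat.of k))) ⟶ G)) : Set (𝟙_ (Over (Spec (CommRingCat.of k))) ⟶ G)) := by
  classical
  let U := 𝟙_ (Over (Spec (CommRingCat.of k)))
  let pt : ↥U.left := (IsLocalRing.closedPoint k : PrimeSpectrum k)
  have hpt : ∀ p : ↥U.left, p = pt := fun p => Subsingleton.elim (α := PrimeSpectrum k) _ _
  apply Set.eq_of_subset_of_subset
  · rintro g ⟨n, T, p, p₀, x, ε, h⟩
    replace h : (Words.word G f x ε).left p = g.left p₀ := h
    -- the universal word
    let P := Words.pow X n
    let t : T ⟶ P := Words.tuple X n x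
    let W : P ⟶ G := Words.word G f (Words.proj X n) ε
    have htW : t ≫ W = Words.word G f x ε := by
      rw [Words.comp_word]
      congr 1
      funext j
      exact Words.tuple_proj X n x j
    have hq : W.left (t.left p) = g.left p₀ := by
      rw [← h, ← htW, Over.comp_left, Scheme.Hom.comp_apply]
    -- the fibre of the universal word over `g`
    haveI : LocallyOfFiniteType P.hom := Words.locallyOfFiniteType_pow X n
    haveI : LocallyOfFiniteType W.left := by
      haveI : LocallyOfFiniteType (W.left ≫ G.hom) := by rw [Over.w W]; infer_instance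
      exact locallyOfFiniteType_of_comp W.left G.hom
    let φ : pullback W.left g.left ⟶ Spec (CommRingCat.of k) := pullback.snd W.left g.left
    haveI : LocallyOfFiniteType φ := inferInstanceAs (LocallyOfFiniteType (pullback.snd W.left g.left))
    obtain ⟨z₀, -, -⟩ := Scheme.Pullback.exists_preimage_pullback (f := W.left) (g := g.left)
      (t.left p) p₀ hq
    haveI : JacobsonSpace ↥(pullback W.left g.left) := LocallyOfFiniteType.jacobsonSpace φ
    obtain ⟨z, -, hz⟩ := nonempty_inter_closedPoints
      (⟨z₀, Set.mem_univ _⟩ : (Set.univ : Set ↥(pullback W.left g.left)).Nonempty)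
      isOpen_univ.isLocallyClosed
    have hz' : IsClosed {z} := hz
    let c : Spec (CommRingCat.of k) ⟶ pullback W.left g.left := pointOfClosedPoint φ z hz'
    have hc : c ≫ pullback.snd W.left g.left = 𝟙 _ := pointOfClosedPoint_comp φ z hz'
    have hgw : g.left ≫ G.hom = 𝟙 _ := Over.w g
    let x' : U ⟶ P := Over.homMk (c ≫ pullback.fst W.left g.left) (by
      show (c ≫ pullback.fst W.left g.left) ≫ P.hom = 𝟙 _
      rw [← Over.w W, Category.assoc, ← Category.assoc (pullback.fst W.left g.left),
        pullback.condition, Category.assoc, hgw, Category.comp_id, hc])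
    have hx'W : x' ≫ W = g := by
      ext
      show (c ≫ pullback.fst W.left g.left) ≫ W.left = g.left
      rw [Category.assoc, pullback.condition, ← Category.assoc, hc, Category.id_comp]
    rw [← hx'W, Words.comp_word]
    apply Subgroup.list_prod_mem
    intro a ha
    rw [List.mem_ofFn] at ha
    obtain ⟨j, rfl⟩ := ha
    have hgen : (x' ≫ Words.proj X n j) ≫ f ∈ Subgroup.closure
        {g : U ⟶ G | ∃ p₀ : U.left, g.left.base p₀ ∈ Set.range f.left.base} := by
      apply Subgroup.subset_closure
      exact ⟨pt, (x' ≫ Words.proj X n j).left pt, rfl⟩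
    split_ifs
    · exact hgen
    · exact Subgroup.inv_mem _ hgen
  · intro g hg
    refine Subgroup.closure_induction_left (p := fun g _ => ∃ (n : ℕ)
      (T : Over (Spec (CommRingCat.of k))) (p : T.left) (p₀ : U.left)
      (x : Fin n → (T ⟶ X)) (ε : Fin n → Bool),
      (Words.word G f x ε).left p = g.left p₀) ?_ ?_ ?_ hg
    · refine ⟨0, U, pt, pt, fun j => j.elim0, fun j => j.elim0, ?_⟩
      simp [Words.word]
    · rintro s ⟨q₀, x₀, hx₀⟩ y _ ⟨n, T, p, p₀, x, ε, h⟩
      replace hx₀ : f.left x₀ = s.left q₀ := hx₀
      obtain ⟨p', hp'1, hp'2⟩ := Scheme.Pullback.exists_preimage_pullback (f := X.hom) (g := T.hom)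
        x₀ p (Subsingleton.elim (α := PrimeSpectrum k) _ _)
      refine ⟨n + 1, X ⊗ T, p', pt, Fin.cons (fst X T) (fun j => snd X T ≫ x j),
        Fin.cons true ε, ?_⟩
      rw [Words.word_cons, if_pos rfl, ← Words.comp_word]
      apply Words.mul_apply_of_rational
      · rw [Over.comp_left, Scheme.Hom.comp_apply]
        show f.left (pullback.fst X.hom T.hom p') = _
        rw [hp'1, hx₀, hpt q₀]
      · rw [Over.comp_left, Scheme.Hom.comp_apply]
        show (Words.word G f x ε).left (pullback.snd X.hom T.hom p') = _
        rw [hp'2, h, hpt p₀]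
    · rintro s ⟨q₀, x₀, hx₀⟩ y _ ⟨n, T, p, p₀, x, ε, h⟩
      replace hx₀ : f.left x₀ = s.left q₀ := hx₀
      obtain ⟨p', hp'1, hp'2⟩ := Scheme.Pullback.exists_preimage_pullback (f := X.hom) (g := T.hom)
        x₀ p (Subsingleton.elim (α := PrimeSpectrum k) _ _)
      refine ⟨n + 1, X ⊗ T, p', pt, Fin.cons (fst X T) (fun j => snd X T ≫ x j),
        Fin.cons false ε, ?_⟩
      rw [Words.word_cons, if_neg (by simp), ← Words.comp_word]
      apply Words.mul_apply_of_rational
      · apply Words.inv_apply_of_rational
        rw [Over.comp_left, Scheme.Hom.comp_apply]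
        show f.left (pullback.fst X.hom T.hom p') = _
        rw [hp'1, hx₀, hpt q₀]
      · rw [Over.comp_left, Scheme.Hom.comp_apply]
        show (Words.word G f x ε).left (pullback.snd X.hom T.hom p') = _
        rw [hp'2, h, hpt p₀]

end Groth.Agent.S6075
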