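import Groth.Statements.S6080
import Groth.Agent.Lib.Helper43.ComodFlat
import Groth.Agent.Lib.Helper66.RL3
-- import your own Groth.Agent.* helpers here

set_option autoImplicit false
universe u
open TensorProduct
open SGA3

namespace Groth.Agent.S6080

/-- Let R be a Noetherian regular ring of Krull dimension at most 2 and A a commutative Hopf algebra
over R which is flat as an R-module, so that G = Spec A is an affine flat R-group scheme, not
necessarily of finite type. Then every finite subset F of A is contained in a finite-type
sub-Hopf-algebra of the following form: there are a natural number d and a d × d matrix (a_ij) of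
elements of A with Δ(a_ij) = Σ_l a_il ⊗ a_lj and ε(a_ij) = δ_ij (a matrix corepresentation, i.e. a
homomorphism G → GL_{d,R}) whose determinant is a unit, such that F lies in the R-subalgebra
generated by the entries a_ij together with the inverse of det(a_ij) (the affine algebra of the
schematic image of G in GL_{d,R}). Consequently A is the directed union of finite-type
sub-Hopf-algebras each of which is a quotient of the Hopf algebra of some GL_{d,R}. (The published
statement asserts that A is a filtered union of sub-Hopf-algebras of finite type which are moreover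
flat over R. The published proof produces the sub-Hopf-algebras described here, as coefficient
algebras of finite projective subcomodules, and does not address their flatness; they need not be
flat: for the additive group over R = k[x, y], so A = R[s] with s primitive, and the subcomodule
spanned by 1, x s and y s, the construction gives the subalgebra R[x s, y s], which as an R-module
is the direct sum of the powers of the ideal (x, y) and is not flat. Flatness of the
sub-Hopf-algebras is therefore not asserted here. The published statement is over a Noetherian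
regular scheme of dimension at most 2; this row is the affine case.) -/
theorem result (R : Type u) [CommRing R] [IsRegularRing R]
    (hdim : ringKrullDim R ≤ 2) (A : Type u) [CommRing A] [HopfAlgebra R A] [Module.Flat R A] (F : Finset A) :
    ∃ (d : ℕ) (a : Matrix (Fin d) (Fin d) A),
      (∀ i j, CoalgebraStruct.comul (R := R) (a i j) = ∑ l, a i l ⊗ₜ[R] a l j) ∧
      (∀ i j, CoalgebraStruct.counit (R := R) (a i j) = if i = j then 1 else 0) ∧
      ∃ u : A, u * a.det = 1 ∧ (↑F : Set A) ⊆ Algebra.adjoin R (Set.range (fun p : Fin d × Fin d => a p.1 p.2) ∪ {u}) := by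
  classical
  have hgl := Groth.Agent.Lib.Helper43.GlDimKer.glDim_le_two R hdim
  -- a finitely generated subcomodule of the regular comodule containing `F`
  obtain ⟨E, hFE, hEfg, hEsub⟩ := Groth.Agent.Lib.Helper66.RL2.exists_fg_isSubcomod
    (HopfRep.Comod.regular R A) (Submodule.span R (F : Set A)) ⟨F, rfl⟩
  let cE : HopfRep.Comod R A E := ComodSub.Comod.restr (HopfRep.Comod.regular R A) E hEsub
  haveI : Module.Finite R E := Module.Finite.iff_fg.mpr hEfg
  -- a finitely generated projective comodule mapping onto it
  obtain ⟨V, _, _, cV, π, hVfin, hVproj, hπ, hπc⟩ :=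
    @Groth.Agent.Lib.Helper43.ComodFlat.exists_projective_cover R _ _ hgl A _ _ _ _ E _ _ cE _
  obtain ⟨d, p, i, -, -, hpi⟩ := Module.Finite.exists_comp_eq_id_of_projective R V
  let cK : HopfRep.Comod R A (LinearMap.ker p) := HopfRep.Comod.trivial R A (LinearMap.ker p)
  let cW : HopfRep.Comod R A (V × LinearMap.ker p) := ComodTens.Comod.prod cV cK
  let b : Module.Basis (Fin d) R (V × LinearMap.ker p) :=
    Module.Basis.ofEquivFun (Groth.Agent.Lib.Helper66.RL3.eqv p i hpi)
  let a : Matrix (Fin d) (Fin d) A := fun j l => Groth.Agent.Lib.Helper66.RL1.coefMatrix cW b j l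
  have hΔ : ∀ j l, CoalgebraStruct.comul (R := R) (a j l) = ∑ m, a j m ⊗ₜ[R] a m l :=
    fun j l => Groth.Agent.Lib.Helper66.RL1.comul_coefMatrix cW b j l
  have hε : ∀ j l, CoalgebraStruct.counit (R := R) (a j l) = if j = l then 1 else 0 :=
    fun j l => Groth.Agent.Lib.Helper66.RL1.counit_coefMatrix cW b j l
  obtain ⟨u, hu⟩ := Groth.Agent.Lib.Helper66.RL1.exists_mul_det_eq_one a hΔ hε
  refine ⟨d, a, hΔ, hε, u, hu, ?_⟩
  -- the comodule map `W → A`
  let f : (V × LinearMap.ker p) →ₗ[R] A := E.subtype ∘ₗ π ∘ₗ LinearMap.fst R V (LinearMap.ker p)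
  have hf : ∀ w, f.rTensor A (cW.coact w) = Coalgebra.comul (R := R) (f w) := by
    rintro ⟨x, k⟩
    have h1 : cW.coact (x, k) = (LinearMap.inl R V (LinearMap.ker p)).rTensor A (cV.coact x) +
        (LinearMap.inr R V (LinearMap.ker p)).rTensor A (cK.coact k) := rfl
    have h2 : cK.coact k = k ⊗ₜ[R] (1 : A) := rfl
    have h3 : f.rTensor A ((LinearMap.inr R V (LinearMap.ker p)).rTensor A (k ⊗ₜ[R] (1 : A))) = 0 := by
      rw [LinearMap.rTensor_tmul, LinearMap.rTensor_tmul]
      have : f (LinearMap.inr R V (LinearMap.ker p) k) = 0 := by
        simp [f]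
      rw [this, TensorProduct.zero_tmul]
    have h4 : f.rTensor A ((LinearMap.inl R V (LinearMap.ker p)).rTensor A (cV.coact x)) =
        E.subtype.rTensor A (π.rTensor A (cV.coact x)) := by
      have e : f ∘ₗ LinearMap.inl R V (LinearMap.ker p) = E.subtype ∘ₗ π := by
        apply LinearMap.ext
        intro y
        simp [f]
      rw [← LinearMap.rTensor_comp_apply, ← LinearMap.rTensor_comp_apply, e]
    have h5 : π.rTensor A (cV.coact x) = cE.coact (π x) := (LinearMap.congr_fun hπc x).symm
    have h6 : E.subtype.rTensor A (cE.coact (π x)) = Coalgebra.comul (R := R) ((π x : E) : A) :=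
      ComodSub.restr_coact_coe (HopfRep.Comod.regular R A) E hEsub (π x)
    rw [h1, map_add, h2, h3, add_zero, h4, h5, h6]
    rfl
  have hb : ∀ l, f (b l) ∈
      Algebra.adjoin R (Set.range (fun p : Fin d × Fin d => a p.1 p.2) ∪ {u}) := by
    intro l
    rw [Groth.Agent.Lib.Helper66.RL1.apply_basis_of_hom cW b f hf l]
    refine Subalgebra.sum_mem _ (fun j _ => Subalgebra.smul_mem _ ?_ _)
    exact Algebra.subset_adjoin (Or.inl ⟨(j, l), rfl⟩)
  have hfw : ∀ w, f w ∈
      Algebra.adjoin R (Set.range (fun p : Fin d × Fin d => a p.1 p.2) ∪ {u}) := by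
    intro w
    rw [← b.sum_repr w, map_sum]
    refine Subalgebra.sum_mem _ (fun l _ => ?_)
    rw [map_smul]
    exact Subalgebra.smul_mem _ (hb l) _
  intro t ht
  have htE : t ∈ E := hFE (Submodule.subset_span ht)
  obtain ⟨x, hx⟩ := hπ ⟨t, htE⟩
  have : f (x, 0) = t := by
    change ((π x : E) : A) = t
    rw [hx]
  rw [← this]
  exact hfw (x, 0)

end Groth.Agent.S6080
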