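import Groth.Statements.S6082
import Groth.Prelude.Def_ComodSub
import Groth.Agent.Lib.Helper43.ComodCover
import Groth.Agent.Lib.Helper43.ComodHull
-- import your own Groth.Agent.* helpers here

set_option autoImplicit false
universe u
open TensorProduct
open SGA3

namespace Groth.Agent.S6082

/-- Let R be a Noetherian regular ring of Krull dimension at most 2, C a (coassociative, counital)
R-coalgebra which is projective as an R-module, and F a right C-comodule which is finitely generated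
as an R-module. Then F is a quotient of a C-comodule which is finitely generated and projective as
an R-module: there are such a comodule V and a surjective R-linear map V → F compatible with the
coactions. -/
theorem result (R : Type u) [CommRing R] [IsRegularRing R]
    (hdim : ringKrullDim R ≤ 2) (C : Type u) [AddCommGroup C] [Module R C] [Coalgebra R C] [Module.Projective R C]
    (F : Type u) [AddCommGroup F] [Module R F] [HopfRep.Comod R C F] [Module.Finite R F] :
    ∃ (V : Type u) (_ : AddCommGroup V) (_ : Module R V) (_ : HopfRep.Comod R C V) (φ : V →ₗ[R] F),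
      Module.Finite R V ∧ Module.Projective R V ∧ Function.Surjective φ ∧ HopfRep.Comod.coact (k := R) (A := C) ∘ₗ φ = φ.rTensor C ∘ₗ HopfRep.Comod.coact (k := R) (A := C) (V := V) := by
  classical
  have hgl := Groth.Agent.Lib.Helper43.GlDimKer.glDim_le_two R hdim
  let c : HopfRep.Comod R C F := inferInstance
  -- first cover: a finitely generated subcomodule `G₁` of a cofree comodule mapping onto `F`
  obtain ⟨n, p, hp⟩ := Module.Finite.exists_fin' R F
  obtain ⟨G₁, hG₁, hG₁fg, hG₁P, hG₁surj⟩ :=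
    Groth.Agent.Lib.Helper43.ComodCover.exists_fg_subcomod c p hp
  let ρ₁ : HopfRep.Comod R C ((Fin n → R) ⊗[R] C) :=
    Groth.Agent.Lib.Helper96.indComod R C (Fin n → R)
  let c₁ : HopfRep.Comod R C G₁ := ComodSub.Comod.restr ρ₁ G₁ hG₁
  haveI : Module.Finite R G₁ := Module.Finite.iff_fg.2 hG₁fg
  -- second cover
  obtain ⟨n', p', hp'⟩ := Module.Finite.exists_fin' R G₁
  obtain ⟨G₂, hG₂, hG₂fg, hG₂P, hG₂surj⟩ :=
    Groth.Agent.Lib.Helper43.ComodCover.exists_fg_subcomod c₁ p' hp'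
  let ρ₂ : HopfRep.Comod R C ((Fin n' → R) ⊗[R] C) :=
    Groth.Agent.Lib.Helper96.indComod R C (Fin n' → R)
  -- the hull of `G₂`
  let Q : Submodule R ((Fin n' → R) ⊗[R] C) := Groth.Agent.Lib.Helper43.ComodHull.hull G₂
  have hQP : Q ≤ Groth.Agent.Lib.Helper43.ComodCover.P0 c₁ p' := by
    have hj : Function.Injective (G₁.subtype.rTensor C) :=
      ComodSub.rTensor_subtype_injective G₁
    intro x hx
    have hzero : ∀ g ∈ G₂, Groth.Agent.Lib.Helper43.ComodCover.psi c₁ p' g = 0 :=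
      fun g hg => LinearMap.mem_ker.1 (hG₂P hg)
    have key := Groth.Agent.Lib.Helper43.ComodHull.eq_on_hull
      (P₂ := ((Fin n → R) ⊗[R] C) ⊗[R] C)
      (G₁.subtype.rTensor C ∘ₗ Groth.Agent.Lib.Helper43.ComodCover.psi c₁ p') 0 (G := G₂)
      (fun g hg => by
        rw [LinearMap.comp_apply, hzero g hg, map_zero, LinearMap.zero_apply]) hx
    rw [LinearMap.comp_apply, LinearMap.zero_apply] at key
    have h0 : Groth.Agent.Lib.Helper43.ComodCover.psi c₁ p' x = 0 := by
      apply hj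
      rw [key, map_zero]
    exact LinearMap.mem_ker.2 h0
  have hQsub : @HopfRep.IsSubcomod R C _ _ _ _ ((Fin n' → R) ⊗[R] C) _ _ ρ₂ Q := by
    intro x hx
    apply Groth.Agent.Lib.Helper10.ComodRing.mem_range_of_slice_mem
    intro g
    exact Groth.Agent.Lib.Helper43.ComodHull.map_mem_hull
      (Groth.Agent.Lib.Helper10.ComodRing.slice _ g ∘ₗ ρ₂.coact)
      (fun w hw => Groth.Agent.Lib.Helper10.ComodRing.slice_mem_of_mem_range G₂ _ (hG₂ w hw) g) hx
  obtain ⟨hQfg, hQproj⟩ := Groth.Agent.Lib.Helper43.ComodHull.hull_fg_projective hgl G₂ hG₂fg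
  let cQ : HopfRep.Comod R C Q := ComodSub.Comod.restr ρ₂ Q hQsub
  let φ₁ : (Fin n → R) ⊗[R] C →ₗ[R] F := Groth.Agent.Lib.Helper43.ComodCover.phiL p
  let φ₂ : (Fin n' → R) ⊗[R] C →ₗ[R] G₁ :=
    Groth.Agent.Lib.Helper43.ComodCover.phiL (k := R) (A := C) (V := G₁) p'
  let Φ : Q →ₗ[R] F := (φ₁ ∘ₗ G₁.subtype) ∘ₗ (φ₂ ∘ₗ Q.subtype)
  refine ⟨Q, inferInstance, inferInstance, cQ, Φ, Module.Finite.iff_fg.2 hQfg, hQproj, ?_, ?_⟩
  · intro f
    obtain ⟨z₁, hz₁, hz₁f⟩ := hG₁surj f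
    obtain ⟨z₂, hz₂, hz₂f⟩ := hG₂surj ⟨z₁, hz₁⟩
    refine ⟨⟨z₂, Groth.Agent.Lib.Helper43.ComodHull.le_hull G₂ hz₂⟩, ?_⟩
    change Groth.Agent.Lib.Helper43.ComodCover.phiL p
      (G₁.subtype (φ₂ z₂)) = f
    rw [hz₂f]
    exact hz₁f
  · apply LinearMap.ext
    intro q
    change c.coact (Φ q) = Φ.rTensor C (cQ.coact q)
    have h1 : Q.subtype.rTensor C (cQ.coact q) = ρ₂.coact (q : (Fin n' → R) ⊗[R] C) :=
      ComodSub.restr_coact_coe ρ₂ Q hQsub q
    have h2 := Groth.Agent.Lib.Helper43.ComodCover.coact_phiL_of_mem c₁ p' _ (hQP q.2)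
    have h3 : G₁.subtype.rTensor C
        (c₁.coact (φ₂ (q : (Fin n' → R) ⊗[R] C))) =
        ρ₁.coact ((φ₂ (q : (Fin n' → R) ⊗[R] C) : G₁) :
          (Fin n → R) ⊗[R] C) :=
      ComodSub.restr_coact_coe ρ₁ G₁ hG₁ _
    have h4 := Groth.Agent.Lib.Helper43.ComodCover.coact_phiL_of_mem c p _
      (hG₁P (φ₂ (q : (Fin n' → R) ⊗[R] C)).2)
    change c.coact (φ₁ ((φ₂ (q : (Fin n' → R) ⊗[R] C) : G₁) : (Fin n → R) ⊗[R] C)) = _
    change c.coact (Groth.Agent.Lib.Helper43.ComodCover.phiL p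
      ((φ₂ (q : (Fin n' → R) ⊗[R] C) : G₁) :
        (Fin n → R) ⊗[R] C)) = _
    rw [h4]
    change _ = ((φ₁ ∘ₗ G₁.subtype) ∘ₗ (φ₂ ∘ₗ Q.subtype)).rTensor C (cQ.coact q)
    rw [LinearMap.rTensor_comp, LinearMap.rTensor_comp, LinearMap.rTensor_comp,
      LinearMap.comp_apply, LinearMap.comp_apply, LinearMap.comp_apply, h1]
    change _ = φ₁.rTensor C (G₁.subtype.rTensor C
      (φ₂.rTensor C (ρ₂.coact q)))
    rw [← h2, h3]

end Groth.Agent.S6082
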