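import Groth.Statements.S6083
import Groth.Agent.Lib.Helper22.QFAffineOpen
import Groth.Agent.Lib.Helper22.UnivOpenVal
import Groth.Agent.Lib.Helper93.Birat

set_option autoImplicit false
universe u
open CategoryTheory CategoryTheory.Limits MonoidalCategory CartesianMonoidalCategory MonObj GrpObj AlgebraicGeometry
open SGA3

namespace Groth.Agent.S6083

/-- Let f : X → S be a morphism locally of finite presentation, s a point of S, x a point of the fibre
X_s = f⁻¹(s), n the local dimension of X_s at x, q : 𝔸^n_S → S the affine n-space over S and u : X →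
𝔸^n_S a locally quasi-finite morphism with u q = f. Suppose that f is universally open at the
generic point z of an irreducible component Z of X_s which contains x and has dimension n. Then u is
universally open at x. -/
theorem result (X S : Scheme.{u}) (f : X ⟶ S) [LocallyOfFinitePresentation f]
    (s : S) (x : X) (hxs : f.base x = s) (n : ℕ)
    (u : X ⟶ 𝔸(ULift.{u} (Fin n); S)) [LocallyQuasiFinite u] (hu : u ≫ (𝔸(ULift.{u} (Fin n); S) ↘ S) = f)
    (Z : Set ↥(f.base ⁻¹' {s})) (hZ : Z ∈ irreducibleComponents ↥(f.base ⁻¹' {s})) (hxZ : x ∈ (Subtype.val '' Z))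
    (z : X) (hz : z ∈ Subtype.val '' Z ∧ Subtype.val '' Z ⊆ closure {z}) (hopen : EGA43.IsUnivOpenAt f z)
    (hdimZ : topologicalKrullDim ↥Z = n) (hdimx : FlatMor.localDim ↥(f.base ⁻¹' {s}) ⟨x, hxs⟩ = n) :
    EGA43.IsUnivOpenAt u x := by
  subst hxs
  have : LocallyOfFiniteType (u ≫ (𝔸(ULift.{u} (Fin n); S) ↘ S)) := by rw [hu]; infer_instance
  have : LocallyOfFinitePresentation (u ≫ (𝔸(ULift.{u} (Fin n); S) ↘ S)) := by
    rw [hu]; infer_instance
  have : LocallyOfFinitePresentation u :=
    Groth.Agent.Lib.Helper93.Birat.locallyOfFinitePresentation_of_comp u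
      (𝔸(ULift.{u} (Fin n); S) ↘ S)
  obtain ⟨⟨zF, hzZ, hzF⟩, hzcl⟩ := hz
  have hfz : f.base z = f.base x := by rw [← hzF]; exact zF.2
  have hzx : z ⤳ x := specializes_iff_mem_closure.mpr (hzcl hxZ)
  -- `Z` is the closure of `zF` in the fibre
  have hZsub : Z ⊆ closure {zF} := by
    intro y hy
    rw [Topology.IsInducing.subtypeVal.closure_eq_preimage_closure_image, Set.image_singleton,
      hzF]
    exact hzcl ⟨y, hy, rfl⟩
  have hZcl : IsClosed Z := isClosed_of_mem_irreducibleComponents Z hZ
  have hZeq : Z = closure {zF} :=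
    Set.Subset.antisymm hZsub (closure_minimal (Set.singleton_subset_iff.mpr hzZ) hZcl)
  have hzmax : ∀ t : X, t ⤳ z → f.base t = f.base z → t = z := by
    intro t ht hft
    let tF : ↥(f.base ⁻¹' {f.base x}) := ⟨t, hft.trans hfz⟩
    have h1 : Z ⊆ closure {tF} := by
      refine hZsub.trans (closure_minimal ?_ isClosed_closure)
      rw [Set.singleton_subset_iff,
        Topology.IsInducing.subtypeVal.closure_eq_preimage_closure_image, Set.image_singleton]
      show zF.1 ∈ closure {t}
      rw [hzF]
      exact specializes_iff_mem_closure.mp ht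
    have h2 : closure {tF} ⊆ Z := hZ.2 isIrreducible_singleton.closure h1
    have h3 : tF ∈ Z := h2 (subset_closure rfl)
    have h4 : z ⤳ t := specializes_iff_mem_closure.mpr (hzcl ⟨tF, h3, rfl⟩)
    exact (ht.antisymm h4).eq
  have hn : n ≤ Groth.Agent.Lib.Helper73.resTrdegNat f z := by
    have := Groth.Agent.Lib.Helper72.FibDim.quasiSober_fibre f (f.base x)
    have h1 := (Groth.Agent.Lib.Helper72.FibDim.isDimFun_fibre f (f.base x)).topologicalKrullDim_closure_singleton zF
    rw [← hZeq, hdimZ, hzF] at h1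
    have h2 : (n : ℕ∞) = (Groth.Agent.Lib.Helper73.resTrdegNat f z : ℕ∞) := by exact_mod_cast h1
    have h3 : n = Groth.Agent.Lib.Helper73.resTrdegNat f z := by exact_mod_cast h2
    exact h3.le
  refine Groth.Agent.Lib.Helper22.UnivOpenVal.isUnivOpenAt_of_valuative u x ?_
  intro R _ _ _ ψ x₁ h1 h2
  exact Groth.Agent.Lib.Helper22.QFAffineOpen.exists_generization_pullback f n u hu x z hzx hfz
    hzmax hn hopen R ψ x₁ h1 h2

end Groth.Agent.S6083
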