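import Groth.Statements.S6084
import Mathlib

set_option autoImplicit false
universe u
open CategoryTheory CategoryTheory.Limits MonoidalCategory CartesianMonoidalCategory MonObj GrpObj AlgebraicGeometry
open SGA3

namespace Groth.Agent.S6084
open CategoryTheory CategoryTheory.Limits MonoidalCategory CartesianMonoidalCategory MonObj GrpObj AlgebraicGeometry
open SGA3
set_option backward.isDefEq.respectTransparency.types false
set_option maxHeartbeats 400000

section Shear

variable {C : Type*} [Category C] [CartesianMonoidalCategory C] (G : C) [GrpObj G]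

/-- the shear map `(a, b) ↦ (a b, b)` -/
def shear : G ⊗ G ⟶ G ⊗ G := lift (fst G G * snd G G) (snd G G)

/-- its inverse `(a, b) ↦ (a b⁻¹, b)` -/
def shear' : G ⊗ G ⟶ G ⊗ G := lift (fst G G * (snd G G)⁻¹) (snd G G)

theorem shear'_shear : shear' G ≫ shear G = 𝟙 _ := by
  unfold shear shear'
  rw [CartesianMonoidalCategory.comp_lift, MonObj.comp_mul, lift_fst, lift_snd,
    inv_mul_cancel_right, lift_fst_snd]

theorem mul_eq : fst G G * snd G G = μ[G] := by
  rw [Hom.mul_def, lift_fst_snd, Category.id_comp]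

end Shear

variable {k : Type u} [Field k]
    {F G : Over (Spec (CommRingCat.of k))} [GrpObj F] [GrpObj G]
    (u : F ⟶ G) [Surjective u.left]
    {X : Over (Spec (CommRingCat.of k))} (p : G ⟶ X)

theorem psi_eq : lift ((u ▷ G) ≫ μ[G]) (snd F G) = (u ▷ G) ≫ shear G := by
  unfold shear
  rw [CartesianMonoidalCategory.comp_lift, mul_eq, whiskerRight_snd]

instance surj_whisker : Surjective (u ▷ G).left := by
  rw [Over.whiskerRight_left]
  exact MorphismProperty.pullbackMap (P := @Surjective) (inferInstance : Surjective u.left)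
    (inferInstance : Surjective (𝟙 G.left)) (Over.w u).symm (Category.id_comp _).symm

theorem surj_shear : Surjective (shear G).left := by
  constructor
  intro w
  refine ⟨(shear' G).left w, ?_⟩
  rw [← Scheme.Hom.comp_apply, ← Over.comp_left, shear'_shear]
  rfl

include u in
theorem p_const (hw : ((u ▷ G) ≫ μ[G]) ≫ p = snd F G ≫ p) (g₁ g₂ : G.left) :
    p.left g₁ = p.left g₂ := by
  haveI : Subsingleton (Spec (CommRingCat.of k)) :=
    inferInstanceAs (Subsingleton (PrimeSpectrum k))
  obtain ⟨w, hw1, hw2⟩ := Scheme.Pullback.exists_preimage_pullback (f := G.hom) (g := G.hom)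
    g₁ g₂ (Subsingleton.elim _ _)
  haveI := surj_shear (G := G)
  haveI : Surjective ((u ▷ G) ≫ shear G).left := by
    rw [Over.comp_left]
    infer_instance
  obtain ⟨z, hz⟩ := ((u ▷ G) ≫ shear G).left.surjective w
  rw [← psi_eq] at hz
  have h1 : ((u ▷ G) ≫ μ[G]).left z = g₁ := by
    rw [← hw1, ← hz]
    show _ = (fst G G).left ((lift ((u ▷ G) ≫ μ[G]) (snd F G)).left z)
    rw [← Scheme.Hom.comp_apply, ← Over.comp_left, lift_fst]
  have h2 : (snd F G).left z = g₂ := by
    rw [← hw2, ← hz]
    show _ = (snd G G).left ((lift ((u ▷ G) ≫ μ[G]) (snd F G)).left z)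
    rw [← Scheme.Hom.comp_apply, ← Over.comp_left, lift_snd]
  rw [← h1, ← h2, ← Scheme.Hom.comp_apply, ← Scheme.Hom.comp_apply, ← Over.comp_left,
    ← Over.comp_left, hw]

/-- a morphism with a retraction from the spectrum of a field induces an iso of residue fields -/
theorem isIso_residueFieldMap_of_section {Y Z : Scheme.{u}} (f : Y ⟶ Z) (σ : Z ⟶ Y)
    (hσ : σ ≫ f = 𝟙 Z) (z : Z) : IsIso (f.residueFieldMap (σ z)) := by
  have h1 : (σ ≫ f).residueFieldMap z = f.residueFieldMap (σ z) ≫ σ.residueFieldMap z :=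
    Scheme.residueFieldMap_comp σ f z
  have h2 : ∀ (g : Z ⟶ Z), g = 𝟙 Z → Function.Bijective (g.residueFieldMap z).hom := by
    intro g hg
    subst hg
    rw [Scheme.residueFieldMap_id]
    exact Function.bijective_id
  have hiso : IsIso (f.residueFieldMap (σ z) ≫ σ.residueFieldMap z) := by
    rw [← h1]
    exact (ConcreteCategory.isIso_iff_bijective _).mpr (h2 _ hσ)
  have hinj : Function.Injective (σ.residueFieldMap z).hom := RingHom.injective _
  have hsurj : Function.Surjective (σ.residueFieldMap z).hom := by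
    have hb := (ConcreteCategory.isIso_iff_bijective _).mp hiso
    intro c
    obtain ⟨a, ha⟩ := hb.2 c
    exact ⟨(f.residueFieldMap (σ z)).hom a, ha⟩
  haveI hB : IsIso (σ.residueFieldMap z) :=
    (ConcreteCategory.isIso_iff_bijective _).mpr ⟨hinj, hsurj⟩
  have : f.residueFieldMap (σ z) =
      (f.residueFieldMap (σ z) ≫ σ.residueFieldMap z) ≫ inv (σ.residueFieldMap z) := by
    rw [Category.assoc, IsIso.hom_inv_id, Category.comp_id]
  rw [this]
  infer_instance

theorem isAffine_of_unique {Y : Scheme.{u}} (y : Y) (hy : ∀ y' : Y, y' = y) : IsAffine Y := by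
  obtain ⟨U, hU, hyU, -⟩ := (Y.isBasis_affineOpens).exists_subset_of_mem_open
    (Set.mem_univ y) isOpen_univ
  obtain ⟨V, hV, rfl⟩ : ∃ V : Y.Opens, IsAffineOpen V ∧ (V : Set Y) = U := by
    obtain ⟨V, hV, hVU⟩ := hU
    exact ⟨V, hV, hVU⟩
  have htop : V = ⊤ := by
    ext y'
    simp only [SetLike.mem_coe, TopologicalSpace.Opens.coe_top, Set.mem_univ, iff_true]
    rw [hy y']
    exact hyU
  subst htop
  haveI : IsAffine ((⊤ : Y.Opens) : Scheme.{u}) := hV
  exact IsAffine.of_isIso (Scheme.topIso Y).inv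

theorem finite_of_isFiniteLength {k : Type u} [Field k] {C : Type u} [CommRing C] [Algebra k C]
    (hs : ∀ m : Ideal C, m.IsMaximal → Module.Finite k (C ⧸ m))
    (M : Type u) [AddCommGroup M] [Module C M] (hM : IsFiniteLength C M) :
    ∀ [Module k M] [IsScalarTower k C M], Module.Finite k M := by
  induction hM with
  | of_subsingleton =>
    intro _ _
    infer_instance
  | @of_simple_quotient M _ _ N hsimple _ ih =>
    intro _ _
    obtain ⟨m, hm, ⟨e⟩⟩ := isSimpleModule_iff_quot_maximal.mp hsimple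
    haveI := hs m hm
    haveI : Module.Finite k (M ⧸ N) := Module.Finite.equiv (e.restrictScalars k).symm
    haveI : Module.Finite k (M ⧸ N.restrictScalars k) :=
      Module.Finite.equiv (Submodule.Quotient.restrictScalarsEquiv k N).symm
    haveI : Module.Finite k (N.restrictScalars k) := ih
    exact Module.Finite.of_submodule_quotient (N.restrictScalars k)

theorem isNoetherianRing_of_faithfullyFlat (C D : Type u) [CommRing C] [CommRing D] [Algebra C D]
    [Module.FaithfullyFlat C D] [IsNoetherianRing D] : IsNoetherianRing C := by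
  have hmono : StrictMono (Ideal.map (algebraMap C D)) :=
    Monotone.strictMono_of_injective (fun _ _ h => Ideal.map_mono h)
      Ideal.map_injective_of_faithfullyFlat
  haveI : WellFoundedGT (Ideal D) := inferInstance
  haveI : WellFoundedGT (Ideal C) := hmono.wellFoundedGT
  exact isNoetherian_iff'.mpr inferInstance

/-- the algebra core -/
theorem finite_core (k C D : Type u) [Field k] [CommRing C] [Algebra k C] [CommRing D]
    [Algebra C D] [Module.Flat C D] [Nontrivial D] [IsNoetherianRing D]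
    (huniq : ∀ P Q : Ideal C, P.IsPrime → Q.IsPrime → P = Q) (ε : C →ₐ[k] k) :
    Module.Finite k C := by
  haveI : Module.FaithfullyFlat C D := by
    apply Module.FaithfullyFlat.of_comap_surjective
    intro P
    obtain ⟨Q, hQ⟩ := Ideal.exists_maximal D
    refine ⟨⟨Q, hQ.isPrime⟩, ?_⟩
    apply PrimeSpectrum.ext
    exact huniq _ _ (Ideal.IsPrime.comap _) P.isPrime
  haveI := isNoetherianRing_of_faithfullyFlat C D
  have hsurj : Function.Surjective ε := fun c => ⟨algebraMap k C c, by rw [AlgHom.commutes]; rfl⟩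
  haveI hmax : (RingHom.ker ε.toRingHom).IsMaximal := RingHom.ker_isMaximal_of_surjective _ hsurj
  haveI : Ring.KrullDimLE 0 C := by
    rw [Ring.krullDimLE_zero_iff]
    intro I hI
    rw [huniq I _ hI hmax.isPrime]
    exact hmax
  haveI : IsArtinianRing C := isArtinianRing_iff_isNoetherianRing_krullDimLE_zero.mpr
    ⟨inferInstance, inferInstance⟩
  have hfl : IsFiniteLength C C := isFiniteLength_iff_isNoetherian_isArtinian.mpr
    ⟨inferInstance, inferInstance⟩
  refine finite_of_isFiniteLength (k := k) (C := C) ?_ C hfl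
  intro m hm
  have hmk : m = RingHom.ker ε := huniq _ _ hm.isPrime hmax.isPrime
  subst hmk
  exact Module.Finite.equiv
    (Ideal.quotientKerAlgEquivOfSurjective hsurj).symm.toLinearEquiv


theorem finite_of_section {k : Type u} [Field k] {Xl Gl : Scheme.{u}} [IsAffine Xl]
    (hX : Xl ⟶ Spec (CommRingCat.of k)) (σ : Spec (CommRingCat.of k) ⟶ Xl) (hσ : σ ≫ hX = 𝟙 _)
    (huniq : ∀ y y' : Xl, y = y')
    (pl : Gl ⟶ Xl) [Flat pl] (hG : Gl ⟶ Spec (CommRingCat.of k)) [LocallyOfFiniteType hG]
    (g₀ : Gl) :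
    ((Scheme.ΓSpecIso (CommRingCat.of k)).inv ≫ hX.appTop).hom.Finite := by
  obtain ⟨φ, hφ⟩ : ∃ φ : CommRingCat.of k ⟶ Γ(Xl, ⊤),
      φ = (Scheme.ΓSpecIso (CommRingCat.of k)).inv ≫ hX.appTop := ⟨_, rfl⟩
  rw [← hφ]
  letI : Algebra k Γ(Xl, ⊤) := φ.hom.toAlgebra
  show Module.Finite k Γ(Xl, ⊤)
  -- uniqueness of primes
  have hprime : ∀ P Q : Ideal Γ(Xl, ⊤), P.IsPrime → Q.IsPrime → P = Q := by
    intro P Q hP hQ
    have h1 : Xl.isoSpec.inv (⟨P, hP⟩ : PrimeSpectrum Γ(Xl, ⊤)) =
        Xl.isoSpec.inv (⟨Q, hQ⟩ : PrimeSpectrum Γ(Xl, ⊤)) := huniq _ _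
    have h2 := (ConcreteCategory.bijective_of_isIso Xl.isoSpec.inv.base).1 h1
    exact congrArg PrimeSpectrum.asIdeal h2
  -- the augmentation
  let ε₀ : Γ(Xl, ⊤) ⟶ CommRingCat.of k := σ.appTop ≫ (Scheme.ΓSpecIso (CommRingCat.of k)).hom
  have hε : φ ≫ ε₀ = 𝟙 _ := by
    rw [hφ]
    show ((Scheme.ΓSpecIso (CommRingCat.of k)).inv ≫ hX.appTop) ≫ σ.appTop ≫
      (Scheme.ΓSpecIso (CommRingCat.of k)).hom = 𝟙 _
    rw [Category.assoc, ← Category.assoc hX.appTop, ← Scheme.Hom.comp_appTop, hσ,
      Scheme.Hom.id_appTop, Category.id_comp, Iso.inv_hom_id]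
  let ε : Γ(Xl, ⊤) →ₐ[k] k := { ε₀.hom with
    commutes' := fun c => by
      have := congrArg (fun f => f.hom c) hε
      exact this }
  -- an affine open of `G`
  obtain ⟨U, hU, hgU, -⟩ := (Gl.isBasis_affineOpens).exists_subset_of_mem_open
    (Set.mem_univ g₀) isOpen_univ
  obtain ⟨V, hV, rfl⟩ : ∃ V : Gl.Opens, IsAffineOpen V ∧ (V : Set Gl) = U := by
    obtain ⟨V, hV, hVU⟩ := hU
    exact ⟨V, hV, hVU⟩
  haveI : Nonempty V := ⟨⟨g₀, hgU⟩⟩
  haveI : Nontrivial Γ(Gl, V) := Scheme.component_nontrivial Gl V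
  let ψ : Γ(Xl, ⊤) ⟶ Γ(Gl, V) := pl.appLE ⊤ V le_top
  letI : Algebra Γ(Xl, ⊤) Γ(Gl, V) := ψ.hom.toAlgebra
  haveI : Module.Flat Γ(Xl, ⊤) Γ(Gl, V) :=
    HasRingHomProperty.appLE (P := @Flat) pl inferInstance ⟨⊤, isAffineOpen_top Xl⟩ ⟨V, hV⟩ le_top
  haveI : IsNoetherianRing Γ(Gl, V) := by
    have hft : (hG.appLE ⊤ V le_top).hom.FiniteType :=
      HasRingHomProperty.appLE (P := @LocallyOfFiniteType) hG inferInstance
        ⟨⊤, isAffineOpen_top _⟩ ⟨V, hV⟩ le_top
    letI : Algebra Γ(Spec (CommRingCat.of k), ⊤) Γ(Gl, V) := (hG.appLE ⊤ V le_top).hom.toAlgebra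
    haveI : Algebra.FiniteType Γ(Spec (CommRingCat.of k), ⊤) Γ(Gl, V) := hft
    haveI : IsNoetherianRing Γ(Spec (CommRingCat.of k), ⊤) :=
      isNoetherianRing_of_ringEquiv k
        (Scheme.ΓSpecIso (CommRingCat.of k)).symm.commRingCatIsoToRingEquiv
    exact Algebra.FiniteType.isNoetherianRing Γ(Spec (CommRingCat.of k), ⊤) Γ(Gl, V)
  exact finite_core k Γ(Xl, ⊤) Γ(Gl, V) hprime ε

theorem main (k : Type u) [Field k] [PerfectField k]
    (F G : Over (Spec (CommRingCat.of k))) [GrpObj F] [GrpObj G] [LocallyOfFiniteType G.hom] [IsReduced F.left]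
    (u : F ⟶ G) [IsMonHom u] [IsClosedImmersion u.left] [Surjective u.left]
    (X : Over (Spec (CommRingCat.of k))) (p : G ⟶ X) [Flat p.left] [Surjective p.left] [LocallyOfFinitePresentation p.left]
    (hp : IsPullback ((u ▷ G) ≫ μ[G]) (snd F G) p p) :
    IsAffine X.left ∧ (∃ x : X.left, (Set.univ : Set X.left) = {x} ∧ IsIso (X.hom.residueFieldMap x)) ∧
      ((Scheme.ΓSpecIso (CommRingCat.of k)).inv ≫ X.hom.appTop).hom.Finite := by
  have hconst := p_const u p hp.w
  obtain ⟨σ, hσdef⟩ : ∃ σ : Spec (CommRingCat.of k) ⟶ X.left, σ = (η[G] ≫ p).left := ⟨_, rfl⟩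
  have hσ : σ ≫ X.hom = 𝟙 _ := by
    rw [hσdef]
    exact Over.w (η[G] ≫ p)
  obtain ⟨e₀, he₀⟩ : ∃ e₀ : Spec (CommRingCat.of k) ⟶ G.left, e₀ = η[G].left := ⟨_, rfl⟩
  let pt : Spec (CommRingCat.of k) := IsLocalRing.closedPoint k
  have huniq : ∀ y y' : X.left, y = y' := by
    intro y y'
    obtain ⟨g, rfl⟩ := p.left.surjective y
    obtain ⟨g', rfl⟩ := p.left.surjective y'
    exact hconst g g'
  haveI : IsAffine X.left := isAffine_of_unique (σ pt) (fun y => huniq _ _)
  refine ⟨inferInstance, ⟨σ pt, ?_, isIso_residueFieldMap_of_section X.hom σ hσ pt⟩,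
    finite_of_section X.hom σ hσ huniq p.left G.hom (e₀ pt)⟩
  ext y
  simp only [Set.mem_univ, Set.mem_singleton_iff, true_iff]
  exact huniq _ _

end Groth.Agent.S6084

namespace Groth.Agent.S6084

/-- Let k be a perfect field, G a group scheme locally of finite type over k and u : F → G a
homomorphism of k-group schemes which is a closed immersion and surjective on underlying spaces,
with F reduced (so F is G_red with its group structure). Let p : G → X be a k-morphism which is
flat, surjective and locally of finite presentation and makes the square formed by (f, g) ↦ u(f) ·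
g, the second projection F ×_k G → G and p (twice) cartesian (X is the quotient of G by F acting by
left translations). Then X is the spectrum of a finite local k-algebra with residue field k: X is
affine, its underlying space is a single point at which the structure morphism induces an
isomorphism of residue fields, and the ring of global sections of X is finite over k. -/
theorem result (k : Type u) [Field k] [PerfectField k]
    (F G : Over (Spec (CommRingCat.of k))) [GrpObj F] [GrpObj G] [LocallyOfFiniteType G.hom] [IsReduced F.left]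
    (u : F ⟶ G) [IsMonHom u] [IsClosedImmersion u.left] [Surjective u.left]
    (X : Over (Spec (CommRingCat.of k))) (p : G ⟶ X) [Flat p.left] [Surjective p.left] [LocallyOfFinitePresentation p.left]
    (hp : IsPullback ((u ▷ G) ≫ μ[G]) (snd F G) p p) :
    IsAffine X.left ∧ (∃ x : X.left, (Set.univ : Set X.left) = {x} ∧ IsIso (X.hom.residueFieldMap x)) ∧
      ((Scheme.ΓSpecIso (CommRingCat.of k)).inv ≫ X.hom.appTop).hom.Finite := by
  exact main k F G u X p hp

end Groth.Agent.S6084
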