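import Groth.Statements.S6088
import Groth.Agent.Lib.Helper50.OverLimFactor
import Groth.Agent.Lib.Helper50.OverLimCentral

set_option autoImplicit false
universe u
open CategoryTheory CategoryTheory.Limits MonoidalCategory CartesianMonoidalCategory MonObj GrpObj AlgebraicGeometry
open SGA3

namespace Groth.Agent.S6088

/-- Let S be the limit of a cofiltered system (S_i) of quasi-compact quasi-separated schemes with affine
transition morphisms, j an index and u_j : H_j → G_j a homomorphism of S_j-group schemes of finite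
presentation over S_j; write u and u_i for its base changes to S and to S_i. Then u is a
monomorphism with H normal in G (for every S-scheme T, conjugates of T-points of H by T-points of G
are T-points of H) if and only if there is an index i over j such that u_i is a monomorphism with
H_i normal in G_i; and u is a monomorphism with H central in G (every T-point of H commutes with
every T-point of G) if and only if there is an index i over j with the same property for u_i. (The
published statement starts from a homomorphism u of S-groups of finite presentation and first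
descends it to some u_j; this row starts from u_j. The published setting takes all S_i affine over a
fixed quasi-compact quasi-separated S_0.) -/
theorem result {I : Type u} [SmallCategory I] [IsCofiltered I]
    (D : I ⥤ Scheme.{u}) (c : Limits.Cone D) (hc : Limits.IsLimit c)
    [∀ (i i' : I) (f : i ⟶ i'), IsAffineHom (D.map f)] [∀ i, CompactSpace (D.obj i)] [∀ i, QuasiSeparatedSpace (D.obj i)]
    (j : I) (Gj Hj : Over (D.obj j)) [GrpObj Gj] [GrpObj Hj]
    [LocallyOfFinitePresentation Gj.hom] [QuasiCompact Gj.hom] [QuasiSeparated Gj.hom]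
    [LocallyOfFinitePresentation Hj.hom] [QuasiCompact Hj.hom] [QuasiSeparated Hj.hom]
    (uj : Hj ⟶ Gj) [IsMonHom uj] :
    ((Mono ((Over.pullback (c.π.app j)).map uj) ∧ AlgGrp.IsNormalHom ((Over.pullback (c.π.app j)).map uj)) ↔
      ∃ (i : I) (f : i ⟶ j), Mono ((Over.pullback (D.map f)).map uj) ∧ AlgGrp.IsNormalHom ((Over.pullback (D.map f)).map uj)) ∧
    ((Mono ((Over.pullback (c.π.app j)).map uj) ∧ (∀ (T : Over c.pt) (g : T ⟶ (Red.bc (c.π.app j) Gj)) (n : T ⟶ (Red.bc (c.π.app j) Hj)), g * (n ≫ ((Over.pullback (c.π.app j)).map uj)) = (n ≫ ((Over.pullback (c.π.app j)).map uj)) * g)) ↔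
      ∃ (i : I) (f : i ⟶ j), Mono ((Over.pullback (D.map f)).map uj) ∧ (∀ (T : Over (D.obj i)) (g : T ⟶ (Red.bc (D.map f) Gj)) (n : T ⟶ (Red.bc (D.map f) Hj)), g * (n ≫ ((Over.pullback (D.map f)).map uj)) = (n ≫ ((Over.pullback (D.map f)).map uj)) * g)) := by
  open Groth.Agent.Lib.Helper50 Groth.Agent.Lib.Helper50.OverLim
    Groth.Agent.Lib.Helper50.SubGrpFunctor in
  classical
  have cG : CompactSpace Gj.left := QuasiCompact.compactSpace_of_compactSpace Gj.hom
  have sG : QuasiSeparatedSpace Gj.left := quasiSeparatedSpace_of_quasiSeparated Gj.hom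
  have cH : CompactSpace Hj.left := QuasiCompact.compactSpace_of_compactSpace Hj.hom
  have sH : QuasiSeparatedSpace Hj.left := quasiSeparatedSpace_of_quasiSeparated Hj.hom
  have cGH : CompactSpace (Gj ⊗ Hj).left :=
    (QuasiCompact.compactSpace_of_compactSpace (Limits.pullback.fst Gj.hom Hj.hom) :
      CompactSpace ↥(Limits.pullback Gj.hom Hj.hom))
  have sGH : QuasiSeparatedSpace (Gj ⊗ Hj).left :=
    (quasiSeparatedSpace_of_quasiSeparated (Limits.pullback.fst Gj.hom Hj.hom) :
      QuasiSeparatedSpace ↥(Limits.pullback Gj.hom Hj.hom))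
  have hcomp : uj.left ≫ Gj.hom = Hj.hom := Over.w uj
  have qcu : QuasiCompact uj.left := by
    have : QuasiCompact (uj.left ≫ Gj.hom) := by rw [hcomp]; infer_instance
    exact QuasiCompact.of_comp uj.left Gj.hom
  have fpu : LocallyOfFinitePresentation uj.left := by
    have : LocallyOfFinitePresentation (uj.left ≫ Gj.hom) := by rw [hcomp]; infer_instance
    exact locallyOfFinitePresentation_of_comp uj.left Gj.hom
  let α : ∀ (i : I) (f : i ⟶ j),
      Over.pullback (D.map f) ⋙ Over.pullback (c.π.app i) ≅ Over.pullback (c.π.app j) :=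
    fun i f => (Over.pullbackComp (c.π.app i) (D.map f)).symm ≪≫
      eqToIso (congrArg (fun g => Over.pullback g) (c.w f))
  have monoUp : ∀ (i : I) (f : i ⟶ j), Mono ((Over.pullback (D.map f)).map uj) →
      Mono ((Over.pullback (c.π.app j)).map uj) := fun i f h => by
    have : Mono ((Over.pullback (c.π.app i)).map ((Over.pullback (D.map f)).map uj)) :=
      inferInstance
    exact mono_of_natIso (α i f) uj this
  have monoDown : Mono ((Over.pullback (c.π.app j)).map uj) →
      ∃ k : Over j, ∀ (k' : Over j) (_ : k' ⟶ k), Mono ((Over.pullback (D.map k'.hom)).map uj) :=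
    exists_forall_mono D c hc j uj
  refine ⟨⟨?_, ?_⟩, ⟨?_, ?_⟩⟩
  · rintro ⟨hm, hn⟩
    obtain ⟨k₁, hk₁⟩ := monoDown hm
    haveI := hm
    obtain ⟨k₂, hk₂⟩ := exists_stage_factor' D c hc j uj (conj uj)
      (exists_factor_conj (Over.pullback (c.π.app j)) uj hn)
    refine ⟨(IsCofiltered.min k₁ k₂).left, (IsCofiltered.min k₁ k₂).hom,
      hk₁ _ (IsCofiltered.minToLeft _ _), ?_⟩
    obtain ⟨ψ, hψ⟩ := hk₂ _ (IsCofiltered.minToRight k₁ k₂)
    intro T g n
    exact normal_of_factor_conj (Over.pullback (D.map (IsCofiltered.min k₁ k₂).hom)) uj ψ hψ T g n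
  · rintro ⟨i, f, hm, hn⟩
    refine ⟨monoUp i f hm, ?_⟩
    obtain ⟨ψ, hψ⟩ := factor_of_natIso (α i f) uj (conj uj)
      (factor_comp _ (Over.pullback (c.π.app i)) uj (conj uj)
        (exists_factor_conj (Over.pullback (D.map f)) uj hn))
    intro T g n
    exact normal_of_factor_conj (Over.pullback (c.π.app j)) uj ψ hψ T g n
  · rintro ⟨hm, hcen⟩
    obtain ⟨k₁, hk₁⟩ := monoDown hm
    obtain ⟨k₂, hk₂⟩ := exists_forall_map_eq D c hc j (comm₁ uj) (comm₂ uj)
      (map_comm_eq_of_central (Over.pullback (c.π.app j)) uj hcen)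
    refine ⟨(IsCofiltered.min k₁ k₂).left, (IsCofiltered.min k₁ k₂).hom,
      hk₁ _ (IsCofiltered.minToLeft _ _), ?_⟩
    intro T g n
    exact central_of_map_comm_eq (Over.pullback (D.map (IsCofiltered.min k₁ k₂).hom)) uj
      (hk₂ _ (IsCofiltered.minToRight k₁ k₂)) T g n
  · rintro ⟨i, f, hm, hcen⟩
    refine ⟨monoUp i f hm, ?_⟩
    have h1 := map_comm_eq_of_central (Over.pullback (D.map f)) uj hcen
    have h2 : (Over.pullback (D.map f) ⋙ Over.pullback (c.π.app i)).map (comm₁ uj) =
        (Over.pullback (D.map f) ⋙ Over.pullback (c.π.app i)).map (comm₂ uj) := by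
      rw [Functor.comp_map, Functor.comp_map, h1]
    have h3 := map_eq_of_natIso (α i f) _ _ h2
    intro T g n
    exact central_of_map_comm_eq (Over.pullback (c.π.app j)) uj h3 T g n

end Groth.Agent.S6088
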