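import Groth.Statements.S6092
import Groth.Agent.Lib.Helper50.OverLimCover

set_option autoImplicit false
universe u
open CategoryTheory CategoryTheory.Limits MonoidalCategory CartesianMonoidalCategory MonObj GrpObj AlgebraicGeometry
open SGA3

namespace Groth.Agent.S6092

/-- Let S be the limit of a cofiltered system (S_i) of quasi-compact quasi-separated schemes with affine
transition morphisms, j an index, G_j an S_j-group scheme and X_j an S_j-scheme with an action of
G_j, both of finite presentation over S_j. For a base change G, X (with the base-changed action) say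
that X is a G-torsor for the fppf topology when (g, x) ↦ (g · x, x) is an isomorphism G × X → X × X
and the structure morphism of X is covering for the fppf topology: some faithfully flat morphism of
finite presentation Z → (base) factors through X. Then X_j ×_{S_j} S is a torsor under G_j ×_{S_j} S
if and only if there is an index i over j such that X_j ×_{S_j} S_i is a torsor under G_j ×_{S_j}
S_i. (The published statement also treats homogeneous spaces, where (g, x) ↦ (g · x, x) is only
required to be an fppf covering; that case is not stated. The published setting takes all S_i affine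
over a fixed quasi-compact quasi-separated S_0.) -/
theorem result {I : Type u} [SmallCategory I] [IsCofiltered I]
    (D : I ⥤ Scheme.{u}) (c : Limits.Cone D) (hc : Limits.IsLimit c)
    [∀ (i i' : I) (f : i ⟶ i'), IsAffineHom (D.map f)] [∀ i, CompactSpace (D.obj i)] [∀ i, QuasiSeparatedSpace (D.obj i)]
    (j : I) (Gj Xj : Over (D.obj j)) [GrpObj Gj] (act : AlgGrp.Action Gj Xj)
    [LocallyOfFinitePresentation Gj.hom] [QuasiCompact Gj.hom] [QuasiSeparated Gj.hom]
    [LocallyOfFinitePresentation Xj.hom] [QuasiCompact Xj.hom] [QuasiSeparated Xj.hom] :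
    (IsIso (lift (Functor.LaxMonoidal.μ (Over.pullback (c.π.app j)) Gj Xj ≫ (Over.pullback (c.π.app j)).map act.act) (snd (Red.bc (c.π.app j) Gj) (Red.bc (c.π.app j) Xj))) ∧
        ∃ (Z : Scheme.{u}) (v : Z ⟶ c.pt) (w : Z ⟶ (Red.bc (c.π.app j) Xj).left), w ≫ (Red.bc (c.π.app j) Xj).hom = v ∧
          Flat v ∧ Surjective v ∧ LocallyOfFinitePresentation v ∧ QuasiCompact v ∧ QuasiSeparated v) ↔
    ∃ (i : I) (f : i ⟶ j), (IsIso (lift (Functor.LaxMonoidal.μ (Over.pullback (D.map f)) Gj Xj ≫ (Over.pullback (D.map f)).map act.act) (snd (Red.bc (D.map f) Gj) (Red.bc (D.map f) Xj))) ∧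
        ∃ (Z : Scheme.{u}) (v : Z ⟶ (D.obj i)) (w : Z ⟶ (Red.bc (D.map f) Xj).left), w ≫ (Red.bc (D.map f) Xj).hom = v ∧
          Flat v ∧ Surjective v ∧ LocallyOfFinitePresentation v ∧ QuasiCompact v ∧ QuasiSeparated v) := by
  open Groth.Agent.Lib.Helper50 Groth.Agent.Lib.Helper50.OverLim
    Groth.Agent.Lib.Helper50.SubGrpFunctor in
  classical
  have cG : CompactSpace Gj.left := QuasiCompact.compactSpace_of_compactSpace Gj.hom
  have cX : CompactSpace Xj.left := QuasiCompact.compactSpace_of_compactSpace Xj.hom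
  have sX : QuasiSeparatedSpace Xj.left := quasiSeparatedSpace_of_quasiSeparated Xj.hom
  have cGX : CompactSpace (Gj ⊗ Xj).left :=
    (QuasiCompact.compactSpace_of_compactSpace (Limits.pullback.fst Gj.hom Xj.hom) :
      CompactSpace ↥(Limits.pullback Gj.hom Xj.hom))
  have cXX : CompactSpace (Xj ⊗ Xj).left :=
    (QuasiCompact.compactSpace_of_compactSpace (Limits.pullback.fst Xj.hom Xj.hom) :
      CompactSpace ↥(Limits.pullback Xj.hom Xj.hom))
  have sXX : QuasiSeparatedSpace (Xj ⊗ Xj).left :=
    (quasiSeparatedSpace_of_quasiSeparated (Limits.pullback.fst Xj.hom Xj.hom) :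
      QuasiSeparatedSpace ↥(Limits.pullback Xj.hom Xj.hom))
  let φ : Gj ⊗ Xj ⟶ Xj ⊗ Xj := lift act.act (snd Gj Xj)
  have lGX : LocallyOfFinitePresentation (Gj ⊗ Xj).hom :=
    inferInstanceAs (LocallyOfFinitePresentation (Limits.pullback.fst Gj.hom Xj.hom ≫ Gj.hom))
  have lXX : LocallyOfFiniteType (Xj ⊗ Xj).hom :=
    inferInstanceAs (LocallyOfFiniteType (Limits.pullback.fst Xj.hom Xj.hom ≫ Xj.hom))
  have lφ : LocallyOfFinitePresentation φ.left := by
    have : LocallyOfFinitePresentation (φ.left ≫ (Xj ⊗ Xj).hom) := by rw [Over.w]; infer_instance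
    exact locallyOfFinitePresentation_of_comp φ.left (Xj ⊗ Xj).hom
  let α : ∀ (i : I) (f : i ⟶ j),
      Over.pullback (D.map f) ⋙ Over.pullback (c.π.app i) ≅ Over.pullback (c.π.app j) :=
    fun i f => (Over.pullbackComp (c.π.app i) (D.map f)).symm ≪≫
      eqToIso (congrArg (fun g => Over.pullback g) (c.w f))
  constructor
  · rintro ⟨hiso, hcov⟩
    have hiso' : IsIso ((Over.pullback (c.π.app j)).map φ) :=
      (isIso_lift_iff (Over.pullback (c.π.app j)) act.act).mp hiso
    obtain ⟨k₁, hk₁⟩ := exists_forall_isIso_map D c hc j φ hiso'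
    obtain ⟨i₂, f₂, hcov₂⟩ := exists_cover_stage D c hc j Xj hcov
    let k := IsCofiltered.min k₁ (Over.mk f₂)
    refine ⟨k.left, k.hom, (isIso_lift_iff (Over.pullback (D.map k.hom)) act.act).mpr
      (hk₁ k (IsCofiltered.minToLeft _ _)), ?_⟩
    exact IsFppfCovering.bc (D.map f₂) Xj (D.map (IsCofiltered.minToRight k₁ (Over.mk f₂)).left)
      (D.map k.hom) (by rw [← D.map_comp]; exact congrArg D.map (Over.w _)) hcov₂
  · rintro ⟨i, f, hiso, hcov⟩
    have h1 : IsIso ((Over.pullback (D.map f)).map φ) :=
      (isIso_lift_iff (Over.pullback (D.map f)) act.act).mp hiso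
    have h2 : IsIso ((Over.pullback (D.map f) ⋙ Over.pullback (c.π.app i)).map φ) := by
      rw [Functor.comp_map]; infer_instance
    have h3 : IsIso ((Over.pullback (c.π.app j)).map φ) := isIso_of_natIso (α i f) φ h2
    exact ⟨(isIso_lift_iff (Over.pullback (c.π.app j)) act.act).mpr h3,
      IsFppfCovering.bc (D.map f) Xj (c.π.app i) (c.π.app j) (c.w f) hcov⟩

end Groth.Agent.S6092
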