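import Groth.Statements.S6094
import Groth.Agent.Lib.Helper14.GModComod
import Mathlib

set_option autoImplicit false
universe u
open CategoryTheory MonObj GrpObj AlgebraicGeometry
open scoped TensorProduct
open SGA3

namespace Groth.Agent.S6094

section
open Helper14.GModComod

variable {R : Type u} [CommRing R] {A : Type u} [CommRing A] [HopfAlgebra R A]
  {E : Type u} [AddCommGroup E] [Module R E]

noncomputable abbrev GG (R A : Type u) [CommRing R] [CommRing A] [HopfAlgebra R A] :
    Over (Spec (CommRingCat.of R)) :=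
  (Spec (CommRingCat.of A)).asOver (Spec (CommRingCat.of R))

noncomputable def fOf {B : Type u} [CommRing B] [Algebra R B] (g : VecGrp.pt R B ⟶ GG R A) :
    A →ₐ[R] B :=
  (Spec.mapMulEquiv.symm g).ofConv

lemma fOf_mul {B : Type u} [CommRing B] [Algebra R B] (g h : VecGrp.pt R B ⟶ GG R A) :
    (fOf (g * h)).toLinearMap =
      LinearMap.mul' R B ∘ₗ TensorProduct.map (fOf g).toLinearMap (fOf h).toLinearMap ∘ₗ
        CoalgebraStruct.comul := by
  have h1 : Spec.mapMulEquiv.symm (g * h) =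
      Spec.mapMulEquiv.symm g * Spec.mapMulEquiv.symm h := map_mul _ _ _
  change (Spec.mapMulEquiv.symm (g * h)).ofConv.toLinearMap = _
  rw [h1]
  rfl

lemma fOf_one {B : Type u} [CommRing B] [Algebra R B] :
    (fOf (1 : VecGrp.pt R B ⟶ GG R A)).toLinearMap =
      Algebra.linearMap R B ∘ₗ CoalgebraStruct.counit := by
  have h1 : Spec.mapMulEquiv.symm (1 : VecGrp.pt R B ⟶ GG R A) = 1 := map_one _
  change (Spec.mapMulEquiv.symm (1 : VecGrp.pt R B ⟶ GG R A)).ofConv.toLinearMap = _
  rw [h1]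
  rfl

lemma fOf_ptMap {B B' : Type u} [CommRing B] [Algebra R B] [CommRing B'] [Algebra R B']
    (φ : B →ₐ[R] B') (g : VecGrp.pt R B ⟶ GG R A) :
    fOf (VecGrp.ptMap φ ≫ g) = φ.comp (fOf g) := by
  have h2 : VecGrp.ptMap φ ≫ g =
      Spec.mapMulEquiv (WithConv.toConv (φ.comp (fOf g))) := by
    have hg : g = Spec.mapMulEquiv (WithConv.toConv (fOf g)) :=
      (Spec.mapMulEquiv.apply_symm_apply g).symm
    ext1
    conv_lhs => rw [hg]
    change Spec.map (CommRingCat.ofHom φ.toRingHom) ≫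
      Spec.map (CommRingCat.ofHom (fOf g).toRingHom) =
      Spec.map (CommRingCat.ofHom (φ.comp (fOf g)).toRingHom)
    rw [← Spec.map_comp]
    rfl
  have h3 : fOf (VecGrp.ptMap φ ≫ g) =
      fOf (Spec.mapMulEquiv (WithConv.toConv (φ.comp (fOf g))) : VecGrp.pt R B' ⟶ GG R A) :=
    congrArg fOf h2
  rw [h3]
  change (Spec.mapMulEquiv.symm (Spec.mapMulEquiv (WithConv.toConv (φ.comp (fOf g))))).ofConv = _
  rw [MulEquiv.symm_apply_apply]

noncomputable def univPt (R A : Type u) [CommRing R] [CommRing A] [HopfAlgebra R A] :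
    VecGrp.pt R A ⟶ GG R A :=
  Spec.mapMulEquiv (WithConv.toConv (AlgHom.id R A))

lemma fOf_univPt : fOf (univPt R A) = AlgHom.id R A := by
  change (Spec.mapMulEquiv.symm (Spec.mapMulEquiv (WithConv.toConv (AlgHom.id R A)))).ofConv = _
  rw [MulEquiv.symm_apply_apply]

lemma ptMap_univPt {B : Type u} [CommRing B] [Algebra R B] (g : VecGrp.pt R B ⟶ GG R A) :
    VecGrp.ptMap (fOf g) ≫ univPt R A = g := by
  apply Spec.mapMulEquiv.symm.injective
  apply WithConv.ofConv_injective
  change fOf (VecGrp.ptMap (fOf g) ≫ univPt R A) = fOf g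
  rw [fOf_ptMap, fOf_univPt, AlgHom.comp_id]

lemma gmod_ext (m m' : VecGrp.GMod (GG R A) E)
    (h : ∀ (B : Type u) [CommRing B] [Algebra R B] (g : VecGrp.pt R B ⟶ GG R A) (x : E),
      m.ρ B g ((1 : B) ⊗ₜ[R] x) = m'.ρ B g ((1 : B) ⊗ₜ[R] x)) : m = m' := by
  have h2 : ∀ (B : Type u) [CommRing B] [Algebra R B] (g : VecGrp.pt R B ⟶ GG R A),
      m.ρ B g = m'.ρ B g := by
    intro B _ _ g
    apply LinearEquiv.toLinearMap_injective
    exact ext_one_tmul _ _ (h B g)
  cases m with
  | mk ρ nat =>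
    cases m' with
    | mk ρ' nat' =>
      have : ρ = ρ' := by
        funext B _ _
        exact MonoidHom.ext (h2 B)
      subst this
      rfl

lemma rho_eq_T (m : VecGrp.GMod (GG R A) E) (δ : E →ₗ[R] E ⊗[R] A)
    (h : ∀ (B : Type u) [CommRing B] [Algebra R B] (g : VecGrp.pt R B ⟶ GG R A) (x : E),
      m.ρ B g ((1 : B) ⊗ₜ[R] x) = sw (fOf g).toLinearMap (δ x))
    (B : Type u) [CommRing B] [Algebra R B] (g : VecGrp.pt R B ⟶ GG R A) :
    (m.ρ B g).toLinearMap = T δ (fOf g).toLinearMap := by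
  apply ext_one_tmul
  intro x
  rw [T_one_tmul]
  exact h B g x

section FromComod

variable (δ : E →ₗ[R] E ⊗[R] A)
  (hco : (TensorProduct.assoc R E A A).toLinearMap ∘ₗ δ.rTensor A ∘ₗ δ =
    (CoalgebraStruct.comul (R := R) (A := A)).lTensor E ∘ₗ δ)
  (hcu : (CoalgebraStruct.counit (R := R) (A := A)).lTensor E ∘ₗ δ = (TensorProduct.mk R E R).flip 1)

include hco hcu in
lemma T_inv {B : Type u} [CommRing B] [Algebra R B] (g h : VecGrp.pt R B ⟶ GG R A)
    (hgh : g * h = 1) :
    T δ (fOf g).toLinearMap ∘ₗ T δ (fOf h).toLinearMap = LinearMap.id := by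
  rw [← T_mul δ hco, ← fOf_mul, hgh, fOf_one, T_one δ hcu]

noncomputable def gmodOf : VecGrp.GMod (GG R A) E where
  ρ B _ _ :=
    { toFun := fun g => LinearEquiv.ofLinearMap (T δ (fOf g).toLinearMap) (T δ (fOf g⁻¹).toLinearMap)
        (T_inv δ hco hcu g g⁻¹ (mul_inv_cancel g)) (T_inv δ hco hcu g⁻¹ g (inv_mul_cancel g))
      map_one' := by
        apply LinearEquiv.toLinearMap_injective
        change T δ (fOf (1 : VecGrp.pt R B ⟶ GG R A)).toLinearMap = LinearMap.id
        rw [fOf_one, T_one δ hcu]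
      map_mul' := by
        intro g h
        apply LinearEquiv.toLinearMap_injective
        change T δ (fOf (g * h)).toLinearMap =
          T δ (fOf g).toLinearMap ∘ₗ T δ (fOf h).toLinearMap
        rw [fOf_mul, T_mul δ hco] }
  naturality := by
    intro B B' _ _ _ _ φ g x
    change φ.toLinearMap.rTensor E (T δ (fOf g).toLinearMap x) =
      T δ (fOf (VecGrp.ptMap φ ≫ g)).toLinearMap (φ.toLinearMap.rTensor E x)
    rw [fOf_ptMap, T_natural]
    rfl

lemma gmodOf_apply {B : Type u} [CommRing B] [Algebra R B] (g : VecGrp.pt R B ⟶ GG R A) (x : E) :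
    (gmodOf δ hco hcu).ρ B g ((1 : B) ⊗ₜ[R] x) = sw (fOf g).toLinearMap (δ x) :=
  T_one_tmul δ _ x

end FromComod

section ToComod

variable (m : VecGrp.GMod (GG R A) E)

noncomputable def deltaOf : E →ₗ[R] E ⊗[R] A :=
  (TensorProduct.comm R E A).symm.toLinearMap ∘ₗ
    ((m.ρ A (univPt R A)).toLinearMap.restrictScalars R) ∘ₗ (TensorProduct.mk R A E 1)

lemma deltaOf_apply (x : E) :
    deltaOf m x = (TensorProduct.comm R E A).symm (m.ρ A (univPt R A) ((1 : A) ⊗ₜ[R] x)) := rfl

lemma deltaOf_formula {B : Type u} [CommRing B] [Algebra R B] (g : VecGrp.pt R B ⟶ GG R A)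
    (x : E) : m.ρ B g ((1 : B) ⊗ₜ[R] x) = sw (fOf g).toLinearMap (deltaOf m x) := by
  rw [deltaOf_apply, sw_comm_symm]
  have hn := m.naturality (fOf g) (univPt R A) ((1 : A) ⊗ₜ[R] x)
  rw [ptMap_univPt] at hn
  change (fOf g).toLinearMap.rTensor E _ = _ at hn
  rw [hn]
  congr 1
  rw [VecGrp.Wmap_tmul, map_one]

lemma rho_eq_T' {B : Type u} [CommRing B] [Algebra R B] (g : VecGrp.pt R B ⟶ GG R A) :
    (m.ρ B g).toLinearMap = T (deltaOf m) (fOf g).toLinearMap :=
  rho_eq_T m (deltaOf m) (fun B _ _ g x => deltaOf_formula m g x) B g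

end ToComod


section ToComod2

variable (m : VecGrp.GMod (GG R A) E)

lemma sw_id_injective {C : Type u} [CommRing C] [Algebra R C] :
    Function.Injective (sw (E := E) (LinearMap.id : C →ₗ[R] C)) := by
  intro s t h
  have h1 : ∀ y : E ⊗[R] C, sw (LinearMap.id : C →ₗ[R] C) y = TensorProduct.comm R E C y := by
    intro y
    simp [sw]
  rw [h1, h1] at h
  exact (TensorProduct.comm R E C).injective h

lemma mul_map_incl :
    LinearMap.mul' R (A ⊗[R] A) ∘ₗ TensorProduct.map
      (Algebra.TensorProduct.includeLeft : A →ₐ[R] A ⊗[R] A).toLinearMap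
      (Algebra.TensorProduct.includeRight : A →ₐ[R] A ⊗[R] A).toLinearMap = LinearMap.id := by
  apply TensorProduct.ext'
  intro a b
  simp

lemma fOf_map {B : Type u} [CommRing B] [Algebra R B] (f : A →ₐ[R] B) :
    fOf (Spec.mapMulEquiv (WithConv.toConv f) : VecGrp.pt R B ⟶ GG R A) = f := by
  change (Spec.mapMulEquiv.symm (Spec.mapMulEquiv (WithConv.toConv f))).ofConv = _
  rw [MulEquiv.symm_apply_apply]

lemma deltaOf_coassoc :
    (TensorProduct.assoc R E A A).toLinearMap ∘ₗ (deltaOf m).rTensor A ∘ₗ deltaOf m =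
      (CoalgebraStruct.comul (R := R) (A := A)).lTensor E ∘ₗ deltaOf m := by
  ext x
  simp only [LinearMap.comp_apply, LinearEquiv.coe_coe]
  let g : VecGrp.pt R (A ⊗[R] A) ⟶ GG R A :=
    Spec.mapMulEquiv (WithConv.toConv (Algebra.TensorProduct.includeLeft : A →ₐ[R] A ⊗[R] A))
  let h : VecGrp.pt R (A ⊗[R] A) ⟶ GG R A :=
    Spec.mapMulEquiv (WithConv.toConv (Algebra.TensorProduct.includeRight : A →ₐ[R] A ⊗[R] A))
  have hg : fOf g = Algebra.TensorProduct.includeLeft := fOf_map _
  have hh : fOf h = Algebra.TensorProduct.includeRight := fOf_map _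
  have h1 : (m.ρ (A ⊗[R] A) (g * h)).toLinearMap =
      (m.ρ (A ⊗[R] A) g).toLinearMap ∘ₗ (m.ρ (A ⊗[R] A) h).toLinearMap := by
    rw [map_mul]
    rfl
  rw [rho_eq_T' m, rho_eq_T' m, rho_eq_T' m, fOf_mul] at h1
  have h2 := congrArg (fun φ => φ ((1 : A ⊗[R] A) ⊗ₜ[R] x)) h1
  simp only [LinearMap.comp_apply] at h2
  rw [T_convMul_apply, T_comp_apply, hg, hh] at h2
  have h3 : Psi (E := E) (Algebra.TensorProduct.includeLeft : A →ₐ[R] A ⊗[R] A).toLinearMap
      (Algebra.TensorProduct.includeRight : A →ₐ[R] A ⊗[R] A).toLinearMap =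
      sw (LinearMap.id : A ⊗[R] A →ₗ[R] A ⊗[R] A) := by
    rw [Psi, mul_map_incl]
  rw [h3] at h2
  exact (sw_id_injective h2).symm

lemma deltaOf_counit :
    (CoalgebraStruct.counit (R := R) (A := A)).lTensor E ∘ₗ deltaOf m =
      (TensorProduct.mk R E R).flip 1 := by
  ext x
  simp only [LinearMap.comp_apply]
  have h1 : (m.ρ R (1 : VecGrp.pt R R ⟶ GG R A)).toLinearMap = LinearMap.id := by
    rw [map_one]
    rfl
  rw [rho_eq_T' m, fOf_one] at h1
  have h2 := congrArg (fun φ => φ ((1 : R) ⊗ₜ[R] x)) h1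
  simp only [LinearMap.id_apply] at h2
  rw [T_convOne_apply, ← sw_flip_one (B := R) x] at h2
  have h3 : Algebra.linearMap R R = LinearMap.id := rfl
  rw [h3] at h2
  exact sw_id_injective h2

lemma deltaOf_unique (δ' : E →ₗ[R] E ⊗[R] A)
    (h : ∀ (B : Type u) [CommRing B] [Algebra R B] (g : VecGrp.pt R B ⟶ GG R A) (x : E),
      m.ρ B g ((1 : B) ⊗ₜ[R] x) = sw (fOf g).toLinearMap (δ' x)) : δ' = deltaOf m := by
  ext x
  have h1 := h A (univPt R A) x
  rw [deltaOf_formula m (univPt R A) x, fOf_univPt] at h1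
  exact (sw_id_injective h1).symm

end ToComod2

end

/-- Let R be a commutative ring, A a commutative Hopf algebra over R, G = Spec A the corresponding
affine group scheme over Spec R, and E an R-module. A G-module structure on E (for every R-algebra
B, a natural action of the B-valued points of G on B ⊗_R E by B-linear automorphisms) and a right
A-comodule structure δ : E → E ⊗_R A are said to correspond when, for every R-algebra B, every
B-valued point g of G with associated algebra map f : A → B and every x ∈ E, the point g sends 1 ⊗ x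
to the image of δ(x) under E ⊗_R A → B ⊗_R E, y ⊗ a ↦ f(a) ⊗ y. Then every comodule structure on E
corresponds to exactly one G-module structure, and every G-module structure corresponds to exactly
one R-linear δ : E → E ⊗_R A which is coassociative and counital. -/
theorem result (R : Type u) [CommRing R] (A : Type u) [CommRing A] [HopfAlgebra R A]
    (E : Type u) [AddCommGroup E] [Module R E] :
    (∀ [HopfRep.Comod R A E], ∃! m : VecGrp.GMod ((Spec (CommRingCat.of A)).asOver (Spec (CommRingCat.of R))) E,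
        (∀ (B : Type u) [CommRing B] [Algebra R B] (g : VecGrp.pt R B ⟶ ((Spec (CommRingCat.of A)).asOver (Spec (CommRingCat.of R)))) (x : E),
          m.ρ B g ((1 : B) ⊗ₜ[R] x) =
            (TensorProduct.comm R E B) (LinearMap.lTensor E (Spec.mapMulEquiv.symm g).ofConv.toLinearMap (HopfRep.Comod.coact (k := R) (A := A) x)))) ∧
    (∀ m : VecGrp.GMod ((Spec (CommRingCat.of A)).asOver (Spec (CommRingCat.of R))) E, ∃! δ : E →ₗ[R] E ⊗[R] A,
        ((TensorProduct.assoc R E A A).toLinearMap ∘ₗ δ.rTensor A ∘ₗ δ =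
            (CoalgebraStruct.comul (R := R) (A := A)).lTensor E ∘ₗ δ ∧
          (CoalgebraStruct.counit (R := R) (A := A)).lTensor E ∘ₗ δ = (TensorProduct.mk R E R).flip 1) ∧
        (∀ (B : Type u) [CommRing B] [Algebra R B] (g : VecGrp.pt R B ⟶ ((Spec (CommRingCat.of A)).asOver (Spec (CommRingCat.of R)))) (x : E),
          m.ρ B g ((1 : B) ⊗ₜ[R] x) =
            (TensorProduct.comm R E B) (LinearMap.lTensor E (Spec.mapMulEquiv.symm g).ofConv.toLinearMap (δ x)))) := by
  constructor
  · intro inst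
    refine ⟨Groth.Agent.S6094.gmodOf (HopfRep.Comod.coact (k := R) (A := A))
      HopfRep.Comod.coassoc HopfRep.Comod.counit_comp, ?_, ?_⟩
    · intro B _ _ g x
      exact Groth.Agent.S6094.gmodOf_apply _ _ _ g x
    · intro m' hm'
      apply Groth.Agent.S6094.gmod_ext
      intro B _ _ g x
      rw [hm' B g x]
      exact (Groth.Agent.S6094.gmodOf_apply _ _ _ g x).symm
  · intro m
    refine ⟨Groth.Agent.S6094.deltaOf m, ⟨⟨Groth.Agent.S6094.deltaOf_coassoc m,
      Groth.Agent.S6094.deltaOf_counit m⟩, ?_⟩, ?_⟩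
    · intro B _ _ g x
      exact Groth.Agent.S6094.deltaOf_formula m g x
    · intro δ' hδ'
      exact Groth.Agent.S6094.deltaOf_unique m δ' hδ'.2

end Groth.Agent.S6094
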