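import Groth.Statements.S6120
-- import your own Groth.Agent.* helpers here

set_option autoImplicit false
open CategoryTheory CategoryTheory.Limits Opposite
universe w v₁ v₂ u₁ u₂
open SGA4

namespace Groth.Agent.S6120

section
variable {I : Type u₁} [Category.{v₁} I] {C : Type u₂} [Category.{v₂} C] {A : Type w} (i : A → I)
    [∀ α β, HasBinaryProduct (i α) (i β)]
    (hcov : ∀ j : I, ∃ α, Nonempty (j ⟶ i α))
    (F : Iᵒᵖ ⥤ C)
    [HasProduct (fun α => F.obj (op (i α)))]
    [HasProduct (fun p : A × A => F.obj (op (i p.1 ⨯ i p.2)))]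

/-- first map -/
noncomputable abbrev u₁ : (∏ᶜ (fun α => F.obj (op (i α)))) ⟶ ∏ᶜ (fun p : A × A => F.obj (op (i p.1 ⨯ i p.2))) :=
  Pi.lift (fun p : A × A =>
    Pi.π (fun α => F.obj (op (i α))) p.1 ≫ F.map (prod.fst : i p.1 ⨯ i p.2 ⟶ i p.1).op)

/-- second map -/
noncomputable abbrev u₂ : (∏ᶜ (fun α => F.obj (op (i α)))) ⟶ ∏ᶜ (fun p : A × A => F.obj (op (i p.1 ⨯ i p.2))) :=
  Pi.lift (fun p : A × A =>
    Pi.π (fun α => F.obj (op (i α))) p.2 ≫ F.map (prod.snd : i p.1 ⨯ i p.2 ⟶ i p.2).op)

theorem wd {T : C} (t : T ⟶ ∏ᶜ (fun α => F.obj (op (i α)))) (ht : t ≫ u₁ i F = t ≫ u₂ i F)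
    {j : I} {α β : A} (g : j ⟶ i α) (g' : j ⟶ i β) :
    t ≫ Pi.π (fun α => F.obj (op (i α))) α ≫ F.map g.op
      = t ≫ Pi.π (fun α => F.obj (op (i α))) β ≫ F.map g'.op := by
  have h := congrArg (fun k => k ≫ Pi.π (fun p : A × A => F.obj (op (i p.1 ⨯ i p.2))) (α, β)) ht
  simp only [Category.assoc, Pi.lift_π] at h
  have h2 := congrArg (fun k => k ≫ F.map (prod.lift g g').op) h
  simp only [Category.assoc, ← F.map_comp, ← op_comp, prod.lift_fst, prod.lift_snd] at h2
  exact h2

/-- the cone attached to an equalizing map -/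
noncomputable abbrev coneOf {T : C} (t : T ⟶ ∏ᶜ (fun α => F.obj (op (i α))))
    (ht : t ≫ u₁ i F = t ≫ u₂ i F) : Cone F where
  pt := T
  π :=
    { app := fun j => t ≫ Pi.π (fun α => F.obj (op (i α))) (Classical.choose (hcov j.unop)) ≫
        F.map (Classical.choice (Classical.choose_spec (hcov j.unop))).op
      naturality := by
        intro j j' k
        simp only [Functor.const_obj_obj, Functor.const_obj_map, Category.id_comp, Category.assoc]
        rw [← F.map_comp]
        have : (Classical.choice (Classical.choose_spec (hcov j.unop))).op ≫ k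
            = (k.unop ≫ Classical.choice (Classical.choose_spec (hcov j.unop))).op := by
          simp
        rw [this]
        exact wd i F t ht _ _ }

theorem coneOf_π {T : C} (t : T ⟶ ∏ᶜ (fun α => F.obj (op (i α))))
    (ht : t ≫ u₁ i F = t ≫ u₂ i F) {j : I} {α : A} (g : j ⟶ i α) :
    (coneOf i hcov F t ht).π.app (op j) = t ≫ Pi.π (fun α => F.obj (op (i α))) α ≫ F.map g.op :=
  wd i F t ht _ _

theorem cone_equalizes (c : Cone F) :
    Pi.lift (fun α => c.π.app (op (i α))) ≫ u₁ i F
      = Pi.lift (fun α => c.π.app (op (i α))) ≫ u₂ i F := by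
  apply Pi.hom_ext
  intro p
  simp only [Category.assoc, Pi.lift_π, Pi.lift_π_assoc]
  rw [c.w, c.w]

end

/-- Let `I` be a category with a family of objects `i α` (`α : A`) such that every binary product `i α ⨯
i β` exists in `I` and every object of `I` admits a morphism to some `i α`. Let `F : Iᵒᵖ ⥤ C` be a
functor, and assume that `C` has equalizers and that the products `∏ F (i α)` and `∏ F (i α ⨯ i β)`
exist in `C`. Then the limit of `F` exists, the canonical map `lim F ⟶ ∏ F (i α)` is a monomorphism,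
and a map `t : T ⟶ ∏ F (i α)` factors through `lim F` exactly when its composites with the two maps
`∏ F (i α) ⇉ ∏ F (i α ⨯ i β)` induced by the two projections agree: `lim F` is the equalizer of that
pair. (The published statement assumes that `C` has all limits of the size of `A`; only equalizers
and the two products named are assumed here, which is what the equalizer construction uses.) -/
theorem result
    {I : Type u₁} [Category.{v₁} I] {C : Type u₂} [Category.{v₂} C] {A : Type w} (i : A → I)
    [∀ α β, HasBinaryProduct (i α) (i β)]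
    (hcov : ∀ j : I, ∃ α, Nonempty (j ⟶ i α))
    (F : Iᵒᵖ ⥤ C) [HasEqualizers C]
    [HasProduct (fun α => F.obj (op (i α)))]
    [HasProduct (fun p : A × A => F.obj (op (i p.1 ⨯ i p.2)))] :
    HasLimit F ∧ ∀ [HasLimit F],
      Mono (Pi.lift (fun α => limit.π F (op (i α)))) ∧
      ∀ (T : C) (t : T ⟶ ∏ᶜ (fun α => F.obj (op (i α)))),
        (∃ s : T ⟶ limit F, s ≫ Pi.lift (fun α => limit.π F (op (i α))) = t) ↔
        t ≫ Pi.lift (fun p : A × A =>
            Pi.π (fun α => F.obj (op (i α))) p.1 ≫ F.map (prod.fst : i p.1 ⨯ i p.2 ⟶ i p.1).op) =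
        t ≫ Pi.lift (fun p : A × A =>
            Pi.π (fun α => F.obj (op (i α))) p.2 ≫ F.map (prod.snd : i p.1 ⨯ i p.2 ⟶ i p.2).op) := by
  have hlim : HasLimit F := by
    have heq : equalizer.ι (u₁ i F) (u₂ i F) ≫ u₁ i F = equalizer.ι (u₁ i F) (u₂ i F) ≫ u₂ i F :=
      equalizer.condition _ _
    refine ⟨⟨⟨coneOf i hcov F (equalizer.ι (u₁ i F) (u₂ i F)) heq,
      { lift := fun c => equalizer.lift (Pi.lift (fun α => c.π.app (op (i α)))) (cone_equalizes i F c)
        fac := ?_
        uniq := ?_ }⟩⟩⟩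
    · intro c j
      obtain ⟨α, ⟨g⟩⟩ := hcov j.unop
      have : j = op j.unop := rfl
      rw [this, coneOf_π i hcov F _ heq g]
      simp only [equalizer.lift_ι_assoc, Pi.lift_π_assoc]
      exact c.w g.op
    · intro c m hm
      apply equalizer.hom_ext
      rw [equalizer.lift_ι]
      apply Pi.hom_ext
      intro α
      rw [Pi.lift_π, ← hm (op (i α)), coneOf_π i hcov F _ heq (𝟙 (i α))]
      simp
  refine ⟨hlim, ?_⟩
  intro hlim'
  have hπ : ∀ (j : I) {α : A} (g : j ⟶ i α), limit.π F (op j) = limit.π F (op (i α)) ≫ F.map g.op :=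
    fun j α g => (limit.w F g.op).symm
  refine ⟨?_, ?_⟩
  · constructor
    intro T a b hab
    apply limit.hom_ext
    intro j
    obtain ⟨α, ⟨g⟩⟩ := hcov j.unop
    have : j = op j.unop := rfl
    rw [this, hπ j.unop g]
    have h := congrArg (fun k => k ≫ Pi.π (fun α => F.obj (op (i α))) α) hab
    simp only [Category.assoc, Pi.lift_π] at h
    rw [← Category.assoc, h, Category.assoc]
  · intro T t
    constructor
    · rintro ⟨s, rfl⟩
      rw [Category.assoc, Category.assoc]
      congr 1
      have := cone_equalizes i F (limit.cone F)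
      exact this
    · intro ht
      refine ⟨limit.lift F (coneOf i hcov F t ht), ?_⟩
      apply Pi.hom_ext
      intro α
      rw [Category.assoc, Pi.lift_π, limit.lift_π, coneOf_π i hcov F t ht (𝟙 (i α))]
      simp

end Groth.Agent.S6120
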