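import Groth.Statements.S6121
-- import your own Groth.Agent.* helpers here

set_option autoImplicit false
open CategoryTheory
universe v₁ v₂ u₁ u₂
open SGA4

namespace Groth.Agent.S6121

/-- For a fibered functor `p : E ⥤ B` (every morphism of `B` has a cartesian lift with prescribed
codomain, and cartesian morphisms compose), `p` reflects isomorphisms if and only if every fibre
category of `p` (objects over `b`, morphisms lying over the identity of `b`) is a groupoid. -/
theorem result
    {B : Type u₁} [Category.{v₁} B] {E : Type u₂} [Category.{v₂} E] (p : E ⥤ B) [p.IsFibered] :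
    p.ReflectsIsomorphisms ↔ ∀ b : B, IsGroupoid (p.Fiber b) := by
  constructor
  · intro hrefl b
    constructor
    intro x y φ
    have hlift : p.IsHomLift (𝟙 b) φ.1 := φ.2
    have hiso : IsIso (p.map φ.1) := by
      rw [IsHomLift.fac' p (𝟙 b) φ.1]
      infer_instance
    have hφ : IsIso φ.1 := isIso_of_reflects_iso φ.1 p
    have hinv : p.IsHomLift (𝟙 b) (inv φ.1) := inferInstance
    refine ⟨⟨⟨inv φ.1, hinv⟩, ?_, ?_⟩⟩
    · apply Subtype.ext
      exact IsIso.hom_inv_id φ.1
    · apply Subtype.ext
      exact IsIso.inv_hom_id φ.1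
  · intro hgrp
    constructor
    intro x y f hf
    let ψ := Functor.IsPreFibered.pullbackMap (p := p) (a := y) rfl (p.map f)
    have hψ : IsIso ψ := Functor.IsStronglyCartesian.isIso_of_base_isIso p (p.map f) ψ
    let τ := Functor.IsCartesian.map p (p.map f) ψ f
    have hτψ : τ ≫ ψ = f := Functor.IsCartesian.fac p (p.map f) ψ f
    have hτlift : p.IsHomLift (𝟙 (p.obj x)) τ := inferInstance
    have := hgrp (p.obj x)
    have hτ' : IsIso (Functor.Fiber.homMk p (p.obj x) τ) := IsGroupoid.all_isIso _
    have hτ : IsIso τ := by
      have := Functor.map_isIso (Functor.Fiber.fiberInclusion (p := p) (S := p.obj x))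
        (Functor.Fiber.homMk p (p.obj x) τ)
      simpa using this
    rw [← hτψ]
    infer_instance

end Groth.Agent.S6121
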