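import Groth.Statements.S6122
-- import your own Groth.Agent.* helpers here

set_option autoImplicit false
open CategoryTheory
universe v₁ v₂ u₁ u₂
open SGA4

namespace Groth.Agent.S6122

/-- For a fibered functor `p : E ⥤ B` (every morphism of `B` has a cartesian lift with prescribed
codomain, and cartesian morphisms compose), `p` is faithful if and only if every fibre category of
`p` (objects over `b`, morphisms lying over the identity of `b`) has at most one morphism between
any two objects. -/
theorem result
    {B : Type u₁} [Category.{v₁} B] {E : Type u₂} [Category.{v₂} E] (p : E ⥤ B) [p.IsFibered] :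
    p.Faithful ↔ ∀ (b : B) (x y : p.Fiber b), Subsingleton (x ⟶ y) := by
  constructor
  · intro hfaith b x y
    constructor
    intro φ ψ
    have h1 : p.IsHomLift (𝟙 b) φ.1 := φ.2
    have h2 : p.IsHomLift (𝟙 b) ψ.1 := ψ.2
    apply Subtype.ext
    apply p.map_injective
    rw [IsHomLift.fac' p (𝟙 b) φ.1, IsHomLift.fac' p (𝟙 b) ψ.1]
  · intro hthin
    constructor
    intro x y f g hfg
    let ψ := Functor.IsPreFibered.pullbackMap (p := p) (a := y) rfl (p.map f)
    have hg : p.IsHomLift (p.map f) g := by rw [hfg]; infer_instance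
    let τf := Functor.IsCartesian.map p (p.map f) ψ f
    let τg := Functor.IsCartesian.map p (p.map f) ψ g
    have hτf : τf ≫ ψ = f := Functor.IsCartesian.fac p (p.map f) ψ f
    have hτg : τg ≫ ψ = g := Functor.IsCartesian.fac p (p.map f) ψ g
    have hlf : p.IsHomLift (𝟙 (p.obj x)) τf := inferInstance
    have hlg : p.IsHomLift (𝟙 (p.obj x)) τg := inferInstance
    have := hthin (p.obj x) (Functor.Fiber.mk (IsHomLift.domain_eq p (𝟙 (p.obj x)) τf))
      (Functor.Fiber.mk (IsHomLift.codomain_eq p (𝟙 (p.obj x)) τf))
    have heq : (⟨τf, hlf⟩ : (Functor.Fiber.mk (IsHomLift.domain_eq p (𝟙 (p.obj x)) τf)) ⟶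
        (Functor.Fiber.mk (IsHomLift.codomain_eq p (𝟙 (p.obj x)) τf))) = ⟨τg, hlg⟩ :=
      Subsingleton.elim _ _
    have : τf = τg := congrArg Subtype.val heq
    rw [← hτf, ← hτg, this]

end Groth.Agent.S6122
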