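import Groth.Statements.S6123
import Mathlib.CategoryTheory.Limits.Shapes.Diagonal
import Mathlib.CategoryTheory.Limits.Shapes.Pullback.IsPullback.Basic
-- import your own Groth.Agent.* helpers here

set_option autoImplicit false
open CategoryTheory CategoryTheory.Limits Opposite
universe w v₁ v₂ u₁ u₂
open SGA4

namespace Groth.Agent.S6123

/-- For a single functor. Let `E` have pullbacks and let `φ : E ⥤ F` preserve them. If every
monomorphism `u` of `E` with `φ u` invertible is invertible, then `φ` reflects all isomorphisms. -/
theorem result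
    {E : Type u₁} [Category.{v₁} E] {F : Type u₂} [Category.{v₂} F] (φ : E ⥤ F)
    [HasPullbacks E] [PreservesLimitsOfShape WalkingCospan φ]
    (h : ∀ ⦃X Y : E⦄ (u : X ⟶ Y), Mono u → IsIso (φ.map u) → IsIso u) :
    φ.ReflectsIsomorphisms := by
  constructor
  intro X Y f hf
  have hpb : IsPullback (pullback.fst f f) (pullback.snd f f) f f := IsPullback.of_hasPullback f f
  have hpb' : IsPullback (φ.map (pullback.fst f f)) (φ.map (pullback.snd f f)) (φ.map f) (φ.map f) :=
    hpb.map φ
  have hiso1 : IsIso (φ.map (pullback.fst f f)) := hpb'.isIso_fst_of_isIso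
  have hd : pullback.diagonal f ≫ pullback.fst f f = 𝟙 X := pullback.diagonal_fst f
  have hd2 : pullback.diagonal f ≫ pullback.snd f f = 𝟙 X := pullback.diagonal_snd f
  have hφd : IsIso (φ.map (pullback.diagonal f)) := by
    have h1 : φ.map (pullback.diagonal f) ≫ φ.map (pullback.fst f f) = 𝟙 _ := by
      rw [← φ.map_comp, hd, φ.map_id]
    have : φ.map (pullback.diagonal f) = inv (φ.map (pullback.fst f f)) := by
      rw [← cancel_mono (φ.map (pullback.fst f f)), h1, IsIso.inv_hom_id]
    rw [this]; infer_instance
  have hmonod : Mono (pullback.diagonal f) := by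
    have : IsSplitMono (pullback.diagonal f) := ⟨⟨⟨pullback.fst f f, hd⟩⟩⟩
    infer_instance
  have hdiso : IsIso (pullback.diagonal f) := h _ hmonod hφd
  have heq : pullback.fst f f = pullback.snd f f := by
    rw [← cancel_epi (pullback.diagonal f), hd, hd2]
  have hmono : Mono f := by
    constructor
    intro W a b hab
    have h1 : pullback.lift a b hab ≫ pullback.fst f f = a := pullback.lift_fst _ _ _
    have h2 : pullback.lift a b hab ≫ pullback.snd f f = b := pullback.lift_snd _ _ _
    rw [← h1, heq, h2]
  exact h f hmono hf

end Groth.Agent.S6123
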