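import Groth.Statements.S6124
import Mathlib.CategoryTheory.Limits.Shapes.Diagonal
import Mathlib.CategoryTheory.Limits.Shapes.Pullback.IsPullback.Basic
-- import your own Groth.Agent.* helpers here

set_option autoImplicit false
open CategoryTheory CategoryTheory.Limits Opposite
universe w v₁ v₂ u₁ u₂
open SGA4

namespace Groth.Agent.S6124

theorem reflects_of_mono {E : Type u₁} [Category.{v₁} E] [HasPullbacks E]
    {κ : Type w} {E' : κ → Type u₂} [∀ k, Category.{v₂} (E' k)] (φ : ∀ k, E ⥤ E' k)
    [∀ k, PreservesLimitsOfShape WalkingCospan (φ k)]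
    (h : ∀ ⦃X Y : E⦄ (u : X ⟶ Y), Mono u → (∀ k, IsIso ((φ k).map u)) → IsIso u)
    ⦃X Y : E⦄ (f : X ⟶ Y) (hf : ∀ k, IsIso ((φ k).map f)) : IsIso f := by
  have hpb : IsPullback (pullback.fst f f) (pullback.snd f f) f f := IsPullback.of_hasPullback f f
  have hd : pullback.diagonal f ≫ pullback.fst f f = 𝟙 X := pullback.diagonal_fst f
  have hd2 : pullback.diagonal f ≫ pullback.snd f f = 𝟙 X := pullback.diagonal_snd f
  have hφd : ∀ k, IsIso ((φ k).map (pullback.diagonal f)) := by
    intro k
    have hpb' : IsPullback ((φ k).map (pullback.fst f f)) ((φ k).map (pullback.snd f f))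
        ((φ k).map f) ((φ k).map f) := hpb.map (φ k)
    have := hf k
    have hiso1 : IsIso ((φ k).map (pullback.fst f f)) := hpb'.isIso_fst_of_isIso
    have h1 : (φ k).map (pullback.diagonal f) ≫ (φ k).map (pullback.fst f f) = 𝟙 _ := by
      rw [← (φ k).map_comp, hd, (φ k).map_id]
    have : (φ k).map (pullback.diagonal f) = inv ((φ k).map (pullback.fst f f)) := by
      rw [← cancel_mono ((φ k).map (pullback.fst f f)), h1, IsIso.inv_hom_id]
    rw [this]; infer_instance
  have hmonod : Mono (pullback.diagonal f) := by
    have : IsSplitMono (pullback.diagonal f) := ⟨⟨⟨pullback.fst f f, hd⟩⟩⟩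
    infer_instance
  have hdiso : IsIso (pullback.diagonal f) := h _ hmonod hφd
  have heq : pullback.fst f f = pullback.snd f f := by
    rw [← cancel_epi (pullback.diagonal f), hd, hd2]
  have hmono : Mono f := by
    constructor
    intro W a b hab
    have h1 : pullback.lift a b hab ≫ pullback.fst f f = a := pullback.lift_fst _ _ _
    have h2 : pullback.lift a b hab ≫ pullback.snd f f = b := pullback.lift_snd _ _ _
    rw [← h1, heq, h2]
  exact h f hmono hf

/-- Let `E` have pullbacks, let `P` be a detecting family of objects of `E` (a morphism `f` is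
invertible as soon as every map out of an object of `P` factors uniquely through `f`), and let `φ i
: E ⥤ E' i` be functors preserving pullbacks. Then the `φ i` jointly reflect isomorphisms if and
only if, for every `X` with `P X` and every subobject `X'` of `X` other than `⊤`, some `φ i` takes
the inclusion `X' ⟶ X` to a morphism that is not invertible. -/
theorem result
    {E : Type u₁} [Category.{v₁} E] [HasPullbacks E] (P : ObjectProperty E) (hP : P.IsDetecting)
    {κ : Type w} {E' : κ → Type u₂} [∀ k, Category.{v₂} (E' k)] (φ : ∀ k, E ⥤ E' k)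
    [∀ k, PreservesLimitsOfShape WalkingCospan (φ k)] :
    (∀ ⦃X Y : E⦄ (f : X ⟶ Y), (∀ k, IsIso ((φ k).map f)) → IsIso f) ↔
      ∀ (X : E), P X → ∀ (X' : Subobject X), X' ≠ ⊤ → ∃ k, ¬ IsIso ((φ k).map X'.arrow) := by
  constructor
  · intro H X _ X' hX'
    by_contra hcon
    push Not at hcon
    have : IsIso X'.arrow := H X'.arrow hcon
    exact hX' (Subobject.eq_top_of_isIso_arrow X')
  · intro H
    apply reflects_of_mono φ
    intro A B m hm hφm
    apply hP
    intro G hG g
    have hpb : IsPullback (pullback.fst g m) (pullback.snd g m) g m := IsPullback.of_hasPullback g m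
    have hmono' : Mono (pullback.fst g m) := hpb.mono_fst_of_mono
    have hiso : ∀ k, IsIso ((φ k).map (Subobject.mk (pullback.fst g m)).arrow) := by
      intro k
      have hpb' := hpb.map (φ k)
      have := hφm k
      have h1 : IsIso ((φ k).map (pullback.fst g m)) := hpb'.isIso_fst_of_isIso
      have e : (Subobject.mk (pullback.fst g m)).arrow
          = (Subobject.underlyingIso (pullback.fst g m)).hom ≫ pullback.fst g m :=
        (Subobject.underlyingIso_hom_comp_eq_mk _).symm
      rw [e, Functor.map_comp]
      infer_instance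
    have htop : Subobject.mk (pullback.fst g m) = ⊤ := by
      by_contra hne
      obtain ⟨k, hk⟩ := H G hG _ hne
      exact hk (hiso k)
    have hfst : IsIso (pullback.fst g m) := (Subobject.isIso_iff_mk_eq_top _).mpr htop
    refine ⟨inv (pullback.fst g m) ≫ pullback.snd g m, ?_, ?_⟩
    · simp only [Category.assoc]
      rw [← hpb.w, IsIso.inv_hom_id_assoc]
    · intro g' hg'
      rw [← cancel_mono m, hg', Category.assoc, ← hpb.w, IsIso.inv_hom_id_assoc]

end Groth.Agent.S6124
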