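import Groth.Statements.S6126
-- import your own Groth.Agent.* helpers here

set_option autoImplicit false
open CategoryTheory CategoryTheory.Limits
universe v₁ u₁
open SGA4

namespace Groth.Agent.S6126

section
variable {E : Type u₁} [Category.{v₁} E] {ι : Type v₁} (G : ι → E)
  [∀ t, HasBinaryCoproduct (G t) (G t)]

/-- the relation on `G`-points induced by a morphism out of `G t ⨿ G t` -/
def rel (t : ι) {Y : E} (e : G t ⨿ G t ⟶ Y) :
    Set (Σ s : ι, (G s ⟶ G t ⨿ G t) × (G s ⟶ G t ⨿ G t)) :=
  {x | x.2.1 ≫ e = x.2.2 ≫ e}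

/-- the predicate: `R` is the relation of some effective epi quotient -/
def IsRel (t : ι) (R : Set (Σ s : ι, (G s ⟶ G t ⨿ G t) × (G s ⟶ G t ⨿ G t))) : Prop :=
  ∃ (Y : E) (e : G t ⨿ G t ⟶ Y), EffectiveEpi e ∧ rel G t e = R

theorem desc_of_rel_le (hG : (ObjectProperty.ofObj G).IsSeparating) (t : ι) {Y Y' : E}
    (e : G t ⨿ G t ⟶ Y) (e' : G t ⨿ G t ⟶ Y') [EffectiveEpi e]
    (h : rel G t e ⊆ rel G t e') : ∃ d : Y ⟶ Y', e ≫ d = e' := by
  have key : ∀ {W : E} (a b : W ⟶ G t ⨿ G t), a ≫ e = b ≫ e → a ≫ e' = b ≫ e' := ?_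
  · exact ⟨EffectiveEpi.desc e e' key, EffectiveEpi.fac e e' key⟩
  intro W a b hab
  apply hG
  rintro _ ⟨s⟩ y
  have : (⟨s, (y ≫ a, y ≫ b)⟩ : Σ s : ι, (G s ⟶ G t ⨿ G t) × (G s ⟶ G t ⨿ G t)) ∈ rel G t e := by
    change (y ≫ a) ≫ e = (y ≫ b) ≫ e
    rw [Category.assoc, Category.assoc, hab]
  have h2 := h this
  change (y ≫ a) ≫ e' = (y ≫ b) ≫ e' at h2
  simpa using h2

end

/-- Let `E` be a category with `v₁`-small hom-sets admitting a separating family of objects `G t`
indexed by a `v₁`-small type, in which every object admits a monomorphism into an injective object.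
Assume that each coproduct `G t ⨿ G t` exists and that every morphism out of `G t ⨿ G t` factors as
an effective epimorphism followed by a monomorphism. Then `E` admits a coseparating family of
injective objects indexed by a `v₁`-small type. (The published statement moreover bounds the size of
this family in terms of the hom-sets `Hom (G t', G t ⨿ G t)`; only existence is stated here. The
published statement speaks of generating and cogenerating families; its proof uses and produces
joint faithfulness of maps out of, resp. into, the family, which is the sense taken here.) -/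
theorem result
    {E : Type u₁} [Category.{v₁} E] {ι : Type v₁} (G : ι → E)
    (hG : (ObjectProperty.ofObj G).IsSeparating)
    [EnoughInjectives E] [∀ t, HasBinaryCoproduct (G t) (G t)]
    (hfac : ∀ (t : ι) (X : E) (f : G t ⨿ G t ⟶ X),
      ∃ (Y : E) (e : G t ⨿ G t ⟶ Y) (m : Y ⟶ X), EffectiveEpi e ∧ Mono m ∧ e ≫ m = f) :
    ∃ (κ : Type v₁) (H : κ → E),
      (∀ k, Injective (H k)) ∧ (ObjectProperty.ofObj H).IsCoseparating := by
  classical
  let κ : Type v₁ := Σ t : ι, Set (Σ s : ι, (G s ⟶ G t ⨿ G t) × (G s ⟶ G t ⨿ G t))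
  let Yc : κ → E := fun k =>
    if h : IsRel G k.1 k.2 then h.choose else G k.1
  let H : κ → E := fun k => Injective.under (Yc k)
  refine ⟨κ, H, fun k => inferInstance, ?_⟩
  intro X Y' f g hfg
  apply hG
  rintro _ ⟨t⟩ x
  -- the two maps
  set u := x ≫ f with hu
  set v := x ≫ g with hv
  obtain ⟨Z, e, m, he, hm, hem⟩ := hfac t Y' (coprod.desc u v)
  let R := rel G t e
  have hR : IsRel G t R := ⟨Z, e, he, rfl⟩
  let k : κ := ⟨t, R⟩
  have hYc : Yc k = hR.choose := dif_pos hR
  obtain ⟨eR, heR, hrelR⟩ := hR.choose_spec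
  -- comparison maps
  obtain ⟨d, hd⟩ := desc_of_rel_le G hG t e eR (by rw [hrelR])
  obtain ⟨d', hd'⟩ := desc_of_rel_le G hG t eR e (by rw [hrelR])
  have hdd' : d ≫ d' = 𝟙 Z := by
    have hepi : Epi e := inferInstance
    rw [← cancel_epi e, ← Category.assoc, hd, hd', Category.comp_id]
  have hdmono : Mono d := by
    have : IsSplitMono d := ⟨⟨⟨d', hdd'⟩⟩⟩
    infer_instance
  let j : hR.choose ⟶ H k := eqToHom hYc.symm ≫ Injective.ι (Yc k)
  have hjmono : Mono j := by
    dsimp only [j]
    infer_instance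
  let w : Y' ⟶ H k := Injective.factorThru (d ≫ j) m
  have hw : m ≫ w = d ≫ j := Injective.comp_factorThru _ _
  have hfgw : f ≫ w = g ≫ w := hfg (H k) ⟨k⟩ w
  have huw : u ≫ w = v ≫ w := by
    rw [hu, hv, Category.assoc, Category.assoc, hfgw]
  have h1 : coprod.inl ≫ e = coprod.inr ≫ e := by
    have hmono2 : Mono (d ≫ j) := mono_comp d j
    rw [← cancel_mono (d ≫ j), ← hw]
    have e1 : (coprod.inl ≫ e) ≫ m ≫ w = u ≫ w := by
      rw [← Category.assoc, Category.assoc coprod.inl, hem, coprod.inl_desc]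
    have e2 : (coprod.inr ≫ e) ≫ m ≫ w = v ≫ w := by
      rw [← Category.assoc, Category.assoc coprod.inr, hem, coprod.inr_desc]
    rw [e1, e2, huw]
  have : u = v := by
    have e1 : u = (coprod.inl ≫ e) ≫ m := by
      rw [Category.assoc, hem, coprod.inl_desc]
    have e2 : v = (coprod.inr ≫ e) ≫ m := by
      rw [Category.assoc, hem, coprod.inr_desc]
    rw [e1, e2, h1]
  exact this

end Groth.Agent.S6126
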