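import Groth.Statements.S6127
import Mathlib.CategoryTheory.Sites.Canonical
import Mathlib.CategoryTheory.Limits.Types.Pullbacks
import Mathlib.CategoryTheory.Limits.Types.Equalizers
import Mathlib.CategoryTheory.Limits.Preserves.Shapes.Equalizers
import Mathlib.CategoryTheory.Limits.Shapes.Pullback.IsPullback.Basic
import Mathlib.CategoryTheory.Limits.FunctorCategory.Basic
-- import your own Groth.Agent.* helpers here

set_option autoImplicit false
open CategoryTheory CategoryTheory.Limits Opposite
universe u
open SGA4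

namespace Groth.Agent.S6127

section
variable {C : Type u} [SmallCategory C] (P : ObjectProperty (Cᵒᵖ ⥤ Type u))
    [P.IsClosedUnderIsomorphisms] [Reflective P.ι]

/-- objects of `P` are local for morphisms inverted by the reflector -/
theorem local_of_isIso {A B : Cᵒᵖ ⥤ Type u} (w : A ⟶ B) (hw : IsIso ((reflector P.ι).map w))
    (F : Cᵒᵖ ⥤ Type u) (hF : P F) :
    Function.Bijective (fun g : B ⟶ F => w ≫ g) := by
  let Z : P.FullSubcategory := ⟨F, hF⟩
  let adj := reflectorAdjunction P.ι
  have hnat : ∀ k : (reflector P.ι).obj B ⟶ Z,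
      w ≫ adj.homEquiv B Z k = adj.homEquiv A Z ((reflector P.ι).map w ≫ k) := fun k =>
    (adj.homEquiv_naturality_left w k).symm
  constructor
  · intro g₁ g₂ h
    simp only at h
    obtain ⟨k₁, rfl⟩ := (adj.homEquiv B Z).surjective g₁
    obtain ⟨k₂, rfl⟩ := (adj.homEquiv B Z).surjective g₂
    rw [hnat, hnat] at h
    have := (adj.homEquiv A Z).injective h
    rw [(cancel_epi _).mp this]
  · intro f
    obtain ⟨k, rfl⟩ := (adj.homEquiv A Z).surjective f
    refine ⟨adj.homEquiv B Z (inv ((reflector P.ι).map w) ≫ k), ?_⟩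
    simp only
    rw [hnat, IsIso.hom_inv_id_assoc]

/-- conversely -/
theorem isIso_of_local {A B : Cᵒᵖ ⥤ Type u} (w : A ⟶ B)
    (h : ∀ F : Cᵒᵖ ⥤ Type u, P F → Function.Bijective (fun g : B ⟶ F => w ≫ g)) :
    IsIso ((reflector P.ι).map w) := by
  let adj := reflectorAdjunction P.ι
  have hbij : ∀ Z : P.FullSubcategory,
      Function.Bijective (fun k : (reflector P.ι).obj B ⟶ Z => (reflector P.ι).map w ≫ k) := by
    intro Z
    have hnat : ∀ k : (reflector P.ι).obj B ⟶ Z,
        w ≫ adj.homEquiv B Z k = adj.homEquiv A Z ((reflector P.ι).map w ≫ k) := fun k =>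
      (adj.homEquiv_naturality_left w k).symm
    have hZ := h Z.obj Z.property
    constructor
    · intro k₁ k₂ hk
      simp only at hk
      apply (adj.homEquiv B Z).injective
      apply hZ.1
      simp only
      rw [hnat, hnat, hk]
    · intro k
      obtain ⟨g, hg⟩ := hZ.2 (adj.homEquiv A Z k)
      refine ⟨(adj.homEquiv B Z).symm g, ?_⟩
      apply (adj.homEquiv A Z).injective
      simp only at hg ⊢
      rw [← hnat, Equiv.apply_symm_apply, hg]
  obtain ⟨r, hr⟩ := (hbij ((reflector P.ι).obj A)).2 (𝟙 _)
  simp only at hr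
  refine ⟨⟨r, hr, ?_⟩⟩
  apply (hbij ((reflector P.ι).obj B)).1
  simp only
  rw [← Category.assoc, hr, Category.id_comp, Category.comp_id]

end

section
variable {C : Type u} [SmallCategory C]

/-- the map from the pulled-back sieve -/
def pbMap {X Y : C} (S : Sieve X) (f : Y ⟶ X) : (S.pullback f).functor ⟶ S.functor where
  app Z := ↾fun g => ⟨g.1 ≫ f, g.2⟩
  naturality Z W k := by
    ext g
    apply Subtype.ext
    exact Category.assoc _ _ _

theorem isPullback_sieve {X Y : C} (S : Sieve X) (f : Y ⟶ X) :
    IsPullback (pbMap S f) (S.pullback f).functorInclusion S.functorInclusion (yoneda.map f) := by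
  apply IsPullback.of_forall_isPullback_app
  intro Z
  rw [Limits.Types.isPullback_iff]
  refine ⟨?_, ?_, ?_⟩
  · ext g
    rfl
  · rintro ⟨g₁, h₁⟩ ⟨g₂, h₂⟩ ⟨_, h⟩
    apply Subtype.ext
    exact h
  · rintro ⟨g, hg⟩ k hk
    refine ⟨⟨k, ?_⟩, ?_, rfl⟩
    · change S.arrows (k ≫ f)
      have : g = k ≫ f := hk
      rw [← this]; exact hg
    · apply Subtype.ext
      exact hk.symm

end

section
variable {C : Type u} [SmallCategory C]

/-- the sieve on which two sections agree -/
def eqSieve (F : Cᵒᵖ ⥤ Type u) {X : C} (x y : F.obj (op X)) : Sieve X where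
  arrows Y f := F.map f.op x = F.map f.op y
  downward_closed := by
    intro Y Z f hf g
    rw [op_comp, Functor.map_comp_apply, Functor.map_comp_apply, hf]

theorem eqSieve_w (F : Cᵒᵖ ⥤ Type u) {X : C} (x y : F.obj (op X)) :
    (eqSieve F x y).functorInclusion ≫ yonedaEquiv.symm x
      = (eqSieve F x y).functorInclusion ≫ yonedaEquiv.symm y := by
  ext Z ⟨g, hg⟩
  exact hg

/-- the equalizer sieve is an equalizer -/
noncomputable def eqSieveIsLimit (F : Cᵒᵖ ⥤ Type u) {X : C} (x y : F.obj (op X)) :
    IsLimit (Fork.ofι (eqSieve F x y).functorInclusion (eqSieve_w F x y)) :=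
  evaluationJointlyReflectsLimits _ (fun Z =>
    (isLimitMapConeForkEquiv ((evaluation Cᵒᵖ (Type u)).obj Z) (eqSieve_w F x y)).symm
      (Limits.Types.typeEqualizerOfUnique _ _ (by
        intro g hg
        refine ⟨⟨g, hg⟩, rfl, ?_⟩
        rintro ⟨g', hg'⟩ h
        apply Subtype.ext
        exact h)))

end

section
variable {C : Type u} [SmallCategory C]

/-- the sieve of arrows along which a section lifts -/
def liftSieve {F F' : Cᵒᵖ ⥤ Type u} (η : F ⟶ F') {X : C} (z : F'.obj (op X)) : Sieve X where
  arrows Y f := ∃ w : F.obj (op Y), η.app (op Y) w = F'.map f.op z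
  downward_closed := by
    rintro Y Z f ⟨w, hw⟩ g
    refine ⟨F.map g.op w, ?_⟩
    rw [NatTrans.naturality_apply, hw, op_comp, Functor.map_comp_apply]

/-- the lift -/
noncomputable def liftMap {F F' : Cᵒᵖ ⥤ Type u} (η : F ⟶ F')
    (hinj : ∀ X : Cᵒᵖ, Function.Injective (η.app X)) {X : C} (z : F'.obj (op X)) :
    (liftSieve η z).functor ⟶ F where
  app Y := ↾fun f => (f.2 : ∃ w : F.obj (op Y.unop), η.app (op Y.unop) w = F'.map f.1.op z).choose
  naturality Y Z k := by
    ext ⟨f, hf⟩
    apply hinj Z
    have h1 := (hf : ∃ w : F.obj (op Y.unop), η.app (op Y.unop) w = F'.map f.op z).choose_spec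
    have hf' : (liftSieve η z).arrows (k.unop ≫ f) := (liftSieve η z).downward_closed hf k.unop
    have h2 := (hf' : ∃ w : F.obj (op Z.unop),
      η.app (op Z.unop) w = F'.map (k.unop ≫ f).op z).choose_spec
    change η.app Z (hf' : ∃ w : F.obj (op Z.unop),
      η.app (op Z.unop) w = F'.map (k.unop ≫ f).op z).choose = η.app Z (F.map k _)
    rw [NatTrans.naturality_apply]
    erw [h1, h2]
    rw [op_comp, Functor.map_comp_apply]
    rfl

theorem liftMap_spec {F F' : Cᵒᵖ ⥤ Type u} (η : F ⟶ F')
    (hinj : ∀ X : Cᵒᵖ, Function.Injective (η.app X)) {X : C} (z : F'.obj (op X))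
    (Y : Cᵒᵖ) (f : (liftSieve η z).functor.obj Y) :
    η.app Y ((liftMap η hinj z).app Y f) = F'.map f.1.op z :=
  (f.2 : ∃ w : F.obj (op Y.unop), η.app (op Y.unop) w = F'.map f.1.op z).choose_spec

theorem isPullback_lift {F F' : Cᵒᵖ ⥤ Type u} (η : F ⟶ F')
    (hinj : ∀ X : Cᵒᵖ, Function.Injective (η.app X)) {X : C} (z : F'.obj (op X)) :
    IsPullback (liftMap η hinj z) (liftSieve η z).functorInclusion η (yonedaEquiv.symm z) := by
  apply IsPullback.of_forall_isPullback_app
  intro Y
  rw [Limits.Types.isPullback_iff]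
  refine ⟨?_, ?_, ?_⟩
  · ext f
    exact liftMap_spec η hinj z Y f
  · rintro ⟨g₁, h₁⟩ ⟨g₂, h₂⟩ ⟨_, h⟩
    apply Subtype.ext
    exact h
  · intro w f hw
    have hf : (liftSieve η z).arrows f := ⟨w, hw⟩
    refine ⟨⟨f, hf⟩, ?_, rfl⟩
    apply hinj Y
    rw [liftMap_spec]
    exact hw.symm

end

/-- Let `C` be a small category and `P` a strictly full subcategory of the category of presheaves of
sets on `C` whose inclusion admits a left adjoint (a reflector) preserving finite limits. Call a
sieve `S` on `X` covering when the reflector inverts the inclusion of `S`, viewed as a subpresheaf,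
into the presheaf represented by `X`. Then these covering sieves form a Grothendieck topology `J` on
`C`, and a presheaf lies in `P` if and only if it is a sheaf for `J`. (This is the half of the
correspondence between topologies on `C` and such reflective subcategories that produces the
topology; the topology is pinned down by its covering sieves.) -/
theorem result
    {C : Type u} [SmallCategory C] (P : ObjectProperty (Cᵒᵖ ⥤ Type u))
    [P.IsClosedUnderIsomorphisms] [Reflective P.ι] [PreservesFiniteLimits (reflector P.ι)] :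
    ∃ J : GrothendieckTopology C,
      (∀ (X : C) (S : Sieve X), S ∈ J X ↔ IsIso ((reflector P.ι).map S.functorInclusion)) ∧
      ∀ F : Cᵒᵖ ⥤ Type u, P F ↔ Presieve.IsSheaf J F := by
  let Ps : Set (Cᵒᵖ ⥤ Type u) := {F | P F}
  let J := Sheaf.finestTopology Ps
  let L := reflector P.ι
  have hA1 : ∀ (X : C) (S : Sieve X), IsIso (L.map S.functorInclusion) →
      ∀ F, P F → Presieve.IsSheafFor F (S : Presieve X) := by
    intro X S hS F hF
    rw [Presieve.isSheafFor_iff_yonedaSheafCondition]
    intro f
    have hb := local_of_isIso P _ hS F hF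
    obtain ⟨g, hg⟩ := hb.2 f
    exact ⟨g, hg, fun g' hg' => hb.1 (hg'.trans hg.symm)⟩
  have hA : ∀ (X : C) (S : Sieve X), S ∈ J X ↔ IsIso (L.map S.functorInclusion) := by
    intro X S
    constructor
    · intro hS
      apply isIso_of_local
      intro F hF
      have h1 : Presieve.IsSheafFor F (S : Presieve X) :=
        Sheaf.sheaf_for_finestTopology Ps (show F ∈ Ps from hF) S hS
      rw [Presieve.isSheafFor_iff_yonedaSheafCondition] at h1
      constructor
      · intro g₁ g₂ h
        obtain ⟨g, _, huniq⟩ := h1 (S.functorInclusion ≫ g₁)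
        rw [huniq g₁ rfl, huniq g₂ h.symm]
      · intro f
        obtain ⟨g, hg, _⟩ := h1 f
        exact ⟨g, hg⟩
    · intro hS
      apply Sheaf.mem_finestTopology_of_forall_isSheafFor
      intro F hF Y f
      apply hA1 _ _ _ F hF
      have hpb := (isPullback_sieve S f).map L
      exact hpb.isIso_snd_of_isIso
  refine ⟨J, hA, ?_⟩
  intro F
  constructor
  · intro hF
    exact Sheaf.sheaf_for_finestTopology Ps hF
  · intro hF
    let adj := reflectorAdjunction P.ι
    let η := adj.unit.app F
    have hF' : P (P.ι.obj (L.obj F)) := (L.obj F).property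
    have hF'sheaf : Presieve.IsSheaf J (P.ι.obj (L.obj F)) :=
      Sheaf.sheaf_for_finestTopology Ps hF'
    have hLη : IsIso (L.map η) :=
      isIso_of_comp_hom_eq_id (adj.counit.app (L.obj F)) (adj.left_triangle_components F)
    have hLeq : ∀ {A : Cᵒᵖ ⥤ Type u} (a b : A ⟶ F), a ≫ η = b ≫ η → L.map a = L.map b := by
      intro A a b hab
      apply (adj.homEquiv A (L.obj F)).injective
      rw [Adjunction.homEquiv_unit, Adjunction.homEquiv_unit]
      have ha := adj.unit.naturality a
      have hb := adj.unit.naturality b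
      simp only [Functor.id_obj, Functor.id_map, Functor.comp_obj, Functor.comp_map] at ha hb
      rw [← ha, ← hb]
      exact hab
    have hinj : ∀ X : Cᵒᵖ, Function.Injective (η.app X) := by
      intro X x y hxy
      have hS : eqSieve F (X := X.unop) x y ∈ J X.unop := by
        rw [hA]
        have hlim := isLimitForkMapOfIsLimit L (eqSieve_w F (X := X.unop) x y)
          (eqSieveIsLimit F (X := X.unop) x y)
        have h₀ : L.map (yonedaEquiv.symm x) = L.map (yonedaEquiv.symm y) := by
          apply hLeq
          apply yonedaEquiv.injective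
          rw [yonedaEquiv_comp, yonedaEquiv_comp, Equiv.apply_symm_apply, Equiv.apply_symm_apply]
          exact hxy
        exact isIso_limit_cone_parallelPair_of_eq h₀ hlim
      exact (hF _ hS).isSeparatedFor.ext (fun Y f hf => hf)
    have hsurj : ∀ X : Cᵒᵖ, Function.Surjective (η.app X) := by
      intro X z
      have hS : liftSieve η (X := X.unop) z ∈ J X.unop := by
        rw [hA]
        have hpb := (isPullback_lift η hinj (X := X.unop) z).map L
        exact hpb.isIso_snd_of_isIso
      have h1 := (Presieve.isSheafFor_iff_yonedaSheafCondition.mp (hF _ hS))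
        (liftMap η hinj (X := X.unop) z)
      obtain ⟨g, hg, -⟩ := h1
      refine ⟨yonedaEquiv g, ?_⟩
      have h2 := (Presieve.isSheafFor_iff_yonedaSheafCondition.mp (hF'sheaf _ hS))
        ((liftSieve η (X := X.unop) z).functorInclusion ≫ yonedaEquiv.symm z)
      obtain ⟨k, _, hk⟩ := h2
      have e1 : g ≫ η = k := by
        apply hk
        rw [← Category.assoc, hg]
        exact (isPullback_lift η hinj (X := X.unop) z).w
      have e2 : yonedaEquiv.symm z = k := hk _ rfl
      have : g ≫ η = yonedaEquiv.symm z := e1.trans e2.symm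
      have h3 := congrArg yonedaEquiv this
      rw [yonedaEquiv_comp, Equiv.apply_symm_apply] at h3
      exact h3
    have hiso : IsIso η := by
      have : ∀ X : Cᵒᵖ, IsIso (η.app X) := by
        intro X
        rw [isIso_iff_bijective]
        exact ⟨hinj X, hsurj X⟩
      exact NatIso.isIso_of_isIso_app η
    exact P.prop_of_iso (asIso η).symm hF'

end Groth.Agent.S6127
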