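import Groth.Statements.S6128
import Mathlib.CategoryTheory.Sites.Closed
import Mathlib.CategoryTheory.Sites.Sheafification
import Mathlib.CategoryTheory.Sites.LeftExact
import Mathlib.CategoryTheory.Limits.Types.Pullbacks
import Mathlib.CategoryTheory.Limits.Shapes.Pullback.IsPullback.Basic
import Mathlib.CategoryTheory.Functor.KanExtension.Adjunction
-- import your own Groth.Agent.* helpers here

set_option autoImplicit false
open CategoryTheory
universe u
open SGA4

namespace Groth.Agent.S6128

section
universe v₁ v₂ u₁ u₂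
variable {C : Type u₁} [Category.{v₁} C] {D : Type u₂} [Category.{v₂} D]
  {L : C ⥤ D} {R : D ⥤ C} (adj : L ⊣ R)

include adj

theorem bijective_of_isIso {A B : C} (w : A ⟶ B) (hw : IsIso (L.map w)) (Z : D) :
    Function.Bijective (fun g : B ⟶ R.obj Z => w ≫ g) := by
  have hnat : ∀ k : L.obj B ⟶ Z,
      w ≫ adj.homEquiv B Z k = adj.homEquiv A Z (L.map w ≫ k) := fun k =>
    (adj.homEquiv_naturality_left w k).symm
  constructor
  · intro g₁ g₂ h
    simp only at h
    obtain ⟨k₁, rfl⟩ := (adj.homEquiv B Z).surjective g₁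
    obtain ⟨k₂, rfl⟩ := (adj.homEquiv B Z).surjective g₂
    rw [hnat, hnat] at h
    have := (adj.homEquiv A Z).injective h
    rw [(cancel_epi _).mp this]
  · intro f
    obtain ⟨k, rfl⟩ := (adj.homEquiv A Z).surjective f
    refine ⟨adj.homEquiv B Z (inv (L.map w) ≫ k), ?_⟩
    simp only
    rw [hnat, IsIso.hom_inv_id_assoc]

theorem isIso_of_bijective {A B : C} (w : A ⟶ B)
    (h : ∀ Z : D, Function.Bijective (fun g : B ⟶ R.obj Z => w ≫ g)) :
    IsIso (L.map w) := by
  have hbij : ∀ Z : D, Function.Bijective (fun k : L.obj B ⟶ Z => L.map w ≫ k) := by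
    intro Z
    have hnat : ∀ k : L.obj B ⟶ Z,
        w ≫ adj.homEquiv B Z k = adj.homEquiv A Z (L.map w ≫ k) := fun k =>
      (adj.homEquiv_naturality_left w k).symm
    have hZ := h Z
    constructor
    · intro k₁ k₂ hk
      simp only at hk
      apply (adj.homEquiv B Z).injective
      apply hZ.1
      simp only
      rw [hnat, hnat, hk]
    · intro k
      obtain ⟨g, hg⟩ := hZ.2 (adj.homEquiv A Z k)
      refine ⟨(adj.homEquiv B Z).symm g, ?_⟩
      apply (adj.homEquiv A Z).injective
      simp only at hg ⊢
      rw [← hnat, Equiv.apply_symm_apply, hg]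
  obtain ⟨r, hr⟩ := (hbij (L.obj A)).2 (𝟙 _)
  simp only at hr
  refine ⟨⟨r, hr, ?_⟩⟩
  apply (hbij (L.obj B)).1
  simp only
  rw [← Category.assoc, hr, Category.id_comp, Category.comp_id]

end

section
variable {C : Type u} [SmallCategory C] {C' : Type u} [SmallCategory C'] (u : C ⥤ C')

/-- top map of the square -/
def topMap {Y : C} (R : Sieve (u.obj Y)) :
    (R.functorPullback u).functor ⟶ u.op ⋙ R.functor where
  app Z := ↾fun g => ⟨u.map g.1, g.2⟩
  naturality Z W k := by
    ext g
    apply Subtype.ext
    exact u.map_comp _ _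

/-- bottom map of the square -/
def botMap (Y : C) : yoneda.obj Y ⟶ u.op ⋙ yoneda.obj (u.obj Y) where
  app Z := ↾fun g => u.map g
  naturality Z W k := by
    ext g
    exact u.map_comp _ _

theorem isPullback_square {Y : C} (R : Sieve (u.obj Y)) :
    IsPullback (topMap u R) (R.functorPullback u).functorInclusion
      (Functor.whiskerLeft u.op R.functorInclusion) (botMap u Y) := by
  apply IsPullback.of_forall_isPullback_app
  intro Z
  rw [Limits.Types.isPullback_iff]
  refine ⟨?_, ?_, ?_⟩
  · ext g
    rfl
  · rintro ⟨g₁, h₁⟩ ⟨g₂, h₂⟩ ⟨_, h⟩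
    apply Subtype.ext
    exact h
  · rintro ⟨g, hg⟩ k hk
    have hk' : g = u.map k := hk
    refine ⟨⟨k, ?_⟩, ?_, rfl⟩
    · change R.arrows (u.map k)
      rw [← hk']; exact hg
    · apply Subtype.ext
      exact hk'.symm

end

/-- Let `u : C ⥤ C'` be a functor between small sites. If the right Kan extension along `u` of the
underlying presheaf of every sheaf of sets on `C` is a sheaf on `C'`, then `u` is cocontinuous: for
every object `Y` of `C` and every covering sieve `R` of `u Y`, the sieve of morphisms `g : Z ⟶ Y`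
with `u g ∈ R` covers `Y`. -/
theorem result
    {C : Type u} [SmallCategory C] {C' : Type u} [SmallCategory C']
    (J : GrothendieckTopology C) (J' : GrothendieckTopology C') (u : C ⥤ C')
    (h : ∀ G : Sheaf J (Type u), Presheaf.IsSheaf J' ((u.op.ran).obj G.obj)) :
    u.IsCocontinuous J J' := by
  constructor
  intro Y R hR
  rw [GrothendieckTopology.mem_iff_isSheafFor_closedSieves]
  suffices H : ∀ G : Sheaf J (Type u),
      Presieve.IsSheafFor G.obj ((R.functorPullback u : Sieve Y) : Presieve Y) by
    exact H ⟨(Functor.closedSieves J).toFunctor,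
      (isSheaf_iff_isSheaf_of_type _ _).mpr (classifier_isSheaf J)⟩
  let adj := sheafificationAdjunction J (Type u)
  let radj := u.op.ranAdjunction (Type u)
  have h1 : IsIso ((presheafToSheaf J (Type u)).map
      (Functor.whiskerLeft u.op R.functorInclusion)) := by
    apply isIso_of_bijective adj
    intro G
    have hsh : Presieve.IsSheafFor ((u.op.ran).obj G.obj) (R : Presieve (u.obj Y)) :=
      ((isSheaf_iff_isSheaf_of_type _ _).mp (h G)) _ hR
    rw [Presieve.isSheafFor_iff_yonedaSheafCondition] at hsh
    have hnat : ∀ k : u.op ⋙ yoneda.obj (u.obj Y) ⟶ G.obj,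
        R.functorInclusion ≫ radj.homEquiv _ _ k
          = radj.homEquiv _ _ (Functor.whiskerLeft u.op R.functorInclusion ≫ k) := fun k =>
      (radj.homEquiv_naturality_left R.functorInclusion k).symm
    show Function.Bijective
      (fun g : u.op ⋙ yoneda.obj (u.obj Y) ⟶ G.obj =>
        Functor.whiskerLeft u.op R.functorInclusion ≫ g)
    constructor
    · intro k₁ k₂ hk
      simp only at hk
      apply (radj.homEquiv _ _).injective
      obtain ⟨g, _, huniq⟩ := hsh (R.functorInclusion ≫ radj.homEquiv _ _ k₁)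
      have e2 : R.functorInclusion ≫ radj.homEquiv _ _ k₂
          = R.functorInclusion ≫ radj.homEquiv _ _ k₁ := by
        rw [hnat, hnat, hk]
      rw [huniq _ rfl, huniq (radj.homEquiv _ _ k₂) e2]
    · intro f
      obtain ⟨g, hg, _⟩ := hsh (radj.homEquiv _ _ f)
      refine ⟨(radj.homEquiv _ _).symm g, ?_⟩
      apply (radj.homEquiv _ _).injective
      simp only
      rw [← hnat, Equiv.apply_symm_apply, hg]
  have h2 : IsIso ((presheafToSheaf J (Type u)).map (R.functorPullback u).functorInclusion) :=
    ((isPullback_square u R).map (presheafToSheaf J (Type u))).isIso_snd_of_isIso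
  intro G
  rw [Presieve.isSheafFor_iff_yonedaSheafCondition]
  intro f
  have hb := bijective_of_isIso adj _ h2 G
  obtain ⟨g, hg⟩ := hb.2 f
  exact ⟨g, hg, fun g' hg' => hb.1 (hg'.trans hg.symm)⟩

end Groth.Agent.S6128
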