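import Groth.Statements.S6129
import Mathlib.CategoryTheory.Functor.KanExtension.Adjunction
import Mathlib.CategoryTheory.Limits.Types.Pullbacks
import Mathlib.CategoryTheory.Limits.Types.Colimits
import Mathlib.CategoryTheory.Limits.FunctorCategory.Shapes.Pullbacks
import Mathlib.CategoryTheory.Limits.FunctorCategory.EpiMono
-- import your own Groth.Agent.* helpers here

set_option autoImplicit false
open CategoryTheory CategoryTheory.Limits
universe u
open SGA4

namespace Groth.Agent.S6129

section
open Opposite Classical

variable {C : Type u} [SmallCategory C] {C' : Type u} [SmallCategory C'] (u : C ⥤ C')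

/-- the pointwise colimit cocone of the left Kan extension -/
noncomputable def isColim (H : Cᵒᵖ ⥤ Type u) (Y : C'ᵒᵖ) :
    IsColimit ((Functor.LeftExtension.mk _ (u.op.leftKanExtensionUnit H)).coconeAt Y) :=
  Functor.isPointwiseLeftKanExtensionLeftKanExtensionUnit u.op H Y

/-- the condition that an object of the comma category lies in the main component -/
def InMain (X : C) (g : CostructuredArrow u.op (op (u.obj X))) : Prop :=
  ∃ g₁ : X ⟶ g.left.unop, u.map g₁ = g.hom.unop

variable {u}

theorem inMain_iff [u.Faithful]
    (hu : ∀ X : C, (Over.post (X := X) u).Full ∧ (Over.post (X := X) u).Faithful)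
    {X : C} {g g' : CostructuredArrow u.op (op (u.obj X))} (φ : g ⟶ g') :
    InMain u X g ↔ InMain u X g' := by
  have hw : g'.hom.unop ≫ u.map φ.left.unop = g.hom.unop := by
    have := CostructuredArrow.w φ
    exact congrArg Quiver.Hom.unop this
  constructor
  · rintro ⟨g₁, hg₁⟩
    haveI := (hu g.left.unop).1
    let a : Over g.left.unop := Over.mk g₁
    let b : Over g.left.unop := Over.mk φ.left.unop
    let ψ' : (Over.post u).obj a ⟶ (Over.post u).obj b :=
      Over.homMk (g'.hom.unop) (by
        change g'.hom.unop ≫ u.map φ.left.unop = u.map g₁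
        rw [hw, hg₁])
    obtain ⟨ψ, hψ⟩ := (Over.post u).map_surjective ψ'
    refine ⟨ψ.left, ?_⟩
    have := congrArg CommaMorphism.left hψ
    exact this
  · rintro ⟨g₂, hg₂⟩
    exact ⟨g₂ ≫ φ.left.unop, by rw [u.map_comp, hg₂, hw]⟩

theorem inMain_comp [u.Faithful]
    {X : C} {g g' : CostructuredArrow u.op (op (u.obj X))} (φ : g ⟶ g')
    (g₁ : X ⟶ g.left.unop) (hg₁ : u.map g₁ = g.hom.unop)
    (g₂ : X ⟶ g'.left.unop) (hg₂ : u.map g₂ = g'.hom.unop) :
    g₂ ≫ φ.left.unop = g₁ := by
  have hw : g'.hom.unop ≫ u.map φ.left.unop = g.hom.unop := by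
    have := CostructuredArrow.w φ
    exact congrArg Quiver.Hom.unop this
  apply u.map_injective
  rw [u.map_comp, hg₂, hw, hg₁]

variable (u)

/-- the retraction cocone -/
noncomputable def rhoCocone [u.Faithful]
    (hu : ∀ X : C, (Over.post (X := X) u).Full ∧ (Over.post (X := X) u).Faithful)
    (H : Cᵒᵖ ⥤ Type u) (X : C) :
    Cocone (CostructuredArrow.proj u.op (op (u.obj X)) ⋙ H) where
  pt := Option (H.obj (op X))
  ι :=
    { app := fun g => ↾fun h₁ : H.obj g.left =>
        if hex : InMain u X g then some (H.map hex.choose.op h₁) else none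
      naturality := fun g g' φ => by
        ext h₁
        change (if hex : InMain u X g' then some (H.map hex.choose.op (H.map φ.left h₁)) else none)
          = (if hex : InMain u X g then some (H.map hex.choose.op h₁) else none)
        by_cases hex : InMain u X g
        · have hex' := (inMain_iff hu φ).mp hex
          rw [dif_pos hex, dif_pos hex']
          congr 1
          have := inMain_comp φ hex.choose hex.choose_spec hex'.choose hex'.choose_spec
          rw [← this]
          have e : (hex'.choose ≫ φ.left.unop).op = φ.left ≫ hex'.choose.op := rfl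
          rw [e, Functor.map_comp_apply]
        · have hex' : ¬ InMain u X g' := fun h' => hex ((inMain_iff hu φ).mpr h')
          rw [dif_neg hex, dif_neg hex'] }

/-- the retraction map -/
noncomputable def rho [u.Faithful]
    (hu : ∀ X : C, (Over.post (X := X) u).Full ∧ (Over.post (X := X) u).Faithful)
    (H : Cᵒᵖ ⥤ Type u) (X : C) :
    (u.op.leftKanExtension H).obj (op (u.obj X)) ⟶ Option (H.obj (op X)) :=
  (isColim u H (op (u.obj X))).desc (rhoCocone u hu H X)

/-- the colimit inclusions -/
noncomputable def inc (H : Cᵒᵖ ⥤ Type u) (X : C) (g : CostructuredArrow u.op (op (u.obj X))) :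
    H.obj g.left ⟶ (u.op.leftKanExtension H).obj (op (u.obj X)) :=
  ((Functor.LeftExtension.mk _ (u.op.leftKanExtensionUnit H)).coconeAt (op (u.obj X))).ι.app g

theorem inc_eq (H : Cᵒᵖ ⥤ Type u) (X : C) (g : CostructuredArrow u.op (op (u.obj X)))
    (h₁ : H.obj g.left) :
    inc u H X g h₁ = (u.op.leftKanExtension H).map g.hom
      ((u.op.leftKanExtensionUnit H).app g.left h₁) := rfl

theorem rho_inc [u.Faithful]
    (hu : ∀ X : C, (Over.post (X := X) u).Full ∧ (Over.post (X := X) u).Faithful)
    (H : Cᵒᵖ ⥤ Type u) (X : C) (g : CostructuredArrow u.op (op (u.obj X)))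
    (h₁ : H.obj g.left) :
    rho u hu H X (inc u H X g h₁) =
      if hex : InMain u X g then some (H.map hex.choose.op h₁) else none := by
  have := (isColim u H (op (u.obj X))).fac (rhoCocone u hu H X) g
  exact ConcreteCategory.congr_hom this h₁

theorem inc_surj (H : Cᵒᵖ ⥤ Type u) (X : C)
    (z : (u.op.leftKanExtension H).obj (op (u.obj X))) :
    ∃ (g : CostructuredArrow u.op (op (u.obj X))) (h₁ : H.obj g.left), inc u H X g h₁ = z :=
  Limits.Types.jointly_surjective_of_isColimit (isColim u H (op (u.obj X))) z

theorem unit_eq_inc (H : Cᵒᵖ ⥤ Type u) (X : C) (h : H.obj (op X)) :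
    (u.op.leftKanExtensionUnit H).app (op X) h
      = inc u H X (CostructuredArrow.mk (𝟙 (u.op.obj (op X)))) h := by
  rw [inc_eq]
  change _ = (u.op.leftKanExtension H).map (𝟙 _) _
  rw [(u.op.leftKanExtension H).map_id]
  rfl

theorem rho_unit [u.Faithful]
    (hu : ∀ X : C, (Over.post (X := X) u).Full ∧ (Over.post (X := X) u).Faithful)
    (H : Cᵒᵖ ⥤ Type u) (X : C) (h : H.obj (op X)) :
    rho u hu H X ((u.op.leftKanExtensionUnit H).app (op X) h) = some h := by
  rw [unit_eq_inc, rho_inc]
  have hex : InMain u X (CostructuredArrow.mk (𝟙 (u.op.obj (op X)))) :=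
    ⟨𝟙 X, by simp⟩
  rw [dif_pos hex]
  have h1 : hex.choose = 𝟙 X := by
    apply u.map_injective
    rw [hex.choose_spec]
    simp
  rw [h1]
  simp

theorem eq_unit_of_rho [u.Faithful]
    (hu : ∀ X : C, (Over.post (X := X) u).Full ∧ (Over.post (X := X) u).Faithful)
    (H : Cᵒᵖ ⥤ Type u) (X : C) (z : (u.op.leftKanExtension H).obj (op (u.obj X)))
    (h : H.obj (op X)) (hz : rho u hu H X z = some h) :
    z = (u.op.leftKanExtensionUnit H).app (op X) h := by
  obtain ⟨g, h₁, rfl⟩ := inc_surj u H X z
  rw [rho_inc] at hz
  by_cases hex : InMain u X g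
  · rw [dif_pos hex] at hz
    have hh : H.map hex.choose.op h₁ = h := Option.some.inj hz
    rw [unit_eq_inc, ← hh]
    let φ : g ⟶ CostructuredArrow.mk (𝟙 (u.op.obj (op X))) :=
      CostructuredArrow.homMk hex.choose.op (by
        have := hex.choose_spec
        change (u.map hex.choose).op ≫ 𝟙 _ = g.hom
        rw [Category.comp_id, this]
        rfl)
    have := ((Functor.LeftExtension.mk _ (u.op.leftKanExtensionUnit H)).coconeAt
      (op (u.obj X))).w φ
    exact (ConcreteCategory.congr_hom this h₁).symm
  · rw [dif_neg hex] at hz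
    exact absurd hz (by simp)

theorem lan_map_inc (H K : Cᵒᵖ ⥤ Type u) (α : H ⟶ K) (X : C)
    (g : CostructuredArrow u.op (op (u.obj X))) (h₁ : H.obj g.left) :
    (u.op.lan.map α).app (op (u.obj X)) (inc u H X g h₁) = inc u K X g (α.app g.left h₁) := by
  rw [inc_eq, inc_eq]
  have h1 := (u.op.lan.map α).naturality g.hom
  have h2 := congr_app (u.op.lanUnit.naturality α) g.left
  have e1 := ConcreteCategory.congr_hom h1 ((u.op.leftKanExtensionUnit H).app g.left h₁)
  have e2 : (u.op.leftKanExtensionUnit K).app g.left (α.app g.left h₁)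
      = (u.op.lan.map α).app (u.op.obj g.left) ((u.op.leftKanExtensionUnit H).app g.left h₁) :=
    ConcreteCategory.congr_hom h2 h₁
  refine e1.trans ?_
  exact congrArg ((u.op.leftKanExtension K).map g.hom) e2.symm

theorem rho_natural [u.Faithful]
    (hu : ∀ X : C, (Over.post (X := X) u).Full ∧ (Over.post (X := X) u).Faithful)
    (H K : Cᵒᵖ ⥤ Type u) (α : H ⟶ K) (X : C)
    (z : (u.op.leftKanExtension H).obj (op (u.obj X))) :
    rho u hu K X ((u.op.lan.map α).app (op (u.obj X)) z)
      = Option.map (α.app (op X)) (rho u hu H X z) := by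
  obtain ⟨g, h₁, rfl⟩ := inc_surj u H X z
  rw [lan_map_inc, rho_inc, rho_inc]
  by_cases hex : InMain u X g
  · rw [dif_pos hex, dif_pos hex]
    simp only [Option.map_some]
    congr 1
    exact (ConcreteCategory.congr_hom (α.naturality hex.choose.op) h₁).symm
  · rw [dif_neg hex, dif_neg hex]
    rfl

end

/-- Let `u : C ⥤ C'` be a faithful functor between small categories such that for every object `X` of
`C` the induced functor on over-categories `C/X ⥤ C'/u X` is full and faithful. Then the left Kan
extension functor `u_!` on presheaves of sets is faithful, the unit `H ⟶ u^* u_! H` of the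
adjunction `u_! ⊣ u^*` is a monomorphism for every presheaf `H`, and for every morphism of
presheaves `α : H ⟶ K` the naturality square of the unit at `α` (with sides `α` and `u^* u_! α`) is
cartesian. (The published statement assumes only the condition on the slice functors, and its proof
uses that `u` is faithful; the slice condition alone does not suffice: for a nontrivial group viewed
as a one-object category mapping to the point every slice functor is an equivalence, while `u_!` is
the orbit-set functor on `G`-sets, which is not faithful, and the unit `G ⟶ G/G` is not a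
monomorphism. So `u` is taken faithful here.) -/
theorem result
    {C : Type u} [SmallCategory C] {C' : Type u} [SmallCategory C'] (u : C ⥤ C') [u.Faithful]
    (hu : ∀ X : C, (Over.post (X := X) u).Full ∧ (Over.post (X := X) u).Faithful) :
    (u.op.lan : (Cᵒᵖ ⥤ Type u) ⥤ (C'ᵒᵖ ⥤ Type u)).Faithful ∧
    (∀ H : Cᵒᵖ ⥤ Type u, Mono ((u.op.lanAdjunction (Type u)).unit.app H)) ∧
    ∀ (H K : Cᵒᵖ ⥤ Type u) (α : H ⟶ K),
      IsPullback ((u.op.lanAdjunction (Type u)).unit.app H) α
        (((Functor.whiskeringLeft Cᵒᵖ C'ᵒᵖ (Type u)).obj u.op).map (u.op.lan.map α))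
        ((u.op.lanAdjunction (Type u)).unit.app K) := by
  have hunit : ∀ H : Cᵒᵖ ⥤ Type u,
      (u.op.lanAdjunction (Type u)).unit.app H = u.op.leftKanExtensionUnit H := by
    intro H
    rw [Functor.lanAdjunction_unit]
    rfl
  have hinj : ∀ (H : Cᵒᵖ ⥤ Type u) (X : Cᵒᵖ),
      Function.Injective ((u.op.leftKanExtensionUnit H).app X) := by
    intro H X h h' hh
    have h1 := rho_unit u hu H X.unop h
    have h2 := rho_unit u hu H X.unop h'
    have : some h = some h' := by
      rw [← h1, ← h2]
      exact congrArg _ hh
    exact Option.some.inj this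
  have hmono : ∀ H : Cᵒᵖ ⥤ Type u, Mono ((u.op.lanAdjunction (Type u)).unit.app H) := by
    intro H
    rw [hunit]
    rw [NatTrans.mono_iff_mono_app]
    intro X
    rw [mono_iff_injective]
    exact hinj H X
  refine ⟨⟨?_⟩, hmono, ?_⟩
  · intro H K α β hαβ
    have := hmono K
    rw [← cancel_mono ((u.op.lanAdjunction (Type u)).unit.app K)]
    have h1 := (u.op.lanAdjunction (Type u)).unit.naturality α
    have h2 := (u.op.lanAdjunction (Type u)).unit.naturality β
    simp only [Functor.id_map, Functor.comp_map] at h1 h2
    rw [h1, h2, hαβ]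
  · intro H K α
    rw [hunit, hunit]
    apply IsPullback.of_forall_isPullback_app
    intro X
    rw [Limits.Types.isPullback_iff]
    refine ⟨?_, ?_, ?_⟩
    · have := congr_app (u.op.lanUnit.naturality α) X
      exact this.symm
    · rintro h h' ⟨hh, _⟩
      exact hinj H X hh
    · intro z k hzk
      have hzk' : (u.op.lan.map α).app (Opposite.op (u.obj X.unop)) z
          = (u.op.leftKanExtensionUnit K).app X k := hzk
      have h1 := rho_natural u hu H K α X.unop z
      rw [hzk'] at h1
      have h2 := rho_unit u hu K X.unop k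
      rw [h2] at h1
      cases hr : rho u hu H X.unop z with
      | none => rw [hr] at h1; simp at h1
      | some h =>
        rw [hr] at h1
        simp only [Option.map_some] at h1
        refine ⟨h, (eq_unit_of_rho u hu H X.unop z h hr).symm, (Option.some.inj h1).symm⟩

end Groth.Agent.S6129
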