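import Groth.Statements.S6131
-- import your own Groth.Agent.* helpers here

set_option autoImplicit false
open CategoryTheory CategoryTheory.Limits
universe u
open SGA4

namespace Groth.Agent.S6131

/-- the presheaf `Y ↦ (⊥ covers Y)` -/
def botPresheaf {C : Type u} [SmallCategory C] (J : GrothendieckTopology C) : Cᵒᵖ ⥤ Type u where
  obj Y := ULift.{u} (PLift ((⊥ : Sieve Y.unop) ∈ J Y.unop))
  map {Y Z} f := TypeCat.ofHom (fun h => ⟨⟨by
    have := J.pullback_stable f.unop h.down.down
    rwa [Sieve.pullback_bot] at this⟩⟩)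
  map_id _ := by ext x; exact Subsingleton.elim _ _
  map_comp _ _ := by ext x; exact Subsingleton.elim _ _

theorem botPresheaf_isSheaf {C : Type u} [SmallCategory C] (J : GrothendieckTopology C) :
    Presieve.IsSheaf J (botPresheaf J) := by
  intro X S hS x _
  have hX : (⊥ : Sieve X) ∈ J X := by
    refine J.transitive hS ⊥ ?_
    intro Y f hf
    rw [Sieve.pullback_bot]
    have h : ULift.{u} (PLift ((⊥ : Sieve Y) ∈ J Y)) := x f hf
    exact h.down.down
  have hsub : ∀ Y : C, Subsingleton ((botPresheaf J).obj (Opposite.op Y)) := fun Y =>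
    (inferInstance : Subsingleton (ULift.{u} (PLift ((⊥ : Sieve Y) ∈ J Y))))
  let t : (botPresheaf J).obj (Opposite.op X) := (⟨⟨hX⟩⟩ : ULift.{u} (PLift ((⊥ : Sieve X) ∈ J X)))
  refine ⟨t, ?_, ?_⟩
  · intro Y f hf
    exact (hsub Y).elim _ _
  · intro t' _
    exact (hsub X).elim _ _

/-- For a small site `(C, J)` and an object `X` of `C`, the sheaf associated to the presheaf represented
by `X` is an initial object of the category of sheaves of sets if and only if the empty sieve covers
`X`. -/
theorem result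
    {C : Type u} [SmallCategory C] (J : GrothendieckTopology C) (X : C) :
    Nonempty (IsInitial ((presheafToSheaf J (Type u)).obj (yoneda.obj X))) ↔ (⊥ : Sieve X) ∈ J X := by
  constructor
  · rintro ⟨hI⟩
    let F : Sheaf J (Type u) := ⟨botPresheaf J, (isSheaf_iff_isSheaf_of_type J _).mpr (botPresheaf_isSheaf J)⟩
    let φ : (presheafToSheaf J (Type u)).obj (yoneda.obj X) ⟶ F := hI.to F
    let ψ : yoneda.obj X ⟶ F.obj := (sheafificationAdjunction J (Type u)).homEquiv _ _ φ
    have h : ULift.{u} (PLift ((⊥ : Sieve X) ∈ J X)) := yonedaEquiv ψ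
    exact h.down.down
  · intro hbot
    have key : ∀ F : Sheaf J (Type u),
        Nonempty (Unique ((presheafToSheaf J (Type u)).obj (yoneda.obj X) ⟶ F)) := by
      intro F
      let e : ((presheafToSheaf J (Type u)).obj (yoneda.obj X) ⟶ F) ≃ F.obj.obj (Opposite.op X) :=
        ((sheafificationAdjunction J (Type u)).homEquiv _ _).trans yonedaEquiv
      have hsh : Presieve.IsSheafFor F.obj ((⊥ : Sieve X) : Presieve X) :=
        ((isSheaf_iff_isSheaf_of_type J _).mp F.property) _ hbot
      let x : Presieve.FamilyOfElements F.obj ((⊥ : Sieve X) : Presieve X) :=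
        fun Y f hf => False.elim hf
      have hx : x.Compatible := fun Y₁ Y₂ Z g₁ g₂ f₁ f₂ h₁ => False.elim h₁
      obtain ⟨t, _, ht⟩ := hsh x hx
      have hu : Unique (F.obj.obj (Opposite.op X)) :=
        ⟨⟨t⟩, fun t' => ht t' (fun Y f hf => False.elim hf)⟩
      exact ⟨e.unique⟩
    have : ∀ F : Sheaf J (Type u),
        Unique ((presheafToSheaf J (Type u)).obj (yoneda.obj X) ⟶ F) := fun F => (key F).some
    exact ⟨IsInitial.ofUnique _⟩

end Groth.Agent.S6131
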