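import Groth.Statements.S6134
-- import your own Groth.Agent.* helpers here

set_option autoImplicit false
open CategoryTheory CategoryTheory.Limits
universe u
open SGA4

namespace Groth.Agent.S6134

section
variable {C : Type u} [SmallCategory C] (J : GrothendieckTopology C)

/-- maps out of the sheafified representable are sections -/
noncomputable def eqv (Z : C) (F : Sheaf J (Type u)) :
    ((presheafToSheaf J (Type u)).obj (yoneda.obj Z) ⟶ F) ≃ F.obj.obj (Opposite.op Z) :=
  ((sheafificationAdjunction J (Type u)).homEquiv _ _).trans yonedaEquiv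

theorem eqv_naturality {X Y : C} (s : Y ⟶ X) (F : Sheaf J (Type u))
    (g : (presheafToSheaf J (Type u)).obj (yoneda.obj X) ⟶ F) :
    eqv J Y F ((presheafToSheaf J (Type u)).map (yoneda.map s) ≫ g)
      = F.obj.map s.op (eqv J X F g) := by
  unfold eqv
  simp only [Equiv.trans_apply]
  rw [Adjunction.homEquiv_naturality_left, yonedaEquiv_naturality]

theorem isColimit_iff {X : C} {ι : Type u} (Y : ι → C) (s : ∀ i, Y i ⟶ X) :
    Nonempty (IsColimit (Cofan.mk ((presheafToSheaf J (Type u)).obj (yoneda.obj X))
      (fun i => (presheafToSheaf J (Type u)).map (yoneda.map (s i))))) ↔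
    ∀ (F : Sheaf J (Type u)) (f : ∀ i, F.obj.obj (Opposite.op (Y i))),
      ∃! x : F.obj.obj (Opposite.op X), ∀ i, F.obj.map (s i).op x = f i := by
  constructor
  · rintro ⟨hc⟩ F f
    let d := Cofan.IsColimit.desc hc (fun i => (eqv J (Y i) F).symm (f i))
    have hd : ∀ i, (presheafToSheaf J (Type u)).map (yoneda.map (s i)) ≫ d
        = (eqv J (Y i) F).symm (f i) := fun i => Cofan.IsColimit.fac hc _ i
    refine ⟨eqv J X F d, fun i => ?_, fun x' hx' => ?_⟩
    · rw [← eqv_naturality, hd, Equiv.apply_symm_apply]
    · have : (eqv J X F).symm x' = d := by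
        refine Cofan.IsColimit.hom_ext hc _ _ (fun i => ?_)
        change (presheafToSheaf J (Type u)).map (yoneda.map (s i)) ≫ _
          = (presheafToSheaf J (Type u)).map (yoneda.map (s i)) ≫ d
        rw [hd]
        apply (eqv J (Y i) F).injective
        rw [eqv_naturality, Equiv.apply_symm_apply, Equiv.apply_symm_apply, hx']
      rw [← this, Equiv.apply_symm_apply]
  · intro H
    refine ⟨Cofan.IsColimit.mk _
      (fun t => (eqv J X t.pt).symm
        (H t.pt (fun i => eqv J (Y i) t.pt (t.inj i))).choose) ?_ ?_⟩
    · intro t i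
      have h1 := (H t.pt (fun i => eqv J (Y i) t.pt (t.inj i))).choose_spec.1 i
      change (presheafToSheaf J (Type u)).map (yoneda.map (s i)) ≫ _ = _
      apply (eqv J (Y i) t.pt).injective
      rw [eqv_naturality, Equiv.apply_symm_apply]
      exact h1
    · intro t m hm
      have h2 := (H t.pt (fun i => eqv J (Y i) t.pt (t.inj i))).choose_spec.2 (eqv J X t.pt m)
        (fun i => by
          rw [← eqv_naturality]
          congr 1
          exact hm i)
      rw [← h2, Equiv.symm_apply_apply]

end

/-- Let `C` be a small category with topologies `J ≤ J'` (every `J`-covering sieve is `J'`-covering),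
`X` an object and `s i : Y i ⟶ X` a family of morphisms. If the associated `J`-sheaf of the presheaf
represented by `X`, with the maps induced by the `s i`, is a coproduct of the associated `J`-sheaves
of the `Y i` (in sheaves of sets), then the same holds for `J'`. -/
theorem result
    {C : Type u} [SmallCategory C] {J J' : GrothendieckTopology C} (hJ : J ≤ J')
    {X : C} {ι : Type u} (Y : ι → C) (s : ∀ i, Y i ⟶ X)
    (h : Nonempty (IsColimit (Cofan.mk ((presheafToSheaf J (Type u)).obj (yoneda.obj X))
      (fun i => (presheafToSheaf J (Type u)).map (yoneda.map (s i)))))) :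
    Nonempty (IsColimit (Cofan.mk ((presheafToSheaf J' (Type u)).obj (yoneda.obj X))
      (fun i => (presheafToSheaf J' (Type u)).map (yoneda.map (s i))))) := by
  rw [isColimit_iff] at h ⊢
  intro F f
  let FJ : Sheaf J (Type u) :=
    ⟨F.obj, (isSheaf_iff_isSheaf_of_type J _).mpr
      (Presieve.isSheaf_of_le _ hJ ((isSheaf_iff_isSheaf_of_type J' _).mp F.property))⟩
  exact h FJ f

end Groth.Agent.S6134
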