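import Groth.Statements.S6135
import Mathlib.CategoryTheory.Functor.KanExtension.Adjunction
import Mathlib.CategoryTheory.Limits.Types.Filtered
import Mathlib.CategoryTheory.Limits.Indization.IndObject
import Mathlib.CategoryTheory.Limits.FunctorCategory.Basic
import Mathlib.CategoryTheory.Adjunction.Limits
-- import your own Groth.Agent.* helpers here

set_option autoImplicit false
open CategoryTheory CategoryTheory.Limits
universe u
open SGA4

namespace Groth.Agent.S6135

section
open Opposite
variable {C : Type u} [SmallCategory C] {C' : Type u} [SmallCategory C'] (u : C ⥤ C')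

/-- the Kan extension adjunction -/
noncomputable abbrev adj : (u.op.lan : (Cᵒᵖ ⥤ Type u) ⥤ (C'ᵒᵖ ⥤ Type u)) ⊣
    (Functor.whiskeringLeft Cᵒᵖ C'ᵒᵖ (Type u)).obj u.op :=
  u.op.lanAdjunction (Type u)

/-- the action of `u` on representables -/
def chi (Y : C) : yoneda.obj Y ⟶ u.op ⋙ yoneda.obj (u.obj Y) where
  app Z := ↾fun g => u.map g
  naturality Z W k := by
    ext g
    exact u.map_comp _ _

/-- the comparison map -/
noncomputable def theta (Y : C) : u.op.lan.obj (yoneda.obj Y) ⟶ yoneda.obj (u.obj Y) :=
  ((adj u).homEquiv _ _).symm (chi u Y)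

theorem theta_unit (X Y : C) (f : X ⟶ Y) :
    (theta u Y).app (op (u.obj X)) (((adj u).unit.app (yoneda.obj Y)).app (op X) f)
      = u.map f := by
  have h : (adj u).homEquiv _ _ (theta u Y) = chi u Y := Equiv.apply_symm_apply _ _
  rw [Adjunction.homEquiv_unit] at h
  have := congr_app h (op X)
  exact ConcreteCategory.congr_hom this f

theorem unit_yoneda_injective [u.Faithful] (X Y : C) :
    Function.Injective (((adj u).unit.app (yoneda.obj Y)).app (op X)) := by
  intro f g h
  apply u.map_injective
  rw [← theta_unit, ← theta_unit, h]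

theorem unit_app_eq (X Y : C) (f : X ⟶ Y) :
    ((adj u).unit.app (yoneda.obj Y)).app (op X) f
      = (u.op.lan.obj (yoneda.obj Y)).map (u.map f).op
          (((adj u).unit.app (yoneda.obj Y)).app (op Y) (𝟙 Y)) := by
  have := ((adj u).unit.app (yoneda.obj Y)).naturality f.op
  have h2 := ConcreteCategory.congr_hom this (𝟙 Y)
  simpa using h2

theorem unit_nat {A B : Cᵒᵖ ⥤ Type u} (α : A ⟶ B) (X : C) (a : A.obj (op X)) :
    ((adj u).unit.app B).app (op X) (α.app (op X) a)
      = (u.op.lan.map α).app (op (u.obj X)) (((adj u).unit.app A).app (op X) a) := by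
  have := congr_app ((adj u).unit.naturality α) (op X)
  exact ConcreteCategory.congr_hom this a

theorem unit_injective_of_isIndObject [u.Faithful] (G : Cᵒᵖ ⥤ Type u) (hG : IsIndObject G)
    (X : C) : Function.Injective (((adj u).unit.app G).app (op X)) := by
  obtain ⟨⟨P⟩⟩ := hG
  let Φ : (Cᵒᵖ ⥤ Type u) ⥤ Type u :=
    u.op.lan ⋙ (evaluation C'ᵒᵖ (Type u)).obj (op (u.obj X))
  let Ψ : (Cᵒᵖ ⥤ Type u) ⥤ Type u := (evaluation Cᵒᵖ (Type u)).obj (op X)
  haveI : PreservesColimitsOfSize.{u, u}
      (u.op.lan : (Cᵒᵖ ⥤ Type u) ⥤ (C'ᵒᵖ ⥤ Type u)) :=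
    (adj u).leftAdjoint_preservesColimits
  have hΦ : IsColimit (Φ.mapCocone P.cocone) := isColimitOfPreserves Φ P.coconeIsColimit
  have hΨ : IsColimit (Ψ.mapCocone P.cocone) := isColimitOfPreserves Ψ P.coconeIsColimit
  intro x y hxy
  obtain ⟨i, a, rfl⟩ := Types.jointly_surjective_of_isColimit hΨ x
  obtain ⟨j, b, rfl⟩ := Types.jointly_surjective_of_isColimit hΨ y
  change ((adj u).unit.app G).app (op X) ((P.ι.app i).app (op X) a)
    = ((adj u).unit.app G).app (op X) ((P.ι.app j).app (op X) b) at hxy
  rw [unit_nat, unit_nat] at hxy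
  obtain ⟨k, f, g, hk⟩ := (Types.FilteredColimit.isColimit_eq_iff _ hΦ).mp hxy
  change (u.op.lan.map (yoneda.map (P.F.map f))).app (op (u.obj X))
      (((adj u).unit.app _).app (op X) a)
    = (u.op.lan.map (yoneda.map (P.F.map g))).app (op (u.obj X))
      (((adj u).unit.app _).app (op X) b) at hk
  rw [← unit_nat, ← unit_nat] at hk
  have hk' := unit_yoneda_injective u X _ hk
  have e1 := congr_app (P.cocone.w f) (op X)
  have e2 := congr_app (P.cocone.w g) (op X)
  change (P.ι.app i).app (op X) a = (P.ι.app j).app (op X) b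
  have e1' := ConcreteCategory.congr_hom e1 a
  have e2' := ConcreteCategory.congr_hom e2 b
  change (P.ι.app k).app (op X) ((yoneda.map (P.F.map f)).app (op X) a)
    = (P.ι.app i).app (op X) a at e1'
  change (P.ι.app k).app (op X) ((yoneda.map (P.F.map g)).app (op X) b)
    = (P.ι.app j).app (op X) b at e2'
  rw [← e1', ← e2', hk']

end

/-- Faithful case. Let `u : C ⥤ C'` be a functor between small categories and `u_!` the left Kan
extension functor on presheaves of sets, whose restriction to ind-objects (presheaves that are small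
filtered colimits of representables) is the induced functor `Ind C ⥤ Ind C'`. Then `u` is faithful
if and only if `u_!` is injective on morphisms between ind-representable presheaves. -/
theorem result
    {C : Type u} [SmallCategory C] {C' : Type u} [SmallCategory C'] (u : C ⥤ C') :
    u.Faithful ↔ ∀ (F G : Cᵒᵖ ⥤ Type u), IsIndObject F → IsIndObject G →
      Function.Injective (fun φ : F ⟶ G => (u.op.lan : (Cᵒᵖ ⥤ Type u) ⥤ (C'ᵒᵖ ⥤ Type u)).map φ) := by
  constructor
  · intro hu F G _ hG φ ψ hφψ
    simp only at hφψ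
    ext X x
    apply unit_injective_of_isIndObject u G hG X.unop
    change ((adj u).unit.app G).app (Opposite.op X.unop) (φ.app (Opposite.op X.unop) x)
      = ((adj u).unit.app G).app (Opposite.op X.unop) (ψ.app (Opposite.op X.unop) x)
    rw [unit_nat, unit_nat, hφψ]
  · intro h
    refine ⟨fun {X Y} f g hfg => ?_⟩
    have inj := h (yoneda.obj X) (yoneda.obj Y) (isIndObject_yoneda X) (isIndObject_yoneda Y)
    apply yoneda.map_injective
    apply inj
    show u.op.lan.map (yoneda.map f) = u.op.lan.map (yoneda.map g)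
    apply ((adj u).homEquiv _ _).injective
    rw [Adjunction.homEquiv_unit, Adjunction.homEquiv_unit]
    have n1 := (adj u).unit.naturality (yoneda.map f)
    have n2 := (adj u).unit.naturality (yoneda.map g)
    simp only [Functor.id_map, Functor.comp_map] at n1 n2
    rw [← n1, ← n2]
    apply yonedaEquiv.injective
    rw [yonedaEquiv_comp, yonedaEquiv_comp, yonedaEquiv_yoneda_map, yonedaEquiv_yoneda_map]
    rw [unit_app_eq u X Y f, unit_app_eq u X Y g, hfg]

end Groth.Agent.S6135
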