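import Groth.Statements.S6136
import Groth.Agent.S6135
-- import your own Groth.Agent.* helpers here

set_option autoImplicit false
open CategoryTheory CategoryTheory.Limits
universe u
open SGA4

namespace Groth.Agent.S6136

/-- Fully faithful case. Let `u : C ⥤ C'` be a functor between small categories and `u_!` the left Kan
extension functor on presheaves of sets, whose restriction to ind-representable presheaves is the
induced functor `Ind C ⥤ Ind C'`. Then `u` is full and faithful if and only if `u_!` is bijective on
morphisms between ind-representable presheaves. -/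
theorem result
    {C : Type u} [SmallCategory C] {C' : Type u} [SmallCategory C'] (u : C ⥤ C') :
    (u.Full ∧ u.Faithful) ↔ ∀ (F G : Cᵒᵖ ⥤ Type u), IsIndObject F → IsIndObject G →
      Function.Bijective (fun φ : F ⟶ G => (u.op.lan : (Cᵒᵖ ⥤ Type u) ⥤ (C'ᵒᵖ ⥤ Type u)).map φ) := by
  constructor
  · rintro ⟨hfull, hfaith⟩ F G _ _
    have hiso : IsIso (u.op.lanAdjunction (Type u)).unit := inferInstance
    have ff := (u.op.lanAdjunction (Type u)).fullyFaithfulLOfIsIsoUnit
    exact ff.map_bijective F G
  · intro h
    have hfaith : u.Faithful :=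
      (Groth.Agent.S6135.result u).mpr (fun F G hF hG => (h F G hF hG).1)
    refine ⟨⟨fun {X Y} g => ?_⟩, hfaith⟩
    have surj := (h (yoneda.obj X) (yoneda.obj Y) (isIndObject_yoneda X) (isIndObject_yoneda Y)).2
    let adj := Groth.Agent.S6135.adj u
    let e : (u.op.lan.obj (yoneda.obj Y)).obj (Opposite.op (u.obj Y)) :=
      (adj.unit.app (yoneda.obj Y)).app (Opposite.op Y) (𝟙 Y)
    let ψ : u.op.lan.obj (yoneda.obj X) ⟶ u.op.lan.obj (yoneda.obj Y) :=
      (adj.homEquiv _ _).symm ((yonedaEquiv (F := u.op ⋙ u.op.lan.obj (yoneda.obj Y)) (X := X)).symm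
        ((u.op.lan.obj (yoneda.obj Y)).map g.op e))
    obtain ⟨φ, hφ⟩ := surj ψ
    simp only at hφ
    obtain ⟨f, rfl⟩ := yoneda.map_surjective φ
    refine ⟨f, ?_⟩
    have h1 : adj.homEquiv _ _ (u.op.lan.map (yoneda.map f))
        = (yonedaEquiv (F := u.op ⋙ u.op.lan.obj (yoneda.obj Y)) (X := X)).symm
          ((u.op.lan.obj (yoneda.obj Y)).map g.op e) := by
      rw [hφ]
      exact Equiv.apply_symm_apply _ _
    rw [Adjunction.homEquiv_unit] at h1
    have n1 := adj.unit.naturality (yoneda.map f)
    simp only [Functor.id_map, Functor.comp_map] at n1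
    rw [← n1] at h1
    have h2 := congrArg yonedaEquiv h1
    rw [yonedaEquiv_comp, yonedaEquiv_yoneda_map, Equiv.apply_symm_apply,
      Groth.Agent.S6135.unit_app_eq u X Y f] at h2
    have h3 := congrArg ((Groth.Agent.S6135.theta u Y).app (Opposite.op (u.obj X))) h2
    have hθ : ∀ k : u.obj X ⟶ u.obj Y,
        (Groth.Agent.S6135.theta u Y).app (Opposite.op (u.obj X))
          ((u.op.lan.obj (yoneda.obj Y)).map k.op e) = k := by
      intro k
      have nn := (Groth.Agent.S6135.theta u Y).naturality k.op
      have nn' := ConcreteCategory.congr_hom nn e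
      have he : (Groth.Agent.S6135.theta u Y).app (Opposite.op (u.obj Y)) e = 𝟙 (u.obj Y) := by
        have := Groth.Agent.S6135.theta_unit u Y Y (𝟙 Y)
        rw [u.map_id] at this
        exact this
      change (Groth.Agent.S6135.theta u Y).app (Opposite.op (u.obj X))
          ((u.op.lan.obj (yoneda.obj Y)).map k.op e)
        = (yoneda.obj (u.obj Y)).map k.op
          ((Groth.Agent.S6135.theta u Y).app (Opposite.op (u.obj Y)) e) at nn'
      rw [nn', he]
      simp
    rw [hθ, hθ] at h3
    exact h3

end Groth.Agent.S6136
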