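import Groth.Statements.S6137
import Mathlib.CategoryTheory.Limits.Elements
import Mathlib.CategoryTheory.Limits.Constructions.WeaklyInitial
import Mathlib.CategoryTheory.Limits.Types.Colimits
import Mathlib.CategoryTheory.Limits.FunctorCategory.Basic
import Mathlib.CategoryTheory.Limits.Yoneda
-- import your own Groth.Agent.* helpers here

set_option autoImplicit false
open CategoryTheory CategoryTheory.Limits
universe v u
open SGA4

namespace Groth.Agent.S6137

/-- Let `C` be a category with `v`-small hom-sets admitting all `v`-small limits, and `F : C ⥤ Type v` a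
functor. Then `F` is corepresentable if and only if it is pro-representable (viewed as a presheaf on
`Cᵒᵖ` it is an ind-object, i.e. a small filtered colimit of corepresentable functors) and preserves
all `v`-small limits. -/
theorem result
    {C : Type u} [Category.{v} C] [HasLimitsOfSize.{v, v} C] (F : C ⥤ Type v) :
    F.IsCorepresentable ↔
      IsIndObject (unopUnop C ⋙ F) ∧ PreservesLimitsOfSize.{v, v} F := by
  constructor
  · intro hF
    obtain ⟨X, ⟨hX⟩⟩ := hF.has_corepresentation
    have iso : coyoneda.obj (Opposite.op X) ≅ F := hX.toIso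
    refine ⟨?_, ?_⟩
    · -- ind-object
      let e : yoneda.obj (Opposite.op X) ≅ unopUnop C ⋙ coyoneda.obj (Opposite.op X) :=
        NatIso.ofComponents (fun Y => (Equiv.toIso (opEquiv _ _)))
          (by
            intro Y Z f
            ext g
            first | done | rfl)
      have h1 : IsIndObject (yoneda.obj (Opposite.op X)) := isIndObject_yoneda _
      have h2 := h1.map e.hom
      exact h2.map (Functor.isoWhiskerLeft (unopUnop C) iso).hom
    · exact preservesLimits_of_natIso iso
  · rintro ⟨hind, hpres⟩
    let P := hind.presentation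
    let B : P.I → F.Elements := fun i => ⟨(P.F.obj i).unop,
          (P.ι.app i).app (Opposite.op (P.F.obj i)) (𝟙 (P.F.obj i))⟩
    have hweak : ∀ A : F.Elements, ∃ i : P.I, Nonempty (B i ⟶ A) := by
      rintro ⟨Y, y⟩
      have hc := isColimitOfPreserves
        ((evaluation Cᵒᵖᵒᵖ (Type v)).obj (Opposite.op (Opposite.op Y))) P.isColimit
      obtain ⟨i, g, hg⟩ := Types.jointly_surjective_of_isColimit hc y
      let g' : Opposite.op Y ⟶ P.F.obj i := g
      have hg' : (P.ι.app i).app (Opposite.op (Opposite.op Y)) g' = y := hg
      have hnat : (P.ι.app i).app (Opposite.op (Opposite.op Y))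
            ((yoneda.obj (P.F.obj i)).map g'.op (𝟙 (P.F.obj i)))
          = (unopUnop C ⋙ F).map g'.op
            ((P.ι.app i).app (Opposite.op (P.F.obj i)) (𝟙 (P.F.obj i))) :=
        (P.ι.app i).naturality_apply g'.op (𝟙 (P.F.obj i))
      have hy : (yoneda.obj (P.F.obj i)).map g'.op (𝟙 (P.F.obj i)) = g' := by
        simp [yoneda]
      rw [hy] at hnat
      refine ⟨i, ⟨⟨g'.unop, ?_⟩⟩⟩
      rw [← hg', hnat]
      rfl
    have : HasProducts.{v} F.Elements := fun J => inferInstance
    have : HasWideEqualizers.{v} F.Elements := fun J => inferInstance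
    obtain ⟨T, hT⟩ := has_weakly_initial_of_weakly_initial_set_and_hasProducts hweak
    have := hasInitial_of_weakly_initial_and_hasWideEqualizers hT
    exact Functor.Elements.isCorepresentable_of_hasInitial F

end Groth.Agent.S6137
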