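import Groth.Statements.S6151
import Groth.Agent.S6161
import Groth.Agent.Lib.Helper28.CechR

set_option autoImplicit false
universe u
open CategoryTheory
open CohSite

namespace Groth.Agent.S6151

open Groth.Agent.Lib.Helper28 Opposite Simplicial

lemma acyc_of_totallyAcyclic {C : Type u} [SmallCategory C] {J : GrothendieckTopology C}
    (F : Sheaf J AddCommGrpCat.{u}) (hF : CohCx.IsTotallyAcyclic F) (K : Sheaf J (Type u)) :
    ExtAcyc.Acyc F ((Sheaf.composeAndSheafify J AddCommGrpCat.free.{u}).obj K) := by
  intro q x
  have h : Subsingleton (Abelian.Ext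
      ((Sheaf.composeAndSheafify J AddCommGrpCat.free.{u}).obj K) F (q + 1)) := hF K q
  exact Subsingleton.elim _ _

open CategoryTheory.Limits in

/-- Abelian sheaves on the topos of sheaves of sets on a small site: if F is flasque (totally acyclic:
H^q(K, F) = 0 for all sheaves of sets K and q > 0), then for every epimorphism of sheaves of sets K'
-> K the Cech cohomology groups H^q(K'/K, F), computed from the complex H^0(K', F) -> H^0(K' x_K K',
F) -> ..., vanish for all q > 0. (An epimorphic family (X_i -> X) is replaced here by the single
epimorphism from its coproduct, which has the same Cech complex.) -/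
theorem result {C : Type u} [SmallCategory C] {J : GrothendieckTopology C}
    (F : Sheaf J AddCommGrpCat.{u}) (hF : CohCx.IsTotallyAcyclic F) {K' K : Sheaf J (Type u)} (f : K' ⟶ K) [Epi f]
    (q : ℕ) : IsZero ((CohCx.cechNerveCx F f).homology (q + 1)) := by
  exact CechR.isZero_homology_homCx (Sheaf.composeAndSheafify J AddCommGrpCat.free.{u}) F
    (Arrow.mk f).augmentedCechNerve (Groth.Agent.S6161.result J f)
    (fun n => acyc_of_totallyAcyclic F hF _) (acyc_of_totallyAcyclic F hF _) q

end Groth.Agent.S6151
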