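import Groth.Statements.S6152
import Groth.Agent.Lib.Helper42.ModSiteLib
open Groth.Agent.Lib.Helper42.ModSiteLib

set_option autoImplicit false
universe u
open CategoryTheory
open ModSite

namespace Groth.Agent.S6152

/-- Second assertion (ringed topos of sheaves on a small site (C, J) with commutative structure sheaf
O): if G is a topologically generating family of objects (every object of C admits a covering family
by members of G), then the free O-modules A_X = j_{X!}(O|X), X in G, form a generating family of the
category of O-modules; stated as: this family detects isomorphisms and is separating. -/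
theorem result {C : Type u} [SmallCategory C] {J : GrothendieckTopology C}
    (O : Sheaf J CommRingCat.{u}) (G : Set C)
    (hG : ∀ X : C, ∃ (ι : Type u) (Y : ι → C) (f : ∀ i, Y i ⟶ X), Sieve.ofArrows Y f ∈ J X ∧ ∀ i, Y i ∈ G) :
    (ObjectProperty.ofObj fun X : G => ModSite.freeOn O (X : C)).IsDetecting ∧
    (ObjectProperty.ofObj fun X : G => ModSite.freeOn O (X : C)).IsSeparating := by
  have hsep : (ObjectProperty.ofObj fun X : G => ModSite.freeOn O (X : C)).IsSeparating := by
    intro M N f g hfg
    have key : ∀ (X : C), X ∈ G → ∀ s : M.val.obj (Opposite.op X),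
        f.val.app (Opposite.op X) s = g.val.app (Opposite.op X) s := by
      intro X hX s
      have h1 := hfg (ModSite.freeOn O X) (ObjectProperty.ofObj_apply _ (⟨X, hX⟩ : G))
        ((freeOnHomEquiv O X M).symm s)
      have h2 := congrArg (freeOnHomEquiv O X N) h1
      rw [freeOnHomEquiv_comp, freeOnHomEquiv_comp, Equiv.apply_symm_apply] at h2
      exact h2
    apply SheafOfModules.hom_ext
    apply PresheafOfModules.hom_ext
    intro X
    ext s
    obtain ⟨ι, Y, p, hcov, hY⟩ := hG X.unop
    refine N.isSheaf.isSeparated _ _ hcov _ _ ?_
    rintro Z q ⟨W, a, b, ⟨i⟩, rfl⟩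
    change N.val.map (a ≫ p i).op (f.val.app X s) = N.val.map (a ≫ p i).op (g.val.app X s)
    rw [op_comp, PresheafOfModules.map_comp_apply, PresheafOfModules.map_comp_apply]
    congr 1
    rw [← PresheafOfModules.naturality_apply, ← PresheafOfModules.naturality_apply]
    exact key _ (hY i) _
  exact ⟨hsep.isDetecting, hsep⟩

end Groth.Agent.S6152
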