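import Groth.Statements.S6160
import Groth.Agent.Lib.Helper42.ModSheaf
open Groth.Agent.Lib.Helper42.ModSheaf

set_option autoImplicit false
universe u
open CategoryTheory
open ModSite

namespace Groth.Agent.S6160

open CategoryTheory.Limits in
/-- Ringed topos of sheaves on a small site; u : A -> B a morphism of sheaves of rings: the
restriction-of-scalars functor from B-Modules to A-Modules commutes with all u-small limits and
colimits and is conservative. -/
theorem result {C : Type u} [SmallCategory C]
    {J : GrothendieckTopology C} {A B : Sheaf J RingCat.{u}} (φ : A ⟶ B) :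
    PreservesLimitsOfSize.{u, u} (SheafOfModules.restrictScalars.{u} φ) ∧
    PreservesColimitsOfSize.{u, u} (SheafOfModules.restrictScalars.{u} φ) ∧
    (SheafOfModules.restrictScalars.{u} φ).ReflectsIsomorphisms := by
  have e : SheafOfModules.restrictScalars.{u} φ ⋙ SheafOfModules.toSheaf.{u} A ≅
      SheafOfModules.toSheaf.{u} B := Iso.refl _
  have hl : PreservesLimitsOfSize.{u, u}
      (SheafOfModules.restrictScalars.{u} φ ⋙ SheafOfModules.toSheaf.{u} A) :=
    preservesLimits_of_natIso e.symm
  have hc : PreservesColimitsOfSize.{u, u}
      (SheafOfModules.restrictScalars.{u} φ ⋙ SheafOfModules.toSheaf.{u} A) :=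
    preservesColimits_of_natIso e.symm
  refine ⟨preservesLimits_of_reflects_of_preserves _ (SheafOfModules.toSheaf.{u} A),
    preservesColimits_of_reflects_of_preserves _ (SheafOfModules.toSheaf.{u} A), ?_⟩
  have : (SheafOfModules.restrictScalars.{u} φ ⋙
      SheafOfModules.toSheaf.{u} A).ReflectsIsomorphisms :=
    inferInstanceAs (SheafOfModules.toSheaf.{u} B).ReflectsIsomorphisms
  exact reflectsIsomorphisms_of_comp _ (SheafOfModules.toSheaf.{u} A)

end Groth.Agent.S6160
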