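import Groth.Statements.S6177
import Mathlib.CategoryTheory.Sites.CartesianClosed
import Mathlib.CategoryTheory.Monoidal.Closed.FunctorToTypes
import Mathlib.CategoryTheory.Monoidal.Closed.Types

set_option autoImplicit false
universe u
open CategoryTheory
open SGA4

namespace Groth.Agent.S6177

open CategoryTheory.Limits MonoidalCategory in
theorem key {C : Type u} [SmallCategory C] (J : GrothendieckTopology C)
    (U : Sheaf J (Type u)) (hU : SGA4.IsOpen U) (Y : Sheaf J (Type u)) :
    SGA4.closedCompl U (pushout (prod.fst : U ⨯ Y ⟶ U) (prod.snd : U ⨯ Y ⟶ Y)) := by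
  have hsub : ∀ {T : Sheaf J (Type u)} (a b : T ⟶ U), a = b := by
    intro T a b
    haveI : Mono (terminal.from U) := hU
    exact (cancel_mono (terminal.from U)).1 (terminal.hom_ext _ _)
  let adj : prod.functor.obj U ⊣ ihom U :=
    (ihom.adjunction U).ofNatIsoLeft (CartesianMonoidalCategory.tensorLeftIsoProd U)
  haveI : (prod.functor.obj U).IsLeftAdjoint := ⟨_, ⟨adj⟩⟩
  have hpo : IsPushout (prod.map (𝟙 U) (prod.fst : U ⨯ Y ⟶ U)) (prod.map (𝟙 U) (prod.snd : U ⨯ Y ⟶ Y))
      (prod.map (𝟙 U) (pushout.inl (prod.fst : U ⨯ Y ⟶ U) (prod.snd : U ⨯ Y ⟶ Y)))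
      (prod.map (𝟙 U) (pushout.inr (prod.fst : U ⨯ Y ⟶ U) (prod.snd : U ⨯ Y ⟶ Y))) :=
    (IsPushout.of_hasPushout (prod.fst : U ⨯ Y ⟶ U) (prod.snd : U ⨯ Y ⟶ Y)).map
      (prod.functor.obj U)
  have hkey : (prod.fst : U ⨯ pushout (prod.fst : U ⨯ Y ⟶ U) (prod.snd : U ⨯ Y ⟶ Y) ⟶ U) ≫
      pushout.inl _ _ = prod.snd := by
    apply hpo.hom_ext
    · rw [prod.map_fst_assoc, prod.map_snd, Category.id_comp, hsub prod.fst prod.snd]
    · rw [prod.map_fst_assoc, prod.map_snd, Category.id_comp]
      exact pushout.condition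
  unfold SGA4.closedCompl
  refine ⟨prod.lift (𝟙 U) (pushout.inl _ _), ?_, prod.lift_fst _ _⟩
  apply Limits.prod.hom_ext
  · rw [Category.assoc, prod.lift_fst, Category.comp_id, Category.id_comp]
  · rw [Category.assoc, prod.lift_snd, Category.id_comp, hkey]

open CategoryTheory.Limits in
theorem closedCompl_of_iso {C : Type u} [SmallCategory C] (J : GrothendieckTopology C)
    (U : Sheaf J (Type u)) {X X' : Sheaf J (Type u)} (e : X ≅ X') (h : SGA4.closedCompl U X') :
    SGA4.closedCompl U X := by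
  unfold SGA4.closedCompl at h ⊢
  have : (prod.fst : U ⨯ X ⟶ U) = prod.map (𝟙 U) e.hom ≫ prod.fst := by simp
  rw [this]
  infer_instance

open CategoryTheory.Limits in
/-- Topos of sheaves of sets on a small site; U an open, i.e. a subobject of the final object; X_CU the
pushout of U <- U x X -> X along the two projections: (ii) <=> (iii): the canonical map X -> X_CU is
an isomorphism if and only if the projection U x X -> U is an isomorphism (X belongs to the closed
complement of U); and (i) => (iii): if X is isomorphic to Y_CU for some Y then X belongs to the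
closed complement of U ((iii) => (i) with Y = X is then immediate from (ii)). -/
theorem result {C : Type u} [SmallCategory C] (J : GrothendieckTopology C)
    (U : Sheaf J (Type u)) (hU : SGA4.IsOpen U) (X : Sheaf J (Type u)) :
    (SGA4.closedCompl U X ↔ IsIso (pushout.inr (prod.fst : U ⨯ X ⟶ U) (prod.snd : U ⨯ X ⟶ X))) ∧
    ((∃ Y : Sheaf J (Type u), Nonempty (X ≅ pushout (prod.fst : U ⨯ Y ⟶ U) (prod.snd : U ⨯ Y ⟶ Y))) →
      SGA4.closedCompl U X) := by
  refine ⟨⟨fun h => ?_, fun h => ?_⟩, ?_⟩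
  · unfold SGA4.closedCompl at h
    infer_instance
  · exact closedCompl_of_iso J U (asIso (pushout.inr (prod.fst : U ⨯ X ⟶ U) (prod.snd : U ⨯ X ⟶ X)))
      (key J U hU X)
  · rintro ⟨Y, ⟨e⟩⟩
    exact closedCompl_of_iso J U e (key J U hU Y)

end Groth.Agent.S6177
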