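import Groth.Statements.S6178
import Groth.Agent.Lib.Helper28.SieveExt
import Groth.Agent.Lib.Helper28.CechLeray

set_option autoImplicit false
universe u
open CategoryTheory
open CohSite

namespace Groth.Agent.S6178

open Groth.Agent.Lib.Helper28 Opposite CategoryTheory.Limits Abelian

section aux

variable {C : Type u} [SmallCategory C] (J : GrothendieckTopology C)

/-- The forward direction: dimension shifting on the sheaf. -/
lemma forward (q : ℕ) : ∀ F : Sheaf J AddCommGrpCat.{u},
    (∀ (X : C) (q : ℕ) (x : Ext (Cartan.freeSh J X) F (q + 1)), x = 0) →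
    ∀ (X : C) (R : Sieve X), R ∈ J X →
      ∀ x : Ext (SieveExt.Z R.functor) (SieveExt.ι J F) (q + 1), x = 0 := by
  induction q with
  | zero =>
    intro F hF X R hR x
    let S : ShortComplex (Sheaf J AddCommGrpCat.{u}) :=
      ShortComplex.mk (Injective.ι F) (cokernel.π (Injective.ι F)) (cokernel.condition _)
    have hS : S.ShortExact :=
      ShortComplex.ShortExact.mk' (ShortComplex.exact_cokernel _) inferInstance inferInstance
    have hsurj : ∀ V : C, Function.Surjective (S.g.hom.app (op V)) := fun V =>
      CechLeray.surjective_of_ext_one J V hS (hF V 0)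
    have hS' := SieveExt.shortExact_ιS hS hsurj
    have hI : Injective (SieveExt.ιS S).X₂ := SieveExt.injective_ι J (Injective.under F)
    obtain ⟨x₃, hx₃⟩ := Ext.covariant_sequence_exact₁ (SieveExt.Z R.functor) hS' x
      (Ext.eq_zero_of_injective _) (zero_add 1)
    obtain ⟨σ, rfl⟩ := (Ext.mk₀_bijective _ _).2 x₃
    obtain ⟨τ, rfl⟩ := SieveExt.exists_lift_of_surjective hR (hsurj X) σ
    rw [← hx₃, ← Ext.mk₀_comp_mk₀, Ext.comp_assoc_of_second_deg_zero, hS'.comp_extClass,
      Ext.comp_zero]
  | succ q ih =>
    intro F hF X R hR x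
    let S : ShortComplex (Sheaf J AddCommGrpCat.{u}) :=
      ShortComplex.mk (Injective.ι F) (cokernel.π (Injective.ι F)) (cokernel.condition _)
    have hS : S.ShortExact :=
      ShortComplex.ShortExact.mk' (ShortComplex.exact_cokernel _) inferInstance inferInstance
    have hsurj : ∀ V : C, Function.Surjective (S.g.hom.app (op V)) := fun V =>
      CechLeray.surjective_of_ext_one J V hS (hF V 0)
    have hS' := SieveExt.shortExact_ιS hS hsurj
    have hI : Injective (SieveExt.ιS S).X₂ := SieveExt.injective_ι J (Injective.under F)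
    have hI' : Injective S.X₂ := inferInstanceAs (Injective (Injective.under F))
    obtain ⟨x₃, hx₃⟩ := Ext.covariant_sequence_exact₁ (SieveExt.Z R.functor) hS' x
      (Ext.eq_zero_of_injective _) (rfl : (q + 1) + 1 = q + 1 + 1)
    have hQ : ∀ (X : C) (q : ℕ) (x : Ext (Cartan.freeSh J X) S.X₃ (q + 1)), x = 0 := fun X =>
      CartanT.acyc_X₃ (Cartan.freeSh J X) hS (hF X)
    rw [← hx₃, ih S.X₃ hQ X R hR x₃, Ext.zero_comp]

end aux

/-- An abelian sheaf F on a small site (C, J) is C-acyclic, i.e. H^q(X, F) = 0 for all objects X and q >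
0, if and only if H^q(R, H^0(F)) = 0 for every object X, every covering sieve R of X and every q >
0, where H^0(F) is the underlying presheaf of F and H^q(R, -), for a presheaf of sets R, is the q-th
Ext out of the free abelian presheaf on R computed in abelian presheaves (the sheaves for the
trivial topology). -/
theorem result {C : Type u} [SmallCategory C] (J : GrothendieckTopology C)
    (F : Sheaf J AddCommGrpCat.{u}) :
    (∀ (X : C) (q : ℕ), Subsingleton (CohSite.HU F (q + 1) X)) ↔
      ∀ (X : C) (R : Sieve X), R ∈ J X → ∀ q : ℕ,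
        Subsingleton (CohCx.HK (J := (⊥ : GrothendieckTopology C)) ⟨R.functor, Presheaf.isSheaf_bot _⟩
          ⟨F.obj, Presheaf.isSheaf_bot _⟩ (q + 1)) := by
  constructor
  · intro hF X R hR q
    refine subsingleton_of_forall_eq 0 fun x => ?_
    refine forward J q F (fun X q x => ?_) X R hR x
    have := hF X q
    exact Subsingleton.elim (α := CohSite.HU F (q + 1) X) x 0
  · intro hR U p
    let Pr : Sheaf J AddCommGrpCat.{u} → Prop := fun G =>
      ∀ (X : C) (R : Sieve X), R ∈ J X → ∀ (q : ℕ)
        (x : Ext (SieveExt.Z R.functor) (SieveExt.ι J G) (q + 1)), x = 0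
    have hinj : ∀ I : Sheaf J AddCommGrpCat.{u}, Injective I → Pr I := by
      intro I hI X R _ q x
      have := SieveExt.injective_ι J I
      exact Ext.eq_zero_of_injective x
    have hstep : ∀ S : ShortComplex (Sheaf J AddCommGrpCat.{u}), S.ShortExact → Pr S.X₁ →
        Pr S.X₂ → (Pr S.X₃ ∧ ∀ U ∈ (Set.univ : Set C), Function.Surjective (S.g.hom.app (op U))) := by
      intro S hS h₁ h₂
      have hsurj : ∀ V : C, Function.Surjective (S.g.hom.app (op V)) := by
        intro V s
        have := hS.epi_g
        have hls : Sheaf.IsLocallySurjective S.g :=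
          (Sheaf.isLocallySurjective_iff_epi' _ S.g).2 inferInstance
        exact SieveExt.exists_section_of_ext_one hS s
          (h₁ V _ (Presheaf.imageSieve_mem J S.g.hom s) 0)
      refine ⟨?_, fun U _ => hsurj U⟩
      intro X R hRX q x₃
      have hS' := SieveExt.shortExact_ιS hS hsurj
      obtain ⟨x₂, hx₂⟩ := Ext.covariant_sequence_exact₃ (SieveExt.Z R.functor) hS' x₃
        (rfl : (q + 1) + 1 = q + 1 + 1) (h₁ X R hRX (q + 1) _)
      rw [← hx₂, h₂ X R hRX q x₂, Ext.zero_comp]
    have hF : Pr F := by
      intro X R hRX q x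
      have := hR X R hRX q
      exact Subsingleton.elim (α := CohCx.HK (J := (⊥ : GrothendieckTopology C))
        ⟨R.functor, Presheaf.isSheaf_bot _⟩ ⟨F.obj, Presheaf.isSheaf_bot _⟩ (q + 1)) x 0
    exact subsingleton_of_forall_eq 0 fun x =>
      Cartan.cartan J Set.univ Pr hinj hstep p F hF U (Set.mem_univ U) x

end Groth.Agent.S6178
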