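import Groth.Statements.S6179
import Groth.Agent.S0074

set_option autoImplicit false
open CategoryTheory CategoryTheory.Limits AlgebraicGeometry Opposite
universe u
open EtDesc

namespace Groth.Agent.S6179

/-- Let R be a strictly henselian local ring, X = Spec R and x̄ : Spec κ(R) -> X the closed geometric
point. For every etale sheaf of sets F on X the canonical map Γ(X, F) -> F_x̄ into the stalk (the
colimit of F(X') over the x̄-pointed etale X-schemes X', taken at X' = X) is bijective; in
particular the global-sections functor is isomorphic to the fibre functor at x̄ and commutes with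
all colimits. -/
theorem result (R : Type u) [CommRing R]
    [HenselianLocalRing R] [IsSepClosed (IsLocalRing.ResidueField R)]
    (F : EtDesc.Sh (Spec (CommRingCat.of R))) :
    Function.Bijective ((Scheme.pointSmallEtale
      (Spec.map (CommRingCat.ofHom (IsLocalRing.residue R)))).toPresheafFiber (A := Type (u + 1))
        (EtCoh.top (Spec (CommRingCat.of R)))
        (Over.homMk (Spec.map (CommRingCat.ofHom (IsLocalRing.residue R))) (Category.comp_id _)) F.obj) := by
  set Φ := Scheme.pointSmallEtale (Spec.map (CommRingCat.ofHom (IsLocalRing.residue R))) with hΦ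
  set x₀ : Φ.fiber.obj (EtCoh.top (Spec (CommRingCat.of R))) :=
    Over.homMk (Spec.map (CommRingCat.ofHom (IsLocalRing.residue R))) (Category.comp_id _) with hx₀
  constructor
  · intro z₁ z₂ h
    rw [Φ.toPresheafFiber_eq_iff'] at h
    obtain ⟨Y, f, y, hy, hz⟩ := h
    obtain ⟨σ, hσ⟩ := Groth.Agent.S0074.exists_section' Y y
    have hid : σ ≫ f = 𝟙 _ := by
      apply MorphismProperty.Over.Hom.ext
      have h1 : (σ ≫ f).left ≫ 𝟙 _ = 𝟙 _ := Over.w (σ ≫ f).hom
      rw [Category.comp_id] at h1
      exact h1
    have h2 := congrArg (F.obj.map σ.op) hz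
    rw [← ConcreteCategory.comp_apply, ← ConcreteCategory.comp_apply, ← F.obj.map_comp,
      ← op_comp, hid, op_id, F.obj.map_id] at h2
    exact h2
  · intro p
    obtain ⟨U, u, z, rfl⟩ := Φ.toPresheafFiber_jointly_surjective (P := F.obj) p
    obtain ⟨σ, hσ⟩ := Groth.Agent.S0074.exists_section' U u
    refine ⟨F.obj.map σ.op z, ?_⟩
    rw [← hσ]
    exact Φ.toPresheafFiber_w_apply σ x₀ F.obj z

end Groth.Agent.S6179
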