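import Groth.Statements.S6180
import Groth.Agent.Lib.Helper57.StalkSets
import Groth.Agent.S6179

set_option autoImplicit false
open CategoryTheory CategoryTheory.Limits AlgebraicGeometry Opposite
universe u
open EtDesc

namespace Groth.Agent.S6180

open Groth.Agent.Lib.Helper57.StalkSets in
/-- Global sections of sheaves of sets on the spectrum of a strictly henselian local ring agree with
the stalk at the closed geometric point. -/
noncomputable def sectionsIsoStalk (R : Type u) [CommRing R]
    [HenselianLocalRing R] [IsSepClosed (IsLocalRing.ResidueField R)] :
    (sheafSections (Spec (CommRingCat.of R)).smallEtaleTopology (Type (u + 1))).obj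
        (op (EtCoh.top (Spec (CommRingCat.of R)))) ≅
      stalkSh (Spec.map (CommRingCat.ofHom (IsLocalRing.residue R))) :=
  NatIso.ofComponents (fun F =>
    (Equiv.ofBijective _ (Groth.Agent.S6179.result R F)).toIso) (by
    intro F G a
    exact ((Scheme.pointSmallEtale
      (Spec.map (CommRingCat.ofHom (IsLocalRing.residue R)))).toPresheafFiber_naturality a.hom
        (EtCoh.top (Spec (CommRingCat.of R)))
        (Over.homMk (Spec.map (CommRingCat.ofHom (IsLocalRing.residue R)))
          (Category.comp_id _))).symm)

/-- Let X be a scheme, x a point of X, R a strict henselisation of O_{X,x} with strict localisation X̄ =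
Spec R -> X and attached geometric point ξ : Spec κ(R) -> X. The fibre functor F ↦ F_ξ on etale
sheaves of sets on X is isomorphic to the functor F ↦ Γ(X̄, F̄), F̄ the inverse image of F on X̄.
(The published statement gives a canonical isomorphism — global sections of F̄ identified with its
stalk at the closed point of X̄, then with F_ξ; this row asserts only that an isomorphism of
functors exists.) -/
theorem result (X : Scheme.{u}) (x : X)
    (R : Type u) [CommRing R] [IsLocalRing R] [Algebra (X.presheaf.stalk x) R]
    [IsLocalHom (algebraMap (X.presheaf.stalk x) R)] [Hensel.IsStrictHenselization (X.presheaf.stalk x) R]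
    [IsSepClosed (IsLocalRing.ResidueField R)] :
    Nonempty ((Scheme.pointSmallEtale (Hens2.geomPt X x R)).sheafFiber (A := Type (u + 1)) ≅
      EtDesc.pullSh (Hens2.specOf X x R) ⋙
        (sheafSections (Spec (CommRingCat.of R)).smallEtaleTopology (Type (u + 1))).obj
          (op (EtCoh.top (Spec (CommRingCat.of R))))) := by
  have hH : HenselianLocalRing R := Hensel.IsStrictHenselization.henselian (X.presheaf.stalk x)
  refine ⟨?_⟩
  exact (Groth.Agent.Lib.Helper57.StalkSets.stalkPullIsoSh (Hens2.specOf X x R)
      (Spec.map (CommRingCat.ofHom (IsLocalRing.residue R)))).symm ≪≫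
    Functor.isoWhiskerLeft (EtDesc.pullSh (Hens2.specOf X x R)) (sectionsIsoStalk R).symm

end Groth.Agent.S6180
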