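import Groth.Statements.S6181
import Groth.Agent.Lib.Helper57.FinStalk8

set_option autoImplicit false
open CategoryTheory CategoryTheory.Limits AlgebraicGeometry Opposite
universe u
open EtDesc

namespace Groth.Agent.S6181

open Groth.Agent.Lib.Helper57.FinStalk Groth.Agent.Lib.Helper57.StalkSets in
/-- The comparison transformation to the stalk at a geometric point over `η`. -/
noncomputable def τ {X Y : Scheme.{u}} (f : X ⟶ Y) {Ω : Type u} [Field Ω] [IsSepClosed Ω]
    {η : Spec (CommRingCat.of Ω) ⟶ Y} (ξ : Spec (CommRingCat.of Ω) ⟶ X) (hξ : ξ ≫ f = η) :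
    EtDesc.pushSh f ⋙ stalkSh η ⟶ stalkSh ξ where
  app G := T f ξ hξ G.obj
  naturality _ _ a := T_naturality f ξ hξ a.hom

/-- Let f : X -> Y be a finite morphism of schemes, Ω an algebraically closed field and η : Spec Ω -> Y
a geometric point. The functor F ↦ (f_* F)_η on etale sheaves of sets on X is isomorphic to the
product, over the geometric points ξ : Spec Ω -> X lying over η, of the fibre functors F ↦ F_ξ. (The
published statement gives a canonical isomorphism and indexes the product by the points of the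
geometric fibre over a separable closure of the residue field; this row asserts only that an
isomorphism of functors exists and indexes the product by the Ω-valued points of X over η, which for
Ω algebraically closed correspond to those points.) -/
theorem result {X Y : Scheme.{u}} (f : X ⟶ Y) [IsFinite f]
    {Ω : Type u} [Field Ω] [IsAlgClosed Ω] (η : Spec (CommRingCat.of Ω) ⟶ Y) :
    Nonempty (EtDesc.pushSh f ⋙ (Scheme.pointSmallEtale η).sheafFiber (A := Type (u + 1)) ≅
      ∏ᶜ fun ξ : {ξ : Spec (CommRingCat.of Ω) ⟶ X // ξ ≫ f = η} =>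
        ((Scheme.pointSmallEtale ξ.1).sheafFiber (A := Type (u + 1)) : EtDesc.Sh X ⥤ Type (u + 1))) := by
  let I := {ξ : Spec (CommRingCat.of Ω) ⟶ X // ξ ≫ f = η}
  let F : I → (EtDesc.Sh X ⥤ Type (u + 1)) := fun ξ =>
    ((Scheme.pointSmallEtale ξ.1).sheafFiber (A := Type (u + 1)) : EtDesc.Sh X ⥤ Type (u + 1))
  let Θ : EtDesc.pushSh f ⋙ (Scheme.pointSmallEtale η).sheafFiber (A := Type (u + 1)) ⟶ ∏ᶜ F :=
    Pi.lift (fun ξ : I => τ f ξ.1 ξ.2)
  have hΘ : ∀ (ξ : I) (G : EtDesc.Sh X) (a), (Pi.π F ξ).app G (Θ.app G a) =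
      Groth.Agent.Lib.Helper57.FinStalk.T f ξ.1 ξ.2 G.obj a := by
    intro ξ G a
    have h1 : Θ ≫ Pi.π F ξ = τ f ξ.1 ξ.2 := Pi.lift_π _ _
    have h2 := congrArg (fun t => t.app G) h1
    exact ConcreteCategory.congr_hom h2 a
  have hsheaf : ∀ G : EtDesc.Sh X,
      Presieve.IsSheaf X.smallEtaleTopology (G.obj ⋙ forget (Type (u + 1))) := fun G =>
    (isSheaf_iff_isSheaf_of_type _ _).1 G.property
  have hiso : ∀ G : EtDesc.Sh X, IsIso (Θ.app G) := by
    intro G
    rw [isIso_iff_bijective]
    let hlim := isLimitOfPreserves ((evaluation (EtDesc.Sh X) (Type (u + 1))).obj G)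
      (limit.isLimit (Discrete.functor F))
    constructor
    · intro a b hab
      apply Groth.Agent.Lib.Helper57.FinStalk.T_jointly_injective f η G.obj (hsheaf G) a b
      intro ξ hξ
      rw [← hΘ ⟨ξ, hξ⟩ G a, ← hΘ ⟨ξ, hξ⟩ G b, hab]
    · intro p
      obtain ⟨a, ha⟩ := Groth.Agent.Lib.Helper57.FinStalk.T_jointly_surjective f η G.obj (hsheaf G)
        (fun ξ => (Pi.π F ξ).app G p)
      refine ⟨a, ?_⟩
      apply Concrete.isLimit_ext _ hlim
      rintro ⟨ξ⟩
      exact (hΘ ξ G a).trans (ha ξ)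
  have : IsIso Θ := (NatTrans.isIso_iff_isIso_app Θ).2 hiso
  exact ⟨asIso Θ⟩

end Groth.Agent.S6181
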