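import Groth.Statements.S6187
import Groth.Agent.Lib.Helper12.StalkTor
import Groth.Agent.S6947

set_option autoImplicit false
universe u
open CategoryTheory CategoryTheory.Limits AlgebraicGeometry
attribute [local instance] HasDerivedCategory.standard
open KSix

namespace Groth.Agent.S6187

theorem result {X Y Z : Scheme.{u}} (f : X ⟶ Y) (g : Y ⟶ Z) (h : X ⟶ Z)
    (w : f ≫ g = h) (n : ℕ) (hg : DerSch.HasTorDimLE g n) (F : CochainComplex X.Modules ℤ) (a b : ℤ)
    (hF : DerSch.HasTorAmplitude f a b F) :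
    DerSch.HasTorAmplitude h (a - n) b F := by
  subst w
  intro x
  letI : Algebra (Z.presheaf.stalk (g.base (f.base x))) (Y.presheaf.stalk (f.base x)) :=
    (g.stalkMap (f.base x)).hom.toAlgebra
  have hB : DRing.HasTorAmplitudeIn (Z.presheaf.stalk (g.base (f.base x))) (-(n : ℤ)) 0
      (Dual.inD (Z.presheaf.stalk (g.base (f.base x))) (Y.presheaf.stalk (f.base x))) :=
    Groth.Agent.Lib.Helper84.FlatAmp.torAmp_of_iso (hg (f.base x))
      (Groth.Agent.Lib.Helper12.StalkTor.unitStalkIso g (f.base x))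
  have h3 := Groth.Agent.S6947.result n hB _ a b (hF x)
  exact Groth.Agent.Lib.Helper84.FlatAmp.torAmp_of_iso h3
    (Groth.Agent.Lib.Helper15.PseudoCohRes.restrictDQIso (g.stalkMap (f.base x)).hom _ ≪≫
      DerivedCategory.Q.mapIso (Groth.Agent.Lib.Helper12.StalkTor.stalkCxOverCompIso f g x F))

end Groth.Agent.S6187
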