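import Groth.Statements.S6188
import Groth.Agent.Lib.Helper2.StalkLpull

set_option autoImplicit false
universe u
open CategoryTheory CategoryTheory.Limits AlgebraicGeometry
attribute [local instance] HasDerivedCategory.standard
open KSix

namespace Groth.Agent.S6188

open Groth.Agent.Lib.Helper2.Lpull Groth.Agent.Lib.Helper2.StalkLpull
  Groth.Agent.Lib.Helper12.StalkExact


/-- Case of schemes: let f : X ⟶ Y and g : Y ⟶ Z be morphisms of schemes with composite h, let m be a
natural number such that f has tor dimension at most m (the structure sheaf of X has tor amplitude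
in [-m, 0] relative to f, stalkwise), and let G be a cochain complex of O_Y-modules with tor
amplitude in [c, d] relative to g (stalkwise flat models placed in [c, d] over the local rings of
Z). Then, the derived pullback Lf^* being assumed to exist, Lf^* G has tor amplitude in [c - m, d]
relative to h: every cochain complex representing it has stalkwise flat models placed in [c - m, d]
over the local rings of Z. (The published statement is for a commutative triangle of ringed topoi in
which X has enough points; this row is the case of schemes, with tor amplitude relative to a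
morphism in its stalkwise form.) -/
theorem result {X Y Z : Scheme.{u}} (f : X ⟶ Y) (g : Y ⟶ Z) (h : X ⟶ Z)
    (w : f ≫ g = h) (m : ℕ) (hf : DerSch.HasTorDimLE f m) [DCoh.HasLpull f]
    (G : CochainComplex Y.Modules ℤ) (c d : ℤ) (hG : DerSch.HasTorAmplitude g c d G) :
    DerSch.HasTorAmplitudeD h (c - m) d ((DCoh.Lpull f).obj (DCoh.toD Y G)) := by
  subst w
  intro F ⟨eF⟩ x
  obtain ⟨P, q, hP, hq⟩ := Groth.Agent.Lib.Helper12.LTC.exists_isKFlat_resolution G
  have e1 : DCoh.toD Y P ≅ DCoh.toD Y G := qIso q hq
  have e2 : DCoh.toD X ((pbCx f).obj P) ≅ DCoh.toD X F :=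
    (lpIso f P hP).symm ≪≫ (DCoh.Lpull f).mapIso e1 ≪≫ eF.symm
  have h1 : DerSch.HasTorAmplitudeAt g c d P (f.base x) :=
    hasTorAmplitudeAt_of_iso g e1.symm c d (f.base x) (hG (f.base x))
  have h2 := hasTorAmplitudeAt_pbCx f g P hP (-(m : ℤ)) 0 c d x (hf x) h1
  have h3 := hasTorAmplitudeAt_of_iso (f ≫ g) e2 _ _ x h2
  have e : -(m : ℤ) + c = c - m := by ring
  rw [e, zero_add] at h3
  exact h3

end Groth.Agent.S6188
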