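import Groth.Statements.S6191
import Groth.Agent.Lib.Helper15.PushStalkMod
import Groth.Agent.Lib.Helper12.StalkExact2
import Groth.Agent.Lib.Helper12.StalkTor
import Groth.Agent.Lib.Helper69.TorAmpWEt

set_option autoImplicit false
universe u
open CategoryTheory CategoryTheory.Limits AlgebraicGeometry
attribute [local instance] HasDerivedCategory.standard
open KSix

namespace Groth.Agent.S6191

/-- Let i : X ⟶ X' be a closed immersion, f' : X' ⟶ Y smooth, f = i ≫ f', and F a cochain complex of
O_X-modules whose termwise direct image i_* F has tor amplitude in [a, b] in the absolute sense on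
X' (it is isomorphic in D(O_X') to a complex of flat O_X'-modules placed in [a, b]). Then F has tor
amplitude in [a, b] relative to f (stalkwise flat models placed in [a, b] over the local rings of
Y). -/
theorem result {X X' Y : Scheme.{u}} (i : X ⟶ X') [IsClosedImmersion i]
    (f' : X' ⟶ Y) [Smooth f'] (F : CochainComplex X.Modules ℤ) (a b : ℤ)
    (hF : DCoh.HasFlatAmplitudeIn a b (DCoh.toD X' (((Scheme.Modules.pushforward i).mapHomologicalComplex (ComplexShape.up ℤ)).obj F))) :
    DerSch.HasTorAmplitude (i ≫ f') a b F := by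
  intro x
  let G := ((Scheme.Modules.pushforward i).mapHomologicalComplex (ComplexShape.up ℤ)).obj F
  have h1 := Groth.Agent.Lib.Helper12.StalkExact.hasTorAmplitude_id_of_hasFlatAmplitudeIn G a b hF
    (i x)
  have h2 := (Groth.Agent.Lib.Helper12.StalkExact.hasTorAmplitudeAt_id_iff a b G (i x)).1 h1
  have hi : Topology.IsInducing i := i.isClosedEmbedding.isInducing
  let e1 : (Groth.Agent.Lib.Helper12.StalkExact.stalkCx X' (i x)).obj G ≅
      (DerSch.stalkCxOver i x).obj F :=
    (@NatIso.mapHomologicalComplex _ _ _ _ _ _ _ _ _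
      (inferInstance : (Scheme.Modules.pushforward i ⋙
        DerSch.stalkFunctor X' (i x)).PreservesZeroMorphisms)
      (inferInstance : (DerSch.stalkOver i x).PreservesZeroMorphisms)
      (Groth.Agent.Lib.Helper15.PushStalkMod.pushStalkIso i hi x) (ComplexShape.up ℤ)).app F
  have h3 : DRing.HasTorAmplitudeIn (X'.presheaf.stalk (i x)) a b
      (DRing.toD ((DerSch.stalkCxOver i x).obj F)) :=
    Groth.Agent.Lib.Helper84.FlatAmp.torAmp_of_iso h2 (DerivedCategory.Q.mapIso e1)
  have h4 := Groth.Agent.Lib.Helper69.TorAmpWEt.torAmp_restrictD_of_flat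
    (f'.stalkMap (i x)).hom (AlgebraicGeometry.Flat.stalkMap f' (i x)) h3
  exact Groth.Agent.Lib.Helper84.FlatAmp.torAmp_of_iso h4
    (Groth.Agent.Lib.Helper15.PseudoCohRes.restrictDQIso _ _ ≪≫
      DerivedCategory.Q.mapIso (Groth.Agent.Lib.Helper12.StalkTor.stalkCxOverCompIso i f' x F))

end Groth.Agent.S6191
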