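import Groth.Statements.S6194
import Groth.Agent.Lib.Helper15.PcSpreadS
import Groth.Agent.S5612
import Groth.Agent.S0914

set_option autoImplicit false
universe u
open CategoryTheory CategoryTheory.Limits AlgebraicGeometry
attribute [local instance] HasDerivedCategory.standard
open KSix

namespace Groth.Agent.S6194

/-- Let X be a scheme such that, at every point x, every module over the local ring of X at x has finite
tor dimension (for instance a regular scheme), and let E ∈ D(O_X), given by a cochain complex F,
have bounded cohomology. Then E is pseudo-coherent if and only if E is perfect. (The published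
statement is for a ringed topos with enough points; this row is the case of schemes.) -/
theorem result {X : Scheme.{u}}
    (hX : ∀ (x : X) (M : Type u) [AddCommGroup M] [Module (X.presheaf.stalk x) M], DRing.HasFiniteTorDim (X.presheaf.stalk x) M)
    (F : CochainComplex X.Modules ℤ) (c d : ℤ) [(DCoh.toD X F).IsGE c] [(DCoh.toD X F).IsLE d] :
    (∀ m : ℤ, DCoh.IsPseudoCoherentD m (DCoh.toD X F)) ↔ DCoh.IsPerfect (DCoh.toD X F) := by
  constructor
  · intro hpc
    rw [Groth.Agent.Lib.Helper2.DCohPerf.isPerfect_iff]
    intro x
    have hex : ∀ i : ℤ, i < c ∨ d < i → F.ExactAt i := by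
      intro i hi
      rcases hi with hi | hi
      · have h1 : F.IsGE c := (DerivedCategory.isGE_Q_obj_iff F c).1 inferInstance
        exact (CochainComplex.isGE_iff F c).1 h1 i hi
      · have h1 : F.IsLE d := (DerivedCategory.isLE_Q_obj_iff F d).1 inferInstance
        exact (CochainComplex.isLE_iff F d).1 h1 i hi
    have hb : ∀ i : ℤ, i < c ∨ d < i → Subsingleton (Dual.HD (X.presheaf.stalk x)
        (DRing.toD ((Groth.Agent.Lib.Helper12.StalkExact.stalkCx X x).obj F)) i) := by
      intro i hi
      have h1 := (Groth.Agent.Lib.Helper12.StalkExact.exactAt_iff_stalk F i).1 (hex i hi) x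
      rw [HomologicalComplex.exactAt_iff_isZero_homology] at h1
      exact ModuleCat.subsingleton_of_isZero (IsZero.of_iso h1
        ((DerivedCategory.homologyFunctorFactors _ i).app
          ((Groth.Agent.Lib.Helper12.StalkExact.stalkCx X x).obj F)))
    obtain ⟨a', ha'⟩ := Groth.Agent.S5612.torAmp_of_bounded (hX x) _ c d hb
    have htor := Groth.Agent.Lib.Helper84.FlatAmp.torAmp_mono ha' (min_le_left a' c) le_rfl
    have hGa : ∀ i : ℤ, i < min a' c → IsZero (F.homology i) := fun i hi =>
      (HomologicalComplex.exactAt_iff_isZero_homology _ _).1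
        (hex i (Or.inl (lt_of_lt_of_le hi (min_le_right _ _))))
    have hpcx := (Groth.Agent.Lib.Helper2.DCohPC.isPseudoCoherentD_iff (min a' c - 1) _).1
      (hpc (min a' c - 1)) x
    exact Groth.Agent.Lib.Helper15.PcSpreadS.perfAt_of_pcAt_of_torAmp_stalk F (min a' c) d hGa x
      hpcx htor
  · intro h
    exact ((Groth.Agent.S0914.result _).1 h).1

end Groth.Agent.S6194
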