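import Groth.Statements.S6225
import Groth.Agent.Lib.Helper15.ChartUnit

set_option autoImplicit false
universe u
open CategoryTheory CategoryTheory.Limits AlgebraicGeometry
attribute [local instance] HasDerivedCategory.standard
open KSix

namespace Groth.Agent.S6225

/-- Last assertion: a morphism f : X ⟶ Y locally of finite type is (-1)-pseudo-coherent (O_X placed in
degree 0 is (-1)-pseudo-coherent relative to f, in chart form) if and only if f is locally of finite
presentation. -/
theorem result {X Y : Scheme.{u}} (f : X ⟶ Y) [LocallyOfFiniteType f] :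
    DerSch.IsNPseudoCoherent f (-1) ↔ LocallyOfFinitePresentation f := by
  have hQ : RingHom.StableUnderCompositionWithLocalizationAwaySource @RingHom.FinitePresentation :=
    (RingHom.finitePresentation_stableUnderComposition.stableUnderCompositionWithLocalizationAway
      RingHom.finitePresentation_holdsForLocalizationAway).1
  constructor
  · intro hK
    rw [HasRingHomProperty.iff_exists_appLE (P := @LocallyOfFinitePresentation) hQ]
    intro x
    obtain ⟨V, U, hx, hle, n, φ, hc, hpc⟩ :=
      Groth.Agent.Lib.Helper15.ChartUnit.exists_chart_of_isPseudoCoherentRel f hK x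
    refine ⟨V, U, hx, hle, ?_⟩
    have h1 := (Groth.Agent.Lib.Helper15.ChartUnit.chartPC_unit_iff U.2 (V : Y.Opens) φ hc.1
      (-1)).1 hpc
    have h2 := (Groth.Agent.Lib.Helper15.ChartUnit.isPseudoCoherent_negOne_selfObj_iff φ hc.1).1 h1
    exact (Groth.Agent.Lib.Helper15.ChartUnit.ker_fg_iff_finitePresentation_appLE f
      (V : Y.Opens) hle φ hc).1 h2
  · intro hfp
    refine ⟨inferInstance, Set.univ, Groth.Agent.Lib.Helper15.ChartUnit.iSup_univ_affineOpens,
      fun V _ => ⟨{U : X.affineOpens | (U : X.Opens) ≤ f ⁻¹ᵁ (V : Y.Opens)},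
        Groth.Agent.Lib.Helper15.ChartUnit.iSup_affineOpens_le_preimage f (V : Y.Opens),
        fun U _ hle => ?_⟩⟩
    obtain ⟨n, φ, hc⟩ := Groth.Agent.Lib.Helper15.ChartUnit.exists_isChart f U.2 V.2 hle
    refine ⟨n, φ, hc, ?_⟩
    refine (Groth.Agent.Lib.Helper15.ChartUnit.chartPC_unit_iff U.2 (V : Y.Opens) φ hc.1 (-1)).2 ?_
    refine (Groth.Agent.Lib.Helper15.ChartUnit.isPseudoCoherent_negOne_selfObj_iff φ hc.1).2 ?_
    exact (Groth.Agent.Lib.Helper15.ChartUnit.ker_fg_iff_finitePresentation_appLE f
      (V : Y.Opens) hle φ hc).2 (f.finitePresentation_appLE V.2 U.2 hle)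

end Groth.Agent.S6225
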