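import Groth.Statements.S6214
import Groth.Agent.S6225
import Groth.Agent.S2066
import Groth.Agent.Lib.Helper15.TorAmpZero
import Groth.Agent.Lib.Helper43.FlatFPPC

set_option autoImplicit false
universe u
open CategoryTheory CategoryTheory.Limits AlgebraicGeometry
attribute [local instance] HasDerivedCategory.standard
open KSix

namespace Groth.Agent.S6214

/-- A morphism f : X ⟶ Y locally of finite type has perfect dimension at most 0 (O_X placed in degree 0
is pseudo-coherent relative to f in chart form and has stalkwise tor amplitude in [0, 0] over the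
local rings of Y) if and only if f is flat and locally of finite presentation. -/
theorem result {X Y : Scheme.{u}} (f : X ⟶ Y) [LocallyOfFiniteType f] :
    DerSch.HasPerfDimLE f 0 ↔ (Flat f ∧ LocallyOfFinitePresentation f) := by
  have h0 : (-((0 : ℕ) : ℤ)) = 0 := by simp
  constructor
  · rintro ⟨hpc, htor⟩
    rw [h0] at htor
    exact ⟨(Groth.Agent.Lib.Helper15.TorAmpZero.hasTorAmplitude_unit_iff f).1 htor,
      (Groth.Agent.S6225.result f).1 (hpc (-1))⟩
  · rintro ⟨hfl, hfp⟩
    refine ⟨fun m => ?_, ?_⟩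
    · refine ⟨inferInstance, Set.univ, Groth.Agent.Lib.Helper15.ChartUnit.iSup_univ_affineOpens,
        fun V _ => ⟨{U : X.affineOpens | (U : X.Opens) ≤ f ⁻¹ᵁ (V : Y.Opens)},
          Groth.Agent.Lib.Helper15.ChartUnit.iSup_affineOpens_le_preimage f (V : Y.Opens),
          fun U _ hle => ?_⟩⟩
      obtain ⟨n, φ, hc⟩ := Groth.Agent.Lib.Helper15.ChartUnit.exists_isChart f U.2 V.2 hle
      refine ⟨n, φ, hc, ?_⟩
      refine (Groth.Agent.Lib.Helper15.ChartUnit.chartPC_unit_iff U.2 (V : Y.Opens) φ hc.1 m).2 ?_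
      letI : Algebra Γ(Y, (V : Y.Opens)) Γ(X, (U : X.Opens)) := (f.appLE V U hle).hom.toAlgebra
      haveI : Module.Flat Γ(Y, (V : Y.Opens)) Γ(X, (U : X.Opens)) := Flat.flat_appLE f V.2 U.2 hle
      haveI : Algebra.FinitePresentation Γ(Y, (V : Y.Opens)) Γ(X, (U : X.Opens)) :=
        f.finitePresentation_appLE V.2 U.2 hle
      let ψ : MvPolynomial (Fin n) Γ(Y, (V : Y.Opens)) →ₐ[Γ(Y, (V : Y.Opens))] Γ(X, (U : X.Opens)) :=
        { φ with commutes' := fun r => congr($(hc.2) r) }
      have hψ : Function.Surjective ψ := hc.1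
      have hpc := Groth.Agent.Lib.Helper43.FlatFPPC.pc_of_flat_fp Γ(Y, (V : Y.Opens))
        Γ(X, (U : X.Opens)) n ψ hψ
      exact ((Groth.Agent.S2066.result _).1.2 hpc) m
    · rw [h0]
      exact (Groth.Agent.Lib.Helper15.TorAmpZero.hasTorAmplitude_unit_iff f).2 hfl

end Groth.Agent.S6214
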