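import Groth.Statements.S6236
import Groth.Agent.Lib.Helper15.PCRelQCoh
import Groth.Agent.Lib.Helper15.DCohLocal
import Groth.Agent.Lib.Helper2.DCohCoh

set_option autoImplicit false
universe u
open CategoryTheory CategoryTheory.Limits AlgebraicGeometry
attribute [local instance] HasDerivedCategory.standard
open KSix

namespace Groth.Agent.S6236

open Groth.Agent.Lib.Helper2.DCohHom Groth.Agent.Lib.Helper2.DCohPC
  Groth.Agent.Lib.Helper15.PCRelQCoh Opposite TopologicalSpace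

/-- local vanishing above of the cohomology sheaves of an `m`-pseudo-coherent object -/
theorem exists_local_bound {Z : Scheme.{u}} (K : DCoh.D Z) (m : ℤ)
    (hK : DCoh.IsPseudoCoherentD m K) (x : Z) :
    ∃ (V : Z.Opens) (b : ℤ), x ∈ V ∧ ∀ i : ℤ, b < i → IsZero ((DCoh.HD K i).restrict V.ι) := by
  obtain ⟨F₀, ⟨e₀⟩⟩ := Groth.Agent.Lib.Helper2.DCohBase.exists_rep K
  obtain ⟨V, hxV, hV⟩ := hK x
  obtain ⟨E, α, hE, hiso, -⟩ := hV F₀ ⟨e₀⟩
  obtain ⟨⟨a, b, hab⟩, -⟩ := hE
  refine ⟨V, max m b, hxV, fun i hi => ?_⟩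
  haveI := hiso i (by omega)
  have iso := homRestrictIso K F₀ e₀ V.ι i ≪≫
    (asIso ((DerivedCategory.homologyFunctor _ i).map α)).symm ≪≫
    (DerivedCategory.homologyFunctorFactors _ i).app E
  refine IsZero.of_iso ?_ iso
  exact ShortComplex.isZero_homology_of_isZero_X₂ _ (hab i (Or.inr (by omega)))

/-- on a quasi-compact scheme, an `m`-pseudo-coherent object is bounded above -/
theorem exists_bound {Z : Scheme.{u}} [CompactSpace Z] (K : DCoh.D Z) (m : ℤ)
    (hK : DCoh.IsPseudoCoherentD m K) : ∃ b : ℤ, ∀ i : ℤ, b < i → IsZero (DCoh.HD K i) := by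
  choose V b hxV hV using exists_local_bound K m hK
  obtain ⟨s, hs⟩ := isCompact_univ.elim_finite_subcover (fun x => (V x : Set Z))
    (fun x => (V x).isOpen) (fun x _ => Set.mem_iUnion.2 ⟨x, hxV x⟩)
  obtain ⟨B, hB⟩ := (s.image b).exists_le
  refine ⟨B, fun i hi => ?_⟩
  apply Groth.Agent.Lib.Helper15.DCohLocal.isZero_of_forall_restrict
  intro y
  obtain ⟨x, hx⟩ := Set.mem_iUnion.1 (hs (Set.mem_univ y))
  obtain ⟨hxs, hyV⟩ := Set.mem_iUnion.1 hx
  refine ⟨V x, hyV, hV x i ?_⟩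
  have h2 := hB (b x) (Finset.mem_image_of_mem b hxs)
  omega

/-- direct image along a closed immersion reflects zero objects -/
theorem isZero_of_isZero_pushforward {Y Z : Scheme.{u}} (c : Y ⟶ Z) [IsClosedImmersion c]
    (N : Y.Modules) (h : IsZero ((Scheme.Modules.pushforward c).obj N)) : IsZero N := by
  rw [Groth.Agent.Lib.Helper48.OmegaAff.isZero_iff_subsingleton_sections] at h ⊢
  intro W
  have hemb : Topology.IsEmbedding c.base := c.isClosedEmbedding.isEmbedding
  obtain ⟨W', hW', hWW'⟩ := hemb.isOpen_iff.1 W.isOpen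
  have hW : W = c ⁻¹ᵁ ⟨W', hW'⟩ := by
    ext y
    rw [← hWW']
    rfl
  rw [hW]
  exact h ⟨W', hW'⟩


/-- Let f : X ⟶ Y be a morphism of schemes with X quasi-compact, n an integer, and E an object of D(O_X)
which is n-pseudo-coherent relative to f (chart form; in particular f is locally of finite type).
Then the cohomology of E is bounded above. (Without quasi-compactness of X the cohomology is only
locally bounded above.) -/
theorem result {X Y : Scheme.{u}} [CompactSpace X] (f : X ⟶ Y) (n : ℤ)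
    (E : DCoh.D X) (hE : DerSch.IsPseudoCoherentRel f n E) : ∃ b : ℤ, E.IsLE b := by
  obtain ⟨G, ⟨e⟩⟩ := Groth.Agent.Lib.Helper2.DCohBase.exists_rep E
  obtain ⟨-, 𝒱, h𝒱, H⟩ := hE
  have key : ∀ x : X, ∃ (U : X.Opens) (b : ℤ), x ∈ U ∧
      ∀ i : ℤ, b < i → IsZero ((DCoh.HD E i).restrict U.ι) := by
    intro x
    have hx : f.base x ∈ (⨆ V ∈ 𝒱, (V : Y.Opens)) := by rw [h𝒱]; trivial
    obtain ⟨V, hx⟩ := Opens.mem_iSup.1 hx
    obtain ⟨hV, hx⟩ := Opens.mem_iSup.1 hx
    obtain ⟨𝒰, h𝒰, H'⟩ := H V hV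
    have hx' : x ∈ (⨆ U ∈ 𝒰, (U : X.Opens)) := by rw [h𝒰]; exact hx
    obtain ⟨U, hx'⟩ := Opens.mem_iSup.1 hx'
    obtain ⟨hU, hx'⟩ := Opens.mem_iSup.1 hx'
    have hle : (U : X.Opens) ≤ f ⁻¹ᵁ (V : Y.Opens) := by
      rw [← h𝒰]; exact le_iSup₂ (f := fun (U : X.affineOpens) _ => (U : X.Opens)) U hU
    obtain ⟨k, φ, ⟨hφ, -⟩, hpc⟩ := H' U hU hle
    have h1 := hpc G ⟨e⟩
    obtain ⟨b, hb⟩ := exists_bound _ n h1
    refine ⟨U, b, hx', fun i hi => ?_⟩
    haveI := isClosedImmersion_chartImm U.2 φ hφ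
    haveI := preservesHomology_pushforward_of_isClosedImmersion (DerSch.chartImm (U : X.Opens) φ)
    have iso : DCoh.HD (DCoh.toD _ ((DerSch.pushCx (DerSch.chartImm (U : X.Opens) φ)).obj
        ((DCoh.restrictCx (U : X.Opens)).obj G))) i ≅
        (Scheme.Modules.pushforward (DerSch.chartImm (U : X.Opens) φ)).obj
          ((DCoh.HD E i).restrict (U : X.Opens).ι) :=
      (DerivedCategory.homologyFunctorFactors _ i).app _ ≪≫
        (homCx (Scheme.Modules.pushforward (DerSch.chartImm (U : X.Opens) φ)) i).app _ ≪≫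
        (Scheme.Modules.pushforward (DerSch.chartImm (U : X.Opens) φ)).mapIso
          ((homCx (Scheme.Modules.restrictFunctor (U : X.Opens).ι) i).app G ≪≫
            (Scheme.Modules.restrictFunctor (U : X.Opens).ι).mapIso
              (((DerivedCategory.homologyFunctorFactors _ i).app G).symm ≪≫
                (DerivedCategory.homologyFunctor _ i).mapIso e))
    exact isZero_of_isZero_pushforward (DerSch.chartImm (U : X.Opens) φ) _
      ((hb i hi).of_iso iso.symm)
  choose U b hxU hU using key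
  obtain ⟨s, hs⟩ := isCompact_univ.elim_finite_subcover (fun x => (U x : Set X))
    (fun x => (U x).isOpen) (fun x _ => Set.mem_iUnion.2 ⟨x, hxU x⟩)
  obtain ⟨B, hB⟩ := (s.image b).exists_le
  refine ⟨B, ?_⟩
  rw [DerivedCategory.isLE_iff]
  intro i hi
  apply Groth.Agent.Lib.Helper15.DCohLocal.isZero_of_forall_restrict
  intro y
  obtain ⟨x, hx⟩ := Set.mem_iUnion.1 (hs (Set.mem_univ y))
  obtain ⟨hxs, hyV⟩ := Set.mem_iUnion.1 hx
  refine ⟨U x, hyV, hU x i ?_⟩
  have h2 := hB (b x) (Finset.mem_image_of_mem b hxs)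
  omega

end Groth.Agent.S6236
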