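import Groth.Statements.S6237
import Groth.Agent.Lib.Helper2.PerfChart

set_option autoImplicit false
universe u
open CategoryTheory CategoryTheory.Limits AlgebraicGeometry
attribute [local instance] HasDerivedCategory.standard
open KSix

namespace Groth.Agent.S6237

open Groth.Agent.Lib.Helper2 Groth.Agent.Lib.Helper2.PerfClosedImm


/-- Let i : Z ⟶ X be a closed immersion which is Koszul-regular (around every point the ideal of Z in an
affine open of X is generated by a finite sequence whose Koszul complex is acyclic in positive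
degrees). Then i_*O_Z placed in degree 0 is a perfect object of D(O_X); in particular it is
pseudo-coherent. -/
theorem result {Z X : Scheme.{u}} (i : Z ⟶ X)
    [IsClosedImmersion i] (hi : RegImm.IsRegularImmersion RegImm.Kind.koszul i) :
    DCoh.IsPerfect (DCoh.inD X ((Scheme.Modules.pushforward i).obj (Coh.structureModule Z))) := by
  rw [DCohPerf.isPerfect_iff]
  intro x
  by_cases hx : x ∈ Set.range i
  · obtain ⟨z, rfl⟩ := hx
    obtain ⟨U, hzU, -, rs, hrs, hker⟩ := hi.2 z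
    have hV : IsAffineOpen U.1 := U.2
    letI alg : Algebra Γ(X, U.1) Γ(Z, i ⁻¹ᵁ U.1) := (i.appLE U.1 (i ⁻¹ᵁ U.1) le_rfl).hom.toAlgebra
    have halg : algebraMap Γ(X, U.1) Γ(Z, i ⁻¹ᵁ U.1) = (i.appLE U.1 (i ⁻¹ᵁ U.1) le_rfl).hom := rfl
    have happ : algebraMap Γ(X, U.1) Γ(Z, i ⁻¹ᵁ U.1) = (i.app U.1).hom := by
      rw [halg, ← Scheme.Hom.app_eq_appLE]
    have hsurj : Function.Surjective (algebraMap Γ(X, U.1) Γ(Z, i ⁻¹ᵁ U.1)) := by
      rw [happ]
      exact i.app_surjective U.1 hV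
    have hP : DRing.IsPerfect Γ(X, U.1) (Dual.inD Γ(X, U.1) Γ(Z, i ⁻¹ᵁ U.1)) :=
      isPerfect_of_koszul hsurj rs hrs (by rw [happ]; exact hker)
    have hx : i z ∈ Set.range hV.fromSpec := by rw [hV.range_fromSpec]; exact hzU
    obtain ⟨y, hy⟩ := hx
    rw [← hy]
    exact perfAt_pushO_of_chart i hV halg hP y
  · have hopen : IsOpen (Set.range i)ᶜ := i.isClosedEmbedding.isClosed_range.isOpen_compl
    obtain ⟨_, ⟨V, hV : IsAffineOpen V, rfl⟩, hxV, hVsub⟩ :=
      (X.isBasis_affineOpens).exists_subset_of_mem_open (show x ∈ (Set.range i)ᶜ from hx) hopen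
    have hbot : i ⁻¹ᵁ V = ⊥ := by
      ext z
      simp only [TopologicalSpace.Opens.coe_bot, Set.mem_empty_iff_false, iff_false]
      intro hz
      exact hVsub hz ⟨z, rfl⟩
    letI alg : Algebra Γ(X, V) Γ(Z, i ⁻¹ᵁ V) := (i.appLE V (i ⁻¹ᵁ V) le_rfl).hom.toAlgebra
    have halg : algebraMap Γ(X, V) Γ(Z, i ⁻¹ᵁ V) = (i.appLE V (i ⁻¹ᵁ V) le_rfl).hom := rfl
    haveI : Subsingleton Γ(Z, i ⁻¹ᵁ V) := by
      rw [hbot]
      infer_instance
    have hP : DRing.IsPerfect Γ(X, V) (Dual.inD Γ(X, V) Γ(Z, i ⁻¹ᵁ V)) :=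
      isPerfect_inD_of_subsingleton _ _
    have hx' : x ∈ Set.range hV.fromSpec := by rw [hV.range_fromSpec]; exact hxV
    obtain ⟨y, rfl⟩ := hx'
    exact perfAt_pushO_of_chart i hV halg hP y

end Groth.Agent.S6237
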