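import Groth.Statements.S6238
import Groth.Agent.Lib.Helper15.KoszulTorAmp

set_option autoImplicit false
universe u
open CategoryTheory CategoryTheory.Limits AlgebraicGeometry
attribute [local instance] HasDerivedCategory.standard
open KSix

namespace Groth.Agent.S6238

/-- An immersion i : Z ⟶ X which is Koszul-regular of codimension d (around every point, over an affine
open of X on which i is a closed immersion, the ideal is generated by d sections whose Koszul
complex is acyclic in positive degrees) has perfect dimension at most d: O_Z placed in degree 0 is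
pseudo-coherent relative to i (chart form) with stalkwise tor amplitude in [-d, 0] over the local
rings of X. -/
theorem result {Z X : Scheme.{u}} (i : Z ⟶ X) (d : ℕ)
    (hi : RegImm.IsRegularImmersionOfCodim RegImm.Kind.koszul d i) :
    DerSch.HasPerfDimLE i d := by
  obtain ⟨him, hreg⟩ := hi
  haveI := him
  have hreg' : RegImm.IsRegularImmersion .koszul i :=
    ⟨him, fun z => by
      obtain ⟨U, hz, hci, rs, -, hrs, hk⟩ := hreg z
      exact ⟨U, hz, hci, rs, hrs, hk⟩⟩
  have hperf := Groth.Agent.Lib.Helper43.KoszulAtPerf.perfMor_of_koszulRegularImmersion i hreg'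
  have hpcm : MoreMor.IsPseudoCoherentMor i := fun U V hU hV hUV => (hperf U V hU hV hUV).1
  refine ⟨Groth.Agent.Lib.Helper15.KoszulTorAmp.isPseudoCoherentRelAll_unit_of_isPseudoCoherentMor
    i hpcm, fun z => ?_⟩
  obtain ⟨U, hz, hci, rs, hlen, hrs, hk⟩ := hreg z
  haveI := hci
  have h := Groth.Agent.Lib.Helper15.KoszulTorAmp.hasTorAmplitudeAt_unit_of_koszul i U.1 U.2 z hz
    rs hrs hk
  rwa [hlen] at h

end Groth.Agent.S6238
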