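import Groth.Statements.S6240
import Groth.Agent.Lib.Helper2.StalkLpull
import Groth.Agent.Lib.Helper12.LTC

set_option autoImplicit false
universe u
open CategoryTheory CategoryTheory.Limits AlgebraicGeometry
attribute [local instance] HasDerivedCategory.standard
open KSix

namespace Groth.Agent.S6240

open Groth.Agent.Lib.Helper2.Lpull Groth.Agent.Lib.Helper2.StalkLpull
  Groth.Agent.Lib.Helper12.StalkExact


/-- Let f : X ⟶ Y and g : Y ⟶ Z be morphisms of schemes with composite h, F a cochain complex of
O_X-modules with tor amplitude in [a, b] relative to f, and G a cochain complex of O_Y-modules with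
tor amplitude in [c, d] relative to g (both stalkwise: at every point the complex of stalks is
isomorphic, in the derived category of the local ring of the base, to a complex of flat modules
placed in the interval). Then, the derived pullback Lf^* and the derived tensor product with F being
assumed to exist, the object Lf^* G ⊗^L F of D(O_X) has tor amplitude in [a + c, b + d] relative to
h: every cochain complex representing it has stalkwise flat models placed in [a + c, b + d] over the
local rings of Z. (The published statement is for a commutative triangle of ringed topoi in which X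
has enough points, and writes the relative derived tensor product of F and G over Y, defined as F
⊗^L Lf^* G; this row is the case of schemes, with tor amplitude in its stalkwise form and the
derived tensor product taken with F as the fixed right-hand factor.) -/
theorem result {X Y Z : Scheme.{u}} (f : X ⟶ Y) (g : Y ⟶ Z)
    (h : X ⟶ Z) (w : f ≫ g = h) (F : CochainComplex X.Modules ℤ) (a b : ℤ)
    (hF : DerSch.HasTorAmplitude f a b F) (G : CochainComplex Y.Modules ℤ) (c d : ℤ)
    (hG : DerSch.HasTorAmplitude g c d G) [DCoh.HasLpull f] [DCoh.HasLTensorCx F] :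
    DerSch.HasTorAmplitudeD h (a + c) (b + d)
      ((DCoh.LTensorCx F).obj ((DCoh.Lpull f).obj (DCoh.toD Y G))) := by
  subst w
  intro F' ⟨eF⟩ x
  obtain ⟨P, q, hP, hq⟩ := Groth.Agent.Lib.Helper12.LTC.exists_isKFlat_resolution G
  have e1 : DCoh.toD Y P ≅ DCoh.toD Y G := qIso q hq
  have hP' : DCoh.IsKFlat ((pbCx f).obj P) := isKFlat_pbCx f P hP
  haveI := Groth.Agent.Lib.Helper12.LTC.isIso_couCx_app_of_isKFlat F _ hP'
  have e2 : DCoh.toD X ((DCoh.tensorCx.obj ((pbCx f).obj P)).obj F) ≅ DCoh.toD X F' :=
    (asIso ((Groth.Agent.Lib.Helper12.LTC.couCx F).app ((pbCx f).obj P))).symm ≪≫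
    (DCoh.LTensorCx F).mapIso ((lpIso f P hP).symm ≪≫ (DCoh.Lpull f).mapIso e1) ≪≫ eF.symm
  have h1 : DerSch.HasTorAmplitudeAt g c d P (f.base x) :=
    hasTorAmplitudeAt_of_iso g e1.symm c d (f.base x) (hG (f.base x))
  have h2 := hasTorAmplitudeAt_tensor_pbCx f g P hP F a b c d x (hF x) h1
  exact hasTorAmplitudeAt_of_iso (f ≫ g) e2 _ _ x h2

end Groth.Agent.S6240
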