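import Groth.Statements.S6247
import Groth.Agent.Lib.Helper12.LTS6

set_option autoImplicit false
universe u
open CategoryTheory CategoryTheory.Limits AlgebraicGeometry
attribute [local instance] HasDerivedCategory.standard
open KSix

namespace Groth.Agent.S6247

theorem result {C : Type u} [SmallCategory C]
    {J : GrothendieckTopology C} (O : Sheaf J CommRingCat.{u}) (E P : CochainComplex (ModSite.Mod O) ℤ)
    (m n : ℤ) (hP : ∀ i : ℤ, ModSite.IsFlat (P.X i)) (hPb : ∀ i : ℤ, i < m ∨ n < i → IsZero (P.X i))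
    (eP : DerivedCategory.Q.obj P ≅ DerivedCategory.Q.obj E) (F : CochainComplex (ModSite.Mod O) ℤ)
    (m' n' : ℤ) (hF : ∀ i : ℤ, ModSite.IsFlat (F.X i)) (hFb : ∀ i : ℤ, i < m' ∨ n' < i → IsZero (F.X i))
    [ModSite.HasLTensorCx F] :
    ∃ G : CochainComplex (ModSite.Mod O) ℤ, (∀ i : ℤ, ModSite.IsFlat (G.X i)) ∧
      (∀ i : ℤ, i < m + m' ∨ n + n' < i → IsZero (G.X i)) ∧
      Nonempty (DerivedCategory.Q.obj G ≅ (ModSite.LTensorCx F).obj (DerivedCategory.Q.obj E)) := by
  have hFK : ModSite.IsKFlat F :=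
    Groth.Agent.Lib.Helper12.KFlat.isKFlat_of_bounded_above F n' (fun i hi => hFb i (Or.inr hi)) hF
  refine ⟨Groth.Agent.Lib.Helper12.KFlat.T P F,
    Groth.Agent.Lib.Helper12.LTS.isFlat_T_X P F hP hF, ?_, ⟨?_⟩⟩
  · intro i hi
    apply Groth.Agent.Lib.Helper12.LTS.isZero_T_X
    intro a b hab
    rcases hi with hi | hi
    · by_cases ha : a < m
      · exact Or.inl (hPb a (Or.inl ha))
      · exact Or.inr (hFb b (Or.inl (by omega)))
    · by_cases ha : n < a
      · exact Or.inl (hPb a (Or.inr ha))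
      · exact Or.inr (hFb b (Or.inr (by omega)))
  · exact ((Groth.Agent.Lib.Helper12.LTS.couIso F hFK).app P).symm ≪≫
      (ModSite.LTensorCx F).mapIso eP

end Groth.Agent.S6247
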