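import Groth.Statements.S6249
import Groth.Agent.Lib.Helper12.LTS4
import Groth.Agent.Lib.Helper12.HomSeq
import Groth.Agent.Lib.Helper12.FreeRes7

set_option autoImplicit false
universe u
open CategoryTheory CategoryTheory.Limits AlgebraicGeometry
attribute [local instance] HasDerivedCategory.standard
open KSix

namespace Groth.Agent.S6249

theorem result {C : Type u} [SmallCategory C]
    {J : GrothendieckTopology C} (O : Sheaf J CommRingCat.{u}) (E : CochainComplex (ModSite.Mod O) ℤ)
    (e : ℤ) [(DerivedCategory.Q.obj E).IsLE e] (p : ℤ) [ModSite.HasLTensorCx E] :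
    PreservesFiniteColimits (DerivedCategory.singleFunctor (ModSite.Mod O) 0 ⋙ ModSite.LTensorCx E ⋙ DerivedCategory.homologyFunctor (ModSite.Mod O) p) ↔
      PreservesFiniteLimits (DerivedCategory.singleFunctor (ModSite.Mod O) 0 ⋙ ModSite.LTensorCx E ⋙ DerivedCategory.homologyFunctor (ModSite.Mod O) (p + 1)) := by
  have hEle : E.IsLE e := (DerivedCategory.isLE_Q_obj_iff E e).mp inferInstance
  have hι : QuasiIso (E.ιTruncLE e) := (CochainComplex.quasiIso_ιTruncLE_iff E e).mpr hEle
  obtain ⟨R, q, hq, hRb, hRfl, hRK⟩ :=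
    Groth.Agent.Lib.Helper12.FreeRes.exists_bddLE_flat_resolution (O := O) (E.truncLE e) e
      (fun i hi => CochainComplex.isZero_of_isStrictlyLE (E.truncLE e) e i hi)
  have hφ : QuasiIso (q ≫ E.ιTruncLE e) := inferInstance
  have hR : ModSite.HasLTensorCx R := Groth.Agent.Lib.Helper12.LTS.hasLTensorCx_of_isKFlat R hRK
  let i1 : ModSite.LTensorCx R ≅ ModSite.LTensorCx E :=
    Groth.Agent.Lib.Helper12.LTS.ltIso (q ≫ E.ιTruncLE e)
  have j : ∀ p' : ℤ, DerivedCategory.singleFunctor (ModSite.Mod O) 0 ⋙ ModSite.LTensorCx E ⋙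
      DerivedCategory.homologyFunctor (ModSite.Mod O) p' ≅
      Groth.Agent.Lib.Helper12.LTS.tl R ⋙
        HomologicalComplex.homologyFunctor (ModSite.Mod O) (ComplexShape.up ℤ) p' := fun p' =>
    Functor.isoWhiskerLeft _ (Functor.isoWhiskerRight i1.symm _) ≪≫
      Groth.Agent.Lib.Helper12.LTS.hIso R hRK p'
  have key := Groth.Agent.Lib.Helper12.HomSeq.preservesFiniteColimits_iff_preservesFiniteLimits
    (Groth.Agent.Lib.Helper12.LTS.tl R)
    (Groth.Agent.Lib.Helper12.LTS.shortExact_map_tl R hRfl) p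
  constructor
  · intro h
    have h1 := preservesFiniteColimits_of_natIso (j p)
    have h2 := key.mp h1
    exact preservesFiniteLimits_of_natIso (j (p + 1)).symm
  · intro h
    have h1 := preservesFiniteLimits_of_natIso (j (p + 1))
    have h2 := key.mpr h1
    exact preservesFiniteColimits_of_natIso (j p).symm

end Groth.Agent.S6249
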