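import Groth.Statements.S6254
import Groth.Agent.Lib.Helper12.LTS5

set_option autoImplicit false
universe u
open CategoryTheory CategoryTheory.Limits AlgebraicGeometry
attribute [local instance] HasDerivedCategory.standard
open KSix

namespace Groth.Agent.S6254

theorem result {C : Type u} [SmallCategory C]
    {J : GrothendieckTopology C} (O : Sheaf J CommRingCat.{u}) (E : CochainComplex (ModSite.Mod O) ℤ)
    (e : ℤ) (hEb : ∀ i : ℤ, e < i → IsZero (E.X i)) (hEf : ∀ i : ℤ, ModSite.IsFlat (E.X i)) (p : ℤ)
    [ModSite.HasLTensorCx E] :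
    PreservesFiniteColimits (DerivedCategory.singleFunctor (ModSite.Mod O) 0 ⋙ ModSite.LTensorCx E ⋙ DerivedCategory.homologyFunctor (ModSite.Mod O) p) ↔ ModSite.IsFlat (cokernel (E.d p (p + 1))) := by
  have hRK : ModSite.IsKFlat E :=
    Groth.Agent.Lib.Helper12.KFlat.isKFlat_of_bounded_above E e hEb hEf
  have j := Groth.Agent.Lib.Helper12.LTS.hIso E hRK p
  have key := Groth.Agent.Lib.Helper12.LTS.preservesFiniteColimits_tl_iff E hEf p
  constructor
  · intro h
    have h1 := preservesFiniteColimits_of_natIso j
    exact key.mp h1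
  · intro h
    have h1 := key.mpr h
    exact preservesFiniteColimits_of_natIso j.symm

end Groth.Agent.S6254
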