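import Groth.Statements.S6263
import Mathlib

set_option autoImplicit false
universe u
open CAlg

namespace Groth.Agent.S6263

section
open TensorProduct

theorem mem_smul_top_of_smul_mem {R : Type u} [CommRing R] (N : Type u) [AddCommGroup N]
    [Module R N] [Module.Flat R N] (p : Ideal R) [p.IsPrime] (r : R) (hr : r ∉ p) (n : N)
    (h : r • n ∈ (p • ⊤ : Submodule R N)) : n ∈ (p • ⊤ : Submodule R N) := by
  have hnz : Ideal.Quotient.mk p r ∈ nonZeroDivisors (R ⧸ p) := by
    apply mem_nonZeroDivisors_of_ne_zero
    rwa [Ne, Ideal.Quotient.eq_zero_iff_mem]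
  have hreg : IsSMulRegular ((R ⧸ p) ⊗[R] N) (Ideal.Quotient.mk p r) :=
    Module.Flat.isSMulRegular_of_nonZeroDivisors (R := R ⧸ p) (M := (R ⧸ p) ⊗[R] N) hnz
  have h1 : (Ideal.Quotient.mk p r) • ((1 : R ⧸ p) ⊗ₜ[R] n) = 0 := by
    rw [TensorProduct.smul_tmul', smul_eq_mul, mul_one]
    apply (TensorProduct.quotTensorEquivQuotSMul N p).injective
    rw [TensorProduct.quotTensorEquivQuotSMul_mk_tmul, map_zero, Submodule.Quotient.mk_eq_zero]
    exact h
  have h2 := hreg.right_eq_zero_of_smul h1
  have h3 := congrArg (TensorProduct.quotTensorEquivQuotSMul N p) h2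
  rw [TensorProduct.quotTensorEquivQuotSMul_mk_one_tmul, map_zero,
    Submodule.Quotient.mk_eq_zero] at h3
  exact h3

end

/-- For a ring map R → S and a finite S-module N which is flat as an R-module, generalizations lift
along the map from the support of N (a subset of Spec S) to Spec R: if p ≤ p' are primes of R and q'
is a prime of S in the support of N whose inverse image in R is p', then some prime q ≤ q' of S lies
in the support of N and has inverse image p. -/
theorem result {R S : Type u} [CommRing R] [CommRing S] [Algebra R S] (N : Type u) [AddCommGroup N] [Module S N] [Module R N] [IsScalarTower R S N] [Module.Finite S N] [Module.Flat R N] (p p' : Ideal R) [p.IsPrime] [p'.IsPrime] (hle : p ≤ p') (q' : PrimeSpectrum S) (hq' : q' ∈ Module.support S N) (hover : q'.asIdeal.under R = p') : ∃ q : PrimeSpectrum S, q ≤ q' ∧ q ∈ Module.support S N ∧ q.asIdeal.under R = p := by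
  classical
  set P : Submodule S N := (p.map (algebraMap R S)) • ⊤ with hP
  have hPR : P.restrictScalars R = (p • ⊤ : Submodule R N) := by
    rw [hP, Ideal.smul_restrictScalars, Submodule.restrictScalars_top]
  have hpq' : p.map (algebraMap R S) ≤ q'.asIdeal := by
    rw [Ideal.map_le_iff_le_comap]
    exact hle.trans hover.symm.le
  have hq'supp : q' ∈ Module.support S (N ⧸ P) := by
    rw [hP, Module.support_quotient]
    exact ⟨hq', hpq'⟩
  rw [Module.support_eq_zeroLocus, PrimeSpectrum.mem_zeroLocus] at hq'supp
  obtain ⟨q, hqmin, hqq'⟩ := Ideal.exists_minimalPrimes_le (SetLike.coe_subset_coe.mp hq'supp)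
  have hqprime : q.IsPrime := hqmin.1.1
  have hqsupp : (⟨q, hqprime⟩ : PrimeSpectrum S) ∈ Module.support S (N ⧸ P) := by
    rw [Module.support_eq_zeroLocus, PrimeSpectrum.mem_zeroLocus]
    exact SetLike.coe_subset_coe.mpr hqmin.1.2
  rw [hP, Module.support_quotient] at hqsupp
  refine ⟨⟨q, hqprime⟩, hqq', hqsupp.1, le_antisymm ?_ ?_⟩
  · intro r hr
    by_contra hrp
    have hreg : IsSMulRegular (N ⧸ P) (algebraMap R S r) := by
      rw [isSMulRegular_quotient_iff_mem_of_smul_mem]
      intro n hn
      rw [algebraMap_smul] at hn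
      have hn' : r • n ∈ (p • ⊤ : Submodule R N) := by
        rw [← hPR]
        exact hn
      have := mem_smul_top_of_smul_mem N p r hrp n hn'
      rw [← hPR] at this
      exact this
    exact hreg.notMem_of_mem_minimalPrimes hqmin hr
  · have h2 : p.map (algebraMap R S) ≤ q := hqsupp.2
    rw [Ideal.map_le_iff_le_comap] at h2
    exact h2

end Groth.Agent.S6263
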