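import Groth.Statements.S6264
-- import your own Groth.Agent.* helpers here

set_option autoImplicit false
universe u
open CAlg

namespace Groth.Agent.S6264

/-- Let R → S be a ring map with the going-up property and p a prime of R such that exactly one prime q
of S lies over p. Then the localization S_p of S at the image of R - p is a localization of S at q,
i.e. S_p = S_q. -/
theorem result {R S : Type u} [CommRing R] [CommRing S] [Algebra R S] [Algebra.HasGoingUp R S] (p : Ideal R) [p.IsPrime] (q : Ideal S) [q.IsPrime] [q.LiesOver p] (huniq : ∀ q' : Ideal S, q'.IsPrime → q'.under R = p → q' = q) : IsLocalization.AtPrime (Localization (Algebra.algebraMapSubmonoid S p.primeCompl)) q := by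
  refine IsLocalization.of_le (Algebra.algebraMapSubmonoid S p.primeCompl) q.primeCompl ?_ ?_
  · rintro _ ⟨r, hr, rfl⟩
    intro hmem
    exact hr ((Ideal.mem_of_liesOver q p r).mpr hmem)
  · intro x hx
    by_contra hnu
    obtain ⟨m, hm, hxm⟩ := exists_max_ideal_of_mem_nonunits hnu
    have hmp : m.IsPrime := hm.isPrime
    have hQ := (IsLocalization.isPrime_iff_isPrime_disjoint
      (Algebra.algebraMapSubmonoid S p.primeCompl) _ m).mp hmp
    obtain ⟨hQp, hQd⟩ := hQ
    have hle : (m.under S).under R ≤ p := by
      intro r hr
      by_contra hrp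
      exact Set.disjoint_left.mp hQd ⟨r, hrp, rfl⟩ hr
    obtain ⟨Q', hQQ', hQ'p, hQ'o⟩ := Ideal.exists_ideal_ge_liesOver_of_le (m.under S) hle
    have hQ'q : Q' = q := huniq Q' hQ'p (hQ'o.over).symm
    exact hx (hQ'q ▸ hQQ' hxm)

end Groth.Agent.S6264
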