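import Groth.Statements.S6265
-- import your own Groth.Agent.* helpers here

set_option autoImplicit false
universe u
open CAlg

namespace Groth.Agent.S6265

/-- Let R → S be a ring map with the going-down property such that over every prime of R lies at most
one prime of S, and let p be a prime of R and q a prime of S above it. Then the localization S_p of
S at the image of R - p is a localization of S at q, i.e. S_p = S_q. -/
theorem result {R S : Type u} [CommRing R] [CommRing S] [Algebra R S] [Algebra.HasGoingDown R S] (hinj : ∀ q₁ q₂ : Ideal S, q₁.IsPrime → q₂.IsPrime → q₁.under R = q₂.under R → q₁ = q₂) (p : Ideal R) [p.IsPrime] (q : Ideal S) [q.IsPrime] [q.LiesOver p] : IsLocalization.AtPrime (Localization (Algebra.algebraMapSubmonoid S p.primeCompl)) q := by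
  refine IsLocalization.of_le (Algebra.algebraMapSubmonoid S p.primeCompl) q.primeCompl ?_ ?_
  · rintro _ ⟨r, hr, rfl⟩
    intro hmem
    exact hr ((Ideal.mem_of_liesOver q p r).mpr hmem)
  · intro x hx
    by_contra hnu
    obtain ⟨m, hm, hxm⟩ := exists_max_ideal_of_mem_nonunits hnu
    have hmp : m.IsPrime := hm.isPrime
    have hQ := (IsLocalization.isPrime_iff_isPrime_disjoint
      (Algebra.algebraMapSubmonoid S p.primeCompl) _ m).mp hmp
    obtain ⟨hQp, hQd⟩ := hQ
    have hle : (m.under S).under R ≤ p := by
      intro r hr
      by_contra hrp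
      exact Set.disjoint_left.mp hQd ⟨r, hrp, rfl⟩ hr
    obtain ⟨P, hPq, hPp, hPo⟩ := Ideal.exists_ideal_le_liesOver_of_le q hle
    have hPQ : P = m.under S := hinj P (m.under S) hPp hQp (hPo.over).symm
    exact hx (hPq (hPQ ▸ hxm))

end Groth.Agent.S6265
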