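import Groth.Statements.S6267
import Groth.Agent.Lib.Helper18.UnivInjFG

set_option autoImplicit false
universe u
open CAlg

namespace Groth.Agent.S6267

open TensorProduct in
theorem all_ideals {R : Type u} [CommRing R] {M M' : Type u} [AddCommGroup M] [Module R M]
    [AddCommGroup M'] [Module R M'] (f : M →ₗ[R] M')
    (h : ∀ I : Ideal R, I.FG → Function.Injective (f.rTensor (R ⧸ I))) (I : Ideal R) :
    Function.Injective (f.rTensor (R ⧸ I)) := by
  rw [injective_iff_map_eq_zero]
  intro x hx
  obtain ⟨x, rfl⟩ := LinearMap.lTensor_surjective M I.mkQ_surjective x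
  have h1 : (I.mkQ.lTensor M') ((f.rTensor R) x) = 0 := by
    rw [← hx]
    change ((I.mkQ.lTensor M').comp (f.rTensor R)) x = ((f.rTensor (R ⧸ I)).comp (I.mkQ.lTensor M)) x
    rw [LinearMap.lTensor_comp_rTensor, LinearMap.rTensor_comp_lTensor]
  obtain ⟨w, hw⟩ := (lTensor_exact M' (LinearMap.exact_subtype_mkQ I) I.mkQ_surjective _).1 h1
  obtain ⟨N', hN', hw'⟩ := TensorProduct.exists_finite_submodule_right_of_setFinite {w}
    (Set.finite_singleton w)
  obtain ⟨w₁, rfl⟩ := hw' (Set.mem_singleton w)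
  let I₀ : Ideal R := N'.map I.subtype
  have hI₀ : I₀.FG := (Module.Finite.iff_fg.1 hN').map _
  have hle : I₀ ≤ I := by
    rintro _ ⟨y, _, rfl⟩
    exact y.2
  have hzero : (I₀.mkQ ∘ₗ I.subtype) ∘ₗ N'.subtype = 0 := by
    ext y
    simp only [LinearMap.coe_comp, Function.comp_apply, Submodule.subtype_apply,
      Submodule.mkQ_apply, LinearMap.zero_apply, Submodule.Quotient.mk_eq_zero]
    exact ⟨y.1, y.2, rfl⟩
  have h2 : (I₀.mkQ.lTensor M') ((f.rTensor R) x) = 0 := by
    rw [← hw, ← LinearMap.lTensor_comp_apply, ← LinearMap.lTensor_comp_apply, hzero,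
      LinearMap.lTensor_zero, LinearMap.zero_apply]
  have h3 : (I₀.mkQ.lTensor M) x = 0 := by
    apply h I₀ hI₀
    rw [map_zero, ← h2]
    change ((f.rTensor (R ⧸ I₀)).comp (I₀.mkQ.lTensor M)) x = ((I₀.mkQ.lTensor M').comp (f.rTensor R)) x
    rw [LinearMap.lTensor_comp_rTensor, LinearMap.rTensor_comp_lTensor]
  have h4 : I.mkQ = (Submodule.mapQ I₀ I LinearMap.id (by simpa using hle)) ∘ₗ I₀.mkQ := by
    ext; simp
  rw [h4, LinearMap.lTensor_comp_apply, h3, map_zero]

/-- Let R be a ring and f : M → M' a map of R-modules with M' flat. Then f is universally injective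
exactly when, for each finitely generated ideal I of R, the induced map M ⊗ R/I → M' ⊗ R/I (that is,
M/IM → M'/IM') is injective. -/
theorem result {R : Type u} [CommRing R] {M M' : Type u} [AddCommGroup M] [Module R M] [AddCommGroup M'] [Module R M'] [Module.Flat R M'] (f : M →ₗ[R] M') : CAlgX.UniversallyInjective R f ↔ ∀ I : Ideal R, I.FG → Function.Injective (f.rTensor (R ⧸ I)) := by
  constructor
  · intro h I _
    exact h (R ⧸ I)
  · intro h Q _ _
    exact Groth.Agent.Lib.Helper18.rTensor_inj_of_cyclic f (all_ideals f h) Q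

end Groth.Agent.S6267
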