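import Groth.Statements.S6268
import Mathlib.Tactic
import Mathlib.LinearAlgebra.TensorProduct.RightExactness
open TensorProduct

set_option autoImplicit false
universe u
open CAlg

namespace Groth.Agent.S6268

/-- Suppose the structure map R → S of an R-algebra S is universally injective as an R-linear map. Then
tensoring with S detects injectivity and surjectivity of R-linear maps (and hence reflects
isomorphisms): for an R-linear g : M → N, if S ⊗ g is injective then so is g, and if S ⊗ g is
surjective then so is g. -/
theorem result {R S : Type u} [CommRing R] [CommRing S] [Algebra R S] (hS : CAlgX.UniversallyInjective R (Algebra.linearMap R S)) {M N : Type u} [AddCommGroup M] [Module R M] [AddCommGroup N] [Module R N] (g : M →ₗ[R] N) : (Function.Injective (g.lTensor S) → Function.Injective g) ∧ (Function.Surjective (g.lTensor S) → Function.Surjective g) := by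
  classical
  have hι : ∀ (Q : Type u) [AddCommGroup Q] [Module R Q],
      Function.Injective (fun q : Q => (1 : S) ⊗ₜ[R] q) := by
    intro Q _ _
    have h1 := hS Q
    have h2 : (fun q : Q => (1 : S) ⊗ₜ[R] q) =
        ((Algebra.linearMap R S).rTensor Q) ∘ (TensorProduct.lid R Q).symm := by
      funext q
      simp
    rw [h2]
    exact h1.comp (TensorProduct.lid R Q).symm.injective
  constructor
  · intro hinj m m' hmm
    apply hι M
    apply hinj
    simp only [LinearMap.lTensor_tmul, hmm]
  · intro hsurj
    let π := (LinearMap.range g).mkQ
    have hπ : Function.Surjective (π.lTensor S) :=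
      LinearMap.lTensor_surjective S (Submodule.mkQ_surjective _)
    have hzero : ∀ z : S ⊗[R] (N ⧸ LinearMap.range g), z = 0 := by
      intro z
      obtain ⟨y, rfl⟩ := hπ z
      obtain ⟨x, rfl⟩ := hsurj y
      rw [← LinearMap.comp_apply, ← LinearMap.lTensor_comp]
      have : π.comp g = 0 := by
        ext m
        simp [π]
      rw [this, LinearMap.lTensor_zero, LinearMap.zero_apply]
    intro n
    have h0 : π n = 0 := by
      apply hι (N ⧸ LinearMap.range g)
      simp only
      rw [hzero ((1 : S) ⊗ₜ[R] π n), hzero ((1 : S) ⊗ₜ[R] (0 : N ⧸ LinearMap.range g))]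
    have : n ∈ LinearMap.range g := by
      simpa [π] using h0
    exact this

end Groth.Agent.S6268
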