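import Groth.Statements.S6271
import Mathlib

set_option autoImplicit false
universe u
open scoped TensorProduct
open CAlg

namespace Groth.Agent.S6271

lemma pow_entries {R : Type*} [CommRing R] {n : ℕ} (J : Ideal R) (M : Matrix (Fin n) (Fin n) R)
    (hM : ∀ i j, M i j ∈ J) : ∀ k i j, (M ^ k) i j ∈ J ^ k := by
  intro k
  induction k with
  | zero => intro i j; simp
  | succ k ih =>
    intro i j
    rw [pow_succ M, Matrix.mul_apply, pow_succ]
    exact Ideal.sum_mem _ fun l _ => Ideal.mul_mem_mul (ih i l) (hM l j)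

lemma ker_nilpotent {R : Type*} [CommRing R] (I : Ideal R) (hI : ∀ x ∈ I, IsNilpotent x) (n : ℕ)
    (M : Matrix (Fin n) (Fin n) R)
    (hM : M ∈ RingHom.ker
      (RingHom.mapMatrix (Ideal.Quotient.mk I) : Matrix (Fin n) (Fin n) R →+* _)) :
    IsNilpotent M := by
  have hent : ∀ i j, M i j ∈ I := by
    intro i j
    have h0 := RingHom.mem_ker.mp hM
    have := Matrix.ext_iff.mpr h0 i j
    simpa [RingHom.mapMatrix_apply, Matrix.map_apply, Ideal.Quotient.eq_zero_iff_mem] using this
  let J : Ideal R := Ideal.span (Set.range (fun p : Fin n × Fin n => M p.1 p.2))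
  have hJfg : J.FG := by
    refine ⟨(Set.finite_range (fun p : Fin n × Fin n => M p.1 p.2)).toFinset, ?_⟩
    simp [J]
  have hJle : J ≤ nilradical R := Ideal.span_le.mpr (by
    rintro _ ⟨p, rfl⟩
    exact hI _ (hent _ _))
  obtain ⟨k, hk⟩ := (Ideal.FG.isNilpotent_iff_le_nilradical hJfg).mpr hJle
  refine ⟨k, ?_⟩
  ext i j
  have := pow_entries J M (fun i j => Ideal.subset_span ⟨(i, j), rfl⟩) k i j
  rw [hk] at this
  simpa using this


/-- Let R be a ring, I ⊆ R a locally nilpotent ideal (every element of I is nilpotent) and P̄ a finite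
projective R/I-module. Then there is a finite projective R-module P such that P/IP (that is, R/I ⊗
P) is isomorphic to P̄ as an R/I-module. -/
theorem result {R : Type u} [CommRing R] (I : Ideal R) (hI : ∀ x ∈ I, IsNilpotent x) (Pb : Type u) [AddCommGroup Pb] [Module (R ⧸ I) Pb] [Module.Projective (R ⧸ I) Pb] [Module.Finite (R ⧸ I) Pb] : ∃ (P : Type u) (_ : AddCommGroup P) (_ : Module R P), Module.Projective R P ∧ Module.Finite R P ∧ Nonempty (((R ⧸ I) ⊗[R] P) ≃ₗ[R ⧸ I] Pb) := by
  classical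
  obtain ⟨n, f, hf⟩ := Module.Finite.exists_fin' (R ⧸ I) Pb
  obtain ⟨g, hg⟩ := Module.projective_lifting_property f LinearMap.id hf
  let eb : (Fin n → R ⧸ I) →ₗ[R ⧸ I] (Fin n → R ⧸ I) := g ∘ₗ f
  have hebeb : eb ∘ₗ eb = eb := by
    refine LinearMap.ext fun x => ?_
    simp only [eb, LinearMap.comp_apply]
    have := LinearMap.congr_fun hg (f x)
    simp only [LinearMap.comp_apply, LinearMap.id_apply] at this
    rw [this]
  let Eb : Matrix (Fin n) (Fin n) (R ⧸ I) := LinearMap.toMatrix' eb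
  have hEb : IsIdempotentElem Eb := by
    change Eb * Eb = Eb
    simp only [Eb]
    rw [← LinearMap.toMatrix'_comp, hebeb]
  have hsurj : Eb ∈ (RingHom.mapMatrix (Ideal.Quotient.mk I) :
      Matrix (Fin n) (Fin n) R →+* _).range := by
    refine ⟨fun i j => (Ideal.Quotient.mk_surjective (Eb i j)).choose, ?_⟩
    ext i j
    simpa using (Ideal.Quotient.mk_surjective (Eb i j)).choose_spec
  obtain ⟨E, hE, hEE⟩ := exists_isIdempotentElem_eq_of_ker_isNilpotent
    (RingHom.mapMatrix (Ideal.Quotient.mk I)) (ker_nilpotent I hI n) Eb hsurj hEb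
  let e : (Fin n → R) →ₗ[R] (Fin n → R) := Matrix.toLin' E
  have hee : e ∘ₗ e = e := by
    simp only [e]
    rw [← Matrix.toLin'_mul, hE.eq]
  let P : Submodule R (Fin n → R) := LinearMap.range e
  have hsi : e.rangeRestrict ∘ₗ P.subtype = LinearMap.id := by
    refine LinearMap.ext fun x => ?_
    obtain ⟨x, y, rfl⟩ := x
    apply Subtype.ext
    simp only [LinearMap.comp_apply, Submodule.subtype_apply, LinearMap.id_apply,
      LinearMap.codRestrict_apply]
    exact LinearMap.congr_fun hee y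
  have his : P.subtype ∘ₗ e.rangeRestrict = e := by
    refine LinearMap.ext fun x => ?_
    simp
  refine ⟨P, inferInstance, inferInstance, ?_, ?_, ?_⟩
  · exact Module.Projective.of_split P.subtype e.rangeRestrict hsi
  · exact Module.Finite.range e
  · let S := R ⧸ I
    let φ : S ⊗[R] (Fin n → R) ≃ₗ[S] (Fin n → S) := TensorProduct.piScalarRight R S S (Fin n)
    have key : ∀ x : S ⊗[R] (Fin n → R), φ (LinearMap.baseChange S e x) = eb (φ x) := by
      intro x
      induction x using TensorProduct.induction_on with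
      | zero => simp
      | add x y hx hy => simp only [map_add, hx, hy]
      | tmul s v =>
        have heb : eb = Matrix.toLin' Eb := (Matrix.toLin'_toMatrix' eb).symm
        rw [heb, ← hEE]
        ext i
        simp only [φ, LinearMap.baseChange_tmul, TensorProduct.piScalarRight_apply,
          TensorProduct.piScalarRightHom_tmul, e, Matrix.toLin'_apply, Matrix.mulVec, dotProduct,
          RingHom.mapMatrix_apply, Matrix.map_apply]
        rw [Finset.sum_smul]
        refine Finset.sum_congr rfl fun j _ => ?_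
        rw [Algebra.smul_def, Algebra.smul_def, map_mul]
        simp only [mul_assoc]
        rfl
    let i₁ : S ⊗[R] P →ₗ[S] (Fin n → S) := φ.toLinearMap ∘ₗ LinearMap.baseChange S P.subtype
    let p₁ : (Fin n → S) →ₗ[S] S ⊗[R] P :=
      LinearMap.baseChange S e.rangeRestrict ∘ₗ φ.symm.toLinearMap
    have hp₁i₁ : p₁ ∘ₗ i₁ = LinearMap.id := by
      refine LinearMap.ext fun x => ?_
      simp only [p₁, i₁, LinearMap.comp_apply, LinearEquiv.coe_coe, LinearEquiv.symm_apply_apply,
        LinearMap.id_apply]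
      rw [← LinearMap.comp_apply, ← LinearMap.baseChange_comp, hsi, LinearMap.baseChange_id]
      rfl
    have hi₁p₁ : i₁ ∘ₗ p₁ = eb := by
      refine LinearMap.ext fun x => ?_
      simp only [p₁, i₁, LinearMap.comp_apply, LinearEquiv.coe_coe]
      rw [← LinearMap.comp_apply (LinearMap.baseChange S P.subtype),
        ← LinearMap.baseChange_comp, his, key, LinearEquiv.apply_symm_apply]
    refine ⟨LinearEquiv.ofLinearMap (f ∘ₗ i₁) (p₁ ∘ₗ g) ?_ ?_⟩
    · calc (f ∘ₗ i₁) ∘ₗ (p₁ ∘ₗ g) = f ∘ₗ (i₁ ∘ₗ p₁) ∘ₗ g := by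
            simp only [LinearMap.comp_assoc]
        _ = (f ∘ₗ g) ∘ₗ (f ∘ₗ g) := by rw [hi₁p₁]; simp only [eb, LinearMap.comp_assoc]
        _ = LinearMap.id := by rw [hg]; rfl
    · calc (p₁ ∘ₗ g) ∘ₗ (f ∘ₗ i₁) = p₁ ∘ₗ (g ∘ₗ f) ∘ₗ i₁ := by
            simp only [LinearMap.comp_assoc]
        _ = p₁ ∘ₗ (i₁ ∘ₗ p₁) ∘ₗ i₁ := by rw [hi₁p₁]
        _ = (p₁ ∘ₗ i₁) ∘ₗ (p₁ ∘ₗ i₁) := by simp only [LinearMap.comp_assoc]
        _ = LinearMap.id := by rw [hp₁i₁]; rfl

end Groth.Agent.S6271
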