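import Groth.Statements.S6273
-- import your own Groth.Agent.* helpers here

set_option autoImplicit false
universe u
open CAlg

namespace Groth.Agent.S6273

/-- Let R be a ring, S ⊆ R a multiplicative subset and A = S⁻¹R. If the image of Spec(A) → Spec(R) is
closed, then the localization map R → A is surjective; in particular A is isomorphic to R/I for the
ideal I = ker(R → A). -/
theorem result {R : Type u} [CommRing R] (S : Submonoid R) (A : Type u) [CommRing A] [Algebra R A] [IsLocalization S A] (hcl : IsClosed (Set.range (PrimeSpectrum.comap (algebraMap R A)))) : Function.Surjective (algebraMap R A) := by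
  have hrange : Set.range (PrimeSpectrum.comap (algebraMap R A)) =
      PrimeSpectrum.zeroLocus (RingHom.ker (algebraMap R A)) := by
    rw [← PrimeSpectrum.closure_range_comap, hcl.closure_eq]
  have key : ∀ s ∈ S, ∃ r : R, algebraMap R A r * algebraMap R A s = 1 := by
    intro s hs
    have htop : RingHom.ker (algebraMap R A) ⊔ Ideal.span {s} = ⊤ := by
      by_contra hne
      obtain ⟨P, hPmax, hle⟩ := Ideal.exists_le_maximal _ hne
      have hP : (⟨P, hPmax.isPrime⟩ : PrimeSpectrum R) ∈
          PrimeSpectrum.zeroLocus (RingHom.ker (algebraMap R A)) := by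
        rw [PrimeSpectrum.mem_zeroLocus]
        intro z hz
        exact hle (Ideal.mem_sup_left hz)
      rw [← hrange, PrimeSpectrum.localization_comap_range A S] at hP
      exact Set.disjoint_left.mp hP hs
        (hle (Ideal.mem_sup_right (Ideal.mem_span_singleton_self s)))
    obtain ⟨i, hi, j, hj, hij⟩ := Submodule.mem_sup.mp
      (htop ▸ Submodule.mem_top : (1 : R) ∈ RingHom.ker (algebraMap R A) ⊔ Ideal.span {s})
    obtain ⟨r, rfl⟩ := Ideal.mem_span_singleton'.mp hj
    refine ⟨r, ?_⟩
    have := congr(algebraMap R A $hij)
    rw [map_add, map_mul, map_one, (RingHom.mem_ker).mp hi, zero_add] at this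
    exact this
  intro a
  obtain ⟨x, s, rfl⟩ := IsLocalization.exists_mk'_eq S a
  obtain ⟨r, hr⟩ := key s s.2
  refine ⟨x * r, ?_⟩
  rw [IsLocalization.eq_mk'_iff_mul_eq, map_mul, mul_assoc, hr, mul_one]

end Groth.Agent.S6273
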