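import Groth.Statements.S6274
import Mathlib.RingTheory.Spectrum.Prime.ConstructibleSet
import Mathlib.Topology.NoetherianSpace
import Mathlib.Tactic.Ring
import Mathlib.Tactic.LinearCombination

set_option autoImplicit false
universe u
open CAlg

namespace Groth.Agent.S6274

section aux

variable {R : Type u} [CommRing R]

open PrimeSpectrum in
theorem isOpen_disjoint_set (S : Submonoid R)
    (hcl : IsClosed {p : PrimeSpectrum R | Disjoint (S : Set R) p.asIdeal})
    (h : TopologicalSpace.NoetherianSpace (PrimeSpectrum R) ∨ S.FG) :
    IsOpen {p : PrimeSpectrum R | Disjoint (S : Set R) p.asIdeal} := by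
  rcases h with h | h
  · apply isOpen_of_stableUnderGeneralization_of_isConstructible
    · intro x y hyx hx
      rw [← le_iff_specializes] at hyx
      exact Set.disjoint_of_subset_right hyx hx
    · apply Topology.IsConstructible.of_compl
      exact IsRetrocompact.isConstructible hcl.isOpen_compl
        (fun U _ _ => TopologicalSpace.NoetherianSpace.isCompact _)
  · obtain ⟨T, hT⟩ := h
    have : {p : PrimeSpectrum R | Disjoint (S : Set R) p.asIdeal} =
        (basicOpen (∏ t ∈ T, t) : Set (PrimeSpectrum R)) := by
      ext p
      simp only [Set.mem_ofPred_eq, SetLike.mem_coe, mem_basicOpen]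
      rw [Ideal.IsPrime.prod_mem_iff]
      constructor
      · intro hd hex
        obtain ⟨t, ht, htp⟩ := hex
        have : t ∈ S := by rw [← hT]; exact Submonoid.subset_closure ht
        exact Set.disjoint_left.mp hd this htp
      · intro hne
        rw [Set.disjoint_left]
        intro s hs hsp
        have hle : S ≤ p.asIdeal.primeCompl := by
          rw [← hT, Submonoid.closure_le]
          intro t ht htp
          exact hne ⟨t, ht, htp⟩
        exact hle hs hsp
    rw [this]
    exact (basicOpen _).2

end aux

/-- Let R be a ring, S ⊆ R a multiplicative subset and A = S⁻¹R, and assume the image of Spec(A) →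
Spec(R) is closed. If Spec(R) is a Noetherian topological space (which holds when R is Noetherian)
or S is finitely generated as a monoid, then R is isomorphic to A × R' for some ring R', by an
isomorphism whose first component is the localization map R → A. -/
theorem result {R : Type u} [CommRing R] (S : Submonoid R) (A : Type u) [CommRing A] [Algebra R A] [IsLocalization S A] (hcl : IsClosed (Set.range (PrimeSpectrum.comap (algebraMap R A)))) (h : TopologicalSpace.NoetherianSpace (PrimeSpectrum R) ∨ S.FG) : ∃ (R' : Type u) (_ : CommRing R') (e : R ≃+* A × R'), ∀ x : R, (e x).1 = algebraMap R A x := by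
  have hrange := PrimeSpectrum.localization_comap_range (S := A) S
  rw [hrange] at hcl
  have hopen := isOpen_disjoint_set S hcl h
  obtain ⟨e, he, heq⟩ := PrimeSpectrum.isClopen_iff.mp ⟨hcl, hopen⟩
  have he' : e * e = e := he
  have h1 : algebraMap R A e = 1 := by
    have hid : algebraMap R A e * algebraMap R A e = algebraMap R A e := by
      rw [← map_mul, he']
    have hunit : IsUnit (algebraMap R A e) := by
      by_contra hnu
      obtain ⟨m, hm, hem⟩ := exists_max_ideal_of_mem_nonunits hnu
      have hmem : PrimeSpectrum.comap (algebraMap R A) ⟨m, hm.isPrime⟩ ∈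
          {p : PrimeSpectrum R | Disjoint (S : Set R) p.asIdeal} := by
        rw [← hrange]; exact ⟨_, rfl⟩
      rw [heq] at hmem
      exact hmem hem
    exact hunit.mul_left_cancel (by rw [hid, mul_one])
  have h2 : ∀ s ∈ S, ∃ t r : R, s * t = 1 + r * (1 - e) := by
    intro s hs
    have htop : Ideal.span {s, 1 - e} = ⊤ := by
      by_contra hne
      obtain ⟨m, hm, hle⟩ := Ideal.exists_le_maximal _ hne
      have hsm : s ∈ m := hle (Ideal.subset_span (by simp))
      have hem : 1 - e ∈ m := hle (Ideal.subset_span (by simp))
      have hen : e ∉ m := fun h' => hm.ne_top ((Ideal.eq_top_iff_one _).mpr (by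
        have := m.add_mem hem h'
        simpa using this))
      have hmem : (⟨m, hm.isPrime⟩ : PrimeSpectrum R) ∈
          (PrimeSpectrum.basicOpen e : Set (PrimeSpectrum R)) := hen
      rw [← heq] at hmem
      exact Set.disjoint_left.mp hmem hs hsm
    have h1mem : (1 : R) ∈ Ideal.span {s, 1 - e} := by rw [htop]; trivial
    rw [Ideal.mem_span_pair] at h1mem
    obtain ⟨a, b, hab⟩ := h1mem
    exact ⟨a, -b, by linear_combination hab⟩
  have hsurj : Function.Surjective (algebraMap R A) := by
    intro a
    obtain ⟨x, ⟨s, hs⟩, rfl⟩ := IsLocalization.exists_mk'_eq S a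
    obtain ⟨t, r, htr⟩ := h2 s hs
    refine ⟨x * t, ?_⟩
    rw [IsLocalization.eq_mk'_iff_mul_eq]
    have hst : algebraMap R A (s * t) = 1 := by rw [htr]; simp [h1]
    rw [← map_mul, show x * t * s = x * (s * t) by ring, map_mul, hst, mul_one]
  have hker : ∀ x, algebraMap R A x = 0 → ∃ r, x = r * (1 - e) := by
    intro x hx
    obtain ⟨⟨s, hs⟩, hsx⟩ := (IsLocalization.map_eq_zero_iff S A x).mp hx
    obtain ⟨t, r, htr⟩ := h2 s hs
    refine ⟨-(r * x), ?_⟩
    have hsx' : s * x = 0 := hsx
    linear_combination (-x) * htr + t * hsx'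
  let φ : R →+* A × (R ⧸ Ideal.span {e}) := (algebraMap R A).prod (Ideal.Quotient.mk _)
  have hbij : Function.Bijective φ := by
    constructor
    · rw [injective_iff_map_eq_zero]
      intro x hx
      have hx1 : algebraMap R A x = 0 := congrArg Prod.fst hx
      have hx2 : Ideal.Quotient.mk (Ideal.span {e}) x = 0 := congrArg Prod.snd hx
      obtain ⟨r, hr⟩ := hker x hx1
      rw [Ideal.Quotient.eq_zero_iff_mem, Ideal.mem_span_singleton'] at hx2
      obtain ⟨r', hr'⟩ := hx2
      linear_combination e * hr - (1 - e) * hr' - (r + r') * he'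
    · rintro ⟨a, z⟩
      obtain ⟨w, rfl⟩ := hsurj a
      obtain ⟨z, rfl⟩ := Ideal.Quotient.mk_surjective z
      refine ⟨w * e + z * (1 - e), ?_⟩
      have hme : Ideal.Quotient.mk (Ideal.span {e}) e = 0 :=
        Ideal.Quotient.eq_zero_iff_mem.mpr (Ideal.subset_span rfl)
      apply Prod.ext
      · change algebraMap R A (w * e + z * (1 - e)) = algebraMap R A w
        simp [h1]
      · change Ideal.Quotient.mk (Ideal.span {e}) (w * e + z * (1 - e)) = _
        simp [hme]
  exact ⟨R ⧸ Ideal.span {e}, inferInstance, RingEquiv.ofBijective φ hbij, fun x => rfl⟩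

end Groth.Agent.S6274
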