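import Groth.Statements.S6275
-- import your own Groth.Agent.* helpers here

set_option autoImplicit false
universe u
open CAlg

namespace Groth.Agent.S6275

/-- Let R be a Noetherian ring and p ⊆ R a prime. Then there is f ∈ R, f ∉ p, such that R_f → R_p is
injective; equivalently every x ∈ R mapping to zero in R_p maps to zero in R_f. (The cases of a
domain and of a reduced ring with finitely many minimal primes are not included here.) -/
theorem result {R : Type u} [CommRing R] [IsNoetherianRing R] (p : Ideal R) [p.IsPrime] : ∃ f : R, f ∉ p ∧ ∀ x : R, algebraMap R (Localization.AtPrime p) x = 0 → algebraMap R (Localization.Away f) x = 0 := by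
  classical
  obtain ⟨s, hs⟩ := (isNoetherianRing_iff_ideal_fg R).mp inferInstance
    (RingHom.ker (algebraMap R (Localization.AtPrime p)))
  have h1 : ∀ x ∈ s, ∃ t : R, t ∉ p ∧ t * x = 0 := by
    intro x hx
    have hxK : x ∈ RingHom.ker (algebraMap R (Localization.AtPrime p)) := by
      rw [← hs]
      exact Ideal.subset_span hx
    rw [RingHom.mem_ker, IsLocalization.map_eq_zero_iff p.primeCompl] at hxK
    obtain ⟨⟨t, ht⟩, htx⟩ := hxK
    exact ⟨t, ht, htx⟩
  choose! t ht htx using h1
  refine ⟨∏ x ∈ s, t x, ?_, ?_⟩
  · rw [Ideal.IsPrime.prod_mem_iff]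
    push_neg
    exact fun x hx => ht x hx
  · have h2 : ∀ z ∈ Ideal.span (s : Set R), (∏ y ∈ s, t y) * z = 0 := by
      intro z hz
      induction hz using Submodule.span_induction with
      | mem y hy =>
        obtain ⟨c, hc⟩ := Finset.dvd_prod_of_mem t hy
        rw [hc, mul_right_comm, htx y hy, zero_mul]
      | zero => simp
      | add a b _ _ ha hb => rw [mul_add, ha, hb, add_zero]
      | smul a b _ hb => rw [smul_eq_mul, mul_left_comm, hb, mul_zero]
    intro x hx
    have h2 := h2 x (by rw [hs]; exact hx)
    rw [IsLocalization.map_eq_zero_iff (Submonoid.powers (∏ y ∈ s, t y))]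
    exact ⟨⟨_, Submonoid.mem_powers _⟩, h2⟩

end Groth.Agent.S6275
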