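import Groth.Statements.S6278
import Mathlib.RingTheory.IntegralClosure.IntegrallyClosed
import Mathlib.RingTheory.Localization.FractionRing
import Mathlib.RingTheory.Localization.AtPrime.Basic
import Mathlib.RingTheory.Ideal.Maximal

set_option autoImplicit false
universe u
open CAlg

namespace Groth.Agent.S6278


theorem key (R : Type u) [CommRing R] (hR : EGA4.IsNormalRing R) (a : R) (b : nonZeroDivisors R)
    (hint : IsIntegral R (IsLocalization.mk' (FractionRing R) a b))
    (q : Ideal R) [hq : q.IsPrime] :
    ∃ r, r ∉ q ∧ ∃ y, r * a = y * b := by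
  obtain ⟨hd, hic⟩ := hR q
  -- nonzerodivisors of R map to nonzero elements of the local ring at q
  have hne : ∀ c : nonZeroDivisors R, algebraMap R (Localization.AtPrime q) c ≠ 0 := by
    intro c hc
    rw [IsLocalization.map_eq_zero_iff q.primeCompl] at hc
    obtain ⟨s, hs⟩ := hc
    have h0 : (s : R) = 0 := (mem_nonZeroDivisors_iff.1 c.2).2 _ hs
    exact s.2 (h0 ▸ q.zero_mem)
  let g : R →+* FractionRing (Localization.AtPrime q) :=
    (algebraMap (Localization.AtPrime q) (FractionRing (Localization.AtPrime q))).comp
      (algebraMap R (Localization.AtPrime q))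
  have hg : ∀ c : nonZeroDivisors R, IsUnit (g c) := by
    intro c
    refine IsUnit.mk0 _ ?_
    simp only [g, RingHom.comp_apply]
    rw [Ne, map_eq_zero_iff _ (IsFractionRing.injective (Localization.AtPrime q)
      (FractionRing (Localization.AtPrime q)))]
    exact hne c
  let φ : FractionRing R →+* FractionRing (Localization.AtPrime q) := IsLocalization.lift hg
  have hφ : ∀ r : R, φ (algebraMap R (FractionRing R) r) = g r := fun r => IsLocalization.lift_eq hg r
  -- integrality transfers
  obtain ⟨p, hpm, hp0⟩ := hint
  have hint' : IsIntegral (Localization.AtPrime q) (φ (IsLocalization.mk' (FractionRing R) a b)) := by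
    refine ⟨p.map (algebraMap R (Localization.AtPrime q)), hpm.map _, ?_⟩
    rw [Polynomial.eval₂_map]
    have h1 : (algebraMap (Localization.AtPrime q) (FractionRing (Localization.AtPrime q))).comp
        (algebraMap R (Localization.AtPrime q)) = φ.comp (algebraMap R (FractionRing R)) := by
      ext r; exact (hφ r).symm
    rw [h1, ← Polynomial.hom_eval₂, hp0, map_zero]
  obtain ⟨y', hy'⟩ := IsIntegrallyClosed.isIntegral_iff.1 hint'
  -- unfold
  have h2 : algebraMap R (Localization.AtPrime q) a =
      y' * algebraMap R (Localization.AtPrime q) b := by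
    apply IsFractionRing.injective (Localization.AtPrime q) (FractionRing (Localization.AtPrime q))
    rw [map_mul, hy']
    have h3 : IsLocalization.mk' (FractionRing R) a b * algebraMap R (FractionRing R) b =
        algebraMap R (FractionRing R) a := IsLocalization.mk'_spec _ _ _
    have h4 := congrArg φ h3
    rw [map_mul, hφ, hφ] at h4
    exact h4.symm
  obtain ⟨c, s, rfl⟩ := IsLocalization.exists_mk'_eq q.primeCompl y'
  have h5 : algebraMap R (Localization.AtPrime q) (s * a) =
      algebraMap R (Localization.AtPrime q) (c * b) := by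
    rw [map_mul, map_mul, h2, ← mul_assoc, mul_comm (algebraMap R _ (s : R)),
      IsLocalization.mk'_spec]
  obtain ⟨t, ht⟩ := (IsLocalization.eq_iff_exists q.primeCompl _).1 h5
  refine ⟨t * s, ?_, t * c, ?_⟩
  · exact fun h => (hq.mem_or_mem h).elim t.2 s.2
  · rw [mul_assoc, mul_assoc]; exact ht

/-- A normal ring R (all localizations at primes are integrally closed domains) is integrally closed in
its total ring of fractions. -/
theorem result (R : Type u) [CommRing R] (hR : EGA4.IsNormalRing R) : IsIntegrallyClosedIn R (FractionRing R) := by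
  rw [isIntegrallyClosedIn_iff]
  refine ⟨IsLocalization.injective _ le_rfl, ?_⟩
  intro x hx
  obtain ⟨a, b, rfl⟩ := IsLocalization.exists_mk'_eq (nonZeroDivisors R) x
  -- the ideal of multipliers
  let I : Ideal R :=
    { carrier := {r | ∃ y, r * a = y * b}
      add_mem' := by
        rintro r₁ r₂ ⟨y₁, h₁⟩ ⟨y₂, h₂⟩
        exact ⟨y₁ + y₂, by rw [add_mul, add_mul, h₁, h₂]⟩
      zero_mem' := ⟨0, by simp⟩
      smul_mem' := by
        rintro c r ⟨y, h⟩
        exact ⟨c * y, by rw [smul_eq_mul, mul_assoc, h, mul_assoc]⟩ }
  have hI : I = ⊤ := by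
    by_contra hne
    obtain ⟨m, hm, hIm⟩ := Ideal.exists_le_maximal I hne
    have := hm.isPrime
    obtain ⟨r, hrm, hr⟩ := key R hR a b hx m
    exact hrm (hIm hr)
  have h1 : (1 : R) ∈ I := hI ▸ Submodule.mem_top
  obtain ⟨y, hy⟩ := h1
  refine ⟨y, ?_⟩
  rw [IsLocalization.eq_mk'_iff_mul_eq, ← map_mul, ← hy, one_mul]

end Groth.Agent.S6278
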