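import Groth.Statements.S6279
import Mathlib
-- import your own Groth.Agent.* helpers here

set_option autoImplicit false
universe u
open CAlg

namespace Groth.Agent.S6279

theorem aux {ι : Type u} [Finite ι] (A : ι → Type u) [∀ i, CommRing (A i)]
    (hA : ∀ i, EGA4.IsNormalRing (A i)) (P : Ideal (∀ i, A i)) [hP : P.IsPrime] :
    IsDomain (Localization.AtPrime P) ∧ IsIntegrallyClosed (Localization.AtPrime P) := by
  classical
  obtain ⟨i, q, hq⟩ := PrimeSpectrum.exists_comap_evalRingHom_eq (⟨P, hP⟩ : PrimeSpectrum (∀ i, A i))
  have hq' : P = q.asIdeal.comap (Pi.evalRingHom A i) := by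
    have := congrArg PrimeSpectrum.asIdeal hq
    exact this.symm
  have hmem : ∀ x : (∀ i, A i), x ∈ P ↔ x i ∈ q.asIdeal := by
    intro x
    rw [hq']
    rfl
  obtain ⟨hdom, hic⟩ := hA i q.asIdeal
  let T := Localization.AtPrime q.asIdeal
  letI : Algebra (∀ i, A i) T := ((algebraMap (A i) T).comp (Pi.evalRingHom A i)).toAlgebra
  have halg : ∀ x : (∀ i, A i), algebraMap (∀ i, A i) T x = algebraMap (A i) T (x i) := fun x => rfl
  have hloc : IsLocalization P.primeCompl T := by
    refine ⟨?_, ?_, ?_⟩
    · rintro ⟨y, hy⟩
      rw [halg]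
      have hy' : y i ∈ q.asIdeal.primeCompl := fun h => hy ((hmem y).mpr h)
      exact IsLocalization.map_units T ⟨y i, hy'⟩
    · intro z
      obtain ⟨⟨a, s⟩, h⟩ := IsLocalization.surj q.asIdeal.primeCompl z
      have hs : Function.update (1 : ∀ i, A i) i (s : A i) ∈ P.primeCompl := by
        intro h'
        have h'' := (hmem _).mp h'
        rw [Function.update_self] at h''
        exact s.2 h''
      refine ⟨(Pi.single i a, ⟨_, hs⟩), ?_⟩
      simp only [halg, Function.update_self, Pi.single_eq_same]
      exact h
    · intro x y hxy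
      rw [halg, halg] at hxy
      obtain ⟨c, hc⟩ := IsLocalization.exists_of_eq (M := q.asIdeal.primeCompl) hxy
      have hc' : Pi.single i (c : A i) ∈ P.primeCompl := by
        intro h'
        have h'' := (hmem _).mp h'
        rw [Pi.single_eq_same] at h''
        exact c.2 h''
      refine ⟨⟨_, hc'⟩, ?_⟩
      ext j
      by_cases hj : j = i
      · subst hj
        simpa using hc
      · simp [Pi.single_eq_of_ne hj]
  let e : Localization.AtPrime P ≃ₐ[∀ i, A i] T :=
    IsLocalization.algEquiv P.primeCompl (Localization.AtPrime P) T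
  exact ⟨e.toRingEquiv.toMulEquiv.isDomain T,
    IsIntegrallyClosed.of_equiv (R := T) (S := Localization.AtPrime P) e.symm.toRingEquiv⟩


/-- A finite product of normal rings is normal (a ring is normal when every localization at a prime is
an integrally closed domain). -/
theorem result {ι : Type u} [Finite ι] (A : ι → Type u) [∀ i, CommRing (A i)] (hA : ∀ i, EGA4.IsNormalRing (A i)) : EGA4.IsNormalRing (∀ i, A i) := by
  intro P hP
  exact aux A hA P

end Groth.Agent.S6279
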