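import Groth.Statements.S6281
-- import your own Groth.Agent.* helpers here

set_option autoImplicit false
universe u
open CAlg
open scoped TensorProduct

namespace Groth.Agent.S6281

/-- For an R-algebra S and an S-module M, flatness of S over R follows once M is both flat over R and
faithfully flat over S. -/
theorem result {R S : Type u} [CommRing R] [CommRing S] [Algebra R S] (M : Type u) [AddCommGroup M] [Module S M] [Module R M] [IsScalarTower R S M] [Module.Flat R M] [Module.FaithfullyFlat S M] : Module.Flat R S := by
  rw [Module.Flat.iff_lTensor_preserves_injective_linearMap]
  intro N P _ _ _ _ f hf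
  let g : S ⊗[R] N →ₗ[S] S ⊗[R] P := TensorProduct.AlgebraTensorModule.map LinearMap.id f
  have hg : ∀ x, g x = f.lTensor S x := fun x => rfl
  suffices hinj : Function.Injective g by
    intro x y hxy
    exact hinj (by rw [hg, hg, hxy])
  rw [← Module.FaithfullyFlat.lTensor_injective_iff_injective S M]
  have hcomm : ∀ x, TensorProduct.AlgebraTensorModule.cancelBaseChange R S S M P (g.lTensor M x) =
      f.lTensor M (TensorProduct.AlgebraTensorModule.cancelBaseChange R S S M N x) := by
    intro x
    induction x using TensorProduct.induction_on with
    | zero => simp
    | tmul m y =>
      induction y using TensorProduct.induction_on with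
      | zero => simp
      | tmul s n => simp [g]
      | add a b ha hb => simp only [TensorProduct.tmul_add, map_add, ha, hb]
    | add a b ha hb => simp only [map_add, ha, hb]
  intro x y hxy
  have h1 := congr(TensorProduct.AlgebraTensorModule.cancelBaseChange R S S M P $hxy)
  rw [hcomm, hcomm] at h1
  have h2 := Module.Flat.lTensor_preserves_injective_linearMap (M := M) f hf h1
  exact (TensorProduct.AlgebraTensorModule.cancelBaseChange R S S M N).injective h2

end Groth.Agent.S6281
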