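import Groth.Statements.S6283
-- import your own Groth.Agent.* helpers here

set_option autoImplicit false
universe u
open scoped TensorProduct
open CAlg

namespace Groth.Agent.S6283

theorem tmul_eq_zero_iff {R S : Type u} [CommRing R] [CommRing S] [Algebra R S] [Module.Flat R S]
    {P : Type u} [AddCommGroup P] [Module R P] (g : R →ₗ[R] P) (s : S) :
    s ⊗ₜ[R] g 1 = 0 ↔ s ∈ Ideal.map (algebraMap R S) (LinearMap.ker g : Ideal R) := by
  constructor
  · intro h
    have hex := Module.Flat.lTensor_exact S (LinearMap.exact_subtype_ker_map g)
    have h1 : (g.lTensor S) (s ⊗ₜ[R] (1 : R)) = 0 := by simpa using h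
    obtain ⟨y, hy⟩ := (hex _).mp h1
    have h2 : ∀ y : S ⊗[R] (LinearMap.ker g),
        TensorProduct.rid R S ((LinearMap.ker g).subtype.lTensor S y) ∈
          Ideal.map (algebraMap R S) (LinearMap.ker g : Ideal R) := by
      intro y
      induction y using TensorProduct.induction_on with
      | zero => simp
      | tmul a k =>
        simp only [LinearMap.lTensor_tmul, Submodule.subtype_apply, TensorProduct.rid_tmul]
        rw [Algebra.smul_def]
        exact Ideal.mul_mem_right _ _ (Ideal.mem_map_of_mem _ k.2)
      | add a b ha hb =>
        simp only [map_add]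
        exact Ideal.add_mem _ ha hb
    have h3 := h2 y
    rw [hy] at h3
    simpa using h3
  · intro h
    induction h using Submodule.span_induction with
    | mem x hx =>
      obtain ⟨r, hr, rfl⟩ := hx
      have hr' : g r = 0 := hr
      rw [Algebra.algebraMap_eq_smul_one, TensorProduct.smul_tmul, ← map_smul, smul_eq_mul,
        mul_one, hr', TensorProduct.tmul_zero]
    | zero => simp
    | add a b _ _ ha hb => rw [TensorProduct.add_tmul, ha, hb, add_zero]
    | smul a b _ hb =>
      rw [← TensorProduct.smul_tmul', hb, smul_zero]

/-- Let R → S be a flat ring map, M an R-module and m ∈ M. Then Ann_R(m)S = Ann_S(1 ⊗ m), the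
annihilator in S of the element 1 ⊗ m of S ⊗_R M. If moreover M is a finite R-module then Ann_R(M)S
= Ann_S(S ⊗_R M). -/
theorem result {R S : Type u} [CommRing R] [CommRing S] [Algebra R S] [Module.Flat R S] (M : Type u) [AddCommGroup M] [Module R M] : (∀ m : M, ((Submodule.span R {m}).annihilator).map (algebraMap R S) = (Submodule.span S {(1 : S) ⊗ₜ[R] m}).annihilator) ∧ (Module.Finite R M → (Module.annihilator R M).map (algebraMap R S) = Module.annihilator S (S ⊗[R] M)) := by
  constructor
  · intro m
    ext s
    rw [Submodule.annihilator_span_singleton, ← tmul_eq_zero_iff (LinearMap.toSpanSingleton R M m) s,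
      Submodule.mem_annihilator_span_singleton]
    simp [TensorProduct.smul_tmul']
  · intro hfin
    obtain ⟨n, v, hv⟩ := Module.Finite.exists_fin (R := R) (M := M)
    let g : R →ₗ[R] (Fin n → M) := LinearMap.toSpanSingleton R (Fin n → M) v
    have hker : (LinearMap.ker g : Ideal R) = Module.annihilator R M := by
      ext r
      rw [LinearMap.mem_ker, Module.mem_annihilator]
      constructor
      · intro h x
        have hx : x ∈ Submodule.span R (Set.range v) := by rw [hv]; trivial
        induction hx using Submodule.span_induction with
        | mem y hy =>
          obtain ⟨i, rfl⟩ := hy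
          exact congr_fun h i
        | zero => simp
        | add a b _ _ ha hb => rw [smul_add, ha, hb, add_zero]
        | smul a b _ hb => rw [smul_comm, hb, smul_zero]
      · intro h
        ext i
        exact h (v i)
    ext s
    rw [← hker, ← tmul_eq_zero_iff g s, Module.mem_annihilator]
    have hg1 : g 1 = v := by simp [g]
    rw [hg1]
    constructor
    · intro h x
      have key : ∀ i, s ⊗ₜ[R] v i = 0 := by
        intro i
        have := congr((LinearMap.proj i : (Fin n → M) →ₗ[R] M).lTensor S $h)
        simpa using this
      induction x using TensorProduct.induction_on with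
      | zero => simp
      | tmul a x =>
        have hx : x ∈ Submodule.span R (Set.range v) := by rw [hv]; trivial
        induction hx using Submodule.span_induction with
        | mem y hy =>
          obtain ⟨i, rfl⟩ := hy
          rw [TensorProduct.smul_tmul', smul_eq_mul, mul_comm, ← smul_eq_mul,
            ← TensorProduct.smul_tmul', key i, smul_zero]
        | zero => simp
        | add b c _ _ hb hc => rw [TensorProduct.tmul_add, smul_add, hb, hc, add_zero]
        | smul r b _ hb => rw [TensorProduct.tmul_smul, smul_comm, hb, smul_zero]
      | add a b ha hb => rw [smul_add, ha, hb, add_zero]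
    · intro h
      have hsum : v = ∑ i, (LinearMap.single R (fun _ => M) i) (v i) := by
        ext j
        simp [Finset.sum_apply, Pi.single_apply]
      rw [hsum, TensorProduct.tmul_sum]
      apply Finset.sum_eq_zero
      intro i _
      have h1 : s ⊗ₜ[R] v i = 0 := by
        have := h ((1 : S) ⊗ₜ[R] v i)
        simpa [TensorProduct.smul_tmul'] using this
      have := congr((LinearMap.single R (fun _ => M) i).lTensor S $h1)
      simpa using this

end Groth.Agent.S6283
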