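import Groth.Statements.S6286
import Mathlib

set_option autoImplicit false
universe u
open scoped TensorProduct
open CAlg

namespace Groth.Agent.S6286

/-- Let k be a field, R and S k-algebras, S' ⊆ S a k-subalgebra and f ∈ R ⊗ₖ S', with image f again in R
⊗ₖ S. Then the images in Spec(R) of Spec((R ⊗ₖ S)_f) and of Spec((R ⊗ₖ S')_f) coincide: a prime p of
R is the contraction of a prime of R ⊗ₖ S not containing f if and only if it is the contraction of a
prime of R ⊗ₖ S' not containing f. -/
theorem result (k : Type u) [Field k] (R S : Type u) [CommRing R] [Algebra k R] [CommRing S] [Algebra k S] (S' : Subalgebra k S) (f : R ⊗[k] S') (p : PrimeSpectrum R) : (∃ q : PrimeSpectrum (R ⊗[k] S), Algebra.TensorProduct.map (AlgHom.id k R) S'.val f ∉ q.asIdeal ∧ q.asIdeal.comap (algebraMap R (R ⊗[k] S)) = p.asIdeal) ↔ (∃ q' : PrimeSpectrum (R ⊗[k] S'), f ∉ q'.asIdeal ∧ q'.asIdeal.comap (algebraMap R (R ⊗[k] S')) = p.asIdeal) := by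
  constructor
  · rintro ⟨q, hfq, hqp⟩
    refine ⟨⟨q.asIdeal.comap (Algebra.TensorProduct.map (AlgHom.id k R) S'.val), inferInstance⟩, hfq, ?_⟩
    rw [← hqp]
    ext r
    simp only [Ideal.mem_comap]
    have : (Algebra.TensorProduct.map (AlgHom.id k R) S'.val) (algebraMap R (R ⊗[k] S') r) = algebraMap R (R ⊗[k] S) r := by
      simp [Algebra.TensorProduct.algebraMap_apply]
    rw [this]
  · rintro ⟨q', hfq', hq'p⟩
    let L := q'.asIdeal.ResidueField
    let ψ : (R ⊗[k] S') →ₐ[k] L := IsScalarTower.toAlgHom k (R ⊗[k] S') L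
    let α : R →ₐ[k] L := ψ.comp Algebra.TensorProduct.includeLeft
    let β : S' →ₐ[k] L := ψ.comp Algebra.TensorProduct.includeRight
    let map1 : (R ⊗[k] S') →ₐ[k] (L ⊗[k] S') := Algebra.TensorProduct.map α (AlgHom.id k S')
    let mult : (L ⊗[k] S') →ₐ[k] L := Algebra.TensorProduct.lift (AlgHom.id k L) β (fun _ _ => Commute.all _ _)
    let incl : (L ⊗[k] S') →ₐ[k] (L ⊗[k] S) := Algebra.TensorProduct.map (AlgHom.id k L) S'.val
    let map2 : (R ⊗[k] S) →ₐ[k] (L ⊗[k] S) := Algebra.TensorProduct.map α (AlgHom.id k S)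
    have hmult : mult.comp map1 = ψ := by
      apply Algebra.TensorProduct.ext'
      intro a b
      simp [mult, map1, α, β, ← map_mul]
    have hcomm : map2.comp (Algebra.TensorProduct.map (AlgHom.id k R) S'.val) = incl.comp map1 := by
      apply Algebra.TensorProduct.ext'
      intro a b
      simp [map2, incl, map1]
    have hψf : ψ f ≠ 0 := by
      change algebraMap (R ⊗[k] S') L f ≠ 0
      rw [Ne, Ideal.algebraMap_residueField_eq_zero]
      exact hfq'
    have hincl_inj : Function.Injective incl := by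
      have : (incl : (L ⊗[k] S') → (L ⊗[k] S)) = (LinearMap.lTensor L S'.val.toLinearMap) := by
        ext x
        induction x using TensorProduct.induction_on with
        | zero => simp
        | tmul a b => simp [incl]
        | add x y hx hy => simp only [map_add, hx, hy]
      rw [this]
      exact Module.Flat.lTensor_preserves_injective_linearMap _ Subtype.val_injective
    have hnil : ¬ IsNilpotent (incl (map1 f)) := by
      rintro ⟨n, hn⟩
      rw [← map_pow] at hn
      have h0 : (map1 f) ^ n = 0 := hincl_inj (by rw [hn, map_zero])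
      have h1 : (ψ f) ^ n = 0 := by
        rw [← hmult, AlgHom.comp_apply, ← map_pow, h0, map_zero]
      exact hψf (IsReduced.eq_zero _ ⟨n, h1⟩)
    have hex : ∃ Q : Ideal (L ⊗[k] S), Q.IsPrime ∧ incl (map1 f) ∉ Q := by
      by_contra hcon
      push Not at hcon
      apply hnil
      rw [← mem_nilradical, nilradical_eq_sInf, Submodule.mem_sInf]
      intro Q hQ
      exact hcon Q hQ
    obtain ⟨Q, hQ, hfQ⟩ := hex
    refine ⟨⟨Q.comap map2, inferInstance⟩, ?_, ?_⟩
    · change map2 ((Algebra.TensorProduct.map (AlgHom.id k R) S'.val) f) ∉ Q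
      rw [← AlgHom.comp_apply, hcomm]
      exact hfQ
    · ext r
      simp only [Ideal.mem_comap]
      have h1 : map2 (algebraMap R (R ⊗[k] S) r) = algebraMap L (L ⊗[k] S) (α r) := by
        simp [map2, Algebra.TensorProduct.algebraMap_apply]
      rw [h1]
      have h2 : Q.comap (algebraMap L (L ⊗[k] S)) = ⊥ := Ideal.eq_bot_of_prime _
      have h3 : algebraMap L (L ⊗[k] S) (α r) ∈ Q ↔ α r = 0 := by
        rw [← Ideal.mem_comap, h2, Ideal.mem_bot]
      rw [h3, ← hq'p, Ideal.mem_comap]
      change algebraMap (R ⊗[k] S') L (r ⊗ₜ[k] (1 : S')) = 0 ↔ _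
      rw [Ideal.algebraMap_residueField_eq_zero]
      rfl

end Groth.Agent.S6286
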