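import Groth.Statements.S6287
import Mathlib

set_option autoImplicit false
universe u
open CAlg

namespace Groth.Agent.S6287

theorem aux2 {ι : Type u} [Preorder ι] [Nonempty ι] [IsDirected ι (· ≤ ·)] (G : ι → Type u) [∀ i, CommRing (G i)] (f : ∀ i j, i ≤ j → G i →+* G j) (x y : Ring.DirectLimit G fun i j h => f i j h) : ∃ (k : ι) (a b : G k), Ring.DirectLimit.of G (fun i j h => f i j h) k a = x ∧ Ring.DirectLimit.of G (fun i j h => f i j h) k b = y := by
  obtain ⟨i, a, rfl⟩ := Ring.DirectLimit.exists_of x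
  obtain ⟨j, b, rfl⟩ := Ring.DirectLimit.exists_of y
  obtain ⟨k, hik, hjk⟩ := exists_ge_ge i j
  exact ⟨k, f i k hik a, f j k hjk b, Ring.DirectLimit.of_f (f := fun i j h => f i j h) hik a, Ring.DirectLimit.of_f (f := fun i j h => f i j h) hjk b⟩

/-- Let (A_i) be a directed system of valuation rings. Then the colimit A = colim A_i is a valuation
ring (in particular a domain). -/
theorem result {ι : Type u} [Preorder ι] [Nonempty ι] [IsDirected ι (· ≤ ·)] (G : ι → Type u) [∀ i, CommRing (G i)] [∀ i, IsDomain (G i)] [∀ i, ValuationRing (G i)] (f : ∀ i j, i ≤ j → G i →+* G j) [DirectedSystem G fun i j h => f i j h] : ∃ _ : IsDomain (Ring.DirectLimit G fun i j h => f i j h), ValuationRing (Ring.DirectLimit G fun i j h => f i j h) := by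
  have hnt : Nontrivial (Ring.DirectLimit G fun i j h => f i j h) := by
    refine ⟨⟨0, 1, ?_⟩⟩
    obtain ⟨i⟩ := (inferInstance : Nonempty ι)
    intro H
    rw [← (Ring.DirectLimit.of G (fun i j h => f i j h) i).map_one] at H
    obtain ⟨j, hij, hf⟩ := Ring.DirectLimit.of.zero_exact H.symm
    rw [(f i j hij).map_one] at hf
    exact one_ne_zero hf
  have hnzd : NoZeroDivisors (Ring.DirectLimit G fun i j h => f i j h) := by
    refine ⟨?_⟩
    intro x y hxy
    obtain ⟨k, a, b, rfl, rfl⟩ := aux2 G f x y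
    rw [← map_mul] at hxy
    obtain ⟨l, hkl, hl⟩ := Ring.DirectLimit.of.zero_exact hxy
    rw [map_mul] at hl
    rcases mul_eq_zero.mp hl with h | h
    · left
      rw [← Ring.DirectLimit.of_f (f := fun i j h => f i j h) hkl a, h, map_zero]
    · right
      rw [← Ring.DirectLimit.of_f (f := fun i j h => f i j h) hkl b, h, map_zero]
  have hdom : IsDomain (Ring.DirectLimit G fun i j h => f i j h) := NoZeroDivisors.to_isDomain _
  refine ⟨hdom, ?_⟩
  refine @ValuationRing.mk _ _ _ ⟨?_⟩
  intro x y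
  obtain ⟨k, a, b, rfl, rfl⟩ := aux2 G f x y
  obtain ⟨c, hc | hc⟩ := ValuationRing.cond a b
  · exact ⟨Ring.DirectLimit.of G (fun i j h => f i j h) k c, Or.inl (by rw [← map_mul, hc])⟩
  · exact ⟨Ring.DirectLimit.of G (fun i j h => f i j h) k c, Or.inr (by rw [← map_mul, hc])⟩

end Groth.Agent.S6287
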