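import Groth.Statements.S6289
import Mathlib

set_option autoImplicit false
universe u
open CAlg

namespace Groth.Agent.S6289

theorem aux (A' : Type u) [CommRing A'] [IsDomain A'] [ValuationRing A'] (A : ValuationSubring (IsLocalRing.ResidueField A')) (c : A') :
    (IsLocalRing.residue A' c ∈ A) ∨ (∃ d : A', c * d = 1 ∧ IsLocalRing.residue A' d ∈ A) := by
  by_cases hc : IsUnit c
  · obtain ⟨u, rfl⟩ := hc
    rcases A.mem_or_inv_mem (IsLocalRing.residue A' u) with h | h
    · exact Or.inl h
    · right
      refine ⟨(u⁻¹ : A'ˣ), by simp, ?_⟩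
      have : IsLocalRing.residue A' ((u⁻¹ : A'ˣ) : A') = (IsLocalRing.residue A' (u : A'))⁻¹ := by
        have h1 : IsLocalRing.residue A' (u : A') * IsLocalRing.residue A' ((u⁻¹ : A'ˣ) : A') = 1 := by
          rw [← map_mul]; simp
        exact eq_inv_of_mul_eq_one_right h1
      rw [this]
      exact h
  · left
    have : IsLocalRing.residue A' c = 0 := by
      rw [IsLocalRing.residue_eq_zero_iff]
      exact (IsLocalRing.mem_maximalIdeal c).mpr hc
    rw [this]
    exact A.zero_mem

/-- Let A' be a valuation ring with residue field K and A ⊆ K a valuation ring with fraction field K.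
Then the subring C of A' consisting of the elements whose residue class lies in A is a valuation
ring. -/
theorem result (A' : Type u) [CommRing A'] [IsDomain A'] [ValuationRing A'] (A : ValuationSubring (IsLocalRing.ResidueField A')) : ValuationRing (A.toSubring.comap (IsLocalRing.residue A')) := by
  refine @ValuationRing.mk _ _ _ ⟨?_⟩
  rintro ⟨a, ha⟩ ⟨b, hb⟩
  by_cases ha0 : a = 0
  · subst ha0
    exact ⟨0, Or.inr (by ext; simp)⟩
  by_cases hb0 : b = 0
  · subst hb0
    exact ⟨0, Or.inl (by ext; simp)⟩
  obtain ⟨c, hc | hc⟩ := ValuationRing.cond a b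
  · rcases aux A' A c with h | ⟨d, hcd, hd⟩
    · exact ⟨⟨c, h⟩, Or.inl (by ext; exact hc)⟩
    · refine ⟨⟨d, hd⟩, Or.inr ?_⟩
      ext
      change b * d = a
      rw [← hc, mul_assoc, hcd, mul_one]
  · rcases aux A' A c with h | ⟨d, hcd, hd⟩
    · exact ⟨⟨c, h⟩, Or.inr (by ext; exact hc)⟩
    · refine ⟨⟨d, hd⟩, Or.inl ?_⟩
      ext
      change a * d = b
      rw [← hc, mul_assoc, hcd, mul_one]

end Groth.Agent.S6289
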