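import Groth.Statements.S6291
import Mathlib

set_option autoImplicit false
universe u
open CAlg

namespace Groth.Agent.S6291

/-- Let R be a local ring with maximal ideal m and M an R-module of finite length. Then mⁿM = 0 for some
n. -/
theorem result {R : Type u} [CommRing R] [IsLocalRing R] (M : Type u) [AddCommGroup M] [Module R M] (hM : IsFiniteLength R M) : ∃ n : ℕ, (IsLocalRing.maximalIdeal R) ^ n • (⊤ : Submodule R M) = ⊥ := by
  rw [isFiniteLength_iff_isNoetherian_isArtinian] at hM
  obtain ⟨hN, hA⟩ := hM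
  let f : ℕ →o (Submodule R M)ᵒᵈ :=
    ⟨fun n => OrderDual.toDual ((IsLocalRing.maximalIdeal R) ^ n • (⊤ : Submodule R M)), by
      intro a b hab
      change (IsLocalRing.maximalIdeal R) ^ b • (⊤ : Submodule R M) ≤ (IsLocalRing.maximalIdeal R) ^ a • (⊤ : Submodule R M)
      exact Submodule.smul_mono_left (Ideal.pow_le_pow_right hab)⟩
  obtain ⟨n, hn⟩ := IsArtinian.monotone_stabilizes f
  refine ⟨n, ?_⟩
  have h1 : (IsLocalRing.maximalIdeal R) ^ n • (⊤ : Submodule R M) = (IsLocalRing.maximalIdeal R) ^ (n + 1) • (⊤ : Submodule R M) := 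
    congrArg OrderDual.ofDual (hn (n + 1) (Nat.le_succ n))
  apply Submodule.eq_bot_of_le_smul_of_le_jacobson_bot (IsLocalRing.maximalIdeal R) _ (IsNoetherian.noetherian _)
  · conv_lhs => rw [h1]
    rw [pow_succ', mul_smul]
  · exact IsLocalRing.maximalIdeal_le_jacobson _

end Groth.Agent.S6291
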