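import Groth.Statements.S6292
import Mathlib

set_option autoImplicit false
universe u
open CAlg

namespace Groth.Agent.S6292

theorem aux1 {R : Type u} [CommRing R] (m : Ideal R) [m.IsMaximal] (P : Type u) [AddCommGroup P] [Module R P] [Module.Finite R P] (h : Module.IsTorsionBySet R P m) : IsFiniteLength R P := by
  let _ := h.module
  let _ : Field (R ⧸ m) := Ideal.Quotient.field m
  have h1 : IsSemisimpleModule (R ⧸ m) P := inferInstance
  have h2 : IsSemisimpleModule R P := h.isSemisimpleModule_iff.mp h1
  exact (IsSemisimpleModule.finite_tfae.out 0 3).mp ‹_›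

theorem aux2 {R : Type u} [CommRing R] (m : Ideal R) [m.IsMaximal] (hm : m.FG) : ∀ (n : ℕ) (M : Type u) [AddCommGroup M] [Module R M] [Module.Finite R M], m ^ n • (⊤ : Submodule R M) = ⊥ → IsFiniteLength R M := by
  intro n
  induction n with
  | zero =>
    intro M _ _ _ h
    rw [pow_zero, Ideal.one_eq_top, Submodule.top_smul] at h
    have : Subsingleton M := by
      rw [← Submodule.subsingleton_iff R, ← subsingleton_iff_bot_eq_top]
      exact h.symm
    exact .of_subsingleton
  | succ n ih =>
    intro M _ _ _ h
    let N : Submodule R M := m • ⊤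
    have hNfg : N.FG := Submodule.FG.smul hm (Module.Finite.fg_top)
    have : Module.Finite R N := Module.Finite.iff_fg.mpr hNfg
    have hN : m ^ n • (⊤ : Submodule R N) = ⊥ := by
      apply Submodule.map_injective_of_injective N.injective_subtype
      rw [Submodule.map_smul'', Submodule.map_top, Submodule.range_subtype, Submodule.map_bot]
      change m ^ n • (m • ⊤) = ⊥
      rw [← mul_smul, ← pow_succ, h]
    have h1 : IsFiniteLength R N := ih N hN
    have h2 : IsFiniteLength R (M ⧸ N) := 
      aux1 m (M ⧸ N) (Module.isTorsionBySet_quotient_ideal_smul M m)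
    rw [isFiniteLength_iff_isNoetherian_isArtinian] at h1 h2 ⊢
    exact ⟨(isNoetherian_iff_submodule_quotient N).mpr ⟨h1.1, h2.1⟩,
      (isArtinian_iff_submodule_quotient N).mpr ⟨h1.2, h2.2⟩⟩

/-- Let R be a ring and m ⊆ R a finitely generated maximal ideal (for instance R Noetherian). If M is a
finite R-module with mⁿM = 0 for some n, then M has finite length. -/
theorem result {R : Type u} [CommRing R] (m : Ideal R) [m.IsMaximal] (hm : m.FG) (M : Type u) [AddCommGroup M] [Module R M] [Module.Finite R M] (n : ℕ) (hn : m ^ n • (⊤ : Submodule R M) = ⊥) : IsFiniteLength R M := by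
  exact aux2 m hm n M hn

end Groth.Agent.S6292
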