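import Groth.Statements.S6294
import Mathlib

set_option autoImplicit false
universe u
open CAlg

namespace Groth.Agent.S6294

/-- Let R be a ring with finitely many minimal primes q₁, …, q_t, and assume that the zerodivisors of R
are precisely the elements of q₁ ∪ … ∪ q_t. Then Q(R), the total ring of fractions of R, equals
R_{q₁} × … × R_{q_t}: the diagonal map R → ∏ R_{q_i} is a localization of R at its non-zerodivisors. -/
theorem result {R : Type u} [CommRing R] {ι : Type} [Fintype ι] (q : ι → Ideal R) [∀ i, (q i).IsPrime] (hinj : Function.Injective q) (hmin : ∀ P : Ideal R, P ∈ minimalPrimes R ↔ P ∈ Set.range q) (hzd : ∀ x : R, x ∈ nonZeroDivisors R ↔ ∀ i, x ∉ q i) : IsLocalization (nonZeroDivisors R) (∀ i, Localization.AtPrime (q i)) := by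
  classical
  have hqmin : ∀ i, q i ∈ minimalPrimes R := fun i => (hmin _).mpr ⟨i, rfl⟩
  have hnle : ∀ i j, j ≠ i → ¬ q j ≤ q i := by
    intro i j hji hle
    have : q i ≤ q j := (hqmin i).2 ⟨inferInstance, bot_le⟩ hle
    exact hji (hinj (le_antisymm hle this))
  have he₀ : ∀ i, ∃ e : R, e ∉ q i ∧ ∀ j, j ≠ i → e ∈ q j := by
    intro i
    have hprod : ¬ (∏ j ∈ Finset.univ.erase i, q j) ≤ q i := by
      rw [(inferInstance : (q i).IsPrime).prod_le]
      rintro ⟨j, hj, hle⟩
      exact hnle i j (Finset.ne_of_mem_erase hj) hle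
    obtain ⟨e, he, hei⟩ := SetLike.not_le_iff_exists.mp hprod
    refine ⟨e, hei, fun j hj => ?_⟩
    have hjmem : j ∈ Finset.univ.erase i := Finset.mem_erase.mpr ⟨hj, Finset.mem_univ j⟩
    have h2 : (∏ j ∈ Finset.univ.erase i, q j) ≤ q j := by
      rw [← Finset.mul_prod_erase _ _ hjmem]
      exact Ideal.mul_le_left (I := q j) (J := ∏ x ∈ (Finset.univ.erase i).erase j, q x)
    exact h2 he
  choose e₀ he₀i he₀j using he₀
  have hnil : ∀ i j, ∃ n : ℕ, i ≠ j → (e₀ i * e₀ j) ^ n = 0 := by
    intro i j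
    by_cases hij : i = j
    · exact ⟨0, fun h => absurd hij h⟩
    · have hmem : e₀ i * e₀ j ∈ nilradical R := by
        rw [nilradical_eq_sInf, Submodule.mem_sInf]
        intro P hP
        have hP' : Ideal.IsPrime P := hP
        obtain ⟨Q, hQ, hQP⟩ := Ideal.exists_minimalPrimes_le (I := ⊥) (J := P) bot_le
        obtain ⟨k, rfl⟩ := (hmin Q).mp hQ
        apply hQP
        by_cases hki : k = i
        · subst hki
          exact Ideal.mul_mem_left _ _ (he₀j j k hij)
        · exact Ideal.mul_mem_right _ _ (he₀j i k hki)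
      obtain ⟨n, hn⟩ := hmem
      exact ⟨n, fun _ => hn⟩
  choose n hn using hnil
  let N : ℕ := ∑ i, ∑ j, n i j
  let e : ι → R := fun i => e₀ i ^ N
  have hei : ∀ i, e i ∉ q i := fun i h => he₀i i ((inferInstance : (q i).IsPrime).mem_of_pow_mem N h)
  have hle : ∀ i j, n i j ≤ N := by
    intro i j
    calc n i j ≤ ∑ j', n i j' := Finset.single_le_sum (f := fun j' => n i j') (fun _ _ => Nat.zero_le _) (Finset.mem_univ j)
      _ ≤ N := Finset.single_le_sum (f := fun i' => ∑ j', n i' j') (fun _ _ => Nat.zero_le _) (Finset.mem_univ i)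
  have horth : ∀ i j, i ≠ j → e i * e j = 0 := by
    intro i j hij
    change e₀ i ^ N * e₀ j ^ N = 0
    rw [← mul_pow]
    exact pow_eq_zero_of_le (hle i j) (hn i j hij)
  have hej : ∀ i j, j ≠ i → e i ∈ q j := by
    intro i j hji
    by_cases hN : N = 0
    · exfalso
      have h1 := horth i j (Ne.symm hji)
      change e₀ i ^ N * e₀ j ^ N = 0 at h1
      rw [hN, pow_zero, pow_zero, one_mul] at h1
      have : (1 : R) ∈ q i := by rw [h1]; exact (q i).zero_mem
      exact (Ideal.IsPrime.ne_top inferInstance) ((Ideal.eq_top_iff_one _).mpr this)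
    · exact Ideal.pow_mem_of_mem _ (he₀j i j hji) N (Nat.pos_of_ne_zero hN)
  -- in the localization at q i, e j ↦ 0 for j ≠ i
  have hloc0 : ∀ i j, j ≠ i → algebraMap R (Localization.AtPrime (q i)) (e j) = 0 := by
    intro i j hji
    rw [IsLocalization.map_eq_zero_iff (q i).primeCompl]
    exact ⟨⟨e i, hei i⟩, horth i j (Ne.symm hji)⟩
  have hsum : ∀ (c : ι → R) (i : ι), algebraMap R (Localization.AtPrime (q i)) (∑ j, c j * e j) =
      algebraMap R (Localization.AtPrime (q i)) (c i * e i) := by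
    intro c i
    rw [map_sum]
    rw [Finset.sum_eq_single i]
    · intro j _ hji
      rw [map_mul, hloc0 i j hji, mul_zero]
    · intro h; exact absurd (Finset.mem_univ i) h
  have hnzd : ∀ (c : ι → R), (∀ i, c i ∉ q i) → (∑ j, c j * e j) ∈ nonZeroDivisors R := by
    intro c hc
    rw [hzd]
    intro i hmem
    have h1 : ∑ j, c j * e j = c i * e i + ∑ j ∈ Finset.univ.erase i, c j * e j := by
      exact (Finset.add_sum_erase Finset.univ (fun j => c j * e j) (Finset.mem_univ i)).symm
    have h2 : ∑ j ∈ Finset.univ.erase i, c j * e j ∈ q i :=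
      Ideal.sum_mem _ fun j hj => Ideal.mul_mem_left _ _ (hej j i (Finset.ne_of_mem_erase hj).symm)
    have h3 : c i * e i ∈ q i := by
      have : c i * e i = (∑ j, c j * e j) - ∑ j ∈ Finset.univ.erase i, c j * e j := by
        rw [h1]; ring
      rw [this]
      exact (q i).sub_mem hmem h2
    rcases (inferInstance : (q i).IsPrime).mem_or_mem h3 with h | h
    · exact hc i h
    · exact hei i h
  rw [isLocalization_iff]
  refine ⟨?_, ?_, ?_⟩
  · rintro ⟨y, hy⟩
    rw [Pi.isUnit_iff]
    intro i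
    rw [Pi.algebraMap_apply]
    exact IsLocalization.map_units (Localization.AtPrime (q i)) (⟨y, (hzd y).mp hy i⟩ : (q i).primeCompl)
  · intro z
    have hz : ∀ i, ∃ (a : R) (s : R), s ∉ q i ∧ z i * algebraMap R _ s = algebraMap R _ a := by
      intro i
      obtain ⟨⟨a, s⟩, h⟩ := IsLocalization.surj (q i).primeCompl (z i)
      exact ⟨a, s, s.2, h⟩
    choose a s hs hz using hz
    refine ⟨(∑ j, a j * e j, ⟨∑ j, s j * e j, hnzd s hs⟩), ?_⟩
    funext i
    simp only [Pi.mul_apply, Pi.algebraMap_apply]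
    rw [hsum s i, hsum a i, map_mul, map_mul, ← mul_assoc, hz i]
  · intro x y hxy
    have hz : ∀ i, ∃ t : R, t ∉ q i ∧ t * x = t * y := by
      intro i
      have := congrFun hxy i
      rw [Pi.algebraMap_apply, Pi.algebraMap_apply] at this
      obtain ⟨t, ht⟩ := (IsLocalization.eq_iff_exists (q i).primeCompl _).mp this
      exact ⟨t, t.2, ht⟩
    choose t ht htxy using hz
    refine ⟨⟨∑ j, t j * e j, hnzd t ht⟩, ?_⟩
    change (∑ j, t j * e j) * x = (∑ j, t j * e j) * y
    rw [Finset.sum_mul, Finset.sum_mul]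
    refine Finset.sum_congr rfl fun j _ => ?_
    rw [mul_right_comm, htxy j, mul_right_comm]

end Groth.Agent.S6294
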