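import Groth.Statements.S6295
import Mathlib

set_option autoImplicit false
universe u
open CAlg

namespace Groth.Agent.S6295

theorem aux_exists {R : Type u} [CommRing R] [IsReduced R] (y : R) (hy : y ≠ 0) : ∃ p ∈ minimalPrimes R, y ∉ p := by
  by_contra h
  push Not at h
  apply hy
  have h1 : y ∈ sInf (minimalPrimes R) := by
    rw [Submodule.mem_sInf]
    exact h
  have h2 : sInf (minimalPrimes R) = (⊥ : Ideal R).radical := Ideal.sInf_minimalPrimes
  rw [h2] at h1
  have h3 : (⊥ : Ideal R).radical = nilradical R := rfl
  rw [h3, nilradical_eq_zero] at h1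
  exact h1

/-- Let R be a reduced ring. Then every localization R_p at a minimal prime p is a field and the map R →
∏_{p minimal} R_p is injective (so R is a subring of a product of fields); moreover the set of
zerodivisors of R is the union of the minimal primes. -/
theorem result (R : Type u) [CommRing R] [IsReduced R] : (∀ p : PrimeSpectrum R, p.asIdeal ∈ minimalPrimes R → IsField (Localization.AtPrime p.asIdeal)) ∧ Function.Injective (algebraMap R (∀ p : {p : PrimeSpectrum R // p.asIdeal ∈ minimalPrimes R}, Localization.AtPrime p.1.asIdeal)) ∧ (∀ x : R, x ∉ nonZeroDivisors R ↔ ∃ p ∈ minimalPrimes R, x ∈ p) := by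
  refine ⟨?_, ?_, ?_⟩
  · intro p hp
    rw [IsLocalRing.isField_iff_maximalIdeal_eq]
    have h1 := IsLocalization.AtPrime.radical_map_of_mem_minimalPrimes (A := Localization.AtPrime p.asIdeal) p.asIdeal ⊥ hp
    rw [Ideal.map_bot] at h1
    have h2 : (⊥ : Ideal (Localization.AtPrime p.asIdeal)).radical = ⊥ := by
      exact nilradical_eq_zero _
    rw [h2] at h1
    rw [← Localization.AtPrime.map_eq_maximalIdeal]
    exact h1.symm
  · rw [injective_iff_map_eq_zero]
    intro x hx
    by_contra hne
    obtain ⟨p, hp, hxp⟩ := aux_exists x hne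
    have hpp : p.IsPrime := hp.1.1
    have h1 := congrFun hx ⟨⟨p, hpp⟩, hp⟩
    rw [Pi.algebraMap_apply, Pi.zero_apply] at h1
    rw [IsLocalization.map_eq_zero_iff p.primeCompl] at h1
    obtain ⟨s, hs⟩ := h1
    have : (s : R) * x ∈ p := by rw [hs]; exact p.zero_mem
    rcases hpp.mem_or_mem this with h | h
    · exact s.2 h
    · exact hxp h
  · intro x
    constructor
    · intro hx
      rw [mem_nonZeroDivisors_iff_right] at hx
      push Not at hx
      obtain ⟨y, hxy, hy⟩ := hx
      obtain ⟨p, hp, hyp⟩ := aux_exists y hy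
      refine ⟨p, hp, ?_⟩
      have hpp : p.IsPrime := hp.1.1
      have : x * y ∈ p := by rw [mul_comm, hxy]; exact p.zero_mem
      exact (hpp.mem_or_mem this).resolve_right hyp
    · rintro ⟨p, hp, hxp⟩
      exact notMem_nonZeroDivisors_of_mem_mem_minimalPrimes hxp hp

end Groth.Agent.S6295
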