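import Groth.Statements.S6297
import Mathlib.LinearAlgebra.Matrix.Adjugate
import Mathlib.LinearAlgebra.Matrix.Determinant.Basic
import Mathlib.Tactic

set_option autoImplicit false
universe u
open CAlg

namespace Groth.Agent.S6297

open Matrix

theorem det_mul_expand {R : Type u} [CommRing R] {n m : ℕ} (B : Matrix (Fin m) (Fin n) R)
    (A : Matrix (Fin n) (Fin m) R) :
    (B * A).det = ∑ r : Fin m → Fin n, (∏ k, B k (r k)) * (A.submatrix r id).det := by
  have h1 : (B * A) = Matrix.of (fun k => ∑ i, B k i • A i) := by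
    ext k j
    simp [Matrix.mul_apply, Finset.sum_apply]
  rw [h1]
  change (Matrix.detRowAlternating : (Fin m → R) [⋀^Fin m]→ₗ[R] R).toMultilinearMap
    (fun k => ∑ i, B k i • A i) = _
  rw [MultilinearMap.map_sum]
  refine Finset.sum_congr rfl fun r _ => ?_
  rw [MultilinearMap.map_smul_univ]
  rfl

theorem minor_scalar {R : Type u} [CommRing R] {n m : ℕ} (A : Matrix (Fin n) (Fin m) R)
    (r : Fin m → Fin n) (c : Fin m → Fin m) :
    ∃ s : R, (A.submatrix r c).det = s * (A.submatrix r id).det := by
  by_cases hc : Function.Injective c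
  · have hb : Function.Bijective c := Finite.injective_iff_bijective.1 hc
    let σ : Equiv.Perm (Fin m) := Equiv.ofBijective c hb
    refine ⟨(Equiv.Perm.sign σ : ℤ), ?_⟩
    have : A.submatrix r c = (A.submatrix r id).submatrix id σ := by
      ext i j; rfl
    rw [this, Matrix.det_permute']
  · refine ⟨0, ?_⟩
    rw [zero_mul]
    unfold Function.Injective at hc
    push Not at hc
    obtain ⟨i, j, hij, hne⟩ := hc
    exact Matrix.det_zero_of_column_eq hne (fun k => by simp [hij])

/-- Let R be a ring, m ≤ n, A an n × m matrix over R and J the ideal generated by the m × m minors of A.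
(1) For every f ∈ J there is an m × n matrix B with BA = f · 1. (2) If BA = f · 1 for some m × n
matrix B, then f^m ∈ J. -/
theorem result {R : Type u} [CommRing R] {n m : ℕ} (hmn : m ≤ n) (A : Matrix (Fin n) (Fin m) R) : (∀ f ∈ CAlgX.minorIdeal A m, ∃ B : Matrix (Fin m) (Fin n) R, B * A = f • (1 : Matrix (Fin m) (Fin m) R)) ∧ (∀ (f : R) (B : Matrix (Fin m) (Fin n) R), B * A = f • (1 : Matrix (Fin m) (Fin m) R) → f ^ m ∈ CAlgX.minorIdeal A m) := by
  constructor
  · intro f hf
    unfold CAlgX.minorIdeal at hf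
    induction hf using Submodule.span_induction with
    | mem x hx =>
      obtain ⟨⟨r, c⟩, rfl⟩ := hx
      obtain ⟨s, hs⟩ := minor_scalar A r c
      refine ⟨s • ((A.submatrix r id).adjugate * (1 : Matrix (Fin n) (Fin n) R).submatrix r id), ?_⟩
      have hP : (1 : Matrix (Fin n) (Fin n) R).submatrix r id * A = A.submatrix r id := by
        ext i j
        simp [Matrix.mul_apply, Matrix.one_apply]
      dsimp only
      rw [Matrix.smul_mul, Matrix.mul_assoc, hP, Matrix.adjugate_mul, hs, smul_smul]
    | zero => exact ⟨0, by simp⟩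
    | add x y _ _ hx hy =>
      obtain ⟨B₁, h₁⟩ := hx
      obtain ⟨B₂, h₂⟩ := hy
      exact ⟨B₁ + B₂, by rw [Matrix.add_mul, h₁, h₂, add_smul]⟩
    | smul a x _ hx =>
      obtain ⟨B₁, h₁⟩ := hx
      exact ⟨a • B₁, by rw [Matrix.smul_mul, h₁, smul_smul, smul_eq_mul]⟩
  · intro f B hB
    have h1 : (B * A).det = f ^ m := by
      rw [hB, Matrix.det_smul, Matrix.det_one, mul_one, Fintype.card_fin]
    rw [← h1, det_mul_expand]
    refine Ideal.sum_mem _ fun r _ => Ideal.mul_mem_left _ _ ?_
    exact Ideal.subset_span ⟨(r, id), rfl⟩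

end Groth.Agent.S6297
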