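import Groth.Statements.S6298
import Mathlib

set_option autoImplicit false
universe u
open CAlg

namespace Groth.Agent.S6298

theorem aux {R : Type u} [CommRing R] (I : Ideal R) : ∀ (n : ℕ) (s : Finset (Ideal R)), s.card = n → (∀ p ∈ s, p.IsPrime) → ∀ x : R, (∀ p ∈ s, ∃ y ∈ I, x + y ∉ p) → ∃ y ∈ I, ∀ p ∈ s, x + y ∉ p := by
  classical
  intro n
  induction n with
  | zero =>
    intro s hs _ x _
    rw [Finset.card_eq_zero] at hs
    subst hs
    exact ⟨0, I.zero_mem, by simp⟩
  | succ n ih =>
    intro s hs hprime x h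
    have hne : s.Nonempty := by
      rw [← Finset.card_pos]; omega
    obtain ⟨q, hq⟩ := Finset.exists_minimal hne
    have hqs : q ∈ s := hq.prop
    set t := s.erase q with ht
    have htcard : t.card = n := by
      rw [ht, Finset.card_erase_of_mem hqs, hs]; rfl
    have hts : ∀ p ∈ t, p ∈ s := fun p hp => Finset.mem_of_mem_erase hp
    obtain ⟨y₀, hy₀I, hy₀⟩ := ih t htcard (fun p hp => hprime p (hts p hp)) x
      (fun p hp => h p (hts p hp))
    have hqprime : q.IsPrime := hprime q hqs
    by_cases hxq : x + y₀ ∈ q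
    · -- I ⊄ q
      have hIq : ¬ I ≤ q := by
        intro hle
        obtain ⟨y, hyI, hy⟩ := h q hqs
        apply hy
        have : x + y = (x + y₀) + (y - y₀) := by ring
        rw [this]
        exact q.add_mem hxq (hle (I.sub_mem hyI hy₀I))
      have hpq : ∀ p ∈ t, ¬ p ≤ q := by
        intro p hp hle
        have hps : p ∈ s := hts p hp
        have hne : p ≠ q := Finset.ne_of_mem_erase hp
        exact hne (le_antisymm hle (hq.le_of_le hps hle))
      have hprod : ¬ I * (∏ p ∈ t, p) ≤ q := by
        rw [hqprime.mul_le, hqprime.prod_le]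
        rintro (h1 | ⟨p, hp, hle⟩)
        · exact hIq h1
        · exact hpq p hp hle
      obtain ⟨z, hz, hzq⟩ := SetLike.not_le_iff_exists.mp hprod
      have hzI : z ∈ I := (Ideal.mul_le_left (I := I) (J := ∏ p ∈ t, p)) hz
      have hzt : ∀ p ∈ t, z ∈ p := by
        intro p hp
        have h1 : z ∈ (∏ p ∈ t, p) := (Ideal.mul_le_right (I := I) (J := ∏ p ∈ t, p)) hz
        have h2 : (∏ p ∈ t, p) ≤ p := by
          rw [← Finset.mul_prod_erase t _ hp]
          exact Ideal.mul_le_left (I := p) (J := ∏ x ∈ t.erase p, x)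
        exact h2 h1
      refine ⟨y₀ + z, I.add_mem hy₀I hzI, ?_⟩
      intro p hp
      by_cases hpq' : p = q
      · subst hpq'
        intro hmem
        apply hzq
        have : z = (x + (y₀ + z)) - (x + y₀) := by ring
        rw [this]
        exact p.sub_mem hmem hxq
      · have hpt : p ∈ t := Finset.mem_erase.mpr ⟨hpq', hp⟩
        intro hmem
        apply hy₀ p hpt
        have : x + y₀ = (x + (y₀ + z)) - z := by ring
        rw [this]
        exact p.sub_mem hmem (hzt p hpt)
    · refine ⟨y₀, hy₀I, ?_⟩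
      intro p hp
      by_cases hpq' : p = q
      · subst hpq'; exact hxq
      · exact hy₀ p (Finset.mem_erase.mpr ⟨hpq', hp⟩)

/-- Let R be a ring, x ∈ R, I ⊆ R an ideal and p₁, …, p_r prime ideals such that for each i the coset x
+ I is not contained in p_i. Then there is y ∈ I with x + y ∉ p_i for all i. -/
theorem result {R : Type u} [CommRing R] (x : R) (I : Ideal R) {r : ℕ} (p : Fin r → Ideal R) [∀ i, (p i).IsPrime] (h : ∀ i, ∃ y ∈ I, x + y ∉ p i) : ∃ y ∈ I, ∀ i, x + y ∉ p i := by
  classical
  obtain ⟨y, hy, hy'⟩ := aux I _ (Finset.univ.image p) rfl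
    (by
      intro q hq
      obtain ⟨i, -, rfl⟩ := Finset.mem_image.mp hq
      infer_instance) x
    (by
      intro q hq
      obtain ⟨i, -, rfl⟩ := Finset.mem_image.mp hq
      exact h i)
  exact ⟨y, hy, fun i => hy' (p i) (Finset.mem_image_of_mem p (Finset.mem_univ i))⟩

end Groth.Agent.S6298
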