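import Groth.Statements.S6300
import Mathlib
-- import your own Groth.Agent.* helpers here

set_option autoImplicit false
universe u
open CAlg

namespace Groth.Agent.S6300

open Polynomial in
attribute [local instance] Polynomial.algebra in
theorem aux (R : Type u) [CommRing R] (hR : EGA4.IsNormalRing R) (P : Ideal R[X]) [hP : P.IsPrime] :
    IsDomain (Localization.AtPrime P) ∧ IsIntegrallyClosed (Localization.AtPrime P) := by
  let p : Ideal R := P.comap (C : R →+* R[X])
  have hp : p.IsPrime := Ideal.comap_isPrime _ _
  obtain ⟨hdom, hic⟩ := hR p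
  let S := Localization.AtPrime p
  have hloc : IsLocalization (p.primeCompl.map (C : R →+* R[X])) S[X] :=
    Polynomial.isLocalization p.primeCompl S
  have hdisj : Disjoint ((p.primeCompl.map (C : R →+* R[X]) : Submonoid R[X]) : Set R[X])
      (P : Set R[X]) := by
    rw [Set.disjoint_left]
    rintro _ ⟨r, hr, rfl⟩ hrP
    exact hr hrP
  let P' : Ideal S[X] := P.map (algebraMap R[X] S[X])
  have hP' : P'.IsPrime :=
    IsLocalization.isPrime_of_isPrime_disjoint (p.primeCompl.map (C : R →+* R[X])) S[X] P hP hdisj
  have hcomap : P'.comap (algebraMap R[X] S[X]) = P :=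
    IsLocalization.under_map_of_isPrime_disjoint (p.primeCompl.map (C : R →+* R[X])) S[X] hP hdisj
  let T := Localization.AtPrime P'
  have h1 : IsLocalization.AtPrime T (P'.comap (algebraMap R[X] S[X])) :=
    IsLocalization.isLocalization_isLocalization_atPrime_isLocalization
      (p.primeCompl.map (C : R →+* R[X])) T P'
  have heq : (P'.comap (algebraMap R[X] S[X])).primeCompl = P.primeCompl := by
    ext x
    change x ∉ P'.comap (algebraMap R[X] S[X]) ↔ x ∉ P
    rw [hcomap]
  have h2 : IsLocalization P.primeCompl T := by
    rw [← heq]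
    exact h1
  have hle : P'.primeCompl ≤ nonZeroDivisors S[X] := Ideal.primeCompl_le_nonZeroDivisors P'
  have hT : IsIntegrallyClosed T := isIntegrallyClosed_of_isLocalization T P'.primeCompl hle
  have hTd : IsDomain T := IsLocalization.isDomain_of_le_nonZeroDivisors T hle
  let e : Localization.AtPrime P ≃ₐ[R[X]] T :=
    IsLocalization.algEquiv P.primeCompl (Localization.AtPrime P) T
  exact ⟨e.toRingEquiv.toMulEquiv.isDomain T, IsIntegrallyClosed.of_equiv (R := T) (S := Localization.AtPrime P) e.symm.toRingEquiv⟩


/-- Let R be a normal ring (every localization at a prime is an integrally closed domain). Then R[x] is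
a normal ring. -/
theorem result (R : Type u) [CommRing R] (hR : EGA4.IsNormalRing R) : EGA4.IsNormalRing (Polynomial R) := by
  intro P hP
  exact aux R hR P

end Groth.Agent.S6300
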