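import Groth.Statements.S6301
import Mathlib

set_option autoImplicit false
universe u
open CAlg

namespace Groth.Agent.S6301

/-- An R-module M is flat exactly when, for every finitely presented R-module P and every surjective
R-module map N → M, the induced map Hom_R(P, N) → Hom_R(P, M) is surjective (modules P, N taken in
the same universe). -/
theorem result {R : Type u} [CommRing R] (M : Type u) [AddCommGroup M] [Module R M] : Module.Flat R M ↔ ∀ (P : Type u) [AddCommGroup P] [Module R P], Module.FinitePresentation R P → ∀ (N : Type u) [AddCommGroup N] [Module R N] (g : N →ₗ[R] M), Function.Surjective g → ∀ h : P →ₗ[R] M, ∃ h' : P →ₗ[R] N, g.comp h' = h := by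
  classical
  constructor
  · intro hflat P _ _ hP N _ _ g hg h
    obtain ⟨k, h₂, h₃, rfl⟩ := Module.Flat.exists_factorization_of_finitePresentation h
    obtain ⟨φ, hφ⟩ := Module.projective_lifting_property g h₃ hg
    exact ⟨φ.comp h₂, by rw [← LinearMap.comp_assoc, hφ]⟩
  · intro H
    apply Module.Flat.of_forall_isTrivialRelation
    intro l f x hfx
    let X : (Fin l → R) →ₗ[R] M := Fintype.linearCombination R x
    have hXf : X f = 0 := by
      rw [Fintype.linearCombination_apply]; exact hfx
    let K : Submodule R (Fin l → R) := Submodule.span R {f}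
    have hP : Module.FinitePresentation R ((Fin l → R) ⧸ K) :=
      Module.finitePresentation_of_surjective K.mkQ K.mkQ_surjective
        (by rw [Submodule.ker_mkQ]; exact Submodule.fg_span_singleton f)
    have hK : K ≤ LinearMap.ker X :=
      (Submodule.span_singleton_le_iff_mem _ _).mpr (LinearMap.mem_ker.mpr hXf)
    let g : (M →₀ R) →ₗ[R] M := Finsupp.linearCombination R id
    obtain ⟨h', hh'⟩ := H ((Fin l → R) ⧸ K) hP (M →₀ R) g
      (Finsupp.linearCombination_id_surjective R M) (K.liftQ X hK)
    let b : (Fin l → R) →ₗ[R] (M →₀ R) := h'.comp K.mkQ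
    have hbf : b f = 0 := by
      change h' (K.mkQ f) = 0
      have : K.mkQ f = 0 := by
        rw [Submodule.mkQ_apply, Submodule.Quotient.mk_eq_zero]
        exact Submodule.mem_span_singleton_self f
      rw [this, map_zero]
    have hgb : ∀ v, g (b v) = X v := by
      intro v
      change (g.comp h') (K.mkQ v) = X v
      rw [hh']
      rfl
    let ev : Fin l → (Fin l → R) := fun i j => if i = j then 1 else 0
    let c : Fin l → (M →₀ R) := fun i => b (ev i)
    let s : Finset M := Finset.univ.biUnion (fun i => (c i).support)
    let eqv := s.equivFin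
    refine ⟨s.card, fun i j => c i (eqv.symm j : M), fun j => (eqv.symm j : M), ?_, ?_⟩
    · intro i
      have h1 : x i = X (ev i) := by
        rw [Fintype.linearCombination_apply]
        simp [ev]
      have h2 : g (c i) = ∑ m ∈ s, c i m • m := by
        change Finsupp.linearCombination R id (c i) = _
        rw [Finsupp.linearCombination_apply, Finsupp.sum]
        apply Finset.sum_subset
        · intro m hm
          exact Finset.mem_biUnion.mpr ⟨i, Finset.mem_univ i, hm⟩
        · intro m _ hm
          rw [Finsupp.notMem_support_iff.mp hm, zero_smul]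
      rw [h1, ← hgb, h2, ← Finset.sum_coe_sort s (fun m => c i m • m)]
      exact (Equiv.sum_comp eqv.symm (fun m : s => c i m • (m : M))).symm
    · intro j
      have h3 : b f = ∑ i, f i • c i := LinearMap.pi_apply_eq_sum_univ b f
      have h4 : (b f) (eqv.symm j : M) = 0 := by rw [hbf]; rfl
      rw [h3, Finsupp.finsetSum_apply] at h4
      simpa using h4

end Groth.Agent.S6301
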