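import Groth.Statements.S6302
import Groth.Agent.Lib.Helper18.UnivInjEq

set_option autoImplicit false
universe u
open CAlg

namespace Groth.Agent.S6302

/-- Let 0 → M₁ → M₂ → M₃ → 0 be a short exact sequence of R-modules with M₃ of finite presentation. If
the sequence is universally exact (its first map is universally injective) then it is split: M₂ → M₃
admits a section. (The converse, split implies universally exact, is elementary and not stated.) -/
theorem result {R : Type u} [CommRing R] {M₁ M₂ M₃ : Type u} [AddCommGroup M₁] [Module R M₁] [AddCommGroup M₂] [Module R M₂] [AddCommGroup M₃] [Module R M₃] [Module.FinitePresentation R M₃] (f : M₁ →ₗ[R] M₂) (g : M₂ →ₗ[R] M₃) (hexact : Function.Exact f g) (hg : Function.Surjective g) (hf : CAlgX.UniversallyInjective R f) : ∃ s : M₃ →ₗ[R] M₂, g.comp s = LinearMap.id := by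
  classical
  obtain ⟨n, m, π, A, hπ, hAπ⟩ := Module.FinitePresentation.exists_fin' R M₃
  let a : Fin m → Fin n → R := fun i j => A (Pi.single i 1) j
  choose y hy using fun j : Fin n => hg (π (Pi.single j 1))
  have hpi : ∀ v : Fin n → R, π v = ∑ j, v j • π (Pi.single j 1) := by
    intro v
    have : v = ∑ j, v j • (Pi.single j 1 : Fin n → R) := by
      ext k
      simp [Finset.sum_apply, Pi.single_apply]
    conv_lhs => rw [this]
    simp only [map_sum, map_smul]
  have hrel : ∀ i, g (∑ j, a i j • y j) = 0 := by
    intro i
    simp only [map_sum, map_smul, hy]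
    rw [← hpi]
    exact hAπ.apply_apply_eq_zero _
  choose x hx using fun i => (hexact _).1 (hrel i)
  obtain ⟨t, ht⟩ := Groth.Agent.Lib.Helper18.univInj_equational f hf m n x y a hx
  let y' : Fin n → M₂ := fun j => y j - f (t j)
  let s' : (Fin n → R) →ₗ[R] M₂ := Fintype.linearCombination R y'
  have hs'A : ∀ w, s' (A w) = 0 := by
    intro w
    have : s' ∘ₗ A = 0 := by
      apply LinearMap.pi_ext'
      intro i
      ext
      simp only [LinearMap.coe_comp, LinearMap.coe_single, Function.comp_apply,
        LinearMap.zero_comp, LinearMap.zero_apply, s', Fintype.linearCombination_apply]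
      have e1 : ∑ j, A (Pi.single i 1) j • y' j =
          ∑ j, a i j • y j - f (∑ j, a i j • t j) := by
        simp only [y', smul_sub, Finset.sum_sub_distrib, map_sum, map_smul, a]
      rw [e1, ← ht i, hx i, sub_self]
    exact LinearMap.congr_fun this w
  have hker : LinearMap.ker π ≤ LinearMap.ker s' := by
    intro v hv
    obtain ⟨w, rfl⟩ := (hAπ v).1 hv
    exact hs'A w
  let s : M₃ →ₗ[R] M₂ := ((LinearMap.ker π).liftQ s' hker) ∘ₗ
    (LinearMap.quotKerEquivOfSurjective π hπ).symm.toLinearMap
  have hsπ : ∀ v, s (π v) = s' v := by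
    intro v
    have : (LinearMap.quotKerEquivOfSurjective π hπ).symm (π v) = (LinearMap.ker π).mkQ v := by
      rw [LinearEquiv.symm_apply_eq]
      rfl
    simp only [s, LinearMap.coe_comp, LinearEquiv.coe_coe, Function.comp_apply, this]
    rfl
  refine ⟨s, ?_⟩
  ext w
  obtain ⟨v, rfl⟩ := hπ w
  rw [LinearMap.comp_apply, hsπ, LinearMap.id_apply, hpi v]
  simp only [s', Fintype.linearCombination_apply, map_sum, map_smul, y', map_sub, hy]
  refine Finset.sum_congr rfl fun j _ => ?_
  rw [hexact.apply_apply_eq_zero, sub_zero]

end Groth.Agent.S6302
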