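import Groth.Statements.S6303
import Mathlib

set_option autoImplicit false
universe u
open CAlg

namespace Groth.Agent.S6303

theorem aux {R : Type u} [CommRing R] (I : Ideal R) (M : Type u) [AddCommGroup M] [Module R M] (x : M) (hx : x ∈ I • (⊤ : Submodule R M)) :
    ∃ (a : M →₀ R), (∀ i, a i ∈ I) ∧ (a.sum fun i c => c • i) = x := by
  have h := (Submodule.mem_ideal_smul_span_iff_exists_sum I (id : M → M) x).mp (by simpa using hx)
  obtain ⟨a, ha, hs⟩ := h
  exact ⟨a, ha, hs⟩

/-- Let R be a ring, I, J ⊆ R ideals and M a flat R-module. Then IM ∩ JM = (I ∩ J)M. -/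
theorem result {R : Type u} [CommRing R] (I J : Ideal R) (M : Type u) [AddCommGroup M] [Module R M] [Module.Flat R M] : (I • (⊤ : Submodule R M)) ⊓ (J • ⊤) = (I ⊓ J) • (⊤ : Submodule R M) := by
  apply le_antisymm
  · rintro x ⟨hxI, hxJ⟩
    obtain ⟨a, ha, hax⟩ := aux I M x hxI
    obtain ⟨b, hb, hbx⟩ := aux J M x hxJ
    let f : a.support ⊕ b.support → R := Sum.elim (fun i => a i) (fun k => - b k)
    let z : a.support ⊕ b.support → M := Sum.elim (fun i => (i : M)) (fun k => (k : M))
    have hrel : ∑ i, f i • z i = 0 := by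
      rw [Fintype.sum_sum_type]
      simp only [f, z, Sum.elim_inl, Sum.elim_inr, neg_smul, Finset.sum_neg_distrib]
      rw [Finset.sum_coe_sort a.support (fun i => a i • i), Finset.sum_coe_sort b.support (fun i => b i • i)]
      have h1 : ∑ i ∈ a.support, a i • i = x := hax
      have h2 : ∑ i ∈ b.support, b i • i = x := hbx
      rw [h1, h2, add_neg_cancel]
    obtain ⟨k, c, y, hzy, hfc⟩ := Module.Flat.isTrivialRelation_of_sum_smul_eq_zero hrel
    have hx' : x = ∑ j, (∑ i : a.support, a i * c (Sum.inl i) j) • y j := by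
      have h1 : ∑ i ∈ a.support, a i • i = x := hax
      rw [← h1, ← Finset.sum_coe_sort a.support (fun i => a i • i)]
      simp_rw [Finset.sum_smul, mul_smul]
      rw [Finset.sum_comm]
      refine Finset.sum_congr rfl fun i _ => ?_
      have := hzy (Sum.inl i)
      simp only [z, Sum.elim_inl] at this
      rw [← Finset.smul_sum, ← this]
    rw [hx']
    refine Submodule.sum_mem _ fun j _ => Submodule.smul_mem_smul ⟨?_, ?_⟩ Submodule.mem_top
    · exact Ideal.sum_mem _ fun i _ => I.mul_mem_right _ (ha i)
    · have h3 := hfc j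
      rw [Fintype.sum_sum_type] at h3
      simp only [f, Sum.elim_inl, Sum.elim_inr, neg_mul, Finset.sum_neg_distrib] at h3
      rw [add_neg_eq_zero] at h3
      change (∑ i : a.support, a i * c (Sum.inl i) j) ∈ J
      rw [h3]
      exact Ideal.sum_mem _ fun i _ => J.mul_mem_right _ (hb i)
  · exact le_inf (Submodule.smul_mono_left inf_le_left) (Submodule.smul_mono_left inf_le_right)

end Groth.Agent.S6303
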