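import Groth.Statements.S6307
import Mathlib

set_option autoImplicit false
universe u
open CAlg

namespace Groth.Agent.S6307

/-- Let R be a ring, J ⊆ R a principal ideal and I ⊆ J an ideal. Then I = J · (I : J). -/
theorem result {R : Type u} [CommRing R] (I J : Ideal R) (hJ : J.IsPrincipal) (hIJ : I ≤ J) : I = J * I.colon J := by
  obtain ⟨a, rfl⟩ := hJ
  apply le_antisymm
  · intro x hx
    obtain ⟨r, rfl⟩ := Ideal.mem_span_singleton'.mp (hIJ hx)
    rw [mul_comm r a]
    refine Ideal.mul_mem_mul (Ideal.mem_span_singleton_self a) ?_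
    rw [Submodule.mem_colon]
    intro p hp
    obtain ⟨s, rfl⟩ := Ideal.mem_span_singleton'.mp hp
    have : r • (s * a) = s * (r * a) := by simp [smul_eq_mul]; ring
    rw [this]
    exact I.mul_mem_left s hx
  · rw [Ideal.mul_le]
    intro j hj r hr
    rw [Submodule.mem_colon] at hr
    have := hr j hj
    rwa [smul_eq_mul, mul_comm] at this

end Groth.Agent.S6307
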