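import Groth.Statements.S6308
import Mathlib.RingTheory.Support
import Mathlib.RingTheory.LocalRing.Module
import Mathlib.RingTheory.Spectrum.Prime.Module
import Mathlib.LinearAlgebra.TensorProduct.RightExactness
import Mathlib.Algebra.Module.LocalizedModule.Submodule
-- import your own Groth.Agent.* helpers here

set_option autoImplicit false
universe u
open scoped TensorProduct
open CAlg

namespace Groth.Agent.S6308


theorem lTensor_surjective_iff_coker {R : Type u} [CommRing R] {M N : Type u} [AddCommGroup M]
    [Module R M] [AddCommGroup N] [Module R N] (Q : Type u) [AddCommGroup Q] [Module R Q]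
    (φ : M →ₗ[R] N) :
    Function.Surjective (φ.lTensor Q) ↔ Subsingleton (Q ⊗[R] (N ⧸ LinearMap.range φ)) := by
  have hex : Function.Exact φ (LinearMap.range φ).mkQ := by
    intro y
    rw [Submodule.mkQ_apply, Submodule.Quotient.mk_eq_zero]
    rfl
  have hsurj : Function.Surjective (LinearMap.range φ).mkQ := Submodule.mkQ_surjective _
  have hex' := lTensor_exact Q hex hsurj
  have hsurj' := LinearMap.lTensor_surjective Q hsurj
  constructor
  · intro h
    refine ⟨fun a b => ?_⟩
    have h0 : ∀ z : Q ⊗[R] (N ⧸ LinearMap.range φ), z = 0 := by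
      intro z
      obtain ⟨w, rfl⟩ := hsurj' z
      obtain ⟨v, rfl⟩ := h w
      exact (hex' _).mpr ⟨v, rfl⟩
    rw [h0 a, h0 b]
  · intro h w
    exact (hex' w).mp (Subsingleton.elim _ _)

/-- Let R be a ring and φ : M → N a map of R-modules with N finite. For a prime p, the localization φ_p
: M_p → N_p is surjective if and only if φ ⊗ κ(p) : M ⊗ κ(p) → N ⊗ κ(p) is surjective; the set U of
such primes is open in Spec(R); and for every f ∈ R with D(f) ⊆ U the map M_f → N_f is surjective. -/
theorem result {R : Type u} [CommRing R] {M N : Type u} [AddCommGroup M] [Module R M] [AddCommGroup N] [Module R N] [Module.Finite R N] (φ : M →ₗ[R] N) : (∀ p : PrimeSpectrum R, Function.Surjective (LocalizedModule.map p.asIdeal.primeCompl φ) ↔ Function.Surjective (φ.lTensor p.asIdeal.ResidueField)) ∧ IsOpen {p : PrimeSpectrum R | Function.Surjective (LocalizedModule.map p.asIdeal.primeCompl φ)} ∧ (∀ f : R, (↑(PrimeSpectrum.basicOpen f) : Set (PrimeSpectrum R)) ⊆ {p : PrimeSpectrum R | Function.Surjective (LocalizedModule.map p.asIdeal.primeCompl φ)} → Function.Surjective (LocalizedModule.map (Submonoid.powers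 f) φ)) := by
  have hfin : Module.Finite R (N ⧸ LinearMap.range φ) := inferInstance
  have hloc : ∀ p : PrimeSpectrum R, Function.Surjective (LocalizedModule.map p.asIdeal.primeCompl φ) ↔
      p ∉ Module.support R (N ⧸ LinearMap.range φ) := by
    intro p
    rw [LinearMap.localizedMap_surjective_iff_subsingleton_localized_coker, Module.notMem_support_iff]
  refine ⟨?_, ?_, ?_⟩
  · intro p
    rw [hloc p, lTensor_surjective_iff_coker,
      Module.mem_support_iff_nontrivial_residueField_tensorProduct, not_nontrivial_iff_subsingleton]
  · have : {p : PrimeSpectrum R | Function.Surjective (LocalizedModule.map p.asIdeal.primeCompl φ)} =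
        (Module.support R (N ⧸ LinearMap.range φ))ᶜ := by
      ext p
      exact hloc p
    rw [this]
    exact (Module.isClosed_support).isOpen_compl
  · intro f hf
    rw [LinearMap.localizedMap_surjective_iff_subsingleton_localized_coker]
    change Subsingleton (LocalizedModule.Away f (N ⧸ LinearMap.range φ))
    rw [LocalizedModule.subsingleton_iff_support_subset]
    intro p hp
    by_contra hpf
    have hmem : p ∈ (↑(PrimeSpectrum.basicOpen f) : Set (PrimeSpectrum R)) := by
      rw [PrimeSpectrum.mem_zeroLocus, Set.singleton_subset_iff] at hpf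
      exact hpf
    exact (hloc p).mp (hf hmem) hp

end Groth.Agent.S6308
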