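import Groth.Statements.S6310
import Mathlib.Algebra.Module.LocalizedModule.Submodule
import Mathlib.LinearAlgebra.Matrix.Charpoly.LinearMap
import Mathlib.RingTheory.Finiteness.Basic
-- import your own Groth.Agent.* helpers here

set_option autoImplicit false
universe u
open CAlg

namespace Groth.Agent.S6310


section aux
variable {R : Type u} [CommRing R]

/-- Step 1 for a single element. -/
theorem step1_single (S : Submonoid R) (I : Ideal R) (M : Type u) [AddCommGroup M] [Module R M]
    {r : ℕ} (x : Fin r → M)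
    (hx : Submodule.span (Localization S) (Set.range fun j =>
      LocalizedModule.mkLinearMap S (M ⧸ (I • (⊤ : Submodule R M))) (Submodule.Quotient.mk (x j))) = ⊤)
    (m : M) : ∃ s ∈ S, s • m ∈ Submodule.span R (Set.range x) ⊔ I • (⊤ : Submodule R M) := by
  set f := LocalizedModule.mkLinearMap S (M ⧸ (I • (⊤ : Submodule R M))) with hf
  set T : Set (M ⧸ (I • (⊤ : Submodule R M))) :=
    Set.range fun j => (Submodule.Quotient.mk (x j) : M ⧸ (I • (⊤ : Submodule R M))) with hT
  have himg : (Set.range fun j => f (Submodule.Quotient.mk (x j))) = f '' T := by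
    rw [hT, ← Set.range_comp]; rfl
  rw [himg, ← Submodule.localized'_span (Localization S) S f] at hx
  have hmem : f (Submodule.Quotient.mk m) ∈
      (Submodule.span R T).localized' (Localization S) S f := by
    rw [hx]; trivial
  obtain ⟨n, hn, t, ht⟩ := (Submodule.mem_localized' _ _ _ _ _).mp hmem
  rw [IsLocalizedModule.mk'_eq_iff] at ht
  have ht' : f n = f (t • (Submodule.Quotient.mk m : M ⧸ (I • (⊤ : Submodule R M)))) := by
    rw [ht, Submonoid.smul_def, Submonoid.smul_def, map_smul]
  obtain ⟨c, hc⟩ := (IsLocalizedModule.eq_iff_exists S f).mp ht'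
  refine ⟨(c : R) * (t : R), S.mul_mem c.2 t.2, ?_⟩
  have h1 : (Submodule.Quotient.mk (((c : R) * (t : R)) • m) : M ⧸ (I • (⊤ : Submodule R M))) ∈
      Submodule.span R T := by
    have : (Submodule.Quotient.mk (((c : R) * (t : R)) • m) : M ⧸ (I • (⊤ : Submodule R M))) =
        c • n := by
      rw [hc, mul_smul, Submodule.Quotient.mk_smul, Submodule.Quotient.mk_smul]
      rfl
    rw [this]
    exact Submodule.smul_mem _ _ hn
  have hT' : Submodule.span R T =
      (Submodule.span R (Set.range x)).map (I • (⊤ : Submodule R M)).mkQ := by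
    rw [Submodule.map_span, hT, ← Set.range_comp]; rfl
  rw [hT'] at h1
  obtain ⟨y, hy, hy'⟩ := h1
  rw [Submodule.mkQ_apply, Submodule.Quotient.eq] at hy'
  have : ((c : R) * (t : R)) • m = y - (y - ((c : R) * (t : R)) • m) := by abel
  rw [this]
  exact Submodule.sub_mem _ (Submodule.mem_sup_left hy) (Submodule.mem_sup_right hy')

theorem step1 (S : Submonoid R) (I : Ideal R) (M : Type u) [AddCommGroup M] [Module R M]
    [Module.Finite R M] {r : ℕ} (x : Fin r → M)
    (hx : Submodule.span (Localization S) (Set.range fun j =>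
      LocalizedModule.mkLinearMap S (M ⧸ (I • (⊤ : Submodule R M))) (Submodule.Quotient.mk (x j))) = ⊤) :
    ∃ s ∈ S, ∀ m : M, s • m ∈ Submodule.span R (Set.range x) ⊔ I • (⊤ : Submodule R M) := by
  classical
  obtain ⟨G, hG⟩ := (Module.Finite.fg_top : (⊤ : Submodule R M).FG)
  choose! σ hσS hσ using fun m => step1_single S I M x hx m
  refine ⟨∏ g ∈ G, σ g, S.prod_mem (fun g _ => hσS g), ?_⟩
  intro m
  have hm : m ∈ Submodule.span R (G : Set M) := by rw [hG]; trivial
  induction hm using Submodule.span_induction with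
  | mem g hg =>
    obtain ⟨k, hk⟩ := Finset.dvd_prod_of_mem σ hg
    rw [hk, mul_comm, mul_smul]
    exact Submodule.smul_mem _ _ (hσ g)
  | zero => simp
  | add a b _ _ ha hb => rw [smul_add]; exact add_mem ha hb
  | smul c a _ ha => rw [smul_comm]; exact Submodule.smul_mem _ _ ha

open Polynomial in
theorem step2 (I : Ideal R) (M : Type u) [AddCommGroup M] [Module R M]
    [Module.Finite R M] (X : Submodule R M) (s : R)
    (hs : ∀ m : M, s • m ∈ X ⊔ I • (⊤ : Submodule R M)) :
    ∃ (n : ℕ) (i : R), i ∈ I ∧ ∀ m : M, (s ^ n + i) • m ∈ X := by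
  let φ : Module.End R (M ⧸ X) := LinearMap.lsmul R (M ⧸ X) s
  have hφ : LinearMap.range φ ≤ I • (⊤ : Submodule R (M ⧸ X)) := by
    rintro _ ⟨c, rfl⟩
    obtain ⟨m, rfl⟩ := X.mkQ_surjective c
    obtain ⟨a, ha, b, hb, hab⟩ := Submodule.mem_sup.mp (hs m)
    have h1 : φ (X.mkQ m) = X.mkQ b := by
      change s • X.mkQ m = X.mkQ b
      rw [← map_smul, ← hab, map_add, Submodule.mkQ_apply, Submodule.mkQ_apply,
        (Submodule.Quotient.mk_eq_zero X).mpr ha, zero_add]
    rw [h1]
    have h2 : X.mkQ b ∈ (I • (⊤ : Submodule R M)).map X.mkQ := ⟨b, hb, rfl⟩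
    rw [Submodule.map_smul''] at h2
    exact Submodule.smul_mono le_rfl le_top h2
  obtain ⟨p, hmonic, -, hcoeff, hp⟩ :=
    LinearMap.exists_monic_and_natDegree_eq_and_coeff_mem_pow_and_aeval_eq_zero R φ I hφ
  have hφ' : φ = algebraMap R (Module.End R (M ⧸ X)) s := by
    ext c; rfl
  rw [hφ', Polynomial.aeval_algebraMap_apply_eq_algebraMap_eval] at hp
  have heval : Polynomial.eval s p = s ^ p.natDegree +
      ∑ k ∈ Finset.range p.natDegree, p.coeff k * s ^ k := by
    rw [Polynomial.eval_eq_sum_range, Finset.sum_range_succ,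
      hmonic.coeff_natDegree, one_mul, add_comm]
  refine ⟨p.natDegree, ∑ k ∈ Finset.range p.natDegree, p.coeff k * s ^ k, ?_, ?_⟩
  · refine Submodule.sum_mem _ ?_
    intro k hk
    apply Ideal.mul_mem_right
    have hk' : p.natDegree - k ≠ 0 := by
      have := Finset.mem_range.mp hk; omega
    exact Ideal.pow_le_self hk' (hcoeff k)
  · intro m
    rw [← heval, ← Submodule.Quotient.mk_eq_zero, Submodule.Quotient.mk_smul]
    have := LinearMap.congr_fun hp (Submodule.Quotient.mk m)
    simpa [Module.algebraMap_end_apply] using this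

theorem step3 (M : Type u) [AddCommGroup M] [Module R M] {r : ℕ} (x : Fin r → M) (f : R)
    (hf : ∀ m : M, f • m ∈ Submodule.span R (Set.range x)) :
    Submodule.span (Localization.Away f) (Set.range fun j =>
      LocalizedModule.mkLinearMap (Submonoid.powers f) M (x j)) = ⊤ := by
  set g := LocalizedModule.mkLinearMap (Submonoid.powers f) M with hg
  set N := Submodule.span (Localization.Away f) (Set.range fun j => g (x j)) with hN
  have h1 : ∀ z ∈ Submodule.span R (Set.range x), g z ∈ N := by
    intro z hz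
    induction hz using Submodule.span_induction with
    | mem y hy =>
      obtain ⟨j, rfl⟩ := hy
      exact Submodule.subset_span ⟨j, rfl⟩
    | zero => rw [map_zero]; exact N.zero_mem
    | add a b _ _ ha hb => rw [map_add]; exact N.add_mem ha hb
    | smul c a _ ha =>
      rw [map_smul, ← algebraMap_smul (Localization.Away f) c (g a)]
      exact N.smul_mem _ ha
  rw [eq_top_iff]
  rintro y -
  induction y using LocalizedModule.induction_on with
  | h m t =>
    have hfm : f ∈ Submonoid.powers f := Submonoid.mem_powers f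
    have e1 : LocalizedModule.mk m t =
        (Localization.mk 1 t : Localization.Away f) • LocalizedModule.mk m 1 := by
      rw [LocalizedModule.mk_smul_mk, one_smul, mul_one]
    have e2 : (LocalizedModule.mk m 1 : LocalizedModule (Submonoid.powers f) M) =
        (Localization.mk 1 ⟨f, hfm⟩ : Localization.Away f) • g (f • m) := by
      rw [hg, LocalizedModule.mkLinearMap_apply, LocalizedModule.mk_smul_mk, one_smul, mul_one]
      exact (LocalizedModule.mk_cancel (⟨f, hfm⟩ : Submonoid.powers f) m).symm
    rw [e1, e2]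
    exact N.smul_mem _ (N.smul_mem _ (h1 _ (hf m)))

end aux

/-- Let R be a ring, S ⊆ R a multiplicative subset, I ⊆ R an ideal and M a finite R-module. If x₁, …,
x_r ∈ M have images generating S⁻¹(M/IM) as an S⁻¹R-module, then there is f ∈ S + I (f = s + i with
s ∈ S, i ∈ I) such that x₁, …, x_r generate M_f as an R_f-module. -/
theorem result {R : Type u} [CommRing R] (S : Submonoid R) (I : Ideal R) (M : Type u) [AddCommGroup M] [Module R M] [Module.Finite R M] {r : ℕ} (x : Fin r → M) (hx : Submodule.span (Localization S) (Set.range fun j => LocalizedModule.mkLinearMap S (M ⧸ (I • (⊤ : Submodule R M))) (Submodule.Quotient.mk (x j))) = ⊤) : ∃ (s : R) (i : R), s ∈ S ∧ i ∈ I ∧ Submodule.span (Localization.Away (s + i)) (Set.range fun j => LocalizedModule.mkLinearMap (Submonoid.powers (s + i)) M (x j)) = ⊤ := by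
  obtain ⟨s, hsS, hs⟩ := step1 S I M x hx
  obtain ⟨n, i, hi, hni⟩ := step2 I M (Submodule.span R (Set.range x)) s hs
  exact ⟨s ^ n, i, S.pow_mem hsS n, hi, step3 M x (s ^ n + i) hni⟩

end Groth.Agent.S6310
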