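import Groth.Statements.S6311
import Groth.Agent.Lib.Helper18.KZero
import Mathlib.Algebra.Homology.ShortComplex.ModuleCat
import Mathlib.RingTheory.LocalRing.Module
import Mathlib.LinearAlgebra.Dimension.Constructions
import Mathlib.LinearAlgebra.Dimension.Free
import Mathlib.Algebra.Exact.Basic
import Mathlib.Tactic

set_option autoImplicit false
universe u
open CategoryTheory
open CAlg

namespace Groth.Agent.S6311

open CategoryTheory Groth.Agent.Lib.Helper18

abbrev FP (R : Type u) [CommRing R] : ObjectProperty (ModuleCat.{u} R) :=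
  fun M : ModuleCat.{u} R => Module.Finite R M ∧ Module.Projective R M

theorem cl_of_exact {R : Type u} [CommRing R] {M₁ M₂ M₃ : ModuleCat.{u} R}
    (h₁ : FP R M₁) (h₂ : FP R M₂) (h₃ : FP R M₃) (f : M₁ →ₗ[R] M₂) (g : M₂ →ₗ[R] M₃)
    (hf : Function.Injective f) (hg : Function.Surjective g) (hfg : Function.Exact f g) :
    KZero.clSub (FP R) M₂ = KZero.clSub (FP R) M₁ + KZero.clSub (FP R) M₃ := by
  let S : ShortComplex (ModuleCat.{u} R) := ShortComplex.mk (ModuleCat.ofHom f) (ModuleCat.ofHom g)
    (by ext x; exact hfg.apply_apply_eq_zero x)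
  have hS : S.ShortExact :=
    { exact := (ShortComplex.ShortExact.moduleCat_exact_iff_function_exact S).2 hfg
      mono_f := (ModuleCat.mono_iff_injective _).2 hf
      epi_g := (ModuleCat.epi_iff_surjective _).2 hg }
  exact clSub_eq_add (FP R) S h₁ h₂ h₃ hS

theorem cl_of_subsingleton {R : Type u} [CommRing R] {M : ModuleCat.{u} R} (h : FP R M)
    [Subsingleton M] : KZero.clSub (FP R) M = 0 := by
  have := cl_of_exact h h h (0 : M →ₗ[R] M) (0 : M →ₗ[R] M)
    (fun x y _ => Subsingleton.elim _ _) (fun x => ⟨x, Subsingleton.elim _ _⟩)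
    (fun x => ⟨fun _ => ⟨x, Subsingleton.elim _ _⟩, fun _ => Subsingleton.elim _ _⟩)
  simpa using this

theorem fp_pi (R : Type u) [CommRing R] (n : ℕ) : FP R (ModuleCat.of R (Fin n → R)) :=
  ⟨inferInstanceAs (Module.Finite R (Fin n → R)), inferInstanceAs (Module.Projective R (Fin n → R))⟩

theorem fp_self (R : Type u) [CommRing R] : FP R (ModuleCat.of R R) :=
  ⟨inferInstanceAs (Module.Finite R R), inferInstanceAs (Module.Projective R R)⟩

theorem cl_free {R : Type u} [CommRing R] (n : ℕ) : ∀ {M : ModuleCat.{u} R} (_ : FP R M)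
    (_ : M ≃ₗ[R] (Fin n → R)),
    KZero.clSub (FP R) M = n • KZero.clSub (FP R) (ModuleCat.of R R) := by
  induction n with
  | zero =>
    intro M h e
    haveI : Subsingleton M := e.toEquiv.subsingleton
    rw [cl_of_subsingleton h, zero_smul]
  | succ n ih =>
    intro M h e
    let e' : M ≃ₗ[R] R × (Fin n → R) := e ≪≫ₗ (Fin.consLinearEquiv R (fun _ : Fin (n + 1) => R)).symm
    let f : R →ₗ[R] M := e'.symm.toLinearMap ∘ₗ LinearMap.inl R R (Fin n → R)
    let g : M →ₗ[R] (Fin n → R) := LinearMap.snd R R (Fin n → R) ∘ₗ e'.toLinearMap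
    have hf : Function.Injective f := e'.symm.injective.comp LinearMap.inl_injective
    have hg : Function.Surjective g := by
      intro y
      exact ⟨e'.symm (0, y), by simp [g]⟩
    have hfg : Function.Exact f g := by
      intro x
      constructor
      · intro hx
        refine ⟨(e' x).1, ?_⟩
        have hx' : (e' x).2 = 0 := hx
        show e'.symm ((e' x).1, 0) = x
        rw [← hx', Prod.mk.eta, LinearEquiv.symm_apply_apply]
      · rintro ⟨y, rfl⟩
        simp [f, g]
    have hex := cl_of_exact (M₁ := ModuleCat.of R R) (M₂ := M) (M₃ := ModuleCat.of R (Fin n → R))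
      (fp_self R) h (fp_pi R n) f g hf hg hfg
    rw [hex, ih (fp_pi R n) (LinearEquiv.refl R (Fin n → R)), succ_nsmul, add_comm]


/-- Let R be a local ring. Then K₀(R), the Grothendieck group of the category of finite projective
R-modules, is isomorphic to ℤ via the rank; precisely, there is an isomorphism K₀(R) ≅ ℤ of abelian
groups sending the class [R] to 1 (such an isomorphism is then unique, K₀(R) being generated by
[R]). -/
theorem result (R : Type u) [CommRing R] [IsLocalRing R] : ∃ e : KZero.K0sub (fun M : ModuleCat.{u} R => Module.Finite R M ∧ Module.Projective R M) ≃+ ℤ, e (KZero.clSub (fun M : ModuleCat.{u} R => Module.Finite R M ∧ Module.Projective R M) (ModuleCat.of R R)) = 1 := by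
  classical
  let φ : KZero.K0sub (FP R) →+ ℤ := k0subLift (FP R) (fun M => (Module.finrank R M.1 : ℤ)) (by
    intro S h₁ h₂ h₃ hS
    have := h₁.1; have := h₁.2; have := h₂.1; have := h₂.2; have := h₃.1; have := h₃.2
    haveI : Module.Free R S.X₁ := Module.free_of_flat_of_isLocalRing
    haveI : Module.Free R S.X₃ := Module.free_of_flat_of_isLocalRing
    have hex : Function.Exact S.f.hom S.g.hom :=
      (ShortComplex.ShortExact.moduleCat_exact_iff_function_exact S).1 hS.exact
    obtain ⟨l, hl⟩ := Module.projective_lifting_property S.g.hom (LinearMap.id)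
      hS.moduleCat_surjective_g
    have e := (hex.splitSurjectiveEquiv hS.moduleCat_injective_f ⟨l, hl⟩).1
    dsimp only
    rw [e.finrank_eq, Module.finrank_prod]
    push_cast
    rfl)
  let ψ : ℤ →+ KZero.K0sub (FP R) := (zmultiplesHom _) (KZero.clSub (FP R) (ModuleCat.of R R))
  have hφR : φ (KZero.clSub (FP R) (ModuleCat.of R R)) = 1 := by
    rw [k0subLift_clSub (FP R) _ _ _ (fp_self R)]
    simp [Module.finrank_self]
  have hcl : ∀ (M : ModuleCat.{u} R) (h : FP R M), KZero.clSub (FP R) M =
      (Module.finrank R M) • KZero.clSub (FP R) (ModuleCat.of R R) := by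
    intro M h
    have := h.1; have := h.2
    haveI : Module.Free R M := Module.free_of_flat_of_isLocalRing
    exact cl_free _ h (Module.finBasis R M).equivFun
  refine ⟨AddMonoidHom.toAddEquiv φ ψ ?_ ?_, hφR⟩
  · refine AddMonoidHom.ext fun z => ?_
    induction z using k0sub_induction (FP R) with
    | zero => simp
    | cl M h =>
      rw [AddMonoidHom.comp_apply, k0subLift_clSub (FP R) _ _ _ h, AddMonoidHom.id_apply, hcl M h]
      simp [ψ]
    | neg x hx =>
      rw [AddMonoidHom.comp_apply, AddMonoidHom.id_apply] at hx ⊢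
      rw [map_neg, map_neg, hx]
    | add x y hx hy =>
      rw [AddMonoidHom.comp_apply, AddMonoidHom.id_apply] at hx hy ⊢
      rw [map_add, map_add, hx, hy]
  · ext
    simp [ψ, hφR]

end Groth.Agent.S6311
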