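import Groth.Statements.S6318
import Mathlib.CategoryTheory.Abelian.Projective.Resolution
import Mathlib.Algebra.Category.ModuleCat.Kernels
import Mathlib.Algebra.Category.ModuleCat.EpiMono
import Mathlib.RingTheory.Noetherian.Basic
import Mathlib.RingTheory.Finiteness.Basic
import Mathlib.LinearAlgebra.Finsupp.LinearCombination
-- import your own Groth.Agent.* helpers here

set_option autoImplicit false
universe u
open CategoryTheory
open CAlg

namespace Groth.Agent.S6318


section aux
open CategoryTheory.Limits

variable {R : Type u} [CommRing R]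

noncomputable def gens (K : ModuleCat.{u} R) : Set K :=
  open Classical in
  if h : Module.Finite R K then (↑(Classical.choose h.fg_top) : Set K) else Set.univ

theorem span_gens (K : ModuleCat.{u} R) : Submodule.span R (gens K) = ⊤ := by
  unfold gens
  split_ifs with h
  · exact Classical.choose_spec h.fg_top
  · exact Submodule.span_univ

theorem finite_gens (K : ModuleCat.{u} R) [h : Module.Finite R K] : (gens K).Finite := by
  unfold gens
  rw [dif_pos h]
  exact Finset.finite_toSet _

noncomputable def cover (K : ModuleCat.{u} R) : ModuleCat.{u} R :=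
  ModuleCat.of R (gens K →₀ R)

noncomputable def coverπ (K : ModuleCat.{u} R) : cover K ⟶ K :=
  ModuleCat.ofHom (Finsupp.linearCombination R (fun x : gens K => (x : K)))

theorem coverπ_surjective (K : ModuleCat.{u} R) : Function.Surjective (coverπ K).hom := by
  have : LinearMap.range (Finsupp.linearCombination R (fun x : gens K => (x : K))) = ⊤ := by
    rw [Finsupp.range_linearCombination, Subtype.range_coe, span_gens]
  exact LinearMap.range_eq_top.mp this

instance epi_coverπ (K : ModuleCat.{u} R) : Epi (coverπ K) :=
  (ModuleCat.epi_iff_surjective _).mpr (coverπ_surjective K)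

instance free_cover (K : ModuleCat.{u} R) : Module.Free R (cover K) :=
  inferInstanceAs (Module.Free R (gens K →₀ R))

instance projective_cover (K : ModuleCat.{u} R) : Projective (cover K) :=
  ModuleCat.projective_of_free (Module.Free.chooseBasis R (cover K))

theorem finite_cover (K : ModuleCat.{u} R) [Module.Finite R K] : Module.Finite R (cover K) := by
  have : Finite (gens K) := (finite_gens K).to_subtype
  exact inferInstanceAs (Module.Finite R (gens K →₀ R))

theorem finite_kernel [IsNoetherianRing R] {X Y : ModuleCat.{u} R} (f : X ⟶ Y)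
    [Module.Finite R X] : Module.Finite R (kernel f : ModuleCat.{u} R) := by
  have : IsNoetherian R X := isNoetherian_of_isNoetherianRing_of_finite R X
  exact Module.Finite.equiv (ModuleCat.kernelIsoKer f).symm.toLinearEquiv

noncomputable def dd {X Y : ModuleCat.{u} R} (f : X ⟶ Y) : cover (kernel f) ⟶ X :=
  coverπ (kernel f) ≫ kernel.ι f

theorem dd_comp {X Y : ModuleCat.{u} R} (f : X ⟶ Y) : dd f ≫ f = 0 := by
  simp [dd]

theorem exact_dd {X Y : ModuleCat.{u} R} (f : X ⟶ Y) :
    (ShortComplex.mk (dd f) f (dd_comp f)).Exact := by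
  let α : ShortComplex.mk (dd f) f (dd_comp f) ⟶ ShortComplex.mk (kernel.ι f) f (by simp) :=
    { τ₁ := coverπ _
      τ₂ := 𝟙 _
      τ₃ := 𝟙 _
      comm₁₂ := by simp [dd]
      comm₂₃ := by simp }
  rw [ShortComplex.exact_iff_of_epi_of_isIso_of_mono α]
  apply ShortComplex.exact_of_f_is_kernel
  apply kernelIsKernel

noncomputable def cx (M : ModuleCat.{u} R) : ChainComplex (ModuleCat.{u} R) ℕ :=
  ChainComplex.mk' (cover M) (cover (kernel (coverπ M))) (dd (coverπ M))
    (fun f => ⟨_, dd f, dd_comp f⟩)

theorem cx_d_1_0 (M : ModuleCat.{u} R) : (cx M).d 1 0 = dd (coverπ M) := by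
  simp [cx]

theorem cx_exactAt_succ (M : ModuleCat.{u} R) (n : ℕ) : (cx M).ExactAt (n + 1) := by
  rw [HomologicalComplex.exactAt_iff' _ (n + 1 + 1) (n + 1) n (by simp) (by simp)]
  simp only [HomologicalComplex.sc', HomologicalComplex.shortComplexFunctor', cx,
    ChainComplex.mk', ChainComplex.mk, ChainComplex.of_d]
  match n with
  | 0 => apply exact_dd
  | n + 1 => apply exact_dd

instance free_cx (M : ModuleCat.{u} R) (n : ℕ) : Module.Free R ((cx M).X n) := by
  obtain (_ | _ | _ | n) := n <;> apply free_cover

instance projective_cx (M : ModuleCat.{u} R) (n : ℕ) : Projective ((cx M).X n) := by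
  obtain (_ | _ | _ | n) := n <;> apply projective_cover

theorem finite_aux [IsNoetherianRing R] (M : ModuleCat.{u} R) [Module.Finite R M] (n : ℕ) :
    let S := ChainComplex.mkAux (cover M) (cover (kernel (coverπ M)))
      (cover (kernel (dd (coverπ M)))) (dd (coverπ M)) (dd (dd (coverπ M)))
      (dd_comp (dd (coverπ M)))
      (fun S => (⟨_, dd S.f, dd_comp S.f⟩ : Σ' (X₃ : ModuleCat.{u} R) (d₂ : X₃ ⟶ S.X₁), d₂ ≫ S.f = 0)) n
    Module.Finite R S.X₁ ∧ Module.Finite R S.X₂ ∧ Module.Finite R S.X₃ := by
  induction n with
  | zero =>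
    have h0 : Module.Finite R (cover M) := finite_cover M
    have h1' : Module.Finite R (kernel (coverπ M) : ModuleCat.{u} R) := finite_kernel _
    have h1 : Module.Finite R (cover (kernel (coverπ M))) := finite_cover _
    have h2' : Module.Finite R (kernel (dd (coverπ M)) : ModuleCat.{u} R) := finite_kernel _
    have h2 : Module.Finite R (cover (kernel (dd (coverπ M)))) := finite_cover _
    exact ⟨h2, h1, h0⟩
  | succ n ih =>
    obtain ⟨h1, h2, h3⟩ := ih
    refine ⟨?_, h1, h2⟩
    dsimp only [ChainComplex.mkAux] at h1 ⊢
    have := h1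
    have : Module.Finite R (kernel (ChainComplex.mkAux (cover M) (cover (kernel (coverπ M)))
      (cover (kernel (dd (coverπ M)))) (dd (coverπ M)) (dd (dd (coverπ M)))
      (dd_comp (dd (coverπ M)))
      (fun S => (⟨_, dd S.f, dd_comp S.f⟩ :
        Σ' (X₃ : ModuleCat.{u} R) (d₂ : X₃ ⟶ S.X₁), d₂ ≫ S.f = 0)) n).f : ModuleCat.{u} R) :=
      finite_kernel _
    exact finite_cover _

theorem finite_cx [IsNoetherianRing R] (M : ModuleCat.{u} R) [Module.Finite R M] (n : ℕ) :
    Module.Finite R ((cx M).X n) :=
  (finite_aux M n).2.2

set_option backward.defeqAttrib.useBackward true in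
set_option backward.isDefEq.respectTransparency false in
noncomputable def res (M : ModuleCat.{u} R) : ProjectiveResolution M where
  complex := cx M
  π := (ChainComplex.toSingle₀Equiv _ _).symm ⟨coverπ M, by
          rw [cx_d_1_0]; exact dd_comp _⟩
  quasiIso := ⟨fun n => by
    cases n
    · rw [ChainComplex.quasiIsoAt₀_iff, ShortComplex.quasiIso_iff_of_zeros']
      · dsimp
        refine (ShortComplex.exact_and_epi_g_iff_of_iso ?_).2
          ⟨exact_dd (coverπ M), by dsimp; infer_instance⟩
        exact ShortComplex.isoMk (Iso.refl _) (Iso.refl _) (Iso.refl _)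
          (by simp [cx]) (by simp)
      all_goals rfl
    · rw [quasiIsoAt_iff_exactAt']
      · apply cx_exactAt_succ
      · apply ChainComplex.exactAt_succ_single_obj⟩

end aux

/-- Let R be a Noetherian ring and M a finite R-module. Then M has a resolution … → F₂ → F₁ → F₀ → M → 0
with every Fᵢ finite free; stated as the existence of a projective resolution of M in the category
of R-modules all of whose terms are finite free. -/
theorem result (R : Type u) [CommRing R] [IsNoetherianRing R] (M : Type u) [AddCommGroup M] [Module R M] [Module.Finite R M] : ∃ F : ProjectiveResolution (ModuleCat.of R M), ∀ n : ℕ, Module.Finite R (F.complex.X n) ∧ Module.Free R (F.complex.X n) := by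
  have : Module.Finite R (ModuleCat.of R M) := ‹Module.Finite R M›
  exact ⟨res (ModuleCat.of R M), fun n => ⟨finite_cx _ n, free_cx _ n⟩⟩

end Groth.Agent.S6318
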