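import Groth.Statements.S6319
import Groth.Agent.Lib.Helper18.KZero
import Mathlib.Algebra.Homology.ShortComplex.ModuleCat
import Mathlib.RingTheory.Artinian.Module
import Mathlib.RingTheory.HopkinsLevitzki
import Mathlib.Tactic

set_option autoImplicit false
universe u
open CategoryTheory
open CAlg

namespace Groth.Agent.S6319

/-- Let R be an Artinian local ring. The length function defines a homomorphism of abelian groups
length_R : K'₀(R) → ℤ on the Grothendieck group of finite R-modules, sending the class of a finite
module M to its (finite) length. -/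
theorem result (R : Type u) [CommRing R] [IsArtinianRing R] [IsLocalRing R] : ∃ φ : KZero.K0sub (fun M : ModuleCat.{u} R => Module.Finite R M) →+ ℤ, ∀ (M : ModuleCat.{u} R), Module.Finite R M → (φ (KZero.clSub (fun M : ModuleCat.{u} R => Module.Finite R M) M) : ℤ) = (Module.length R M).toNat := by
  classical
  have hfin : ∀ (M : ModuleCat.{u} R), Module.Finite R M → Module.length R M ≠ ⊤ := by
    intro M hM
    haveI := hM
    exact Module.length_ne_top
  refine ⟨Groth.Agent.Lib.Helper18.k0subLift (fun M : ModuleCat.{u} R => Module.Finite R M)
    (fun M => ((Module.length R M.1).toNat : ℤ)) ?_, ?_⟩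
  · intro S h₁ h₂ h₃ hS
    have hadd := Module.length_eq_add_of_exact S.f.hom S.g.hom hS.moduleCat_injective_f
      hS.moduleCat_surjective_g ((CategoryTheory.ShortComplex.ShortExact.moduleCat_exact_iff_function_exact S).1 hS.exact)
    have e1 := hfin S.X₁ h₁
    have e3 := hfin S.X₃ h₃
    dsimp only
    rw [hadd, ENat.toNat_add e1 e3]
    push_cast
    rfl
  · intro M hM
    exact Groth.Agent.Lib.Helper18.k0subLift_clSub _ _ _ M hM

end Groth.Agent.S6319
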