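import Groth.Statements.S6321
import Mathlib.RingTheory.Flat.EquationalCriterion
import Mathlib.RingTheory.Ideal.Operations
import Mathlib.Order.Directed
import Mathlib.Data.Finset.Order
-- import your own Groth.Agent.* helpers here

set_option autoImplicit false
universe u
open CAlg

namespace Groth.Agent.S6321


section aux
variable {R : Type u} [CommRing R] {ι : Type u} [Preorder ι] [Nonempty ι] [IsDirected ι (· ≤ ·)]
  (G : ι → Type u) [∀ i, CommRing (G i)] [∀ i, Algebra R (G i)]
  (f : ∀ i j, i ≤ j → G i →+* G j) [DirectedSystem G fun i j h => f i j h]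

theorem exists_lift_finset {α : Type*} (T : Finset α)
    (z : α → Ring.DirectLimit G (fun i j h => f i j h)) :
    ∃ (K : ι) (w : α → G K), ∀ a ∈ T,
      Ring.DirectLimit.of G (fun i j h => f i j h) K (w a) = z a := by
  classical
  choose k v hv using fun a => Ring.DirectLimit.exists_of (z a)
  obtain ⟨K, hK⟩ := Finset.exists_le (T.image k)
  refine ⟨K, fun a => if h : a ∈ T then
    f (k a) K (hK _ (Finset.mem_image_of_mem _ h)) (v a) else 0, ?_⟩
  intro a ha
  dsimp only
  rw [dif_pos ha, Ring.DirectLimit.of_f, hv]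

omit [Nonempty ι] [DirectedSystem G fun i j h => f i j h] in
theorem of_comp_algebraMap
    (hcompat : ∀ i j (h : i ≤ j), (f i j h).comp (algebraMap R (G i)) = algebraMap R (G j))
    (i k : ι) (r : R) :
    Ring.DirectLimit.of G (fun i j h => f i j h) k (algebraMap R (G k) r) =
      Ring.DirectLimit.of G (fun i j h => f i j h) i (algebraMap R (G i) r) := by
  obtain ⟨l, hil, hkl⟩ := exists_ge_ge i k
  rw [← Ring.DirectLimit.of_f (hij := hkl), ← Ring.DirectLimit.of_f (hij := hil)]
  have h1 := RingHom.congr_fun (hcompat k l hkl) r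
  have h2 := RingHom.congr_fun (hcompat i l hil) r
  simp only [RingHom.comp_apply] at h1 h2
  rw [h1, h2]

end aux

/-- Let R be a ring and (Sᵢ, φᵢⱼ) a directed system of faithfully flat R-algebras whose transition maps
are R-algebra maps. Then S = colim Sᵢ is a faithfully flat R-algebra: for any index i the composite
R → Sᵢ → S is faithfully flat. -/
theorem result {R : Type u} [CommRing R] {ι : Type u} [Preorder ι] [Nonempty ι] [IsDirected ι (· ≤ ·)] (G : ι → Type u) [∀ i, CommRing (G i)] [∀ i, Algebra R (G i)] (f : ∀ i j, i ≤ j → G i →+* G j) [DirectedSystem G fun i j h => f i j h] (hcompat : ∀ i j (h : i ≤ j), (f i j h).comp (algebraMap R (G i)) = algebraMap R (G j)) (hff : ∀ i, (algebraMap R (G i)).FaithfullyFlat) (i : ι) : ((Ring.DirectLimit.of G (fun i j h => f i j h) i).comp (algebraMap R (G i))).FaithfullyFlat := by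
  classical
  have hffk : ∀ k, Module.FaithfullyFlat R (G k) :=
    fun k => RingHom.faithfullyFlat_algebraMap_iff.mp (hff k)
  set ψ := (Ring.DirectLimit.of G (fun i j h => f i j h) i).comp (algebraMap R (G i)) with hψ
  have hψk : ∀ k (r : R),
      Ring.DirectLimit.of G (fun i j h => f i j h) k (algebraMap R (G k) r) = ψ r :=
    fun k r => of_comp_algebraMap G f hcompat i k r
  rw [RingHom.FaithfullyFlat]
  let : Algebra R (Ring.DirectLimit G (fun i j h => f i j h)) := ψ.toAlgebra
  have hsmul : ∀ (r : R) (z : Ring.DirectLimit G (fun i j h => f i j h)), r • z = ψ r * z :=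
    fun r z => rfl
  have hflat : Module.Flat R (Ring.DirectLimit G (fun i j h => f i j h)) := by
    apply Module.Flat.of_forall_isTrivialRelation
    intro l c z hz
    obtain ⟨K, w, hw⟩ := exists_lift_finset G f Finset.univ z
    have hz' : Ring.DirectLimit.of G (fun i j h => f i j h) K
        (∑ a, algebraMap R (G K) (c a) * w a) = 0 := by
      rw [map_sum, ← hz]
      apply Finset.sum_congr rfl
      intro a _
      rw [map_mul, hψk, hw a (Finset.mem_univ a), hsmul]
    obtain ⟨K', hKK', hzero⟩ := Ring.DirectLimit.of.zero_exact hz'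
    have hrel : ∑ a, c a • (f K K' hKK' (w a)) = 0 := by
      rw [map_sum] at hzero
      rw [← hzero]
      apply Finset.sum_congr rfl
      intro a _
      rw [map_mul, Algebra.smul_def]
      congr 1
      exact (RingHom.congr_fun (hcompat K K' hKK') (c a)).symm
    obtain ⟨k, A, y, hy1, hy2⟩ := Module.Flat.isTrivialRelation_of_sum_smul_eq_zero hrel
    refine ⟨k, A, fun j => Ring.DirectLimit.of G (fun i j h => f i j h) K' (y j), ?_, hy2⟩
    intro a
    have hy1a : f K K' hKK' (w a) = ∑ j, A a j • y j := hy1 a
    dsimp only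
    rw [← hw a (Finset.mem_univ a), ← Ring.DirectLimit.of_f (hij := hKK'), hy1a, map_sum]
    apply Finset.sum_congr rfl
    intro j _
    rw [Algebra.smul_def, map_mul, hψk, hsmul]
  refine { toFlat := hflat, submodule_ne_top := ?_ }
  intro m hm htop
  have h1 : (1 : Ring.DirectLimit G (fun i j h => f i j h)) ∈
      m • Submodule.span R (Set.range (id : Ring.DirectLimit G (fun i j h => f i j h) → _)) := by
    rw [Set.range_id, Submodule.span_univ, htop]; trivial
  obtain ⟨a, ha, hsum⟩ := (Submodule.mem_ideal_smul_span_iff_exists_sum m id 1).mp h1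
  obtain ⟨K, w, hw⟩ := exists_lift_finset G f a.support id
  have hz' : Ring.DirectLimit.of G (fun i j h => f i j h) K
      (1 - ∑ s ∈ a.support, algebraMap R (G K) (a s) * w s) = 0 := by
    rw [map_sub, map_one, map_sum, sub_eq_zero, ← hsum, Finsupp.sum]
    apply Finset.sum_congr rfl
    intro s hs
    rw [map_mul, hψk, hw s hs, hsmul]
  obtain ⟨K', hKK', hzero⟩ := Ring.DirectLimit.of.zero_exact hz'
  rw [map_sub, map_one, map_sum, sub_eq_zero] at hzero
  apply (hffk K').submodule_ne_top hm
  rw [eq_top_iff]
  rintro g -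
  have hg : g = ∑ s ∈ a.support, a s • (g * f K K' hKK' (w s)) := by
    conv_lhs => rw [← mul_one g, hzero, Finset.mul_sum]
    apply Finset.sum_congr rfl
    intro s _
    rw [map_mul, Algebra.smul_def]
    have := RingHom.congr_fun (hcompat K K' hKK') (a s)
    simp only [RingHom.comp_apply] at this
    rw [this]
    ring
  rw [hg]
  exact Submodule.sum_mem _ fun s _ => Submodule.smul_mem_smul (ha s) Submodule.mem_top

end Groth.Agent.S6321
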