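import Groth.Statements.S6322
import Mathlib.CategoryTheory.Abelian.Projective.Resolution
import Mathlib.Algebra.Category.ModuleCat.Projective
-- import your own Groth.Agent.* helpers here

set_option autoImplicit false
universe u
open CategoryTheory
open CAlg

namespace Groth.Agent.S6322


section aux
open CategoryTheory.Limits ChainComplex HomologicalComplex Category

universe v' u'
variable {C : Type u'} [Category.{v'} C] [Abelian C]
variable {Z : C} (K : ChainComplex C ℕ) (π : K ⟶ (ChainComplex.single₀ C).obj Z) [QuasiIso π]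

include π in
lemma K_exactAt_succ (n : ℕ) : K.ExactAt (n + 1) := by
  rw [← quasiIsoAt_iff_exactAt' π (n + 1) (exactAt_succ_single_obj _ _)]
  infer_instance

include π in
lemma K_exact_succ (n : ℕ) :
    (ShortComplex.mk _ _ (K.d_comp_d (n + 2) (n + 1) n)).Exact :=
  ((HomologicalComplex.exactAt_iff' _ (n + 2) (n + 1) n) (by simp only [ChainComplex.prev]; rfl)
    (by simp)).1 (K_exactAt_succ K π n)

omit [QuasiIso π] in
lemma d_comp_π : K.d 1 0 ≫ π.f 0 = 0 := by
  rw [← π.comm 1 0, single_obj_d, comp_zero]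

set_option backward.isDefEq.respectTransparency.types false in
set_option backward.defeqAttrib.useBackward true in
noncomputable def isColimitCokernelCofork' :
    IsColimit (CokernelCofork.ofπ _ (d_comp_π K π)) := by
  refine IsColimit.ofIsoColimit (K.opcyclesIsCokernel 1 0 (by simp)) ?_
  refine Cofork.ext (K.isoHomologyι₀.symm ≪≫ isoOfQuasiIsoAt π 0 ≪≫
    singleObjHomologySelfIso _ _ _) ?_
  rw [← cancel_mono (singleObjHomologySelfIso (ComplexShape.down ℕ) 0 _).inv,
    ← cancel_mono (isoHomologyι₀ _).hom]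
  dsimp
  simp only [isoHomologyι₀_inv_naturality_assoc, p_opcyclesMap_assoc, single₀_obj_zero, assoc,
    Iso.hom_inv_id, comp_id, isoHomologyι_inv_hom_id, singleObjHomologySelfIso_inv_homologyι,
    singleObjOpcyclesSelfIso_hom, single₀ObjXSelf, Iso.refl_inv, id_comp]

lemma K_exact₀ : (ShortComplex.mk _ _ (d_comp_π K π)).Exact :=
  ShortComplex.exact_of_g_is_cokernel _ (isColimitCokernelCofork' K π)

lemma epi_π_zero : Epi (π.f 0) :=
  epi_of_isColimit_cofork (isColimitCokernelCofork' K π)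

variable {Y : C} (F : ChainComplex C ℕ) (ε : F ⟶ (ChainComplex.single₀ C).obj Y)
  [∀ n, Projective (F.X n)] (g : Y ⟶ Z)

set_option backward.isDefEq.respectTransparency false in
noncomputable def liftZero : F.X 0 ⟶ K.X 0 :=
  haveI := epi_π_zero K π
  Projective.factorThru (ε.f 0 ≫ g) (π.f 0)

set_option backward.isDefEq.respectTransparency false in
lemma liftZero_comp : liftZero K π F ε g ≫ π.f 0 = ε.f 0 ≫ g := by
  have := epi_π_zero K π
  exact Projective.factorThru_comp _ _

omit [QuasiIso π] [∀ n, Projective (F.X n)] in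
lemma d_comp_ε : F.d 1 0 ≫ ε.f 0 = 0 := by
  rw [← ε.comm 1 0, single_obj_d, comp_zero]

set_option backward.isDefEq.respectTransparency false in
noncomputable def liftOne : F.X 1 ⟶ K.X 1 :=
  (K_exact₀ K π).liftFromProjective (F.d 1 0 ≫ liftZero K π F ε g) (by
    dsimp
    rw [assoc, liftZero_comp, ← assoc, d_comp_ε, zero_comp])

lemma liftOne_comm : liftOne K π F ε g ≫ K.d 1 0 = F.d 1 0 ≫ liftZero K π F ε g :=
  (K_exact₀ K π).liftFromProjective_comp _ _

noncomputable def liftSucc (n : ℕ) (a : F.X n ⟶ K.X n) (a' : F.X (n + 1) ⟶ K.X (n + 1))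
    (w : a' ≫ K.d (n + 1) n = F.d (n + 1) n ≫ a) :
    Σ' a'' : F.X (n + 2) ⟶ K.X (n + 2), a'' ≫ K.d (n + 2) (n + 1) = F.d (n + 2) (n + 1) ≫ a' :=
  ⟨(K_exact_succ K π n).liftFromProjective (F.d (n + 2) (n + 1) ≫ a') (by simp [w]),
    (K_exact_succ K π n).liftFromProjective_comp _ _⟩

noncomputable def lift' : F ⟶ K :=
  ChainComplex.mkHom _ _ (liftZero K π F ε g) (liftOne K π F ε g) (liftOne_comm K π F ε g)
    fun n ⟨a, a', w⟩ => ⟨(liftSucc K π F n a a' w).1, (liftSucc K π F n a a' w).2⟩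

set_option backward.isDefEq.respectTransparency.types false in
theorem lift'_commutes : lift' K π F ε g ≫ π = ε ≫ (ChainComplex.single₀ C).map g := by
  apply HomologicalComplex.to_single_hom_ext
  simp only [lift', HomologicalComplex.comp_f, ChainComplex.mkHom_f_0]
  exact (liftZero_comp K π F ε g).trans (by simp)

variable {F}

noncomputable def htpyZeroZero (f : F ⟶ K) (comm : f ≫ π = 0) : F.X 0 ⟶ K.X 1 :=
  (K_exact₀ K π).liftFromProjective (f.f 0)
    (congr_fun (congr_arg HomologicalComplex.Hom.f comm) 0)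

lemma htpyZeroZero_comp (f : F ⟶ K) (comm : f ≫ π = 0) :
    htpyZeroZero K π f comm ≫ K.d 1 0 = f.f 0 :=
  (K_exact₀ K π).liftFromProjective_comp _ _

noncomputable def htpyZeroOne (f : F ⟶ K) (comm : f ≫ π = 0) : F.X 1 ⟶ K.X 2 :=
  (K_exact_succ K π 0).liftFromProjective (f.f 1 - F.d 1 0 ≫ htpyZeroZero K π f comm)
    (by
      dsimp
      rw [Preadditive.sub_comp, assoc, HomologicalComplex.Hom.comm,
        htpyZeroZero_comp, sub_self])

lemma htpyZeroOne_comp (f : F ⟶ K) (comm : f ≫ π = 0) :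
    htpyZeroOne K π f comm ≫ K.d 2 1 = f.f 1 - F.d 1 0 ≫ htpyZeroZero K π f comm :=
  (K_exact_succ K π 0).liftFromProjective_comp _ _

noncomputable def htpyZeroSucc (f : F ⟶ K) (n : ℕ) (a : F.X n ⟶ K.X (n + 1))
    (a' : F.X (n + 1) ⟶ K.X (n + 2))
    (w : f.f (n + 1) = F.d (n + 1) n ≫ a + a' ≫ K.d (n + 2) (n + 1)) :
    F.X (n + 2) ⟶ K.X (n + 3) :=
  (K_exact_succ K π (n + 1)).liftFromProjective (f.f (n + 2) - F.d _ _ ≫ a') (by simp [w])

lemma htpyZeroSucc_comp (f : F ⟶ K) (n : ℕ) (a : F.X n ⟶ K.X (n + 1))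
    (a' : F.X (n + 1) ⟶ K.X (n + 2))
    (w : f.f (n + 1) = F.d (n + 1) n ≫ a + a' ≫ K.d (n + 2) (n + 1)) :
    htpyZeroSucc K π f n a a' w ≫ K.d (n + 3) (n + 2) = f.f (n + 2) - F.d _ _ ≫ a' :=
  (K_exact_succ K π (n + 1)).liftFromProjective_comp _ _

noncomputable def htpyZero (f : F ⟶ K) (comm : f ≫ π = 0) : Homotopy f 0 :=
  Homotopy.mkInductive _ (htpyZeroZero K π f comm) (by simp [htpyZeroZero_comp])
    (htpyZeroOne K π f comm) (by simp [htpyZeroOne_comp]) fun n ⟨a, a', w⟩ =>
    ⟨htpyZeroSucc K π f n a a' w, by simp [htpyZeroSucc_comp]⟩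

end aux

/-- Let R be a ring, M → N a map of R-modules, N• → N a resolution (a chain complex with a
quasi-isomorphism onto N placed in degree 0) and … → F₁ → F₀ → M a complex with every Fᵢ free (F• a
chain complex with an augmentation to M in degree 0, exactness not required). Then (1) there is a
map of complexes F• → N• compatible with M → N through the augmentations, and (2) any two such maps
are homotopic. -/
theorem result (R : Type u) [CommRing R] (M N : ModuleCat.{u} R) (g : M ⟶ N) (F Nc : ChainComplex (ModuleCat.{u} R) ℕ) (hF : ∀ i, Module.Free R (F.X i)) (εF : F ⟶ (ChainComplex.single₀ (ModuleCat.{u} R)).obj M) (εN : Nc ⟶ (ChainComplex.single₀ (ModuleCat.{u} R)).obj N) [QuasiIso εN] : (∃ φ : F ⟶ Nc, φ ≫ εN = εF ≫ (ChainComplex.single₀ (ModuleCat.{u} R)).map g) ∧ ∀ α β : F ⟶ Nc, α ≫ εN = εF ≫ (ChainComplex.single₀ (ModuleCat.{u} R)).map g → β ≫ εN = εF ≫ (ChainComplex.single₀ (ModuleCat.{u} R)).map g → Nonempty (Homotopy α β) := by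
  have : ∀ n, Projective (F.X n) := fun n =>
    have := hF n
    ModuleCat.projective_of_free (Module.Free.chooseBasis R (F.X n))
  refine ⟨⟨lift' Nc εN F εF g, lift'_commutes Nc εN F εF g⟩, ?_⟩
  intro α β hα hβ
  exact ⟨Homotopy.equivSubZero.invFun (htpyZero Nc εN (α - β) (by
    rw [Preadditive.sub_comp, hα, hβ, sub_self]))⟩

end Groth.Agent.S6322
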