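import Groth.Statements.S6324
import Groth.Agent.Lib.Helper17.MkPoly
import Mathlib.RingTheory.ReesAlgebra
import Mathlib.Tactic

set_option autoImplicit false
universe u
open CAlg

namespace Groth.Agent.S6324

open Polynomial Groth.Agent.Lib.Helper17.MP

variable {R S : Type u} [CommRing R] [CommRing S] [Algebra R S] (I : Ideal R)

/-- the ring map from the Rees algebra to `S[X]` -/
noncomputable abbrev reesMap : reesAlgebra I →+* S[X] :=
  (Polynomial.mapRingHom (algebraMap R S)).comp (reesAlgebra I).val.toRingHom

theorem reesMap_apply (c : reesAlgebra I) : reesMap (S := S) I c = c.val.map (algebraMap R S) := rfl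

theorem Cs_X_pow (s : S) (j : ℕ) : (C s * X : S[X]) ^ j = monomial j (s ^ j) := by
  rw [mul_pow, ← C_pow, C_mul_X_pow_eq_monomial]

theorem forward (s : S) (h : W4stkalgebra1.IsIntegralOverIdeal I s) :
    (reesMap (S := S) I).IsIntegralElem (C s * X) := by
  obtain ⟨p, hp1, hp2, hp3⟩ := h
  set d := p.natDegree with hd
  have hmem : ∀ j, monomial (d - j) (p.coeff j) ∈ reesAlgebra I := by
    intro j
    apply reesAlgebra.monomial_mem.mpr
    by_cases hj : j < d
    · exact hp2 j hj
    · have : d - j = 0 := by omega
      rw [this, pow_zero, Ideal.one_eq_top]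
      exact Submodule.mem_top
  let c : ℕ → reesAlgebra I := fun j => ⟨monomial (d - j) (p.coeff j), hmem j⟩
  have hcd : c d = 1 := by
    apply Subtype.ext
    change monomial (d - d) (p.coeff d) = 1
    rw [Nat.sub_self, hd, hp1.coeff_natDegree]
    rfl
  refine ⟨mkPoly d c, mkPoly_monic d c hcd, ?_⟩
  rw [mkPoly_eval₂]
  have hterm : ∀ j ∈ Finset.range (d + 1),
      (reesMap (S := S) I) (c j) * (C s * X : S[X]) ^ j =
        monomial d (algebraMap R S (p.coeff j) * s ^ j) := by
    intro j hj
    have hj' : j ≤ d := Nat.lt_succ_iff.mp (Finset.mem_range.mp hj)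
    rw [reesMap_apply, Cs_X_pow]
    change (monomial (d - j) (p.coeff j)).map (algebraMap R S) * _ = _
    rw [map_monomial, monomial_mul_monomial, Nat.sub_add_cancel hj']
  rw [Finset.sum_congr rfl hterm, ← map_sum]
  have : ∑ j ∈ Finset.range (d + 1), algebraMap R S (p.coeff j) * s ^ j = 0 := by
    rw [← hp3, eval₂_eq_sum_range]
  rw [this, map_zero]

theorem backward (s : S) (h : (reesMap (S := S) I).IsIntegralElem (C s * X)) :
    W4stkalgebra1.IsIntegralOverIdeal I s := by
  obtain ⟨P, hP1, hP2⟩ := h
  rcases subsingleton_or_nontrivial R with hR | hR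
  · refine ⟨1, monic_one, ?_, ?_⟩
    · intro j hj
      simp at hj
    · have : Subsingleton S := by
        have h01 : (0 : S) = 1 := by
          rw [← map_zero (algebraMap R S), ← map_one (algebraMap R S)]
          exact congrArg _ (Subsingleton.elim _ _)
        exact subsingleton_of_zero_eq_one h01
      exact Subsingleton.elim _ _
  · set D := P.natDegree with hD
    let a : ℕ → R := fun j => (P.coeff j).val.coeff (D - j)
    have haD : a D = 1 := by
      change (P.coeff D).val.coeff (D - D) = 1
      rw [Nat.sub_self, hD, hP1.coeff_natDegree]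
      change (1 : R[X]).coeff 0 = 1
      exact coeff_one_zero
    have hnat : (mkPoly D a).natDegree = D := mkPoly_natDegree D a haD
    refine ⟨mkPoly D a, mkPoly_monic D a haD, ?_, ?_⟩
    · intro j hj
      rw [hnat] at hj ⊢
      rw [mkPoly_coeff, if_pos hj.le]
      exact (P.coeff j).2 (D - j)
    · rw [mkPoly_eval₂]
      have h0 := congrArg (fun q : S[X] => q.coeff D) hP2
      simp only [coeff_zero] at h0
      rw [eval₂_eq_sum_range, finsetSum_coeff] at h0
      rw [← h0]
      apply Finset.sum_congr rfl
      intro j hj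
      have hj' : j ≤ D := Nat.lt_succ_iff.mp (Finset.mem_range.mp hj)
      rw [reesMap_apply, Cs_X_pow]
      have hDj : D = (D - j) + j := (Nat.sub_add_cancel hj').symm
      conv_rhs => rw [hDj]
      rw [coeff_mul_monomial, coeff_map]

/-- Let R → S be a ring map, I ⊆ R an ideal and A = Σ Iⁿtⁿ ⊆ R[t] the Rees algebra of I. For s ∈ S,
being integral over I is equivalent to s·t ∈ S[t] being integral over A (via A ⊆ R[t] → S[t]). -/
theorem result {R S : Type u} [CommRing R] [CommRing S] [Algebra R S] (I : Ideal R) (s : S) : W4stkalgebra1.IsIntegralOverIdeal I s ↔ ((Polynomial.mapRingHom (algebraMap R S)).comp (reesAlgebra I).val.toRingHom).IsIntegralElem (Polynomial.C s * Polynomial.X) := by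
  exact ⟨forward I s, backward I s⟩

end Groth.Agent.S6324
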