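import Groth.Statements.S6325
import Groth.Agent.S6324
import Mathlib.RingTheory.IntegralClosure.Algebra.Basic
import Mathlib.Tactic

set_option autoImplicit false
universe u
open CAlg

namespace Groth.Agent.S6325

open Polynomial

variable {R S : Type u} [CommRing R] [CommRing S] [Algebra R S] (I : Ideal R)

noncomputable abbrev rm : reesAlgebra I →+* S[X] :=
  (Polynomial.mapRingHom (algebraMap R S)).comp (reesAlgebra I).val.toRingHom

theorem iff_rm (s : S) :
    W4stkalgebra1.IsIntegralOverIdeal I s ↔ (rm (S := S) I).IsIntegralElem (C s * X) :=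
  Groth.Agent.S6324.result I s

theorem rm_comp : (rm (S := S) I).comp (algebraMap R (reesAlgebra I)) =
    (C : S →+* S[X]).comp (algebraMap R S) := by
  ext r : 1
  change ((algebraMap R R[X]) r).map (algebraMap R S) = C (algebraMap R S r)
  rw [← Polynomial.C_eq_algebraMap, Polynomial.map_C]

theorem integral_C (s : S) (hs : IsIntegral R s) : (rm (S := S) I).IsIntegralElem (C s) := by
  have h1 : ((C : S →+* S[X]).comp (algebraMap R S)).IsIntegralElem (C s) :=
    RingHom.IsIntegralElem.map hs C
  rw [← rm_comp I] at h1
  exact RingHom.IsIntegralElem.of_comp h1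

theorem mul_closed (s s' : S) (hs : IsIntegral R s) (hs' : W4stkalgebra1.IsIntegralOverIdeal I s') :
    W4stkalgebra1.IsIntegralOverIdeal I (s * s') := by
  rw [iff_rm] at hs' ⊢
  have : (C (s * s') * X : S[X]) = C s * (C s' * X) := by
    rw [C_mul, mul_assoc]
  rw [this]
  exact RingHom.IsIntegralElem.mul _ (integral_C I s hs) hs'

/-- Let R → S be a ring map and I ⊆ R an ideal. The elements of S integral over I form an R-submodule of
S; moreover, the product s s' is integral over I for any s ∈ S integral over R and any s' ∈ S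
integral over I. -/
theorem result {R S : Type u} [CommRing R] [CommRing S] [Algebra R S] (I : Ideal R) : (∃ N : Submodule R S, ∀ s : S, s ∈ N ↔ W4stkalgebra1.IsIntegralOverIdeal I s) ∧ (∀ s s' : S, IsIntegral R s → W4stkalgebra1.IsIntegralOverIdeal I s' → W4stkalgebra1.IsIntegralOverIdeal I (s * s')) := by
  refine ⟨⟨{ carrier := {s | W4stkalgebra1.IsIntegralOverIdeal I s}
             add_mem' := ?_
             zero_mem' := ?_
             smul_mem' := ?_ }, fun s => Iff.rfl⟩, mul_closed I⟩
  · intro a b ha hb
    simp only [Set.mem_ofPred_eq] at ha hb ⊢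
    rw [iff_rm] at ha hb ⊢
    have : (C (a + b) * X : S[X]) = C a * X + C b * X := by
      rw [C_add, add_mul]
    rw [this]
    exact RingHom.IsIntegralElem.add _ ha hb
  · simp only [Set.mem_ofPred_eq]
    rw [iff_rm]
    have : (C (0 : S) * X : S[X]) = 0 := by rw [C_0, zero_mul]
    rw [this]
    exact RingHom.isIntegralElem_zero _
  · intro r a ha
    simp only [Set.mem_ofPred_eq] at ha ⊢
    rw [Algebra.smul_def]
    exact mul_closed I _ a isIntegral_algebraMap ha

end Groth.Agent.S6325
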