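import Groth.Statements.S6326
import Mathlib.CategoryTheory.Limits.Types.Filtered
import Mathlib.Algebra.Category.ModuleCat.Colimits
import Mathlib.RingTheory.Finiteness.Basic
-- import your own Groth.Agent.* helpers here

set_option autoImplicit false
universe u
open CategoryTheory CategoryTheory.Limits
open CAlg

namespace Groth.Agent.S6326

section aux

variable (R : Type u) [CommRing R] (N : Type u) [AddCommGroup N] [Module R N]

/-- finitely generated submodules -/
abbrev J := {N' : Submodule R N // N'.FG}

instance : SemilatticeSup (J R N) := Subtype.semilatticeSup (fun {_ _} ha hb => Submodule.FG.sup ha hb)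

instance : Nonempty (J R N) := ⟨⟨⊥, Submodule.fg_bot⟩⟩

/-- the diagram of quotients by finitely generated submodules -/
noncomputable def F : J R N ⥤ ModuleCat.{u} R where
  obj N' := ModuleCat.of R (N ⧸ N'.1)
  map {a b} h := ModuleCat.ofHom (Submodule.mapQ a.1 b.1 LinearMap.id
    (by simpa using (show a.1 ≤ b.1 from leOfHom h)))
  map_id a := by
    ext x
    simp
  map_comp {a b c} f g := by
    ext x
    simp

end aux

/-- Let R be a ring and N an R-module such that whenever M is the colimit of a filtered diagram (Mᵢ) of
R-modules (indexed by a filtered category in the same universe), the comparison map colim Hom_R(N,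
Mᵢ) → Hom_R(N, M) is injective. Then N is finitely generated. (The implication from finite
generation back to this injectivity also holds; only the characterizing direction is stated here.) -/
theorem result (R : Type u) [CommRing R] (N : Type u) [AddCommGroup N] [Module R N] (h : ∀ (J : Type u) [SmallCategory J] [IsFiltered J] (F : J ⥤ ModuleCat.{u} R), Function.Injective (colimit.post F (coyoneda.obj (Opposite.op (ModuleCat.of R N))))) : Module.Finite R N := by
  have hinj := h (J R N) (F R N)
  let j0 : J R N := ⟨⊥, Submodule.fg_bot⟩
  let q : ModuleCat.of R N ⟶ (F R N).obj j0 := ModuleCat.ofHom (Submodule.mkQ ⊥)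
  have e : colimit.ι (F R N ⋙ coyoneda.obj (Opposite.op (ModuleCat.of R N))) j0 q =
      colimit.ι (F R N ⋙ coyoneda.obj (Opposite.op (ModuleCat.of R N))) j0
        (0 : ModuleCat.of R N ⟶ (F R N).obj j0) := by
    apply hinj
    have := ConcreteCategory.congr_hom
      (colimit.ι_post (F R N) (coyoneda.obj (Opposite.op (ModuleCat.of R N))) j0)
    simp only [ConcreteCategory.comp_apply] at this
    rw [this, this]
    change q ≫ colimit.ι (F R N) j0 = 0 ≫ colimit.ι (F R N) j0
    rw [Limits.zero_comp]
    ext n
    let jn : J R N := ⟨Submodule.span R {n}, Submodule.fg_span_singleton n⟩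
    have hle : j0 ≤ jn := Subtype.mk_le_mk.mpr bot_le
    rw [← colimit.w (F R N) (homOfLE hle)]
    have h0 : ((F R N).map (homOfLE hle)).hom (q.hom n) = 0 := by
      change Submodule.mapQ j0.1 jn.1 LinearMap.id (by simpa using hle) (Submodule.mkQ j0.1 n) = 0
      rw [Submodule.mkQ_apply, Submodule.mapQ_apply, LinearMap.id_apply,
        Submodule.Quotient.mk_eq_zero]
      exact Submodule.mem_span_singleton_self n
    rw [ModuleCat.hom_comp, ModuleCat.hom_comp, LinearMap.comp_apply, LinearMap.comp_apply, h0,
      map_zero, ModuleCat.hom_zero, LinearMap.zero_apply]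
  obtain ⟨k, f, g, hfg⟩ := (Types.FilteredColimit.colimit_eq_iff _).mp e
  change q ≫ (F R N).map f = 0 ≫ (F R N).map g at hfg
  rw [Limits.zero_comp] at hfg
  have htop : k.1 = ⊤ := by
    rw [eq_top_iff]
    intro n _
    have := congr_arg (fun t => t.hom n) hfg
    change Submodule.mapQ j0.1 k.1 LinearMap.id (by simpa using leOfHom f) (Submodule.mkQ j0.1 n) = 0 at this
    rwa [Submodule.mkQ_apply, Submodule.mapQ_apply, LinearMap.id_apply,
      Submodule.Quotient.mk_eq_zero] at this
  exact ⟨htop ▸ k.2⟩

end Groth.Agent.S6326
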