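import Groth.Statements.S6327
import Mathlib.CategoryTheory.Limits.Types.Filtered
import Mathlib.Algebra.Category.ModuleCat.Colimits
import Mathlib.RingTheory.Finiteness.Basic
import Groth.Agent.S6326

set_option autoImplicit false
universe u
open CategoryTheory CategoryTheory.Limits
open CAlg

namespace Groth.Agent.S6327

section aux

variable (R : Type u) [CommRing R] {L : Type u} [AddCommGroup L] [Module R L]
  (K : Submodule R L)

/-- finitely generated submodules of `K` -/
abbrev J := {K' : Submodule R L // K'.FG ∧ K' ≤ K}

instance : SemilatticeSup (J R K) :=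
  Subtype.semilatticeSup (fun {_ _} ha hb => ⟨Submodule.FG.sup ha.1 hb.1, sup_le ha.2 hb.2⟩)

instance : Nonempty (J R K) := ⟨⟨⊥, Submodule.fg_bot, bot_le⟩⟩

/-- the diagram of quotients by finitely generated submodules of `K` -/
noncomputable def F : J R K ⥤ ModuleCat.{u} R where
  obj K' := ModuleCat.of R (L ⧸ K'.1)
  map {a b} h := ModuleCat.ofHom (Submodule.mapQ a.1 b.1 LinearMap.id
    (by simpa using (show a.1 ≤ b.1 from leOfHom h)))
  map_id a := by
    ext x
    simp
  map_comp {a b c} f g := by
    ext x
    simp

lemma retract_fp {M N : Type u} [AddCommGroup M] [Module R M] [AddCommGroup N] [Module R N]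
    [Module.FinitePresentation R M] (p : M →ₗ[R] N) (s : N →ₗ[R] M) (hps : p ∘ₗ s = LinearMap.id) :
    Module.FinitePresentation R N := by
  have hsurj : Function.Surjective p := fun n => ⟨s n, LinearMap.congr_fun hps n⟩
  refine Module.finitePresentation_of_surjective p hsurj ?_
  have : LinearMap.ker p = LinearMap.range (LinearMap.id - s ∘ₗ p) := by
    ext x
    constructor
    · intro hx
      refine ⟨x, ?_⟩
      simp [LinearMap.mem_ker.mp hx]
    · rintro ⟨y, rfl⟩
      have := LinearMap.congr_fun hps (p y)
      simp only [LinearMap.coe_comp, Function.comp_apply, LinearMap.id_coe, id_eq] at this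
      simp [this]
  rw [this, LinearMap.range_eq_map]
  exact (Module.Finite.fg_top).map _

end aux

/-- Let R be a ring and N an R-module such that whenever M is the colimit of a filtered diagram (Mᵢ) of
R-modules (indexed by a filtered category in the same universe), the comparison map colim Hom_R(N,
Mᵢ) → Hom_R(N, M) is bijective. Then N is finitely presented. (The implication from finite
presentation back to this bijectivity also holds; only the characterizing direction is stated here.) -/
theorem result (R : Type u) [CommRing R] (N : Type u) [AddCommGroup N] [Module R N] (h : ∀ (J : Type u) [SmallCategory J] [IsFiltered J] (F : J ⥤ ModuleCat.{u} R), Function.Bijective (colimit.post F (coyoneda.obj (Opposite.op (ModuleCat.of R N))))) : Module.FinitePresentation R N := by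
  have hfin : Module.Finite R N := Groth.Agent.S6326.result R N (fun J _ _ F => (h J F).1)
  obtain ⟨n, π, hπ⟩ := Module.Finite.exists_fin' R N
  let K := LinearMap.ker π
  have hsurj := (h (J R K) (F R K)).2
  let j0 : J R K := ⟨⊥, Submodule.fg_bot, bot_le⟩
  -- the cocone maps
  let pj : ∀ j : J R K, (F R K).obj j ⟶ ModuleCat.of R N := fun j =>
    ModuleCat.ofHom (Submodule.liftQ j.1 π j.2.2)
  let c : Cocone (F R K) :=
    { pt := ModuleCat.of R N
      ι := { app := pj
             naturality := by
               intro a b f
               ext x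
               obtain ⟨x, rfl⟩ := Submodule.mkQ_surjective a.1 x
               rfl } }
  let d : colimit (F R K) ⟶ ModuleCat.of R N := colimit.desc (F R K) c
  have hd : ∀ j, colimit.ι (F R K) j ≫ d = pj j := fun j => colimit.ι_desc c j
  -- the map `N → colimit F`
  let t0 : (Fin n → R) →ₗ[R] (colimit (F R K) : ModuleCat.{u} R) :=
    (colimit.ι (F R K) j0).hom ∘ₗ Submodule.mkQ (⊥ : Submodule R (Fin n → R))
  have ht0 : K ≤ LinearMap.ker t0 := by
    intro v hv
    rw [LinearMap.mem_ker]
    let jv : J R K := ⟨Submodule.span R {v}, Submodule.fg_span_singleton v,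
      (Submodule.span_singleton_le_iff_mem v K).mpr hv⟩
    have hle : j0 ≤ jv := Subtype.mk_le_mk.mpr bot_le
    have h0 : ((F R K).map (homOfLE hle)).hom (Submodule.mkQ j0.1 v) = 0 := by
      change Submodule.mapQ j0.1 jv.1 LinearMap.id (by simpa using hle) (Submodule.mkQ j0.1 v) = 0
      rw [Submodule.mkQ_apply, Submodule.mapQ_apply, LinearMap.id_apply,
        Submodule.Quotient.mk_eq_zero]
      exact Submodule.mem_span_singleton_self v
    change (colimit.ι (F R K) j0).hom (Submodule.mkQ j0.1 v) = 0
    rw [← colimit.w (F R K) (homOfLE hle), ModuleCat.hom_comp, LinearMap.comp_apply, h0, map_zero]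
  let t : ModuleCat.of R N ⟶ colimit (F R K) :=
    ModuleCat.ofHom ((Submodule.liftQ K t0 ht0) ∘ₗ (π.quotKerEquivOfSurjective hπ).symm.toLinearMap)
  have htd : t ≫ d = 𝟙 _ := by
    ext x
    obtain ⟨v, rfl⟩ := hπ x
    have h1 : (π.quotKerEquivOfSurjective hπ).symm (π v) = Submodule.Quotient.mk v := by
      rw [LinearEquiv.symm_apply_eq]
      rfl
    have h2 := congr_arg (fun m => m.hom (Submodule.mkQ j0.1 v)) (hd j0)
    simp only [ModuleCat.hom_comp, LinearMap.comp_apply] at h2
    simp only [t, ModuleCat.hom_comp, ModuleCat.hom_ofHom, LinearMap.comp_apply,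
      LinearEquiv.coe_coe, ModuleCat.hom_id, LinearMap.id_apply]
    erw [h1]
    rw [Submodule.liftQ_apply]
    exact h2
  -- lift `t` through some stage
  obtain ⟨y, hy⟩ := hsurj t
  obtain ⟨j, s, rfl⟩ := Types.jointly_surjective' y
  have hs : s ≫ colimit.ι (F R K) j = t := by
    have := ConcreteCategory.congr_hom
      (colimit.ι_post (F R K) (coyoneda.obj (Opposite.op (ModuleCat.of R N))) j) s
    simp only [ConcreteCategory.comp_apply] at this
    rw [this] at hy
    exact hy
  have hsp : s ≫ pj j = 𝟙 _ := by
    rw [← hd j, ← Category.assoc, hs, htd]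
  have hfp : Module.FinitePresentation R ((Fin n → R) ⧸ j.1) :=
    Module.finitePresentation_of_surjective (Submodule.mkQ j.1) (Submodule.mkQ_surjective _)
      (by rw [Submodule.ker_mkQ]; exact j.2.1)
  refine retract_fp R (M := (Fin n → R) ⧸ j.1) (pj j).hom s.hom ?_
  have := congr_arg ModuleCat.Hom.hom hsp
  rw [ModuleCat.hom_comp, ModuleCat.hom_id] at this
  exact this

end Groth.Agent.S6327
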