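import Groth.Statements.S6328
import Mathlib

set_option autoImplicit false
universe u
open CAlg

namespace Groth.Agent.S6328

section

variable (R : Type u) [CommRing R] (M : Type u) [AddCommGroup M] [Module R M]

noncomputable def piM : (M →₀ R) →ₗ[R] M := Finsupp.linearCombination R id

abbrev Idx : Type u := Finset M × Finset (LinearMap.ker (piM R M))

variable {R M}

noncomputable def supp (i : Idx R M) : Finset M :=
  haveI := Classical.decEq M
  i.1 ∪ i.2.biUnion (fun b => b.1.support)

noncomputable def relSpan (i : Idx R M) : Submodule R (M →₀ R) :=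
  Submodule.span R ((fun b : LinearMap.ker (piM R M) => (b : M →₀ R)) '' (i.2 : Set _))

theorem relSpan_le_supported (i : Idx R M) :
    relSpan i ≤ Finsupp.supported R R (supp i : Set M) := by
  classical
  rw [relSpan, Submodule.span_le]
  rintro _ ⟨b, hb, rfl⟩
  rw [SetLike.mem_coe, Finsupp.mem_supported]
  intro m hm
  rw [supp, Finset.coe_union, Finset.coe_biUnion]
  exact Or.inr (Set.mem_biUnion hb hm)

theorem relSpan_le_ker (i : Idx R M) : relSpan i ≤ LinearMap.ker (piM R M) := by
  rw [relSpan, Submodule.span_le]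
  rintro _ ⟨b, -, rfl⟩
  exact b.2

theorem supp_mono {i j : Idx R M} (h : i ≤ j) : supp i ⊆ supp j := by
  classical
  intro m hm
  rw [supp, Finset.mem_union, Finset.mem_biUnion] at hm ⊢
  rcases hm with hm | ⟨b, hb, hm⟩
  · exact Or.inl (h.1 hm)
  · exact Or.inr ⟨b, h.2 hb, hm⟩

theorem relSpan_mono {i j : Idx R M} (h : i ≤ j) : relSpan i ≤ relSpan j := by
  apply Submodule.span_mono
  apply Set.image_mono
  exact h.2

variable (R) in
noncomputable def emb (A : Finset M) : (↥A →₀ R) →ₗ[R] (M →₀ R) :=
  Finsupp.lmapDomain R R (Subtype.val : ↥A → M)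

variable (R) in
noncomputable def incl {A A' : Finset M} (h : A ⊆ A') : (↥A →₀ R) →ₗ[R] (↥A' →₀ R) :=
  Finsupp.lmapDomain R R (fun a : ↥A => (⟨a.1, h a.2⟩ : ↥A'))

omit [AddCommGroup M] [Module R M] in
theorem emb_incl {A A' : Finset M} (h : A ⊆ A') (v : ↥A →₀ R) :
    emb R A' (incl R h v) = emb R A v := by
  simp only [emb, incl, Finsupp.lmapDomain_apply]
  rw [← Finsupp.mapDomain_comp]
  rfl

omit [AddCommGroup M] [Module R M] in
theorem incl_refl {A : Finset M} (v : ↥A →₀ R) : incl R (Finset.Subset.refl A) v = v := by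
  simp only [incl, Finsupp.lmapDomain_apply]
  exact Finsupp.mapDomain_id

omit [AddCommGroup M] [Module R M] in
theorem incl_incl {A A' A'' : Finset M} (h : A ⊆ A') (h' : A' ⊆ A'') (v : ↥A →₀ R) :
    incl R h' (incl R h v) = incl R (h.trans h') v := by
  simp only [incl, Finsupp.lmapDomain_apply]
  rw [← Finsupp.mapDomain_comp]
  rfl

omit [AddCommGroup M] [Module R M] in
theorem emb_injective (A : Finset M) : Function.Injective (emb R A) :=
  Finsupp.mapDomain_injective Subtype.val_injective

omit [AddCommGroup M] [Module R M] in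
theorem range_emb (A : Finset M) : LinearMap.range (emb R A) = Finsupp.supported R R (A : Set M) := by
  rw [← Submodule.map_top, ← Finsupp.supported_univ, emb, Finsupp.lmapDomain_supported]
  congr 1
  ext m
  simp

abbrev Gmod (i : Idx R M) : Type u :=
  (↥(supp i) →₀ R) ⧸ (relSpan i).comap (emb R (supp i))

noncomputable def trans (i j : Idx R M) (h : i ≤ j) : Gmod i →ₗ[R] Gmod j :=
  Submodule.mapQ _ _ (incl R (supp_mono h))
    (by
      intro x hx
      rw [Submodule.mem_comap] at hx
      rw [Submodule.mem_comap, Submodule.mem_comap, emb_incl]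
      exact relSpan_mono h hx)

noncomputable def toM (i : Idx R M) : Gmod i →ₗ[R] M :=
  Submodule.liftQ _ (piM R M ∘ₗ emb R (supp i))
    (by
      intro x hx
      rw [Submodule.mem_comap] at hx
      exact relSpan_le_ker i hx)

theorem trans_mk (i j : Idx R M) (h : i ≤ j) (x : ↥(supp i) →₀ R) :
    trans i j h (Submodule.Quotient.mk x) = Submodule.Quotient.mk (incl R (supp_mono h) x) := rfl

theorem toM_mk (i : Idx R M) (x : ↥(supp i) →₀ R) :
    toM i (Submodule.Quotient.mk x) = piM R M (emb R (supp i) x) := rfl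

theorem fp_Gmod (i : Idx R M) : Module.FinitePresentation R (Gmod i) := by
  refine Module.finitePresentation_of_surjective (Submodule.mkQ _) (Submodule.mkQ_surjective _) ?_
  rw [Submodule.ker_mkQ]
  apply Submodule.fg_of_fg_map_injective _ (emb_injective (supp i))
  rw [Submodule.map_comap_eq, range_emb, inf_eq_right.mpr (relSpan_le_supported i)]
  exact Submodule.fg_span (Set.Finite.image _ (Finset.finite_toSet _))

end

/-- Every module M over a ring R can be written as the direct limit of a directed system (Mᵢ, μᵢⱼ) of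
finitely presented R-modules. -/
theorem result (R : Type u) [CommRing R] (M : Type u) [AddCommGroup M] [Module R M] : ∃ (ι : Type u) (_ : Preorder ι) (_ : IsDirected ι (· ≤ ·)) (_ : Nonempty ι) (_ : DecidableEq ι) (G : ι → Type u) (_ : ∀ i, AddCommGroup (G i)) (_ : ∀ i, Module R (G i)) (f : ∀ i j, i ≤ j → G i →ₗ[R] G j) (_ : DirectedSystem G fun i j h => f i j h), (∀ i, Module.FinitePresentation R (G i)) ∧ Nonempty (Module.DirectLimit G f ≃ₗ[R] M) := by
  classical
  have hds : DirectedSystem (Gmod (R := R) (M := M)) fun i j h => trans i j h := by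
    constructor
    · intro i x
      obtain ⟨v, rfl⟩ := Submodule.Quotient.mk_surjective _ x
      rw [trans_mk, incl_refl]
    · intro k j i hij hjk x
      obtain ⟨v, rfl⟩ := Submodule.Quotient.mk_surjective _ x
      rw [trans_mk, trans_mk, trans_mk, incl_incl]
  refine ⟨Idx R M, inferInstance, inferInstance, inferInstance, inferInstance, Gmod,
    inferInstance, inferInstance, trans, hds, fp_Gmod, ⟨?_⟩⟩
  let Φ : Module.DirectLimit (Gmod (R := R) (M := M)) trans →ₗ[R] M :=
    Module.DirectLimit.lift R (Idx R M) Gmod trans toM (by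
      intro i j hij x
      obtain ⟨v, rfl⟩ := Submodule.Quotient.mk_surjective _ x
      rw [trans_mk, toM_mk, toM_mk, emb_incl])
  refine LinearEquiv.ofBijective Φ ⟨?_, ?_⟩
  · intro z w hzw
    obtain ⟨i, x, y, rfl, rfl⟩ := Module.DirectLimit.exists_of₂ z w
    obtain ⟨v, rfl⟩ := Submodule.Quotient.mk_surjective _ x
    obtain ⟨v', rfl⟩ := Submodule.Quotient.mk_surjective _ y
    simp only [Φ] at hzw
    rw [Module.DirectLimit.lift_of, Module.DirectLimit.lift_of, toM_mk, toM_mk] at hzw
    have hb : emb R (supp i) v - emb R (supp i) v' ∈ LinearMap.ker (piM R M) := by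
      rw [LinearMap.mem_ker, map_sub, hzw, sub_self]
    let b : LinearMap.ker (piM R M) := ⟨_, hb⟩
    let j : Idx R M := (i.1, insert b i.2)
    have hij : i ≤ j := ⟨le_rfl, Finset.subset_insert _ _⟩
    have e1 := Module.DirectLimit.of_f (R := R) (ι := Idx R M) (G := Gmod) (f := trans)
      (hij := hij) (x := (Submodule.Quotient.mk v : Gmod i))
    have e2 := Module.DirectLimit.of_f (R := R) (ι := Idx R M) (G := Gmod) (f := trans)
      (hij := hij) (x := (Submodule.Quotient.mk v' : Gmod i))
    rw [← e1, ← e2, trans_mk, trans_mk]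
    congr 1
    rw [Submodule.Quotient.eq, Submodule.mem_comap, map_sub, emb_incl, emb_incl]
    exact Submodule.subset_span ⟨b, Finset.mem_coe.mpr (Finset.mem_insert_self _ _), rfl⟩
  · intro m
    let i : Idx R M := ({m}, ∅)
    have hm : m ∈ supp i := by
      rw [supp]
      simp [i]
    refine ⟨Module.DirectLimit.of R _ Gmod trans i
      (Submodule.Quotient.mk (Finsupp.single ⟨m, hm⟩ 1)), ?_⟩
    rw [Module.DirectLimit.lift_of, toM_mk, emb, Finsupp.lmapDomain_apply,
      Finsupp.mapDomain_single, piM, Finsupp.linearCombination_single, one_smul]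
    rfl

end Groth.Agent.S6328
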