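import Groth.Statements.S6330
import Mathlib.RingTheory.Spectrum.Prime.Module
import Mathlib.RingTheory.LocalProperties.Projective
import Mathlib.RingTheory.Localization.Finiteness
import Mathlib.Algebra.Module.LocalizedModule.Submodule
import Mathlib.LinearAlgebra.TensorProduct.RightExactness
import Mathlib.RingTheory.Support
import Mathlib.RingTheory.LocalRing.Module
-- import your own Groth.Agent.* helpers here

set_option autoImplicit false
universe u
open scoped TensorProduct
open CAlg

namespace Groth.Agent.S6330

section aux
open Function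

variable {R : Type u} [CommRing R] {P₁ P₂ : Type u} [AddCommGroup P₁] [Module R P₁]
  [AddCommGroup P₂] [Module R P₂]

lemma surj_lTensor_iff (φ : P₁ →ₗ[R] P₂) (k : Type u) [AddCommGroup k] [Module R k] :
    Surjective (φ.lTensor k) ↔ Subsingleton (k ⊗[R] (P₂ ⧸ LinearMap.range φ)) := by
  have hex : Function.Exact φ (LinearMap.range φ).mkQ := by
    rw [LinearMap.exact_iff]; simp
  have hex' := lTensor_exact k hex (Submodule.mkQ_surjective _)
  have hs := LinearMap.lTensor_surjective k (Submodule.mkQ_surjective (LinearMap.range φ))
  constructor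
  · intro h
    refine ⟨fun a b => ?_⟩
    obtain ⟨a', rfl⟩ := hs a
    obtain ⟨b', rfl⟩ := hs b
    obtain ⟨a'', rfl⟩ := h a'
    obtain ⟨b'', rfl⟩ := h b'
    rw [hex'.apply_apply_eq_zero, hex'.apply_apply_eq_zero]
  · intro h z
    exact (hex' z).1 (Subsingleton.elim _ _)

lemma ker_finite_projective_of_surjective {A M N : Type*} [CommRing A] [AddCommGroup M]
    [Module A M] [AddCommGroup N] [Module A N] [Module.Finite A M] [Module.Projective A M]
    [Module.Projective A N] (ψ : M →ₗ[A] N) (hψ : Surjective ψ) :
    Module.Finite A (LinearMap.ker ψ) ∧ Module.Projective A (LinearMap.ker ψ) := by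
  obtain ⟨σ, hσ⟩ := Module.projective_lifting_property ψ LinearMap.id hψ
  let r : M →ₗ[A] LinearMap.ker ψ :=
    (LinearMap.id - σ ∘ₗ ψ).codRestrict _ (fun x => by
      have := LinearMap.congr_fun hσ (ψ x)
      simp only [LinearMap.coe_comp, comp_apply, LinearMap.id_coe, id_eq] at this
      simp [this])
  have hr : r ∘ₗ (LinearMap.ker ψ).subtype = LinearMap.id := by
    ext ⟨x, hx⟩
    simp [r, LinearMap.mem_ker.mp hx]
  have hrs : Surjective r := fun x => ⟨x.1, LinearMap.congr_fun hr x⟩
  exact ⟨Module.Finite.of_surjective r hrs, Module.Projective.of_split _ r hr⟩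

end aux

/-- Let R be a ring and φ : P₁ → P₂ a map of finite projective R-modules. The set W of primes p of R
such that φ ⊗ κ(p) is surjective is open, and for every f ∈ R with D(f) ⊆ W the map (P₁)_f → (P₂)_f
is surjective and Ker(φ)_f is a finite projective module over R_f. -/
theorem result {R : Type u} [CommRing R] {P₁ P₂ : Type u} [AddCommGroup P₁] [Module R P₁] [AddCommGroup P₂] [Module R P₂] [Module.Finite R P₁] [Module.Projective R P₁] [Module.Finite R P₂] [Module.Projective R P₂] (φ : P₁ →ₗ[R] P₂) : IsOpen {p : PrimeSpectrum R | Function.Surjective (φ.lTensor p.asIdeal.ResidueField)} ∧ ∀ f : R, (↑(PrimeSpectrum.basicOpen f) : Set (PrimeSpectrum R)) ⊆ {p : PrimeSpectrum R | Function.Surjective (φ.lTensor p.asIdeal.ResidueField)} → Function.Surjective (LocalizedModule.map (Submonoid.powers f) φ) ∧ Module.Finite (Localization.Away f) (LocalizedModule (Submonoid.powers f) (LinearMap.ker φ)) ∧ Module.Projective (Localization.Away f) (LocalizedModule (Submonoid.powers f) (LinearMap.ker φ)) := by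
  classical
  have hW : {p : PrimeSpectrum R | Function.Surjective (φ.lTensor p.asIdeal.ResidueField)} =
      (Module.support R (P₂ ⧸ LinearMap.range φ))ᶜ := by
    ext p
    simp only [Set.mem_ofPred_eq, Set.mem_compl_iff]
    rw [Module.mem_support_iff_nontrivial_residueField_tensorProduct,
      not_nontrivial_iff_subsingleton]
    exact surj_lTensor_iff φ _
  refine ⟨?_, ?_⟩
  · rw [hW]
    exact Module.isClosed_support.isOpen_compl
  · intro f hf
    rw [hW] at hf
    have hsurj : Function.Surjective (LocalizedModule.map (Submonoid.powers f) φ) := by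
      rw [LinearMap.localizedMap_surjective_iff_subsingleton_localized_coker,
        LocalizedModule.subsingleton_iff_support_subset]
      intro p hp
      by_contra hfp
      have : p ∈ (↑(PrimeSpectrum.basicOpen f) : Set (PrimeSpectrum R)) := by
        simpa [PrimeSpectrum.mem_zeroLocus] using hfp
      exact hf this hp
    refine ⟨hsurj, ?_⟩
    obtain ⟨h1, h2⟩ := ker_finite_projective_of_surjective
      (LocalizedModule.map (Submonoid.powers f) φ) hsurj
    have hker : (LinearMap.ker φ).localized (Submonoid.powers f) =
        LinearMap.ker (LocalizedModule.map (Submonoid.powers f) φ) :=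
      LinearMap.localized'_ker_eq_ker_localizedMap (Localization (Submonoid.powers f))
        (Submonoid.powers f) (LocalizedModule.mkLinearMap _ P₁)
        (LocalizedModule.mkLinearMap _ P₂) φ
    let e : LinearMap.ker (LocalizedModule.map (Submonoid.powers f) φ) ≃ₗ[Localization.Away f]
        LocalizedModule (Submonoid.powers f) (LinearMap.ker φ) :=
      (LinearEquiv.ofEq _ _ hker.symm).trans (Submodule.localizedEquiv _ _)
    exact ⟨Module.Finite.equiv e, Module.Projective.of_equiv e⟩

end Groth.Agent.S6330
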