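import Groth.Statements.S6331
import Mathlib.RingTheory.Henselian
import Mathlib.RingTheory.Nilpotent.Lemmas
import Mathlib.Algebra.Ring.GeomSum
import Mathlib.RingTheory.Jacobson.Ideal
-- import your own Groth.Agent.* helpers here

set_option autoImplicit false
universe u
open CAlg

namespace Groth.Agent.S6331


theorem isAdicComplete_of_pow_eq_bot {R : Type u} [CommRing R] (J : Ideal R) (k : ℕ)
    (hk : J ^ k = ⊥) : IsAdicComplete J R := by
  have hbot : (J ^ k • ⊤ : Submodule R R) = ⊥ := by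
    rw [hk]; exact Submodule.bot_smul _
  refine { haus' := ?_, prec' := ?_ }
  · intro x hx
    have := hx k
    rw [hbot, SModEq.bot] at this
    exact this
  · intro f hf
    refine ⟨f k, fun n => ?_⟩
    rcases le_total n k with h | h
    · exact hf h
    · have := hf h
      rw [hbot, SModEq.bot] at this
      rw [this]

open Polynomial in
theorem exists_root {R : Type u} [CommRing R] (I : Ideal R) (hI : ∀ x ∈ I, IsNilpotent x)
    (n : ℕ) (hn : 1 ≤ n) (hnu : IsUnit (n : R)) (y : R) (hy : y ∈ I) :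
    ∃ x : R, x ∈ I ∧ (1 + x) ^ n = 1 + y := by
  obtain ⟨k, hk⟩ := hI y hy
  have hJ : (Ideal.span {y}) ^ k = ⊥ := by
    rw [Ideal.span_singleton_pow, hk]
    exact Ideal.span_singleton_eq_bot.mpr rfl
  have := isAdicComplete_of_pow_eq_bot (Ideal.span {y}) k hJ
  have hmonic : (X ^ n - C (1 + y) : R[X]).Monic := monic_X_pow_sub_C _ (by omega)
  have h1 : (X ^ n - C (1 + y) : R[X]).eval 1 ∈ Ideal.span {y} := by
    simp only [eval_sub, eval_pow, eval_X, one_pow, eval_C]
    rw [Ideal.mem_span_singleton]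
    exact ⟨-1, by ring⟩
  have h2 : IsUnit (Ideal.Quotient.mk (Ideal.span {y})
      ((X ^ n - C (1 + y) : R[X]).derivative.eval 1)) := by
    simp only [derivative_sub, derivative_X_pow, derivative_C, sub_zero, eval_mul, eval_C,
      eval_pow, eval_X, one_pow, mul_one]
    exact hnu.map _
  obtain ⟨a, ha, ha'⟩ := HenselianRing.is_henselian (X ^ n - C (1 + y) : R[X]) hmonic 1 h1 h2
  refine ⟨a - 1, ?_, ?_⟩
  · exact ((Ideal.span_singleton_le_iff_mem I).mpr hy) ha'
  · have : a ^ n - (1 + y) = 0 := by simpa [IsRoot] using ha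
    rw [add_sub_cancel, sub_eq_zero.mp this]

/-- Let R be a ring, I ⊆ R an ideal all of whose elements are nilpotent, and n ≥ 1 an integer whose
image in R/I is invertible. Then (1) raising to the n-th power is a bijection of the subset 1 + I of
R onto itself: for every y ∈ I there is exactly one x ∈ I with (1 + x)ⁿ = 1 + y; (2) a unit u of R
has an n-th root in R exactly when the residue class of u has an n-th root in R/I. -/
theorem result {R : Type u} [CommRing R] (I : Ideal R) (hI : ∀ x ∈ I, IsNilpotent x) (n : ℕ) (hn : 1 ≤ n) (hinv : IsUnit ((n : ℕ) : R ⧸ I)) : (∀ y ∈ I, ∃! x : R, x ∈ I ∧ (1 + x) ^ n = 1 + y) ∧ (∀ u : Rˣ, (∃ v : R, v ^ n = (u : R)) ↔ ∃ w : R ⧸ I, w ^ n = Ideal.Quotient.mk I (u : R)) := by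
  have hjac : I ≤ Ideal.jacobson ⊥ := by
    intro x hx
    have h1 : x ∈ nilradical R := mem_nilradical.mpr (hI x hx)
    exact Ideal.radical_le_jacobson h1
  have hloc := isLocalHom_of_le_jacobson_bot I hjac
  have hnu : IsUnit (n : R) := by
    apply hloc.map_nonunit
    rw [map_natCast]
    exact hinv
  have hmk1 : ∀ x ∈ I, Ideal.Quotient.mk I (1 + x) = 1 := by
    intro x hx
    rw [map_add, map_one, Ideal.Quotient.eq_zero_iff_mem.mpr hx, add_zero]
  have part1 : ∀ y ∈ I, ∃! x : R, x ∈ I ∧ (1 + x) ^ n = 1 + y := by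
    intro y hy
    obtain ⟨x, hx, hxy⟩ := exists_root I hI n hn hnu y hy
    refine ⟨x, ⟨hx, hxy⟩, ?_⟩
    rintro x' ⟨hx', hx'y⟩
    have hS : IsUnit (∑ i ∈ Finset.range n, (1 + x') ^ i * (1 + x) ^ (n - 1 - i)) := by
      apply hloc.map_nonunit
      rw [map_sum]
      have : ∀ i ∈ Finset.range n,
          Ideal.Quotient.mk I ((1 + x') ^ i * (1 + x) ^ (n - 1 - i)) = 1 := by
        intro i _
        rw [map_mul, map_pow, map_pow, hmk1 x hx, hmk1 x' hx', one_pow, one_pow, one_mul]
      rw [Finset.sum_congr rfl this]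
      simpa using hinv
    have hgeom := geom_sum₂_mul (1 + x') (1 + x) n
    rw [hx'y, hxy, sub_self] at hgeom
    have := (hS.mul_right_eq_zero).mp hgeom
    exact add_left_cancel (sub_eq_zero.mp this)
  refine ⟨part1, ?_⟩
  intro u
  constructor
  · rintro ⟨v, hv⟩
    exact ⟨Ideal.Quotient.mk I v, by rw [← map_pow, hv]⟩
  · rintro ⟨w, hw⟩
    obtain ⟨v₀, rfl⟩ := Ideal.Quotient.mk_surjective w
    rw [← map_pow] at hw
    have hv₀n : IsUnit (v₀ ^ n) := by
      apply hloc.map_nonunit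
      rw [hw]
      exact u.isUnit.map _
    obtain ⟨t, ht⟩ := hv₀n
    have hmem : (u : R) * (t⁻¹ : Rˣ) - 1 ∈ I := by
      have e : (u : R) * (t⁻¹ : Rˣ) - 1 = ((u : R) - v₀ ^ n) * (t⁻¹ : Rˣ) := by
        rw [sub_mul, ← ht, Units.mul_inv]
      rw [e]
      apply Ideal.mul_mem_right
      rw [← Ideal.Quotient.eq, hw]
    obtain ⟨x, -, hx⟩ := (part1 _ hmem).exists
    refine ⟨v₀ * (1 + x), ?_⟩
    rw [mul_pow, hx, ← ht]
    have : (t : R) * (1 + ((u : R) * (t⁻¹ : Rˣ) - 1)) = (u : R) * ((t : R) * (t⁻¹ : Rˣ)) := by ring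
    rw [this, Units.mul_inv, mul_one]

end Groth.Agent.S6331
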