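import Groth.Statements.S6332
import Mathlib.Algebra.CharP.Lemmas
import Mathlib.Algebra.CharP.Algebra
import Mathlib.GroupTheory.SpecificGroups.Cyclic.Basic
-- import your own Groth.Agent.* helpers here

set_option autoImplicit false
universe u
open Fields

namespace Groth.Agent.S6332

open IntermediateField in
/-- Let L/K be a finite Galois extension of fields of characteristic p > 0 whose degree equals the prime
p (equivalently, the Galois group is cyclic of order p). Then there is an element z of L with z ^ p
- z in K which generates L over K. -/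
theorem result {K L : Type u} [Field K] [Field L] [Algebra K L] (p : ℕ)
    [Fact p.Prime] [CharP K p] [FiniteDimensional K L] [IsGalois K L]
    (hdeg : Module.finrank K L = p) :
    ∃ z : L, z ^ p - z ∈ Set.range (algebraMap K L) ∧ K⟮z⟯ = ⊤ := by
  classical
  have hp : p.Prime := Fact.out
  have : CharP L p := charP_of_injective_algebraMap (algebraMap K L).injective p
  have hcard : Nat.card (L ≃ₐ[K] L) = p := by rw [IsGalois.card_aut_eq_finrank, hdeg]
  have : IsCyclic (L ≃ₐ[K] L) := isCyclic_of_prime_card hcard
  obtain ⟨σ, hσ⟩ := IsCyclic.exists_generator (α := L ≃ₐ[K] L)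
  have hfix : ∀ x : L, σ x = x → x ∈ Set.range (algebraMap K L) := by
    intro x hx
    rw [IsGalois.mem_range_algebraMap_iff_fixed]
    intro g
    have hle : Subgroup.zpowers σ ≤ MulAction.stabilizer (L ≃ₐ[K] L) x := by
      rw [Subgroup.zpowers_le]
      exact hx
    exact hle (hσ g)
  set T : Module.End K L := (σ.toLinearMap : Module.End K L) - 1 with hT
  have hTapp : ∀ x, T x = σ x - x := fun x => rfl
  have hpow : ∀ n : ℕ, ∀ x, ((σ.toLinearMap : Module.End K L) ^ n) x = (σ ^ n) x := by
    intro n
    induction n with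
    | zero => intro x; simp
    | succ n ih =>
      intro x
      rw [pow_succ, Module.End.mul_apply, pow_succ, AlgEquiv.mul_apply, ← ih]
      rfl
  have hTp : T ^ p = 0 := by
    have : CharP (Module.End K L) p :=
      charP_of_injective_algebraMap (algebraMap K (Module.End K L)).injective p
    rw [hT, sub_pow_char_of_commute p (Commute.one_right _), one_pow, sub_eq_zero]
    apply LinearMap.ext
    intro x
    rw [hpow, ← hcard, pow_card_eq_one']
    rfl
  obtain ⟨w, hw⟩ : ∃ w, T w ≠ 0 := by
    by_contra hcon
    push Not at hcon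
    have h1 : σ = 1 := by
      apply AlgEquiv.ext
      intro x
      have := hcon x
      rw [hTapp, sub_eq_zero] at this
      exact this
    have hsub : Subsingleton (L ≃ₐ[K] L) := by
      refine ⟨fun a b => ?_⟩
      have ha := hσ a
      have hb := hσ b
      rw [h1, Subgroup.zpowers_one_eq_bot, Subgroup.mem_bot] at ha hb
      rw [ha, hb]
    have : Nat.card (L ≃ₐ[K] L) = 1 := Nat.card_unique
    rw [hcard] at this
    exact hp.one_lt.ne' this
  have hex : ∃ k : ℕ, (T ^ k) w = 0 := ⟨p, by rw [hTp]; rfl⟩
  have hk0 : Nat.find hex ≠ 0 := by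
    intro h0
    have := Nat.find_spec hex
    rw [h0, pow_zero] at this
    apply hw
    change w = 0 at this
    rw [this, map_zero]
  have hk1 : Nat.find hex ≠ 1 := by
    intro h1
    have := Nat.find_spec hex
    rw [h1, pow_one] at this
    exact hw this
  obtain ⟨m, hm⟩ : ∃ m, Nat.find hex = m + 2 := ⟨Nat.find hex - 2, by omega⟩
  have hy1 : (T ^ (m + 1)) w ≠ 0 := Nat.find_min hex (by omega)
  have hy2 : T ((T ^ (m + 1)) w) = 0 := by
    have := Nat.find_spec hex
    rw [hm, pow_succ' T (m + 1)] at this
    exact this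
  have hy3 : σ ((T ^ (m + 1)) w) = (T ^ (m + 1)) w := by
    rw [hTapp, sub_eq_zero] at hy2
    exact hy2
  obtain ⟨c, hc⟩ := hfix _ hy3
  have hc0 : c ≠ 0 := by
    rintro rfl
    rw [map_zero] at hc
    exact hy1 hc.symm
  set z : L := c⁻¹ • (T ^ m) w with hz
  have hTz : T z = 1 := by
    rw [hz, map_smul, ← Module.End.mul_apply, ← pow_succ', ← hc, Algebra.smul_def, ← map_mul,
      inv_mul_cancel₀ hc0, map_one]
  have hσz : σ z = z + 1 := by
    rw [hTapp] at hTz
    rw [← hTz]; ring
  refine ⟨z, ?_, ?_⟩
  · apply hfix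
    rw [map_sub, map_pow, hσz, add_pow_char, one_pow]
    ring
  · have := IntermediateField.isSimpleOrder_of_finrank_prime K L (hdeg ▸ hp)
    rcases eq_bot_or_eq_top K⟮z⟯ with h | h
    · exfalso
      have hzmem : z ∈ K⟮z⟯ := IntermediateField.mem_adjoin_simple_self K z
      rw [h, IntermediateField.mem_bot] at hzmem
      obtain ⟨a, ha⟩ := hzmem
      rw [← ha, AlgEquiv.commutes] at hσz
      exact one_ne_zero (left_eq_add.mp hσz)
    · exact h

end Groth.Agent.S6332
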