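import Groth.Statements.S6333
import Mathlib

set_option autoImplicit false
universe u
open Fields

namespace Groth.Agent.S6333

theorem linIndep_adjoin {k K : Type u} [Field k] [Field K] [Algebra k K]
    {ι : Type*} (x : ι → K) (hx : AlgebraicIndependent k x)
    {J : Type*} (b : J → algebraicClosure k K) (hb : LinearIndependent k b) :
    LinearIndependent (Algebra.adjoin k (Set.range x)) (fun j => (b j : K)) := by
  classical
  have hxL : AlgebraicIndependent (algebraicClosure k K) x := hx.algebraicClosure
  rw [linearIndependent_iff']
  intro t g hg j hj
  let f : J → MvPolynomial ι k := fun j => hx.aevalEquiv.symm (g j)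
  have hf : ∀ j, MvPolynomial.aeval x (f j) = (g j : K) := fun j => by
    have := hx.algebraMap_aevalEquiv (f j)
    simp only [f, AlgEquiv.apply_symm_apply] at this
    exact this.symm
  let G : MvPolynomial ι (algebraicClosure k K) :=
    ∑ j ∈ t, MvPolynomial.C (b j) * MvPolynomial.map (algebraMap k (algebraicClosure k K)) (f j)
  have hG : MvPolynomial.aeval x G = 0 := by
    simp only [G, map_sum, map_mul, MvPolynomial.aeval_C, MvPolynomial.aeval_map_algebraMap, hf]
    rw [← hg]
    apply Finset.sum_congr rfl
    intro j _
    rw [mul_comm]
    rfl
  have hG0 : G = 0 := (algebraicIndependent_iff_injective_aeval.mp hxL) (by rw [hG, map_zero])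
  have hcoef : ∀ m, ∑ j ∈ t, (MvPolynomial.coeff m (f j)) • b j = 0 := by
    intro m
    have := congrArg (MvPolynomial.coeff m) hG0
    simp only [G, MvPolynomial.coeff_sum, MvPolynomial.coeff_C_mul, MvPolynomial.coeff_map,
      MvPolynomial.coeff_zero] at this
    rw [← this]
    apply Finset.sum_congr rfl
    intro j _
    rw [Algebra.smul_def, mul_comm]
  have hfj : f j = 0 := by
    ext m
    exact linearIndependent_iff'.mp hb t (fun j => MvPolynomial.coeff m (f j)) (hcoef m) j hj
  have : g j = hx.aevalEquiv (f j) := by simp [f]
  rw [this, hfj, map_zero]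

open scoped IntermediateField.algebraAdjoinAdjoin in
theorem aux {k K : Type u} [Field k] [Field K] [Algebra k K]
    (hfg : (⊤ : IntermediateField k K).FG) :
    FiniteDimensional k (algebraicClosure k K) := by
  classical
  have hess : Algebra.EssFiniteType k K := IntermediateField.fg_top_iff.mp hfg
  obtain ⟨s, hs⟩ := exists_isTranscendenceBasis k K
  have halg : Algebra.IsAlgebraic (IntermediateField.adjoin k s) K := by
    have := hs.isAlgebraic
    rw [Subtype.range_coe] at this
    exact IntermediateField.isAlgebraic_adjoin_iff_top.mpr this
  have hessF : Algebra.EssFiniteType (IntermediateField.adjoin k s) K :=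
    Algebra.EssFiniteType.of_comp k (IntermediateField.adjoin k s) K
  have hfin : Module.Finite (IntermediateField.adjoin k s) K :=
    Algebra.finite_of_essFiniteType_of_isAlgebraic
  rw [FiniteDimensional, ← Module.rank_lt_aleph0_iff]
  apply lt_of_le_of_lt (rank_le (n := Module.finrank (IntermediateField.adjoin k s) K) ?_)
    (Cardinal.nat_lt_aleph0 _)
  intro t ht
  have h1 := linIndep_adjoin (Subtype.val : s → K) hs.1
    (fun i : t => (i : algebraicClosure k K)) ht
  rw [Subtype.range_coe] at h1
  have h2 : LinearIndependent (IntermediateField.adjoin k s)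
      (fun i : t => (((i : algebraicClosure k K)) : K)) :=
    (LinearIndependent.iff_fractionRing (Algebra.adjoin k s) (IntermediateField.adjoin k s)).mp h1
  have := h2.fintype_card_le_finrank
  simpa using this


/-- For a finitely generated field extension K/k, the algebraic closure of k inside K is a finite
extension of k. -/
theorem result {k K : Type u} [Field k] [Field K] [Algebra k K]
    (hfg : (⊤ : IntermediateField k K).FG) :
    FiniteDimensional k (algebraicClosure k K) := by
  exact aux hfg

end Groth.Agent.S6333
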