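import Groth.Statements.S6334
import Mathlib

set_option autoImplicit false
universe u
open Fields

namespace Groth.Agent.S6334

open IntermediateField Polynomial in
theorem finrank_adjoin_simple_eq_p {F E : Type u} [Field F] [Field E] [Algebra F E] (p : ℕ)
    [Fact p.Prime] [CharP F p] (K : IntermediateField F E) (y : E) (hyK : y ∉ K)
    (hypK : y ^ p ∈ K) : Module.finrank K K⟮y⟯ = p := by
  have hp : p.Prime := Fact.out
  have hE : CharP E p := charP_of_injective_algebraMap (algebraMap F E).injective p
  let c : K := ⟨y ^ p, hypK⟩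
  have hirr : Irreducible (X ^ p - C c : K[X]) := by
    apply X_pow_sub_C_irreducible_of_prime hp
    intro b hb
    have h1 : ((b : K) : E) ^ p = y ^ p := by
      have := congrArg (fun z : K => (z : E)) hb
      simpa [c] using this
    have h2 : ((b : E) - y) ^ p = 0 := by rw [sub_pow_char, h1, sub_self]
    have h3 : (b : E) - y = 0 := pow_eq_zero_iff hp.ne_zero |>.mp h2
    apply hyK
    rw [← sub_eq_zero.mp h3]
    exact b.2
  have hroot : aeval y (X ^ p - C c : K[X]) = 0 := by
    simp only [map_sub, map_pow, aeval_X, aeval_C]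
    change y ^ p - y ^ p = 0
    exact sub_self _
  have hmonic : Monic (X ^ p - C c : K[X]) := monic_X_pow_sub_C c hp.ne_zero
  have hmin : minpoly K y = X ^ p - C c :=
    (minpoly.eq_of_irreducible_of_monic hirr hroot hmonic).symm
  have hint : IsIntegral K y := ⟨_, hmonic, hroot⟩
  rw [adjoin.finrank hint, hmin, natDegree_X_pow_sub_C]

open IntermediateField in
def Good {F E : Type u} [Field F] [Field E] [Algebra F E] (p : ℕ)
    (K : IntermediateField F E) : Prop :=
  ∃ (n : ℕ) (a : Fin n → E), adjoin F (Set.range a) = K ∧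
    (∀ i : Fin n, a i ^ p ∈ adjoin F (a '' {j | j < i}) ∧ a i ∉ adjoin F (a '' {j | j < i})) ∧
    Module.finrank F K = p ^ n

open IntermediateField in
theorem good_bot {F E : Type u} [Field F] [Field E] [Algebra F E] (p : ℕ) :
    Good p (⊥ : IntermediateField F E) := by
  refine ⟨0, Fin.elim0, ?_, fun i => i.elim0, ?_⟩
  · have : Set.range (Fin.elim0 : Fin 0 → E) = ∅ := Set.range_eq_empty _
    rw [this, adjoin_empty]
  · rw [IntermediateField.finrank_bot, pow_zero]

theorem image_snoc_last {E : Type u} {n : ℕ} (a : Fin n → E) (y : E) :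
    (Fin.snoc a y : Fin (n + 1) → E) '' {j | j < Fin.last n} = Set.range a := by
  ext z
  constructor
  · rintro ⟨j, hj, rfl⟩
    have hj' : j ≠ Fin.last n := ne_of_lt hj
    refine ⟨j.castPred hj', ?_⟩
    conv_rhs => rw [← Fin.castSucc_castPred j hj']
    rw [Fin.snoc_castSucc]
  · rintro ⟨j', rfl⟩
    exact ⟨Fin.castSucc j', Fin.castSucc_lt_last j', by rw [Fin.snoc_castSucc]⟩

theorem image_snoc_castSucc {E : Type u} {n : ℕ} (a : Fin n → E) (y : E) (i' : Fin n) :
    (Fin.snoc a y : Fin (n + 1) → E) '' {j | j < Fin.castSucc i'} = a '' {j' | j' < i'} := by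
  ext z
  constructor
  · rintro ⟨j, hj, rfl⟩
    have hj' : j ≠ Fin.last n := ne_of_lt (lt_trans hj (Fin.castSucc_lt_last i'))
    refine ⟨j.castPred hj', ?_, ?_⟩
    · have : Fin.castSucc (j.castPred hj') < Fin.castSucc i' := by
        rw [Fin.castSucc_castPred]; exact hj
      exact Fin.castSucc_lt_castSucc_iff.mp this
    · conv_rhs => rw [← Fin.castSucc_castPred j hj']
      rw [Fin.snoc_castSucc]
  · rintro ⟨j', hj', rfl⟩
    exact ⟨Fin.castSucc j', Fin.castSucc_lt_castSucc_iff.mpr hj', by rw [Fin.snoc_castSucc]⟩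

open IntermediateField in
theorem good_step {F E : Type u} [Field F] [Field E] [Algebra F E] (p : ℕ)
    [Fact p.Prime] [CharP F p] [FiniteDimensional F E] [IsPurelyInseparable F E]
    (K : IntermediateField F E) (hK : Good p K) (hne : K ≠ ⊤) :
    ∃ K' : IntermediateField F E, Good p K' ∧ K < K' := by
  classical
  obtain ⟨n, a, rfl, hstep, hrank⟩ := hK
  obtain ⟨x, hx⟩ : ∃ x : E, x ∉ adjoin F (Set.range a) := by
    by_contra h
    push Not at h
    exact hne (eq_top_iff.mpr fun x _ => h x)
  have hexp : ExpChar F p := ExpChar.prime Fact.out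
  obtain ⟨m, hm⟩ := IsPurelyInseparable.pow_mem F p x
  have hmK : x ^ p ^ m ∈ adjoin F (Set.range a) := by
    obtain ⟨z, hz⟩ := hm
    rw [← hz]
    exact (adjoin F (Set.range a)).algebraMap_mem z
  have hex : ∃ m, x ^ p ^ m ∈ adjoin F (Set.range a) := ⟨m, hmK⟩
  have hm₀ : x ^ p ^ (Nat.find hex) ∈ adjoin F (Set.range a) := Nat.find_spec hex
  have hm₀pos : Nat.find hex ≠ 0 := by
    intro h
    rw [h] at hm₀
    simp only [pow_zero, pow_one] at hm₀
    exact hx hm₀
  obtain ⟨m₁, hm₁⟩ : ∃ m₁, Nat.find hex = m₁ + 1 := Nat.exists_eq_succ_of_ne_zero hm₀pos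
  have hyK : x ^ p ^ m₁ ∉ adjoin F (Set.range a) := Nat.find_min hex (by omega)
  have hypK : (x ^ p ^ m₁) ^ p ∈ adjoin F (Set.range a) := by
    rw [← pow_mul, ← pow_succ, ← hm₁]
    exact hm₀
  set y := x ^ p ^ m₁ with hy
  have hK' : adjoin F (Set.range (Fin.snoc a y : Fin (n + 1) → E)) =
      ((adjoin F (Set.range a))⟮y⟯).restrictScalars F := by
    rw [adjoin_adjoin_left, Fin.range_snoc, Set.union_singleton]
  refine ⟨adjoin F (Set.range (Fin.snoc a y : Fin (n + 1) → E)), ⟨n + 1, Fin.snoc a y, rfl, ?_, ?_⟩, ?_⟩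
  · intro i
    induction i using Fin.lastCases with
    | last =>
      rw [image_snoc_last, Fin.snoc_last]
      exact ⟨hypK, hyK⟩
    | cast i' =>
      rw [image_snoc_castSucc, Fin.snoc_castSucc]
      exact hstep i'
  · rw [hK']
    have h1 : Module.finrank F ↥(((adjoin F (Set.range a))⟮y⟯).restrictScalars F) =
        Module.finrank F ↥((adjoin F (Set.range a))⟮y⟯) := rfl
    rw [h1, ← Module.finrank_mul_finrank F (adjoin F (Set.range a)) ((adjoin F (Set.range a))⟮y⟯),
      hrank, finrank_adjoin_simple_eq_p p _ y hyK hypK, pow_succ]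
  · rw [hK']
    refine lt_of_le_of_ne ?_ ?_
    · intro z hz
      exact (IntermediateField.algebraMap_mem ((adjoin F (Set.range a))⟮y⟯) ⟨z, hz⟩ : _)
    · intro h
      apply hyK
      rw [h]
      exact mem_adjoin_simple_self _ y

theorem good_top {F E : Type u} [Field F] [Field E] [Algebra F E] (p : ℕ)
    [Fact p.Prime] [CharP F p] [FiniteDimensional F E] [IsPurelyInseparable F E] :
    Good p (⊤ : IntermediateField F E) := by
  have key : ∀ d : ℕ, ∀ K : IntermediateField F E, Good p K →
      Module.finrank F E - Module.finrank F K = d → Good p (⊤ : IntermediateField F E) := by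
    intro d
    induction d using Nat.strong_induction_on with
    | _ d ih =>
      intro K hK hd
      by_cases hne : K = ⊤
      · rw [← hne]; exact hK
      · obtain ⟨K', hK', hlt⟩ := good_step p K hK hne
        have h1 : Module.finrank F K < Module.finrank F K' :=
          Submodule.finrank_lt_finrank_of_lt (s := K.toSubalgebra.toSubmodule)
            (t := K'.toSubalgebra.toSubmodule) hlt
        have h2 : Module.finrank F K' ≤ Module.finrank F E :=
          Submodule.finrank_le K'.toSubalgebra.toSubmodule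
        exact ih (Module.finrank F E - Module.finrank F K') (by omega) K' hK' rfl
  exact key _ ⊥ (good_bot p) rfl


open IntermediateField in
/-- Let E/F be a finite purely inseparable extension of fields of characteristic p > 0. Then there are
elements a_1, ..., a_n of E generating E over F such that for each i the p-th power of a_i lies in
F(a_1, ..., a_{i-1}) while a_i itself does not (so each step adjoins a p-th root and has degree p);
in particular [E : F] = p ^ n. -/
theorem result {F E : Type u} [Field F] [Field E] [Algebra F E] (p : ℕ)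
    [Fact p.Prime] [CharP F p] [FiniteDimensional F E] [IsPurelyInseparable F E] :
    ∃ (n : ℕ) (a : Fin n → E), adjoin F (Set.range a) = ⊤ ∧
      (∀ i : Fin n, a i ^ p ∈ adjoin F (a '' {j | j < i}) ∧ a i ∉ adjoin F (a '' {j | j < i})) ∧
      Module.finrank F E = p ^ n := by
  obtain ⟨n, a, ha, hstep, hrank⟩ := good_top (F := F) (E := E) p
  refine ⟨n, a, ha, hstep, ?_⟩
  rw [← hrank, IntermediateField.finrank_top']

end Groth.Agent.S6334
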