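import Groth.Statements.S6335
import Mathlib

set_option autoImplicit false
universe u
open Fields

namespace Groth.Agent.S6335

/-- Let K be a field of characteristic p > 0, L/K a separable algebraic extension and a an element of L.
If a is a root of a polynomial P over K which is separable (pairwise distinct roots in an algebraic
closure) and all of whose coefficients are p-th powers in K, then a is a p-th power in L. (Part (1),
the case where P is the minimal polynomial of a, is a special case.) -/
theorem result {K L : Type u} [Field K] [Field L] [Algebra K L]
    (p : ℕ) [Fact p.Prime] [CharP K p] [Algebra.IsSeparable K L] (a : L) (P : Polynomial K)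
    (hroot : Polynomial.aeval a P = 0) (hsep : P.Separable) (hcoeff : ∀ i : ℕ, ∃ b : K, b ^ p = P.coeff i) :
    ∃ c : L, c ^ p = a := by
  classical
  have hp : p.Prime := Fact.out
  have hL : CharP L p := charP_of_injective_algebraMap (algebraMap K L).injective p
  let E := AlgebraicClosure L
  have hE : CharP E p := charP_of_injective_algebraMap (algebraMap L E).injective p
  choose b hb using hcoeff
  let Q : Polynomial K := ∑ i ∈ P.support, Polynomial.monomial i (b i)
  have hQP : Q.map (frobenius K p) = P := by
    ext n
    simp only [Q, Polynomial.coeff_map, Polynomial.finset_sum_coeff, Polynomial.coeff_monomial]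
    rw [Finset.sum_ite_eq']
    split_ifs with hn
    · rw [frobenius_def, hb]
    · rw [map_zero]
      exact (Polynomial.notMem_support_iff.mp hn).symm
  have hQsep : Q.Separable := by
    rw [← Polynomial.separable_map (frobenius K p), hQP]
    exact hsep
  obtain ⟨c, hc⟩ := IsAlgClosed.exists_pow_nat_eq (algebraMap L E a) hp.pos
  have hQc : Polynomial.aeval c Q = 0 := by
    have h1 : Q ^ p = Polynomial.expand K p P := by
      rw [← Polynomial.map_frobenius_expand, Polynomial.map_expand, hQP]
    have h2 : (Polynomial.aeval c Q) ^ p = 0 := by
      rw [← map_pow, h1, Polynomial.expand_aeval, hc, Polynomial.aeval_algebraMap_apply, hroot,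
        map_zero]
    exact pow_eq_zero_iff hp.ne_zero |>.mp h2
  have hQ0 : Q ≠ 0 := fun h => by
    rw [h] at hQsep
    exact Polynomial.not_separable_zero hQsep
  have hcK : IsSeparable K c := by
    have hint : IsIntegral K c := isAlgebraic_iff_isIntegral.mp ⟨Q, hQ0, hQc⟩
    exact hQsep.of_dvd (minpoly.dvd K c hQc)
  have hcL : IsSeparable L c := IsSeparable.tower_top L hcK
  have hexp : ExpChar L p := ExpChar.prime hp
  have h3 : IsPurelyInseparable L (IntermediateField.adjoin L {c}) := by
    rw [IntermediateField.isPurelyInseparable_adjoin_simple_iff_pow_mem L E p]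
    exact ⟨1, a, by rw [pow_one, hc]⟩
  have h4 : Algebra.IsSeparable L (IntermediateField.adjoin L {c}) :=
    IntermediateField.isSeparable_adjoin_simple_iff_isSeparable L E |>.mpr hcL
  obtain ⟨c₀, hc₀⟩ := IsPurelyInseparable.surjective_algebraMap_of_isSeparable L (IntermediateField.adjoin L {c})
    (IntermediateField.AdjoinSimple.gen L c)
  refine ⟨c₀, ?_⟩
  apply (algebraMap L E).injective
  have h5 : algebraMap L E c₀ = c := by
    have := congrArg (algebraMap (IntermediateField.adjoin L {c}) E) hc₀
    rw [← IsScalarTower.algebraMap_apply] at this
    simpa using this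
  rw [map_pow, h5, hc]

end Groth.Agent.S6335
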