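import Groth.Statements.S6336
import Mathlib

set_option autoImplicit false
universe u
open Fields

namespace Groth.Agent.S6336

open IntermediateField Polynomial in
theorem aux {K L : Type u} [Field K] [Field L] [Algebra K L]
    [FiniteDimensional K L] (a : L) (ha : K⟮a⟯ = ⊤)
    (hpow : a ^ Module.finrank K L ∈ Set.range (algebraMap K L))
    (hroots : (X ^ Module.finrank K L - 1 : K[X]).Splits) (L' : IntermediateField K L) :
    ∃ d : ℕ, d ∣ Module.finrank K L ∧ L' = K⟮a ^ d⟯ := by
  classical
  have he0 : 0 < Module.finrank K L := Module.finrank_pos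
  generalize he : Module.finrank K L = e at hpow hroots he0
  by_cases ha0 : a = 0
  · refine ⟨1, one_dvd _, ?_⟩
    have hbt : (⊥ : IntermediateField K L) = ⊤ := by
      rw [← ha, ha0, adjoin_zero]
    rw [pow_one, ha]
    exact top_unique (hbt ▸ bot_le)
  obtain ⟨c, hc⟩ := hpow
  have hint : IsIntegral L' a := IsIntegral.of_finite L' a
  have hPmonic : (minpoly L' a).Monic := minpoly.monic hint
  have hd0 : 0 < (minpoly L' a).natDegree := minpoly.natDegree_pos hint
  generalize hd : (minpoly L' a).natDegree = d at hd0
  -- the key claim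
  have key : a ^ d ∈ L' := by
    have hQmonic : ((minpoly L' a).map (algebraMap L' L)).Monic := hPmonic.map _
    have hQdeg : ((minpoly L' a).map (algebraMap L' L)).natDegree = d := by
      rw [hPmonic.natDegree_map, hd]
    have hdvd : ((minpoly L' a).map (algebraMap L' L)) ∣ (X ^ e - C (a ^ e) : L[X]) := by
      have h1 : (minpoly L' a) ∣ (X ^ e - C (algebraMap K L' c) : L'[X]) := by
        apply minpoly.dvd
        rw [map_sub, map_pow, aeval_X, aeval_C, ← IsScalarTower.algebraMap_apply, hc, sub_self]
      have h2 := Polynomial.map_dvd (algebraMap L' L) h1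
      rwa [Polynomial.map_sub, Polynomial.map_pow, map_X, map_C,
        ← IsScalarTower.algebraMap_apply, hc] at h2
    have hsplit : (X ^ e - C (a ^ e) : L[X]).Splits := by
      have h1 : ((X ^ e - 1 : K[X]).map (algebraMap K L)).Splits := hroots.map _
      have h2 := (h1.comp_of_natDegree_le_one (g := C a⁻¹ * X)
        ((natDegree_C_mul_le _ _).trans natDegree_X_le)).C_mul (a ^ e)
      convert h2 using 1
      simp only [Polynomial.map_sub, Polynomial.map_pow, map_X, Polynomial.map_one, sub_comp,
        pow_comp, X_comp, one_comp, mul_pow, ← C_pow, mul_sub, ← mul_assoc, ← C_mul]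
      rw [inv_pow, mul_inv_cancel₀ (pow_ne_zero _ ha0)]
      simp
    have hQsplit : ((minpoly L' a).map (algebraMap L' L)).Splits :=
      hsplit.of_dvd (X_pow_sub_C_ne_zero he0 _) hdvd
    have hroot : ∀ r ∈ ((minpoly L' a).map (algebraMap L' L)).roots,
        ∃ k : K, k ≠ 0 ∧ r = algebraMap K L k * a := by
      intro r hr
      have hr1 : (X ^ e - C (a ^ e) : L[X]).IsRoot r :=
        ((mem_roots hQmonic.ne_zero).mp hr).dvd hdvd
      have hr2 : r ^ e = a ^ e := by
        simpa [sub_eq_zero] using hr1
      have hr3 : ((X ^ e - 1 : K[X]).map (algebraMap K L)).IsRoot (r / a) := by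
        simp [div_pow, hr2, div_self (pow_ne_zero _ ha0)]
      have hne : (X ^ e - 1 : K[X]) ≠ 0 := by
        have := X_pow_sub_C_ne_zero he0 (1 : K)
        simpa using this
      obtain ⟨k, hk⟩ := hroots.mem_range_of_isRoot hne hr3
      refine ⟨k, ?_, ?_⟩
      · rintro rfl
        rw [map_zero] at hk
        have hr0 : r = 0 := by
          have := hk.symm
          rw [div_eq_zero_iff] at this
          tauto
        rw [hr0, zero_pow he0.ne'] at hr2
        exact pow_ne_zero _ ha0 hr2.symm
      · rw [hk]
        field_simp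
    have hprod : ∀ s : Multiset L, (∀ r ∈ s, ∃ k : K, k ≠ 0 ∧ r = algebraMap K L k * a) →
        ∃ k : K, k ≠ 0 ∧ s.prod = algebraMap K L k * a ^ (Multiset.card s) := by
      intro s
      induction s using Multiset.induction_on with
      | empty => intro _; exact ⟨1, one_ne_zero, by simp⟩
      | cons r s ih =>
        intro h
        obtain ⟨k1, hk1, hr⟩ := h r (Multiset.mem_cons_self r s)
        obtain ⟨k2, hk2, hs⟩ := ih (fun r' hr' => h r' (Multiset.mem_cons_of_mem hr'))
        refine ⟨k1 * k2, mul_ne_zero hk1 hk2, ?_⟩
        rw [Multiset.prod_cons, hs, hr, Multiset.card_cons, map_mul, pow_succ]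
        ring
    obtain ⟨k, hk0, hk⟩ := hprod _ hroot
    have hcoeff := hQsplit.coeff_zero_eq_prod_roots_of_monic hQmonic
    rw [hk, ← hQsplit.natDegree_eq_card_roots, hQdeg, coeff_map] at hcoeff
    have hk' : algebraMap K L k ≠ 0 := by simpa using hk0
    have hsq : ((-1 : L) ^ d) * ((-1) ^ d) = 1 := by
      rw [← mul_pow]; simp
    have : a ^ d = algebraMap L' L ((-1) ^ d * (algebraMap K L' k)⁻¹ * (minpoly L' a).coeff 0) := by
      rw [map_mul, hcoeff, map_mul, map_pow, map_neg, map_one, map_inv₀,
        ← IsScalarTower.algebraMap_apply]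
      field_simp
      rw [pow_two, hsq]
    rw [this]
    exact ((-1) ^ d * (algebraMap K L' k)⁻¹ * (minpoly L' a).coeff 0).2
  have hML' : K⟮a ^ d⟯ ≤ L' := by
    rw [adjoin_simple_le_iff]; exact key
  have htopL' : L'⟮a⟯ = ⊤ := adjoin_eq_top_of_adjoin_eq_top (F := K) ha
  have htopM : (K⟮a ^ d⟯)⟮a⟯ = ⊤ := adjoin_eq_top_of_adjoin_eq_top (F := K) ha
  have hfL' : Module.finrank L' L = d := by
    rw [← (Field.primitive_element_iff_minpoly_natDegree_eq L' a).mp htopL', hd]
  have hfM : Module.finrank K⟮a ^ d⟯ L = (minpoly K⟮a ^ d⟯ a).natDegree :=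
    ((Field.primitive_element_iff_minpoly_natDegree_eq K⟮a ^ d⟯ a).mp htopM).symm
  have hle : (minpoly K⟮a ^ d⟯ a).natDegree ≤ d := by
    have hmem : a ^ d ∈ K⟮a ^ d⟯ := mem_adjoin_simple_self K (a ^ d)
    have h1 : minpoly K⟮a ^ d⟯ a ∣ (X ^ d - C (⟨a ^ d, hmem⟩ : K⟮a ^ d⟯) : (K⟮a ^ d⟯)[X]) := by
      apply minpoly.dvd
      rw [map_sub, map_pow, aeval_X, aeval_C]
      exact sub_self _
    have := natDegree_le_of_dvd h1 (X_pow_sub_C_ne_zero hd0 _)
    rwa [natDegree_X_pow_sub_C] at this
  have t2 : Module.finrank K L' * Module.finrank L' L = Module.finrank K L :=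
    Module.finrank_mul_finrank K L' L
  refine ⟨d, ?_, ?_⟩
  · rw [← he, ← hfL']; exact Dvd.intro_left _ t2
  · symm
    apply IntermediateField.eq_of_le_of_finrank_le' hML'
    rw [hfM, hfL']
    exact hle

open IntermediateField Polynomial in
/-- With an added hypothesis: let L/K be a finite extension of degree e generated by a single element a
whose e-th power lies in K, and assume that the polynomial X ^ e - 1 splits into linear factors over
K (so every e-th root of unity of any extension of K already lies in K; this holds when K contains a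
primitive e-th root of unity, and when e is a power of the characteristic). Then every intermediate
field of L/K is generated by a ^ d for some divisor d of e. (The published statement has no
hypothesis on roots of unity; for K the rationals and a a primitive 8-th root of unity, e = 4 and a
^ 4 = -1, the intermediate field generated by a + a⁻¹, a square root of 2, is none of K(a), K(a ^
2), K(a ^ 4); the published proof uses that the e-th roots of unity met are fixed by the
automorphisms it constructs, which the splitting hypothesis guarantees.) -/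
theorem result {K L : Type u} [Field K] [Field L] [Algebra K L]
    [FiniteDimensional K L] (a : L) (ha : K⟮a⟯ = ⊤)
    (hpow : a ^ Module.finrank K L ∈ Set.range (algebraMap K L))
    (hroots : (X ^ Module.finrank K L - 1 : K[X]).Splits) (L' : IntermediateField K L) :
    ∃ d : ℕ, d ∣ Module.finrank K L ∧ L' = K⟮a ^ d⟯ := by
  exact aux a ha hpow hroots L'

end Groth.Agent.S6336
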