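import Groth.Statements.S6341
import Groth.Agent.Lib.Helper52.MittagLeffler
import Mathlib.LinearAlgebra.TensorProduct.DirectLimit

set_option autoImplicit false
universe u
open CAlg

namespace Groth.Agent.S6341

open Groth.Agent.Lib.Helper52.ML TensorProduct

/-- The canonical maps into a directed colimit with universally injective transition maps are
universally injective. -/
theorem of_universallyInjective (R : Type u) [CommRing R] {ι : Type u}
    [Preorder ι] [IsDirected ι (· ≤ ·)] [DecidableEq ι] (G : ι → Type u) [∀ i, AddCommGroup (G i)]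
    [∀ i, Module R (G i)] (f : ∀ i j, i ≤ j → G i →ₗ[R] G j) [DirectedSystem G fun i j h => f i j h]
    (hf : ∀ i j (h : i ≤ j), CAlgX.UniversallyInjective R (f i j h)) (i : ι) :
    CAlgX.UniversallyInjective R (Module.DirectLimit.of R ι G f i) := by
  intro N _ _
  rw [injective_iff_map_eq_zero]
  intro x hx
  have h1 := TensorProduct.directLimitLeft_rTensor_of f N x
  rw [hx, map_zero] at h1
  obtain ⟨j, hij, h2⟩ := Module.DirectLimit.of.zero_exact h1.symm
  exact hf i j hij N (by rw [h2, map_zero])

/-- Every element of `(colim G) ⊗ N` comes from some `G i ⊗ N`. -/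
theorem exists_rTensor_of_eq (R : Type u) [CommRing R] {ι : Type u}
    [Preorder ι] [IsDirected ι (· ≤ ·)] [Nonempty ι] [DecidableEq ι] (G : ι → Type u)
    [∀ i, AddCommGroup (G i)]
    [∀ i, Module R (G i)] (f : ∀ i j, i ≤ j → G i →ₗ[R] G j) [DirectedSystem G fun i j h => f i j h]
    (N : Type u) [AddCommGroup N] [Module R N] (z : Module.DirectLimit G f ⊗[R] N) :
    ∃ (i : ι) (zi : G i ⊗[R] N), (Module.DirectLimit.of R ι G f i).rTensor N zi = z := by
  obtain ⟨i, zi, hzi⟩ := Module.DirectLimit.exists_of (TensorProduct.directLimitLeft f N z)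
  refine ⟨i, zi, ?_⟩
  apply (TensorProduct.directLimitLeft f N).injective
  rw [TensorProduct.directLimitLeft_rTensor_of, hzi]

/-- The colimit of a directed system of Mittag-Leffler modules with universally injective transition
maps is Mittag-Leffler. -/
theorem result (R : Type u) [CommRing R] {ι : Type u}
    [Preorder ι] [IsDirected ι (· ≤ ·)] [DecidableEq ι] (G : ι → Type u) [∀ i, AddCommGroup (G i)]
    [∀ i, Module R (G i)] (f : ∀ i j, i ≤ j → G i →ₗ[R] G j) [DirectedSystem G fun i j h => f i j h]
    (hf : ∀ i j (h : i ≤ j), CAlgX.UniversallyInjective R (f i j h))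
    (hG : ∀ i, CAlg.IsMittagLeffler R (G i)) :
    CAlg.IsMittagLeffler R (Module.DirectLimit G f) := by
  intro κ Q _ _
  rw [injective_iff_map_eq_zero]
  intro z hz
  rcases isEmpty_or_nonempty ι with hι | hι
  · exact Subsingleton.elim _ _
  obtain ⟨i, zi, rfl⟩ := exists_rTensor_of_eq R G f (∀ k, Q k) z
  have h1 : zi = 0 := by
    apply hG i κ Q
    rw [map_zero]
    funext k
    apply of_universallyInjective R G f hf i (Q k)
    have h2 := τ_rTensor Q (Module.DirectLimit.of R ι G f i) zi k
    have h3 : (0 : ∀ k, G i ⊗[R] Q k) k = 0 := rfl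
    rw [h3, map_zero, ← h2]
    exact congrFun hz k
  rw [h1, map_zero]

end Groth.Agent.S6341
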