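import Groth.Statements.S6343
import Groth.Agent.Lib.Helper52.MittagLeffler2
import Mathlib.LinearAlgebra.TensorProduct.Finiteness

set_option autoImplicit false
universe u
open scoped TensorProduct
open CAlg

namespace Groth.Agent.S6343

open Groth.Agent.Lib.Helper52.ML

/-- Every element of `(M ⊗ N) ⊗ T` comes from `(Rᵃ ⊗ Rᵇ) ⊗ T` for suitable maps `Rᵃ → M`,
`Rᵇ → N`. -/
theorem exists_free_map_rTensor_eq {R : Type u} [CommRing R] {M N T : Type u} [AddCommGroup M]
    [Module R M] [AddCommGroup N] [Module R N] [AddCommGroup T] [Module R T]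
    (z : (M ⊗[R] N) ⊗[R] T) :
    ∃ (a b : ℕ) (fM : (Fin a → R) →ₗ[R] M) (fN : (Fin b → R) →ₗ[R] N)
      (w : ((Fin a → R) ⊗[R] (Fin b → R)) ⊗[R] T), (TensorProduct.map fM fN).rTensor T w = z := by
  classical
  obtain ⟨n, φ, y, rfl⟩ := exists_free_rTensor_eq z
  obtain ⟨M', N', hM', hN', hs⟩ := TensorProduct.exists_finite_submodule_of_setFinite
    (Set.range (fun k : Fin n => φ (Pi.single k 1))) (Set.finite_range _)
  obtain ⟨a, πM, hπM⟩ := Module.Finite.exists_fin' R M'
  obtain ⟨b, πN, hπN⟩ := Module.Finite.exists_fin' R N'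
  have hsurj : Function.Surjective (TensorProduct.map πM πN) :=
    TensorProduct.map_surjective hπM hπN
  have h1 : ∀ k : Fin n, ∃ s : (Fin a → R) ⊗[R] (Fin b → R),
      TensorProduct.map (M'.subtype ∘ₗ πM) (N'.subtype ∘ₗ πN) s = φ (Pi.single k 1) := by
    intro k
    obtain ⟨t, ht⟩ := hs ⟨k, rfl⟩
    obtain ⟨s, rfl⟩ := hsurj t
    refine ⟨s, ?_⟩
    have ht' : TensorProduct.mapIncl M' N' (TensorProduct.map πM πN s) = φ (Pi.single k 1) := ht
    rw [← ht', TensorProduct.map_comp, LinearMap.comp_apply]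
  choose s hs' using h1
  let ψ : (Fin n → R) →ₗ[R] (Fin a → R) ⊗[R] (Fin b → R) := Fintype.linearCombination R s
  have hψ : TensorProduct.map (M'.subtype ∘ₗ πM) (N'.subtype ∘ₗ πN) ∘ₗ ψ = φ := by
    apply LinearMap.pi_ext'
    intro k
    ext
    simp only [LinearMap.coe_comp, LinearMap.coe_single, Function.comp_apply, ψ,
      Fintype.linearCombination_apply_single, one_smul, hs']
  refine ⟨a, b, M'.subtype ∘ₗ πM, N'.subtype ∘ₗ πN, ψ.rTensor T y, ?_⟩
  rw [← LinearMap.comp_apply, ← LinearMap.rTensor_comp, hψ]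

/-- The tensor product of two Mittag-Leffler modules over a commutative ring is Mittag-Leffler. -/
theorem result (R : Type u) [CommRing R] (M N : Type u) [AddCommGroup M] [Module R M]
    [AddCommGroup N] [Module R N] (hM : CAlg.IsMittagLeffler R M) (hN : CAlg.IsMittagLeffler R N) :
    CAlg.IsMittagLeffler R (M ⊗[R] N) := by
  intro ι Q _ _
  rw [injective_iff_map_eq_zero]
  intro z hz
  obtain ⟨a, b, fM, fN, w, rfl⟩ := exists_free_map_rTensor_eq z
  obtain ⟨mM, KM, hKM, gM, -, -, hkM⟩ := forall_finiteFree_dominate M hM a fM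
  obtain ⟨mN, KN, hKN, gN, -, -, hkN⟩ := forall_finiteFree_dominate N hN b fN
  have := finitePresentation_quotient_of_fg KM hKM
  have := finitePresentation_quotient_of_fg KN hKN
  have : Module.FinitePresentation R (((Fin mM → R) ⧸ KM) ⊗[R] ((Fin mN → R) ⧸ KN)) :=
    finitePresentation_tensorProduct _ _
  have hker : ∀ (T : Type u) [AddCommGroup T] [Module R T],
      LinearMap.ker ((TensorProduct.map fM fN).rTensor T) =
        LinearMap.ker ((TensorProduct.map gM gN).rTensor T) := by
    intro T _ _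
    apply le_antisymm
    · exact dominates_map fM gM fN gN (fun T' _ _ => (hkM T').le) (fun T' _ _ => (hkN T').le) T
    · exact dominates_map gM fM gN fN (fun T' _ _ => (hkM T').ge) (fun T' _ _ => (hkN T').ge) T
  have h1 : (TensorProduct.map gM gN).rTensor (∀ i, Q i) w = 0 := by
    apply (τ_bijective_of_finitePresentation (R := R)
      (M := ((Fin mM → R) ⧸ KM) ⊗[R] ((Fin mN → R) ⧸ KN)) Q).1
    rw [map_zero]
    funext i
    rw [τ_rTensor]
    have : τ R _ Q w i ∈ LinearMap.ker ((TensorProduct.map fM fN).rTensor (Q i)) := by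
      rw [LinearMap.mem_ker, ← τ_rTensor, hz]
      rfl
    rw [hker (Q i)] at this
    exact this
  have h2 : w ∈ LinearMap.ker ((TensorProduct.map fM fN).rTensor (∀ i, Q i)) := by
    rw [hker]
    exact h1
  exact h2

end Groth.Agent.S6343
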