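import Groth.Statements.S6345
import Groth.Agent.Lib.Helper52.MittagLeffler

set_option autoImplicit false
universe u
open CAlg

namespace Groth.Agent.S6345

/-- Let I be a finitely generated ideal of a commutative ring R and M an R/I-module. Then M is
Mittag-Leffler over R if and only if it is Mittag-Leffler over R/I. -/
theorem result (R : Type u) [CommRing R] (I : Ideal R) (hI : I.FG)
    (M : Type u) [AddCommGroup M] [Module (R ⧸ I) M] [Module R M] [IsScalarTower R (R ⧸ I) M] :
    CAlg.IsMittagLeffler R M ↔ CAlg.IsMittagLeffler (R ⧸ I) M := by
  constructor
  · intro h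
    exact Groth.Agent.Lib.Helper52.ML.of_surjective (R := R) (S := R ⧸ I)
      Ideal.Quotient.mk_surjective h
  · intro h
    have : Module.FinitePresentation R (R ⧸ I) :=
      Module.finitePresentation_of_surjective (Submodule.mkQ I) (Submodule.mkQ_surjective I)
        (by rw [Submodule.ker_mkQ]; exact hI)
    exact Groth.Agent.Lib.Helper52.ML.restrictScalars_of_finitePresentation h

end Groth.Agent.S6345
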