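import Groth.Statements.S6379
import Groth.Agent.Lib.Helper52.MittagLeffler

set_option autoImplicit false
universe u
open scoped TensorProduct
open CAlg

namespace Groth.Agent.S6379

open Groth.Agent.Lib.Helper52.ML

/-- `x ∈ range (F'.subtype ⊗ M)` iff `x` dies in `(F/F') ⊗ M`. -/
theorem mem_range_rTensor_subtype_iff {R : Type u} [CommRing R] {M F : Type u}
    [AddCommGroup M] [Module R M] [AddCommGroup F] [Module R F] (F' : Submodule R F)
    (x : F ⊗[R] M) :
    x ∈ LinearMap.range (F'.subtype.rTensor M) ↔ F'.mkQ.rTensor M x = 0 := by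
  have hex : Function.Exact F'.subtype F'.mkQ :=
    LinearMap.exact_subtype_mkQ F'
  have := rTensor_exact M hex F'.mkQ_surjective
  rw [this.linearMap_ker_eq.symm, LinearMap.mem_ker]

/-- Let M be a flat Mittag-Leffler module over a commutative ring R, F an R-module and x ∈ F ⊗_R M. Then
among the submodules F' of F with x in the image of F' ⊗ M → F ⊗ M there is a smallest one, and it
is a finitely generated module. -/
theorem result (R : Type u) [CommRing R] (M : Type u)
    [AddCommGroup M] [Module R M] [Module.Flat R M] (hM : CAlg.IsMittagLeffler R M)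
    (F : Type u) [AddCommGroup F] [Module R F] (x : F ⊗[R] M) :
    ∃ F' : Submodule R F, F'.FG ∧ x ∈ LinearMap.range (F'.subtype.rTensor M) ∧
      ∀ F'' : Submodule R F, x ∈ LinearMap.range (F''.subtype.rTensor M) → F' ≤ F'' := by
  classical
  let I : Type u := {F' : Submodule R F // x ∈ LinearMap.range (F'.subtype.rTensor M)}
  let Q : I → Type u := fun F' => F ⧸ F'.1
  let ψ : F →ₗ[R] (∀ i : I, Q i) := LinearMap.pi fun i => i.1.mkQ
  let F₀ : Submodule R F := LinearMap.ker ψ
  have hle : ∀ F'' : Submodule R F, x ∈ LinearMap.range (F''.subtype.rTensor M) → F₀ ≤ F'' := by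
    intro F'' hF'' v hv
    have h1 : ψ v = 0 := hv
    have h2 := congrFun h1 ⟨F'', hF''⟩
    simp only [ψ, LinearMap.pi_apply, Pi.zero_apply, Submodule.mkQ_apply] at h2
    exact (Submodule.Quotient.mk_eq_zero _).1 h2
  -- the image of `x` in `M ⊗ ∏ Q` vanishes
  let x' : M ⊗[R] F := TensorProduct.comm R F M x
  have h3 : ψ.lTensor M x' = 0 := by
    apply hM I Q
    rw [map_zero]
    funext i
    have := τ_apply_eq (R := R) (M := M) Q (ψ.lTensor M x') i
    rw [this, ← LinearMap.comp_apply, ← LinearMap.lTensor_comp]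
    have h4 : (LinearMap.proj i : (∀ i, Q i) →ₗ[R] Q i) ∘ₗ ψ = i.1.mkQ := by
      ext v; rfl
    rw [h4]
    have h5 := (mem_range_rTensor_subtype_iff i.1 x).1 i.2
    have h6 : i.1.mkQ.lTensor M x' = TensorProduct.comm R _ _ (i.1.mkQ.rTensor M x) := by
      simp only [x']
      rw [← LinearEquiv.coe_coe, ← LinearMap.comp_apply, ← LinearEquiv.coe_coe,
        ← LinearMap.comp_apply]
      congr 1
      ext a b; rfl
    rw [h6, h5, map_zero]
    rfl
  -- by flatness, the image of `x` in `M ⊗ (F / F₀)` vanishes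
  let ψ' : (F ⧸ F₀) →ₗ[R] (∀ i : I, Q i) := F₀.liftQ ψ le_rfl
  have hψ' : Function.Injective ψ' := by
    rw [← LinearMap.ker_eq_bot]
    exact Submodule.ker_liftQ_eq_bot _ _ _ le_rfl
  have hψ : ψ' ∘ₗ F₀.mkQ = ψ := Submodule.liftQ_mkQ _ _ _
  have h7 : F₀.mkQ.lTensor M x' = 0 := by
    apply Module.Flat.lTensor_preserves_injective_linearMap (M := M) ψ' hψ'
    rw [map_zero, ← LinearMap.comp_apply, ← LinearMap.lTensor_comp, hψ, h3]
  have h8 : F₀.mkQ.rTensor M x = 0 := by
    have h6 : F₀.mkQ.lTensor M x' = TensorProduct.comm R _ _ (F₀.mkQ.rTensor M x) := by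
      simp only [x']
      rw [← LinearEquiv.coe_coe, ← LinearMap.comp_apply, ← LinearEquiv.coe_coe,
        ← LinearMap.comp_apply]
      congr 1
      ext a b; rfl
    rw [h6] at h7
    exact (TensorProduct.comm R _ _).injective (by rw [h7, map_zero])
  have h9 : x ∈ LinearMap.range (F₀.subtype.rTensor M) :=
    (mem_range_rTensor_subtype_iff F₀ x).2 h8
  -- finite generation
  obtain ⟨y, hy⟩ := h9
  obtain ⟨J, hJ, y', hy'⟩ := Submodule.exists_fg_le_eq_rTensor_subtype y
  let F₁ : Submodule R F := J.map F₀.subtype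
  have hF₁ : F₁.FG := hJ.map _
  have hF₁le : F₁ ≤ F₀ := Submodule.map_subtype_le F₀ J
  have hxF₁ : x ∈ LinearMap.range (F₁.subtype.rTensor M) := by
    refine ⟨(F₀.subtype.submoduleMap J).rTensor M y', ?_⟩
    rw [← hy, hy', ← LinearMap.comp_apply, ← LinearMap.comp_apply, ← LinearMap.rTensor_comp,
      ← LinearMap.rTensor_comp]
    rfl
  have heq : F₀ = F₁ := le_antisymm (hle F₁ hxF₁) hF₁le
  refine ⟨F₀, heq ▸ hF₁, ⟨y, hy⟩, hle⟩

end Groth.Agent.S6379
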