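import Groth.Statements.S6346
import Groth.Agent.Lib.Helper52.MittagLeffler
import Groth.Agent.S6379

set_option autoImplicit false
universe u
open scoped TensorProduct
open CAlg

namespace Groth.Agent.S6346

open Groth.Agent.Lib.Helper52.ML

theorem comm_rTensor {R : Type u} [CommRing R] {M F G : Type u}
    [AddCommGroup M] [Module R M] [AddCommGroup F] [Module R F] [AddCommGroup G] [Module R G]
    (g : F →ₗ[R] G) (x : F ⊗[R] M) :
    TensorProduct.comm R G M (g.rTensor M x) = g.lTensor M (TensorProduct.comm R F M x) := by
  rw [← LinearEquiv.coe_coe, ← LinearMap.comp_apply, ← LinearEquiv.coe_coe,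
    ← LinearMap.comp_apply]
  congr 1
  ext a b; rfl

/-- Let M be a flat module over a commutative ring R. Then M is Mittag-Leffler exactly when, for each
finite free module F = R^n and each element x of F ⊗ M there is a smallest submodule F' of F such
that x lies in the image of F' ⊗ M → F ⊗ M. -/
theorem result (R : Type u) [CommRing R] (M : Type u)
    [AddCommGroup M] [Module R M] [Module.Flat R M] :
    CAlg.IsMittagLeffler R M ↔
      ∀ (n : ℕ) (x : (Fin n → R) ⊗[R] M), ∃ F' : Submodule R (Fin n → R),
        x ∈ LinearMap.range (F'.subtype.rTensor M) ∧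
        ∀ F'' : Submodule R (Fin n → R), x ∈ LinearMap.range (F''.subtype.rTensor M) → F' ≤ F'' := by
  constructor
  · intro hM n x
    obtain ⟨F', -, h1, h2⟩ := Groth.Agent.S6379.result R M hM (Fin n → R) x
    exact ⟨F', h1, h2⟩
  · intro H ι Q _ _
    rw [injective_iff_map_eq_zero]
    intro z hz
    obtain ⟨n, φ, y, rfl⟩ := exists_free_lTensor_eq z
    let x : (Fin n → R) ⊗[R] M := TensorProduct.comm R M (Fin n → R) y
    have hxy : TensorProduct.comm R (Fin n → R) M x = y := by
      simp [x]
    obtain ⟨F', ⟨w, hw⟩, hmin⟩ := H n x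
    have hle : ∀ i, F' ≤ LinearMap.ker ((LinearMap.proj i : (∀ i, Q i) →ₗ[R] Q i) ∘ₗ φ) := by
      intro i
      apply hmin
      set φi := (LinearMap.proj i : (∀ i, Q i) →ₗ[R] Q i) ∘ₗ φ with hφi
      have hex : Function.Exact (LinearMap.ker φi).subtype φi :=
        LinearMap.exact_subtype_ker_map φi
      have hex' := Module.Flat.rTensor_exact M hex
      rw [← hex'.linearMap_ker_eq, LinearMap.mem_ker]
      apply (TensorProduct.comm R (Q i) M).injective
      rw [comm_rTensor, hxy, map_zero, hφi, LinearMap.lTensor_comp, LinearMap.comp_apply,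
        ← τ_apply_eq, hz]
      rfl
    have hφ : φ ∘ₗ F'.subtype = 0 := by
      ext v i
      have := hle i v.2
      rw [LinearMap.mem_ker] at this
      exact this
    have h1 : φ.rTensor M x = 0 := by
      rw [← hw, ← LinearMap.comp_apply, ← LinearMap.rTensor_comp, hφ, LinearMap.rTensor_zero,
        LinearMap.zero_apply]
    have h2 := comm_rTensor φ x
    rw [hxy, h1, map_zero] at h2
    exact h2.symm

end Groth.Agent.S6346
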