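import Groth.Statements.S6347
import Groth.Agent.Lib.Helper52.MittagLeffler

set_option autoImplicit false
universe u
open CAlg

namespace Groth.Agent.S6347

open Groth.Agent.Lib.Helper52.ML TensorProduct

/-- Over a Noetherian ring, an arbitrary product of copies of `R` is flat. -/
theorem flat_pi (R : Type u) [CommRing R] [IsNoetherianRing R] (A : Type u) :
    Module.Flat R (A → R) := by
  rw [Module.Flat.iff_rTensor_injective]
  intro I _
  rw [injective_iff_map_eq_zero]
  intro x hx
  haveI : Module.FinitePresentation R I := Module.finitePresentation_of_finite R I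
  apply (τ_bijective_of_finitePresentation (R := R) (M := I) (fun _ : A => R)).1
  rw [map_zero]
  funext a
  have h1 := τ_rTensor (fun _ : A => R) I.subtype x a
  rw [hx, map_zero] at h1
  have hinj : Function.Injective (I.subtype.rTensor R) :=
    Module.Flat.rTensor_preserves_injective_linearMap _ Subtype.val_injective
  apply hinj
  rw [← h1]
  exact (map_zero _).symm

/-- Mutual factorization gives equal kernels after tensoring. -/
theorem ker_rTensor_eq_of_factor {R : Type u} [CommRing R] {P M Q : Type u}
    [AddCommGroup P] [Module R P] [AddCommGroup M] [Module R M] [AddCommGroup Q] [Module R Q]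
    (f : P →ₗ[R] M) (g : P →ₗ[R] Q) (C : Q →ₗ[R] M) (D : M →ₗ[R] Q)
    (hC : C ∘ₗ g = f) (hD : D ∘ₗ f = g) (N : Type u) [AddCommGroup N] [Module R N] :
    LinearMap.ker (f.rTensor N) = LinearMap.ker (g.rTensor N) := by
  apply le_antisymm
  · intro x hx
    rw [LinearMap.mem_ker] at hx ⊢
    rw [← hD, LinearMap.rTensor_comp, LinearMap.comp_apply, hx, map_zero]
  · intro x hx
    rw [LinearMap.mem_ker] at hx ⊢
    rw [← hC, LinearMap.rTensor_comp, LinearMap.comp_apply, hx, map_zero]

/-- Over a Noetherian ring, an arbitrary product of copies of `R` is Mittag-Leffler. -/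
theorem ml_pi (R : Type u) [CommRing R] [IsNoetherianRing R] (A : Type u) :
    CAlg.IsMittagLeffler R (A → R) := by
  classical
  apply of_forall_finiteFree_dominate
  intro n f
  let φ : A → ((Fin n → R) →ₗ[R] R) := fun a => (LinearMap.proj a) ∘ₗ f
  let W : Submodule R ((Fin n → R) →ₗ[R] R) := Submodule.span R (Set.range φ)
  have hW : W.FG := IsNoetherian.noetherian W
  obtain ⟨k, w, hw⟩ := Submodule.fg_iff_exists_fin_generating_family.1 hW
  let g : (Fin n → R) →ₗ[R] (Fin k → R) := LinearMap.pi w
  -- `f` factors through `g`
  have h1 : ∀ a, ∃ c : Fin k → R, ∑ i, c i • w i = φ a := by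
    intro a
    apply (Submodule.mem_span_range_iff_exists_fun R).1
    rw [hw]
    exact Submodule.subset_span ⟨a, rfl⟩
  choose c hc using h1
  let C : (Fin k → R) →ₗ[R] (A → R) := LinearMap.pi fun a => Fintype.linearCombination R (c a)
  have hC : C ∘ₗ g = f := by
    ext v a
    have := LinearMap.congr_fun (hc a) (Pi.single v 1)
    simp only [LinearMap.coe_sum, Finset.sum_apply, LinearMap.smul_apply, smul_eq_mul, φ,
      LinearMap.comp_apply, LinearMap.proj_apply] at this
    simp only [C, g, LinearMap.comp_apply, LinearMap.coe_single,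
      LinearMap.pi_apply, Fintype.linearCombination_apply, smul_eq_mul]
    rw [← this]
    exact Finset.sum_congr rfl fun i _ => mul_comm _ _
  -- `g` factors through `f`
  have h2 : ∀ i, ∃ d : A →₀ R, (d.sum fun a r => r • φ a) = w i := by
    intro i
    apply Finsupp.mem_span_range_iff_exists_finsupp.1
    have : w i ∈ Submodule.span R (Set.range w) := Submodule.subset_span ⟨i, rfl⟩
    rw [hw] at this
    exact this
  choose d hd using h2
  let D : (A → R) →ₗ[R] (Fin k → R) := LinearMap.pi fun i =>
    Finsupp.linearCombination R (fun a => (LinearMap.proj a : (A → R) →ₗ[R] R)) (d i)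
  have hD : D ∘ₗ f = g := by
    ext v i
    have := LinearMap.congr_fun (hd i) (Pi.single v 1)
    simp only [D, g, LinearMap.comp_apply, LinearMap.coe_single,
      LinearMap.pi_apply, Finsupp.linearCombination_apply]
    rw [← this]
    simp only [Finsupp.sum, LinearMap.coe_sum, Finset.sum_apply, LinearMap.smul_apply, φ,
      LinearMap.comp_apply, LinearMap.proj_apply]
  exact ⟨Fin k → R, inferInstance, inferInstance, inferInstance, g,
    fun N _ _ => ker_rTensor_eq_of_factor f g C D hC hD N⟩

/-- Over a Noetherian ring R, the product module R^A (functions from any set A to R) is flat and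
Mittag-Leffler. -/
theorem result (R : Type u) [CommRing R] [IsNoetherianRing R]
    (A : Type u) : Module.Flat R (A → R) ∧ CAlg.IsMittagLeffler R (A → R) := by
  exact ⟨flat_pi R A, ml_pi R A⟩

end Groth.Agent.S6347
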