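import Groth.Statements.S6351
import Mathlib
import Groth.Agent.S16707

set_option autoImplicit false
universe u
open scoped TensorProduct
open CAlg

namespace Groth.Agent.S6351

open TensorProduct LinearMap in
theorem lTensor_quot_injective {R : Type*} [CommRing R] (I : Ideal R)
    {K F M : Type*} [AddCommGroup K] [Module R K] [AddCommGroup F] [Module R F]
    [AddCommGroup M] [Module R M] (i : K →ₗ[R] F) (φ : F →ₗ[R] M)
    (hi : Function.Injective i) (hex : Function.Exact i φ) (hφ : Function.Surjective φ)
    (htor : Function.Injective ((Submodule.subtype I).rTensor M)) :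
    Function.Injective (i.lTensor (R ⧸ I)) := by
  rw [injective_iff_map_eq_zero]
  intro z hz
  obtain ⟨k, rfl⟩ := LinearMap.rTensor_surjective K (Submodule.mkQ_surjective I) z
  have exF := rTensor_exact F (LinearMap.exact_subtype_mkQ I) (Submodule.mkQ_surjective I)
  have h1 : (I.mkQ.rTensor F) ((i.lTensor R) k) = 0 := by
    rw [← LinearMap.comp_apply, LinearMap.rTensor_comp_lTensor, ← LinearMap.lTensor_comp_rTensor,
      LinearMap.comp_apply]
    exact hz
  obtain ⟨t, ht⟩ := (exF _).mp h1
  have h2 : (I.subtype.rTensor M) ((φ.lTensor I) t) = 0 := by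
    rw [← LinearMap.comp_apply, LinearMap.rTensor_comp_lTensor, ← LinearMap.lTensor_comp_rTensor,
      LinearMap.comp_apply, ht, ← LinearMap.comp_apply, ← LinearMap.lTensor_comp,
      hex.linearMap_comp_eq_zero, LinearMap.lTensor_zero, LinearMap.zero_apply]
  have h3 : (φ.lTensor I) t = 0 := htor (by rw [h2, map_zero])
  obtain ⟨t', ht'⟩ := (lTensor_exact I hex hφ _).mp h3
  have hinj : Function.Injective (i.lTensor R) :=
    Module.Flat.lTensor_preserves_injective_linearMap i hi
  have h4 : (I.subtype.rTensor K) t' = k := by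
    apply hinj
    rw [← LinearMap.comp_apply, LinearMap.lTensor_comp_rTensor, ← LinearMap.rTensor_comp_lTensor,
      LinearMap.comp_apply, ht', ht]
  rw [← h4, ← LinearMap.comp_apply, ← LinearMap.rTensor_comp]
  have : I.mkQ ∘ₗ I.subtype = 0 := (LinearMap.exact_subtype_mkQ I).linearMap_comp_eq_zero
  rw [this, LinearMap.rTensor_zero, LinearMap.zero_apply]

open TensorProduct in
theorem bijective_of_tor {R : Type u} [CommRing R] (I : Ideal R) (hI : IsNilpotent I)
    {F M : Type u} [AddCommGroup F] [Module R F] [AddCommGroup M] [Module R M]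
    (φ : F →ₗ[R] M) (htor : Function.Injective ((Submodule.subtype I).rTensor M))
    (hf : Function.Bijective (φ.lTensor (R ⧸ I))) : Function.Bijective φ := by
  have hsurj : Function.Surjective φ := by
    have hex : Function.Exact φ (LinearMap.range φ).mkQ := LinearMap.exact_map_mkQ_range φ
    have h1 := lTensor_exact (R ⧸ I) hex (Submodule.mkQ_surjective _)
    have h2 : Function.Surjective ((LinearMap.range φ).mkQ.lTensor (R ⧸ I)) :=
      LinearMap.lTensor_surjective _ (Submodule.mkQ_surjective _)
    have h3 : Subsingleton ((R ⧸ I) ⊗[R] (M ⧸ LinearMap.range φ)) := by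
      refine ⟨fun x y => ?_⟩
      obtain ⟨x', rfl⟩ := h2 x
      obtain ⟨y', rfl⟩ := h2 y
      obtain ⟨x'', rfl⟩ := hf.2 x'
      obtain ⟨y'', rfl⟩ := hf.2 y'
      rw [h1.apply_apply_eq_zero, h1.apply_apply_eq_zero]
    have h4 := Groth.Agent.S16707.subsingleton_of_tensor R I hI _ h3
    rw [← LinearMap.range_eq_top]
    exact Submodule.Quotient.subsingleton_iff.mp h4
  refine ⟨?_, hsurj⟩
  have hex : Function.Exact (LinearMap.ker φ).subtype φ := LinearMap.exact_subtype_ker_map φ
  have h1 := lTensor_exact (R ⧸ I) hex hsurj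
  have h2 : Function.Injective ((LinearMap.ker φ).subtype.lTensor (R ⧸ I)) :=
    lTensor_quot_injective I _ φ (Submodule.injective_subtype _) hex hsurj htor
  have h3 : Subsingleton ((R ⧸ I) ⊗[R] (LinearMap.ker φ)) := by
    refine ⟨fun x y => ?_⟩
    apply h2
    apply hf.1
    rw [h1.apply_apply_eq_zero, h1.apply_apply_eq_zero]
  have h4 := Groth.Agent.S16707.subsingleton_of_tensor R I hI _ h3
  rw [← LinearMap.ker_eq_bot]
  exact (Submodule.subsingleton_iff_eq_bot).mp h4


/-- Let I be a nilpotent ideal of a commutative ring R and M an R-module with Tor_1^R(R/I, M) = 0, i.e.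
I ⊗_R M → M injective. If a family of elements of M maps to a basis of the R/I-module M/IM = R/I ⊗
M, then it is a basis of M over R. -/
theorem result (R : Type u) [CommRing R] (I : Ideal R)
    (hI : IsNilpotent I) (M : Type u) [AddCommGroup M] [Module R M]
    (htor : Function.Injective ((Submodule.subtype I).rTensor M)) {A : Type u} (x : A → M)
    (hli : LinearIndependent (R ⧸ I) (fun a => (1 : R ⧸ I) ⊗ₜ[R] x a))
    (hsp : Submodule.span (R ⧸ I) (Set.range fun a => (1 : R ⧸ I) ⊗ₜ[R] x a) = ⊤) :
    LinearIndependent R x ∧ Submodule.span R (Set.range x) = ⊤ := by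
  classical
  have hlc := Finsupp.linearCombination_one_tmul R (R ⧸ I) M A (v := x)
  have hfun : ∀ z, (Finsupp.linearCombination R x).lTensor (R ⧸ I) z =
      Finsupp.linearCombination (R ⧸ I) (fun a => (1 : R ⧸ I) ⊗ₜ[R] x a)
        (TensorProduct.finsuppScalarRight R R (R ⧸ I) A z) := by
    intro z
    have := LinearMap.congr_fun hlc (TensorProduct.finsuppScalarRight R R (R ⧸ I) A z)
    simp only [LinearMap.coe_comp, Function.comp_apply, LinearEquiv.coe_coe,
      LinearEquiv.symm_apply_apply, LinearMap.coe_restrictScalars] at this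
    exact this.symm
  have hbij : Function.Bijective ((Finsupp.linearCombination R x).lTensor (R ⧸ I)) := by
    have hb2 : Function.Bijective
        (Finsupp.linearCombination (R ⧸ I) (fun a => (1 : R ⧸ I) ⊗ₜ[R] x a)) := by
      refine ⟨hli, ?_⟩
      rw [← LinearMap.range_eq_top, Finsupp.range_linearCombination]
      exact hsp
    have : ⇑((Finsupp.linearCombination R x).lTensor (R ⧸ I)) =
        ⇑(Finsupp.linearCombination (R ⧸ I) (fun a => (1 : R ⧸ I) ⊗ₜ[R] x a)) ∘
          ⇑(TensorProduct.finsuppScalarRight R R (R ⧸ I) A) := by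
      funext z
      exact hfun z
    rw [this]
    exact hb2.comp (TensorProduct.finsuppScalarRight R R (R ⧸ I) A).bijective
  have hmain := bijective_of_tor I hI (Finsupp.linearCombination R x) htor hbij
  refine ⟨hmain.1, ?_⟩
  rw [← Finsupp.range_linearCombination, LinearMap.range_eq_top]
  exact hmain.2

end Groth.Agent.S6351
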