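import Groth.Statements.S6352
import Mathlib
import Groth.Agent.S6000
import Groth.Agent.S6349

set_option autoImplicit false
universe u
open scoped TensorProduct
open CAlg

namespace Groth.Agent.S6352

open TensorProduct in
/-- If `M/IM` is flat over `R/I`, then `- ⊗_R M` preserves injections of modules killed by `I`. -/
theorem rTensor_injective_of_torsion {R : Type u} [CommRing R] (I : Ideal R) (M : Type u)
    [AddCommGroup M] [Module R M] [Module.Flat (R ⧸ I) ((R ⧸ I) ⊗[R] M)]
    {N₁ N₂ : Type u} [AddCommGroup N₁] [Module R N₁] [AddCommGroup N₂] [Module R N₂]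
    (h₁ : ∀ a ∈ I, ∀ x : N₁, a • x = 0) (h₂ : ∀ a ∈ I, ∀ x : N₂, a • x = 0)
    (f : N₁ →ₗ[R] N₂) (hf : Function.Injective f) : Function.Injective (f.rTensor M) := by
  have t₁ : Module.IsTorsionBySet R N₁ I := fun x a => h₁ a.1 a.2 x
  have t₂ : Module.IsTorsionBySet R N₂ I := fun x a => h₂ a.1 a.2 x
  letI := t₁.module
  letI := t₂.module
  haveI : IsScalarTower R (R ⧸ I) N₁ := t₁.isScalarTower
  haveI : IsScalarTower R (R ⧸ I) N₂ := t₂.isScalarTower
  exact Groth.Agent.S6349.rTensor_injective_of_flat_baseChange (R := R) (R ⧸ I) M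
    (f.extendScalarsOfSurjective Ideal.Quotient.mk_surjective) hf

open TensorProduct in
theorem four_lemma {R : Type u} [CommRing R] (M : Type u) [AddCommGroup M] [Module R M]
    {A₁ A₂ B₁ B₂ : Type u} [AddCommGroup A₁] [Module R A₁] [AddCommGroup A₂] [Module R A₂]
    [AddCommGroup B₁] [Module R B₁] [AddCommGroup B₂] [Module R B₂]
    (i : A₁ →ₗ[R] A₂) (j : B₁ →ₗ[R] B₂) (α : A₁ →ₗ[R] B₁) (β : A₂ →ₗ[R] B₂)
    (hcomm : β ∘ₗ i = j ∘ₗ α)
    (γ : (A₂ ⧸ LinearMap.range i) →ₗ[R] (B₂ ⧸ LinearMap.range j))
    (hγ : γ ∘ₗ (LinearMap.range i).mkQ = (LinearMap.range j).mkQ ∘ₗ β)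
    (hα : Function.Injective (α.rTensor M)) (hj : Function.Injective (j.rTensor M))
    (hγi : Function.Injective (γ.rTensor M)) :
    Function.Injective (β.rTensor M) := by
  rw [injective_iff_map_eq_zero]
  intro x hx
  have h1 : (LinearMap.range i).mkQ.rTensor M x = 0 := by
    apply hγi
    rw [map_zero, ← LinearMap.comp_apply, ← LinearMap.rTensor_comp, hγ, LinearMap.rTensor_comp,
      LinearMap.comp_apply, hx, map_zero]
  obtain ⟨y, rfl⟩ := (rTensor_exact M (LinearMap.exact_map_mkQ_range i)
    (Submodule.mkQ_surjective _) x).mp h1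
  have h2 : α.rTensor M y = 0 := by
    apply hj
    rw [map_zero, ← LinearMap.comp_apply, ← LinearMap.rTensor_comp, ← hcomm,
      LinearMap.rTensor_comp, LinearMap.comp_apply, hx]
  rw [hα (h2.trans (map_zero _).symm), map_zero]


open TensorProduct in
theorem main (R R' : Type u) [CommRing R] [CommRing R']
    [Algebra R R'] (hinj : Function.Injective (algebraMap R R')) (I : Ideal R) (n : ℕ)
    (hn1 : 1 ≤ n) (hn : I ^ n = ⊥)
    (M : Type u) [AddCommGroup M] [Module R M] [Module.Flat (R ⧸ I) ((R ⧸ I) ⊗[R] M)]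
    [Module.Flat R' (R' ⊗[R] M)] : Function.Injective (I.subtype.rTensor M) := by
  let φI : I →ₗ[R] R' := (Algebra.linearMap R R').comp I.subtype
  let N : ℕ → Submodule R R' := fun k => (Ideal.map (algebraMap R R') (I ^ k)).restrictScalars R
  let F : ℕ → Submodule R I := fun k => (N k).comap φI
  let ψ : ∀ k, F k →ₗ[R] N k := fun k =>
    (φI.comp (F k).subtype).codRestrict (N k) (fun x => x.2)
  have hNle : ∀ k, N (k + 1) ≤ N k := fun k x hx =>
    (Ideal.map_mono (Ideal.pow_le_pow_right (Nat.le_succ k)) :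
      Ideal.map (algebraMap R R') (I ^ (k + 1)) ≤ Ideal.map (algebraMap R R') (I ^ k)) hx
  have hFle : ∀ k, F (k + 1) ≤ F k := fun k => Submodule.comap_mono (hNle k)
  have hmul : ∀ k, ∀ a ∈ I, ∀ y ∈ N k, a • y ∈ N (k + 1) := by
    intro k a ha y hy
    show a • y ∈ Ideal.map (algebraMap R R') (I ^ (k + 1))
    rw [Algebra.smul_def, pow_succ', Ideal.map_mul]
    exact Ideal.mul_mem_mul (Ideal.mem_map_of_mem _ ha) hy
  have hσ : ∀ k, Function.Injective ((N k).subtype.rTensor M) := by
    intro k
    let g : N k →ₗ[R'] R' := (Ideal.map (algebraMap R R') (I ^ k)).subtype ∘ₗ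
      (Submodule.restrictScalarsEquiv R R' R' _).toLinearMap
    exact Groth.Agent.S6349.rTensor_injective_of_flat_baseChange (R := R) R' M g
      (by intro x y h; exact Subtype.ext h)
  have hj : ∀ k, Function.Injective ((Submodule.inclusion (hNle k)).rTensor M) := by
    intro k
    have h1 : (N (k + 1)).subtype = (N k).subtype ∘ₗ Submodule.inclusion (hNle k) := rfl
    have h := hσ (k + 1)
    rw [h1, LinearMap.rTensor_comp] at h
    exact Function.Injective.of_comp h
  have hC : ∀ d k, k + d = n → Function.Injective ((ψ k).rTensor M) := by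
    intro d
    induction d with
    | zero =>
      intro k hk
      have hkn : k = n := by omega
      have hkn' : I ^ k = I ^ n := by rw [hkn]
      have hF : ∀ x : F k, x = 0 := by
        intro x
        have hx : φI x.1 ∈ Ideal.map (algebraMap R R') (I ^ k) := x.2
        rw [hkn', hn, Ideal.map_bot, Ideal.mem_bot] at hx
        have h0 : (x.1 : R) = 0 := hinj (by rw [map_zero]; exact hx)
        exact Subtype.ext (Subtype.ext h0)
      have : Subsingleton (F k) := ⟨fun x y => by rw [hF x, hF y]⟩
      have : Subsingleton (F k ⊗[R] M) := inferInstance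
      exact Function.injective_of_subsingleton _
    | succ d ih =>
      intro k hk
      have ih' := ih (k + 1) (by omega)
      have hle : LinearMap.range (Submodule.inclusion (hFle k)) ≤
          (LinearMap.range (Submodule.inclusion (hNle k))).comap (ψ k) := by
        rintro _ ⟨y, rfl⟩
        exact ⟨ψ (k + 1) y, rfl⟩
      refine four_lemma M (Submodule.inclusion (hFle k)) (Submodule.inclusion (hNle k))
        (ψ (k + 1)) (ψ k) rfl (Submodule.mapQ _ _ (ψ k) hle) rfl ih' (hj k) ?_
      apply rTensor_injective_of_torsion I M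
      · intro a ha x
        obtain ⟨x, rfl⟩ := Submodule.mkQ_surjective _ x
        rw [← map_smul, Submodule.mkQ_apply, Submodule.Quotient.mk_eq_zero]
        refine ⟨⟨(a • x).1, ?_⟩, rfl⟩
        show φI (a • x).1 ∈ N (k + 1)
        have : φI (a • x).1 = a • φI x.1 := by
          rw [← map_smul]; rfl
        rw [this]
        exact hmul k a ha _ x.2
      · intro a ha y
        obtain ⟨y, rfl⟩ := Submodule.mkQ_surjective _ y
        rw [← map_smul, Submodule.mkQ_apply, Submodule.Quotient.mk_eq_zero]
        exact ⟨⟨(a • y).1, hmul k a ha _ y.2⟩, rfl⟩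
      · rw [injective_iff_map_eq_zero]
        intro x hx
        obtain ⟨x, rfl⟩ := Submodule.mkQ_surjective _ x
        have hmem : ψ k x ∈ LinearMap.range (Submodule.inclusion (hNle k)) := by
          rw [← Submodule.Quotient.mk_eq_zero]; exact hx
        obtain ⟨y, hy⟩ := hmem
        rw [Submodule.mkQ_apply, Submodule.Quotient.mk_eq_zero]
        refine ⟨⟨x.1, ?_⟩, rfl⟩
        show φI x.1 ∈ N (k + 1)
        have : (y : R') = φI x.1 := congrArg Subtype.val hy
        rw [← this]
        exact y.2
  have hC1 := hC (n - 1) 1 (by omega)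
  have hF1 : ∀ x : I, x ∈ F 1 := fun x => by
    show φI x ∈ Ideal.map (algebraMap R R') (I ^ 1)
    rw [pow_one]
    exact Ideal.mem_map_of_mem _ x.2
  let t : I →ₗ[R] F 1 := LinearMap.codRestrict (F 1) LinearMap.id hF1
  have ht : Function.Injective (t.rTensor M) := by
    have h1 : (F 1).subtype ∘ₗ t = LinearMap.id := rfl
    have h2 : ((F 1).subtype.rTensor M) ∘ₗ (t.rTensor M) = LinearMap.id := by
      rw [← LinearMap.rTensor_comp, h1, LinearMap.rTensor_id]
    exact Function.LeftInverse.injective (g := (F 1).subtype.rTensor M)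
      (fun x => by rw [← LinearMap.comp_apply, h2]; rfl)
  have hφ : φI = (N 1).subtype ∘ₗ ψ 1 ∘ₗ t := rfl
  have h3 : Function.Injective (φI.rTensor M) := by
    rw [hφ, LinearMap.rTensor_comp, LinearMap.rTensor_comp]
    exact (hσ 1).comp (hC1.comp ht)
  have h4 : φI.rTensor M = (Algebra.linearMap R R').rTensor M ∘ₗ I.subtype.rTensor M :=
    LinearMap.rTensor_comp _ _ _
  rw [h4] at h3
  exact Function.Injective.of_comp h3

/-- Let R → R' be an injective ring map, I ⊆ R a nilpotent ideal and M an R-module. Then flatness of M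
over R follows from flatness of M/IM over R/I together with flatness of R' ⊗_R M over R'. -/
theorem result (R R' : Type u) [CommRing R] [CommRing R']
    [Algebra R R'] (hinj : Function.Injective (algebraMap R R')) (I : Ideal R) (hI : IsNilpotent I)
    (M : Type u) [AddCommGroup M] [Module R M] [Module.Flat (R ⧸ I) ((R ⧸ I) ⊗[R] M)]
    [Module.Flat R' (R' ⊗[R] M)] : Module.Flat R M := by
  obtain ⟨n, hn⟩ := hI
  have hn' : I ^ (n + 1) = ⊥ := by rw [pow_succ, hn]; simp
  exact (Groth.Agent.S6000.result R I ⟨n, hn⟩ M).mpr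
    ⟨inferInstance, main R R' hinj I (n + 1) (by omega) hn' M⟩

end Groth.Agent.S6352
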