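import Groth.Statements.S6353
import Mathlib

set_option autoImplicit false
universe u
open CAlg

namespace Groth.Agent.S6353

open PrimeSpectrum in
theorem part_a (R : Type u) [CommRing R] (I : Ideal R) (hI : I.Pure) :
    StableUnderGeneralization (zeroLocus (I : Set R)) := by
  intro x y hyx hx
  have hle : y ≤ x := (le_iff_specializes y x).mpr hyx
  rw [mem_zeroLocus] at hx ⊢
  intro a ha
  have : I.Pure := hI
  obtain ⟨b, hb, hab⟩ := Ideal.exists_eq_mul_of_pure (I := I) ha
  have h0 : a * (1 - b) ∈ y.asIdeal := by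
    have : a * (1 - b) = 0 := by rw [mul_sub, mul_one, ← hab, sub_self]
    rw [this]
    exact y.asIdeal.zero_mem
  rcases y.isPrime.mem_or_mem h0 with h | h
  · exact h
  · exfalso
    have h1 : (1 - b) ∈ x.asIdeal := hle h
    have h2 : b ∈ x.asIdeal := hx hb
    have : (1 : R) ∈ x.asIdeal := by
      have := x.asIdeal.add_mem h1 h2
      simpa using this
    exact x.isPrime.ne_top ((Ideal.eq_top_iff_one _).mpr this)

def idealI {R : Type u} [CommRing R] (J : Ideal R) : Ideal R where
  carrier := {a | ∃ b ∈ J, a = a * b}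
  zero_mem' := ⟨0, J.zero_mem, by simp⟩
  add_mem' := by
    rintro a a' ⟨b, hb, hab⟩ ⟨b', hb', hab'⟩
    refine ⟨b + b' - b * b', J.sub_mem (J.add_mem hb hb') (J.mul_mem_left _ hb'), ?_⟩
    have e1 : a * b = a := hab.symm
    have e2 : a' * b' = a' := hab'.symm
    have : (a + a') * (b + b' - b * b') =
        a * b + (a * b') - (a * b) * b' + a' * b + a' * b' - (a' * b') * b := by ring
    rw [this, e1, e2]
    ring
  smul_mem' := by
    rintro r a ⟨b, hb, hab⟩
    refine ⟨b, hb, ?_⟩
    rw [smul_eq_mul, mul_assoc, ← hab]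

theorem idealI_le {R : Type u} [CommRing R] (J : Ideal R) : idealI J ≤ J := by
  rintro a ⟨b, hb, hab⟩
  rw [hab]
  exact J.mul_mem_left _ hb

open PrimeSpectrum in
theorem zeroLocus_idealI {R : Type u} [CommRing R] (J : Ideal R)
    (hZ : StableUnderGeneralization (zeroLocus (J : Set R))) :
    zeroLocus (idealI J : Set R) = zeroLocus (J : Set R) := by
  apply Set.Subset.antisymm
  · intro p hp
    rw [mem_zeroLocus] at hp ⊢
    by_contra hJp
    let S : Submonoid R :=
      { carrier := {s | ∃ f ∈ J, ∃ g, g ∉ p.asIdeal ∧ s = (1 + f) * g}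
        one_mem' := ⟨0, J.zero_mem, 1, fun h => p.isPrime.ne_top ((Ideal.eq_top_iff_one _).mpr h),
          by simp⟩
        mul_mem' := by
          rintro s s' ⟨f, hf, g, hg, rfl⟩ ⟨f', hf', g', hg', rfl⟩
          refine ⟨f + f' + f * f', J.add_mem (J.add_mem hf hf') (J.mul_mem_left _ hf'), g * g',
            fun h => ?_, by ring⟩
          rcases p.isPrime.mem_or_mem h with h | h
          · exact hg h
          · exact hg' h }
    have hdisj : Disjoint ((⊥ : Ideal R) : Set R) S := by
      rw [Set.disjoint_left]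
      rintro s hs ⟨f, hf, g, hg, rfl⟩
      have h0 : (1 + f) * g = 0 := by simpa using hs
      apply hg
      apply hp
      refine ⟨-f, J.neg_mem hf, ?_⟩
      have : g = g * (-f) + (1 + f) * g := by ring
      rw [h0, add_zero] at this
      exact this
    obtain ⟨q, hqprime, -, hqS⟩ := Ideal.exists_le_prime_disjoint (⊥ : Ideal R) S hdisj
    rw [Set.disjoint_left] at hqS
    have hqp : q ≤ p.asIdeal := by
      intro a ha
      by_contra hap
      exact hqS ha ⟨0, J.zero_mem, a, hap, by simp⟩
    have hqJ : q ⊔ J ≠ ⊤ := by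
      intro htop
      have h1 : (1 : R) ∈ q ⊔ J := by rw [htop]; trivial
      obtain ⟨a, ha, f, hf, haf⟩ := Submodule.mem_sup.mp h1
      apply hqS ha
      refine ⟨-f, J.neg_mem hf, 1, fun h => p.isPrime.ne_top ((Ideal.eq_top_iff_one _).mpr h), ?_⟩
      rw [mul_one, ← haf]
      ring
    obtain ⟨m, hm, hle⟩ := Ideal.exists_le_maximal _ hqJ
    let pm : PrimeSpectrum R := ⟨m, hm.isPrime⟩
    let pq : PrimeSpectrum R := ⟨q, hqprime⟩
    have hmZ : pm ∈ zeroLocus (J : Set R) := by
      rw [mem_zeroLocus]
      exact fun a ha => hle (Ideal.mem_sup_right ha)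
    have hspec : pq ⤳ pm := (le_iff_specializes pq pm).mp (fun a ha => hle (Ideal.mem_sup_left ha))
    have hqZ : pq ∈ zeroLocus (J : Set R) := hZ hspec hmZ
    rw [mem_zeroLocus] at hqZ
    exact hJp (fun a ha => hqp (hqZ ha))
  · exact zeroLocus_anti_mono_ideal (idealI_le J)

open PrimeSpectrum in
theorem pure_idealI {R : Type u} [CommRing R] (J : Ideal R)
    (hZ : StableUnderGeneralization (zeroLocus (J : Set R))) : (idealI J).Pure := by
  have key : ∀ x ∈ idealI J, ∃ y ∈ idealI J, x = x * y := by
    rintro x ⟨f, hf, hxf⟩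
    let Ann : Ideal R := LinearMap.ker (LinearMap.mulRight R x)
    have hAnn : ∀ r, r ∈ Ann ↔ r * x = 0 := fun r => by simp [Ann]
    have htop : idealI J ⊔ Ann = ⊤ := by
      by_contra hne
      obtain ⟨m, hm, hle⟩ := Ideal.exists_le_maximal _ hne
      let pm : PrimeSpectrum R := ⟨m, hm.isPrime⟩
      have h1 : pm ∈ zeroLocus (idealI J : Set R) := by
        rw [mem_zeroLocus]
        exact fun a ha => hle (Ideal.mem_sup_left ha)
      rw [zeroLocus_idealI J hZ, mem_zeroLocus] at h1
      have h2 : f ∈ m := h1 hf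
      have h3 : (1 - f) ∈ m := by
        apply hle
        apply Ideal.mem_sup_right
        rw [hAnn, sub_mul, one_mul, mul_comm, ← hxf, sub_self]
      have : (1 : R) ∈ m := by
        have := m.add_mem h3 h2
        simpa using this
      exact hm.ne_top ((Ideal.eq_top_iff_one _).mpr this)
    have h1 : (1 : R) ∈ idealI J ⊔ Ann := by rw [htop]; trivial
    obtain ⟨y, hy, z, hz, hyz⟩ := Submodule.mem_sup.mp h1
    refine ⟨y, hy, ?_⟩
    have hzx : z * x = 0 := (hAnn z).mp hz
    have : x = x * y + z * x := by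
      rw [mul_comm z x, ← mul_add, hyz, mul_one]
    rw [hzx, add_zero] at this
    exact this
  apply Ideal.Pure.of_inf_eq_mul
  intro J' _
  apply le_antisymm
  · rintro x ⟨hxI, hxJ'⟩
    obtain ⟨y, hy, hxy⟩ := key x hxI
    have h5 : y * x ∈ idealI J * J' := Ideal.mul_mem_mul hy hxJ'
    have h6 : y * x = x := by rw [mul_comm]; exact hxy.symm
    rwa [h6] at h5
  · exact Ideal.mul_le_inf


open PrimeSpectrum in
/-- For a commutative ring R, I ↦ V(I) is a bijection between pure ideals (R/I flat over R) and closed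
subsets of Spec R stable under generalization. Stated here as: V(I) is stable under generalization
for I pure, and every closed generalization-stable subset is V(I) for some pure I (injectivity on
pure ideals being the standard fact that pure ideals with the same zero locus coincide). -/
theorem result (R : Type u) [CommRing R] :
    (∀ I : Ideal R, I.Pure → StableUnderGeneralization (zeroLocus (I : Set R))) ∧
      ∀ Z : Set (PrimeSpectrum R), IsClosed Z → StableUnderGeneralization Z →
        ∃ I : Ideal R, I.Pure ∧ zeroLocus (I : Set R) = Z := by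
  refine ⟨fun I hI => part_a R I hI, fun Z hZc hZg => ?_⟩
  obtain ⟨J, rfl⟩ : ∃ J : Ideal R, PrimeSpectrum.zeroLocus (J : Set R) = Z :=
    ⟨PrimeSpectrum.vanishingIdeal Z, by
      rw [PrimeSpectrum.zeroLocus_vanishingIdeal_eq_closure, hZc.closure_eq]⟩
  exact ⟨idealI J, pure_idealI J hZg, zeroLocus_idealI J hZg⟩

end Groth.Agent.S6353
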