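import Groth.Statements.S6354
import Mathlib

set_option autoImplicit false
universe u
open CAlg

namespace Groth.Agent.S6354

theorem span_idem {R : Type u} [CommRing R] {e : R} (he : IsIdempotentElem e) :
    IsIdempotentElem (Ideal.span {e} : Ideal R) := by
  unfold IsIdempotentElem
  rw [Ideal.span_singleton_mul_span_singleton, he.eq]

theorem pure_span {R : Type u} [CommRing R] {e : R} (he : IsIdempotentElem e) :
    (Ideal.span {e} : Ideal R).Pure :=
  Ideal.Pure.of_isIdempotentElem ⟨{e}, by simp⟩ (span_idem he)


open PrimeSpectrum in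
/-- For an ideal I of a commutative ring R these four conditions are equivalent: (1) I is finitely
generated and pure; (2) I = (e) for some idempotent e; (3) I is pure with V(I) open in Spec R; (4)
R/I is projective as an R-module. -/
theorem result (R : Type u) [CommRing R] (I : Ideal R) :
    List.TFAE [I.Pure ∧ I.FG, ∃ e : R, IsIdempotentElem e ∧ I = Ideal.span {e},
      I.Pure ∧ IsOpen (zeroLocus (I : Set R)), Module.Projective R (R ⧸ I)] := by
  tfae_have 1 → 2 := by
    rintro ⟨hp, hfg⟩
    have : I.Pure := hp
    exact (Ideal.isIdempotentElem_iff_of_fg I hfg).mp (Ideal.isIdempotentElem_of_pure I)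
  tfae_have 2 → 3 := by
    rintro ⟨e, he, rfl⟩
    refine ⟨pure_span he, ?_⟩
    rw [PrimeSpectrum.zeroLocus_span, PrimeSpectrum.zeroLocus_eq_basicOpen_of_isIdempotentElem e he]
    exact (PrimeSpectrum.basicOpen (1 - e)).2
  tfae_have 3 → 2 := by
    rintro ⟨hp, hopen⟩
    have hclopen : IsClopen (PrimeSpectrum.zeroLocus (I : Set R)) :=
      ⟨PrimeSpectrum.isClosed_zeroLocus _, hopen⟩
    obtain ⟨e, he, heq⟩ := PrimeSpectrum.isClopen_iff_zeroLocus.mp hclopen
    refine ⟨e, he, ?_⟩
    have : I.Pure := hp
    have : (Ideal.span {e} : Ideal R).Pure := pure_span he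
    apply Ideal.zeroLocus_inj_of_pure.mp
    rw [heq, PrimeSpectrum.zeroLocus_span]
  tfae_have 2 → 4 := by
    rintro ⟨e, he, rfl⟩
    let E := (AlgEquiv.prodQuotientOfIsIdempotentElem R he he.one_sub (by simp)
      (by simp [mul_sub, he.eq])).toLinearEquiv
    have : Module.Projective R ((R ⧸ Ideal.span {e}) × R ⧸ Ideal.span {1 - e}) :=
      Module.Projective.of_equiv E
    exact Module.Projective.of_split (LinearMap.inl R _ (R ⧸ Ideal.span {1 - e}))
      (LinearMap.fst R _ _) (by ext; simp)
  tfae_have 4 → 1 := by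
    intro hproj
    refine ⟨inferInstance, ?_⟩
    obtain ⟨s, hs⟩ := Module.projective_lifting_property (Submodule.mkQ I) LinearMap.id
      (Submodule.mkQ_surjective I)
    have hs' : ∀ y, Submodule.mkQ I (s y) = y := fun y => LinearMap.congr_fun hs y
    refine ⟨{1 - s (Submodule.mkQ I 1)}, ?_⟩
    apply le_antisymm
    · rw [Ideal.span_le]
      intro x hx
      simp only [Finset.coe_singleton, Set.mem_singleton_iff] at hx
      subst hx
      have h0 : Submodule.mkQ I (1 - s (Submodule.mkQ I 1)) = 0 := by
        rw [map_sub, hs', sub_self]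
      exact (Submodule.Quotient.mk_eq_zero I).mp h0
    · intro x hx
      have h1 : Submodule.mkQ I x = 0 := (Submodule.Quotient.mk_eq_zero I).mpr hx
      have h2 : x = x • (1 - s (Submodule.mkQ I 1)) := by
        rw [smul_sub, ← map_smul, ← map_smul, smul_eq_mul, mul_one, h1, map_zero, sub_zero]
      rw [h2]
      exact Ideal.mul_mem_left _ _ (Ideal.subset_span (by simp))
  tfae_finish

end Groth.Agent.S6354
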