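import Groth.Statements.S6355
import Mathlib
import Groth.Agent.S6353
import Groth.Agent.S6354

set_option autoImplicit false
universe u
open CAlg

namespace Groth.Agent.S6355

open Module LocalizedModule in
/-- Surjectivity of a localized map passes to a "bigger" localization. -/
theorem surj_of_surj {R : Type u} [CommRing R] {M N : Type u} [AddCommGroup M] [Module R M]
    [AddCommGroup N] [Module R N] (S T : Submonoid R) (hST : ∀ s ∈ S, ∃ t ∈ T, s ∣ t)
    (φ : N →ₗ[R] M) (h : Function.Surjective (LocalizedModule.map S φ)) :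
    Function.Surjective (LocalizedModule.map T φ) := by
  rw [φ.localizedMap_surjective_iff_subsingleton_localized_coker] at h ⊢
  rw [LocalizedModule.subsingleton_iff] at h ⊢
  intro m
  obtain ⟨r, hr, hrm⟩ := h m
  obtain ⟨t, ht, c, rfl⟩ := hST r hr
  exact ⟨r * c, ht, by rw [mul_comm, mul_smul, hrm, smul_zero]⟩

attribute [local instance] Module.free_of_flat_of_isLocalRing

open Module LocalizedModule in
theorem exists_phi {R : Type u} [CommRing R] [Nontrivial R] (M : Type u) [AddCommGroup M] [Module R M]
    [Module.Finite R M] [Module.Flat R M] (p : Ideal R) [p.IsPrime] :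
    ∃ a ∉ p, ∃ φ : (Fin (rankAtStalk M ⟨p, inferInstance⟩) →₀ R) →ₗ[R] M,
      Function.Surjective (LocalizedModule.map (Submonoid.powers a) φ) := by
  let Rₚ := Localization.AtPrime p
  let n := rankAtStalk M ⟨p, inferInstance⟩
  let f : (Fin n →₀ R) →ₗ[R] Fin n →₀ Rₚ := Finsupp.mapRange.linearMap (Algebra.linearMap R Rₚ)
  let g : M →ₗ[R] LocalizedModule.AtPrime p M := LocalizedModule.mkLinearMap p.primeCompl M
  obtain ⟨φ, -, -, hφps⟩ := exists_localizedMap_surjective_of_surjective p.primeCompl f g
    ((finBasis Rₚ (LocalizedModule.AtPrime p M)).repr.restrictScalars R).symm.surjective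
  obtain ⟨a, hap, hφas⟩ := by
    refine exists_localizedMap_away_surjective_of_localizedMap_atPrime_surjective p φ ?_
    simpa [LocalizedModule.coe_map_eq f g]
  exact ⟨a, hap, φ, hφas⟩

open Module LocalizedModule PrimeSpectrum in
theorem isOpen_rank_le {R : Type u} [CommRing R] (M : Type u) [AddCommGroup M] [Module R M]
    [Module.Finite R M] [Module.Flat R M] (n : ℕ) :
    IsOpen {q : PrimeSpectrum R | rankAtStalk M q ≤ n} := by
  rcases subsingleton_or_nontrivial R with _ | _
  · have : IsEmpty (PrimeSpectrum R) := inferInstance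
    exact isOpen_discrete _
  rw [isOpen_iff_forall_mem_open]
  intro p hp
  obtain ⟨a, hap, φ, hφ⟩ := exists_phi M p.asIdeal
  refine ⟨basicOpen a, ?_, (basicOpen a).2, hap⟩
  intro q hq
  have hq' : a ∉ q.asIdeal := hq
  have hsurj : Function.Surjective (LocalizedModule.map q.asIdeal.primeCompl φ) := by
    apply surj_of_surj (Submonoid.powers a) q.asIdeal.primeCompl _ φ hφ
    rintro s ⟨k, rfl⟩
    exact ⟨a ^ k, fun h => hq' (q.isPrime.mem_of_pow_mem k h), dvd_rfl⟩
  have h1 := LinearMap.finrank_le_finrank_of_surjective hsurj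
  have h2 : ∀ r : ℕ, Module.finrank (Localization.AtPrime q.asIdeal)
      (LocalizedModule q.asIdeal.primeCompl (Fin r →₀ R)) = r := by
    intro r
    have h3 := congrFun (rankAtStalk_eq_finrank_of_free (R := R) (M := (Fin r →₀ R))) q
    simpa [rankAtStalk] using h3
  show rankAtStalk M q ≤ n
  calc rankAtStalk M q ≤ _ := h1
    _ = _ := h2 _
    _ ≤ n := hp

open Module LocalizedModule PrimeSpectrum in
theorem free_away {R : Type u} [CommRing R] (M : Type u) [AddCommGroup M] [Module R M]
    [Module.Finite R M] [Module.Flat R M] (p : Ideal R) [p.IsPrime] (g : R) (hg : g ∉ p)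
    (h : ∀ q : PrimeSpectrum R, g ∉ q.asIdeal →
      rankAtStalk M q = rankAtStalk M ⟨p, inferInstance⟩) :
    ∃ a ∉ p, Module.Free (Localization.Away a) (LocalizedModule.Away a M) := by
  rcases subsingleton_or_nontrivial R with _ | _
  · use 1, Ideal.IsPrime.one_notMem ‹_›
    exact Module.Free.of_subsingleton' (Localization.Away 1) (LocalizedModule.Away 1 M)
  obtain ⟨a₀, ha₀, φ, hφ⟩ := exists_phi M p
  obtain ⟨a, hdiv, hag, hφas⟩ : ∃ a, g ∣ a ∧ a ∉ p ∧
      Function.Surjective (LocalizedModule.map (Submonoid.powers a) φ) := by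
    refine ⟨a₀ * g, dvd_mul_left _ _,
      fun h => (Ideal.IsPrime.mem_or_mem ‹_› h).elim ha₀ hg, ?_⟩
    apply surj_of_surj (Submonoid.powers a₀) _ _ φ hφ
    rintro s ⟨k, rfl⟩
    exact ⟨(a₀ * g) ^ k, ⟨k, rfl⟩, by rw [mul_pow]; exact dvd_mul_right _ _⟩
  refine ⟨a, hag, ?_⟩
  have : Module.Free (Localization.Away a)
      (LocalizedModule.Away a (Fin (rankAtStalk M ⟨p, inferInstance⟩) →₀ R)) :=
    free_of_isLocalizedModule (Rₛ := Localization.Away a)
      (Mₛ := LocalizedModule.Away a (Fin (rankAtStalk M ⟨p, inferInstance⟩) →₀ R))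
      (Submonoid.powers a)
      (mkLinearMap (Submonoid.powers a) (Fin (rankAtStalk M ⟨p, inferInstance⟩) →₀ R))
  let φₐ : LocalizedModule.Away a (Fin (rankAtStalk M ⟨p, inferInstance⟩) →₀ R)
      →ₗ[Localization.Away a] LocalizedModule.Away a M :=
    LocalizedModule.map (Submonoid.powers a) φ
  suffices hbij : Function.Bijective φₐ from
    Module.Free.of_equiv (LinearEquiv.ofBijective φₐ hbij)
  have hfin1 : Module.Finite (Localization.Away a)
      (LocalizedModule.Away a (Fin (rankAtStalk M ⟨p, inferInstance⟩) →₀ R)) := inferInstance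
  have hfin2 : Module.Finite (Localization.Away a) (LocalizedModule.Away a M) := inferInstance
  have hfl1 : Module.Flat (Localization.Away a)
      (LocalizedModule.Away a (Fin (rankAtStalk M ⟨p, inferInstance⟩) →₀ R)) := inferInstance
  have hfl2 : Module.Flat (Localization.Away a) (LocalizedModule.Away a M) := inferInstance
  refine @bijective_of_surjective_of_rankAtStalk_eq (Localization.Away a) _
    (LocalizedModule.Away a (Fin (rankAtStalk M ⟨p, inferInstance⟩) →₀ R))
    (LocalizedModule.Away a M) _ _ hfin1 hfl1 _ _ hfin2 hfl2 φₐ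
    hφas (fun m _ ↦ ?_)
  have hgm : g ∉ (PrimeSpectrum.comap (algebraMap R (Localization.Away a))
      ⟨m, inferInstance⟩).asIdeal := by
    intro hgm
    obtain ⟨c, rfl⟩ := hdiv
    have hmem : algebraMap R (Localization.Away (g * c)) (g * c) ∈ m := by
      rw [map_mul]; exact m.mul_mem_right _ hgm
    exact (Ideal.IsMaximal.ne_top ‹_›) (Ideal.eq_top_of_isUnit_mem _ hmem
      (IsLocalization.Away.algebraMap_isUnit _))
  simp [rankAtStalk_isBaseChange (LocalizedModule.isBaseChange (Submonoid.powers a) _), h _ hgm]


open Module LocalizedModule PrimeSpectrum in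
theorem forward (R : Type u) [CommRing R]
    (H : ∀ Z : Set (PrimeSpectrum R), IsClosed Z → StableUnderGeneralization Z → IsOpen Z)
    (M : Type u) [AddCommGroup M] [Module R M] [Module.Finite R M] [Module.Flat R M] :
    Module.Projective R M := by
  have hopen_ge : ∀ n : ℕ, IsOpen {q : PrimeSpectrum R | n ≤ rankAtStalk M q} := by
    intro n
    rcases n with _ | k
    · simp
    · apply H
      · have := (isOpen_rank_le (R := R) M k).isClosed_compl
        convert this using 1
        ext q
        simp only [Set.mem_setOf_eq, Set.mem_compl_iff, not_le]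
        exact Nat.succ_le_iff
      · intro x y hyx hx
        have hle : y ≤ x := (le_iff_specializes y x).mpr hyx
        have := rankAtStalk_eq_of_le_of_finite_of_flat (R := R) M hle
        simpa [this] using hx
  have hloc : ∀ p : PrimeSpectrum R, ∃ a ∉ p.asIdeal,
      Module.FinitePresentation (Localization.Away a) (LocalizedModule.Away a M) := by
    intro p
    have hW : IsOpen ({q : PrimeSpectrum R | rankAtStalk M q ≤ rankAtStalk M p} ∩
        {q | rankAtStalk M p ≤ rankAtStalk M q}) :=
      (isOpen_rank_le (R := R) M _).inter (hopen_ge _)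
    have hpW : p ∈ ({q : PrimeSpectrum R | rankAtStalk M q ≤ rankAtStalk M p} ∩
        {q | rankAtStalk M p ≤ rankAtStalk M q}) :=
      ⟨le_refl (rankAtStalk M p), le_refl (rankAtStalk M p)⟩
    obtain ⟨_, ⟨g, rfl⟩, hpg, hsub⟩ :=
      isTopologicalBasis_basic_opens.exists_subset_of_mem_open hpW hW
    obtain ⟨a, hap, hfree⟩ := free_away M p.asIdeal g hpg
      (fun q hq => le_antisymm (hsub (show q ∈ (basicOpen g : Set (PrimeSpectrum R)) from hq)).1
        (hsub (show q ∈ (basicOpen g : Set (PrimeSpectrum R)) from hq)).2)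
    refine ⟨a, hap, ?_⟩
    exact Module.finitePresentation_of_projective _ _
  have hfp : Module.FinitePresentation R M := by
    apply Module.FinitePresentation.of_localizationSpan
      {a : R | Module.FinitePresentation (Localization.Away a) (LocalizedModule.Away a M)}
    · by_contra hne
      obtain ⟨m, hm, hle⟩ := Ideal.exists_le_maximal _ hne
      obtain ⟨a, ha, hfp⟩ := hloc ⟨m, hm.isPrime⟩
      exact ha (hle (Ideal.subset_span hfp))
    · rintro ⟨g, hg⟩
      exact hg
  exact Module.Flat.projective_of_finitePresentation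

open PrimeSpectrum in
theorem backward (R : Type u) [CommRing R]
    (H : ∀ (M : Type u) [AddCommGroup M] [Module R M], Module.Finite R M → Module.Flat R M →
        Module.Projective R M)
    (Z : Set (PrimeSpectrum R)) (hZc : IsClosed Z) (hZg : StableUnderGeneralization Z) :
    IsOpen Z := by
  obtain ⟨I, hI, rfl⟩ := (Groth.Agent.S6353.result R).2 Z hZc hZg
  have hproj : Module.Projective R (R ⧸ I) := H (R ⧸ I) inferInstance hI
  have := ((Groth.Agent.S6354.result R I).out 3 2).mp hproj
  exact this.2

/-- For a commutative ring R the following are equivalent: (1) every subset of Spec R which is closed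
and stable under generalization is open; (2) every finite flat R-module is finite locally free, i.e.
(for finite modules) projective. -/
theorem result (R : Type u) [CommRing R] :
    (∀ Z : Set (PrimeSpectrum R), IsClosed Z → StableUnderGeneralization Z → IsOpen Z) ↔
      ∀ (M : Type u) [AddCommGroup M] [Module R M], Module.Finite R M → Module.Flat R M →
        Module.Projective R M := by
  refine ⟨fun H M _ _ hfin hflat => forward R H M, fun H Z hZc hZg => backward R H Z hZc hZg⟩

end Groth.Agent.S6355
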