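import Groth.Statements.S6357
import Groth.Agent.Lib.Helper52.MittagLeffler2
import Groth.Agent.S6341
import Groth.Agent.S6359

set_option autoImplicit false
universe u
open CAlg

namespace Groth.Agent.S6357

open Groth.Agent.Lib.Helper52.ML TensorProduct

/-- The cokernel of a map from a finite module to a finitely presented module is finitely
presented. -/
theorem finitePresentation_coker {R : Type u} [CommRing R] {A B : Type u} [AddCommGroup A]
    [Module R A] [AddCommGroup B] [Module R B] [Module.Finite R A] [Module.FinitePresentation R B]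
    (f : A →ₗ[R] B) : Module.FinitePresentation R (B ⧸ LinearMap.range f) := by
  refine Module.finitePresentation_of_surjective (LinearMap.range f).mkQ
    (LinearMap.range f).mkQ_surjective ?_
  rw [Submodule.ker_mkQ]
  exact Submodule.fg_range f

/-- Given finitely presented R-modules G_i forming a directed system over a nonempty directed index set,
with transition maps f_ij and colimit M, the module M is Mittag-Leffler exactly when every index i
admits some j ≥ i for which f_ij factors through f_ik whenever k ≥ i. -/
theorem result (R : Type u) [CommRing R] {ι : Type u}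
    [Preorder ι] [IsDirected ι (· ≤ ·)] [Nonempty ι] [DecidableEq ι] (G : ι → Type u)
    [∀ i, AddCommGroup (G i)] [∀ i, Module R (G i)] [∀ i, Module.FinitePresentation R (G i)]
    (f : ∀ i j, i ≤ j → G i →ₗ[R] G j) [DirectedSystem G fun i j h => f i j h] :
    CAlg.IsMittagLeffler R (Module.DirectLimit G f) ↔
      ∀ i, ∃ (j : ι) (hij : i ≤ j), ∀ (k : ι) (hik : i ≤ k),
        ∃ h : G k →ₗ[R] G j, f i j hij = h ∘ₗ f i k hik := by
  have hof : ∀ i j (hij : i ≤ j), Module.DirectLimit.of R ι G f j ∘ₗ f i j hij =
      Module.DirectLimit.of R ι G f i := by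
    intro i j hij
    ext x
    exact Module.DirectLimit.of_f
  constructor
  · intro hML i
    obtain ⟨y, hy, huniv⟩ := exists_universal _ hML (G i) (Module.DirectLimit.of R ι G f i)
    have h1 := TensorProduct.directLimitLeft_rTensor_of f _ y
    rw [hy, map_zero] at h1
    obtain ⟨j, hij, h2⟩ := Module.DirectLimit.of.zero_exact h1.symm
    refine ⟨j, hij, fun k hik => ?_⟩
    have := finitePresentation_coker (f i k hik)
    apply (Groth.Agent.S6359.result R (f i k hik) (f i j hij)).1
    intro N _ _
    refine le_trans ?_ (huniv (G j) (f i j hij) h2 N)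
    intro x hx
    rw [LinearMap.mem_ker] at hx ⊢
    rw [← hof i k hik, LinearMap.rTensor_comp, LinearMap.comp_apply, hx, map_zero]
  · intro H κ Q _ _
    rw [injective_iff_map_eq_zero]
    intro z hz
    obtain ⟨i, zi, rfl⟩ := Groth.Agent.S6341.exists_rTensor_of_eq R G f (∀ k, Q k) z
    obtain ⟨j, hij, Hj⟩ := H i
    have h1 : (f i j hij).rTensor (∀ k, Q k) zi = 0 := by
      apply (τ_bijective_of_finitePresentation (R := R) (M := G j) Q).1
      rw [map_zero]
      funext α
      rw [τ_rTensor]
      have h2 : (Module.DirectLimit.of R ι G f i).rTensor (Q α) (τ R (G i) Q zi α) = 0 := by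
        rw [← τ_rTensor]
        exact congrFun hz α
      have h3 := TensorProduct.directLimitLeft_rTensor_of f (Q α) (τ R (G i) Q zi α)
      rw [h2, map_zero] at h3
      obtain ⟨k, hik, h4⟩ := Module.DirectLimit.of.zero_exact h3.symm
      obtain ⟨h, hh⟩ := Hj k hik
      rw [hh, LinearMap.rTensor_comp, LinearMap.comp_apply, h4, map_zero]
      rfl
    rw [← hof i j hij, LinearMap.rTensor_comp, LinearMap.comp_apply, h1, map_zero]

end Groth.Agent.S6357
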