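import Groth.Statements.S6362
import Mathlib

set_option autoImplicit false
universe u
open scoped TensorProduct
open Fields

namespace Groth.Agent.S6362

open TensorProduct Module in
theorem aux {F K L : Type u} [Field F] [Field K] [Field L]
    [Algebra F K] [Algebra F L] [FiniteDimensional F K] [Algebra.IsSeparable F K] [IsAlgClosed L] :
    Function.Bijective (fun x : K ⊗[F] L => fun σ : K →ₐ[F] L =>
      Algebra.TensorProduct.lift σ (AlgHom.id F L) (fun a b => Commute.all (σ a) b) x) := by
  classical
  let Ψ : L ⊗[F] K →ₗ[L] ((K →ₐ[F] L) → L) :=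
    LinearMap.pi (fun σ => (Algebra.TensorProduct.lift (AlgHom.id L L) σ
      (fun a b => Commute.all _ _)).toLinearMap)
  have hΨ : ∀ (l : L) (a : K) (σ : K →ₐ[F] L), Ψ (l ⊗ₜ a) σ = l * σ a := by
    intro l a σ
    simp [Ψ]
  have hsurj : Function.Surjective Ψ := by
    rw [← LinearMap.range_eq_top]
    by_contra hne
    obtain ⟨f, hf0, hf⟩ := Submodule.exists_dual_map_eq_bot_of_lt_top
      (lt_top_iff_ne_top.mpr hne) inferInstance
    apply hf0
    have h1 : ∀ y, f (Ψ y) = 0 := by
      intro y
      have : f (Ψ y) ∈ (LinearMap.range Ψ).map f := ⟨Ψ y, ⟨y, rfl⟩, rfl⟩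
      rw [hf] at this
      exact (Submodule.mem_bot L).mp this
    let c : (K →ₐ[F] L) → L := fun σ => f (Pi.single σ 1)
    have hfc : ∀ v, f v = ∑ σ, v σ * c σ := by
      intro v
      conv_lhs => rw [← Finset.univ_sum_single v]
      rw [map_sum]
      apply Finset.sum_congr rfl
      intro σ _
      have : (Pi.single σ (v σ) : (K →ₐ[F] L) → L) = v σ • Pi.single σ (1 : L) := by
        rw [← Pi.single_smul, smul_eq_mul, mul_one]
      rw [this, map_smul, smul_eq_mul]
    have hdep : ∑ σ, c σ • (σ : K →ₐ[F] L).toLinearMap = 0 := by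
      ext a
      have := h1 (1 ⊗ₜ a)
      rw [hfc] at this
      rw [LinearMap.sum_apply, LinearMap.zero_apply, ← this]
      apply Finset.sum_congr rfl
      intro σ _
      rw [hΨ, one_mul, mul_comm, LinearMap.smul_apply, AlgHom.toLinearMap_apply, smul_eq_mul]
    have hli := linearIndependent_toLinearMap F K L
    have hc : ∀ σ, c σ = 0 := Fintype.linearIndependent_iff.mp hli c hdep
    refine LinearMap.ext fun v => ?_
    rw [hfc]
    simp [hc]
  have hfr : finrank L (L ⊗[F] K) = finrank L ((K →ₐ[F] L) → L) := by
    rw [Module.finrank_baseChange, Module.finrank_fintype_fun_eq_card, AlgHom.card]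
  have hinj : Function.Injective Ψ :=
    (LinearMap.injective_iff_surjective_of_finrank_eq_finrank hfr).mpr hsurj
  have hΦ : (fun x : K ⊗[F] L => fun σ : K →ₐ[F] L =>
      Algebra.TensorProduct.lift σ (AlgHom.id F L) (fun a b => Commute.all (σ a) b) x) =
      Ψ ∘ (Algebra.TensorProduct.comm F K L) := by
    funext x
    induction x using TensorProduct.induction_on with
    | zero =>
      funext σ
      simp
    | tmul a b =>
      funext σ
      simp [hΨ, mul_comm]
    | add x y hx hy =>
      funext σ
      have hx' := congrFun hx σ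
      have hy' := congrFun hy σ
      simp only [Function.comp_apply, map_add, Pi.add_apply] at hx' hy' ⊢
      rw [hx', hy']
  rw [hΦ]
  exact Function.Bijective.comp (g := Ψ) ⟨hinj, hsurj⟩ (Algebra.TensorProduct.comm F K L).bijective


/-- Let K/F be a finite separable extension and L/F an extension with L algebraically closed. Then the
L-algebra map K ⊗_F L → ∏_σ L, indexed by the F-algebra maps σ : K → L and sending a ⊗ b to (σ(a)
b)_σ, is an isomorphism; stated as bijectivity of that map. -/
theorem result {F K L : Type u} [Field F] [Field K] [Field L]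
    [Algebra F K] [Algebra F L] [FiniteDimensional F K] [Algebra.IsSeparable F K] [IsAlgClosed L] :
    Function.Bijective (fun x : K ⊗[F] L => fun σ : K →ₐ[F] L =>
      Algebra.TensorProduct.lift σ (AlgHom.id F L) (fun a b => Commute.all (σ a) b) x) := by
  exact aux

end Groth.Agent.S6362
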