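import Groth.Statements.S6363
import Mathlib

set_option autoImplicit false
universe u
open scoped TensorProduct
open Fields

namespace Groth.Agent.S6363

open TensorProduct IntermediateField in
theorem aux {K L M : Type u} [Field K] [Field L] [Field M]
    [Algebra K L] [Algebra K M] [Algebra L M] [IsScalarTower K L M] [FiniteDimensional K L]
    [h : IsNormalClosure K L M] :
    ∃ f : (⨂[K] _ : Fin (Field.finSepDegree K L), L) →ₐ[K] M, Function.Surjective f := by
  classical
  have hsplit := h.splits
  have hcard : Field.finSepDegree K L = Nat.card (L →ₐ[K] M) :=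
    Field.finSepDegree_eq_of_adjoin_splits K L M (S := Set.univ) (adjoin_univ K L)
      (fun s _ => ⟨IsIntegral.of_finite K s, hsplit s⟩)
  have : Finite (L →ₐ[K] M) := inferInstance
  have : Fintype (L →ₐ[K] M) := Fintype.ofFinite _
  have hcard' : Fintype.card (L →ₐ[K] M) = Field.finSepDegree K L := by
    rw [hcard, Nat.card_eq_fintype_card]
  let e : Fin (Field.finSepDegree K L) ≃ (L →ₐ[K] M) :=
    (Fintype.equivFinOfCardEq hcard').symm
  let F : MultilinearMap K (fun _ : Fin (Field.finSepDegree K L) => L) M :=
    (MultilinearMap.mkPiAlgebra K (Fin (Field.finSepDegree K L)) M).compLinearMap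
      (fun i => (e i).toLinearMap)
  have hF : ∀ x, F x = ∏ i, e i (x i) := fun x => by simp [F]
  let φ : (⨂[K] _ : Fin (Field.finSepDegree K L), L) →ₐ[K] M :=
    PiTensorProduct.liftAlgHom F (by rw [hF]; simp)
      (fun x y => by rw [hF, hF, hF]; simp [Finset.prod_mul_distrib])
  have hφ : ∀ x, φ (PiTensorProduct.tprod K x) = ∏ i, e i (x i) := fun x => by
    simp [φ, hF]
  refine ⟨φ, ?_⟩
  have halg : Algebra.IsAlgebraic K M := by
    have := h.normal
    exact this.toIsAlgebraic
  have hmem : ∀ (σ : L →ₐ[K] M) (x : L), σ x ∈ φ.range := by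
    intro σ x
    refine ⟨PiTensorProduct.tprod K (Pi.mulSingle (e.symm σ) x), ?_⟩
    change φ _ = σ x
    rw [hφ, Fintype.prod_eq_single (e.symm σ)]
    · simp
    · intro j hj
      rw [Pi.mulSingle_eq_of_ne hj, map_one]
  have htop : subalgebraEquivIntermediateField φ.range = ⊤ := by
    rw [eq_top_iff, ← (Algebra.IsAlgebraic.isNormalClosure_iff.mp h).2, normalClosure_le_iff]
    rintro σ _ ⟨x, rfl⟩
    exact hmem σ x
  intro y
  have : y ∈ subalgebraEquivIntermediateField φ.range := by rw [htop]; trivial
  exact this


/-- For a finite field extension L/K and a normal closure M of L/K, some K-algebra homomorphism from the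
n-fold tensor power L ⊗_K ⋯ ⊗_K L to M is surjective, where n = [L : K]_s is the separable degree
(so n ≤ [L : K]). -/
theorem result {K L M : Type u} [Field K] [Field L] [Field M]
    [Algebra K L] [Algebra K M] [Algebra L M] [IsScalarTower K L M] [FiniteDimensional K L]
    [IsNormalClosure K L M] :
    ∃ f : (⨂[K] _ : Fin (Field.finSepDegree K L), L) →ₐ[K] M, Function.Surjective f := by
  exact aux

end Groth.Agent.S6363
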