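import Groth.Statements.S6364
import Mathlib

set_option autoImplicit false
universe u
open Fields

namespace Groth.Agent.S6364

open Matrix Polynomial in
theorem charpoly_blockDiagonal_const {R : Type*} [CommRing R] {m o : Type*} [Fintype m] [DecidableEq m]
    [Fintype o] [DecidableEq o] (M : Matrix m m R) :
    (Matrix.blockDiagonal (fun _ : o => M)).charpoly = M.charpoly ^ Fintype.card o := by
  have h : (Matrix.blockDiagonal (fun _ : o => M)).charmatrix =
      Matrix.blockDiagonal (fun _ : o => M.charmatrix) := by
    ext ⟨i, k⟩ ⟨j, k'⟩
    by_cases hk : k = k'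
    · subst hk
      by_cases hij : i = j
      · subst hij
        simp [Matrix.blockDiagonal_apply]
      · have : (i, k) ≠ (j, k) := fun h => hij (Prod.mk.inj h).1
        simp [Matrix.blockDiagonal_apply, Matrix.charmatrix_apply_ne, hij, this]
    · have : (i, k) ≠ (j, k') := fun h => hk (Prod.mk.inj h).2
      simp [Matrix.blockDiagonal_apply, Matrix.charmatrix_apply_ne, hk, this]
  rw [Matrix.charpoly, h, Matrix.det_blockDiagonal, Finset.prod_const, Finset.card_univ]
  rfl


open IntermediateField in
/-- Let L/K be a finite extension and a ∈ L with minimal polynomial P over K. Then P ^ e, with e = [L :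
K(a)], is the characteristic polynomial of multiplication by a (the K-linear map x ↦ a x on L), and
e · deg P = [L : K]. -/
theorem result {K L : Type u} [Field K] [Field L] [Algebra K L] [FiniteDimensional K L]
    (a : L) :
    (Algebra.lmul K L a).charpoly = minpoly K a ^ Module.finrank K⟮a⟯ L ∧
      Module.finrank K⟮a⟯ L * (minpoly K a).natDegree = Module.finrank K L := by
  classical
  have hint : IsIntegral K a := IsIntegral.of_finite K a
  let pb := IntermediateField.adjoin.powerBasis hint
  let c := Module.Free.chooseBasis K⟮a⟯ L
  have hfin : Module.finrank K⟮a⟯ L * (minpoly K a).natDegree = Module.finrank K L := by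
    rw [← IntermediateField.adjoin.finrank hint, mul_comm, Module.finrank_mul_finrank]
  refine ⟨?_, hfin⟩
  have h1 : (Algebra.lmul K L a).charpoly =
      (Algebra.leftMulMatrix (pb.basis.smulTower c) a).charpoly := by
    rw [Algebra.leftMulMatrix_apply, LinearMap.charpoly_toMatrix]
  have h2 : Algebra.leftMulMatrix (pb.basis.smulTower c) a =
      Algebra.leftMulMatrix (pb.basis.smulTower c)
        (algebraMap K⟮a⟯ L (IntermediateField.AdjoinSimple.gen K a)) := rfl
  rw [h1, h2, Algebra.smulTower_leftMulMatrix_algebraMap, charpoly_blockDiagonal_const]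
  have h3 : (Algebra.leftMulMatrix pb.basis (IntermediateField.AdjoinSimple.gen K a)).charpoly =
      minpoly K (IntermediateField.AdjoinSimple.gen K a) := by
    have := charpoly_leftMulMatrix pb
    rwa [IntermediateField.adjoin.powerBasis_gen] at this
  rw [h3, IntermediateField.minpoly_gen, Module.finrank_eq_card_chooseBasisIndex]

end Groth.Agent.S6364
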