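import Groth.Statements.S6367
import Mathlib.Algebra.Module.FinitePresentation

set_option autoImplicit false
universe u
open CAlg

namespace Groth.Agent.S6367

/-- Let 0 → M₁ → M₂ → M₃ → 0 be a short exact sequence of R-modules (f injective, g surjective, image of
f = kernel of g). If M₁ and M₃ are coherent — finitely generated with every finitely generated
submodule finitely presented — then so is M₂. -/
theorem result (R : Type u) [CommRing R] {M₁ M₂ M₃ : Type u}
    [AddCommGroup M₁] [Module R M₁] [AddCommGroup M₂] [Module R M₂] [AddCommGroup M₃] [Module R M₃]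
    (f : M₁ →ₗ[R] M₂) (g : M₂ →ₗ[R] M₃) (hf : Function.Injective f) (hg : Function.Surjective g)
    (hfg : LinearMap.range f = LinearMap.ker g)
    (h₁ : (Module.Finite R M₁ ∧ ∀ N : Submodule R M₁, N.FG → Module.FinitePresentation R N))
    (h₃ : (Module.Finite R M₃ ∧ ∀ N : Submodule R M₃, N.FG → Module.FinitePresentation R N)) :
    (Module.Finite R M₂ ∧ ∀ N : Submodule R M₂, N.FG → Module.FinitePresentation R N) := by
  obtain ⟨hfin₁, hcoh₁⟩ := h₁
  obtain ⟨hfin₃, hcoh₃⟩ := h₃
  refine ⟨?_, ?_⟩
  · rw [Module.finite_def]
    apply Submodule.fg_of_fg_map_of_fg_inf_ker g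
    · rw [Submodule.map_top, LinearMap.range_eq_top.mpr hg]
      exact Module.Finite.fg_top
    · rw [top_inf_eq, ← hfg, ← Submodule.map_top]
      exact Module.Finite.fg_top.map f
  · intro N hN
    have hNfin : Module.Finite R N := Module.Finite.iff_fg.mpr hN
    -- the image of `N` in `M₃` is finitely presented
    have h3 : Module.FinitePresentation R (N.map g) := hcoh₃ _ (hN.map g)
    have hsurj : Function.Surjective (g.submoduleMap N) := g.submoduleMap_surjective N
    have hker : (LinearMap.ker (g.submoduleMap N)).FG :=
      Module.FinitePresentation.fg_ker (g.submoduleMap N) hsurj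
    -- the kernel is isomorphic to `N.comap f`
    have hmem : ∀ x : N.comap f, (⟨f x, x.2⟩ : N) ∈ LinearMap.ker (g.submoduleMap N) := by
      intro x
      rw [LinearMap.mem_ker]
      apply Subtype.ext
      change g (f x) = 0
      have : f x ∈ LinearMap.ker g := hfg ▸ LinearMap.mem_range_self f x
      exact this
    let φ : N.comap f →ₗ[R] LinearMap.ker (g.submoduleMap N) :=
      { toFun := fun x => ⟨⟨f x, x.2⟩, hmem x⟩
        map_add' := fun x y => by
          apply Subtype.ext; apply Subtype.ext; simp
        map_smul' := fun r x => by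
          apply Subtype.ext; apply Subtype.ext; simp }
    have hφinj : Function.Injective φ := by
      intro x y hxy
      apply Subtype.ext
      apply hf
      exact congrArg (fun z => ((z : LinearMap.ker (g.submoduleMap N)) : N).1) hxy
    have hφsurj : Function.Surjective φ := by
      rintro ⟨⟨y, hyN⟩, hy⟩
      rw [LinearMap.mem_ker] at hy
      have hy' : g y = 0 := congrArg Subtype.val hy
      have : y ∈ LinearMap.range f := hfg ▸ (LinearMap.mem_ker.mpr hy')
      obtain ⟨x, rfl⟩ := this
      exact ⟨⟨x, hyN⟩, rfl⟩
    let e : N.comap f ≃ₗ[R] LinearMap.ker (g.submoduleMap N) :=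
      LinearEquiv.ofBijective φ ⟨hφinj, hφsurj⟩
    have hK₁fg : (N.comap f).FG := by
      rw [← Module.Finite.iff_fg]
      have : Module.Finite R (LinearMap.ker (g.submoduleMap N)) := Module.Finite.iff_fg.mpr hker
      exact Module.Finite.equiv e.symm
    have hK₁ : Module.FinitePresentation R (N.comap f) := hcoh₁ _ hK₁fg
    have hkerfp : Module.FinitePresentation R (LinearMap.ker (g.submoduleMap N)) :=
      Module.FinitePresentation.of_equiv e
    exact Module.finitePresentation_of_ker (g.submoduleMap N) hsurj

end Groth.Agent.S6367
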