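import Groth.Statements.S6366
import Groth.Agent.S6367
import Mathlib.Algebra.Module.FinitePresentation

set_option autoImplicit false
universe u
open CAlg

namespace Groth.Agent.S6366

/-- Coherent module (local abbreviation). -/
def Coh (R : Type u) [CommRing R] (M : Type u) [AddCommGroup M] [Module R M] : Prop :=
  Module.Finite R M ∧ ∀ N : Submodule R M, N.FG → Module.FinitePresentation R N

theorem coh_of_equiv {R : Type u} [CommRing R] {M M' : Type u} [AddCommGroup M] [Module R M]
    [AddCommGroup M'] [Module R M'] (e : M ≃ₗ[R] M') (h : Coh R M) : Coh R M' := by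
  obtain ⟨hfin, hcoh⟩ := h
  refine ⟨Module.Finite.equiv e, fun N hN => ?_⟩
  have h1 : (N.map e.symm.toLinearMap).FG := hN.map _
  have h2 := hcoh _ h1
  exact Module.FinitePresentation.of_equiv (e.symm.submoduleMap N).symm

theorem coh_self (R : Type u) [CommRing R]
    (hR : ∀ I : Ideal R, I.FG → Module.FinitePresentation R I) : Coh R R :=
  ⟨inferInstance, fun N hN => hR N hN⟩

theorem coh_pi (R : Type u) [CommRing R]
    (hR : ∀ I : Ideal R, I.FG → Module.FinitePresentation R I) (n : ℕ) : Coh R (Fin n → R) := by
  induction n with
  | zero =>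
    refine ⟨inferInstance, fun N _ => ?_⟩
    infer_instance
  | succ n ih =>
    refine Groth.Agent.S6367.result R (LinearMap.single R (fun _ : Fin (n + 1) => R) 0)
      (LinearMap.funLeft R R Fin.succ) ?_ ?_ ?_ (coh_self R hR) ih
    · exact Pi.single_injective (M := fun _ : Fin (n + 1) => R) 0
    · intro v
      refine ⟨Fin.cons 0 v, ?_⟩
      ext i
      simp [LinearMap.funLeft_apply]
    · ext v
      simp only [LinearMap.mem_range, LinearMap.mem_ker]
      constructor
      · rintro ⟨r, rfl⟩
        ext i
        simp [LinearMap.funLeft_apply, Fin.succ_ne_zero]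
      · intro hv
        refine ⟨v 0, ?_⟩
        ext i
        refine Fin.cases ?_ (fun j => ?_) i
        · simp
        · have := congrFun hv j
          simp only [LinearMap.funLeft_apply, Pi.zero_apply] at this
          simp [this, Fin.succ_ne_zero]

theorem coh_quotient {R : Type u} [CommRing R] {M : Type u} [AddCommGroup M] [Module R M]
    (h : Coh R M) (K : Submodule R M) (hK : K.FG) : Coh R (M ⧸ K) := by
  obtain ⟨hfin, hcoh⟩ := h
  refine ⟨inferInstance, fun N' hN' => ?_⟩
  -- the preimage of `N'` in `M`
  have hmap : (N'.comap K.mkQ).map K.mkQ = N' :=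
    Submodule.map_comap_eq_of_surjective K.mkQ_surjective N'
  have hKle : K ≤ N'.comap K.mkQ := by
    intro x hx
    simp [(Submodule.Quotient.mk_eq_zero K).mpr hx]
  have hNfg : (N'.comap K.mkQ).FG := by
    apply Submodule.fg_of_fg_map_of_fg_inf_ker K.mkQ
    · rw [hmap]; exact hN'
    · rw [Submodule.ker_mkQ, inf_eq_right.mpr hKle]; exact hK
  have hNfp : Module.FinitePresentation R (N'.comap K.mkQ) := hcoh _ hNfg
  have hsurj : Function.Surjective (K.mkQ.submoduleMap (N'.comap K.mkQ)) :=
    K.mkQ.submoduleMap_surjective _
  have hkerfg : (LinearMap.ker (K.mkQ.submoduleMap (N'.comap K.mkQ))).FG := by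
    apply Submodule.fg_of_fg_map_injective (N'.comap K.mkQ).subtype
      (Submodule.subtype_injective _)
    have : (LinearMap.ker (K.mkQ.submoduleMap (N'.comap K.mkQ))).map
        (N'.comap K.mkQ).subtype = K := by
      ext x
      constructor
      · rintro ⟨⟨y, hy⟩, hy', rfl⟩
        rw [SetLike.mem_coe, LinearMap.mem_ker] at hy'
        have : K.mkQ y = 0 := congrArg Subtype.val hy'
        simpa using this
      · intro hx
        refine ⟨⟨x, hKle hx⟩, ?_, rfl⟩
        rw [SetLike.mem_coe, LinearMap.mem_ker]
        apply Subtype.ext
        change K.mkQ x = 0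
        simpa using hx
    rw [this]
    exact hK
  have h1 : Module.FinitePresentation R ((N'.comap K.mkQ).map K.mkQ) :=
    Module.finitePresentation_of_surjective _ hsurj hkerfg
  exact Module.FinitePresentation.of_equiv (LinearEquiv.ofEq _ _ hmap)

/-- Let R be a coherent ring, i.e. every finitely generated ideal of R is finitely presented. Then an
R-module is coherent (finitely generated, and every finitely generated submodule is finitely
presented) if and only if it is finitely presented. -/
theorem result (R : Type u) [CommRing R]
    (hR : ∀ I : Ideal R, I.FG → Module.FinitePresentation R I) (M : Type u) [AddCommGroup M] [Module R M] :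
    (Module.Finite R M ∧ ∀ N : Submodule R M, N.FG → Module.FinitePresentation R N) ↔ Module.FinitePresentation R M := by
  constructor
  · rintro ⟨hfin, hcoh⟩
    have h1 : Module.FinitePresentation R (⊤ : Submodule R M) := hcoh ⊤ Module.Finite.fg_top
    exact Module.FinitePresentation.of_equiv Submodule.topEquiv
  · intro hfp
    obtain ⟨n, K, e, hK⟩ := Module.FinitePresentation.exists_fin R M
    exact coh_of_equiv e.symm (coh_quotient (coh_pi R hR n) K hK)

end Groth.Agent.S6366
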