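import Groth.Statements.S6368
import Mathlib.RingTheory.Flat.FaithfullyFlat.Basic
import Mathlib.LinearAlgebra.TensorProduct.Finiteness
import Mathlib.RingTheory.TensorProduct.Basic

set_option autoImplicit false
universe u
open scoped TensorProduct
open CAlg

namespace Groth.Agent.S6368

/-- Let R → S be faithfully flat and M an R-module. If the S-module S ⊗_R M is countably generated then
M is countably generated. -/
theorem result (R S : Type u) [CommRing R] [CommRing S] [Algebra R S]
    [Module.FaithfullyFlat R S] (M : Type u) [AddCommGroup M] [Module R M]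
    (h : CAlg.IsCountablyGenerated S (S ⊗[R] M)) : CAlg.IsCountablyGenerated R M := by
  classical
  obtain ⟨s, hs, hspan⟩ := h
  have key : ∀ y : S ⊗[R] M, ∃ t : Finset M,
      y ∈ LinearMap.range ((Submodule.span R (t : Set M)).subtype.lTensor S) := by
    intro y
    obtain ⟨N', hfin, hN'⟩ :=
      TensorProduct.exists_finite_submodule_right_of_setFinite {y} (Set.finite_singleton y)
    obtain ⟨t, ht⟩ := (Module.Finite.iff_fg.mp hfin)
    refine ⟨t, ?_⟩
    rw [ht]
    exact hN' rfl
  choose t ht using key
  let T : Set M := ⋃ y ∈ s, (t y : Set M)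
  have hT : T.Countable := hs.biUnion fun y _ => (t y).countable_toSet
  refine ⟨T, hT, ?_⟩
  have hsurj : Function.Surjective ((Submodule.span R T).subtype.lTensor S) := by
    have hrange : LinearMap.range ((Submodule.span R T).subtype.baseChange S) = ⊤ := by
      rw [eq_top_iff, ← hspan, Submodule.span_le]
      intro y hy
      obtain ⟨z, hz⟩ := ht y
      have hle : Submodule.span R (t y : Set M) ≤ Submodule.span R T :=
        Submodule.span_mono (Set.subset_biUnion_of_mem (u := fun y => (t y : Set M)) hy)
      refine ⟨(Submodule.inclusion hle).lTensor S z, ?_⟩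
      rw [LinearMap.baseChange_eq_ltensor, ← LinearMap.comp_apply, ← LinearMap.lTensor_comp,
        Submodule.subtype_comp_inclusion]
      exact hz
    intro y
    have : y ∈ LinearMap.range ((Submodule.span R T).subtype.baseChange S) := by
      rw [hrange]; trivial
    obtain ⟨z, hz⟩ := this
    exact ⟨z, by rw [← hz, LinearMap.baseChange_eq_ltensor]⟩
  have hsub := (Module.FaithfullyFlat.lTensor_surjective_iff_surjective R S _).mp hsurj
  rw [eq_top_iff]
  intro m _
  obtain ⟨⟨m', hm'⟩, rfl⟩ := hsub m
  exact hm'

end Groth.Agent.S6368
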