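import Groth.Statements.S6369
import Mathlib.RingTheory.DedekindDomain.Ideal.Lemmas
import Mathlib.Tactic

set_option autoImplicit false
universe u
open CAlg

namespace Groth.Agent.S6369

open FractionalIdeal nonZeroDivisors

section
variable {D : Type u} [CommRing D] [IsDomain D]

/-- An ideal is invertible (as a fractional ideal). -/
def Inv (I : Ideal D) : Prop :=
  ∃ J : FractionalIdeal D⁰ (FractionRing D), (I : FractionalIdeal D⁰ (FractionRing D)) * J = 1

theorem Inv.mul {I J : Ideal D} (hI : Inv I) (hJ : Inv J) : Inv (I * J) := by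
  obtain ⟨X, hX⟩ := hI
  obtain ⟨Y, hY⟩ := hJ
  refine ⟨X * Y, ?_⟩
  rw [coeIdeal_mul, mul_mul_mul_comm, hX, hY, one_mul]

theorem Inv.of_mul_left {I J : Ideal D} (h : Inv (I * J)) : Inv I := by
  obtain ⟨X, hX⟩ := h
  refine ⟨J * X, ?_⟩
  rw [← mul_assoc, ← coeIdeal_mul, hX]

theorem Inv.of_mul_right {I J : Ideal D} (h : Inv (I * J)) : Inv J := by
  rw [mul_comm] at h
  exact h.of_mul_left

theorem inv_top : Inv (⊤ : Ideal D) := ⟨1, by rw [coeIdeal_top, one_mul]⟩

theorem inv_span_singleton {a : D} (ha : a ≠ 0) : Inv (Ideal.span {a}) := by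
  refine ⟨spanSingleton D⁰ (algebraMap D (FractionRing D) a)⁻¹, ?_⟩
  rw [coeIdeal_span_singleton, spanSingleton_mul_spanSingleton, mul_inv_cancel₀, spanSingleton_one]
  exact (map_ne_zero_iff _ (IsFractionRing.injective D (FractionRing D))).2 ha

theorem Inv.mul_left_cancel {I J K : Ideal D} (hI : Inv I) (h : I * J = I * K) : J = K := by
  obtain ⟨X, hX⟩ := hI
  apply coeIdeal_injective (K := FractionRing D)
  have h1 := congrArg (fun Z : Ideal D => X * (Z : FractionalIdeal D⁰ (FractionRing D))) h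
  simp only [coeIdeal_mul, ← mul_assoc] at h1
  rw [mul_comm X, hX, one_mul, one_mul] at h1
  exact h1

theorem Inv.eq_top_of_mul_eq {I J : Ideal D} (hI : Inv I) (h : I * J = I) : J = ⊤ := by
  apply hI.mul_left_cancel
  rw [h, Ideal.mul_top]

theorem inv_multiset_prod {s : Multiset (Ideal D)} (h : ∀ p ∈ s, Inv p) : Inv s.prod := by
  induction s using Multiset.induction_on with
  | empty => rw [Multiset.prod_zero, Ideal.one_eq_top]; exact inv_top
  | cons a s ih =>
    rw [Multiset.prod_cons]
    exact (h a (Multiset.mem_cons_self a s)).mul (ih fun p hp => h p (Multiset.mem_cons_of_mem hp))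

theorem inv_of_mem_of_inv_prod {s : Multiset (Ideal D)} (h : Inv s.prod) {p : Ideal D}
    (hp : p ∈ s) : Inv p := by
  obtain ⟨t, rfl⟩ := Multiset.exists_cons_of_mem hp
  rw [Multiset.prod_cons] at h
  exact h.of_mul_left

/-- Factorizations into invertible primes are unique. -/
theorem unique_of_inv_prime (s t : Multiset (Ideal D)) (hs : ∀ p ∈ s, p.IsPrime ∧ Inv p)
    (ht : ∀ p ∈ t, p.IsPrime ∧ Inv p) (h : s.prod = t.prod) : s = t := by
  classical
  induction hn : Multiset.card s generalizing s t with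
  | zero =>
    rw [Multiset.card_eq_zero] at hn
    subst hn
    rw [Multiset.prod_zero] at h
    by_contra hne
    obtain ⟨q, hq⟩ := Multiset.exists_mem_of_ne_zero (Ne.symm hne)
    have h1 : t.prod ≤ q := Ideal.multiset_prod_le_inf.trans (Multiset.inf_le hq)
    rw [← h, Ideal.one_eq_top, top_le_iff] at h1
    exact (ht q hq).1.ne_top h1
  | succ n ih =>
    -- pick a minimal element of `s`
    have hne : s.toFinset.Nonempty := by
      rw [Multiset.toFinset_nonempty]
      intro h0
      rw [h0] at hn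
      simp at hn
    obtain ⟨p, hpmem, hpmin⟩ := s.toFinset.exists_minimal hne
    rw [Multiset.mem_toFinset] at hpmem
    have hp := hs p hpmem
    have h1 : t.prod ≤ p := h ▸ Ideal.multiset_prod_le_inf.trans (Multiset.inf_le hpmem)
    obtain ⟨q, hq, hqp⟩ := (hp.1.multiset_prod_le).1 h1
    have h2 : s.prod ≤ q := h ▸ Ideal.multiset_prod_le_inf.trans (Multiset.inf_le hq)
    obtain ⟨p', hp', hp'q⟩ := ((ht q hq).1.multiset_prod_le).1 h2
    have hp'p : p' = p := by
      have h3 : p' ≤ p := hp'q.trans hqp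
      have h4 : p ≤ p' := hpmin (Multiset.mem_toFinset.2 hp') h3
      exact le_antisymm h3 h4
    have hqp' : q = p := le_antisymm hqp (hp'p ▸ hp'q)
    subst hqp'
    obtain ⟨s', rfl⟩ := Multiset.exists_cons_of_mem hpmem
    obtain ⟨t', rfl⟩ := Multiset.exists_cons_of_mem hq
    rw [Multiset.prod_cons, Multiset.prod_cons] at h
    have h5 := hp.2.mul_left_cancel h
    rw [ih s' t' (fun x hx => hs x (Multiset.mem_cons_of_mem hx))
      (fun x hx => ht x (Multiset.mem_cons_of_mem hx)) h5 (by simpa using hn)]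

end

/-- Every nonzero ideal is a product of prime ideals. -/
def E (D : Type u) [CommRing D] : Prop :=
  ∀ I : Ideal D, I ≠ ⊥ → ∃ s : Multiset (Ideal D), (∀ p ∈ s, p.IsPrime) ∧ s.prod = I

theorem mem_le_of_prod {D : Type u} [CommRing D] {s : Multiset (Ideal D)} {p : Ideal D}
    (hp : p ∈ s) : s.prod ≤ p :=
  Ideal.multiset_prod_le_inf.trans (Multiset.inf_le hp)

theorem E_quotient {R : Type u} [CommRing R] (hE : E R) (P : Ideal R) : E (R ⧸ P) := by
  intro I hI
  have hsurj : Function.Surjective (Ideal.Quotient.mk P) := Ideal.Quotient.mk_surjective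
  have hI' : I.comap (Ideal.Quotient.mk P) ≠ ⊥ := by
    intro h0
    apply hI
    rw [← Ideal.map_comap_of_surjective _ hsurj I, h0, Ideal.map_bot]
  obtain ⟨s, hs, hprod⟩ := hE _ hI'
  refine ⟨s.map (Ideal.mapHom (Ideal.Quotient.mk P)), ?_, ?_⟩
  · intro q hq
    obtain ⟨p, hp, rfl⟩ := Multiset.mem_map.1 hq
    have := hs p hp
    apply Ideal.map_isPrime_of_surjective hsurj
    rw [Ideal.mk_ker]
    have h1 : P ≤ I.comap (Ideal.Quotient.mk P) := by
      intro x hx
      rw [Ideal.mem_comap, Ideal.Quotient.eq_zero_iff_mem.2 hx]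
      exact zero_mem _
    exact h1.trans (hprod ▸ mem_le_of_prod hp)
  · rw [← map_multiset_prod, hprod]
    exact Ideal.map_comap_of_surjective _ hsurj I


/-- Step 1: an invertible prime is "maximal". -/
theorem sup_span_eq_top {R : Type u} [CommRing R] [IsDomain R] (hE : E R) (P : Ideal R)
    [hP : P.IsPrime] (hPinv : Inv P) {a : R} (ha : a ∉ P) : P ⊔ Ideal.span {a} = ⊤ := by
  classical
  have hsurj : Function.Surjective (Ideal.Quotient.mk P) := Ideal.Quotient.mk_surjective
  have : IsDomain (R ⧸ P) := Ideal.Quotient.isDomain P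
  have hED := E_quotient hE P
  have ha' : Ideal.Quotient.mk P a ≠ 0 := fun h => ha (Ideal.Quotient.eq_zero_iff_mem.1 h)
  have ha0 : a ≠ 0 := fun h => ha (h ▸ zero_mem P)
  set A := P ⊔ Ideal.span {a} with hA
  set B := P ⊔ Ideal.span {a ^ 2} with hB
  have hPA : P ≤ A := le_sup_left
  have hPB : P ≤ B := le_sup_left
  have haA : a ∈ A := Ideal.mem_sup_right (Ideal.subset_span rfl)
  have hAne : A ≠ ⊥ := fun h => ha0 (by rw [h] at haA; simpa using haA)
  have hBne : B ≠ ⊥ := by
    intro h
    have : a ^ 2 ∈ B := Ideal.mem_sup_right (Ideal.subset_span rfl)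
    rw [h] at this
    exact ha0 (pow_eq_zero_iff (two_ne_zero) |>.1 (by simpa using this))
  obtain ⟨sA, hsA, hprodA⟩ := hE A hAne
  obtain ⟨sB, hsB, hprodB⟩ := hE B hBne
  have hmapA : A.map (Ideal.Quotient.mk P) = Ideal.span {Ideal.Quotient.mk P a} := by
    rw [hA, Ideal.map_sup, Ideal.map_span, Set.image_singleton, Ideal.map_quotient_self,
      bot_sup_eq]
  have hmapB : B.map (Ideal.Quotient.mk P) =
      Ideal.span {Ideal.Quotient.mk P a} * Ideal.span {Ideal.Quotient.mk P a} := by
    rw [hB, Ideal.map_sup, Ideal.map_span, Set.image_singleton, Ideal.map_quotient_self,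
      bot_sup_eq, Ideal.span_singleton_mul_span_singleton, map_pow, pow_two]
  set tA := sA.map (Ideal.mapHom (Ideal.Quotient.mk P)) with htAdef
  set tB := sB.map (Ideal.mapHom (Ideal.Quotient.mk P)) with htBdef
  have htA : tA.prod = Ideal.span {Ideal.Quotient.mk P a} := by
    rw [htAdef, ← map_multiset_prod, hprodA]
    exact hmapA
  have htB : tB.prod = (tA + tA).prod := by
    rw [Multiset.prod_add, htA, htBdef, ← map_multiset_prod, hprodB]
    exact hmapB
  have hinvA : Inv (Ideal.span {Ideal.Quotient.mk P a}) := inv_span_singleton ha'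
  have hkerle : ∀ p, P ≤ p → RingHom.ker (Ideal.Quotient.mk P) ≤ p := by
    intro p hp
    rw [Ideal.mk_ker]
    exact hp
  have hA1 : ∀ q ∈ tA, q.IsPrime ∧ Inv q := by
    intro q hq
    refine ⟨?_, inv_of_mem_of_inv_prod (htA ▸ hinvA) hq⟩
    obtain ⟨p, hp, rfl⟩ := Multiset.mem_map.1 hq
    have := hsA p hp
    exact Ideal.map_isPrime_of_surjective hsurj (hkerle p (hPA.trans (hprodA ▸ mem_le_of_prod hp)))
  have hB1 : ∀ q ∈ tB, q.IsPrime ∧ Inv q := by
    intro q hq
    refine ⟨?_, inv_of_mem_of_inv_prod (s := tB) ?_ hq⟩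
    · obtain ⟨p, hp, rfl⟩ := Multiset.mem_map.1 hq
      have := hsB p hp
      exact Ideal.map_isPrime_of_surjective hsurj
        (hkerle p (hPB.trans (hprodB ▸ mem_le_of_prod hp)))
    · rw [htB, Multiset.prod_add, htA]
      exact hinvA.mul hinvA
  have hAA1 : ∀ q ∈ tA + tA, q.IsPrime ∧ Inv q := by
    intro q hq
    rcases Multiset.mem_add.1 hq with h | h <;> exact hA1 q h
  have huniq := unique_of_inv_prime tB (tA + tA) hB1 hAA1 htB
  have hcomap : ∀ p : Ideal R, P ≤ p →
      (Ideal.mapHom (Ideal.Quotient.mk P) p).comap (Ideal.Quotient.mk P) = p := by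
    intro p hp
    rw [Ideal.mapHom_apply, Ideal.comap_map_of_surjective _ hsurj, ← RingHom.ker_eq_comap_bot,
      Ideal.mk_ker, sup_eq_left.2 hp]
  have hsB' : sB = sA + sA := by
    have h1 : tB.map (Ideal.comap (Ideal.Quotient.mk P)) = sB := by
      rw [htBdef, Multiset.map_map]
      conv_rhs => rw [← Multiset.map_id sB]
      apply Multiset.map_congr rfl
      intro p hp
      exact hcomap p (hPB.trans (hprodB ▸ mem_le_of_prod hp))
    have h2 : tA.map (Ideal.comap (Ideal.Quotient.mk P)) = sA := by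
      rw [htAdef, Multiset.map_map]
      conv_rhs => rw [← Multiset.map_id sA]
      apply Multiset.map_congr rfl
      intro p hp
      exact hcomap p (hPA.trans (hprodA ▸ mem_le_of_prod hp))
    rw [← h1, huniq, Multiset.map_add, h2]
  have hBA : B = A * A := by rw [← hprodB, hsB', Multiset.prod_add, hprodA]
  have hPPA : P ≤ P * A := by
    intro x hx
    have hxB : x ∈ A * A := hBA ▸ hPB hx
    have hAA : A * A ≤ P * P ⊔ Ideal.span {a} := by
      rw [hA, Ideal.sup_mul, Ideal.mul_sup, Ideal.mul_sup]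
      exact sup_le (sup_le le_sup_left (le_sup_of_le_right Ideal.mul_le_right))
        (sup_le (le_sup_of_le_right Ideal.mul_le_left) (le_sup_of_le_right Ideal.mul_le_left))
    obtain ⟨y, hy, z, hz, hyz⟩ := Submodule.mem_sup.1 (hAA hxB)
    obtain ⟨c, rfl⟩ := Ideal.mem_span_singleton'.1 hz
    have hca : c * a ∈ P := by
      have : c * a = x - y := by rw [← hyz]; ring
      rw [this]
      exact P.sub_mem hx (Ideal.mul_le_right hy)
    have hc : c ∈ P := (hP.mem_or_mem hca).resolve_right ha
    rw [← hyz]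
    exact Ideal.add_mem _ (Ideal.mul_mono_right hPA hy) (Ideal.mul_mem_mul hc haA)
  have : P * A = P := le_antisymm Ideal.mul_le_left hPPA
  exact hPinv.eq_top_of_mul_eq this


/-- Step 2: every nonzero prime is invertible and maximal. -/
theorem inv_and_isMaximal_of_isPrime {R : Type u} [CommRing R] [IsDomain R] (hE : E R)
    (P : Ideal R) [hP : P.IsPrime] (hP0 : P ≠ ⊥) : Inv P ∧ P.IsMaximal := by
  obtain ⟨a, haP, ha0⟩ := Submodule.exists_mem_ne_zero_of_ne_bot hP0
  have hne : Ideal.span {a} ≠ ⊥ := by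
    rw [Ne, Ideal.span_singleton_eq_bot]
    exact ha0
  obtain ⟨s, hs, hprod⟩ := hE _ hne
  have hle : s.prod ≤ P := by
    rw [hprod, Ideal.span_singleton_le_iff_mem]
    exact haP
  obtain ⟨p, hp, hpP⟩ := (hP.multiset_prod_le).1 hle
  have hpprime := hs p hp
  have hpinv : Inv p := inv_of_mem_of_inv_prod (hprod ▸ inv_span_singleton ha0) hp
  have hpmax : p.IsMaximal := by
    rw [Ideal.isMaximal_def]
    refine ⟨hpprime.ne_top, fun J hJ => ?_⟩
    obtain ⟨x, hxJ, hxp⟩ := SetLike.exists_of_lt hJ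
    rw [eq_top_iff, ← sup_span_eq_top hE p hpinv hxp]
    exact sup_le hJ.le ((Ideal.span_singleton_le_iff_mem _).2 hxJ)
  have := hpmax.eq_of_le hP.ne_top hpP
  subst this
  exact ⟨hpinv, hpmax⟩

/-- Every nonzero ideal is invertible. -/
theorem inv_of_ne_bot {R : Type u} [CommRing R] [IsDomain R] (hE : E R)
    (I : Ideal R) (hI : I ≠ ⊥) : Inv I := by
  obtain ⟨s, hs, rfl⟩ := hE I hI
  apply inv_multiset_prod
  intro p hp
  have := hs p hp
  have hp0 : p ≠ ⊥ := by
    rintro rfl
    apply hI
    rw [← Ideal.zero_eq_bot]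
    exact Multiset.prod_eq_zero hp
  exact (inv_and_isMaximal_of_isPrime hE p hp0).1

theorem isDedekindDomain_of_E {R : Type u} [CommRing R] [IsDomain R] (hE : E R) :
    IsDedekindDomain R := by
  rw [isDedekindDomain_iff_mul_inv_cancel (K := FractionRing R)]
  intro J hJ
  rw [FractionalIdeal.mul_inv_cancel_iff]
  obtain ⟨a, I, ha, rfl⟩ := FractionalIdeal.exists_eq_spanSingleton_mul J
  have hI : I ≠ ⊥ := by
    rintro rfl
    apply hJ
    simp
  obtain ⟨X, hX⟩ := inv_of_ne_bot hE I hI
  refine ⟨spanSingleton R⁰ (algebraMap R (FractionRing R) a) * X, ?_⟩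
  rw [mul_mul_mul_comm, hX, mul_one, spanSingleton_mul_spanSingleton, inv_mul_cancel₀,
    spanSingleton_one]
  exact (map_ne_zero_iff _ (IsFractionRing.injective R (FractionRing R))).2 ha



/-- (1) ⇒ (3): let R be a domain such that every nonzero ideal is a product of nonzero prime ideals,
uniquely up to permutation of the factors. Then R is Noetherian, integrally closed and of dimension
at most one, i.e. a Dedekind domain in the Noetherian sense. (The converse and the description by
discrete valuation rings at maximal ideals are the standard equivalences.) -/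
theorem result (R : Type u) [CommRing R] [IsDomain R]
    (h : ∀ I : Ideal R, I ≠ ⊥ → ∃! s : Multiset (Ideal R), (∀ p ∈ s, p.IsPrime ∧ p ≠ ⊥) ∧ s.prod = I) :
    IsDedekindDomain R := by
  apply isDedekindDomain_of_E
  intro I hI
  obtain ⟨s, ⟨hs, hprod⟩, -⟩ := h I hI
  exact ⟨s, fun p hp => (hs p hp).1, hprod⟩

end Groth.Agent.S6369
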