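import Groth.Statements.S6372
import Mathlib

set_option autoImplicit false
universe u
open CAlg

namespace Groth.Agent.S6372

open TensorProduct in
theorem aux (R S : Type u) [CommRing R] [CommRing S] [Algebra R S]
    [Module.FaithfullyFlat R S] [Algebra.IsEpi R S] : Function.Bijective (algebraMap R S) := by
  let f : R →ₗ[R] S := Algebra.linearMap R S
  let μ : S ⊗[R] S →ₗ[R] S := TensorProduct.lift (LinearMap.mul R S)
  have hμ : Function.Injective μ := Algebra.IsEpi.injective_lift_mul
  have hcomp : μ ∘ₗ (f.lTensor S) = (TensorProduct.rid R S).toLinearMap := by
    apply TensorProduct.ext'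
    intro s r
    simp [μ, f, Algebra.smul_def, mul_comm]
  have hbij : Function.Bijective (μ ∘ₗ (f.lTensor S)) := by
    rw [hcomp]
    exact (TensorProduct.rid R S).bijective
  have hg : Function.Bijective (f.lTensor S) := by
    constructor
    · intro x y hxy
      apply hbij.1
      simp only [LinearMap.coe_comp, Function.comp_apply, hxy]
    · intro y
      obtain ⟨x, hx⟩ := hbij.2 (μ y)
      exact ⟨x, hμ hx⟩
  exact (Module.FaithfullyFlat.lTensor_bijective_iff_bijective R S f).mp hg


/-- A faithfully flat epimorphism of rings is an isomorphism: if R → S is faithfully flat and an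
epimorphism in the category of rings then it is bijective. -/
theorem result (R S : Type u) [CommRing R] [CommRing S] [Algebra R S]
    [Module.FaithfullyFlat R S] [Algebra.IsEpi R S] : Function.Bijective (algebraMap R S) := by
  exact aux R S

end Groth.Agent.S6372
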