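import Groth.Statements.S6374
import Mathlib
import Groth.Agent.S6373

set_option autoImplicit false
universe u
open CAlg

namespace Groth.Agent.S6374

open CategoryTheory in
theorem epi_cancel {R S : Type u} [CommRing R] [CommRing S] [Algebra R S] [Algebra.IsEpi R S]
    {T : Type u} [CommRing T] (f g : S →+* T)
    (h : f.comp (algebraMap R S) = g.comp (algebraMap R S)) : f = g := by
  have hepi : Epi (CommRingCat.ofHom (algebraMap R S)) :=
    CommRingCat.epi_iff_epi.mpr inferInstance
  have h1 : CommRingCat.ofHom (algebraMap R S) ≫ CommRingCat.ofHom f =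
      CommRingCat.ofHom (algebraMap R S) ≫ CommRingCat.ofHom g := by
    ext x
    exact RingHom.congr_fun h x
  have := (cancel_epi (CommRingCat.ofHom (algebraMap R S))).mp h1
  exact congrArg CommRingCat.Hom.hom this

open CategoryTheory in
theorem isEpi_of_cancel {R S : Type u} [CommRing R] [CommRing S] [Algebra R S]
    (H : ∀ {T : Type u} [CommRing T] (f g : S →+* T),
      f.comp (algebraMap R S) = g.comp (algebraMap R S) → f = g) : Algebra.IsEpi R S := by
  rw [← CommRingCat.epi_iff_epi]
  refine ⟨fun {T} f g e => ?_⟩
  apply CommRingCat.hom_ext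
  apply H
  exact congrArg CommRingCat.Hom.hom e

open TensorProduct in
theorem isEpi_baseChange (R S κ : Type u) [CommRing R] [CommRing S] [Algebra R S]
    [Algebra.IsEpi R S] [CommRing κ] [Algebra R κ] : Algebra.IsEpi κ (κ ⊗[R] S) := by
  apply isEpi_of_cancel
  intro T _ f g h
  have h1 : f.comp (Algebra.TensorProduct.includeRight (R := R) (A := κ) (B := S)).toRingHom =
      g.comp (Algebra.TensorProduct.includeRight (R := R) (A := κ) (B := S)).toRingHom := by
    apply epi_cancel (R := R)
    ext r
    have h2 : (1 : κ) ⊗ₜ[R] (algebraMap R S r) = algebraMap κ (κ ⊗[R] S) (algebraMap R κ r) := by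
      rw [Algebra.TensorProduct.algebraMap_apply]
      change _ = (algebraMap R κ r) ⊗ₜ[R] (1 : S)
      rw [Algebra.algebraMap_eq_smul_one, Algebra.algebraMap_eq_smul_one (A := κ),
        TensorProduct.smul_tmul]
    have h3 := RingHom.congr_fun h (algebraMap R κ r)
    simp only [RingHom.coe_comp, Function.comp_apply, AlgHom.toRingHom_eq_coe, RingHom.coe_coe,
      Algebra.TensorProduct.includeRight_apply] at h3 ⊢
    rw [h2]
    exact h3
  refine RingHom.ext fun z => ?_
  induction z using TensorProduct.induction_on with
  | zero => simp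
  | tmul a s =>
    have h4 : a ⊗ₜ[R] s = algebraMap κ (κ ⊗[R] S) a * ((1 : κ) ⊗ₜ[R] s) := by
      simp [Algebra.TensorProduct.algebraMap_apply]
    rw [h4, map_mul, map_mul]
    congr 1
    · exact RingHom.congr_fun h a
    · exact RingHom.congr_fun h1 s
  | add x y hx hy => rw [map_add, map_add, hx, hy]


/-- For an epimorphism of rings R → S, the induced map Spec S → Spec R is injective and induces trivial
residue field extensions; stated in the form the proof gives: for every prime p of R the fibre ring
S ⊗_R κ(p) is either zero or κ(p) → S ⊗_R κ(p) is bijective, together with injectivity of Spec S →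
Spec R. -/
theorem result (R S : Type u) [CommRing R] [CommRing S] [Algebra R S]
    [Algebra.IsEpi R S] :
    Function.Injective (PrimeSpectrum.comap (algebraMap R S)) ∧
      ∀ (p : Ideal R) [p.IsPrime],
        Subsingleton (p.Fiber S) ∨ Function.Bijective (algebraMap p.ResidueField (p.Fiber S)) := by
  have hfib : ∀ (p : Ideal R) [p.IsPrime],
      Subsingleton (p.Fiber S) ∨ Function.Bijective (algebraMap p.ResidueField (p.Fiber S)) := by
    intro p _
    have := isEpi_baseChange R S p.ResidueField
    exact Groth.Agent.S6373.result p.ResidueField (p.Fiber S)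
  refine ⟨?_, fun p _ => hfib p⟩
  intro q₁ q₂ h
  have hsub : Subsingleton (PrimeSpectrum
      ((PrimeSpectrum.comap (algebraMap R S) q₁).asIdeal.Fiber S)) := by
    rcases hfib (PrimeSpectrum.comap (algebraMap R S) q₁).asIdeal with h1 | h1
    · infer_instance
    · let e : (PrimeSpectrum.comap (algebraMap R S) q₁).asIdeal.ResidueField ≃+*
          (PrimeSpectrum.comap (algebraMap R S) q₁).asIdeal.Fiber S :=
        RingEquiv.ofBijective (algebraMap _ _) h1
      exact (PrimeSpectrum.comapEquiv e).symm.subsingleton
  let E := PrimeSpectrum.preimageEquivFiber R S (PrimeSpectrum.comap (algebraMap R S) q₁)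
  have := E.injective (Subsingleton.elim (E ⟨q₁, rfl⟩) (E ⟨q₂, h.symm⟩))
  exact congrArg Subtype.val this

end Groth.Agent.S6374
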