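import Groth.Statements.S6371
import Mathlib
import Groth.Agent.S6374

set_option autoImplicit false
universe u
open CAlg

namespace Groth.Agent.S6371

theorem forward (R S : Type u) [CommRing R] [CommRing S] [Algebra R S] [Algebra.IsEpi R S]
    (p : Ideal R) [p.IsPrime] :
    Algebra.IsEpi (Localization.AtPrime p)
      (Localization (Algebra.algebraMapSubmonoid S p.primeCompl)) := by
  apply Groth.Agent.S6374.isEpi_of_cancel
  intro T _ f g h
  have h1 : f.comp (algebraMap S (Localization (Algebra.algebraMapSubmonoid S p.primeCompl))) =
      g.comp (algebraMap S (Localization (Algebra.algebraMapSubmonoid S p.primeCompl))) := by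
    apply Groth.Agent.S6374.epi_cancel (R := R)
    ext r
    have h2 := RingHom.congr_fun h (algebraMap R (Localization.AtPrime p) r)
    simp only [RingHom.coe_comp, Function.comp_apply] at h2 ⊢
    rw [← IsScalarTower.algebraMap_apply R (Localization.AtPrime p)
      (Localization (Algebra.algebraMapSubmonoid S p.primeCompl)),
      IsScalarTower.algebraMap_apply R S
      (Localization (Algebra.algebraMapSubmonoid S p.primeCompl))] at h2
    exact h2
  exact IsLocalization.ringHom_ext (Algebra.algebraMapSubmonoid S p.primeCompl) h1

theorem backward (R S : Type u) [CommRing R] [CommRing S] [Algebra R S]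
    (H : ∀ (p : Ideal R) [p.IsPrime],
      Algebra.IsEpi (Localization.AtPrime p)
        (Localization (Algebra.algebraMapSubmonoid S p.primeCompl))) :
    Algebra.IsEpi R S := by
  apply Groth.Agent.S6374.isEpi_of_cancel
  intro T _ f g h
  letI : Algebra R T := (f.comp (algebraMap R S)).toAlgebra
  have hfalg : ∀ r, f (algebraMap R S r) = algebraMap R T r := fun r => rfl
  have hgalg : ∀ r, g (algebraMap R S r) = algebraMap R T r := fun r =>
    (RingHom.congr_fun h r).symm
  refine RingHom.ext fun s => ?_
  by_contra hne
  let Ann : Ideal R := LinearMap.ker (LinearMap.toSpanSingleton R T (f s - g s))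
  have hAnn : ∀ r, r ∈ Ann ↔ algebraMap R T r * (f s - g s) = 0 := fun r => by
    simp [Ann, Algebra.smul_def]
  have hAnntop : Ann ≠ ⊤ := by
    intro htop
    have : (1 : R) ∈ Ann := by rw [htop]; trivial
    rw [hAnn, map_one, one_mul, sub_eq_zero] at this
    exact hne this
  obtain ⟨m, hm, hle⟩ := Ideal.exists_le_maximal _ hAnntop
  have hmp : m.IsPrime := hm.isPrime
  have := H m
  let Sm := Localization (Algebra.algebraMapSubmonoid S m.primeCompl)
  let Tm := Localization (Algebra.algebraMapSubmonoid T m.primeCompl)
  have hf_le : Algebra.algebraMapSubmonoid S m.primeCompl ≤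
      (Algebra.algebraMapSubmonoid T m.primeCompl).comap f := by
    rintro _ ⟨r, hr, rfl⟩
    exact ⟨r, hr, (hfalg r).symm⟩
  have hg_le : Algebra.algebraMapSubmonoid S m.primeCompl ≤
      (Algebra.algebraMapSubmonoid T m.primeCompl).comap g := by
    rintro _ ⟨r, hr, rfl⟩
    exact ⟨r, hr, (hgalg r).symm⟩
  let fm : Sm →+* Tm := IsLocalization.map Tm f hf_le
  let gm : Sm →+* Tm := IsLocalization.map Tm g hg_le
  have hfg : fm = gm := by
    apply Groth.Agent.S6374.epi_cancel (R := Localization.AtPrime m)
    apply IsLocalization.ringHom_ext m.primeCompl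
    ext r
    simp only [RingHom.coe_comp, Function.comp_apply]
    rw [← IsScalarTower.algebraMap_apply R (Localization.AtPrime m) Sm,
      IsScalarTower.algebraMap_apply R S Sm]
    simp only [fm, gm, IsLocalization.map_eq, hfalg, hgalg]
  have h3 : algebraMap T Tm (f s) = algebraMap T Tm (g s) := by
    have h4 := RingHom.congr_fun hfg (algebraMap S Sm s)
    simpa only [fm, gm, IsLocalization.map_eq] using h4
  have h5 : algebraMap T Tm (f s - g s) = 0 := by rw [map_sub, h3, sub_self]
  obtain ⟨u, hu⟩ := (IsLocalization.map_eq_zero_iff
    (Algebra.algebraMapSubmonoid T m.primeCompl) Tm _).mp h5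
  obtain ⟨r, hr, hru⟩ := u.2
  have h6 : r ∈ Ann := by
    rw [hAnn, hru]
    exact hu
  exact hr (hle h6)


/-- A ring map R → S is an epimorphism of rings if and only if for every prime p of R the localized map
R_p → S_p is an epimorphism, where S_p is S localized at the image of R ∖ p. -/
theorem result (R S : Type u) [CommRing R] [CommRing S] [Algebra R S] :
    Algebra.IsEpi R S ↔ ∀ (p : Ideal R) [p.IsPrime],
      Algebra.IsEpi (Localization.AtPrime p) (Localization (Algebra.algebraMapSubmonoid S p.primeCompl)) := by
  constructor
  · intro h p _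
    exact forward R S p
  · intro H
    exact backward R S H

end Groth.Agent.S6371
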