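import Groth.Statements.S6375
import Mathlib

set_option autoImplicit false
universe u
open CAlg

namespace Groth.Agent.S6375

/-- The type of `R`-data encoding elements of an epimorphic extension. -/
abbrev D (R : Type u) : Type u :=
  Σ p : ℕ × ℕ, Fin p.1 × Fin p.1 × (Fin p.1 → Fin p.2 → R)

/-- `d` represents `g`. -/
def Rep {R S : Type u} [CommRing R] [CommRing S] [Algebra R S] (d : D R) (g : S) : Prop :=
  ∃ (y : Fin d.1.1 → S) (z : Fin d.1.2 → S), y d.2.1 = 1 ∧ y d.2.2.1 = g ∧
    (∀ j, ∑ i, d.2.2.2 i j • y i = 0) ∧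
    ∀ i, ∑ j, d.2.2.2 i j • z j = (if i = d.2.1 then g else 0) + (if i = d.2.2.1 then -1 else 0)

theorem rep_unique {R S : Type u} [CommRing R] [CommRing S] [Algebra R S] (d : D R) (g g' : S)
    (h : Rep d g) (h' : Rep d g') : g = g' := by
  obtain ⟨y, z, h0, h1, hy, hz⟩ := h
  obtain ⟨y', z', h0', h1', hy', hz'⟩ := h'
  have e1 : ∑ j, (∑ i, d.2.2.2 i j • y i) * z' j = 0 := by
    simp [hy]
  have e2 : ∑ j, (∑ i, d.2.2.2 i j • y i) * z' j = ∑ i, y i * ∑ j, d.2.2.2 i j • z' j := by
    simp_rw [Finset.sum_mul, Finset.mul_sum]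
    rw [Finset.sum_comm]
    refine Finset.sum_congr rfl fun i _ => Finset.sum_congr rfl fun j _ => ?_
    rw [smul_mul_assoc, mul_smul_comm]
  rw [e2] at e1
  simp_rw [hz', mul_add, mul_ite, mul_zero, Finset.sum_add_distrib, Finset.sum_ite_eq',
    Finset.mem_univ, if_true] at e1
  rw [h0, h1] at e1
  have : g' - g = 0 := by
    rw [← e1]; ring
  exact (sub_eq_zero.mp this).symm


open TensorProduct in
theorem exists_rep (R S : Type u) [CommRing R] [CommRing S] [Algebra R S] [Algebra.IsEpi R S]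
    (g : S) : ∃ d : D R, Rep d g := by
  classical
  have hepi : (1 : S) ⊗ₜ[R] g = g ⊗ₜ[R] 1 :=
    (Algebra.isEpi_iff_forall_one_tmul_eq R S).mp inferInstance g
  let P : Submodule R S := Submodule.span R {1, g}
  have hP : P.FG := Submodule.fg_span (by simp)
  have h1P : (1 : S) ∈ P := Submodule.subset_span (by simp)
  have hgP : g ∈ P := Submodule.subset_span (by simp)
  let t : P ⊗[R] S := (⟨1, h1P⟩ : P) ⊗ₜ g - (⟨g, hgP⟩ : P) ⊗ₜ 1
  have ht : LinearMap.rTensor S P.subtype t = 0 := by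
    simp only [t, map_sub, LinearMap.rTensor_tmul, Submodule.subtype_apply]
    rw [hepi, sub_self]
  obtain ⟨Q, hPQ, hQ, hQt⟩ := TensorProduct.eq_zero_of_fg_of_subtype_eq_zero hP ht
  obtain ⟨s, hs⟩ := hQ
  let T : Finset S := insert 1 (insert g s)
  have hTQ : ∀ x ∈ T, x ∈ Q := by
    intro x hx
    simp only [T, Finset.mem_insert] at hx
    rcases hx with rfl | rfl | hx
    · exact hPQ h1P
    · exact hPQ hgP
    · rw [← hs]; exact Submodule.subset_span hx
  let m : T → Q := fun i => ⟨i.1, hTQ i.1 i.2⟩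
  have hm : Submodule.span R (Set.range m) = ⊤ := by
    rw [eq_top_iff]
    rintro ⟨x, hx⟩ -
    have hx' : x ∈ Submodule.span R (s : Set S) := by rw [hs]; exact hx
    have : Submodule.span R (s : Set S) ≤ (Submodule.span R (Set.range m)).map Q.subtype := by
      rw [Submodule.span_le]
      intro v hv
      refine ⟨m ⟨v, by simp [T, Finset.mem_coe.mp hv]⟩, Submodule.subset_span ⟨_, rfl⟩, rfl⟩
    obtain ⟨w, hw, hwx⟩ := this hx'
    have : w = ⟨x, hx⟩ := Subtype.ext hwx
    rw [← this]; exact hw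
  let i0 : T := ⟨1, by simp [T]⟩
  let i1 : T := ⟨g, by simp [T]⟩
  let n : T → S := fun i => (if i = i0 then g else 0) + (if i = i1 then -1 else 0)
  have hsum : ∑ i, m i ⊗ₜ[R] n i = 0 := by
    simp only [n, tmul_add, Finset.sum_add_distrib, tmul_ite, tmul_zero, Finset.sum_ite_eq',
      Finset.mem_univ, if_true]
    have hQt' : (Submodule.inclusion hPQ ⟨1, h1P⟩) ⊗ₜ[R] g -
        (Submodule.inclusion hPQ ⟨g, hgP⟩) ⊗ₜ[R] (1 : S) = 0 := by
      simpa [t] using hQt
    have e0 : m i0 = Submodule.inclusion hPQ ⟨1, h1P⟩ := rfl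
    have e1 : m i1 = Submodule.inclusion hPQ ⟨g, hgP⟩ := rfl
    rw [e0, e1, ← hQt']
    simp [sub_eq_add_neg, neg_tmul, tmul_neg]
  obtain ⟨k, a, z, hn, hma⟩ := TensorProduct.vanishesTrivially_of_sum_tmul_eq_zero R hm hsum
  let e := Fintype.equivFin T
  refine ⟨⟨(Fintype.card T, k), e i0, e i1, fun i j => a (e.symm i) j⟩,
    fun i => (m (e.symm i) : S), z, ?_, ?_, ?_, ?_⟩
  · simp [m, i0]
  · simp [m, i1]
  · intro j
    show ∑ i, a (e.symm i) j • (m (e.symm i) : S) = 0
    rw [e.symm.sum_comp (fun i => a i j • (m i : S))]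
    have := congrArg (Subtype.val) (hma j)
    simpa using this
  · intro i
    show ∑ j, a (e.symm i) j • z j = (if i = e i0 then g else 0) + (if i = e i1 then -1 else 0)
    rw [← hn (e.symm i)]
    simp only [n, Equiv.symm_apply_eq]


open Cardinal in
theorem card_fun_le (R : Type u) [Infinite R] (X : Type u) (hX : #X ≤ #R) (a : ℕ) :
    #(Fin a → X) ≤ #R := by
  have hR : ℵ₀ ≤ #R := Cardinal.aleph0_le_mk R
  rw [Cardinal.mk_arrow]
  simp only [Cardinal.mk_fin, Cardinal.lift_natCast, Cardinal.lift_uzero]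
  calc #X ^ (a : Cardinal) ≤ #R ^ (a : Cardinal) := Cardinal.power_le_power_right hX
    _ ≤ #R := by
      rw [Cardinal.power_natCast]
      exact Cardinal.power_nat_le hR

open Cardinal in
theorem card_D_le (R : Type u) [Infinite R] : #(D R) ≤ #R := by
  have hR : ℵ₀ ≤ #R := Cardinal.aleph0_le_mk R
  rw [Cardinal.mk_sigma]
  have hfin : ∀ a : ℕ, Cardinal.lift.{u} #(Fin a) ≤ #R := fun a => by
    simp only [Cardinal.mk_fin, Cardinal.lift_natCast]
    exact (Cardinal.natCast_lt_aleph0 (n := a)).le.trans hR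
  have hterm : ∀ p : ℕ × ℕ, #(Fin p.1 × Fin p.1 × (Fin p.1 → Fin p.2 → R)) ≤ #R := by
    intro p
    rw [Cardinal.mk_prod, Cardinal.mk_prod]
    simp only [Cardinal.lift_uzero]
    refine Cardinal.mul_le_of_le hR (hfin _) (Cardinal.mul_le_of_le hR (hfin _) ?_)
    exact card_fun_le R _ (card_fun_le R R le_rfl _) _
  calc Cardinal.sum (fun p : ℕ × ℕ => #(Fin p.1 × Fin p.1 × (Fin p.1 → Fin p.2 → R)))
      ≤ Cardinal.sum (fun _ : ℕ × ℕ => #R) := Cardinal.sum_le_sum _ _ hterm
    _ = Cardinal.lift.{u} #(ℕ × ℕ) * Cardinal.lift.{0} #R := Cardinal.sum_const _ _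
    _ ≤ #R := by
      simp only [Cardinal.mk_prod, Cardinal.mk_nat, Cardinal.lift_id, Cardinal.lift_aleph0,
        Cardinal.aleph0_mul_aleph0, Cardinal.lift_uzero]
      exact (Cardinal.aleph0_mul_eq hR).le

/-- For an infinite source ring: if R → S is an epimorphism of rings with R infinite, then |S| ≤ |R| as
cardinals. (For finite R the published statement also asserts |S| ≤ |R|, but its proof only gives
that S is countable and omits the rest, so that case is not included.) -/
theorem result (R S : Type u) [CommRing R] [CommRing S] [Algebra R S] [Algebra.IsEpi R S]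
    [Infinite R] : Cardinal.mk S ≤ Cardinal.mk R := by
  choose f hf using exists_rep R S
  have hinj : Function.Injective f := fun g g' h =>
    rep_unique (f g) g g' (hf g) (h ▸ hf g')
  exact (Cardinal.mk_le_of_injective hinj).trans (card_D_le R)

end Groth.Agent.S6375
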