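import Mathlib
-- Template for statement S6377 (row 6376; see the milestone table for weights).
-- Copy to Groth/Agent/S6377.lean and replace the sorry. The statement below is byte-identical to the frozen
-- statement CAlg.GrothFrozen.S6377 (Groth/Statements/S6377.lean; the theorem CAlg.flat_of_flat_away_of_flat_mod_of_tor_vanishes);
-- the grader kernel-checks Groth.Agent.S6377.result against that frozen type. Keep the theorem IN THIS FILE
-- (a `result` declared elsewhere and merely imported here is not credited); helpers may live anywhere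
-- under Groth/Agent/.
import Groth.Statements.S6377
import Groth.Agent.Lib.Helper68.FinsuppColim
import Groth.Agent.Lib.Helper68.TorColimRight
import Groth.Agent.Lib.Helper68.LeftDerivedAdditive
import Groth.Agent.Lib.Helper24.TorRegular
import Groth.Agent.Lib.Helper6.LocalFlat4

set_option autoImplicit false
universe u

open CategoryTheory Limits MonoidalCategory TensorProduct

namespace Groth.Agent.S6377

open Groth.Agent.Lib.Helper68 Groth.Agent.Lib.Helper68.TorMod

variable {A : Type u} [CommRing A] (M : Type u) [AddCommGroup M] [Module A M]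

/-- `N ↦ Tor_i(M, N)` -/
noncomputable abbrev T (i : ℕ) : ModuleCat.{u} A ⥤ ModuleCat.{u} A :=
  (tF (ModuleCat.of A M)).leftDerived i

instance : (tF (ModuleCat.of A M)).Linear A :=
  inferInstanceAs ((MonoidalCategory.tensorLeft (ModuleCat.of A M)).Linear A)

/-- the kernel of `M ⊗ K → M ⊗ F` is `f`-power torsion when `M_f` is flat. -/
theorem ker_lTensor_torsion (f : A)
    (hflat : Module.Flat A (LocalizedModule (Submonoid.powers f) M))
    {K F : Type u} [AddCommGroup K] [Module A K] [AddCommGroup F] [Module A F]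
    (ι : K →ₗ[A] F) (hι : Function.Injective ι) (x : M ⊗[A] K) (hx : ι.lTensor M x = 0) :
    ∃ n : ℕ, f ^ n • x = 0 := by
  let S := Submonoid.powers f
  let ℓ := LocalizedModule.mkLinearMap S M
  have hloc : IsLocalizedModule S (AlgebraTensorModule.rTensor A K ℓ) := inferInstance
  have hnat : (ι.lTensor (LocalizedModule S M)) ∘ₗ (AlgebraTensorModule.rTensor A K ℓ) =
      (AlgebraTensorModule.rTensor A F ℓ) ∘ₗ (ι.lTensor M) := by
    apply TensorProduct.ext'
    intro m k
    rfl
  have h0 : (ι.lTensor (LocalizedModule S M)) (AlgebraTensorModule.rTensor A K ℓ x) = 0 := by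
    have := LinearMap.congr_fun hnat x
    simp only [LinearMap.comp_apply] at this
    rw [this, hx, map_zero]
  have hinj := Module.Flat.lTensor_preserves_injective_linearMap (M := LocalizedModule S M) ι hι
  have h1 : AlgebraTensorModule.rTensor A K ℓ x = 0 := hinj (by rw [h0, map_zero])
  obtain ⟨⟨s, n, rfl⟩, hs⟩ := (IsLocalizedModule.eq_zero_iff S _).mp h1
  exact ⟨n, hs⟩


theorem torsion_one (f : A) (hflat : Module.Flat A (LocalizedModule (Submonoid.powers f) M))
    {K F N : Type u} [AddCommGroup K] [Module A K] [AddCommGroup F] [Module A F]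
    [AddCommGroup N] [Module A N]
    (ι : K →ₗ[A] F) (π : F →ₗ[A] N) (hex : Function.Exact ι π) (hι : Function.Injective ι)
    (hπ : Function.Surjective π) (hF : IsZero ((T M 1).obj (ModuleCat.of A F)))
    (t : (T M 1).obj (ModuleCat.of A N)) : ∃ n : ℕ, f ^ n • t = 0 := by
  obtain ⟨e⟩ := tor_one_linearEquiv_ker (ModuleCat.of A M) ι π hex hι hπ hF
  have h2 : ι.lTensor M (e t).1 = 0 := LinearMap.mem_ker.mp (e t).2
  obtain ⟨n, hn⟩ := ker_lTensor_torsion M f hflat ι hι (e t).1 h2
  have h3 : e (f ^ n • t) = f ^ n • e t := e.map_smul (f ^ n) t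
  have h4 : e (f ^ n • t) = 0 := h3.trans (Subtype.ext hn)
  exact ⟨n, e.injective (h4.trans e.map_zero.symm)⟩

theorem torsion_step (f : A) (i : ℕ)
    {K F N : Type u} [AddCommGroup K] [Module A K] [AddCommGroup F] [Module A F]
    [AddCommGroup N] [Module A N]
    (ih : ∀ t : (T M (i + 1)).obj (ModuleCat.of A K), ∃ n : ℕ, f ^ n • t = 0)
    (ι : K →ₗ[A] F) (π : F →ₗ[A] N) (hex : Function.Exact ι π) (hι : Function.Injective ι)
    (hπ : Function.Surjective π) (hF : IsZero ((T M (i + 2)).obj (ModuleCat.of A F)))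
    (t : (T M (i + 2)).obj (ModuleCat.of A N)) : ∃ n : ℕ, f ^ n • t = 0 := by
  have hS := sc_shortExact ι π hex hι hπ
  have hmono : Mono (LeftDerivedLES.δ (tF (ModuleCat.of A M)) hS (i + 1)) :=
    LeftDerivedLES.mono_δ _ hS (i + 1) hF
  have hinj := (ModuleCat.mono_iff_injective _).mp hmono
  obtain ⟨n, hn⟩ := ih ((LeftDerivedLES.δ (tF (ModuleCat.of A M)) hS (i + 1)).hom t)
  refine ⟨n, hinj ?_⟩
  have h3 := (LeftDerivedLES.δ (tF (ModuleCat.of A M)) hS (i + 1)).hom.map_smul (f ^ n) t
  exact h3.trans (hn.trans (map_zero _).symm)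

theorem torsion_zero (f : A) (hflat : Module.Flat A (LocalizedModule (Submonoid.powers f) M))
    (N : Type u) [AddCommGroup N] [Module A N] (t : (T M 1).obj (ModuleCat.of A N)) :
      ∃ n : ℕ, f ^ n • t = 0 := by
  have hF : IsZero ((T M 1).obj (ModuleCat.of A (N →₀ A))) :=
    isZero_tor_succ_of_projective (ModuleCat.of A M) (N →₀ A) 0
  have hex : Function.Exact (LinearMap.ker (Finsupp.linearCombination A (id : N → N))).subtype
      (Finsupp.linearCombination A (id : N → N)) := LinearMap.exact_subtype_ker_map _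
  exact torsion_one M f hflat (K := LinearMap.ker (Finsupp.linearCombination A (id : N → N)))
      (F := N →₀ A) (LinearMap.ker (Finsupp.linearCombination A (id : N → N))).subtype
      (Finsupp.linearCombination A id) hex
      (Submodule.subtype_injective _) (Finsupp.linearCombination_id_surjective A N)
      hF t


/-- every element of `Tor_{i+1}(M, N)` is `f`-power torsion when `M_f` is flat. -/
theorem torsion (f : A) (hflat : Module.Flat A (LocalizedModule (Submonoid.powers f) M)) (i : ℕ) :
    ∀ (N : Type u) [AddCommGroup N] [Module A N] (t : (T M (i + 1)).obj (ModuleCat.of A N)),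
      ∃ n : ℕ, f ^ n • t = 0 := by
  induction i with
  | zero =>
    intro N _ _ t
    exact torsion_zero M f hflat N t
  | succ i ih =>
    intro N _ _ t
    have hF : IsZero ((T M (i + 2)).obj (ModuleCat.of A (N →₀ A))) :=
      isZero_tor_succ_of_projective (ModuleCat.of A M) (N →₀ A) (i + 1)
    have hex : Function.Exact (LinearMap.ker (Finsupp.linearCombination A (id : N → N))).subtype
        (Finsupp.linearCombination A (id : N → N)) := LinearMap.exact_subtype_ker_map _
    exact torsion_step M f i (K := LinearMap.ker (Finsupp.linearCombination A (id : N → N)))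
      (F := N →₀ A) (ih _) (LinearMap.ker (Finsupp.linearCombination A (id : N → N))).subtype
      (Finsupp.linearCombination A id) hex
      (Submodule.subtype_injective _) (Finsupp.linearCombination_id_surjective A N) hF t

/-- main step: if `Tor` vanishes on the `f`-torsion `ker` and on `N/fN` in the right ranges,
then `Tor_i(M, N) = 0` for `1 ≤ i ≤ j`. -/
theorem step (f : A) (hflat : Module.Flat A (LocalizedModule (Submonoid.powers f) M)) (j : ℕ)
    (N : Type u) [AddCommGroup N] [Module A N]
    (hK : ∀ i, 1 ≤ i → i ≤ j → IsZero ((T M i).obj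
      (ModuleCat.of A (LinearMap.ker (LinearMap.lsmul A N f).rangeRestrict))))
    (hC : ∀ i, 2 ≤ i → i ≤ j + 1 → IsZero ((T M i).obj
      (ModuleCat.of A (N ⧸ LinearMap.range (LinearMap.lsmul A N f))))) :
    ∀ i, 1 ≤ i → i ≤ j → IsZero ((T M i).obj (ModuleCat.of A N)) := by
  intro i hi1 hij
  obtain ⟨i, rfl⟩ : ∃ k, i = k + 1 := ⟨i - 1, by omega⟩
  set φ := LinearMap.lsmul A N f with hφ
  -- first sequence
  have hex1 : Function.Exact (LinearMap.ker φ.rangeRestrict).subtype φ.rangeRestrict :=
    LinearMap.exact_subtype_ker_map _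
  have hS1 := sc_shortExact (A := LinearMap.ker φ.rangeRestrict) (B := N)
    (C := LinearMap.range φ) (LinearMap.ker φ.rangeRestrict).subtype φ.rangeRestrict hex1
    (Submodule.subtype_injective _) φ.surjective_rangeRestrict
  have hm1 : Mono ((T M (i + 1)).map (ModuleCat.ofHom φ.rangeRestrict)) :=
    (LeftDerivedLES.exact₂ (tF (ModuleCat.of A M)) hS1 (i + 1)).mono_g
      ((hK (i + 1) hi1 hij).eq_of_src _ _)
  -- second sequence
  have hex2 : Function.Exact (LinearMap.range φ).subtype (LinearMap.range φ).mkQ := by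
    intro x
    rw [Submodule.mkQ_apply, Submodule.Quotient.mk_eq_zero]
    simp
  have hS2 := sc_shortExact (A := LinearMap.range φ) (B := N)
    (C := N ⧸ LinearMap.range φ) (LinearMap.range φ).subtype (LinearMap.range φ).mkQ hex2
    (Submodule.subtype_injective _) (Submodule.mkQ_surjective _)
  have hm2 : Mono ((T M (i + 1)).map (ModuleCat.ofHom (LinearMap.range φ).subtype)) :=
    (LeftDerivedLES.exact₁ (tF (ModuleCat.of A M)) hS2 (i + 1)).mono_g
      ((hC (i + 2) (by omega) (by omega)).eq_of_src _ _)
  -- composite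
  have hcomp : ModuleCat.ofHom φ.rangeRestrict ≫ ModuleCat.ofHom (LinearMap.range φ).subtype =
      f • 𝟙 (ModuleCat.of A N) := by
    ext x
    rfl
  have hm : Mono ((T M (i + 1)).map (f • 𝟙 (ModuleCat.of A N))) := by
    rw [← hcomp, Functor.map_comp]
    exact mono_comp _ _
  rw [Groth.Agent.Lib.Helper24.TorRegular.leftDerived_map_smul_id (R := A)] at hm
  have hinj := (ModuleCat.mono_iff_injective _).mp hm
  -- conclude
  have hft : ∀ t : (T M (i + 1)).obj (ModuleCat.of A N), f • t = 0 → t = 0 := by
    intro t ht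
    apply hinj
    rw [map_zero]
    exact ht
  have hsub : Subsingleton ((T M (i + 1)).obj (ModuleCat.of A N)) := by
    refine ⟨fun a b => ?_⟩
    suffices h : ∀ t : (T M (i + 1)).obj (ModuleCat.of A N), t = 0 by rw [h a, h b]
    intro t
    obtain ⟨n, hn⟩ := torsion M f hflat i N t
    induction n with
    | zero => simpa using hn
    | succ n ih =>
      apply ih
      apply hft
      rw [← mul_smul, ← pow_succ']
      exact hn
  exact ModuleCat.isZero_of_subsingleton _


section Killed

variable (I : Ideal A) (N : Type u) [AddCommGroup N] [Module A N]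

/-- cover of an `I`-torsion module by a free `A/I`-module -/
noncomputable def icov (hN : Module.IsTorsionBySet A N I) : (N →₀ (A ⧸ I)) →ₗ[A] N :=
  Finsupp.lsum A (fun n => Submodule.liftQ I (LinearMap.toSpanSingleton A N n) (by
    intro a ha
    rw [LinearMap.mem_ker, LinearMap.toSpanSingleton_apply]
    exact hN (x := n) (a := ⟨a, ha⟩)))

lemma icov_surjective (hN : Module.IsTorsionBySet A N I) : Function.Surjective (icov I N hN) := by
  intro n
  refine ⟨Finsupp.single n 1, ?_⟩
  rw [icov, Finsupp.lsum_single]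
  change Submodule.liftQ I (LinearMap.toSpanSingleton A N n) _ (Submodule.Quotient.mk 1) = n
  rw [Submodule.liftQ_apply, LinearMap.toSpanSingleton_apply, one_smul]

lemma finsupp_torsion : Module.IsTorsionBySet A (N →₀ (A ⧸ I)) I := by
  intro v a
  ext n
  rw [Finsupp.smul_apply, Finsupp.zero_apply]
  obtain ⟨b, hb⟩ := Ideal.Quotient.mk_surjective (v n)
  rw [← hb, ← Ideal.Quotient.mk_eq_mk, ← Submodule.Quotient.mk_smul, Submodule.Quotient.mk_eq_zero,
    smul_eq_mul]
  exact I.mul_mem_right _ a.2

lemma sub_torsion {P : Type u} [AddCommGroup P] [Module A P] (hP : Module.IsTorsionBySet A P I)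
    (Q : Submodule A P) : Module.IsTorsionBySet A Q I := by
  intro x a
  exact Subtype.ext (hP (x := x.1) (a := a))

lemma quot_torsion {P : Type u} [AddCommGroup P] [Module A P] (hP : Module.IsTorsionBySet A P I)
    (Q : Submodule A P) : Module.IsTorsionBySet A (P ⧸ Q) I := by
  intro x a
  obtain ⟨y, rfl⟩ := Submodule.Quotient.mk_surjective _ x
  rw [← Submodule.Quotient.mk_smul, hP (x := y) (a := a), Submodule.Quotient.mk_zero]

end Killed

theorem vanish_of_killed (I : Ideal A) [Module.Flat (A ⧸ I) ((A ⧸ I) ⊗[A] M)] (d : ℕ)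
    (h3 : ∀ i, 1 ≤ i → i ≤ d → IsZero ((T M i).obj (ModuleCat.of A (A ⧸ I)))) (i : ℕ) :
    i + 1 ≤ d → ∀ (N : Type u) [AddCommGroup N] [Module A N], Module.IsTorsionBySet A N I →
      IsZero ((T M (i + 1)).obj (ModuleCat.of A N)) := by
  induction i with
  | zero =>
    intro hd N _ _ hN
    have hF : IsZero ((T M 1).obj (ModuleCat.of A (N →₀ (A ⧸ I)))) := by
      have := TorColimRight.preserves_leftDerived (ModuleCat.of A M) (J := Finset N) 1
      exact FinsuppColim.isZero_obj_finsupp (ι := N) (G := T M 1) (h3 1 le_rfl hd)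
    have hex : Function.Exact (LinearMap.ker (icov I N hN)).subtype (icov I N hN) :=
      LinearMap.exact_subtype_ker_map _
    have hinj : Function.Injective ((LinearMap.ker (icov I N hN)).subtype.lTensor M) :=
      Groth.Agent.Lib.Helper6.LocalFlat.lTensor_injective_of_flat_baseChange I
        (sub_torsion I (finsupp_torsion I N) _) (finsupp_torsion I N) _
        (Submodule.subtype_injective _)
    exact isZero_tor_one_of_injective (A := LinearMap.ker (icov I N hN)) (B := N →₀ (A ⧸ I))
      (ModuleCat.of A M) (LinearMap.ker (icov I N hN)).subtype (icov I N hN) hex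
      (Submodule.subtype_injective _) (icov_surjective I N hN) hF hinj
  | succ i ih =>
    intro hd N _ _ hN
    have hF : IsZero ((T M (i + 2)).obj (ModuleCat.of A (N →₀ (A ⧸ I)))) := by
      have := TorColimRight.preserves_leftDerived (ModuleCat.of A M) (J := Finset N) (i + 2)
      exact FinsuppColim.isZero_obj_finsupp (ι := N) (G := T M (i + 2)) (h3 (i + 2) (by omega) hd)
    have hex : Function.Exact (LinearMap.ker (icov I N hN)).subtype (icov I N hN) :=
      LinearMap.exact_subtype_ker_map _
    exact isZero_tor_succ_succ (A := LinearMap.ker (icov I N hN)) (B := N →₀ (A ⧸ I))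
      (ModuleCat.of A M) (LinearMap.ker (icov I N hN)).subtype (icov I N hN) hex
      (Submodule.subtype_injective _) (icov_surjective I N hN) i hF
      (ih (by omega) _ (sub_torsion I (finsupp_torsion I N) _))


/-- modules killed by a power of `I` -/
theorem vanish_of_killed_pow (I : Ideal A) [Module.Flat (A ⧸ I) ((A ⧸ I) ⊗[A] M)] (d : ℕ)
    (h3 : ∀ i, 1 ≤ i → i ≤ d → IsZero ((T M i).obj (ModuleCat.of A (A ⧸ I)))) (n : ℕ) :
    ∀ (N : Type u) [AddCommGroup N] [Module A N], (∀ a ∈ I ^ n, ∀ x : N, a • x = 0) →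
      ∀ i, 1 ≤ i → i ≤ d → IsZero ((T M i).obj (ModuleCat.of A N)) := by
  induction n with
  | zero =>
    intro N _ _ hN i hi hid
    obtain ⟨i, rfl⟩ : ∃ k, i = k + 1 := ⟨i - 1, by omega⟩
    refine vanish_of_killed M I d h3 i hid N ?_
    intro x a
    have := hN 1 (by rw [pow_zero, Ideal.one_eq_top]; exact Submodule.mem_top) x
    rw [one_smul] at this
    rw [this, smul_zero]
  | succ n ih =>
    intro N _ _ hN i hi hid
    obtain ⟨i, rfl⟩ : ∃ k, i = k + 1 := ⟨i - 1, by omega⟩
    set Q : Submodule A N := I • (⊤ : Submodule A N) with hQ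
    have hex : Function.Exact Q.subtype Q.mkQ := by
      intro x
      rw [Submodule.mkQ_apply, Submodule.Quotient.mk_eq_zero]
      simp
    have hS := sc_shortExact (A := Q) (B := N) (C := N ⧸ Q) Q.subtype Q.mkQ hex
      (Submodule.subtype_injective _) (Submodule.mkQ_surjective _)
    have h1 : IsZero ((T M (i + 1)).obj (ModuleCat.of A Q)) := by
      refine ih Q ?_ (i + 1) hi hid
      intro a ha x
      apply Subtype.ext
      rw [Submodule.coe_smul, Submodule.coe_zero]
      have hx : x.1 ∈ I • (⊤ : Submodule A N) := x.2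
      refine Submodule.smul_induction_on hx ?_ ?_
      · intro b hb y _
        rw [← mul_smul]
        exact hN _ (by rw [pow_succ]; exact Ideal.mul_mem_mul ha hb) y
      · intro y z hy hz
        rw [smul_add, hy, hz, add_zero]
    have h2 : IsZero ((T M (i + 1)).obj (ModuleCat.of A (N ⧸ Q))) := by
      refine vanish_of_killed M I d h3 i hid (N ⧸ Q) ?_
      intro x a
      obtain ⟨y, rfl⟩ := Submodule.Quotient.mk_surjective _ x
      rw [← Submodule.Quotient.mk_smul, Submodule.Quotient.mk_eq_zero]
      exact Submodule.smul_mem_smul a.2 Submodule.mem_top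
    exact LeftDerivedLES.isZero_mid (tF (ModuleCat.of A M)) hS (i + 1) h1 h2


section Main

variable {r : ℕ} (f : Fin r → A)

theorem base [Module.Flat (A ⧸ Ideal.span (Set.range f)) ((A ⧸ Ideal.span (Set.range f)) ⊗[A] M)]
    (d : ℕ)
    (h3 : ∀ i, 1 ≤ i → i ≤ d →
      IsZero ((T M i).obj (ModuleCat.of A (A ⧸ Ideal.span (Set.range f)))))
    (N : Type u) [AddCommGroup N] [Module A N]
    (hN : ∀ l : Fin r, ∃ n : ℕ, ∀ x : N, f l ^ n • x = 0) :
    ∀ i, 1 ≤ i → i ≤ d → IsZero ((T M i).obj (ModuleCat.of A N)) := by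
  choose e he using hN
  set n := ∑ l, e l with hn
  have hfn : ∀ l, f l ^ n ∈ Module.annihilator A N := by
    intro l
    rw [Module.mem_annihilator]
    intro x
    have hle : e l ≤ n := Finset.single_le_sum (f := e) (fun _ _ => Nat.zero_le _) (Finset.mem_univ l)
    obtain ⟨c, hc⟩ := Nat.exists_eq_add_of_le hle
    rw [hc, pow_add, mul_comm, mul_smul, he l x, smul_zero]
  set J' : Ideal A := Ideal.span (Set.range (fun l => f l ^ n)) with hJ'
  have hJ'ann : J' ≤ Module.annihilator A N := by
    rw [hJ', Ideal.span_le]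
    rintro _ ⟨l, rfl⟩
    exact hfn l
  have hrad : Ideal.span (Set.range f) ≤ J'.radical := by
    rw [Ideal.span_le]
    rintro _ ⟨l, rfl⟩
    exact ⟨n, Ideal.subset_span ⟨l, rfl⟩⟩
  obtain ⟨k, hk⟩ := Ideal.exists_pow_le_of_le_radical_of_fg hrad
    (Submodule.fg_span (Set.finite_range f))
  refine vanish_of_killed_pow M (Ideal.span (Set.range f)) d h3 k N ?_
  intro a ha x
  exact Module.mem_annihilator.mp (hJ'ann (hk ha)) x

theorem main [Module.Flat (A ⧸ Ideal.span (Set.range f)) ((A ⧸ Ideal.span (Set.range f)) ⊗[A] M)]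
    (h1 : ∀ l, Module.Flat A (LocalizedModule (Submonoid.powers (f l)) M))
    (h3 : ∀ i, 1 ≤ i → i ≤ r + 1 →
      IsZero ((T M i).obj (ModuleCat.of A (A ⧸ Ideal.span (Set.range f)))))
    (m : ℕ) : ∀ k : ℕ, k + m = r → ∀ (N : Type u) [AddCommGroup N] [Module A N],
      (∀ l : Fin r, l.val < k → ∃ n : ℕ, ∀ x : N, f l ^ n • x = 0) →
      ∀ i, 1 ≤ i → i ≤ k + 1 → IsZero ((T M i).obj (ModuleCat.of A N)) := by
  induction m with
  | zero =>
    intro k hk N _ _ hN
    have hk' : k = r := by omega
    subst hk'
    exact base M f (k + 1) h3 N (fun l => hN l l.2)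
  | succ m ih =>
    intro k hk N _ _ hN
    have hkr : k < r := by omega
    have ih' := ih (k + 1) (by omega)
    let l₀ : Fin r := ⟨k, hkr⟩
    refine step M (f l₀) (h1 l₀) (k + 1) N ?_ ?_
    · intro i hi hik
      refine ih' _ ?_ i hi (by omega)
      intro l hl
      by_cases hlk : l.val < k
      · obtain ⟨n, hn⟩ := hN l hlk
        exact ⟨n, fun x => Subtype.ext (hn x.1)⟩
      · have hl' : l = l₀ := Fin.ext (by simp only [l₀]; omega)
        subst hl'
        refine ⟨1, fun x => Subtype.ext ?_⟩
        have hx := x.2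
        rw [LinearMap.mem_ker] at hx
        have hx' := congrArg Subtype.val hx
        rw [pow_one]
        exact hx'
    · intro i hi hik
      refine ih' _ ?_ i (by omega) (by omega)
      intro l hl
      by_cases hlk : l.val < k
      · obtain ⟨n, hn⟩ := hN l hlk
        refine ⟨n, fun x => ?_⟩
        obtain ⟨y, rfl⟩ := Submodule.Quotient.mk_surjective _ x
        rw [← Submodule.Quotient.mk_smul, hn y, Submodule.Quotient.mk_zero]
      · have hl' : l = l₀ := Fin.ext (by simp only [l₀]; omega)
        subst hl'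
        refine ⟨1, fun x => ?_⟩
        obtain ⟨y, rfl⟩ := Submodule.Quotient.mk_surjective _ x
        rw [pow_one, ← Submodule.Quotient.mk_smul, Submodule.Quotient.mk_eq_zero]
        exact ⟨y, rfl⟩

theorem flat_of_tor_one
    (h : ∀ (N : Type u) [AddCommGroup N] [Module A N], IsZero ((T M 1).obj (ModuleCat.of A N))) :
    Module.Flat A M := by
  rw [Module.Flat.iff_lTensor_preserves_injective_linearMap']
  intro N N' _ _ _ _ g hg
  have hex : Function.Exact g (LinearMap.range g).mkQ := by
    intro x
    rw [Submodule.mkQ_apply, Submodule.Quotient.mk_eq_zero]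
    rfl
  obtain ⟨e⟩ := tor_one_linearEquiv_ker (ModuleCat.of A M) g (LinearMap.range g).mkQ hex hg
    (Submodule.mkQ_surjective _) (h N')
  have hsub : Subsingleton ↑(((Tor (ModuleCat.{u} A) 1).obj (ModuleCat.of A M)).obj
      (ModuleCat.of A (N' ⧸ LinearMap.range g))) :=
    ModuleCat.subsingleton_of_isZero (h _)
  rw [← LinearMap.ker_eq_bot, eq_bot_iff]
  intro x hx
  have : (⟨x, hx⟩ : LinearMap.ker (g.lTensor M)) = 0 := by
    have h1 := e.apply_symm_apply ⟨x, hx⟩
    rw [← h1, Subsingleton.elim (e.symm ⟨x, hx⟩) 0, map_zero]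
  exact congrArg Subtype.val this

end Main

end Groth.Agent.S6377

open CategoryTheory
open scoped TensorProduct
open CAlg

namespace Groth.Agent.S6377

/-- Let A be a ring, M an A-module and I = (f_1, ..., f_r) an ideal generated by r ≥ 1 elements. If (1)
M_{f_i} is flat over A_{f_i} for each i, (2) M/IM is flat over A/I, and (3) Tor_i^A(M, A/I) = 0 for
i = 1, ..., r + 1, then M is flat over A. (The published statement adds the same with 'faithfully
flat', whose proof it omits; that variant is not included.) -/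
theorem result (A : Type u) [CommRing A] (M : Type u) [AddCommGroup M]
    [Module A M] {r : ℕ} (hr : 1 ≤ r) (f : Fin r → A)
    (h1 : ∀ i, Module.Flat (Localization.Away (f i)) (LocalizedModule (Submonoid.powers (f i)) M))
    (h2 : Module.Flat (A ⧸ Ideal.span (Set.range f)) ((A ⧸ Ideal.span (Set.range f)) ⊗[A] M))
    (h3 : ∀ i : ℕ, 1 ≤ i → i ≤ r + 1 →
      Limits.IsZero (((CategoryTheory.Tor (ModuleCat.{u} A) i).obj (ModuleCat.of A M)).obj (ModuleCat.of A (A ⧸ Ideal.span (Set.range f))))) :
    Module.Flat A M := by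
  have h1' : ∀ l, Module.Flat A (LocalizedModule (Submonoid.powers (f l)) M) := fun l =>
    haveI := h1 l
    Module.Flat.trans A (Localization.Away (f l)) (LocalizedModule (Submonoid.powers (f l)) M)
  refine flat_of_tor_one M (fun N _ _ => ?_)
  exact main M f h1' (fun i hi hir => h3 i hi hir) r 0 (by omega) N (fun l hl => absurd hl (by omega))
    1 le_rfl le_rfl

end Groth.Agent.S6377
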