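import Groth.Statements.S6378
import Groth.Agent.Lib.Helper68.TorMod
import Mathlib

set_option autoImplicit false
universe u
open CategoryTheory
open CAlg

namespace Groth.Agent.S6378

open Groth.Agent.Lib.Helper68.TorMod
open scoped TensorProduct

section
variable {R : Type u} [CommRing R]

theorem tor_one_isZero_iff (M : Type u) [AddCommGroup M] [Module R M]
    (N : Type u) [AddCommGroup N] [Module R N] :
    Limits.IsZero (((Tor (ModuleCat.{u} R) 1).obj (ModuleCat.of R N)).obj (ModuleCat.of R M)) ↔
      Function.Injective
        ((LinearMap.ker (Finsupp.linearCombination R (id : M → M))).subtype.lTensor N) := by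
  let g : (M →₀ R) →ₗ[R] M := Finsupp.linearCombination R id
  have hg : Function.Surjective g := Finsupp.linearCombination_id_surjective R M
  have hex : Function.Exact (LinearMap.ker g).subtype g := LinearMap.exact_subtype_ker_map g
  obtain ⟨e⟩ := tor_one_linearEquiv_ker (A := LinearMap.ker g) (ModuleCat.of R N)
    (LinearMap.ker g).subtype g hex (Submodule.subtype_injective _) hg
    (isZero_tor_succ_of_projective (ModuleCat.of R N) (M →₀ R) 0)
  change _ ↔ Function.Injective ((LinearMap.ker g).subtype.lTensor N)
  rw [← LinearMap.ker_eq_bot]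
  constructor
  · intro hz
    have : Subsingleton (((Tor (ModuleCat.{u} R) 1).obj (ModuleCat.of R N)).obj (ModuleCat.of R M)) :=
      ModuleCat.subsingleton_of_isZero hz
    have : Subsingleton (LinearMap.ker ((LinearMap.ker g).subtype.lTensor N)) :=
      e.symm.toEquiv.subsingleton
    exact Submodule.eq_bot_of_subsingleton
  · intro hk
    have : Subsingleton (LinearMap.ker ((LinearMap.ker g).subtype.lTensor N)) := by
      rw [hk]; infer_instance
    have : Subsingleton (((Tor (ModuleCat.{u} R) 1).obj (ModuleCat.of R N)).obj (ModuleCat.of R M)) :=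
      e.toEquiv.subsingleton
    exact ModuleCat.isZero_of_subsingleton _

variable {K F : Type u} [AddCommGroup K] [Module R K] [AddCommGroup F] [Module R F]

theorem inj_congr (ι : K →ₗ[R] F) {X Y : Type u} [AddCommGroup X] [Module R X] [AddCommGroup Y]
    [Module R Y] (e : X ≃ₗ[R] Y) (h : Function.Injective (ι.lTensor Y)) :
    Function.Injective (ι.lTensor X) := by
  have hcomm : (ι.lTensor Y) ∘ₗ (e.toLinearMap.rTensor K) =
      (e.toLinearMap.rTensor F) ∘ₗ (ι.lTensor X) := by
    rw [LinearMap.lTensor_comp_rTensor, LinearMap.rTensor_comp_lTensor]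
  have h1 : Function.Injective ((ι.lTensor Y) ∘ₗ (e.toLinearMap.rTensor K)) := by
    rw [LinearMap.coe_comp]
    exact h.comp (LinearEquiv.rTensor K e).injective
  rw [hcomm, LinearMap.coe_comp] at h1
  exact Function.Injective.of_comp h1

theorem inj_of_finiteLength [IsLocalRing R] (ι : K →ₗ[R] F) [Module.Flat R F]
    (hκ : Function.Injective (ι.lTensor (IsLocalRing.ResidueField R)))
    (N : Type u) [AddCommGroup N] [Module R N] (hN : IsFiniteLength R N) :
    Function.Injective (ι.lTensor N) := by
  induction hN with
  | of_subsingleton =>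
    rename_i N _ _ _
    have : Subsingleton (N ⊗[R] K) := by
      constructor
      intro a b
      have h0 : ∀ x : N ⊗[R] K, x = 0 := by
        intro x
        induction x with
        | zero => rfl
        | tmul n k => rw [Subsingleton.elim n 0, TensorProduct.zero_tmul]
        | add x y hx hy => rw [hx, hy, add_zero]
      rw [h0 a, h0 b]
    exact Function.injective_of_subsingleton _
  | of_simple_quotient hN₀ ih =>
    rename_i N _ _ N₀ hs
    obtain ⟨I, hI, ⟨e⟩⟩ := isSimpleModule_iff_quot_maximal.1 hs
    obtain rfl := IsLocalRing.eq_maximalIdeal hI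
    have hc : Function.Injective (ι.lTensor (N ⧸ N₀)) := inj_congr ι e hκ
    have hexK : Function.Exact (N₀.subtype.rTensor K) (N₀.mkQ.rTensor K) :=
      rTensor_exact K (LinearMap.exact_subtype_mkQ N₀) (Submodule.mkQ_surjective N₀)
    have hiF : Function.Injective (N₀.subtype.rTensor F) :=
      Module.Flat.rTensor_preserves_injective_linearMap _ (Submodule.subtype_injective _)
    rw [injective_iff_map_eq_zero]
    intro x hx
    have h1 : (ι.lTensor (N ⧸ N₀)) ((N₀.mkQ.rTensor K) x) = 0 := by
      have := congrArg (N₀.mkQ.rTensor F) hx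
      rw [map_zero, ← LinearMap.comp_apply, LinearMap.rTensor_comp_lTensor,
        ← LinearMap.lTensor_comp_rTensor, LinearMap.comp_apply] at this
      exact this
    have h2 : (N₀.mkQ.rTensor K) x = 0 := by
      apply hc
      rw [h1, map_zero]
    obtain ⟨y, rfl⟩ := (hexK x).1 h2
    have h3 : (N₀.subtype.rTensor F) ((ι.lTensor N₀) y) = 0 := by
      rw [← LinearMap.comp_apply, LinearMap.rTensor_comp_lTensor,
        ← LinearMap.lTensor_comp_rTensor, LinearMap.comp_apply]
      exact hx
    have h4 : (ι.lTensor N₀) y = 0 := by
      apply hiF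
      rw [h3, map_zero]
    have h5 : y = 0 := by
      apply ih
      rw [h4, map_zero]
    rw [h5, map_zero]

end

/-- Let (R, m, κ) be a local ring and M an R-module with Tor_1^R(κ, M) = 0. Then Tor_1^R(N, M) = 0 for
every finite length R-module N. -/
theorem result (R : Type u) [CommRing R] [IsLocalRing R]
    (M : Type u) [AddCommGroup M] [Module R M]
    (h : Limits.IsZero (((CategoryTheory.Tor (ModuleCat.{u} R) 1).obj (ModuleCat.of R (IsLocalRing.ResidueField R))).obj (ModuleCat.of R M)))
    (N : Type u) [AddCommGroup N] [Module R N] (hN : IsFiniteLength R N) :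
    Limits.IsZero (((CategoryTheory.Tor (ModuleCat.{u} R) 1).obj (ModuleCat.of R N)).obj (ModuleCat.of R M)) := by
  have h' := (tor_one_isZero_iff M (IsLocalRing.ResidueField R)).1 h
  have hh := inj_of_finiteLength (K := LinearMap.ker (Finsupp.linearCombination R (id : M → M)))
    (F := M →₀ R) (LinearMap.ker (Finsupp.linearCombination R (id : M → M))).subtype h' N hN
  exact (tor_one_isZero_iff M N).2 hh

end Groth.Agent.S6378
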