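import Groth.Statements.S6380
import Mathlib

set_option autoImplicit false
universe u
open scoped TensorProduct
open CAlg

namespace Groth.Agent.S6380

/-- Given a linear map f : P → M of R-modules with P finitely presented, an R-module Q and an element x
of P ⊗ Q in the kernel of f ⊗ id_Q, one can factor f as h ∘ f' through some finitely presented
module P' (with f' : P → P' and h : P' → M) so that already f' ⊗ id_Q sends x to zero. -/
theorem result (R : Type u) [CommRing R] {P M Q : Type u}
    [AddCommGroup P] [Module R P] [Module.FinitePresentation R P] [AddCommGroup M] [Module R M]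
    [AddCommGroup Q] [Module R Q] (f : P →ₗ[R] M) (x : P ⊗[R] Q) (hx : f.rTensor Q x = 0) :
    ∃ (P' : Type u) (_ : AddCommGroup P') (_ : Module R P') (_ : Module.FinitePresentation R P')
      (f' : P →ₗ[R] P') (h : P' →ₗ[R] M), f = h ∘ₗ f' ∧ f'.rTensor Q x = 0 := by
  classical
  -- step 1: reduce to f.g. submodule
  have hP₀ : (LinearMap.range f).FG := by
    rw [LinearMap.range_eq_map]
    exact (Module.Finite.fg_top).map f
  have ht : LinearMap.rTensor Q (LinearMap.range f).subtype (f.rangeRestrict.rTensor Q x) = 0 := by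
    rw [← LinearMap.comp_apply, ← LinearMap.rTensor_comp]
    have : (LinearMap.range f).subtype ∘ₗ f.rangeRestrict = f := by ext p; rfl
    rw [this, hx]
  obtain ⟨M₀, hPM, hM₀, ht0⟩ := TensorProduct.eq_zero_of_fg_of_subtype_eq_zero hP₀ ht
  let f₀ : P →ₗ[R] M₀ := (Submodule.inclusion hPM) ∘ₗ f.rangeRestrict
  have hf₀ : f₀.rTensor Q x = 0 := by
    rw [LinearMap.rTensor_comp, LinearMap.comp_apply]; exact ht0
  have hf₀' : M₀.subtype ∘ₗ f₀ = f := by ext p; rfl
  -- step 3
  have : Module.Finite R M₀ := Module.Finite.of_fg hM₀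
  obtain ⟨n, π, hπ⟩ := Module.Finite.exists_fin' R M₀
  let F₁ : (P × (Fin n → R)) →ₗ[R] M₀ := f₀.coprod π
  have hF₁ : Function.Surjective F₁ := by
    intro m
    obtain ⟨v, hv⟩ := hπ m
    exact ⟨(0, v), by simp [F₁, hv]⟩
  let K := LinearMap.ker F₁
  let x₁ := (LinearMap.inl R P (Fin n → R)).rTensor Q x
  have hx₁ : F₁.rTensor Q x₁ = 0 := by
    simp only [x₁]
    rw [← LinearMap.comp_apply, ← LinearMap.rTensor_comp]
    have : F₁ ∘ₗ LinearMap.inl R P (Fin n → R) = f₀ := by ext p; simp [F₁]
    rw [this, hf₀]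
  have hex : Function.Exact K.subtype F₁ := by
    intro y
    simp [K]
  have hex' := rTensor_exact Q hex hF₁
  obtain ⟨z, hz⟩ := (hex' x₁).1 hx₁
  obtain ⟨K', hK', z', hz'⟩ := TensorProduct.exists_of_fg z
  let K'' : Submodule R (P × (Fin n → R)) := K'.map K.subtype
  have hK'' : K''.FG := hK'.map _
  have hK''le : K'' ≤ LinearMap.ker F₁ := by
    rintro _ ⟨k, -, rfl⟩
    exact k.2
  have hfp : Module.FinitePresentation R ((P × (Fin n → R)) ⧸ K'') :=
    Module.finitePresentation_of_surjective K''.mkQ (Submodule.mkQ_surjective _) (by rw [Submodule.ker_mkQ]; exact hK'')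
  refine ⟨(P × (Fin n → R)) ⧸ K'', inferInstance, inferInstance, hfp, K''.mkQ ∘ₗ LinearMap.inl R P (Fin n → R), M₀.subtype ∘ₗ K''.liftQ F₁ hK''le, ?_, ?_⟩
  · rw [← hf₀']
    ext p
    simp [F₁]
  · rw [LinearMap.rTensor_comp, LinearMap.comp_apply]
    show K''.mkQ.rTensor Q x₁ = 0
    rw [← hz, ← hz', ← LinearMap.comp_apply, ← LinearMap.comp_apply, ← LinearMap.rTensor_comp, ← LinearMap.rTensor_comp]
    have : (K''.mkQ ∘ₗ K.subtype) ∘ₗ K'.subtype = 0 := by
      ext k
      simp only [LinearMap.comp_apply, Submodule.subtype_apply, Submodule.mkQ_apply, LinearMap.zero_apply]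
      rw [Submodule.Quotient.mk_eq_zero]
      exact ⟨k.1, k.2, rfl⟩
    rw [this, LinearMap.rTensor_zero, LinearMap.zero_apply]

end Groth.Agent.S6380
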