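import Mathlib
-- Template for statement S6382 (row 6381; see the milestone table for weights).
-- Copy to Groth/Agent/S6382.lean and replace the sorry. The statement below is byte-identical to the frozen
-- statement CAlg.GrothFrozen.S6382 (Groth/Statements/S6382.lean; the theorem CAlg.flat_baseChange_of_flat_square_of_maximalIdeal_extends);
-- the grader kernel-checks Groth.Agent.S6382.result against that frozen type. Keep the theorem IN THIS FILE
-- (a `result` declared elsewhere and merely imported here is not credited); helpers may live anywhere
-- under Groth/Agent/.
import Groth.Statements.S6382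
import Groth.Agent.Lib.Helper24.FlatSquare
import Groth.Agent.S0390

set_option autoImplicit false
universe u
open CAlg

namespace Groth.Agent.S6382

/-- Consider a commutative square of local rings and local homomorphisms R → S, R → R', S → S', R' → S',
and a finite S-module M. Assume the maps R → R' and S → S' are flat, M is flat over R, the maximal
ideal of R generates the maximal ideal of R', and R', S' are Noetherian. Then M' = M ⊗_S S' (any
base change of M along S → S') is flat over R'. -/
theorem result (R S R' S' : Type u) [CommRing R] [CommRing S]
    [CommRing R'] [CommRing S'] [IsLocalRing R] [IsLocalRing S] [IsLocalRing R'] [IsLocalRing S']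
    [Algebra R S] [Algebra R R'] [Algebra S S'] [Algebra R' S'] [Algebra R S']
    [IsScalarTower R S S'] [IsScalarTower R R' S']
    [IsLocalHom (algebraMap R S)] [IsLocalHom (algebraMap R R')] [IsLocalHom (algebraMap S S')]
    [IsLocalHom (algebraMap R' S')] [Module.Flat R R'] [Module.Flat S S']
    [IsNoetherianRing R'] [IsNoetherianRing S']
    (hm : (IsLocalRing.maximalIdeal R).map (algebraMap R R') = IsLocalRing.maximalIdeal R')
    (M : Type u) [AddCommGroup M] [Module S M] [Module R M] [IsScalarTower R S M] [Module.Finite S M]
    [Module.Flat R M]
    (M' : Type u) [AddCommGroup M'] [Module S' M'] [Module S M'] [IsScalarTower S S' M'] [Module R' M']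
    [IsScalarTower R' S' M'] (j : M →ₗ[S] M') (hj : IsBaseChange S' j) :
    Module.Flat R' M' := by
  have hflatR : Module.Flat R (TensorProduct S S' M) :=
    Groth.Agent.Lib.Helper24.FlatSquare.flat_tensor_of_flat M
  have hinjR : Function.Injective
      (LinearMap.rTensor (TensorProduct S S' M) (IsLocalRing.maximalIdeal R).subtype) :=
    Module.Flat.rTensor_preserves_injective_linearMap _ Subtype.val_injective
  have hinj' := Groth.Agent.Lib.Helper24.FlatSquare.rTensor_map_injective (R' := R')
    (TensorProduct S S' M) (IsLocalRing.maximalIdeal R) hinjR
  rw [hm] at hinj'
  have hflat' : Module.Flat R' (TensorProduct S S' M) := Groth.Agent.S0390.result (S := S') hinj'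
  exact Module.Flat.of_linearEquiv ((hj.equiv).restrictScalars R').symm

end Groth.Agent.S6382
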