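import Groth.Statements.S6383
import Mathlib

set_option autoImplicit false
universe u
open scoped TensorProduct
open CAlg

namespace Groth.Agent.S6383

section
variable (R S : Type u) [CommRing R] [CommRing S] [Algebra R S]
    (M : Type u) [AddCommGroup M] [Module R M]

theorem exists_countable_gen (y : S ⊗[R] M) :
    ∃ G : Set M, G.Countable ∧ y ∈ Submodule.span S ((TensorProduct.mk R S M 1) '' G) := by
  have h1 : y ∈ Submodule.span S ((TensorProduct.mk R S M 1) '' (Set.univ : Set M)) := by
    have := Submodule.baseChange_span (R := R) (A := S) (Set.univ : Set M)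
    rw [Submodule.span_univ, Submodule.baseChange_top] at this
    rw [← this]; trivial
  classical
  obtain ⟨T, hT, hyT⟩ := Submodule.mem_span_finite_of_mem_span h1
  obtain ⟨T', -, hT'⟩ := Finset.subset_set_image_iff.1 hT
  refine ⟨(T' : Set M), T'.countable_toSet, ?_⟩
  rw [← hT'] at hyT
  simpa using hyT

variable {I : Type u} (Q : I → Submodule S (S ⊗[R] M))

theorem exists_countable_idx (htop : (⨆ i, Q i) = ⊤) (x : S ⊗[R] M) :
    ∃ F : Set I, F.Countable ∧ x ∈ ⨆ i ∈ F, Q i := by
  have hx : x ∈ ⨆ i, Q i := by rw [htop]; trivial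
  obtain ⟨F, hF⟩ := (Submodule.mem_iSup_iff_exists_finset).1 hx
  exact ⟨(F : Set I), F.countable_toSet, by simpa using hF⟩
end

/-- For a ring map R → S and an R-module M whose base change S ⊗_R M is an internal direct sum of
countably generated S-submodules Q_i (i ∈ I), every countably generated submodule N ≤ M can be
enlarged to a countably generated submodule N' ≤ M, together with a subset I' ⊆ I, so that the
S-span of the image 1 ⊗ N' inside S ⊗_R M equals the sum of the Q_i over i ∈ I'. -/
theorem result (R S : Type u) [CommRing R] [CommRing S] [Algebra R S]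
    (M : Type u) [AddCommGroup M] [Module R M] {I : Type u} [DecidableEq I] (Q : I → Submodule S (S ⊗[R] M))
    (hQ : DirectSum.IsInternal Q) (hQc : ∀ i, ∃ t : Set (S ⊗[R] M), t.Countable ∧ Submodule.span S t = Q i)
    (N : Submodule R M) (hN : ∃ s : Set M, s.Countable ∧ Submodule.span R s = N) :
    ∃ (N' : Submodule R M) (I' : Set I), N ≤ N' ∧ (∃ s : Set M, s.Countable ∧ Submodule.span R s = N') ∧
      Submodule.span S ((TensorProduct.mk R S M 1) '' (N' : Set M)) = ⨆ i ∈ I', Q i := by
  have htop : (⨆ i, Q i) = ⊤ := hQ.submodule_iSup_eq_top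
  obtain ⟨s₀, hs₀c, hs₀⟩ := hN
  choose G hGc hG using exists_countable_gen R S M
  choose F hFc hF using exists_countable_idx R S M Q htop
  choose t htc ht using hQc
  let ι1 : M → S ⊗[R] M := TensorProduct.mk R S M 1
  let idx : Set M → Set I := fun s => ⋃ m ∈ s, F (ι1 m)
  let gens : I → Set M := fun i => ⋃ y ∈ t i, G y
  let step : Set M → Set M := fun s => s ∪ ⋃ i ∈ idx s, gens i
  let seq : ℕ → Set M := fun n => Nat.rec s₀ (fun _ s => step s) n
  have hseq_succ : ∀ n, seq (n+1) = step (seq n) := fun n => rfl
  have hidx_c : ∀ s : Set M, s.Countable → (idx s).Countable := fun s hs =>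
    hs.biUnion fun m _ => hFc _
  have hgens_c : ∀ i, (gens i).Countable := fun i => (htc i).biUnion fun y _ => hGc y
  have hstep_c : ∀ s : Set M, s.Countable → (step s).Countable := fun s hs =>
    hs.union ((hidx_c s hs).biUnion fun i _ => hgens_c i)
  have hseq_c : ∀ n, (seq n).Countable := by
    intro n
    induction n with
    | zero => exact hs₀c
    | succ n ih => rw [hseq_succ]; exact hstep_c _ ih
  let sInf : Set M := ⋃ n, seq n
  have hsInf_c : sInf.Countable := Set.countable_iUnion hseq_c
  let I' : Set I := ⋃ n, idx (seq n)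
  have hQ_le : ∀ i, Q i ≤ Submodule.span S (ι1 '' gens i) := by
    intro i
    rw [← ht i, Submodule.span_le]
    intro y hy
    have h1 : ι1 '' G y ⊆ ι1 '' gens i := Set.image_mono (Set.subset_biUnion_of_mem (u := fun y => G y) hy)
    exact Submodule.span_mono h1 (hG y)
  refine ⟨Submodule.span R sInf, I', ?_, ⟨sInf, hsInf_c, rfl⟩, ?_⟩
  · rw [← hs₀]
    exact Submodule.span_mono (Set.subset_iUnion seq 0)
  · have h0 : Submodule.span S (ι1 '' ((Submodule.span R sInf : Submodule R M) : Set M)) = Submodule.span S (ι1 '' sInf) := by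
      have h1 := Submodule.baseChange_eq_span (R := R) S (Submodule.span R sInf)
      have h2 := Submodule.baseChange_span (R := R) (A := S) sInf
      rw [h1] at h2
      rw [← h2, Submodule.map_coe]
    show Submodule.span S (ι1 '' ((Submodule.span R sInf : Submodule R M) : Set M)) = _
    rw [h0]
    apply le_antisymm
    · rw [Submodule.span_le]
      rintro _ ⟨m, hm, rfl⟩
      obtain ⟨n, hn⟩ := Set.mem_iUnion.1 hm
      have h1 : F (ι1 m) ⊆ I' := by
        intro i hi
        exact Set.mem_iUnion.2 ⟨n, Set.mem_biUnion hn hi⟩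
      have h2 : (⨆ i ∈ F (ι1 m), Q i) ≤ ⨆ i ∈ I', Q i := biSup_mono (fun i hi => h1 hi)
      exact h2 (hF (ι1 m))
    · refine iSup₂_le fun i hi => ?_
      obtain ⟨n, hn⟩ := Set.mem_iUnion.1 hi
      refine (hQ_le i).trans (Submodule.span_mono (Set.image_mono ?_))
      have h1 : gens i ⊆ seq (n+1) := by
        rw [hseq_succ]
        exact Set.subset_union_of_subset_right (Set.subset_biUnion_of_mem (u := fun i => gens i) hn) _
      exact h1.trans (Set.subset_iUnion seq (n+1))

end Groth.Agent.S6383
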