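import Mathlib
-- Template for statement S6384 (row 6383; see the milestone table for weights).
-- Copy to Groth/Agent/S6384.lean and replace the sorry. The statement below is byte-identical to the frozen
-- statement CAlg.GrothFrozen.S6384 (Groth/Statements/S6384.lean; the theorem CAlg.flat_mod_comap_sq_of_flat_mod_of_flat_baseChange);
-- the grader kernel-checks Groth.Agent.S6384.result against that frozen type. Keep the theorem IN THIS FILE
-- (a `result` declared elsewhere and merely imported here is not credited); helpers may live anywhere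
-- under Groth/Agent/.
import Groth.Statements.S6384
import Groth.Agent.Lib.Helper24.NilDescent

set_option autoImplicit false
universe u
open scoped TensorProduct
open CAlg

namespace Groth.Agent.S6384

/-- Let φ : R → R' be a ring map, I ⊆ R an ideal and M an R-module such that M/IM is R/I-flat and R' ⊗_R
M is R'-flat. Put I₂ = φ⁻¹(φ(I²) R'). Then M/I₂M is flat over R/I₂. -/
theorem result (R R' : Type u) [CommRing R] [CommRing R'] [Algebra R R']
    (I : Ideal R) (M : Type u) [AddCommGroup M] [Module R M] [Module.Flat (R ⧸ I) ((R ⧸ I) ⊗[R] M)]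
    [Module.Flat R' (R' ⊗[R] M)] :
    Module.Flat (R ⧸ ((I ^ 2).map (algebraMap R R')).comap (algebraMap R R'))
      ((R ⧸ ((I ^ 2).map (algebraMap R R')).comap (algebraMap R R')) ⊗[R] M) := by
  set φ := algebraMap R R' with hφ
  set p : Ideal R' := (I ^ 2).map φ with hp
  set N' : Ideal (R' ⧸ p) := (I.map φ).map (Ideal.Quotient.mk p) with hN'
  have hN2 : N' ^ 2 = ⊥ := by
    rw [hN', ← Ideal.map_pow, ← Ideal.map_pow, ← hp, Ideal.map_quotient_self]
  have hinj : Function.Injective (algebraMap (R ⧸ p.comap φ) (R' ⧸ p)) :=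
    Ideal.algebraMap_quotient_injective
  set J : Ideal (R ⧸ p.comap φ) := N'.comap (algebraMap (R ⧸ p.comap φ) (R' ⧸ p)) with hJ
  -- flatness of `C' ⊗_C (C ⊗_R M)`
  have hF1 : Module.Flat (R' ⧸ p) ((R' ⧸ p) ⊗[R'] (R' ⊗[R] M)) := inferInstance
  have hF2 : Module.Flat (R' ⧸ p) ((R' ⧸ p) ⊗[R] M) :=
    Module.Flat.of_linearEquiv
      (TensorProduct.AlgebraTensorModule.cancelBaseChange R R' (R' ⧸ p) (R' ⧸ p) M).symm
  haveI hF3 : Module.Flat (R' ⧸ p) ((R' ⧸ p) ⊗[R ⧸ p.comap φ] ((R ⧸ p.comap φ) ⊗[R] M)) :=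
    Module.Flat.of_linearEquiv
      (TensorProduct.AlgebraTensorModule.cancelBaseChange R (R ⧸ p.comap φ) (R' ⧸ p)
        (R' ⧸ p) M)
  -- flatness of `(C/J) ⊗_C (C ⊗_R M)`
  have hIJ : I ≤ Ideal.comap (algebraMap R ((R ⧸ p.comap φ) ⧸ J)) ⊥ := by
    intro a ha
    rw [Ideal.mem_comap, Ideal.mem_bot]
    change Ideal.Quotient.mk J (Ideal.Quotient.mk (p.comap φ) a) = 0
    rw [Ideal.Quotient.eq_zero_iff_mem, hJ, Ideal.mem_comap]
    change Ideal.Quotient.mk p (φ a) ∈ N'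
    exact Ideal.mem_map_of_mem _ (Ideal.mem_map_of_mem _ ha)
  letI algD : Algebra (R ⧸ I) ((R ⧸ p.comap φ) ⧸ J) :=
    (Ideal.Quotient.lift I (algebraMap R ((R ⧸ p.comap φ) ⧸ J))
      (fun a ha => by simpa using hIJ ha)).toAlgebra
  haveI t2 : IsScalarTower R (R ⧸ I) ((R ⧸ p.comap φ) ⧸ J) :=
    IsScalarTower.of_algebraMap_eq (fun a => rfl)
  have hG1 : Module.Flat ((R ⧸ p.comap φ) ⧸ J)
      (((R ⧸ p.comap φ) ⧸ J) ⊗[R ⧸ I] ((R ⧸ I) ⊗[R] M)) := inferInstance
  have hG2 : Module.Flat ((R ⧸ p.comap φ) ⧸ J) (((R ⧸ p.comap φ) ⧸ J) ⊗[R] M) :=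
    Module.Flat.of_linearEquiv
      (TensorProduct.AlgebraTensorModule.cancelBaseChange R (R ⧸ I) ((R ⧸ p.comap φ) ⧸ J)
        ((R ⧸ p.comap φ) ⧸ J) M).symm
  haveI hG3 : Module.Flat ((R ⧸ p.comap φ) ⧸ J)
      (((R ⧸ p.comap φ) ⧸ J) ⊗[R ⧸ p.comap φ] ((R ⧸ p.comap φ) ⊗[R] M)) :=
    Module.Flat.of_linearEquiv
      (TensorProduct.AlgebraTensorModule.cancelBaseChange R (R ⧸ p.comap φ)
        ((R ⧸ p.comap φ) ⧸ J) ((R ⧸ p.comap φ) ⧸ J) M)
  exact Groth.Agent.Lib.Helper24.NilDescent.flat_of_injective_of_nilpotent hinj N' 2 hN2 _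

end Groth.Agent.S6384
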