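import Groth.Statements.S6385
import Mathlib
import Groth.Agent.Lib.Helper73.DimFT.Basic

set_option autoImplicit false
universe u
open CAlg

namespace Groth.Agent.S6385

/-- Let k be a field, S a finite type k-algebra, q a prime of S and x the corresponding point of X =
Spec S. Then there is g ∈ S, g ∉ q, such that dim S_g equals dim_x X — the minimum of dim S_{g'}
over all g' ∉ q — and, writing d for this dimension, a finite injective k-algebra map from the
polynomial ring k[y_1, ..., y_d] to S_g. -/
theorem result (k S : Type u) [Field k] [CommRing S] [Algebra k S]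
    [Algebra.FiniteType k S] (q : Ideal S) [q.IsPrime] :
    ∃ (g : S) (d : ℕ), g ∉ q ∧ ringKrullDim (Localization.Away g) = d ∧
      (∀ g' : S, g' ∉ q → ringKrullDim (Localization.Away g) ≤ ringKrullDim (Localization.Away g')) ∧
      ∃ φ : MvPolynomial (Fin d) k →ₐ[k] Localization.Away g, Function.Injective φ ∧ φ.toRingHom.Finite := by
  -- choose g minimizing the dimension
  let D : Set (WithBot ℕ∞) := { x | ∃ g' : S, g' ∉ q ∧ ringKrullDim (Localization.Away g') = x }
  have hD : D.Nonempty := ⟨_, 1, fun h => (Ideal.IsPrime.ne_top ‹_›) ((Ideal.eq_top_iff_one q).2 h), rfl⟩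
  obtain ⟨x, ⟨g, hg, rfl⟩, hmin⟩ := (wellFounded_lt (α := WithBot ℕ∞)).has_min D hD
  have hmin' : ∀ g' : S, g' ∉ q → ringKrullDim (Localization.Away g) ≤ ringKrullDim (Localization.Away g') := by
    intro g' hg'
    exact not_lt.1 (hmin _ ⟨g', hg', rfl⟩)
  -- S_g is nontrivial
  have hnt : Nontrivial (Localization.Away g) := by
    have hu : IsUnit (algebraMap S (Localization.AtPrime q) g) :=
      IsLocalization.map_units (Localization.AtPrime q) (⟨g, hg⟩ : q.primeCompl)
    let ψ : Localization.Away g →+* Localization.AtPrime q := IsLocalization.Away.lift g hu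
    exact ψ.domain_nontrivial
  have hft : Algebra.FiniteType k (Localization.Away g) :=
    Algebra.FiniteType.trans (R := k) (S := S) (A := Localization.Away g) inferInstance (IsLocalization.finiteType_of_monoid_fg (Submonoid.powers g) (Localization.Away g))
  obtain ⟨s, φ, hinj, hfin⟩ := exists_finite_inj_algHom_of_fg k (Localization.Away g)
  refine ⟨g, s, hg, ?_, hmin', φ, hinj, hfin⟩
  algebraize [φ.toRingHom]
  have hint : Algebra.IsIntegral (MvPolynomial (Fin s) k) (Localization.Away g) := by
    have : Module.Finite (MvPolynomial (Fin s) k) (Localization.Away g) := hfin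
    infer_instance
  rw [Groth.Agent.Lib.Helper73.ringKrullDim_eq_of_isIntegral_of_injective (R := MvPolynomial (Fin s) k) hinj,
    MvPolynomial.ringKrullDim_of_isNoetherianRing, ringKrullDim_eq_zero_of_field]
  simp

end Groth.Agent.S6385
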