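import Groth.Statements.S6386
import Mathlib

set_option autoImplicit false
universe u
open CAlg

namespace Groth.Agent.S6386

section
open Cardinal
variable (A B : Type u) [CommRing A] [CommRing B] [Algebra A B]

theorem exists_witSet [Module.Flat A B] (t : Σ l : ℕ, Fin l → A × B) : ∃ w : Set B, w.Countable ∧
    (∑ i, (t.2 i).1 • (t.2 i).2 = 0 → ∃ (k : ℕ) (a : Fin t.1 → Fin k → A) (y : Fin k → B),
      (∀ j, y j ∈ w) ∧ (∀ i, (t.2 i).2 = ∑ j, a i j • y j) ∧ ∀ j, ∑ i, (t.2 i).1 * a i j = 0) := by
  by_cases h : ∑ i, (t.2 i).1 • (t.2 i).2 = 0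
  · obtain ⟨k, a, y, h1, h2⟩ := Module.Flat.isTrivialRelation_of_sum_smul_eq_zero (R := A) (M := B) (f := fun i => (t.2 i).1) (x := fun i => (t.2 i).2) h
    exact ⟨Set.range y, Set.countable_range y, fun _ => ⟨k, a, y, fun j => ⟨j, rfl⟩, h1, h2⟩⟩
  · exact ⟨∅, Set.countable_empty, fun h' => absurd h' h⟩

variable [Module.Flat A B]

noncomputable def witSet (t : Σ l : ℕ, Fin l → A × B) : Set B := Classical.choose (exists_witSet A B t)

theorem witSet_countable (t : Σ l : ℕ, Fin l → A × B) : (witSet A B t).Countable :=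
  (Classical.choose_spec (exists_witSet A B t)).1

theorem witSet_spec (t : Σ l : ℕ, Fin l → A × B) (h : ∑ i, (t.2 i).1 • (t.2 i).2 = 0) :
    ∃ (k : ℕ) (a : Fin t.1 → Fin k → A) (y : Fin k → B),
      (∀ j, y j ∈ witSet A B t) ∧ (∀ i, (t.2 i).2 = ∑ j, a i j • y j) ∧ ∀ j, ∑ i, (t.2 i).1 * a i j = 0 :=
  (Classical.choose_spec (exists_witSet A B t)).2 h

/-- all witnesses for relations among elements of `s` -/
noncomputable def W (s : Set B) : Set B :=
  ⋃ t : (Σ l : ℕ, Fin l → A × s), witSet A B ⟨t.1, fun i => ((t.2 i).1, ((t.2 i).2 : B))⟩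

local notation "κ" => max #A ℵ₀

theorem card_T (s : Set B) (hs : #s ≤ κ) : #(Σ l : ℕ, Fin l → A × s) ≤ κ := by
  rw [← Cardinal.mk_congr (List.equivSigmaTuple (α := A × s))]
  refine (Cardinal.mk_list_le_max _).trans ?_
  refine max_le (le_max_right _ _) ?_
  rw [Cardinal.mk_prod, Cardinal.lift_id, Cardinal.lift_id]
  exact Cardinal.mul_le_of_le (le_max_right _ _) (le_max_left _ _) hs

theorem card_W (s : Set B) (hs : #s ≤ κ) : #(W A B s) ≤ κ := by
  unfold W
  refine (Cardinal.mk_iUnion_le _).trans ?_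
  refine Cardinal.mul_le_of_le (le_max_right _ _) (card_T A B s hs) ?_
  refine ciSup_le' (fun t => ?_)
  exact ((witSet_countable A B _).le_aleph0).trans (le_max_right _ _)

noncomputable def chain (E : Subalgebra A B) : ℕ → Subalgebra A B
  | 0 => E
  | n+1 => Algebra.adjoin A ((chain E n : Set B) ∪ W A B (chain E n : Set B))

theorem chain_le_succ (E : Subalgebra A B) (n : ℕ) : chain A B E n ≤ chain A B E (n+1) := by
  intro x hx
  exact Algebra.subset_adjoin (Or.inl hx)

theorem W_le_succ (E : Subalgebra A B) (n : ℕ) : W A B (chain A B E n : Set B) ⊆ chain A B E (n+1) := by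
  intro x hx
  exact Algebra.subset_adjoin (Or.inr hx)

theorem chain_mono (E : Subalgebra A B) : Monotone (chain A B E) :=
  monotone_nat_of_le_succ (chain_le_succ A B E)

theorem card_chain (E : Subalgebra A B) (hE : #E ≤ κ) (n : ℕ) : #(chain A B E n) ≤ κ := by
  induction n with
  | zero => exact hE
  | succ n ih =>
    show #(Algebra.adjoin A ((chain A B E n : Set B) ∪ W A B (chain A B E n : Set B))) ≤ κ
    refine (Algebra.cardinalMk_adjoin_le A _).trans ?_
    refine max_le (max_le (le_max_left _ _) ?_) (le_max_right _ _)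
    refine (Cardinal.mk_union_le _ _).trans ?_
    exact Cardinal.add_le_of_le (le_max_right _ _) ih (card_W A B _ ih)
end

section
open Cardinal
variable (A B : Type u) [CommRing A] [CommRing B] [Algebra A B] [Module.Flat A B]
local notation "κ" => max #A ℵ₀

theorem coe_iSup_chain (E : Subalgebra A B) : ((⨆ n, chain A B E n : Subalgebra A B) : Set B) = ⋃ n, (chain A B E n : Set B) :=
  Subalgebra.coe_iSup_of_directed (chain_mono A B E).directed_le

theorem card_iSup_chain (E : Subalgebra A B) (hE : #E ≤ κ) : #(⨆ n, chain A B E n : Subalgebra A B) ≤ κ := by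
  have h1 : #(⨆ n, chain A B E n : Subalgebra A B) = #(⋃ n, (chain A B E n : Set B)) := by
    have := coe_iSup_chain A B E
    exact Cardinal.mk_congr (Equiv.setCongr this)
  rw [h1]
  have h2 := Cardinal.mk_iUnion_le_lift (fun n : ℕ => (chain A B E n : Set B))
  simp only [Cardinal.lift_id', Cardinal.mk_nat, Cardinal.lift_aleph0] at h2
  refine h2.trans ?_
  refine Cardinal.mul_le_of_le (le_max_right _ _) (le_max_right _ _) ?_
  refine ciSup_le' (fun n => ?_)
  exact card_chain A B E hE n

theorem mem_iSup_chain (E : Subalgebra A B) (b : B) : b ∈ (⨆ n, chain A B E n : Subalgebra A B) ↔ ∃ n, b ∈ chain A B E n := by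
  rw [← SetLike.mem_coe, coe_iSup_chain, Set.mem_iUnion]
  rfl

theorem flat_iSup_chain (E : Subalgebra A B) : Module.Flat A (⨆ n, chain A B E n : Subalgebra A B) := by
  apply Module.Flat.of_forall_isTrivialRelation
  intro l f x hfx
  -- each x i lies in some chain n
  have hmem : ∀ i, ∃ n, (x i : B) ∈ chain A B E n := fun i =>
    (mem_iSup_chain A B E _).1 (x i).2
  choose ns hns using hmem
  let n := Finset.univ.sup ns
  have hn : ∀ i, (x i : B) ∈ chain A B E n := fun i =>
    chain_mono A B E (Finset.le_sup (f := ns) (Finset.mem_univ i)) (hns i)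
  let t : Σ l : ℕ, Fin l → A × (chain A B E n : Set B) := ⟨l, fun i => (f i, ⟨x i, hn i⟩)⟩
  have hrel : ∑ i, f i • (x i : B) = 0 := by
    have := congrArg (fun b : (⨆ n, chain A B E n : Subalgebra A B) => (b : B)) hfx
    simpa using this
  obtain ⟨k, a, y, hy, h1, h2⟩ := witSet_spec A B ⟨l, fun i => (f i, (x i : B))⟩ hrel
  have hyB' : ∀ j, y j ∈ (⨆ n, chain A B E n : Subalgebra A B) := fun j => by
    have h3 : y j ∈ W A B (chain A B E n : Set B) := Set.mem_iUnion.2 ⟨t, hy j⟩
    have h4 : y j ∈ chain A B E (n+1) := W_le_succ A B E n h3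
    exact le_iSup (chain A B E) (n+1) h4
  refine ⟨k, a, fun j => ⟨y j, hyB' j⟩, fun i => ?_, h2⟩
  apply Subtype.ext
  have := h1 i
  simp only at this
  rw [this]
  simp
end

/-- The key step of its proof: let A be a ring, κ = max(|A|, ℵ₀), and B a flat A-algebra. Then every
A-subalgebra E ⊆ B with at most κ elements lies inside a flat A-subalgebra B' ⊆ B with at most κ
elements. Consequently B is the filtered colimit (union) of its flat A-subalgebras of cardinality at
most κ. -/
theorem result (A B : Type u) [CommRing A] [CommRing B] [Algebra A B]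
    [Module.Flat A B] (E : Subalgebra A B) (hE : Cardinal.mk E ≤ max (Cardinal.mk A) Cardinal.aleph0) :
    ∃ B' : Subalgebra A B, E ≤ B' ∧ Module.Flat A B' ∧ Cardinal.mk B' ≤ max (Cardinal.mk A) Cardinal.aleph0 := by
  exact ⟨⨆ n, chain A B E n, le_iSup (chain A B E) 0, flat_iSup_chain A B E, card_iSup_chain A B E hE⟩

end Groth.Agent.S6386
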