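import Groth.Statements.S6387
import Groth.Agent.Lib.Helper6.LocalFlat3

set_option autoImplicit false
universe u
open CategoryTheory
open CAlg

namespace Groth.Agent.S6387

set_option linter.unusedSectionVars false
set_option linter.style.haveILetI false

section helpers
open TensorProduct

section core

variable {R S : Type u} [CommRing R] [CommRing S] [IsLocalRing R] [IsLocalRing S]
  [IsNoetherianRing S] [Algebra R S] [IsLocalHom (algebraMap R S)]
  {X₂ X₁ X₀ : Type u} [AddCommGroup X₂] [Module S X₂]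
  [AddCommGroup X₁] [Module S X₁] [Module R X₁] [IsScalarTower R S X₁] [Module.Finite S X₁]
  [AddCommGroup X₀] [Module S X₀] [Module R X₀] [IsScalarTower R S X₀] [Module.Flat R X₀]

theorem mem_map_smul_top_iff {X : Type u} [AddCommGroup X] [Module S X] [Module R X]
    [IsScalarTower R S X] (I : Ideal R) (x : X) :
    x ∈ (I.map (algebraMap R S) • ⊤ : Submodule S X) ↔ x ∈ (I • ⊤ : Submodule R X) := by
  have := Ideal.smul_restrictScalars (R := R) (S := S) (M := X) I ⊤
  rw [Submodule.restrictScalars_top] at this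
  rw [← this]
  rfl

theorem core (d₁ : X₂ →ₗ[S] X₁) (d₀ : X₁ →ₗ[S] X₀) (hd : ∀ x, d₀ (d₁ x) = 0)
    (hex : ∀ x : X₁, d₀ x ∈ ((IsLocalRing.maximalIdeal R).map (algebraMap R S) • ⊤ : Submodule S X₀) →
      ∃ y, x - d₁ y ∈ ((IsLocalRing.maximalIdeal R).map (algebraMap R S) • ⊤ : Submodule S X₁)) :
    (∀ x, d₀ x = 0 → ∃ y, d₁ y = x) ∧ Module.Flat R (X₀ ⧸ LinearMap.range d₀) := by
  have hle : LinearMap.range d₁ ≤ LinearMap.ker d₀ := by
    rintro _ ⟨y, rfl⟩
    exact hd y
  let u : (X₁ ⧸ LinearMap.range d₁) →ₗ[S] X₀ := (LinearMap.range d₁).liftQ d₀ hle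
  let uR : (X₁ ⧸ LinearMap.range d₁) →ₗ[R] X₀ := u.restrictScalars R
  have h : Function.Injective (LinearMap.lTensor (R ⧸ IsLocalRing.maximalIdeal R) uR) := by
    rw [injective_iff_map_eq_zero]
    intro z hz
    obtain ⟨n, rfl⟩ := TensorProduct.mk_surjective R (X₁ ⧸ LinearMap.range d₁)
      (R ⧸ IsLocalRing.maximalIdeal R) Ideal.Quotient.mk_surjective z
    obtain ⟨x, rfl⟩ := Submodule.Quotient.mk_surjective _ n
    have h1 : TensorProduct.mk R (R ⧸ IsLocalRing.maximalIdeal R) X₀ 1 (d₀ x) = 0 := hz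
    rw [← LinearMap.mem_ker, LinearMap.ker_tensorProductMk, ← mem_map_smul_top_iff (S := S)] at h1
    obtain ⟨y, hy⟩ := hex x h1
    rw [mem_map_smul_top_iff] at hy
    have h2 : (Submodule.Quotient.mk x : X₁ ⧸ LinearMap.range d₁) =
        Submodule.Quotient.mk (x - d₁ y) := by
      rw [Submodule.Quotient.eq]
      exact ⟨y, by simp⟩
    rw [h2]
    change TensorProduct.mk R (R ⧸ IsLocalRing.maximalIdeal R) _ 1 _ = 0
    rw [← LinearMap.mem_ker, LinearMap.ker_tensorProductMk]
    have h3 : (Submodule.Quotient.mk (x - d₁ y) : X₁ ⧸ LinearMap.range d₁) =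
        ((LinearMap.range d₁).mkQ.restrictScalars R) (x - d₁ y) := rfl
    rw [h3]
    have := Submodule.mem_map_of_mem (f := (LinearMap.range d₁).mkQ.restrictScalars R) hy
    rw [Submodule.map_smul''] at this
    exact Submodule.smul_mono le_rfl le_top this
  have hinj := Groth.Agent.Lib.Helper6.LocalFlat.injective_of_residue S uR h
  have hflat := Groth.Agent.Lib.Helper6.LocalFlat.flat_coker_of_residue S uR h
  constructor
  · intro x hx
    have : (Submodule.Quotient.mk x : X₁ ⧸ LinearMap.range d₁) = 0 := by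
      apply hinj
      rw [map_zero]
      exact hx
    rw [Submodule.Quotient.mk_eq_zero] at this
    exact this
  · have hrange : LinearMap.range uR = (LinearMap.range d₀).restrictScalars R := by
      ext x
      constructor
      · rintro ⟨n, rfl⟩
        obtain ⟨x, rfl⟩ := Submodule.Quotient.mk_surjective _ n
        exact ⟨x, rfl⟩
      · rintro ⟨x, rfl⟩
        exact ⟨Submodule.Quotient.mk x, rfl⟩
    exact Module.Flat.of_linearEquiv
      ((Submodule.Quotient.restrictScalarsEquiv R (LinearMap.range d₀)).symm.trans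
        (Submodule.quotEquivOfEq _ _ hrange.symm))

end core

section wrap

variable {R S : Type u} [CommRing R] [CommRing S]
    [IsLocalRing R] [IsLocalRing S] [IsNoetherianRing R] [IsNoetherianRing S] [Algebra R S]
    [IsLocalHom (algebraMap R S)] (C : ChainComplex (ModuleCat.{u} S) ℕ)

theorem elementwise_of_exactAt (i : ℕ)
    (h : (((MonoidalCategory.tensorLeft
          (ModuleCat.of S (S ⧸ (IsLocalRing.maximalIdeal R).map (algebraMap R S)))).mapHomologicalComplex
          (ComplexShape.down ℕ)).obj C).ExactAt (i + 1)) :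
    ∀ x : C.X (i + 1), (C.d (i + 1) i).hom x ∈
        ((IsLocalRing.maximalIdeal R).map (algebraMap R S) • ⊤ : Submodule S (C.X i)) →
      ∃ y : C.X (i + 2), x - (C.d (i + 2) (i + 1)).hom y ∈
        ((IsLocalRing.maximalIdeal R).map (algebraMap R S) • ⊤ : Submodule S (C.X (i + 1))) := by
  intro x hx
  rw [HomologicalComplex.exactAt_iff' _ (i + 2) (i + 1) i (by simp) (by simp),
    ShortComplex.moduleCat_exact_iff] at h
  have h1 := h ((1 : S ⧸ (IsLocalRing.maximalIdeal R).map (algebraMap R S)) ⊗ₜ[S] x) (by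
    dsimp
    erw [ModuleCat.MonoidalCategory.whiskerLeft_apply]
    change TensorProduct.mk S _ _ 1 _ = 0
    rw [← LinearMap.mem_ker, LinearMap.ker_tensorProductMk]
    exact hx)
  obtain ⟨w, hw⟩ := h1
  obtain ⟨y, rfl⟩ := TensorProduct.mk_surjective S (C.X (i + 2))
    (S ⧸ (IsLocalRing.maximalIdeal R).map (algebraMap R S)) Ideal.Quotient.mk_surjective w
  refine ⟨y, ?_⟩
  dsimp at hw
  erw [ModuleCat.MonoidalCategory.whiskerLeft_apply] at hw
  have key : TensorProduct.mk S (S ⧸ (IsLocalRing.maximalIdeal R).map (algebraMap R S)) (C.X (i + 1)) 1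
      (x - (C.d (i + 2) (i + 1)).hom y) = 0 := by
    rw [map_sub, sub_eq_zero]
    exact hw.symm
  rw [← LinearMap.mem_ker, LinearMap.ker_tensorProductMk] at key
  exact key

noncomputable def homologyZeroIso :
    C.homology 0 ≅ ModuleCat.of S (C.X 0 ⧸ LinearMap.range (C.d 1 0).hom) :=
  C.isoHomologyι₀ ≪≫ ShortComplex.opcyclesMapIso (C.isoSc' 1 0 0 (by simp) (by simp)) ≪≫
    (C.sc' 1 0 0).moduleCatOpcyclesIso

theorem main (e : ℕ)
    (hzero : ∀ j, e < j → Limits.IsZero (C.X j)) (hfin : ∀ j, Module.Finite S (C.X j))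
    (hflat : ∀ j, Module.Flat R ((ModuleCat.restrictScalars (algebraMap R S)).obj (C.X j)))
    (hex : ∀ j, 1 ≤ j → j ≤ e →
      (((MonoidalCategory.tensorLeft
          (ModuleCat.of S (S ⧸ (IsLocalRing.maximalIdeal R).map (algebraMap R S)))).mapHomologicalComplex
          (ComplexShape.down ℕ)).obj C).ExactAt j) :
    (∀ j, 1 ≤ j → j ≤ e → C.ExactAt j) ∧
      Module.Flat R ((ModuleCat.restrictScalars (algebraMap R S)).obj (C.homology 0)) := by
  letI inst : ∀ j, Module R (C.X j) := fun j => Module.compHom (C.X j) (algebraMap R S)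
  haveI tower : ∀ j, IsScalarTower R S (C.X j) := fun j =>
    IsScalarTower.of_algebraMap_smul (fun r x => rfl)
  haveI flat : ∀ j, Module.Flat R (C.X j) := hflat
  haveI := hfin
  have key : ∀ i : ℕ, (∀ x : C.X (i + 1), (C.d (i + 1) i).hom x ∈
        ((IsLocalRing.maximalIdeal R).map (algebraMap R S) • ⊤ : Submodule S (C.X i)) →
      ∃ y : C.X (i + 2), x - (C.d (i + 2) (i + 1)).hom y ∈
        ((IsLocalRing.maximalIdeal R).map (algebraMap R S) • ⊤ : Submodule S (C.X (i + 1)))) →
      (∀ x, (C.d (i + 1) i).hom x = 0 → ∃ y, (C.d (i + 2) (i + 1)).hom y = x) ∧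
        Module.Flat R (C.X i ⧸ LinearMap.range (C.d (i + 1) i).hom) := by
    intro i h
    refine core (C.d (i + 2) (i + 1)).hom (C.d (i + 1) i).hom ?_ h
    intro x
    have := C.d_comp_d (i + 2) (i + 1) i
    exact congrArg (fun f => f.hom x) this
  constructor
  · intro j hj1 hje
    obtain ⟨i, rfl⟩ : ∃ i, j = i + 1 := ⟨j - 1, by omega⟩
    rw [HomologicalComplex.exactAt_iff' _ (i + 2) (i + 1) i (by simp) (by simp),
      ShortComplex.moduleCat_exact_iff]
    intro x hx
    exact (key i (elementwise_of_exactAt C i (hex _ hj1 hje))).1 x hx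
  · have h0 : Module.Flat R (C.X 0 ⧸ LinearMap.range (C.d 1 0).hom) := by
      refine (key 0 ?_).2
      by_cases he : 1 ≤ e
      · exact elementwise_of_exactAt C 0 (hex 1 le_rfl he)
      · intro x _
        have hz := hzero 1 (by omega)
        haveI := ModuleCat.subsingleton_of_isZero hz
        refine ⟨0, ?_⟩
        rw [Subsingleton.elim x 0]
        simp
    letI : Module R (C.homology 0) := Module.compHom _ (algebraMap R S)
    haveI : IsScalarTower R S (C.homology 0) := IsScalarTower.of_algebraMap_smul (fun r x => rfl)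
    have e1 : (C.homology 0) ≃ₗ[R] (C.X 0 ⧸ LinearMap.range (C.d 1 0).hom) :=
      (homologyZeroIso C).toLinearEquiv.restrictScalars R
    exact Module.Flat.of_linearEquiv e1

end wrap

end helpers

/-- Let R and S be Noetherian local rings, R → S a local ring map, and m the maximal ideal of R. Take a
bounded complex F_e → … → F_1 → F_0 of finitely generated S-modules, zero to the left of F_e (a
chain complex C with C_j = 0 for j > e) such that every F_j is flat over R and the complex 0 →
F_e/mF_e → … → F_0/mF_0 (C tensored over S with S/mS) is exact at F_e, …, F_1. Then 0 → F_e → … →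
F_0 is exact at F_e, …, F_1 and the cokernel of F_1 → F_0 (the homology of C in degree 0) is flat
over R. -/
theorem result {R S : Type u} [CommRing R] [CommRing S]
    [IsLocalRing R] [IsLocalRing S] [IsNoetherianRing R] [IsNoetherianRing S] [Algebra R S]
    [IsLocalHom (algebraMap R S)] (C : ChainComplex (ModuleCat.{u} S) ℕ) (e : ℕ)
    (hzero : ∀ j, e < j → Limits.IsZero (C.X j)) (hfin : ∀ j, Module.Finite S (C.X j))
    (hflat : ∀ j, Module.Flat R ((ModuleCat.restrictScalars (algebraMap R S)).obj (C.X j)))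
    (hex : ∀ j, 1 ≤ j → j ≤ e →
      (((MonoidalCategory.tensorLeft
          (ModuleCat.of S (S ⧸ (IsLocalRing.maximalIdeal R).map (algebraMap R S)))).mapHomologicalComplex
          (ComplexShape.down ℕ)).obj C).ExactAt j) :
    (∀ j, 1 ≤ j → j ≤ e → C.ExactAt j) ∧
      Module.Flat R ((ModuleCat.restrictScalars (algebraMap R S)).obj (C.homology 0)) := by
  exact main C e hzero hfin hflat hex

end Groth.Agent.S6387
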