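import Groth.Statements.S6388
import Mathlib

set_option autoImplicit false
universe u
open CAlg

namespace Groth.Agent.S6388

section
open TensorProduct
variable (R : Type u) [CommRing R] {M N M' : Type u}
    [AddCommGroup M] [Module R M] [AddCommGroup N] [Module R N] [AddCommGroup M'] [Module R M']
    (f : M →ₗ[R] N) (g : M →ₗ[R] M') (Q : Type u) [AddCommGroup Q] [Module R Q]

theorem key_iff :
    Function.Injective (((LinearMap.range (g.prod (-f))).mkQ ∘ₗ LinearMap.inl R M' N).rTensor Q) ↔
      LinearMap.ker (f.rTensor Q) ≤ LinearMap.ker (g.rTensor Q) := by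
  set φ : M →ₗ[R] M' × N := g.prod (-f) with hφ
  set L := LinearMap.range φ with hL
  have hmkφ : L.mkQ ∘ₗ φ = 0 := by
    ext m
    simp only [LinearMap.comp_apply, Submodule.mkQ_apply, LinearMap.zero_apply]
    rw [Submodule.Quotient.mk_eq_zero]
    exact ⟨m, rfl⟩
  have hfst : LinearMap.fst R M' N ∘ₗ φ = g := by ext m; simp [φ]
  have hsnd : LinearMap.snd R M' N ∘ₗ φ = -f := by ext m; simp [φ]
  have hker : LinearMap.ker (L.mkQ.rTensor Q) = LinearMap.range (φ.rTensor Q) := by
    rw [rTensor_mkQ]
    have h1 : φ = L.subtype ∘ₗ φ.rangeRestrict := by ext m <;> rfl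
    conv_rhs => rw [h1, LinearMap.rTensor_comp, LinearMap.range_comp]
    have h2 : LinearMap.range (φ.rangeRestrict.rTensor Q) = ⊤ := by
      rw [LinearMap.range_eq_top]
      exact LinearMap.rTensor_surjective Q φ.surjective_rangeRestrict
    rw [h2, Submodule.map_top]
  constructor
  · intro hinj z hz
    rw [LinearMap.mem_ker] at hz ⊢
    apply hinj
    rw [map_zero, LinearMap.rTensor_comp, LinearMap.comp_apply]
    have h3 : (LinearMap.inl R M' N).rTensor Q (g.rTensor Q z) = φ.rTensor Q z := by
      have : φ = LinearMap.inl R M' N ∘ₗ g - LinearMap.inr R M' N ∘ₗ f := by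
        ext m <;> simp [φ]
      rw [this, LinearMap.rTensor_sub, LinearMap.sub_apply, LinearMap.rTensor_comp, LinearMap.rTensor_comp, LinearMap.comp_apply, LinearMap.comp_apply, hz, map_zero, sub_zero]
    rw [h3, ← LinearMap.comp_apply, ← LinearMap.rTensor_comp, hmkφ, LinearMap.rTensor_zero, LinearMap.zero_apply]
  · intro hle
    rw [injective_iff_map_eq_zero]
    intro m' hm'
    rw [LinearMap.rTensor_comp, LinearMap.comp_apply, ← LinearMap.mem_ker, hker] at hm'
    obtain ⟨z, hz⟩ := hm'
    have h4 : f.rTensor Q z = 0 := by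
      have := congrArg ((LinearMap.snd R M' N).rTensor Q) hz
      rw [← LinearMap.comp_apply, ← LinearMap.rTensor_comp, hsnd, ← LinearMap.comp_apply, ← LinearMap.rTensor_comp] at this
      have h5 : LinearMap.snd R M' N ∘ₗ LinearMap.inl R M' N = 0 := by ext; simp
      rw [h5, LinearMap.rTensor_zero, LinearMap.zero_apply, LinearMap.rTensor_neg, LinearMap.neg_apply, neg_eq_zero] at this
      exact this
    have h6 : g.rTensor Q z = 0 := hle h4
    have := congrArg ((LinearMap.fst R M' N).rTensor Q) hz
    rw [← LinearMap.comp_apply, ← LinearMap.rTensor_comp, hfst, ← LinearMap.comp_apply, ← LinearMap.rTensor_comp] at this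
    have h7 : LinearMap.fst R M' N ∘ₗ LinearMap.inl R M' N = LinearMap.id := by ext; simp
    rw [h7, LinearMap.rTensor_id, LinearMap.id_apply, h6] at this
    exact this.symm
end

/-- Let f : M → N and g : M → M' be maps of R-modules and let N' be their pushout, realised as the
quotient of M' × N by the submodule of elements (g x, -f x). Then g dominates f — for every module Q
the kernel of f ⊗ id_Q is contained in the kernel of g ⊗ id_Q — if and only if the canonical map M'
→ N' is universally injective. -/
theorem result (R : Type u) [CommRing R] {M N M' : Type u}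
    [AddCommGroup M] [Module R M] [AddCommGroup N] [Module R N] [AddCommGroup M'] [Module R M']
    (f : M →ₗ[R] N) (g : M →ₗ[R] M') :
    (∀ (Q : Type u) [AddCommGroup Q] [Module R Q], LinearMap.ker (f.rTensor Q) ≤ LinearMap.ker (g.rTensor Q)) ↔
      CAlgX.UniversallyInjective R
        ((LinearMap.range (g.prod (-f))).mkQ ∘ₗ LinearMap.inl R M' N) := by
  unfold CAlgX.UniversallyInjective
  constructor
  · intro h Q _ _
    exact (key_iff R f g Q).2 (h Q)
  · intro h Q _ _
    exact (key_iff R f g Q).1 (h Q)

end Groth.Agent.S6388
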