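import Groth.Statements.S6389
import Groth.Agent.Lib.Helper86.Devissage

set_option autoImplicit false
universe u
open CAlg

namespace Groth.Agent.S6389

/-- Let (M_s)_{s ∈ S} be a direct sum dévissage of an R-module M: an increasing family of submodules
indexed by a well-ordered set S with M_s = ⋃_{t<s} M_t at every index s that is not a successor (in
particular the first term is 0), ⋃_s M_s = M, and M_s a direct summand of M_t whenever t is the
successor of s. Then M is isomorphic to the direct sum, over the successor steps s ⋖ t, of the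
quotients M_t/M_s (existence of an isomorphism; the map in the source depends on chosen
complements). -/
theorem result (R : Type u) [CommRing R] (M : Type u)
    [AddCommGroup M] [Module R M] (S : Type u) [LinearOrder S] [WellFoundedLT S] (Mf : S → Submodule R M)
    (hmono : Monotone Mf) :
    (∀ s : S, Order.IsSuccPrelimit s → Mf s = ⨆ t : {t : S // t < s}, Mf t.1) →
      (⨆ s, Mf s) = ⊤ →
      (∀ s t : S, s ⋖ t → ∃ C : Submodule R M, Mf s ⊓ C = ⊥ ∧ Mf s ⊔ C = Mf t) →
      Nonempty (M ≃ₗ[R] DirectSum {p : S × S // p.1 ⋖ p.2}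
        fun p => ↥(Mf p.1.2) ⧸ Submodule.comap (Mf p.1.2).subtype (Mf p.1.1)) := by
  open Groth.Agent.Lib.Helper86.Devissage in
  classical
  intro hlim htop hcompl
  have hex : ∀ p : Idx S, ∃ C : Submodule R M, Mf p.1.1 ⊓ C = ⊥ ∧ Mf p.1.1 ⊔ C = Mf p.1.2 :=
    fun p => hcompl p.1.1 p.1.2 p.2
  choose C hC1 hC2 using hex
  have hind : iSupIndep C := indep Mf hmono C hC2 hC1
  have hspan : (⨆ p, C p) = ⊤ := by
    rw [eq_top_iff, ← htop]
    exact iSup_le fun s => span_le Mf hlim C hC2 s
  have hint : DirectSum.IsInternal C :=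
    (DirectSum.isInternal_submodule_iff_iSupIndep_and_iSup_eq_top C).2 ⟨hind, hspan⟩
  let e1 : (DirectSum (Idx S) fun p => C p) ≃ₗ[R] M := LinearEquiv.ofBijective (DirectSum.coeLinearMap C) hint
  let e2 : (DirectSum (Idx S) fun p => C p) ≃ₗ[R] DirectSum (Idx S)
      fun p => ↥(Mf p.1.2) ⧸ Submodule.comap (Mf p.1.2).subtype (Mf p.1.1) :=
    DFinsupp.mapRange.linearEquiv (fun p => complEquiv (Mf p.1.1) (C p) (Mf p.1.2) (hC1 p) (hC2 p))
  exact ⟨e1.symm.trans e2⟩

end Groth.Agent.S6389
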