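import Groth.Statements.S6390
import Mathlib
import Groth.Agent.Lib.Helper86.Devissage

set_option autoImplicit false
universe u
open scoped Classical
open CAlg

namespace Groth.Agent.S6390

open Groth.Agent.Lib.Helper86.Devissage

section
variable {R : Type u} [CommRing R] {M M' : Type u} [AddCommGroup M] [Module R M] [AddCommGroup M'] [Module R M']

theorem cg_of_surjective (f : M →ₗ[R] M') (hf : Function.Surjective f) (h : CAlg.IsCountablyGenerated R M) :
    CAlg.IsCountablyGenerated R M' := by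
  obtain ⟨s, hs, hspan⟩ := h
  refine ⟨f '' s, hs.image f, ?_⟩
  rw [← Submodule.map_span, hspan, Submodule.map_top, LinearMap.range_eq_top]
  exact hf

theorem cg_of_equiv (e : M ≃ₗ[R] M') (h : CAlg.IsCountablyGenerated R M) : CAlg.IsCountablyGenerated R M' :=
  cg_of_surjective e.toLinearMap e.surjective h
end

theorem forward (R : Type u) [CommRing R] (M : Type u) [AddCommGroup M] [Module R M]
    (ι : Type u) (N : ι → Submodule R M) (hint : DirectSum.IsInternal N)
    (hcg : ∀ i, CAlg.IsCountablyGenerated R (N i)) :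
    ∃ (S : Type u) (_ : LinearOrder S) (_ : WellFoundedLT S) (Mf : S → Submodule R M), Monotone Mf ∧
        (∀ s : S, Order.IsSuccPrelimit s → Mf s = ⨆ t : {t : S // t < s}, Mf t.1) ∧
        (⨆ s, Mf s) = ⊤ ∧
        (∀ s t : S, s ⋖ t → ∃ C : Submodule R M, Mf s ⊓ C = ⊥ ∧ Mf s ⊔ C = Mf t ∧
          CAlg.IsCountablyGenerated R (↥(Mf t) ⧸ Submodule.comap (Mf t).subtype (Mf s))) := by
  have hind : iSupIndep N := hint.submodule_iSupIndep
  have htop : (⨆ i, N i) = ⊤ := hint.submodule_iSup_eq_top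
  clear hint
  obtain ⟨lo, wf⟩ := exists_wellFoundedLT ι
  let Mf : WithTop ι → Submodule R M := fun s => ⨆ (i : ι) (_ : (i : WithTop ι) < s), N i
  have hmono : Monotone Mf := by
    intro s t hst
    exact iSup_mono fun i => iSup_mono' fun hi => ⟨lt_of_lt_of_le hi hst, le_rfl⟩
  refine ⟨WithTop ι, inferInstance, inferInstance, Mf, hmono, ?_, ?_, ?_⟩
  · intro s hs
    apply le_antisymm
    · refine iSup_le fun i => iSup_le fun hi => ?_
      have h1 : ¬ ((i : WithTop ι) ⋖ s) := hs _
      obtain ⟨c, hc1, hc2⟩ := (not_covBy_iff hi).1 h1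
      refine le_trans ?_ (le_iSup (fun t : {t : WithTop ι // t < s} => Mf t.1) ⟨c, hc2⟩)
      exact le_iSup₂ (f := fun (i : ι) (_ : (i : WithTop ι) < c) => N i) i hc1
    · exact iSup_le fun t => hmono t.2.le
  · rw [eq_top_iff, ← htop]
    refine iSup_le fun i => ?_
    refine le_trans ?_ (le_iSup Mf ⊤)
    exact le_iSup₂ (f := fun (i : ι) (_ : (i : WithTop ι) < ⊤) => N i) i (WithTop.coe_lt_top i)
  · intro s t hst
    have hs : s ≠ ⊤ := ne_top_of_lt hst.lt
    obtain ⟨j, rfl⟩ := WithTop.ne_top_iff_exists.1 hs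
    have h1 : Mf (j : WithTop ι) ⊓ N j = ⊥ := by
      have := (iSupIndep_def.1 hind j).symm
      rw [disjoint_iff] at this
      rw [eq_bot_iff, ← this]
      refine inf_le_inf_right _ ?_
      refine iSup_le fun i => iSup_le fun hi => ?_
      have hne : i ≠ j := fun h => by rw [h] at hi; exact lt_irrefl _ hi
      exact le_iSup₂ (f := fun (i : ι) (_ : i ≠ j) => N i) i hne
    have h2 : Mf (j : WithTop ι) ⊔ N j = Mf t := by
      apply le_antisymm
      · refine sup_le (hmono hst.le) ?_
        exact le_iSup₂ (f := fun (i : ι) (_ : (i : WithTop ι) < t) => N i) j hst.lt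
      · refine iSup_le fun i => iSup_le fun hi => ?_
        have hle : (i : WithTop ι) ≤ (j : WithTop ι) := hst.le_of_lt hi
        rcases lt_or_eq_of_le hle with h | h
        · exact le_trans (le_iSup₂ (f := fun (i : ι) (_ : (i : WithTop ι) < (j : WithTop ι)) => N i) i h) le_sup_left
        · have : i = j := WithTop.coe_injective h
          rw [this]; exact le_sup_right
    refine ⟨N j, h1, h2, ?_⟩
    exact cg_of_equiv (complEquiv (Mf (j : WithTop ι)) (N j) (Mf t) h1 h2) (hcg j)

theorem backward (R : Type u) [CommRing R] (M : Type u) [AddCommGroup M] [Module R M]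
    (S : Type u) [LinearOrder S] [WellFoundedLT S] (Mf : S → Submodule R M) (hmono : Monotone Mf)
    (hlim : ∀ s : S, Order.IsSuccPrelimit s → Mf s = ⨆ t : {t : S // t < s}, Mf t.1)
    (htop : (⨆ s, Mf s) = ⊤)
    (hcompl : ∀ s t : S, s ⋖ t → ∃ C : Submodule R M, Mf s ⊓ C = ⊥ ∧ Mf s ⊔ C = Mf t ∧
          CAlg.IsCountablyGenerated R (↥(Mf t) ⧸ Submodule.comap (Mf t).subtype (Mf s))) :
    ∃ (ι : Type u) (N : ι → Submodule R M), DirectSum.IsInternal N ∧ ∀ i, CAlg.IsCountablyGenerated R (N i) := by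
  have hex : ∀ p : Idx S, ∃ C : Submodule R M, Mf p.1.1 ⊓ C = ⊥ ∧ Mf p.1.1 ⊔ C = Mf p.1.2 ∧
      CAlg.IsCountablyGenerated R (↥(Mf p.1.2) ⧸ Submodule.comap (Mf p.1.2).subtype (Mf p.1.1)) :=
    fun p => hcompl p.1.1 p.1.2 p.2
  choose C hC1 hC2 hC3 using hex
  have hind : iSupIndep C := indep Mf hmono C hC2 hC1
  have hspan : (⨆ p, C p) = ⊤ := by
    rw [eq_top_iff, ← htop]
    exact iSup_le fun s => span_le Mf hlim C hC2 s
  letI : DecidableEq (Idx S) := fun a b => Classical.propDecidable (a = b)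
  refine ⟨Idx S, C, (DirectSum.isInternal_submodule_iff_iSupIndep_and_iSup_eq_top C).2 ⟨hind, hspan⟩, fun p => ?_⟩
  exact cg_of_equiv (complEquiv (Mf p.1.1) (C p) (Mf p.1.2) (hC1 p) (hC2 p)).symm (hC3 p)

/-- An R-module M is a direct sum of countably generated modules if and only if it admits a Kaplansky
dévissage, i.e. an increasing family of submodules (M_s) indexed by a well-ordered set S with M_s =
⋃_{t<s} M_t at non-successor indices (so the first term is 0), ⋃_s M_s = M, and, whenever t is the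
successor of s, M_s a direct summand of M_t with M_t/M_s countably generated. -/
theorem result (R : Type u) [CommRing R] (M : Type u)
    [AddCommGroup M] [Module R M] :
    (∃ (ι : Type u) (N : ι → Submodule R M), DirectSum.IsInternal N ∧ ∀ i, CAlg.IsCountablyGenerated R (N i)) ↔
      ∃ (S : Type u) (_ : LinearOrder S) (_ : WellFoundedLT S) (Mf : S → Submodule R M), Monotone Mf ∧
        (∀ s : S, Order.IsSuccPrelimit s → Mf s = ⨆ t : {t : S // t < s}, Mf t.1) ∧
        (⨆ s, Mf s) = ⊤ ∧
        (∀ s t : S, s ⋖ t → ∃ C : Submodule R M, Mf s ⊓ C = ⊥ ∧ Mf s ⊔ C = Mf t ∧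
          CAlg.IsCountablyGenerated R (↥(Mf t) ⧸ Submodule.comap (Mf t).subtype (Mf s))) := by
  constructor
  · rintro ⟨ι, N, hint, hcg⟩
    exact forward R M ι N hint hcg
  · rintro ⟨S, lo, wf, Mf, hmono, hlim, htop, hcompl⟩
    exact backward R M S Mf hmono hlim htop hcompl

end Groth.Agent.S6390
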