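import Groth.Statements.S6391
import Groth.Agent.Lib.Helper87.IndEtaleHens

set_option autoImplicit false
universe u
open CAlg

namespace Groth.Agent.S6391

/-- Let R be a ring, S and S' henselian local rings which are filtered colimits of étale R-algebras, and
K a field together with R-algebra maps S → K and S' → K identifying K with the residue field of each
(surjective with kernel the maximal ideal). Then exactly one isomorphism of R-algebras S → S'
commutes with the two maps to K. -/
theorem result (R S S' K : Type u) [CommRing R]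
    [CommRing S] [CommRing S'] [Field K] [HenselianLocalRing S] [HenselianLocalRing S']
    [Algebra R S] [Algebra R S'] [Algebra R K] (hS : EtPBC.IsIndEtale R S) (hS' : EtPBC.IsIndEtale R S')
    (u : S →ₐ[R] K) (u' : S' →ₐ[R] K) (hu : Function.Surjective u) (hu' : Function.Surjective u')
    (hku : RingHom.ker u.toRingHom = IsLocalRing.maximalIdeal S)
    (hku' : RingHom.ker u'.toRingHom = IsLocalRing.maximalIdeal S') :
    ∃! e : S ≃ₐ[R] S', u'.comp (e : S →ₐ[R] S') = u := by
  obtain ⟨φ, hφ⟩ := Groth.Agent.Lib.Helper87.IndEt.HasPres.exists_lift hS u u' hu' hku'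
  obtain ⟨ψ, hψ⟩ := Groth.Agent.Lib.Helper87.IndEt.HasPres.exists_lift hS' u' u hu hku
  have h1 : ψ.comp φ = AlgHom.id R S :=
    Groth.Agent.Lib.Helper87.IndEt.HasPres.algHom_ext hS u u hku _ _
      (by rw [← AlgHom.comp_assoc, hψ, hφ]) (AlgHom.comp_id _)
  have h2 : φ.comp ψ = AlgHom.id R S' :=
    Groth.Agent.Lib.Helper87.IndEt.HasPres.algHom_ext hS' u' u' hku' _ _
      (by rw [← AlgHom.comp_assoc, hφ, hψ]) (AlgHom.comp_id _)
  refine ⟨AlgEquiv.ofAlgHom φ ψ h2 h1, ?_, ?_⟩
  · ext x
    exact DFunLike.congr_fun hφ x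
  · intro e he
    apply AlgEquiv.coe_toAlgHom_injective
    exact Groth.Agent.Lib.Helper87.IndEt.HasPres.algHom_ext hS u u' hku' _ _ he hφ

end Groth.Agent.S6391
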