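import Groth.Statements.S6392
import Groth.Agent.S6357

set_option autoImplicit false
universe u
open CAlg

namespace Groth.Agent.S6392

/-- The restricted colimit along a monotone sequence of indices maps bijectively to the full
colimit as soon as it hits every element and kernels die one step later. -/
theorem bijective_lift_of_chain (R : Type u) [CommRing R]
    {ι : Type u} [Preorder ι] [IsDirected ι (· ≤ ·)] [DecidableEq ι] (G : ι → Type u)
    [∀ i, AddCommGroup (G i)] [∀ i, Module R (G i)]
    (f : ∀ i j, i ≤ j → G i →ₗ[R] G j) [DirectedSystem G fun i j h => f i j h]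
    (c : ℕ → ι) (hc : Monotone c)
    (hsurj : ∀ x : Module.DirectLimit G f, ∃ n y, Module.DirectLimit.of R ι G f (c n) y = x)
    (hinj : ∀ n (x : G (c n)), Module.DirectLimit.of R ι G f (c n) x = 0 →
      f (c n) (c (n + 1)) (hc n.le_succ) x = 0) :
    Function.Bijective (Module.DirectLimit.lift R (Set.range c) (fun i : Set.range c => G i.1)
        (fun (i j : Set.range c) (h : i ≤ j) => f i.1 j.1 h)
        (fun i : Set.range c => Module.DirectLimit.of R ι G f i.1)
        (fun (i j : Set.range c) (h : i ≤ j) (x : G i.1) => Module.DirectLimit.of_f)) := by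
  haveI : Nonempty (Set.range c) := ⟨⟨c 0, 0, rfl⟩⟩
  haveI : IsDirected (Set.range c) (· ≤ ·) := by
    refine ⟨?_⟩
    rintro ⟨_, n, rfl⟩ ⟨_, m, rfl⟩
    exact ⟨⟨c (max n m), _, rfl⟩, hc (le_max_left n m), hc (le_max_right n m)⟩
  haveI : DirectedSystem (fun i : Set.range c => G i.1)
      (fun (i j : Set.range c) (h : i ≤ j) => f i.1 j.1 h) := by
    refine ⟨?_, ?_⟩
    · intro i x
      exact DirectedSystem.map_self' (f := fun i j h => f i j h) x
    · intro k j i hij hjk x
      exact DirectedSystem.map_map' (f := fun i j h => f i j h) hij hjk x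
  constructor
  · rw [injective_iff_map_eq_zero]
    intro z hz
    obtain ⟨⟨_, n, rfl⟩, x, rfl⟩ := Module.DirectLimit.exists_of z
    rw [Module.DirectLimit.lift_of] at hz
    have h1 := hinj n x hz
    have h2 : (⟨c n, n, rfl⟩ : Set.range c) ≤ ⟨c (n + 1), n + 1, rfl⟩ := hc n.le_succ
    rw [← Module.DirectLimit.of_f (hij := h2)]
    have h3 : f (c n) (c (n + 1)) h2 x = 0 := h1
    rw [h3, map_zero]
  · intro x
    obtain ⟨n, y, rfl⟩ := hsurj x
    refine ⟨Module.DirectLimit.of R _ _ _ ⟨c n, n, rfl⟩ y, ?_⟩
    rw [Module.DirectLimit.lift_of]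


/-- Suppose M is the colimit of finitely presented R-modules G_i along a directed system over a nonempty
directed index set (transition maps f_ij), and M is both Mittag-Leffler and countably generated.
Then some countable directed subset I' of the indices already computes M: the canonical map from the
colimit of the G_i with i ∈ I' to M is bijective. -/
theorem result (R : Type u) [CommRing R]
    {ι : Type u} [Preorder ι] [IsDirected ι (· ≤ ·)] [Nonempty ι] [DecidableEq ι] (G : ι → Type u)
    [∀ i, AddCommGroup (G i)] [∀ i, Module R (G i)] [∀ i, Module.FinitePresentation R (G i)]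
    (f : ∀ i j, i ≤ j → G i →ₗ[R] G j) [DirectedSystem G fun i j h => f i j h]
    (hML : CAlg.IsMittagLeffler R (Module.DirectLimit G f))
    (hc : CAlg.IsCountablyGenerated R (Module.DirectLimit G f)) :
    ∃ I' : Set ι, I'.Countable ∧ DirectedOn (· ≤ ·) I' ∧
      Function.Bijective (Module.DirectLimit.lift R I' (fun i : I' => G i.1)
        (fun (i j : I') (h : i ≤ j) => f i.1 j.1 h)
        (fun i : I' => Module.DirectLimit.of R ι G f i.1)
        (fun (i j : I') (h : i ≤ j) (x : G i.1) => Module.DirectLimit.of_f)) := by
  classical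
  obtain ⟨s, hs, hspan⟩ := hc
  have hj := (Groth.Agent.S6357.result R G f).1 hML
  choose j hij hfac using hj
  -- enumerate a generating set
  have hs' : (insert (0 : Module.DirectLimit G f) s).Countable := hs.insert 0
  obtain ⟨e, he⟩ := hs'.exists_eq_range (Set.insert_nonempty 0 s)
  have hspan' : Submodule.span R (Set.range e) = ⊤ := by
    rw [← he, eq_top_iff, ← hspan]
    exact Submodule.span_mono (Set.subset_insert 0 s)
  choose i0 g hg using fun n => Module.DirectLimit.exists_of (e n)
  -- the chain
  let next : ι → ℕ → ι := fun a n => Classical.choose (exists_ge_ge (j a) (i0 (n + 1)))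
  have hnext : ∀ a n, j a ≤ next a n ∧ i0 (n + 1) ≤ next a n := fun a n =>
    Classical.choose_spec (exists_ge_ge (j a) (i0 (n + 1)))
  let c : ℕ → ι := fun n => Nat.rec (i0 0) (fun n cn => next cn n) n
  have hc0 : c 0 = i0 0 := rfl
  have hcs : ∀ n, c (n + 1) = next (c n) n := fun n => rfl
  have hjc : ∀ n, j (c n) ≤ c (n + 1) := fun n => by rw [hcs]; exact (hnext _ _).1
  have hstep : ∀ n, c n ≤ c (n + 1) := fun n => (hij (c n)).trans (hjc n)
  have hmono : Monotone c := monotone_nat_of_le_succ hstep
  have hi0 : ∀ n, i0 n ≤ c n := by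
    intro n
    cases n with
    | zero => exact le_of_eq hc0.symm
    | succ n => rw [hcs]; exact (hnext _ _).2
  refine ⟨Set.range c, Set.countable_range c, ?_, ?_⟩
  · rintro _ ⟨n, rfl⟩ _ ⟨m, rfl⟩
    exact ⟨c (max n m), ⟨_, rfl⟩, hmono (le_max_left n m), hmono (le_max_right n m)⟩
  · apply bijective_lift_of_chain R G f c hmono
    · -- surjectivity: the set of elements coming from the chain is a submodule containing `e n`
      let S : Submodule R (Module.DirectLimit G f) :=
        { carrier := {x | ∃ n y, Module.DirectLimit.of R ι G f (c n) y = x}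
          add_mem' := by
            rintro _ _ ⟨n, y, rfl⟩ ⟨m, z, rfl⟩
            refine ⟨max n m, f (c n) (c (max n m)) (hmono (le_max_left n m)) y +
              f (c m) (c (max n m)) (hmono (le_max_right n m)) z, ?_⟩
            rw [map_add, Module.DirectLimit.of_f, Module.DirectLimit.of_f]
          zero_mem' := ⟨0, 0, map_zero _⟩
          smul_mem' := by
            rintro r _ ⟨n, y, rfl⟩
            exact ⟨n, r • y, map_smul _ _ _⟩ }
      have hS : S = ⊤ := by
        rw [eq_top_iff, ← hspan', Submodule.span_le]
        rintro _ ⟨n, rfl⟩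
        refine ⟨n, f (i0 n) (c n) (hi0 n) (g n), ?_⟩
        rw [Module.DirectLimit.of_f, hg]
      intro x
      have : x ∈ S := hS ▸ Submodule.mem_top
      exact this
    · intro n x hx
      obtain ⟨k, hk, hk0⟩ := Module.DirectLimit.of.zero_exact hx
      obtain ⟨h, hh⟩ := hfac (c n) k hk
      have h1 : f (c n) (j (c n)) (hij (c n)) x = 0 := by
        rw [hh, LinearMap.comp_apply, hk0, map_zero]
      have h2 := DirectedSystem.map_map' (f := fun i j h => f i j h) (hij (c n)) (hjc n) x
      rw [← h2, h1, map_zero]

end Groth.Agent.S6392
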