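import Groth.Statements.S6393
import Groth.Agent.Lib.Helper17.HomLift
import Mathlib.Tactic

set_option autoImplicit false
open CategoryTheory
universe v₂ u₂ v u
open FibCat

namespace Groth.Agent.S6393

open CategoryTheory.Functor Groth.Agent.Lib.Helper17 in
/-- Given `p : S ⥤ C`, saying that p is fibred in groupoids is equivalent to saying that p is a fibred
functor whose fibre category over every object of C is a groupoid. -/
theorem result {C : Type u} [Category.{v} C] {S : Type u₂} [Category.{v₂} S] (p : S ⥤ C) :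
    FibCat.IsFibGrpd p ↔ (p.IsFibered ∧ ∀ U : C, IsGroupoid (p.Fiber U)) := by
  constructor
  · intro h
    refine ⟨?_, ?_⟩
    · apply IsFibered.of_exists_isStronglyCartesian
      intro a R f
      obtain ⟨b, φ, hφ⟩ := h.exists_lift (x := a) f
      exact ⟨b, φ, sc_of_homLift hφ (h.isStronglyCartesian φ)⟩
    · intro U
      constructor
      intro X Y φ
      have h1 : p.IsHomLift (𝟙 U) φ.1 := φ.2
      have h2 : p.IsStronglyCartesian (𝟙 U) φ.1 := sc_of_homLift h1 (h.isStronglyCartesian φ.1)
      have h3 : IsIso φ.1 := IsStronglyCartesian.isIso_of_base_isIso p (𝟙 U) φ.1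
      have h4 : p.IsHomLift (𝟙 U) (inv φ.1) := IsHomLift.lift_id_inv_isIso p U φ.1
      refine ⟨⟨⟨inv φ.1, h4⟩, ?_, ?_⟩⟩
      · apply Subtype.ext
        exact IsIso.hom_inv_id φ.1
      · apply Subtype.ext
        exact IsIso.inv_hom_id φ.1
  · rintro ⟨hfib, hgrpd⟩
    constructor
    · intro x V f
      obtain ⟨b, φ, hφ⟩ := IsPreFibered.exists_isCartesian' (p := p) f
      exact ⟨b, φ, inferInstance⟩
    · intro y x φ
      obtain ⟨y', ψ, hψ⟩ := IsPreFibered.exists_isCartesian' (p := p) (a := x) (p.map φ)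
      have hψs : p.IsStronglyCartesian (p.map φ) ψ := inferInstance
      let χ : y ⟶ y' := IsCartesian.map p (p.map φ) ψ φ
      have hχ : p.IsHomLift (𝟙 (p.obj y)) χ := IsCartesian.map_isHomLift p (p.map φ) ψ φ
      have hfac : χ ≫ ψ = φ := IsCartesian.fac p (p.map φ) ψ φ
      have hy' : p.obj y' = p.obj y := IsHomLift.domain_eq p (p.map φ) ψ
      let χ' : (Fiber.mk (p := p) (S := p.obj y) rfl) ⟶ (Fiber.mk (p := p) (S := p.obj y) hy') :=
        ⟨χ, hχ⟩
      haveI := hgrpd (p.obj y)
      have hiso' : IsIso χ' := inferInstance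
      have hiso : IsIso χ := by
        have : IsIso (Fiber.fiberInclusion.map χ') := inferInstance
        exact this
      have hχs : p.IsStronglyCartesian (𝟙 (p.obj y)) χ := IsStronglyCartesian.of_isIso p _ χ
      have hcomp : p.IsStronglyCartesian (𝟙 (p.obj y) ≫ p.map φ) (χ ≫ ψ) := inferInstance
      rw [Category.id_comp, hfac] at hcomp
      exact hcomp

end Groth.Agent.S6393
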