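import Groth.Statements.S6396
import Mathlib

set_option autoImplicit false
open CategoryTheory
universe v u
open FibCat

namespace Groth.Agent.S6396

theorem lift_id_dom {𝒮 : Type*} [Category 𝒮] {𝒳 : Type*} [Category 𝒳] (p : 𝒳 ⥤ 𝒮) {a b : 𝒳}
    (φ : a ⟶ b) {S : 𝒮} [h : p.IsHomLift (𝟙 S) φ] : p.IsHomLift (𝟙 (p.obj a)) φ := by
  obtain rfl := IsHomLift.domain_eq p (𝟙 S) φ
  exact h

theorem faithful_of_fiber {C : Type u} [Category.{v} C] {𝒳 𝒴 : BasedCategory.{v, max u v} C} (G : 𝒳 ⥤ᵇ 𝒴)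
    (h𝒳 : FibCat.IsFibGrpd 𝒳.p) (h𝒴 : FibCat.IsFibGrpd 𝒴.p)
    (hU : ∀ U : C, (FibCat.fiberFunctor G U).Faithful) : G.toFunctor.Faithful := by
  refine ⟨fun {x y} φ ψ hφψ => ?_⟩
  have h1 : 𝒴.p.IsHomLift (𝒳.p.map φ) (G.map ψ) := by
    have : 𝒴.p.IsHomLift (𝒳.p.map φ) (G.map φ) := inferInstance
    rw [show G.map φ = G.map ψ from hφψ] at this
    exact this
  have h2 : 𝒳.p.IsHomLift (𝒳.p.map φ) ψ := G.isHomLift_map _ ψ
  have h3 : 𝒳.p.IsHomLift (𝟙 _ ≫ 𝒳.p.map φ) ψ := by rw [Category.id_comp]; exact h2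
  have hc := h𝒳.isStronglyCartesian φ
  obtain ⟨χ, ⟨hχ1, hχ2⟩, -⟩ := Functor.IsStronglyCartesian.universal_property' (p := 𝒳.p)
    (f := 𝒳.p.map φ) (φ := φ) (𝟙 _) ψ
  have hc' := h𝒴.isStronglyCartesian (G.map φ)
  have h4 : 𝒴.p.IsHomLift (𝟙 (𝒳.p.obj x)) (G.map χ) := inferInstance
  have h5 : 𝒴.p.IsHomLift (𝟙 (𝒴.p.obj (G.obj x))) (G.map χ) := lift_id_dom 𝒴.p (G.map χ) (S := 𝒳.p.obj x)
  have h6 : G.map χ = 𝟙 (G.obj x) := by
    apply Functor.IsStronglyCartesian.ext 𝒴.p (𝒴.p.map (G.map φ)) (G.map φ) (𝟙 (𝒴.p.obj (G.obj x)))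
    rw [Category.id_comp, ← G.map_comp, hχ2]
    exact hφψ.symm
  have := hU (𝒳.p.obj x)
  let x' : 𝒳.p.Fiber (𝒳.p.obj x) := ⟨x, rfl⟩
  let χ' : x' ⟶ x' := ⟨χ, hχ1⟩
  have h7 : (FibCat.fiberFunctor G (𝒳.p.obj x)).map χ' = (FibCat.fiberFunctor G (𝒳.p.obj x)).map (𝟙 x') := by
    apply Subtype.ext
    rw [fiberFunctor_map, fiberFunctor_map]
    show G.map χ = G.map (𝟙 x)
    rw [h6, G.map_id]
  have h8 : χ' = 𝟙 x' := (FibCat.fiberFunctor G (𝒳.p.obj x)).map_injective h7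
  have h9 : χ = 𝟙 x := congrArg Subtype.val h8
  rw [← hχ2, h9, Category.id_comp]

/-- A functor `G` over `C` between categories fibred in groupoids is faithful if and only if each
induced functor of fibre categories `𝒳_U ⥤ 𝒴_U` is faithful. -/
theorem result {C : Type u} [Category.{v} C] {𝒳 𝒴 : BasedCategory.{v, max u v} C} (G : 𝒳 ⥤ᵇ 𝒴) (h𝒳 : FibCat.IsFibGrpd 𝒳.p) (h𝒴 : FibCat.IsFibGrpd 𝒴.p) :
    G.toFunctor.Faithful ↔ ∀ U : C, (FibCat.fiberFunctor G U).Faithful := by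
  constructor
  · intro hG U
    refine ⟨fun {x y} φ ψ h => ?_⟩
    have h1 : G.map φ.1 = G.map ψ.1 := by
      have := congrArg Subtype.val h
      rwa [fiberFunctor_map, fiberFunctor_map] at this
    exact Subtype.ext (G.toFunctor.map_injective h1)
  · exact faithful_of_fiber G h𝒳 h𝒴

end Groth.Agent.S6396
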