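import Groth.Statements.S6397
import Mathlib
import Groth.Agent.S6396

set_option autoImplicit false
open CategoryTheory
universe v u
open FibCat

namespace Groth.Agent.S6397

theorem sc_of_lift {𝒮 : Type*} [Category 𝒮] {𝒳 : Type*} [Category 𝒳] (p : 𝒳 ⥤ 𝒮) {a b : 𝒳}
    (φ : a ⟶ b) {R S : 𝒮} (f : R ⟶ S) [h : p.IsHomLift f φ]
    (hc : p.IsStronglyCartesian (p.map φ) φ) : p.IsStronglyCartesian f φ := by
  obtain ⟨⟩ := h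
  exact hc

theorem full_of_fiber {C : Type u} [Category.{v} C] {𝒳 𝒴 : BasedCategory.{v, max u v} C} (G : 𝒳 ⥤ᵇ 𝒴)
    (h𝒳 : FibCat.IsFibGrpd 𝒳.p) (h𝒴 : FibCat.IsFibGrpd 𝒴.p)
    (hU : ∀ U : C, (FibCat.fiberFunctor G U).Full) : G.toFunctor.Full := by
  refine ⟨fun {x y} ψ => ?_⟩
  let f : 𝒳.p.obj x ⟶ 𝒳.p.obj y := eqToHom (G.w_obj x).symm ≫ 𝒴.p.map ψ ≫ eqToHom (G.w_obj y)
  have hψ : 𝒴.p.IsHomLift f ψ := IsHomLift.of_fac 𝒴.p f ψ (G.w_obj x) (G.w_obj y) rfl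
  obtain ⟨x', φ', hφ'⟩ := h𝒳.exists_lift (x := y) f
  have hx' : 𝒳.p.obj x' = 𝒳.p.obj x := IsHomLift.domain_eq 𝒳.p f φ'
  have hGφ' : 𝒴.p.IsHomLift f (G.map φ') := inferInstance
  have hsc : 𝒴.p.IsStronglyCartesian f (G.map φ') :=
    sc_of_lift 𝒴.p (G.map φ') f (h𝒴.isStronglyCartesian (G.map φ'))
  obtain ⟨χ, ⟨hχ1, hχ2⟩, -⟩ := Functor.IsStronglyCartesian.universal_property 𝒴.p f (G.map φ')
    (𝟙 (𝒳.p.obj x)) f (Category.id_comp f).symm ψ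
  have := hU (𝒳.p.obj x)
  let a : 𝒳.p.Fiber (𝒳.p.obj x) := ⟨x, rfl⟩
  let b : 𝒳.p.Fiber (𝒳.p.obj x) := ⟨x', hx'⟩
  let χ₀ : (FibCat.fiberFunctor G (𝒳.p.obj x)).obj a ⟶ (FibCat.fiberFunctor G (𝒳.p.obj x)).obj b :=
    ⟨χ, hχ1⟩
  obtain ⟨χ', hχ'⟩ := (FibCat.fiberFunctor G (𝒳.p.obj x)).map_surjective χ₀
  have h1 : G.map χ'.1 = χ := by
    have := congrArg Subtype.val hχ'
    rwa [fiberFunctor_map] at this
  refine ⟨χ'.1 ≫ φ', ?_⟩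
  show G.map (χ'.1 ≫ φ') = ψ
  rw [G.map_comp, h1, hχ2]

/-- A functor `G` over `C` between categories fibred in groupoids is fully faithful if and only if each
induced functor of fibre categories `𝒳_U ⥤ 𝒴_U` is fully faithful. -/
theorem result {C : Type u} [Category.{v} C] {𝒳 𝒴 : BasedCategory.{v, max u v} C} (G : 𝒳 ⥤ᵇ 𝒴) (h𝒳 : FibCat.IsFibGrpd 𝒳.p) (h𝒴 : FibCat.IsFibGrpd 𝒴.p) :
    (G.toFunctor.Full ∧ G.toFunctor.Faithful) ↔ ∀ U : C, (FibCat.fiberFunctor G U).Full ∧ (FibCat.fiberFunctor G U).Faithful := by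
  constructor
  · rintro ⟨hfull, hfaith⟩ U
    refine ⟨⟨fun {x y} ψ => ?_⟩, (Groth.Agent.S6396.result G h𝒳 h𝒴).mp hfaith U⟩
    obtain ⟨φ, hφ⟩ := G.toFunctor.map_surjective ψ.1
    have h1 : 𝒴.p.IsHomLift (𝟙 U) (G.map φ) := by
      rw [show G.map φ = ψ.1 from hφ]; exact ψ.2
    have h2 : 𝒳.p.IsHomLift (𝟙 U) φ := G.isHomLift_map _ φ
    refine ⟨⟨φ, h2⟩, ?_⟩
    apply Subtype.ext
    rw [fiberFunctor_map]
    exact hφ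
  · intro h
    exact ⟨full_of_fiber G h𝒳 h𝒴 (fun U => (h U).1),
      (Groth.Agent.S6396.result G h𝒳 h𝒴).mpr (fun U => (h U).2)⟩

end Groth.Agent.S6397
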