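import Groth.Statements.S6398
import Mathlib
import Groth.Agent.S6397

set_option autoImplicit false
open CategoryTheory
universe v u
open FibCat

namespace Groth.Agent.S6398

theorem essSurj_fiber {C : Type u} [Category.{v} C] {𝒳 𝒴 : BasedCategory.{v, max u v} C} (G : 𝒳 ⥤ᵇ 𝒴)
    (h𝒳 : FibCat.IsFibGrpd 𝒳.p) (hG : G.toFunctor.EssSurj) (U : C) :
    (FibCat.fiberFunctor G U).EssSurj := by
  refine ⟨fun y => ?_⟩
  let x₀ := G.toFunctor.objPreimage y.1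
  let i : G.obj x₀ ≅ y.1 := G.toFunctor.objObjPreimageIso y.1
  let f : 𝒳.p.obj x₀ ≅ U := eqToIso (G.w_obj x₀).symm ≪≫ 𝒴.p.mapIso i ≪≫ eqToIso y.2
  have hi : 𝒴.p.IsHomLift f.hom i.hom :=
    IsHomLift.of_fac 𝒴.p f.hom i.hom (G.w_obj x₀) y.2 (by simp [f])
  obtain ⟨x', φ, hφ⟩ := h𝒳.exists_lift (x := x₀) f.inv
  have hx' : 𝒳.p.obj x' = U := IsHomLift.domain_eq 𝒳.p f.inv φ
  have hsc : 𝒳.p.IsStronglyCartesian f.inv φ :=
    Groth.Agent.S6397.sc_of_lift 𝒳.p φ f.inv (h𝒳.isStronglyCartesian φ)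
  have hiso : IsIso φ := Functor.IsStronglyCartesian.isIso_of_base_isIso 𝒳.p f.inv φ
  have hGφ : 𝒴.p.IsHomLift f.inv (G.map φ) := inferInstance
  have hcomp : 𝒴.p.IsHomLift (𝟙 U) (G.map φ ≫ i.hom) := by
    have : 𝒴.p.IsHomLift (f.inv ≫ f.hom) (G.map φ ≫ i.hom) := inferInstance
    rwa [Iso.inv_hom_id] at this
  let e : G.obj x' ≅ y.1 := (asIso (G.map φ)) ≪≫ i
  have he : 𝒴.p.IsHomLift (𝟙 U) e.hom := hcomp
  have he' : 𝒴.p.IsHomLift (𝟙 U) e.inv := inferInstance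
  let a : 𝒳.p.Fiber U := ⟨x', hx'⟩
  refine ⟨a, ⟨?_⟩⟩
  exact
    { hom := ⟨e.hom, he⟩
      inv := ⟨e.inv, he'⟩
      hom_inv_id := Subtype.ext e.hom_inv_id
      inv_hom_id := Subtype.ext e.inv_hom_id }

theorem essSurj_of_fiber {C : Type u} [Category.{v} C] {𝒳 𝒴 : BasedCategory.{v, max u v} C} (G : 𝒳 ⥤ᵇ 𝒴)
    (hU : ∀ U : C, (FibCat.fiberFunctor G U).EssSurj) : G.toFunctor.EssSurj := by
  refine ⟨fun y => ?_⟩
  have := hU (𝒴.p.obj y)
  let y' : 𝒴.p.Fiber (𝒴.p.obj y) := ⟨y, rfl⟩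
  let x := (FibCat.fiberFunctor G (𝒴.p.obj y)).objPreimage y'
  let j : (FibCat.fiberFunctor G (𝒴.p.obj y)).obj x ≅ y' :=
    (FibCat.fiberFunctor G (𝒴.p.obj y)).objObjPreimageIso y'
  exact ⟨x.1, ⟨Functor.Fiber.fiberInclusion.mapIso j⟩⟩

/-- A functor `G` over `C` between categories fibred in groupoids is an equivalence of categories if and
only if each induced functor of fibre categories `𝒳_U ⥤ 𝒴_U` is an equivalence of categories. -/
theorem result {C : Type u} [Category.{v} C] {𝒳 𝒴 : BasedCategory.{v, max u v} C} (G : 𝒳 ⥤ᵇ 𝒴) (h𝒳 : FibCat.IsFibGrpd 𝒳.p) (h𝒴 : FibCat.IsFibGrpd 𝒴.p) :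
    G.toFunctor.IsEquivalence ↔ ∀ U : C, (FibCat.fiberFunctor G U).IsEquivalence := by
  constructor
  · intro hG U
    have h1 := (Groth.Agent.S6397.result G h𝒳 h𝒴).mp ⟨hG.full, hG.faithful⟩ U
    exact { faithful := h1.2, full := h1.1, essSurj := essSurj_fiber G h𝒳 hG.essSurj U }
  · intro h
    have h1 := (Groth.Agent.S6397.result G h𝒳 h𝒴).mpr (fun U => ⟨(h U).full, (h U).faithful⟩)
    exact { faithful := h1.2, full := h1.1, essSurj := essSurj_of_fiber G (fun U => (h U).essSurj) }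

end Groth.Agent.S6398
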