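import Groth.Statements.S6404
import Groth.Agent.Lib.Helper17.FibGrpd
import Groth.Agent.Lib.Helper17.ScComp

set_option autoImplicit false
open CategoryTheory
universe v u
open FibCat

namespace Groth.Agent.S6404

open Groth.Agent.Lib.Helper17 Groth.Agent.Lib.Helper17.FG Groth.Agent.Lib.Helper17.SCC

variable {C : Type u} [Category.{v} C] {𝒳 : BasedCategory.{v, max u v} C}

theorem map_eq_id_of_lift_id {a : 𝒳.obj} {U : C} (χ : a ⟶ a) (h : 𝒳.p.IsHomLift (𝟙 U) χ) :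
    𝒳.p.map χ = 𝟙 (𝒳.p.obj a) := by
  have h1 := hl_fac' h
  rw [h1]
  simp

theorem aut_lift (x : (FibCat.inertia (FibCat.toSelf 𝒳)).obj) :
    𝒳.p.IsHomLift (𝟙 (𝒳.p.obj x.pt)) x.aut.hom := by
  apply hl_of_eq
  exact x.map_aut.symm

theorem isHomLift_iff_hom {x y : (FibCat.inertia (FibCat.toSelf 𝒳)).obj} (k : x ⟶ y) {R S : C}
    (f : R ⟶ S) : (FibCat.inertia (FibCat.toSelf 𝒳)).p.IsHomLift f k ↔ 𝒳.p.IsHomLift f k.hom := by
  constructor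
  · intro h
    have d := hl_dom h
    have c := hl_cod h
    have e := hl_fac h
    exact IsHomLift.of_fac 𝒳.p f k.hom d c e
  · intro h
    have d := hl_dom h
    have c := hl_cod h
    have e := hl_fac h
    exact IsHomLift.of_fac (FibCat.inertia (FibCat.toSelf 𝒳)).p f k d c e

theorem exists_lift_inertia (h𝒳 : FibCat.IsFibGrpd 𝒳.p)
    (x : (FibCat.inertia (FibCat.toSelf 𝒳)).obj) {V : C} (f : V ⟶ 𝒳.p.obj x.pt) :
    ∃ (y : (FibCat.inertia (FibCat.toSelf 𝒳)).obj) (k : y ⟶ x),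
      (FibCat.inertia (FibCat.toSelf 𝒳)).p.IsHomLift f k := by
  obtain ⟨y, φ, hφ⟩ := exists_lift_of_eq h𝒳 (x := x.pt) rfl f
  have hV : 𝒳.p.obj y = V := hl_dom hφ.toIsHomLift
  subst hV
  have hx := aut_lift x
  have hxi : 𝒳.p.IsHomLift (𝟙 (𝒳.p.obj x.pt)) x.aut.inv :=
    IsHomLift.lift_id_inv 𝒳.p _ x.aut
  have h1 : 𝒳.p.IsHomLift f (φ ≫ x.aut.hom) := IsHomLift.comp_lift_id_right 𝒳.p f φ x.aut.hom
  have h2 : 𝒳.p.IsHomLift f (φ ≫ x.aut.inv) := IsHomLift.comp_lift_id_right 𝒳.p f φ x.aut.inv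
  obtain ⟨β, hβ1, hβ2, -⟩ := exists_factor h𝒳 f φ hφ.toIsHomLift (φ ≫ x.aut.hom) h1
  obtain ⟨β', hβ'1, hβ'2, -⟩ := exists_factor h𝒳 f φ hφ.toIsHomLift (φ ≫ x.aut.inv) h2
  have e1 : β ≫ β' = 𝟙 y := by
    have l1 : 𝒳.p.IsHomLift (𝟙 (𝒳.p.obj y)) (β ≫ β') := IsHomLift.comp_of_lift_id 𝒳.p _ β β'
    have l2 : 𝒳.p.IsHomLift (𝟙 (𝒳.p.obj y)) (𝟙 y) := inferInstance
    refine sc_ext' hφ l1 l2 ?_
    rw [Category.assoc, hβ'2, ← Category.assoc, hβ2, Category.assoc, Iso.hom_inv_id,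
      Category.comp_id, Category.id_comp]
  have e2 : β' ≫ β = 𝟙 y := by
    have l1 : 𝒳.p.IsHomLift (𝟙 (𝒳.p.obj y)) (β' ≫ β) := IsHomLift.comp_of_lift_id 𝒳.p _ β' β
    have l2 : 𝒳.p.IsHomLift (𝟙 (𝒳.p.obj y)) (𝟙 y) := inferInstance
    refine sc_ext' hφ l1 l2 ?_
    rw [Category.assoc, hβ2, ← Category.assoc, hβ'2, Category.assoc, Iso.inv_hom_id,
      Category.comp_id, Category.id_comp]
  let y' : (FibCat.inertia (FibCat.toSelf 𝒳)).obj :=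
    ⟨y, ⟨β, β', e1, e2⟩, map_eq_id_of_lift_id β hβ1⟩
  let k : y' ⟶ x := ⟨φ, hβ2⟩
  exact ⟨y', k, (isHomLift_iff_hom k f).mpr hφ.toIsHomLift⟩

theorem sc_inertia (h𝒳 : FibCat.IsFibGrpd 𝒳.p)
    {y x : (FibCat.inertia (FibCat.toSelf 𝒳)).obj} (k : y ⟶ x) :
    (FibCat.inertia (FibCat.toSelf 𝒳)).p.IsStronglyCartesian
      ((FibCat.inertia (FibCat.toSelf 𝒳)).p.map k) k := by
  refine { toIsHomLift := inferInstance, universal_property' := ?_ }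
  intro z g₀
  obtain ⟨g, rfl⟩ : ∃ g : 𝒳.p.obj z.pt ⟶ 𝒳.p.obj y.pt, g = g₀ := ⟨g₀, rfl⟩
  intro m hm
  have hk : 𝒳.p.IsStronglyCartesian (𝒳.p.map k.hom) k.hom := h𝒳.isStronglyCartesian k.hom
  have hm' : 𝒳.p.IsHomLift (g ≫ 𝒳.p.map k.hom) m.hom := (isHomLift_iff_hom m _).mp hm
  obtain ⟨χ, ⟨hχ1, hχ2⟩, hχu⟩ :=
    Functor.IsStronglyCartesian.universal_property 𝒳.p (𝒳.p.map k.hom) k.hom g
      (g ≫ 𝒳.p.map k.hom) rfl m.hom
  have hz := aut_lift z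
  have hy := aut_lift y
  have l1 : 𝒳.p.IsHomLift g (z.aut.hom ≫ χ) := IsHomLift.comp_lift_id_left 𝒳.p g χ z.aut.hom
  have l2 : 𝒳.p.IsHomLift g (χ ≫ y.aut.hom) := IsHomLift.comp_lift_id_right 𝒳.p g χ y.aut.hom
  have hcomm : z.aut.hom ≫ χ = χ ≫ y.aut.hom := by
    refine sc_ext' hk l1 l2 ?_
    rw [Category.assoc, hχ2, m.comm, Category.assoc, k.comm, ← Category.assoc, hχ2]
  refine ⟨⟨χ, hcomm⟩, ⟨?_, ?_⟩, ?_⟩
  · exact (isHomLift_iff_hom _ g).mpr hχ1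
  · exact FibCat.InertiaObj.hom_ext hχ2
  · rintro χ' ⟨h1, h2⟩
    apply FibCat.InertiaObj.hom_ext
    apply hχu
    exact ⟨(isHomLift_iff_hom χ' g).mp h1, congrArg (fun t => t.hom) h2⟩

/-- The inertia of a category fibred in groupoids over `C` is fibred in groupoids over `C`. -/
theorem result {C : Type u} [Category.{v} C] {𝒳 : BasedCategory.{v, max u v} C} (h𝒳 : FibCat.IsFibGrpd 𝒳.p) :
    FibCat.IsFibGrpd (FibCat.inertia (FibCat.toSelf 𝒳)).p := by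
  refine ⟨?_, ?_⟩
  · intro x V f
    exact exists_lift_inertia h𝒳 x f
  · intro y x k
    exact sc_inertia h𝒳 k

end Groth.Agent.S6404
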