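import Groth.Statements.S6405
import Groth.Agent.Lib.Helper17.FibGrpd
import Groth.Agent.Lib.Helper17.FibEquiv

set_option autoImplicit false
open CategoryTheory
universe v u
open FibCat

namespace Groth.Agent.S6405

open Groth.Agent.Lib.Helper17 Groth.Agent.Lib.Helper17.FG

theorem map_eq_id_of_lift_id {C : Type u} [Category.{v} C] {𝒳 : BasedCategory.{v, max u v} C}
    {a : 𝒳.obj} {U : C} (χ : a ⟶ a) (h : 𝒳.p.IsHomLift (𝟙 U) χ) :
    𝒳.p.map χ = 𝟙 (𝒳.p.obj a) := by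
  have h1 := hl_fac' h
  rw [h1]
  simp

/-- (2) ⇒ (1): if `𝒳` is fibred in groupoids over `C` and the canonical functor `I_𝒳 ⟶ 𝒳` from its
inertia is an equivalence over `C`, then `𝒳` is fibred in setoids. (The published statement is an
equivalence; this row states only that the inertia condition implies that `𝒳` is fibred in setoids.) -/
theorem result {C : Type u} [Category.{v} C] {𝒳 : BasedCategory.{v, max u v} C} (h𝒳 : FibCat.IsFibGrpd 𝒳.p)
    (h : FibCat.IsEquivOver (FibCat.inertiaToBase (FibCat.toSelf 𝒳))) : FibCat.IsFibSetoid 𝒳.p := by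
  refine ⟨h𝒳, ?_⟩
  intro U
  have hE := isEquivalence_of_isEquivOver _ h
  have hfull : (FibCat.inertiaToBase (FibCat.toSelf 𝒳)).toFunctor.Full := inferInstance
  intro a b
  constructor
  intro φ ψ
  apply Functor.Fiber.hom_ext
  have hφ : 𝒳.p.IsHomLift (𝟙 U) φ.val := φ.2
  have hψ : 𝒳.p.IsHomLift (𝟙 U) ψ.val := ψ.2
  have iφ : IsIso φ.val := isIso_of_lift_id h𝒳 φ.val hφ
  have iψ : IsIso ψ.val := isIso_of_lift_id h𝒳 ψ.val hψ
  have hψi : 𝒳.p.IsHomLift (𝟙 U) (inv ψ.val) := IsHomLift.lift_id_inv_isIso 𝒳.p U ψ.val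
  have hα : 𝒳.p.IsHomLift (𝟙 U) (φ.val ≫ inv ψ.val) :=
    IsHomLift.comp_of_lift_id 𝒳.p U φ.val (inv ψ.val)
  let α : a.val ≅ a.val :=
    { hom := φ.val ≫ inv ψ.val
      inv := ψ.val ≫ inv φ.val
      hom_inv_id := by simp
      inv_hom_id := by simp }
  let X : (FibCat.inertia (FibCat.toSelf 𝒳)).obj :=
    ⟨a.val, α, map_eq_id_of_lift_id _ hα⟩
  let Y : (FibCat.inertia (FibCat.toSelf 𝒳)).obj :=
    ⟨a.val, Iso.refl _, (FibCat.toSelf 𝒳).map_id a.val⟩
  obtain ⟨k, hk⟩ := (FibCat.inertiaToBase (FibCat.toSelf 𝒳)).toFunctor.map_surjective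
    (show (FibCat.inertiaToBase (FibCat.toSelf 𝒳)).toFunctor.obj X ⟶
      (FibCat.inertiaToBase (FibCat.toSelf 𝒳)).toFunctor.obj Y from 𝟙 a.val)
  have hk' : k.hom = 𝟙 a.val := hk
  have hc := k.comm
  rw [hk'] at hc
  change (φ.val ≫ inv ψ.val) ≫ 𝟙 _ = 𝟙 _ ≫ 𝟙 _ at hc
  rw [Category.comp_id, Category.comp_id] at hc
  have h3 := (IsIso.comp_inv_eq (α := ψ.val)).mp hc
  rw [Category.id_comp] at h3
  exact h3

end Groth.Agent.S6405
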