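import Groth.Statements.S6406
import Groth.Agent.Lib.Helper17.FibGrpd
import Groth.Agent.Lib.Helper17.ScComp
import Groth.Agent.S5139

set_option autoImplicit false
open CategoryTheory
universe v u
open FibCat

namespace Groth.Agent.S6406

open Groth.Agent.Lib.Helper17 Groth.Agent.Lib.Helper17.FG Groth.Agent.Lib.Helper17.SCC

variable {C : Type u} [Category.{v} C] {𝒳 : BasedCategory.{v, max u v} C}

/-- the relation on a fibre: existence of a morphism over the identity -/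
def fibRel (𝒳 : BasedCategory.{v, max u v} C) (U : C) (x y : 𝒳.p.Fiber U) : Prop :=
  ∃ φ : x.val ⟶ y.val, 𝒳.p.IsHomLift (𝟙 U) φ

theorem fibRel_equiv (h𝒳 : FibCat.IsFibGrpd 𝒳.p) (U : C) : Equivalence (fibRel 𝒳 U) := by
  refine ⟨?_, ?_, ?_⟩
  · intro x
    exact ⟨𝟙 x.val, IsHomLift.id x.2⟩
  · rintro x y ⟨φ, hφ⟩
    have := isIso_of_lift_id h𝒳 φ hφ
    exact ⟨inv φ, IsHomLift.lift_id_inv_isIso 𝒳.p U φ⟩
  · rintro x y z ⟨φ, hφ⟩ ⟨ψ, hψ⟩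
    exact ⟨φ ≫ ψ, IsHomLift.comp_of_lift_id 𝒳.p U φ ψ⟩

def fibSetoid (h𝒳 : FibCat.IsFibGrpd 𝒳.p) (U : C) : Setoid (𝒳.p.Fiber U) :=
  ⟨fibRel 𝒳 U, fibRel_equiv h𝒳 U⟩

/-- the relation between classes over a morphism of the base -/
def qRel (h𝒳 : FibCat.IsFibGrpd 𝒳.p) {U V : C} (f : U ⟶ V)
    (a : Quotient (fibSetoid h𝒳 U)) (b : Quotient (fibSetoid h𝒳 V)) : Prop :=
  Quotient.liftOn₂ a b (fun x y => ∃ φ : x.val ⟶ y.val, 𝒳.p.IsHomLift f φ) (by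
    rintro x y x' y' ⟨α, hα⟩ ⟨β, hβ⟩
    have iα := isIso_of_lift_id h𝒳 α hα
    have iβ := isIso_of_lift_id h𝒳 β hβ
    have hαi : 𝒳.p.IsHomLift (𝟙 U) (inv α) := IsHomLift.lift_id_inv_isIso 𝒳.p U α
    have hβi : 𝒳.p.IsHomLift (𝟙 V) (inv β) := IsHomLift.lift_id_inv_isIso 𝒳.p V β
    apply propext
    constructor
    · rintro ⟨φ, hφ⟩
      have h1 : 𝒳.p.IsHomLift f (φ ≫ β) := IsHomLift.comp_lift_id_right 𝒳.p f φ β
      exact ⟨inv α ≫ φ ≫ β, IsHomLift.comp_lift_id_left 𝒳.p f (φ ≫ β) (inv α)⟩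
    · rintro ⟨φ, hφ⟩
      have h1 : 𝒳.p.IsHomLift f (φ ≫ inv β) := IsHomLift.comp_lift_id_right 𝒳.p f φ (inv β)
      exact ⟨α ≫ φ ≫ inv β, IsHomLift.comp_lift_id_left 𝒳.p f (φ ≫ inv β) α⟩)

theorem qRel_mk (h𝒳 : FibCat.IsFibGrpd 𝒳.p) {U V : C} (f : U ⟶ V) (x : 𝒳.p.Fiber U)
    (y : 𝒳.p.Fiber V) :
    qRel h𝒳 f (Quotient.mk (fibSetoid h𝒳 U) x) (Quotient.mk (fibSetoid h𝒳 V) y) ↔
      ∃ φ : x.val ⟶ y.val, 𝒳.p.IsHomLift f φ := Iff.rfl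

theorem qRel_id (h𝒳 : FibCat.IsFibGrpd 𝒳.p) {U : C} (a : Quotient (fibSetoid h𝒳 U)) :
    qRel h𝒳 (𝟙 U) a a := by
  induction a using Quotient.inductionOn with
  | _ x => exact ⟨𝟙 x.val, IsHomLift.id x.2⟩

theorem qRel_comp (h𝒳 : FibCat.IsFibGrpd 𝒳.p) {U V W : C} (f : U ⟶ V) (g : V ⟶ W)
    (a : Quotient (fibSetoid h𝒳 U)) (b : Quotient (fibSetoid h𝒳 V))
    (c : Quotient (fibSetoid h𝒳 W)) (h1 : qRel h𝒳 f a b) (h2 : qRel h𝒳 g b c) :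
    qRel h𝒳 (f ≫ g) a c := by
  induction a using Quotient.inductionOn with
  | _ x =>
  induction b using Quotient.inductionOn with
  | _ y =>
  induction c using Quotient.inductionOn with
  | _ z =>
  obtain ⟨φ, hφ⟩ := h1
  obtain ⟨ψ, hψ⟩ := h2
  exact ⟨φ ≫ ψ, IsHomLift.comp 𝒳.p f g φ ψ⟩

/-- objects of the quotient category -/
structure QObj (h𝒳 : FibCat.IsFibGrpd 𝒳.p) where
  base : C
  cls : Quotient (fibSetoid h𝒳 base)

instance qCat (h𝒳 : FibCat.IsFibGrpd 𝒳.p) : Category.{v} (QObj h𝒳) where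
  Hom a b := { f : a.base ⟶ b.base // qRel h𝒳 f a.cls b.cls }
  id a := ⟨𝟙 a.base, qRel_id h𝒳 a.cls⟩
  comp f g := ⟨f.val ≫ g.val, qRel_comp h𝒳 f.val g.val _ _ _ f.2 g.2⟩
  id_comp f := Subtype.ext (Category.id_comp _)
  comp_id f := Subtype.ext (Category.comp_id _)
  assoc f g h := Subtype.ext (Category.assoc _ _ _)

def qProj (h𝒳 : FibCat.IsFibGrpd 𝒳.p) : QObj h𝒳 ⥤ C where
  obj a := a.base
  map f := f.val

abbrev qBased (h𝒳 : FibCat.IsFibGrpd 𝒳.p) : BasedCategory.{v, max u v} C where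
  obj := QObj h𝒳
  p := qProj h𝒳

def qFunctor (h𝒳 : FibCat.IsFibGrpd 𝒳.p) : 𝒳 ⥤ᵇ qBased h𝒳 where
  toFunctor :=
    { obj := fun x => ⟨𝒳.p.obj x, Quotient.mk _ ⟨x, rfl⟩⟩
      map := fun {x y} φ => ⟨𝒳.p.map φ, ⟨φ, inferInstance⟩⟩
      map_id := fun x => Subtype.ext (𝒳.p.map_id x)
      map_comp := fun φ ψ => Subtype.ext (𝒳.p.map_comp φ ψ) }
  w := rfl

theorem q_isHomLift_iff (h𝒳 : FibCat.IsFibGrpd 𝒳.p) {a b : QObj h𝒳} (k : a ⟶ b) {R S : C}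
    (f : R ⟶ S) : (qBased h𝒳).p.IsHomLift f k ↔
      ∃ (h1 : a.base = R) (h2 : b.base = S), f = eqToHom h1.symm ≫ k.val ≫ eqToHom h2 := by
  constructor
  · intro h
    exact ⟨hl_dom h, hl_cod h, hl_fac h⟩
  · rintro ⟨h1, h2, h3⟩
    exact IsHomLift.of_fac (qBased h𝒳).p f k h1 h2 h3

theorem q_exists_lift (h𝒳 : FibCat.IsFibGrpd 𝒳.p) (a : QObj h𝒳) {V : C} (f : V ⟶ a.base) :
    ∃ (b : QObj h𝒳) (k : b ⟶ a), (qBased h𝒳).p.IsHomLift f k := by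
  obtain ⟨U, c⟩ := a
  induction c using Quotient.inductionOn with
  | _ x =>
  obtain ⟨y, φ, hφ⟩ := exists_lift_of_eq h𝒳 x.2 f
  have hy : 𝒳.p.obj y = V := hl_dom hφ.toIsHomLift
  refine ⟨⟨V, Quotient.mk _ ⟨y, hy⟩⟩, ⟨f, ⟨φ, hφ.toIsHomLift⟩⟩, ?_⟩
  rw [q_isHomLift_iff]
  exact ⟨rfl, rfl, by simp⟩

theorem q_sc (h𝒳 : FibCat.IsFibGrpd 𝒳.p) {b a : QObj h𝒳} (k : b ⟶ a) :
    (qBased h𝒳).p.IsStronglyCartesian ((qBased h𝒳).p.map k) k := by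
  refine { toIsHomLift := inferInstance, universal_property' := ?_ }
  intro c g₀
  obtain ⟨g, rfl⟩ : ∃ g : c.base ⟶ b.base, g = g₀ := ⟨g₀, rfl⟩
  intro m hm
  have hm' : (show (qBased h𝒳).p.obj c ⟶ (qBased h𝒳).p.obj a from g ≫ k.val) =
      (qBased h𝒳).p.map m := hl_eq hm
  have hm'' : g ≫ k.val = m.val := hm'
  have hrel : qRel h𝒳 g c.cls b.cls := by
    obtain ⟨U, ca⟩ := a
    obtain ⟨V, cb⟩ := b
    obtain ⟨W, cc⟩ := c
    obtain ⟨kf, hk⟩ := k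
    obtain ⟨mf, hmr⟩ := m
    dsimp only at g hm'' kf mf hk hmr ⊢
    induction ca using Quotient.inductionOn with
    | _ x =>
    induction cb using Quotient.inductionOn with
    | _ y =>
    induction cc using Quotient.inductionOn with
    | _ z =>
    obtain ⟨φ, hφ⟩ := hk
    obtain ⟨ψ, hψ⟩ := hmr
    have hsc := sc_all h𝒳 kf φ hφ
    subst hm''
    obtain ⟨χ, ⟨hχ1, -⟩, -⟩ :=
      Functor.IsStronglyCartesian.universal_property 𝒳.p kf φ g (g ≫ kf) rfl ψ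
    exact ⟨χ, hχ1⟩
  refine ⟨⟨g, hrel⟩, ⟨?_, ?_⟩, ?_⟩
  · exact hl_of_eq rfl
  · exact Subtype.ext hm''
  · rintro χ' ⟨h1, h2⟩
    apply Subtype.ext
    have e3 : (show (qBased h𝒳).p.obj c ⟶ (qBased h𝒳).p.obj b from g) =
        (qBased h𝒳).p.map χ' := hl_eq h1
    exact e3.symm

theorem q_isFibGrpd (h𝒳 : FibCat.IsFibGrpd 𝒳.p) : FibCat.IsFibGrpd (qBased h𝒳).p :=
  ⟨fun {a V} f => q_exists_lift h𝒳 a f, fun {b a} k => q_sc h𝒳 k⟩

theorem q_discrete (h𝒳 : FibCat.IsFibGrpd 𝒳.p) (U : C) :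
    IsDiscrete ((qBased h𝒳).p.Fiber U) := by
  refine { subsingleton := ?_, eq_of_hom := ?_ }
  · intro X Y
    constructor
    intro φ ψ
    apply Functor.Fiber.hom_ext
    apply Subtype.ext
    have h1 := hl_fac' φ.2
    have h2 := hl_fac' ψ.2
    have h1' : φ.val.val = (qBased h𝒳).p.map φ.val := rfl
    have h2' : ψ.val.val = (qBased h𝒳).p.map ψ.val := rfl
    change φ.val.val = ψ.val.val
    rw [h1', h2', h1, h2]
  · intro X Y φ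
    obtain ⟨⟨U', a⟩, hX⟩ := X
    obtain ⟨⟨U'', b⟩, hY⟩ := Y
    change U' = U at hX
    change U'' = U at hY
    subst hX
    subst hY
    have h1 := hl_fac' φ.2
    obtain ⟨⟨f, rel⟩, hφ⟩ := φ
    have hf : f = 𝟙 _ := by
      have : f = (qBased h𝒳).p.map ⟨f, rel⟩ := rfl
      rw [this, h1]
      simp only [Category.id_comp, eqToHom_trans]
      rfl
    subst hf
    have hab : a = b := by
      dsimp only at rel
      induction a using Quotient.inductionOn with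
      | _ x =>
      induction b using Quotient.inductionOn with
      | _ y =>
      exact Quotient.sound rel
    subst hab
    rfl

theorem eq_of_same_base (h𝒳 : FibCat.IsFibSetoid 𝒳.p) {x y : 𝒳.obj} (φ ψ : x ⟶ y)
    (h : 𝒳.p.map φ = 𝒳.p.map ψ) : φ = ψ := by
  have hψ : 𝒳.p.IsHomLift (𝒳.p.map ψ) ψ := inferInstance
  have hφ : 𝒳.p.IsHomLift (𝒳.p.map ψ) φ := hl_of_eq h.symm
  obtain ⟨χ, hχ1, hχ2, -⟩ := exists_factor h𝒳.1 (𝒳.p.map ψ) ψ hψ φ hφ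
  have hthin := h𝒳.2 (𝒳.p.obj x)
  let X : 𝒳.p.Fiber (𝒳.p.obj x) := ⟨x, rfl⟩
  let a : X ⟶ X := ⟨χ, hχ1⟩
  let b : X ⟶ X := 𝟙 X
  have hab : a = b := Subsingleton.elim _ _
  have hχ : χ = 𝟙 x := congrArg Subtype.val hab
  rw [← hχ2, hχ, Category.id_comp]

theorem q_faithful (h𝒳 : FibCat.IsFibSetoid 𝒳.p) : (qFunctor h𝒳.1).toFunctor.Faithful := by
  constructor
  intro x y φ ψ h
  apply eq_of_same_base h𝒳
  exact congrArg Subtype.val h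

theorem q_full (h𝒳 : FibCat.IsFibGrpd 𝒳.p) : (qFunctor h𝒳).toFunctor.Full := by
  constructor
  intro x y m
  obtain ⟨f, φ, hφ⟩ := m
  refine ⟨φ, ?_⟩
  apply Subtype.ext
  exact (hl_eq hφ).symm

theorem q_essSurj (h𝒳 : FibCat.IsFibGrpd 𝒳.p) (η : (qBased h𝒳).obj) :
    ∃ (ξ : 𝒳.obj) (e : (qFunctor h𝒳).toFunctor.obj ξ ≅ η),
      (qBased h𝒳).p.IsHomLift (𝟙 ((qBased h𝒳).p.obj η)) e.hom := by
  obtain ⟨U, c⟩ := η
  induction c using Quotient.inductionOn with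
  | _ x =>
  obtain ⟨x₀, hx⟩ := x
  subst hx
  exact ⟨x₀, Iso.refl _, IsHomLift.id rfl⟩

/-- A category fibred in setoids over `C` admits an equivalence over `C` to a category fibred in sets
over `C`. (The target is taken in the same universes as the slices `C/U`; its morphism sets are
essentially as small as those of `C`.) -/
theorem result {C : Type u} [Category.{v} C] {𝒳 : BasedCategory.{v, max u v} C} (h𝒳 : FibCat.IsFibSetoid 𝒳.p) :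
    ∃ (𝒴 : BasedCategory.{v, max u v} C) (F : 𝒳 ⥤ᵇ 𝒴), FibCat.IsFibSet 𝒴.p ∧ FibCat.IsEquivOver F := by
  refine ⟨qBased h𝒳.1, qFunctor h𝒳.1, ⟨q_isFibGrpd h𝒳.1, q_discrete h𝒳.1⟩, ?_⟩
  rw [Groth.Agent.S5139.result]
  exact ⟨⟨q_full h𝒳.1, q_faithful h𝒳⟩, q_essSurj h𝒳.1⟩

end Groth.Agent.S6406
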