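import Groth.Statements.S6407
import Mathlib

set_option autoImplicit false
open CategoryTheory
universe v u
open FibCat

namespace Groth.Agent.S6407

section
variable {C : Type u} [Category.{v} C] {𝒳 𝒴 : BasedCategory.{v, max u v} C}

theorem sc_of_lift (h𝒴 : FibCat.IsFibGrpd 𝒴.p) {R S : C} (h : R ⟶ S) {a b : 𝒴.obj}
    (w : a ⟶ b) [hw : 𝒴.p.IsHomLift h w] : 𝒴.p.IsStronglyCartesian h w := by
  obtain ⟨⟩ := hw
  exact h𝒴.isStronglyCartesian _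

/-- In a category fibred in setoids, two morphisms over the same base morphism are equal. -/
theorem eq_of_lift_same (h𝒴 : FibCat.IsFibSetoid 𝒴.p) {R S : C} (h : R ⟶ S) {a b : 𝒴.obj}
    (u w : a ⟶ b) [hu : 𝒴.p.IsHomLift h u] [hw : 𝒴.p.IsHomLift h w] : u = w := by
  have hc := sc_of_lift h𝒴.1 h w
  have e0 : h = 𝟙 R ≫ h := (Category.id_comp _).symm
  let χ : a ⟶ a := Functor.IsStronglyCartesian.map 𝒴.p h w e0 u
  have hχ : χ ≫ w = u := Functor.IsStronglyCartesian.fac 𝒴.p h w e0 u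
  have hχl : 𝒴.p.IsHomLift (𝟙 R) χ := inferInstance
  have := h𝒴.2 R
  have ha : 𝒴.p.obj a = R := IsHomLift.domain_eq 𝒴.p h w
  let a' : 𝒴.p.Fiber R := ⟨a, ha⟩
  let χ' : a' ⟶ a' := ⟨χ, hχl⟩
  have h1 : χ' = 𝟙 a' := Subsingleton.elim _ _
  have h2 : χ = 𝟙 a := congrArg Subtype.val h1
  rw [← hχ, h2, Category.id_comp]

end

/-- For categories `𝒳, 𝒴` fibred in setoids over `C` and functors `f, g : 𝒳 ⟶ 𝒴` over `C` that agree on
isomorphism classes of objects of each fibre category, there is a unique 2-isomorphism `f ≅ g` over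
`C`. -/
theorem result {C : Type u} [Category.{v} C] {𝒳 𝒴 : BasedCategory.{v, max u v} C} (h𝒳 : FibCat.IsFibSetoid 𝒳.p) (h𝒴 : FibCat.IsFibSetoid 𝒴.p) (f g : 𝒳 ⥤ᵇ 𝒴)
    (hfg : ∀ (U : C) (x : 𝒳.p.Fiber U), Nonempty ((FibCat.fiberFunctor f U).obj x ≅ (FibCat.fiberFunctor g U).obj x)) :
    Nonempty (Unique (f ≅ g)) := by
  have key : ∀ x : 𝒳.obj, ∃ θ : f.obj x ≅ g.obj x, 𝒴.p.IsHomLift (𝟙 (𝒳.p.obj x)) θ.hom := by
    intro x
    obtain ⟨θ⟩ := hfg (𝒳.p.obj x) ⟨x, rfl⟩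
    refine ⟨(Functor.Fiber.fiberInclusion).mapIso θ, ?_⟩
    exact θ.hom.2
  choose θ hθ using key
  have nat : ∀ {x y : 𝒳.obj} (φ : x ⟶ y), f.map φ ≫ (θ y).hom = (θ x).hom ≫ g.map φ := by
    intro x y φ
    have := hθ x
    have := hθ y
    have h1 : 𝒴.p.IsHomLift (𝒳.p.map φ) (f.map φ ≫ (θ y).hom) := inferInstance
    have h2 : 𝒴.p.IsHomLift (𝒳.p.map φ) ((θ x).hom ≫ g.map φ) := inferInstance
    exact eq_of_lift_same h𝒴 (𝒳.p.map φ) _ _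
  let Θ : f ≅ g := BasedNatIso.mkNatIso (NatIso.ofComponents θ (fun φ => nat φ)) (fun x => hθ x)
  refine ⟨{ default := Θ, uniq := ?_ }⟩
  intro Θ'
  apply Iso.ext
  apply BasedNatTrans.ext
  apply NatTrans.ext
  funext x
  have h1 : 𝒴.p.IsHomLift (𝟙 (𝒳.p.obj x)) (Θ'.hom.toNatTrans.app x) := inferInstance
  have h2 : 𝒴.p.IsHomLift (𝟙 (𝒳.p.obj x)) (Θ.hom.toNatTrans.app x) := inferInstance
  exact eq_of_lift_same h𝒴 (𝟙 (𝒳.p.obj x)) _ _

end Groth.Agent.S6407
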