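import Groth.Statements.S6408
import Groth.Agent.Lib.Helper17.HomLift

set_option autoImplicit false
open CategoryTheory
universe v u
open FibCat

namespace Groth.Agent.S6408

open Groth.Agent.Lib.Helper17

theorem eq_of_lift_id {C : Type u} [Category.{v} C] {𝒳 : BasedCategory.{v, max u v} C}
    (hd : ∀ U : C, IsDiscrete (𝒳.p.Fiber U)) {a b : 𝒳.obj} {U : C} (φ : a ⟶ b)
    (hφ : 𝒳.p.IsHomLift (𝟙 U) φ) : ∃ h : a = b, φ = eqToHom h := by
  have := hd U
  let a' : 𝒳.p.Fiber U := ⟨a, hl_dom hφ⟩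
  let b' : 𝒳.p.Fiber U := ⟨b, hl_cod hφ⟩
  let φ' : a' ⟶ b' := ⟨φ, hφ⟩
  have hab' : a' = b' := IsDiscrete.eq_of_hom φ'
  have hab : a = b := congrArg Subtype.val hab'
  subst hab
  refine ⟨rfl, ?_⟩
  have h1 : φ' = 𝟙 a' := Subsingleton.elim _ _
  have h2 := congrArg Subtype.val h1
  exact h2

theorem basedFunctor_ext {C : Type u} [Category.{v} C] {𝒳 𝒴 : BasedCategory.{v, max u v} C}
    {F G : 𝒳 ⥤ᵇ 𝒴} (h : F.toFunctor = G.toFunctor) : F = G := by
  cases F
  cases G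
  cases h
  rfl

/-- Between categories fibred in sets over `C` the only 2-morphisms over `C` are identities. -/
theorem result {C : Type u} [Category.{v} C] {𝒳 𝒴 : BasedCategory.{v, max u v} C} (h𝒳 : FibCat.IsFibSet 𝒳.p) (h𝒴 : FibCat.IsFibSet 𝒴.p) {F G : 𝒳 ⥤ᵇ 𝒴} (α : F ⟶ G) :
    ∃ h : F = G, α = eqToHom h := by
  have h1 : ∀ x : 𝒳.obj, ∃ h : F.obj x = G.obj x, α.toNatTrans.app x = eqToHom h :=
    fun x => eq_of_lift_id h𝒴.2 _ (BasedNatTrans.app_isHomLift α x)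
  have hFG : F = G := by
    apply basedFunctor_ext
    refine CategoryTheory.Functor.ext (fun x => (h1 x).1) ?_
    intro x y f
    have hn := α.toNatTrans.naturality f
    obtain ⟨hx, ex⟩ := h1 x
    obtain ⟨hy, ey⟩ := h1 y
    rw [ex, ey] at hn
    rw [← Category.assoc, ← hn, Category.assoc, eqToHom_trans, eqToHom_refl, Category.comp_id]
  subst hFG
  refine ⟨rfl, ?_⟩
  apply BasedNatTrans.homCategory.ext
  ext x
  obtain ⟨hx, ex⟩ := h1 x
  rw [ex]
  rfl

end Groth.Agent.S6408
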