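import Groth.Statements.S6409
import Groth.Agent.Lib.Helper86.TwoYoneda

set_option autoImplicit false
open CategoryTheory
universe v u
open FibCat

namespace Groth.Agent.S6409

/-- For `𝒳` fibred in groupoids over `C`, evaluation at `𝟙_U` is an equivalence of categories from the
category of functors `C/U ⟶ 𝒳` over `C` to the fibre category `𝒳_U`. -/
theorem result {C : Type u} [Category.{v} C] {𝒳 : BasedCategory.{v, max u v} C} (h𝒳 : FibCat.IsFibGrpd 𝒳.p) (U : C) :
    (FibCat.evalAtId 𝒳 U).IsEquivalence := by
  exact Groth.Agent.Lib.Helper86.TwoYoneda.evalAtId_isEquivalence_of_isFibGrpd h𝒳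

end Groth.Agent.S6409
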