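import Groth.Statements.S6411
import Groth.Agent.Lib.Helper17.FibGrpd
import Groth.Agent.S6401
import Groth.Agent.S6419

set_option autoImplicit false
open CategoryTheory
universe v u
open FibCat

namespace Groth.Agent.S6411

/-- For `𝒳, 𝒴` fibred in groupoids over `C`, `F : 𝒳 ⟶ 𝒴` over `C` and `G : C/U ⟶ 𝒴` over `C`, the
projection `(C/U) ×_𝒴 𝒳 ⟶ C/U` is a category fibred in groupoids. -/
theorem result {C : Type u} [Category.{v} C] {𝒳 𝒴 : BasedCategory.{v, max u v} C} (h𝒳 : FibCat.IsFibGrpd 𝒳.p) (h𝒴 : FibCat.IsFibGrpd 𝒴.p) (F : 𝒳 ⥤ᵇ 𝒴) (U : C) (G : FibCat.overCat U ⥤ᵇ 𝒴) :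
    FibCat.IsFibGrpd (FibCat.fpFst G F).toFunctor := by
  apply Groth.Agent.S6419.result
  exact Groth.Agent.S6401.result G F (Groth.Agent.Lib.Helper17.FG.isFibGrpd_overForget U) h𝒳 h𝒴

end Groth.Agent.S6411
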