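import Groth.Statements.S6413
import Groth.Agent.Lib.Helper17.FibGrpd
import Groth.Agent.Lib.Helper17.FibProd
import Groth.Agent.Lib.Helper17.ScComp
import Groth.Agent.S6401

set_option autoImplicit false
open CategoryTheory
universe v u
open FibCat

namespace Groth.Agent.S6413

open Groth.Agent.Lib.Helper17 Groth.Agent.Lib.Helper17.FP Groth.Agent.Lib.Helper17.FG
  Groth.Agent.Lib.Helper17.SCC

theorem sc_transport {𝒵 : Type*} [Category 𝒵] {C : Type*} [Category C] (P Q : 𝒵 ⥤ C) (h : P = Q)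
    {a b : 𝒵} (k : a ⟶ b) (hk : P.IsStronglyCartesian (P.map k) k) :
    Q.IsStronglyCartesian (Q.map k) k := by
  subst h
  exact hk

/-- For `𝒳, 𝒴` fibred in groupoids over `C` and `F : 𝒳 ⟶ 𝒴` over `C`, the projection `𝒳 ×_{F, 𝒴, id} 𝒴 ⟶
𝒴` is a category fibred in groupoids over `𝒴`. -/
theorem result {C : Type u} [Category.{v} C] {𝒳 𝒴 : BasedCategory.{v, max u v} C} (h𝒳 : FibCat.IsFibGrpd 𝒳.p) (h𝒴 : FibCat.IsFibGrpd 𝒴.p) (F : 𝒳 ⥤ᵇ 𝒴) :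
    FibCat.IsFibGrpd (FibCat.fpSnd F (BasedFunctor.id 𝒴)).toFunctor := by
  have hfp : FibCat.IsFibGrpd (FibCat.fp F (BasedFunctor.id 𝒴)).p :=
    Groth.Agent.S6401.result F (BasedFunctor.id 𝒴) h𝒳 h𝒴 h𝒴
  refine ⟨?_, ?_⟩
  · intro z V f
    obtain ⟨ψ, rfl⟩ : ∃ ψ : V ⟶ z.obj.snd, ψ = f := ⟨f, rfl⟩
    let f₀ : 𝒴.p.obj V ⟶ 𝒳.p.obj z.obj.fst := 𝒴.p.map ψ ≫ eqToHom (snd_obj z)
    obtain ⟨x', φ, hφ⟩ := exists_lift_of_eq h𝒳 (x := z.obj.fst) rfl f₀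
    have hψ0 : 𝒴.p.IsHomLift f₀ ψ := inferInstance
    have hψ : 𝒴.p.IsStronglyCartesian f₀ ψ := sc_all h𝒴 f₀ ψ hψ0
    have hFφ : 𝒴.p.IsStronglyCartesian f₀ (F.map φ) := sc_all h𝒴 f₀ (F.map φ) inferInstance
    obtain ⟨θ', hθ', hw, h⟩ := exists_sc_lift' (G := BasedFunctor.id 𝒴) z f₀ φ hφ ψ hψ hFφ hψ
    exact ⟨_, mkHom (z := mkObj x' V θ' hθ') (z' := z) φ ψ hw, hl_of_eq rfl⟩
  · intro z' z k
    apply sc_of_comp (FibCat.fpSnd F (BasedFunctor.id 𝒴)).toFunctor 𝒴.p k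
    · have h1 := hfp.isStronglyCartesian k
      exact sc_transport _ _ (FibCat.fpSnd F (BasedFunctor.id 𝒴)).w.symm k h1
    · exact h𝒴.isStronglyCartesian _

end Groth.Agent.S6413
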