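import Groth.Statements.S6414
import Mathlib

set_option autoImplicit false
open CategoryTheory
universe v₁ u₁ v₂ u₂ v₃ u₃
open FibCat

namespace Groth.Agent.S6414

/-- A morphism that is strongly cartesian with respect to `F : 𝒜 ⥤ ℬ` and whose image is strongly
cartesian with respect to `G : ℬ ⥤ 𝒞` is strongly cartesian with respect to `F ⋙ G`. -/
theorem result {𝒜 : Type u₁} [Category.{v₁} 𝒜] {ℬ : Type u₂} [Category.{v₂} ℬ] {𝒞 : Type u₃} [Category.{v₃} 𝒞] (F : 𝒜 ⥤ ℬ) (G : ℬ ⥤ 𝒞) {x y : 𝒜} (φ : x ⟶ y)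
    [F.IsStronglyCartesian (F.map φ) φ] [G.IsStronglyCartesian (G.map (F.map φ)) (F.map φ)] :
    (F ⋙ G).IsStronglyCartesian ((F ⋙ G).map φ) φ := by
  refine { toIsHomLift := inferInstance, universal_property' := ?_ }
  intro a' g φ' hφ'
  have h1 : G.map (F.map φ') = g ≫ G.map (F.map φ) :=
    (IsHomLift.eq_of_isHomLift (F ⋙ G) (g ≫ (F ⋙ G).map φ) φ').symm
  have : G.IsHomLift (g ≫ G.map (F.map φ)) (F.map φ') := by
    rw [← h1]; infer_instance
  obtain ⟨ψ, ⟨hψ1, hψ2⟩, hψu⟩ :=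
    Functor.IsStronglyCartesian.universal_property' (p := G) (f := G.map (F.map φ))
      (φ := F.map φ) g (F.map φ')
  have : F.IsHomLift (ψ ≫ F.map φ) φ' := by
    rw [hψ2]; infer_instance
  obtain ⟨χ, ⟨hχ1, hχ2⟩, hχu⟩ :=
    Functor.IsStronglyCartesian.universal_property' (p := F) (f := F.map φ)
      (φ := φ) ψ φ'
  have e1 : F.map χ = ψ := (IsHomLift.eq_of_isHomLift F ψ χ).symm
  have e2 : G.map ψ = g := (IsHomLift.eq_of_isHomLift G g ψ).symm
  refine ⟨χ, ⟨?_, hχ2⟩, ?_⟩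
  · have : (F ⋙ G).map χ = g := by simp [e1, e2]
    rw [← this]; infer_instance
  · rintro χ' ⟨h1', h2'⟩
    have e3 : G.map (F.map χ') = g := (IsHomLift.eq_of_isHomLift (F ⋙ G) g χ').symm
    have e4 : F.map χ' = ψ := by
      apply hψu
      refine ⟨?_, ?_⟩
      · rw [← e3]; infer_instance
      · rw [← F.map_comp, h2']
    apply hχu
    refine ⟨?_, h2'⟩
    rw [← e4]; infer_instance

end Groth.Agent.S6414
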