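import Groth.Statements.S6417
import Mathlib

set_option autoImplicit false
open CategoryTheory CategoryTheory.Limits
universe v₁ u₁ v₂ u₂
open FibCat

namespace Groth.Agent.S6417

theorem aux0 {𝒮 : Type u₁} [Category.{v₁} 𝒮] {C : Type u₂} [Category.{v₂} C] (p : 𝒮 ⥤ C)
    {x y z w : 𝒮} (φ : x ⟶ y) (ψ : z ⟶ y) (a : w ⟶ z)
    [p.IsStronglyCartesian (p.map φ) φ] [p.IsStronglyCartesian (p.map a) a]
    (f1 : p.obj w ⟶ p.obj x) (hP : IsPullback f1 (p.map a) (p.map φ) (p.map ψ)) :
    ∃ b : w ⟶ x, p.map b = f1 ∧ IsPullback b a φ ψ := by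
  have hl : p.IsHomLift (f1 ≫ p.map φ) (a ≫ ψ) := by
    rw [hP.w, ← p.map_comp]; infer_instance
  obtain ⟨b, ⟨hb1, hb2⟩, hbu⟩ :=
    Functor.IsStronglyCartesian.universal_property' (p := p) (f := p.map φ) (φ := φ) f1 (a ≫ ψ)
  have eb : p.map b = f1 := (IsHomLift.eq_of_isHomLift p f1 b).symm
  refine ⟨b, eb, ?_⟩
  refine ⟨⟨hb2⟩, ⟨PullbackCone.IsLimit.mk _ ?_ ?_ ?_ ?_⟩⟩
  · intro s
    have hw : p.map s.fst ≫ p.map φ = p.map s.snd ≫ p.map ψ := by
      rw [← p.map_comp, ← p.map_comp, s.condition]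
    have : p.IsHomLift (hP.lift _ _ hw ≫ p.map a) s.snd := by
      rw [hP.lift_snd]; infer_instance
    exact Classical.choose (Functor.IsStronglyCartesian.universal_property' (p := p)
      (f := p.map a) (φ := a) (hP.lift _ _ hw) s.snd)
  · intro s
    have hw : p.map s.fst ≫ p.map φ = p.map s.snd ≫ p.map ψ := by
      rw [← p.map_comp, ← p.map_comp, s.condition]
    have : p.IsHomLift (hP.lift _ _ hw ≫ p.map a) s.snd := by
      rw [hP.lift_snd]; infer_instance
    have hspec := Classical.choose_spec (Functor.IsStronglyCartesian.universal_property' (p := p)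
      (f := p.map a) (φ := a) (hP.lift _ _ hw) s.snd)
    set l := Classical.choose (Functor.IsStronglyCartesian.universal_property' (p := p)
      (f := p.map a) (φ := a) (hP.lift _ _ hw) s.snd)
    obtain ⟨⟨hl1, hl2⟩, -⟩ := hspec
    have el : p.map l = hP.lift _ _ hw := (IsHomLift.eq_of_isHomLift p _ l).symm
    have h1 : p.IsHomLift (p.map s.fst) (l ≫ b) := by
      have : p.map (l ≫ b) = p.map s.fst := by
        rw [p.map_comp, el, eb, hP.lift_fst]
      rw [← this]; infer_instance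
    have h2 : p.IsHomLift (p.map s.fst) s.fst := inferInstance
    apply Functor.IsStronglyCartesian.ext p (p.map φ) φ (p.map s.fst)
    rw [Category.assoc, hb2, ← Category.assoc, hl2, s.condition]
  · intro s
    have hw : p.map s.fst ≫ p.map φ = p.map s.snd ≫ p.map ψ := by
      rw [← p.map_comp, ← p.map_comp, s.condition]
    have : p.IsHomLift (hP.lift _ _ hw ≫ p.map a) s.snd := by
      rw [hP.lift_snd]; infer_instance
    have hspec := Classical.choose_spec (Functor.IsStronglyCartesian.universal_property' (p := p)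
      (f := p.map a) (φ := a) (hP.lift _ _ hw) s.snd)
    exact hspec.1.2
  · intro s m hm1 hm2
    have hw : p.map s.fst ≫ p.map φ = p.map s.snd ≫ p.map ψ := by
      rw [← p.map_comp, ← p.map_comp, s.condition]
    have : p.IsHomLift (hP.lift _ _ hw ≫ p.map a) s.snd := by
      rw [hP.lift_snd]; infer_instance
    have hspec := Classical.choose_spec (Functor.IsStronglyCartesian.universal_property' (p := p)
      (f := p.map a) (φ := a) (hP.lift _ _ hw) s.snd)
    apply hspec.2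
    refine ⟨?_, hm2⟩
    have : p.map m = hP.lift _ _ hw := by
      apply hP.hom_ext
      · rw [hP.lift_fst, ← eb, ← p.map_comp, hm1]
      · rw [hP.lift_snd, ← p.map_comp, hm2]
    rw [← this]; infer_instance

theorem aux1 {𝒮 : Type u₁} [Category.{v₁} 𝒮] {C : Type u₂} [Category.{v₂} C] (p : 𝒮 ⥤ C)
    {x y z w : 𝒮} (φ : x ⟶ y) (ψ : z ⟶ y) (a : w ⟶ z)
    [p.IsStronglyCartesian (p.map φ) φ] {P : C} (f1 : P ⟶ p.obj x) (f2 : P ⟶ p.obj z)
    [p.IsStronglyCartesian f2 a]
    (hP : IsPullback f1 f2 (p.map φ) (p.map ψ)) :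
    ∃ b : w ⟶ x, p.IsHomLift f1 b ∧ IsPullback b a φ ψ := by
  obtain rfl : p.obj w = P := IsHomLift.domain_eq p f2 a
  obtain rfl : f2 = p.map a := IsHomLift.eq_of_isHomLift p f2 a
  obtain ⟨b, hb1, hb2⟩ := aux0 p φ ψ a f1 hP
  refine ⟨b, ?_, hb2⟩
  rw [← hb1]; infer_instance

/-- For `p : 𝒮 ⥤ C`, a strongly cartesian `φ : x ⟶ y`, any `ψ : z ⟶ y`, and a strongly cartesian `a : w
⟶ z` lying over the second projection of `p x ×_{p y} p z`, the object `w` is a fibre product `x ×_y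
z`: there is `b : w ⟶ x` over the first projection with `(b, a)` a pullback square. -/
theorem result {𝒮 : Type u₁} [Category.{v₁} 𝒮] {C : Type u₂} [Category.{v₂} C] (p : 𝒮 ⥤ C) {x y z w : 𝒮} (φ : x ⟶ y) (ψ : z ⟶ y)
    [p.IsStronglyCartesian (p.map φ) φ] [HasPullback (p.map φ) (p.map ψ)] (a : w ⟶ z)
    [p.IsStronglyCartesian (pullback.snd (p.map φ) (p.map ψ)) a] :
    ∃ b : w ⟶ x, p.IsHomLift (pullback.fst (p.map φ) (p.map ψ)) b ∧ IsPullback b a φ ψ := by
  exact aux1 p φ ψ a _ _ (IsPullback.of_hasPullback (p.map φ) (p.map ψ))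

end Groth.Agent.S6417
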