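import Groth.Statements.S6418
import Mathlib

set_option autoImplicit false
open CategoryTheory
universe v₁ u₁ v₂ u₂
open FibCat

namespace Groth.Agent.S6418

theorem homlift_of_eq {𝒳 : Type u₁} [Category.{v₁} 𝒳] {𝒴 : Type u₂} [Category.{v₂} 𝒴]
    (p : 𝒳 ⥤ 𝒴) {a b : 𝒳} (φ : a ⟶ b) (f : p.obj a ⟶ p.obj b) (h : p.map φ = f) :
    p.IsHomLift f φ := by
  subst h; infer_instance

theorem aux0 {𝒮 : Type u₁} [Category.{v₁} 𝒮] {C : Type u₂} [Category.{v₂} C] {U : C}
    (p' : 𝒮 ⥤ Over U) {a b : 𝒮} (φ : b ⟶ a)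
    [h : (p' ⋙ Over.forget U).IsStronglyCartesian ((p' ⋙ Over.forget U).map φ) φ] :
    p'.IsStronglyCartesian (p'.map φ) φ := by
  refine { toIsHomLift := inferInstance, universal_property' := ?_ }
  intro a' g φ' hφ'
  have h1 : p'.map φ' = g ≫ p'.map φ := (IsHomLift.eq_of_isHomLift p' _ φ').symm
  let gl : (p' ⋙ Over.forget U).obj a' ⟶ (p' ⋙ Over.forget U).obj b := g.left
  have h2 : (p' ⋙ Over.forget U).IsHomLift (gl ≫ (p' ⋙ Over.forget U).map φ) φ' := by
    have : (p' ⋙ Over.forget U).map φ' = gl ≫ (p' ⋙ Over.forget U).map φ := by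
      simp [h1, gl]
    exact homlift_of_eq _ φ' _ this
  obtain ⟨χ, ⟨hχ1, hχ2⟩, hχu⟩ :=
    Functor.IsStronglyCartesian.universal_property' (p := p' ⋙ Over.forget U)
      (f := (p' ⋙ Over.forget U).map φ) (φ := φ) gl φ'
  have e1 : (p'.map χ).left = g.left :=
    (IsHomLift.eq_of_isHomLift (p' ⋙ Over.forget U) gl χ).symm
  have e2 : p'.map χ = g := Over.OverMorphism.ext e1
  refine ⟨χ, ⟨?_, hχ2⟩, ?_⟩
  · exact homlift_of_eq _ χ _ e2
  · rintro χ' ⟨h1', h2'⟩
    apply hχu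
    refine ⟨?_, h2'⟩
    have e3 : p'.map χ' = g := (IsHomLift.eq_of_isHomLift p' g χ').symm
    have : (p' ⋙ Over.forget U).map χ' = gl := by simp [e3, gl]
    exact homlift_of_eq _ χ' _ this

theorem aux1 {𝒮 : Type u₁} [Category.{v₁} 𝒮] {C : Type u₂} [Category.{v₂} C] {U : C}
    (p' : 𝒮 ⥤ Over U) {x y : 𝒮} (φ : y ⟶ x) {Rl : C} (Rh : Rl ⟶ U) (f : Over.mk Rh ⟶ p'.obj x)
    {V W : C} (g : V ⟶ W) (hV : V = Rl) (hW : W = (p'.obj x).left)
    (hg : g = eqToHom hV ≫ f.left ≫ eqToHom hW.symm)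
    [h : (p' ⋙ Over.forget U).IsStronglyCartesian g φ] :
    p'.IsStronglyCartesian f φ := by
  have h1 : (p' ⋙ Over.forget U).IsHomLift g φ := inferInstance
  obtain ⟨⟩ := h1
  subst hV
  have e1 : (p'.map φ).left = f.left := by
    simpa using hg
  have e2 : Rh = (p'.obj y).hom := by
    have := Over.w f
    dsimp at this
    rw [← this, ← e1]
    simp
  subst e2
  have e3 : f = p'.map φ := Over.OverMorphism.ext e1.symm
  subst e3
  exact aux0 p' φ

/-- If `p' : 𝒮 ⥤ C/U` composed with the forgetful functor `C/U ⥤ C` is a fibred category, then so is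
`p'`. -/
theorem result {𝒮 : Type u₁} [Category.{v₁} 𝒮] {C : Type u₂} [Category.{v₂} C] {U : C} (p' : 𝒮 ⥤ Over U) [(p' ⋙ Over.forget U).IsFibered] : p'.IsFibered := by
  apply Functor.IsFibered.of_exists_isStronglyCartesian
  intro a R f
  let fl : R.left ⟶ (p' ⋙ Over.forget U).obj a := f.left
  obtain ⟨b, φ, hφ⟩ := Functor.IsPreFibered.exists_isCartesian' (p := p' ⋙ Over.forget U)
    (a := a) fl
  have hφ' : (p' ⋙ Over.forget U).IsStronglyCartesian fl φ :=
    Functor.IsFibered.isStronglyCartesian_of_isCartesian _ _ _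
  exact ⟨b, φ, aux1 p' φ R.hom f fl rfl rfl (by simp [fl])⟩

end Groth.Agent.S6418
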