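import Groth.Statements.S6423
import Mathlib

set_option autoImplicit false
open CategoryTheory CategoryTheory.Limits
universe v u
open CatLim

namespace Groth.Agent.S6423

section
variable {J : Type} [SmallCategory J] {C : Type u} [Category.{v} C] (D : J ⥤ C)

abbrev Edge (J : Type) [SmallCategory J] := Σ a b : J, (a ⟶ b)

structure PCone (S : Set J) (E : Set (Edge J)) where
  pt : C
  π : ∀ j, j ∈ S → (pt ⟶ D.obj j)
  w : ∀ e ∈ E, ∀ (h1 : e.1 ∈ S) (h2 : e.2.1 ∈ S), π _ h1 ≫ D.map e.2.2 = π _ h2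

variable {D}

def PCone.IsUniv {S : Set J} {E : Set (Edge J)} (c : PCone D S E) : Prop :=
  ∀ c' : PCone D S E, ∃! m : c'.pt ⟶ c.pt, ∀ j h, m ≫ c.π j h = c'.π j h

variable (D)

def Rep (S : Set J) (E : Set (Edge J)) : Prop :=
  (∀ e ∈ E, e.1 ∈ S ∧ e.2.1 ∈ S) ∧ ∃ c : PCone D S E, c.IsUniv

theorem rep_base (j₀ : J) : Rep D {j₀} ∅ := by
  refine ⟨fun e he => (he : False).elim, ?_⟩
  refine ⟨⟨D.obj j₀, fun j h => eqToHom (by rw [Set.mem_singleton_iff.1 h]),
    fun e he => (he : False).elim⟩, ?_⟩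
  intro c'
  refine ⟨c'.π j₀ rfl, ?_, ?_⟩
  · intro j h
    obtain rfl : j = j₀ := h
    simp
  · intro m hm
    have := hm j₀ rfl
    simpa using this

theorem rep_addEdge [HasEqualizers C] {S : Set J} {E : Set (Edge J)} (h : Rep D S E)
    {a b : J} (ha : a ∈ S) (hb : b ∈ S) (f : a ⟶ b) : Rep D S (insert ⟨a, b, f⟩ E) := by
  obtain ⟨hE, c, hc⟩ := h
  refine ⟨?_, ?_⟩
  · intro e he
    rcases he with rfl | he
    · exact ⟨ha, hb⟩
    · exact hE e he
  let P := equalizer (c.π a ha ≫ D.map f) (c.π b hb)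
  let ι : P ⟶ c.pt := equalizer.ι _ _
  refine ⟨⟨P, fun j h => ι ≫ c.π j h, ?_⟩, ?_⟩
  · intro e he h1 h2
    rcases he with rfl | he
    · have := equalizer.condition (c.π a ha ≫ D.map f) (c.π b hb)
      simpa [ι] using this
    · rw [Category.assoc, c.w e he h1 h2]
  · intro c'
    let c'' : PCone D S E := ⟨c'.pt, c'.π, fun e he => c'.w e (Set.mem_insert_of_mem _ he)⟩
    obtain ⟨m, hm, hm'⟩ := hc c''
    have hm1 : ∀ j h, m ≫ c.π j h = c'.π j h := hm
    have heq : m ≫ (c.π a ha ≫ D.map f) = m ≫ c.π b hb := by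
      rw [← Category.assoc, hm1, hm1]
      exact c'.w ⟨a, b, f⟩ (Set.mem_insert _ _) ha hb
    refine ⟨equalizer.lift m heq, ?_, ?_⟩
    · intro j h
      change equalizer.lift m heq ≫ equalizer.ι _ _ ≫ _ = _
      rw [equalizer.lift_ι_assoc, hm1]
    · intro m' hm2
      apply equalizer.hom_ext
      rw [equalizer.lift_ι]
      apply hm'
      intro j h
      rw [Category.assoc]
      exact hm2 j h

open Classical in
theorem rep_addOut {S : Set J} {E : Set (Edge J)} (h : Rep D S E)
    {a b : J} (ha : a ∈ S) (hb : b ∉ S) (f : a ⟶ b) :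
    Rep D (insert b S) (insert ⟨a, b, f⟩ E) := by
  obtain ⟨hE, c, hc⟩ := h
  have hab : a ≠ b := fun h => hb (h ▸ ha)
  refine ⟨?_, ?_⟩
  · intro e he
    rcases he with rfl | he
    · exact ⟨Set.mem_insert_of_mem _ ha, Set.mem_insert _ _⟩
    · exact ⟨Set.mem_insert_of_mem _ (hE e he).1, Set.mem_insert_of_mem _ (hE e he).2⟩
  let π' : ∀ j, j ∈ insert b S → (c.pt ⟶ D.obj j) := fun j h =>
    if hj : j = b then c.π a ha ≫ D.map f ≫ eqToHom (by rw [hj])
    else c.π j (Set.mem_of_mem_insert_of_ne h hj)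
  have π'_b : ∀ h, π' b h = c.π a ha ≫ D.map f := by
    intro h; simp [π']
  have π'_S : ∀ j (h : j ∈ S) h', π' j h' = c.π j h := by
    intro j h h'
    have : j ≠ b := fun e => hb (e ▸ h)
    simp [π', this]
  refine ⟨⟨c.pt, π', ?_⟩, ?_⟩
  · intro e he h1 h2
    rcases he with rfl | he
    · rw [π'_b h2, π'_S a ha h1]
    · rw [π'_S _ (hE e he).1 h1, π'_S _ (hE e he).2 h2]
      exact c.w e he _ _
  · intro c'
    let c'' : PCone D S E := ⟨c'.pt, fun j h => c'.π j (Set.mem_insert_of_mem _ h),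
      fun e he h1 h2 => c'.w e (Set.mem_insert_of_mem _ he) _ _⟩
    obtain ⟨m, hm, hm'⟩ := hc c''
    have hm1 : ∀ j h, m ≫ c.π j h = c'.π j (Set.mem_insert_of_mem _ h) := hm
    refine ⟨m, ?_, ?_⟩
    · intro j h
      by_cases hj : j = b
      · subst hj
        change m ≫ π' j h = _
        rw [π'_b h, ← Category.assoc, hm1]
        exact c'.w ⟨a, j, f⟩ (Set.mem_insert _ _) _ _
      · have hjS : j ∈ S := Set.mem_of_mem_insert_of_ne h hj
        change m ≫ π' j h = _
        rw [π'_S j hjS h, hm1]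
    · intro m' hm2
      apply hm'
      intro j h
      have := hm2 j (Set.mem_insert_of_mem _ h)
      change m' ≫ π' j (Set.mem_insert_of_mem _ h) = _ at this
      rw [π'_S j h (Set.mem_insert_of_mem _ h)] at this
      exact this

open Classical in
theorem rep_addIn [HasPullbacks C] {S : Set J} {E : Set (Edge J)} (h : Rep D S E)
    {a b : J} (ha : a ∈ S) (hb : b ∉ S) (f : b ⟶ a) :
    Rep D (insert b S) (insert ⟨b, a, f⟩ E) := by
  obtain ⟨hE, c, hc⟩ := h
  have hab : a ≠ b := fun h => hb (h ▸ ha)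
  refine ⟨?_, ?_⟩
  · intro e he
    rcases he with rfl | he
    · exact ⟨Set.mem_insert _ _, Set.mem_insert_of_mem _ ha⟩
    · exact ⟨Set.mem_insert_of_mem _ (hE e he).1, Set.mem_insert_of_mem _ (hE e he).2⟩
  let P := pullback (c.π a ha) (D.map f)
  let π' : ∀ j, j ∈ insert b S → (P ⟶ D.obj j) := fun j h =>
    if hj : j = b then pullback.snd _ _ ≫ eqToHom (by rw [hj])
    else pullback.fst _ _ ≫ c.π j (Set.mem_of_mem_insert_of_ne h hj)
  have π'_b : ∀ h, π' b h = pullback.snd _ _ := by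
    intro h; simp [π']
  have π'_S : ∀ j (h : j ∈ S) h', π' j h' = pullback.fst _ _ ≫ c.π j h := by
    intro j h h'
    have : j ≠ b := fun e => hb (e ▸ h)
    simp [π', this]
  refine ⟨⟨P, π', ?_⟩, ?_⟩
  · intro e he h1 h2
    rcases he with rfl | he
    · rw [π'_b h1, π'_S a ha h2]
      exact pullback.condition.symm
    · rw [π'_S _ (hE e he).1 h1, π'_S _ (hE e he).2 h2, Category.assoc]
      rw [c.w e he _ _]
  · intro c'
    let c'' : PCone D S E := ⟨c'.pt, fun j h => c'.π j (Set.mem_insert_of_mem _ h),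
      fun e he h1 h2 => c'.w e (Set.mem_insert_of_mem _ he) _ _⟩
    obtain ⟨m, hm, hm'⟩ := hc c''
    have hm1 : ∀ j h, m ≫ c.π j h = c'.π j (Set.mem_insert_of_mem _ h) := hm
    have hcond : m ≫ c.π a ha = c'.π b (Set.mem_insert _ _) ≫ D.map f := by
      rw [hm1]
      exact (c'.w ⟨b, a, f⟩ (Set.mem_insert _ _) _ _).symm
    refine ⟨pullback.lift m (c'.π b (Set.mem_insert _ _)) hcond, ?_, ?_⟩
    · intro j h
      by_cases hj : j = b
      · subst hj
        change _ ≫ π' j h = _
        rw [π'_b h, pullback.lift_snd]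
      · have hjS : j ∈ S := Set.mem_of_mem_insert_of_ne h hj
        change _ ≫ π' j h = _
        rw [π'_S j hjS h, pullback.lift_fst_assoc, hm1]
    · intro m' hm2
      apply pullback.hom_ext
      · rw [pullback.lift_fst]
        apply hm'
        intro j h
        have := hm2 j (Set.mem_insert_of_mem _ h)
        change m' ≫ π' j (Set.mem_insert_of_mem _ h) = _ at this
        rw [π'_S j h (Set.mem_insert_of_mem _ h)] at this
        rw [Category.assoc]
        exact this
      · rw [pullback.lift_snd]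
        have := hm2 b (Set.mem_insert _ _)
        change m' ≫ π' b (Set.mem_insert _ _) = _ at this
        rw [π'_b (Set.mem_insert _ _)] at this
        exact this

theorem hasLimit_of_rep (h : Rep D Set.univ Set.univ) : HasLimit D := by
  obtain ⟨-, c, hc⟩ := h
  let cone : Cone D :=
    { pt := c.pt
      π := { app := fun j => c.π j trivial
             naturality := fun a b f => by
               have := c.w ⟨a, b, f⟩ trivial trivial trivial
               simpa using this.symm } }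
  refine ⟨⟨⟨cone, ?_⟩⟩⟩
  let mk : Cone D → PCone D Set.univ Set.univ := fun s =>
    ⟨s.pt, fun j _ => s.π.app j, fun e _ _ _ => s.w e.2.2⟩
  refine ⟨fun s => (hc (mk s)).choose, ?_, ?_⟩
  · intro s j
    exact (hc (mk s)).choose_spec.1 j trivial
  · intro s m hm
    exact (hc (mk s)).choose_spec.2 m (fun j _ => hm j)

theorem main [HasEqualizers C] [HasPullbacks C] [FinCategory J] [IsConnected J] : HasLimit D := by
  apply hasLimit_of_rep
  obtain ⟨j₀⟩ : Nonempty J := inferInstance
  let 𝒮 : Set (Set J × Set (Edge J)) := {p | Rep D p.1 p.2 ∧ j₀ ∈ p.1}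
  have : Finite J := inferInstance
  have : Finite (Edge J) := inferInstance
  have : Finite (Set J × Set (Edge J)) := inferInstance
  have hfin : 𝒮.Finite := Set.toFinite _
  have hne : 𝒮.Nonempty := ⟨⟨{j₀}, ∅⟩, rep_base D j₀, rfl⟩
  obtain ⟨⟨S, E⟩, ⟨hSE, hj₀⟩, hmax⟩ := hfin.exists_maximal hne
  have hS : S = Set.univ := by
    by_contra hne
    have : ∃ (a b : J) (f : a ⟶ b), ¬ (a ∈ S ↔ b ∈ S) := by
      by_contra hcon
      push Not at hcon
      apply hne
      ext j
      simp only [Set.mem_univ, iff_true]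
      exact induct_on_objects S hj₀ (fun {a b} f => hcon a b f) j
    obtain ⟨a, b, f, hab⟩ := this
    by_cases ha : a ∈ S
    · have hb : b ∉ S := fun hb => hab ⟨fun _ => hb, fun _ => ha⟩
      have h1 : (⟨insert b S, insert ⟨a, b, f⟩ E⟩ : Set J × Set (Edge J)) ∈ 𝒮 :=
        ⟨rep_addOut D hSE ha hb f, Set.mem_insert_of_mem _ hj₀⟩
      have h2 := hmax h1 ⟨Set.subset_insert _ _, Set.subset_insert _ _⟩
      exact hb (h2.1 (Set.mem_insert _ _))
    · have hb : b ∈ S := by
        by_contra hb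
        exact hab ⟨fun h => (ha h).elim, fun h => (hb h).elim⟩
      have h1 : (⟨insert a S, insert ⟨a, b, f⟩ E⟩ : Set J × Set (Edge J)) ∈ 𝒮 :=
        ⟨rep_addIn D hSE hb ha f, Set.mem_insert_of_mem _ hj₀⟩
      have h2 := hmax h1 ⟨Set.subset_insert _ _, Set.subset_insert _ _⟩
      exact ha (h2.1 (Set.mem_insert _ _))
  subst hS
  have hE : E = Set.univ := by
    ext e
    simp only [Set.mem_univ, iff_true]
    obtain ⟨a, b, f⟩ := e
    have h1 : (⟨Set.univ, insert ⟨a, b, f⟩ E⟩ : Set J × Set (Edge J)) ∈ 𝒮 :=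
      ⟨rep_addEdge D hSE trivial trivial f, trivial⟩
    have h2 := hmax h1 ⟨le_rfl, Set.subset_insert _ _⟩
    exact h2.2 (Set.mem_insert _ _)
  subst hE
  exact hSE

end

/-- (2) ⇒ (1): a category with equalizers and fibre products has all finite connected limits. -/
theorem result {C : Type u} [Category.{v} C] [HasEqualizers C] [HasPullbacks C]
    (J : Type) [SmallCategory J] [FinCategory J] [IsConnected J] : HasLimitsOfShape J C := by
  exact ⟨fun D => main D⟩

end Groth.Agent.S6423
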