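import Groth.Statements.S6424
import Mathlib

set_option autoImplicit false
open CategoryTheory CategoryTheory.Limits
universe v u
open CatLim

namespace Groth.Agent.S6424

theorem hasProduct_fin_succ {C : Type u} [Category.{v} C] [HasBinaryProducts C] :
    ∀ (n : ℕ) (f : Fin (n + 1) → C), HasProduct f
  | 0 => fun f => by
    have h1 : Subsingleton (Fin (0 + 1)) := inferInstanceAs (Subsingleton (Fin 1))
    have h2 : Nonempty (Fin (0 + 1)) := inferInstanceAs (Nonempty (Fin 1))
    exact hasProduct_unique f
  | n + 1 => fun f =>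
    have := hasProduct_fin_succ (C := C) n
    HasLimit.mk ⟨_, extendFanIsLimit f (limit.isLimit _) (limit.isLimit _)⟩

theorem hasLimitsOfShape_discrete_of_nonempty {C : Type u} [Category.{v} C] [HasBinaryProducts C]
    (α : Type) [Finite α] [Nonempty α] : HasLimitsOfShape (Discrete α) C := by
  obtain ⟨n, ⟨e⟩⟩ := Finite.exists_equiv_fin α
  have hn : n ≠ 0 := by
    rintro rfl
    exact (e (Classical.arbitrary α)).elim0
  obtain ⟨m, rfl⟩ := Nat.exists_eq_succ_of_ne_zero hn
  have : HasLimitsOfShape (Discrete (Fin (m + 1))) C := ⟨fun K => by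
    let that : (Discrete.functor fun n => K.obj ⟨n⟩) ≅ K := Discrete.natIso fun ⟨_⟩ => Iso.refl _
    rw [← hasLimit_iff_of_iso that]
    exact hasProduct_fin_succ m _⟩
  exact hasLimitsOfShape_of_equivalence (Discrete.equivalence e.symm)

/-- (2) ⇒ (1): a category with products of pairs and equalizers has all finite nonempty limits. -/
theorem result {C : Type u} [Category.{v} C] [HasBinaryProducts C] [HasEqualizers C]
    (J : Type) [SmallCategory J] [FinCategory J] [Nonempty J] : HasLimitsOfShape J C := by
  have : Nonempty (Σ p : J × J, p.1 ⟶ p.2) :=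
    ⟨⟨(Classical.arbitrary J, Classical.arbitrary J), 𝟙 _⟩⟩
  have := hasLimitsOfShape_discrete_of_nonempty (C := C) J
  have := hasLimitsOfShape_discrete_of_nonempty (C := C) (Σ p : J × J, p.1 ⟶ p.2)
  exact ⟨fun F => hasLimit_of_equalizer_and_product F⟩

end Groth.Agent.S6424
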