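import Groth.Statements.S6425
import Mathlib

set_option autoImplicit false
open CategoryTheory CategoryTheory.Limits
universe v
open CatLim

namespace Groth.Agent.S6425

theorem prod_ext_type {X Y : Type v} (a b : (X ⨯ Y : Type v))
    (h1 : (Limits.prod.fst : X ⨯ Y ⟶ X) a = (Limits.prod.fst : X ⨯ Y ⟶ X) b)
    (h2 : (Limits.prod.snd : X ⨯ Y ⟶ Y) a = (Limits.prod.snd : X ⨯ Y ⟶ Y) b) : a = b := by
  apply (Types.binaryProductIso X Y).toEquiv.injective
  apply Prod.ext
  · simpa using h1
  · simpa using h2


/-- Over an index category in which any two objects map to a common object, the comparison map `colim (M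
× N) → colim M × colim N` for diagrams of sets is surjective. -/
theorem result {I : Type v} [SmallCategory I]
    (hI : ∀ x y : I, ∃ (z : I) (_ : x ⟶ z) (_ : y ⟶ z), True) (M N : I ⥤ Type v) :
    Function.Surjective (prodComparison (colim : (I ⥤ Type v) ⥤ Type v) M N) := by
  intro y
  obtain ⟨i, m, hm⟩ := Types.jointly_surjective' (F := M) ((Limits.prod.fst : colim.obj M ⨯ colim.obj N ⟶ colim.obj M) y)
  obtain ⟨j, n, hn⟩ := Types.jointly_surjective' (F := N) ((Limits.prod.snd : colim.obj M ⨯ colim.obj N ⟶ colim.obj N) y)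
  obtain ⟨z, f, g, -⟩ := hI i j
  let α : coyoneda.obj (Opposite.op z) ⟶ M := coyonedaEquiv.symm (M.map f m)
  let β : coyoneda.obj (Opposite.op z) ⟶ N := coyonedaEquiv.symm (N.map g n)
  let e : (coyoneda.obj (Opposite.op z)).obj z := 𝟙 z
  let w : (M ⨯ N).obj z := (prod.lift α β).app z e
  refine ⟨colimit.ι (M ⨯ N) z w, ?_⟩
  apply prod_ext_type
  · rw [← hm]
    have h1 : prodComparison (colim : (I ⥤ Type v) ⥤ Type v) M N ≫ prod.fst = colim.map prod.fst :=
      prodComparison_fst _ _ _
    have := ConcreteCategory.congr_hom h1 (colimit.ι (M ⨯ N) z w)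
    rw [comp_apply] at this
    rw [this]
    have h2 : colimit.ι (M ⨯ N) z ≫ colim.map (prod.fst : M ⨯ N ⟶ M) = (prod.fst : M ⨯ N ⟶ M).app z ≫ colimit.ι M z := by
      simp
    have := ConcreteCategory.congr_hom h2 w
    rw [comp_apply, comp_apply] at this
    rw [this]
    have h3 : (prod.fst : M ⨯ N ⟶ M).app z w = M.map f m := by
      have : (prod.fst : M ⨯ N ⟶ M).app z w = α.app z e := by
        show (prod.fst : M ⨯ N ⟶ M).app z ((prod.lift α β).app z e) = α.app z e
        rw [← comp_apply, ← NatTrans.comp_app, prod.lift_fst]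
      rw [this]
      simp [α, e, coyonedaEquiv]
    rw [h3]
    have h5 := ConcreteCategory.congr_hom (colimit.w M f) m
    rw [comp_apply] at h5
    exact h5
  · rw [← hn]
    have h1 : prodComparison (colim : (I ⥤ Type v) ⥤ Type v) M N ≫ prod.snd = colim.map prod.snd :=
      prodComparison_snd _ _ _
    have := ConcreteCategory.congr_hom h1 (colimit.ι (M ⨯ N) z w)
    rw [comp_apply] at this
    rw [this]
    have h2 : colimit.ι (M ⨯ N) z ≫ colim.map (prod.snd : M ⨯ N ⟶ N) = (prod.snd : M ⨯ N ⟶ N).app z ≫ colimit.ι N z := by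
      simp
    have := ConcreteCategory.congr_hom h2 w
    rw [comp_apply, comp_apply] at this
    rw [this]
    have h3 : (prod.snd : M ⨯ N ⟶ N).app z w = N.map g n := by
      have : (prod.snd : M ⨯ N ⟶ N).app z w = β.app z e := by
        show (prod.snd : M ⨯ N ⟶ N).app z ((prod.lift α β).app z e) = β.app z e
        rw [← comp_apply, ← NatTrans.comp_app, prod.lift_snd]
      rw [this]
      simp [β, e, coyonedaEquiv]
    rw [h3]
    have h5 := ConcreteCategory.congr_hom (colimit.w N g) n
    rw [comp_apply] at h5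
    exact h5

end Groth.Agent.S6425
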