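import Groth.Statements.S6426
import Mathlib

set_option autoImplicit false
open CategoryTheory CategoryTheory.Limits
universe v
open CatLim

namespace Groth.Agent.S6426

/-- Over a nonempty index category in which any two objects map to a common object, the set-theoretic
colimit of a diagram of abelian groups surjects onto its colimit in abelian groups. (The published
statement does not require the index category to be nonempty; this row assumes it, because for the
empty index category the colimit of sets is empty while the colimit of abelian groups is the zero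
group.) -/
theorem result {I : Type v} [SmallCategory I] [Nonempty I]
    (hI : ∀ x y : I, ∃ (z : I) (_ : x ⟶ z) (_ : y ⟶ z), True) (M : I ⥤ AddCommGrpCat.{v}) :
    Function.Surjective (colimit.post M (forget AddCommGrpCat.{v})) := by
  have key : ∀ (i : I) (x : M.obj i),
      colimit.post M (forget AddCommGrpCat.{v}) (colimit.ι (M ⋙ forget AddCommGrpCat.{v}) i x)
        = (colimit.ι M i x : (colimit M : AddCommGrpCat.{v})) := by
    intro i x
    have := ConcreteCategory.congr_hom (colimit.ι_post M (forget AddCommGrpCat.{v}) i) x
    rw [comp_apply] at this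
    rw [this]
    rfl
  let T : AddSubgroup (colimit M : AddCommGrpCat.{v}) :=
    { carrier := Set.range (colimit.post M (forget AddCommGrpCat.{v}))
      zero_mem' := by
        obtain ⟨i⟩ := ‹Nonempty I›
        refine ⟨colimit.ι (M ⋙ forget AddCommGrpCat.{v}) i (0 : M.obj i), ?_⟩
        rw [key]
        simp
      add_mem' := by
        rintro _ _ ⟨a, rfl⟩ ⟨b, rfl⟩
        obtain ⟨i, x, rfl⟩ := Types.jointly_surjective' a
        obtain ⟨j, y, rfl⟩ := Types.jointly_surjective' b
        obtain ⟨z, f, g, -⟩ := hI i j
        refine ⟨colimit.ι (M ⋙ forget AddCommGrpCat.{v}) z ((M.map f x + M.map g y : M.obj z)), ?_⟩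
        change _ = colimit.post M (forget AddCommGrpCat.{v}) (colimit.ι (M ⋙ forget AddCommGrpCat.{v}) i x) + colimit.post M (forget AddCommGrpCat.{v}) (colimit.ι (M ⋙ forget AddCommGrpCat.{v}) j y)
        rw [key, key, key, map_add]
        congr 1
        · rw [← ConcreteCategory.comp_apply, colimit.w]
        · rw [← ConcreteCategory.comp_apply, colimit.w]
      neg_mem' := by
        rintro _ ⟨a, rfl⟩
        obtain ⟨i, x, rfl⟩ := Types.jointly_surjective' a
        let x' : M.obj i := x
        refine ⟨colimit.ι (M ⋙ forget AddCommGrpCat.{v}) i ((-x' : M.obj i)), ?_⟩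
        change _ = - colimit.post M (forget AddCommGrpCat.{v}) (colimit.ι (M ⋙ forget AddCommGrpCat.{v}) i x')
        rw [key, key]
        exact map_neg (colimit.ι M i).hom x' }
  have hT : T = ⊤ := by
    let q : (colimit M : AddCommGrpCat.{v}) ⟶ AddCommGrpCat.of ((colimit M : AddCommGrpCat.{v}) ⧸ T) :=
      AddCommGrpCat.ofHom (QuotientAddGroup.mk' T)
    have hq : q = 0 := by
      apply colimit.hom_ext
      intro i
      ext x
      simp only [q, Limits.comp_zero]
      rw [ConcreteCategory.comp_apply]
      simp only [AddCommGrpCat.hom_ofHom, QuotientAddGroup.mk'_apply]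
      change ((colimit.ι M i x : (colimit M : AddCommGrpCat.{v})) : (colimit M : AddCommGrpCat.{v}) ⧸ T) = 0
      rw [QuotientAddGroup.eq_zero_iff]
      exact ⟨colimit.ι (M ⋙ forget AddCommGrpCat.{v}) i x, key i x⟩
    rw [eq_top_iff]
    intro y _
    have : q y = 0 := by rw [hq]; rfl
    simp only [q, AddCommGrpCat.hom_ofHom, QuotientAddGroup.mk'_apply] at this
    rwa [QuotientAddGroup.eq_zero_iff] at this
  intro y
  have : (y : (colimit M : AddCommGrpCat.{v})) ∈ T := by rw [hT]; trivial
  exact this

end Groth.Agent.S6426
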