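import Groth.Statements.S6427
import Mathlib

set_option autoImplicit false
open CategoryTheory CategoryTheory.Limits
universe v
open CatLim

namespace Groth.Agent.S6427

theorem rel_of_eqvGen {I : Type v} [SmallCategory I]
    (hI : ∀ ⦃x y z : I⦄ (f : x ⟶ y) (g : x ⟶ z), ∃ (w : I) (f' : y ⟶ w) (g' : z ⟶ w), f ≫ f' = g ≫ g')
    (M : I ⥤ Type v) (a b : Σ j, M.obj j) (h : Relation.EqvGen M.ColimitTypeRel a b) :
    ∃ (k : I) (f : a.1 ⟶ k) (g : b.1 ⟶ k), M.map f a.2 = M.map g b.2 := by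
  induction h with
  | rel x y hxy =>
    obtain ⟨f, hf⟩ := hxy
    exact ⟨y.1, f, 𝟙 _, by simp [hf]⟩
  | refl x => exact ⟨x.1, 𝟙 _, 𝟙 _, rfl⟩
  | symm x y _ ih =>
    obtain ⟨k, f, g, h⟩ := ih
    exact ⟨k, g, f, h.symm⟩
  | trans x y z _ _ ih1 ih2 =>
    obtain ⟨k, f, g, h⟩ := ih1
    obtain ⟨k', f', g', h'⟩ := ih2
    obtain ⟨w, a, b, hab⟩ := hI g f'
    refine ⟨w, f ≫ a, g' ≫ b, ?_⟩
    rw [M.map_comp, M.map_comp, comp_apply, comp_apply, h, ← h', ← comp_apply, ← comp_apply,
      ← M.map_comp, ← M.map_comp, hab]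

/-- Over an index category in which every pair of morphisms with common source can be completed to a
commutative square, colimits of sets preserve injective morphisms of diagrams. -/
theorem result {I : Type v} [SmallCategory I]
    (hI : ∀ ⦃x y z : I⦄ (f : x ⟶ y) (g : x ⟶ z), ∃ (w : I) (f' : y ⟶ w) (g' : z ⟶ w), f ≫ f' = g ≫ g')
    {M N : I ⥤ Type v} (φ : M ⟶ N) (hφ : ∀ i, Function.Injective (φ.app i)) :
    Function.Injective (colimMap φ) := by
  intro a b hab
  obtain ⟨i, x, rfl⟩ := Types.jointly_surjective' a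
  obtain ⟨j, y, rfl⟩ := Types.jointly_surjective' b
  have h1 : ∀ (i : I) (x : M.obj i), colimMap φ (colimit.ι M i x) = colimit.ι N i (φ.app i x) := by
    intro i x
    have := ConcreteCategory.congr_hom (ι_colimMap φ i) x
    rw [comp_apply, comp_apply] at this
    exact this
  rw [h1, h1] at hab
  obtain ⟨k, f, g, h⟩ := rel_of_eqvGen hI N ⟨i, φ.app i x⟩ ⟨j, φ.app j y⟩ (Types.colimit_eq hab)
  dsimp at f g h
  have h2 : φ.app k (M.map f x) = φ.app k (M.map g y) := by
    have e1 := ConcreteCategory.congr_hom (φ.naturality f) x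
    have e2 := ConcreteCategory.congr_hom (φ.naturality g) y
    rw [comp_apply, comp_apply] at e1 e2
    rw [e1, e2, h]
  have h3 := hφ k h2
  exact Types.colimit_sound' f g h3

end Groth.Agent.S6427
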