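import Groth.Statements.S6428
import Mathlib

set_option autoImplicit false
open CategoryTheory CategoryTheory.Limits
universe v₁ u₁ v₂ u₂ v₃ u₃
open CatLim

namespace Groth.Agent.S6428

/-- the functor from a fibre to the structured arrow category -/
def Φ {I : Type u₁} [Category.{v₁} I] {I' : Type u₂} [Category.{v₂} I'] (F : I ⥤ I')
    {x' y' : I'} (β : x' ⟶ y') : F.Fiber y' ⥤ StructuredArrow x' F where
  obj c := StructuredArrow.mk (β ≫ eqToHom c.2.symm : x' ⟶ F.obj c.1)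
  map {c c'} φ := StructuredArrow.homMk φ.1 (by
    have := φ.2
    have h := IsHomLift.fac' F (𝟙 y') φ.1
    simp [h])
  map_id c := by ext; rfl
  map_comp φ ψ := by ext; rfl

theorem final_of {I : Type u₁} [Category.{v₁} I] {I' : Type u₂} [Category.{v₂} I'] (F : I ⥤ I')
    (h1 : ∀ x' : I', IsConnected (F.Fiber x'))
    (h2 : ∀ ⦃x' y' : I'⦄ (α' : x' ⟶ y'), ∃ (x y : I) (hx : F.obj x = x') (hy : F.obj y = y') (α : x ⟶ y), F.map α = eqToHom hx ≫ α' ≫ eqToHom hy.symm) :
    F.Final := by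
  refine ⟨fun x' => ?_⟩
  have := h1 x'
  obtain ⟨a₀⟩ := (inferInstance : Nonempty (F.Fiber x'))
  have key : ∀ s : StructuredArrow x' F, Zigzag s ((Φ F (𝟙 x')).obj a₀) := by
    intro s
    obtain ⟨a, b, hx, hy, α, hα⟩ := h2 s.hom
    have := h1 (F.obj s.right)
    -- s ~ Φ(s.hom)(⟨s.right, rfl⟩)
    have z1 : Zigzag s ((Φ F s.hom).obj ⟨s.right, rfl⟩) := by
      apply Zigzag.of_hom
      exact StructuredArrow.homMk (𝟙 _) (by simp [Φ])
    have z2 : Zigzag ((Φ F s.hom).obj ⟨s.right, rfl⟩) ((Φ F s.hom).obj ⟨b, hy⟩) :=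
      zigzag_obj_of_zigzag _ (isPreconnected_zigzag _ _)
    have z3 : Zigzag ((Φ F s.hom).obj ⟨b, hy⟩) ((Φ F (𝟙 x')).obj ⟨a, hx⟩) := by
      apply Zigzag.of_inv
      exact StructuredArrow.homMk α (by simp [Φ, hα])
    have z4 : Zigzag ((Φ F (𝟙 x')).obj ⟨a, hx⟩) ((Φ F (𝟙 x')).obj a₀) :=
      zigzag_obj_of_zigzag _ (isPreconnected_zigzag _ _)
    exact (z1.trans z2).trans (z3.trans z4)
  have : Nonempty (StructuredArrow x' F) := ⟨(Φ F (𝟙 x')).obj a₀⟩
  apply zigzag_isConnected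
  intro j₁ j₂
  exact (key j₁).trans (key j₂).symm

/-- If `F : I ⥤ I'` has connected fibre categories and is surjective on morphisms, then for every
diagram `M : I' ⥤ C` the colimit of `F ⋙ M` exists if and only if that of `M` does, and the
canonical comparison between them is then an isomorphism. -/
theorem result {I : Type u₁} [Category.{v₁} I] {I' : Type u₂} [Category.{v₂} I'] {C : Type u₃} [Category.{v₃} C] (F : I ⥤ I')
    (h1 : ∀ x' : I', IsConnected (F.Fiber x'))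
    (h2 : ∀ ⦃x' y' : I'⦄ (α' : x' ⟶ y'), ∃ (x y : I) (hx : F.obj x = x') (hy : F.obj y = y') (α : x ⟶ y), F.map α = eqToHom hx ≫ α' ≫ eqToHom hy.symm)
    (M : I' ⥤ C) :
    (HasColimit (F ⋙ M) ↔ HasColimit M) ∧ ∀ [HasColimit (F ⋙ M)] [HasColimit M], IsIso (colimit.pre M F) := by
  have : F.Final := final_of F h1 h2
  refine ⟨⟨fun _ => Functor.Final.hasColimit_of_comp F, fun _ => inferInstance⟩, ?_⟩
  intro _ _
  infer_instance

end Groth.Agent.S6428
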