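import Groth.Statements.S6429
import Mathlib

set_option autoImplicit false
open CategoryTheory CategoryTheory.MonoidalCategory
universe v u
open MonCat

namespace Groth.Agent.S6429

theorem leftEquiv {C : Type u} [Category.{v} C] [MonoidalCategory C] (X X' : C)
    (e1 : X ⊗ X' ≅ 𝟙_ C) (e2 : X' ⊗ X ≅ 𝟙_ C) : (tensorLeft X).IsEquivalence := by
  let η : 𝟭 C ≅ tensorLeft X ⋙ tensorLeft X' :=
    (leftUnitorNatIso C).symm ≪≫ (tensoringLeft C).mapIso e2.symm ≪≫ tensorLeftTensor X' X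
  let ε : tensorLeft X' ⋙ tensorLeft X ≅ 𝟭 C :=
    (tensorLeftTensor X X').symm ≪≫ (tensoringLeft C).mapIso e1 ≪≫ leftUnitorNatIso C
  exact (CategoryTheory.Equivalence.mk (tensorLeft X) (tensorLeft X') η ε).isEquivalence_functor

theorem rightEquiv {C : Type u} [Category.{v} C] [MonoidalCategory C] (X X' : C)
    (e1 : X ⊗ X' ≅ 𝟙_ C) (e2 : X' ⊗ X ≅ 𝟙_ C) : (tensorRight X).IsEquivalence := by
  let η : 𝟭 C ≅ tensorRight X ⋙ tensorRight X' :=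
    (rightUnitorNatIso C).symm ≪≫ (tensoringRight C).mapIso e1.symm ≪≫ tensorRightTensor X X'
  let ε : tensorRight X' ⋙ tensorRight X ≅ 𝟭 C :=
    (tensorRightTensor X' X).symm ≪≫ (tensoringRight C).mapIso e2 ≪≫ rightUnitorNatIso C
  exact (CategoryTheory.Equivalence.mk (tensorRight X) (tensorRight X') η ε).isEquivalence_functor

/-- An object `X` of a monoidal category is invertible (some `X'` has `X ⊗ X' ≅ 𝟙` and `X' ⊗ X ≅ 𝟙`) if
and only if tensoring on the left by `X` is an equivalence, if and only if tensoring on the right by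
`X` is an equivalence. -/
theorem result {C : Type u} [Category.{v} C] [MonoidalCategory C] (X : C) :
    ((tensorLeft X).IsEquivalence ↔ ∃ X' : C, Nonempty (X ⊗ X' ≅ 𝟙_ C) ∧ Nonempty (X' ⊗ X ≅ 𝟙_ C)) ∧
      ((tensorRight X).IsEquivalence ↔ ∃ X' : C, Nonempty (X ⊗ X' ≅ 𝟙_ C) ∧ Nonempty (X' ⊗ X ≅ 𝟙_ C)) := by
  refine ⟨⟨?_, ?_⟩, ⟨?_, ?_⟩⟩
  · intro h
    let X' := (tensorLeft X).objPreimage (𝟙_ C)
    let e1 : X ⊗ X' ≅ 𝟙_ C := (tensorLeft X).objObjPreimageIso (𝟙_ C)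
    refine ⟨X', ⟨e1⟩, ⟨?_⟩⟩
    let i : (tensorLeft X).obj (X' ⊗ X) ≅ (tensorLeft X).obj (𝟙_ C) :=
      (α_ X X' X).symm ≪≫ whiskerRightIso e1 X ≪≫ λ_ X ≪≫ (ρ_ X).symm
    exact (tensorLeft X).preimageIso i
  · rintro ⟨X', ⟨e1⟩, ⟨e2⟩⟩
    exact leftEquiv X X' e1 e2
  · intro h
    let X' := (tensorRight X).objPreimage (𝟙_ C)
    let e2 : X' ⊗ X ≅ 𝟙_ C := (tensorRight X).objObjPreimageIso (𝟙_ C)
    refine ⟨X', ⟨?_⟩, ⟨e2⟩⟩
    let i : (tensorRight X).obj (X ⊗ X') ≅ (tensorRight X).obj (𝟙_ C) :=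
      (α_ X X' X) ≪≫ whiskerLeftIso X e2 ≪≫ ρ_ X ≪≫ (λ_ X).symm
    exact (tensorRight X).preimageIso i
  · rintro ⟨X', ⟨e1⟩, ⟨e2⟩⟩
    exact rightEquiv X X' e1 e2

end Groth.Agent.S6429
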