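import Groth.Statements.S6430
-- import your own Groth.Agent.* helpers here

set_option autoImplicit false
open CategoryTheory
universe v₂ u₂ v u
open FibCat

namespace Groth.Agent.S6430

lemma isStronglyCartesian_map {C : Type u} [Category.{v} C] {𝒮 : Type u₂} [Category.{v₂} 𝒮]
    (p : 𝒮 ⥤ C) {R S : C} {a b : 𝒮} (f : R ⟶ S) (φ : a ⟶ b) [h : p.IsStronglyCartesian f φ] :
    p.IsStronglyCartesian (p.map φ) φ := by
  have hl : p.IsHomLift f φ := inferInstance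
  obtain ⟨⟩ := hl
  exact h

lemma isHomLift_cartSubProj {C : Type u} [Category.{v} C] {𝒮 : Type u₂} [Category.{v₂} 𝒮]
    (p : 𝒮 ⥤ C) {R S : C} {y x : FibCat.cartSub p} (f : R ⟶ S) (ψ : y ⟶ x)
    [h : p.IsHomLift f ψ.1] : (FibCat.cartSubProj p).IsHomLift f ψ :=
  have h1 : p.obj y.obj = R := IsHomLift.domain_eq p f ψ.1
  have h2 : p.obj x.obj = S := IsHomLift.codomain_eq p f ψ.1
  have h3 : f = eqToHom h1.symm ≫ p.map ψ.1 ≫ eqToHom h2 := IsHomLift.fac p f ψ.1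
  IsHomLift.of_fac (FibCat.cartSubProj p) f ψ h1 h2 h3

lemma isHomLift_of_cartSubProj {C : Type u} [Category.{v} C] {𝒮 : Type u₂} [Category.{v₂} 𝒮]
    (p : 𝒮 ⥤ C) {R S : C} {y x : FibCat.cartSub p} (f : R ⟶ S) (ψ : y ⟶ x)
    [h : (FibCat.cartSubProj p).IsHomLift f ψ] : p.IsHomLift f ψ.1 :=
  have h1 : (FibCat.cartSubProj p).obj y = R := IsHomLift.domain_eq (FibCat.cartSubProj p) f ψ
  have h2 : (FibCat.cartSubProj p).obj x = S := IsHomLift.codomain_eq (FibCat.cartSubProj p) f ψ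
  have h3 : f = eqToHom h1.symm ≫ (FibCat.cartSubProj p).map ψ ≫ eqToHom h2 :=
    IsHomLift.fac (FibCat.cartSubProj p) f ψ
  IsHomLift.of_fac p f ψ.1 h1 h2 h3

/-- For a fibred category `p : 𝒮 ⥤ C`, the wide subcategory of `𝒮` on the strongly cartesian morphisms
is fibred in groupoids over `C`. -/
theorem result {C : Type u} [Category.{v} C] {𝒮 : Type u₂} [Category.{v₂} 𝒮] (p : 𝒮 ⥤ C) [p.IsFibered] :
    FibCat.IsFibGrpd (FibCat.cartSubProj p) := by
  constructor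
  · intro x V f
    obtain ⟨y, φ, hφ⟩ := IsPreFibered.exists_isCartesian p (a := x.obj) rfl f
    have hsc : p.IsStronglyCartesian f φ :=
      @Functor.IsFibered.isStronglyCartesian_of_isCartesian _ _ _ _ p _ _ _ f _ _ φ hφ
    have hsc' := isStronglyCartesian_map p f φ
    have hl : p.IsHomLift f φ := hsc.toIsHomLift
    exact ⟨⟨y⟩, ⟨φ, hsc'⟩, isHomLift_cartSubProj p f (⟨φ, hsc'⟩ : (⟨y⟩ : FibCat.cartSub p) ⟶ x)⟩
  · intro y x φ
    have hφ : p.IsStronglyCartesian (p.map φ.1) φ.1 := φ.2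
    refine { toIsHomLift := inferInstance, universal_property' := ?_ }
    intro z g ψ hψ
    have hψ' : p.IsHomLift (g ≫ p.map φ.1) ψ.1 :=
      @isHomLift_of_cartSubProj _ _ _ _ p _ _ _ _ (g ≫ p.map φ.1) ψ hψ
    obtain ⟨χ, ⟨hχ1, hχ2⟩, huniq⟩ :=
      Functor.IsStronglyCartesian.universal_property p (p.map φ.1) φ.1 g (g ≫ p.map φ.1) rfl ψ.1
    have hχsc : p.IsStronglyCartesian (p.map χ) χ := by
      have h1 : p.IsStronglyCartesian (p.map χ ≫ p.map φ.1) (χ ≫ φ.1) := by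
        rw [← p.map_comp, hχ2]
        exact ψ.2
      exact Functor.IsStronglyCartesian.of_comp p (f := p.map χ) (g := p.map φ.1) (φ := χ) (ψ := φ.1)
    refine ⟨⟨χ, hχsc⟩, ⟨?_, ?_⟩, ?_⟩
    · exact @isHomLift_cartSubProj _ _ _ _ p _ _ _ _ g (⟨χ, hχsc⟩ : z ⟶ y) hχ1
    · exact WideSubcategory.hom_ext _ hχ2
    · rintro χ' ⟨hχ'1, hχ'2⟩
      apply WideSubcategory.hom_ext
      apply huniq
      exact ⟨@isHomLift_of_cartSubProj _ _ _ _ p _ _ _ _ g χ' hχ'1, congrArg (fun m ↦ m.1) hχ'2⟩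

end Groth.Agent.S6430
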