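import Groth.Statements.S6433
import Mathlib

set_option autoImplicit false
open CategoryTheory
universe v u v' u'
open CatLoc

namespace Groth.Agent.S6433

theorem aux {C : Type u} [Category.{v} C] {D : Type u'} [Category.{v'} D] (W : MorphismProperty C) (L : C ⥤ D) [L.IsLocalization W] [W.HasLeftCalculusOfFractions] (Y : C)
    (ι : Type) [Finite ι] : ∀ (X : ι → C) (g : ∀ i, L.obj (X i) ⟶ L.obj Y),
    ∃ (Y' : C) (s : Y ⟶ Y') (_ : W s), ∀ i, ∃ (f : X i ⟶ Y'), g i ≫ L.map s = L.map f := by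
  induction ι using Finite.induction_empty_option with
  | of_equiv e ih =>
    intro X g
    obtain ⟨Y', s, hs, h⟩ := ih (fun a => X (e a)) (fun a => g (e a))
    refine ⟨Y', s, hs, ?_⟩
    intro b
    obtain ⟨a, rfl⟩ := e.surjective b
    exact h a
  | h_empty =>
    intro X g
    exact ⟨Y, 𝟙 Y, W.id_mem Y, fun i => i.elim⟩
  | h_option ih =>
    intro X g
    obtain ⟨Y', s, hs, h⟩ := ih (fun a => X (some a)) (fun a => g (some a))
    obtain ⟨φ, hφ⟩ := Localization.exists_leftFraction L W (g none)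
    let ρ : W.RightFraction φ.Y' Y' := { X' := Y, s := φ.s, hs := φ.hs, f := s }
    obtain ⟨ψ, hψ⟩ := ρ.exists_leftFraction
    refine ⟨ψ.Y', s ≫ ψ.s, W.comp_mem _ _ hs ψ.hs, ?_⟩
    intro i
    cases i with
    | none =>
      refine ⟨φ.f ≫ ψ.f, ?_⟩
      have h1 : s ≫ ψ.s = φ.s ≫ ψ.f := hψ
      rw [h1, hφ, L.map_comp, L.map_comp, ← Category.assoc, MorphismProperty.LeftFraction.map_comp_map_s]
    | some a =>
      obtain ⟨f, hf⟩ := h a
      refine ⟨f ≫ ψ.s, ?_⟩
      rw [L.map_comp, L.map_comp, ← Category.assoc, hf]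

/-- For a left multiplicative system `W` and a localization functor `L`, any finite family of morphisms
`L X_i ⟶ L Y` admits a common denominator: some `s : Y ⟶ Y'` in `W` and morphisms `f_i : X_i ⟶ Y'`
with `g_i = L(s)⁻¹ L(f_i)`. -/
theorem result {C : Type u} [Category.{v} C] {D : Type u'} [Category.{v'} D] (W : MorphismProperty C) (L : C ⥤ D) [L.IsLocalization W] [W.HasLeftCalculusOfFractions]
    {ι : Type} [Finite ι] (X : ι → C) (Y : C) (g : ∀ i, L.obj (X i) ⟶ L.obj Y) :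
    ∃ (Y' : C) (s : Y ⟶ Y') (_ : W s) (f : ∀ i, X i ⟶ Y'), ∀ i, g i ≫ L.map s = L.map (f i) := by
  obtain ⟨Y', s, hs, h⟩ := aux W L Y ι X g
  choose f hf using h
  exact ⟨Y', s, hs, f, hf⟩

end Groth.Agent.S6433
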