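import Groth.Statements.S6434
import Groth.Agent.S6433
import Mathlib

set_option autoImplicit false
open CategoryTheory
universe v u v' u'
open CatLoc

namespace Groth.Agent.S6434


theorem eqz {C : Type u} [Category.{v} C] {D : Type u'} [Category.{v'} D] (W : MorphismProperty C)
    (L : C ⥤ D) [L.IsLocalization W] [W.HasLeftCalculusOfFractions] (Y : C)
    (ι : Type) [Finite ι] : ∀ (X : ι → C) (a b : ∀ i, X i ⟶ Y),
    (∀ i, L.map (a i) = L.map (b i)) →
    ∃ (Y' : C) (t : Y ⟶ Y') (_ : W t), ∀ i, a i ≫ t = b i ≫ t := by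
  induction ι using Finite.induction_empty_option with
  | of_equiv e ih =>
    intro X a b h
    obtain ⟨Y', t, ht, h'⟩ := ih (fun x => X (e x)) (fun x => a (e x)) (fun x => b (e x))
      (fun x => h (e x))
    refine ⟨Y', t, ht, ?_⟩
    intro y
    obtain ⟨x, rfl⟩ := e.surjective y
    exact h' x
  | h_empty =>
    intro X a b h
    exact ⟨Y, 𝟙 Y, W.id_mem Y, fun i => i.elim⟩
  | h_option ih =>
    intro X a b h
    obtain ⟨Y', t, ht, h'⟩ := ih (fun x => X (some x)) (fun x => a (some x)) (fun x => b (some x))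
      (fun x => h (some x))
    have h0 : L.map (a none ≫ t) = L.map (b none ≫ t) := by
      rw [L.map_comp, L.map_comp, h none]
    obtain ⟨Y'', t', ht', h''⟩ := (MorphismProperty.map_eq_iff_postcomp L W _ _).1 h0
    refine ⟨Y'', t ≫ t', W.comp_mem _ _ ht ht', ?_⟩
    intro i
    cases i with
    | none => simpa using h''
    | some x => rw [← Category.assoc, h' x, Category.assoc]

/-- The localization functor at a left multiplicative system commutes with finite colimits. -/
theorem result {C : Type u} [Category.{v} C] {D : Type u'} [Category.{v'} D] (W : MorphismProperty C) (L : C ⥤ D) [L.IsLocalization W] [W.HasLeftCalculusOfFractions] :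
    Limits.PreservesFiniteColimits L := by
  constructor
  intro J _ _
  constructor
  intro K
  constructor
  intro c hc
  haveI : L.EssSurj := Localization.essSurj L W
  refine ⟨Limits.IsColimit.ofExistsUnique ?_⟩
  intro s
  let Z := L.objPreimage s.pt
  let e : L.obj Z ≅ s.pt := L.objObjPreimageIso s.pt
  -- existence
  obtain ⟨Z', σ, hσ, f, hf⟩ := Groth.Agent.S6433.result W L (fun j : J => K.obj j) Z
    (fun j => s.ι.app j ≫ e.inv)
  have hcompat : ∀ x : (Σ (j j' : J), (j ⟶ j')),
      L.map (K.map x.2.2 ≫ f x.2.1) = L.map (f x.1) := by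
    rintro ⟨j, j', u⟩
    dsimp
    rw [L.map_comp, ← hf j', ← hf j]
    have := s.ι.naturality u
    dsimp at this
    rw [Category.comp_id] at this
    rw [← this]
    simp
  obtain ⟨Z'', t, ht, htt⟩ := eqz W L Z' (Σ (j j' : J), (j ⟶ j')) (fun x => K.obj x.1)
    (fun x => K.map x.2.2 ≫ f x.2.1) (fun x => f x.1) hcompat
  let c' : Limits.Cocone K :=
    { pt := Z''
      ι :=
        { app := fun j => f j ≫ t
          naturality := fun j j' u => by
            have := htt ⟨j, j', u⟩
            dsimp at this ⊢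
            rw [Category.comp_id, ← Category.assoc, this] } }
  haveI : IsIso (L.map (σ ≫ t)) := Localization.inverts L W _ (W.comp_mem _ _ hσ ht)
  have hex : ∀ j, L.map (c.ι.app j) ≫ (L.map (hc.desc c') ≫ inv (L.map (σ ≫ t)) ≫ e.hom) =
      s.ι.app j := by
    intro j
    rw [← Category.assoc, ← L.map_comp, hc.fac c' j]
    change L.map (f j ≫ t) ≫ _ = _
    rw [L.map_comp, ← hf j]
    simp only [Category.assoc]
    rw [← L.map_comp_assoc σ t, IsIso.hom_inv_id_assoc, Iso.inv_hom_id, Category.comp_id]
  refine ⟨L.map (hc.desc c') ≫ inv (L.map (σ ≫ t)) ≫ e.hom, hex, ?_⟩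
  -- uniqueness
  intro m' hm'
  obtain ⟨Z₁, σ₁, hσ₁, g, hg⟩ := Groth.Agent.S6433.result W L (fun _ : Bool => c.pt) Z
    (fun b => if b then (L.map (hc.desc c') ≫ inv (L.map (σ ≫ t)) ≫ e.hom) ≫ e.inv else m' ≫ e.inv)
  have h1 := hg true
  have h2 := hg false
  simp only [if_true, Bool.false_eq_true, if_false] at h1 h2
  have hj : ∀ j : J, L.map (c.ι.app j ≫ g true) = L.map (c.ι.app j ≫ g false) := by
    intro j
    rw [L.map_comp, L.map_comp, ← h1, ← h2]
    have e1 := hex j
    have e2 : L.map (c.ι.app j) ≫ m' = s.ι.app j := hm' j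
    simp only [Category.assoc]
    rw [reassoc_of% e1, reassoc_of% e2]
  obtain ⟨Z₂, t₁, ht₁, htt₁⟩ := eqz W L Z₁ J (fun j => K.obj j) (fun j => c.ι.app j ≫ g true)
    (fun j => c.ι.app j ≫ g false) hj
  have hgg : g true ≫ t₁ = g false ≫ t₁ := by
    apply hc.hom_ext
    intro j
    have := htt₁ j
    simpa using this
  haveI : IsIso (L.map t₁) := Localization.inverts L W _ ht₁
  haveI : IsIso (L.map σ₁) := Localization.inverts L W _ hσ₁
  have hLg : L.map (g true) = L.map (g false) := by
    rw [← cancel_mono (L.map t₁), ← L.map_comp, ← L.map_comp, hgg]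
  rw [← h1, ← h2, cancel_mono, cancel_mono] at hLg
  exact hLg.symm

end Groth.Agent.S6434
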