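import Groth.Statements.S6439
import Mathlib.CategoryTheory.Bicategory.Basic
import Mathlib.CategoryTheory.Equivalence

set_option autoImplicit false
open CategoryTheory
universe v u
open FibCat

namespace Groth.Agent.S6439

section aux
open Bicategory
universe w₁ v₁ u₁
variable {B : Type u₁} [Bicategory.{w₁, v₁} B]

noncomputable def precompEquiv {a b : B} (c : B) (f : a ⟶ b) (g : b ⟶ a) (e₁ : f ≫ g ≅ 𝟙 a) (e₂ : g ≫ f ≅ 𝟙 b) :
    (b ⟶ c) ≌ (a ⟶ c) :=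
  CategoryTheory.Equivalence.mk (precomp c f) (precomp c g)
    (NatIso.ofComponents (fun h => (λ_ h).symm ≪≫ whiskerRightIso e₂.symm h ≪≫ α_ g f h)
      (by
        intro h h' η
        show η ≫ (λ_ h').inv ≫ e₂.inv ▷ h' ≫ (α_ g f h').hom =
          ((λ_ h).inv ≫ e₂.inv ▷ h ≫ (α_ g f h).hom) ≫ g ◁ f ◁ η
        simp only [Category.assoc]
        rw [← associator_naturality_right, ← whisker_exchange_assoc,
          ← leftUnitor_inv_naturality_assoc]))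
    (NatIso.ofComponents (fun k => (α_ f g k).symm ≪≫ whiskerRightIso e₁ k ≪≫ λ_ k)
      (by
        intro h h' η
        show (f ◁ g ◁ η) ≫ (α_ f g h').inv ≫ e₁.hom ▷ h' ≫ (λ_ h').hom =
          ((α_ f g h).inv ≫ e₁.hom ▷ h ≫ (λ_ h).hom) ≫ η
        simp only [Category.assoc]
        rw [associator_inv_naturality_right_assoc, whisker_exchange_assoc,
          leftUnitor_naturality]))

noncomputable def postcompEquiv {b c : B} (a : B) (f : b ⟶ c) (g : c ⟶ b) (e₁ : f ≫ g ≅ 𝟙 b) (e₂ : g ≫ f ≅ 𝟙 c) :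
    (a ⟶ b) ≌ (a ⟶ c) :=
  CategoryTheory.Equivalence.mk (postcomp a f) (postcomp a g)
    (NatIso.ofComponents (fun h => (ρ_ h).symm ≪≫ whiskerLeftIso h e₁.symm ≪≫ (α_ h f g).symm)
      (by
        intro h h' η
        show η ≫ (ρ_ h').inv ≫ h' ◁ e₁.inv ≫ (α_ h' f g).inv =
          ((ρ_ h).inv ≫ h ◁ e₁.inv ≫ (α_ h f g).inv) ≫ (η ▷ f) ▷ g
        simp only [Category.assoc]
        rw [← associator_inv_naturality_left, whisker_exchange_assoc,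
          ← rightUnitor_inv_naturality_assoc]))
    (NatIso.ofComponents (fun k => (α_ k g f) ≪≫ whiskerLeftIso k e₂ ≪≫ ρ_ k)
      (by
        intro h h' η
        show ((η ▷ g) ▷ f) ≫ (α_ h' g f).hom ≫ h' ◁ e₂.hom ≫ (ρ_ h').hom =
          ((α_ h g f).hom ≫ h ◁ e₂.hom ≫ (ρ_ h).hom) ≫ η
        simp only [Category.assoc]
        rw [associator_naturality_left_assoc, ← whisker_exchange_assoc,
          rightUnitor_naturality]))

end aux


/-- For categories fibred in groupoids over `C` and equivalences `φ : 𝒮₁ ⟶ 𝒮₂`, `ψ : 𝒮₃ ⟶ 𝒮₄` over `C`,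
the functor `α ↦ ψ ∘ α ∘ φ` between the categories of functors over `C` is an equivalence of
categories. -/
theorem result {C : Type u} [Category.{v} C] {𝒮₁ 𝒮₂ 𝒮₃ 𝒮₄ : BasedCategory.{v, max u v} C}
    (h₁ : FibCat.IsFibGrpd 𝒮₁.p) (h₂ : FibCat.IsFibGrpd 𝒮₂.p) (h₃ : FibCat.IsFibGrpd 𝒮₃.p) (h₄ : FibCat.IsFibGrpd 𝒮₄.p)
    (φ : 𝒮₁ ⟶ 𝒮₂) (ψ : 𝒮₃ ⟶ 𝒮₄) (hφ : FibCat.IsEquivOver φ) (hψ : FibCat.IsEquivOver ψ) :
    (Bicategory.precomp 𝒮₃ φ ⋙ Bicategory.postcomp 𝒮₁ ψ).IsEquivalence := by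
  obtain ⟨G, ⟨e₁⟩, ⟨e₂⟩⟩ := hφ
  obtain ⟨G', ⟨e₁'⟩, ⟨e₂'⟩⟩ := hψ
  have i1 : (Bicategory.precomp 𝒮₃ φ).IsEquivalence :=
    (precompEquiv 𝒮₃ φ G e₁ e₂).isEquivalence_functor
  have i2 : (Bicategory.postcomp 𝒮₁ ψ).IsEquivalence :=
    (postcompEquiv 𝒮₁ ψ G' e₁' e₂').isEquivalence_functor
  infer_instance

end Groth.Agent.S6439
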