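import Groth.Statements.S6442
import Mathlib

set_option autoImplicit false
open CategoryTheory CategoryTheory.Limits Opposite
universe u
open SiteMisc

namespace Groth.Agent.S6442

section Aux
open CategoryTheory CategoryTheory.Limits Opposite


variable {C : Type u} [SmallCategory C] (J : GrothendieckTopology C) (U : C)

/-- index type -/
abbrev Idx (S : Sieve U) : Type u := Σ V : C, {f : V ⟶ U // S f}

/-- the family of representables -/
abbrev fam (S : Sieve U) : Idx U S → (Cᵒᵖ ⥤ Type u) := fun i => yoneda.obj i.1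

/-- the presheaf map -/
noncomputable abbrev dmap (S : Sieve U) : (∐ fam U S) ⟶ yoneda.obj U :=
  Sigma.desc (fun i : Idx U S => yoneda.map i.2.1)

lemma dmap_locSurj (S : Sieve U) (hS : S ∈ J U) : Presheaf.IsLocallySurjective J (dmap U S) := by
  constructor
  intro W x
  -- x : W ⟶ U
  refine J.superset_covering ?_ (J.pullback_stable (x : W ⟶ U) hS)
  intro W' g hg
  -- hg : S (g ≫ x)
  let i : Idx U S := ⟨W', ⟨g ≫ (x : W ⟶ U), hg⟩⟩
  refine ⟨(Sigma.ι (fam U S) i).app (op W') (𝟙 W'), ?_⟩
  have h1 : Sigma.ι (fam U S) i ≫ dmap U S = yoneda.map i.2.1 := Sigma.ι_desc _ _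
  have h2 := ConcreteCategory.congr_hom (NatTrans.congr_app h1 (op W')) (𝟙 W')
  refine h2.trans ?_
  simp [i]

lemma splitEpi_of_surj (S : Sieve U) (hS : S ∈ J U)
    (h : ∀ (F G : Sheaf J (Type u)) (φ : F ⟶ G), Epi φ → Function.Surjective (φ.hom.app (op U))) :
    IsSplitEpi ((presheafToSheaf J (Type u)).map (dmap U S)) := by
  haveI : Sheaf.IsLocallySurjective ((presheafToSheaf J (Type u)).map (dmap U S)) :=
    (Presheaf.isLocallySurjective_presheafToSheaf_map_iff (J := J) (dmap U S)).mpr
      (dmap_locSurj J U S hS)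
  have hepi : Epi ((presheafToSheaf J (Type u)).map (dmap U S)) := inferInstance
  obtain ⟨τ, hτ⟩ := h _ _ _ hepi ((toSheafify J (yoneda.obj U)).app (op U) (𝟙 U))
  let σ : (presheafToSheaf J (Type u)).obj (yoneda.obj U) ⟶
      (presheafToSheaf J (Type u)).obj (∐ fam U S) :=
    ⟨sheafifyLift J (yonedaEquiv.symm τ) ((presheafToSheaf J (Type u)).obj _).property⟩
  refine ⟨⟨σ, ?_⟩⟩
  apply Sheaf.hom_ext
  apply sheafify_hom_ext J _ _ ((presheafToSheaf J (Type u)).obj _).property
  change toSheafify J _ ≫ (sheafifyLift J _ _ ≫ sheafifyMap J (dmap U S)) = toSheafify J _ ≫ 𝟙 _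
  rw [toSheafify_sheafifyLift_assoc, Category.comp_id]
  apply yonedaEquiv.injective
  rw [yonedaEquiv_comp, Equiv.apply_symm_apply]
  exact hτ

lemma surj_of_splitEpi
    (h : ∀ S : Sieve U, S ∈ J U → IsSplitEpi ((presheafToSheaf J (Type u)).map (dmap U S)))
    (F G : Sheaf J (Type u)) (φ : F ⟶ G) (hφ : Epi φ) :
    Function.Surjective (φ.hom.app (op U)) := by
  intro s
  haveI : Sheaf.IsLocallySurjective φ := (Sheaf.isLocallySurjective_iff_epi φ).mpr hφ
  have hS : Presheaf.imageSieve φ.hom s ∈ J U := Presheaf.imageSieve_mem J φ.hom s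
  haveI := h _ hS
  let t : ∀ i : Idx U (Presheaf.imageSieve φ.hom s), F.obj.obj (op i.1) :=
    fun i => Presheaf.localPreimage φ.hom s i.2.1 i.2.2
  have ht : ∀ i, φ.hom.app _ (t i) = G.obj.map i.2.1.op s :=
    fun i => Presheaf.app_localPreimage φ.hom s i.2.1 i.2.2
  let a₀ : (∐ fam U (Presheaf.imageSieve φ.hom s)) ⟶ F.obj :=
    Sigma.desc (fun i => yonedaEquiv.symm (t i))
  let a := sheafifyLift J a₀ F.property
  let σ := (section_ ((presheafToSheaf J (Type u)).map
    (dmap U (Presheaf.imageSieve φ.hom s)))).hom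
  let stilde := sheafifyLift J (yonedaEquiv.symm s) G.property
  have hσ : σ ≫ sheafifyMap J (dmap U (Presheaf.imageSieve φ.hom s)) = 𝟙 _ :=
    Sheaf.hom_ext_iff.mp (IsSplitEpi.id ((presheafToSheaf J (Type u)).map
      (dmap U (Presheaf.imageSieve φ.hom s))))
  have key : a ≫ φ.hom = sheafifyMap J (dmap U (Presheaf.imageSieve φ.hom s)) ≫ stilde := by
    apply sheafify_hom_ext J _ _ G.property
    rw [toSheafify_sheafifyLift_assoc, ← toSheafify_naturality_assoc, toSheafify_sheafifyLift]
    apply Sigma.hom_ext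
    intro i
    rw [Sigma.ι_desc_assoc, Sigma.ι_desc_assoc]
    apply yonedaEquiv.injective
    rw [yonedaEquiv_comp, Equiv.apply_symm_apply, ht, yonedaEquiv_comp]
    simp only [yonedaEquiv_symm_app_apply]
    exact congrArg (fun (f : i.1 ⟶ U) => G.obj.map f.op s) (yonedaEquiv_yoneda_map i.2.1).symm
  refine ⟨yonedaEquiv (toSheafify J _ ≫ σ ≫ a), ?_⟩
  rw [← yonedaEquiv_comp, Category.assoc, Category.assoc, key, reassoc_of% hσ,
    toSheafify_sheafifyLift, Equiv.apply_symm_apply]

theorem main :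
    (∀ S : Sieve U, S ∈ J U →
      IsSplitEpi ((presheafToSheaf J (Type u)).map
        (Sigma.desc (fun i : (Σ V : C, {f : V ⟶ U // S f}) => yoneda.map i.2.1) :
          (∐ fun i : (Σ V : C, {f : V ⟶ U // S f}) => yoneda.obj i.1) ⟶ yoneda.obj U))) ↔
    ∀ (F G : Sheaf J (Type u)) (φ : F ⟶ G), Epi φ → Function.Surjective (φ.hom.app (op U)) :=
  ⟨fun h F G φ hφ => surj_of_splitEpi J U h F G φ hφ,
    fun h S hS => splitEpi_of_surj J U S hS h⟩


end Aux

/-- An object `U` of a site is weakly contractible, i.e. for every covering sieve `S` the sheafified map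
`(∐_{V → U ∈ S} h_V)^# ⟶ h_U^#` has a section, if and only if taking sections over `U` turns
epimorphisms of sheaves of sets into surjections. (Coverings are taken as covering sieves; the
coproduct is formed in presheaves and then sheafified.) -/
theorem result {C : Type u} [SmallCategory C] (J : GrothendieckTopology C) (U : C) :
    (∀ S : Sieve U, S ∈ J U →
      IsSplitEpi ((presheafToSheaf J (Type u)).map
        (Sigma.desc (fun i : (Σ V : C, {f : V ⟶ U // S f}) => yoneda.map i.2.1) :
          (∐ fun i : (Σ V : C, {f : V ⟶ U // S f}) => yoneda.obj i.1) ⟶ yoneda.obj U))) ↔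
    ∀ (F G : Sheaf J (Type u)) (φ : F ⟶ G), Epi φ → Function.Surjective (φ.hom.app (op U)) := by
  exact main J U

end Groth.Agent.S6442
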