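import Groth.Statements.S6444
import Mathlib.CategoryTheory.Localization.CalculusOfFractions

set_option autoImplicit false
open CategoryTheory
universe v u v' u'
open CatLoc

namespace Groth.Agent.S6444

/-- For a left multiplicative system, a commutative square in the localization between the images of two
morphisms `f, f'` of `C` lifts to a commutative diagram `X → X'' ← X'`, `Y → Y'' ← Y'` in `C` over a
third morphism `f''`, the backward arrows lying in `W`. -/
theorem result {C : Type u} [Category.{v} C] {D : Type u'} [Category.{v'} D] (W : MorphismProperty C) (L : C ⥤ D) [L.IsLocalization W] [W.HasLeftCalculusOfFractions]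
    {X Y X' Y' : C} (f : X ⟶ Y) (f' : X' ⟶ Y') (a : L.obj X ⟶ L.obj X') (b : L.obj Y ⟶ L.obj Y') (w : L.map f ≫ b = a ≫ L.map f') :
    ∃ (X'' Y'' : C) (f'' : X'' ⟶ Y'') (g : X ⟶ X'') (h : Y ⟶ Y'') (s : X' ⟶ X'') (t : Y' ⟶ Y''),
      W s ∧ W t ∧ f ≫ h = g ≫ f'' ∧ f' ≫ t = s ≫ f'' ∧ L.map g = a ≫ L.map s ∧ L.map h = b ≫ L.map t := by
  obtain ⟨φ, hφ⟩ := Localization.exists_leftFraction L W a
  obtain ⟨ψ, hψ⟩ := Localization.exists_leftFraction L W b
  have ha : a ≫ L.map φ.s = L.map φ.f := by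
    rw [hφ]; exact φ.map_comp_map_s L (Localization.inverts L W)
  have hb : b ≫ L.map ψ.s = L.map ψ.f := by
    rw [hψ]; exact ψ.map_comp_map_s L (Localization.inverts L W)
  obtain ⟨χ, hχ⟩ := (MorphismProperty.RightFraction.mk φ.s φ.hs (f' ≫ ψ.s)).exists_leftFraction
  dsimp at hχ
  have key : L.map (f ≫ ψ.f ≫ χ.s) = L.map (φ.f ≫ χ.f) := by
    simp only [L.map_comp]
    rw [← hb, ← ha]
    simp only [Category.assoc]
    rw [reassoc_of% w]
    simp only [← L.map_comp]
    simp only [Category.assoc] at hχ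
    rw [hχ]
  obtain ⟨Z, t, ht, fac⟩ := (MorphismProperty.map_eq_iff_postcomp L W _ _).1 key
  refine ⟨_, Z, χ.f ≫ t, φ.f, ψ.f ≫ χ.s ≫ t, φ.s, ψ.s ≫ χ.s ≫ t, φ.hs,
    W.comp_mem _ _ ψ.hs (W.comp_mem _ _ χ.hs ht), ?_, ?_, ha.symm, ?_⟩
  · simpa only [Category.assoc] using fac
  · simp only [Category.assoc] at hχ
    rw [reassoc_of% hχ]
  · rw [L.map_comp, L.map_comp ψ.s, ← hb, Category.assoc]

end Groth.Agent.S6444
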