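import Groth.Statements.S6446
import Mathlib.CategoryTheory.Limits.Types.Filtered

set_option autoImplicit false
open CategoryTheory CategoryTheory.Limits Opposite
universe v u
open CatLim

namespace Groth.Agent.S6446

theorem desc_ι {I : Type v} [SmallCategory I] {C : Type u} [Category.{v} C]
    (M : I ⥤ C) (c : Cocone M) (W : C) (i : I) (f : W ⟶ M.obj i) :
    colimit.desc (M ⋙ coyoneda.obj (op W)) ((coyoneda.obj (op W)).mapCocone c)
      (colimit.ι (M ⋙ coyoneda.obj (op W)) i f) = f ≫ c.ι.app i := by
  have := ConcreteCategory.congr_hom (colimit.ι_desc ((coyoneda.obj (op W)).mapCocone c) i) f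
  exact this

/-- (2) ⇒ (1): over a filtered index category, a diagram `M` with a cocone `(X, M_i → X)` inducing
bijections `colim_i Mor(W, M_i) → Mor(W, X)` for all `W` is essentially constant as an ind-object
with value `X`. -/
theorem result {I : Type v} [SmallCategory I] [IsFiltered I] {C : Type u} [Category.{v} C]
    (M : I ⥤ C) (c : Cocone M)
    (h : ∀ W : C, Function.Bijective (colimit.desc (M ⋙ coyoneda.obj (op W)) ((coyoneda.obj (op W)).mapCocone c))) :
    CatLim.IsEssConstInd M c := by
  obtain ⟨x, hx⟩ := (h c.pt).2 (𝟙 c.pt)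
  obtain ⟨i, s, rfl⟩ := Types.jointly_surjective' x
  rw [desc_ι] at hx
  refine ⟨i, s, hx, fun j => ?_⟩
  have heq : colimit.ι (M ⋙ coyoneda.obj (op (M.obj j))) j (𝟙 (M.obj j)) =
      colimit.ι (M ⋙ coyoneda.obj (op (M.obj j))) i (c.ι.app j ≫ s) := by
    apply (h (M.obj j)).1
    rw [desc_ι, desc_ι, Category.id_comp, Category.assoc, hx]
    exact (Category.comp_id _).symm
  obtain ⟨k, f, g, hfg⟩ := (Types.FilteredColimit.colimit_eq_iff _).mp heq
  refine ⟨k, g, f, ?_⟩
  simpa using hfg

end Groth.Agent.S6446
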