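import Groth.Statements.S6447
-- import your own Groth.Agent.* helpers here

set_option autoImplicit false
open CategoryTheory CategoryTheory.Limits
universe v u
open FibCat

namespace Groth.Agent.S6447


section helpers

open CategoricalPullback

variable {X Y V : Type u} [Category.{v} X] [Category.{v} Y] [Category.{v} V] (p : X ⥤ Y) (q : V ⥤ Y)

abbrev psi : CatCospanTransform (CategoricalPullback.π₂ p q) (CategoricalPullback.π₂ p q) p p :=
  ⟨CategoricalPullback.π₁ p q, q, CategoricalPullback.π₁ p q,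
    ⟨(CatCommSq.iso (CategoricalPullback.π₁ p q) (CategoricalPullback.π₂ p q) p q).symm⟩,
    ⟨(CatCommSq.iso (CategoricalPullback.π₁ p q) (CategoricalPullback.π₂ p q) p q).symm⟩⟩

abbrev DX : X ⥤ CategoricalPullback p p :=
  (CategoricalPullback.CatCommSqOver.toFunctorToCategoricalPullback p p X).obj
    ⟨𝟭 _, 𝟭 _, Iso.refl _⟩

abbrev DU : CategoricalPullback p q ⥤
    CategoricalPullback (CategoricalPullback.π₂ p q) (CategoricalPullback.π₂ p q) :=
  (CategoricalPullback.CatCommSqOver.toFunctorToCategoricalPullback (CategoricalPullback.π₂ p q)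
    (CategoricalPullback.π₂ p q) (CategoricalPullback p q)).obj ⟨𝟭 _, 𝟭 _, Iso.refl _⟩

noncomputable abbrev GG :
    CategoricalPullback (CategoricalPullback.π₂ p q) (CategoricalPullback.π₂ p q) ⥤
      CategoricalPullback p p :=
  FibCat.categoricalPullbackMap (psi p q)

lemma G_iso_hom
    (w : CategoricalPullback (CategoricalPullback.π₂ p q) (CategoricalPullback.π₂ p q)) :
    ((GG p q).obj w).iso.hom = w.fst.iso.hom ≫ q.map w.iso.hom ≫ w.snd.iso.inv := by
  show 𝟙 _ ≫ w.fst.iso.hom ≫ 𝟙 _ ≫ q.map (𝟙 _ ≫ w.iso.hom ≫ 𝟙 _) ≫ 𝟙 _ ≫ w.snd.iso.inv ≫ 𝟙 _ = _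
  simp

noncomputable def eIso : CategoricalPullback.π₁ p q ⋙ DX p ≅ DU p q ⋙ GG p q :=
  NatIso.ofComponents (fun u ↦ CategoricalPullback.mkIso (Iso.refl u.fst) (Iso.refl u.fst) (by
      have h := G_iso_hom p q ((DU p q).obj u)
      have h' : ((GG p q).obj ((DU p q).obj u)).iso.hom = 𝟙 (p.obj u.fst) := by
        rw [h]
        show u.iso.hom ≫ q.map (𝟙 u.snd) ≫ u.iso.inv = 𝟙 _
        simp
      show p.map (𝟙 u.fst) ≫ ((GG p q).obj ((DU p q).obj u)).iso.hom =
        𝟙 (p.obj u.fst) ≫ p.map (𝟙 u.fst)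
      rw [h']
      simp)) (by
    intro u u' g
    apply CategoricalPullback.hom_ext
    · show g.fst ≫ 𝟙 u'.fst = 𝟙 u.fst ≫ g.fst
      simp
    · show g.fst ≫ 𝟙 u'.fst = 𝟙 u.fst ≫ g.fst
      simp)

noncomputable abbrev Phi : CategoricalPullback p q ⥤ CategoricalPullback (DX p) (GG p q) :=
  (CategoricalPullback.CatCommSqOver.toFunctorToCategoricalPullback (DX p) (GG p q)
    (CategoricalPullback p q)).obj ⟨CategoricalPullback.π₁ p q, DU p q, eIso p q⟩

lemma phi_faithful : (Phi p q).Faithful :=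
  ⟨fun {u u'} g g' h ↦ by
    have := congr_arg (fun m ↦ CategoricalPullback.Hom.fst (CategoricalPullback.Hom.snd m)) h
    exact this⟩

lemma phi_full : (Phi p q).Full :=
  ⟨fun {u u'} m ↦ by
    have hw := m.w
    obtain ⟨a, ha⟩ : ∃ a : u ⟶ u', a = m.snd.fst := ⟨_, rfl⟩
    obtain ⟨b, hb⟩ : ∃ b : u ⟶ u', b = m.snd.snd := ⟨_, rfl⟩
    obtain ⟨c, hc⟩ : ∃ c : u.fst ⟶ u'.fst, c = m.fst := ⟨_, rfl⟩
    have h1 : a.snd ≫ 𝟙 u'.snd = 𝟙 u.snd ≫ b.snd := by
      rw [ha, hb]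
      exact m.snd.w
    have h2 : c ≫ 𝟙 u'.fst = 𝟙 u.fst ≫ a.fst := by
      rw [ha, hc]
      exact congr_arg CategoricalPullback.Hom.fst hw
    have h3 : c ≫ 𝟙 u'.fst = 𝟙 u.fst ≫ b.fst := by
      rw [hb, hc]
      exact congr_arg CategoricalPullback.Hom.snd hw
    rw [Category.comp_id, Category.id_comp] at h1 h2 h3
    refine ⟨a, ?_⟩
    apply CategoricalPullback.hom_ext
    · exact h2.symm.trans hc
    · apply CategoricalPullback.hom_ext
      · exact ha
      · refine Eq.trans ?_ hb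
        apply CategoricalPullback.hom_ext
        · exact h2.symm.trans h3
        · exact h1⟩

lemma phi_essSurj : (Phi p q).EssSurj :=
  ⟨fun z ↦ by
    obtain ⟨θ₁, hθ₁⟩ : ∃ θ₁ : z.fst ≅ z.snd.fst.fst, θ₁.hom = z.iso.hom.fst :=
      ⟨(CategoricalPullback.π₁ p p).mapIso z.iso, rfl⟩
    obtain ⟨θ₂, hθ₂⟩ : ∃ θ₂ : z.fst ≅ z.snd.snd.fst, θ₂.hom = z.iso.hom.snd :=
      ⟨(CategoricalPullback.π₂ p p).mapIso z.iso, rfl⟩
    let α : z.snd.fst.snd ≅ z.snd.snd.snd := z.snd.iso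
    have hθ : p.map θ₁.hom ≫ (z.snd.fst.iso.hom ≫ q.map α.hom ≫ z.snd.snd.iso.inv) =
        𝟙 _ ≫ p.map θ₂.hom := by
      have := G_iso_hom p q z.snd
      rw [hθ₁, hθ₂]
      exact (congr_arg (p.map z.iso.hom.fst ≫ ·) this.symm).trans z.iso.hom.w
    rw [Category.id_comp] at hθ
    let b : z.snd.fst ≅ z.snd.snd := CategoricalPullback.mkIso (θ₁.symm ≪≫ θ₂) α (by
      rw [Iso.trans_hom, Iso.symm_hom, Functor.map_comp, Category.assoc, ← hθ]
      simp)
    let eR : (DU p q).obj z.snd.fst ≅ z.snd :=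
      CategoricalPullback.mkIso (Iso.refl z.snd.fst) b (by rfl)
    refine ⟨z.snd.fst, ⟨CategoricalPullback.mkIso θ₁.symm eR ?_⟩⟩
    apply CategoricalPullback.hom_ext
    · show θ₁.inv ≫ z.iso.hom.fst = 𝟙 _ ≫ 𝟙 _
      rw [← hθ₁, Category.comp_id]
      exact θ₁.inv_hom_id
    · show θ₁.inv ≫ z.iso.hom.snd = 𝟙 _ ≫ (θ₁.inv ≫ θ₂.hom)
      rw [← hθ₂, Category.id_comp]
      rfl⟩

end helpers

/-- For a 2-fibre product `U = X ×_Y V` of categories, the square formed by `U ⟶ X`, the diagonals `U ⟶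
U ×_V U`, `X ⟶ X ×_Y X` and the induced functor `U ×_V U ⟶ X ×_Y X` is 2-cartesian. (The filling
2-isomorphism is the one whose two components at every object are identities; it exists and is
unique with that property.) -/
theorem result {X Y V : Type u} [Category.{v} X] [Category.{v} Y] [Category.{v} V] (p : X ⥤ Y) (q : V ⥤ Y) :
    ∃ e, (∀ u, (e.hom.app u).fst = 𝟙 _ ∧ (e.hom.app u).snd = 𝟙 _) ∧ FibCat.IsTwoCart
      (CategoricalPullback.π₁ p q)
      ((CategoricalPullback.CatCommSqOver.toFunctorToCategoricalPullback (CategoricalPullback.π₂ p q) (CategoricalPullback.π₂ p q) (CategoricalPullback p q)).obj ⟨𝟭 _, 𝟭 _, Iso.refl _⟩)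
      ((CategoricalPullback.CatCommSqOver.toFunctorToCategoricalPullback p p X).obj ⟨𝟭 _, 𝟭 _, Iso.refl _⟩)
      (FibCat.categoricalPullbackMap (⟨CategoricalPullback.π₁ p q, q, CategoricalPullback.π₁ p q, ⟨(CatCommSq.iso (CategoricalPullback.π₁ p q) (CategoricalPullback.π₂ p q) p q).symm⟩, ⟨(CatCommSq.iso (CategoricalPullback.π₁ p q) (CategoricalPullback.π₂ p q) p q).symm⟩⟩ : CatCospanTransform (CategoricalPullback.π₂ p q) (CategoricalPullback.π₂ p q) p p))
      e := by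
  refine ⟨eIso p q, ?_, ?_⟩
  · intro u
    exact ⟨rfl, rfl⟩
  · exact { faithful := phi_faithful p q, full := phi_full p q, essSurj := phi_essSurj p q }

end Groth.Agent.S6447
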