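import Groth.Statements.S6448

set_option autoImplicit false
open CategoryTheory
universe v u
open CatLim

namespace Groth.Agent.S6448

lemma exists_cospan_of_zigzag {I : Type u} [Category.{v} I]
    (h1 : ∀ ⦃w x y : I⦄ (a : w ⟶ x) (b : w ⟶ y), ∃ (z : I) (c : x ⟶ z) (d : y ⟶ z), a ≫ c = b ≫ d)
    {x y : I} (h : Zigzag x y) : ∃ (z : I), Nonempty (x ⟶ z) ∧ Nonempty (y ⟶ z) := by
  induction h with
  | refl => exact ⟨x, ⟨𝟙 x⟩, ⟨𝟙 x⟩⟩
  | @tail y y' _ hz ih =>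
    obtain ⟨z, ⟨c⟩, ⟨d⟩⟩ := ih
    rcases hz with ⟨⟨f⟩⟩ | ⟨⟨f⟩⟩
    · obtain ⟨w, p, q, -⟩ := h1 d f
      exact ⟨w, ⟨c ≫ p⟩, ⟨q⟩⟩
    · exact ⟨z, ⟨c⟩, ⟨f ≫ d⟩⟩

/-- In a category where spans complete to commutative squares and parallel pairs are coequalized by a
later arrow, every connected component is filtered (so the category is a disjoint union of filtered
categories). -/
theorem result {I : Type u} [Category.{v} I]
    (h1 : ∀ ⦃w x y : I⦄ (a : w ⟶ x) (b : w ⟶ y), ∃ (z : I) (c : x ⟶ z) (d : y ⟶ z), a ≫ c = b ≫ d)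
    (h2 : ∀ ⦃x y : I⦄ (a b : x ⟶ y), ∃ (z : I) (c : y ⟶ z), a ≫ c = b ≫ c)
    (j : ConnectedComponents I) : IsFiltered j.Component := by
  have : IsFilteredOrEmpty j.Component := by
    refine ⟨?_, ?_⟩
    · rintro ⟨x, hx⟩ ⟨y, hy⟩
      have hxy : Zigzag x y := Quotient.exact' (hx.trans hy.symm)
      obtain ⟨z, ⟨c⟩, ⟨d⟩⟩ := exists_cospan_of_zigzag h1 hxy
      have hz : j.objectProperty z := by
        rw [← hx]
        exact (Quotient.sound' (Zigzag.of_hom c)).symm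
      exact ⟨⟨z, hz⟩, ObjectProperty.homMk c, ObjectProperty.homMk d, trivial⟩
    · rintro ⟨x, hx⟩ ⟨y, hy⟩ f g
      obtain ⟨z, c, hc⟩ := h2 f.hom g.hom
      have hz : j.objectProperty z := by
        rw [← hy]
        exact (Quotient.sound' (Zigzag.of_hom c)).symm
      refine ⟨⟨z, hz⟩, ObjectProperty.homMk c, ?_⟩
      ext
      exact hc
  exact { }

end Groth.Agent.S6448
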