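import Groth.Statements.S6453
import Mathlib
import Groth.Agent.Lib.Helper90.IntMultAlg
import Groth.Agent.Lib.Helper90.IntMultGeom2

set_option autoImplicit false
universe u
open CategoryTheory AlgebraicGeometry
attribute [local instance] HasDerivedCategory.standard
open IntMult

namespace Groth.Agent.S6453

/-- Suppose the ideal of V in O_{X,ξ} is generated by a single nonzerodivisor g (c = 1: V is an
effective Cartier divisor at ξ). Then e(X, V·W, Z) = length_{O_{X,ξ}}(O_{W,ξ}/g O_{W,ξ}), i.e. the
length of O_{X,ξ}/(I_{W,ξ} + (g)). Here X is a nonsingular variety over an algebraically closed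
field K (smooth, separated, quasi-compact, integral), V and W are closed subvarieties given by
quasi-coherent ideal sheaves with integral subschemes, of dimensions r and s with dim X = n,
intersecting properly, and ξ is the generic point of an irreducible component Z of V ∩ W (a point of
V ∩ W maximal under specialization); e(X, V·W, Z) = IntMult.mult is the alternating sum of lengths
of Tor over O_{X,ξ}, and O_{W,ξ} = O_{X,ξ}/I_{W,ξ}. -/
theorem result (K : Type u) [Field K] [IsAlgClosed K] (X : Scheme.{u}) (f : X ⟶ Spec (CommRingCat.of K)) [Smooth f] [IsSeparated f] [QuasiCompact f] [IsIntegral X] (IV IW : X.IdealSheafData) [IsIntegral IV.subscheme] [IsIntegral IW.subscheme] (n r s : ℕ) (hn : topologicalKrullDim X = n) (hr : topologicalKrullDim IV.support = r) (hs : topologicalKrullDim IW.support = s) (hprop : IntMult.ProperInt (IV.support : Set X) (IW.support : Set X) n r s) (ξ : X) (hξV : ξ ∈ IV.support) (hξW : ξ ∈ IW.support) (hmax : ∀ ξ' : X, ξ' ∈ IV.support → ξ' ∈ IW.support → ξ' ⤳ ξ → ξ' = ξ)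 (g : ↑(X.presheaf.stalk ξ)) (hg : IntMult.stalkIdeal IV ξ = Ideal.span {g}) (hreg : IsSMulRegular (↑(X.presheaf.stalk ξ)) g) : (IntMult.mult IV IW ξ : ℤ) = (Module.length (X.presheaf.stalk ξ) (↑(X.presheaf.stalk ξ) ⧸ (IntMult.stalkIdeal IW ξ ⊔ Ideal.span {g}))).toNat := by
  haveI : IsLocallyNoetherian X := LocallyOfFiniteType.isLocallyNoetherian f
  have hVne : IntMult.stalkIdeal IV ξ ≠ ⊥ := by
    rw [hg]
    intro h0
    have hg0 : g = 0 := Ideal.span_singleton_eq_bot.mp h0
    rw [hg0] at hreg
    have h1 : (1 : ↑(X.presheaf.stalk ξ)) = 0 := hreg (by simp)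
    exact one_ne_zero h1
  have hnot := Groth.Agent.Lib.Helper90.IntMultGeom.not_stalkIdeal_le IV IW n r s hn hr hs hprop ξ
    hξV hξW hVne
  rw [hg, Ideal.span_singleton_le_iff_mem] at hnot
  haveI hprime : (IntMult.stalkIdeal IW ξ).IsPrime :=
    Groth.Agent.Lib.Helper64.StalkIdeal.stalkIdeal_isPrime_of_isIntegral IW ξ hξW
  have hgM : IsSMulRegular (↑(X.presheaf.stalk ξ) ⧸ IntMult.stalkIdeal IW ξ) g := by
    intro a b hab
    obtain ⟨a, rfl⟩ := Ideal.Quotient.mk_surjective a
    obtain ⟨b, rfl⟩ := Ideal.Quotient.mk_surjective b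
    have h1 : Ideal.Quotient.mk (IntMult.stalkIdeal IW ξ) (g * a) =
        Ideal.Quotient.mk (IntMult.stalkIdeal IW ξ) (g * b) := hab
    rw [Ideal.Quotient.eq, ← mul_sub] at h1
    rcases hprime.mem_or_mem h1 with h2 | h2
    · exact absurd h2 hnot
    · exact Ideal.Quotient.eq.mpr h2
  have hfl := Groth.Agent.Lib.Helper90.IntMultGeom.isFiniteLength_quot_sup IV IW ξ hmax
  rw [hg] at hfl
  unfold IntMult.mult
  rw [hg]
  exact Groth.Agent.Lib.Helper90.IntMultAlg.chi_quot_singleton (IntMult.stalkIdeal IW ξ) g hreg hgM hfl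

end Groth.Agent.S6453
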