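import Groth.Statements.S6459
-- import your own Groth.Agent.* helpers here
import Mathlib.Tactic

set_option autoImplicit false
universe u
open CategoryTheory AlgebraicGeometry
open Cyc

namespace Groth.Agent.S6459


theorem lt_iff_spec {X : Scheme.{u}} (x y : X) : x < y ↔ (y ⤳ x ∧ x ≠ y) := by
  rw [lt_iff_le_not_ge]
  change (y ⤳ x ∧ ¬ (x ⤳ y)) ↔ _
  constructor
  · rintro ⟨h1, h2⟩
    exact ⟨h1, fun he => h2 (he ▸ specializes_rfl)⟩
  · rintro ⟨h1, h2⟩
    exact ⟨h1, fun h => h2 (h.antisymm h1).eq⟩

theorem delta_lt {X : Scheme.{u}} (δ : X → ℤ) (hδ : Cyc.IsDimFun X δ) {x y : X} (h : x < y) : δ x < δ y := by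
  obtain ⟨h1, h2⟩ := (lt_iff_spec x y).mp h
  exact (hδ y x h1 (Ne.symm h2)).1

theorem coheight_eq_one_iff (X : Scheme.{u}) [IsIntegral X] (δ : X → ℤ) (hδ : Cyc.IsDimFun X δ) (ξ : X) :
    Order.coheight ξ = 1 ↔ δ ξ = δ (genericPoint X) - 1 := by
  have htop : (⊤ : X) = genericPoint X := rfl
  constructor
  · intro h
    have hne : ξ ≠ genericPoint X := by
      intro he
      rw [he, ← htop, Order.coheight_top] at h
      exact zero_ne_one h
    have hlt : ξ < genericPoint X := (lt_iff_spec _ _).mpr ⟨genericPoint_specializes ξ, hne⟩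
    obtain ⟨h1, h2⟩ := (lt_iff_spec _ _).mp hlt
    have := (hδ (genericPoint X) ξ h1 (Ne.symm h2)).2 ?_
    · omega
    · intro z hz1 hz2
      by_contra hcon
      push Not at hcon
      have hz_lt : z < genericPoint X := (lt_iff_spec _ _).mpr ⟨hz1, hcon.1⟩
      have hξ_lt : ξ < z := (lt_iff_spec _ _).mpr ⟨hz2, Ne.symm hcon.2⟩
      have e1 := Order.coheight_add_one_le hz_lt
      have e2 := Order.coheight_add_one_le hξ_lt
      rw [h] at e2
      have : (1 : ℕ∞) + 1 ≤ 1 := le_trans (by gcongr; exact le_trans (by simp) e1) e2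
      exact absurd this (by decide)
  · intro h
    have hne : ξ ≠ genericPoint X := by
      intro he; rw [he] at h; omega
    have hlt : ξ < genericPoint X := (lt_iff_spec _ _).mpr ⟨genericPoint_specializes ξ, hne⟩
    apply le_antisymm
    · rw [show (1 : ℕ∞) = ((1 : ℕ) : ℕ∞) from rfl, Order.coheight_le_coe_iff]
      intro y hy
      have hy1 := delta_lt δ hδ hy
      have : y = genericPoint X := by
        by_contra hcon
        have := delta_lt δ hδ ((lt_iff_spec _ _).mpr ⟨genericPoint_specializes y, hcon⟩)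
        omega
      rw [this, ← htop, Order.coheight_top]
      simp
    · have := Order.coheight_add_one_le hlt
      exact le_trans (by simp) this


/-- (b) ⇔ (c): let X be integral with generic point η and Z ⊂ X an integral closed subscheme with
generic point ξ. Then Z has codimension 1 in X (the local ring O_{X,ξ} is one-dimensional; Z is a
prime divisor) if and only if dim_δ(Z) = dim_δ(X) − 1. Here a pair (X, δ) with Cyc.IsSetup plays the
role of a scheme locally of finite type over the base (S, δ) (X locally Noetherian with universally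
catenary local rings, δ a dimension function). -/
theorem result (X : Scheme.{u}) [IsIntegral X] (δ : X → ℤ) (hX : Cyc.IsSetup X δ) (ξ : X) : ringKrullDim ↑(X.presheaf.stalk ξ) = 1 ↔ δ ξ = δ (genericPoint X) - 1 := by
  rw [ringKrullDim_stalk_eq_coheight, ← coheight_eq_one_iff X δ hX.2.2 ξ]
  exact_mod_cast Iff.rfl


end Groth.Agent.S6459
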