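import Groth.Statements.S6458
-- import your own Groth.Agent.* helpers here
import Groth.Agent.S6459
import Mathlib.Tactic
import Mathlib.RingTheory.Ideal.KrullsHeightTheorem
import Mathlib.RingTheory.KrullDimension.LocalRing
import Mathlib.AlgebraicGeometry.Noetherian
import Mathlib.AlgebraicGeometry.FunctionField

set_option autoImplicit false
universe u
open CategoryTheory AlgebraicGeometry
open Cyc

namespace Groth.Agent.S6458


theorem dim_eq_one {R : Type*} [CommRing R] [IsLocalRing R] [IsDomain R] [IsNoetherianRing R]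
    (g : R) (hg0 : g ≠ 0) (hgm : g ∈ IsLocalRing.maximalIdeal R)
    (hdim : ringKrullDim (R ⧸ Ideal.span {g}) = 0) : ringKrullDim R = 1 := by
  have h0 : Ring.KrullDimLE 0 (R ⧸ Ideal.span {g}) := Ring.krullDimLE_iff.mpr (by simp [hdim])
  have hmin : IsLocalRing.maximalIdeal R ∈ (Ideal.span {g}).minimalPrimes := by
    refine ⟨⟨inferInstance, (Ideal.span_singleton_le_iff_mem _).mpr hgm⟩, ?_⟩
    rintro q ⟨hq, hgq⟩ hqm
    have hker : RingHom.ker (Ideal.Quotient.mk (Ideal.span {g})) ≤ q := by
      rw [Ideal.mk_ker]; exact hgq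
    have hqmap : (q.map (Ideal.Quotient.mk (Ideal.span {g}))).IsPrime :=
      Ideal.map_isPrime_of_surjective Ideal.Quotient.mk_surjective hker
    have hmax : (q.map (Ideal.Quotient.mk (Ideal.span {g}))).IsMaximal := Ideal.isMaximal_of_isPrime _
    have hqmax : q.IsMaximal := by
      have := Ideal.comap_isMaximal_of_surjective (Ideal.Quotient.mk (Ideal.span {g}))
        Ideal.Quotient.mk_surjective (K := q.map (Ideal.Quotient.mk (Ideal.span {g})))
      rwa [Ideal.comap_map_of_surjective _ Ideal.Quotient.mk_surjective, ← RingHom.ker_eq_comap_bot,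
        sup_eq_left.mpr hker] at this
    exact (IsLocalRing.eq_maximalIdeal hqmax).ge
  have hle : ringKrullDim R ≤ 1 := by
    rw [← IsLocalRing.maximalIdeal_height_eq_ringKrullDim]
    exact_mod_cast Ideal.height_le_one_of_isPrincipal_of_mem_minimalPrimes_of_isLocalRing _ hmin
  have hnot : ¬ ringKrullDim R ≤ 0 := fun h => by
    have : Ring.KrullDimLE 0 R := Ring.krullDimLE_iff.mpr h
    have hf : IsField R := Ring.KrullDimLE.isField_of_isDomain
    have := (IsLocalRing.isField_iff_maximalIdeal_eq.mp hf)
    rw [this] at hgm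
    exact hg0 hgm
  exact le_antisymm hle (Order.succ_le_of_lt (lt_of_not_ge hnot))


/-- Let X be integral with generic point η and ξ the generic point of an irreducible component of an
effective Cartier divisor on X; locally: g ∈ 𝔪_ξ ⊂ O_{X,ξ} is nonzero and O_{X,ξ}/(g) is
zero-dimensional. Then dim_δ of the closure of ξ is dim_δ(X) − 1, i.e. δ(ξ) = δ(η) − 1. Here a pair
(X, δ) with Cyc.IsSetup plays the role of a scheme locally of finite type over the base (S, δ) (X
locally Noetherian with universally catenary local rings, δ a dimension function). -/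
theorem result (X : Scheme.{u}) [IsIntegral X] (δ : X → ℤ) (hX : Cyc.IsSetup X δ) (ξ : X) (g : ↑(X.presheaf.stalk ξ)) (hg0 : g ≠ 0) (hgm : g ∈ IsLocalRing.maximalIdeal (X.presheaf.stalk ξ)) (hdim : ringKrullDim (↑(X.presheaf.stalk ξ) ⧸ Ideal.span {g}) = 0) : δ ξ = δ (genericPoint X) - 1 := by
  have := hX.1
  rw [← Groth.Agent.S6459.result X δ hX ξ]
  exact dim_eq_one g hg0 hgm hdim


end Groth.Agent.S6458
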