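import Groth.Statements.S6460
-- import your own Groth.Agent.* helpers here
import Mathlib.Tactic
import Mathlib.AlgebraicGeometry.Noetherian
import Mathlib.Topology.Sober
import Mathlib.Topology.NoetherianSpace

set_option autoImplicit false
universe u
open CategoryTheory AlgebraicGeometry
open Cyc

namespace Groth.Agent.S6460

open TopologicalSpace


theorem top_lemma {Y : Type*} [TopologicalSpace Y] [NoetherianSpace Y] [QuasiSober Y] [T0Space Y] (x : Y) :
    ∃ V : Set Y, IsOpen V ∧ x ∈ V ∧ ∀ y ∈ V, ∃ ξ : Y, (∀ ξ' : Y, ξ' ⤳ ξ → ξ' = ξ) ∧ ξ ⤳ y ∧ ξ ⤳ x := by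
  have hfin : (irreducibleComponents Y).Finite := NoetherianSpace.finite_irreducibleComponents
  let T : Set Y := ⋃ Z ∈ {Z ∈ irreducibleComponents Y | x ∉ Z}, Z
  have hT : IsClosed T := by
    apply Set.Finite.isClosed_biUnion (hfin.subset (Set.sep_subset _ _))
    intro Z hZ
    exact isClosed_of_mem_irreducibleComponents Z hZ.1
  refine ⟨Tᶜ, hT.isOpen_compl, ?_, ?_⟩
  · intro hx
    obtain ⟨Z, hZ, hxZ⟩ := Set.mem_iUnion₂.mp hx
    exact hZ.2 hxZ
  · intro y hy
    have hZ : irreducibleComponent y ∈ irreducibleComponents Y := irreducibleComponent_mem_irreducibleComponents y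
    have hxZ : x ∈ irreducibleComponent y := by
      by_contra hcon
      exact hy (Set.mem_iUnion₂.mpr ⟨_, ⟨hZ, hcon⟩, mem_irreducibleComponent⟩)
    have hirr : IsIrreducible (irreducibleComponent y) := isIrreducible_irreducibleComponent
    have hcl : IsClosed (irreducibleComponent y) := isClosed_irreducibleComponent
    have hgen := hirr.isGenericPoint_genericPoint hcl
    refine ⟨hirr.genericPoint, ?_, ?_, ?_⟩
    · intro ξ' hξ'
      have h1 : irreducibleComponent y ⊆ closure {ξ'} := by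
        rw [← hgen.def]
        exact closure_minimal (Set.singleton_subset_iff.mpr hξ'.mem_closure) isClosed_closure
      have h2 : IsIrreducible (closure ({ξ'} : Set Y)) := isIrreducible_singleton.closure
      have h3 : closure ({ξ'} : Set Y) = irreducibleComponent y :=
        eq_irreducibleComponent h2.2 h1
      have h4 : IsGenericPoint ξ' (irreducibleComponent y) := h3
      exact h4.eq hgen
    · rw [specializes_iff_mem_closure, hgen.def]; exact mem_irreducibleComponent
    · rw [specializes_iff_mem_closure, hgen.def]; exact hxZ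


theorem top_lemma2 {X : Type*} [TopologicalSpace X] [QuasiSober X] [T0Space X] (U : Set X) (hU : IsOpen U)
    [NoetherianSpace U] (x : X) (hx : x ∈ U) :
    ∃ V : Set X, IsOpen V ∧ x ∈ V ∧ ∀ y ∈ V, ∃ ξ : X, (∀ ξ' : X, ξ' ⤳ ξ → ξ' = ξ) ∧ ξ ⤳ y ∧ ξ ⤳ x := by
  have : QuasiSober U := hU.isOpenEmbedding_subtypeVal.quasiSober
  obtain ⟨V, hV, hxV, h⟩ := top_lemma (⟨x, hx⟩ : U)
  refine ⟨Subtype.val '' V, hU.isOpenMap_subtype_val V hV, ⟨_, hxV, rfl⟩, ?_⟩
  rintro _ ⟨y, hy, rfl⟩
  obtain ⟨ξ, h1, h2, h3⟩ := h y hy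
  refine ⟨ξ.1, ?_, (subtype_specializes_iff _ _).mp h2, (subtype_specializes_iff _ _).mp h3⟩
  intro ξ' hξ'
  have hmem : ξ' ∈ U := hξ'.mem_open hU ξ.2
  have := h1 ⟨ξ', hmem⟩ ((subtype_specializes_iff _ _).mpr hξ')
  exact congrArg Subtype.val this


/-- (3) ⇒ (1): suppose that for every x ∈ X there is an integer n_x with δ(ξ) = n_x for every generic
point ξ of an irreducible component of X containing x. Then X decomposes into open and closed
subschemes X_n (n ∈ ℤ) such that every irreducible component of X_n has δ-dimension n; stated as the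
existence of a locally constant c : X → ℤ with δ(ξ) = c(ξ) for every point ξ that is maximal under
specialization. (The converse implications are immediate and not stated.) Here a pair (X, δ) with
Cyc.IsSetup plays the role of a scheme locally of finite type over the base (S, δ) (X locally
Noetherian with universally catenary local rings, δ a dimension function). -/
theorem result (X : Scheme.{u}) (δ : X → ℤ) (hX : Cyc.IsSetup X δ) (h3 : ∀ x : X, ∃ n : ℤ, ∀ ξ : X, (∀ ξ' : X, ξ' ⤳ ξ → ξ' = ξ) → ξ ⤳ x → δ ξ = n) : ∃ c : X → ℤ, IsLocallyConstant c ∧ ∀ ξ : X, (∀ ξ' : X, ξ' ⤳ ξ → ξ' = ξ) → δ ξ = c ξ := by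
  have hLN := hX.1
  choose c hc using h3
  refine ⟨c, ?_, fun ξ hξ => hc ξ ξ hξ specializes_rfl⟩
  rw [IsLocallyConstant.iff_exists_open]
  intro x
  obtain ⟨_, ⟨U, hU, rfl⟩, hxU, -⟩ := X.isBasis_affineOpens.exists_subset_of_mem_open
    (Set.mem_univ x) isOpen_univ
  have : IsNoetherianRing Γ(X, U) := IsLocallyNoetherian.component_noetherian ⟨U, hU⟩
  have : NoetherianSpace ((U : Set X) : Type _) := noetherianSpace_of_isAffineOpen U hU
  obtain ⟨V, hV, hxV, h⟩ := top_lemma2 (U : Set X) U.2 x hxU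
  refine ⟨V, hV, hxV, fun y hy => ?_⟩
  obtain ⟨ξ, h1, h2, h3⟩ := h y hy
  rw [← hc y ξ h1 h2, ← hc x ξ h1 h3]


end Groth.Agent.S6460
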