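import Groth.Statements.S6464

set_option autoImplicit false
universe u v
open CycAlg

namespace Groth.Agent.S6464

section aux

variable {R : Type u} [CommRing R] {M N : Type v} [AddCommGroup M] [Module R M] [AddCommGroup N]
  [Module R N]

theorem length_ker_add_range (φ : M →ₗ[R] N) :
    Module.length R M = Module.length R (LinearMap.ker φ) + Module.length R (LinearMap.range φ) :=
  Module.length_eq_add_of_exact (LinearMap.ker φ).subtype φ.rangeRestrict
    (LinearMap.ker φ).injective_subtype φ.surjective_rangeRestrict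
    (by
      intro x
      constructor
      · intro hx
        have : φ x = 0 := congrArg Subtype.val hx
        exact ⟨⟨x, this⟩, rfl⟩
      · rintro ⟨y, rfl⟩
        exact Subtype.ext y.2)

theorem length_sub_add_quot (p : Submodule R M) :
    Module.length R M = Module.length R p + Module.length R (M ⧸ p) :=
  Module.length_eq_add_of_exact p.subtype p.mkQ p.injective_subtype p.mkQ_surjective
    (LinearMap.exact_subtype_mkQ p)

theorem length_perH (φ : M →ₗ[R] N) (ψ : N →ₗ[R] M) (h : φ ∘ₗ ψ = 0) :
    Module.length R (LinearMap.ker φ) =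
      Module.length R (LinearMap.range ψ) + Module.length R (perH φ ψ) := by
  have hle : LinearMap.range ψ ≤ LinearMap.ker φ := by
    rintro _ ⟨y, rfl⟩
    exact LinearMap.congr_fun h y
  rw [length_sub_add_quot ((LinearMap.range ψ).submoduleOf (LinearMap.ker φ)),
    (Submodule.submoduleOfEquivOfLe hle).length_eq]

theorem toNat_add_of_eq {a b c : ℕ∞} (h : a = b + c) (ha : a < ⊤) :
    (a.toNat : ℤ) = (b.toNat : ℤ) + (c.toNat : ℤ) := by
  have hb : b ≠ ⊤ := by
    rintro rfl
    rw [top_add] at h
    exact ha.ne h
  have hc : c ≠ ⊤ := by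
    rintro rfl
    rw [add_top] at h
    exact ha.ne h
  rw [h, ENat.toNat_add hb hc]
  push_cast
  rfl

end aux

/-- Let (M, N, φ, ψ) be a 2-periodic complex over a ring R with M and N of finite length. Then its
cohomology modules have finite length and e_R(M, N, φ, ψ) = length_R(M) − length_R(N). (The case M =
N, where the conclusion reads e_R(M, φ, ψ) = 0, is the special case and is not restated.) -/
theorem result {R : Type u} [CommRing R] {M N : Type v} [AddCommGroup M] [Module R M] [AddCommGroup N] [Module R N] (φ : M →ₗ[R] N) (ψ : N →ₗ[R] M) (h : CycAlg.IsPeriodic φ ψ) (hM : Module.length R M < ⊤) (hN : Module.length R N < ⊤) : CycAlg.FinCoh R φ ψ ∧ CycAlg.herbrand R φ ψ = ((Module.length R M).toNat : ℤ) - ((Module.length R N).toNat : ℤ) := by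
  have e1 := length_ker_add_range φ
  have e2 := length_ker_add_range ψ
  have e3 := length_perH φ ψ h.1
  have e4 := length_perH ψ φ h.2
  have hkφ : Module.length R (LinearMap.ker φ) < ⊤ :=
    lt_of_le_of_lt (by rw [e1]; exact le_self_add) hM
  have hkψ : Module.length R (LinearMap.ker ψ) < ⊤ :=
    lt_of_le_of_lt (by rw [e2]; exact le_self_add) hN
  have hH0 : Module.length R (perH φ ψ) < ⊤ :=
    lt_of_le_of_lt (by rw [e3]; exact le_add_self) hkφ
  have hH1 : Module.length R (perH ψ φ) < ⊤ :=
    lt_of_le_of_lt (by rw [e4]; exact le_add_self) hkψ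
  refine ⟨⟨hH0, hH1⟩, ?_⟩
  have n1 := toNat_add_of_eq e1 hM
  have n2 := toNat_add_of_eq e2 hN
  have n3 := toNat_add_of_eq e3 hkφ
  have n4 := toNat_add_of_eq e4 hkψ
  unfold CycAlg.herbrand
  omega

end Groth.Agent.S6464
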