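import Groth.Statements.S6472
import Mathlib
import Groth.Agent.Lib.Helper94.RegImmPt
import Groth.Agent.Lib.Helper90.DiagDimSch1
import Groth.Agent.Lib.Helper90.DiagReg1
import Groth.Agent.Lib.Helper30.SmoothRegular

set_option autoImplicit false
universe u
open CategoryTheory CategoryTheory.Limits AlgebraicGeometry
open IntMult

namespace Groth.Agent.S6472

/-- Let X be a nonsingular variety of dimension n over the algebraically closed field K. Then Δ : X → X
×_K X, the diagonal, is regular of codimension n as an immersion (RegImm.IsRegularImmersionOfCodim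
of kind regular: an immersion which, around every point, in an affine open where it is closed, is
cut out by a regular sequence of length n). Nonsingular variety: X → Spec K smooth, separated,
quasi-compact, X integral; n = Krull dimension of X. -/
theorem result (K : Type u) [Field K] [IsAlgClosed K] (X : Scheme.{u}) (f : X ⟶ Spec (CommRingCat.of K)) [Smooth f] [IsSeparated f] [QuasiCompact f] [IsIntegral X] (n : ℕ) (hn : topologicalKrullDim X = n) : RegImm.IsRegularImmersionOfCodim RegImm.Kind.regular n (pullback.diagonal f) := by
  haveI hcl : IsClosedImmersion (pullback.diagonal f) := inferInstance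
  haveI hsm : Smooth (pullback.snd f f ≫ f) := inferInstance
  haveI : IsLocallyNoetherian (pullback f f) :=
    LocallyOfFiniteType.isLocallyNoetherian (pullback.snd f f ≫ f)
  refine ⟨inferInstance, fun z => ?_⟩
  haveI hRY : IsRegularLocalRing ((pullback f f).presheaf.stalk (pullback.diagonal f z)) :=
    Groth.Agent.Lib.Helper30.SmoothRegular.stalk_regular_of_smooth_field K
      (pullback.snd f f ≫ f) (pullback.diagonal f z)
  haveI hRX : IsRegularLocalRing (X.presheaf.stalk z) :=
    Groth.Agent.Lib.Helper30.SmoothRegular.stalk_regular_of_smooth_field K f z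
  have hsurj : Function.Surjective ((pullback.diagonal f).stalkMap z).hom :=
    (pullback.diagonal f).stalkMap_surjective z
  haveI : IsRegularLocalRing (((pullback f f).presheaf.stalk (pullback.diagonal f z)) ⧸
      RingHom.ker ((pullback.diagonal f).stalkMap z).hom) :=
    IsRegularLocalRing.of_ringEquiv (RingHom.quotientKerEquivOfSurjective hsurj).symm
  obtain ⟨c, g, hI, hreg, hcdim⟩ := Groth.Agent.Lib.Helper90.DiagReg.exists_regular_generators
    ((pullback f f).presheaf.stalk (pullback.diagonal f z))
    (RingHom.ker ((pullback.diagonal f).stalkMap z).hom)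
  have hdimq : ringKrullDim (((pullback f f).presheaf.stalk (pullback.diagonal f z)) ⧸
      RingHom.ker ((pullback.diagonal f).stalkMap z).hom) = ringKrullDim (X.presheaf.stalk z) :=
    ringKrullDim_eq_of_ringEquiv (RingHom.quotientKerEquivOfSurjective hsurj)
  have hdimY := Groth.Agent.Lib.Helper90.DiagDimSch.ringKrullDim_stalk_diagonal f n hn z
  obtain ⟨a, ha⟩ := Groth.Agent.Lib.Helper52.exists_nat_ringKrullDim (X.presheaf.stalk z)
  rw [hdimq, hdimY, ha] at hcdim
  have hc : c = n := by
    have : a + c = a + n := by exact_mod_cast hcdim
    omega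
  have hker : RingHom.ker ((pullback.diagonal f).stalkMap z).hom = Ideal.ofList (List.ofFn g) := by
    rw [hI, Ideal.ofList]
    congr 1
    ext r
    simp [List.mem_ofFn]
  obtain ⟨V, hV, hzV, bs, hbs, hkV, hlen⟩ :=
    Groth.Agent.Lib.Helper94.RegImmPt.exists_affine_of_stalk (pullback.diagonal f) z (List.ofFn g)
      hreg hker
  refine ⟨⟨V, hV⟩, hzV, inferInstance, bs, ?_, hbs, hkV⟩
  rw [hlen, List.length_ofFn, hc]

end Groth.Agent.S6472
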