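import Groth.Statements.S6476
import Mathlib.RingTheory.Artinian.Module
import Mathlib.RingTheory.Artinian.Ring
import Mathlib.RingTheory.HopkinsLevitzki
import Mathlib.RingTheory.FiniteLength
import Mathlib.RingTheory.Length
import Mathlib.RingTheory.Support
import Mathlib.RingTheory.Localization.Module
import Mathlib.RingTheory.Localization.AtPrime.Basic
import Mathlib.RingTheory.Ideal.MinimalPrime.Basic
import Mathlib.RingTheory.KrullDimension.Basic
import Mathlib.Algebra.Module.Torsion.Basic
import Mathlib.Tactic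

set_option autoImplicit false
universe u v
open CycAlg

namespace Groth.Agent.S6476

lemma isArtinian_of_primes_maximal {R N : Type*} [CommRing R] [IsNoetherianRing R] [AddCommGroup N]
    [Module R N] [Module.Finite R N]
    (h : ∀ p : Ideal R, p.IsPrime → Module.annihilator R N ≤ p → p.IsMaximal) : IsArtinian R N := by
  letI : Module (R ⧸ Module.annihilator R N) N := Module.quotientAnnihilator
  haveI : IsScalarTower R (R ⧸ Module.annihilator R N) N :=
    (Module.isTorsionBySet_annihilator R N).isScalarTower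
  haveI : Module.Finite (R ⧸ Module.annihilator R N) N :=
    Module.Finite.of_restrictScalars_finite R (R ⧸ Module.annihilator R N) N
  haveI : Ring.KrullDimLE 0 (R ⧸ Module.annihilator R N) := by
    rw [Ring.krullDimLE_zero_iff]
    intro P hP
    have hp : (P.comap (Ideal.Quotient.mk (Module.annihilator R N))).IsMaximal := by
      apply h _ (Ideal.comap_isPrime _ _)
      intro x hx
      rw [Ideal.mem_comap, Ideal.Quotient.eq_zero_iff_mem.mpr hx]
      exact P.zero_mem
    have := Ideal.map_comap_of_surjective _ (Ideal.Quotient.mk_surjective (I := Module.annihilator R N)) P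
    rw [← this]
    exact Ideal.IsMaximal.map_of_surjective_of_ker_le Ideal.Quotient.mk_surjective (by
      rw [Ideal.mk_ker]
      intro x hx
      rw [Ideal.mem_comap, Ideal.Quotient.eq_zero_iff_mem.mpr hx]
      exact P.zero_mem)
  haveI : IsArtinianRing (R ⧸ Module.annihilator R N) := isArtinianRing_iff_krullDimLE_zero.mpr inferInstance
  haveI : IsArtinian (R ⧸ Module.annihilator R N) N := inferInstance
  exact isArtinian_of_surjective_algebraMap (R := R ⧸ Module.annihilator R N) Ideal.Quotient.mk_surjective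

lemma exists_smul_mem_range_of_minimal {A M : Type*} [CommRing A] [IsNoetherianRing A]
    [AddCommGroup M] [Module A M] [Module.Finite A M]
    (θ : M →ₗ[A] M) (hθ : Function.Injective θ) (q : Ideal A)
    (hq : q ∈ (Module.annihilator A M).minimalPrimes) (m : M) :
    ∃ r ∉ q, r • m ∈ LinearMap.range θ := by
  haveI : q.IsPrime := hq.1.1
  haveI : IsArtinian (Localization.AtPrime q) (LocalizedModule q.primeCompl M) := by
    apply isArtinian_of_primes_maximal
    intro P hP hle
    have hle1 : P.comap (algebraMap A (Localization.AtPrime q)) ≤ q := by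
      intro x hx
      by_contra hxq
      have hd := ((IsLocalization.isPrime_iff_isPrime_disjoint q.primeCompl
        (Localization.AtPrime q) P).1 hP).2
      exact Set.disjoint_left.mp hd (show x ∈ (q.primeCompl : Set A) from hxq) hx
    have hp : P.comap (algebraMap A (Localization.AtPrime q)) = q := by
      refine le_antisymm hle1 (hq.2 ⟨Ideal.comap_isPrime _ _, ?_⟩ hle1)
      intro a ha
      rw [Ideal.mem_comap]
      apply hle
      rw [Module.mem_annihilator]
      intro y
      induction y using LocalizedModule.induction_on with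
      | h m s =>
        rw [algebraMap_smul, LocalizedModule.smul'_mk, Module.mem_annihilator.mp ha m,
          LocalizedModule.zero_mk]
    have : P = IsLocalRing.maximalIdeal (Localization.AtPrime q) := by
      rw [← IsLocalization.map_comap q.primeCompl (Localization.AtPrime q) P,
        show Ideal.under A P = q from hp, IsLocalization.AtPrime.map_eq_maximalIdeal]
    rw [this]
    exact IsLocalRing.maximalIdeal.isMaximal _
  have hsurj := IsArtinian.surjective_of_injective_endomorphism
    (LocalizedModule.map q.primeCompl θ) (LocalizedModule.map_injective q.primeCompl θ hθ)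
  obtain ⟨y, hy⟩ := hsurj (LocalizedModule.mk m 1)
  induction y using LocalizedModule.induction_on with
  | h m' t =>
    rw [LocalizedModule.map_mk, LocalizedModule.mk_eq] at hy
    obtain ⟨u, hu⟩ := hy
    refine ⟨(u : A) * (t : A), ?_, (u : A) • m', ?_⟩
    · exact (q.primeCompl.mul_mem u.2 t.2)
    · rw [map_smul, mul_smul]
      simpa [Submonoid.smul_def] using hu

lemma length_quot_lt_top {A M : Type*} [CommRing A] [IsNoetherianRing A] [IsLocalRing A]
    [AddCommGroup M] [Module A M] [Module.Finite A M] (hdim : Module.supportDim A M = 1)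
    (θ : M →ₗ[A] M) (hθ : Function.Injective θ) :
    Module.length A (M ⧸ LinearMap.range θ) < ⊤ := by
  have hart : IsArtinian A (M ⧸ LinearMap.range θ) := by
    apply isArtinian_of_primes_maximal
    intro p hp hle
    by_contra hmax
    have hlt : p < IsLocalRing.maximalIdeal A :=
      lt_of_le_of_ne (IsLocalRing.le_maximalIdeal hp.ne_top) (fun h => hmax (h ▸ inferInstance))
    have hAnn : Module.annihilator A M ≤ Module.annihilator A (M ⧸ LinearMap.range θ) := by
      intro a ha
      rw [Module.mem_annihilator] at ha ⊢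
      intro x
      obtain ⟨m, rfl⟩ := Submodule.Quotient.mk_surjective _ x
      rw [← Submodule.Quotient.mk_smul, ha m, Submodule.Quotient.mk_zero]
    obtain ⟨q, hq, hqp⟩ := Ideal.exists_minimalPrimes_le (hAnn.trans hle)
    have hqp' : q < p := by
      refine lt_of_le_of_ne hqp ?_
      rintro rfl
      -- q ∉ support of quotient
      have hmem : (⟨q, hp⟩ : PrimeSpectrum A) ∈ Module.support A (M ⧸ LinearMap.range θ) :=
        Module.mem_support_iff_of_finite.mpr hle
      rw [Module.mem_support_iff'] at hmem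
      obtain ⟨x, hx⟩ := hmem
      obtain ⟨m, rfl⟩ := Submodule.Quotient.mk_surjective _ x
      obtain ⟨r, hr, hrm⟩ := exists_smul_mem_range_of_minimal θ hθ q hq m
      exact hx r hr (by
        rw [← Submodule.Quotient.mk_smul, Submodule.Quotient.mk_eq_zero]
        exact hrm)
    haveI : q.IsPrime := hq.1.1
    have hqM : (⟨q, inferInstance⟩ : PrimeSpectrum A) ∈ Module.support A M :=
      Module.mem_support_iff_of_finite.mpr hq.1.2
    have hpM : (⟨p, hp⟩ : PrimeSpectrum A) ∈ Module.support A M :=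
      Module.mem_support_iff_of_finite.mpr (hAnn.trans hle)
    have hmM : (⟨IsLocalRing.maximalIdeal A, inferInstance⟩ : PrimeSpectrum A) ∈
        Module.support A M :=
      Module.mem_support_iff_of_finite.mpr ((hAnn.trans hle).trans hlt.le)
    have hab : (⟨⟨q, inferInstance⟩, hqM⟩ : Module.support A M) < ⟨⟨p, hp⟩, hpM⟩ := hqp'
    have hbc : (⟨⟨p, hp⟩, hpM⟩ : Module.support A M) <
        ⟨⟨IsLocalRing.maximalIdeal A, inferInstance⟩, hmM⟩ := hlt
    let s : LTSeries (Module.support A M) :=
      LTSeries.mk 2 ![⟨⟨q, inferInstance⟩, hqM⟩, ⟨⟨p, hp⟩, hpM⟩,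
        ⟨⟨IsLocalRing.maximalIdeal A, inferInstance⟩, hmM⟩] (by
        rw [Fin.strictMono_iff_lt_succ]
        intro i
        fin_cases i
        · exact hab
        · exact hbc)
    have := Order.LTSeries.length_le_krullDim s
    rw [show Order.krullDim (Module.support A M) = 1 from hdim] at this
    have h2 : s.length = 2 := rfl
    rw [h2] at this
    norm_cast at this
  rw [lt_top_iff_ne_top, Module.length_ne_top_iff, isFiniteLength_iff_isNoetherian_isArtinian]
  exact ⟨inferInstance, hart⟩

/-- Let A be a Noetherian local ring, M a finite A-module of dimension 1, and φ, ψ : M → M injective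
with φ(ψ(M)) = ψ(φ(M)) (e.g. φ, ψ commute). Then length_A(M/φψM) is finite and (M/φψM, φ, ψ) is an
exact (2, 1)-periodic complex; here φ', ψ' denote the endomorphisms of M/φψM induced by φ and ψ, and
exactness says both cohomology modules (CycAlg.perH) are trivial. -/
theorem result {A : Type u} [CommRing A] [IsNoetherianRing A] [IsLocalRing A] {M : Type v} [AddCommGroup M] [Module A M] [Module.Finite A M] (hdim : Module.supportDim A M = 1) (φ ψ : M →ₗ[A] M) (hφ : Function.Injective φ) (hψ : Function.Injective ψ) (hcomm : Submodule.map φ (LinearMap.range ψ) = Submodule.map ψ (LinearMap.range φ)) (φ' ψ' : (M ⧸ LinearMap.range (φ ∘ₗ ψ)) →ₗ[A] (M ⧸ LinearMap.range (φ ∘ₗ ψ))) (hφ' : φ' ∘ₗ (LinearMap.range (φ ∘ₗ ψ)).mkQ = (LinearMap.range (φ ∘ₗ ψ)).mkQ ∘ₗ φ) (hψ' : ψ' ∘ₗ (LinearMap.range (φ ∘ₗ ψ)).mkQ = (LinearMap.range (φ ∘ₗ ψ)).mkQ ∘ₗ ψ) : Module.length A (M ⧸ LinearMap.range (φ ∘ₗ ψ)) < ⊤ ∧ CycAlg.IsPeriodic φ' ψ' ∧ Subsingleton (CycAlg.perH φ' ψ') ∧ Subsingleton (CycAlg.perH ψ' φ') := by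
  have hφq : ∀ m, φ' ((LinearMap.range (φ ∘ₗ ψ)).mkQ m) = (LinearMap.range (φ ∘ₗ ψ)).mkQ (φ m) :=
    fun m => LinearMap.congr_fun hφ' m
  have hψq : ∀ m, ψ' ((LinearMap.range (φ ∘ₗ ψ)).mkQ m) = (LinearMap.range (φ ∘ₗ ψ)).mkQ (ψ m) :=
    fun m => LinearMap.congr_fun hψ' m
  have hc1 : ∀ m, ∃ m', ψ (φ m) = φ (ψ m') := by
    intro m
    have h : ψ (φ m) ∈ Submodule.map ψ (LinearMap.range φ) := ⟨φ m, ⟨m, rfl⟩, rfl⟩
    rw [← hcomm] at h
    obtain ⟨_, ⟨m', rfl⟩, h⟩ := h
    exact ⟨m', h.symm⟩
  have hc2 : ∀ m, ∃ m', φ (ψ m) = ψ (φ m') := by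
    intro m
    have h : φ (ψ m) ∈ Submodule.map φ (LinearMap.range ψ) := ⟨ψ m, ⟨m, rfl⟩, rfl⟩
    rw [hcomm] at h
    obtain ⟨_, ⟨m', rfl⟩, h⟩ := h
    exact ⟨m', h.symm⟩
  have hzero : ∀ m, (LinearMap.range (φ ∘ₗ ψ)).mkQ m = 0 ↔ ∃ m', φ (ψ m') = m := by
    intro m
    rw [Submodule.mkQ_apply, Submodule.Quotient.mk_eq_zero]
    rfl
  refine ⟨length_quot_lt_top hdim _ (hφ.comp hψ), ⟨?_, ?_⟩, ?_, ?_⟩
  · apply LinearMap.ext
    intro x
    obtain ⟨m, rfl⟩ := (LinearMap.range (φ ∘ₗ ψ)).mkQ_surjective x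
    rw [LinearMap.comp_apply, hψq, hφq, LinearMap.zero_apply, hzero]
    exact ⟨m, rfl⟩
  · apply LinearMap.ext
    intro x
    obtain ⟨m, rfl⟩ := (LinearMap.range (φ ∘ₗ ψ)).mkQ_surjective x
    rw [LinearMap.comp_apply, hφq, hψq, LinearMap.zero_apply, hzero]
    obtain ⟨m', hm'⟩ := hc1 m
    exact ⟨m', hm'.symm⟩
  · rw [Submodule.Quotient.subsingleton_iff, Submodule.submoduleOf_eq_top]
    intro x hx
    obtain ⟨m, rfl⟩ := (LinearMap.range (φ ∘ₗ ψ)).mkQ_surjective x
    rw [LinearMap.mem_ker, hφq, hzero] at hx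
    obtain ⟨m', hm'⟩ := hx
    have : m = ψ m' := (hφ hm').symm
    exact ⟨(LinearMap.range (φ ∘ₗ ψ)).mkQ m', by rw [hψq, this]⟩
  · rw [Submodule.Quotient.subsingleton_iff, Submodule.submoduleOf_eq_top]
    intro x hx
    obtain ⟨m, rfl⟩ := (LinearMap.range (φ ∘ₗ ψ)).mkQ_surjective x
    rw [LinearMap.mem_ker, hψq, hzero] at hx
    obtain ⟨m', hm'⟩ := hx
    obtain ⟨m'', hm''⟩ := hc2 m'
    have : m = φ m'' := (hψ (hm''.symm.trans hm')).symm
    exact ⟨(LinearMap.range (φ ∘ₗ ψ)).mkQ m'', by rw [hφq, this]⟩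

end Groth.Agent.S6476
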