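import Groth.Statements.S6481
import Groth.Agent.Lib.Helper29.GlueB

set_option autoImplicit false
universe u
open CycAlg

namespace Groth.Agent.S6481

open IsLocalRing Groth.Agent.Lib.Helper29.Key


/-- Let (A, 𝔪) be a 2-dimensional Noetherian local ring, t ∈ 𝔪 a nonzerodivisor with V(t) = {𝔪, 𝔮_1, …,
𝔮_r}, and A_{𝔮_i} ⊂ B_i finite ring extensions with B_i/A_{𝔮_i} annihilated by a power of t and with
t a nonzerodivisor on each B_i. Then A admits some finite extension A ⊂ B whose quotient B/A is
killed by some power of t, such that for every i the localization B_{𝔮_i} = B ⊗_A A_{𝔮_i} is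
isomorphic to B_i (existence of an A_{𝔮_i}-algebra isomorphism; B itself is only asserted to exist).
(The published statement allows any finite ring extensions A_{𝔮_i} ⊂ B_i; this row asks t to be a
nonzerodivisor on each B_i, the case its proof treats, where B_i sits inside t^{-n}A_{𝔮_i}. The
published statement also makes B local with the same residue field as A; this row omits that
clause.) Finite extension with quotient killed by a power of t: CycAlg.IsFinExt with the ideal (t). -/
theorem result (A : Type u) [CommRing A] [IsNoetherianRing A] [IsLocalRing A] (hA : ringKrullDim A = 2) (t : A) (ht : t ∈ IsLocalRing.maximalIdeal A) (htnz : t ∈ nonZeroDivisors A) (r : ℕ) (q : Fin r → Ideal A) (hq : ∀ i, (q i).IsPrime) (hinj : Function.Injective q) (hqm : ∀ i, q i ≠ IsLocalRing.maximalIdeal A) (htq : ∀ i, t ∈ q i) (hV : ∀ p : Ideal A, p.IsPrime → t ∈ p → p = IsLocalRing.maximalIdeal A ∨ ∃ i, p = q i) (B : Fin r → Type u) [∀ i, CommRing (B i)] [∀ i, Algebra (Localization.AtPrime (q i)) (B i)] (hB : ∀ i, CycAlg.IsFinExt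 (Localization.AtPrime (q i)) (B i) (Ideal.span {algebraMap A (Localization.AtPrime (q i)) t})) (htB : ∀ i, IsSMulRegular (B i) (algebraMap A (Localization.AtPrime (q i)) t)) : ∃ (C : Type u) (_ : CommRing C) (_ : Algebra A C), CycAlg.IsFinExt A C (Ideal.span {t}) ∧ ∀ i, Nonempty (TensorProduct A (Localization.AtPrime (q i)) C ≃ₐ[Localization.AtPrime (q i)] B i) := by
  classical
  -- the primes `q i` are exactly the non-maximal primes containing `t`
  let τ : Fin r → PP A t := fun i => ⟨q i, hq i, hqm i, htq i⟩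
  have hτinj : Function.Injective τ := fun i j h => hinj (congrArg Subtype.val h)
  have hτsurj : Function.Surjective τ := by
    intro Q
    rcases hV Q.1 Q.2.1 Q.2.2.2 with h | ⟨i, hi⟩
    · exact absurd h Q.2.2.1
    · exact ⟨i, Subtype.ext hi.symm⟩
  let e : Fin r ≃ PP A t := Equiv.ofBijective τ ⟨hτinj, hτsurj⟩
  haveI : Fintype (PP A t) := Fintype.ofEquiv _ e
  -- the embeddings of the `B i`
  have hs : ∀ i, algebraMap A (Localization.AtPrime (q i)) t ∈
      nonZeroDivisors (Localization.AtPrime (q i)) := fun i => nzd_le_comap (q i) htnz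
  have h3 : ∀ i, ∃ n : ℕ, ∀ b : B i, ∃ x : Localization.AtPrime (q i),
      algebraMap (Localization.AtPrime (q i)) (B i) x =
        algebraMap A (Localization.AtPrime (q i)) t ^ n • b := by
    intro i
    obtain ⟨n, hn⟩ := (hB i).2.2
    refine ⟨n, fun b => ?_⟩
    exact hn _ (Ideal.pow_mem_pow (Ideal.mem_span_singleton_self _) n) b
  choose n hn using h3
  let ε : ∀ i, B i →ₐ[Localization.AtPrime (q i)] FractionRing (Localization.AtPrime (q i)) :=
    fun i => emb (B i) (hs i) (hB i).1 (n i) (hn i)
  have hε : ∀ i, Function.Injective (ε i) :=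
    fun i => emb_injective (B i) (hs i) (hB i).1 (n i) (hn i) (htB i)
  let T : PP A t → Type u := fun Q => Subalgebra (Localization.AtPrime Q.1)
    (FractionRing (Localization.AtPrime Q.1))
  let E'' : ∀ i, T (e i) := fun i => (ε i).range
  let E : ∀ Q : PP A t, Subalgebra (Localization.AtPrime Q.1)
    (FractionRing (Localization.AtPrime Q.1)) := Equiv.piCongrLeft T e E''
  have key : ∀ i, E (e i) = E'' i := fun i => Equiv.piCongrLeft_apply_apply T e E'' i
  set N₀ : ℕ := 1 + ∑ i, n i with hN₀
  have hle : ∀ i, n i ≤ N₀ := fun i => by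
    rw [hN₀]
    exact (Finset.single_le_sum (f := n) (fun _ _ => Nat.zero_le _)
      (Finset.mem_univ i)).trans (Nat.le_add_left _ _)
  have hcond : ∀ (Q : PP A t) (y : E Q), ∃ w : Localization.AtPrime Q.1,
      algebraMap (Localization.AtPrime Q.1) (FractionRing (Localization.AtPrime Q.1)) w =
        iq Q.1 t ^ N₀ * (y : FractionRing (Localization.AtPrime Q.1)) := by
    intro Q
    obtain ⟨i, rfl⟩ := e.surjective Q
    rw [key i]
    rintro ⟨y, b, rfl⟩
    refine ⟨algebraMap A (Localization.AtPrime (q i)) t ^ (N₀ - n i) *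
      num (B i) (n i) (hn i) b, ?_⟩
    have h1 := emb_apply_mul (B i) (hs i) (hB i).1 (n i) (hn i) b
    show algebraMap (Localization.AtPrime (q i)) (FractionRing (Localization.AtPrime (q i)))
      (algebraMap A (Localization.AtPrime (q i)) t ^ (N₀ - n i) * num (B i) (n i) (hn i) b) =
      algebraMap (Localization.AtPrime (q i)) (FractionRing (Localization.AtPrime (q i)))
        (algebraMap A (Localization.AtPrime (q i)) t) ^ N₀ * ε i b
    rw [map_mul, ← h1, map_pow, ← mul_assoc, ← pow_add, Nat.sub_add_cancel (hle i)]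
  obtain ⟨c, hc⟩ := exists_pow_smul_mem htnz E N₀ hcond (N₀ + N₀) (Nat.le_add_right _ _)
  refine ⟨Bsub E N₀ c hc, inferInstance, inferInstance,
    ⟨?_, finite_Bsub htnz E N₀ c hc, N₀, ?_⟩, fun i => ?_⟩
  · intro x y h
    exact IsFractionRing.injective A (FractionRing A) (congrArg Subtype.val h)
  · intro x hx β
    rw [Ideal.span_singleton_pow, Ideal.mem_span_singleton'] at hx
    obtain ⟨x', rfl⟩ := hx
    obtain ⟨⟨r', hr'⟩, -⟩ := Bsub_le_Mk E N₀ c hc β.2
    refine ⟨x' * r', Subtype.ext ?_⟩
    rw [Subalgebra.coe_algebraMap, map_mul, hr', Subalgebra.coe_smul, Algebra.smul_def, map_mul,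
      map_pow]
    ring
  · obtain ⟨Φ⟩ : Nonempty ((TensorProduct A (Localization.AtPrime (q i)) (Bsub E N₀ c hc))
        ≃ₐ[Localization.AtPrime (q i)] (ε i).range) := by
      have h := nonempty_tensor_equiv hA.le htnz E N₀ (by omega) hcond c hc (e i)
      rw [key i] at h
      exact h
    exact ⟨Φ.trans (AlgEquiv.ofInjective (ε i) (hε i)).symm⟩

end Groth.Agent.S6481
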