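import Groth.Statements.S6482
import Mathlib

set_option autoImplicit false
universe u
open CategoryTheory AlgebraicGeometry
open CategoryTheory.Limits
open Cyc

namespace Groth.Agent.S6482

theorem trdeg_eq_zero_of_surjective {K L : Type u} [Field K] [Field L] [Algebra K L]
    (h : Function.Surjective (algebraMap K L)) : Algebra.trdeg K L = 0 := by
  haveI : Algebra.IsIntegral K L := Algebra.isIntegral_of_surjective h
  haveI : Algebra.IsAlgebraic K L := inferInstance
  exact _root_.trdeg_eq_zero

theorem finrank_eq_one_of_surjective {K L : Type u} [Field K] [Field L] [Algebra K L]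
    (h : Function.Surjective (algebraMap K L)) : Module.finrank K L = 1 := by
  have hb : Function.Bijective (algebraMap K L) := ⟨(algebraMap K L).injective, h⟩
  let e : K ≃ₗ[K] L := LinearEquiv.ofBijective (Algebra.linearMap K L) hb
  rw [← e.finrank_eq, Module.finrank_self]


/-- Let f : Y → X be an envelope. Then f_* : Z_k(Y) → Z_k(X) is surjective, hence so is f_* : CH_k(Y) →
CH_k(X). An envelope is a proper, completely decomposed morphism (every point of the target has a
point over it with trivial residue field extension; this prelude's Cyc.IsCompletelyDecomposed). Here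
a pair (X, δ) with Cyc.IsSetup plays the role of a scheme locally of finite type over the base (S,
δ) (X locally Noetherian with universally catenary local rings, δ a dimension function), and
Cyc.DeltaCompat records that the dimension function upstairs is the induced one. -/
theorem result (X Y : Scheme.{u}) (δ : X → ℤ) (δY : Y → ℤ) (hX : Cyc.IsSetup X δ) (hY : Cyc.IsSetup Y δY) (f : Y ⟶ X) [IsProper f] (hcd : Cyc.IsCompletelyDecomposed f) (hδ : Cyc.DeltaCompat f δY δ) (k : ℤ) (α : AlgebraicCycle X ℤ) (hα : α ∈ Cyc.Zk X δ k) : ∃ β : AlgebraicCycle Y ℤ, β ∈ Cyc.Zk Y δY k ∧ AlgebraicCycle.map f δY δ β = α := by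
  classical
  choose g hg hsurj using hcd
  -- key facts at points in the image of g
  have hδg : ∀ y : Y, Function.Surjective (f.residueFieldMap y).hom → δY y = δ (f y) := by
    intro y hy
    obtain ⟨n, hn, hn'⟩ := hδ y
    letI := (f.residueFieldMap y).hom.toAlgebra
    have h0 : Algebra.trdeg (X.residueField (f y)) (Y.residueField y) = 0 :=
      trdeg_eq_zero_of_surjective hy
    rw [h0] at hn
    have : n = 0 := by exact_mod_cast hn.symm
    rw [hn', this]; simp
  have hdeg : ∀ y : Y, Function.Surjective (f.residueFieldMap y).hom → f.residueDegree y = 1 := by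
    intro y hy
    letI := (f.residueFieldMap y).hom.toAlgebra
    exact finrank_eq_one_of_surjective hy
  let βf : Y → ℤ := fun y => if y = g (f y) then α (f y) else 0
  have hβsupp : ∀ y, βf y ≠ 0 → y = g (f y) ∧ α (f y) ≠ 0 := by
    intro y hy
    by_cases h : y = g (f y)
    · refine ⟨h, ?_⟩
      simpa [βf, ← h] using hy
    · exact absurd (by simp [βf, h]) hy
  let β : AlgebraicCycle Y ℤ :=
    { toFun := βf
      supportWithinDomain' := by simp
      supportLocallyFiniteWithinDomain' := by
        intro y _
        obtain ⟨U, hU, hfin⟩ := α.supportLocallyFiniteWithinDomain' (f y) (by simp)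
        refine ⟨f ⁻¹' U, f.continuous.continuousAt hU, ?_⟩
        refine (hfin.image g).subset ?_
        rintro y' ⟨hy'U, hy'⟩
        obtain ⟨h1, h2⟩ := hβsupp y' hy'
        exact ⟨f y', ⟨hy'U, h2⟩, h1.symm⟩ }
  refine ⟨β, ?_, ?_⟩
  · intro y hy
    by_contra hne
    obtain ⟨h1, h2⟩ := hβsupp y hne
    have h3 : δ (f y) = k := by
      by_contra h
      exact h2 (hα (f y) h)
    have h4 := hδg y (by rw [h1]; exact hsurj (f y))
    exact hy (h4.trans h3)
  · ext x
    show (∑ᶠ y ∈ f ⁻¹' {x}, β y * ((AlgebraicCycle.mapCoeff f δY δ y : ℕ) : ℤ)) = α x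
    rw [finsum_mem_def, finsum_eq_single _ (g x)]
    · have hmem : g x ∈ f ⁻¹' {x} := hg x
      rw [Set.indicator_of_mem hmem]
      have hs : Function.Surjective (f.residueFieldMap (g x)).hom := hsurj x
      have h1 : β (g x) = α x := by
        show βf (g x) = α x
        simp [βf, hg x]
      have h2 : AlgebraicCycle.mapCoeff f δY δ (g x) = 1 := by
        unfold AlgebraicCycle.mapCoeff
        rw [if_pos (hδg _ hs), hdeg _ hs]
      rw [h1, h2]; simp
    · intro y hy
      by_cases hyx : y ∈ f ⁻¹' {x}
      · rw [Set.indicator_of_mem hyx]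
        have hfy : f y = x := hyx
        have : βf y = 0 := by
          by_contra hne
          obtain ⟨h1, -⟩ := hβsupp y hne
          rw [hfy] at h1
          exact hy h1
        show βf y * _ = 0
        rw [this, zero_mul]
      · rw [Set.indicator_of_notMem hyx]

end Groth.Agent.S6482
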