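import Groth.Statements.S6484
-- no extra imports

set_option autoImplicit false
universe u
open CategoryTheory AlgebraicGeometry
open CategoryTheory.Limits
open Cyc

namespace Groth.Agent.S6484

open AlgebraicGeometry.Scheme in
/-- Key lemma: a `K`-point of `X'` with surjective residue map, together with a compatible `K`-point of
`Y`, gives a point of the pullback over it with surjective residue field map. -/
theorem key {X X' Y : Scheme.{u}} (f : Y ⟶ X) (g : X' ⟶ X) (K : Type u) [Field K]
    (a : Spec (.of K) ⟶ X') (b : Spec (.of K) ⟶ Y) (hab : b ≫ f = a ≫ g)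
    (ha : Function.Surjective
      (Scheme.descResidueField (Scheme.stalkClosedPointTo a)).hom) :
    ∃ z : ↥(pullback f g), (pullback.snd f g) z = a (IsLocalRing.closedPoint K) ∧
      Function.Surjective ((pullback.snd f g).residueFieldMap z).hom := by
  let c : Spec (.of K) ⟶ pullback f g := pullback.lift b a hab
  have hc : c ≫ pullback.snd f g = a := pullback.lift_snd _ _ _
  refine ⟨c (IsLocalRing.closedPoint K), ?_, ?_⟩
  · rw [← hc]; rfl
  · have h1 := Scheme.descResidueField_stalkClosedPointTo_comp (f := pullback.snd f g) c
    -- transport along hc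
    have h2 : ∀ (a' : Spec (.of K) ⟶ X') (_ : a' = a),
        Function.Surjective (Scheme.descResidueField (Scheme.stalkClosedPointTo a')).hom := by
      rintro a' rfl; exact ha
    have h3' := h2 _ hc
    have h3 : Function.Surjective (Hom.residueFieldMap (pullback.snd f g)
        (c (IsLocalRing.closedPoint K)) ≫ descResidueField (stalkClosedPointTo c)).hom := by
      rw [← h1]; exact h3'
    intro w
    obtain ⟨v, hv⟩ := h3 ((Scheme.descResidueField (Scheme.stalkClosedPointTo c)).hom w)
    refine ⟨v, ?_⟩
    apply (Scheme.descResidueField (Scheme.stalkClosedPointTo c)).hom.injective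
    simpa using hv


/-- If f : Y → X is completely decomposed (this prelude's Cyc.IsCompletelyDecomposed: over every point
of X lies a point of Y with trivial residue field extension) and g : X' → X is any morphism of
schemes, then the base change Y ×_X X' → X' is completely decomposed. Consequently the base change
of an envelope (a proper completely decomposed morphism) is an envelope, properness being preserved
by base change. (The published envelope statement takes X′ → X between schemes locally of finite
type over a base; this row allows any g.) -/
theorem result (X X' Y : Scheme.{u}) (f : Y ⟶ X) (g : X' ⟶ X) (hcd : Cyc.IsCompletelyDecomposed f) : Cyc.IsCompletelyDecomposed (pullback.snd f g) := by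
  intro x'
  obtain ⟨y, hy, hsurj⟩ := hcd (g x')
  have : IsIso (f.residueFieldMap y) :=
    (ConcreteCategory.isIso_iff_bijective _).mpr ⟨(f.residueFieldMap y).hom.injective, hsurj⟩
  let φ : Y.residueField y ⟶ X'.residueField x' :=
    inv (f.residueFieldMap y) ≫ (X.residueFieldCongr hy).hom ≫ g.residueFieldMap x'
  have hφ : f.residueFieldMap y ≫ φ = (X.residueFieldCongr hy).hom ≫ g.residueFieldMap x' := by
    simp [φ]
  let a : Spec (.of (X'.residueField x')) ⟶ X' := X'.fromSpecResidueField x'
  let b : Spec (.of (X'.residueField x')) ⟶ Y := Spec.map φ ≫ Y.fromSpecResidueField y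
  have hab : b ≫ f = a ≫ g := by
    simp only [a, b, Category.assoc]
    rw [← Scheme.Hom.SpecMap_residueFieldMap_fromSpecResidueField, ← Spec.map_comp_assoc, hφ,
      Spec.map_comp_assoc, Scheme.residueFieldCongr_fromSpecResidueField,
      Scheme.Hom.SpecMap_residueFieldMap_fromSpecResidueField]
  have hpt : a (IsLocalRing.closedPoint (X'.residueField x')) = x' :=
    Scheme.fromSpecResidueField_apply _ _
  have ha : Function.Surjective
      (Scheme.descResidueField (Scheme.stalkClosedPointTo a)).hom := by
    have h1 : Scheme.SpecToEquivOfField (X'.residueField x') X' a = ⟨x', 𝟙 _⟩ := by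
      have := (Scheme.SpecToEquivOfField (X'.residueField x') X').right_inv ⟨x', 𝟙 _⟩
      change Scheme.SpecToEquivOfField _ _ (Spec.map (𝟙 _) ≫ X'.fromSpecResidueField x') = _ at this
      rw [Spec.map_id, Category.id_comp] at this
      exact this
    obtain ⟨e, he⟩ := Scheme.SpecToEquivOfField_eq_iff.mp h1
    simp only [Scheme.SpecToEquivOfField_apply_snd] at he
    rw [he]
    simp only [Category.comp_id]
    exact ((ConcreteCategory.isIso_iff_bijective (X'.residueFieldCongr e).hom).mp inferInstance).2
  obtain ⟨z, hz1, hz2⟩ := key f g (X'.residueField x') a b hab ha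
  exact ⟨z, hz1.trans hpt, hz2⟩

end Groth.Agent.S6484
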