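import Groth.Statements.S6485
import Mathlib.LinearAlgebra.Matrix.MvPolynomial
import Mathlib.Algebra.MvPolynomial.PDeriv
import Mathlib.Algebra.MvPolynomial.NoZeroDivisors
import Mathlib.Algebra.MvPolynomial.Nilpotent
import Mathlib.Tactic

set_option autoImplicit false
universe u
open IntMult

namespace Groth.Agent.S6485

open MvPolynomial Matrix

section Aux

variable {k : Type u} [Field k] {n : ℕ}

noncomputable def mτ (τ : Equiv.Perm (Fin n)) : (Fin n × Fin n) →₀ ℕ :=
  ∑ i, Finsupp.single (τ i, i) 1

theorem mτ_apply (τ : Equiv.Perm (Fin n)) (v : Fin n × Fin n) :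
    mτ τ v = if τ v.2 = v.1 then 1 else 0 := by
  unfold mτ
  rw [Finsupp.finsetSum_apply]
  simp only [Finsupp.single_apply]
  by_cases h : τ v.2 = v.1
  · rw [if_pos h, Finset.sum_eq_single v.2]
    · rw [if_pos]
      exact Prod.ext h rfl
    · intro b _ hb
      rw [if_neg]
      intro hv
      exact hb (by rw [← hv])
    · intro hb
      exact absurd (Finset.mem_univ _) hb
  · rw [if_neg h]
    apply Finset.sum_eq_zero
    intro b _
    rw [if_neg]
    intro hv
    apply h
    rw [← hv]

theorem mτ_injective : Function.Injective (mτ (n := n)) := by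
  intro τ τ' h
  ext j
  have h1 : mτ τ (τ j, j) = 1 := by rw [mτ_apply]; simp
  rw [h, mτ_apply] at h1
  by_cases h2 : τ' j = τ j
  · rw [h2]
  · simp [h2] at h1

theorem det_eq_sum :
    (mvPolynomialX (Fin n) (Fin n) k).det =
      ∑ τ : Equiv.Perm (Fin n), Equiv.Perm.sign τ • monomial (mτ τ) (1 : k) := by
  rw [Matrix.det_apply]
  apply Finset.sum_congr rfl
  intro τ _
  congr 1
  unfold mτ
  rw [monomial_sum_one]
  apply Finset.prod_congr rfl
  intro i _
  rfl

theorem coeff_det (m : (Fin n × Fin n) →₀ ℕ) :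
    coeff m (mvPolynomialX (Fin n) (Fin n) k).det =
      ∑ τ : Equiv.Perm (Fin n), if mτ τ = m then ((Equiv.Perm.sign τ : ℤ) : k) else 0 := by
  rw [det_eq_sum, coeff_sum]
  apply Finset.sum_congr rfl
  intro τ _
  rw [Units.smul_def, ← Int.cast_smul_eq_zsmul k, coeff_smul, coeff_monomial]
  split_ifs <;> simp

theorem exists_of_mem_support {m : (Fin n × Fin n) →₀ ℕ}
    (hm : coeff m (mvPolynomialX (Fin n) (Fin n) k).det ≠ 0) :
    ∃ τ : Equiv.Perm (Fin n), mτ τ = m := by
  by_contra hcon
  push Not at hcon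
  apply hm
  rw [coeff_det]
  apply Finset.sum_eq_zero
  intro τ _
  rw [if_neg (hcon τ)]

theorem coeff_det_mτ (τ : Equiv.Perm (Fin n)) :
    coeff (mτ τ) (mvPolynomialX (Fin n) (Fin n) k).det = ((Equiv.Perm.sign τ : ℤ) : k) := by
  rw [coeff_det, Finset.sum_eq_single τ]
  · rw [if_pos rfl]
  · intro τ' _ hne
    rw [if_neg]
    intro h
    exact hne (mτ_injective h)
  · intro h
    exact absurd (Finset.mem_univ _) h

theorem sign_cast_ne_zero (τ : Equiv.Perm (Fin n)) : ((Equiv.Perm.sign τ : ℤ) : k) ≠ 0 := by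
  rcases Int.units_eq_one_or (Equiv.Perm.sign τ) with h | h <;> rw [h] <;> simp

theorem degreeOf_det (v : Fin n × Fin n) :
    degreeOf v (mvPolynomialX (Fin n) (Fin n) k).det = 1 := by
  apply le_antisymm
  · rw [degreeOf_le_iff]
    intro m hm
    rw [mem_support_iff] at hm
    obtain ⟨τ, rfl⟩ := exists_of_mem_support hm
    rw [mτ_apply]
    split_ifs <;> simp
  · let τ : Equiv.Perm (Fin n) := Equiv.swap v.2 v.1
    have hmem : mτ τ ∈ (mvPolynomialX (Fin n) (Fin n) k).det.support := by
      rw [mem_support_iff, coeff_det_mτ]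
      exact sign_cast_ne_zero τ
    have := monomial_le_degreeOf v hmem
    rw [mτ_apply, if_pos (Equiv.swap_apply_left _ _)] at this
    exact this

theorem pderiv_pderiv_det {v v' : Fin n × Fin n} (hne : v ≠ v')
    (hrc : v.1 = v'.1 ∨ v.2 = v'.2) :
    pderiv v (pderiv v' (mvPolynomialX (Fin n) (Fin n) k).det) = 0 := by
  ext m
  rw [coeff_pderiv, coeff_pderiv, coeff_zero]
  have : coeff (m + Finsupp.single v 1 + Finsupp.single v' 1)
      (mvPolynomialX (Fin n) (Fin n) k).det = 0 := by
    by_contra hcon
    obtain ⟨τ, hτ⟩ := exists_of_mem_support hcon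
    have h1 : mτ τ v ≠ 0 := by
      rw [hτ]
      simp
    have h2 : mτ τ v' ≠ 0 := by
      rw [hτ]
      simp
    rw [mτ_apply] at h1 h2
    have h1' : τ v.2 = v.1 := by
      by_contra h
      rw [if_neg h] at h1
      exact h1 rfl
    have h2' : τ v'.2 = v'.1 := by
      by_contra h
      rw [if_neg h] at h2
      exact h2 rfl
    apply hne
    rcases hrc with h | h
    · have : v.2 = v'.2 := τ.injective (by rw [h1', h2', h])
      exact Prod.ext h this
    · have : v.1 = v'.1 := by rw [← h1', ← h2', h]
      exact Prod.ext this h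
  rw [this, zero_mul, zero_mul]

theorem pderiv_ne_zero_of_degreeOf_eq_one {σ : Type*} {f : MvPolynomial σ k} {v : σ}
    (h : degreeOf v f = 1) : pderiv v f ≠ 0 := by
  classical
  have hne : f.support.Nonempty := by
    by_contra hcon
    rw [Finset.not_nonempty_iff_eq_empty] at hcon
    rw [degreeOf_eq_sup, hcon, Finset.sup_empty] at h
    exact absurd h (by simp)
  obtain ⟨m, hm, hmv⟩ := Finset.exists_mem_eq_sup f.support hne (fun m => m v)
  rw [← degreeOf_eq_sup, h] at hmv
  intro hzero
  have hc := congrArg (coeff (m - Finsupp.single v 1)) hzero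
  rw [coeff_pderiv, coeff_zero] at hc
  have hm' : m - Finsupp.single v 1 + Finsupp.single v 1 = m := by
    ext w
    by_cases hw : w = v
    · subst hw
      simp [← hmv]
    · simp [Ne.symm hw]
  rw [hm'] at hc
  have h0 : (m - Finsupp.single v 1 : σ →₀ ℕ) v = 0 := by
    rw [Finsupp.tsub_apply, Finsupp.single_eq_same, ← hmv]
  rw [h0] at hc
  rw [mem_support_iff] at hm
  simp at hc
  exact hm hc

theorem pderiv_pderiv_eq_zero_of_degreeOf_eq_zero {σ : Type*} {g : MvPolynomial σ k} {v v' : σ}
    (h : degreeOf v g = 0) : pderiv v (pderiv v' g) = 0 := by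
  classical
  ext m
  rw [coeff_pderiv, coeff_pderiv, coeff_zero]
  have : coeff (m + Finsupp.single v 1 + Finsupp.single v' 1) g = 0 := by
    by_contra hcon
    have hmem : (m + Finsupp.single v 1 + Finsupp.single v' 1) ∈ g.support :=
      mem_support_iff.mpr hcon
    have := monomial_le_degreeOf v hmem
    rw [h] at this
    simp at this
  rw [this, zero_mul, zero_mul]

theorem pderiv_eq_zero_of_degreeOf_eq_zero {σ : Type*} {f : MvPolynomial σ k} {v : σ}
    (h : degreeOf v f = 0) : pderiv v f = 0 := by
  classical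
  apply pderiv_eq_zero_of_notMem_vars
  rw [degreeOf_def, Multiset.count_eq_zero] at h
  rw [vars_def, Multiset.mem_toFinset]
  exact h

theorem isUnit_of_forall_degreeOf_eq_zero {σ : Type*} {g : MvPolynomial σ k} (hg : g ≠ 0)
    (h : ∀ v, degreeOf v g = 0) : IsUnit g := by
  classical
  have hvars : g.vars = ∅ := by
    rw [Finset.eq_empty_iff_forall_notMem]
    intro v hv
    have := h v
    rw [degreeOf_def, Multiset.count_eq_zero] at this
    rw [vars_def, Multiset.mem_toFinset] at hv
    exact this hv
  rw [vars_eq_empty_iff_eq_C] at hvars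
  rw [hvars]
  apply IsUnit.map
  rw [isUnit_iff_ne_zero]
  intro h0
  rw [h0, map_zero] at hvars
  exact hg hvars

end Aux

/-- Let k be a field and n ≥ 1. Then the determinant of the generic matrix (x_{ij})_{1 ≤ i, j ≤ n} is an
irreducible element of the polynomial ring k[x_{ij}] (Mathlib's Matrix.mvPolynomialX is the generic
matrix over MvPolynomial (Fin n × Fin n) k). -/
theorem result (k : Type u) [Field k] (n : ℕ) (hn : 1 ≤ n) : Irreducible (Matrix.mvPolynomialX (Fin n) (Fin n) k).det := by
  classical
  have hD0 : (Matrix.mvPolynomialX (Fin n) (Fin n) k).det ≠ 0 :=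
    Matrix.det_mvPolynomialX_ne_zero (Fin n) k
  constructor
  · intro hu
    have h1 := degreeOf_det (k := k) (⟨0, hn⟩, ⟨0, hn⟩)
    rw [MvPolynomial.isUnit_iff_eq_C_of_isReduced] at hu
    obtain ⟨c, _, hc⟩ := hu
    rw [hc, degreeOf_C] at h1
    exact absurd h1 (by simp)
  · intro f g hfg
    have hf0 : f ≠ 0 := by
      intro h
      rw [h, zero_mul] at hfg
      exact hD0 hfg
    have hg0 : g ≠ 0 := by
      intro h
      rw [h, mul_zero] at hfg
      exact hD0 hfg
    have hsum : ∀ v, degreeOf v f + degreeOf v g = 1 := by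
      intro v
      rw [← degreeOf_mul_eq hf0 hg0, ← hfg, degreeOf_det]
    have key : ∀ (f g : MvPolynomial (Fin n × Fin n) k),
        (Matrix.mvPolynomialX (Fin n) (Fin n) k).det = f * g →
        ∀ v v' : Fin n × Fin n, v ≠ v' → (v.1 = v'.1 ∨ v.2 = v'.2) →
        degreeOf v f = 1 → degreeOf v g = 0 → degreeOf v' g = 1 → degreeOf v' f = 0 → False := by
      intro f g hfg v v' hne hrc hvf hvg hv'g hv'f
      have h0 := pderiv_pderiv_det (k := k) hne hrc
      rw [hfg, pderiv_mul, pderiv_eq_zero_of_degreeOf_eq_zero hv'f, zero_mul, zero_add,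
        pderiv_mul, pderiv_pderiv_eq_zero_of_degreeOf_eq_zero hvg, mul_zero, add_zero] at h0
      rcases mul_eq_zero.mp h0 with h | h
      · exact pderiv_ne_zero_of_degreeOf_eq_one hvf h
      · exact pderiv_ne_zero_of_degreeOf_eq_one hv'g h
    have hcases : ∀ v, (degreeOf v f = 1 ∧ degreeOf v g = 0) ∨
        (degreeOf v f = 0 ∧ degreeOf v g = 1) := by
      intro v
      have := hsum v
      omega
    have hprop : ∀ v v' : Fin n × Fin n, (v.1 = v'.1 ∨ v.2 = v'.2) →
        degreeOf v f = 1 → degreeOf v' f = 1 := by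
      intro v v' hrc hvf
      by_cases hne : v = v'
      · rw [← hne]; exact hvf
      · rcases hcases v' with h | h
        · exact h.1
        · exfalso
          have hvg : degreeOf v g = 0 := by
            have := hsum v
            omega
          exact key f g hfg v v' hne hrc hvf hvg h.2 h.1
    have hprop' : ∀ v v' : Fin n × Fin n, (v.1 = v'.1 ∨ v.2 = v'.2) →
        degreeOf v g = 1 → degreeOf v' g = 1 := by
      intro v v' hrc hvg
      by_cases hne : v = v'
      · rw [← hne]; exact hvg
      · rcases hcases v' with h | h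
        · exfalso
          have hvf : degreeOf v f = 0 := by
            have := hsum v
            omega
          have hfg' : (Matrix.mvPolynomialX (Fin n) (Fin n) k).det = g * f := by
            rw [hfg, mul_comm]
          exact key g f hfg' v v' hne hrc hvg hvf h.1 h.2
        · exact h.2
    let v0 : Fin n × Fin n := (⟨0, hn⟩, ⟨0, hn⟩)
    rcases hcases v0 with h | h
    · right
      apply isUnit_of_forall_degreeOf_eq_zero hg0
      intro v
      have h1 : degreeOf (v0.1, v.2) f = 1 := hprop v0 (v0.1, v.2) (Or.inl rfl) h.1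
      have h2 : degreeOf v f = 1 := hprop (v0.1, v.2) v (Or.inr rfl) h1
      have := hsum v
      omega
    · left
      apply isUnit_of_forall_degreeOf_eq_zero hf0
      intro v
      have h1 : degreeOf (v0.1, v.2) g = 1 := hprop' v0 (v0.1, v.2) (Or.inl rfl) h.2
      have h2 : degreeOf v g = 1 := hprop' (v0.1, v.2) v (Or.inr rfl) h1
      have := hsum v
      omega

end Groth.Agent.S6485
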