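import Groth.Statements.S6493
import Groth.Agent.Lib.Helper64.CohSupport

set_option autoImplicit false
universe u
open CategoryTheory AlgebraicGeometry
open Cyc

namespace Groth.Agent.S6493


/-- Suppose Z ⊂ X is a closed subscheme whose δ-dimension is at most k, and pick a point ξ of Z
satisfying δ(ξ) = k. In that case Z has an irreducible component whose generic point is ξ; and at
every generic point ξ' of an irreducible component of Z (every point of Z maximal under
generalization) the length of O_{Z,ξ'} over O_{X,ξ'} (= its length over itself) is finite. Here a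
pair (X, δ) with Cyc.IsSetup plays the role of a scheme locally of finite type over the base (S, δ)
(X locally Noetherian with universally catenary local rings, δ a dimension function). -/
theorem result (X Z : Scheme.{u}) (δ : X → ℤ) (hX : Cyc.IsSetup X δ) (i : Z ⟶ X) [IsClosedImmersion i] (k : ℤ) (hZ : ∀ z : Z, δ (i z) ≤ k) (ξ : Z) (hξ : δ (i ξ) = k) : (∀ z : Z, z ⤳ ξ → z = ξ) ∧ ∀ ξ' : Z, (∀ z : Z, z ⤳ ξ' → z = ξ') → Module.length ↑(Z.presheaf.stalk ξ') ↑(Z.presheaf.stalk ξ') < ⊤ := by
  haveI : IsLocallyNoetherian X := hX.1
  haveI : IsLocallyNoetherian Z := LocallyOfFiniteType.isLocallyNoetherian i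
  refine ⟨?_, ?_⟩
  · intro z hz
    by_contra hne
    have h1 : i z ⤳ i ξ := hz.map i.continuous
    have h2 : i z ≠ i ξ := fun h => hne (i.isEmbedding.injective h)
    have h3 := (hX.2.2 (i z) (i ξ) h1 h2).1
    have h4 := hZ z
    omega
  · intro ξ' hmax
    apply Groth.Agent.Lib.Helper64.CohSupport.length_lt_top_of_support_subset
    intro q _
    have hsp : (Z.fromSpecStalk ξ') q ⤳ ξ' := by
      have : (Z.fromSpecStalk ξ') q ∈ Set.range (Z.fromSpecStalk ξ') := ⟨q, rfl⟩
      rwa [Scheme.range_fromSpecStalk] at this
    have heq := hmax _ hsp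
    have hq' : q = IsLocalRing.closedPoint (Z.presheaf.stalk ξ') := by
      apply (Z.fromSpecStalk ξ').isEmbedding.injective
      rw [heq]
      exact (Scheme.fromSpecStalk_closedPoint (X := Z) (x := ξ')).symm
    rw [hq']
    exact IsLocalRing.maximalIdeal.isMaximal _

end Groth.Agent.S6493
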