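import Groth.Statements.S6495
import Groth.Agent.Lib.Helper50.CycLim2

set_option autoImplicit false
universe u
open CategoryTheory AlgebraicGeometry
open Cyc

namespace Groth.Agent.S6495

/-- Surjectivity of colim Z_k(X_i) → Z_k(X'): every k-cycle α' on the limit X' is g_i^*α for some i and
some k-cycle α on X_i, where g_i : X' → X_i is the projection and g_i^* the shift-0 base-change
pullback on coefficient functions. Setting: a directed inverse system (X_i) of quasi-compact schemes
with affine flat transition morphisms and limit X' (a limit cone), each X_i and X' carrying a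
dimension function with Cyc.IsSetup, and every transition map and every projection X' → X_i shifting
the dimension functions by c = 0 at generic points of fibres, so that the base-change pullbacks g^*
are Cyc.pullFun with shift 0. (The published statement takes X_i and X′ to be the base changes of
one quasi-compact scheme of finite type over a base S along S_i → S and lim S_i → S; this row allows
any such inverse system.) -/
theorem result (I : Type u) [Preorder I] [IsDirected I (fun a b => a ≤ b)] [Nonempty I] (D : Iᵒᵖ ⥤ Scheme.{u}) (c : Limits.Cone D) (hc : Limits.IsLimit c) (haff : ∀ (i j : Iᵒᵖ) (f : i ⟶ j), IsAffineHom (D.map f)) (hflat : ∀ (i j : Iᵒᵖ) (f : i ⟶ j), Flat (D.map f)) (hqc : ∀ i, CompactSpace ↥(D.obj i)) (δ : (i : Iᵒᵖ) → ↥(D.obj i) → ℤ) (δ' : ↥c.pt → ℤ) (hset : ∀ i, Cyc.IsSetup (D.obj i) (δ i)) (hset' : Cyc.IsSetup c.pt δ') (hshift : ∀ (i j : Iᵒᵖ) (f : i ⟶ j) (x : ↥(D.obj i)), (∀ y, D.map f y = D.map f x → y ⤳ x → y = x) → δ i x = δ j (D.map f x)) (hflat' : ∀ i, Flat (c.π.app i))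 (hshift' : ∀ (i : Iᵒᵖ) (x : ↥c.pt), (∀ y, c.π.app i y = c.π.app i x → y ⤳ x → y = x) → δ' x = δ i (c.π.app i x)) (k : ℤ) (α' : AlgebraicCycle c.pt ℤ) (hα' : α' ∈ Cyc.Zk c.pt δ' k) : ∃ (i : Iᵒᵖ) (α : AlgebraicCycle (D.obj i) ℤ), α ∈ Cyc.Zk (D.obj i) (δ i) k ∧ Cyc.pullFun (c.π.app i) δ' (δ i) 0 ⇑α = ⇑α' := by
  classical
  haveI := haff
  haveI := hqc
  haveI : IsLocallyNoetherian c.pt := hset'.1
  obtain ⟨i₀⟩ := IsCofiltered.nonempty (C := Iᵒᵖ)
  haveI : CompactSpace c.pt := Groth.Agent.Lib.Helper50.compactSpace_pt D c hc i₀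
  have hfin : (Function.support ⇑α').Finite := by
    have h := (Function.locallyFinsupp.locallyFiniteSupport α').finite_inter_support_of_isCompact
      (isCompact_univ (X := ↥c.pt))
    rwa [Set.univ_inter] at h
  have hdim : ∀ x' ∈ Function.support ⇑α', δ' x' = k := by
    intro x' hx'
    by_contra hne
    exact hx' (hα' x' hne)
  -- stages
  choose J1 hJ1 using fun x' : c.pt =>
    Groth.Agent.Lib.Helper50.CycLim.exists_stage_maximalIdeal_le D c hc x'
  choose J2 hJ2 using fun x' : c.pt =>
    Groth.Agent.Lib.Helper50.CycLim.exists_stage_specializes D c hc x'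
  obtain ⟨i, hi⟩ := IsCofiltered.inf_objs_exists
    (hfin.toFinset.image J1 ∪ hfin.toFinset.image J2)
  have hQ1 : ∀ x' ∈ Function.support ⇑α',
      IsLocalRing.maximalIdeal (c.pt.presheaf.stalk x') ≤
        Ideal.map ((c.π.app i).stalkMap x').hom
          (IsLocalRing.maximalIdeal ((D.obj i).presheaf.stalk (c.π.app i x'))) := by
    intro x' hx'
    obtain ⟨ψ⟩ := hi (Finset.mem_union_left _
      (Finset.mem_image_of_mem J1 (hfin.mem_toFinset.2 hx')))
    exact hJ1 x' i ψ
  have hQ2 : ∀ x' ∈ Function.support ⇑α', ∀ x'' : c.pt,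
      c.π.app i x'' = c.π.app i x' → x' ⤳ x'' := by
    intro x' hx'
    obtain ⟨ψ⟩ := hi (Finset.mem_union_right _
      (Finset.mem_image_of_mem J2 (hfin.mem_toFinset.2 hx')))
    exact hJ2 x' i ψ
  have hδi : ∀ x' ∈ Function.support ⇑α', δ i (c.π.app i x') = k := by
    intro x' hx'
    rw [← hshift' i x' (fun y h1 h2 => ((hQ2 x' hx' y h1).antisymm h2).eq.symm)]
    exact hdim x' hx'
  have hinj : ∀ x₁ ∈ Function.support ⇑α', ∀ x₂ ∈ Function.support ⇑α',
      c.π.app i x₁ = c.π.app i x₂ → x₁ = x₂ := by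
    intro x₁ h₁ x₂ h₂ h
    exact ((hQ2 x₁ h₁ x₂ h.symm).antisymm (hQ2 x₂ h₂ x₁ h)).eq
  have hlen : ∀ x' ∈ Function.support ⇑α',
      (Module.length (c.pt.presheaf.stalk x') (c.pt.presheaf.stalk x' ⧸
        Ideal.map ((c.π.app i).stalkMap x').hom
          (IsLocalRing.maximalIdeal ((D.obj i).presheaf.stalk (c.π.app i x'))))).toNat = 1 := by
    intro x' hx'
    have hJ : Ideal.map ((c.π.app i).stalkMap x').hom
          (IsLocalRing.maximalIdeal ((D.obj i).presheaf.stalk (c.π.app i x'))) =
        IsLocalRing.maximalIdeal (c.pt.presheaf.stalk x') :=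
      le_antisymm (IsLocalRing.map_maximalIdeal_le ((c.π.app i).stalkMap x').hom) (hQ1 x' hx')
    rw [hJ]
    haveI : IsSimpleModule (c.pt.presheaf.stalk x')
        (c.pt.presheaf.stalk x' ⧸ IsLocalRing.maximalIdeal (c.pt.presheaf.stalk x')) :=
      isSimpleModule_iff_isCoatom.2
        (Ideal.isMaximal_def.1 (IsLocalRing.maximalIdeal.isMaximal _))
    rw [Module.length_eq_one]
    rfl
  let S := hfin.toFinset
  let αfun : ↥(D.obj i) → ℤ := fun y => ∑ x' ∈ S, if c.π.app i x' = y then α' x' else 0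
  have hαfun_img : ∀ y, αfun y ≠ 0 → ∃ x' ∈ Function.support ⇑α', c.π.app i x' = y := by
    intro y hy
    obtain ⟨x', hx'S, hx'⟩ := Finset.exists_ne_zero_of_sum_ne_zero hy
    refine ⟨x', hfin.mem_toFinset.1 hx'S, ?_⟩
    by_contra hne
    exact hx' (if_neg hne)
  have hαfun_eq : ∀ x' ∈ Function.support ⇑α', αfun (c.π.app i x') = α' x' := by
    intro x' hx'
    change ∑ z ∈ S, (if c.π.app i z = c.π.app i x' then α' z else 0) = α' x'
    rw [Finset.sum_eq_single x']
    · rw [if_pos rfl]
    · intro z hz hne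
      rw [if_neg]
      intro h
      exact hne (hinj z (hfin.mem_toFinset.1 hz) x' hx' h)
    · intro h
      exact absurd (hfin.mem_toFinset.2 hx') h
  let α : AlgebraicCycle (D.obj i) ℤ :=
    { toFun := αfun
      supportWithinDomain' := Set.subset_univ _
      supportLocallyFiniteWithinDomain' := fun z _ => ⟨Set.univ, Filter.univ_mem, by
        rw [Set.univ_inter]
        refine Set.Finite.subset (S.image (c.π.app i)).finite_toSet ?_
        intro y hy
        obtain ⟨x', hx', rfl⟩ := hαfun_img y hy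
        exact Finset.mem_coe.2 (Finset.mem_image_of_mem _ (hfin.mem_toFinset.2 hx'))⟩ }
  have hαcoe : ∀ y, α y = αfun y := fun y => rfl
  refine ⟨i, α, ?_, ?_⟩
  · intro y hy
    by_contra hne
    rw [hαcoe] at hne
    obtain ⟨x', hx', rfl⟩ := hαfun_img y hne
    exact hy (hδi x' hx')
  · funext x''
    unfold Cyc.pullFun
    by_cases hx'' : x'' ∈ Function.support ⇑α'
    · rw [if_pos (by rw [hδi x'' hx'', hdim x'' hx'', add_zero]), hαcoe, hαfun_eq x'' hx'']
      erw [hlen x'' hx'']
      simp
    · have h0 : α' x'' = 0 := by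
        by_contra h; exact hx'' h
      rw [h0]
      split_ifs with hcond
      · have hz : α (c.π.app i x'') = 0 := by
          by_contra hne
          rw [hαcoe] at hne
          obtain ⟨x', hx', hxx⟩ := hαfun_img _ hne
          have h1 : x' ⤳ x'' := hQ2 x' hx' x'' hxx.symm
          have h2 : δ' x'' = δ' x' := by
            rw [hcond, add_zero, ← hxx, hδi x' hx', hdim x' hx']
          by_cases hxe : x' = x''
          · exact hx'' (hxe ▸ hx')
          · have := (hset'.2.2 x' x'' h1 hxe).1
            omega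
        rw [hz, zero_mul]
      · rfl

end Groth.Agent.S6495
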