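import Groth.Statements.S6496
import Groth.Agent.Lib.Helper50.CycLim1

set_option autoImplicit false
universe u
open CategoryTheory AlgebraicGeometry
open Cyc

namespace Groth.Agent.S6496

/-- Injectivity of colim Z_k(X_i) → Z_k(X'): if a k-cycle α on X_i pulls back to the zero cycle on X',
then it pulls back to zero on some stage X_j above X_i. Setting: a directed inverse system (X_i) of
quasi-compact schemes with affine flat transition morphisms and limit X' (a limit cone), each X_i
and X' carrying a dimension function with Cyc.IsSetup, and every transition map and every projection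
X' → X_i shifting the dimension functions by c = 0 at generic points of fibres, so that the
base-change pullbacks g^* are Cyc.pullFun with shift 0. (The published statement takes X_i and X′ to
be the base changes of one quasi-compact scheme of finite type over a base S along S_i → S and lim
S_i → S; this row allows any such inverse system.) -/
theorem result (I : Type u) [Preorder I] [IsDirected I (fun a b => a ≤ b)] [Nonempty I] (D : Iᵒᵖ ⥤ Scheme.{u}) (c : Limits.Cone D) (hc : Limits.IsLimit c) (haff : ∀ (i j : Iᵒᵖ) (f : i ⟶ j), IsAffineHom (D.map f)) (hflat : ∀ (i j : Iᵒᵖ) (f : i ⟶ j), Flat (D.map f)) (hqc : ∀ i, CompactSpace ↥(D.obj i)) (δ : (i : Iᵒᵖ) → ↥(D.obj i) → ℤ) (δ' : ↥c.pt → ℤ) (hset : ∀ i, Cyc.IsSetup (D.obj i) (δ i)) (hset' : Cyc.IsSetup c.pt δ') (hshift : ∀ (i j : Iᵒᵖ) (f : i ⟶ j) (x : ↥(D.obj i)), (∀ y, D.map f y = D.map f x → y ⤳ x → y = x) → δ i x = δ j (D.map f x)) (hflat' : ∀ i, Flat (c.π.app i)) (hshift' : ∀ (i : Iᵒᵖ) (x : ↥c.pt), (∀ y, c.π.app i y = c.π.app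 i x → y ⤳ x → y = x) → δ' x = δ i (c.π.app i x)) (k : ℤ) (i : Iᵒᵖ) (α : AlgebraicCycle (D.obj i) ℤ) (hα : α ∈ Cyc.Zk (D.obj i) (δ i) k) (h0 : Cyc.pullFun (c.π.app i) δ' (δ i) 0 ⇑α = 0) : ∃ (j : Iᵒᵖ) (f : j ⟶ i), Cyc.pullFun (D.map f) (δ j) (δ i) 0 ⇑α = 0 := by
  classical
  haveI := haff
  haveI := hqc
  haveI : IsLocallyNoetherian c.pt := hset'.1
  have hfin : (Function.support ⇑α).Finite := by
    have h := (Function.locallyFinsupp.locallyFiniteSupport α).finite_inter_support_of_isCompact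
      (isCompact_univ (X := ↥(D.obj i)))
    rwa [Set.univ_inter] at h
  have hempty : ∀ y ∈ Function.support ⇑α, ∀ x' : c.pt, c.π.app i x' ≠ y := by
    intro y hy x₀ hx₀
    obtain ⟨x, hx1, -, hx3⟩ :=
      Groth.Agent.Lib.Helper50.CycLim.exists_generic_in_fibre (c.π.app i) x₀
    have hδ : δ' x = δ i (c.π.app i x) := hshift' i x (fun y' h1 h2 => hx3 y' h1 h2)
    have h1 : Cyc.pullFun (c.π.app i) δ' (δ i) 0 ⇑α x = 0 := by rw [h0]; rfl
    unfold Cyc.pullFun at h1
    rw [if_pos (by rw [hδ, add_zero])] at h1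
    have hlen := Groth.Agent.Lib.Helper50.CycLim.length_toNat_ne_zero (X := c.pt) (c.π.app i) x hx3
    rcases mul_eq_zero.1 h1 with h | h
    · exact hy (by rwa [hx1, hx₀] at h)
    · exact hlen (by exact_mod_cast h)
  have hstage : ∀ y : ↥(D.obj i), ∃ (j : Iᵒᵖ) (φ : j ⟶ i), y ∈ Function.support ⇑α →
      ∀ x : ↥(D.obj j), D.map φ x ≠ y := by
    intro y
    by_cases hy : y ∈ Function.support ⇑α
    · obtain ⟨j, φ, h⟩ := Groth.Agent.Lib.Helper50.CycLim.exists_stage_fibre_empty D c hc i y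
        (hempty y hy)
      exact ⟨j, φ, fun _ => h⟩
    · exact ⟨i, 𝟙 i, fun h => absurd h hy⟩
  choose J φ hJ using hstage
  obtain ⟨j, hj⟩ := IsCofiltered.inf_objs_exists (insert i (hfin.toFinset.image J))
  obtain ⟨f⟩ := hj (Finset.mem_insert_self _ _)
  refine ⟨j, f, ?_⟩
  funext x
  unfold Cyc.pullFun
  have hzero : α (D.map f x) = 0 := by
    by_contra hne
    have hy : D.map f x ∈ Function.support ⇑α := hne
    obtain ⟨ψ⟩ := hj (Finset.mem_insert_of_mem
      (Finset.mem_image_of_mem J (hfin.mem_toFinset.2 hy)))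
    have hfψ : f = ψ ≫ φ (D.map f x) := Subsingleton.elim _ _
    have h2 := hJ (D.map f x) hy (D.map ψ x)
    apply h2
    conv_rhs => rw [hfψ, D.map_comp]
    rfl
  rw [hzero, zero_mul, ite_self]
  rfl

end Groth.Agent.S6496
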