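import Groth.Statements.S6500
import Groth.Agent.S14414
import Groth.Agent.Lib.Helper76.RegularLocalGlDim
import Groth.Agent.Lib.Helper30.SmoothRegular
import Groth.Agent.Lib.Helper73.DimFormula.SchemeLocal

set_option autoImplicit false
universe u
open CategoryTheory CategoryTheory.Limits AlgebraicGeometry
attribute [local instance] HasDerivedCategory.standard
open IntMult

namespace Groth.Agent.S6500


/-- Let X be a nonsingular variety of dimension n and F, G coherent O_X-modules. The Tor sheaves
Tor_p^{O_X}(F, G), whose stalks are Tor_p^{O_{X,x}}(F_x, G_x), are nonzero only for p ∈ {0, …, n}: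
for every point x and every p > n, Tor_p^{O_{X,x}}(F_x, G_x) = 0. (Coherence of the Tor sheaves and
the support statement are not restated.) Nonsingular variety: X → Spec K smooth, separated,
quasi-compact, X integral, K algebraically closed; n = dim X. -/
theorem result (K : Type u) [Field K] [IsAlgClosed K] (X : Scheme.{u}) (f : X ⟶ Spec (CommRingCat.of K)) [Smooth f] [IsSeparated f] [QuasiCompact f] [IsIntegral X] (n : ℕ) (hn : topologicalKrullDim X = n) (F G : X.Modules) (hF : Coh.IsCoh F) (hG : Coh.IsCoh G) (x : X) (p : ℕ) (hp : n < p) : Subsingleton (DRing.Tor ↑(X.presheaf.stalk x) p ↑(F.presheaf.stalk x) ↑(G.presheaf.stalk x)) := by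
  haveI hreg : IsRegularLocalRing (X.presheaf.stalk x) :=
    Groth.Agent.Lib.Helper30.SmoothRegular.stalk_regular_of_smooth_field K f x
  have hle : ringKrullDim (X.presheaf.stalk x) ≤ n := by
    rw [← hn]
    exact Groth.Agent.Lib.Helper73.ringKrullDim_stalk_le_topologicalKrullDim X x
  obtain ⟨d, hd⟩ : ∃ d : ℕ, ringKrullDim (X.presheaf.stalk x) = d := by
    have h0 : (0 : WithBot ℕ∞) ≤ ringKrullDim (X.presheaf.stalk x) := ringKrullDim_nonneg_of_nontrivial
    generalize ringKrullDim (X.presheaf.stalk x) = r at hle h0
    induction r using WithBot.recBotCoe with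
    | bot => simp at h0
    | coe r =>
      induction r using ENat.recTopCoe with
      | top =>
        exfalso
        have : ((⊤ : ℕ∞) : WithBot ℕ∞) ≤ ((n : ℕ∞) : WithBot ℕ∞) := hle
        rw [WithBot.coe_le_coe] at this
        simp at this
      | coe r => exact ⟨r, rfl⟩
  have hdn : d ≤ n := by
    rw [hd] at hle
    exact_mod_cast hle
  have hpd := Groth.Agent.Lib.Helper76.hasProjectiveDimensionLT_of_isRegularLocalRing
    (X.presheaf.stalk x) d hd (G.presheaf.stalk x)
  haveI : HasProjectiveDimensionLE (ModuleCat.of (X.presheaf.stalk x) (G.presheaf.stalk x)) d := hpd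
  have hz := Groth.Agent.S14414.result (X.presheaf.stalk x)
    (ModuleCat.of (X.presheaf.stalk x) (F.presheaf.stalk x))
    (ModuleCat.of (X.presheaf.stalk x) (G.presheaf.stalk x)) d p (by omega)
  exact ModuleCat.subsingleton_of_isZero hz


end Groth.Agent.S6500
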