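import Groth.Statements.S6514
import Groth.Agent.Lib.Helper12.SkyFlat2

set_option autoImplicit false
universe u
open CategoryTheory
open DCoh

namespace Groth.Agent.S6514

open AlgebraicGeometry in
theorem result {X Y : Scheme.{u}} (f : X ⟶ Y) [Flat f]
    (I : CochainComplex X.Modules ℤ) (hI : I.IsKInjective) :
    CochainComplex.IsKInjective (((Scheme.Modules.pushforward f).mapHomologicalComplex (ComplexShape.up ℤ)).obj I) := by
  exact Groth.Agent.Lib.Helper12.Sky.isKInjective_pushforward f I

end Groth.Agent.S6514
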