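import Groth.Statements.S6526
import Groth.Agent.Lib.Helper62.HyperGlobal
import Groth.Agent.Lib.Helper62.VerdierHyper
import Groth.Agent.Lib.Helper68.GSSDer7
import Groth.Agent.Lib.Helper68.ExtRD

set_option autoImplicit false
universe u
open CategoryTheory
open Hyper

namespace Groth.Agent.S6526

open Opposite CategoryTheory.Limits in
/-- Existence form, for a hypercovering K of the final object of the topos in Verdier's sense, on a
small site with equalizers, fibre products and binary products: for an abelian sheaf F there is a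
bounded E_2 spectral sequence of abelian groups with E_2^{p,q} isomorphic to the Čech cohomology
group Ȟ^p(K, H^q(F)) of the presheaf U ↦ H^q(U, F), for p, q ≥ 0 and zero otherwise, together with
abutment data whose filtrations are finite on the global cohomology groups H^n(F) (zero for n < 0).
The E_2 identifications and the abutment isomorphisms are asserted to exist only, not pinned to the
maps of the construction, so edge maps are not part of this statement. -/
theorem result {C : Type u} [SmallCategory C]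
    [HasEqualizers C] [HasPullbacks C] [HasBinaryProducts C]
    (J : GrothendieckTopology C) (K : SimplicialObject (FormalCoproduct.{u} C))
    [∀ (n : ℕ) (F : (SimplexCategory.Truncated n)ᵒᵖ ⥤ Limits.FormalCoproduct.{u} C),
      (SimplexCategory.Truncated.inclusion n).op.HasRightKanExtension F]
    (hK : Hyper.IsHypercoveringSite J K) (F : Sheaf J AddCommGrpCat.{u}) :
    ∃ (E : E₂CohomologicalSpectralSequence AddCommGrpCat.{u})
      (a : SpSeq.Abutment E (fun n : ℤ => if 0 ≤ n then AddCommGrpCat.of (Sheaf.H F n.toNat) else AddCommGrpCat.of PUnit.{u + 1})),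
      (∀ n, a.IsFinite n) ∧ SpSeq.IsBounded E ∧
      ∀ p q : ℤ, Nonempty ((E.page 2 le_rfl).X (p, q) ≅
        (if 0 ≤ p ∧ 0 ≤ q then (Hyper.cechCxSite K (Sheaf.cohomologyPresheaf F q.toNat)).homology p.toNat
         else AddCommGrpCat.of PUnit.{u + 1})) := by
  have hK0 := hK.1
  have hK1 := hK.2.1
  let T := Groth.Agent.Lib.Helper62.CechFunctorExact.T K J
  let S := Groth.Agent.Lib.Helper62.H0Derived.H0 AddCommGrpCat.{u}
  have hT : ∀ Q : Sheaf J AddCommGrpCat.{u}, Injective Q → ∀ q : ℕ, 0 < q →
      IsZero ((S.rightDerived q).obj (T.obj Q)) := by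
    intro Q hQ q hq
    obtain ⟨q, rfl⟩ : ∃ q', q = q' + 1 := ⟨q - 1, by omega⟩
    obtain ⟨e⟩ := Groth.Agent.Lib.Helper62.H0Derived.nonempty_iso (T.obj Q) (q + 1)
    exact IsZero.of_iso ((Groth.Agent.Lib.Helper62.VerdierHyper.cech_injective J K hK Q).1 q) e
  obtain ⟨E, a, ha, hb, hE⟩ := Groth.Agent.Lib.Helper68.GSSDer.exists_spectralSequence_of_iso
    T S hT F
    (fun n : ℤ => if 0 ≤ n then AddCommGrpCat.of (Sheaf.H F n.toNat)
        else AddCommGrpCat.of PUnit.{u + 1})
    (fun n hn => (Groth.Agent.Lib.Helper68.ExtRD.nonempty_iso (T ⋙ S)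
      (Groth.Agent.Lib.Helper62.HyperGlobal.ZS J)
      (Groth.Agent.Lib.Helper62.HyperGlobal.θ J K hK0 hK1)
      (fun f x => Groth.Agent.Lib.Helper62.HyperGlobal.θ_natural J K hK0 hK1 f x) F n.toNat).some ≪≫
        eqToIso (by rw [if_pos hn]))
    (fun n hn => by
      rw [if_neg (by omega)]
      exact AddCommGrpCat.isZero_of_subsingleton _)
  refine ⟨E, a, ha, hb, fun p q => ?_⟩
  obtain ⟨e⟩ := hE p q
  by_cases hpq : 0 ≤ p ∧ 0 ≤ q
  · rw [if_pos hpq] at e ⊢
    obtain ⟨e1⟩ := Groth.Agent.Lib.Helper62.CechFunctorExact.nonempty_rightDerived_T_iso K J F q.toNat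
    obtain ⟨e2⟩ := Groth.Agent.Lib.Helper62.H0Derived.nonempty_iso
      ((Groth.Agent.Lib.Helper62.CechFunctorExact.Ψ K).obj (Sheaf.cohomologyPresheaf.{u} F q.toNat))
      p.toNat
    exact ⟨e ≪≫ (S.rightDerived p.toNat).mapIso e1 ≪≫ e2⟩
  · rw [if_neg hpq] at e ⊢
    exact ⟨e ≪≫ (isZero_zero _).iso (AddCommGrpCat.isZero_of_subsingleton _)⟩

end Groth.Agent.S6526
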