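import Groth.Statements.S6534
import Groth.Agent.Lib.Helper89.FilTel2
import Groth.Agent.Lib.Helper13.KInjMain

set_option autoImplicit false
universe w v u
open CategoryTheory
open CohDer

namespace Groth.Agent.S6534

open CategoryTheory.Limits in
/-- Let A be a Grothendieck abelian category, E ∈ D(A), and … → E^{i+1} → E^i → … → E an inverse system
in D(A) over ℤ with compatible maps to E. Then there exists a filtered complex K of A such that K
represents E and F^iK represents E^i, compatibly: there are isomorphisms in D(A) from the images of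
K and of the subcomplexes F^iK to E and E^i under which the inclusions F^iK → K and F^{i+1}K → F^iK
correspond to the given maps E^i → E and E^{i+1} → E^i. -/
theorem result {A : Type u} [Category.{v} A] [Abelian A]
    [IsGrothendieckAbelian.{v} A] [HasDerivedCategory.{w} A]
    (E : DerivedCategory A) (Es : ℤ → DerivedCategory A) (t : ∀ i : ℤ, Es (i + 1) ⟶ Es i)
    (a : ∀ i : ℤ, Es i ⟶ E) (hat : ∀ i : ℤ, t i ≫ a i = a (i + 1)) :
    ∃ (K : SpSeq.FilCx A) (e : DerivedCategory.Q.obj K.obj ≅ E)
      (ei : ∀ i : ℤ, DerivedCategory.Q.obj (K.step i) ≅ Es i),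
      (∀ i : ℤ, DerivedCategory.Q.map (K.fil i).arrow ≫ e.hom = (ei i).hom ≫ a i) ∧
      (∀ i : ℤ, DerivedCategory.Q.map (K.stepLE (le_of_lt (Int.lt_succ_self i))) ≫ (ei i).hom =
        (ei (i + 1)).hom ≫ t i) := by
  classical
  -- K-injective representatives
  have hres : ∀ M : DerivedCategory A, ∃ (I : CochainComplex A ℤ) (_ : I.IsKInjective),
      Nonempty (DerivedCategory.Q.obj I ≅ M) := by
    intro M
    obtain ⟨I, f, hI, hf, -, -⟩ :=
      Groth.Agent.Lib.Helper13.KInjMain.exists_kInjective_resolution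
        (DerivedCategory.Q.objPreimage M)
    have : IsIso (DerivedCategory.Q.map f) := (DerivedCategory.isIso_Q_map_iff_quasiIso A f).2 hf
    exact ⟨I, hI, ⟨(asIso (DerivedCategory.Q.map f)).symm ≪≫
      DerivedCategory.Q.objObjPreimageIso M⟩⟩
  obtain ⟨I, hI, ⟨eI⟩⟩ := hres E
  choose X hX eX using fun j => hres (Es j)
  replace eX := fun j => (eX j).some
  have hτ := fun j => Groth.Agent.Lib.Helper84.KInj.exists_Q_map_eq (X (j + 1)) (X j)
    ((eX (j + 1)).hom ≫ t j ≫ (eX j).inv)
  choose τ hτ using hτ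
  have hα := fun j => Groth.Agent.Lib.Helper84.KInj.exists_Q_map_eq (X j) I
    ((eX j).hom ≫ a j ≫ eI.inv)
  choose α hα using hα
  have hcomp : ∀ j, DerivedCategory.Q.map (τ j ≫ α j) = DerivedCategory.Q.map (α (j + 1)) := by
    intro j
    rw [Functor.map_comp, hτ, hα, hα]
    simp only [Category.assoc, Iso.inv_hom_id_assoc]
    rw [← hat j]
    simp only [Category.assoc]
  obtain ⟨K, fil, anti, p, v, hp, hv, h1, h2⟩ :=
    Helper89.FilTel.exists_filtration X τ I α hcomp
  have hp' : IsIso (DerivedCategory.Q.map p) := (DerivedCategory.isIso_Q_map_iff_quasiIso A p).2 hp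
  have hv' : ∀ i, IsIso (DerivedCategory.Q.map (v i)) := fun i =>
    (DerivedCategory.isIso_Q_map_iff_quasiIso A (v i)).2 (hv i)
  have e1 : ∀ i, DerivedCategory.Q.map (fil i).arrow ≫ DerivedCategory.Q.map p ≫ eI.hom =
      (inv (DerivedCategory.Q.map (v i)) ≫ (eX i).hom) ≫ a i := by
    intro i
    rw [← cancel_epi (DerivedCategory.Q.map (v i))]
    simp only [Category.assoc, IsIso.hom_inv_id_assoc]
    rw [← Functor.map_comp_assoc, ← Functor.map_comp_assoc, Category.assoc, h1 i, hα i]
    simp only [Category.assoc, Iso.inv_hom_id, Category.comp_id]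
  have e2 : ∀ i, DerivedCategory.Q.map ((fil (i + 1)).ofLE (fil i)
      (anti (le_of_lt (Int.lt_succ_self i)))) ≫ inv (DerivedCategory.Q.map (v i)) ≫ (eX i).hom =
      (inv (DerivedCategory.Q.map (v (i + 1))) ≫ (eX (i + 1)).hom) ≫ t i := by
    intro i
    rw [← cancel_epi (DerivedCategory.Q.map (v (i + 1)))]
    simp only [Category.assoc, IsIso.hom_inv_id_assoc]
    rw [← Functor.map_comp_assoc, h2 i, Functor.map_comp, Category.assoc,
      IsIso.hom_inv_id_assoc, hτ i]
    simp only [Category.assoc, Iso.inv_hom_id, Category.comp_id]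
  exact ⟨⟨K, fil, anti⟩, asIso (DerivedCategory.Q.map p) ≪≫ eI,
    fun i => (asIso (DerivedCategory.Q.map (v i))).symm ≪≫ eX i, fun i => e1 i, fun i => e2 i⟩

end Groth.Agent.S6534
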