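import Groth.Statements.S9701
import Groth.Agent.Lib.Helper41.IntegralNhd
import Groth.Agent.Lib.Helper41.GlueSup
import Mathlib.AlgebraicGeometry.ValuativeCriterion

set_option autoImplicit false
universe u
open CategoryTheory CategoryTheory.Limits AlgebraicGeometry
open Mor

namespace Groth.Agent.S9701

open Groth.Agent.Lib.Helper41 TopologicalSpace

/-- Let p : X ⟶ S and q : Y ⟶ S with q proper, let x be a point of X whose local ring is a valuation
ring, U ⊆ X an open with x in the closure of U, and f : U ⟶ Y a morphism over S. Assume that X is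
Noetherian, or else that X is reduced and has only finitely many irreducible components. Then there
are an open U' of X containing U and x and a morphism f' : U' ⟶ Y over S extending f. -/
theorem result {X Y S : Scheme.{u}} (p : X ⟶ S) (q : Y ⟶ S)
    [IsProper q] (x : X) (U : X.Opens) (f : (U : Scheme.{u}) ⟶ Y) (hf : f ≫ q = U.ι ≫ p)
    (hx : x ∈ closure (U : Set ↥X))
    (hX : (IsReduced X ∧ (irreducibleComponents ↥X).Finite) ∨ IsNoetherian X)
    (hdom : IsDomain (X.presheaf.stalk x)) (hval : @ValuationRing (X.presheaf.stalk x) _ hdom) :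
    ∃ (U' : X.Opens) (hUU' : U ≤ U'), x ∈ U' ∧
      ∃ f' : (U' : Scheme.{u}) ⟶ Y, f' ≫ q = U'.ι ≫ p ∧ X.homOfLE hUU' ≫ f' = f := by
  haveI := hdom
  obtain ⟨W, hxW, hW⟩ : ∃ W : X.Opens, x ∈ W ∧ IsIntegral (W : Scheme.{u}) := by
    rcases hX with ⟨hred, hfin⟩ | hN
    · exact exists_isIntegral_nhd_of_finite_irreducibleComponents hfin x
    · obtain ⟨W, hxW, -, hW, -, -⟩ := exists_isIntegral_nhd_of_isDomain_stalk x
      exact ⟨W, hxW, hW⟩
  haveI := hW
  haveI : X.IsGermInjectiveAt x := isGermInjectiveAt_of_isIntegral_nhd x W hxW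
  let A : Type u := ↑(X.presheaf.stalk x)
  let K : Type u := FractionRing A
  let ξ : X := X.fromSpecStalk x (⟨⊥, Ideal.isPrime_bot⟩ : PrimeSpectrum A)
  have hξ : ∀ w ∈ W, ξ ⤳ w := fromSpecStalk_bot_specializes_of_isIntegral x W hxW
  have hξU : ξ ∈ U := by
    obtain ⟨w, hwW, hwU⟩ := mem_closure_iff.1 hx W W.isOpen hxW
    exact (hξ w hwW).mem_open U.isOpen hwU
  let ιK : Spec (CommRingCat.of K) ⟶ Spec (X.presheaf.stalk x) :=
    Spec.map (CommRingCat.ofHom (algebraMap A K))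
  have hιK : ∀ t : ↥(Spec (CommRingCat.of K)), (ιK ≫ X.fromSpecStalk x) t = ξ := by
    intro t
    rw [Scheme.Hom.comp_apply]
    congr 1
    apply PrimeSpectrum.ext
    change Ideal.comap (algebraMap A K) t.asIdeal = ⊥
    have ht : t.asIdeal = ⊥ := Ideal.eq_bot_of_prime t.asIdeal
    rw [ht, ← RingHom.ker_eq_comap_bot]
    exact (RingHom.injective_iff_ker_eq_bot _).1 (IsFractionRing.injective A K)
  have hrangeU : Set.range (ιK ≫ X.fromSpecStalk x) ⊆ Set.range U.ι := by
    rintro _ ⟨t, rfl⟩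
    rw [Scheme.Opens.range_ι, hιK t]
    exact hξU
  let a : Spec (CommRingCat.of K) ⟶ (U : Scheme.{u}) :=
    IsOpenImmersion.lift U.ι (ιK ≫ X.fromSpecStalk x) hrangeU
  have ha : a ≫ U.ι = ιK ≫ X.fromSpecStalk x := IsOpenImmersion.lift_fac _ _ _
  -- the valuative square
  let sq : ValuativeCommSq q :=
    { R := A
      K := K
      valuationRing := hval
      i₁ := a ≫ f
      i₂ := X.fromSpecStalk x ≫ p
      commSq := ⟨by
        rw [Category.assoc, hf, ← Category.assoc, ha, Category.assoc]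
        rfl⟩ }
  have hex : ValuativeCriterion.Existence q := by
    have h1 : UniversallyClosed q := inferInstance
    rw [UniversallyClosed.eq_valuativeCriterion] at h1
    exact h1.1
  obtain ⟨⟨l, hl1, hl2⟩⟩ := hex sq
  have hl1' : ιK ≫ l = a ≫ f := hl1
  have hl2' : l ≫ q = X.fromSpecStalk x ≫ p := hl2
  obtain ⟨V, hxV, v, hlv, hvq⟩ := spread_out_of_isGermInjective' p q l hl2'
  let V' : X.Opens := V ⊓ W
  let v' : (V' : Scheme.{u}) ⟶ Y := X.homOfLE (inf_le_left : V ⊓ W ≤ V) ≫ v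
  have hv'q : v' ≫ q = V'.ι ≫ p := by
    rw [Category.assoc, hvq, ← Category.assoc, X.homOfLE_ι]
  let T : X.Opens := U ⊓ V'
  have hξx : ξ ⤳ x := hξ x hxW
  have hξT : ξ ∈ T := ⟨hξU, hξx.mem_open V.isOpen hxV, hξx.mem_open W.isOpen hxW⟩
  have hrangeT : Set.range (ιK ≫ X.fromSpecStalk x) ⊆ Set.range T.ι := by
    rintro _ ⟨t, rfl⟩
    rw [Scheme.Opens.range_ι, hιK t]
    exact hξT
  let b : Spec (CommRingCat.of K) ⟶ (T : Scheme.{u}) :=
    IsOpenImmersion.lift T.ι (ιK ≫ X.fromSpecStalk x) hrangeT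
  have hb : b ≫ T.ι = ιK ≫ X.fromSpecStalk x := IsOpenImmersion.lift_fac _ _ _
  have hTW : T ≤ W := inf_le_right.trans inf_le_right
  haveI : IsReduced (T : Scheme.{u}) := isReduced_of_isOpenImmersion (X.homOfLE hTW)
  haveI : IsDominant b := by
    constructor
    intro t
    have hind : Topology.IsInducing (T.ι : ↥(T : Scheme.{u}) → X) :=
      T.ι.isOpenEmbedding.isEmbedding.isInducing
    let t₀ : ↥(Spec (CommRingCat.of K)) := (⟨⊥, Ideal.isPrime_bot⟩ : PrimeSpectrum K)
    have h1 : T.ι (b t₀) = ξ := by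
      rw [← Scheme.Hom.comp_apply, hb, hιK]
    have h2 : b t₀ ⤳ t := by
      rw [← hind.specializes_iff, h1]
      exact hξ _ (hTW t.2)
    have h3 : ({b t₀} : Set ↥(T : Scheme.{u})) ⊆ Set.range b :=
      Set.singleton_subset_iff.2 ⟨t₀, rfl⟩
    exact closure_mono h3 (specializes_iff_mem_closure.1 h2)
  have hcompat : X.homOfLE (inf_le_left : U ⊓ V' ≤ U) ≫ f =
      X.homOfLE (inf_le_right : U ⊓ V' ≤ V') ≫ v' := by
    refine ext_of_isDominant_of_isSeparated q ?_ b ?_
    · rw [Category.assoc, hf, ← Category.assoc, X.homOfLE_ι, Category.assoc, hv'q,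
        ← Category.assoc, X.homOfLE_ι]
    · have h1 : b ≫ X.homOfLE (inf_le_left : U ⊓ V' ≤ U) = a := by
        rw [← cancel_mono U.ι, Category.assoc, X.homOfLE_ι, hb, ha]
      have h2 : b ≫ X.homOfLE (inf_le_right : U ⊓ V' ≤ V') ≫
          X.homOfLE (inf_le_left : V ⊓ W ≤ V) = ιK ≫ V.fromSpecStalkOfMem x hxV := by
        rw [← cancel_mono V.ι, Category.assoc, Category.assoc, X.homOfLE_ι, X.homOfLE_ι, hb,
          Category.assoc, Scheme.Opens.fromSpecStalkOfMem_ι]
      rw [← Category.assoc, h1, ← hl1', hlv]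
      change _ = b ≫ X.homOfLE (inf_le_right : U ⊓ V' ≤ V') ≫
        X.homOfLE (inf_le_left : V ⊓ W ≤ V) ≫ v
      have h3 := congrArg (· ≫ v) h2
      simp only [Category.assoc] at h3
      exact h3.symm
  obtain ⟨k, hk1, hk2⟩ := exists_glue_sup U V' f v' hcompat
  refine ⟨U ⊔ V', le_sup_left, Or.inr ⟨hxV, hxW⟩, k, ?_, hk1⟩
  apply hom_ext_sup U V'
  · rw [← Category.assoc, hk1, hf, ← Category.assoc, X.homOfLE_ι]
  · rw [← Category.assoc, hk2, hv'q, ← Category.assoc, X.homOfLE_ι]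

end Groth.Agent.S9701
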