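import Groth.Statements.S6564
import Mathlib

set_option autoImplicit false
universe u
open CategoryTheory CategoryTheory.Limits AlgebraicGeometry
open Curves

namespace Groth.Agent.S6564

/-- Let X be proper over the field k of dimension at most 1. If X has a g^r_d (an invertible module L of
degree d with an ordered family of r + 1 global sections linearly independent over k), then X has a
g^s_d for every 0 ≤ s ≤ r. -/
theorem result (k : Type u) [Field k] (X : Scheme.{u}) [X.Over (Spec (CommRingCat.of k))] [IsProper (X ↘ (Spec (CommRingCat.of k)))] (hdim : topologicalKrullDim X ≤ 1)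
    (d r : ℕ) (L : X.Modules) (σ : Fin (r + 1) → LinSer.Sect X L) (hL : LinSer.IsLinSer k X L d r σ)
    (s : ℕ) (hs : s ≤ r) :
    ∃ (L' : X.Modules) (τ : Fin (s + 1) → LinSer.Sect X L'), LinSer.IsLinSer k X L' d s τ := by
  classical
  obtain ⟨hinv, hdeg, hli⟩ := hL
  have hle : s + 1 ≤ r + 1 := Nat.succ_le_succ hs
  refine ⟨L, fun i => σ (Fin.castLE hle i), hinv, hdeg, ?_⟩
  intro c hc
  let c' : Fin (r + 1) → k := fun j => if h : (j : ℕ) < s + 1 then c ⟨j, h⟩ else 0
  have hsum : (∑ j, (Coh.toGlobal (X ↘ Spec (CommRingCat.of k)) (c' j)) • σ j) = 0 := by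
    rw [← hc]
    have h1 : ∑ j ∈ (Finset.univ.map (Fin.castLEEmb hle)),
        (Coh.toGlobal (X ↘ Spec (CommRingCat.of k)) (c' j)) • σ j =
        ∑ j, (Coh.toGlobal (X ↘ Spec (CommRingCat.of k)) (c' j)) • σ j := by
      apply Finset.sum_subset (Finset.subset_univ _)
      intro j _ hj
      have hj' : ¬ (j : ℕ) < s + 1 := by
        intro h
        apply hj
        rw [Finset.mem_map]
        exact ⟨⟨j, h⟩, Finset.mem_univ _, by ext; simp⟩
      have : c' j = 0 := dif_neg hj'
      rw [this, map_zero, zero_smul]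
    rw [← h1, Finset.sum_map]
    apply Finset.sum_congr rfl
    intro i _
    have : c' (Fin.castLEEmb hle i) = c i := by
      have hi : ((Fin.castLEEmb hle i : Fin (r + 1)) : ℕ) < s + 1 := i.2
      change (if h : ((Fin.castLEEmb hle i : Fin (r + 1)) : ℕ) < s + 1 then c ⟨_, h⟩ else 0) = c i
      rw [dif_pos hi]
      congr 1
    rw [this]
    rfl
  have h0 := hli c' hsum
  funext i
  have := congrFun h0 (Fin.castLE hle i)
  have hi : ((Fin.castLE hle i : Fin (r + 1)) : ℕ) < s + 1 := i.2
  change (if h : ((Fin.castLE hle i : Fin (r + 1)) : ℕ) < s + 1 then c ⟨_, h⟩ else 0) = 0 at this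
  rw [dif_pos hi] at this
  exact this

end Groth.Agent.S6564
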