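import Groth.Statements.S6565
import Groth.Agent.Lib.Helper56.NodeAlg7
import Groth.Agent.Lib.Helper56.NodeAlg8
import Groth.Agent.Lib.Helper56.NodeAlg9
import Groth.Agent.Lib.Helper56.NodeAlg12
import Groth.Agent.Lib.Helper76.NodeD

set_option autoImplicit false
universe u
open Curves

namespace Groth.Agent.S6565

/-- (1) ⇔ (2): let k be a field and (A, m, κ) a Nagata local k-algebra. The following are equivalent:
(1) κ is separable over k (formally smooth, which for field extensions is separability, algebraic or
not) and the m-adic completion of A is isomorphic, compatibly with the maps from k, to κ[[u, v]]/(a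
u^2 + b uv + c v^2) for a nondegenerate quadratic form over κ (the algebraic characterization of a
node); (2) κ is separable over k in the same sense, and A is a reduced ring of Krull dimension one
whose δ-invariant equals 1 and which has exactly two geometric branches. (The published statement
also describes the maximal ideals of the integral closure of A; this row omits that assertion.) -/
theorem result (k : Type u) [Field k] (A : Type u) [CommRing A] [IsLocalRing A]
    [Algebra k A] (hA : CAlg.IsNagata A) :
    (Algebra.FormallySmooth k (IsLocalRing.ResidueField A) ∧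
      ∃ a b c : IsLocalRing.ResidueField A, 4 * a * c - b ^ 2 ≠ 0 ∧
        ∃ e : AdicCompletion (IsLocalRing.maximalIdeal A) A ≃+*
            (MvPowerSeries (Fin 2) (IsLocalRing.ResidueField A) ⧸ Ideal.span
              {(MvPowerSeries.C a * MvPowerSeries.X 0 ^ 2 + MvPowerSeries.C b * MvPowerSeries.X 0 * MvPowerSeries.X 1 +
                MvPowerSeries.C c * MvPowerSeries.X 1 ^ 2 : MvPowerSeries (Fin 2) (IsLocalRing.ResidueField A))}),
          ∀ t : k, e (algebraMap A _ (algebraMap k A t)) =
            Ideal.Quotient.mk _ (MvPowerSeries.C (algebraMap A (IsLocalRing.ResidueField A) (algebraMap k A t)))) ↔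
    (Algebra.FormallySmooth k (IsLocalRing.ResidueField A) ∧ IsReduced A ∧ ringKrullDim A = 1 ∧
      Curv2.deltaInv A = 1 ∧ Brnch.numGeomBranches A = 2) := by
  open Groth.Agent.Lib.Helper56.NodeAlg in
  haveI : IsNoetherianRing A := hA.1
  constructor
  · rintro ⟨hFS, a, b, c, habc, e, -⟩
    obtain ⟨hred, hfr, x, y, a', b', c', -, -, hspan, hdisc, hq⟩ :=
      Groth.Agent.Lib.Helper76.Node.algebraic_of_completion A a b c habc e
    obtain ⟨d⟩ := nonempty_of_alg hfr x y a' b' c' hspan hdisc hq
    haveI := hred
    exact ⟨hFS, hred, d.ringKrullDim_eq_one, d.deltaInv_eq_one, d.numGeomBranches_eq_two hA⟩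
  · rintro ⟨hFS, hred, hdim, hδ, hg⟩
    haveI := hred
    haveI := hFS
    obtain ⟨d⟩ := nonempty_of_delta A hA hdim hδ hg
    obtain ⟨hsp, hdisc, hq⟩ := d.alg
    obtain ⟨e, he⟩ := completion_of_algebraic_fs k A d.finrank_eq_two d.x d.y d.a d.b 1
      d.hx d.hy hsp hdisc hq
    refine ⟨hFS, IsLocalRing.residue A d.a, IsLocalRing.residue A d.b, IsLocalRing.residue A 1,
      ?_, e, he⟩
    intro h0
    apply hdisc
    rw [map_sub, map_mul, map_mul, map_pow, map_ofNat]
    exact h0

end Groth.Agent.S6565
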