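import Groth.Statements.S6573
import Groth.Agent.Lib.Helper56.NodeDef8
import Groth.Agent.Lib.Helper56.NodeDef5
import Groth.Agent.Lib.Helper56.NodeAlg6
import Groth.Agent.S7414

set_option autoImplicit false
universe u
open CategoryTheory CategoryTheory.Limits AlgebraicGeometry
open Curves

namespace Groth.Agent.S6573

/-- Let f : T → S be a morphism of schemes, t ∈ T with image s ∈ S. Assume that the local ring O_{S,s}
is Noetherian, that f is locally of finite type, that f is flat at the point t, and that t is a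
split node of the fibre T_s — here taken in the form: t is a closed point of T_s and the completion
of O_{T_s,t} is isomorphic, compatibly with κ(s), to κ(s)[[x,y]]/(xy). Then there are h in the
maximal ideal of the completion Â of O_{S,s} and an isomorphism of the completion of O_{T,t} with
Â[[x,y]]/(xy − h) compatible with the maps from O_{S,s} (hence an isomorphism of Â-algebras). -/
theorem result {T S : Scheme.{u}} (f : T ⟶ S) [LocallyOfFiniteType f] (t : T)
    [IsNoetherianRing (S.presheaf.stalk (f t))] (hfl : (f.stalkMap t).hom.Flat)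
    (ht : letI : (f.fiber (f t)).Over (Spec (S.residueField (f t))) := ⟨f.fiberToSpecResidueField (f t)⟩
      letI := Curv2.stalkAlgebra (S.residueField (f t)) (f.fiber (f t)) (f.asFiber t)
      IsClosed ({f.asFiber t} : Set (f.fiber (f t))) ∧
        Curv2.IsOrdDoublePt (S.residueField (f t)) ((f.fiber (f t)).presheaf.stalk (f.asFiber t))) :
    ∃ h ∈ IsLocalRing.maximalIdeal (Curv2.cpl (S.presheaf.stalk (f t))),
      ∃ e : Curv2.cpl (T.presheaf.stalk t) ≃+*
          (MvPowerSeries (Fin 2) (Curv2.cpl (S.presheaf.stalk (f t))) ⧸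
            Ideal.span {(MvPowerSeries.X 0 * MvPowerSeries.X 1 - MvPowerSeries.C h : MvPowerSeries (Fin 2) (Curv2.cpl (S.presheaf.stalk (f t))))}),
        ∀ a : S.presheaf.stalk (f t),
          e (algebraMap (T.presheaf.stalk t) (Curv2.cpl (T.presheaf.stalk t)) ((f.stalkMap t).hom a)) =
            Ideal.Quotient.mk _ (MvPowerSeries.C (algebraMap (S.presheaf.stalk (f t)) (Curv2.cpl (S.presheaf.stalk (f t))) a)) := by
  classical
  obtain ⟨-, eg, heg⟩ := ht
  letI alg : Algebra (S.presheaf.stalk (f t)) (T.presheaf.stalk t) := (f.stalkMap t).hom.toAlgebra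
  haveI : IsLocalHom (algebraMap (S.presheaf.stalk (f t)) (T.presheaf.stalk t)) :=
    (inferInstance : IsLocalHom (f.stalkMap t).hom)
  haveI : Module.Flat (S.presheaf.stalk (f t)) (T.presheaf.stalk t) := hfl
  haveI : Algebra.EssFiniteType (S.presheaf.stalk (f t)) (T.presheaf.stalk t) :=
    LocallyOfFiniteType.stalkMap f t
  haveI : IsNoetherianRing (T.presheaf.stalk t) :=
    Algebra.EssFiniteType.isNoetherianRing (S.presheaf.stalk (f t)) (T.presheaf.stalk t)
  haveI : Nontrivial ((T.presheaf.stalk t) ⧸ (IsLocalRing.maximalIdeal (S.presheaf.stalk (f t))).map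
      (algebraMap (S.presheaf.stalk (f t)) (T.presheaf.stalk t))) :=
    (inferInstance : Nontrivial (Groth.Agent.Lib.Helper67.FiberStalk.Q f t))
  let σ := Groth.Agent.Lib.Helper67.FiberStalk.fiberStalkEquiv f t
  have hm : IsLocalRing.maximalIdeal (Groth.Agent.Lib.Helper67.FiberStalk.Q f t) =
      (IsLocalRing.maximalIdeal ((f.fiber (f t)).presheaf.stalk (f.asFiber t))).comap σ.symm := by
    ext z
    rw [Ideal.mem_comap]
    exact (Groth.Agent.Lib.Helper56.NodeAlg.mem_maximalIdeal_equiv σ.symm z).symm
  let E₀ := Groth.Agent.S7414.adicEquiv _ _ σ.symm hm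
  have hσ : ∀ r : S.presheaf.stalk (f t), σ.symm (Ideal.Quotient.mk _ ((f.stalkMap t).hom r)) =
      ((f.fiber (f t)).presheaf.germ ⊤ (f.asFiber t) trivial).hom
        ((Coh.toGlobal (f.fiberToSpecResidueField (f t))) (IsLocalRing.residue _ r)) := by
    intro r
    rw [RingEquiv.symm_apply_eq]
    have h1 := Groth.Agent.Lib.Helper56.NodeDef.stalkEquiv_algebraMap f t (f.asFiber t)
      (f.fiberι_asFiber t) (IsLocalRing.residue _ r)
    have h2 := congrArg (fun φ => φ.hom r) (Groth.Agent.Lib.Helper67.FiberStalk.residue_ψ f t)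
    exact (h2.symm.trans h1.symm).symm ▸ rfl
  obtain ⟨h, hh, e, he⟩ := Groth.Agent.Lib.Helper56.NodeDef.concrete_split
    (R := S.presheaf.stalk (f t)) (C := T.presheaf.stalk t)
    (E₀.trans eg)
    (by
      intro r
      have h1 : E₀ (AdicCompletion.of _ _ (Ideal.Quotient.mk _ ((f.stalkMap t).hom r))) =
          AdicCompletion.of _ _ (σ.symm (Ideal.Quotient.mk _ ((f.stalkMap t).hom r))) :=
        Groth.Agent.S7414.adicEquiv_of _ _ σ.symm hm _
      show eg (E₀ (AdicCompletion.of _ _ (Ideal.Quotient.mk _ ((f.stalkMap t).hom r)))) = _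
      rw [h1, hσ]
      exact heg (IsLocalRing.residue _ r))
  refine ⟨h, hh, e, ?_⟩
  intro r
  exact he r

end Groth.Agent.S6573
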