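import Groth.Statements.S6580
import Mathlib.Tactic.NoncommRing
import Mathlib.Tactic.Abel

set_option autoImplicit false
universe v u
open CategoryTheory CategoryTheory.Limits
open CohDer

namespace Groth.Agent.S6580

lemma ring_idem {R : Type*} [Ring R] (x : R) (hd : (x * x - x) * (x * x - x) = 0) :
    (x + (x * x - x) - (x * (x * x - x) + x * (x * x - x))) *
      (x + (x * x - x) - (x * (x * x - x) + x * (x * x - x))) =
      x + (x * x - x) - (x * (x * x - x) + x * (x * x - x)) := by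
  have key : (x + (x * x - x) - (x * (x * x - x) + x * (x * x - x))) *
      (x + (x * x - x) - (x * (x * x - x) + x * (x * x - x))) -
      (x + (x * x - x) - (x * (x * x - x) + x * (x * x - x))) =
      ((x * x - x) * (x * x - x)) * (4 * (x * x) - 4 * x - 3) := by
    noncomm_ring
  rw [hd, zero_mul, sub_eq_zero] at key
  exact key

open CategoryTheory.Pretriangulated in
/-- Let (X, Y, Z, f, g, h) be a distinguished triangle of a pretriangulated category, and let a : X ⟶ X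
and c : Z ⟶ Z be idempotents with h ≫ a⟦1⟧ = c ≫ h. Then there is an idempotent b : Y ⟶ Y such that
(a, b, c) is an endomorphism of the triangle. -/
theorem result {D : Type u} [Category.{v} D] [Preadditive D] [HasZeroObject D] [HasShift D ℤ]
    [∀ n : ℤ, (shiftFunctor D n).Additive] [Pretriangulated D]
    (T : Triangle D) (hT : T ∈ distinguishedTriangles) (a : T.obj₁ ⟶ T.obj₁) (c : T.obj₃ ⟶ T.obj₃)
    (ha : a ≫ a = a) (hc : c ≫ c = c) (comm : T.mor₃ ≫ (shiftFunctor D (1 : ℤ)).map a = c ≫ T.mor₃) :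
    ∃ b : T.obj₂ ⟶ T.obj₂, b ≫ b = b ∧ T.mor₁ ≫ b = a ≫ T.mor₁ ∧ T.mor₂ ≫ c = b ≫ T.mor₂ := by
  obtain ⟨b₀, h₁, h₂⟩ := complete_distinguished_triangle_morphism₂ T T hT hT a c comm
  have hd₁ : T.mor₁ ≫ (b₀ ≫ b₀ - b₀) = 0 := by
    rw [Preadditive.comp_sub, reassoc_of% h₁, h₁, reassoc_of% ha, sub_self]
  have hd₂ : (b₀ ≫ b₀ - b₀) ≫ T.mor₂ = 0 := by
    rw [Preadditive.sub_comp, Category.assoc, ← h₂, ← reassoc_of% h₂, hc, sub_self]
  have hdd : (b₀ ≫ b₀ - b₀) ≫ (b₀ ≫ b₀ - b₀) = 0 := by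
    obtain ⟨k, hk⟩ := Triangle.yoneda_exact₂ T hT _ hd₁
    obtain ⟨l, hl⟩ := Triangle.coyoneda_exact₂ T hT _ hd₂
    nth_rw 1 [hl]
    rw [hk, Category.assoc, comp_distTriang_mor_zero₁₂_assoc _ hT, zero_comp, comp_zero]
  have hidem := ring_idem (R := End T.obj₂) b₀ hdd
  refine ⟨b₀ + (b₀ ≫ b₀ - b₀) - ((b₀ ≫ b₀ - b₀) ≫ b₀ + (b₀ ≫ b₀ - b₀) ≫ b₀), hidem, ?_, ?_⟩
  · rw [Preadditive.comp_sub, Preadditive.comp_add, hd₁, Preadditive.comp_add, reassoc_of% hd₁,
      zero_comp, add_zero, add_zero, sub_zero, h₁]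
  · have hd₃ : (b₀ ≫ b₀ - b₀) ≫ b₀ ≫ T.mor₂ = 0 := by
      rw [← h₂, reassoc_of% hd₂, zero_comp]
    rw [Preadditive.sub_comp, Preadditive.add_comp, hd₂, Preadditive.add_comp, Category.assoc, hd₃,
      add_zero, add_zero, sub_zero, h₂]

end Groth.Agent.S6580
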