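import Groth.Statements.S6585

set_option autoImplicit false
universe v u
open CategoryTheory CategoryTheory.Limits
open CohDer

namespace Groth.Agent.S6585

open CategoryTheory.Pretriangulated

section
variable {D : Type u} [Category.{v} D] [Preadditive D] [HasZeroObject D] [HasShift D ℤ]
    [∀ n : ℤ, (shiftFunctor D n).Additive] [Pretriangulated D]

/-- the left orthogonal of all shifts of `K` -/
def orth (K : D) : ObjectProperty D := fun X => ∀ (i : ℤ) (f : X ⟶ (shiftFunctor D i).obj K), f = 0

omit [HasZeroObject D] [Pretriangulated D] in
lemma orth_shift (K : D) (a : ℤ) (X : D) (hX : orth K X) : orth K ((shiftFunctor D a).obj X) := by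
  intro i f
  let α : X ≅ (shiftFunctor D (-a)).obj ((shiftFunctor D a).obj X) :=
    ((shiftFunctorCompIsoId D a (-a) (by omega)).symm.app X)
  let β : (shiftFunctor D (-a)).obj ((shiftFunctor D i).obj K) ≅ (shiftFunctor D (i + -a)).obj K :=
    ((shiftFunctorAdd D i (-a)).app K).symm
  have h := hX (i + -a) (α.hom ≫ (shiftFunctor D (-a)).map f ≫ β.hom)
  have h' : (shiftFunctor D (-a)).map f = 0 := by
    have := congr(α.inv ≫ $h ≫ β.inv)
    simpa using this
  exact (shiftFunctor D (-a)).map_injective (by rw [h', Functor.map_zero])

lemma orth_retracts (K : D) : (orth K).IsStableUnderRetracts where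
  of_retract {X Y} r hY i f := by
    have h := hY i (r.r ≫ f)
    have := congr(r.i ≫ $h)
    simpa using this

lemma orth_iso (K : D) : (orth K).IsClosedUnderIsomorphisms where
  of_iso {X Y} e hX i f := by
    have h := hX i (e.hom ≫ f)
    have := congr(e.inv ≫ $h)
    simpa using this

lemma orth_triangulated (K : D) : (orth K).IsTriangulated :=
  haveI := orth_iso K
  { exists_zero := ⟨_, isZero_zero D, fun i f => (isZero_zero D).eq_of_src _ _⟩
    toIsStableUnderShift := ⟨fun a => ⟨fun X hX => orth_shift K a X hX⟩⟩
    toIsTriangulatedClosed₂ := ObjectProperty.IsTriangulatedClosed₂.mk' (fun T hT h₁ h₃ i f => by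
    obtain ⟨g, rfl⟩ := Triangle.yoneda_exact₂ T hT f (h₁ i _)
    rw [h₃ i g, comp_zero]) }

end

/-- Let D be a triangulated category and E, K objects of D. Then Hom(E, K⟦i⟧) = 0 for all integers i if
and only if Hom(E', K) = 0 for every E' in ⟨E⟩, the smallest strictly full saturated triangulated
subcategory of D containing E (the objects obtained from E by shifts, finite direct sums, direct
summands and extensions). -/
theorem result {D : Type u} [Category.{v} D] [Preadditive D] [HasZeroObject D] [HasShift D ℤ]
    [∀ n : ℤ, (shiftFunctor D n).Additive] [Pretriangulated D] [IsTriangulated D]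
    (E K : D) :
    (∀ (i : ℤ) (f : E ⟶ (shiftFunctor D i).obj K), f = 0) ↔
      ∀ (E' : D), (ObjectProperty.singleton E).triangEnvelope E' → ∀ f : E' ⟶ K, f = 0 := by
  constructor
  · intro h E' hE' f
    haveI := orth_retracts K
    haveI := orth_triangulated K
    have hle : (ObjectProperty.singleton E).triangEnvelope ≤ orth K := by
      rw [ObjectProperty.triangEnvelope_le_iff]
      intro X hX
      rw [ObjectProperty.singleton_iff] at hX
      subst hX
      exact h
    have h0 := hle E' hE' 0 (f ≫ (shiftFunctorZero D ℤ).inv.app K)
    have := congr($h0 ≫ (shiftFunctorZero D ℤ).hom.app K)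
    simpa using this
  · intro h i f
    have hE : (ObjectProperty.singleton E).triangEnvelope E :=
      ObjectProperty.le_triangEnvelope _ _ (by simp)
    have hE' : (ObjectProperty.singleton E).triangEnvelope ((shiftFunctor D (-i)).obj E) :=
      (ObjectProperty.singleton E).triangEnvelope.le_shift (-i) _ hE
    have h0 := h _ hE' ((shiftFunctor D (-i)).map f ≫ (shiftFunctorCompIsoId D i (-i) (by omega)).hom.app K)
    have h' : (shiftFunctor D (-i)).map f = 0 := by
      have := congr($h0 ≫ (shiftFunctorCompIsoId D i (-i) (by omega)).inv.app K)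
      simpa using this
    exact (shiftFunctor D (-i)).map_injective (by rw [h', Functor.map_zero])

end Groth.Agent.S6585
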