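import Groth.Statements.S6586

set_option autoImplicit false
universe v u
open CategoryTheory CategoryTheory.Limits
open CohDer

namespace Groth.Agent.S6586

/-- objects all of whose maps into every shift of `K` vanish -/
def leftOrth {D : Type u} [Category.{v} D] [Preadditive D] [HasShift D ℤ] (K : D) :
    ObjectProperty D :=
  fun X => ∀ (n : ℤ) (f : X ⟶ (shiftFunctor D n).obj K), f = 0

section

variable {D : Type u} [Category.{v} D] [Preadditive D] [HasZeroObject D] [HasShift D ℤ]
    [∀ n : ℤ, (shiftFunctor D n).Additive] [Pretriangulated D] (K : D)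

instance : (leftOrth K).IsStableUnderRetracts where
  of_retract := by
    intro X Y r hY n f
    have : f = r.i ≫ (r.r ≫ f) := by simp
    rw [this, hY n (r.r ≫ f), comp_zero]

instance : (leftOrth K).ContainsZero where
  exists_zero := by
    obtain ⟨Z, hZ⟩ := HasZeroObject.zero (C := D)
    exact ⟨Z, hZ, fun _ _ => hZ.eq_of_src _ _⟩

instance : (leftOrth K).IsStableUnderShift ℤ where
  isStableUnderShiftBy a := ⟨by
    intro X hX n f
    -- f : X⟦a⟧ ⟶ K⟦n⟧
    have h1 : (shiftFunctor D (-a)).map f = 0 := by
      have hg := hX (n + (-a)) ((shiftShiftNeg X a).inv ≫ (shiftFunctor D (-a)).map f ≫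
        (shiftFunctorAdd' D n (-a) (n + (-a)) rfl).inv.app K)
      have h2 : (shiftShiftNeg X a).hom ≫ ((shiftShiftNeg X a).inv ≫
          (shiftFunctor D (-a)).map f ≫ (shiftFunctorAdd' D n (-a) (n + (-a)) rfl).inv.app K) ≫
          (shiftFunctorAdd' D n (-a) (n + (-a)) rfl).hom.app K = (shiftFunctor D (-a)).map f := by
        simp only [Category.assoc, Iso.inv_hom_id_app, Iso.hom_inv_id_assoc]
        exact Category.comp_id _
      rw [← h2, hg]
      simp
    exact (shiftFunctor D (-a)).map_injective (by rw [h1, Functor.map_zero])⟩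

instance : (leftOrth K).IsTriangulatedClosed₂ := by
  apply ObjectProperty.IsTriangulatedClosed₂.mk'
  intro T hT h1 h3 n f
  obtain ⟨g, hg⟩ := Pretriangulated.Triangle.yoneda_exact₂ T hT f (h1 n _)
  rw [hg, h3 n g, comp_zero]

instance : (leftOrth K).IsTriangulated where

end

/-- Fix a triangulated category D together with an object E in it. Suppose E classically generates D,
i.e. ⟨E⟩ = D; then E is a generator of D: an object K with Hom(E, K⟦n⟧) = 0 for all n is zero. -/
theorem result {D : Type u} [Category.{v} D] [Preadditive D] [HasZeroObject D] [HasShift D ℤ]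
    [∀ n : ℤ, (shiftFunctor D n).Additive] [Pretriangulated D] [IsTriangulated D]
    (E : D) (hE : (ObjectProperty.singleton E).IsClassicalTriangulatedGenerator) :
    CohDer.Generates (fun _ : PUnit.{1} => E) := by
  intro K hK
  have h1 : ObjectProperty.singleton E ≤ leftOrth K := by
    rw [ObjectProperty.singleton_le_iff]
    intro n f
    exact hK PUnit.unit n f
  have h2 : (ObjectProperty.singleton E).triangEnvelope ≤ leftOrth K :=
    (ObjectProperty.triangEnvelope_le_iff _).mpr h1
  rw [ObjectProperty.isClassicalTriangulatedGenerator_iff] at hE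
  rw [hE] at h2
  have hKK : leftOrth K K := h2 K trivial
  rw [IsZero.iff_id_eq_zero]
  have := hKK 0 ((shiftFunctorZero D ℤ).inv.app K)
  calc 𝟙 K = (shiftFunctorZero D ℤ).inv.app K ≫ (shiftFunctorZero D ℤ).hom.app K := by simp
    _ = 0 := by rw [this, zero_comp]

end Groth.Agent.S6586
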