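import Groth.Statements.S6593
-- import your own Groth.Agent.* helpers here

set_option autoImplicit false
universe w v u
open CategoryTheory CategoryTheory.Limits
open CohDer

namespace Groth.Agent.S6593

open CategoryTheory.Pretriangulated in
set_option backward.defeqAttrib.useBackward true in
set_option backward.isDefEq.respectTransparency false in
theorem aux {D : Type u} [Category.{v} D] [Preadditive D] [HasZeroObject D] [HasShift D ℤ]
    [∀ n : ℤ, (shiftFunctor D n).Additive] [Pretriangulated D]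
    {J : Type w} (T : J → Triangle D) (hT : ∀ j, T j ∈ distinguishedTriangles)
    [HasCoproduct (fun j => (T j).obj₁)] [HasCoproduct (fun j => (T j).obj₂)] [HasCoproduct (fun j => (T j).obj₃)] :
    Triangle.mk (Limits.Sigma.map (fun j => (T j).mor₁)) (Limits.Sigma.map (fun j => (T j).mor₂))
      (Sigma.desc (fun j => (T j).mor₃ ≫ (shiftFunctor D (1 : ℤ)).map (Sigma.ι (fun j => (T j).obj₁) j))) ∈ distinguishedTriangles := by
  classical
  -- the shifted cocones are colimit cocones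
  have hc₁ : IsColimit ((shiftFunctor D (1 : ℤ)).mapCocone (Cofan.mk _ (Sigma.ι (fun j => (T j).obj₁)))) :=
    isColimitOfPreserves _ (coproductIsCoproduct _)
  have hc₂ : IsColimit ((shiftFunctor D (1 : ℤ)).mapCocone (Cofan.mk _ (Sigma.ι (fun j => (T j).obj₂)))) :=
    isColimitOfPreserves _ (coproductIsCoproduct _)
  -- descent from shifted coproducts
  have desc₁ : ∀ {A : D} (b : ∀ j, ((T j).obj₁)⟦(1 : ℤ)⟧ ⟶ A),
      ∃ β : (∐ fun j => (T j).obj₁)⟦(1 : ℤ)⟧ ⟶ A,
        ∀ j, (shiftFunctor D (1 : ℤ)).map (Sigma.ι (fun j => (T j).obj₁) j) ≫ β = b j := by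
    intro A b
    refine ⟨hc₁.desc (Cocone.mk A (Discrete.natTrans (fun j => b j.as))), fun j => ?_⟩
    exact hc₁.fac _ ⟨j⟩
  have desc₂ : ∀ {A : D} (b : ∀ j, ((T j).obj₂)⟦(1 : ℤ)⟧ ⟶ A),
      ∃ β : (∐ fun j => (T j).obj₂)⟦(1 : ℤ)⟧ ⟶ A,
        ∀ j, (shiftFunctor D (1 : ℤ)).map (Sigma.ι (fun j => (T j).obj₂) j) ≫ β = b j := by
    intro A b
    refine ⟨hc₂.desc (Cocone.mk A (Discrete.natTrans (fun j => b j.as))), fun j => ?_⟩
    exact hc₂.fac _ ⟨j⟩
  have ext₁ : ∀ {A : D} (a b : (∐ fun j => (T j).obj₁)⟦(1 : ℤ)⟧ ⟶ A),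
      (∀ j, (shiftFunctor D (1 : ℤ)).map (Sigma.ι (fun j => (T j).obj₁) j) ≫ a =
        (shiftFunctor D (1 : ℤ)).map (Sigma.ι (fun j => (T j).obj₁) j) ≫ b) → a = b := by
    intro A a b h
    exact hc₁.hom_ext (fun j => h j.as)
  set f₁ := Limits.Sigma.map (fun j => (T j).mor₁) with hf₁
  set g₁ := Limits.Sigma.map (fun j => (T j).mor₂) with hg₁
  set h₁ := (Sigma.desc (fun j => (T j).mor₃ ≫ (shiftFunctor D (1 : ℤ)).map (Sigma.ι (fun j => (T j).obj₁) j))) with hh₁
  obtain ⟨Z, f₂, f₃, hT'⟩ := distinguished_cocone_triangle f₁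
  let T' := Triangle.mk f₁ f₂ f₃
  change T' ∈ distTriang D at hT'
  let φ : ∀ j, T j ⟶ T' := fun j => completeDistinguishedTriangleMorphism _ _
    (hT j) hT' (Sigma.ι (fun j => (T j).obj₁) j) (Sigma.ι (fun j => (T j).obj₂) j) (Sigma.ι_map (fun j => (T j).mor₁) j).symm
  let ψ : (∐ fun j => (T j).obj₃) ⟶ Z := Sigma.desc (fun j => (φ j).hom₃)
  have ιψ : ∀ j, Sigma.ι (fun j => (T j).obj₃) j ≫ ψ = (φ j).hom₃ := fun j => Sigma.ι_desc _ _
  have c2 : g₁ ≫ ψ = f₂ := by
    apply Sigma.hom_ext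
    intro j
    have := (φ j).comm₂
    rw [← Category.assoc, Sigma.ι_map, Category.assoc, ιψ]
    exact this
  have c3 : h₁ = ψ ≫ f₃ := by
    apply Sigma.hom_ext
    intro j
    have := (φ j).comm₃
    rw [Sigma.ι_desc, ← Category.assoc, ιψ]
    exact this
  suffices hψ : IsIso ψ by
    refine isomorphic_distinguished _ hT' _ ?_
    exact Triangle.isoMk _ _ (Iso.refl _) (Iso.refl _) (@asIso _ _ _ _ ψ hψ)
      (by dsimp [T']; rw [Category.comp_id, Category.id_comp])
      (by dsimp [T']; rw [Category.id_comp, c2])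
      (by dsimp [T']; rw [CategoryTheory.Functor.map_id, Category.comp_id, c3])
  refine isIso_of_coyoneda_map_bijective _ (fun A => ⟨?_, ?_⟩)
  · suffices Epi ψ by
      intro a₁ a₂ ha
      simpa only [cancel_epi] using ha
    rw [Preadditive.epi_iff_cancel_zero]
    intro A a ha
    have ha' : T'.mor₂ ≫ a = 0 := by
      change f₂ ≫ a = 0
      rw [← c2, Category.assoc, ha, comp_zero]
    obtain ⟨(b : (shiftFunctor D (1 : ℤ)).obj (∐ fun j => (T j).obj₁) ⟶ A), (hb : a = f₃ ≫ b)⟩ :=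
      T'.yoneda_exact₃ hT' a ha'
    have hb' : ∀ j, (T j).mor₃ ≫ ((shiftFunctor D (1 : ℤ)).map (Sigma.ι (fun j => (T j).obj₁) j) ≫ b) = 0 := by
      intro j
      have e1 : Sigma.ι _ j ≫ ψ ≫ a = 0 := by rw [ha, comp_zero]
      have e2 := ιψ j
      rw [← Category.assoc, e2, hb] at e1
      have e3 : (T j).mor₃ ≫ (shiftFunctor D (1 : ℤ)).map (Sigma.ι (fun j => (T j).obj₁) j) =
          (φ j).hom₃ ≫ f₃ := (φ j).comm₃
      rw [← Category.assoc, ← e3, Category.assoc] at e1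
      exact e1
    have hb'' := fun j => Triangle.yoneda_exact₂ _ (rot_of_distTriang _ (rot_of_distTriang _ (hT j))) _ (hb' j)
    choose β' hβ' using hb''
    obtain ⟨β, hβ⟩ := desc₂ (fun j => - β' j)
    have hbb : b = (shiftFunctor D (1 : ℤ)).map f₁ ≫ β := by
      apply ext₁
      intro j
      rw [hβ' j, ← Category.assoc, ← Functor.map_comp]
      have : Sigma.ι (fun j => (T j).obj₁) j ≫ f₁ = (T j).mor₁ ≫ Sigma.ι (fun j => (T j).obj₂) j := by
        simp [f₁, Sigma.ι_map]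
      rw [this, Functor.map_comp, Category.assoc, hβ]
      simp
    rw [hb, hbb]
    have := comp_distTriang_mor_zero₃₁ _ hT'
    rw [← Category.assoc]
    change (f₃ ≫ (shiftFunctor D (1 : ℤ)).map f₁) ≫ β = 0
    change f₃ ≫ (shiftFunctor D (1 : ℤ)).map f₁ = 0 at this
    rw [this, zero_comp]
  · intro a
    dsimp only
    have z : T'.mor₁ ≫ (g₁ ≫ a) = 0 := by
      change f₁ ≫ g₁ ≫ a = 0
      rw [← Category.assoc]
      have : f₁ ≫ g₁ = 0 := by
        apply Sigma.hom_ext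
        intro j
        rw [← Category.assoc, Sigma.ι_map, Category.assoc, Sigma.ι_map, ← Category.assoc,
          comp_distTriang_mor_zero₁₂ _ (hT j), zero_comp, comp_zero]
      rw [this, zero_comp]
    obtain ⟨(a' : Z ⟶ A), (ha' : g₁ ≫ a = f₂ ≫ a')⟩ := T'.yoneda_exact₂ hT' (g₁ ≫ a) z
    have ha'' := fun j => (T j).yoneda_exact₃ (hT j) (Sigma.ι (fun j => (T j).obj₃) j ≫ (a - ψ ≫ a')) (by
      have : g₁ ≫ (a - ψ ≫ a') = 0 := by
        rw [Preadditive.comp_sub, ← Category.assoc, c2, ha']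
        exact sub_self _
      have e : (T j).mor₂ ≫ Sigma.ι (fun j => (T j).obj₃) j = Sigma.ι (fun j => (T j).obj₂) j ≫ g₁ := by
        simp [g₁, Sigma.ι_map]
      rw [← Category.assoc, e, Category.assoc, this, comp_zero])
    choose b' hb' using ha''
    obtain ⟨b, hb⟩ := desc₁ b'
    have key : a - ψ ≫ a' = h₁ ≫ b := by
      apply Sigma.hom_ext
      intro j
      rw [hb' j]
      simp [h₁, hb]
    refine ⟨a' + f₃ ≫ b, ?_⟩
    rw [Preadditive.comp_add, ← Category.assoc, ← c3, ← key]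
    abel

open CategoryTheory.Pretriangulated in
/-- Let D be a pretriangulated category and (X_i → Y_i → Z_i → X_i⟦1⟧)_{i ∈ I} a family of distinguished
triangles. If the direct sums ⨁ X_i, ⨁ Y_i, ⨁ Z_i exist, then ⨁ X_i → ⨁ Y_i → ⨁ Z_i → (⨁ X_i)⟦1⟧ is
a distinguished triangle (the last map is induced by the composites Z_i → X_i⟦1⟧ → (⨁ X_i)⟦1⟧). -/
theorem result {D : Type u} [Category.{v} D] [Preadditive D] [HasZeroObject D] [HasShift D ℤ]
    [∀ n : ℤ, (shiftFunctor D n).Additive] [Pretriangulated D]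
    {J : Type w} (T : J → Triangle D) (hT : ∀ j, T j ∈ distinguishedTriangles)
    [HasCoproduct (fun j => (T j).obj₁)] [HasCoproduct (fun j => (T j).obj₂)] [HasCoproduct (fun j => (T j).obj₃)] :
    Triangle.mk (Limits.Sigma.map (fun j => (T j).mor₁)) (Limits.Sigma.map (fun j => (T j).mor₂))
      (Sigma.desc (fun j => (T j).mor₃ ≫ (shiftFunctor D (1 : ℤ)).map (Sigma.ι (fun j => (T j).obj₁) j))) ∈ distinguishedTriangles := by
  exact aux T hT

end Groth.Agent.S6593
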