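import Groth.Statements.S6594
-- import your own Groth.Agent.* helpers here

set_option autoImplicit false
universe v u
open CategoryTheory CategoryTheory.Limits
open CohDer

namespace Groth.Agent.S6594

open CategoryTheory.Pretriangulated in
set_option backward.defeqAttrib.useBackward true in
set_option backward.isDefEq.respectTransparency false in
theorem aux {D : Type u} [Category.{v} D] [Preadditive D] [HasZeroObject D] [HasShift D ℤ]
    [∀ n : ℤ, (shiftFunctor D n).Additive] [Pretriangulated D]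
    {X Y : D} (f : X ⟶ Y) :
    HasKernel f ↔ ∃ (K Z Q : D) (e₁ : X ≅ K ⊞ Z) (e₂ : Y ≅ Z ⊞ Q),
      f = e₁.hom ≫ biprod.snd ≫ biprod.inl ≫ e₂.inv := by
  constructor
  · intro hK
    obtain ⟨K, k, hk, hkf, hlift⟩ : ∃ (K : D) (k : K ⟶ X), Mono k ∧ k ≫ f = 0 ∧
        ∀ {W : D} (g : W ⟶ X), g ≫ f = 0 → ∃ l : W ⟶ K, l ≫ k = g :=
      ⟨kernel f, kernel.ι f, inferInstance, kernel.condition f,
        fun g hg => ⟨kernel.lift f g hg, kernel.lift_ι _ _ _⟩⟩
    clear hK
    -- the kernel inclusion is a (split) mono; its cone is a complement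
    obtain ⟨Z, π, h, hT⟩ := distinguished_cocone_triangle k
    have hzero : (Triangle.mk k π h).mor₃ = 0 :=
      Triangle.mor₃_eq_zero_of_mono₁ _ hT (by dsimp; exact hk)
    obtain ⟨e, he₁, he₂⟩ := exists_iso_binaryBiproduct_of_distTriang _ hT hzero
    change X ≅ K ⊞ Z at e
    change k ≫ e.hom = biprod.inl at he₁
    change π = e.hom ≫ biprod.snd at he₂
    obtain ⟨(f' : Z ⟶ Y), (hf' : f = π ≫ f')⟩ :=
      Triangle.yoneda_exact₂ _ hT f hkf
    have kπ : k ≫ π = 0 := comp_distTriang_mor_zero₁₂ _ hT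
    -- section of π
    have sπ : (biprod.inr ≫ e.inv) ≫ π = 𝟙 Z := by
      rw [he₂, Category.assoc, Iso.inv_hom_id_assoc, biprod.inr_snd]
    have hmono : Mono f' := by
      rw [Preadditive.mono_iff_cancel_zero]
      intro W w hw
      have h0 : (w ≫ biprod.inr ≫ e.inv) ≫ f = 0 := by
        rw [hf', Category.assoc, ← Category.assoc _ π, sπ, Category.id_comp, hw]
      obtain ⟨l, h1⟩ := hlift _ h0
      have h2 : w = (w ≫ biprod.inr ≫ e.inv) ≫ π := by
        rw [Category.assoc, sπ, Category.comp_id]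
      rw [h2, ← h1, Category.assoc, kπ, comp_zero]
    obtain ⟨Q, g', h', hT'⟩ := distinguished_cocone_triangle f'
    have hzero' : (Triangle.mk f' g' h').mor₃ = 0 :=
      Triangle.mor₃_eq_zero_of_mono₁ _ hT' (by dsimp; exact hmono)
    obtain ⟨e', he₁', he₂'⟩ := exists_iso_binaryBiproduct_of_distTriang _ hT' hzero'
    change Y ≅ Z ⊞ Q at e'
    change f' ≫ e'.hom = biprod.inl at he₁'
    refine ⟨K, Z, Q, e, e', ?_⟩
    rw [hf', he₂, ← he₁', Category.assoc, Category.assoc, Iso.hom_inv_id, Category.comp_id]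
  · rintro ⟨K, Z, Q, e₁, e₂, hf⟩
    have hm : Mono (biprod.inl ≫ e₂.inv : Z ⟶ Y) := mono_comp _ _
    have w : (biprod.inl ≫ e₁.inv : K ⟶ X) ≫ f = 0 := by
      rw [hf, Category.assoc, Iso.inv_hom_id_assoc, biprod.inl_snd_assoc, zero_comp]
    have key : ∀ {W : D} (g : W ⟶ X), g ≫ f = 0 → g ≫ e₁.hom ≫ biprod.snd = 0 := by
      intro W g hg
      rw [hf] at hg
      have : (g ≫ e₁.hom ≫ biprod.snd) ≫ (biprod.inl ≫ e₂.inv) = 0 := by
        simpa only [Category.assoc] using hg
      exact (cancel_mono (biprod.inl ≫ e₂.inv)).1 (by rw [this, zero_comp])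
    have hm' : Mono (biprod.inl ≫ e₁.inv : K ⟶ X) := mono_comp _ _
    refine ⟨⟨⟨KernelFork.ofι _ w, KernelFork.IsLimit.ofι' _ w (fun {A} g hg => ?_)⟩⟩⟩
    refine ⟨g ≫ e₁.hom ≫ biprod.fst, ?_⟩
    have h1 := key g hg
    have : g ≫ e₁.hom = (g ≫ e₁.hom) ≫ (biprod.fst ≫ biprod.inl + biprod.snd ≫ biprod.inr) := by
      rw [biprod.total, Category.comp_id]
    rw [← cancel_mono e₁.hom]
    simp only [Category.assoc, Iso.inv_hom_id, Category.comp_id]
    rw [this]
    simp only [Preadditive.comp_add, Category.assoc]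
    rw [reassoc_of% h1]
    simp

open CategoryTheory.Pretriangulated in
/-- (1) ⇔ (3): let D be a pretriangulated category and f : X ⟶ Y a morphism. Then f has a kernel if and
only if f is isomorphic to a composite K ⊞ Z → Z → Z ⊞ Q of a projection and a coprojection for some
objects K, Z, Q. -/
theorem result {D : Type u} [Category.{v} D] [Preadditive D] [HasZeroObject D] [HasShift D ℤ]
    [∀ n : ℤ, (shiftFunctor D n).Additive] [Pretriangulated D]
    {X Y : D} (f : X ⟶ Y) :
    HasKernel f ↔ ∃ (K Z Q : D) (e₁ : X ≅ K ⊞ Z) (e₂ : Y ≅ Z ⊞ Q),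
      f = e₁.hom ≫ biprod.snd ≫ biprod.inl ≫ e₂.inv := by
  exact aux f

end Groth.Agent.S6594
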