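import Groth.Statements.S6596
import Mathlib.Tactic
-- import your own Groth.Agent.* helpers here

set_option autoImplicit false
universe v u
open CategoryTheory CategoryTheory.Limits
open CohDer

namespace Groth.Agent.S6596

open CategoryTheory.Pretriangulated

section aux

variable {D : Type u} [Category.{v} D] [Preadditive D] [HasZeroObject D] [HasShift D ℤ]
    [∀ n : ℤ, (shiftFunctor D n).Additive] [Pretriangulated D] [IsTriangulated D]

/-- if `δ : W ⟶ T.obj₁` is killed by `T.mor₁` and `Hom(W⟦1⟧, T.obj₃) = 0` then `δ = 0`. -/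
theorem eq_zero_of_comp_mor₁ (T : Triangle D) (hT : T ∈ distTriang D) {W : D} (δ : W ⟶ T.obj₁)
    (hδ : δ ≫ T.mor₁ = 0)
    (hW : ∀ θ : (shiftFunctor D (1 : ℤ)).obj W ⟶ T.obj₃, θ = 0) : δ = 0 := by
  have h1 : (shiftFunctor D (1 : ℤ)).map δ ≫ (shiftFunctor D (1 : ℤ)).map T.mor₁ = 0 := by
    rw [← Functor.map_comp, hδ, Functor.map_zero]
  obtain ⟨θ, hθ⟩ := Triangle.coyoneda_exact₁ T hT _ h1
  rw [hW θ, zero_comp] at hθ
  apply (shiftFunctor D (1 : ℤ)).map_injective
  rw [hθ, Functor.map_zero]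

theorem vanish (X X' : ChainComplex D ℕ) (n : ℕ)
    (qY : ℕ → D) (qa : ∀ k, qY k ⟶ X'.X k) (qb : ∀ k, X'.X (k + 1) ⟶ qY k)
    (qc : ∀ k, qY k ⟶ (shiftFunctor D (1 : ℤ)).obj (qY (k + 1)))
    (qh0 : IsIso (qa 0))
    (qhP : ∀ k, k < n → Triangle.mk (qa (k + 1)) (qb k) (qc k) ∈ distinguishedTriangles ∧
      qb k ≫ qa k = X'.d (k + 1) k)
    (hX : ∀ i j : ℕ, j + 1 < i → i ≤ n →
      ∀ ψ : (shiftFunctor D ((i : ℤ) - j - 1)).obj (X.X i) ⟶ X'.X j, ψ = 0)
    (i : ℕ) (hi : i ≤ n) : ∀ (j : ℕ), j + 1 < i → ∀ (s : ℤ), s = (i : ℤ) - j - 1 →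
      ∀ ψ : (shiftFunctor D s).obj (X.X i) ⟶ qY j, ψ = 0 := by
  intro j
  induction j with
  | zero =>
    intro hj s hs ψ
    subst hs
    have h := hX i 0 hj hi (ψ ≫ qa 0)
    rw [← cancel_mono (qa 0), h, zero_comp]
  | succ j ih =>
    intro hj s hs ψ
    have hjn : j < n := by omega
    obtain ⟨hT, -⟩ := qhP j hjn
    have h1 : ψ ≫ qa (j + 1) = 0 := by
      subst hs
      exact hX i (j + 1) hj hi (ψ ≫ qa (j + 1))
    refine eq_zero_of_comp_mor₁ _ hT ψ h1 ?_
    intro θ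
    have h2 := ih (by omega) (s + 1) (by rw [hs]; push_cast; ring)
      ((shiftFunctorAdd' D s 1 (s + 1) rfl).hom.app (X.X i) ≫ θ)
    rwa [← cancel_epi ((shiftFunctorAdd' D s 1 (s + 1) rfl).hom.app (X.X i)), comp_zero]

end aux

open CategoryTheory.Pretriangulated in
/-- Let D be a triangulated category and φ : X ⟶ X' a morphism of chain complexes in D considered in
degrees ≤ n, where a Postnikov system for the complex X_n → … → X_0 consists of objects Y_k, an
isomorphism Y_0 ⟶ X_0, and for 0 ≤ k < n distinguished triangles Y_{k+1} ⟶ X_{k+1} ⟶ Y_k ⟶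
Y_{k+1}⟦1⟧ with X_{k+1} ⟶ Y_k ⟶ X_k the differential. Suppose X and X' carry Postnikov systems (Y,
a, b, c) and (Y', a', b', c'). If Hom(X_i⟦i - j - 1⟧, X'_j) = 0 for all j + 1 < i ≤ n, then φ
extends to a morphism of Postnikov systems: morphisms y_k : Y_k ⟶ Y'_k for k ≤ n forming, with the
φ_k, morphisms of the distinguished triangles and compatible with Y_0 ⟶ X_0 and Y'_0 ⟶ X'_0. -/
theorem result {D : Type u} [Category.{v} D] [Preadditive D] [HasZeroObject D] [HasShift D ℤ]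
    [∀ n : ℤ, (shiftFunctor D n).Additive] [Pretriangulated D] [IsTriangulated D]
    (X X' : ChainComplex D ℕ) (φ : X ⟶ X') (n : ℕ)
    (Y : ℕ → D) (a : ∀ k, Y k ⟶ X.X k) (b : ∀ k, X.X (k + 1) ⟶ Y k)
    (c : ∀ k, Y k ⟶ (shiftFunctor D (1 : ℤ)).obj (Y (k + 1)))
    (h0 : IsIso (a 0))
    (hP : ∀ k, k < n → Triangle.mk (a (k + 1)) (b k) (c k) ∈ distinguishedTriangles ∧ b k ≫ a k = X.d (k + 1) k)
    (qY : ℕ → D) (qa : ∀ k, qY k ⟶ X'.X k) (qb : ∀ k, X'.X (k + 1) ⟶ qY k)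
    (qc : ∀ k, qY k ⟶ (shiftFunctor D (1 : ℤ)).obj (qY (k + 1)))
    (qh0 : IsIso (qa 0))
    (qhP : ∀ k, k < n → Triangle.mk (qa (k + 1)) (qb k) (qc k) ∈ distinguishedTriangles ∧ qb k ≫ qa k = X'.d (k + 1) k)
    (hX : ∀ i j : ℕ, j + 1 < i → i ≤ n → ∀ ψ : (shiftFunctor D ((i : ℤ) - j - 1)).obj (X.X i) ⟶ X'.X j, ψ = 0) :
    ∃ y : ∀ k, Y k ⟶ qY k,
      (∀ k, k ≤ n → y k ≫ qa k = a k ≫ φ.f k) ∧
      (∀ k, k < n → b k ≫ y k = φ.f (k + 1) ≫ qb k ∧ c k ≫ (shiftFunctor D (1 : ℤ)).map (y (k + 1)) = y k ≫ qc k) := by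
  classical
  -- the commutation with `b` is automatic
  have hb : ∀ k, k < n → ∀ yk : Y k ⟶ qY k, yk ≫ qa k = a k ≫ φ.f k →
      b k ≫ yk = φ.f (k + 1) ≫ qb k := by
    intro k hk yk hyk
    have h1 : (b k ≫ yk - φ.f (k + 1) ≫ qb k) ≫ qa k = 0 := by
      rw [Preadditive.sub_comp, Category.assoc, hyk, ← Category.assoc, (hP k hk).2, Category.assoc,
        (qhP k hk).2, φ.comm, sub_self]
    rw [← sub_eq_zero]
    cases k with
    | zero =>
      rw [← cancel_mono (qa 0), h1, zero_comp]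
    | succ k =>
      have hk' : k < n := by omega
      refine eq_zero_of_comp_mor₁ _ (qhP k hk').1 _ h1 ?_
      intro θ
      exact vanish X X' n qY qa qb qc qh0 qhP hX (k + 2) (by omega) k (by omega) 1
        (by push_cast; ring) θ
  -- inductive construction
  have main : ∀ m, m ≤ n → ∃ y : ∀ k, Y k ⟶ qY k,
      (∀ k, k ≤ m → y k ≫ qa k = a k ≫ φ.f k) ∧
      (∀ k, k < m → c k ≫ (shiftFunctor D (1 : ℤ)).map (y (k + 1)) = y k ≫ qc k) := by
    intro m
    induction m with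
    | zero =>
      intro _
      refine ⟨fun k => if h : k = 0 then h ▸ (a 0 ≫ φ.f 0 ≫ inv (qa 0)) else 0, ?_, ?_⟩
      · intro k hk
        obtain rfl : k = 0 := by omega
        simp
      · intro k hk
        omega
    | succ m ih =>
      intro hm
      obtain ⟨y, hy1, hy2⟩ := ih (by omega)
      have hmn : m < n := by omega
      have hbm := hb m hmn (y m) (hy1 m le_rfl)
      obtain ⟨ynew, hn1, hn2⟩ := complete_distinguished_triangle_morphism₁ _ _ (hP m hmn).1
        (qhP m hmn).1 (φ.f (m + 1)) (y m) hbm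
      refine ⟨Function.update y (m + 1) ynew, ?_, ?_⟩
      · intro k hk
        by_cases hkm : k = m + 1
        · subst hkm
          rw [Function.update_self]
          exact hn1.symm
        · rw [Function.update_of_ne hkm]
          exact hy1 k (by omega)
      · intro k hk
        by_cases hkm : k = m
        · subst hkm
          rw [Function.update_self, Function.update_of_ne (by omega)]
          exact hn2
        · rw [Function.update_of_ne (by omega), Function.update_of_ne (by omega)]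
          exact hy2 k (by omega)
  obtain ⟨y, hy1, hy2⟩ := main n le_rfl
  exact ⟨y, hy1, fun k hk => ⟨hb k hk (y k) (hy1 k hk.le), hy2 k hk⟩⟩

end Groth.Agent.S6596
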