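import Groth.Statements.S6597
import Mathlib.Tactic
-- import your own Groth.Agent.* helpers here

set_option autoImplicit false
universe v u
open CategoryTheory CategoryTheory.Limits
open CohDer

namespace Groth.Agent.S6597

open CategoryTheory.Pretriangulated

section aux

variable {D : Type u} [Category.{v} D] [Preadditive D] [HasZeroObject D] [HasShift D ℤ]
    [∀ n : ℤ, (shiftFunctor D n).Additive] [Pretriangulated D] [IsTriangulated D]

/-- iterated shift by one -/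
def sh (e : ℕ) (W : D) : D := ((shiftFunctor D (1 : ℤ)).obj)^[e] W

theorem sh_succ (e : ℕ) (W : D) : sh (e + 1) W = sh e ((shiftFunctor D (1 : ℤ)).obj W) := rfl

theorem nonempty_sh_iso (e : ℕ) : ∀ W : D, Nonempty (sh e W ≅ (shiftFunctor D (e : ℤ)).obj W) := by
  induction e with
  | zero =>
    intro W
    exact ⟨((shiftFunctorZero D ℤ).symm.app W)⟩
  | succ e ih =>
    intro W
    obtain ⟨ε⟩ := ih ((shiftFunctor D (1 : ℤ)).obj W)
    exact ⟨ε ≪≫ ((shiftFunctorAdd' D (1 : ℤ) (e : ℤ) ((e + 1 : ℕ) : ℤ)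
      (by push_cast; ring)).symm.app W)⟩

/-- if `c ≫ w⟦1⟧ = 0` and `Hom(T.obj₂, Z) = 0` then `w = 0` (for `w : T.obj₁ ⟶ Z`) -/
theorem eq_zero_of_mor₃_comp (T : Triangle D) (hT : T ∈ distTriang D) {Z : D} (w : T.obj₁ ⟶ Z)
    (hw : T.mor₃ ≫ (shiftFunctor D (1 : ℤ)).map w = 0)
    (hZ : ∀ θ : T.obj₂ ⟶ Z, θ = 0) : w = 0 := by
  obtain ⟨g, hg⟩ : ∃ g : (shiftFunctor D (1 : ℤ)).obj T.obj₂ ⟶ (shiftFunctor D (1 : ℤ)).obj Z,
      (shiftFunctor D (1 : ℤ)).map w = (-(shiftFunctor D (1 : ℤ)).map T.mor₁) ≫ g :=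
    Triangle.yoneda_exact₃ _ (rot_of_distTriang _ hT) ((shiftFunctor D (1 : ℤ)).map w) hw
  obtain ⟨g', rfl⟩ : ∃ g' : T.obj₂ ⟶ Z, (shiftFunctor D (1 : ℤ)).map g' = g :=
    (shiftFunctor D (1 : ℤ)).map_surjective g
  rw [hZ g', Functor.map_zero, comp_zero] at hg
  apply (shiftFunctor D (1 : ℤ)).map_injective
  rw [hg, Functor.map_zero]

end aux

open CategoryTheory.Pretriangulated in
/-- Let D be a triangulated category, φ : X ⟶ X' a morphism of chain complexes in D considered in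
degrees ≤ n, where a Postnikov system for the complex X_n → … → X_0 consists of objects Y_k, an
isomorphism Y_0 ⟶ X_0, and for 0 ≤ k < n distinguished triangles Y_{k+1} ⟶ X_{k+1} ⟶ Y_k ⟶
Y_{k+1}⟦1⟧ with X_{k+1} ⟶ Y_k ⟶ X_k the differential; let (Y, a, b, c) and (Y', a', b', c') be
Postnikov systems for X and X'. If Hom(X_i⟦i⟧, Y'_n⟦n⟧) = 0 for i = 1, …, n, then two morphisms of
Postnikov systems extending φ agree on Y_n. (The published statement says there is at most one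
morphism of Postnikov systems; the argument, by induction along Y_0 → Y_1⟦1⟧ → … → Y_n⟦n⟧,
determines the component in degree n, which is what is asserted here.) -/
theorem result {D : Type u} [Category.{v} D] [Preadditive D] [HasZeroObject D] [HasShift D ℤ]
    [∀ n : ℤ, (shiftFunctor D n).Additive] [Pretriangulated D] [IsTriangulated D]
    (X X' : ChainComplex D ℕ) (φ : X ⟶ X') (n : ℕ)
    (Y : ℕ → D) (a : ∀ k, Y k ⟶ X.X k) (b : ∀ k, X.X (k + 1) ⟶ Y k)
    (c : ∀ k, Y k ⟶ (shiftFunctor D (1 : ℤ)).obj (Y (k + 1)))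
    (h0 : IsIso (a 0))
    (hP : ∀ k, k < n → Triangle.mk (a (k + 1)) (b k) (c k) ∈ distinguishedTriangles ∧ b k ≫ a k = X.d (k + 1) k)
    (qY : ℕ → D) (qa : ∀ k, qY k ⟶ X'.X k) (qb : ∀ k, X'.X (k + 1) ⟶ qY k)
    (qc : ∀ k, qY k ⟶ (shiftFunctor D (1 : ℤ)).obj (qY (k + 1)))
    (qh0 : IsIso (qa 0))
    (qhP : ∀ k, k < n → Triangle.mk (qa (k + 1)) (qb k) (qc k) ∈ distinguishedTriangles ∧ qb k ≫ qa k = X'.d (k + 1) k)
    (hv : ∀ i : ℕ, 1 ≤ i → i ≤ n → ∀ ψ : (shiftFunctor D (i : ℤ)).obj (X.X i) ⟶ (shiftFunctor D (n : ℤ)).obj (qY n), ψ = 0)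
    (y z : ∀ k, Y k ⟶ qY k)
    (hy : (∀ k, k ≤ n → y k ≫ qa k = a k ≫ φ.f k) ∧
      (∀ k, k < n → b k ≫ y k = φ.f (k + 1) ≫ qb k ∧ c k ≫ (shiftFunctor D (1 : ℤ)).map (y (k + 1)) = y k ≫ qc k))
    (hz : (∀ k, k ≤ n → z k ≫ qa k = a k ≫ φ.f k) ∧
      (∀ k, k < n → b k ≫ z k = φ.f (k + 1) ≫ qb k ∧ c k ≫ (shiftFunctor D (1 : ℤ)).map (z (k + 1)) = z k ≫ qc k)) :
    y n = z n := by
  -- the difference
  have hd1 : ∀ k, k ≤ n → (y k - z k) ≫ qa k = 0 := by
    intro k hk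
    rw [Preadditive.sub_comp, hy.1 k hk, hz.1 k hk, sub_self]
  have hd3 : ∀ k, k < n → c k ≫ (shiftFunctor D (1 : ℤ)).map (y (k + 1) - z (k + 1)) =
      (y k - z k) ≫ qc k := by
    intro k hk
    rw [Functor.map_sub, Preadditive.comp_sub, (hy.2 k hk).2, (hz.2 k hk).2, Preadditive.sub_comp]
  -- the main induction
  have main : ∀ k, k ≤ n → ∀ (Z : D) (γ : qY k ⟶ Z),
      (∀ i e : ℕ, 1 ≤ i → i + e = k → ∀ ψ : X.X i ⟶ sh e Z, ψ = 0) → (y k - z k) ≫ γ = 0 := by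
    intro k
    induction k with
    | zero =>
      intro hk Z γ _
      have : y 0 - z 0 = 0 := by
        rw [← cancel_mono (qa 0), hd1 0 hk, zero_comp]
      rw [this, zero_comp]
    | succ k ih =>
      intro hk Z γ hV
      have hkn : k < n := by omega
      have h1 : (y k - z k) ≫ (qc k ≫ (shiftFunctor D (1 : ℤ)).map γ) = 0 := by
        apply ih (by omega)
        intro i e hi hie ψ
        exact hV i (e + 1) hi (by omega) ψ
      refine eq_zero_of_mor₃_comp _ (hP k hkn).1 ((y (k + 1) - z (k + 1)) ≫ γ) ?_ ?_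
      · change c k ≫ (shiftFunctor D (1 : ℤ)).map ((y (k + 1) - z (k + 1)) ≫ γ) = 0
        rw [Functor.map_comp, ← Category.assoc, hd3 k hkn, Category.assoc, h1]
      · intro θ
        exact hV (k + 1) 0 (by omega) (by omega) θ
  have hfin := main n le_rfl (qY n) (𝟙 _) ?_
  · rw [Category.comp_id] at hfin
    exact sub_eq_zero.1 hfin
  · intro i e hi hie ψ
    obtain ⟨ε⟩ := nonempty_sh_iso e (qY n)
    have hne : (e : ℤ) + (i : ℤ) = (n : ℤ) := by
      rw [← hie]; push_cast; ring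
    have h := hv i hi (by omega)
      ((shiftFunctor D (i : ℤ)).map (ψ ≫ ε.hom) ≫
        (shiftFunctorAdd' D (e : ℤ) (i : ℤ) (n : ℤ) hne).inv.app (qY n))
    rw [← cancel_mono ((shiftFunctorAdd' D (e : ℤ) (i : ℤ) (n : ℤ) hne).hom.app (qY n)),
      Category.assoc, Iso.inv_hom_id_app, zero_comp] at h
    erw [Category.comp_id] at h
    have h2 : ψ ≫ ε.hom = 0 := by
      apply (shiftFunctor D (i : ℤ)).map_injective
      rw [h, Functor.map_zero]
    rw [← cancel_mono ε.hom, h2, zero_comp]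

end Groth.Agent.S6597
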