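import Groth.Statements.S6600
import Mathlib.CategoryTheory.Triangulated.Orthogonal

set_option autoImplicit false
universe v u
open CategoryTheory CategoryTheory.Limits
open CohDer

namespace Groth.Agent.S6600

open CategoryTheory.Pretriangulated in
/-- Let D be a triangulated category, A ⊂ D a full subcategory invariant under all shifts, and X → Y → Z
→ X⟦1⟧ a distinguished triangle. Then Z lies in the right orthogonal A^⊥ if and only if Hom(A, X) →
Hom(A, Y) is bijective for every object A of A. -/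
theorem result {D : Type u} [Category.{v} D] [Preadditive D] [HasZeroObject D] [HasShift D ℤ]
    [∀ n : ℤ, (shiftFunctor D n).Additive] [Pretriangulated D] [IsTriangulated D]
    (P : ObjectProperty D) [P.IsStableUnderShift ℤ] (T : Triangle D) (hT : T ∈ distinguishedTriangles) :
    P.rightOrthogonal T.obj₃ ↔ ∀ A : D, P A → Function.Bijective (fun u : A ⟶ T.obj₁ => u ≫ T.mor₁) := by
  constructor
  · intro hZ A hA
    constructor
    · intro u₁ u₂ h
      have h' : (u₁ - u₂) ≫ T.mor₁ = 0 := by
        simpa [sub_eq_zero] using h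
      obtain ⟨g, hg⟩ := Triangle.coyoneda_exact₂ _ (inv_rot_of_distTriang _ hT) (u₁ - u₂) h'
      have hZ' : P.rightOrthogonal ((shiftFunctor D (-1 : ℤ)).obj T.obj₃) :=
        P.rightOrthogonal.le_shift (-1 : ℤ) _ hZ
      have hg0 : g = 0 := hZ' g hA
      have key : u₁ - u₂ = 0 := by
        have hg' := hg
        rw [hg0, zero_comp] at hg'
        exact hg'
      exact sub_eq_zero.1 key
    · intro v
      have hv : v ≫ T.mor₂ = 0 := hZ _ hA
      obtain ⟨u, hu⟩ := Triangle.coyoneda_exact₂ _ hT v hv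
      exact ⟨u, hu.symm⟩
  · intro H A w hA
    let adj := (shiftEquiv D (1 : ℤ)).symm.toAdjunction
    have hA' : P ((shiftEquiv D (1 : ℤ)).symm.functor.obj A) := P.le_shift (-1 : ℤ) _ hA
    let u : (shiftEquiv D (1 : ℤ)).symm.functor.obj A ⟶ T.obj₁ :=
      (adj.homEquiv A T.obj₁).symm (w ≫ T.mor₃)
    have hu : u ≫ T.mor₁ = 0 := by
      apply (adj.homEquiv A T.obj₂).injective
      rw [Adjunction.homEquiv_naturality_right]
      simp only [u, Equiv.apply_symm_apply]
      have h0 : (adj.homEquiv A T.obj₂) 0 = 0 := by simp [Adjunction.homEquiv_unit]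
      rw [h0]
      change (w ≫ T.mor₃) ≫ (shiftFunctor D (1 : ℤ)).map T.mor₁ = 0
      rw [Category.assoc, comp_distTriang_mor_zero₃₁ _ hT, comp_zero]
    have hu0 : u = 0 := (H _ hA').1 (by simpa using hu)
    have hw3 : w ≫ T.mor₃ = 0 := by
      have h1 : w ≫ T.mor₃ = adj.homEquiv A T.obj₁ u :=
        (Equiv.apply_symm_apply (adj.homEquiv A T.obj₁) (w ≫ T.mor₃)).symm
      have h0' : (adj.homEquiv A T.obj₁) 0 = 0 := by simp [Adjunction.homEquiv_unit]
      rw [h1, hu0]
      exact h0'
    obtain ⟨v, hv⟩ := Triangle.coyoneda_exact₃ _ hT w hw3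
    obtain ⟨u', hu'⟩ := (H _ hA).2 v
    rw [hv, ← hu']
    change (u' ≫ T.mor₁) ≫ T.mor₂ = 0
    rw [Category.assoc, comp_distTriang_mor_zero₁₂ _ hT, comp_zero]

end Groth.Agent.S6600
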