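import Groth.Statements.S6601
import Mathlib.CategoryTheory.Triangulated.Orthogonal

set_option autoImplicit false
universe v u
open CategoryTheory CategoryTheory.Limits
open CohDer

namespace Groth.Agent.S6601

open CategoryTheory.Pretriangulated in
/-- Let D be a triangulated category, B ⊂ D a full subcategory invariant under all shifts, and X → Y → Z
→ X⟦1⟧ a distinguished triangle. Then X lies in the left orthogonal ^⊥B if and only if Hom(Z, B) →
Hom(Y, B) is bijective for every object B of B. -/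
theorem result {D : Type u} [Category.{v} D] [Preadditive D] [HasZeroObject D] [HasShift D ℤ]
    [∀ n : ℤ, (shiftFunctor D n).Additive] [Pretriangulated D] [IsTriangulated D]
    (P : ObjectProperty D) [P.IsStableUnderShift ℤ] (T : Triangle D) (hT : T ∈ distinguishedTriangles) :
    P.leftOrthogonal T.obj₁ ↔ ∀ B : D, P B → Function.Bijective (fun u : T.obj₃ ⟶ B => T.mor₂ ≫ u) := by
  constructor
  · intro hX B hB
    constructor
    · intro u₁ u₂ h
      have h' : T.mor₂ ≫ (u₁ - u₂) = 0 := by
        simpa [sub_eq_zero] using h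
      obtain ⟨g, hg⟩ := Triangle.yoneda_exact₃ _ hT (u₁ - u₂) h'
      have hX' : P.leftOrthogonal ((shiftFunctor D (1 : ℤ)).obj T.obj₁) :=
        P.leftOrthogonal.le_shift (1 : ℤ) _ hX
      have hg0 : g = 0 := hX' g hB
      rw [hg0, comp_zero] at hg
      exact sub_eq_zero.1 hg
    · intro v
      have hv : T.mor₁ ≫ v = 0 := hX _ hB
      obtain ⟨u, hu⟩ := Triangle.yoneda_exact₂ _ hT v hv
      exact ⟨u, hu.symm⟩
  · intro H B w hB
    have hB' : P ((shiftFunctor D (1 : ℤ)).obj B) := P.le_shift (1 : ℤ) _ hB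
    have h1 : T.mor₃ ≫ (shiftFunctor D (1 : ℤ)).map w = 0 := by
      apply (H _ hB').1
      change T.mor₂ ≫ T.mor₃ ≫ (shiftFunctor D (1 : ℤ)).map w = T.mor₂ ≫ 0
      rw [comp_distTriang_mor_zero₂₃_assoc _ hT, zero_comp, comp_zero]
    obtain ⟨g', hg'⟩ := Triangle.yoneda_exact₃ _ (rot_of_distTriang _ hT)
      ((shiftFunctor D (1 : ℤ)).map w) h1
    obtain ⟨v, rfl⟩ := (shiftFunctor D (1 : ℤ)).map_surjective g'
    obtain ⟨u', hu'⟩ := (H _ hB).2 v
    have hu'' : T.mor₂ ≫ u' = v := hu'
    apply (shiftFunctor D (1 : ℤ)).map_injective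
    rw [hg', Functor.map_zero]
    change (-(shiftFunctor D (1 : ℤ)).map T.mor₁) ≫ (shiftFunctor D (1 : ℤ)).map v = 0
    rw [← hu'', Preadditive.neg_comp, ← Functor.map_comp, comp_distTriang_mor_zero₁₂_assoc _ hT, zero_comp,
      Functor.map_zero, neg_zero]

end Groth.Agent.S6601
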