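import Groth.Statements.S6602
import Groth.Agent.S6601
import Mathlib.CategoryTheory.Adjunction.Comma

set_option autoImplicit false
universe v u
open CategoryTheory CategoryTheory.Limits
open CohDer

namespace Groth.Agent.S6602

open CategoryTheory.Pretriangulated in
/-- (1) ⇔ (2): let D be a triangulated category and B a full triangulated subcategory. The inclusion
functor B → D has a left adjoint if and only if for every X in D there is a distinguished triangle A
→ X → B → A⟦1⟧ with B in B and A in the left orthogonal ^⊥B. (The published statement further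
asserts that B is then saturated and, when strictly full, equals the right orthogonal of its left
orthogonal; this row asserts only the equivalence.) -/
theorem result {D : Type u} [Category.{v} D] [Preadditive D] [HasZeroObject D] [HasShift D ℤ]
    [∀ n : ℤ, (shiftFunctor D n).Additive] [Pretriangulated D] [IsTriangulated D]
    (P : ObjectProperty D) [P.IsTriangulated] :
    P.ι.IsRightAdjoint ↔ ∀ X : D, ∃ (A B : D) (f : A ⟶ X) (g : X ⟶ B) (h : B ⟶ (shiftFunctor D (1 : ℤ)).obj A),
      Triangle.mk f g h ∈ distinguishedTriangles ∧ P B ∧ P.leftOrthogonal A := by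
  constructor
  · intro hadj X
    let L := P.ι.leftAdjoint
    let adj : L ⊣ P.ι := Adjunction.ofIsRightAdjoint P.ι
    let g : X ⟶ (L.obj X).obj := adj.unit.app X
    obtain ⟨A, f, h, hT⟩ := distinguished_cocone_triangle₁ g
    refine ⟨A, (L.obj X).obj, f, g, h, hT, (L.obj X).property, ?_⟩
    refine (Groth.Agent.S6601.result P _ hT).2 ?_
    intro B hB
    constructor
    · intro u₁ u₂ hu
      have hu' : g ≫ u₁ = g ≫ u₂ := hu
      have h1 : adj.homEquiv X ⟨B, hB⟩ (ObjectProperty.homMk u₁) =
          adj.homEquiv X ⟨B, hB⟩ (ObjectProperty.homMk u₂) := by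
        rw [Adjunction.homEquiv_unit, Adjunction.homEquiv_unit]
        exact hu'
      have h2 := (adj.homEquiv X ⟨B, hB⟩).injective h1
      exact congrArg InducedCategory.Hom.hom h2
    · intro v
      refine ⟨((adj.homEquiv X ⟨B, hB⟩).symm v).hom, ?_⟩
      have h1 := (adj.homEquiv X ⟨B, hB⟩).apply_symm_apply v
      rw [Adjunction.homEquiv_unit] at h1
      exact h1
  · intro H
    rw [isRightAdjoint_iff_hasInitial_structuredArrow]
    intro X
    obtain ⟨A, B, f, g, h, hT, hB, hA⟩ := H X
    have bij := (Groth.Agent.S6601.result P _ hT).1 hA
    have hinit : IsInitial (StructuredArrow.mk (Y := (⟨B, hB⟩ : P.FullSubcategory)) (f := g) :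
        StructuredArrow X P.ι) := by
      refine IsInitial.ofUniqueHom (fun Y => ?_) (fun Y m => ?_)
      · exact StructuredArrow.homMk
          (ObjectProperty.homMk ((bij Y.right.obj Y.right.property).2 Y.hom).choose)
          ((bij Y.right.obj Y.right.property).2 Y.hom).choose_spec
      · apply StructuredArrow.ext
        apply ObjectProperty.hom_ext
        apply (bij Y.right.obj Y.right.property).1
        have h1 := ((bij Y.right.obj Y.right.property).2 Y.hom).choose_spec
        have h2 := StructuredArrow.w m
        simp only [StructuredArrow.homMk_right, ObjectProperty.homMk_hom]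
        exact h2.trans h1.symm
    exact hinit.hasInitial

end Groth.Agent.S6602
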