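import Groth.Statements.S6603
-- import your own Groth.Agent.* helpers here

set_option autoImplicit false
universe v u v' u'
open CategoryTheory CategoryTheory.Limits
open CohDer

namespace Groth.Agent.S6603

lemma isZero_equiv_iff {A : Type*} {B : Type*} [Category A] [Category B] (e : A ≌ B) (X : A) :
    IsZero (e.functor.obj X) ↔ IsZero X := by
  constructor
  · intro h
    refine ⟨fun Y => ?_, fun Y => ?_⟩
    · obtain ⟨u⟩ := h.unique_to (e.functor.obj Y)
      exact ⟨(e.fullyFaithfulFunctor.homEquiv (X := X) (Y := Y)).unique⟩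
    · obtain ⟨u⟩ := h.unique_from (e.functor.obj Y)
      exact ⟨(e.fullyFaithfulFunctor.homEquiv (X := Y) (Y := X)).unique⟩
  · intro h
    refine ⟨fun Y => ?_, fun Y => ?_⟩
    · obtain ⟨u⟩ := h.unique_to (e.inverse.obj Y)
      exact ⟨(e.toAdjunction.homEquiv X Y).unique⟩
    · obtain ⟨u⟩ := h.unique_from (e.inverse.obj Y)
      have u' : Unique (e.symm.functor.obj Y ⟶ X) := u
      exact ⟨(e.symm.toAdjunction.homEquiv Y X).symm.unique⟩

/-- transport `IsZero` along the comparison of localizations -/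
lemma isZero_iff_Q {D : Type u} [Category.{v} D] (S : MorphismProperty D)
    {E : Type u'} [Category.{v'} E] (Q : D ⥤ E) [Q.IsLocalization S] (Z : D) :
    IsZero (Q.obj Z) ↔ IsZero (S.Q.obj Z) := by
  let e := Localization.uniq S.Q Q S
  let i : S.Q ⋙ e.functor ≅ Q := Localization.compUniqFunctor S.Q Q S
  have : IsZero (Q.obj Z) ↔ IsZero (e.functor.obj (S.Q.obj Z)) :=
    ⟨fun h => h.of_iso (i.app Z), fun h => h.of_iso (i.app Z).symm⟩
  rw [this]
  exact isZero_equiv_iff e _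

open CategoryTheory.Pretriangulated in
set_option backward.defeqAttrib.useBackward true in
set_option backward.isDefEq.respectTransparency false in
theorem aux {D : Type u} [Category.{v} D] [Preadditive D] [HasZeroObject D] [HasShift D ℤ]
    [∀ n : ℤ, (shiftFunctor D n).Additive] [Pretriangulated D]
    (S : MorphismProperty D) [S.HasLeftCalculusOfFractions] [S.HasRightCalculusOfFractions]
    [S.IsCompatibleWithTriangulation] (Z : D) :
    (IsZero (S.Q.obj Z) ↔ ∃ Z' : D, S (0 : Z ⟶ Z')) ∧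
    (IsZero (S.Q.obj Z) ↔ ∃ Z' : D, S (0 : Z' ⟶ Z)) ∧
    (IsZero (S.Q.obj Z) ↔ ∃ (Z' X Y : D) (f : X ⟶ Y) (g : Y ⟶ Z ⊞ Z') (h : Z ⊞ Z' ⟶ (shiftFunctor D (1 : ℤ)).obj X),
      Triangle.mk f g h ∈ distinguishedTriangles ∧ S f) := by
  have h2 : IsZero (S.Q.obj Z) ↔ ∃ Z' : D, S (0 : Z ⟶ Z') := by
    constructor
    · intro hZ
      have : S.Q.map (𝟙 Z) = S.Q.map (0 : Z ⟶ Z) := hZ.eq_of_src _ _
      obtain ⟨Z', s, hs, fac⟩ := (MorphismProperty.map_eq_iff_postcomp S.Q S _ _).1 this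
      rw [Category.id_comp, zero_comp] at fac
      exact ⟨Z', fac ▸ hs⟩
    · rintro ⟨Z', hs⟩
      have : IsIso (S.Q.map (0 : Z ⟶ Z')) := Localization.inverts S.Q S _ hs
      rw [IsZero.iff_id_eq_zero]
      have hz : S.Q.map (0 : Z ⟶ Z') = 0 := Functor.map_zero _ _ _
      rw [← IsIso.hom_inv_id (S.Q.map (0 : Z ⟶ Z'))]
      generalize inv (S.Q.map (0 : Z ⟶ Z')) = w
      rw [hz, zero_comp]
  have h3 : IsZero (S.Q.obj Z) ↔ ∃ Z' : D, S (0 : Z' ⟶ Z) := by
    constructor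
    · intro hZ
      have : S.Q.map (𝟙 Z) = S.Q.map (0 : Z ⟶ Z) := hZ.eq_of_src _ _
      obtain ⟨Z', s, hs, fac⟩ := (MorphismProperty.map_eq_iff_precomp S.Q S _ _).1 this
      rw [Category.comp_id, comp_zero] at fac
      exact ⟨Z', fac ▸ hs⟩
    · rintro ⟨Z', hs⟩
      have : IsIso (S.Q.map (0 : Z' ⟶ Z)) := Localization.inverts S.Q S _ hs
      rw [IsZero.iff_id_eq_zero]
      have hz : S.Q.map (0 : Z' ⟶ Z) = 0 := Functor.map_zero _ _ _
      rw [← IsIso.inv_hom_id (S.Q.map (0 : Z' ⟶ Z))]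
      generalize inv (S.Q.map (0 : Z' ⟶ Z)) = w
      rw [hz, comp_zero]
  refine ⟨h2, h3, ?_⟩
  constructor
  · intro hZ
    obtain ⟨Z', hs⟩ := h3.1 hZ
    obtain ⟨C, g, h, hT⟩ := distinguished_cocone_triangle (0 : Z' ⟶ Z)
    have rot := rot_of_distTriang _ hT
    have zero : (Triangle.mk (0 : Z' ⟶ Z) g h).rotate.mor₃ = 0 := by
      dsimp
      rw [Functor.map_zero, neg_zero]
    obtain ⟨e, he₁, he₂⟩ := exists_iso_binaryBiproduct_of_distTriang _ rot zero
    change C ≅ Z ⊞ (shiftFunctor D (1 : ℤ)).obj Z' at e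
    refine ⟨(shiftFunctor D (1 : ℤ)).obj Z', Z', Z, 0, g ≫ e.hom, e.inv ≫ h, ?_, hs⟩
    refine isomorphic_distinguished _ hT _ ?_
    exact Triangle.isoMk _ _ (Iso.refl _) (Iso.refl _) e.symm (by simp) (by simp) (by simp)
  · rintro ⟨Z', X, Y, f, g, h, hT, hf⟩
    have : IsIso (S.Q.map f) := Localization.inverts S.Q S _ hf
    have hz : IsZero (S.Q.obj (Z ⊞ Z')) :=
      (Triangle.isZero₃_iff_isIso₁ _ (S.Q.map_distinguished _ hT)).2 this
    rw [IsZero.iff_id_eq_zero]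
    have e1 : 𝟙 (S.Q.obj Z) = S.Q.map (biprod.inl : Z ⟶ Z ⊞ Z') ≫ S.Q.map biprod.fst := by
      rw [← Functor.map_comp, biprod.inl_fst, CategoryTheory.Functor.map_id]
    rw [e1, hz.eq_of_tgt (S.Q.map (biprod.inl : Z ⟶ Z ⊞ Z')) 0, zero_comp]

open CategoryTheory.Pretriangulated in
/-- (1) ⇔ (2) ⇔ (3) ⇔ (4): let D be a pretriangulated category, S a multiplicative system compatible
with the triangulated structure, and Q : D → S⁻¹D the localization functor. For an object Z of D the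
following are equivalent: (1) Q(Z) = 0; (2) 0 : Z ⟶ Z' is in S for some Z'; (3) 0 : Z' ⟶ Z is in S
for some Z'; (4) there are an object Z' and a distinguished triangle (X, Y, Z ⊞ Z', f, g, h) with f
∈ S. (The further equivalences (5)–(7) for saturated S are not asserted.) -/
theorem result {D : Type u} [Category.{v} D] [Preadditive D] [HasZeroObject D] [HasShift D ℤ]
    [∀ n : ℤ, (shiftFunctor D n).Additive] [Pretriangulated D]
    (S : MorphismProperty D) [S.HasLeftCalculusOfFractions] [S.HasRightCalculusOfFractions]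
    [S.IsCompatibleWithTriangulation]
    {E : Type u'} [Category.{v'} E] (Q : D ⥤ E) [Q.IsLocalization S] (Z : D) :
    (IsZero (Q.obj Z) ↔ ∃ Z' : D, S (0 : Z ⟶ Z')) ∧
    (IsZero (Q.obj Z) ↔ ∃ Z' : D, S (0 : Z' ⟶ Z)) ∧
    (IsZero (Q.obj Z) ↔ ∃ (Z' X Y : D) (f : X ⟶ Y) (g : Y ⟶ Z ⊞ Z') (h : Z ⊞ Z' ⟶ (shiftFunctor D (1 : ℤ)).obj X),
      Triangle.mk f g h ∈ distinguishedTriangles ∧ S f) := by
  rw [isZero_iff_Q S Q Z]
  exact aux S Z

end Groth.Agent.S6603
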