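import Groth.Statements.S6604
import Groth.Agent.S6603

set_option autoImplicit false
universe v u v' u'
open CategoryTheory CategoryTheory.Limits
open CohDer

namespace Groth.Agent.S6604

open CategoryTheory.Pretriangulated ZeroObject in
set_option backward.defeqAttrib.useBackward true in
set_option backward.isDefEq.respectTransparency false in
theorem aux {D : Type u} [Category.{v} D] [Preadditive D] [HasZeroObject D] [HasShift D ℤ]
    [∀ n : ℤ, (shiftFunctor D n).Additive] [Pretriangulated D] [IsTriangulated D]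
    (B : ObjectProperty D) [B.IsTriangulated] (Z : D) :
    IsZero (B.trW.Q.obj Z) ↔ ∃ (Z' Y : D), B Y ∧ Nonempty (Z ⊞ Z' ≅ Y) := by
  rw [(Groth.Agent.S6603.aux B.trW Z).2.2]
  constructor
  · rintro ⟨Z', X, Y, f, g, h, hT, Z₀, g₀, h₀, hT₀, hZ₀⟩
    obtain ⟨e, _⟩ := exists_iso_of_arrow_iso _ _ hT hT₀ (Iso.refl _)
    exact ⟨Z', Z₀, hZ₀, ⟨Triangle.π₃.mapIso e⟩⟩
  · rintro ⟨Z', Y, hY, ⟨e⟩⟩
    refine ⟨Z', 0, Z ⊞ Z', 0, 𝟙 _, 0, contractible_distinguished₁ (Z ⊞ Z'), ?_⟩
    refine ⟨Y, e.hom, 0, ?_, hY⟩
    refine isomorphic_distinguished _ (contractible_distinguished₁ (Z ⊞ Z')) _ ?_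
    exact Triangle.isoMk _ _ (Iso.refl _) (Iso.refl _) e.symm (by simp) (by simp) (by simp)

/-- Let D be a triangulated category, B a full triangulated subcategory and Q : D → D/B the quotient
functor. Q sends an object Z of D to zero (Q(Z) = 0, i.e. Z belongs to the kernel of Q) exactly
when, for a suitable object Z' of D, the direct sum Z ⊞ Z' is isomorphic to some object lying in B;
put differently, the kernel is the smallest saturated, strictly full triangulated subcategory that
contains B. -/
theorem result {D : Type u} [Category.{v} D] [Preadditive D] [HasZeroObject D] [HasShift D ℤ]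
    [∀ n : ℤ, (shiftFunctor D n).Additive] [Pretriangulated D] [IsTriangulated D]
    (B : ObjectProperty D) [B.IsTriangulated]
    {E : Type u'} [Category.{v'} E] (Q : D ⥤ E) [Q.IsLocalization B.trW] (Z : D) :
    IsZero (Q.obj Z) ↔ ∃ (Z' Y : D), B Y ∧ Nonempty (Z ⊞ Z' ≅ Y) := by
  rw [Groth.Agent.S6603.isZero_iff_Q B.trW Q Z]
  exact aux B Z

end Groth.Agent.S6604
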