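import Groth.Statements.S6606
import Groth.Agent.Lib.Helper84.KProj
import Groth.Agent.Lib.Helper84.DerivedT

set_option autoImplicit false
universe v u
open CategoryTheory CategoryTheory.Limits
open CohDer

namespace Groth.Agent.S6606

section Helpers
open DerivedCategory CategoryTheory.Pretriangulated CochainComplex
attribute [local instance] HasDerivedCategory.standard

variable {A : Type u} [Category.{v} A] [Abelian A]

lemma isIso_homologyFunctor_map_Q {E L : CochainComplex A ℤ} (α : E ⟶ L) (i : ℤ)
    (h : IsIso (HomologicalComplex.homologyMap α i)) :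
    IsIso ((homologyFunctor A i).map (Q.map α)) := by
  have : IsIso ((Q ⋙ homologyFunctor A i).map α) :=
    (NatIso.isIso_map_iff (homologyFunctorFactors A i) α).2 h
  exact this

lemma epi_homologyFunctor_map_Q {E L : CochainComplex A ℤ} (α : E ⟶ L) (i : ℤ)
    (h : Epi (HomologicalComplex.homologyMap α i)) :
    Epi ((homologyFunctor A i).map (Q.map α)) := by
  have e : Arrow.mk ((homologyFunctor A i).map (Q.map α)) ≅
      Arrow.mk (HomologicalComplex.homologyMap α i) :=
    Arrow.isoMk ((homologyFunctorFactors A i).app E) ((homologyFunctorFactors A i).app L)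
      ((homologyFunctorFactors A i).hom.naturality α).symm
  exact ((MorphismProperty.epimorphisms A).arrow_mk_iso_iff e).2 h

end Helpers

/-- Let A be an abelian category, β : P ⟶ L and α : E ⟶ L morphisms of cochain complexes and n an
integer. Assume P is a bounded complex of projective objects with Pⁱ = 0 for i < n, and that Hⁱ(α)
is an isomorphism for i > n and an epimorphism for i = n. Then there is γ : P ⟶ E such that γ ≫ α is
homotopic to β. -/
theorem result {A : Type u} [Category.{v} A] [Abelian A]
    (P E L : CochainComplex A ℤ) (β : P ⟶ L) (α : E ⟶ L) (n b : ℤ) [P.IsStrictlyGE n] [P.IsStrictlyLE b]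
    (hP : ∀ i : ℤ, Projective (P.X i))
    (hiso : ∀ i : ℤ, n < i → IsIso (HomologicalComplex.homologyMap α i)) (hepi : Epi (HomologicalComplex.homologyMap α n)) :
    ∃ γ : P ⟶ E, Nonempty (Homotopy (γ ≫ α) β) := by
  classical
  letI : HasDerivedCategory A := HasDerivedCategory.standard A
  haveI : P.IsKProjective := CochainComplex.isKProjective_of_projective P b
  have hT := DerivedCategory.mappingCone_triangle_distinguished α
  set T := DerivedCategory.Q.mapTriangle.obj (CochainComplex.mappingCone.triangle α) with hTdef
  -- the cone is ≤ n - 1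
  have hC : (DerivedCategory.Q.obj (CochainComplex.mappingCone α)).IsLE (n - 1) := by
    rw [DerivedCategory.isLE_iff]
    intro i hi
    have hi' : n ≤ i := by lia
    refine Groth.Agent.Lib.Helper84.DerivedT.isZero_homology_obj₃ T hT i (i + 1) rfl ?_ ?_
    · rcases hi'.eq_or_lt with h | h
      · subst h
        exact epi_homologyFunctor_map_Q α n hepi
      · have := isIso_homologyFunctor_map_Q α i (hiso i h)
        exact (inferInstance : Epi ((DerivedCategory.homologyFunctor A i).map (DerivedCategory.Q.map α)))
    · have := isIso_homologyFunctor_map_Q α (i + 1) (hiso (i + 1) (by lia))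
      exact (inferInstance : Mono ((DerivedCategory.homologyFunctor A (i + 1)).map (DerivedCategory.Q.map α)))
  have h0 : DerivedCategory.Q.map β ≫ DerivedCategory.Q.map (CochainComplex.mappingCone.inr α) = 0 :=
    Groth.Agent.Lib.Helper84.KProj.from_projective_eq_zero P n b (n - 1) (by lia)
      (fun i hi => CochainComplex.isZero_of_isStrictlyGE P n i hi)
      (fun i hi => CochainComplex.isZero_of_isStrictlyLE P b i hi) hP _ _
  obtain ⟨φ, hφ⟩ := CategoryTheory.Pretriangulated.Triangle.coyoneda_exact₂ T hT (DerivedCategory.Q.map β) h0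
  obtain ⟨γ, hγ⟩ := Groth.Agent.Lib.Helper84.KProj.exists_Q_map_eq P E φ
  refine ⟨γ, Groth.Agent.Lib.Helper84.KProj.nonempty_homotopy_of_Q_map_eq P L (γ ≫ α) β ?_⟩
  rw [Functor.map_comp, hγ]
  exact hφ.symm

end Groth.Agent.S6606
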