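import Groth.Statements.S6607
import Groth.Agent.S6601
-- import your own Groth.Agent.* helpers here

set_option autoImplicit false
universe v u
open CategoryTheory CategoryTheory.Limits
open CohDer

namespace Groth.Agent.S6607

open CategoryTheory.Pretriangulated

section aux

variable {D : Type u} [Category.{v} D] [Preadditive D] [HasZeroObject D] [HasShift D ℤ]
    [∀ n : ℤ, (shiftFunctor D n).Additive] [Pretriangulated D] [IsTriangulated D]
    (B : ObjectProperty D) [B.IsTriangulated]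

/-- `g : X ⟶ Y` is a reflection of `X` into `B`. -/
def IsRefl {X Y : D} (g : X ⟶ Y) : Prop :=
  ∀ B' : D, B B' → Function.Bijective (fun u : Y ⟶ B' => g ≫ u)

/-- the property of the statement -/
def Pr : ObjectProperty D := fun X : D =>
  ∃ (A Y : D) (f : A ⟶ X) (g : X ⟶ Y) (h : Y ⟶ (shiftFunctor D (1 : ℤ)).obj A),
      Triangle.mk f g h ∈ distinguishedTriangles ∧ B Y ∧ B.leftOrthogonal A

theorem pr_of_refl {X Y : D} (g : X ⟶ Y) (hY : B Y) (hg : IsRefl B g) : Pr B X := by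
  obtain ⟨A, f, h, hT⟩ := distinguished_cocone_triangle₁ g
  exact ⟨A, Y, f, g, h, hT, hY, (Groth.Agent.S6601.result B _ hT).2 hg⟩

theorem refl_of_tri {A X Y : D} (f : A ⟶ X) (g : X ⟶ Y) (h : Y ⟶ (shiftFunctor D (1 : ℤ)).obj A)
    (hT : Triangle.mk f g h ∈ distTriang D) (hA : B.leftOrthogonal A) : IsRefl B g :=
  (Groth.Agent.S6601.result B _ hT).1 hA

theorem refl_units_smul (ε : ℤˣ) {X Y : D} (g : X ⟶ Y) (hg : IsRefl B g) : IsRefl B (ε • g) := by
  intro B' hB'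
  have h1 : (fun u : Y ⟶ B' => (ε • g) ≫ u) = (fun w : X ⟶ B' => ε • w) ∘ (fun u : Y ⟶ B' => g ≫ u) := by
    funext u
    simp [Linear.units_smul_comp]
  rw [h1]
  refine Function.Bijective.comp ?_ (hg B' hB')
  refine Function.bijective_iff_has_inverse.2 ⟨fun w => ε⁻¹ • w, fun w => ?_, fun w => ?_⟩
  · simp [smul_smul]
  · simp [smul_smul]

theorem refl_shift {X Y : D} (g : X ⟶ Y) (hg : IsRefl B g) (n : ℤ) :
    IsRefl B ((shiftFunctor D n).map g) := by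
  obtain ⟨A, f, h, hT⟩ := distinguished_cocone_triangle₁ g
  have hA : B.leftOrthogonal A := (Groth.Agent.S6601.result B _ hT).2 hg
  have hT' := Triangle.shift_distinguished _ hT n
  have hA' : B.leftOrthogonal ((shiftFunctor D n).obj A) := B.leftOrthogonal.le_shift n _ hA
  rw [Triangle.shiftFunctor_eq] at hT'
  intro B' hB'
  have h : IsRefl B (n.negOnePow • (shiftFunctor D n).map g) := (Groth.Agent.S6601.result B _ hT').1 hA'
  have h2 := refl_units_smul B n.negOnePow _ h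
  rw [smul_smul, Int.units_mul_self, one_smul] at h2
  exact h2 B' hB'

theorem refl_mid (T T' : Triangle D) (hT : T ∈ distTriang D) (hT' : T' ∈ distTriang D)
    (g₁ : T.obj₁ ⟶ T'.obj₁) (g₂ : T.obj₂ ⟶ T'.obj₂) (g₃ : T.obj₃ ⟶ T'.obj₃)
    (c₁ : T.mor₁ ≫ g₂ = g₁ ≫ T'.mor₁) (c₂ : T.mor₂ ≫ g₃ = g₂ ≫ T'.mor₂)
    (c₃ : T.mor₃ ≫ (shiftFunctor D (1 : ℤ)).map g₁ = g₃ ≫ T'.mor₃)
    (R₁ : IsRefl B g₁) (R₃ : IsRefl B g₃) : IsRefl B g₂ := by
  have R₁' := refl_shift B g₁ R₁ 1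
  intro B' hB'
  have hB'1 : B ((shiftFunctor D (1 : ℤ)).obj B') := B.le_shift (1 : ℤ) _ hB'
  constructor
  · intro u u' huu
    have hu : g₂ ≫ (u - u') = 0 := by
      have : g₂ ≫ u = g₂ ≫ u' := huu
      rw [Preadditive.comp_sub, this, sub_self]
    have h1 : T'.mor₁ ≫ (u - u') = 0 := by
      apply (R₁ B' hB').1
      change g₁ ≫ T'.mor₁ ≫ (u - u') = g₁ ≫ 0
      rw [← Category.assoc, ← c₁, Category.assoc, hu, comp_zero, comp_zero]
    obtain ⟨u₃, hu₃⟩ := Triangle.yoneda_exact₂ T' hT' (u - u') h1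
    have h2 : T.mor₂ ≫ (g₃ ≫ u₃) = 0 := by
      rw [← Category.assoc, c₂, Category.assoc, ← hu₃, hu]
    obtain ⟨w, hw⟩ := Triangle.yoneda_exact₃ T hT (g₃ ≫ u₃) h2
    obtain ⟨w', hw'⟩ := (R₁' B' hB').2 w
    have hw'' : (shiftFunctor D (1 : ℤ)).map g₁ ≫ w' = w := hw'
    have h3 : u₃ = T'.mor₃ ≫ w' := by
      apply (R₃ B' hB').1
      change g₃ ≫ u₃ = g₃ ≫ T'.mor₃ ≫ w'
      rw [hw, ← hw'', ← Category.assoc, c₃, Category.assoc]
    have h4 : u - u' = 0 := by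
      rw [hu₃, h3, comp_distTriang_mor_zero₂₃_assoc _ hT', zero_comp]
    exact sub_eq_zero.1 h4
  · intro v
    obtain ⟨v₁, hv₁⟩ := (R₁ B' hB').2 (T.mor₁ ≫ v)
    have hv₁' : g₁ ≫ v₁ = T.mor₁ ≫ v := hv₁
    have h1 : T'.mor₃ ≫ (shiftFunctor D (1 : ℤ)).map v₁ = 0 := by
      apply (R₃ _ hB'1).1
      change g₃ ≫ T'.mor₃ ≫ (shiftFunctor D (1 : ℤ)).map v₁ = g₃ ≫ 0
      rw [← Category.assoc, ← c₃, Category.assoc, ← Functor.map_comp, hv₁', Functor.map_comp,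
        comp_distTriang_mor_zero₃₁_assoc _ hT, zero_comp, comp_zero]
    obtain ⟨w, hw⟩ : ∃ w : (shiftFunctor D (1 : ℤ)).obj T'.obj₂ ⟶ (shiftFunctor D (1 : ℤ)).obj B',
        (shiftFunctor D (1 : ℤ)).map v₁ = (-(shiftFunctor D (1 : ℤ)).map T'.mor₁) ≫ w :=
      Triangle.yoneda_exact₃ _ (rot_of_distTriang _ hT') ((shiftFunctor D (1 : ℤ)).map v₁) h1
    obtain ⟨w', rfl⟩ : ∃ w' : T'.obj₂ ⟶ B', (shiftFunctor D (1 : ℤ)).map w' = w :=
      (shiftFunctor D (1 : ℤ)).map_surjective w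
    have hv₁i : v₁ = T'.mor₁ ≫ (-w') := by
      apply (shiftFunctor D (1 : ℤ)).map_injective
      rw [hw, Preadditive.comp_neg, Functor.map_neg, Functor.map_comp, Preadditive.neg_comp]
    have h2 : T.mor₁ ≫ (v - g₂ ≫ (-w')) = 0 := by
      rw [Preadditive.comp_sub, ← Category.assoc, c₁, Category.assoc, ← hv₁i, hv₁', sub_self]
    obtain ⟨t, ht⟩ := Triangle.yoneda_exact₂ T hT _ h2
    obtain ⟨t', ht'⟩ := (R₃ B' hB').2 t
    have ht'' : g₃ ≫ t' = t := ht'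
    refine ⟨-w' + T'.mor₂ ≫ t', ?_⟩
    change g₂ ≫ (-w' + T'.mor₂ ≫ t') = v
    rw [Preadditive.comp_add, ← Category.assoc g₂, ← c₂, Category.assoc, ht'', ← ht]
    abel

theorem pr_isTriangulated : (Pr B).IsTriangulated := by
  have : (Pr B).ContainsZero := by
    obtain ⟨Z, hZ, hBZ⟩ := B.exists_prop_of_containsZero
    refine ⟨⟨Z, hZ, pr_of_refl B (𝟙 Z) hBZ ?_⟩⟩
    intro B' _
    have : (fun u : Z ⟶ B' => 𝟙 Z ≫ u) = id := by
      funext u; exact Category.id_comp u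
    rw [this]
    exact Function.bijective_id
  have : (Pr B).IsStableUnderShift ℤ := by
    refine ⟨fun n => ⟨?_⟩⟩
    rintro X ⟨A, Y, f, g, h, hT, hY, hA⟩
    exact pr_of_refl B ((shiftFunctor D n).map g) (B.le_shift n _ hY)
      (refl_shift B g (refl_of_tri B f g h hT hA) n)
  have : (Pr B).IsTriangulatedClosed₂ := by
    refine ⟨?_⟩
    rintro T hT ⟨A₁, Y₁, f₁, g₁, h₁, hT₁, hY₁, hA₁⟩ ⟨A₃, Y₃, f₃, g₃, h₃, hT₃, hY₃, hA₃⟩
    apply ObjectProperty.le_isoClosure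
    have R₁ := refl_of_tri B f₁ g₁ h₁ hT₁ hA₁
    have R₃ := refl_of_tri B f₃ g₃ h₃ hT₃ hA₃
    have hY₁' : B ((shiftFunctor D (1 : ℤ)).obj Y₁) := B.le_shift (1 : ℤ) _ hY₁
    obtain ⟨δ, hδ⟩ := (R₃ _ hY₁').2 (T.mor₃ ≫ (shiftFunctor D (1 : ℤ)).map g₁)
    have hδ' : g₃ ≫ δ = T.mor₃ ≫ (shiftFunctor D (1 : ℤ)).map g₁ := hδ
    obtain ⟨Y₂, hY₂, i, p, hT'⟩ := B.distinguished_cocone_triangle₂ δ hY₁ hY₃
    obtain ⟨g₂, c₁, c₂⟩ := complete_distinguished_triangle_morphism₂ T _ hT hT' g₁ g₃ hδ'.symm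
    exact pr_of_refl B g₂ hY₂ (refl_mid B T _ hT hT' g₁ g₂ g₃ c₁ c₂ hδ'.symm R₁ R₃)
  exact {}

end aux

open CategoryTheory.Pretriangulated in
/-- Let D be a triangulated category and B a full triangulated subcategory. Let P(X) be the property:
there is a distinguished triangle A → X → B → A⟦1⟧ with B in B and A in ^⊥B. Then P satisfies
two-out-of-three in distinguished triangles, i.e. it is stable under all shifts and closed under
extensions (a triangulated object property). -/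
theorem result {D : Type u} [Category.{v} D] [Preadditive D] [HasZeroObject D] [HasShift D ℤ]
    [∀ n : ℤ, (shiftFunctor D n).Additive] [Pretriangulated D] [IsTriangulated D]
    (B : ObjectProperty D) [B.IsTriangulated] :
    ObjectProperty.IsTriangulated (fun X : D => ∃ (A Y : D) (f : A ⟶ X) (g : X ⟶ Y) (h : Y ⟶ (shiftFunctor D (1 : ℤ)).obj A),
      Triangle.mk f g h ∈ distinguishedTriangles ∧ B Y ∧ B.leftOrthogonal A) := by
  exact pr_isTriangulated B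

end Groth.Agent.S6607
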