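import Groth.Statements.S6611
import Mathlib.Algebra.Homology.HomotopyCategory.KInjective
import Mathlib.Algebra.Homology.HomologySequenceLemmas
import Mathlib.Algebra.Homology.HomologicalComplexAbelian
-- import your own Groth.Agent.* helpers here

set_option autoImplicit false
universe v u
open CategoryTheory CategoryTheory.Limits
open CohDer

namespace Groth.Agent.S6611

open CochainComplex HomComplex

/-- Let A be an abelian category, α : K ⟶ L a quasi-isomorphism of cochain complexes which is injective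
in every degree, I a bounded below complex of injective objects and γ : K ⟶ I a morphism. Then there
is a morphism β : L ⟶ I with α ≫ β = γ. -/
theorem result {A : Type u} [Category.{v} A] [Abelian A]
    (K L I : CochainComplex A ℤ) (α : K ⟶ L) [QuasiIso α] (hα : ∀ n : ℤ, Mono (α.f n))
    (a : ℤ) [I.IsStrictlyGE a] (hI : ∀ n : ℤ, Injective (I.X n)) (γ : K ⟶ I) :
    ∃ β : L ⟶ I, α ≫ β = γ := by
  let π : L ⟶ cokernel α := cokernel.π α
  let S : ShortComplex (CochainComplex A ℤ) := ShortComplex.mk α π (cokernel.condition α)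
  have hmono : Mono α := HomologicalComplex.mono_of_mono_f _ hα
  have hS : S.ShortExact :=
    ShortComplex.ShortExact.mk' (ShortComplex.exact_cokernel α) hmono
      (inferInstanceAs (Epi (cokernel.π α)))
  have hSi := (HomologicalComplex.shortExact_iff_degreewise_shortExact S).1 hS
  have hC : (cokernel α).Acyclic := hS.acyclic_X₃ (inferInstanceAs (QuasiIso α))
  haveI : I.IsKInjective := CochainComplex.isKInjective_of_injective I a
  haveI : ∀ p, Epi (S.map (HomologicalComplex.eval A (ComplexShape.up ℤ) p)).g := fun p => (hSi p).epi_g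
  haveI : ∀ p, Epi (π.f p) := fun p => (hSi p).epi_g
  -- degreewise extension
  let β₀ : Cochain L I 0 := Cochain.ofHoms (fun p => Injective.factorThru (γ.f p) (α.f p))
  have hβ₀ : (Cochain.ofHom α).comp β₀ (add_zero 0) = Cochain.ofHom γ := by
    ext p
    simp [β₀, Cochain.ofHom]
  let u : Cochain L I 1 := δ 0 1 β₀
  have hu : (Cochain.ofHom α).comp u (zero_add 1) = 0 := by
    rw [← δ_ofHom_comp, hβ₀, δ_ofHom]
  have huv : ∀ (p q : ℤ) (hpq : p + 1 = q), α.f p ≫ u.v p q hpq = 0 := by
    intro p q hpq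
    have := Cochain.congr_v hu p q hpq
    simpa using this
  let ū : Cochain (cokernel α) I 1 :=
    Cochain.mk (fun p q hpq => (hSi p).exact.desc (u.v p q hpq) (huv p q hpq))
  have hū : (Cochain.ofHom π).comp ū (zero_add 1) = u := by
    ext p q hpq
    simp only [Cochain.zero_cochain_comp_v, Cochain.ofHom_v, ū, Cochain.mk_v]
    exact (hSi p).exact.g_desc _ _
  have hcoc : δ 1 2 ū = 0 := by
    have h1 : (Cochain.ofHom π).comp (δ 1 2 ū) (zero_add 2) = 0 := by
      rw [← δ_ofHom_comp, hū]
      exact δ_δ 0 1 2 β₀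
    ext p q hpq
    have := Cochain.congr_v h1 p q hpq
    simp only [Cochain.zero_cochain_comp_v, Cochain.ofHom_v, Cochain.zero_v] at this
    rw [← cancel_epi (π.f p), this, Cochain.zero_v, comp_zero]
  obtain ⟨ε, hε⟩ := IsKInjective.eq_δ_of_cocycle (Cocycle.mk ū 2 rfl hcoc) hC 0 (zero_add 1)
  have hε' : δ 0 1 ε = ū := hε
  let βc : Cochain L I 0 := β₀ - (Cochain.ofHom π).comp ε (add_zero 0)
  have hβc : δ 0 1 βc = 0 := by
    rw [δ_sub, δ_ofHom_comp, hε', hū]
    exact sub_self _
  refine ⟨Cocycle.homOf (Cocycle.mk βc 1 (zero_add 1) hβc), ?_⟩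
  apply Cochain.ofHom_injective
  rw [Cochain.ofHom_comp, Cocycle.cochain_ofHom_homOf_eq_coe]
  change (Cochain.ofHom α).comp (β₀ - (Cochain.ofHom π).comp ε (add_zero 0)) (add_zero 0) = _
  rw [Cochain.comp_sub, hβ₀, ← Cochain.comp_assoc_of_first_is_zero_cochain, ← Cochain.ofHom_comp,
    cokernel.condition, Cochain.ofHom_zero, Cochain.zero_comp, sub_zero]

end Groth.Agent.S6611
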