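import Groth.Statements.S6612
-- import your own Groth.Agent.* helpers here

set_option autoImplicit false
universe v u
open CategoryTheory CategoryTheory.Limits
open CohDer

namespace Groth.Agent.S6612

theorem aux {V : Type u} [Category.{v} V] [Preadditive V]
    {A B C B₁ B₃ : CochainComplex V ℤ} (f : A ⟶ B) (g : B ⟶ C)
    (r : ∀ n, B.X n ⟶ A.X n) (s : ∀ n, C.X n ⟶ B.X n)
    (fr : ∀ n, f.f n ≫ r n = 𝟙 _) (sg : ∀ n, s n ≫ g.f n = 𝟙 _)
    (hid : ∀ n, r n ≫ f.f n + g.f n ≫ s n = 𝟙 _)
    (b : B₁ ⟶ B) (b' : B ⟶ B₃)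
    (H : Homotopy (b ≫ g) 0) (H' : Homotopy (f ≫ b') 0) :
    Nonempty (Homotopy (b ≫ b') 0) := by
  let k : ∀ i j, B₁.X i ⟶ B.X j := fun i j => H.hom i j ≫ s j
  have hk : ∀ i j, ¬ (ComplexShape.up ℤ).Rel j i → k i j = 0 := by
    intro i j hij
    simp only [k, H.zero i j hij, zero_comp]
  let N : B₁ ⟶ B := Homotopy.nullHomotopicMap k
  have HN : Homotopy N 0 := Homotopy.nullHomotopy k hk
  have hNg : N ≫ g = b ≫ g := by
    ext i
    have h1 := H.comm i
    rw [HomologicalComplex.zero_f_apply, add_zero,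
      dNext_eq H.hom (show (ComplexShape.up ℤ).Rel i (i + 1) from rfl),
      prevD_eq H.hom (show (ComplexShape.up ℤ).Rel (i - 1) i by simp)] at h1
    rw [h1]
    change (dNext i k + prevD i k) ≫ g.f i = _
    rw [dNext_eq k (show (ComplexShape.up ℤ).Rel i (i + 1) from rfl),
      prevD_eq k (show (ComplexShape.up ℤ).Rel (i - 1) i by simp)]
    simp only [k, Preadditive.add_comp, Category.assoc, sg, Category.comp_id]
    rw [← g.comm, ← Category.assoc (s (i - 1)), sg, Category.id_comp]
  let b₁ : B₁ ⟶ B := b - N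
  have hb₁g : ∀ i, b₁.f i ≫ g.f i = 0 := by
    intro i
    have := congrArg (fun φ => φ.f i) hNg
    simp only [HomologicalComplex.comp_f] at this
    simp only [b₁, HomologicalComplex.sub_f_apply, Preadditive.sub_comp, this, sub_self]
  have hb₁ : ∀ i, (b₁.f i ≫ r i) ≫ f.f i = b₁.f i := by
    intro i
    have h2 : b₁.f i = b₁.f i ≫ (r i ≫ f.f i + g.f i ≫ s i) := by rw [hid, Category.comp_id]
    rw [Preadditive.comp_add, ← Category.assoc _ (g.f i), hb₁g, zero_comp, add_zero] at h2
    rw [Category.assoc]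
    exact h2.symm
  have hmono : ∀ j {W : V} (x y : W ⟶ A.X j), x ≫ f.f j = y ≫ f.f j → x = y := by
    intro j W x y h
    have := congrArg (fun z => z ≫ r j) h
    simpa only [Category.assoc, fr, Category.comp_id] using this
  let a : B₁ ⟶ A :=
    { f := fun i => b₁.f i ≫ r i
      comm' := by
        intro i j hij
        apply hmono j
        have e1 : (B₁.d i j ≫ b₁.f j ≫ r j) ≫ f.f j = B₁.d i j ≫ ((b₁.f j ≫ r j) ≫ f.f j) := by
          simp only [Category.assoc]
        have e2 : ((b₁.f i ≫ r i) ≫ A.d i j) ≫ f.f j = ((b₁.f i ≫ r i) ≫ f.f i) ≫ B.d i j := by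
          simp only [Category.assoc, f.comm]
        rw [e1, e2, hb₁ j, hb₁ i, b₁.comm] }
  have hab : b₁ = a ≫ f := by
    ext i
    exact (hb₁ i).symm
  have hbN : b = a ≫ f + N := by
    rw [← hab]
    simp only [b₁, sub_add_cancel]
  refine ⟨(Homotopy.ofEq ?_).trans (((H'.compLeft a).add (HN.compRight b')).trans (Homotopy.ofEq ?_))⟩
  · rw [hbN, Preadditive.add_comp, Category.assoc]
  · rw [comp_zero, zero_comp, add_zero]

/-- Let A be an additive category and 0 → A₂ → B₂ → C₂ → 0 a termwise split exact sequence of complexes.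
Given a chain map b from a complex B₁ into B₂ and a chain map b' from B₂ into a complex B₃, suppose
that both composites b ≫ (B₂ → C₂) and (A₂ → B₂) ≫ b' are null-homotopic. Then b ≫ b' is homotopic
to zero. (The published statement has three termwise split sequences Aᵢ → Bᵢ → Cᵢ and asks both
squares of each diagram to commute up to homotopy; this row keeps only the middle sequence and the
two conditions at B₂ that the argument uses, so it is more general.) -/
theorem result {V : Type u} [Category.{v} V] [Preadditive V] [HasBinaryBiproducts V]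
    (S : ShortComplex (CochainComplex V ℤ))
    (σ : ∀ n : ℤ, (S.map (HomologicalComplex.eval V (ComplexShape.up ℤ) n)).Splitting)
    {B₁ B₃ : CochainComplex V ℤ} (b : B₁ ⟶ S.X₂) (b' : S.X₂ ⟶ B₃)
    (hb : Nonempty (Homotopy (b ≫ S.g) 0)) (hb' : Nonempty (Homotopy (S.f ≫ b') 0)) :
    Nonempty (Homotopy (b ≫ b') 0) := by
  exact aux S.f S.g (fun n => (σ n).r) (fun n => (σ n).s) (fun n => (σ n).f_r) (fun n => (σ n).s_g) (fun n => (σ n).id) b b' hb.some hb'.some

end Groth.Agent.S6612
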