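import Groth.Statements.S6613
import Mathlib.CategoryTheory.Localization.LocalizerMorphism

set_option autoImplicit false
universe v u v' u'
open CategoryTheory CategoryTheory.Limits
open CohDer

namespace Groth.Agent.S6613

section General

variable {C : Type*} [Category C] (P : ObjectProperty C) (W : MorphismProperty C)
  [W.HasRightCalculusOfFractions]
  (hP : ∀ X : C, ∃ (X' : C) (s : X' ⟶ X), P X' ∧ W s)

include hP in
lemma hasRightCalculusOfFractions_inverseImage :
    (W.inverseImage P.ι).HasRightCalculusOfFractions where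
  exists_rightFraction X Y φ := by
    obtain ⟨ψ, hψ⟩ := (MorphismProperty.LeftFraction.mk (W := W)
      (P.ι.map φ.f) (P.ι.map φ.s) φ.hs).exists_rightFraction
    obtain ⟨Z, t, hZ, ht⟩ := hP ψ.X'
    refine ⟨MorphismProperty.RightFraction.mk (X' := ⟨Z, hZ⟩)
      (ObjectProperty.homMk (t ≫ ψ.s)) (W.comp_mem _ _ ht ψ.hs)
      (ObjectProperty.homMk (t ≫ ψ.f)), ?_⟩
    ext
    dsimp at hψ ⊢
    simp only [Category.assoc, hψ]
  ext X Y Y' f₁ f₂ s hs eq := by
    obtain ⟨Z, t, ht, fac⟩ := MorphismProperty.HasRightCalculusOfFractions.ext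
      (W := W) f₁.hom f₂.hom s.hom hs (by
        have := congrArg (fun q => q.hom) eq
        simpa using this)
    obtain ⟨Z', u, hZ', hu⟩ := hP Z
    refine ⟨⟨Z', hZ'⟩, ObjectProperty.homMk (u ≫ t), W.comp_mem _ _ hu ht, ?_⟩
    ext
    dsimp
    simp only [Category.assoc, fac]

/-- the inclusion as a localizer morphism -/
def locMor : LocalizerMorphism (W.inverseImage P.ι) W where
  functor := P.ι
  map := le_rfl

variable {P W}

@[simp] lemma locMor_functor_obj (X : P.FullSubcategory) :
    (locMor P W).functor.obj X = X.obj := rfl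

@[simp] lemma locMor_functor_map {X Y : P.FullSubcategory} (f : X ⟶ Y) :
    (locMor P W).functor.map f = f.hom := rfl

/-- image of a right fraction -/
abbrev img {X₁ X₂ : P.FullSubcategory} (χ : (W.inverseImage P.ι).RightFraction X₁ X₂) :
    W.RightFraction ((locMor P W).functor.obj X₁) ((locMor P W).functor.obj X₂) :=
  ⟨(locMor P W).functor.map χ.s, χ.hs, (locMor P W).functor.map χ.f⟩

variable {D₁ D₂ : Type*} [Category D₁] [Category D₂]
  (L₁ : P.FullSubcategory ⥤ D₁) (L₂ : C ⥤ D₂)
  [L₁.IsLocalization (W.inverseImage P.ι)] [L₂.IsLocalization W]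

lemma map_map_eq {X₁ X₂ : P.FullSubcategory}
    (χ : (W.inverseImage P.ι).RightFraction X₁ X₂) :
    ((locMor P W).localizedFunctor L₁ L₂).map (χ.map L₁ (Localization.inverts _ _)) =
      (CatCommSq.iso (locMor P W).functor L₁ L₂ ((locMor P W).localizedFunctor L₁ L₂)).inv.app X₁ ≫
        (img χ).map L₂ (Localization.inverts _ _) ≫
      (CatCommSq.iso (locMor P W).functor L₁ L₂ ((locMor P W).localizedFunctor L₁ L₂)).hom.app X₂ := by
  set F := (locMor P W).localizedFunctor L₁ L₂
  set e := CatCommSq.iso (locMor P W).functor L₁ L₂ F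
  have : IsIso (L₁.map χ.s) := Localization.inverts L₁ _ _ χ.hs
  rw [← cancel_epi (F.map (L₁.map χ.s)), ← Functor.map_comp,
    MorphismProperty.RightFraction.map_s_comp_map]
  have h1 := e.inv.naturality χ.s
  have h2 := e.hom.naturality χ.f
  simp only [Functor.comp_map] at h1 h2
  rw [reassoc_of% h1]
  have h3 : L₂.map ((locMor P W).functor.map χ.s) ≫ (img χ).map L₂ (Localization.inverts _ _) =
      L₂.map ((locMor P W).functor.map χ.f) :=
    (img χ).map_s_comp_map L₂ (Localization.inverts _ _)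
  rw [reassoc_of% h3, h2, Iso.inv_hom_id_app_assoc]

include hP

lemma localizedFunctor_full : ((locMor P W).localizedFunctor L₁ L₂).Full := by
  have := hasRightCalculusOfFractions_inverseImage P W hP
  set F := (locMor P W).localizedFunctor L₁ L₂
  set e := CatCommSq.iso (locMor P W).functor L₁ L₂ F
  have : L₁.EssSurj := Localization.essSurj L₁ (W.inverseImage P.ι)
  refine F.full_of_comp_essSurj L₁ (fun X₁ X₂ φ ↦ ?_)
  obtain ⟨φ', hφ'⟩ : ∃ φ', φ = e.inv.app X₁ ≫ φ' ≫ e.hom.app X₂ :=
    ⟨e.hom.app X₁ ≫ φ ≫ e.inv.app X₂, by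
      simp [dsimp% e.inv_hom_id_app_assoc, dsimp% e.inv_hom_id_app]⟩
  obtain ⟨f, hf⟩ := Localization.exists_rightFraction L₂ W φ'
  obtain ⟨Z, t, hZ, ht⟩ := hP f.X'
  let g : (W.inverseImage P.ι).RightFraction X₁ X₂ :=
    { X' := ⟨Z, hZ⟩
      s := ObjectProperty.homMk (t ≫ f.s)
      hs := W.comp_mem _ _ ht f.hs
      f := ObjectProperty.homMk (t ≫ f.f) }
  refine ⟨g.map L₁ (Localization.inverts _ _), ?_⟩
  rw [map_map_eq L₁ L₂ g, hφ', hf]
  have : (img g).map L₂ (Localization.inverts _ _) = f.map L₂ (Localization.inverts _ _) := by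
    rw [MorphismProperty.RightFraction.map_eq_iff]
    exact ⟨Z, 𝟙 _, t, by simp [g], by simp [g], by
      simpa [g] using W.comp_mem _ _ ht f.hs⟩
  rw [this]

lemma localizedFunctor_faithful : ((locMor P W).localizedFunctor L₁ L₂).Faithful := by
  have := hasRightCalculusOfFractions_inverseImage P W hP
  set F := (locMor P W).localizedFunctor L₁ L₂
  set e := CatCommSq.iso (locMor P W).functor L₁ L₂ F
  have : L₁.EssSurj := Localization.essSurj L₁ (W.inverseImage P.ι)
  refine F.faithful_of_comp_essSurj L₁ (fun X₁ X₂ f g hfg ↦ ?_)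
  obtain ⟨φ, rfl⟩ := Localization.exists_rightFraction L₁ (W.inverseImage P.ι) f
  obtain ⟨ψ, rfl⟩ := Localization.exists_rightFraction L₁ (W.inverseImage P.ι) g
  rw [map_map_eq L₁ L₂ φ, map_map_eq L₁ L₂ ψ] at hfg
  have h : (img φ).map L₂ (Localization.inverts _ _) = (img ψ).map L₂ (Localization.inverts _ _) := by
    rw [← cancel_epi (e.inv.app X₁), ← cancel_mono (e.hom.app X₂)]
    simpa only [Category.assoc] using hfg
  rw [MorphismProperty.RightFraction.map_eq_iff] at h ⊢
  obtain ⟨Z, t₁, t₂, hs, hf, ht⟩ := h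
  obtain ⟨Z', u, hZ', hu⟩ := hP Z
  have hs' : t₁ ≫ φ.s.hom = t₂ ≫ ψ.s.hom := hs
  have hf' : t₁ ≫ φ.f.hom = t₂ ≫ ψ.f.hom := hf
  have ht' : W (t₁ ≫ φ.s.hom) := ht
  refine ⟨⟨Z', hZ'⟩, ObjectProperty.homMk (u ≫ t₁), ObjectProperty.homMk (u ≫ t₂), ?_, ?_, ?_⟩
  · ext
    change (u ≫ t₁) ≫ φ.s.hom = (u ≫ t₂) ≫ ψ.s.hom
    rw [Category.assoc, Category.assoc, hs']
  · ext
    change (u ≫ t₁) ≫ φ.f.hom = (u ≫ t₂) ≫ ψ.f.hom
    rw [Category.assoc, Category.assoc, hf']
  · change W ((u ≫ t₁) ≫ φ.s.hom)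
    rw [Category.assoc]
    exact W.comp_mem _ _ hu ht'

lemma isLocalizedFullyFaithful : (locMor P W).IsLocalizedFullyFaithful := by
  have := hasRightCalculusOfFractions_inverseImage P W hP
  have := localizedFunctor_full hP (W.inverseImage P.ι).Q W.Q
  have := localizedFunctor_faithful hP (W.inverseImage P.ι).Q W.Q
  exact ⟨⟨Functor.FullyFaithful.ofFullyFaithful _⟩⟩

lemma comp_isLocalization {E : Type*} [Category E] (Q : C ⥤ E) [Q.IsLocalization W] :
    (P.ι ⋙ Q).IsLocalization (W.inverseImage P.ι) := by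
  have := isLocalizedFullyFaithful hP
  have : (P.ι ⋙ Q).EssSurj := by
    have : Q.EssSurj := Localization.essSurj Q W
    refine ⟨fun Y => ?_⟩
    obtain ⟨Z, t, hZ, ht⟩ := hP (Q.objPreimage Y)
    exact ⟨⟨Z, hZ⟩, ⟨Localization.isoOfHom Q W t ht ≪≫ Q.objObjPreimageIso Y⟩⟩
  exact (locMor P W).isLocalization_of_isLocalizedFullyFaithful (L₂ := Q) (L₁ := P.ι ⋙ Q)
    (F := 𝟭 E) (Functor.rightUnitor _).symm

end General

/-- Let D be a pretriangulated category, D' ⊂ D a full pretriangulated subcategory, S a saturated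
multiplicative system of D compatible with the triangulated structure and Q : D → S⁻¹D the
localization. Assume every X in D admits some s : X' ⟶ X in S with X' in D'. Then, with S' = S ∩
Arrows(D'), the functor (S')⁻¹D' → S⁻¹D is an equivalence; equivalently the composite D' → D → S⁻¹D
is a localization of D' at S'. (The published result additionally claims that the intersection S' =
S ∩ Arrows(D') forms a multiplicative system on D' which is saturated and respects the triangulated
structure of D'; this row asserts only the localization property.) -/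
theorem result {D : Type u} [Category.{v} D] [Preadditive D] [HasZeroObject D] [HasShift D ℤ]
    [∀ n : ℤ, (shiftFunctor D n).Additive] [Pretriangulated D]
    (P : ObjectProperty D) [P.IsTriangulated]
    (S : MorphismProperty D) [S.HasLeftCalculusOfFractions] [S.HasRightCalculusOfFractions] [S.IsCompatibleWithTriangulation]
    {E : Type u'} [Category.{v'} E] (Q : D ⥤ E) [Q.IsLocalization S]
    (hsat : ∀ {X Y : D} (f : X ⟶ Y), IsIso (Q.map f) → S f)
    (hP : ∀ X : D, ∃ (X' : D) (s : X' ⟶ X), P X' ∧ S s) :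
    (P.ι ⋙ Q).IsLocalization (S.inverseImage P.ι) := by
  exact comp_isLocalization hP Q

end Groth.Agent.S6613
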