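import Groth.Statements.S6614
import Groth.Agent.Lib.Helper13.ProSys

set_option autoImplicit false
universe v u
open CategoryTheory CategoryTheory.Limits Opposite
open CohDer

namespace Groth.Agent.S6614

section Helpers
open CategoryTheory.Pretriangulated Groth.Agent.Lib.Helper13.ProSys

variable {D : Type u} [Category.{v} D] [Preadditive D] [HasZeroObject D] [HasShift D ℤ]
    [∀ n : ℤ, (shiftFunctor D n).Additive] [Pretriangulated D]

/-- A split monomorphism in a pretriangulated category is the inclusion of a direct summand,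
with prescribed retraction. -/
lemma exists_iso_biprod_of_split {A X : D} (c : A ⟶ X) (s : X ⟶ A) (hcs : c ≫ s = 𝟙 A) :
    ∃ (Z : D) (e : X ≅ A ⊞ Z), c ≫ e.hom = biprod.inl ∧ e.hom ≫ biprod.fst = s := by
  obtain ⟨Z, q, w, hT⟩ := distinguished_cocone_triangle c
  have hmono : Mono c := SplitMono.mono ⟨s, hcs⟩
  have hw : w = 0 := Triangle.mor₃_eq_zero_of_mono₁ _ hT hmono
  have hcq : c ≫ q = 0 := comp_distTriang_mor_zero₁₂ _ hT
  have hepi : Epi q := Triangle.epi₂ _ hT hw
  obtain ⟨r, hr⟩ : ∃ r : Z ⟶ X, 𝟙 X - s ≫ c = q ≫ r :=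
    Triangle.yoneda_exact₂ _ hT (𝟙 X - s ≫ c) (by
      show c ≫ (𝟙 X - s ≫ c) = 0
      rw [Preadditive.comp_sub, Category.comp_id, ← Category.assoc, hcs, Category.id_comp,
        sub_self])
  have hrq : r ≫ q = 𝟙 Z := by
    rw [← cancel_epi q, ← Category.assoc, ← hr, Preadditive.sub_comp, Category.id_comp,
      Category.assoc, hcq, comp_zero, sub_zero, Category.comp_id]
  have htot : s ≫ c + q ≫ r = 𝟙 X := by rw [← hr]; abel
  have hrs : r ≫ s = 0 := by
    have h1 : r ≫ (s ≫ c + q ≫ r) = r := by rw [htot, Category.comp_id]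
    rw [Preadditive.comp_add, ← Category.assoc r q r, hrq, Category.id_comp, add_eq_right,
      ← Category.assoc] at h1
    rw [← cancel_mono c, zero_comp]
    exact h1
  refine ⟨Z, ⟨biprod.lift s q, biprod.desc c r, ?_, ?_⟩, ?_, ?_⟩
  · rw [biprod.lift_desc]; exact htot
  · apply biprod.hom_ext'
    · apply biprod.hom_ext
      · simp [hcs]
      · simp [hcq]
    · apply biprod.hom_ext
      · simp [hrs]
      · simp [hrq]
  · apply biprod.hom_ext
    · simp [hcs]
    · simp [hcq]
  · exact biprod.lift_fst _ _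

end Helpers

/-- Let D be a triangulated category and (A_n) an ℕ-indexed inverse system of D which is essentially
constant with value A relative to the cone c. Then there are an index i and direct sum
decompositions A_{i+j} ≅ A ⊞ Z_j (j ≥ 0) such that (a) c_{i+j} is the inclusion of the summand A and
the transition maps A_{i+k} → A_{i+j} are 𝟙_A ⊕ (Z_k → Z_j), and (b) for every j there is k ≥ j with
Z_k → Z_j zero. (The published statement is an equivalence whose converse is given without proof;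
this row states only the forward implication.) -/
theorem result {D : Type u} [Category.{v} D] [Preadditive D] [HasZeroObject D] [HasShift D ℤ]
    [∀ n : ℤ, (shiftFunctor D n).Additive] [Pretriangulated D] [IsTriangulated D]
    (X : ARSys.PS D) (A : D) (c : (Functor.const ℕᵒᵖ).obj A ⟶ X) (hX : DerCA.IsEssConstant X A c) :
    ∃ (i : ℕ) (Z : ℕ → D) (e : ∀ j : ℕ, X.obj (op (i + j)) ≅ A ⊞ Z j) (z : ∀ j k : ℕ, j ≤ k → (Z k ⟶ Z j)),
      (∀ j : ℕ, c.app (op (i + j)) ≫ (e j).hom = biprod.inl) ∧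
      (∀ (j k : ℕ) (hjk : j ≤ k), (e k).inv ≫ ARSys.tr X (Nat.add_le_add_left hjk i) = biprod.map (𝟙 A) (z j k hjk) ≫ (e j).inv) ∧
      (∀ j : ℕ, ∃ (k : ℕ) (hjk : j ≤ k), z j k hjk = 0) := by
  obtain ⟨i, s, hcs, hX⟩ := hX
  let cc : ∀ n : ℕ, A ⟶ X.obj (op n) := fun n => c.app (op n)
  have hcc : ∀ {n m : ℕ} (h : n ≤ m), cc m ≫ ARSys.tr X h = cc n :=
    fun h => Groth.Agent.Lib.Helper13.ProSys.cone_tr c h
  replace hcs : cc i ≫ s = 𝟙 A := hcs
  replace hX : ∀ (j : ℕ), ∃ k, ∃ (hi : i ≤ k) (hj : j ≤ k),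
      ARSys.tr X hj = ARSys.tr X hi ≫ s ≫ cc j := hX
  have hsplit : ∀ j : ℕ, cc (i + j) ≫ (ARSys.tr X (Nat.le_add_right i j) ≫ s) = 𝟙 A := by
    intro j
    rw [← Category.assoc, hcc, hcs]
  choose Z e he1 he2 using fun j => exists_iso_biprod_of_split _ _ (hsplit j)
  have hinl : ∀ j, biprod.inl ≫ (e j).inv = cc (i + j) := by
    intro j
    rw [← he1 j, Category.assoc, Iso.hom_inv_id, Category.comp_id]
  refine ⟨i, Z, e, fun j k hjk => biprod.inr ≫ (e k).inv ≫
    ARSys.tr X (Nat.add_le_add_left hjk i) ≫ (e j).hom ≫ biprod.snd, he1, ?_, ?_⟩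
  · intro j k hjk
    rw [← cancel_mono (e j).hom, Category.assoc, Category.assoc, Iso.inv_hom_id, Category.comp_id]
    apply biprod.hom_ext'
    · rw [biprod.inl_map, Category.id_comp, ← Category.assoc, hinl k, ← Category.assoc, hcc, he1 j]
    · rw [biprod.inr_map]
      apply biprod.hom_ext
      · have h1 : ARSys.tr X (Nat.add_le_add_left hjk i) ≫ (e j).hom ≫ biprod.fst =
            (e k).hom ≫ biprod.fst := by
          rw [he2 j, he2 k, ← Category.assoc, Groth.Agent.Lib.Helper13.ProSys.tr_comp]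
        simp only [Category.assoc]
        rw [biprod.inr_fst, comp_zero, comp_zero, comp_zero, comp_zero, comp_zero,
          h1, Iso.inv_hom_id_assoc, biprod.inr_fst]
      · simp only [Category.assoc, biprod.inr_snd, Category.comp_id]
  · intro j
    obtain ⟨k', hi, hj, hk'⟩ := hX (i + j)
    obtain ⟨k, rfl⟩ := Nat.exists_eq_add_of_le hi
    have hjk : j ≤ k := by omega
    refine ⟨k, hjk, ?_⟩
    have h2 : ARSys.tr X (Nat.add_le_add_left hjk i) = ARSys.tr X hj := rfl
    show biprod.inr ≫ (e k).inv ≫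
      ARSys.tr X (Nat.add_le_add_left hjk i) ≫ (e j).hom ≫ biprod.snd = 0
    rw [h2, hk']
    simp only [Category.assoc]
    rw [reassoc_of% (he1 j), biprod.inl_snd, comp_zero, comp_zero, comp_zero, comp_zero]

end Groth.Agent.S6614
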