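import Groth.Statements.S6616
import Mathlib
import Groth.Agent.Lib.Helper86.ClassFactor

set_option autoImplicit false
universe v u
open CategoryTheory CategoryTheory.Limits
open CohDer

namespace Groth.Agent.S6616

open Groth.Agent.Lib.Helper86.ClassFactor

section aux

variable {A : Type u} [Category.{v} A] [Abelian A]

/-- The transition map `τ_{≥ a} K ⟶ τ_{≥ b} K` for `a ≤ b`. -/
noncomputable def truncGETrans (K : CochainComplex A ℤ) (a b : ℤ) (h : a ≤ b) :
    K.truncGE a ⟶ K.truncGE b :=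
  haveI : (K.truncGE b).IsStrictlyGE a := (K.truncGE b).isStrictlyGE_of_ge a b h
  CochainComplex.truncGEMap (K.πTruncGE b) a ≫ inv ((K.truncGE b).πTruncGE a)

lemma π_truncGETrans (K : CochainComplex A ℤ) (a b : ℤ) (h : a ≤ b) :
    K.πTruncGE a ≫ truncGETrans K a b h = K.πTruncGE b := by
  haveI : (K.truncGE b).IsStrictlyGE a := (K.truncGE b).isStrictlyGE_of_ge a b h
  dsimp only [truncGETrans]
  rw [← Category.assoc, CochainComplex.πTruncGE_naturality, Category.assoc, IsIso.hom_inv_id,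
    Category.comp_id]

variable (I : ObjectProperty A) [ResClass I] (K : CochainComplex A ℤ)

/-- A stage of the construction. -/
structure Stage (n : ℕ) where
  Q : CochainComplex A ℤ
  π : K.truncGE (-(n : ℤ)) ⟶ Q
  qi : QuasiIso π
  mono : Mono π
  ge : Q.IsStrictlyGE (-(n : ℤ) - 1)
  prop : ∀ i, I (Q.X i)

lemma exists_stage_zero : Nonempty (Stage I K 0) := by
  haveI : (K.truncGE (-((0 : ℕ) : ℤ))).IsStrictlyGE (-1 + 1) := by
    have : (-((0 : ℕ) : ℤ)) = -1 + 1 := by simp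
    rw [← this]; infer_instance
  obtain ⟨Q, i, hi, hi', hP, hge⟩ :=
    exists_mono_quasiIso I (K.truncGE (-((0 : ℕ) : ℤ))) (-1) (-1 + 1) rfl
  refine ⟨⟨Q, i, hi', hi, ?_, hP⟩⟩
  have : (-((0 : ℕ) : ℤ) - 1) = -1 := by simp
  rw [this]; exact hge

variable {I K}

lemma exists_next {n : ℕ} (s : Stage I K n) :
    ∃ (s' : Stage I K (n + 1)) (p : s'.Q ⟶ s.Q),
      degreewiseEpiWithKernelIn I p ∧
      s'.π ≫ p = truncGETrans K (-((n + 1 : ℕ) : ℤ)) (-(n : ℤ)) (by push_cast; lia) ≫ s.π := by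
  haveI : (K.truncGE (-((n + 1 : ℕ) : ℤ))).IsStrictlyGE ((-((n + 1 : ℕ) : ℤ) - 1) + 1) := by
    have : (-((n + 1 : ℕ) : ℤ) - 1) + 1 = -((n + 1 : ℕ) : ℤ) := by ring
    rw [this]; infer_instance
  haveI := s.ge
  haveI : s.Q.IsStrictlyGE (-((n + 1 : ℕ) : ℤ) - 1) :=
    s.Q.isStrictlyGE_of_ge _ (-(n : ℤ) - 1) (by push_cast; lia)
  obtain ⟨Q', hQ', i, p, hi, hi', hp, fac⟩ := cm5a I
    (truncGETrans K (-((n + 1 : ℕ) : ℤ)) (-(n : ℤ)) (by push_cast; lia) ≫ s.π)
    (-((n + 1 : ℕ) : ℤ) - 1)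
  refine ⟨⟨Q', i, hi', hi, hQ', fun j => ?_⟩, p, hp, fac⟩
  exact (hp j).prop_src (s.prop j)

variable (I K)

/-- The sequence of stages. -/
noncomputable def seq : ∀ n : ℕ, Stage I K n
  | 0 => (exists_stage_zero I K).some
  | n + 1 => (exists_next (seq n)).choose

/-- The transition maps. -/
noncomputable def seqp (n : ℕ) : (seq I K (n + 1)).Q ⟶ (seq I K n).Q :=
  (exists_next (seq I K n)).choose_spec.choose

lemma seqp_spec (n : ℕ) :
    degreewiseEpiWithKernelIn I (seqp I K n) ∧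
      (seq I K (n + 1)).π ≫ seqp I K n =
        truncGETrans K (-((n + 1 : ℕ) : ℤ)) (-(n : ℤ)) (by push_cast; lia) ≫ (seq I K n).π :=
  (exists_next (seq I K n)).choose_spec.choose_spec

end aux

/-- Let I be a class of objects of an abelian category, closed under isomorphisms, containing 0, closed
under binary products, and such that every object is a subobject of an object of I. For any cochain
complex K there are bounded below complexes Iₙ (n ≥ 0) with terms in I, termwise injective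
quasi-isomorphisms πₙ : τ_{≥ -n}K ⟶ Iₙ and termwise split surjections pₙ : Iₙ₊₁ ⟶ Iₙ with termwise
kernels in I, such that K ⟶ τ_{≥ -(n+1)}K ⟶ Iₙ₊₁ ⟶ Iₙ equals K ⟶ τ_{≥ -n}K ⟶ Iₙ. (The published
system starts at τ_{≥ -1}K; this row starts at n = 0 with τ_{≥ 0}K. Closure of I under isomorphisms
is assumed so that closure under binary products has a meaning for a class of objects.) -/
theorem result {A : Type u} [Category.{v} A] [Abelian A] (I : ObjectProperty A) [I.IsClosedUnderIsomorphisms]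
    (hI0 : ∃ Z : A, IsZero Z ∧ I Z) (hIprod : ∀ X Y : A, I X → I Y → I (X ⊞ Y))
    (hI : ∀ X : A, ∃ (Y : A) (ι : X ⟶ Y), I Y ∧ Mono ι) (K : CochainComplex A ℤ) :
    ∃ (Q : ℕ → CochainComplex A ℤ) (p : ∀ n, Q (n + 1) ⟶ Q n) (π : ∀ n : ℕ, K.truncGE (-(n : ℤ)) ⟶ Q n),
      (∀ n, QuasiIso (π n) ∧ ∀ i, Mono ((π n).f i)) ∧
      (∀ n, ∃ a : ℤ, (Q n).IsStrictlyGE a) ∧ (∀ n i, I ((Q n).X i)) ∧
      (∀ n i, (∃ s : (Q n).X i ⟶ (Q (n + 1)).X i, s ≫ (p n).f i = 𝟙 _) ∧ I (kernel ((p n).f i))) ∧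
      (∀ n : ℕ, K.πTruncGE (-((n + 1 : ℕ) : ℤ)) ≫ π (n + 1) ≫ p n = K.πTruncGE (-(n : ℤ)) ≫ π n) := by
  haveI : ResClass I := ⟨fun e h => I.prop_of_iso e h, hI0, hIprod, hI⟩
  refine ⟨fun n => (seq I K n).Q, fun n => seqp I K n, fun n => (seq I K n).π, ?_, ?_, ?_, ?_, ?_⟩
  · intro n
    refine ⟨(seq I K n).qi, fun i => ?_⟩
    haveI := (seq I K n).mono
    infer_instance
  · intro n
    exact ⟨_, (seq I K n).ge⟩
  · intro n i
    exact (seq I K n).prop i
  · intro n i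
    exact ⟨((seqp_spec I K n).1 i).exists_section, ((seqp_spec I K n).1 i).prop_kernel⟩
  · intro n
    rw [(seqp_spec I K n).2, ← Category.assoc, π_truncGETrans]

end Groth.Agent.S6616
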