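import Groth.Statements.S6618
import Groth.Agent.Lib.Helper68.RightDerivedLES

set_option autoImplicit false
universe v v' u u'
open CategoryTheory CategoryTheory.Limits
open CohDer

namespace Groth.Agent.S6618

/-- Part (2): (3), in the case where A has enough injectives: let F : A ⥤ B be an additive functor
between abelian categories, A with enough injectives. Then R⁰F is left exact; moreover, F itself is
left exact exactly when the canonical comparison morphism from F to R⁰F is invertible. -/
theorem result {A : Type u} [Category.{v} A] [Abelian A] [EnoughInjectives A]
    {B : Type u'} [Category.{v'} B] [Abelian B] (F : A ⥤ B) [F.Additive] :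
    PreservesFiniteLimits (F.rightDerived 0) ∧ (IsIso F.toRightDerivedZero ↔ PreservesFiniteLimits F) := by
  have h0 : Limits.PreservesFiniteLimits (F.rightDerived 0) :=
    Groth.Agent.Lib.Helper68.RightDerivedLES.preservesFiniteLimits_rightDerived_zero F
  refine ⟨h0, ⟨fun h => ?_, fun h => inferInstance⟩⟩
  exact Limits.preservesFiniteLimits_of_natIso (asIso F.toRightDerivedZero).symm

end Groth.Agent.S6618
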