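import Groth.Statements.S6619
import Groth.Agent.Lib.Helper68.RightDerivedLES

set_option autoImplicit false
universe v v' u u'
open CategoryTheory CategoryTheory.Limits
open CohDer

namespace Groth.Agent.S6619

open Groth.Agent.Lib.Helper68

section

variable {A : Type u} [Category.{v} A] [Abelian A] [EnoughInjectives A]
    {B : Type u'} [Category.{v'} B] [Abelian B] (F : A ⥤ B) [F.Additive] [PreservesFiniteLimits F]

lemma epi_iff {X Y : A} (g : X ⟶ Y) : Epi ((F.rightDerived 0).map g) ↔ Epi (F.map g) := by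
  have h := F.rightDerivedZeroIsoSelf.hom.naturality g
  constructor
  · intro _
    have : F.map g = (F.rightDerivedZeroIsoSelf.inv.app X ≫ (F.rightDerived 0).map g) ≫
        F.rightDerivedZeroIsoSelf.hom.app Y := by
      rw [Category.assoc, h, ← Category.assoc, ← NatTrans.comp_app, Iso.inv_hom_id,
        NatTrans.id_app, Category.id_comp]
    rw [this]
    infer_instance
  · intro _
    have : (F.rightDerived 0).map g = (F.rightDerivedZeroIsoSelf.hom.app X ≫ F.map g) ≫
        F.rightDerivedZeroIsoSelf.inv.app Y := by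
      rw [← h, Category.assoc, ← NatTrans.comp_app, Iso.hom_inv_id, NatTrans.id_app,
        Category.comp_id]
    rw [this]
    infer_instance

variable {S : ShortComplex A} (hS : S.ShortExact)

include hS in
lemma shortExact_of_epi (hepi : Epi (F.map S.g)) : (S.map F).ShortExact := by
  obtain ⟨h1, h2⟩ := (Functor.preservesFiniteLimits_iff_forall_exact_map_and_mono F).mp
    inferInstance S hS
  exact ShortComplex.ShortExact.mk' h1 h2 hepi

include hS in
lemma epi_of_isZero (h : IsZero ((F.rightDerived 1).obj S.X₁)) : Epi (F.map S.g) := by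
  rw [← epi_iff]
  exact (RightDerivedLES.exact₃ F hS 0).epi_f (h.eq_of_tgt _ _)

include hS in
lemma isZero_one_of_epi (hepi : Epi (F.map S.g))
    (h₂ : IsZero ((F.rightDerived 1).obj S.X₂)) : IsZero ((F.rightDerived 1).obj S.X₁) := by
  have he : Epi ((F.rightDerived 0).map S.g) := (epi_iff F S.g).mpr hepi
  have h0 : RightDerivedLES.δ F hS 0 = 0 := by
    rw [← cancel_epi ((F.rightDerived 0).map S.g), RightDerivedLES.map_g_δ, comp_zero]
  have hm : Mono ((F.rightDerived 1).map S.f) := (RightDerivedLES.exact₁ F hS 0).mono_g h0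
  exact IsZero.of_mono ((F.rightDerived 1).map S.f) h₂

end

/-- In the case where A has enough injectives (an object X is right acyclic for the left exact functor F
when RⁱF(X) = 0 for all i > 0): suppose A and B are abelian categories, A has enough injectives, F :
A ⥤ B is left exact, and 0 → X₁ → X₂ → X₃ → 0 is a short exact sequence of A. (1) If X₁, X₃ are
right acyclic so is X₂; (2) if X₁, X₂ are right acyclic so is X₃; (3) if X₂, X₃ are right acyclic
and F(X₂) ⟶ F(X₃) is surjective then X₁ is right acyclic. In each of the three cases 0 → F(X₁) →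
F(X₂) → F(X₃) → 0 is short exact. -/
theorem result {A : Type u} [Category.{v} A] [Abelian A] [EnoughInjectives A]
    {B : Type u'} [Category.{v'} B] [Abelian B] (F : A ⥤ B) [F.Additive] [PreservesFiniteLimits F]
    (S : ShortComplex A) (hS : S.ShortExact) :
    ((∀ i : ℕ, 0 < i → IsZero ((F.rightDerived i).obj S.X₁)) → (∀ i : ℕ, 0 < i → IsZero ((F.rightDerived i).obj S.X₃)) →
      (∀ i : ℕ, 0 < i → IsZero ((F.rightDerived i).obj S.X₂)) ∧ (S.map F).ShortExact) ∧
    ((∀ i : ℕ, 0 < i → IsZero ((F.rightDerived i).obj S.X₁)) → (∀ i : ℕ, 0 < i → IsZero ((F.rightDerived i).obj S.X₂)) →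
      (∀ i : ℕ, 0 < i → IsZero ((F.rightDerived i).obj S.X₃)) ∧ (S.map F).ShortExact) ∧
    ((∀ i : ℕ, 0 < i → IsZero ((F.rightDerived i).obj S.X₂)) → (∀ i : ℕ, 0 < i → IsZero ((F.rightDerived i).obj S.X₃)) →
      Epi (F.map S.g) → (∀ i : ℕ, 0 < i → IsZero ((F.rightDerived i).obj S.X₁)) ∧ (S.map F).ShortExact) := by
  refine ⟨fun h₁ h₃ => ⟨fun i hi => RightDerivedLES.isZero_mid F hS i (h₁ i hi) (h₃ i hi),
      shortExact_of_epi F hS (epi_of_isZero F hS (h₁ 1 Nat.one_pos))⟩,
    fun h₁ h₂ => ⟨fun i hi => RightDerivedLES.isZero_right F hS i (h₂ i hi)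
      (h₁ (i + 1) (Nat.succ_pos i)),
      shortExact_of_epi F hS (epi_of_isZero F hS (h₁ 1 Nat.one_pos))⟩,
    fun h₂ h₃ hepi => ⟨fun i hi => ?_, shortExact_of_epi F hS hepi⟩⟩
  obtain ⟨j, rfl⟩ : ∃ j, i = j + 1 := ⟨i - 1, by omega⟩
  rcases j with _ | j
  · exact isZero_one_of_epi F hS hepi (h₂ 1 Nat.one_pos)
  · exact RightDerivedLES.isZero_left F hS (j + 1) (h₃ (j + 1) (Nat.succ_pos j))
      (h₂ (j + 1 + 1) (Nat.succ_pos _))

end Groth.Agent.S6619
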