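import Groth.Statements.S6621

set_option autoImplicit false
universe v u v' u'
open CategoryTheory CategoryTheory.Limits
open CohDer

namespace Groth.Agent.S6621

open Pretriangulated in
lemma trW_kernel_iff {C : Type*} [Category C] [Preadditive C] [HasZeroObject C] [HasShift C ℤ]
    [∀ n : ℤ, (shiftFunctor C n).Additive] [Pretriangulated C]
    {D : Type*} [Category D] [Preadditive D] [HasZeroObject D] [HasShift D ℤ]
    [∀ n : ℤ, (shiftFunctor D n).Additive] [Pretriangulated D]
    (L : C ⥤ D) [L.CommShift ℤ] [L.IsTriangulated] {X Y : C} (f : X ⟶ Y) :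
    ObjectProperty.trW (fun Z : C => IsZero (L.obj Z)) f ↔ IsIso (L.map f) := by
  constructor
  · rintro ⟨Z, g, h, hT, hZ⟩
    exact (Triangle.isZero₃_iff_isIso₁ _ (L.map_distinguished _ hT)).1 hZ
  · intro hf
    obtain ⟨Z, g, h, hT⟩ := distinguished_cocone_triangle f
    exact ⟨Z, g, h, hT, (Triangle.isZero₃_iff_isIso₁ _ (L.map_distinguished _ hT)).2 hf⟩

lemma isZero_equiv_iff {A : Type*} {B : Type*} [Category A] [Category B] (e : A ≌ B) (X : A) :
    IsZero (e.functor.obj X) ↔ IsZero X := by
  constructor
  · intro h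
    refine ⟨fun Y => ?_, fun Y => ?_⟩
    · obtain ⟨u⟩ := h.unique_to (e.functor.obj Y)
      exact ⟨(e.fullyFaithfulFunctor.homEquiv (X := X) (Y := Y)).unique⟩
    · obtain ⟨u⟩ := h.unique_from (e.functor.obj Y)
      exact ⟨(e.fullyFaithfulFunctor.homEquiv (X := Y) (Y := X)).unique⟩
  · intro h
    refine ⟨fun Y => ?_, fun Y => ?_⟩
    · obtain ⟨u⟩ := h.unique_to (e.inverse.obj Y)
      exact ⟨(e.toAdjunction.homEquiv X Y).unique⟩
    · obtain ⟨u⟩ := h.unique_from (e.inverse.obj Y)
      have u' : Unique (e.symm.functor.obj Y ⟶ X) := u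
      exact ⟨(e.symm.toAdjunction.homEquiv Y X).symm.unique⟩

/-- Let D be a triangulated category, S a multiplicative system compatible with the triangulated
structure, Q : D → S⁻¹D the localization and B(S) = Ker(Q) the full subcategory of objects Z with
Q(Z) = 0. Then the multiplicative system S(B(S)) attached to B(S) (morphisms whose cone lies in B(S)
up to isomorphism) consists exactly of the morphisms f such that Q(f) is an isomorphism, i.e. it is
the saturation of S. -/
theorem result {D : Type u} [Category.{v} D] [Preadditive D] [HasZeroObject D] [HasShift D ℤ]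
    [∀ n : ℤ, (shiftFunctor D n).Additive] [Pretriangulated D] [IsTriangulated D]
    (S : MorphismProperty D) [S.HasLeftCalculusOfFractions] [S.HasRightCalculusOfFractions] [S.IsCompatibleWithTriangulation]
    {E : Type u'} [Category.{v'} E] (Q : D ⥤ E) [Q.IsLocalization S] {X Y : D} (f : X ⟶ Y) :
    ObjectProperty.trW (fun Z : D => IsZero (Q.obj Z)) f ↔ IsIso (Q.map f) := by
  let e := Localization.uniq S.Q Q S
  let i : S.Q ⋙ e.functor ≅ Q := Localization.compUniqFunctor S.Q Q S
  have h1 : (fun Z : D => IsZero (Q.obj Z)) = (fun Z : D => IsZero (S.Q.obj Z)) := by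
    funext Z
    apply propext
    have : IsZero (Q.obj Z) ↔ IsZero (e.functor.obj (S.Q.obj Z)) :=
      ⟨fun h => h.of_iso (i.app Z), fun h => h.of_iso (i.app Z).symm⟩
    rw [this]
    exact isZero_equiv_iff e _
  have h2 : IsIso (Q.map f) ↔ IsIso (S.Q.map f) := by
    rw [← NatIso.isIso_map_iff i f]
    exact isIso_iff_of_reflects_iso (S.Q.map f) e.functor
  rw [h1, h2]
  exact trW_kernel_iff S.Q f

end Groth.Agent.S6621
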