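import Groth.Statements.S6623
import Mathlib.CategoryTheory.Triangulated.Pretriangulated
import Mathlib.CategoryTheory.Triangulated.TriangleShift
import Mathlib.Tactic
-- import your own Groth.Agent.* helpers here

set_option autoImplicit false
universe v u
open CategoryTheory CategoryTheory.Limits
open CohDer

namespace Groth.Agent.S6623

section aux

variable {D : Type u} [Category.{v} D] [Preadditive D] [HasZeroObject D] [HasShift D ℤ]
    [∀ n : ℤ, (shiftFunctor D n).Additive] [Pretriangulated D]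

/-- no nonzero maps -/
def NoMaps (A B : D) : Prop := ∀ f : A ⟶ B, f = 0

lemma NoMaps.of_iso_right {A B B' : D} (e : B ≅ B') (h : NoMaps A B) : NoMaps A B' := fun f => by
  have := h (f ≫ e.inv)
  calc f = (f ≫ e.inv) ≫ e.hom := by simp
    _ = 0 := by rw [this, zero_comp]

lemma NoMaps.of_iso_left {A A' B : D} (e : A ≅ A') (h : NoMaps A B) : NoMaps A' B := fun f => by
  have := h (e.hom ≫ f)
  calc f = e.inv ≫ (e.hom ≫ f) := by simp
    _ = 0 := by rw [this, comp_zero]

lemma noMaps_obj₂_right (T : Pretriangulated.Triangle D) (hT : T ∈ Pretriangulated.distinguishedTriangles) (X : D)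
    (h₁ : NoMaps X T.obj₁) (h₃ : NoMaps X T.obj₃) : NoMaps X T.obj₂ := fun f => by
  obtain ⟨g, hg⟩ := Pretriangulated.Triangle.coyoneda_exact₂ T hT f (h₃ _)
  rw [hg, h₁ g, zero_comp]

lemma noMaps_obj₂_left (T : Pretriangulated.Triangle D) (hT : T ∈ Pretriangulated.distinguishedTriangles) (X : D)
    (h₁ : NoMaps T.obj₁ X) (h₃ : NoMaps T.obj₃ X) : NoMaps T.obj₂ X := fun f => by
  obtain ⟨g, hg⟩ := Pretriangulated.Triangle.yoneda_exact₂ T hT f (h₁ _)
  rw [hg, h₃ g, comp_zero]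

/-- devissage, maps into: if `X` has no maps to `T.obj₂⟦s⟧` and to `T.obj₃⟦s-1⟧`, it has none to
`T.obj₁⟦s⟧`. -/
lemma noMaps_shift_obj₁_right (T : Pretriangulated.Triangle D) (hT : T ∈ Pretriangulated.distinguishedTriangles)
    (X : D) (s s' : ℤ) (hs : s + (-1) = s')
    (h₂ : NoMaps X ((shiftFunctor D s).obj T.obj₂))
    (h₃ : NoMaps X ((shiftFunctor D s').obj T.obj₃)) :
    NoMaps X ((shiftFunctor D s).obj T.obj₁) := by
  have hR := Pretriangulated.inv_rot_of_distTriang _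
    (Pretriangulated.Triangle.shift_distinguished T hT s)
  refine noMaps_obj₂_right _ hR X ?_ h₂
  exact NoMaps.of_iso_right ((shiftFunctorAdd' D s (-1) s' hs).app T.obj₃) h₃

lemma noMaps_shift_obj₁_left (T : Pretriangulated.Triangle D) (hT : T ∈ Pretriangulated.distinguishedTriangles)
    (X : D) (s s' : ℤ) (hs : s + (-1) = s')
    (h₂ : NoMaps ((shiftFunctor D s).obj T.obj₂) X)
    (h₃ : NoMaps ((shiftFunctor D s').obj T.obj₃) X) :
    NoMaps ((shiftFunctor D s).obj T.obj₁) X := by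
  have hR := Pretriangulated.inv_rot_of_distTriang _
    (Pretriangulated.Triangle.shift_distinguished T hT s)
  refine noMaps_obj₂_left _ hR X ?_ h₂
  exact NoMaps.of_iso_left ((shiftFunctorAdd' D s (-1) s' hs).app T.obj₃) h₃

end aux


open CategoryTheory.Pretriangulated in
/-- Let D be a triangulated category, φ : X ⟶ X' a morphism of chain complexes in D considered in
degrees ≤ n, where a Postnikov system for the complex X_n → … → X_0 consists of objects Y_k, an
isomorphism Y_0 ⟶ X_0, and for 0 ≤ k < n distinguished triangles Y_{k+1} ⟶ X_{k+1} ⟶ Y_k ⟶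
Y_{k+1}⟦1⟧ with X_{k+1} ⟶ Y_k ⟶ X_k the differential; let (Y, a, b, c) and (Y', a', b', c') be
Postnikov systems for X and X'. If Hom(X_{j-i}⟦1-i⟧, X'_j) = 0 and Hom(X_j, X'_{j-i}⟦-i⟧) = 0 for
all 0 < i ≤ j ≤ n, then there is at most one morphism of Postnikov systems extending φ: two such
morphisms agree on Y_k for every k ≤ n. -/
theorem result {D : Type u} [Category.{v} D] [Preadditive D] [HasZeroObject D] [HasShift D ℤ]
    [∀ n : ℤ, (shiftFunctor D n).Additive] [Pretriangulated D] [IsTriangulated D]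
    (X X' : ChainComplex D ℕ) (φ : X ⟶ X') (n : ℕ)
    (Y : ℕ → D) (a : ∀ k, Y k ⟶ X.X k) (b : ∀ k, X.X (k + 1) ⟶ Y k)
    (c : ∀ k, Y k ⟶ (shiftFunctor D (1 : ℤ)).obj (Y (k + 1)))
    (h0 : IsIso (a 0))
    (hP : ∀ k, k < n → Triangle.mk (a (k + 1)) (b k) (c k) ∈ distinguishedTriangles ∧ b k ≫ a k = X.d (k + 1) k)
    (qY : ℕ → D) (qa : ∀ k, qY k ⟶ X'.X k) (qb : ∀ k, X'.X (k + 1) ⟶ qY k)
    (qc : ∀ k, qY k ⟶ (shiftFunctor D (1 : ℤ)).obj (qY (k + 1)))
    (qh0 : IsIso (qa 0))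
    (qhP : ∀ k, k < n → Triangle.mk (qa (k + 1)) (qb k) (qc k) ∈ distinguishedTriangles ∧ qb k ≫ qa k = X'.d (k + 1) k)
    (hv : ∀ i j : ℕ, 0 < i → i ≤ j → j ≤ n →
      (∀ ψ : (shiftFunctor D (1 - (i : ℤ))).obj (X.X (j - i)) ⟶ X'.X j, ψ = 0) ∧
      (∀ ψ : X.X j ⟶ (shiftFunctor D (-(i : ℤ))).obj (X'.X (j - i)), ψ = 0))
    (y z : ∀ k, Y k ⟶ qY k)
    (hy : (∀ k, k ≤ n → y k ≫ qa k = a k ≫ φ.f k) ∧
      (∀ k, k < n → b k ≫ y k = φ.f (k + 1) ≫ qb k ∧ c k ≫ (shiftFunctor D (1 : ℤ)).map (y (k + 1)) = y k ≫ qc k))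
    (hz : (∀ k, k ≤ n → z k ≫ qa k = a k ≫ φ.f k) ∧
      (∀ k, k < n → b k ≫ z k = φ.f (k + 1) ≫ qb k ∧ c k ≫ (shiftFunctor D (1 : ℤ)).map (z (k + 1)) = z k ≫ qc k))
    (k : ℕ) (hk : k ≤ n) :
    y k = z k := by
  -- restated hypotheses
  have hvR : ∀ (i j m : ℕ) (s : ℤ), 0 < i → i ≤ j → j ≤ n → m + i = j → s = -(i : ℤ) →
      NoMaps (X.X j) ((shiftFunctor D s).obj (X'.X m)) := by
    intro i j m s hi hij hjn hm hs
    subst hs
    obtain rfl : m = j - i := by omega
    exact (hv i j hi hij hjn).2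
  have hvL : ∀ (i j m : ℕ) (s : ℤ), 0 < i → i ≤ j → j ≤ n → m + i = j → s = 1 - (i : ℤ) →
      NoMaps ((shiftFunctor D s).obj (X.X m)) (X'.X j) := by
    intro i j m s hi hij hjn hm hs
    subst hs
    obtain rfl : m = j - i := by omega
    exact (hv i j hi hij hjn).1
  have L1 : ∀ (k j : ℕ) (s : ℤ), k < j → j ≤ n → s = (k : ℤ) - j →
      NoMaps (X.X j) ((shiftFunctor D s).obj (qY k)) := by
    intro k
    induction k with
    | zero =>
      intro j s hkj hjn hs
      haveI := qh0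
      have h := hvR j j 0 s hkj le_rfl hjn (by omega) (by omega)
      exact NoMaps.of_iso_right ((shiftFunctor D s).mapIso (asIso (qa 0))).symm h
    | succ k ih =>
      intro j s hkj hjn hs
      have hT := (qhP k (by omega)).1
      exact noMaps_shift_obj₁_right _ hT (X.X j) s (s - 1) (by ring)
        (hvR (j - k - 1) j (k + 1) s (by omega) (by omega) hjn (by omega) (by omega))
        (ih j (s - 1) (by omega) hjn (by omega))
  have L2 : ∀ (k j : ℕ) (s : ℤ), k < j → j ≤ n → s = (k : ℤ) + 1 - j →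
      NoMaps ((shiftFunctor D s).obj (Y k)) (X'.X j) := by
    intro k
    induction k with
    | zero =>
      intro j s hkj hjn hs
      haveI := h0
      have h := hvL j j 0 s hkj le_rfl hjn (by omega) (by omega)
      exact NoMaps.of_iso_left ((shiftFunctor D s).mapIso (asIso (a 0))).symm h
    | succ k ih =>
      intro j s hkj hjn hs
      have hT := (hP k (by omega)).1
      exact noMaps_shift_obj₁_left _ hT (X'.X j) s (s - 1) (by ring)
        (hvL (j - k - 1) j (k + 1) s (by omega) (by omega) hjn (by omega) (by omega))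
        (ih j (s - 1) (by omega) hjn (by omega))
  induction k with
  | zero =>
    haveI := qh0
    have h1 := hy.1 0 (Nat.zero_le _)
    have h2 := hz.1 0 (Nat.zero_le _)
    rw [← cancel_mono (qa 0), h1, h2]
  | succ k ih =>
    have hkn : k < n := by omega
    have ihk := ih (by omega)
    set δ := y (k + 1) - z (k + 1) with hδ
    have hδa : δ ≫ qa (k + 1) = 0 := by
      rw [hδ, Preadditive.sub_comp, hy.1 (k + 1) hk, hz.1 (k + 1) hk, sub_self]
    have hδc : c k ≫ (shiftFunctor D (1 : ℤ)).map δ = 0 := by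
      rw [hδ, Functor.map_sub, Preadditive.comp_sub, (hy.2 k hkn).2, (hz.2 k hkn).2, ihk, sub_self]
    have hT := (hP k hkn).1
    have hT' := (qhP k hkn).1
    -- Step A
    have hA : ∃ g : (shiftFunctor D (1 : ℤ)).obj (X.X (k + 1)) ⟶ (shiftFunctor D (1 : ℤ)).obj (qY (k + 1)),
        (shiftFunctor D (1 : ℤ)).map δ = -(shiftFunctor D (1 : ℤ)).map (a (k + 1)) ≫ g := by
      obtain ⟨g, hg⟩ := Pretriangulated.Triangle.yoneda_exact₃ _
        (Pretriangulated.rot_of_distTriang _ hT) ((shiftFunctor D (1 : ℤ)).map δ) hδc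
      exact ⟨g, hg.trans (Preadditive.neg_comp _ _)⟩
    obtain ⟨g, hg⟩ := hA
    obtain ⟨η, rfl⟩ := (shiftFunctor D (1 : ℤ)).map_surjective g
    have hδη : δ = - (a (k + 1) ≫ η) := by
      apply (shiftFunctor D (1 : ℤ)).map_injective
      rw [hg, Functor.map_neg, Functor.map_comp]
    -- Step B
    have hηa : η ≫ qa (k + 1) = 0 := by
      have h1 : a (k + 1) ≫ (η ≫ qa (k + 1)) = 0 := by
        have := hδa
        rw [hδη] at this
        simpa using this
      have hB : ∃ θ : Y k ⟶ X'.X (k + 1), η ≫ qa (k + 1) = b k ≫ θ :=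
        Pretriangulated.Triangle.yoneda_exact₂ _ hT (η ≫ qa (k + 1)) h1
      obtain ⟨θ, hθ⟩ := hB
      have hθ0 : θ = 0 := by
        have := L2 k (k + 1) 0 (by omega) hk (by push_cast; ring)
        exact (NoMaps.of_iso_left ((shiftFunctorZero D ℤ).app (Y k)) this) θ
      rw [hθ, hθ0, comp_zero]
    -- Step C
    have hC : ∃ (ε : X.X (k + 1) ⟶ (shiftFunctor D (-1 : ℤ)).obj (qY k))
        (ι : (shiftFunctor D (-1 : ℤ)).obj (qY k) ⟶ qY (k + 1)), η = ε ≫ ι := by
      obtain ⟨ε, hε⟩ := Pretriangulated.Triangle.coyoneda_exact₂ _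
        (Pretriangulated.inv_rot_of_distTriang _ hT') η hηa
      exact ⟨ε, _, hε⟩
    obtain ⟨ε, ι, hε⟩ := hC
    have hε0 : ε = 0 := L1 k (k + 1) (-1) (by omega) hk (by push_cast; ring) ε
    have hδ0 : δ = 0 := by rw [hδη, hε, hε0, zero_comp, comp_zero, neg_zero]
    exact sub_eq_zero.mp hδ0

end Groth.Agent.S6623
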