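import Groth.Statements.S6631
import Mathlib

set_option autoImplicit false
open CategoryTheory CategoryTheory.Limits AlgebraicGeometry Opposite
universe u
open EtDesc

namespace Groth.Agent.S6631

set_option backward.isDefEq.respectTransparency false in
set_option backward.isDefEq.respectTransparency.types false in
/-- condition (C) gives, for every `U` in the small etale site of `X`, a surjective morphism from a
base change. -/
theorem exists_cover {X Y : Scheme.{u}} (f : X ⟶ Y) (hC : BigSite.PropC f) (U : X.Etale) :
    ∃ (V : Y.Etale) (h : (EtCoh.bc f).obj V ⟶ U), Function.Surjective h.left := by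
  obtain ⟨V, v, hv, h, hh, hs⟩ := hC U.left U.hom
  haveI := hv
  refine ⟨Scheme.Etale.mk v, MorphismProperty.Over.homMk ((pullbackSymmetry v f).hom ≫ h) ?_ trivial,
    ?_⟩
  · rw [Category.assoc, hh, pullbackSymmetry_hom_comp_fst]
    rfl
  · change Function.Surjective ((pullbackSymmetry v f).hom ≫ h)
    intro x
    obtain ⟨y, rfl⟩ := hs.surj x
    refine ⟨(pullbackSymmetry v f).inv y, ?_⟩
    rw [Scheme.Hom.comp_apply, ← Scheme.Hom.comp_apply (pullbackSymmetry v f).inv, Iso.inv_hom_id]
    rfl

theorem generate_singleton_mem {X : Scheme.{u}} {U W : X.Etale} (h : W ⟶ U)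
    (hs : Function.Surjective h.left) :
    Sieve.ofArrows (fun _ : PUnit.{1} => W) (fun _ => h) ∈ X.smallEtaleTopology U := by
  rw [Scheme.ofArrows_mem_smallEtaleTopology_iff]
  ext x
  simp only [Set.mem_iUnion, Set.mem_range, Set.mem_univ, iff_true]
  obtain ⟨y, hy⟩ := hs x
  exact ⟨PUnit.unit, y, hy⟩

/-- Let f : X ⟶ Y be a morphism of schemes satisfying condition (C) (for every etale U ⟶ X there are an
etale V ⟶ Y and a surjective X-morphism X ×_Y V ⟶ U). Then the direct image of sheaves of sets on
the small etale sites along f reflects monomorphisms and epimorphisms. -/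
theorem result {X Y : Scheme.{u}} (f : X ⟶ Y) (hC : BigSite.PropC f) :
    (EtDesc.pushSh f).ReflectsMonomorphisms ∧ (EtDesc.pushSh f).ReflectsEpimorphisms := by
  refine ⟨⟨fun {F G} a ha => ?_⟩, ⟨fun {F G} a ha => ?_⟩⟩
  · -- monomorphisms
    apply Sheaf.mono_of_injective
    intro U x y hxy
    obtain ⟨V, h, hs⟩ := exists_cover f hC U.unop
    have hinj : Function.Injective (((EtDesc.pushSh f).map a).hom.app (op V)) := by
      have h1 : Mono ((sheafToPresheaf _ _).map ((EtDesc.pushSh f).map a)) := inferInstance
      have h2 : Mono (((sheafToPresheaf _ _).map ((EtDesc.pushSh f).map a)).app (op V)) :=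
        inferInstance
      exact (mono_iff_injective _).1 h2
    have hcov := generate_singleton_mem h hs
    have hsep : Presieve.IsSeparated X.smallEtaleTopology F.obj :=
      Presieve.IsSheaf.isSeparated ((isSheaf_iff_isSheaf_of_type _ _).1 F.property)
    refine (hsep _ hcov).ext ?_
    rintro W k ⟨Z, k', _, ⟨⟨⟩⟩, rfl⟩
    have e : F.obj.map h.op x = F.obj.map h.op y := by
      apply hinj
      have n1 := FunctorToTypes.naturality a.hom h.op x
      have n2 := FunctorToTypes.naturality a.hom h.op y
      change a.hom.app _ (F.obj.map h.op x) = a.hom.app _ (F.obj.map h.op y)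
      rw [n1, n2, hxy]
    rw [op_comp, CategoryTheory.FunctorToTypes.map_comp_apply F.obj,
      CategoryTheory.FunctorToTypes.map_comp_apply F.obj, e]
  · -- epimorphisms
    rw [← Sheaf.isLocallySurjective_iff_epi] at ha ⊢
    refine ⟨fun {U} s => ?_⟩
    obtain ⟨V, h, hs⟩ := exists_cover f hC U
    have hcov := generate_singleton_mem h hs
    -- the section on the base change
    let s' : ((EtDesc.pushSh f).obj G).obj.obj (op V) := G.obj.map h.op s
    have hR : Presheaf.imageSieve ((EtDesc.pushSh f).map a).hom s' ∈ Y.smallEtaleTopology V :=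
      haveI : Presheaf.IsLocallySurjective Y.smallEtaleTopology ((EtDesc.pushSh f).map a).hom := ha
      Presheaf.imageSieve_mem Y.smallEtaleTopology ((EtDesc.pushSh f).map a).hom s'
    have hR' := (EtCoh.coverPreserving_bc f).cover_preserve hR
    have key : (Presheaf.imageSieve a.hom s).pullback h ∈
        X.smallEtaleTopology ((EtCoh.bc f).obj V) := by
      refine X.smallEtaleTopology.superset_covering ?_ hR'
      rintro W k ⟨V', g, k', hg, rfl⟩
      obtain ⟨t, ht⟩ := hg
      refine ⟨F.obj.map k'.op t, ?_⟩
      have n1 := FunctorToTypes.naturality a.hom k'.op t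
      rw [n1]
      have ht' : a.hom.app (op ((EtCoh.bc f).obj V')) t =
          G.obj.map ((EtCoh.bc f).map g).op (G.obj.map h.op s) := ht
      rw [ht', op_comp, op_comp, CategoryTheory.FunctorToTypes.map_comp_apply G.obj,
        CategoryTheory.FunctorToTypes.map_comp_apply G.obj]
    refine X.smallEtaleTopology.transitive hcov _ ?_
    rintro W k ⟨Z, k', _, ⟨⟨⟩⟩, rfl⟩
    rw [Sieve.pullback_comp]
    exact X.smallEtaleTopology.pullback_stable k' key

end Groth.Agent.S6631
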