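import Groth.Statements.S6632
import Mathlib
import Groth.Agent.Lib.Helper79.EtSiteGlue
import Groth.Agent.S6629

set_option autoImplicit false
open CategoryTheory CategoryTheory.Limits AlgebraicGeometry Opposite
universe u
open EtCore

namespace Groth.Agent.S6632

open Groth.Agent.Lib.Helper79.EtSiteGlue Groth.Agent.S6629

set_option backward.isDefEq.respectTransparency false in
set_option backward.isDefEq.respectTransparency.types false in
/-- the comparison of the iterated pullback with the base change map -/
theorem paste_eq {X Y : Scheme.{u}} (f : X ⟶ Y) {V V' : Scheme.{u}} (v : V ⟶ Y) (v' : V' ⟶ V) :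
    (pullbackLeftPullbackSndIso f v v').inv ≫ pullback.fst (pullback.snd f v) v' =
      pullback.map f (v' ≫ v) f v (𝟙 X) v' (𝟙 Y) (by simp) (by simp) := by
  apply pullback.hom_ext
  · simp only [Category.assoc, pullbackLeftPullbackSndIso_inv_fst, pullback.map, pullback.lift_fst,
      Category.comp_id]
  · simp only [Category.assoc, pullbackLeftPullbackSndIso_inv_fst_snd, pullback.map,
      pullback.lift_snd]

set_option backward.isDefEq.respectTransparency false in
set_option backward.isDefEq.respectTransparency.types false in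
/-- a factorisation of the base change of `v'` through `g` -/
theorem exists_factor {X Y : Scheme.{u}} (f : X ⟶ Y) {V : Y.Etale} {Z : X.Etale}
    (g : Z ⟶ (EtCoh.bc f).obj V) {V' : Scheme.{u}} (v' : V' ⟶ V.left) [Etale v']
    (h : pullback (pullback.snd f V.hom) v' ⟶ Z.left)
    (hh : h ≫ g.left ≫ (pullbackSymmetry V.hom f).hom = pullback.fst (pullback.snd f V.hom) v') :
    ∃ h' : (EtCoh.bc f).obj (Scheme.Etale.mk (v' ≫ V.hom)) ⟶ Z,
      h' ≫ g = (EtCoh.bc f).map (MorphismProperty.Over.homMk v' rfl trivial :
        Scheme.Etale.mk (v' ≫ V.hom) ⟶ V) := by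
  have hZhom : Z.hom = g.left ≫ pullback.snd V.hom f :=
    (CategoryTheory.Over.w g.toCommaMorphism).symm
  have e1 : pullback.snd V.hom f = (pullbackSymmetry V.hom f).hom ≫ pullback.fst f V.hom := by
    rw [pullbackSymmetry_hom_comp_fst]
  have hh' := hh =≫ pullback.fst f V.hom
  simp only [Category.assoc] at hh'
  refine ⟨MorphismProperty.Over.homMk ((pullbackSymmetry (v' ≫ V.hom) f).hom ≫
    (pullbackLeftPullbackSndIso f V.hom v').inv ≫ h) ?_ trivial, ?_⟩
  · change _ = pullback.snd (v' ≫ V.hom) f
    simp only [Category.assoc]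
    rw [hZhom, e1, hh', pullbackLeftPullbackSndIso_inv_fst, pullbackSymmetry_hom_comp_fst]
  · apply MorphismProperty.Over.Hom.ext
    change ((pullbackSymmetry (v' ≫ V.hom) f).hom ≫
      (pullbackLeftPullbackSndIso f V.hom v').inv ≫ h) ≫ g.left = _
    have e3 := map_symm f v'
    have e4 : h ≫ g.left = pullback.fst (pullback.snd f V.hom) v' ≫
        (pullbackSymmetry V.hom f).inv := by
      rw [← hh]
      simp only [Category.assoc, Iso.hom_inv_id, Category.comp_id]
    have e5 : ((EtCoh.bc f).map (MorphismProperty.Over.homMk v' rfl trivial :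
        Scheme.Etale.mk (v' ≫ V.hom) ⟶ V)).left = (pullbackSymmetry (v' ≫ V.hom) f).hom ≫
        pullback.map f (v' ≫ V.hom) f V.hom (𝟙 X) v' (𝟙 Y) (by simp) (by simp) ≫
        (pullbackSymmetry V.hom f).inv := by
      rw [e3, ← Category.assoc, Iso.hom_inv_id, Category.id_comp]
    rw [e5, ← paste_eq]
    simp only [Category.assoc, e4]

/-- Let f : X ⟶ Y be a morphism of schemes such that, for every etale V ⟶ Y, the base change X ×_Y V ⟶ V
satisfies condition (C) (for every etale U ⟶ X ×_Y V there are an etale V' ⟶ V and a surjective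
morphism from the base change of V' to U over X ×_Y V) and is closed as a map of topological spaces.
Then the base change functor V ↦ X ×_Y V from the small etale site of Y to that of X is almost
cocontinuous: every covering sieve of X ×_Y V contains the images of the members of some covering
sieve of V, except for members V' for which X ×_Y V' is covered by the empty sieve. -/
theorem result {X Y : Scheme.{u}} (f : X ⟶ Y)
    (hC : ∀ (V : Scheme.{u}) (v : V ⟶ Y) [Etale v], BigSite.PropC (pullback.snd f v))
    (hcl : ∀ (V : Scheme.{u}) (v : V ⟶ Y) [Etale v], IsClosedMap (pullback.snd f v).base) :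
    BigSite.IsAlmostCocontinuous (EtCoh.bc f) Y.smallEtaleTopology X.smallEtaleTopology := by
  intro V R hR
  -- the sieve of arrows answering `R`
  let R' : Sieve V :=
    { arrows := fun V' g => (⊥ : Sieve ((EtCoh.bc f).obj V')) ∈
          X.smallEtaleTopology ((EtCoh.bc f).obj V') ∨ R ((EtCoh.bc f).map g)
      downward_closed := by
        rintro V' V'' g (h | h) k
        · left
          have := X.smallEtaleTopology.pullback_stable ((EtCoh.bc f).map k) h
          refine X.smallEtaleTopology.superset_covering ?_ this
          intro W m hm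
          exact hm
        · right
          rw [Functor.map_comp]
          exact R.downward_closed h _ }
  refine ⟨R', ?_, fun V' g hg => hg⟩
  refine mem_of_forall_exists R' fun y => ?_
  have hZc : IsClosed (Set.range (pullback.snd f V.hom).base) := by
    rw [← Set.image_univ]
    exact hcl V.left V.hom _ isClosed_univ
  by_cases hy : y ∈ Set.range (pullback.snd f V.hom).base
  · obtain ⟨p, hp⟩ := hy
    obtain ⟨Z, g, hg, z, hz⟩ := exists_arrow_of_mem hR ((pullbackSymmetry V.hom f).inv p)
    obtain ⟨V', v', hv', h, hh, hs⟩ := hC V.left V.hom Z.left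
      (g.left ≫ (pullbackSymmetry V.hom f).hom)
    haveI := hv'
    obtain ⟨h', hh'⟩ := exists_factor f g v' h hh
    refine ⟨Scheme.Etale.mk (v' ≫ V.hom), MorphismProperty.Over.homMk v' rfl trivial, Or.inr ?_, ?_⟩
    · rw [← hh']
      exact R.downward_closed hg h'
    · obtain ⟨w, hw⟩ := hs.surj z
      refine ⟨(pullback.snd (pullback.snd f V.hom) v') w, ?_⟩
      change v' ((pullback.snd (pullback.snd f V.hom) v') w) = y
      rw [← Scheme.Hom.comp_apply, ← pullback.condition, ← hh, ← hp]
      simp only [Scheme.Hom.comp_apply]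
      rw [hw]
      erw [hz]
      exact congrArg (fun t => (pullback.snd f V.hom) t)
        (iso_hom_inv_apply (pullbackSymmetry V.hom f) p)
  · let V0 : V.left.Opens := ⟨(Set.range (pullback.snd f V.hom).base)ᶜ, hZc.isOpen_compl⟩
    refine ⟨openObj V V0, openι V V0, Or.inl ?_, ⟨⟨y, hy⟩, rfl⟩⟩
    haveI : IsEmpty ((EtCoh.bc f).obj (openObj V V0)).left := by
      refine ⟨fun q => ?_⟩
      have h1 := bc_map_left_fst f (openι V V0)
      have h2' : (pullback.fst V.hom f) (((EtCoh.bc f).map (openι V V0)).left q) =
          (openι V V0).left ((pullback.fst (openObj V V0).hom f) q) :=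
        congrArg (fun k : ((EtCoh.bc f).obj (openObj V V0)).left ⟶ V.left => k q) h1
      have h2 : (pullback.fst V.hom f) (((EtCoh.bc f).map (openι V V0)).left q) ∈ V0 := by
        rw [h2']
        exact ((pullback.fst (openObj V V0).hom f) q).2
      apply h2
      refine ⟨(pullbackSymmetry V.hom f).hom (((EtCoh.bc f).map (openι V V0)).left q), ?_⟩
      rw [← Scheme.Hom.comp_apply, pullbackSymmetry_hom_comp_snd]
    exact bot_mem_of_isEmpty _

end Groth.Agent.S6632
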