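import Groth.Statements.S6637
import Mathlib

set_option autoImplicit false
open CategoryTheory CategoryTheory.Limits AlgebraicGeometry Opposite
universe u
open BigSite

namespace Groth.Agent.S6637

section general

universe v' u'

variable {C : Type*} [Category C] [HasPullbacks C]

/-- for a monomorphism, the unit of `Over.map f ⊣ Over.pullback f` is an isomorphism -/
theorem isIso_unit_app {X Y : C} (f : X ⟶ Y) [Mono f] (U : Over X) :
    IsIso ((Over.mapPullbackAdj f).unit.app U) := by
  have h1 : ((Over.mapPullbackAdj f).unit.app U).left ≫ pullback.fst (U.hom ≫ f) f = 𝟙 _ := by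
    simp only [Over.mapPullbackAdj_unit_app]
    exact pullback.lift_fst _ _ _
  have : Mono (pullback.fst (U.hom ≫ f) f) := inferInstance
  haveI : IsIso (pullback.fst (U.hom ≫ f) f) := by
    refine ⟨((Over.mapPullbackAdj f).unit.app U).left, ?_, h1⟩
    rw [← cancel_mono (pullback.fst (U.hom ≫ f) f), Category.assoc, h1]
    simp
  haveI : IsIso ((Over.mapPullbackAdj f).unit.app U).left := by
    have : ((Over.mapPullbackAdj f).unit.app U).left = inv (pullback.fst (U.hom ≫ f) f) := by
      rw [← cancel_mono (pullback.fst (U.hom ≫ f) f), h1]
      simp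
    rw [this]
    infer_instance
  haveI : IsIso ((Over.forget X).map ((Over.mapPullbackAdj f).unit.app U)) := by
    change IsIso ((Over.mapPullbackAdj f).unit.app U).left
    infer_instance
  exact isIso_of_reflects_iso _ (Over.forget X)

end general

theorem counit_isIso {X Y : Scheme.{u}} (f : X ⟶ Y) [Mono f] (K : Precoverage Scheme.{u})
    (A : Type*) [Category A] (F : Sheaf (QuotSh.J K X) A) :
    IsIso ((BigSite.bigAdj K f A).counit.app F) := by
  haveI : IsIso ((sheafToPresheaf _ _).map ((BigSite.bigAdj K f A).counit.app F)) := by
    haveI : ∀ U, IsIso (((sheafToPresheaf _ _).map ((BigSite.bigAdj K f A).counit.app F)).app U) := by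
      intro U
      haveI := isIso_unit_app f U.unop
      have : ((sheafToPresheaf _ _).map ((BigSite.bigAdj K f A).counit.app F)).app U =
          F.obj.map ((Over.mapPullbackAdj f).unit.app U.unop).op := by
        simp [BigSite.bigAdj]
      rw [this]
      exact Functor.map_isIso F.obj _
    exact NatIso.isIso_of_isIso_app _
  exact isIso_of_reflects_iso _ (sheafToPresheaf _ _)

/-- For the Zariski, etale, smooth and fppf topologies: for a monomorphism of schemes f : X ⟶ Y the
counit f_big⁻¹ f_big,* F ⟶ F is an isomorphism for every sheaf of sets F on the big site of X, and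
for every abelian sheaf. (The published statement also covers the syntomic topology; this row treats
the Zariski, etale, smooth and fppf topologies only.) -/
theorem result {X Y : Scheme.{u}} (f : X ⟶ Y) [Mono f]
    (K : Precoverage Scheme.{u}) (hK : K = Scheme.zariskiPrecoverage ∨ K = Scheme.etalePrecoverage ∨
      K = Scheme.precoverage @Smooth ∨ K = Scheme.fppfPrecoverage) :
    (∀ F : QuotSh.Sh K X, IsIso ((BigSite.bigAdj K f (Type (u + 1))).counit.app F)) ∧
      (∀ F : BigSite.Ab K X, IsIso ((BigSite.bigAdj K f AddCommGrpCat.{u + 1}).counit.app F)) := by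
  exact ⟨fun F => counit_isIso f K _ F, fun F => counit_isIso f K _ F⟩

end Groth.Agent.S6637
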