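import Groth.Statements.S6639
import Groth.Agent.Lib.Helper35.FrobFixedBC

set_option autoImplicit false
universe u
open scoped TensorProduct
open EtBase

namespace Groth.Agent.S6639

/-- Let k ⟶ k' be a homomorphism of algebraically closed fields of characteristic p > 0 (an extension of
algebraically closed fields), V a finite-dimensional k-vector space, F : V ⟶ V additive with F(c •
v) = c^p • F(v), and F' the additive endomorphism of V' = k' ⊗_k V satisfying F'(c ⊗ v) = c^p ⊗
F(v). Then v ↦ 1 ⊗ v maps the fixed vectors of F bijectively onto the fixed vectors of F'. -/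
theorem result {k k' V : Type u} [Field k] [IsAlgClosed k] [Field k']
    [IsAlgClosed k'] [Algebra k k'] (p : ℕ) [Fact p.Prime] [CharP k p]
    [AddCommGroup V] [Module k V] [FiniteDimensional k V] (F : V →+ V)
    (hF : ∀ (c : k) (v : V), F (c • v) = c ^ p • F v)
    (F' : k' ⊗[k] V →+ k' ⊗[k] V) (hF' : ∀ (c : k') (v : V), F' (c ⊗ₜ[k] v) = (c ^ p) ⊗ₜ[k] F v) :
    Set.BijOn (fun v : V => (1 : k') ⊗ₜ[k] v) {v : V | F v = v} {w : k' ⊗[k] V | F' w = w} := by
  classical
  have hinj : Function.Injective (fun v : V => (1 : k') ⊗ₜ[k] v) :=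
    Module.FaithfullyFlat.tensorProduct_mk_injective (A := k) (B := k') V
  refine ⟨?_, ?_, ?_⟩
  · intro v hv
    have hv' : F v = v := hv
    change F' ((1 : k') ⊗ₜ[k] v) = (1 : k') ⊗ₜ[k] v
    rw [hF', one_pow, hv']
  · exact hinj.injOn
  · intro w hw
    have hw' : F' w = w := hw
    let n := Module.finrank k V
    let b : Module.Basis (Fin n) k V := Module.finBasis k V
    let b' := Algebra.TensorProduct.basis k' b
    let x : Fin n → k' := fun i => b'.repr w i
    have hwx : w = ∑ i, (x i) ⊗ₜ[k] (b i) := by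
      conv_lhs => rw [← b'.sum_repr w]
      refine Finset.sum_congr rfl (fun i _ => ?_)
      exact Algebra.TensorProduct.basis_repr_symm_apply' b (x i) i
    have hFw : F' w = ∑ i, ((x i) ^ p) ⊗ₜ[k] (F (b i)) := by
      conv_lhs => rw [hwx, map_sum]
      exact Finset.sum_congr rfl (fun i _ => hF' _ _)
    have hx : ∀ i, x i = ∑ j, (x j) ^ p * algebraMap k k' (b.repr (F (b j)) i) := by
      intro i
      have h1 : b'.repr (F' w) i = x i := by rw [hw']
      rw [← h1, hFw, map_sum, Finsupp.finset_sum_apply]
      refine Finset.sum_congr rfl (fun j _ => ?_)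
      rw [Algebra.TensorProduct.basis_repr_tmul]
      simp
    have hrange := Groth.Agent.Lib.Helper35.FrobFixedBC.mem_range_of_system p
      (fun i j => b.repr (F (b j)) i) x hx
    choose c hc using hrange
    let v : V := ∑ i, c i • b i
    have hwv : (1 : k') ⊗ₜ[k] v = w := by
      rw [hwx, TensorProduct.tmul_sum]
      refine Finset.sum_congr rfl (fun i _ => ?_)
      rw [← hc i, TensorProduct.tmul_smul, TensorProduct.smul_tmul', Algebra.smul_def, mul_one]
    refine ⟨v, ?_, hwv⟩
    apply hinj
    change (1 : k') ⊗ₜ[k] F v = (1 : k') ⊗ₜ[k] v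
    have h2 := hF' 1 v
    rw [one_pow] at h2
    rw [← h2, hwv, hw']

end Groth.Agent.S6639
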