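import Groth.Statements.S6640
import Groth.Agent.Lib.Helper57.ConstMono

set_option autoImplicit false
open CategoryTheory CategoryTheory.Limits AlgebraicGeometry Opposite
universe u
open EtCore

namespace Groth.Agent.S6640

open Groth.Agent.Lib.Helper4 Groth.Agent.Lib.Helper57.ConstUnit Groth.Agent.Lib.Helper57.FinStalk in
theorem app_map {X : Scheme.{u}} {F G : EtCoh.Ab X} (a : F ⟶ G) {W W' : X.Etale} (g : W' ⟶ W)
    (x : F.obj.obj (op W)) :
    a.hom.app (op W') (F.obj.map g.op x) = G.obj.map g.op (a.hom.app (op W) x) := by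
  have h3 := a.hom.naturality g.op
  have h4 := congrArg (fun φ => φ x) h3
  simpa only [ConcreteCategory.comp_apply] using h4

/-- Let X be an irreducible scheme, ξ a geometric point over its generic point, A' an additive subgroup
of an abelian group A, and G an abelian sheaf on the small etale site of X with monomorphisms a :
const A' ⟶ G and b : G ⟶ const A whose composite is the map of constant sheaves induced by the
inclusion. If the stalk of a at ξ is an isomorphism, then a is an isomorphism. -/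
theorem result {X : Scheme.{u}} [IrreducibleSpace ↥X]
    {Ω : Type u} [Field Ω] [IsSepClosed Ω] (ξ : Spec (CommRingCat.of Ω) ⟶ X)
    (hξ : ξ.base default = genericPoint ↥X)
    (A : Type) [AddCommGroup A] (A' : AddSubgroup A) (G : EtCoh.Ab X)
    (a : EtCoh.const X ↥A' ⟶ G) (b : G ⟶ EtCoh.const X A) [Mono a] [Mono b]
    (hab : a ≫ b = (constantSheaf X.smallEtaleTopology AddCommGrpCat.{u + 1}).map
      (AddCommGrpCat.ofHom (AddEquiv.ulift.symm.toAddMonoidHom.comp (A'.subtype.comp AddEquiv.ulift.toAddMonoidHom))))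
    (hst : IsIso ((EtCoh.stalk ξ).map a)) : IsIso a := by
  open Groth.Agent.Lib.Helper4 Groth.Agent.Lib.Helper57.ConstUnit Groth.Agent.Lib.Helper57.FinStalk in
  let MA' : AddCommGrpCat.{u + 1} := AddCommGrpCat.of (ULift.{u + 1} ↥A')
  let MA : AddCommGrpCat.{u + 1} := AddCommGrpCat.of (ULift.{u + 1} A)
  let φ : MA' ⟶ MA := AddCommGrpCat.ofHom (AddEquiv.ulift.symm.toAddMonoidHom.comp
    (A'.subtype.comp AddEquiv.ulift.toAddMonoidHom))
  have hsurj : Function.Surjective ((EtCoh.stalk ξ).map a) :=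
    (ConcreteCategory.bijective_of_isIso _).2
  haveI : Sheaf.IsLocallySurjective a := by
    constructor
    intro V t
    rw [OverEt.mem_iff_forall_exists]
    intro v
    obtain ⟨V₁, g₁, t₁, ht₁, hbt⟩ := hasVal_val V (b.hom.app (op V) t) v
    haveI : Nonempty V₁.left := ⟨t₁⟩
    obtain ⟨u₁⟩ := nonempty_fiber_of_generic ξ hξ V₁
    obtain ⟨V₄, k, u₄, c, hc⟩ :=
      exists_section_of_stalk_surjective a ξ hsurj V₁ u₁ (G.obj.map g₁.op t)
    obtain ⟨V₅, g₅, t₅, -, hc5⟩ := hasVal_val V₄ c (ptHom u₄ default)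
    haveI : Nonempty V₅.left := ⟨t₅⟩
    have e1 : b.hom.app (op V₅) (a.hom.app (op V₅) (cs X MA' V₅ (val V₄ c (ptHom u₄ default)))) =
        cs X MA V₅ (φ (val V₄ c (ptHom u₄ default))) := by
      have h1 := cs_constMap φ V₅ (val V₄ c (ptHom u₄ default))
      rw [← hab] at h1
      exact h1
    have e2 : b.hom.app (op V₅) (a.hom.app (op V₅) (cs X MA' V₅ (val V₄ c (ptHom u₄ default)))) =
        cs X MA V₅ (val V (b.hom.app (op V) t) v) := by
      rw [← hc5, app_map a g₅ c, hc, app_map b g₅, app_map b k, app_map b g₁, hbt, cs_map_apply,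
        cs_map_apply]
    have key : φ (val V₄ c (ptHom u₄ default)) = val V (b.hom.app (op V) t) v :=
      cs_injective V₅ (e1.symm.trans e2)
    refine ⟨V₁, g₁, t₁, ⟨cs X MA' V₁ (val V₄ c (ptHom u₄ default)), ?_⟩, ht₁⟩
    apply injective_app_of_mono b V₁
    have e3 : b.hom.app (op V₁) (a.hom.app (op V₁) (cs X MA' V₁ (val V₄ c (ptHom u₄ default)))) =
        cs X MA V₁ (φ (val V₄ c (ptHom u₄ default))) := by
      have h1 := cs_constMap φ V₁ (val V₄ c (ptHom u₄ default))
      rw [← hab] at h1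
      exact h1
    rw [e3, key, app_map b g₁, hbt]
  haveI : Epi a := Sheaf.epi_of_isLocallySurjective a
  exact isIso_of_mono_of_epi a

end Groth.Agent.S6640
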