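import Groth.Statements.S6641
import Groth.Agent.Lib.Helper28.SkySC
import Groth.Agent.Lib.Helper28.CoprodH
import Groth.Agent.Lib.Helper4.EtStalk

set_option autoImplicit false
open CategoryTheory CategoryTheory.Limits AlgebraicGeometry Opposite
universe u
open Curves

namespace Groth.Agent.S6641

/-- Let X be a smooth curve over an algebraically closed field k (here: X integral of dimension one,
smooth, separated and of finite type over k), and for a closed point x let i_x : Spec κ(x) ⟶ X be
its inclusion. Then H^q of the direct sum, over all closed points x, of the sheaves (i_x)_* Z (given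
here as any colimit cofan of that family) vanishes for every q ≥ 1. -/
theorem result (k : Type u) [Field k] [IsAlgClosed k] (X : Scheme.{u})
    (f : X ⟶ Spec (CommRingCat.of k)) [Smooth f] [IsSeparated f] [LocallyOfFiniteType f] [QuasiCompact f] [IsIntegral X]
    (hdim : topologicalKrullDim ↥X = 1)
    (c : Cofan fun x : {x : ↥X // IsClosed ({x} : Set ↥X)} =>
      (EtCoh.push (X.fromSpecResidueField x.1)).obj (EtCoh.const (Spec (X.residueField x.1)) ℤ))
    (hc : IsColimit c) (q : ℕ) (hq : 1 ≤ q) :
    Subsingleton (EtCoh.H X c.pt q) := by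
  have hc1 : CompactSpace X := QuasiCompact.compactSpace_of_compactSpace f
  have hqs : QuasiSeparatedSpace X := quasiSeparatedSpace_of_quasiSeparated f
  obtain ⟨j, rfl⟩ : ∃ j, q = j + 1 := ⟨q - 1, by omega⟩
  have hz : ∀ a : {x : ↥X // IsClosed ({x} : Set ↥X)}, Limits.IsZero ((EtCoh.HF X (j + 1)).obj
      ((EtCoh.push (X.fromSpecResidueField a.1)).obj
        (EtCoh.const (Spec (X.residueField a.1)) ℤ))) := by
    intro a
    have hac : IsAlgClosed (X.residueField a.1) :=
      IsAlgClosed.of_ringEquiv (k := k) _
        ((residueFieldIsoBase f a.1 a.2).commRingCatIsoToRingEquiv.symm)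
    have hsc : IsSepClosed (X.residueField a.1) := inferInstance
    have : Limits.PreservesFiniteLimits (EtCoh.pull (X.fromSpecResidueField a.1)) :=
      Groth.Agent.Lib.Helper4.EtStalk.preservesFiniteLimits_pull _
    have hsub : Subsingleton (EtCoh.H X ((EtCoh.push (X.fromSpecResidueField a.1)).obj
        (EtCoh.const (Spec (X.residueField a.1)) ℤ)) (j + 1)) :=
      ⟨fun y y' =>
        (Groth.Agent.Lib.Helper28.SkySC.eq_zero_H (X.residueField a.1)
          (X.fromSpecResidueField a.1) j _ y).trans
        (Groth.Agent.Lib.Helper28.SkySC.eq_zero_H (X.residueField a.1)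
          (X.fromSpecResidueField a.1) j _ y').symm⟩
    exact @AddCommGrpCat.isZero_of_subsingleton ((EtCoh.HF X (j + 1)).obj
      ((EtCoh.push (X.fromSpecResidueField a.1)).obj
        (EtCoh.const (Spec (X.residueField a.1)) ℤ))) hsub
  have h := Groth.Agent.Lib.Helper28.CoprodH.isZero_HF_cofan X _ (j + 1) hz c hc
  exact AddCommGrpCat.subsingleton_of_isZero h

end Groth.Agent.S6641
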