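import Groth.Statements.S6647
import Groth.Agent.Lib.Helper4.LocConstEt

set_option autoImplicit false
open CategoryTheory CategoryTheory.Limits AlgebraicGeometry Opposite
universe u
open EtCore

namespace Groth.Agent.S6647
open Groth.Agent.Lib.Helper4 Groth.Agent.Lib.Helper4.LocConst


/-- Let φ : F ⟶ G be a map of locally constant abelian sheaves on the small etale site of a scheme X,
with F finite locally constant. Then on the members of some etale covering of X the restriction of φ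
is, up to isomorphisms with constant sheaves on both sides, the map of constant sheaves induced by a
homomorphism of abelian groups. -/
theorem result {X : Scheme.{u}} (F G : EtCoh.Ab X) (φ : F ⟶ G)
    (hF : EtCoh.IsFiniteLocallyConstant F) (hG : EtRest.IsLocallyConstant G) :
    ∃ (ι : Type u) (U : ι → X.Etale), EtCoh.Covers U ∧ ∀ i, ∃ (M N : Type (u + 1)) (_ : AddCommGroup M) (_ : AddCommGroup N)
      (h : M →+ N)
      (α : EtCoh.restr F (U i) ≅ (constantSheaf (X.smallEtaleTopology.over (U i)) AddCommGrpCat.{u + 1}).obj (AddCommGrpCat.of M))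
      (β : EtCoh.restr G (U i) ≅ (constantSheaf (X.smallEtaleTopology.over (U i)) AddCommGrpCat.{u + 1}).obj (AddCommGrpCat.of N)),
      (X.smallEtaleTopology.overPullback AddCommGrpCat.{u + 1} (U i)).map φ ≫ β.hom = α.hom ≫ (constantSheaf (X.smallEtaleTopology.over (U i)) AddCommGrpCat.{u + 1}).map (AddCommGrpCat.ofHom h) := by
  obtain ⟨ι₁, U₁, hU₁, hM⟩ := hF
  obtain ⟨ι₂, U₂, hU₂, hN⟩ := hG
  have key : ∀ x : X, ∃ (Z : X.Etale) (z : Z.left), Z.hom.base z = x ∧
      ∃ (M N : Type (u + 1)) (_ : AddCommGroup M) (_ : AddCommGroup N) (h : M →+ N)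
      (α : EtCoh.restr F Z ≅ (constantSheaf (X.smallEtaleTopology.over Z) AddCommGrpCat.{u + 1}).obj (AddCommGrpCat.of M))
      (β : EtCoh.restr G Z ≅ (constantSheaf (X.smallEtaleTopology.over Z) AddCommGrpCat.{u + 1}).obj (AddCommGrpCat.of N)),
      (X.smallEtaleTopology.overPullback AddCommGrpCat.{u + 1} Z).map φ ≫ β.hom = α.hom ≫ (constantSheaf (X.smallEtaleTopology.over Z) AddCommGrpCat.{u + 1}).map (AddCommGrpCat.ofHom h) := by
    intro x
    obtain ⟨i, y₁, hy₁⟩ := hU₁ x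
    obtain ⟨j, y₂, hy₂⟩ := hU₂ x
    obtain ⟨M₀, iM₀, fM₀, ⟨α₁⟩⟩ := hM i
    obtain ⟨N, iN, ⟨β₂⟩⟩ := hN j
    have : Finite (AddCommGrpCat.of (ULift.{u + 1} M₀)) := inferInstanceAs (Finite (ULift.{u + 1} M₀))
    obtain ⟨Z, z, c, α, β, hz, hc⟩ := local_hom φ x (U₁ i) (U₂ j) y₁ y₂ hy₁ hy₂
      (AddCommGrpCat.of (ULift.{u + 1} M₀)) (AddCommGrpCat.of N) α₁ β₂
    exact ⟨Z, z, hz, ULift.{u + 1} M₀, N, inferInstance, inferInstance, c.hom, α, β, hc⟩
  choose Z z hz hrest using key
  exact ⟨X, Z, fun x => ⟨x, z x, hz x⟩, hrest⟩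

end Groth.Agent.S6647
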