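import Groth.Statements.S6648
import Mathlib.AlgebraicGeometry.Morphisms.UniversallyOpen
import Mathlib.AlgebraicGeometry.Morphisms.Etale
import Mathlib.AlgebraicGeometry.Sites.EtalePoint
import Mathlib.Algebra.Category.Ring.FilteredColimits

set_option autoImplicit false
open CategoryTheory CategoryTheory.Limits AlgebraicGeometry Opposite
universe u
open EtCore

namespace Groth.Agent.S6648

/-- For a sheaf of (commutative) rings O on the small etale site of a scheme S, the set of points s of S
over which some geometric stalk of O is a nonzero ring is closed in S. (Rings are taken in the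
universe of the schemes, as for the structure presheaf of the prelude.) -/
theorem result {S : Scheme.{u}} (O : Sheaf S.smallEtaleTopology CommRingCat.{u}) :
    IsClosed {s : ↥S | ∃ (Ω : Type u) (_ : Field Ω) (_ : IsSepClosed Ω) (ξ : Spec (CommRingCat.of Ω) ⟶ S),
      ξ.base default = s ∧ Nontrivial ↑((Scheme.pointSmallEtale ξ).presheafFiber.obj O.obj)} := by
  rw [← isOpen_compl_iff, isOpen_iff_forall_mem_open]
  intro s hs
  let Ω := SeparableClosure (S.residueField s)
  let ξ : Spec (CommRingCat.of Ω) ⟶ S :=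
    Spec.map (CommRingCat.ofHom (algebraMap (S.residueField s) Ω)) ≫ S.fromSpecResidueField s
  let pt : ↥(Spec (CommRingCat.of Ω)) := default
  have hξ : ξ.base pt = s := by
    change (S.fromSpecResidueField s).base _ = s
    exact Scheme.fromSpecResidueField_apply _ _
  have htriv : ¬ Nontrivial ↑((Scheme.pointSmallEtale ξ).presheafFiber.obj O.obj) := by
    intro hn
    exact hs ⟨Ω, inferInstance, inferInstance, ξ, hξ, hn⟩
  rw [not_nontrivial_iff_subsingleton] at htriv
  let top : S.Etale := Scheme.Etale.mk (𝟙 S)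
  let x₀ : (Scheme.pointSmallEtale ξ).fiber.obj top :=
    (Over.homMk ξ (Category.comp_id _) : Over.mk ξ ⟶ (Scheme.Etale.forget S).obj top)
  have h10 : (Scheme.pointSmallEtale ξ).toPresheafFiber top x₀ O.obj (1 : O.obj.obj (op top)) =
      (Scheme.pointSmallEtale ξ).toPresheafFiber top x₀ O.obj (0 : O.obj.obj (op top)) :=
    Subsingleton.elim _ _
  rw [(Scheme.pointSmallEtale ξ).toPresheafFiber_eq_iff'] at h10
  obtain ⟨Y, f, y, hy, h10⟩ := h10
  rw [map_one, map_zero] at h10
  have : Etale Y.hom := Y.prop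
  refine ⟨Set.range Y.hom.base, ?_, Y.hom.isOpenMap.isOpen_range, ?_⟩
  · rintro _ ⟨y₀, rfl⟩
    rintro ⟨Ω', _, _, ξ', hξ', hn⟩
    obtain ⟨l, hl1, hl2⟩ := Scheme.exists_fac_of_etale_of_isSepClosed Y.hom ξ' y₀ hξ'.symm
    let y' : (Scheme.pointSmallEtale ξ').fiber.obj Y :=
      (Over.homMk l hl1 : Over.mk ξ' ⟶ (Scheme.Etale.forget S).obj Y)
    have h1 : (1 : ↑((Scheme.pointSmallEtale ξ').presheafFiber.obj O.obj)) = 0 := by
      have e1 := map_one ((Scheme.pointSmallEtale ξ').toPresheafFiber Y y' O.obj).hom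
      have e0 := map_zero ((Scheme.pointSmallEtale ξ').toPresheafFiber Y y' O.obj).hom
      rw [← e1, ← e0, h10]
    exact one_ne_zero h1
  · let y' : Over.mk ξ ⟶ (Scheme.Etale.forget S).obj Y := y
    refine ⟨y'.left.base pt, ?_⟩
    have hw : y'.left ≫ Y.hom = ξ := Over.w y'
    exact (congrArg (fun (g : Spec (CommRingCat.of Ω) ⟶ S) => g.base pt) hw).trans hξ

end Groth.Agent.S6648
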