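import Groth.Statements.S6649
import Groth.Agent.Lib.Helper1.CiTrdeg
import Groth.Agent.Lib.Helper73.DimFT.Scheme
import Groth.Agent.S0209
import Groth.Agent.S0214

set_option autoImplicit false
open CategoryTheory CategoryTheory.Limits AlgebraicGeometry Opposite
universe u
open Curves

namespace Groth.Agent.S6649

/-- For a curve C over an algebraically closed field k (C integral of dimension one, separated and of
finite type over k) the Brauer group of the function field of C is zero: every finite-dimensional
central division algebra over the function field has dimension one. -/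
theorem result (k : Type u) [Field k] [IsAlgClosed k] (C : Scheme.{u})
    (f : C ⟶ Spec (CommRingCat.of k)) [IsSeparated f] [LocallyOfFiniteType f] [QuasiCompact f] [IsIntegral C]
    (hdim : topologicalKrullDim ↥C = 1)
    (D : Type u) [DivisionRing D] [Algebra ↑C.functionField D] [Algebra.IsCentral ↑C.functionField D]
    [FiniteDimensional ↑C.functionField D] : Module.finrank ↑C.functionField D = 1 := by
  classical
  let φ : k →+* C.functionField :=
    (C.presheaf.germ ⊤ (genericPoint C) trivial).hom.comp (Coh.toGlobal f)
  let ψ : k →+* C.residueField (genericPoint C) :=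
    Groth.Agent.Lib.Helper73.resMapOf f (genericPoint C)
  have hbij : Function.Bijective (C.residue (genericPoint C)).hom := by
    refine ⟨RingHom.injective _, ?_⟩
    exact IsLocalRing.residue_surjective
  let e : C.functionField ≃+* C.residueField (genericPoint C) :=
    RingEquiv.ofBijective (C.residue (genericPoint C)).hom hbij
  have htr := Groth.Agent.Lib.Helper73.trdeg_eq_of_ringEquiv φ ψ e rfl
  have h1 := Groth.Agent.Lib.Helper73.trdeg_eq_trdegNat f (genericPoint C)
  have h2 := Groth.Agent.Lib.Helper73.topologicalKrullDim_eq_iSup_trdegNat f
  have h3 : Groth.Agent.Lib.Helper73.trdegNat f (genericPoint C) ≤ 1 := by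
    have h4 : ((Groth.Agent.Lib.Helper73.trdegNat f (genericPoint C) : ℕ∞) : WithBot ℕ∞) ≤
        topologicalKrullDim C := by
      rw [h2]
      exact le_iSup (fun x : C => ((Groth.Agent.Lib.Helper73.trdegNat f x : ℕ∞) : WithBot ℕ∞))
        (genericPoint C)
    rw [hdim] at h4
    exact_mod_cast h4
  let _ : Algebra k C.functionField := φ.toAlgebra
  have hCi : Curves.IsCi C.functionField 1 := by
    have := Groth.Agent.Lib.Helper1.Ci.isCi_of_trdeg_le' k 0 (Groth.Agent.S0209.result k)
      C.functionField 1 (by
        rw [htr, h1]
        exact_mod_cast h3)
    simpa using this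
  exact Groth.Agent.S0214.result C.functionField
    (Groth.Agent.Lib.Helper1.Ci.isCr_of_isCi hCi) D

end Groth.Agent.S6649
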