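import Groth.Statements.S6655
import Groth.Agent.Lib.Helper4.LocConstEtMod

set_option autoImplicit false
open CategoryTheory CategoryTheory.Limits AlgebraicGeometry Opposite
universe u
open EtModW

namespace Groth.Agent.S6655
open Groth.Agent.Lib.Helper4 Groth.Agent.Lib.Helper4.LocConstMod


/-- Part (3): with both sheaves of finite type: let Λ be a commutative ring and φ : F ⟶ G a map of
finite type locally constant sheaves of Λ-modules on the small etale site of a scheme X. Then on the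
members of some etale covering of X the restriction of φ is, up to isomorphisms with constant
sheaves on both sides, the map of constant sheaves induced by a Λ-linear map. (The published
statement allows G to be any locally constant sheaf of Λ-modules; this row assumes G of finite type
as well.) -/
theorem result (Λ : Type (u + 1)) [CommRing Λ] {X : Scheme.{u}} (F G : EtModW.Mod Λ X)
    (φ : F ⟶ G) (hF : EtModW.IsFTLocConst Λ F) (hG : EtModW.IsFTLocConst Λ G) :
    ∃ (ι : Type u) (U : ι → X.Etale), EtCoh.Covers U ∧ ∀ i, ∃ (M N : Type (u + 1)) (_ : AddCommGroup M) (_ : AddCommGroup N)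
      (_ : Module Λ M) (_ : Module Λ N) (h : M →ₗ[Λ] N)
      (α : EtModW.restr Λ F (U i) ≅ (constantSheaf (X.smallEtaleTopology.over (U i)) (ModuleCat.{u + 1} Λ)).obj (ModuleCat.of Λ M))
      (β : EtModW.restr Λ G (U i) ≅ (constantSheaf (X.smallEtaleTopology.over (U i)) (ModuleCat.{u + 1} Λ)).obj (ModuleCat.of Λ N)),
      (X.smallEtaleTopology.overPullback (ModuleCat.{u + 1} Λ) (U i)).map φ ≫ β.hom =
        α.hom ≫ (constantSheaf (X.smallEtaleTopology.over (U i)) (ModuleCat.{u + 1} Λ)).map (ModuleCat.ofHom h) := by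
  obtain ⟨ι₁, U₁, hU₁, hM⟩ := hF
  obtain ⟨ι₂, U₂, hU₂, hN⟩ := hG
  have key : ∀ x : X, ∃ (Z : X.Etale) (z : Z.left), Z.hom.base z = x ∧
      ∃ (M N : Type (u + 1)) (_ : AddCommGroup M) (_ : AddCommGroup N)
      (_ : Module Λ M) (_ : Module Λ N) (h : M →ₗ[Λ] N)
      (α : EtModW.restr Λ F Z ≅ (constantSheaf (X.smallEtaleTopology.over Z) (ModuleCat.{u + 1} Λ)).obj (ModuleCat.of Λ M))
      (β : EtModW.restr Λ G Z ≅ (constantSheaf (X.smallEtaleTopology.over Z) (ModuleCat.{u + 1} Λ)).obj (ModuleCat.of Λ N)),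
      (X.smallEtaleTopology.overPullback (ModuleCat.{u + 1} Λ) Z).map φ ≫ β.hom =
        α.hom ≫ (constantSheaf (X.smallEtaleTopology.over Z) (ModuleCat.{u + 1} Λ)).map (ModuleCat.ofHom h) := by
    intro x
    obtain ⟨i, y₁, hy₁⟩ := hU₁ x
    obtain ⟨j, y₂, hy₂⟩ := hU₂ x
    obtain ⟨M, iM, mM, fM, ⟨α₁⟩⟩ := hM i
    obtain ⟨N, iN, mN, fN, ⟨β₂⟩⟩ := hN j
    have : Module.Finite Λ (ModuleCat.of Λ M) := fM
    obtain ⟨Z, z, c, α, β, hz, hc⟩ := local_hom φ x (U₁ i) (U₂ j) y₁ y₂ hy₁ hy₂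
      (ModuleCat.of Λ M) (ModuleCat.of Λ N) α₁ β₂
    exact ⟨Z, z, hz, M, N, iM, iN, mM, mN, c.hom, α, β, hc⟩
  choose Z z hz hrest using key
  exact ⟨X, Z, fun x => ⟨x, z x, hz x⟩, hrest⟩

end Groth.Agent.S6655
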