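import Groth.Statements.S6659
import Groth.Agent.Lib.Helper4.DerivedAdj
import Groth.Agent.Lib.Helper4.Recoll

set_option autoImplicit false
universe u
open CategoryTheory CategoryTheory.Limits AlgebraicGeometry Opposite
attribute [local instance] HasDerivedCategory.standard
open EtDual

namespace Groth.Agent.S6659
open Groth.Agent.Lib.Helper4

section
variable {Z X U : Scheme.{u}} (i : Z ⟶ X) [IsClosedImmersion i] (j : U ⟶ X) [IsOpenImmersion j]
  (hZU : Set.range j = (Set.range i)ᶜ)

include hZU in
theorem isIso_unit_iff (M : EtCoh.Ab X) :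
    IsIso ((EtCoh.pullPushAdj i).unit.app M) ↔ IsZero ((EtCoh.pull j).obj M) := by
  constructor
  · intro h
    have e : M ≅ (EtCoh.push i).obj ((EtCoh.pull i).obj M) := asIso ((EtCoh.pullPushAdj i).unit.app M)
    exact (Recoll.isZero_pull_push i j hZU _).of_iso ((EtCoh.pull j).mapIso e)
  · intro h
    rw [EtStalk.isIso_iff_stalk]
    intro Ω _ _ ξ
    rcases Recoll.dichotomy i j hZU ξ with ⟨v, rfl, hd⟩ | ⟨ζ, rfl⟩
    · have h1 : IsZero ((EtCoh.stalk (v ≫ j)).obj M) :=
        ((EtCoh.stalk v).map_isZero h).of_iso ((EtStalkPull.stalkPullIso j v).app M).symm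
      have h2 : IsZero ((EtCoh.stalk (v ≫ j)).obj ((EtCoh.push i).obj ((EtCoh.pull i).obj M))) :=
        Groth.Agent.S0069.result i _ (v ≫ j) hd
      exact ⟨⟨0, h1.eq_of_src _ _, h2.eq_of_src _ _⟩⟩
    · exact ClosedRecoll.isIso_stalk_unit i M ζ

end


/-- Let i : Z → X be a closed immersion of schemes with open complement j : U → X. The direct image i_*
of abelian etale sheaves is exact (its right exactness is carried as an instance hypothesis), and
the induced functor D(Z_et) → D(X_et) is fully faithful; an object K of D(X_et) lies in its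
essential image if and only if every cohomology sheaf of K has zero restriction to U, i.e. K has
cohomology sheaves supported on Z. (The identification of the quasi-inverse with the derived functor
of sections supported on Z is not part of this row.) -/
theorem result {Z X U : Scheme.{u}} (i : Z ⟶ X)
    [IsClosedImmersion i] (j : U ⟶ X) [IsOpenImmersion j] (hZU : Set.range j = (Set.range i)ᶜ)
    [PreservesFiniteColimits (EtCoh.push i)] :
    ((EtCoh.push i).mapDerivedCategory.Full ∧ (EtCoh.push i).mapDerivedCategory.Faithful) ∧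
      ∀ K : DCoh.DEt X,
        (EtCoh.push i).mapDerivedCategory.essImage K ↔
          ∀ n : ℤ, IsZero ((EtCoh.pull j).obj (DCoh.HDEt K n)) := by
  have hfl : PreservesFiniteLimits (EtCoh.pull i) := EtStalk.preservesFiniteLimits_pull i
  have hfc : PreservesFiniteColimits (EtCoh.pull i) := by
    have : PreservesColimitsOfSize.{0, 0} (EtCoh.pull i) :=
      (EtCoh.pullPushAdj i).leftAdjoint_preservesColimits
    infer_instance
  have hfl' : PreservesFiniteLimits (EtCoh.push i) := by
    have : PreservesLimitsOfSize.{0, 0} (EtCoh.push i) :=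
      (EtCoh.pullPushAdj i).rightAdjoint_preservesLimits
    exact PreservesLimitsOfSize.preservesFiniteLimits _
  have hadd : (EtCoh.pull i).Additive := (EtCoh.pullPushAdj i).left_adjoint_additive
  have hε : IsIso (EtCoh.pullPushAdj i).counit :=
    NatIso.isIso_of_isIso_app _
  let ff := DerivedAdj.fullyFaithful (EtCoh.pullPushAdj i)
  have hFull : (EtCoh.push i).mapDerivedCategory.Full := ff.full
  have hFaith : (EtCoh.push i).mapDerivedCategory.Faithful := ff.faithful
  refine ⟨⟨hFull, hFaith⟩, fun K => ?_⟩
  rw [← (DerivedAdj.derAdj (EtCoh.pullPushAdj i)).isIso_unit_app_iff_mem_essImage,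
    DerivedAdj.isIso_derAdj_unit_app_iff]
  refine forall_congr' fun n => ?_
  exact isIso_unit_iff i j hZU _

end Groth.Agent.S6659
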