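import Groth.Statements.S6666
import Mathlib
import Groth.Agent.S7379
import Groth.Agent.Lib.Helper50.StalkLim
import Groth.Agent.Lib.Helper46.IrrCompFlat

set_option autoImplicit false
universe u
open CategoryTheory AlgebraicGeometry
open Lim

namespace Groth.Agent.S6666

/-- Let T be a nonempty quasi-compact quasi-separated scheme and P a property of schemes over T (applied
to quasi-compact quasi-separated ones). Assume: (1) for every thickening T'' → T' (a surjective
closed immersion) of quasi-compact quasi-separated schemes over T, P(T'') if and only if P(T'); (2)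
if a scheme T' over T is a limit (in schemes over T) of a cofiltered system of quasi-compact
quasi-separated schemes over T with affine transition morphisms and P holds for every member, then
P(T'); (3) if T' is quasi-compact quasi-separated over T with P(T') and Z ⊂ T' is a closed subscheme
whose open complement V is quasi-compact, then P(V) or P(Z). Then P(T) implies P(Spec K → T) for
some field K and some morphism Spec K → T. (The published statement does not require T nonempty; for
T empty and P identically true there is no morphism from the spectrum of a field to T, so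
nonemptiness is assumed here.) -/
theorem result (T : Scheme.{u}) [CompactSpace T] [QuasiSeparatedSpace T]
    [Nonempty T] (P : ∀ ⦃T' : Scheme.{u}⦄, (T' ⟶ T) → Prop)
    (h1 : ∀ ⦃T' T'' : Scheme.{u}⦄ (a : T' ⟶ T) (t : T'' ⟶ T') [IsClosedImmersion t] [Surjective t]
      [CompactSpace T'] [QuasiSeparatedSpace T'] [CompactSpace T''] [QuasiSeparatedSpace T''], P (t ≫ a) ↔ P a)
    (h2 : ∀ ⦃I : Type u⦄ [SmallCategory I] [IsCofiltered I] (D : I ⥤ Over T) (c : Limits.Cone D) (_ : Limits.IsLimit c),
      (∀ (i j : I) (m : i ⟶ j), IsAffineHom (D.map m).left) →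
      (∀ i, CompactSpace (D.obj i).left ∧ QuasiSeparatedSpace (D.obj i).left) →
      (∀ i, P (D.obj i).hom) → P c.pt.hom)
    (h3 : ∀ ⦃T' Z V : Scheme.{u}⦄ (a : T' ⟶ T) [CompactSpace T'] [QuasiSeparatedSpace T'] (i : Z ⟶ T') [IsClosedImmersion i]
      (j : V ⟶ T') [IsOpenImmersion j] [CompactSpace V], Set.range j = (Set.range i)ᶜ → P a → P (j ≫ a) ∨ P (i ≫ a))
    (hT : P (𝟙 T)) :
    ∃ (K : Type u) (_ : Field K) (t : Spec (CommRingCat.of K) ⟶ T), P t := by
  classical
  open Limits Scheme.IdealSheafData Groth.Agent.Lib.Helper50.StalkLim Opposite in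
  -- invariance under isomorphisms
  have hiso : ∀ ⦃T' T'' : Scheme.{u}⦄ (a : T' ⟶ T) (t : T'' ⟶ T') [IsIso t] [CompactSpace T']
      [QuasiSeparatedSpace T'], P (t ≫ a) ↔ P a := by
    intro T' T'' a t _ _ _
    haveI : CompactSpace T'' := QuasiCompact.compactSpace_of_compactSpace t
    haveI : QuasiSeparatedSpace T'' := quasiSeparatedSpace_of_quasiSeparated t
    haveI : Surjective t := ⟨(TopCat.homeoOfIso (asIso t.base)).surjective⟩
    exact h1 a t
  have hqc : ∀ J : T.IdealSheafData, CompactSpace J.subscheme := fun J =>
    QuasiCompact.compactSpace_of_compactSpace J.subschemeι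
  have hqs : ∀ J : T.IdealSheafData, QuasiSeparatedSpace J.subscheme := fun J =>
    quasiSeparatedSpace_of_quasiSeparated J.subschemeι
  let S : Set T.IdealSheafData := {J | J ≠ ⊤ ∧ P J.subschemeι}
  have hbot : (⊥ : T.IdealSheafData) ∈ S := by
    refine ⟨?_, ?_⟩
    · intro h
      have h2 : (⊥ : T.IdealSheafData).support = ⊥ := by rw [h]; exact support_top
      rw [support_bot] at h2
      obtain ⟨x⟩ := ‹Nonempty T›
      have h3 : x ∈ ((⊤ : TopologicalSpace.Closeds T) : Set T) := trivial
      rw [h2] at h3
      exact h3
    · have := hiso (𝟙 T) (⊥ : T.IdealSheafData).subschemeι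
      rw [Category.comp_id] at this
      exact this.mpr hT
  have ih : ∀ C ⊆ S, IsChain (· ≤ ·) C → ∀ y ∈ C, ∃ ub ∈ S, ∀ z ∈ C, z ≤ ub := by
    intro C hCS hchain y hyC
    haveI : Nonempty ↥C := ⟨⟨y, hyC⟩⟩
    haveI : IsDirected ↥C (· ≤ ·) := ⟨fun a b => (hchain.total a.2 b.2).elim
      (fun h => ⟨b, h, le_rfl⟩) (fun h => ⟨a, le_rfl, h⟩)⟩
    refine ⟨sSup C, ⟨?_, ?_⟩, fun z hz => le_sSup hz⟩
    · -- the supremum is not the unit ideal, by compactness
      intro htop
      have hne : (⋂ J : ↥C, ((J.1.support : TopologicalSpace.Closeds T) : Set T)).Nonempty := by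
        apply IsCompact.nonempty_iInter_of_directed_nonempty_isCompact_isClosed
        · intro a b
          obtain ⟨m, ha, hb⟩ := directed_of (· ≤ ·) a b
          exact ⟨m, support_antitone ha, support_antitone hb⟩
        · intro J
          rw [Set.nonempty_iff_ne_empty]
          intro h
          apply (hCS J.2).1
          rw [← support_eq_bot_iff]
          exact TopologicalSpace.Closeds.ext h
        · intro J
          exact J.1.support.isClosed.isCompact
        · intro J
          exact J.1.support.isClosed
      obtain ⟨x, hx⟩ := hne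
      rw [Set.mem_iInter] at hx
      let Zx : TopologicalSpace.Closeds T := ⟨closure {x}, isClosed_closure⟩
      have h1' : sSup C ≤ vanishingIdeal Zx := by
        apply sSup_le
        intro J hJ
        rw [← le_support_iff_le_vanishingIdeal]
        exact closure_minimal (Set.singleton_subset_iff.2 (hx ⟨J, hJ⟩)) J.support.isClosed
      rw [← le_support_iff_le_vanishingIdeal, htop, support_top] at h1'
      exact h1' (subset_closure rfl : x ∈ closure {x})
    · -- `P` for the supremum, by (2)
      let Φ : ↥C ⥤ T.IdealSheafData := (Subtype.mono_coe _).functor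
      let D : (↥C)ᵒᵖ ⥤ Over T := Φ.op ⋙ Scheme.IdealSheafData.subschemeFunctor T
      haveI hmono : ∀ J : (↥C)ᵒᵖ, Mono (D.obj J).hom := fun J =>
        inferInstanceAs (Mono (J.unop.1.subschemeι))
      let I0 : T.IdealSheafData := sSup C
      let c : Cone D :=
        { pt := Over.mk I0.subschemeι
          π :=
            { app := fun J => Over.homMk (Scheme.IdealSheafData.inclusion (le_sSup J.unop.2))
                (Scheme.IdealSheafData.inclusion_subschemeι _)
              naturality := fun _ _ _ => Groth.Agent.S7379.over_hom_ext_of_mono _ _ } }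
      haveI : Mono c.pt.hom := inferInstanceAs (Mono I0.subschemeι)
      have hle : ∀ s : Cone D, I0 ≤ Scheme.Hom.ker s.pt.hom := by
        intro s
        apply sSup_le
        intro J hJ
        have h1' : J = Scheme.Hom.ker (J.subschemeι) :=
          (Scheme.IdealSheafData.ker_subschemeι J).symm
        have h2' := Scheme.Hom.le_ker_comp (s.π.app (op (⟨J, hJ⟩ : ↥C))).left J.subschemeι
        have h3' : (s.π.app (op (⟨J, hJ⟩ : ↥C))).left ≫ J.subschemeι = s.pt.hom :=
          Over.w (s.π.app (op (⟨J, hJ⟩ : ↥C)))
        rw [h3'] at h2'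
        exact (le_of_eq h1').trans h2'
      let hc : IsLimit c :=
        { lift := fun s => Over.homMk
            (Scheme.Hom.toImage s.pt.hom ≫ Scheme.IdealSheafData.inclusion (hle s))
            (by
              change (Scheme.Hom.toImage s.pt.hom ≫ Scheme.IdealSheafData.inclusion (hle s)) ≫
                I0.subschemeι = s.pt.hom
              rw [Category.assoc, Scheme.IdealSheafData.inclusion_subschemeι,
                Scheme.Hom.toImage_imageι])
          fac := fun _ _ => Groth.Agent.S7379.over_hom_ext_of_mono _ _
          uniq := fun _ _ _ => Groth.Agent.S7379.over_hom_ext_of_mono _ _ }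
      refine h2 D c hc ?_ ?_ ?_
      · intro i j m
        haveI : IsClosedImmersion ((D.map m).left ≫ (D.obj j).hom) := by
          rw [Over.w]; exact inferInstanceAs (IsClosedImmersion (i.unop.1.subschemeι))
        haveI : IsClosedImmersion (D.obj j).hom :=
          inferInstanceAs (IsClosedImmersion (j.unop.1.subschemeι))
        haveI : IsClosedImmersion (D.map m).left :=
          IsClosedImmersion.of_comp (D.map m).left (D.obj j).hom
        infer_instance
      · intro i
        exact ⟨hqc _, hqs _⟩
      · intro i
        exact (hCS i.unop.2).2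
  obtain ⟨J₀, -, hmax⟩ := zorn_le_nonempty₀ S ih ⊥ hbot
  obtain ⟨⟨hJ₀top, hPJ₀⟩, hmax'⟩ := hmax
  -- the minimal closed subscheme
  let Z : Scheme.{u} := J₀.subscheme
  let i₀ : Z ⟶ T := J₀.subschemeι
  haveI : CompactSpace Z := hqc J₀
  haveI : QuasiSeparatedSpace Z := hqs J₀
  haveI : Nonempty Z := by
    by_contra hemp
    rw [not_nonempty_iff] at hemp
    apply hJ₀top
    rw [← support_eq_bot_iff]
    apply TopologicalSpace.Closeds.ext
    rw [← range_subschemeι]
    simp only [TopologicalSpace.Closeds.coe_bot]
    exact Set.range_eq_empty _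
  -- minimality
  have hmin : ∀ ⦃Z' : Scheme.{u}⦄ (k : Z' ⟶ Z) [IsClosedImmersion k] [Nonempty Z'],
      P (k ≫ i₀) → IsIso k := by
    intro Z' k _ _ hPk
    let J' : T.IdealSheafData := Scheme.Hom.ker (k ≫ i₀)
    have hle : J₀ ≤ J' := by
      have := Scheme.Hom.le_ker_comp k i₀
      rwa [Scheme.IdealSheafData.ker_subschemeι] at this
    have hJ'S : J' ∈ S := by
      refine ⟨?_, ?_⟩
      · intro h
        haveI : IsEmpty J'.subscheme := by rw [h]; infer_instance
        obtain ⟨z'⟩ := ‹Nonempty Z'›
        exact IsEmpty.false ((k ≫ i₀).toImage z')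
      · have := hiso J'.subschemeι (k ≫ i₀).toImage
        rw [Scheme.Hom.toImage_imageι] at this
        exact this.mp hPk
    have heq : J' = J₀ := le_antisymm (hmax' hJ'S hle) hle
    exact IsClosedImmersion.isIso_of_ker_eq (k ≫ i₀) i₀ k rfl
      (heq.trans (Scheme.IdealSheafData.ker_subschemeι J₀).symm)
  -- a maximal point of `Z`
  obtain ⟨η, hη⟩ : ∃ η : Z, η ∈ Groth.Agent.Lib.Helper46.IrrCompFlat.Gen Z := by
    obtain ⟨z⟩ := ‹Nonempty Z›
    have hC := irreducibleComponent_mem_irreducibleComponents z
    rw [← Groth.Agent.Lib.Helper46.IrrCompFlat.genericPoints_eq_gen]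
    have hirr : IsIrreducible (irreducibleComponent z) := isIrreducible_irreducibleComponent
    have hcl : IsClosed (irreducibleComponent z) := isClosed_of_mem_irreducibleComponents _ hC
    have hg := hirr.isGenericPoint_genericPoint hcl
    refine ⟨hirr.genericPoint, ?_⟩
    show closure {hirr.genericPoint} ∈ irreducibleComponents Z
    rw [hg.def]
    exact hC
  -- `P` for the affine open neighbourhoods of `η`
  have hnhd : ∀ W : AffNhd Z η, P (W.1.ι ≫ i₀) := by
    intro W
    let Cl : TopologicalSpace.Closeds Z := ⟨(W.1 : Set Z)ᶜ, W.1.isOpen.isClosed_compl⟩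
    let k := (vanishingIdeal Cl).subschemeι
    have hrk : Set.range k = (W.1 : Set Z)ᶜ := by
      rw [range_subschemeι, coe_support_vanishingIdeal]
      rfl
    haveI : IsAffine W.1.toScheme := W.2.1
    have hrange : Set.range W.1.ι = (Set.range k)ᶜ := by
      rw [hrk, compl_compl, Scheme.Opens.range_ι]
    rcases h3 i₀ k W.1.ι hrange hPJ₀ with h | h
    · exact h
    · by_cases hne : Nonempty (vanishingIdeal Cl).subscheme
      · haveI := hne
        haveI := hmin k h
        exfalso
        have h5 : η ∈ Set.range k := by
          have : Function.Surjective k := (TopCat.homeoOfIso (asIso k.base)).surjective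
          exact this η
        rw [hrk] at h5
        exact h5 W.2.2
      · rw [not_nonempty_iff] at hne
        have hsurj : Function.Surjective W.1.ι := by
          intro z
          have : z ∈ (W.1 : Set Z) := by
            by_contra hz
            have : z ∈ Set.range k := by rw [hrk]; exact hz
            obtain ⟨w, -⟩ := this
            exact hne.false w
          exact ⟨⟨z, this⟩, rfl⟩
        haveI : IsIso W.1.ι :=
          (isIso_iff_isOpenImmersion_and_surjective _).mpr ⟨inferInstance, ⟨hsurj⟩⟩
        exact (hiso i₀ W.1.ι).mpr hPJ₀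
  -- pass to the local ring at `η`, by (2)
  have hloc : P (Z.fromSpecStalk η ≫ i₀) := by
    let D : AffNhd Z η ⥤ Over T := (nhdDiagram Z η).toOver T (fun W => W.1.ι ≫ i₀)
      (fun g => by rw [nhdDiagram_map_ι_assoc])
    let c : Cone D :=
      { pt := Over.mk (Z.fromSpecStalk η ≫ i₀)
        π :=
          { app := fun W => Over.homMk (W.1.fromSpecStalkOfMem η W.2.2) (by
              change W.1.fromSpecStalkOfMem η W.2.2 ≫ W.1.ι ≫ i₀ = Z.fromSpecStalk η ≫ i₀
              rw [Scheme.Opens.fromSpecStalkOfMem_ι_assoc])
            naturality := fun W W' f => by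
              ext1
              exact (nhdCone Z η).π.naturality f } }
    haveI : IsConnected (AffNhd Z η) := IsCofiltered.isConnected _
    have hc : IsLimit c := by
      apply isLimitOfReflects (Over.forget T)
      exact (isLimitNhdCone Z η).ofIsoLimit (Cone.ext (Iso.refl _) (fun W => by simp [c]))
    refine h2 D c hc ?_ ?_ ?_
    · intro i j m
      exact inferInstanceAs (IsAffineHom ((nhdDiagram Z η).map m))
    · intro W
      haveI : IsAffine (D.obj W).left := W.2.1
      exact ⟨inferInstance, inferInstance⟩
    · intro W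
      exact hnhd W
  -- the local ring at `η` has a single point
  haveI : Surjective (Spec.map (Z.residue η)) := by
    refine ⟨fun p => ⟨default, ?_⟩⟩
    apply (Z.fromSpecStalk η).isEmbedding.injective
    have hp : ∀ p' : Spec (Z.presheaf.stalk η), (Z.fromSpecStalk η) p' = η := by
      intro p'
      apply hη
      have : (Z.fromSpecStalk η) p' ∈ Set.range (Z.fromSpecStalk η) := ⟨p', rfl⟩
      rw [Scheme.range_fromSpecStalk] at this
      exact this
    rw [hp, hp]
  refine ⟨Z.residueField η, inferInstance, Spec.map (Z.residue η) ≫ Z.fromSpecStalk η ≫ i₀, ?_⟩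
  exact (h1 (Z.fromSpecStalk η ≫ i₀) (Spec.map (Z.residue η))).mpr hloc

end Groth.Agent.S6666
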