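import Groth.Statements.S6694
import Groth.Agent.Lib.Helper16.EtD5
import Groth.Agent.Lib.Helper61.AdjTransfer

set_option autoImplicit false
universe u
open CategoryTheory CategoryTheory.Limits AlgebraicGeometry Opposite
attribute [local instance] HasDerivedCategory.standard
open EtBC

namespace Groth.Agent.S6694

/-- Consider a tower of cartesian squares of schemes, Y = X ×_S T with f : X → S, g : T → S, h : Y → X,
e : Y → T, and Z = W ×_X Y with i : W → X, j : Z → W, k : Z → Y, so that Z = W ×_S T is cartesian.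
Let K be an object of D(T_et). If the base change morphisms f⁻¹ Rg_* K → Rh_* e⁻¹ K and i⁻¹ Rh_*
(e⁻¹ K) → Rj_* k⁻¹ (e⁻¹ K) are isomorphisms, then the base change morphism (f ∘ i)⁻¹ Rg_* K → Rj_*
(e ∘ k)⁻¹ K of the outer rectangle is an isomorphism. (The unbounded derived direct images exist
under the stated binders; each base change morphism is the transpose under an adjunction between
inverse image and derived direct image on derived categories, supplied as data; left exactness of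
the inverse image functors is carried as instance hypotheses.) -/
theorem result {X S Y T W Z : Scheme.{u}} (f : X ⟶ S) (g : T ⟶ S) (h : Y ⟶ X) (e : Y ⟶ T)
    (c : IsPullback e h g f) (i : W ⟶ X) (j : Z ⟶ W) (k : Z ⟶ Y) (c' : IsPullback k j h i)
    (c'' : IsPullback (k ≫ e) j g (i ≫ f))
    [PreservesFiniteLimits (EtCoh.pull f)] [PreservesFiniteLimits (EtCoh.pull i)]
    [PreservesFiniteLimits (EtCoh.pull (i ≫ f))] [PreservesFiniteLimits (EtCoh.pull e)]
    [PreservesFiniteLimits (EtCoh.pull k)] [PreservesFiniteLimits (EtCoh.pull (k ≫ e))]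
    [DCoh.HasRpushEt T g] [DCoh.HasRpushEt Y h] [DCoh.HasRpushEt Z j] [DCoh.HasRpushEt X f]
    [DCoh.HasRpushEt W i] [DCoh.HasRpushEt W (i ≫ f)]
    (adj₁ : EtBC.pullD f ⊣ DCoh.RpushEt X f) (adj₂ : EtBC.pullD i ⊣ DCoh.RpushEt W i)
    (adj₃ : EtBC.pullD (i ≫ f) ⊣ DCoh.RpushEt W (i ≫ f)) (K : DCoh.DEt T)
    (h1 : IsIso (EtBC.bcMap g f h e c.w adj₁ K))
    (h2 : IsIso (EtBC.bcMap h i j k c'.w adj₂ ((EtBC.pullD e).obj K))) :
    IsIso (EtBC.bcMap g (i ≫ f) j (k ≫ e) c''.w adj₃ K) := by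
  have key := Groth.Agent.Lib.Helper16.BCAbs.vcomp
    (αg := Groth.Agent.Lib.Helper16.EtD.unitOf g) (αh := Groth.Agent.Lib.Helper16.EtD.unitOf h)
    (αj := Groth.Agent.Lib.Helper16.EtD.unitOf j) (αf := Groth.Agent.Lib.Helper16.EtD.unitOf f)
    (αi := Groth.Agent.Lib.Helper16.EtD.unitOf i)
    (αif := Groth.Agent.Lib.Helper16.EtD.unitOf (i ≫ f))
    (face := (EtCoh.pull e).mapDerivedCategoryFactorsh)
    (fack := (EtCoh.pull k).mapDerivedCategoryFactorsh)
    (facke := (EtCoh.pull (k ≫ e)).mapDerivedCategoryFactorsh)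
    (pp₁ := EtBC.pushToPushPullH g f h e c.w) (pp₂ := EtBC.pushToPushPullH h i j k c'.w)
    (pp₃ := EtBC.pushToPushPullH g (i ≫ f) j (k ≫ e) c''.w)
    (κ := (Groth.Agent.Lib.Helper16.EtD.kappa f i).hom)
    (θk := (Groth.Agent.Lib.Helper16.EtD.thetaK e k).hom)
    (θD := (Groth.Agent.Lib.Helper16.EtD.thetaD e k).hom)
    (bcA₁ := EtBC.bcAdj g f h e c.w) (bcA₂ := EtBC.bcAdj h i j k c'.w)
    (bcA₃ := EtBC.bcAdj g (i ≫ f) j (k ≫ e) c''.w)
    (c := (Groth.Agent.Lib.Helper16.EtD.rho f i adj₂).inv)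
    (Groth.Agent.Lib.Helper16.EtD.bcAdj_fac g f h e c.w)
    (Groth.Agent.Lib.Helper16.EtD.bcAdj_fac h i j k c'.w)
    (Groth.Agent.Lib.Helper16.EtD.bcAdj_fac g (i ≫ f) j (k ≫ e) c''.w)
    (Groth.Agent.Lib.Helper16.EtD.rho_inv_fac f i adj₂)
    (Groth.Agent.Lib.Helper16.EtD.thetaD_fac e k)
    (Groth.Agent.Lib.Helper16.EtD.pushToPushPullH_vcomp f g h e i j k c.w c'.w c''.w) K
  have nat := (Groth.Agent.Lib.Helper16.EtD.rho f i adj₂).inv.naturality
    ((DCoh.RpushEt Z j).map ((Groth.Agent.Lib.Helper16.EtD.thetaD e k).hom.app K))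
  refine Groth.Agent.Lib.Helper61.AdjTransfer.isIso_transpose_of_comp adj₁ adj₂ adj₃
    (Groth.Agent.Lib.Helper16.EtD.rho f i adj₂)
    ((EtBC.bcAdj g f h e c.w).app K) ((EtBC.bcAdj h i j k c'.w).app ((EtBC.pullD e).obj K))
    ((EtBC.bcAdj g (i ≫ f) j (k ≫ e) c''.w).app K)
    ((DCoh.RpushEt Z j).map ((Groth.Agent.Lib.Helper16.EtD.thetaD e k).hom.app K)) ?_ h1 h2
  rw [← key]
  simp only [Category.assoc]
  refine congrArg (fun t => (EtBC.bcAdj g (i ≫ f) j (k ≫ e) c''.w).app K ≫ t) ?_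
  have e1 : (Groth.Agent.Lib.Helper16.EtD.rho f i adj₂).inv.app
      ((DCoh.RpushEt Z j).obj ((EtBC.pullD e ⋙ EtBC.pullD k).obj K)) ≫
      (Groth.Agent.Lib.Helper16.EtD.rho f i adj₂).hom.app
        ((DCoh.RpushEt Z j).obj ((EtBC.pullD k).obj ((EtBC.pullD e).obj K))) = 𝟙 _ :=
    Iso.inv_hom_id_app _ _
  refine ((Category.comp_id _).symm.trans (congrArg (fun t => _ ≫ t) e1.symm)).trans ?_
  refine (Category.assoc _ _ _).symm.trans ?_
  refine (congrArg (fun t => t ≫ (Groth.Agent.Lib.Helper16.EtD.rho f i adj₂).hom.app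
        ((DCoh.RpushEt Z j).obj ((EtBC.pullD k).obj ((EtBC.pullD e).obj K)))) nat).trans ?_
  exact Category.assoc _ _ _

end Groth.Agent.S6694
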