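import Groth.Statements.S6708

set_option autoImplicit false
universe v u
open CategoryTheory
open DEquiv

namespace Groth.Agent.S6708

open CategoryTheory.Limits CategoryTheory.Pretriangulated in
/-- Let D be a pretriangulated category, D' ⊆ D a full triangulated subcategory (given as a property of
objects that is triangulated in Mathlib's sense) and X an object of D. Then the category of arrows E
⟶ X with E in D' is filtered. -/
theorem result
    {D : Type u} [Category.{v} D] [Preadditive D] [HasZeroObject D] [HasShift D ℤ]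
    [∀ n : ℤ, (shiftFunctor D n).Additive] [Pretriangulated D]
    (P : ObjectProperty D) [P.IsTriangulated] (X : D) :
    IsFiltered (CostructuredArrow P.ι X) := by
  have : Nonempty (CostructuredArrow P.ι X) := by
    obtain ⟨Z, -, hZ⟩ := P.exists_prop_of_containsZero
    exact ⟨CostructuredArrow.mk (Y := ⟨Z, hZ⟩) (0 : P.ι.obj ⟨Z, hZ⟩ ⟶ X)⟩
  have : IsFilteredOrEmpty (CostructuredArrow P.ι X) := by
    refine ⟨fun A B => ?_, fun A B f g => ?_⟩
    · refine ⟨CostructuredArrow.mk (Y := A.left ⊞ B.left)
        (P.ι.map biprod.fst ≫ A.hom + P.ι.map biprod.snd ≫ B.hom),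
        CostructuredArrow.homMk biprod.inl ?_, CostructuredArrow.homMk biprod.inr ?_, trivial⟩
      · have h1 : P.ι.map (biprod.inl : A.left ⟶ A.left ⊞ B.left) ≫ P.ι.map biprod.fst = 𝟙 _ := by
          rw [← Functor.map_comp, biprod.inl_fst, CategoryTheory.Functor.map_id]
        have h2 : P.ι.map (biprod.inl : A.left ⟶ A.left ⊞ B.left) ≫ P.ι.map biprod.snd = 0 := by
          rw [← Functor.map_comp, biprod.inl_snd, Functor.map_zero]
        change P.ι.map biprod.inl ≫ (P.ι.map biprod.fst ≫ A.hom + P.ι.map biprod.snd ≫ B.hom) = A.hom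
        rw [Preadditive.comp_add, reassoc_of% h1, reassoc_of% h2, zero_comp, add_zero]
      · have h1 : P.ι.map (biprod.inr : B.left ⟶ A.left ⊞ B.left) ≫ P.ι.map biprod.fst = 0 := by
          rw [← Functor.map_comp, biprod.inr_fst, Functor.map_zero]
        have h2 : P.ι.map (biprod.inr : B.left ⟶ A.left ⊞ B.left) ≫ P.ι.map biprod.snd = 𝟙 _ := by
          rw [← Functor.map_comp, biprod.inr_snd, CategoryTheory.Functor.map_id]
        change P.ι.map biprod.inr ≫ (P.ι.map biprod.fst ≫ A.hom + P.ι.map biprod.snd ≫ B.hom) = B.hom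
        rw [Preadditive.comp_add, reassoc_of% h1, reassoc_of% h2, zero_comp, zero_add]
    · obtain ⟨C, w, t, hT⟩ := distinguished_cocone_triangle (f.left - g.left)
      have hT' := P.ι.map_distinguished _ hT
      have h0 : P.ι.map (f.left - g.left) ≫ B.hom = 0 := by
        rw [Functor.map_sub, Preadditive.sub_comp, CostructuredArrow.w, CostructuredArrow.w,
          sub_self]
      obtain ⟨c, hc⟩ := Triangle.yoneda_exact₂ _ hT' B.hom h0
      refine ⟨CostructuredArrow.mk (Y := C) c, CostructuredArrow.homMk w hc.symm, ?_⟩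
      ext
      have h1 : (f.left - g.left) ≫ w = 0 := comp_distTriang_mor_zero₁₂ _ hT
      rw [Preadditive.sub_comp, sub_eq_zero] at h1
      have h2 := congrArg (fun q => q.hom) h1
      simpa using h2
  exact {}

end Groth.Agent.S6708
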