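import Groth.Statements.S6714
import Mathlib
import Groth.Agent.Lib.Helper61.FPPres

set_option autoImplicit false
universe u v' u'
open CategoryTheory CategoryTheory.Limits
open FunMor

namespace Groth.Agent.S6714
set_option maxHeartbeats 400000
open CategoryTheory CategoryTheory.Limits
open Groth.Agent.Lib.Helper61.FPPres

noncomputable section

variable (A : Type u) [CommRing A]

/-- finitely presented modules -/
abbrev fp : ObjectProperty (ModuleCat.{u} A) := fun M => Module.FinitePresentation A M

variable {A}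

instance (X : (fp A).FullSubcategory) : Module.FinitePresentation A X.obj := X.property

section Final

variable (M : ModuleCat.{u} A)

/-- the stage `i` as an object of the full subcategory -/
def stage (i : Idx M) : (fp A).FullSubcategory :=
  ⟨(fpDiag M).obj i, inferInstanceAs (Module.FinitePresentation A ((fpDiag M).obj i))⟩

/-- the explicit presentation as a functor to the comma category -/
def toCost : Idx M ⥤ CostructuredArrow (fp A).ι M where
  obj i := CostructuredArrow.mk (Y := stage M i) (ιM M i)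
  map {i j} φ := CostructuredArrow.homMk (ObjectProperty.homMk ((fpDiag M).map φ))
    (fpDiag_map_ιM M φ)
  map_id i := by
    apply CostructuredArrow.hom_ext
    apply ObjectProperty.hom_ext
    exact (fpDiag M).map_id i
  map_comp φ ψ := by
    apply CostructuredArrow.hom_ext
    apply ObjectProperty.hom_ext
    exact (fpDiag M).map_comp φ ψ

instance : (toCost M).Final := by
  apply Functor.final_of_exists_of_isFiltered
  · intro d
    obtain ⟨i, ψ, hψ⟩ := exists_factor d.left.obj (isColimitFpCocone M) d.hom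
    exact ⟨i, ⟨CostructuredArrow.homMk (ObjectProperty.homMk ψ) hψ⟩⟩
  · intro d i s s'
    have h1 : s.left.hom ≫ ιM M i = d.hom := CostructuredArrow.w s
    have h2 : s'.left.hom ≫ ιM M i = d.hom := CostructuredArrow.w s'
    obtain ⟨k, t, ht⟩ := exists_eq d.left.obj (isColimitFpCocone M) s.left.hom s'.left.hom
      (h1.trans h2.symm)
    refine ⟨k, t, ?_⟩
    apply CostructuredArrow.hom_ext
    apply ObjectProperty.hom_ext
    exact ht

end Final

variable {B : Type u'} [Category.{v'} B]

section Unique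

variable (F₁ : ModuleCat.{u} A ⥤ B) [PreservesFilteredColimitsOfSize.{u, u} F₁]

/-- the comparison of diagrams -/
def diagIso (M : ModuleCat.{u} A) :
    toCost M ⋙ CostructuredArrow.proj (fp A).ι M ⋙ ((fp A).ι ⋙ F₁) ≅ fpDiag M ⋙ F₁ :=
  NatIso.ofComponents (fun i => Iso.refl _) (by
    intro i j φ
    show F₁.map ((fpDiag M).map φ) ≫ 𝟙 _ = 𝟙 _ ≫ F₁.map ((fpDiag M).map φ)
    rw [Category.comp_id, Category.id_comp])

/-- a functor commuting with filtered colimits is the pointwise left Kan extension of its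
restriction to finitely presented modules -/
def isPointwiseLKE :
    (Functor.LeftExtension.mk F₁ (𝟙 ((fp A).ι ⋙ F₁))).IsPointwiseLeftKanExtension := by
  intro M
  have hpres := PreservesFilteredColimitsOfSize.preserves_filtered_colimits (F := F₁) (Idx M)
  have h1 : IsColimit (F₁.mapCocone (fpCocone M)) := isColimitOfPreserves F₁ (isColimitFpCocone M)
  have h2 := (IsColimit.precomposeHomEquiv (diagIso F₁ M) _).symm h1
  refine (Functor.Final.isColimitWhiskerEquiv (toCost M) _) (IsColimit.ofIsoColimit h2 ?_)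
  refine Cocone.ext (Iso.refl _) ?_
  intro i
  show (𝟙 _ ≫ F₁.map (ιM M i)) ≫ 𝟙 _ = 𝟙 _ ≫ F₁.map (ιM M i)
  rw [Category.comp_id]

end Unique

section Exist

variable (F : (fp A).FullSubcategory ⥤ B)

theorem hasPointwise [HasFilteredColimitsOfSize.{u, u} B] :
    (fp A).ι.HasPointwiseLeftKanExtension F := by
  intro M
  have hshape := HasFilteredColimitsOfSize.HasColimitsOfShape (C := B) (Idx M)
  exact Functor.Final.hasColimit_of_comp (toCost M)

variable {F} (E : (fp A).ι.LeftExtension F) (hE : E.IsPointwiseLeftKanExtension)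

section Pres

variable {J : Type u} [SmallCategory J] [IsFiltered J] {K : J ⥤ ModuleCat.{u} A} {c : Cocone K}
  (hc : IsColimit c) (s : Cocone (K ⋙ E.right))

include hc in
/-- independence of the chosen factorization -/
lemma leg_indep {X : (fp A).FullSubcategory} {j j' : J} (ψ : X.obj ⟶ K.obj j)
    (ψ' : X.obj ⟶ K.obj j') (h : ψ ≫ c.ι.app j = ψ' ≫ c.ι.app j') :
    E.right.map ψ ≫ s.ι.app j = E.right.map ψ' ≫ s.ι.app j' := by
  let m := IsFiltered.max j j'
  let l : j ⟶ m := IsFiltered.leftToMax j j'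
  let r : j' ⟶ m := IsFiltered.rightToMax j j'
  have h' : (ψ ≫ K.map l) ≫ c.ι.app m = (ψ' ≫ K.map r) ≫ c.ι.app m := by
    rw [Category.assoc, Category.assoc, c.w, c.w, h]
  obtain ⟨k, e, he⟩ := exists_eq X.obj hc (ψ ≫ K.map l) (ψ' ≫ K.map r) h'
  have w1 : E.right.map (K.map (l ≫ e)) ≫ s.ι.app k = s.ι.app j := s.w (l ≫ e)
  have w2 : E.right.map (K.map (r ≫ e)) ≫ s.ι.app k = s.ι.app j' := s.w (r ≫ e)
  rw [← w1, ← w2, ← Category.assoc, ← Category.assoc, ← E.right.map_comp, ← E.right.map_comp,
    K.map_comp, K.map_comp, ← Category.assoc, ← Category.assoc, he]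

include hE hc in
/-- a pointwise left Kan extension along the inclusion of finitely presented modules preserves
filtered colimits -/
theorem nonempty_isColimit_mapCocone : Nonempty (IsColimit (E.right.mapCocone c)) := by
  -- chosen factorizations
  have hfac : ∀ g : CostructuredArrow (fp A).ι c.pt,
      ∃ (j : J) (ψ : g.left.obj ⟶ K.obj j), ψ ≫ c.ι.app j = g.hom :=
    fun g => exists_factor g.left.obj hc g.hom
  choose jj ψψ hψψ using hfac
  -- the legs
  let t (s : Cocone (K ⋙ E.right)) (g : CostructuredArrow (fp A).ι c.pt) :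
      F.obj g.left ⟶ s.pt :=
    E.hom.app g.left ≫ E.right.map (ψψ g) ≫ s.ι.app (jj g)
  have ht : ∀ (s : Cocone (K ⋙ E.right)) (g : CostructuredArrow (fp A).ι c.pt) (j : J)
      (ψ : g.left.obj ⟶ K.obj j), ψ ≫ c.ι.app j = g.hom →
      E.hom.app g.left ≫ E.right.map ψ ≫ s.ι.app j = t s g := by
    intro s g j ψ hψ
    show _ = E.hom.app g.left ≫ E.right.map (ψψ g) ≫ s.ι.app (jj g)
    rw [leg_indep E hc s ψ (ψψ g) (hψ.trans (hψψ g).symm)]
  let cc (s : Cocone (K ⋙ E.right)) :
      Cocone (CostructuredArrow.proj (fp A).ι c.pt ⋙ F) :=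
    { pt := s.pt
      ι :=
        { app := fun g => t s g
          naturality := by
            intro g₁ g₂ φ
            have hw : φ.left.hom ≫ g₂.hom = g₁.hom := CostructuredArrow.w φ
            have hnat : F.map φ.left ≫ E.hom.app g₂.left =
                E.hom.app g₁.left ≫ E.right.map φ.left.hom := E.hom.naturality φ.left
            have h1 : (φ.left.hom ≫ ψψ g₂) ≫ c.ι.app (jj g₂) = g₁.hom := by
              rw [Category.assoc, hψψ, hw]
            have h2 := ht s g₁ (jj g₂) (φ.left.hom ≫ ψψ g₂) h1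
            show F.map φ.left ≫ t s g₂ = t s g₁ ≫ 𝟙 _
            rw [Category.comp_id, ← h2]
            show F.map φ.left ≫ E.hom.app g₂.left ≫ E.right.map (ψψ g₂) ≫ s.ι.app (jj g₂) = _
            rw [← Category.assoc, hnat, Category.assoc, E.right.map_comp, Category.assoc] } }
  let D0 (s : Cocone (K ⋙ E.right)) : E.right.obj c.pt ⟶ s.pt := (hE c.pt).desc (cc s)
  have hD0 : ∀ (s : Cocone (K ⋙ E.right)) (g : CostructuredArrow (fp A).ι c.pt),
      E.hom.app g.left ≫ E.right.map g.hom ≫ D0 s = t s g := by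
    intro s g
    have := (hE c.pt).fac (cc s) g
    rw [← Category.assoc]
    exact this
  refine ⟨{ desc := fun s => D0 s, fac := ?_, uniq := ?_ }⟩
  · intro s j
    show E.right.map (c.ι.app j) ≫ D0 s = s.ι.app j
    apply (hE (K.obj j)).hom_ext'
    intro X φ
    have h1 := hD0 s (CostructuredArrow.mk (Y := X) (φ ≫ c.ι.app j))
    have h2 := ht s (CostructuredArrow.mk (Y := X) (φ ≫ c.ι.app j)) j φ rfl
    rw [← h2] at h1
    refine Eq.trans ?_ h1
    show _ = E.hom.app X ≫ E.right.map (φ ≫ c.ι.app j) ≫ D0 s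
    rw [E.right.map_comp, Category.assoc]
  · intro s m hm
    apply (hE c.pt).hom_ext
    intro g
    have h1 : E.hom.app g.left ≫ E.right.map g.hom ≫ m = t s g := by
      have hmj : E.right.map (c.ι.app (jj g)) ≫ m = s.ι.app (jj g) := hm (jj g)
      show _ = E.hom.app g.left ≫ E.right.map (ψψ g) ≫ s.ι.app (jj g)
      rw [← hψψ g, E.right.map_comp, Category.assoc, hmj]
    have h2 := hD0 s g
    show (E.hom.app g.left ≫ E.right.map g.hom) ≫ m =
      (E.hom.app g.left ≫ E.right.map g.hom) ≫ D0 s
    rw [Category.assoc, Category.assoc, h1, h2]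

end Pres

include hE in
theorem preservesFiltered : PreservesFilteredColimitsOfSize.{u, u} E.right := by
  constructor
  intro J _ _
  constructor
  intro K
  constructor
  intro c hc
  exact nonempty_isColimit_mapCocone E hE hc

end Exist

theorem exists_extension [HasFilteredColimitsOfSize.{u, u} B]
    (F : (fp A).FullSubcategory ⥤ B) :
    ∃ F' : ModuleCat.{u} A ⥤ B, PreservesFilteredColimitsOfSize.{u, u} F' ∧
      Nonempty ((fp A).ι ⋙ F' ≅ F) := by
  haveI := hasPointwise F
  let E := Functor.LeftExtension.mk _ ((fp A).ι.pointwiseLeftKanExtensionUnit F)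
  have hE : E.IsPointwiseLeftKanExtension :=
    Functor.pointwiseLeftKanExtensionIsPointwiseLeftKanExtension (fp A).ι F
  haveI : IsIso E.hom := hE.isIso_hom
  exact ⟨E.right, preservesFiltered E hE, ⟨(asIso E.hom).symm⟩⟩

theorem unique (F₁ F₂ : ModuleCat.{u} A ⥤ B) [PreservesFilteredColimitsOfSize.{u, u} F₁]
    [PreservesFilteredColimitsOfSize.{u, u} F₂]
    (e : (fp A).ι ⋙ F₁ ≅ (fp A).ι ⋙ F₂) : Nonempty (F₁ ≅ F₂) := by
  haveI : F₁.IsLeftKanExtension (𝟙 ((fp A).ι ⋙ F₁)) :=
    (isPointwiseLKE F₁).isLeftKanExtension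
  haveI : F₂.IsLeftKanExtension (𝟙 ((fp A).ι ⋙ F₂)) :=
    (isPointwiseLKE F₂).isLeftKanExtension
  exact ⟨Functor.leftKanExtensionUniqueOfIso F₁ (𝟙 _) e F₂ (𝟙 _)⟩

theorem main [HasFilteredColimitsOfSize.{u, u} B] (F : (fp A).FullSubcategory ⥤ B) :
    (∃ F' : ModuleCat.{u} A ⥤ B, PreservesFilteredColimitsOfSize.{u, u} F' ∧
      Nonempty ((fp A).ι ⋙ F' ≅ F)) ∧
    ∀ F₁ F₂ : ModuleCat.{u} A ⥤ B, PreservesFilteredColimitsOfSize.{u, u} F₁ →
      PreservesFilteredColimitsOfSize.{u, u} F₂ →
      Nonempty ((fp A).ι ⋙ F₁ ≅ (fp A).ι ⋙ F₂) → Nonempty (F₁ ≅ F₂) :=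
  ⟨exists_extension F, fun F₁ F₂ _ _ ⟨e⟩ => unique F₁ F₂ e⟩

end

end Groth.Agent.S6714

namespace Groth.Agent.S6714

/-- Let A be a commutative ring, B a category with filtered colimits and F a functor from the category
of finitely presented A-modules to B. Then F extends to a functor F' on all A-modules which commutes
with filtered colimits, and the extension is unique: two functors on A-modules commuting with
filtered colimits whose restrictions to finitely presented modules are isomorphic are themselves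
isomorphic. -/
theorem result
    (A : Type u) [CommRing A] {B : Type u'} [Category.{v'} B] [HasFilteredColimitsOfSize.{u, u} B]
    (F : (ObjectProperty.FullSubcategory (fun M : ModuleCat.{u} A => Module.FinitePresentation A M)) ⥤ B) :
    (∃ F' : ModuleCat.{u} A ⥤ B, PreservesFilteredColimitsOfSize.{u, u} F' ∧
      Nonempty (ObjectProperty.ι (fun M : ModuleCat.{u} A => Module.FinitePresentation A M) ⋙ F' ≅ F)) ∧
    ∀ F₁ F₂ : ModuleCat.{u} A ⥤ B, PreservesFilteredColimitsOfSize.{u, u} F₁ →
      PreservesFilteredColimitsOfSize.{u, u} F₂ →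
      Nonempty (ObjectProperty.ι (fun M : ModuleCat.{u} A => Module.FinitePresentation A M) ⋙ F₁ ≅ ObjectProperty.ι (fun M : ModuleCat.{u} A => Module.FinitePresentation A M) ⋙ F₂) →
      Nonempty (F₁ ≅ F₂) := by
  exact main F

end Groth.Agent.S6714
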