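import Groth.Statements.S6715
import Mathlib
import Groth.Agent.Lib.Helper61.FPPres
import Groth.Agent.Lib.Helper61.CoprodFilt

set_option autoImplicit false
universe u v' u'
open CategoryTheory CategoryTheory.Limits
open FunMor

namespace Groth.Agent.S6715
set_option maxHeartbeats 400000
open CategoryTheory CategoryTheory.Limits
open Groth.Agent.Lib.Helper61.FPPres

section

variable (A : Type u) [CommRing A]

/-- finitely presented modules -/
abbrev fp : ObjectProperty (ModuleCat.{u} A) := fun M => Module.FinitePresentation A M

variable {A} {B : Type u'} [Category.{v'} B] [Preadditive B]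
  (F' : ModuleCat.{u} A ⥤ B) [PreservesFilteredColimitsOfSize.{u, u} F']

/-- additivity on maps between finitely presented modules -/
lemma map_add_fp [((fp A).ι ⋙ F').Additive] {P Q : ModuleCat.{u} A}
    [hP : Module.FinitePresentation A P] [hQ : Module.FinitePresentation A Q] (a b : P ⟶ Q) :
    F'.map (a + b) = F'.map a + F'.map b := by
  let Pf : (fp A).FullSubcategory := ⟨P, hP⟩
  let Qf : (fp A).FullSubcategory := ⟨Q, hQ⟩
  have key := ((fp A).ι ⋙ F').map_add (X := Pf) (Y := Qf) (f := ObjectProperty.homMk a)
    (g := ObjectProperty.homMk b)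
  exact key

/-- additivity on maps out of a finitely presented module -/
lemma map_add_of_fp [((fp A).ι ⋙ F').Additive] {P N : ModuleCat.{u} A}
    [Module.FinitePresentation A P] (a b : P ⟶ N) :
    F'.map (a + b) = F'.map a + F'.map b := by
  obtain ⟨j₁, a₁, ha⟩ := exists_factor P (isColimitFpCocone N) a
  obtain ⟨j₂, b₁, hb⟩ := exists_factor P (isColimitFpCocone N) b
  obtain ⟨k, h₁, h₂⟩ := exists_ge_ge j₁ j₂
  let a' : P ⟶ (fpDiag N).obj k := a₁ ≫ (fpDiag N).map (homOfLE h₁)
  let b' : P ⟶ (fpDiag N).obj k := b₁ ≫ (fpDiag N).map (homOfLE h₂)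
  have ha' : a' ≫ ιM N k = a := by
    rw [Category.assoc, fpDiag_map_ιM]
    exact ha
  have hb' : b' ≫ ιM N k = b := by
    rw [Category.assoc, fpDiag_map_ιM]
    exact hb
  have key : F'.map (a' + b') = F'.map a' + F'.map b' := map_add_fp F' a' b'
  rw [← ha', ← hb', ← Preadditive.add_comp, F'.map_comp, key, Preadditive.add_comp,
    ← F'.map_comp, ← F'.map_comp]

theorem additive [((fp A).ι ⋙ F').Additive] : F'.Additive := by
  constructor
  intro M N f g
  haveI := PreservesFilteredColimitsOfSize.preserves_filtered_colimits (F := F') (Idx M)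
  have hc : IsColimit (F'.mapCocone (fpCocone M)) := isColimitOfPreserves F' (isColimitFpCocone M)
  apply hc.hom_ext
  intro i
  show F'.map (ιM M i) ≫ F'.map (f + g) = F'.map (ιM M i) ≫ (F'.map f + F'.map g)
  rw [← F'.map_comp, Preadditive.comp_add, Preadditive.comp_add, ← F'.map_comp, ← F'.map_comp]
  exact map_add_of_fp F' _ _

theorem main [HasFiniteBiproducts B] [HasFilteredColimitsOfSize.{u, u} B]
    [((fp A).ι ⋙ F').Additive] :
    F'.Additive ∧ ∀ J : Type u, PreservesColimitsOfShape (Discrete J) F' := by
  have hadd : F'.Additive := additive F'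
  refine ⟨hadd, fun J => ?_⟩
  haveI := PreservesFilteredColimitsOfSize.preserves_filtered_colimits (F := F')
    (Finset (Discrete J))
  exact Groth.Agent.Lib.Helper61.CoprodFilt.preservesColimitsOfShape_discrete F'

end

end Groth.Agent.S6715

namespace Groth.Agent.S6715

/-- Let A be a commutative ring and B an additive category with filtered colimits. Let F' be a functor
from A-modules to B commuting with filtered colimits whose restriction to the full subcategory of
finitely presented A-modules is additive (F' is then the extension of that restriction). Then F' is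
additive and preserves all small direct sums. -/
theorem result
    (A : Type u) [CommRing A] {B : Type u'} [Category.{v'} B] [Preadditive B] [HasFiniteBiproducts B]
    [HasFilteredColimitsOfSize.{u, u} B]
    (F' : ModuleCat.{u} A ⥤ B) [PreservesFilteredColimitsOfSize.{u, u} F']
    [(ObjectProperty.ι (fun M : ModuleCat.{u} A => Module.FinitePresentation A M) ⋙ F').Additive] :
    F'.Additive ∧ ∀ J : Type u, PreservesColimitsOfShape (Discrete J) F' := by
  exact main F'

end Groth.Agent.S6715
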