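import Groth.Statements.S6716
import Mathlib
import Groth.Agent.Lib.Helper61.FPPres
import Groth.Agent.Lib.Helper61.CoprodFilt
import Groth.Agent.Lib.Helper61.CokColim
import Groth.Agent.S6715

set_option autoImplicit false
universe u v' u'
open CategoryTheory CategoryTheory.Limits
open FunMor

namespace Groth.Agent.S6716
set_option maxHeartbeats 400000
open CategoryTheory CategoryTheory.Limits
open Groth.Agent.Lib.Helper61.FPPres Groth.Agent.Lib.Helper61.CokColim

noncomputable section

variable (A : Type u) [CommRing A]

/-- finitely presented modules -/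
abbrev fp : ObjectProperty (ModuleCat.{u} A) := fun M => Module.FinitePresentation A M

instance : (fp A).ContainsZero :=
  ⟨⟨ModuleCat.of A PUnit.{u + 1}, ModuleCat.isZero_of_subsingleton _,
    (inferInstance : Module.FinitePresentation A PUnit.{u + 1})⟩⟩

variable {A}

lemma fp_biprod (X Y : ModuleCat.{u} A) [Module.FinitePresentation A X]
    [Module.FinitePresentation A Y] : Module.FinitePresentation A (X ⊞ Y : ModuleCat.{u} A) := by
  have e := (ModuleCat.biprodIsoProd X Y).toLinearEquiv
  exact Module.FinitePresentation.of_equiv e.symm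

lemma fp_cokernel {P Q : ModuleCat.{u} A} [Module.FinitePresentation A P]
    [Module.FinitePresentation A Q] (f : P ⟶ Q) :
    Module.FinitePresentation A (cokernel f : ModuleCat.{u} A) := by
  have h1 : Module.FinitePresentation A (Q ⧸ LinearMap.range f.hom) :=
    Module.finitePresentation_of_surjective (LinearMap.range f.hom).mkQ
      (Submodule.mkQ_surjective _)
      (by rw [Submodule.ker_mkQ, LinearMap.range_eq_map]; exact Module.Finite.fg_top.map _)
  have e := (ModuleCat.cokernelIsoRangeQuotient f).toLinearEquiv
  exact Module.FinitePresentation.of_equiv e.symm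

instance : HasBinaryBiproducts (fp A).FullSubcategory where
  has_binary_biproduct X Y :=
    haveI : Module.FinitePresentation A X.obj := X.property
    haveI : Module.FinitePresentation A Y.obj := Y.property
    HasBinaryBiproduct.mk
    { bicone :=
        { pt := ⟨X.obj ⊞ Y.obj, fp_biprod X.obj Y.obj⟩
          fst := ObjectProperty.homMk biprod.fst
          snd := ObjectProperty.homMk biprod.snd
          inl := ObjectProperty.homMk biprod.inl
          inr := ObjectProperty.homMk biprod.inr
          inl_fst := by ext : 1; exact biprod.inl_fst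
          inl_snd := by ext : 1; exact biprod.inl_snd
          inr_fst := by ext : 1; exact biprod.inr_fst
          inr_snd := by ext : 1; exact biprod.inr_snd }
      isBilimit := isBinaryBilimitOfTotal _ (by ext : 1; exact biprod.total) }

variable {B : Type u'} [Category.{v'} B] [Preadditive B] [HasFiniteBiproducts B]
  (F' : ModuleCat.{u} A ⥤ B)

/-- the restriction to finitely presented modules is additive as soon as it is right exact -/
theorem additive_restriction [PreservesFiniteColimits ((fp A).ι ⋙ F')] :
    ((fp A).ι ⋙ F').Additive := by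
  haveI : ((fp A).ι ⋙ F').PreservesZeroMorphisms := inferInstance
  haveI := preservesBinaryBiproducts_of_preservesBinaryCoproducts ((fp A).ι ⋙ F')
  exact Functor.additive_of_preservesBinaryBiproducts _

/-- case of a map between finitely presented modules -/
theorem isCok_fp [PreservesFiniteColimits ((fp A).ι ⋙ F')] {P Q : ModuleCat.{u} A}
    [hP : Module.FinitePresentation A P] [hQ : Module.FinitePresentation A Q] (f : P ⟶ Q) :
    IsCok (F'.map f) (F'.map (cokernel.π f)) := by
  haveI : ((fp A).ι ⋙ F').PreservesZeroMorphisms := inferInstance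
  let Pf : (fp A).FullSubcategory := ⟨P, hP⟩
  let Qf : (fp A).FullSubcategory := ⟨Q, hQ⟩
  let Cf : (fp A).FullSubcategory := ⟨cokernel f, fp_cokernel f⟩
  let f' : Pf ⟶ Qf := ObjectProperty.homMk f
  let π' : Qf ⟶ Cf := ObjectProperty.homMk (cokernel.π f)
  have w' : f' ≫ π' = 0 := by
    ext : 1
    exact cokernel.condition f
  have hc' : IsColimit (CokernelCofork.ofπ π' w') := by
    apply isColimitOfReflects (fp A).ι
    refine (isColimitMapCoconeCoforkEquiv' (fp A).ι w').symm ?_
    exact cokernelIsCokernel f
  have h2 := isColimitMapCoconeCoforkEquiv' ((fp A).ι ⋙ F') w'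
    (isColimitOfPreserves ((fp A).ι ⋙ F') hc')
  exact IsCok.of_isColimit _ h2

section Pattern

variable [F'.PreservesZeroMorphisms] [PreservesFilteredColimitsOfSize.{u, u} F']

/-- if `F'` preserves the pointwise cokernels of a filtered system of maps, it preserves the
cokernel of the colimit map -/
theorem isCok_of_pointwise {J : Type u} [SmallCategory J] [IsFiltered J]
    {X Y : J ⥤ ModuleCat.{u} A} (α : X ⟶ Y) {cX : Cocone X} {cY : Cocone Y}
    (hX : IsColimit cX) (hY : IsColimit cY) (a : cX.pt ⟶ cY.pt)
    (ha : ∀ j, cX.ι.app j ≫ a = α.app j ≫ cY.ι.app j)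
    (hcok : ∀ j, IsCok (F'.map (α.app j)) (F'.map (cokernel.π (α.app j)))) :
    IsCok (F'.map a) (F'.map (cokernel.π a)) := by
  have hpres := PreservesFilteredColimitsOfSize.preserves_filtered_colimits (F := F') J
  have hb0 : ∀ j, α.app j ≫ cY.ι.app j ≫ cokernel.π a = 0 := by
    intro j
    rw [← Category.assoc, ← ha, Category.assoc, cokernel.condition, comp_zero]
  let cZ := cokerCocone α cY (cokernel.π a) hb0
  have hb : ∀ j, cY.ι.app j ≫ cokernel.π a = (cokerπ α).app j ≫ cZ.ι.app j :=
    fun j => cokerCocone_fac α cY (cokernel.π a) hb0 j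
  obtain ⟨hZ⟩ := nonempty_isColimit_of_isCok (cZ := cZ) α (cokerπ α) a ha
    (cokernel.π a : cY.pt ⟶ cZ.pt) hb (isCok_cokerπ α) hX hY (IsCok.cokernel a)
  refine isCok_of_isColimit (Functor.whiskerRight α F') (Functor.whiskerRight (cokerπ α) F')
    (cX := F'.mapCocone cX) (cY := F'.mapCocone cY) (cZ := F'.mapCocone cZ)
    (F'.map a) ?_ (F'.map (cokernel.π a)) ?_ ?_
    (isColimitOfPreserves F' hX) (isColimitOfPreserves F' hY) (isColimitOfPreserves F' hZ)
  · intro j
    show F'.map (cX.ι.app j) ≫ F'.map a = F'.map (α.app j) ≫ F'.map (cY.ι.app j)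
    rw [← F'.map_comp, ← F'.map_comp, ha]
  · intro j
    have h := congrArg F'.map (hb j)
    exact ((F'.map_comp _ _).symm.trans h).trans (F'.map_comp _ _)
  · intro j
    exact hcok j

end Pattern

section Main

variable [PreservesFilteredColimitsOfSize.{u, u} F']
  [PreservesFiniteColimits ((fp A).ι ⋙ F')] [F'.PreservesZeroMorphisms]

/-- case of a map out of a finitely presented module -/
theorem isCok_fp_source {P N : ModuleCat.{u} A} [Module.FinitePresentation A P] (g : P ⟶ N) :
    IsCok (F'.map g) (F'.map (cokernel.π g)) := by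
  obtain ⟨j₀, g₀, hg⟩ := exists_factor P (isColimitFpCocone N) g
  have hg' : g₀ ≫ ιM N j₀ = g := hg
  -- the directed set of indices above `j₀`
  let J' : Type u := ↥(Set.Ici j₀)
  haveI : Nonempty J' := ⟨⟨j₀, Set.mem_Ici.mpr (le_refl _)⟩⟩
  haveI : IsDirected J' (· ≤ ·) :=
    ⟨fun a b => by
      obtain ⟨c, hac, hbc⟩ := exists_ge_ge a.1 b.1
      exact ⟨⟨c, le_trans a.2 hac⟩, hac, hbc⟩⟩
  let hmono : Monotone (fun j : J' => (j.1 : Idx N)) := Subtype.mono_coe (· ∈ Set.Ici j₀)
  let inc : J' ⥤ Idx N := hmono.functor
  haveI : inc.Final := by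
    rw [Monotone.final_functor_iff]
    intro j
    obtain ⟨c, hjc, h0c⟩ := exists_ge_ge j j₀
    exact ⟨⟨c, h0c⟩, hjc⟩
  let α : (Functor.const J').obj P ⟶ inc ⋙ fpDiag N :=
    { app := fun j => g₀ ≫ (fpDiag N).map (homOfLE j.2)
      naturality := by
        intro j k φ
        show 𝟙 P ≫ g₀ ≫ (fpDiag N).map (homOfLE k.2) =
          (g₀ ≫ (fpDiag N).map (homOfLE j.2)) ≫ (fpDiag N).map (inc.map φ)
        rw [Category.id_comp, Category.assoc, ← (fpDiag N).map_comp]
        congr 2 }
  haveI : IsConnected J' := IsFiltered.isConnected J'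
  have hY : IsColimit ((fpCocone N).whisker inc) :=
    (Functor.Final.isColimitWhiskerEquiv inc (fpCocone N)).symm (isColimitFpCocone N)
  refine isCok_of_pointwise F' α (isColimitConstCocone J' P) hY g ?_ ?_
  · intro j
    show 𝟙 P ≫ g = (g₀ ≫ (fpDiag N).map (homOfLE j.2)) ≫ ιM N j.1
    rw [Category.id_comp, Category.assoc, fpDiag_map_ιM, hg']
  · intro j
    exact isCok_fp F' (P := P) (Q := (fpDiag N).obj j.1) (g₀ ≫ (fpDiag N).map (homOfLE j.2))

/-- the general case -/
theorem isCok_map {M N : ModuleCat.{u} A} (f : M ⟶ N) :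
    IsCok (F'.map f) (F'.map (cokernel.π f)) := by
  let α : fpDiag M ⟶ (Functor.const (Idx M)).obj N :=
    { app := fun i => ιM M i ≫ f
      naturality := by
        intro i j φ
        show (fpDiag M).map φ ≫ ιM M j ≫ f = (ιM M i ≫ f) ≫ 𝟙 N
        rw [Category.comp_id, ← Category.assoc, fpDiag_map_ιM] }
  haveI : IsConnected (Idx M) := IsFiltered.isConnected (Idx M)
  refine isCok_of_pointwise F' α (isColimitFpCocone M) (isColimitConstCocone (Idx M) N) f ?_ ?_
  · intro i
    show ιM M i ≫ f = (ιM M i ≫ f) ≫ 𝟙 N
    rw [Category.comp_id]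
  · intro i
    exact isCok_fp_source F' _

theorem preservesCokernels {M N : ModuleCat.{u} A} (f : M ⟶ N) :
    PreservesColimit (parallelPair f 0) F' := by
  apply preservesColimit_of_preserves_colimit_cocone (cokernelIsCokernel f)
  refine (isColimitMapCoconeCoforkEquiv' F' (cokernel.condition f)).symm ?_
  exact (isCok_map F' f).nonempty_isColimit.some

end Main

theorem main [HasCokernels B] [HasFilteredColimitsOfSize.{u, u} B]
    [PreservesFilteredColimitsOfSize.{u, u} F']
    [PreservesFiniteColimits ((fp A).ι ⋙ F')] :
    F'.Additive ∧ PreservesFiniteColimits F' ∧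
      ∀ J : Type u, PreservesColimitsOfShape (Discrete J) F' := by
  haveI := additive_restriction F'
  obtain ⟨hadd, hcoprod⟩ := Groth.Agent.S6715.main F'
  haveI := hadd
  haveI : ∀ {X Y : ModuleCat.{u} A} (f : X ⟶ Y), PreservesColimit (parallelPair f 0) F' :=
    fun f => preservesCokernels F' f
  exact ⟨hadd, Functor.preservesFiniteColimits_of_preservesCokernels F', hcoprod⟩

end

end Groth.Agent.S6716

namespace Groth.Agent.S6716

/-- Let A be a commutative ring and B an additive category with cokernels and filtered colimits. Let F'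
be a functor from A-modules to B commuting with filtered colimits whose restriction to the full
subcategory of finitely presented A-modules is right exact (F' is then the extension of that
restriction). Then F' is additive and right exact, and it preserves all small direct sums. -/
theorem result
    (A : Type u) [CommRing A] {B : Type u'} [Category.{v'} B] [Preadditive B] [HasFiniteBiproducts B]
    [HasCokernels B] [HasFilteredColimitsOfSize.{u, u} B]
    (F' : ModuleCat.{u} A ⥤ B) [PreservesFilteredColimitsOfSize.{u, u} F']
    [PreservesFiniteColimits (ObjectProperty.ι (fun M : ModuleCat.{u} A => Module.FinitePresentation A M) ⋙ F')] :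
    F'.Additive ∧ PreservesFiniteColimits F' ∧
      ∀ J : Type u, PreservesColimitsOfShape (Discrete J) F' := by
  exact main F'

end Groth.Agent.S6716
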