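import Groth.Statements.S6718
import Mathlib.LinearAlgebra.Dual.Lemmas

set_option autoImplicit false
universe w v u
open CategoryTheory
open DEquiv

namespace Groth.Agent.S6718

section pairing

variable {k : Type w} [Field k]

lemma pair_sep {M N : Type*} [AddCommGroup M] [Module k M] [AddCommGroup N] [Module k N]
    (E : M ≃ₗ[k] Module.Dual k N) (n n' : N) (h : ∀ m, E m n = E m n') : n = n' := by
  rw [← sub_eq_zero, ← Module.forall_dual_apply_eq_zero_iff k]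
  intro φ
  obtain ⟨m, rfl⟩ := E.surjective φ
  rw [map_sub, h m, sub_self]

lemma pair_rep {M N : Type*} [AddCommGroup M] [Module k M] [AddCommGroup N] [Module k N]
    [Module.Finite k N]
    (E : M ≃ₗ[k] Module.Dual k N) (ℓ : Module.Dual k M) : ∃ n : N, ∀ m, E m n = ℓ m := by
  refine ⟨(Module.evalEquiv k N).symm (ℓ ∘ₗ E.symm.toLinearMap), fun m => ?_⟩
  simp

end pairing

section aux

variable {k : Type w} [Field k] {T : Type u} [Category.{v} T] [Preadditive T] [Linear k T]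
  [∀ X Y : T, Module.Finite k (X ⟶ Y)]
  (S₀ : T → T) (e : ∀ X Y : T, (Y ⟶ S₀ X) ≃ₗ[k] Module.Dual k (X ⟶ Y))
  (he : ∀ (X Y Y' : T) (g : Y' ⟶ Y) (f : Y ⟶ S₀ X),
    e X Y' (g ≫ f) = (e X Y f) ∘ₗ Linear.rightComp k X g)

include he in
omit [∀ X Y : T, Module.Finite k (X ⟶ Y)] in
lemma N1 {X Y Y' : T} (u : X ⟶ Y') (g : Y' ⟶ Y) (f : Y ⟶ S₀ X) :
    e X Y' (g ≫ f) u = e X Y f (u ≫ g) := by
  rw [he]
  rfl

omit [∀ X Y : T, Module.Finite k (X ⟶ Y)] in
lemma sepR {X Y : T} (t t' : Y ⟶ S₀ X) (h : ∀ u, e X Y t u = e X Y t' u) : t = t' :=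
  (e X Y).injective (LinearMap.ext h)

omit [∀ X Y : T, Module.Finite k (X ⟶ Y)] in
lemma sepL {X Y : T} (u u' : X ⟶ Y) (h : ∀ t, e X Y t u = e X Y t u') : u = u' :=
  pair_sep (e X Y) u u' h

lemma repL {X Y : T} (ℓ : Module.Dual k (Y ⟶ S₀ X)) : ∃ u : X ⟶ Y, ∀ t, e X Y t u = ℓ t :=
  pair_rep (e X Y) ℓ

/-- the functor on morphisms -/
noncomputable def mapS {X' X : T} (a : X' ⟶ X) : S₀ X' ⟶ S₀ X :=
  (e X (S₀ X')).symm ((e X' (S₀ X') (𝟙 _)) ∘ₗ Linear.leftComp k (S₀ X') a)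

omit [∀ X Y : T, Module.Finite k (X ⟶ Y)] in
lemma mapS_spec {X' X : T} (a : X' ⟶ X) (u : X ⟶ S₀ X') :
    e X (S₀ X') (mapS S₀ e a) u = e X' (S₀ X') (𝟙 _) (a ≫ u) := by
  simp [mapS]

include he in
omit [∀ X Y : T, Module.Finite k (X ⟶ Y)] in
lemma N2 {X' X Y : T} (a : X' ⟶ X) (f : X ⟶ Y) (t : Y ⟶ S₀ X') :
    e X' Y t (a ≫ f) = e X Y (t ≫ mapS S₀ e a) f := by
  have h1 := N1 S₀ e he (a ≫ f) t (𝟙 (S₀ X'))
  have h2 := N1 S₀ e he f t (mapS S₀ e a)
  rw [Category.comp_id] at h1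
  rw [h1, h2, mapS_spec, Category.assoc]

/-- the Serre functor built from representing objects -/
noncomputable def functorS : T ⥤ T where
  obj := S₀
  map a := mapS S₀ e a
  map_id X := by
    apply sepR S₀ e
    intro u
    rw [mapS_spec, Category.id_comp]
  map_comp a b := by
    apply sepR S₀ e
    intro u
    rw [mapS_spec, ← N2 S₀ e he, mapS_spec, Category.assoc]

omit [∀ X Y : T, Module.Finite k (X ⟶ Y)] in
lemma functorS_additive : (functorS S₀ e he).Additive where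
  map_add {X' X a b} := by
    apply sepR S₀ e
    intro u
    change e X _ (mapS S₀ e (a + b)) u = e X _ (mapS S₀ e a + mapS S₀ e b) u
    rw [mapS_spec, map_add, LinearMap.add_apply, mapS_spec, mapS_spec, Preadditive.add_comp,
      map_add]

omit [∀ X Y : T, Module.Finite k (X ⟶ Y)] in
lemma functorS_linear :
    letI := functorS_additive S₀ e he
    (functorS S₀ e he).Linear k := by
  let _ := functorS_additive S₀ e he
  refine ⟨?_⟩
  intro X' X a r
  apply sepR S₀ e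
  intro u
  change e X _ (mapS S₀ e (r • a)) u = e X _ (r • mapS S₀ e a) u
  rw [mapS_spec, map_smul, LinearMap.smul_apply, mapS_spec, Linear.smul_comp, map_smul]

omit [∀ X Y : T, Module.Finite k (X ⟶ Y)] in
lemma functorS_faithful : (functorS S₀ e he).Faithful where
  map_injective {X' X} a b hab := by
    apply sepL S₀ e
    intro t
    have ha := N2 S₀ e he a (𝟙 X) t
    have hb := N2 S₀ e he b (𝟙 X) t
    rw [Category.comp_id] at ha hb
    rw [ha, hb]
    change mapS S₀ e a = mapS S₀ e b at hab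
    rw [hab]

include he in
lemma full_aux {X' X : T} (v : S₀ X' ⟶ S₀ X) : ∃ a : X' ⟶ X, mapS S₀ e a = v := by
  obtain ⟨a, ha⟩ := repL S₀ e (X := X') (Y := X)
    ((LinearMap.applyₗ (𝟙 X)).comp ((e X X).toLinearMap.comp
      (Linear.rightComp k X v)))
  refine ⟨a, ?_⟩
  apply sepR S₀ e
  intro u
  have h1 := N1 S₀ e he a u (𝟙 (S₀ X'))
  have h2 := N1 S₀ e he (𝟙 X) u v
  have h3 := ha u
  simp only [LinearMap.coe_comp, LinearEquiv.coe_coe, Function.comp_apply,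
    Linear.rightComp_apply, LinearMap.applyₗ_apply_apply] at h3
  rw [Category.comp_id] at h1
  rw [Category.id_comp] at h2
  rw [mapS_spec, ← h1, h3, h2]

lemma functorS_full : (functorS S₀ e he).Full where
  map_surjective v := full_aux S₀ e he v

variable (R₀ : T → T) (e' : ∀ X Y : T, (R₀ X ⟶ Y) ≃ₗ[k] Module.Dual k (Y ⟶ X))
  (he' : ∀ (X Y Y' : T) (g : Y ⟶ Y') (f : R₀ X ⟶ Y),
    e' X Y' (f ≫ g) = (e' X Y f) ∘ₗ Linear.leftComp k X g)

include he' in
omit [∀ X Y : T, Module.Finite k (X ⟶ Y)] in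
lemma Q1 {X Y Y' : T} (f : R₀ X ⟶ Y) (g : Y ⟶ Y') (s : Y' ⟶ X) :
    e' X Y' (f ≫ g) s = e' X Y f (g ≫ s) := by
  rw [he']
  rfl

include he he' in
lemma ess_aux (X : T) : Nonempty (S₀ (R₀ X) ≅ X) := by
  obtain ⟨p, hp⟩ := pair_rep (e' X (S₀ (R₀ X))) (e (R₀ X) (S₀ (R₀ X)) (𝟙 _))
  obtain ⟨q, hq⟩ : ∃ q : X ⟶ S₀ (R₀ X), ∀ f : R₀ X ⟶ X, e (R₀ X) X q f = e' X X f (𝟙 X) :=
    ⟨(e (R₀ X) X).symm ((LinearMap.applyₗ (𝟙 X)).comp (e' X X).toLinearMap), fun f => by simp⟩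
  have claim1 : ∀ (Y : T) (f : R₀ X ⟶ Y) (t : Y ⟶ S₀ (R₀ X)),
      e' X Y f (t ≫ p) = e (R₀ X) Y t f := by
    intro Y f t
    have h1 := Q1 R₀ e' he' f t p
    have h2 := N1 S₀ e he f t (𝟙 (S₀ (R₀ X)))
    rw [Category.comp_id] at h2
    rw [← h1, hp, h2]
  have claim2 : ∀ (Y : T) (f : R₀ X ⟶ Y) (s : Y ⟶ X),
      e (R₀ X) Y (s ≫ q) f = e' X Y f s := by
    intro Y f s
    have h1 := N1 S₀ e he f s q
    have h2 := Q1 R₀ e' he' f s (𝟙 X)
    rw [Category.comp_id] at h2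
    rw [h1, hq, h2]
  refine ⟨⟨p, q, ?_, ?_⟩⟩
  · apply sepR S₀ e
    intro f
    rw [claim2, hp]
  · apply pair_sep (e' X X)
    intro f
    rw [claim1, hq]

include he' in
lemma functorS_essSurj : (functorS S₀ e he).EssSurj where
  mem_essImage X := by
    obtain ⟨i⟩ := ess_aux S₀ e he R₀ e' he' X
    exact ⟨R₀ X, ⟨i⟩⟩

/-- the pairing isomorphism -/
noncomputable def cS (X Y : T) : (X ⟶ Y) ≃ₗ[k] Module.Dual k (Y ⟶ S₀ X) :=
  (Module.evalEquiv k (X ⟶ Y)).trans (e X Y).dualMap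

lemma cS_apply (X Y : T) (u : X ⟶ Y) (t : Y ⟶ S₀ X) : cS S₀ e X Y u t = e X Y t u := by
  simp [cS]

end aux

open CategoryTheory.Limits CategoryTheory.Pretriangulated in
/-- Let k be a field and T a k-linear (pre)triangulated category with dim_k Hom(X, Y) < ∞ for all X, Y.
The following are equivalent: (1) there are a k-linear equivalence S : T ⥤ T and k-linear
isomorphisms c_{X,Y} : Hom(X, Y) ≅ Hom(Y, S X)^∨ natural in X and in Y; (2) for every object X the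
functor Y ↦ Hom(X, Y)^∨ is representable and the functor Y ↦ Hom(Y, X)^∨ is corepresentable, by
k-linear isomorphisms natural in Y. (Here V^∨ is the k-linear dual.) -/
theorem result
    {k : Type w} [Field k]
    {T : Type u} [Category.{v} T] [Preadditive T] [Linear k T] [HasZeroObject T] [HasShift T ℤ]
    [∀ n : ℤ, (shiftFunctor T n).Additive] [∀ n : ℤ, (shiftFunctor T n).Linear k] [Pretriangulated T]
    [∀ X Y : T, Module.Finite k (X ⟶ Y)] :
    (∃ (S : T ≌ T) (_ : S.functor.Additive) (_ : S.functor.Linear k)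
        (c : ∀ X Y : T, (X ⟶ Y) ≃ₗ[k] Module.Dual k (Y ⟶ S.functor.obj X)),
        (∀ (X Y Y' : T) (f : X ⟶ Y) (g : Y ⟶ Y'),
          c X Y' (f ≫ g) = (c X Y f) ∘ₗ Linear.leftComp k (S.functor.obj X) g) ∧
        (∀ (X' X Y : T) (a : X' ⟶ X) (f : X ⟶ Y),
          c X' Y (a ≫ f) = (c X Y f) ∘ₗ Linear.rightComp k Y (S.functor.map a))) ↔
    ((∀ X : T, ∃ (SX : T) (e : ∀ Y : T, (Y ⟶ SX) ≃ₗ[k] Module.Dual k (X ⟶ Y)),
        ∀ (Y Y' : T) (g : Y' ⟶ Y) (f : Y ⟶ SX),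
          e Y' (g ≫ f) = (e Y f) ∘ₗ Linear.rightComp k X g) ∧
      (∀ X : T, ∃ (RX : T) (e : ∀ Y : T, (RX ⟶ Y) ≃ₗ[k] Module.Dual k (Y ⟶ X)),
        ∀ (Y Y' : T) (g : Y ⟶ Y') (f : RX ⟶ Y),
          e Y' (f ≫ g) = (e Y f) ∘ₗ Linear.leftComp k X g)) := by
  constructor
  · rintro ⟨S, _, _, c, hc₁, hc₂⟩
    refine ⟨fun X => ⟨S.functor.obj X,
      fun Y => (Module.evalEquiv k (Y ⟶ S.functor.obj X)).trans (c X Y).dualMap, ?_⟩,
      fun X => ⟨S.inverse.obj X,
      fun Y => (c (S.inverse.obj X) Y).trans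
        (Linear.homCongr k (Iso.refl Y) (S.counitIso.app X).symm).dualMap, ?_⟩⟩
    · intro Y Y' g f
      ext u
      have h := LinearMap.congr_fun (hc₁ X Y' Y u g) f
      simp at h ⊢
      exact h.symm
    · intro Y Y' g f
      ext s
      have h := LinearMap.congr_fun (hc₁ (S.inverse.obj X) Y Y' f g)
        (Linear.homCongr k (Iso.refl Y') (S.counitIso.app X).symm s)
      simp [Linear.homCongr_apply] at h ⊢
      exact h
  · rintro ⟨h₁, h₂⟩
    choose S₀ e he using h₁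
    choose R₀ e' he' using h₂
    have hadd := functorS_additive S₀ e he
    have hlin := functorS_linear S₀ e he
    have hfaith := functorS_faithful S₀ e he
    have hfull := functorS_full S₀ e he
    have hess := functorS_essSurj S₀ e he R₀ e' he'
    have heq : (functorS S₀ e he).IsEquivalence := { }
    refine ⟨(functorS S₀ e he).asEquivalence, hadd, hlin, cS S₀ e, ?_, ?_⟩
    · intro X Y Y' f g
      ext t
      change cS S₀ e X Y' (f ≫ g) t = cS S₀ e X Y f (g ≫ t)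
      rw [cS_apply, cS_apply, N1 S₀ e he]
    · intro X' X Y a f
      ext t
      change cS S₀ e X' Y (a ≫ f) t = cS S₀ e X Y f (t ≫ mapS S₀ e a)
      rw [cS_apply, cS_apply, N2 S₀ e he]
      rfl

end Groth.Agent.S6718
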