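import Groth.Statements.S6719
import Groth.Agent.Lib.Helper12.SkyHom6

set_option autoImplicit false
universe u
open CategoryTheory AlgebraicGeometry
attribute [local instance] HasDerivedCategory.standard
open DEquiv

namespace Groth.Agent.S6719

theorem result
    (X : Scheme.{u}) [IsNoetherian X] (x : X) (hx : IsClosed ({x} : Set X))
    (K : DCoh.D X) (hK : DCoh.IsCohD K) (a c : ℤ) [DerivedCategory.IsGE K a]
    [DerivedCategory.IsLE K c] (b : ℤ) :
    (∀ i : ℤ, b < i → x ∉ CohB1.support (DCoh.HD K i)) ↔
      ∀ i : ℤ, b < i → ∀ φ : K ⟶ (shiftFunctor (DCoh.D X) (-i)).obj (DCoh.inD X ((Coh.push (X.fromSpecResidueField x)).obj (Coh.structureModule _))),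
        φ = 0 := by
  have hS : ∀ s : Spec (X.residueField x), (X.fromSpecResidueField x).base s = x :=
    fun s => AlgebraicGeometry.Scheme.fromSpecResidueField_apply x s
  exact Groth.Agent.Lib.Helper12.SkyHom.main (X.fromSpecResidueField x) x hS K hK c b

end Groth.Agent.S6719
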