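import Groth.Statements.S6727
import Mathlib
import Groth.Agent.Lib.Helper61.FPPres
import Groth.Agent.Lib.Helper61.KerColim
import Groth.Agent.Lib.Helper61.Coherent
import Groth.Agent.S6715
import Groth.Agent.S6716

set_option autoImplicit false
universe u v' u'
open CategoryTheory CategoryTheory.Limits
open FunMor

namespace Groth.Agent.S6727
set_option maxHeartbeats 400000
open CategoryTheory CategoryTheory.Limits
open Groth.Agent.Lib.Helper61.FPPres Groth.Agent.Lib.Helper61.KerColim
  Groth.Agent.Lib.Helper61.Coherent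

noncomputable section

variable (A : Type u) [CommRing A]

/-- finitely presented modules -/
abbrev fp : ObjectProperty (ModuleCat.{u} A) := fun M => Module.FinitePresentation A M

variable {A} (hcoh : ∀ I : Ideal A, I.FG → Module.FinitePresentation A I)

include hcoh in
lemma fp_kernel {P Q : ModuleCat.{u} A} [Module.FinitePresentation A P]
    [Module.FinitePresentation A Q] (f : P ⟶ Q) :
    Module.FinitePresentation A (kernel f : ModuleCat.{u} A) := by
  haveI : Module.FinitePresentation A (LinearMap.ker f.hom) := fp_ker hcoh f.hom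
  have e := (ModuleCat.kernelIsoKer f).toLinearEquiv
  exact Module.FinitePresentation.of_equiv e.symm

variable {B : Type u'} [Category.{v'} B] [Preadditive B] [HasFiniteBiproducts B]
  (F' : ModuleCat.{u} A ⥤ B)

/-- the restriction to finitely presented modules is additive as soon as it is left exact -/
theorem additive_restriction [PreservesFiniteLimits ((fp A).ι ⋙ F')] :
    ((fp A).ι ⋙ F').Additive := by
  haveI : ((fp A).ι ⋙ F').PreservesZeroMorphisms := inferInstance
  exact Functor.additive_of_preserves_binary_products _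

include hcoh in
/-- case of a map between finitely presented modules -/
theorem isKer_fp [PreservesFiniteLimits ((fp A).ι ⋙ F')] {P Q : ModuleCat.{u} A}
    [hP : Module.FinitePresentation A P] [hQ : Module.FinitePresentation A Q] (f : P ⟶ Q) :
    IsKer (F'.map (kernel.ι f)) (F'.map f) := by
  haveI : ((fp A).ι ⋙ F').PreservesZeroMorphisms := inferInstance
  let Pf : (fp A).FullSubcategory := ⟨P, hP⟩
  let Qf : (fp A).FullSubcategory := ⟨Q, hQ⟩
  let Kf : (fp A).FullSubcategory := ⟨kernel f, fp_kernel hcoh f⟩
  let f' : Pf ⟶ Qf := ObjectProperty.homMk f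
  let ι' : Kf ⟶ Pf := ObjectProperty.homMk (kernel.ι f)
  have w' : ι' ≫ f' = 0 := by
    ext : 1
    exact kernel.condition f
  have hc' : IsLimit (KernelFork.ofι ι' w') := by
    apply isLimitOfReflects (fp A).ι
    refine (isLimitMapConeForkEquiv' (fp A).ι w').symm ?_
    exact kernelIsKernel f
  have h2 := isLimitMapConeForkEquiv' ((fp A).ι ⋙ F') w'
    (isLimitOfPreserves ((fp A).ι ⋙ F') hc')
  exact IsKer.of_isLimit _ h2

section Pattern

variable [F'.PreservesZeroMorphisms] [PreservesFilteredColimitsOfSize.{u, u} F']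
  [HasFilteredColimitsOfSize.{u, u} B]
  (hcomm : ∀ (J : Type u) [SmallCategory J] [IsFiltered J],
      PreservesLimitsOfShape WalkingParallelPair (colim : (J ⥤ B) ⥤ B))

include hcomm in
/-- if `F'` preserves the pointwise kernels of a filtered system of maps, it preserves the
kernel of the colimit map -/
theorem isKer_of_pointwise {J : Type u} [SmallCategory J] [IsFiltered J]
    {X Y : J ⥤ ModuleCat.{u} A} (α : X ⟶ Y) {cX : Cocone X} {cY : Cocone Y}
    (hX : IsColimit cX) (hY : IsColimit cY) (a : cX.pt ⟶ cY.pt)
    (ha : ∀ j, cX.ι.app j ≫ a = α.app j ≫ cY.ι.app j)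
    (hker : ∀ j, IsKer (F'.map (kernel.ι (α.app j))) (F'.map (α.app j))) :
    IsKer (F'.map (kernel.ι a)) (F'.map a) := by
  have hpres := PreservesFilteredColimitsOfSize.preserves_filtered_colimits (F := F') J
  haveI := hcomm J
  let cZ := kerCocone α a ha
  have hk : ∀ j, cZ.ι.app j ≫ kernel.ι a = (kerι α).app j ≫ cX.ι.app j :=
    fun j => kerCocone_fac α a ha j
  obtain ⟨hZ⟩ := nonempty_isColimit_of_isKer (cZ := cZ) (kerι α) α a ha
    (kernel.ι a : cZ.pt ⟶ cX.pt) hk (isKer_kerι α) hX hY (IsKer.kernel a)
  refine isKer_of_isColimit (Functor.whiskerRight (kerι α) F') (Functor.whiskerRight α F')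
    (cX := F'.mapCocone cX) (cY := F'.mapCocone cY) (cZ := F'.mapCocone cZ)
    (F'.map a) ?_ (F'.map (kernel.ι a)) ?_ ?_
    (isColimitOfPreserves F' hX) (isColimitOfPreserves F' hY) (isColimitOfPreserves F' hZ)
  · intro j
    have h := congrArg F'.map (ha j)
    exact ((F'.map_comp _ _).symm.trans h).trans (F'.map_comp _ _)
  · intro j
    have h := congrArg F'.map (hk j)
    exact ((F'.map_comp _ _).symm.trans h).trans (F'.map_comp _ _)
  · intro j
    exact hker j

end Pattern

section Main

variable [PreservesFilteredColimitsOfSize.{u, u} F']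
  [PreservesFiniteLimits ((fp A).ι ⋙ F')] [F'.PreservesZeroMorphisms]
  [HasFilteredColimitsOfSize.{u, u} B]
  (hcomm : ∀ (J : Type u) [SmallCategory J] [IsFiltered J],
      PreservesLimitsOfShape WalkingParallelPair (colim : (J ⥤ B) ⥤ B))

include hcoh hcomm in
/-- case of a map out of a finitely presented module -/
theorem isKer_fp_source {P N : ModuleCat.{u} A} [Module.FinitePresentation A P] (g : P ⟶ N) :
    IsKer (F'.map (kernel.ι g)) (F'.map g) := by
  obtain ⟨j₀, g₀, hg⟩ := exists_factor P (isColimitFpCocone N) g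
  have hg' : g₀ ≫ ιM N j₀ = g := hg
  let J' : Type u := ↥(Set.Ici j₀)
  haveI : Nonempty J' := ⟨⟨j₀, Set.mem_Ici.mpr (le_refl _)⟩⟩
  haveI : IsDirected J' (· ≤ ·) :=
    ⟨fun a b => by
      obtain ⟨c, hac, hbc⟩ := exists_ge_ge a.1 b.1
      exact ⟨⟨c, le_trans a.2 hac⟩, hac, hbc⟩⟩
  let hmono : Monotone (fun j : J' => (j.1 : Idx N)) := Subtype.mono_coe (· ∈ Set.Ici j₀)
  let inc : J' ⥤ Idx N := hmono.functor
  haveI : inc.Final := by
    rw [Monotone.final_functor_iff]
    intro j
    obtain ⟨c, hjc, h0c⟩ := exists_ge_ge j j₀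
    exact ⟨⟨c, h0c⟩, hjc⟩
  let α : (Functor.const J').obj P ⟶ inc ⋙ fpDiag N :=
    { app := fun j => g₀ ≫ (fpDiag N).map (homOfLE j.2)
      naturality := by
        intro j k φ
        show 𝟙 P ≫ g₀ ≫ (fpDiag N).map (homOfLE k.2) =
          (g₀ ≫ (fpDiag N).map (homOfLE j.2)) ≫ (fpDiag N).map (inc.map φ)
        rw [Category.id_comp, Category.assoc, ← (fpDiag N).map_comp]
        congr 2 }
  haveI : IsConnected J' := IsFiltered.isConnected J'
  have hY : IsColimit ((fpCocone N).whisker inc) :=
    (Functor.Final.isColimitWhiskerEquiv inc (fpCocone N)).symm (isColimitFpCocone N)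
  refine isKer_of_pointwise F' hcomm α (isColimitConstCocone J' P) hY g ?_ ?_
  · intro j
    show 𝟙 P ≫ g = (g₀ ≫ (fpDiag N).map (homOfLE j.2)) ≫ ιM N j.1
    rw [Category.id_comp, Category.assoc, fpDiag_map_ιM, hg']
  · intro j
    exact isKer_fp hcoh F' (P := P) (Q := (fpDiag N).obj j.1)
      (g₀ ≫ (fpDiag N).map (homOfLE j.2))

include hcoh hcomm in
/-- the general case -/
theorem isKer_map {M N : ModuleCat.{u} A} (f : M ⟶ N) :
    IsKer (F'.map (kernel.ι f)) (F'.map f) := by
  let α : fpDiag M ⟶ (Functor.const (Idx M)).obj N :=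
    { app := fun i => ιM M i ≫ f
      naturality := by
        intro i j φ
        show (fpDiag M).map φ ≫ ιM M j ≫ f = (ιM M i ≫ f) ≫ 𝟙 N
        rw [Category.comp_id, ← Category.assoc, fpDiag_map_ιM] }
  haveI : IsConnected (Idx M) := IsFiltered.isConnected (Idx M)
  refine isKer_of_pointwise F' hcomm α (isColimitFpCocone M)
    (isColimitConstCocone (Idx M) N) f ?_ ?_
  · intro i
    show ιM M i ≫ f = (ιM M i ≫ f) ≫ 𝟙 N
    rw [Category.comp_id]
  · intro i
    exact isKer_fp_source hcoh F' hcomm _

include hcoh hcomm in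
theorem preservesKernels {M N : ModuleCat.{u} A} (f : M ⟶ N) :
    PreservesLimit (parallelPair f 0) F' := by
  apply preservesLimit_of_preserves_limit_cone (kernelIsKernel f)
  refine (isLimitMapConeForkEquiv' F' (kernel.condition f)).symm ?_
  exact (isKer_map hcoh F' hcomm f).nonempty_isLimit.some

end Main

include hcoh in
theorem main [HasKernels B] [HasFilteredColimitsOfSize.{u, u} B]
    (hcomm : ∀ (J : Type u) [SmallCategory J] [IsFiltered J],
      PreservesLimitsOfShape WalkingParallelPair (colim : (J ⥤ B) ⥤ B))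
    [PreservesFilteredColimitsOfSize.{u, u} F']
    [PreservesFiniteLimits ((fp A).ι ⋙ F')] :
    F'.Additive ∧ PreservesFiniteLimits F' ∧
      ∀ J : Type u, PreservesColimitsOfShape (Discrete J) F' := by
  haveI := additive_restriction F'
  obtain ⟨hadd, hcoprod⟩ := Groth.Agent.S6715.main F'
  haveI := hadd
  haveI : ∀ {X Y : ModuleCat.{u} A} (f : X ⟶ Y), PreservesLimit (parallelPair f 0) F' :=
    fun f => preservesKernels hcoh F' hcomm f
  exact ⟨hadd, Functor.preservesFiniteLimits_of_preservesKernels F', hcoprod⟩

end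

end Groth.Agent.S6727

namespace Groth.Agent.S6727

/-- Let A be a coherent commutative ring (every finitely generated ideal of A is a finitely presented
A-module) and B an additive category with kernels and filtered colimits in which filtered colimits
commute with kernels (equivalently with equalizers). Let F' be a functor from A-modules to B
commuting with filtered colimits whose restriction to the full subcategory of finitely presented
A-modules is left exact. Then F' is additive and left exact, and it preserves all small direct sums. -/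
theorem result
    (A : Type u) [CommRing A] (hcoh : ∀ I : Ideal A, I.FG → Module.FinitePresentation A I)
    {B : Type u'} [Category.{v'} B] [Preadditive B] [HasFiniteBiproducts B]
    [HasKernels B] [HasFilteredColimitsOfSize.{u, u} B]
    (hcomm : ∀ (J : Type u) [SmallCategory J] [IsFiltered J],
      PreservesLimitsOfShape WalkingParallelPair (colim : (J ⥤ B) ⥤ B))
    (F' : ModuleCat.{u} A ⥤ B) [PreservesFilteredColimitsOfSize.{u, u} F']
    [PreservesFiniteLimits (ObjectProperty.ι (fun M : ModuleCat.{u} A => Module.FinitePresentation A M) ⋙ F')] :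
    F'.Additive ∧ PreservesFiniteLimits F' ∧
      ∀ J : Type u, PreservesColimitsOfShape (Discrete J) F' := by
  exact main hcoh F' hcomm

end Groth.Agent.S6727
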