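import Groth.Statements.S6731
import Mathlib.LinearAlgebra.Dual.Lemmas

set_option autoImplicit false
universe w v u
open CategoryTheory
open DEquiv

namespace Groth.Agent.S6731

section aux

variable {k : Type w} [Field k] {T : Type u} [Category.{v} T] [Preadditive T] [Linear k T]
  [∀ X Y : T, Module.Finite k (X ⟶ Y)]

omit [∀ X Y : T, Module.Finite k (X ⟶ Y)] in
lemma sep (S' : T ⥤ T) (c' : ∀ X Y : T, (X ⟶ Y) ≃ₗ[k] Module.Dual k (Y ⟶ S'.obj X))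
    {X Y : T} (u v : Y ⟶ S'.obj X) (h : ∀ f : X ⟶ Y, c' X Y f u = c' X Y f v) : u = v := by
  rw [← sub_eq_zero, ← Module.forall_dual_apply_eq_zero_iff k]
  intro ℓ
  obtain ⟨f, rfl⟩ := (c' X Y).surjective ℓ
  rw [map_sub, h f, sub_self]

lemma exists_rep (S' : T ⥤ T) (c' : ∀ X Y : T, (X ⟶ Y) ≃ₗ[k] Module.Dual k (Y ⟶ S'.obj X))
    {X Y : T} (ℓ : Module.Dual k (X ⟶ Y)) :
    ∃ t : Y ⟶ S'.obj X, ∀ f, c' X Y f t = ℓ f := by
  refine ⟨(Module.evalEquiv k (Y ⟶ S'.obj X)).symm (ℓ ∘ₗ (c' X Y).symm.toLinearMap), fun f => ?_⟩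
  simp

lemma exists_natTrans (S S' : T ⥤ T)
    (c : ∀ X Y : T, (X ⟶ Y) ≃ₗ[k] Module.Dual k (Y ⟶ S.obj X))
    (hc₁ : ∀ (X Y Y' : T) (f : X ⟶ Y) (g : Y ⟶ Y'),
      c X Y' (f ≫ g) = (c X Y f) ∘ₗ Linear.leftComp k (S.obj X) g)
    (hc₂ : ∀ (X' X Y : T) (a : X' ⟶ X) (f : X ⟶ Y),
      c X' Y (a ≫ f) = (c X Y f) ∘ₗ Linear.rightComp k Y (S.map a))
    (c' : ∀ X Y : T, (X ⟶ Y) ≃ₗ[k] Module.Dual k (Y ⟶ S'.obj X))
    (hc'₁ : ∀ (X Y Y' : T) (f : X ⟶ Y) (g : Y ⟶ Y'),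
      c' X Y' (f ≫ g) = (c' X Y f) ∘ₗ Linear.leftComp k (S'.obj X) g)
    (hc'₂ : ∀ (X' X Y : T) (a : X' ⟶ X) (f : X ⟶ Y),
      c' X' Y (a ≫ f) = (c' X Y f) ∘ₗ Linear.rightComp k Y (S'.map a)) :
    ∃ φ : S ⟶ S', ∀ (X Y : T) (f : X ⟶ Y) (t : Y ⟶ S.obj X),
      c' X Y f (t ≫ φ.app X) = c X Y f t := by
  choose φ hφ using fun X : T => exists_rep S' c' (X := X) (Y := S.obj X)
    ((LinearMap.applyₗ (𝟙 (S.obj X))).comp (c X (S.obj X)).toLinearMap)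
  have key : ∀ (X Y : T) (f : X ⟶ Y) (t : Y ⟶ S.obj X), c' X Y f (t ≫ φ X) = c X Y f t := by
    intro X Y f t
    have h1 := LinearMap.congr_fun (hc'₁ X Y (S.obj X) f t) (φ X)
    have h2 := hφ X (f ≫ t)
    have h3 := LinearMap.congr_fun (hc₁ X Y (S.obj X) f t) (𝟙 _)
    simp at h1 h2 h3
    rw [← h1, h2, h3]
  refine ⟨⟨φ, ?_⟩, key⟩
  intro X' X a
  apply sep S' c'
  intro f
  have h1 := key X (S.obj X') f (S.map a)
  have h2 := LinearMap.congr_fun (hc₂ X' X (S.obj X') a f) (𝟙 _)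
  have h3 := LinearMap.congr_fun (hc'₂ X' X (S.obj X') a f) (φ X')
  have h4 := hφ X' (a ≫ f)
  simp at h1 h2 h3 h4
  rw [h1, ← h2, ← h3, h4]

end aux

open CategoryTheory.Limits CategoryTheory.Pretriangulated in
/-- Let k be a field and T a k-linear triangulated category with dim_k Hom(X, Y) < ∞ for all X, Y. Let
(S, c) and (S', c') be Serre functors: k-linear equivalences T ⥤ T with k-linear isomorphisms
c_{X,Y} : Hom(X, Y) ≅ Hom(Y, S X)^∨ natural in X and Y (likewise c'). Then there is a unique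
isomorphism of functors φ : S ≅ S' compatible with c and c', i.e. c_{X,Y}(f) is c'_{X,Y}(f) composed
with postcomposition by φ_X. -/
theorem result
    {k : Type w} [Field k]
    {T : Type u} [Category.{v} T] [Preadditive T] [Linear k T] [HasZeroObject T] [HasShift T ℤ]
    [∀ n : ℤ, (shiftFunctor T n).Additive] [∀ n : ℤ, (shiftFunctor T n).Linear k] [Pretriangulated T]
    [IsTriangulated T] [∀ X Y : T, Module.Finite k (X ⟶ Y)]
    (S : T ≌ T) [S.functor.Additive] [S.functor.Linear k]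
    (c : ∀ X Y : T, (X ⟶ Y) ≃ₗ[k] Module.Dual k (Y ⟶ S.functor.obj X))
    (hc₁ : ∀ (X Y Y' : T) (f : X ⟶ Y) (g : Y ⟶ Y'),
      c X Y' (f ≫ g) = (c X Y f) ∘ₗ Linear.leftComp k (S.functor.obj X) g)
    (hc₂ : ∀ (X' X Y : T) (a : X' ⟶ X) (f : X ⟶ Y),
      c X' Y (a ≫ f) = (c X Y f) ∘ₗ Linear.rightComp k Y (S.functor.map a))
    (S' : T ≌ T) [S'.functor.Additive] [S'.functor.Linear k]
    (c' : ∀ X Y : T, (X ⟶ Y) ≃ₗ[k] Module.Dual k (Y ⟶ S'.functor.obj X))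
    (hc'₁ : ∀ (X Y Y' : T) (f : X ⟶ Y) (g : Y ⟶ Y'),
      c' X Y' (f ≫ g) = (c' X Y f) ∘ₗ Linear.leftComp k (S'.functor.obj X) g)
    (hc'₂ : ∀ (X' X Y : T) (a : X' ⟶ X) (f : X ⟶ Y),
      c' X' Y (a ≫ f) = (c' X Y f) ∘ₗ Linear.rightComp k Y (S'.functor.map a)) :
    ∃! φ : S.functor ≅ S'.functor, ∀ (X Y : T) (f : X ⟶ Y),
      c X Y f = (c' X Y f) ∘ₗ Linear.rightComp k Y (φ.hom.app X) := by
  obtain ⟨φ, hφ⟩ := exists_natTrans S.functor S'.functor c hc₁ hc₂ c' hc'₁ hc'₂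
  obtain ⟨φ', hφ'⟩ := exists_natTrans S'.functor S.functor c' hc'₁ hc'₂ c hc₁ hc₂
  refine ⟨⟨φ, φ', ?_, ?_⟩, ?_, ?_⟩
  · ext X
    apply sep S.functor c
    intro f
    simp only [NatTrans.comp_app, NatTrans.id_app]
    rw [hφ', ← hφ X _ f (𝟙 _), Category.id_comp]
  · ext X
    apply sep S'.functor c'
    intro f
    simp only [NatTrans.comp_app, NatTrans.id_app]
    rw [hφ, ← hφ' X _ f (𝟙 _), Category.id_comp]
  · intro X Y f
    ext t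
    simp [hφ]
  · intro φ₂ h₂
    ext X
    apply sep S'.functor c'
    intro f
    have h := LinearMap.congr_fun (h₂ X _ f) (𝟙 _)
    have h' := hφ X _ f (𝟙 _)
    simp at h h'
    rw [← h, h']

end Groth.Agent.S6731
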