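import Groth.Statements.S6770
import Groth.Agent.Lib.Helper13.Beil.Main
import Groth.Agent.Lib.Helper16.BeilT0
import Groth.Agent.Lib.Helper25.BeilF1
import Groth.Agent.Lib.Helper25.BeilT1
import Groth.Agent.Lib.Helper39.BeilMOD
import Groth.Agent.Lib.Helper49.BeilF2
import Groth.Agent.Lib.Helper49.BeilF3
import Groth.Agent.Lib.Helper49.BeilF5
import Groth.Agent.Lib.Helper80.BeilB1
import Groth.Agent.Lib.Helper80.BeilB2

set_option autoImplicit false
universe u
open CategoryTheory
attribute [local instance] HasDerivedCategory.standard
open DEquiv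

namespace Groth.Agent.S6770

open CategoryTheory.Limits Opposite in
/-- Let k be a field, n ≥ 0, and R the Beilinson algebra of P^n_k: the k-algebra of upper triangular
(n+1) × (n+1) matrices whose (i, j) entry is a homogeneous polynomial of degree j - i in k[X_0, …,
X_n]. For an object K of the derived category D(R) of R-modules the following are equivalent: K is a
compact object (the functor Hom(K, -) with values in abelian groups commutes with arbitrary direct
sums indexed by small types), and the cohomology modules H^i(K) are finite-dimensional k-vector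
spaces for all i ∈ ℤ, nonzero for only finitely many i. (Left R-modules are used; the published
statement is for right modules, i.e. left modules over the opposite algebra, which is isomorphic to
R by reversing the order of the indices and transposing, and the printed proof applies verbatim to
either side.) -/
theorem result
    (k : Type u) [Field k] (n : ℕ)
    (K : DerivedCategory (ModuleCat.{u} (DEquiv.beilinsonAlg k n))) :
    (∀ J : Type u, PreservesColimitsOfShape (Discrete J) (preadditiveCoyoneda.obj (op K))) ↔
      ((∀ i : ℤ, Module.Finite k (RestrictScalars k (DEquiv.beilinsonAlg k n) ((DerivedCategory.homologyFunctor (ModuleCat.{u} (DEquiv.beilinsonAlg k n)) i).obj K))) ∧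
        Set.Finite {i : ℤ | Nontrivial ((DerivedCategory.homologyFunctor (ModuleCat.{u} (DEquiv.beilinsonAlg k n)) i).obj K)}) := by
  classical
  -- the Beilinson algebra: finite-dimensional with a triangular system of idempotents
  haveI hfin : Module.Finite k (DEquiv.beilinsonAlg k n) :=
    Groth.Agent.Lib.Helper80.BeilB1.finite_beilinsonAlg k n
  obtain ⟨e, he_idem, he_orth, he_sum, he_tri, he_diag⟩ :=
    Groth.Agent.Lib.Helper80.BeilB2.exists_idempotents k n
  let A := DEquiv.beilinsonAlg k n
  let hs : HasDerivedCategory (ModuleCat.{u} A) := HasDerivedCategory.standard _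
  let h' : HasDerivedCategory.{u} (ModuleCat.{u} A) :=
    Groth.Agent.Lib.Helper13.DerSmall.hasDerivedCategorySmall (ModuleCat.{u} A)
  have hP : @Groth.Agent.Lib.Helper13.Beil.PfinThick k _ A _ _ h' :=
    { of_iso := fun e h => @Groth.Agent.Lib.Helper25.BeilF1.pfin_of_iso k _ A _ _ h' _ _ e h
      zero := fun K hK => @Groth.Agent.Lib.Helper25.BeilF1.pfin_zero k _ A _ _ h' K hK
      retract := fun r h => @Groth.Agent.Lib.Helper25.BeilF1.pfin_retract k _ A _ _ h' _ _ r h
      shift := fun K m h => @Groth.Agent.Lib.Helper49.BeilF2.pfin_shift k _ A _ _ h' K m h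
      ext := fun T hT h₁ h₃ => @Groth.Agent.Lib.Helper49.BeilF3.pfin_ext k _ A _ _ h' T hT h₁ h₃
      single_self := @Groth.Agent.Lib.Helper49.BeilF5.pfin_single_self k _ A _ _ h' _ }
  have hMOD : ∀ M : ModuleCat.{u} A, Module.Finite k (RestrictScalars k A M) →
      @Groth.Agent.Lib.Helper13.Beil.CptMod A _ h' M := by
    intro M hM
    exact Groth.Agent.Lib.Helper39.BeilMOD.prop_of_finite n e he_idem he_orth he_sum he_tri he_diag
      (@Groth.Agent.Lib.Helper13.Beil.CptMod A _ h')
      (fun M M' e h => @Groth.Agent.Lib.Helper13.Beil.cptMod_iso A _ h' M M' e h)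
      (fun M h => @Groth.Agent.Lib.Helper13.Beil.cptMod_zero A _ h' M h)
      (fun S hS h₁ h₃ => @Groth.Agent.Lib.Helper13.Beil.cptMod_ext A _ h' S hS h₁ h₃)
      (fun S hS h₁ h₂ => @Groth.Agent.Lib.Helper13.Beil.cptMod_cok A _ h' S hS h₁ h₂)
      (fun i => @Groth.Agent.Lib.Helper13.Beil.cptMod_idem A _ h' (e i) (he_idem i))
      M hM
  exact Groth.Agent.Lib.Helper13.Beil.main k A hs h'
    (fun K J _ h => Groth.Agent.Lib.Helper16.BeilT0.preserves_of_finSum K J h)
    (fun E _ K h => Groth.Agent.Lib.Helper25.BeilT1.finAll_of_equivalence E K h)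
    (fun E _ K h => Groth.Agent.Lib.Helper25.BeilT1.finAll_of_equivalence E K h)
    hP hMOD K

end Groth.Agent.S6770
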