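import Groth.Statements.S6779
import Groth.Agent.Lib.Helper59.Moore

set_option autoImplicit false
open CategoryTheory
universe u
open SSet

namespace Groth.Agent.S6779

/-- The underlying simplicial set of a simplicial group is a Kan complex. -/
theorem result (X : SimplicialObject GrpCat.{u}) : SSet.KanComplex (X ⋙ forget GrpCat.{u}) := by
  rw [SSet.KanComplex.iff]
  intro n i f hf
  letI : ∀ n : ℕ, Group ((X ⋙ forget GrpCat.{u}).obj (Opposite.op (SimplexCategory.mk n))) :=
    fun n => (X.obj (Opposite.op (SimplexCategory.mk n))).str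
  obtain ⟨φ, hφ, -⟩ := Groth.Agent.Lib.Helper59.Moore.exists_lift (X ⋙ forget GrpCat.{u})
    (fun n i a b => map_mul (X.δ i).hom a b)
    (fun n i a b => map_mul (X.σ i).hom a b)
    (fun _ => ⊤) (fun _ _ _ _ => Subgroup.mem_top _) (fun _ _ _ _ => Subgroup.mem_top _)
    f hf (fun _ _ => Subgroup.mem_top _)
  exact ⟨φ, hφ⟩

end Groth.Agent.S6779
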