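import Groth.Statements.S6780
import Groth.Agent.Lib.Helper59.Moore

set_option autoImplicit false
open CategoryTheory
universe u
open SSet

namespace Groth.Agent.S6780

theorem aux {P Q : SimplicialObject AddCommGrpCat.{u}} (f : P ⟶ Q) (hf : ∀ n : SimplexCategoryᵒᵖ, Function.Surjective (f.app n)) : SSet.modelCategoryQuillen.J.rlp (X := P ⋙ forget AddCommGrpCat.{u}) (Y := Q ⋙ forget AddCommGrpCat.{u}) (Functor.whiskerRight f (forget AddCommGrpCat.{u})) := by
  intro A B g hj
  simp only [SSet.modelCategoryQuillen.J, MorphismProperty.iSup_iff] at hj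
  obtain ⟨n, ⟨i⟩⟩ := hj
  refine ⟨fun {t b} sq => ?_⟩
  let Z : SSet.{u} := P ⋙ forget AddCommGrpCat.{u}
  let W : SSet.{u} := Q ⋙ forget AddCommGrpCat.{u}
  let p : Z ⟶ W := Functor.whiskerRight f (forget AddCommGrpCat.{u})
  letI : ∀ n : ℕ, AddGroup (Z.obj (Opposite.op (SimplexCategory.mk n))) :=
    fun n => inferInstanceAs (AddGroup (P.obj (Opposite.op (SimplexCategory.mk n))))
  have hp : ∀ (n : ℕ) (z : Z.obj (Opposite.op (SimplexCategory.mk n))),
      p.app _ z = (f.app (Opposite.op (SimplexCategory.mk n))).hom z := fun _ _ => rfl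
  obtain ⟨w₀, hw₀⟩ := hf (Opposite.op (SimplexCategory.mk (n + 1))) (SSet.yonedaEquiv b)
  obtain ⟨φ, hφ, hφK⟩ := Groth.Agent.Lib.Helper59.Moore.exists_lift_rel_add Z
    (fun n i a b => map_add (P.δ i).hom a b)
    (fun n i a b => map_add (P.σ i).hom a b)
    (fun n => (f.app (Opposite.op (SimplexCategory.mk n))).hom.ker)
    (fun n i z hz => by
      rw [AddMonoidHom.mem_ker] at hz ⊢
      have := SSet.δ_naturality_apply p i z
      rw [hp, hp, hz] at this
      rw [this]
      exact map_zero (Q.δ i).hom)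
    (fun n i z hz => by
      rw [AddMonoidHom.mem_ker] at hz ⊢
      have := SSet.σ_naturality_apply p i z
      rw [hp, hp, hz] at this
      rw [this]
      exact map_zero (Q.σ i).hom)
    (fun j hj => SSet.horn.ι i j hj ≫ t) (SSet.horn.IsCompatible.of_hom t) w₀
    (fun j hj => by
      rw [AddMonoidHom.mem_ker, map_add, map_neg]
      have h1 : (f.app _).hom (SSet.yonedaEquiv (SSet.horn.ι i j hj ≫ t)) =
          W.δ j (SSet.yonedaEquiv b) := by
        rw [← hp, ← SSet.yonedaEquiv_comp, Category.assoc, sq.w, SSet.horn.ι_ι_assoc,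
          SSet.stdSimplex.yonedaEquiv_δ_comp]
      have h2 := SSet.δ_naturality_apply p j w₀
      rw [hp, hp] at h2
      rw [h1, h2]
      change _ + -(W.δ j ((f.app _).hom w₀)) = 0
      rw [show (f.app _).hom w₀ = SSet.yonedaEquiv b from hw₀]
      exact add_neg_cancel _)
  have hfac : φ ≫ p = b := by
    apply SSet.yonedaEquiv.injective
    rw [SSet.yonedaEquiv_comp, hp]
    rw [AddMonoidHom.mem_ker, map_add, map_neg, add_neg_eq_zero] at hφK
    rw [hφK]
    exact hw₀
  exact ⟨⟨{ l := φ, fac_left := SSet.horn.hom_ext' (by simpa using hφ), fac_right := hfac }⟩⟩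


/-- A degreewise surjective homomorphism of simplicial abelian groups is a Kan fibration of the
underlying simplicial sets. -/
theorem result {X Y : SimplicialObject AddCommGrpCat.{u}} (f : X ⟶ Y) (hf : ∀ n : SimplexCategoryᵒᵖ, Function.Surjective (f.app n)) : SSet.modelCategoryQuillen.J.rlp (X := X ⋙ forget AddCommGrpCat.{u}) (Y := Y ⋙ forget AddCommGrpCat.{u}) (Functor.whiskerRight f (forget AddCommGrpCat.{u})) := by
  exact aux f hf

end Groth.Agent.S6780
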