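import Groth.Statements.S6781
import Groth.Agent.Lib.Helper59.Moore
import Groth.Agent.Lib.Helper59.QuasiIsoAb

set_option autoImplicit false
open CategoryTheory
universe u
open SSet

namespace Groth.Agent.S6781

open Simplicial Opposite in
theorem aux {P Q : SimplicialObject AddCommGrpCat.{u}} (f : P ⟶ Q)
    (hf : ∀ n : SimplexCategoryᵒᵖ, Function.Surjective (f.app n))
    (hq : QuasiIso ((AlgebraicTopology.alternatingFaceMapComplex AddCommGrpCat.{u}).map f)) :
    SSet.modelCategoryQuillen.I.rlp (X := P ⋙ forget AddCommGrpCat.{u})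
      (Y := Q ⋙ forget AddCommGrpCat.{u}) (Functor.whiskerRight f (forget AddCommGrpCat.{u})) := by
  intro A B g hg
  obtain ⟨m⟩ := hg
  refine ⟨fun {t b} sq => ?_⟩
  let Z : SSet.{u} := P ⋙ forget AddCommGrpCat.{u}
  let W : SSet.{u} := Q ⋙ forget AddCommGrpCat.{u}
  let p : Z ⟶ W := Functor.whiskerRight f (forget AddCommGrpCat.{u})
  letI : ∀ n : ℕ, AddGroup (Z.obj (op ⦋n⦌)) :=
    fun n => inferInstanceAs (AddGroup (P.obj (op ⦋n⦌)))
  have hp : ∀ (n : ℕ) (z : Z.obj (op ⦋n⦌)), p.app _ z = (f.app (op ⦋n⦌)).hom z := fun _ _ => rfl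
  obtain ⟨w₀, hw₀⟩ := hf (op ⦋m⦌) (SSet.yonedaEquiv b)
  obtain _ | m' := m
  · refine ⟨⟨{ l := SSet.yonedaEquiv.symm w₀, fac_left := SSet.boundary.hom_ext₀, fac_right := ?_ }⟩⟩
    apply SSet.yonedaEquiv.injective
    rw [SSet.yonedaEquiv_comp, Equiv.apply_symm_apply]
    exact hw₀
  · -- general facts
    have hfx : ∀ j : Fin (m' + 2), (f.app (op ⦋m'⦌)).hom (SSet.yonedaEquiv (SSet.boundary.ι j ≫ t)) =
        W.δ j (SSet.yonedaEquiv b) := by
      intro j
      rw [← hp, ← SSet.yonedaEquiv_comp, Category.assoc, sq.w, SSet.boundary.ι_ι_assoc,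
        SSet.stdSimplex.yonedaEquiv_δ_comp]
    have hfδ : ∀ (n : ℕ) (j : Fin (n + 2)) (w : Z.obj (op ⦋n + 1⦌)),
        (f.app (op ⦋n⦌)).hom (Z.δ j w) = W.δ j ((f.app (op ⦋n + 1⦌)).hom w) := by
      intro n j w
      have h2 := SSet.δ_naturality_apply p j w
      rw [hp, hp] at h2
      exact h2
    -- Step 1
    have hcompat : SSet.horn.IsCompatible (i := (0 : Fin (m' + 2)))
        (fun j _ => SSet.boundary.ι j ≫ t) := by
      obtain _ | n := m'
      · simp
      · simp only [SSet.horn.isCompatible_iff, ← Category.assoc]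
        intro j k hj hk hjk
        congr 1
        obtain ⟨j, rfl⟩ := j.eq_castSucc_of_ne_last (Fin.ne_last_of_lt hjk)
        obtain ⟨k, rfl⟩ := k.eq_succ_of_ne_zero (Fin.ne_zero_of_lt hjk)
        rw [← cancel_mono (SSet.Subcomplex.ι _), Category.assoc, Category.assoc,
          SSet.boundary.ι_ι, SSet.boundary.ι_ι,
          Fin.pred_succ, Fin.castPred_castSucc, SSet.stdSimplex.δ_comp_δ (by grind)]
    obtain ⟨φ', hφ', hφ'K⟩ := Groth.Agent.Lib.Helper59.Moore.exists_lift_rel_add Z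
      (fun n i a b => map_add (P.δ i).hom a b)
      (fun n i a b => map_add (P.σ i).hom a b)
      (fun n => (f.app (op ⦋n⦌)).hom.ker)
      (fun n i z hz => by
        rw [AddMonoidHom.mem_ker] at hz ⊢
        rw [hfδ, hz]
        exact map_zero (Q.δ i).hom)
      (fun n i z hz => by
        rw [AddMonoidHom.mem_ker] at hz ⊢
        have := SSet.σ_naturality_apply p i z
        rw [hp, hp, hz] at this
        rw [this]
        exact map_zero (Q.σ i).hom)
      (fun j _ => SSet.boundary.ι j ≫ t) hcompat w₀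
      (fun j hj => by
        rw [AddMonoidHom.mem_ker, map_add, map_neg, hfx, hfδ]
        change _ + -(W.δ j ((f.app _).hom w₀)) = 0
        rw [show (f.app _).hom w₀ = SSet.yonedaEquiv b from hw₀]
        exact add_neg_cancel _)
    obtain ⟨w', hw'⟩ : ∃ w' : P _⦋m' + 1⦌, w' = SSet.yonedaEquiv φ' := ⟨_, rfl⟩
    rw [← hw'] at hφ'K
    obtain ⟨yb, hyb⟩ : ∃ yb : Q _⦋m' + 1⦌, yb = SSet.yonedaEquiv b := ⟨_, rfl⟩
    obtain ⟨x, hx⟩ : ∃ x : Fin (m' + 2) → P _⦋m'⦌,
        ∀ j, x j = SSet.yonedaEquiv (SSet.boundary.ι j ≫ t) := ⟨_, fun _ => rfl⟩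
    have hfw' : (f.app (op ⦋m' + 1⦌)).hom w' = yb := by
      rw [AddMonoidHom.mem_ker, map_add, map_neg, add_neg_eq_zero] at hφ'K
      rw [hφ'K, hyb]
      exact hw₀
    have hδw' : ∀ j : Fin (m' + 2), j ≠ 0 → (P.δ j).hom w' = x j := by
      intro j hj
      rw [hx, ← hφ' j hj, SSet.stdSimplex.yonedaEquiv_δ_comp, hw']
      rfl
    have hfx' : ∀ j : Fin (m' + 2), (f.app (op ⦋m'⦌)).hom (x j) = (Q.δ j).hom yb := by
      intro j
      rw [hx, hyb]
      exact hfx j
    have hfδ' : ∀ (n : ℕ) (j : Fin (n + 2)) (w : P _⦋n + 1⦌),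
        (f.app (op ⦋n⦌)).hom ((P.δ j).hom w) = (Q.δ j).hom ((f.app (op ⦋n + 1⦌)).hom w) :=
      fun n j w => hfδ n j w
    -- Step 2
    obtain ⟨z, hz⟩ : ∃ z : P _⦋m'⦌, z = x 0 - (P.δ 0).hom w' := ⟨_, rfl⟩
    have hfz : (f.app (op ⦋m'⦌)).hom z = 0 := by
      rw [hz, map_sub, hfx', hfδ', hfw', sub_self]
    have hz12 : (∀ k, ((AlgebraicTopology.alternatingFaceMapComplex AddCommGrpCat).obj P).d m' k z = 0) ∧
        (AlgebraicTopology.DoldKan.PInfty.f m' : P _⦋m'⦌ ⟶ P _⦋m'⦌) z = z := by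
      obtain _ | k := m'
      · refine ⟨fun k => ?_, rfl⟩
        rw [((AlgebraicTopology.alternatingFaceMapComplex AddCommGrpCat).obj P).shape 0 k (by simp)]
        rfl
      · have hfaces : ∀ i : Fin (k + 2), (P.δ i).hom z = 0 := by
          intro i
          have e2 : (P.δ i).hom ((P.δ 0).hom w') = (P.δ 0).hom ((P.δ i.succ).hom w') :=
            (SSet.δ_comp_δ_apply (S := Z) (i := 0) (j := i) (Fin.zero_le _) w').symm
          have e3 : SSet.stdSimplex.δ i ≫ SSet.boundary.ι 0 =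
              SSet.stdSimplex.δ 0 ≫ SSet.boundary.ι.{u} i.succ := by
            rw [← cancel_mono (SSet.Subcomplex.ι _), Category.assoc, Category.assoc,
              SSet.boundary.ι_ι, SSet.boundary.ι_ι]
            exact (SSet.stdSimplex.δ_comp_δ (Fin.zero_le i)).symm
          have e4 : (P.δ i).hom (x 0) = (P.δ 0).hom (x i.succ) := by
            rw [hx, hx]
            change Z.δ i (SSet.yonedaEquiv (SSet.boundary.ι 0 ≫ t)) =
              Z.δ 0 (SSet.yonedaEquiv (SSet.boundary.ι i.succ ≫ t))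
            rw [← SSet.stdSimplex.yonedaEquiv_δ_comp, ← SSet.stdSimplex.yonedaEquiv_δ_comp,
              ← Category.assoc, e3, Category.assoc]
          rw [hz, map_sub, e2, e4, hδw' i.succ (Fin.succ_ne_zero i), sub_self]
        exact ⟨Groth.Agent.Lib.Helper59.QI.d_eq_zero_of_faces P k z hfaces,
          Groth.Agent.Lib.Helper59.QI.P_eq_self P k z (fun j => hfaces j.succ)⟩
    -- Step 3
    obtain ⟨v, hfv, hv0, hvs⟩ := Groth.Agent.Lib.Helper59.QI.claimA f hf m' z hfz hz12.1 hz12.2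
    -- Step 4
    have hfin : ∀ j : Fin (m' + 2), (P.δ j).hom (w' + v) = x j := by
      intro j
      rw [map_add]
      by_cases hj : j = 0
      · subst hj
        have : (P.δ 0).hom v = z := hv0
        rw [this, hz]
        abel
      · obtain ⟨j', rfl⟩ := Fin.exists_succ_eq.mpr hj
        have : (P.δ j'.succ).hom v = 0 := hvs j'
        rw [this, add_zero, hδw' _ hj]
    refine ⟨⟨{ l := SSet.yonedaEquiv.symm (w' + v), fac_left := ?_, fac_right := ?_ }⟩⟩
    · apply SSet.boundary.hom_ext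
      intro j
      rw [SSet.boundary.ι_ι_assoc, SSet.stdSimplex.δ_comp_yonedaEquiv_symm, Equiv.symm_apply_eq,
        ← hx j]
      exact hfin j
    · apply SSet.yonedaEquiv.injective
      rw [SSet.yonedaEquiv_comp, Equiv.apply_symm_apply, hp, map_add, hfw', ← hyb]
      have : (f.app (op ⦋m' + 1⦌)).hom v = 0 := hfv
      rw [this, add_zero]

/-- A degreewise surjective homomorphism of simplicial abelian groups inducing a quasi-isomorphism of
the associated chain complexes is a trivial Kan fibration of the underlying simplicial sets. -/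
theorem result {X Y : SimplicialObject AddCommGrpCat.{u}} (f : X ⟶ Y) (hf : ∀ n : SimplexCategoryᵒᵖ, Function.Surjective (f.app n)) (hq : QuasiIso ((AlgebraicTopology.alternatingFaceMapComplex AddCommGrpCat.{u}).map f)) : SSet.modelCategoryQuillen.I.rlp (X := X ⋙ forget AddCommGrpCat.{u}) (Y := Y ⋙ forget AddCommGrpCat.{u}) (Functor.whiskerRight f (forget AddCommGrpCat.{u})) := by
  exact aux f hf hq

end Groth.Agent.S6781
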