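import Groth.Statements.S6782
-- import your own Groth.Agent.* helpers here

set_option autoImplicit false
open CategoryTheory Opposite
universe u
open SSet

namespace Groth.Agent.S6782

/-- A map of `n`-coskeletal simplicial sets which is bijective on simplices of dimension `< n` and
surjective on `n`-simplices is a trivial Kan fibration. -/
theorem result {U V : SSet.{u}} (f : V ⟶ U) (n : ℕ) (h1 : ∀ i : ℕ, i < n → Function.Bijective (f.app (op (SimplexCategory.mk i)))) (h2 : Function.Surjective (f.app (op (SimplexCategory.mk n)))) [SimplicialObject.IsCoskeletal U n] [SimplicialObject.IsCoskeletal V n] : SSet.modelCategoryQuillen.I.rlp f := by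
  intro A B g hg
  obtain ⟨m⟩ := hg
  refine ⟨fun {t b} sq => ?_⟩
  by_cases hm : m ≤ n
  · have hinj : ∀ k, k < m → Function.Injective (f.app (op (SimplexCategory.mk k))) :=
      fun k hk => (h1 k (by omega)).injective
    have hsurj : Function.Surjective (f.app (op (SimplexCategory.mk m))) := by
      rcases hm.lt_or_eq with h | rfl
      · exact (h1 m h).surjective
      · exact h2
    obtain ⟨v, hv⟩ := hsurj (SSet.yonedaEquiv b)
    refine ⟨⟨{ l := SSet.yonedaEquiv.symm v, fac_left := ?_, fac_right := ?_ }⟩⟩
    · obtain _ | m' := m
      · exact SSet.boundary.hom_ext₀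
      · apply SSet.boundary.hom_ext
        intro i
        rw [SSet.boundary.ι_ι_assoc]
        apply SSet.yonedaEquiv.injective
        apply hinj m' (by omega)
        rw [SSet.stdSimplex.δ_comp_yonedaEquiv_symm, Equiv.apply_symm_apply,
          SSet.δ_naturality_apply, hv, ← SSet.yonedaEquiv_comp, Category.assoc, sq.w,
          SSet.boundary.ι_ι_assoc, SSet.stdSimplex.yonedaEquiv_δ_comp]
    · apply SSet.yonedaEquiv.injective
      rw [SSet.yonedaEquiv_comp, Equiv.apply_symm_apply, hv]
  · have hiso : IsIso (Functor.whiskerLeft (SimplexCategory.Truncated.inclusion n).op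
        (SSet.boundary.{u} m).ι) := by
      have : ∀ X, IsIso ((Functor.whiskerLeft (SimplexCategory.Truncated.inclusion n).op
          (SSet.boundary.{u} m).ι).app X) := by
        intro X
        rw [isIso_iff_bijective]
        constructor
        · intro a b hab
          exact Subtype.ext hab
        · intro x
          have hX : X.unop.obj.len ≤ n := X.unop.property
          have := SSet.boundary_obj_eq_univ.{u} X.unop.obj.len m (by omega)
          exact ⟨⟨x, (Set.ext_iff.mp this x).mpr (Set.mem_univ _)⟩, rfl⟩
      exact NatIso.isIso_of_isIso_app _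
    let α : (SimplexCategory.Truncated.inclusion n).op ⋙ (SSet.stdSimplex.{u}.obj (SimplexCategory.mk m)) ⟶
        (SimplexCategory.Truncated.inclusion n).op ⋙ V :=
      inv (Functor.whiskerLeft (SimplexCategory.Truncated.inclusion n).op (SSet.boundary.{u} m).ι) ≫
        Functor.whiskerLeft (SimplexCategory.Truncated.inclusion n).op t
    let l : (SSet.stdSimplex.{u}.obj (SimplexCategory.mk m)) ⟶ V := V.liftOfIsRightKanExtension (𝟙 _) _ α
    have hl : Functor.whiskerLeft (SimplexCategory.Truncated.inclusion n).op l = α := by
      have := V.liftOfIsRightKanExtension_fac (𝟙 _) _ α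
      rwa [Category.comp_id] at this
    refine ⟨⟨{ l := l, fac_left := ?_, fac_right := ?_ }⟩⟩
    · refine V.hom_ext_of_isRightKanExtension
        (𝟙 ((SimplexCategory.Truncated.inclusion n).op ⋙ V)) _ _ ?_
      rw [Category.comp_id, Category.comp_id, Functor.whiskerLeft_comp, hl]
      simp only [α, IsIso.hom_inv_id_assoc]
    · refine U.hom_ext_of_isRightKanExtension
        (𝟙 ((SimplexCategory.Truncated.inclusion n).op ⋙ U)) _ _ ?_
      rw [Category.comp_id, Category.comp_id, Functor.whiskerLeft_comp, hl]
      simp only [α, Category.assoc, IsIso.inv_comp_eq]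
      rw [← Functor.whiskerLeft_comp, ← Functor.whiskerLeft_comp, sq.w]

end Groth.Agent.S6782
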