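import Groth.Statements.S6783
import Mathlib

set_option autoImplicit false
open CategoryTheory
universe u
open SSet

namespace Groth.Agent.S6783

open Simplicial SimplexCategory
open Opposite Limits

section helpers
variable {A B : Type u} (f : A ⟶ B)

noncomputable abbrev P : SSet.{u} := (Arrow.mk f).cechNerve

noncomputable def pr {m : SimplexCategoryᵒᵖ} (k : Fin (m.unop.len + 1)) (x : (P f).obj m) : A :=
  (WidePullback.π (fun _ : Fin (m.unop.len + 1) => (Arrow.mk f).hom) k) x

noncomputable def bs {m : SimplexCategoryᵒᵖ} (x : (P f).obj m) : B :=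
  (WidePullback.base (fun _ : Fin (m.unop.len + 1) => (Arrow.mk f).hom)) x

lemma f_pr {m : SimplexCategoryᵒᵖ} (k : Fin (m.unop.len + 1)) (x : (P f).obj m) :
    f (pr f k x) = bs f x := by
  have := WidePullback.π_arrow (fun _ : Fin (m.unop.len + 1) => (Arrow.mk f).hom) k
  exact ConcreteCategory.congr_hom this x

lemma P_ext {m : SimplexCategoryᵒᵖ} (x y : (P f).obj m) (h : ∀ k, pr f k x = pr f k y) : x = y := by
  apply Concrete.widePullback_ext' (fun _ : Fin (m.unop.len + 1) => (Arrow.mk f).hom)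
  exact h

lemma pr_map {m m' : SimplexCategoryᵒᵖ} (g : m ⟶ m') (k : Fin (m'.unop.len + 1)) (x : (P f).obj m) :
    pr f k ((P f).map g x) = pr f (g.unop.toOrderHom k) x := by
  have := WidePullback.lift_π (fun _ : Fin (m'.unop.len + 1) => (Arrow.mk f).hom)
    (WidePullback.base (fun _ : Fin (m.unop.len + 1) => (Arrow.mk f).hom))
    (fun i => WidePullback.π (fun _ : Fin (m.unop.len + 1) => (Arrow.mk f).hom) (g.unop.toOrderHom i)) (by simp) k
  exact ConcreteCategory.congr_hom this x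

lemma bs_map {m m' : SimplexCategoryᵒᵖ} (g : m ⟶ m') (x : (P f).obj m) :
    bs f ((P f).map g x) = bs f x := by
  have := WidePullback.lift_base (fun _ : Fin (m'.unop.len + 1) => (Arrow.mk f).hom)
    (WidePullback.base (fun _ : Fin (m.unop.len + 1) => (Arrow.mk f).hom))
    (fun i => WidePullback.π (fun _ : Fin (m.unop.len + 1) => (Arrow.mk f).hom) (g.unop.toOrderHom i)) (by simp)
  exact ConcreteCategory.congr_hom this x

lemma exists_mk {m : SimplexCategoryᵒᵖ} (b : B) (a : Fin (m.unop.len + 1) → A) (h : ∀ k, f (a k) = b) :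
    ∃ x : (P f).obj m, (∀ k, pr f k x = a k) ∧ bs f x = b := by
  have w : ∀ k : Fin (m.unop.len + 1), (↾fun _ : PUnit.{u+1} => a k) ≫ (Arrow.mk f).hom = (↾fun _ : PUnit.{u+1} => b) := by
    intro k
    ext
    exact h k
  let l : (PUnit.{u+1} : Type u) ⟶ (P f).obj m :=
    WidePullback.lift (↾fun _ => b) (fun k => ↾fun _ => a k) w
  refine ⟨l PUnit.unit, ?_, ?_⟩
  · intro k
    have := WidePullback.lift_π (fun _ : Fin (m.unop.len + 1) => (Arrow.mk f).hom)
      (↾fun _ : PUnit.{u+1} => b) (fun k => ↾fun _ => a k) w k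
    exact ConcreteCategory.congr_hom this PUnit.unit
  · have := WidePullback.lift_base (fun _ : Fin (m.unop.len + 1) => (Arrow.mk f).hom)
      (↾fun _ : PUnit.{u+1} => b) (fun k => ↾fun _ => a k) w
    exact ConcreteCategory.congr_hom this PUnit.unit


/-- the vertex `i` of `Δ[n]` as a 0-simplex. -/
noncomputable def vtx (n : ℕ) (i : Fin (n + 1)) : (Δ[n] : SSet.{u}) _⦋0⦌ :=
  stdSimplex.objEquiv.symm (⦋0⦌.const ⦋n⦌ i)

lemma vtx_mem (n : ℕ) (hn : n ≠ 0) (i : Fin (n + 1)) : vtx.{u} n i ∈ (∂Δ[n] : (Δ[n] : SSet.{u}).Subcomplex).obj _ := by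
  intro hsurj
  have hc : Fintype.card (Fin (n + 1)) ≤ Fintype.card (Fin (0 + 1)) :=
    Fintype.card_le_of_surjective _ hsurj
  simp at hc
  exact hn hc

lemma const_b {n : ℕ} (b : (Δ[n] : SSet.{u}) ⟶ (SimplicialObject.const (Type u)).obj B)
    (m : SimplexCategoryᵒᵖ) (y : (Δ[n] : SSet.{u}).obj m) :
    b.app m y = yonedaEquiv b := by
  obtain ⟨g, rfl⟩ := stdSimplex.objEquiv.symm.surjective y
  have h := ConcreteCategory.congr_hom (b.naturality g.op) (stdSimplex.objEquiv.symm (𝟙 ⦋n⦌))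
  have e : (Δ[n] : SSet.{u}).map g.op (stdSimplex.objEquiv.symm (𝟙 ⦋n⦌)) = stdSimplex.objEquiv.symm g := by
    rw [stdSimplex.map_objEquiv_symm]
    simp
  simp only [types_comp_apply] at h
  rw [e] at h
  exact h

end helpers

/-- For a surjective map of sets `f : A → B`, the augmentation from the Čech nerve of `f` (with
`n`-simplices the `(n+1)`-fold fibre product of `A` over `B`) to the constant simplicial set `B` is
a trivial Kan fibration. -/
theorem result {A B : Type u} (f : A ⟶ B) (hf : Function.Surjective f) : SSet.modelCategoryQuillen.I.rlp (Arrow.mk f).augmentedCechNerve.hom := by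
  rintro _ _ _ ⟨n⟩
  constructor
  intro t b sq
  -- the base point
  let b₀ : B := yonedaEquiv b
  have hsq : ∀ (m : SimplexCategoryᵒᵖ) (y : (∂Δ[n] : SSet.{u}).obj m), bs f (t.app m y) = b₀ := by
    intro m y
    have := ConcreteCategory.congr_hom (NatTrans.congr_app sq.w m) y
    simp only [NatTrans.comp_app, types_comp_apply] at this
    refine Eq.trans ?_ (this.trans (const_b b m _))
    rfl
  -- the vertices
  let a : Fin (n + 1) → A := fun i =>
    if h : n = 0 then (hf b₀).choose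
    else pr f (m := op ⦋0⦌) 0 (t.app (op ⦋0⦌) ⟨vtx n i, vtx_mem n h i⟩)
  have ha : ∀ i, f (a i) = b₀ := by
    intro i
    dsimp only [a]
    split_ifs with h
    · exact (hf b₀).choose_spec
    · exact (f_pr f _ _).trans (hsq _ _)
  obtain ⟨σ, hσ, hσb⟩ := exists_mk f (m := op ⦋n⦌) b₀ a ha
  refine ⟨⟨{ l := yonedaEquiv.symm σ, fac_left := ?_, fac_right := ?_ }⟩⟩
  · ext m ⟨y, hy⟩
    have hn : n ≠ 0 := by
      rintro rfl
      apply hy
      intro j
      exact ⟨0, (Fin.eq_zero _).trans (Fin.eq_zero j).symm⟩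
    obtain ⟨g, rfl⟩ := stdSimplex.objEquiv.symm.surjective y
    apply P_ext
    intro k
    change pr f k ((P f).map g.op σ) = pr f k (t.app m ⟨stdSimplex.objEquiv.symm g, hy⟩)
    rw [pr_map, hσ]
    -- the other side
    let y : (∂Δ[n] : SSet.{u}).obj m := ⟨stdSimplex.objEquiv.symm g, hy⟩
    let c : ⦋0⦌ ⟶ m.unop := ⦋0⦌.const m.unop k
    have e2 : pr f (m := op ⦋0⦌) 0 ((P f).map c.op (t.app m y)) = pr f k (t.app m y) :=
      pr_map f (m := m) (m' := op ⦋0⦌) c.op 0 (t.app m y)
    have e3 : t.app (op ⦋0⦌) ((∂Δ[n] : SSet.{u}).map c.op y) = (P f).map c.op (t.app m y) :=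
      ConcreteCategory.congr_hom (t.naturality c.op) y
    have e4 : (∂Δ[n] : SSet.{u}).map c.op y = ⟨vtx n (g.toOrderHom k), vtx_mem n hn _⟩ := by
      apply Subtype.ext
      rfl
    have e5 : a (g.toOrderHom k) = pr f (m := op ⦋0⦌) 0 (t.app (op ⦋0⦌) ⟨vtx n (g.toOrderHom k), vtx_mem n hn _⟩) := by
      dsimp only [a]
      rw [dif_neg hn]
    refine e5.trans ?_
    refine Eq.trans ?_ e2
    refine congrArg (pr f (m := op ⦋0⦌) 0) ?_
    refine Eq.trans ?_ e3
    exact congrArg (t.app (op ⦋0⦌)) e4.symm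
  · have h1 : SSet.yonedaEquiv.symm σ ≫ (Arrow.mk f).augmentedCechNerve.hom =
        SSet.yonedaEquiv.symm (((Arrow.mk f).augmentedCechNerve.hom).app _ σ) :=
      SSet.yonedaEquiv_symm_comp σ _
    have h2 : ((Arrow.mk f).augmentedCechNerve.hom).app (op ⦋n⦌) σ = SSet.yonedaEquiv b := hσb
    exact h1.trans ((congrArg SSet.yonedaEquiv.symm h2).trans (SSet.yonedaEquiv.symm_apply_apply b))

end Groth.Agent.S6783
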