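import Groth.Statements.S6784
import Mathlib

set_option autoImplicit false
open CategoryTheory
universe u
open SSet

namespace Groth.Agent.S6784

open Simplicial SimplexCategory
open Opposite Category Functor Limits
open SSet.Truncated
open StructuredArrow

abbrev strArrowMk₁ {i : ℕ} {p : ℕ} (φ : ⦋i⦌ ⟶ ⦋p⦌) (hi : i ≤ 1) :
    StructuredArrow (op ⦋p⦌) (SimplexCategory.Truncated.inclusion 1).op :=
  StructuredArrow.mk (Y := op (⟨⦋i⦌, hi⟩ : SimplexCategory.Truncated 1)) φ.op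

variable {N : ℕ}

abbrev X (N : ℕ) : SSet.{u} := SSet.stdSimplex.{u}.obj (SimplexCategory.mk N)

abbrev D (N p : ℕ) := proj (op ⦋p⦌) (SimplexCategory.Truncated.inclusion 1).op ⋙
      (SimplexCategory.Truncated.inclusion 1).op ⋙ X.{u} N

/-- the cone component as an element of `Δ[N]_i` -/
def comp {p : ℕ} (s : Cone (D.{u} N p)) (x : s.pt) {i : ℕ} (φ : ⦋i⦌ ⟶ ⦋p⦌) (hi : i ≤ 1) :
    (X.{u} N) _⦋i⦌ :=
  s.π.app (strArrowMk₁ φ hi) x

def vertex {p : ℕ} (s : Cone (D.{u} N p)) (x : s.pt) (i : Fin (p + 1)) : Fin (N + 1) :=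
  (comp s x (⦋0⦌.const ⦋p⦌ i) (by omega)) 0

lemma comp_apply {p : ℕ} (s : Cone (D.{u} N p)) (x : s.pt) {q : ℕ} (f : ⦋q⦌ ⟶ ⦋p⦌) (hq : q ≤ 1)
    (k : Fin (q + 1)) : (comp s x f hq) k = vertex s x (f.toOrderHom k) := by
  let α : strArrowMk₁ f hq ⟶ strArrowMk₁ (⦋0⦌.const ⦋p⦌ (f.toOrderHom k)) (by omega) :=
    StructuredArrow.homMk ((SimplexCategory.Truncated.Hom.tr (⦋0⦌.const _ (by exact k))).op) (by simp; rfl)
  have h := ConcreteCategory.congr_hom (s.w α) x
  dsimp [vertex, comp]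
  rw [← h]
  rfl

lemma vertex_mono {p : ℕ} (s : Cone (D.{u} N p)) (x : s.pt) : Monotone (vertex s x) := by
  intro i j hij
  have h0 := comp_apply s x (mkOfLe i j hij) (le_refl 1) 0
  have h1 := comp_apply s x (mkOfLe i j hij) (le_refl 1) 1
  have hm := stdSimplex.monotone_apply (comp s x (mkOfLe i j hij) (le_refl 1)) (show (0 : Fin 2) ≤ 1 by decide)
  dsimp only at hm
  rw [h0, h1] at hm
  exact hm

def lift {p : ℕ} (s : Cone (D.{u} N p)) (x : s.pt) : (X.{u} N) _⦋p⦌ :=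
  stdSimplex.objMk ⟨vertex s x, vertex_mono s x⟩

noncomputable def isPointwiseRightKanExtensionAt (p : ℕ) :
    (rightExtensionInclusion (X.{u} N) 1).IsPointwiseRightKanExtensionAt ⟨⦋p⦌⟩ where
  lift s := ↾fun x ↦ lift s x
  fac s j := by
    ext x
    obtain ⟨⟨i, hi⟩, ⟨f : _ ⟶ _⟩, rfl⟩ := j.mk_surjective
    obtain ⟨i, rfl⟩ : ∃ j, ⦋j⦌ = i := ⟨_, i.mk_len⟩
    dsimp at hi ⊢
    apply SSet.stdSimplex.ext
    intro k
    have := comp_apply s x f hi k
    dsimp [comp] at this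
    erw [this]
    rfl
  uniq s m hm := by
    ext x
    apply SSet.stdSimplex.ext
    intro i
    have := ConcreteCategory.congr_hom (hm (strArrowMk₁ (⦋0⦌.const ⦋p⦌ i) (by omega))) x
    change _ = vertex s x i
    change _ = (comp s x (⦋0⦌.const ⦋p⦌ i) (by omega)) 0
    unfold comp
    rw [← this]
    rfl

/-- The standard simplex `Δ[n]` is `1`-coskeletal, i.e. it is the right Kan extension of its
`1`-truncation. -/
theorem result (n : ℕ) : SimplicialObject.IsCoskeletal (SSet.stdSimplex.{u}.obj (SimplexCategory.mk n)) 1 := by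
  exact ⟨RightExtension.IsPointwiseRightKanExtension.isRightKanExtension
      (fun (Δ : SimplexCategoryᵒᵖ) => isPointwiseRightKanExtensionAt Δ.unop.len)⟩

end Groth.Agent.S6784
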