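import Groth.Statements.S6785
import Mathlib

set_option autoImplicit false
open CategoryTheory
universe u
open SSet

namespace Groth.Agent.S6785

open MonoidalCategory Simplicial Opposite CartesianMonoidalCategory

section helpers
variable {X Y : SSet.{u}}

lemma boundary_one_const {n : SimplexCategoryᵒᵖ} (e : (∂Δ[1] : SSet.{u}).obj n)
    (i j : Fin (n.unop.len + 1)) :
    (stdSimplex.asOrderHom e.1) i = (stdSimplex.asOrderHom e.1) j := by
  by_contra h
  apply e.2
  intro k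
  have hi := ((stdSimplex.asOrderHom e.1) i).isLt
  have hj := ((stdSimplex.asOrderHom e.1) j).isLt
  have hk := k.isLt
  have hne : ((stdSimplex.asOrderHom e.1) i).val ≠ ((stdSimplex.asOrderHom e.1) j).val :=
    fun h' => h (Fin.ext h')
  by_cases hki : k.val = ((stdSimplex.asOrderHom e.1) i).val
  · exact ⟨i, Fin.ext hki.symm⟩
  · exact ⟨j, Fin.ext (by omega)⟩

/-- the value (0 or 1) of an element of ∂Δ[1] -/
def val {n : SimplexCategoryᵒᵖ} (e : (∂Δ[1] : SSet.{u}).obj n) : Fin 2 :=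
  (stdSimplex.asOrderHom e.1) 0

lemma val_map {n m : SimplexCategoryᵒᵖ} (φ : n ⟶ m) (e : (∂Δ[1] : SSet.{u}).obj n) :
    val ((∂Δ[1] : SSet.{u}).map φ e) = val e := by
  exact boundary_one_const e _ _

noncomputable def τ (u v : X ⟶ X) : X ⊗ (∂Δ[1] : SSet.{u}) ⟶ X where
  app n := ↾fun z => if val z.2 = 0 then u.app n z.1 else v.app n z.1
  naturality n m φ := by
    ext z
    have h1 : val ((X ⊗ (∂Δ[1] : SSet.{u})).map φ z).2 = val z.2 := val_map φ z.2
    have hu := ConcreteCategory.congr_hom (u.naturality φ) z.1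
    have hv := ConcreteCategory.congr_hom (v.naturality φ) z.1
    change (if val ((X ⊗ (∂Δ[1] : SSet.{u})).map φ z).2 = 0 then
        u.app m ((X ⊗ (∂Δ[1] : SSet.{u})).map φ z).1 else v.app m ((X ⊗ (∂Δ[1] : SSet.{u})).map φ z).1) =
      X.map φ (if val z.2 = 0 then u.app n z.1 else v.app n z.1)
    by_cases hz : val z.2 = 0
    · have : val ((X ⊗ (∂Δ[1] : SSet.{u})).map φ z).2 = 0 := h1.trans hz
      rw [if_pos hz, if_pos this]
      exact hu
    · have : ¬ val ((X ⊗ (∂Δ[1] : SSet.{u})).map φ z).2 = 0 := fun h => hz (h1.symm.trans h)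
      rw [if_neg hz, if_neg this]
      exact hv


lemma vtx_mem (k : Fin 2) :
    (stdSimplex.obj₀Equiv.{u}.symm k : (Δ[1] : SSet.{u}) _⦋0⦌) ∈ (∂Δ[1] : (Δ[1] : SSet.{u}).Subcomplex).obj _ := by
  intro hsurj
  have hc : Fintype.card (Fin (1 + 1)) ≤ Fintype.card (Fin (0 + 1)) :=
    Fintype.card_le_of_surjective _ hsurj
  simp at hc

/-- inclusion at the vertex `k` -/
noncomputable def jk (X : SSet.{u}) (k : Fin 2) : X ⟶ X ⊗ (∂Δ[1] : SSet.{u}) :=
  lift (𝟙 X) (SSet.const ⟨stdSimplex.obj₀Equiv.{u}.symm k, vtx_mem k⟩)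

lemma j0_comp : jk X 0 ≫ X ◁ (∂Δ[1] : (Δ[1] : SSet.{u}).Subcomplex).ι = ι₀ := rfl

lemma j1_comp : jk X 1 ≫ X ◁ (∂Δ[1] : (Δ[1] : SSet.{u}).Subcomplex).ι = ι₁ := rfl

lemma j0_τ (u v : X ⟶ X) : jk X 0 ≫ τ u v = u := by
  ext n x
  change (if val ((jk X 0).app n x).2 = 0 then u.app n x else v.app n x) = u.app n x
  rw [if_pos]
  rfl

lemma j1_τ (u v : X ⟶ X) : jk X 1 ≫ τ u v = v := by
  ext n x
  change (if val ((jk X 1).app n x).2 = 0 then u.app n x else v.app n x) = v.app n x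
  rw [if_neg]
  change ¬ ((1 : Fin 2) = 0)
  decide

lemma mono_whiskerLeft (X : SSet.{u}) {K L : SSet.{u}} (i : K ⟶ L) [Mono i] : Mono (X ◁ i) := by
  rw [NatTrans.mono_iff_mono_app]
  intro n
  rw [mono_iff_injective]
  intro z z' hz
  have hi : Function.Injective (i.app n) := by
    rw [← mono_iff_injective]
    infer_instance
  have h1 : z.1 = z'.1 := congrArg (fun w : (X ⊗ L).obj n => w.1) hz
  have h2 : i.app n z.2 = i.app n z'.2 := congrArg (fun w : (X ⊗ L).obj n => w.2) hz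
  exact Prod.ext h1 (hi h2)

theorem homotopy_of_comp_eq (f : X ⟶ Y) (hf : SSet.modelCategoryQuillen.I.rlp f) (u v : X ⟶ X)
    (h : u ≫ f = v ≫ f) : Nonempty (SSet.Homotopy u v) := by
  have hm : (MorphismProperty.monomorphisms SSet.{u}).rlp f := by
    rw [SSet.rlp_monomorphisms]; exact hf
  haveI : Mono (X ◁ (∂Δ[1] : (Δ[1] : SSet.{u}).Subcomplex).ι) := mono_whiskerLeft X _
  haveI : HasLiftingProperty (X ◁ (∂Δ[1] : (Δ[1] : SSet.{u}).Subcomplex).ι) f :=
    hm _ (MorphismProperty.monomorphisms.infer_property _)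
  have sq : CommSq (τ u v) (X ◁ (∂Δ[1] : (Δ[1] : SSet.{u}).Subcomplex).ι) f (fst X Δ[1] ≫ u ≫ f) := by
    constructor
    ext n z
    change f.app n (if val z.2 = 0 then u.app n z.1 else v.app n z.1) = f.app n (u.app n z.1)
    split_ifs
    · rfl
    · exact (ConcreteCategory.congr_hom (NatTrans.congr_app h n) z.1).symm
  refine ⟨{ h := sq.lift, h₀ := ?_, h₁ := ?_, rel := by ext _ ⟨⟨_, ⟨⟩⟩, _⟩ }⟩
  · change ι₀ ≫ sq.lift = u
    rw [← j0_comp, Category.assoc, sq.fac_left, j0_τ]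
  · change ι₁ ≫ sq.lift = v
    rw [← j1_comp, Category.assoc, sq.fac_left, j1_τ]

end helpers

/-- A trivial Kan fibration `f : X ⟶ Y` of simplicial sets is a homotopy equivalence; more precisely it
has a section `g`, and `g ∘ f` is homotopic to the identity of `X` by a single homotopy in each
direction. (The published statement only asserts a homotopy equivalence; the section and the
one-step homotopies are what its proof constructs.) -/
theorem result {X Y : SSet.{u}} (f : X ⟶ Y) (hf : SSet.modelCategoryQuillen.I.rlp f) : ∃ g : Y ⟶ X, g ≫ f = 𝟙 Y ∧ Nonempty (SSet.Homotopy (𝟙 X) (f ≫ g)) ∧ Nonempty (SSet.Homotopy (f ≫ g) (𝟙 X)) := by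
  have hm : (MorphismProperty.monomorphisms SSet.{u}).rlp f := by
    rw [SSet.rlp_monomorphisms]; exact hf
  haveI : HasLiftingProperty ((⊥ : Y.Subcomplex).ι) f :=
    hm _ (MorphismProperty.monomorphisms.infer_property _)
  have sq : CommSq (Subcomplex.isInitialBot.to X) ((⊥ : Y.Subcomplex).ι) f (𝟙 Y) :=
    ⟨Subcomplex.isInitialBot.hom_ext _ _⟩
  refine ⟨sq.lift, sq.fac_right, ?_, ?_⟩
  · apply homotopy_of_comp_eq f hf
    rw [Category.assoc, sq.fac_right, Category.comp_id, Category.id_comp]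
  · apply homotopy_of_comp_eq f hf
    rw [Category.assoc, sq.fac_right, Category.comp_id, Category.id_comp]

end Groth.Agent.S6785
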