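import Groth.Statements.S6787


set_option autoImplicit false
open CategoryTheory CategoryTheory.Limits
universe u
open HomAlg3

namespace Groth.Agent.S6787

open Opposite

/-- transition map of an inverse system of abelian groups as an additive map -/
def T (F : ℕᵒᵖ ⥤ AddCommGrpCat.{u}) {n m : ℕ} (h : n ≤ m) : F.obj (op m) →+ F.obj (op n) :=
  (F.map (homOfLE h).op).hom

theorem T_comp (F : ℕᵒᵖ ⥤ AddCommGrpCat.{u}) {n m l : ℕ} (h1 : n ≤ m) (h2 : m ≤ l)
    (x : F.obj (op l)) : T F h1 (T F h2 x) = T F (h1.trans h2) x := by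
  have : (homOfLE (h1.trans h2)).op = (homOfLE h2).op ≫ (homOfLE h1).op := Subsingleton.elim _ _
  simp only [T]
  rw [this, F.map_comp]
  rfl

theorem T_nat {F G : ℕᵒᵖ ⥤ AddCommGrpCat.{u}} (a : F ⟶ G) {n m : ℕ} (h : n ≤ m)
    (x : F.obj (op m)) : (a.app (op n)).hom (T F h x) = T G h ((a.app (op m)).hom x) := by
  have := a.naturality (homOfLE h).op
  have h2 := congrArg (fun f => f.hom x) this
  simp only [T]
  exact h2

/-- elementary form of the Mittag-Leffler condition -/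
def ML (F : ℕᵒᵖ ⥤ AddCommGrpCat.{u}) : Prop :=
  ∀ j : ℕ, ∃ (k : ℕ) (hk : j ≤ k), ∀ (l : ℕ) (hl : j ≤ l) (x : F.obj (op k)),
    ∃ y : F.obj (op l), T F hl y = T F hk x

theorem ml_iff (F : ℕᵒᵖ ⥤ AddCommGrpCat.{u}) :
    (F ⋙ forget AddCommGrpCat).IsMittagLeffler ↔ ML F := by
  constructor
  · intro h j
    obtain ⟨i, f, hf⟩ := h (op j)
    refine ⟨i.unop, leOfHom f.unop, fun l hl x => ?_⟩
    have hx : (F ⋙ forget AddCommGrpCat).map f x ∈
        Set.range ((F ⋙ forget AddCommGrpCat).map (homOfLE hl).op) := hf _ ⟨x, rfl⟩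
    obtain ⟨y, hy⟩ := hx
    refine ⟨y, ?_⟩
    have e : f = (homOfLE (leOfHom f.unop)).op := Subsingleton.elim _ _
    rw [e] at hy
    exact hy
  · intro h j
    obtain ⟨k, hk, hML⟩ := h j.unop
    refine ⟨op k, (homOfLE hk).op, fun k' g => ?_⟩
    rintro _ ⟨x, rfl⟩
    have hl : j.unop ≤ k'.unop := leOfHom g.unop
    obtain ⟨y, hy⟩ := hML k'.unop hl x
    refine ⟨y, ?_⟩
    have e : g = (homOfLE hl).op := Subsingleton.elim _ _
    rw [e]
    exact hy

theorem ML_of_large (F : ℕᵒᵖ ⥤ AddCommGrpCat.{u})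
    (h : ∀ j : ℕ, ∃ (k : ℕ) (hk : j ≤ k), ∀ (l : ℕ) (hkl : k ≤ l) (x : F.obj (op k)),
      ∃ y : F.obj (op l), T F (hk.trans hkl) y = T F hk x) : ML F := by
  intro j
  obtain ⟨k, hk, H⟩ := h j
  refine ⟨k, hk, fun l hl x => ?_⟩
  obtain ⟨y, hy⟩ := H (max l k) (le_max_right _ _) x
  refine ⟨T F (le_max_left l k) y, ?_⟩
  rw [T_comp]
  exact hy

section Main

variable {A B C : ℕᵒᵖ ⥤ AddCommGrpCat.{u}} (a : A ⟶ B) (b : B ⟶ C)

/-- elementwise form of essential constancy -/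
theorem essConst_elem {C₀ : AddCommGrpCat.{u}} {c : (Functor.const ℕᵒᵖ).obj C₀ ⟶ C}
    (hC : DerCA.IsEssConstant C C₀ c) :
    ∃ (i : ℕ) (s : C.obj (op i) →+ C₀), ∀ j : ℕ, ∃ (k : ℕ) (hi : i ≤ k) (hj : j ≤ k),
      ∀ x : C.obj (op k), T C hj x = (c.app (op j)).hom (s (T C hi x)) := by
  obtain ⟨i, s, -, hE⟩ := hC
  refine ⟨i, s.hom, fun j => ?_⟩
  obtain ⟨k, hi, hj, e⟩ := hE j
  refine ⟨k, hi, hj, fun x => ?_⟩
  have := congrArg (fun f => f.hom x) e
  simpa [T, ARSys.tr] using this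

theorem cone_nat {C₀ : AddCommGrpCat.{u}} (c : (Functor.const ℕᵒᵖ).obj C₀ ⟶ C) {n m : ℕ}
    (h : n ≤ m) (z : C₀) : T C h ((c.app (op m)).hom z) = (c.app (op n)).hom z := by
  have := c.naturality (homOfLE h).op
  have h2 := congrArg (fun f => f.hom z) this
  simpa [T] using h2.symm

theorem A_of_B (ha : ∀ i, Function.Injective (a.app i).hom)
    (hex : ∀ i, (b.app i).hom.ker = (a.app i).hom.range)
    {C₀ : AddCommGrpCat.{u}} {c : (Functor.const ℕᵒᵖ).obj C₀ ⟶ C}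
    (hC : DerCA.IsEssConstant C C₀ c) (hB : ML B) : ML A := by
  obtain ⟨i₀, s, hE⟩ := essConst_elem hC
  apply ML_of_large
  intro j
  obtain ⟨k, hk, hBk⟩ := hB (max j i₀)
  have hjk : j ≤ k := (le_max_left j i₀).trans hk
  refine ⟨k, hjk, fun m hkm x => ?_⟩
  obtain ⟨l, hi, hml, hEq⟩ := hE m
  have hj'l : max j i₀ ≤ l := hk.trans (hkm.trans hml)
  obtain ⟨bb, hbb⟩ := hBk l hj'l ((a.app (op k)).hom x)
  -- the image of bb in C vanishes at level max j i₀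
  have h0 : T C hj'l ((b.app (op l)).hom bb) = 0 := by
    rw [← T_nat b, hbb, ← T_nat a]
    have : (a.app (op (max j i₀))).hom (T A hk x) ∈ (a.app (op (max j i₀))).hom.range := ⟨_, rfl⟩
    rw [← hex] at this
    exact this
  have h1 : T C hi ((b.app (op l)).hom bb) = 0 := by
    have := T_comp C (le_max_right j i₀) hj'l ((b.app (op l)).hom bb)
    rw [← this, h0, map_zero]
  have h2 : (b.app (op m)).hom (T B hml bb) = 0 := by
    rw [T_nat b, hEq, h1, map_zero, map_zero]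
  have h3 : T B hml bb ∈ (a.app (op m)).hom.range := by
    rw [← hex]
    exact h2
  obtain ⟨a', ha'⟩ := h3
  refine ⟨a', ?_⟩
  apply ha
  rw [T_nat a, ha', T_comp, T_nat a]
  have e1 := T_comp B (le_max_left j i₀) hj'l bb
  have e2 := T_comp B (le_max_left j i₀) hk ((a.app (op k)).hom x)
  rw [← e1, hbb, e2]

theorem C_ml {C₀ : AddCommGrpCat.{u}} {c : (Functor.const ℕᵒᵖ).obj C₀ ⟶ C}
    (hC : DerCA.IsEssConstant C C₀ c) : ML C := by
  obtain ⟨i₀, s, hE⟩ := essConst_elem hC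
  intro j
  obtain ⟨k, hi, hj, hEq⟩ := hE j
  refine ⟨k, hj, fun l hl x => ⟨(c.app (op l)).hom (s (T C hi x)), ?_⟩⟩
  rw [cone_nat, hEq]

theorem B_of_A (hb : ∀ i, Function.Surjective (b.app i).hom)
    (hex : ∀ i, (b.app i).hom.ker = (a.app i).hom.range)
    (hCml : ML C) (hA : ML A) : ML B := by
  apply ML_of_large
  intro j
  obtain ⟨k, hk, hAk⟩ := hA j
  obtain ⟨m, hm, hCm⟩ := hCml k
  refine ⟨m, hk.trans hm, fun l hml bb => ?_⟩
  obtain ⟨c', hc'⟩ := hCm l (hm.trans hml) ((b.app (op m)).hom bb)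
  obtain ⟨b', rfl⟩ := hb (op l) c'
  have hd : T B (hm.trans hml) b' - T B hm bb ∈ (a.app (op k)).hom.range := by
    rw [← hex, AddMonoidHom.mem_ker, map_sub, T_nat b, T_nat b, hc', sub_self]
  obtain ⟨α, hα⟩ := hd
  obtain ⟨α', hα'⟩ := hAk l (hk.trans (hm.trans hml)) α
  refine ⟨b' - (a.app (op l)).hom α', ?_⟩
  rw [map_sub, ← T_nat a, hα', T_nat a, hα, map_sub, T_comp, T_comp]
  abel

end Main

/-- Take inverse systems `(A_i)`, `(B_i)`, `(C_i)` of abelian groups over `ℕ`, with morphisms of systems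
`(A_i) ⟶ (B_i) ⟶ (C_i)` that give a short exact sequence at every index, and suppose `(C_i)` is
essentially constant. Then `(A_i)` is Mittag-Leffler if and only if `(B_i)` is. -/
theorem result {A B C : ℕᵒᵖ ⥤ AddCommGrpCat.{u}} (a : A ⟶ B) (b : B ⟶ C) (ha : ∀ i, Function.Injective (a.app i).hom) (hb : ∀ i, Function.Surjective (b.app i).hom) (hex : ∀ i, (b.app i).hom.ker = (a.app i).hom.range) (hC : ∃ (C₀ : AddCommGrpCat.{u}) (c : (Functor.const ℕᵒᵖ).obj C₀ ⟶ C), DerCA.IsEssConstant C C₀ c) : (A ⋙ forget AddCommGrpCat).IsMittagLeffler ↔ (B ⋙ forget AddCommGrpCat).IsMittagLeffler := by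
  obtain ⟨C₀, c, hC⟩ := hC
  rw [ml_iff, ml_iff]
  exact ⟨fun hA => B_of_A a b hb hex (C_ml hC) hA, fun hB => A_of_B a b ha hex hC hB⟩

end Groth.Agent.S6787
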