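import Groth.Statements.S6789
import Mathlib
import Groth.Agent.Lib.Helper86.HomotopyFamily

set_option autoImplicit false
open CategoryTheory CategoryTheory.Limits
universe v u
open CategoryTheory CategoryTheory.SimplicialObject

namespace Groth.Agent.S6789

open Simplicial SimplexCategory Opposite

section helpers
open Groth.Agent.Lib.Helper86.HomotopyFamily

variable {C : Type u} [Category.{v} C] {Y X : C} (f : Y ⟶ X)
  [∀ n : ℕ, HasWidePullback (Arrow.mk f).right (fun _ : Fin (n + 1) => (Arrow.mk f).left) (fun _ => (Arrow.mk f).hom)]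

/-- pick one of two endomorphisms according to a value in `Fin 2`. -/
def pick (u₀ u₁ : (Arrow.mk f).left ⟶ (Arrow.mk f).left) (e : Fin 2) :
    (Arrow.mk f).left ⟶ (Arrow.mk f).left := if e = 0 then u₀ else u₁

lemma pick_comp (u₀ u₁ : (Arrow.mk f).left ⟶ (Arrow.mk f).left)
    (h₀ : u₀ ≫ (Arrow.mk f).hom = (Arrow.mk f).hom) (h₁ : u₁ ≫ (Arrow.mk f).hom = (Arrow.mk f).hom)
    (e : Fin 2) : pick f u₀ u₁ e ≫ (Arrow.mk f).hom = (Arrow.mk f).hom := by
  unfold pick
  split_ifs
  · exact h₀
  · exact h₁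

/-- the family attached to two endomorphisms of `Y` over `X`. -/
noncomputable def fam (u₀ u₁ : (Arrow.mk f).left ⟶ (Arrow.mk f).left)
    (h₀ : u₀ ≫ (Arrow.mk f).hom = (Arrow.mk f).hom) (h₁ : u₁ ≫ (Arrow.mk f).hom = (Arrow.mk f).hom) :
    Family (Arrow.mk f).cechNerve (Arrow.mk f).cechNerve where
  H {p} θ := WidePullback.lift (WidePullback.base _)
    (fun k => WidePullback.π _ k ≫ pick f u₀ u₁ (θ.toOrderHom k)) (by
      intro k
      rw [Category.assoc, pick_comp f u₀ u₁ h₀ h₁]
      exact WidePullback.π_arrow _ _)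
  nat {p q} ψ θ := by
    apply WidePullback.hom_ext
    · intro k
      simp only [Arrow.cechNerve_map, Category.assoc, WidePullback.lift_π]
      rw [WidePullback.lift_π_assoc]
      rfl
    · simp only [Arrow.cechNerve_map, Category.assoc, WidePullback.lift_base]

theorem homotopy_of (u₀ u₁ : (Arrow.mk f).left ⟶ (Arrow.mk f).left)
    (h₀ : u₀ ≫ (Arrow.mk f).hom = (Arrow.mk f).hom) (h₁ : u₁ ≫ (Arrow.mk f).hom = (Arrow.mk f).hom)
    (φ₀ φ₁ : Arrow.mk f ⟶ Arrow.mk f) (hl₀ : φ₀.left = u₀) (hr₀ : φ₀.right = 𝟙 _)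
    (hl₁ : φ₁.left = u₁) (hr₁ : φ₁.right = 𝟙 _) :
    Nonempty (SimplicialObject.Homotopy (Arrow.mapCechNerve φ₀) (Arrow.mapCechNerve φ₁)) := by
  refine ⟨(fam f u₀ u₁ h₀ h₁).homotopy _ _ ?_ ?_⟩
  · intro p
    apply WidePullback.hom_ext
    · intro k
      simp only [fam, Arrow.mapCechNerve_app, WidePullback.lift_π, hl₀]
      have hp : pick f u₀ u₁ ((toMk₁ (Fin.last (p + 1))).toOrderHom k) = u₀ := by
        unfold pick
        exact if_pos (toMk₁_of_castSucc_lt _ _ (Fin.castSucc_lt_last k))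
      rw [hp]
    · simp only [fam, Arrow.mapCechNerve_app, WidePullback.lift_base, hr₀]
      exact Category.comp_id _
  · intro p
    apply WidePullback.hom_ext
    · intro k
      simp only [fam, Arrow.mapCechNerve_app, WidePullback.lift_π, hl₁]
      have hp : pick f u₀ u₁ ((toMk₁ (0 : Fin (p + 2))).toOrderHom k) = u₁ := by
        unfold pick
        have : (toMk₁ (0 : Fin (p + 2))).toOrderHom k = 1 :=
          toMk₁_of_le_castSucc _ _ (Fin.zero_le _)
        rw [this]
        exact if_neg (by decide)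
      rw [hp]
    · simp only [fam, Arrow.mapCechNerve_app, WidePullback.lift_base, hr₁]
      exact Category.comp_id _

end helpers

/-- For a morphism `f : Y ⟶ X` with a section `s`, the endomorphism of the Čech nerve of `f` (the
simplicial object of iterated fibre products of `Y` over `X`) that applies `s ∘ f` factorwise admits
simplicial homotopies to and from the identity: the published formula gives one direction and its
mirror image (exchange the roles of the identity and `s ∘ f`) gives the other. -/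
theorem result {C : Type u} [Category.{v} C] {Y X : C} (f : Y ⟶ X) (s : X ⟶ Y) (hs : s ≫ f = 𝟙 X) [∀ n : ℕ, HasWidePullback (Arrow.mk f).right (fun _ : Fin (n + 1) => (Arrow.mk f).left) (fun _ => (Arrow.mk f).hom)] (φ : Arrow.mk f ⟶ Arrow.mk f) (hφl : φ.left = f ≫ s) (hφr : φ.right = 𝟙 X) : Nonempty (SimplicialObject.Homotopy (𝟙 (Arrow.mk f).cechNerve) (Arrow.mapCechNerve φ)) ∧ Nonempty (SimplicialObject.Homotopy (Arrow.mapCechNerve φ) (𝟙 (Arrow.mk f).cechNerve)) := by
  have hid : Arrow.mapCechNerve (𝟙 (Arrow.mk f)) = 𝟙 (Arrow.mk f).cechNerve := by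
    ext n
    apply WidePullback.hom_ext
    · intro k
      rw [Arrow.mapCechNerve_app]
      erw [WidePullback.lift_π]
      simp
    · rw [Arrow.mapCechNerve_app]
      erw [WidePullback.lift_base]
      simp
  have h1 : (f ≫ s) ≫ (Arrow.mk f).hom = (Arrow.mk f).hom := by
    change (f ≫ s) ≫ f = f
    rw [Category.assoc, hs, Category.comp_id]
  have h0 : (𝟙 Y : (Arrow.mk f).left ⟶ (Arrow.mk f).left) ≫ (Arrow.mk f).hom = (Arrow.mk f).hom :=
    Category.id_comp _
  constructor
  · rw [← hid]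
    exact homotopy_of f (𝟙 Y) (f ≫ s) h0 h1 (𝟙 _) φ rfl rfl hφl hφr
  · rw [← hid]
    exact homotopy_of f (f ≫ s) (𝟙 Y) h1 h0 φ (𝟙 _) hφl hφr rfl rfl

end Groth.Agent.S6789
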