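import Groth.Statements.S6794
import Mathlib
import Groth.Agent.Lib.Helper81.SpSeqChase
import Groth.Agent.Lib.Helper81.SpSeqHomology

set_option autoImplicit false
open CategoryTheory CategoryTheory.Limits
universe v u
open SpSeq SpSeq.FilCx

namespace Groth.Agent.S6794


section Helpers

open Groth.Agent.Lib.Helper81 Groth.Agent.Lib.Helper81.SpSeqChase SpSeq SpSeq.FilCx

variable {A : Type u} [Category.{v} A] [Abelian A] (K : SpSeq.FilCx A)

theorem mono_of_isZero_src {X Y : A} (f : X ⟶ Y) (h : IsZero X) : Mono f :=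
  ⟨fun _ _ _ => h.eq_of_tgt _ _⟩

theorem epi_of_isZero_tgt {X Y : A} (f : X ⟶ Y) (h : IsZero Y) : Epi f :=
  ⟨fun _ _ _ => h.eq_of_src _ _⟩

theorem zsub_le (r : ℕ) (hr : 1 ≤ r) (p n q : ℤ) (hq : q = p + r)
    (hm : Mono (HomologicalComplex.homologyMap (K.fil q).arrow (n + 1))) :
    K.ZSub r p n ≤ K.ZTop p n := by
  subst hq
  exact ZSub_le_ZTop K r hr p n hm

theorem bbot_le (r : ℕ) (hr : 1 ≤ r) (p n q : ℤ) (hq : q = p - r + 1)
    (hm : Mono (HomologicalComplex.homologyMap (K.fil q).arrow n)) :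
    K.BBot p n ≤ K.BSub r p n := by
  subst hq
  exact BBot_le_BSub K r hr p n hm

theorem step_comp (p n : ℤ) :
    HomologicalComplex.homologyMap (K.stepLE (show p ≤ p + 1 by omega)) n ≫
      HomologicalComplex.homologyMap (K.fil p).arrow n =
      HomologicalComplex.homologyMap (K.fil (p + 1)).arrow n := by
  rw [← HomologicalComplex.homologyMap_comp, Subobject.ofLE_arrow]

theorem isZero_E_one (p n : ℤ)
    (hm : Mono (HomologicalComplex.homologyMap (K.fil (p + 1)).arrow (n + 1)))
    (he : Epi (HomologicalComplex.homologyMap (K.stepLE (show p ≤ p + 1 by omega)) n)) :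
    IsZero (K.E 1 p n) := by
  apply isZero_subquot_of_eq
  apply le_antisymm (K.BSub_le_ZSub 1 p n)
  exact (zsub_le K 1 le_rfl p n (p + 1) (by simp) hm).trans (ZTop_le_BSub_one K p n he)

end Helpers

/-- If the cohomology of the filtration steps of a filtered complex vanishes in each degree for large
filtration index and maps isomorphically to the cohomology of the whole complex for small filtration
index, then the spectral sequence is bounded from page `1` on, the induced filtrations on cohomology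
are finite, and the spectral sequence converges. (The published statement asserts boundedness
without naming a page, which read from page `0` fails for an acyclic complex with an infinite
filtration by acyclic subcomplexes; this row asserts boundedness from page `1`, which is what the
published proof shows.) -/
theorem result {A : Type u} [Category.{v} A] [Abelian A] (K : SpSeq.FilCx A) (h0 : ∀ n : ℤ, ∃ p₀ : ℤ, ∀ p : ℤ, p₀ ≤ p → IsZero ((K.fil p : CochainComplex A ℤ).homology n)) (h1 : ∀ n : ℤ, ∃ p₁ : ℤ, ∀ p : ℤ, p ≤ p₁ → IsIso (HomologicalComplex.homologyMap (K.fil p).arrow n)) : K.IsBounded 1 ∧ (∀ n : ℤ, (K.HFil n).IsFinite) ∧ K.Converges := by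
  have hE : ∀ n : ℤ, ∃ lo hi : ℤ, ∀ p : ℤ, (hi ≤ p ∨ p ≤ lo) → IsZero (K.E 1 p n) := by
    intro n
    obtain ⟨a0, ha0⟩ := h0 n
    obtain ⟨a0', ha0'⟩ := h0 (n + 1)
    obtain ⟨a1, ha1⟩ := h1 n
    obtain ⟨a1', ha1'⟩ := h1 (n + 1)
    refine ⟨min a1 a1' - 1, max a0 a0', fun p hp => ?_⟩
    rcases hp with hp | hp
    · have h1p : a0 ≤ p := le_trans (le_max_left _ _) hp
      have h2p : a0' ≤ p + 1 := le_trans (le_trans (le_max_right _ _) hp) (by omega)
      exact isZero_E_one K p n (mono_of_isZero_src _ (ha0' _ h2p)) (epi_of_isZero_tgt _ (ha0 _ h1p))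
    · have h1p : p + 1 ≤ a1 := by
        have := min_le_left a1 a1'
        omega
      have h2p : p + 1 ≤ a1' := by
        have := min_le_right a1 a1'
        omega
      haveI := ha1' _ h2p
      haveI := ha1 _ h1p
      haveI := ha1 p (by omega)
      have hiso : IsIso (HomologicalComplex.homologyMap (K.stepLE (show p ≤ p + 1 by omega)) n) := by
        have hc := step_comp K p n
        haveI : IsIso (HomologicalComplex.homologyMap (K.stepLE (show p ≤ p + 1 by omega)) n ≫
            HomologicalComplex.homologyMap (K.fil p).arrow n) := by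
          rw [hc]; infer_instance
        exact IsIso.of_isIso_comp_right _ (HomologicalComplex.homologyMap (K.fil p).arrow n)
      exact isZero_E_one K p n inferInstance inferInstance
  have hfin : ∀ n : ℤ, (K.HFil n).IsFinite := by
    intro n
    obtain ⟨a0, ha0⟩ := h0 n
    obtain ⟨a1, ha1⟩ := h1 n
    refine ⟨⟨a1, ?_⟩, ⟨a0, ?_⟩⟩
    · haveI := ha1 a1 le_rfl
      exact Groth.Agent.Lib.Helper81.imageSubobject_eq_top_of_epi _
    · exact Groth.Agent.Lib.Helper81.imageSubobject_eq_bot_of_isZero_src _ (ha0 a0 le_rfl)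
  have hZ : ∀ p n : ℤ, ∃ r₀ : ℕ, ∀ r, r₀ ≤ r → K.ZSub r p n = K.ZTop p n := by
    intro p n
    obtain ⟨a0', ha0'⟩ := h0 (n + 1)
    refine ⟨max 1 (a0' - p).toNat, fun r hr => ?_⟩
    have hr1 : 1 ≤ r := le_trans (le_max_left _ _) hr
    have hr2 : (a0' - p).toNat ≤ r := le_trans (le_max_right _ _) hr
    have hp : a0' ≤ p + r := by
      have := Int.self_le_toNat (a0' - p)
      have h3 : ((a0' - p).toNat : ℤ) ≤ (r : ℤ) := by exact_mod_cast hr2
      omega
    apply le_antisymm
    · exact zsub_le K r hr1 p n (p + r) rfl (mono_of_isZero_src _ (ha0' _ hp))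
    · exact Groth.Agent.Lib.Helper81.ZTop_le_ZSub K r p n
  have hB : ∀ p n : ℤ, ∃ r₀ : ℕ, K.BSub r₀ p n = K.BBot p n := by
    intro p n
    obtain ⟨a1, ha1⟩ := h1 n
    refine ⟨max 1 (p - a1 + 1).toNat, ?_⟩
    have hr1 : 1 ≤ max 1 (p - a1 + 1).toNat := le_max_left _ _
    have hr2 : (p - a1 + 1).toNat ≤ max 1 (p - a1 + 1).toNat := le_max_right _ _
    have hp : p - ((max 1 (p - a1 + 1).toNat : ℕ) : ℤ) + 1 ≤ a1 := by
      have := Int.self_le_toNat (p - a1 + 1)
      have h3 : ((p - a1 + 1).toNat : ℤ) ≤ ((max 1 (p - a1 + 1).toNat : ℕ) : ℤ) := by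
        exact_mod_cast hr2
      omega
    haveI := ha1 _ hp
    apply le_antisymm
    · exact Groth.Agent.Lib.Helper81.BSub_le_BBot K _ p n
    · exact bbot_le K _ hr1 p n _ rfl inferInstance
  refine ⟨?_, hfin, ?_, ⟨?_, ?_⟩, ?_⟩
  · intro n
    obtain ⟨lo, hi, hlh⟩ := hE n
    apply Set.Finite.subset (Set.finite_Ioo lo hi)
    intro p hp
    simp only [Set.mem_setOf_eq] at hp
    constructor
    · by_contra hcon
      exact hp (hlh p (Or.inr (not_lt.mp hcon)))
    · by_contra hcon
      exact hp (hlh p (Or.inl (not_lt.mp hcon)))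
  · intro p n
    obtain ⟨r₀, hr₀⟩ := hZ p n
    exact ⟨r₀, fun r hr => by rw [hr₀ r hr, hr₀ r₀ le_rfl]⟩
  · intro p n
    constructor
    · obtain ⟨r₀, hr₀⟩ := hZ p n
      constructor
      · rintro _ ⟨r, rfl⟩
        exact Groth.Agent.Lib.Helper81.ZTop_le_ZSub K r p n
      · intro S hS
        exact (hS ⟨r₀, rfl⟩).trans_eq (hr₀ r₀ le_rfl)
    · obtain ⟨r₀, hr₀⟩ := hB p n
      constructor
      · rintro _ ⟨r, rfl⟩
        exact Groth.Agent.Lib.Helper81.BSub_le_BBot K r p n
      · intro S hS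
        rw [← hr₀]
        exact hS ⟨r₀, rfl⟩
  · intro n
    exact ⟨Groth.Agent.Lib.Helper81.isSeparated_of_isDiscrete _ (hfin n).2,
      Groth.Agent.Lib.Helper81.isExhaustive_of_isCodiscrete _ (hfin n).1⟩
  · intro n
    exact Groth.Agent.Lib.Helper81.isComplete_of_isDiscrete _ (hfin n).2

end Groth.Agent.S6794
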