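import Groth.Statements.S6795
import Mathlib
-- import your own Groth.Agent.* helpers here

set_option autoImplicit false
open CategoryTheory CategoryTheory.Limits
universe v u
open CategoryTheory CategoryTheory.Preadditive

namespace Groth.Agent.S6795

/-- A preadditive category with countable products in which split epimorphisms have kernels is
idempotent complete (Karoubian). -/
theorem result {D : Type u} [Category.{v} D] [Preadditive D] [HasCountableProducts D] (hk : ∀ ⦃X Y : D⦄ (f : X ⟶ Y), IsSplitEpi f → HasKernel f) : IsIdempotentComplete D := by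
  refine ⟨fun X e he => ?_⟩
  let P : D := ∏ᶜ (fun _ : ℕ => X)
  let π : ∀ n : ℕ, P ⟶ X := fun n => Pi.π (fun _ : ℕ => X) n
  have he1 : e ≫ (𝟙 X - e) = 0 := by simp [he]
  have he2 : (𝟙 X - e) ≫ e = 0 := by simp [he]
  have he3 : (𝟙 X - e) ≫ (𝟙 X - e) = 𝟙 X - e := by simp [he]
  let ψ : P ⟶ P := Pi.lift (fun n => π n ≫ (𝟙 X - e) + π (n + 1) ≫ e)
  have hψ : ∀ n, ψ ≫ π n = π n ≫ (𝟙 X - e) + π (n + 1) ≫ e := fun n => by
    simp [ψ, π]
  let σ : P ⟶ P := Pi.lift (fun n => match n with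
    | 0 => π 0 ≫ (𝟙 X - e)
    | (n + 1) => π (n + 1) ≫ (𝟙 X - e) + π n ≫ e)
  have hσ0 : σ ≫ π 0 = π 0 ≫ (𝟙 X - e) := by simp [σ, π]
  have hσs : ∀ n, σ ≫ π (n + 1) = π (n + 1) ≫ (𝟙 X - e) + π n ≫ e := fun n => by
    simp [σ, π]
  have hσψ : σ ≫ ψ = 𝟙 P := by
    apply Pi.hom_ext
    intro n
    change (σ ≫ ψ) ≫ π n = 𝟙 P ≫ π n
    rw [Category.assoc, hψ, Preadditive.comp_add, ← Category.assoc, ← Category.assoc, hσs]
    cases n with
    | zero =>
      rw [hσ0]
      simp only [Category.assoc, Preadditive.add_comp, he3, he2, he, comp_zero, zero_add,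
        Category.id_comp]
      rw [← Preadditive.comp_add]
      simp
    | succ n =>
      rw [hσs]
      simp only [Category.assoc, Preadditive.add_comp, he3, he2, he1, he, comp_zero, zero_add,
        add_zero, Category.id_comp]
      rw [← Preadditive.comp_add]
      simp
  have : HasKernel ψ := hk ψ ⟨⟨σ, hσψ⟩⟩
  let ι := kernel.ι ψ
  let k : ∀ n : ℕ, kernel ψ ⟶ X := fun n => ι ≫ π n
  have hk1 : ∀ n, k n ≫ (𝟙 X - e) + k (n + 1) ≫ e = 0 := by
    intro n
    have : (ι ≫ ψ) ≫ π n = 0 := by simp [ι]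
    rw [Category.assoc, hψ, Preadditive.comp_add, ← Category.assoc, ← Category.assoc] at this
    exact this
  have hk2 : ∀ n, k n ≫ (𝟙 X - e) = 0 := by
    intro n
    have h0 := congrArg (fun f => f ≫ (𝟙 X - e)) (hk1 n)
    simp only [Preadditive.add_comp, Category.assoc, zero_comp] at h0
    rw [he3, he1, comp_zero, add_zero] at h0
    exact h0
  have hk3 : ∀ n, k (n + 1) ≫ e = 0 := by
    intro n
    have := hk1 n
    rw [hk2, zero_add] at this
    exact this
  have hk4 : ∀ n, k (n + 1) = 0 := by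
    intro n
    have h1 := hk2 (n + 1)
    rw [Preadditive.comp_sub, Category.comp_id, hk3, sub_zero] at h1
    exact h1
  have hk5 : k 0 ≫ e = k 0 := by
    have h1 := hk2 0
    rw [Preadditive.comp_sub, Category.comp_id, sub_eq_zero] at h1
    exact h1.symm
  let ρ : X ⟶ P := Pi.lift (fun n => if n = 0 then e else 0)
  have hρ0 : ρ ≫ π 0 = e := by simp [ρ, π]
  have hρs : ∀ n, ρ ≫ π (n + 1) = 0 := fun n => by simp [ρ, π]
  have hρψ : ρ ≫ ψ = 0 := by
    apply Pi.hom_ext
    intro n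
    change (ρ ≫ ψ) ≫ π n = 0 ≫ π n
    rw [Category.assoc, hψ, Preadditive.comp_add, ← Category.assoc, ← Category.assoc, hρs]
    cases n with
    | zero => rw [hρ0, he1]; simp
    | succ n => rw [hρs]; simp
  let r : X ⟶ kernel ψ := kernel.lift ψ ρ hρψ
  have hr : r ≫ ι = ρ := kernel.lift_ι _ _ _
  refine ⟨kernel ψ, k 0, r, ?_, ?_⟩
  · rw [← cancel_mono ι]
    apply Pi.hom_ext
    intro n
    change ((k 0 ≫ r) ≫ ι) ≫ π n = (𝟙 _ ≫ ι) ≫ π n
    simp only [Category.assoc, Category.id_comp]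
    rw [reassoc_of% hr]
    cases n with
    | zero => rw [hρ0, hk5]
    | succ n =>
      rw [hρs, comp_zero]
      exact (hk4 n).symm
  · change r ≫ ι ≫ π 0 = e
    rw [← Category.assoc, hr, hρ0]

end Groth.Agent.S6795
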