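import Groth.Statements.S6796
import Mathlib
-- import your own Groth.Agent.* helpers here

set_option autoImplicit false
open CategoryTheory CategoryTheory.Limits
universe v u
open CategoryTheory CategoryTheory.Preadditive

namespace Groth.Agent.S6796

/-- A preadditive category with countable coproducts in which split monomorphisms have cokernels is
idempotent complete (Karoubian). -/
theorem result {D : Type u} [Category.{v} D] [Preadditive D] [HasCountableCoproducts D] (hk : ∀ ⦃X Y : D⦄ (f : X ⟶ Y), IsSplitMono f → HasCokernel f) : IsIdempotentComplete D := by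
  refine ⟨fun X e he => ?_⟩
  let Q : D := ∐ (fun _ : ℕ => X)
  let ι : ∀ n : ℕ, X ⟶ Q := fun n => Sigma.ι (fun _ : ℕ => X) n
  have he1 : e ≫ (𝟙 X - e) = 0 := by simp [he]
  have he2 : (𝟙 X - e) ≫ e = 0 := by simp [he]
  have he3 : (𝟙 X - e) ≫ (𝟙 X - e) = 𝟙 X - e := by simp [he]
  let ψ : Q ⟶ Q := Sigma.desc (fun n => (𝟙 X - e) ≫ ι n + e ≫ ι (n + 1))
  have hψ : ∀ n, ι n ≫ ψ = (𝟙 X - e) ≫ ι n + e ≫ ι (n + 1) := fun n => by
    simp [ψ, ι]
  let σ : Q ⟶ Q := Sigma.desc (fun n => match n with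
    | 0 => (𝟙 X - e) ≫ ι 0
    | (n + 1) => (𝟙 X - e) ≫ ι (n + 1) + e ≫ ι n)
  have hσ0 : ι 0 ≫ σ = (𝟙 X - e) ≫ ι 0 := by simp [σ, ι]
  have hσs : ∀ n, ι (n + 1) ≫ σ = (𝟙 X - e) ≫ ι (n + 1) + e ≫ ι n := fun n => by
    simp [σ, ι]
  have hψσ : ψ ≫ σ = 𝟙 Q := by
    apply Sigma.hom_ext
    intro n
    change ι n ≫ ψ ≫ σ = ι n ≫ 𝟙 Q
    rw [← Category.assoc, hψ, Preadditive.add_comp, Category.assoc, Category.assoc, hσs]
    cases n with
    | zero =>
      rw [hσ0]
      simp only [← Category.assoc, Preadditive.comp_add, he3, he1, he, zero_comp, zero_add,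
        Category.comp_id]
      rw [← Preadditive.add_comp]
      simp
    | succ n =>
      rw [hσs]
      simp only [← Category.assoc, Preadditive.comp_add, he3, he2, he1, he, zero_comp, zero_add,
        add_zero, Category.comp_id]
      rw [← Preadditive.add_comp]
      simp
  have : HasCokernel ψ := hk ψ ⟨⟨σ, hψσ⟩⟩
  let π := cokernel.π ψ
  let c : ∀ n : ℕ, X ⟶ cokernel ψ := fun n => ι n ≫ π
  have hc1 : ∀ n, (𝟙 X - e) ≫ c n + e ≫ c (n + 1) = 0 := by
    intro n
    have : ι n ≫ (ψ ≫ π) = 0 := by simp [π]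
    rw [← Category.assoc, hψ, Preadditive.add_comp, Category.assoc, Category.assoc] at this
    exact this
  have hc2 : ∀ n, (𝟙 X - e) ≫ c n = 0 := by
    intro n
    have h0 := congrArg (fun f => (𝟙 X - e) ≫ f) (hc1 n)
    simp only [Preadditive.comp_add, ← Category.assoc, comp_zero] at h0
    rw [he3, he2, zero_comp, add_zero] at h0
    exact h0
  have hc3 : ∀ n, e ≫ c (n + 1) = 0 := by
    intro n
    have := hc1 n
    rw [hc2, zero_add] at this
    exact this
  have hc4 : ∀ n, c (n + 1) = 0 := by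
    intro n
    have h1 := hc2 (n + 1)
    rw [Preadditive.sub_comp, Category.id_comp, hc3, sub_zero] at h1
    exact h1
  have hc5 : e ≫ c 0 = c 0 := by
    have h1 := hc2 0
    rw [Preadditive.sub_comp, Category.id_comp, sub_eq_zero] at h1
    exact h1.symm
  let ρ : Q ⟶ X := Sigma.desc (fun n => if n = 0 then e else 0)
  have hρ0 : ι 0 ≫ ρ = e := by simp [ρ, ι]
  have hρs : ∀ n, ι (n + 1) ≫ ρ = 0 := fun n => by simp [ρ, ι]
  have hψρ : ψ ≫ ρ = 0 := by
    apply Sigma.hom_ext
    intro n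
    change ι n ≫ ψ ≫ ρ = ι n ≫ 0
    rw [← Category.assoc, hψ, Preadditive.add_comp, Category.assoc, Category.assoc, hρs]
    cases n with
    | zero => rw [hρ0, he2]; simp
    | succ n => rw [hρs]; simp
  let r : cokernel ψ ⟶ X := cokernel.desc ψ ρ hψρ
  have hr : π ≫ r = ρ := cokernel.π_desc _ _ _
  refine ⟨cokernel ψ, r, c 0, ?_, ?_⟩
  · rw [← cancel_epi π]
    apply Sigma.hom_ext
    intro n
    change ι n ≫ π ≫ r ≫ c 0 = ι n ≫ π ≫ 𝟙 _
    rw [Category.comp_id, reassoc_of% hr, ← Category.assoc]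
    cases n with
    | zero => rw [hρ0, hc5]
    | succ n =>
      rw [hρs, zero_comp]
      exact (hc4 n).symm
  · change (ι 0 ≫ π) ≫ r = e
    rw [Category.assoc, hr, hρ0]

end Groth.Agent.S6796
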