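import Groth.Statements.S6799
-- import your own Groth.Agent.* helpers here

set_option autoImplicit false
open CategoryTheory Opposite
universe u
open SSet
open Simplicial MonoidalCategory

namespace Groth.Agent.S6799

/-- Two maps between `n`-coskeletal simplicial sets which agree on simplices of dimension `< n` are
homotopic, by a single homotopy. -/
theorem result {U V : SSet.{u}} (f₀ f₁ : V ⟶ U) (n : ℕ) (h : ∀ i : ℕ, i < n → f₀.app (op (SimplexCategory.mk i)) = f₁.app (op (SimplexCategory.mk i))) [SimplicialObject.IsCoskeletal U n] [SimplicialObject.IsCoskeletal V n] : Nonempty (SSet.Homotopy f₀ f₁) := by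
  classical
  have nat_apply : ∀ (g : V ⟶ U) {a b : SimplexCategoryᵒᵖ} (θ : a ⟶ b) (v : V.obj a),
      g.app b (V.map θ v) = U.map θ (g.app a v) := by
    intro g a b θ v
    have := ConcreteCategory.congr_hom (g.naturality θ) v
    rwa [ConcreteCategory.comp_apply, ConcreteCategory.comp_apply] at this
  have key : ∀ (a b : SimplexCategory) (hb : b.len ≤ n) (θ : a ⟶ b)
      (hθ : ¬ Function.Surjective θ.toOrderHom) (v : V.obj (op b)),
      f₀.app _ (V.map θ.op v) = f₁.app _ (V.map θ.op v) := by
    intro a b hb θ hθ v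
    induction a using SimplexCategory.rec with | _ k
    induction b using SimplexCategory.rec with | _ k'
    obtain _ | k'' := k'
    · exfalso
      apply hθ
      intro y
      exact ⟨0, Subsingleton.elim (α := Fin 1) _ _⟩
    · obtain ⟨i, θ', rfl⟩ := SimplexCategory.eq_comp_δ_of_not_surjective θ hθ
      have hb' : k'' + 1 ≤ n := hb
      rw [op_comp, V.map_comp, ConcreteCategory.comp_apply, nat_apply f₀ θ'.op, nat_apply f₁ θ'.op,
        h k'' (by omega)]
  let L := (SimplexCategory.Truncated.inclusion n).op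
  let α : L ⋙ (V ⊗ Δ[1]) ⟶ L ⋙ U :=
    { app := fun k => ↾(fun x : (V ⊗ Δ[1]).obj (L.obj k) =>
        if (∀ i, stdSimplex.asOrderHom x.2 i = 1) then f₁.app _ x.1 else f₀.app _ x.1)
      naturality := by
        intro k k' θ
        ext x
        have e1 : ((V ⊗ Δ[1]).map (L.map θ) x).1 = V.map (L.map θ) x.1 := rfl
        have e2 : ∀ i, stdSimplex.asOrderHom ((V ⊗ Δ[1]).map (L.map θ) x).2 i =
            stdSimplex.asOrderHom x.2 ((L.map θ).unop.toOrderHom i) := fun i => rfl
        change (if ∀ i, stdSimplex.asOrderHom ((V ⊗ Δ[1]).map (L.map θ) x).2 i = 1 then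
            f₁.app _ ((V ⊗ Δ[1]).map (L.map θ) x).1 else
            f₀.app _ ((V ⊗ Δ[1]).map (L.map θ) x).1) =
          U.map (L.map θ) (if ∀ i, stdSimplex.asOrderHom x.2 i = 1 then f₁.app _ x.1
            else f₀.app _ x.1)
        simp only [e1, e2]
        by_cases hx : ∀ i, stdSimplex.asOrderHom x.2 i = 1
        · rw [if_pos hx, if_pos (fun i => hx _), nat_apply]
        · rw [if_neg hx]
          by_cases hx' : ∀ i, stdSimplex.asOrderHom x.2 ((L.map θ).unop.toOrderHom i) = 1
          · rw [if_pos hx', ← nat_apply]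
            symm
            apply key _ _ (k.unop.property) (L.map θ).unop
            intro hs
            apply hx
            intro i
            obtain ⟨j, rfl⟩ := hs i
            exact hx' j
          · rw [if_neg hx', nat_apply] }
  have hα : ∀ (k : (SimplexCategory.Truncated n)ᵒᵖ) (x : (V ⊗ Δ[1]).obj (L.obj k)),
      α.app k x = if (∀ i, stdSimplex.asOrderHom x.2 i = 1) then f₁.app _ x.1 else f₀.app _ x.1 :=
    fun _ _ => rfl
  let hl : V ⊗ Δ[1] ⟶ U := U.liftOfIsRightKanExtension (𝟙 (L ⋙ U)) (V ⊗ Δ[1]) α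
  have hhl : Functor.whiskerLeft L hl = α := by
    have := U.liftOfIsRightKanExtension_fac (𝟙 (L ⋙ U)) (V ⊗ Δ[1]) α
    rwa [Category.comp_id] at this
  have hhl' : ∀ (k : (SimplexCategory.Truncated n)ᵒᵖ) (x : (V ⊗ Δ[1]).obj (L.obj k)),
      hl.app (L.obj k) x = α.app k x := by
    intro k x
    rw [← hhl]
    rfl
  have h0 : ι₀ ≫ hl = f₀ := by
    refine U.hom_ext_of_isRightKanExtension (𝟙 (L ⋙ U)) _ _ ?_
    rw [Category.comp_id, Category.comp_id]
    ext k v
    change hl.app (L.obj k) (ι₀.app (L.obj k) v) = f₀.app (L.obj k) v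
    rw [hhl', hα, if_neg]
    · rfl
    · intro hc
      have : (0 : Fin 2) = 1 := hc 0
      exact absurd this (by decide)
  have h1 : ι₁ ≫ hl = f₁ := by
    refine U.hom_ext_of_isRightKanExtension (𝟙 (L ⋙ U)) _ _ ?_
    rw [Category.comp_id, Category.comp_id]
    ext k v
    change hl.app (L.obj k) (ι₁.app (L.obj k) v) = f₁.app (L.obj k) v
    rw [hhl', hα, if_pos]
    · rfl
    · intro i
      rfl
  have hrel : (⊥ : V.Subcomplex).ι ▷ Δ[1] ≫ hl =
      SemiCartesianMonoidalCategory.fst _ _ ≫
        (Subcomplex.isInitialBot.to (⊥ : U.Subcomplex).toSSet) ≫ (⊥ : U.Subcomplex).ι := by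
    ext k ⟨⟨x, hx⟩, _⟩
    exact hx.elim
  exact ⟨{ h := hl, h₀ := h0, h₁ := h1, rel := hrel }⟩

end Groth.Agent.S6799
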