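import Groth.Statements.S6801
import Groth.Agent.Lib.Helper81.SubobjectImage

set_option autoImplicit false
open CategoryTheory
universe v u
open SpSeq SpSeq.FilObj

namespace Groth.Agent.S6801

/-- The composite of two strict morphisms of filtered objects is strict when the second one is a
monomorphism. (In general a composite of strict morphisms is not strict.) -/
theorem result {A : Type u} [Category.{v} A] [Abelian A] {K L M : SpSeq.FilObj A} (f : K ⟶ L) (g : L ⟶ M) (hf : SpSeq.FilObj.IsStrict f) (hg : SpSeq.FilObj.IsStrict g) [Mono g.hom] : SpSeq.FilObj.IsStrict (f ≫ g) := by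
  intro p
  show Limits.imageSubobject ((K.fil p).arrow ≫ f.hom ≫ g.hom) =
    Limits.imageSubobject (f.hom ≫ g.hom) ⊓ M.fil p
  have hf' : Limits.imageSubobject ((K.fil p).arrow ≫ f.hom) = Limits.imageSubobject f.hom ⊓ L.fil p := hf p
  have hg' : Limits.imageSubobject ((L.fil p).arrow ≫ g.hom) = Limits.imageSubobject g.hom ⊓ M.fil p := hg p
  rw [← Category.assoc, Groth.Agent.Lib.Helper81.imageSubobject_comp_mono, hf',
    Subobject.inf_map, ← Groth.Agent.Lib.Helper81.imageSubobject_comp_mono,
    Groth.Agent.Lib.Helper81.map_eq_imageSubobject, hg', ← inf_assoc,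
    inf_eq_left.2 (Limits.imageSubobject_comp_le f.hom g.hom)]

end Groth.Agent.S6801
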