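import Groth.Statements.S6804
import Mathlib
import Groth.Agent.Lib.Helper81.FilObjPullback

set_option autoImplicit false
open CategoryTheory CategoryTheory.Limits
universe v u
open SpSeq SpSeq.FilObj

namespace Groth.Agent.S6804

/-- Fibre products exist in the category of filtered objects of an abelian category, and the base change
of a strict morphism is strict. -/
theorem result {A : Type u} [Category.{v} A] [Abelian A] {K L M : SpSeq.FilObj A} (f : L ⟶ K) (g : M ⟶ K) : HasPullback f g ∧ ∀ (P : SpSeq.FilObj A) (g' : P ⟶ L) (f' : P ⟶ M), IsPullback g' f' f g → SpSeq.FilObj.IsStrict f → SpSeq.FilObj.IsStrict f' := by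
  exact ⟨Groth.Agent.Lib.Helper81.FilObjPullback.hasPullback f g,
    fun P g' f' h hf => Groth.Agent.Lib.Helper81.FilObjPullback.isStrict_of_isPullback f g P g' f' h hf⟩

end Groth.Agent.S6804
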