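import Groth.Statements.S6805
import Mathlib

set_option autoImplicit false
open CategoryTheory
universe u
open SSet

namespace Groth.Agent.S6805

open CategoryTheory.Limits Opposite Simplicial

/-- every simplex of `sk m U` comes from a simplex of dimension ≤ m. -/
theorem exists_rep (m : ℕ) (U : SSet.Truncated.{u} m) (Y : SimplexCategoryᵒᵖ)
    (x : ((SSet.Truncated.sk m).obj U).obj Y) :
    ∃ (r : (SimplexCategory.Truncated m)ᵒᵖ) (f : (SimplexCategory.Truncated.inclusion m).op.obj r ⟶ Y)
      (y : ((SSet.Truncated.sk m).obj U).obj ((SimplexCategory.Truncated.inclusion m).op.obj r)),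
      x = ((SSet.Truncated.sk m).obj U).map f y := by
  let L := (SimplexCategory.Truncated.inclusion m).op
  let α : U ⟶ L ⋙ (SSet.Truncated.sk m).obj U := L.lanUnit.app U
  haveI : ((SSet.Truncated.sk m).obj U).IsLeftKanExtension α := by
    dsimp [α, SSet.Truncated.sk, SimplicialObject.Truncated.sk]
    infer_instance
  have hpw := Functor.isPointwiseLeftKanExtensionOfIsLeftKanExtension ((SSet.Truncated.sk m).obj U) α
  obtain ⟨g, u, hu⟩ := Types.jointly_surjective_of_isColimit (hpw Y) x
  exact ⟨g.left, g.hom, α.app g.left u, hu.symm⟩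

/-- The simplicial set freely generated by an `m`-truncated simplicial set (its image under the left
adjoint of `m`-truncation) has only degenerate simplices above dimension `m`. -/
theorem result (m : ℕ) (U : SSet.Truncated.{u} m) : ((SSet.Truncated.sk m).obj U).HasDimensionLT (m + 1) := by
  constructor
  intro n hn
  rw [eq_top_iff]
  rintro x -
  obtain ⟨r, f, y, rfl⟩ := exists_rep m U (op ⦋n⦌) x
  have hr : r.unop.obj.len ≤ m := r.unop.property
  refine ⟨r.unop.obj.len, by omega, f.unop, ?_⟩
  exact ⟨y, rfl⟩

end Groth.Agent.S6805
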