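import Groth.Statements.S6806
import Mathlib

set_option autoImplicit false
open CategoryTheory CategoryTheory.Limits
universe v u
open CategoryTheory CategoryTheory.Abelian

namespace Groth.Agent.S6806

open CategoryTheory CategoryTheory.Limits Opposite

section
variable {A : Type u} [Category.{v} A] [Abelian A]

/-- The cofree simplicial object on `W` placed in degree `n`. -/
noncomputable def cofree (n : ℕ) (W : A) : SimplicialObject A where
  obj X := ∏ᶜ fun (_ : SimplexCategory.mk n ⟶ X.unop) => W
  map {X Y} f := Pi.lift (fun θ => Pi.π (fun (_ : SimplexCategory.mk n ⟶ X.unop) => W) (θ ≫ f.unop))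
  map_id X := by
    apply Pi.hom_ext
    intro θ
    simp
  map_comp f g := by
    apply Pi.hom_ext
    intro θ
    simp

/-- The map to the cofree object determined by `g`. -/
noncomputable def toCofree (L : SimplicialObject A) (n : ℕ) {W : A}
    (g : L.obj (op (SimplexCategory.mk n)) ⟶ W) : L ⟶ cofree n W where
  app X := Pi.lift (fun θ => L.map θ.op ≫ g)
  naturality X Y f := by
    apply Pi.hom_ext
    intro θ
    simp only [cofree, Category.assoc, Pi.lift_π]
    rw [← L.map_comp_assoc]
    rfl

/-- Projections of the cofree object. -/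
noncomputable def cofreeπ (n : ℕ) (W : A) (X : SimplexCategoryᵒᵖ)
    (θ : SimplexCategory.mk n ⟶ X.unop) : (cofree n W).obj X ⟶ W :=
  Pi.π (fun (_ : SimplexCategory.mk n ⟶ X.unop) => W) θ

lemma cofree_hom_ext {n : ℕ} {W : A} {X : SimplexCategoryᵒᵖ} {T : A}
    {a b : T ⟶ (cofree n W).obj X}
    (h : ∀ θ, a ≫ cofreeπ n W X θ = b ≫ cofreeπ n W X θ) : a = b :=
  Pi.hom_ext _ _ h

lemma toCofree_app_π (L : SimplicialObject A) (n : ℕ) {W : A}
    (g : L.obj (op (SimplexCategory.mk n)) ⟶ W) (X : SimplexCategoryᵒᵖ)
    (θ : SimplexCategory.mk n ⟶ X.unop) :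
    (toCofree L n g).app X ≫ cofreeπ n W X θ = L.map θ.op ≫ g :=
  Pi.lift_π _ _

lemma eq_zero_of_lan {m : ℕ}
    [∀ F : (SimplexCategory.Truncated m)ᵒᵖ ⥤ A,
      (SimplexCategory.Truncated.inclusion m).op.HasLeftKanExtension F]
    (U : SimplicialObject.Truncated A m) (n : ℕ) {W : A}
    (g : ((SimplicialObject.Truncated.sk m).obj U).obj (op (SimplexCategory.mk n)) ⟶ W)
    (hg : ∀ (i : ℕ) (_ : i ≤ m) (θ : SimplexCategory.mk n ⟶ SimplexCategory.mk i),
      ((SimplicialObject.Truncated.sk m).obj U).map θ.op ≫ g = 0) : g = 0 := by
  have hq : toCofree ((SimplicialObject.Truncated.sk m).obj U) n g = 0 := by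
    apply Functor.hom_ext_of_isLeftKanExtension
      ((SimplexCategory.Truncated.inclusion m).op.leftKanExtension U)
      ((SimplexCategory.Truncated.inclusion m).op.leftKanExtensionUnit U)
    ext X
    have h0 : (toCofree ((SimplicialObject.Truncated.sk m).obj U) n g).app
        ((SimplexCategory.Truncated.inclusion m).op.obj X) = 0 := by
      apply cofree_hom_ext
      intro θ
      rw [toCofree_app_π, zero_comp]
      exact hg X.unop.obj.len X.unop.property θ
    simp only [NatTrans.comp_app, Functor.whiskerLeft_app]
    rw [h0]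
    simp
  have h1 := toCofree_app_π ((SimplicialObject.Truncated.sk m).obj U) n g
    (op (SimplexCategory.mk n)) (𝟙 _)
  rw [hq] at h1
  simpa using h1.symm

end

/-- For an `m`-truncated simplicial object `U` of an abelian category, the normalized Moore complex of
its free extension `i_{m!} U` (left adjoint of truncation) is zero in every degree `n > m`. Here the
normalized complex in degree `n` is the intersection of the kernels of the faces `d_1, …, d_n`; the
published statement intersects the kernels of `d_0, …, d_{n-1}` instead, and the two versions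
correspond under reversal of the ordering of each `[n]`, so both vanish. -/
theorem result {A : Type u} [Category.{v} A] [Abelian A] (m : ℕ) [∀ F : (SimplexCategory.Truncated m)ᵒᵖ ⥤ A, (SimplexCategory.Truncated.inclusion m).op.HasLeftKanExtension F] (U : SimplicialObject.Truncated A m) (n : ℕ) (hn : m < n) : AlgebraicTopology.NormalizedMooreComplex.objX ((SimplicialObject.Truncated.sk m).obj U) n = ⊥ := by
  have hp : ((AlgebraicTopology.DoldKan.PInfty :
      (AlgebraicTopology.alternatingFaceMapComplex A).obj
        ((SimplicialObject.Truncated.sk m).obj U) ⟶ _).f n :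
      ((SimplicialObject.Truncated.sk m).obj U).obj (Opposite.op (SimplexCategory.mk n)) ⟶
        ((SimplicialObject.Truncated.sk m).obj U).obj (Opposite.op (SimplexCategory.mk n))) = 0 := by
    apply eq_zero_of_lan U n
    intro i hi θ
    refine AlgebraicTopology.DoldKan.degeneracy_comp_PInfty _ n θ (fun hmono => ?_)
    have := SimplexCategory.len_le_of_mono θ
    simp only [SimplexCategory.len_mk] at this
    omega
  have hp2 := HomologicalComplex.congr_hom
    (AlgebraicTopology.DoldKan.inclusionOfMooreComplexMap_comp_PInfty
      ((SimplicialObject.Truncated.sk m).obj U)) n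
  rw [← Subobject.mk_arrow (AlgebraicTopology.NormalizedMooreComplex.objX
    ((SimplicialObject.Truncated.sk m).obj U) n), Subobject.mk_eq_bot_iff_zero]
  have hp3 : (AlgebraicTopology.NormalizedMooreComplex.objX
      ((SimplicialObject.Truncated.sk m).obj U) n).arrow ≫
      ((AlgebraicTopology.DoldKan.PInfty :
      (AlgebraicTopology.alternatingFaceMapComplex A).obj
        ((SimplicialObject.Truncated.sk m).obj U) ⟶ _).f n) =
      (AlgebraicTopology.NormalizedMooreComplex.objX
      ((SimplicialObject.Truncated.sk m).obj U) n).arrow := hp2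
  rw [← hp3, hp, comp_zero]

end Groth.Agent.S6806
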