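import Groth.Statements.S6807
import Groth.Agent.Lib.Helper13.MLLimHomology

set_option autoImplicit false
open CategoryTheory CategoryTheory.Limits
universe u
open HomAlg3

namespace Groth.Agent.S6807

section Helpers

open Opposite in
/-- An essentially constant system of abelian groups is Mittag-Leffler. -/
theorem isMittagLeffler_of_isEssConstant (X : ℕᵒᵖ ⥤ AddCommGrpCat.{u}) (C₀ : AddCommGrpCat.{u})
    (c : (Functor.const ℕᵒᵖ).obj C₀ ⟶ X) (h : DerCA.IsEssConstant X C₀ c) :
    (X ⋙ forget AddCommGrpCat).IsMittagLeffler := by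
  rw [Groth.Agent.Lib.Helper13.MLLim.isMittagLeffler_iff]
  obtain ⟨i, s, -, hs⟩ := h
  intro j
  obtain ⟨k, hi, hj, hk⟩ := hs j.unop
  refine ⟨op k, (homOfLE hj).op, fun k' g x => ?_⟩
  refine ⟨(c.app k').hom (s.hom ((ARSys.tr X hi).hom x)), ?_⟩
  have h1 : c.app k' ≫ X.map g = c.app j := by
    have := c.naturality g
    simpa using this.symm
  have h2 := ConcreteCategory.congr_hom h1 (s.hom ((ARSys.tr X hi).hom x))
  have h3 := ConcreteCategory.congr_hom hk x
  change (X.map g).hom ((c.app k').hom (s.hom ((ARSys.tr X hi).hom x))) = (ARSys.tr X hj).hom x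
  exact h2.trans h3.symm

end Helpers

/-- For an inverse system of cochain complexes of abelian groups over `ℕ` whose terms in degrees `n-2`
and `n-1` form Mittag-Leffler systems and whose degree-`(n-1)` cohomologies form an essentially
constant system, the canonical map from the degree-`n` cohomology of the limit complex to the limit
of the degree-`n` cohomologies is an isomorphism. (The published statement is for four-term
complexes in degrees `-2, …, 1`; only those four degrees of a longer complex enter.) -/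
theorem result (K : ℕᵒᵖ ⥤ HomologicalComplex AddCommGrpCat.{u} (ComplexShape.up ℤ)) (n : ℤ) (h2 : ((K ⋙ HomologicalComplex.eval _ _ (n - 2)) ⋙ forget AddCommGrpCat).IsMittagLeffler) (h1 : ((K ⋙ HomologicalComplex.eval _ _ (n - 1)) ⋙ forget AddCommGrpCat).IsMittagLeffler) (hH : ∃ (C₀ : AddCommGrpCat.{u}) (c : (Functor.const ℕᵒᵖ).obj C₀ ⟶ K ⋙ HomologicalComplex.homologyFunctor _ _ (n - 1)), DerCA.IsEssConstant (K ⋙ HomologicalComplex.homologyFunctor _ _ (n - 1)) C₀ c) : IsIso (limit.post K (HomologicalComplex.homologyFunctor _ _ n)) := by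
  classical
  have hcof : ∃ s : Set ℕ, s.Countable ∧ ∀ i, ∃ j ∈ s, i ≤ j :=
    ⟨Set.univ, Set.countable_univ, fun i => ⟨i, trivial, le_rfl⟩⟩
  obtain ⟨C₀, c, hc⟩ := hH
  have hHm := isMittagLeffler_of_isEssConstant _ C₀ c hc
  rw [ConcreteCategory.isIso_iff_bijective]
  exact ⟨Groth.Agent.Lib.Helper13.MLLimHomology.post_injective hcof K (n - 2) (n - 1) n
      (by omega) (by omega) h2 hHm,
    Groth.Agent.Lib.Helper13.MLLimHomology.post_surjective hcof K (n - 1) n (by omega) h1⟩

end Groth.Agent.S6807
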