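import Groth.Statements.S6808
import Mathlib
-- import your own Groth.Agent.* helpers here

set_option autoImplicit false
open CategoryTheory Opposite
universe u
open SSet

namespace Groth.Agent.S6808

/-- A map of simplicial sets preserving non-degeneracy of simplices and injective on non-degenerate
simplices is injective in every dimension. -/
theorem result {U V : SSet.{u}} (f : U ⟶ V) (ha : ∀ (n : ℕ) (x : U.obj (op (SimplexCategory.mk n))), x ∈ U.nonDegenerate n → f.app (op (SimplexCategory.mk n)) x ∈ V.nonDegenerate n) (hb : ∀ n : ℕ, Set.InjOn (f.app (op (SimplexCategory.mk n))) (U.nonDegenerate n)) (n : ℕ) : Function.Injective (f.app (op (SimplexCategory.mk n))) := by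
  intro x x' hxx'
  obtain ⟨m, σ, hσ, ⟨y, hy⟩, rfl⟩ := U.exists_nonDegenerate x
  obtain ⟨m', σ', hσ', ⟨y', hy'⟩, rfl⟩ := U.exists_nonDegenerate x'
  have h1 : f.app _ (U.map σ.op y) = V.map σ.op (f.app _ y) :=
    NatTrans.naturality_apply f σ.op y
  have h2 : f.app _ (U.map σ'.op y') = V.map σ'.op (f.app _ y') :=
    NatTrans.naturality_apply f σ'.op y'
  have hm : m = m' := SSet.unique_nonDegenerate_dim V (f.app _ (U.map σ.op y)) σ
    ⟨f.app _ y, ha m y hy⟩ h1 σ' ⟨f.app _ y', ha m' y' hy'⟩ (hxx'.trans h2)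
  subst hm
  have hyy : (⟨f.app _ y, ha m y hy⟩ : V.nonDegenerate m) = ⟨f.app _ y', ha m y' hy'⟩ :=
    SSet.unique_nonDegenerate_simplex V (f.app _ (U.map σ.op y)) σ
      ⟨f.app _ y, ha m y hy⟩ h1 σ' ⟨f.app _ y', ha m y' hy'⟩ (hxx'.trans h2)
  have hσσ : σ = σ' :=
    SSet.unique_nonDegenerate_map V (f.app _ (U.map σ.op y)) σ
      ⟨f.app _ y, ha m y hy⟩ h1 σ' ⟨f.app _ y', ha m y' hy'⟩ (hxx'.trans h2)
  have : y = y' := hb m hy hy' (congrArg Subtype.val hyy)
  subst this hσσ
  rfl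

end Groth.Agent.S6808
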