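import Groth.Statements.S6811
import Mathlib
import Groth.Agent.Lib.Helper86.TruncFin

set_option autoImplicit false
open CategoryTheory CategoryTheory.Limits
universe v u
open CategoryTheory CategoryTheory.SimplicialObject

namespace Groth.Agent.S6811

open Groth.Agent.Lib.Helper86.TruncFin

/-- In a category with finite limits, an `n`-coskeletal simplicial object is `m`-coskeletal for every `m
≥ n`. -/
theorem result {C : Type u} [Category.{v} C] [HasFiniteLimits C] (U : SimplicialObject C) {n m : ℕ} (h : n ≤ m) [U.IsCoskeletal n] : U.IsCoskeletal m := by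
  haveI hk : ∀ (k : ℕ) (F : (SimplexCategory.Truncated k)ᵒᵖ ⥤ C),
      (SimplexCategory.Truncated.inclusion k).op.HasRightKanExtension F := fun k F => by
    haveI : (SimplexCategory.Truncated.inclusion k).op.HasPointwiseRightKanExtension F := by
      intro Y
      dsimp [Functor.HasPointwiseRightKanExtensionAt]
      infer_instance
    infer_instance
  haveI hnm : ∀ (F : (SimplexCategory.Truncated n)ᵒᵖ ⥤ C),
      (SimplexCategory.Truncated.incl n m h).op.HasRightKanExtension F := fun F => by
    haveI : (SimplexCategory.Truncated.incl n m h).op.HasPointwiseRightKanExtension F := by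
      intro Y
      dsimp [Functor.HasPointwiseRightKanExtensionAt]
      infer_instance
    infer_instance
  rw [isCoskeletal_iff_isIso, Adjunction.isIso_unit_app_iff_mem_essImage]
  let adj2 : Truncated.trunc C m n h ⊣ (SimplexCategory.Truncated.incl n m h).op.ran :=
    Functor.ranAdjunction _ _
  let adj3 : truncation m ⋙ Truncated.trunc C m n h ⊣
      (SimplexCategory.Truncated.incl n m h).op.ran ⋙ Truncated.cosk m := (coskAdj m).comp adj2
  let adj4 : truncation n ⊣
      (SimplexCategory.Truncated.incl n m h).op.ran ⋙ Truncated.cosk m :=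
    adj3.ofNatIsoLeft (truncationCompTrunc h)
  let e : Truncated.cosk n ≅ (SimplexCategory.Truncated.incl n m h).op.ran ⋙ Truncated.cosk m :=
    (coskAdj n).rightAdjointUniq adj4
  exact ⟨_, ⟨(e.app _).symm ≪≫ (isoCoskOfIsCoskeletal U n).symm⟩⟩

end Groth.Agent.S6811
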