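import Groth.Statements.S6812
import Mathlib
import Groth.Agent.S6805

set_option autoImplicit false
open CategoryTheory
universe u
open SSet

namespace Groth.Agent.S6812

open CategoryTheory.Limits Opposite Simplicial

section
variable (U : SSet.{u}) (n : ℕ)

/-- the skeleton simplicial set -/
noncomputable abbrev S : SSet.{u} := (SSet.Truncated.sk n).obj ((SSet.truncation n).obj U)

noncomputable abbrev ε : S U n ⟶ U := (SSet.skAdj n).counit.app U

noncomputable abbrev η : (SSet.truncation n).obj U ⟶ (SSet.truncation n).obj (S U n) :=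
  (SSet.skAdj n).unit.app ((SSet.truncation n).obj U)

noncomputable def ηq (q : ℕ) (hq : q ≤ n) (u : U _⦋q⦌) : (S U n) _⦋q⦌ :=
  (η U n).app (op ⟨⦋q⦌, hq⟩) u

lemma ε_ηq (q : ℕ) (hq : q ≤ n) (u : U _⦋q⦌) : (ε U n).app (op ⦋q⦌) (ηq U n q hq u) = u := by
  have h := (SSet.skAdj n).right_triangle_components U
  have h2 := ConcreteCategory.congr_hom (NatTrans.congr_app h (op ⟨⦋q⦌, hq⟩)) u
  exact h2

lemma ηq_surj (q : ℕ) (hq : q ≤ n) (y : (S U n) _⦋q⦌) : ∃ u, ηq U n q hq u = y := by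
  haveI : IsIso (η U n) := by
    dsimp [η]
    infer_instance
  have : IsIso ((η U n).app (op ⟨⦋q⦌, hq⟩)) := inferInstance
  exact ((isIso_iff_bijective _).mp this).2 y

lemma ηq_map {q q' : ℕ} (hq : q ≤ n) (hq' : q' ≤ n) (t : ⦋q⦌ ⟶ ⦋q'⦌) (u : U _⦋q'⦌) :
    ηq U n q hq (U.map t.op u) = (S U n).map t.op (ηq U n q' hq' u) := by
  let t' : (⟨⦋q⦌, hq⟩ : SimplexCategory.Truncated n) ⟶ ⟨⦋q'⦌, hq'⟩ := ObjectProperty.homMk t
  exact ConcreteCategory.congr_hom ((η U n).naturality t'.op) u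

lemma ε_map {p q : ℕ} (s : ⦋p⦌ ⟶ ⦋q⦌) (y : (S U n) _⦋q⦌) :
    (ε U n).app (op ⦋p⦌) ((S U n).map s.op y) = U.map s.op ((ε U n).app (op ⦋q⦌) y) :=
  ConcreteCategory.congr_hom ((ε U n).naturality s.op) y

lemma normal_form (p : ℕ) (x : (S U n) _⦋p⦌) :
    ∃ (m : ℕ) (hm : m ≤ n) (s : ⦋p⦌ ⟶ ⦋m⦌) (_ : Epi s) (w : U.nonDegenerate m),
      x = (S U n).map s.op (ηq U n m hm w.1) := by
  obtain ⟨m, s, hs, y, rfl⟩ := (S U n).exists_nonDegenerate x
  haveI : (S U n).HasDimensionLT (n + 1) := Groth.Agent.S6805.result n _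
  have hm : m ≤ n := Nat.le_of_lt_succ ((S U n).dim_lt_of_nonDegenerate y (n + 1))
  obtain ⟨w, hw⟩ := ηq_surj U n m hm y.1
  refine ⟨m, hm, s, hs, ⟨w, ?_⟩, by rw [hw]⟩
  rw [mem_nonDegenerate_iff_notMem_degenerate]
  rintro ⟨m', hm', t, w', hw'⟩
  have hy := y.2
  rw [mem_nonDegenerate_iff_notMem_degenerate] at hy
  apply hy
  refine ⟨m', hm', t, ηq U n m' (by omega) w', ?_⟩
  rw [← ηq_map U n hm (by omega) t w', hw', hw]

end

/-- For a simplicial set `U`, the counit `i_{n!} sk_n U ⟶ U` of the skeleton adjunction is a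
monomorphism whose image is the subcomplex of `U` generated by its simplices of dimension `≤ n`. -/
theorem result (U : SSet.{u}) (n : ℕ) : Mono ((SSet.skAdj n).counit.app U) ∧ SSet.Subcomplex.range ((SSet.skAdj n).counit.app U) = U.skeleton (n + 1) := by
  constructor
  · rw [NatTrans.mono_iff_mono_app]
    intro Y
    rw [mono_iff_injective]
    induction Y using Opposite.rec with | _ Y
    induction Y using SimplexCategory.rec with | _ p
    intro x x' hxx
    obtain ⟨m, hm, s, hs, w, rfl⟩ := normal_form U n p x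
    obtain ⟨m', hm', s', hs', w', rfl⟩ := normal_form U n p x'
    have e1 := ε_map U n s (ηq U n m hm w.1)
    have e2 := ε_map U n s' (ηq U n m' hm' w'.1)
    rw [ε_ηq] at e1 e2
    have hxx' : (ε U n).app (op ⦋p⦌) ((S U n).map s.op (ηq U n m hm w.1)) =
      (ε U n).app (op ⦋p⦌) ((S U n).map s'.op (ηq U n m' hm' w'.1)) := hxx
    rw [e1, e2] at hxx'
    obtain rfl : m = m' := U.unique_nonDegenerate_dim _ s w rfl s' w' hxx'
    obtain rfl : w = w' := U.unique_nonDegenerate_simplex _ s w rfl s' w' hxx'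
    obtain rfl : s = s' := U.unique_nonDegenerate_map _ s w rfl s' w hxx'
    rfl
  · apply le_antisymm
    · rintro Y z ⟨x, rfl⟩
      induction Y using Opposite.rec with | _ Y
      induction Y using SimplexCategory.rec with | _ p
      obtain ⟨m, hm, s, hs, w, rfl⟩ := normal_form U n p x
      have e1 := ε_map U n s (ηq U n m hm w.1)
      rw [ε_ηq] at e1
      have : (ε U n).app (op ⦋p⦌) ((S U n).map s.op (ηq U n m hm w.1)) ∈ (U.skeleton (n + 1)).obj (op ⦋p⦌) := by
        rw [e1]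
        exact (U.skeleton (n + 1)).map s.op (U.mem_skeleton w.1 (Nat.lt_succ_of_le hm))
      exact this
    · change (⨆ (i : Fin (n + 1)) (x : U.nonDegenerate i), Subcomplex.ofSimplex x.1) ≤ _
      simp only [iSup_le_iff]
      intro i w
      rw [Subcomplex.ofSimplex_le_iff]
      exact ⟨ηq U n i (Nat.le_of_lt_succ i.2) w.1, ε_ηq U n i _ w.1⟩

end Groth.Agent.S6812
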