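import Groth.Statements.S6813
import Mathlib
import Groth.Agent.Lib.Helper86.TruncFin

set_option autoImplicit false
open CategoryTheory CategoryTheory.Limits
universe v u
open CategoryTheory CategoryTheory.SimplicialObject

namespace Groth.Agent.S6813

open Groth.Agent.Lib.Helper86.TruncFin

/-- For `k ≥ 1` the forgetful functor from the over category `C/X` to `C` (with `C` having finite
limits) commutes with `cosk_k`; stated as: a `k`-coskeletal simplicial object of `C/X` has
`k`-coskeletal underlying simplicial object in `C`. -/
theorem result {C : Type u} [Category.{v} C] [HasFiniteLimits C] (X : C) (k : ℕ) (hk : 1 ≤ k) (V : SimplicialObject (Over X)) [V.IsCoskeletal k] : SimplicialObject.IsCoskeletal (V ⋙ Over.forget X) k := by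
  haveI : NeZero k := ⟨by omega⟩
  have hpw : ∀ (F : (SimplexCategory.Truncated k)ᵒᵖ ⥤ Over X),
      (SimplexCategory.Truncated.inclusion k).op.HasPointwiseRightKanExtension F := by
    intro F Y
    dsimp [Functor.HasPointwiseRightKanExtensionAt]
    infer_instance
  haveI := hpw ((SimplexCategory.Truncated.inclusion k).op ⋙ V)
  haveI : ∀ c : SimplexCategoryᵒᵖ, IsConnected (StructuredArrow c (SimplexCategory.Truncated.inclusion k).op) := by
    intro c
    exact Functor.Final.out c
  haveI : (Over.forget X).PreservesRightKanExtension ((SimplexCategory.Truncated.inclusion k).op ⋙ V)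
      (SimplexCategory.Truncated.inclusion k).op := by
    infer_instance
  constructor
  have := Functor.PreservesRightKanExtension.preserves (G := Over.forget X) V (𝟙 ((SimplexCategory.Truncated.inclusion k).op ⋙ V))
  have e : (𝟙 ((SimplexCategory.Truncated.inclusion k).op ⋙ (V ⋙ Over.forget X))) = 
    ((SimplexCategory.Truncated.inclusion k).op.associator V (Over.forget X)).inv ≫ Functor.whiskerRight (𝟙 ((SimplexCategory.Truncated.inclusion k).op ⋙ V)) (Over.forget X) := by
    ext
    simp
  rw [e]
  exact this

end Groth.Agent.S6813
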