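import Groth.Statements.S6814
import Mathlib

set_option autoImplicit false
open CategoryTheory CategoryTheory.Limits Opposite
universe v u
open CategoryTheory CategoryTheory.SimplicialObject CategoryTheory.SimplicialObject.Truncated

namespace Groth.Agent.S6814

open Simplicial SimplexCategory

section
variable {C : Type u} [Category.{v} C] (n : ℕ) (U : (SimplexCategory.Truncated (n + 1))ᵒᵖ ⥤ C)

/-- the top object of `Truncated (n+1)` -/
abbrev top : SimplexCategory.Truncated (n + 1) :=
  ⟨SimplexCategory.mk (n + 1), (SimplexCategory.len_mk (n + 1)).le⟩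

/-- the object `[n]` of `Truncated (n+1)` -/
abbrev sub : SimplexCategory.Truncated (n + 1) :=
  ⟨SimplexCategory.mk n, (SimplexCategory.len_mk n).trans_le (Nat.le_succ n)⟩

/-- the face maps `[n] ⟶ [n+1]` in `Truncated (n+1)` -/
abbrev dl (j : Fin (n + 2)) : sub n ⟶ top n :=
  SimplexCategory.Truncated.δ (n + 1) j ((SimplexCategory.len_mk n).trans_le (Nat.le_succ n))
    (SimplexCategory.len_mk (n + 1)).le

variable {n U}
variable {T : C} (π : Fin (n + 3) → (T ⟶ U.obj (op (top n))))
  (hπ : ∀ i j : Fin (n + 2), i ≤ j →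
    π (Fin.castSucc i) ≫ U.map (dl n j).op = π j.succ ≫ U.map (dl n i).op)

/-- a map into the top object -/
abbrev trTop {a : SimplexCategory.Truncated (n + 1)} (φ' : a.obj ⟶ ⦋n + 1⦌) : a ⟶ top n :=
  ObjectProperty.homMk φ'

include hπ in
lemma wd_lt {a : SimplexCategory.Truncated (n + 1)} (i j : Fin (n + 2)) (hij : i ≤ j)
    (φ' φ'' : a.obj ⟶ ⦋n + 1⦌)
    (h : φ' ≫ SimplexCategory.δ i.castSucc = φ'' ≫ SimplexCategory.δ j.succ) :
    π i.castSucc ≫ U.map (trTop φ').op = π j.succ ≫ U.map (trTop φ'').op := by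
  -- φ' misses j
  have hmiss : ∀ x, φ'.toOrderHom x ≠ j := by
    intro x hx
    have h1 := congrArg (fun ψ => ψ.toOrderHom x) h
    simp only [SimplexCategory.comp_toOrderHom, OrderHom.comp_coe, Function.comp_apply] at h1
    rw [hx] at h1
    have h2 : (SimplexCategory.δ i.castSucc).toOrderHom j = j.succ := by
      change Fin.succAbove i.castSucc j = j.succ
      exact Fin.succAbove_of_le_castSucc _ _ (Fin.castSucc_le_castSucc_iff.mpr hij)
    rw [h2] at h1
    have h3 : (SimplexCategory.δ j.succ).toOrderHom (φ''.toOrderHom x) ≠ j.succ :=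
      Fin.succAbove_ne _ _
    exact h3 h1.symm
  obtain ⟨χ, hχ⟩ := SimplexCategory.eq_comp_δ_of_not_surjective' φ' j hmiss
  have h4 : φ'' = χ ≫ SimplexCategory.δ i := by
    have : Mono (SimplexCategory.δ j.succ) := inferInstance
    rw [← cancel_mono (SimplexCategory.δ j.succ), ← h, hχ, Category.assoc, Category.assoc,
      SimplexCategory.δ_comp_δ hij]
  have hχle : a.obj.len ≤ n + 1 := a.property
  let χ' : a ⟶ sub n := ObjectProperty.homMk χ
  have e1 : trTop φ' = χ' ≫ dl n j := ObjectProperty.hom_ext _ hχ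
  have e2 : trTop φ'' = χ' ≫ dl n i := ObjectProperty.hom_ext _ h4
  rw [e1, e2, op_comp, op_comp, U.map_comp, U.map_comp, ← Category.assoc, ← Category.assoc,
    hπ i j hij]

include hπ in
lemma wd {a : SimplexCategory.Truncated (n + 1)} (k l : Fin (n + 3))
    (φ' φ'' : a.obj ⟶ ⦋n + 1⦌)
    (h : φ' ≫ SimplexCategory.δ k = φ'' ≫ SimplexCategory.δ l) :
    π k ≫ U.map (trTop φ').op = π l ≫ U.map (trTop φ'').op := by
  rcases lt_trichotomy k l with hkl | hkl | hkl
  · have hk : k ≠ Fin.last _ := fun hk => by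
      rw [hk] at hkl; exact absurd (Fin.le_last l) (not_le.mpr hkl)
    have hl : l ≠ 0 := fun hl => by
      rw [hl] at hkl; exact absurd (Fin.zero_le k) (not_le.mpr hkl)
    obtain ⟨i, rfl⟩ := Fin.eq_castSucc_of_ne_last hk
    obtain ⟨j, rfl⟩ := Fin.eq_succ_of_ne_zero hl
    refine wd_lt π hπ i j ?_ φ' φ'' h
    simp only [Fin.lt_def, Fin.le_def, Fin.val_castSucc, Fin.val_succ] at hkl ⊢
    omega
  · subst hkl
    have : Mono (SimplexCategory.δ k) := inferInstance
    rw [cancel_mono] at h
    rw [h]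
  · have hk : l ≠ Fin.last _ := fun hk => by
      rw [hk] at hkl; exact absurd (Fin.le_last k) (not_le.mpr hkl)
    have hl : k ≠ 0 := fun hl => by
      rw [hl] at hkl; exact absurd (Fin.zero_le l) (not_le.mpr hkl)
    obtain ⟨i, rfl⟩ := Fin.eq_castSucc_of_ne_last hk
    obtain ⟨j, rfl⟩ := Fin.eq_succ_of_ne_zero hl
    refine (wd_lt π hπ i j ?_ φ'' φ' h.symm).symm
    simp only [Fin.lt_def, Fin.le_def, Fin.val_castSucc, Fin.val_succ] at hkl ⊢
    omega

lemma exists_fac (a : SimplexCategory.Truncated (n + 1)) (φ : a.obj ⟶ ⦋n + 2⦌) :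
    ∃ (k : Fin (n + 3)) (φ' : a.obj ⟶ ⦋n + 1⦌), φ = φ' ≫ SimplexCategory.δ k := by
  apply SimplexCategory.eq_comp_δ_of_not_surjective
  intro hs
  have : Epi φ := SimplexCategory.epi_iff_surjective.mpr hs
  have h1 := SimplexCategory.len_le_of_epi φ
  have h2 : a.obj.len ≤ n + 1 := a.property
  rw [SimplexCategory.len_mk] at h1
  omega

/-- the leg of the cone -/
noncomputable def leg (a : SimplexCategory.Truncated (n + 1)) (φ : a.obj ⟶ ⦋n + 2⦌) :
    T ⟶ U.obj (op a) :=
  π (exists_fac a φ).choose ≫ U.map (trTop (exists_fac a φ).choose_spec.choose).op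

include hπ in
lemma leg_eq (a : SimplexCategory.Truncated (n + 1)) (k : Fin (n + 3))
    (φ' : a.obj ⟶ ⦋n + 1⦌) :
    leg π a (φ' ≫ SimplexCategory.δ k) = π k ≫ U.map (trTop φ').op :=
  wd π hπ _ _ _ _ ((exists_fac a _).choose_spec.choose_spec.symm)

include hπ in
lemma leg_comp (a b : SimplexCategory.Truncated (n + 1)) (ψ : b ⟶ a) (φ : a.obj ⟶ ⦋n + 2⦌) :
    leg π a φ ≫ U.map ψ.op = leg π b (ψ.hom ≫ φ) := by
  obtain ⟨k, φ', rfl⟩ := exists_fac a φ
  rw [leg_eq π hπ, ← Category.assoc ψ.hom, leg_eq π hπ, Category.assoc, ← U.map_comp, ← op_comp]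
  rfl

variable (n) in
/-- the top object of `Truncated (n+2)`, in the opposite category -/
abbrev topY : (SimplexCategory.Truncated (n + 2))ᵒᵖ :=
  op ⟨SimplexCategory.mk (n + 2), (SimplexCategory.len_mk (n + 2)).le⟩

variable (n) in
/-- the inclusion functor -/
abbrev LL : (SimplexCategory.Truncated (n + 1))ᵒᵖ ⥤ (SimplexCategory.Truncated (n + 2))ᵒᵖ :=
  (SimplexCategory.Truncated.incl (n + 1) (n + 2) (Nat.le_succ _)).op

/-- structured arrows from maps -/
abbrev sa (a : SimplexCategory.Truncated (n + 1)) (φ : a.obj ⟶ ⦋n + 2⦌) :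
    StructuredArrow (topY n) (LL n) :=
  StructuredArrow.mk (Y := op a)
    (ObjectProperty.homMk φ :
      (SimplexCategory.Truncated.incl (n + 1) (n + 2) (Nat.le_succ _)).obj a ⟶ (topY n).unop).op

/-- the underlying map of a structured arrow -/
abbrev sφ (j : StructuredArrow (topY n) (LL n)) : j.right.unop.obj ⟶ ⦋n + 2⦌ :=
  j.hom.unop.hom

lemma sa_sφ (j : StructuredArrow (topY n) (LL n)) : sa j.right.unop (sφ j) = j := rfl

/-- morphisms of structured arrows -/
def saHom {a b : SimplexCategory.Truncated (n + 1)} (ψ : b ⟶ a) (φ : a.obj ⟶ ⦋n + 2⦌) :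
    sa a φ ⟶ sa b (ψ.hom ≫ φ) :=
  StructuredArrow.homMk ψ.op rfl

include hπ in
/-- the cone -/
noncomputable def coneT : Cone (StructuredArrow.proj (topY n) (LL n) ⋙ U) where
  pt := T
  π :=
    { app := fun j => leg π j.right.unop (sφ j)
      naturality := fun j j' m => by
        have hm : sφ j' = m.right.unop.hom ≫ sφ j := by
          have := StructuredArrow.w m
          have h2 := congrArg (fun x => x.unop.hom) this
          exact h2.symm
        refine (Category.id_comp _).trans ?_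
        have h3 := (leg_comp π hπ j.right.unop j'.right.unop m.right.unop (sφ j)).symm
        rw [← hm] at h3
        exact h3 }

lemma cone_w (s : Cone (StructuredArrow.proj (topY n) (LL n) ⋙ U))
    {a b : SimplexCategory.Truncated (n + 1)} (ψ : b ⟶ a) (φ : a.obj ⟶ ⦋n + 2⦌) :
    s.π.app (sa a φ) ≫ U.map ψ.op = s.π.app (sa b (ψ.hom ≫ φ)) :=
  s.w (saHom ψ φ)

include hπ in
lemma leg_top (k : Fin (n + 3)) : leg π (top n) (SimplexCategory.δ k) = π k := by
  have h := leg_eq π hπ (top n) k (𝟙 _)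
  rw [Category.id_comp] at h
  rw [h]
  have : trTop (𝟙 (top n).obj) = 𝟙 (top n) := rfl
  rw [this, op_id, U.map_id, Category.comp_id]

lemma cone_face (s : Cone (StructuredArrow.proj (topY n) (LL n) ⋙ U))
    (i j : Fin (n + 2)) (hij : i ≤ j) :
    s.π.app (sa (top n) (SimplexCategory.δ i.castSucc)) ≫ U.map (dl n j).op =
      s.π.app (sa (top n) (SimplexCategory.δ j.succ)) ≫ U.map (dl n i).op := by
  rw [cone_w, cone_w]
  have : (dl n j).hom ≫ SimplexCategory.δ i.castSucc = (dl n i).hom ≫ SimplexCategory.δ j.succ :=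
    (SimplexCategory.δ_comp_δ hij).symm
  rw [this]

include hπ in
/-- the cone is a limit -/
noncomputable def isLimitConeT
    (huniv : ∀ (S : C) (g : Fin (n + 3) → (S ⟶ U.obj (op (top n)))),
      (∀ i j : Fin (n + 2), i ≤ j →
        g (Fin.castSucc i) ≫ U.map (dl n j).op = g j.succ ≫ U.map (dl n i).op) →
      ∃! t : S ⟶ T, ∀ k : Fin (n + 3), t ≫ π k = g k) :
    IsLimit (coneT π hπ) where
  lift s := (huniv s.pt (fun k => s.π.app (sa (top n) (SimplexCategory.δ k)))
    (cone_face s)).exists.choose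
  fac s j := by
    have ht := (huniv s.pt (fun k => s.π.app (sa (top n) (SimplexCategory.δ k)))
      (cone_face s)).exists.choose_spec
    suffices ∀ (a : SimplexCategory.Truncated (n + 1)) (φ : a.obj ⟶ ⦋n + 2⦌),
        (huniv s.pt (fun k => s.π.app (sa (top n) (SimplexCategory.δ k)))
          (cone_face s)).exists.choose ≫ leg π a φ = s.π.app (sa a φ) from
      this j.right.unop (sφ j)
    intro a φ
    obtain ⟨k, φ', rfl⟩ := exists_fac a φ
    rw [leg_eq π hπ, ← Category.assoc, ht k]
    exact cone_w s (trTop φ') (SimplexCategory.δ k)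
  uniq s m hm := by
    refine (huniv s.pt (fun k => s.π.app (sa (top n) (SimplexCategory.δ k)))
      (cone_face s)).unique ?_ (huniv s.pt (fun k => s.π.app (sa (top n) (SimplexCategory.δ k)))
      (cone_face s)).exists.choose_spec
    intro k
    have := hm (sa (top n) (SimplexCategory.δ k))
    rw [← leg_top π hπ k]
    exact this

include hπ in
lemma hasPRKE
    (huniv : ∀ (S : C) (g : Fin (n + 3) → (S ⟶ U.obj (op (top n)))),
      (∀ i j : Fin (n + 2), i ≤ j →
        g (Fin.castSucc i) ≫ U.map (dl n j).op = g j.succ ≫ U.map (dl n i).op) →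
      ∃! t : S ⟶ T, ∀ k : Fin (n + 3), t ≫ π k = g k) :
    (LL n).HasPointwiseRightKanExtension U := by
  intro Y
  by_cases h : Y.unop.obj.len ≤ n + 1
  · let a : (SimplexCategory.Truncated (n + 1))ᵒᵖ := op ⟨Y.unop.obj, h⟩
    have hY : Y = (LL n).obj a := rfl
    have : (LL n).Full := inferInstance
    have : (LL n).Faithful := inferInstance
    rw [hY]
    exact ⟨⟨_, limitOfDiagramInitial (StructuredArrow.mkIdInitial (T := LL n) (Y := a)) _⟩⟩
  · have h2 : Y.unop.obj.len = n + 2 := le_antisymm Y.unop.property (by omega)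
    have hY : Y = topY n := by
      obtain ⟨⟨x, hx⟩⟩ := Y
      obtain rfl : x = SimplexCategory.mk (n + 2) := SimplexCategory.ext h2
      rfl
    rw [hY]
    exact ⟨⟨_, isLimitConeT π hπ huniv⟩⟩

include hπ in
lemma isIso_t
    (huniv : ∀ (S : C) (g : Fin (n + 3) → (S ⟶ U.obj (op (top n)))),
      (∀ i j : Fin (n + 2), i ≤ j →
        g (Fin.castSucc i) ≫ U.map (dl n j).op = g j.succ ≫ U.map (dl n i).op) →
      ∃! t : S ⟶ T, ∀ k : Fin (n + 3), t ≫ π k = g k)
    (V : (SimplexCategory.Truncated (n + 2))ᵒᵖ ⥤ C) (α : (LL n) ⋙ V ⟶ U)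
    [V.IsRightKanExtension α] (t : V.obj (topY n) ⟶ T)
    (ht : ∀ k : Fin (n + 3), t ≫ π k =
      V.map (SimplexCategory.Truncated.δ (n + 2) k
        ((SimplexCategory.len_mk (n + 1)).trans_le (Nat.le_succ (n + 1)))
        (SimplexCategory.len_mk (n + 2)).le).op ≫ α.app (op (top n))) : IsIso t := by
  have := hasPRKE π hπ huniv
  have hV : IsLimit ((Functor.RightExtension.mk V α).coneAt (topY n)) :=
    (Functor.isPointwiseRightKanExtensionOfIsRightKanExtension V α) (topY n)
  have hT := isLimitConeT π hπ huniv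
  have : t = (IsLimit.conePointUniqueUpToIso hV hT).hom := by
    apply hT.hom_ext
    intro j
    refine Eq.trans ?_ (IsLimit.conePointUniqueUpToIso_hom_comp hV hT j).symm
    suffices ∀ (a : SimplexCategory.Truncated (n + 1)) (φ : a.obj ⟶ ⦋n + 2⦌),
        t ≫ leg π a φ = V.map (sa a φ).hom ≫ α.app (op a) from
      this j.right.unop (sφ j)
    intro a φ
    obtain ⟨k, φ', rfl⟩ := exists_fac a φ
    rw [leg_eq π hπ, ← Category.assoc, ht k, Category.assoc]
    have hn := α.naturality (trTop φ').op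
    rw [← hn, ← Category.assoc]
    congr 1
    exact (V.map_comp _ _).symm
  exact ⟨⟨(IsLimit.conePointUniqueUpToIso hV hT).inv,
    by rw [this]; exact (IsLimit.conePointUniqueUpToIso hV hT).hom_inv_id,
    by rw [this]; exact (IsLimit.conePointUniqueUpToIso hV hT).inv_hom_id⟩⟩

end

/-- Let `U` be an `(n+1)`-truncated simplicial object of a category `C` (so the truncation level is at
least `1`), and let `T` be an object with morphisms `π_0, …, π_{n+2} : T ⟶ U_{n+1}` satisfying the
face relations `d_j π_i = d_i π_{j+1}` for `i ≤ j` and universal among such families (that is, `T`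
represents the functor of `(n+3)`-tuples of morphisms to `U_{n+1}` satisfying the face relations).
Then `U` extends to an `(n+2)`-truncated simplicial object right adjoint to restriction: the
pointwise right Kan extension of `U` along the inclusion of `(n+1)`-truncated into `(n+2)`-truncated
simplex categories exists, and for any right Kan extension `V` of `U` the morphism `V_{n+2} ⟶ T`
matching the faces of `V` with the `π_k` is an isomorphism (the new top term is the representing
object). -/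
theorem result {C : Type u} [Category.{v} C] (n : ℕ) (U : (SimplexCategory.Truncated (n + 1))ᵒᵖ ⥤ C) (T : C) (π : Fin (n + 3) → (T ⟶ U.obj (op ⟨SimplexCategory.mk (n + 1), (SimplexCategory.len_mk (n + 1)).le⟩))) (hπ : ∀ i j : Fin (n + 2), i ≤ j → π (Fin.castSucc i) ≫ U.map (SimplexCategory.Truncated.δ (n + 1) j ((SimplexCategory.len_mk n).trans_le (Nat.le_succ n)) (SimplexCategory.len_mk (n + 1)).le).op = π j.succ ≫ U.map (SimplexCategory.Truncated.δ (n + 1) i ((SimplexCategory.len_mk n).trans_le (Nat.le_succ n)) (SimplexCategory.len_mk (n + 1)).le).op) (huniv : ∀ (S : C) (g : Fin (n + 3) → (S ⟶ U.obj (op ⟨SimplexCategory.mk (n + 1), (SimplexCategory.len_mk (n + 1)).le⟩))), (∀ i j : Fin (n + 2), i ≤ j → g (Fin.castSucc i) ≫ U.map (SimplexCategory.Truncated.δ (n + 1) j ((SimplexCategory.len_mk n).trans_le (Nat.le_succ n)) (SimplexCategory.len_mk (n + 1)).le).op = g j.succ ≫ U.map (SimplexCategory.Truncated.δ (n + 1) i ((SimplexCategory.len_mk n).trans_le (Nat.le_succ n)) (SimplexCategory.len_mk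 (n + 1)).le).op) → ∃! t : S ⟶ T, ∀ k : Fin (n + 3), t ≫ π k = g k) : (SimplexCategory.Truncated.incl (n + 1) (n + 2) (Nat.le_succ _)).op.HasPointwiseRightKanExtension U ∧ ∀ (V : (SimplexCategory.Truncated (n + 2))ᵒᵖ ⥤ C) (α : (SimplexCategory.Truncated.incl (n + 1) (n + 2) (Nat.le_succ _)).op ⋙ V ⟶ U) [V.IsRightKanExtension α] (t : V.obj (op ⟨SimplexCategory.mk (n + 2), (SimplexCategory.len_mk (n + 2)).le⟩) ⟶ T), (∀ k : Fin (n + 3), t ≫ π k = V.map (SimplexCategory.Truncated.δ (n + 2) k ((SimplexCategory.len_mk (n + 1)).trans_le (Nat.le_succ (n + 1))) (SimplexCategory.len_mk (n + 2)).le).op ≫ α.app (op ⟨SimplexCategory.mk (n + 1), (SimplexCategory.len_mk (n + 1)).le⟩)) → IsIso t := by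
  refine ⟨hasPRKE π hπ huniv, ?_⟩
  intro V α _ t ht
  exact isIso_t π hπ huniv V α t ht

end Groth.Agent.S6814
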