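import Groth.Statements.S6815
import Mathlib.AlgebraicTopology.SimplicialObject.Homotopy
import Mathlib.CategoryTheory.Limits.FunctorCategory.Basic

set_option autoImplicit false
open CategoryTheory CategoryTheory.Limits
universe w v u
open CategoryTheory CategoryTheory.SimplicialObject

namespace Groth.Agent.S6815


open Opposite Simplicial in
section
variable {C : Type u} [Category.{v} C] {T : Type w} [HasLimitsOfShape (Discrete T) C]
  (Y : T → SimplicialObject C)

/-- the evaluated product is a product -/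
noncomputable def evalLimit (k : SimplexCategoryᵒᵖ) :
    IsLimit (((evaluation SimplexCategoryᵒᵖ C).obj k).mapCone (limit.cone (Discrete.functor Y))) :=
  isLimitOfPreserves ((evaluation SimplexCategoryᵒᵖ C).obj k) (limit.isLimit (Discrete.functor Y))

theorem eval_hom_ext (k : SimplexCategoryᵒᵖ) {W : C} (f g : W ⟶ (∏ᶜ Y).obj k)
    (h : ∀ t, f ≫ (Pi.π Y t).app k = g ≫ (Pi.π Y t).app k) : f = g :=
  (evalLimit Y k).hom_ext (fun ⟨t⟩ => h t)

/-- lift into the evaluated product -/
noncomputable def evalLift (k : SimplexCategoryᵒᵖ) {W : C} (f : ∀ t, W ⟶ (Y t).obj k) :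
    W ⟶ (∏ᶜ Y).obj k :=
  (evalLimit Y k).lift ⟨W, Discrete.natTrans (fun ⟨t⟩ => f t)⟩

@[reassoc (attr := simp)]
theorem evalLift_π (k : SimplexCategoryᵒᵖ) {W : C} (f : ∀ t, W ⟶ (Y t).obj k) (t : T) :
    evalLift Y k f ≫ (Pi.π Y t).app k = f t :=
  (evalLimit Y k).fac ⟨W, Discrete.natTrans (fun ⟨t⟩ => f t)⟩ ⟨t⟩

@[reassoc (attr := simp)]
theorem δ_π {n : ℕ} (j : Fin (n + 2)) (t : T) :
    (∏ᶜ Y).δ j ≫ (Pi.π Y t).app _ = (Pi.π Y t).app _ ≫ (Y t).δ j :=
  (Pi.π Y t).naturality _

@[reassoc (attr := simp)]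
theorem σ_π {n : ℕ} (j : Fin (n + 1)) (t : T) :
    (∏ᶜ Y).σ j ≫ (Pi.π Y t).app _ = (Pi.π Y t).app _ ≫ (Y t).σ j :=
  (Pi.π Y t).naturality _

end

/-- Homotopies between the factors of two product morphisms of simplicial objects assemble to a homotopy
between the products. -/
theorem result {C : Type u} [Category.{v} C] {T : Type w} [HasLimitsOfShape (Discrete T) C] {X Y : T → SimplicialObject C} (a b : ∀ t, X t ⟶ Y t) (h : ∀ t, Nonempty (SimplicialObject.Homotopy (a t) (b t))) : Nonempty (SimplicialObject.Homotopy (Limits.Pi.map a) (Limits.Pi.map b)) := by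
  classical
  have H : ∀ t, SimplicialObject.Homotopy (a t) (b t) := fun t => (h t).some
  have mapπ : ∀ (f : ∀ t, X t ⟶ Y t) (k : SimplexCategoryᵒᵖ) (t : T),
      (Limits.Pi.map f).app k ≫ (Pi.π Y t).app k = (Pi.π X t).app k ≫ (f t).app k := by
    intro f k t
    rw [← NatTrans.comp_app, ← NatTrans.comp_app, Limits.Pi.map_π]
  refine ⟨{
    h := fun {n} i => evalLift Y _ (fun t => (Pi.π X t).app _ ≫ (H t).h i)
    h_zero_comp_δ_zero := ?_
    h_last_comp_δ_last := ?_
    h_succ_comp_δ_castSucc_of_lt := ?_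
    h_succ_comp_δ_castSucc_succ := ?_
    h_castSucc_comp_δ_succ_of_lt := ?_
    h_comp_σ_castSucc_of_le := ?_
    h_comp_σ_succ_of_lt := ?_ }⟩
  · intro n
    apply eval_hom_ext
    intro t
    simp only [Category.assoc, δ_π, evalLift_π_assoc, mapπ, (H t).h_zero_comp_δ_zero]
  · intro n
    apply eval_hom_ext
    intro t
    simp only [Category.assoc, δ_π, evalLift_π_assoc, mapπ, (H t).h_last_comp_δ_last]
  · intro n i j hij
    apply eval_hom_ext
    intro t
    simp only [Category.assoc, δ_π, δ_π_assoc, evalLift_π, evalLift_π_assoc,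
      (H t).h_succ_comp_δ_castSucc_of_lt i j hij]
  · intro n j
    apply eval_hom_ext
    intro t
    simp only [Category.assoc, δ_π, evalLift_π_assoc, (H t).h_succ_comp_δ_castSucc_succ j]
  · intro n i j hji
    apply eval_hom_ext
    intro t
    simp only [Category.assoc, δ_π, δ_π_assoc, evalLift_π, evalLift_π_assoc,
      (H t).h_castSucc_comp_δ_succ_of_lt i j hji]
  · intro n i j hij
    apply eval_hom_ext
    intro t
    simp only [Category.assoc, σ_π, σ_π_assoc, evalLift_π, evalLift_π_assoc,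
      (H t).h_comp_σ_castSucc_of_le i j hij]
  · intro n i j hji
    apply eval_hom_ext
    intro t
    simp only [Category.assoc, σ_π, σ_π_assoc, evalLift_π, evalLift_π_assoc,
      (H t).h_comp_σ_succ_of_lt i j hji]

end Groth.Agent.S6815
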