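import Groth.Statements.S6818
import Mathlib

set_option autoImplicit false
open CategoryTheory CategoryTheory.Limits Opposite
universe v u
open CategoryTheory CategoryTheory.Abelian

namespace Groth.Agent.S6818

open CategoryTheory CategoryTheory.Limits Opposite

section
variable {A : Type u} [Category.{v} A] [Abelian A]

lemma image_le_kernel_iff {Z Y W : A} (f : Z ⟶ Y) (k : Y ⟶ W) :
    imageSubobject f ≤ kernelSubobject k ↔ f ≫ k = 0 := by
  constructor
  · intro h
    have h0 : (imageSubobject f).Factors f := by
      have := imageSubobject_factors_comp_self (f := f) (𝟙 _)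
      rwa [Category.id_comp] at this
    have h1 : (kernelSubobject k).Factors f := Subobject.factors_of_le _ h h0
    exact (kernelSubobject_factors_iff k f).1 h1
  · intro h
    exact imageSubobject_le f (Subobject.factorThru _ f (kernelSubobject_factors k f h))
      (Subobject.factorThru_arrow _ _ _)

lemma le_kernel_iff {Y W : A} (S : Subobject Y) (k : Y ⟶ W) :
    S ≤ kernelSubobject k ↔ S.arrow ≫ k = 0 := by
  constructor
  · intro h
    rw [← Subobject.ofLE_arrow h, Category.assoc, kernelSubobject_arrow_comp, comp_zero]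
  · intro h
    exact Subobject.le_of_comm (Subobject.factorThru _ S.arrow (kernelSubobject_factors k _ h))
      (Subobject.factorThru_arrow _ _ _)

lemma eq_kernel_cokernel {Y : A} (T : Subobject Y) :
    T = kernelSubobject (cokernel.π T.arrow) := by
  apply le_antisymm
  · rw [le_kernel_iff]; exact cokernel.condition _
  · exact Subobject.le_of_comm
      (Abelian.monoLift T.arrow (kernelSubobject (cokernel.π T.arrow)).arrow
        (kernelSubobject_arrow_comp _)) (Abelian.monoLift_comp _ _ _)

lemma eq_top_of_factors_id {X : A} (S : Subobject X) (h : S.Factors (𝟙 X)) : S = ⊤ := by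
  rw [eq_top_iff]
  exact Subobject.le_of_comm ((⊤ : Subobject X).arrow ≫ S.factorThru (𝟙 X) h) (by simp)

end

/-- For a simplicial object `U` of an abelian category and `n ≥ 0`, the subobjects `U'_m ⊆ U_m`
generated by the images of all `U_i ⟶ U_m` induced by maps `[m] ⟶ [i]` with `i ≤ n` form a
simplicial subobject equal to `U` in dimensions `≤ n` whose normalized part vanishes in dimensions
`> n`. Here the normalized subobject of `U_m` is the joint kernel of the faces `d_1, …, d_m`; the
published statement uses the faces `d_0, …, d_{m-1}`, the mirror-image convention, and both versions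
hold. -/
theorem result {A : Type u} [Category.{v} A] [Abelian A] (U : SimplicialObject A) (n : ℕ) (U' : ∀ m : ℕ, Subobject (U.obj (op (SimplexCategory.mk m)))) (hU' : ∀ m : ℕ, IsLUB (Set.range (fun φ : Σ i : Fin (n + 1), (SimplexCategory.mk m ⟶ SimplexCategory.mk i) => imageSubobject (U.map φ.2.op))) (U' m)) : (∀ (m m' : ℕ) (ψ : SimplexCategory.mk m' ⟶ SimplexCategory.mk m), imageSubobject ((U' m).arrow ≫ U.map ψ.op) ≤ U' m') ∧ (∀ i : ℕ, i ≤ n → U' i = ⊤) ∧ (∀ m : ℕ, n < m → U' m ⊓ AlgebraicTopology.NormalizedMooreComplex.objX U m = ⊥) := by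
  have hub : ∀ (m : ℕ) (i : Fin (n + 1)) (φ : SimplexCategory.mk m ⟶ SimplexCategory.mk i),
      imageSubobject (U.map φ.op) ≤ U' m := fun m i φ => (hU' m).1 ⟨⟨i, φ⟩, rfl⟩
  have hlub : ∀ (m : ℕ) {W : A} (k : U.obj (op (SimplexCategory.mk m)) ⟶ W),
      (∀ (i : Fin (n + 1)) (φ : SimplexCategory.mk m ⟶ SimplexCategory.mk i),
        U.map φ.op ≫ k = 0) → (U' m).arrow ≫ k = 0 := by
    intro m W k hk
    rw [← le_kernel_iff]
    apply (hU' m).2
    rintro _ ⟨⟨i, φ⟩, rfl⟩
    rw [image_le_kernel_iff]
    exact hk i φ
  refine ⟨?_, ?_, ?_⟩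
  · intro m m' ψ
    refine le_trans ?_ (ge_of_eq (eq_kernel_cokernel (U' m')))
    rw [image_le_kernel_iff, Category.assoc]
    apply hlub
    intro i φ
    rw [← Category.assoc, ← U.map_comp, ← op_comp, ← image_le_kernel_iff]
    exact le_trans (hub m' i (ψ ≫ φ)) (le_of_eq (eq_kernel_cokernel (U' m')))
  · intro i hi
    have h1 := hub i ⟨i, Nat.lt_succ_of_le hi⟩ (𝟙 _)
    have h2 : imageSubobject (U.map (𝟙 (SimplexCategory.mk i)).op) = ⊤ := by
      apply eq_top_of_factors_id
      have := imageSubobject_factors_comp_self (f := U.map (𝟙 (SimplexCategory.mk i)).op) (𝟙 _)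
      simpa using this
    rw [h2] at h1
    exact eq_top_iff.2 h1
  · intro m hm
    let p : U.obj (op (SimplexCategory.mk m)) ⟶ U.obj (op (SimplexCategory.mk m)) :=
      (AlgebraicTopology.DoldKan.PInfty :
        (AlgebraicTopology.alternatingFaceMapComplex A).obj U ⟶ _).f m
    have hp1 : (U' m).arrow ≫ p = 0 := by
      apply hlub
      intro i φ
      refine AlgebraicTopology.DoldKan.degeneracy_comp_PInfty U m φ (fun hmono => ?_)
      have := SimplexCategory.len_le_of_mono φ
      simp only [SimplexCategory.len_mk] at this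
      have := i.2
      omega
    have hp2 : (AlgebraicTopology.NormalizedMooreComplex.objX U m).arrow ≫ p =
        (AlgebraicTopology.NormalizedMooreComplex.objX U m).arrow := by
      have := HomologicalComplex.congr_hom
        (AlgebraicTopology.DoldKan.inclusionOfMooreComplexMap_comp_PInfty U) m
      exact this
    have h1 : (U' m ⊓ AlgebraicTopology.NormalizedMooreComplex.objX U m).arrow ≫ p = 0 := by
      rw [← Subobject.ofLE_arrow (inf_le_left : U' m ⊓ _ ≤ U' m), Category.assoc, hp1, comp_zero]
    have h2 : (U' m ⊓ AlgebraicTopology.NormalizedMooreComplex.objX U m).arrow ≫ p =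
        (U' m ⊓ AlgebraicTopology.NormalizedMooreComplex.objX U m).arrow := by
      rw [← Subobject.ofLE_arrow (inf_le_right : U' m ⊓ _ ≤ _), Category.assoc, hp2]
    rw [← Subobject.mk_arrow (U' m ⊓ AlgebraicTopology.NormalizedMooreComplex.objX U m),
      Subobject.mk_eq_bot_iff_zero, ← h2, h1]

end Groth.Agent.S6818
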