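import Groth.Statements.S6819
import Mathlib
import Groth.Agent.Lib.Helper86.SkCofree
import Groth.Agent.S6806
import Groth.Agent.S6818

set_option autoImplicit false
open CategoryTheory CategoryTheory.Limits Opposite
universe v u
open CategoryTheory CategoryTheory.Abelian

namespace Groth.Agent.S6819

open CategoryTheory CategoryTheory.Limits Opposite

section
variable {A : Type u} [Category.{v} A] [Abelian A] (n : ℕ)
  [∀ F : (SimplexCategory.Truncated n)ᵒᵖ ⥤ A,
    (SimplexCategory.Truncated.inclusion n).op.HasLeftKanExtension F]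
  (U : SimplicialObject A)

/-- The `n`-skeleton of `U`. -/
noncomputable def Lsk : SimplicialObject A := (SimplicialObject.sk n).obj U

/-- The counit of the skeleton adjunction. -/
noncomputable def εc : Lsk n U ⟶ U := (SimplicialObject.skAdj n).counit.app U

/-- The unit of the skeleton adjunction, in low degrees. -/
noncomputable def ηc (X : (SimplexCategory.Truncated n)ᵒᵖ) :
    U.obj (op X.unop.obj) ⟶ (Lsk n U).obj (op X.unop.obj) :=
  ((SimplicialObject.skAdj n).unit.app ((SimplicialObject.truncation n).obj U)).app X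

lemma ηc_εc (X : (SimplexCategory.Truncated n)ᵒᵖ) :
    ηc n U X ≫ (εc n U).app (op X.unop.obj) = 𝟙 (U.obj (op X.unop.obj)) :=
  congr_app ((SimplicialObject.skAdj n).right_triangle_components U) X

lemma εc_naturality {X Y : SimplexCategoryᵒᵖ} (f : X ⟶ Y) :
    (Lsk n U).map f ≫ (εc n U).app Y = (εc n U).app X ≫ U.map f :=
  (εc n U).naturality f

instance epi_ηc (X : (SimplexCategory.Truncated n)ᵒᵖ) : Epi (ηc n U X) :=
  Groth.Agent.Lib.Helper86.SkCofree.epi_unit_app ((SimplicialObject.sk n).obj U)
    ((SimplicialObject.skAdj n).unit.app ((SimplicialObject.truncation n).obj U)) X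

instance mono_ηc (X : (SimplexCategory.Truncated n)ᵒᵖ) : Mono (ηc n U X) :=
  mono_of_mono_fac (ηc_εc n U X)

instance isIso_ηc (X : (SimplexCategory.Truncated n)ᵒᵖ) : IsIso (ηc n U X) :=
  isIso_of_mono_of_epi _

lemma isIso_εc (X : (SimplexCategory.Truncated n)ᵒᵖ) :
    IsIso ((εc n U).app (op X.unop.obj)) :=
  IsIso.of_isIso_fac_left (ηc_εc n U X)

lemma eq_zero_of_Lsk (k : ℕ) {W : A} (g : (Lsk n U).obj (op (SimplexCategory.mk k)) ⟶ W)
    (hg : ∀ (i : ℕ) (_ : i ≤ n) (θ : SimplexCategory.mk k ⟶ SimplexCategory.mk i),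
      (Lsk n U).map θ.op ≫ g = 0) : g = 0 :=
  Groth.Agent.Lib.Helper86.SkCofree.eq_zero_of_isLeftKanExtension ((SimplicialObject.sk n).obj U)
    ((SimplicialObject.skAdj n).unit.app ((SimplicialObject.truncation n).obj U)) k g hg

lemma objX_Lsk_arrow_eq_zero (j : ℕ) (hj : n < j) :
    (AlgebraicTopology.NormalizedMooreComplex.objX (Lsk n U) j).arrow = 0 := by
  have hbot : AlgebraicTopology.NormalizedMooreComplex.objX (Lsk n U) j = ⊥ :=
    Groth.Agent.S6806.result n ((SimplicialObject.truncation n).obj U) j hj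
  apply Subobject.mk_eq_bot_iff_zero.mp
  rw [Subobject.mk_arrow]
  exact hbot

lemma mono_of_fac {X Y Z W : A} (f : X ⟶ Y) (g : Y ⟶ W) (h : X ⟶ Z) (k : Z ⟶ W) [Mono h] [Mono k]
    (w : f ≫ g = h ≫ k) : Mono f := by
  refine ⟨fun a b hab => ?_⟩
  have h1 : a ≫ h ≫ k = b ≫ h ≫ k := by
    rw [← w, ← Category.assoc, ← Category.assoc, hab]
  rw [← Category.assoc, ← Category.assoc] at h1
  exact (cancel_mono h).1 ((cancel_mono k).1 h1)

lemma mono_N_εc : Mono ((AlgebraicTopology.normalizedMooreComplex A).map (εc n U)) := by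
  apply HomologicalComplex.mono_of_mono_f
  intro j
  by_cases hj : j ≤ n
  · haveI : IsIso ((εc n U).app (op (SimplexCategory.mk j))) :=
      isIso_εc n U (op ⟨SimplexCategory.mk j, hj⟩)
    have hfac : ((AlgebraicTopology.normalizedMooreComplex A).map (εc n U)).f j ≫
        (AlgebraicTopology.NormalizedMooreComplex.objX U j).arrow =
        (AlgebraicTopology.NormalizedMooreComplex.objX (Lsk n U) j).arrow ≫
          (εc n U).app (op (SimplexCategory.mk j)) := by
      simp
      exact Subobject.factorThru_arrow _ _ _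
    haveI : Mono ((εc n U).app (op (SimplexCategory.mk j))) := inferInstance
    exact mono_of_fac (X := ((AlgebraicTopology.NormalizedMooreComplex.objX (Lsk n U) j :
        Subobject _) : A))
      (((AlgebraicTopology.normalizedMooreComplex A).map (εc n U)).f j)
      (AlgebraicTopology.NormalizedMooreComplex.objX U j).arrow
      (AlgebraicTopology.NormalizedMooreComplex.objX (Lsk n U) j).arrow
      ((εc n U).app (op (SimplexCategory.mk j))) hfac
  · have harrow := objX_Lsk_arrow_eq_zero n U j (by omega)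
    have hz : IsZero ((AlgebraicTopology.NormalizedMooreComplex.objX (Lsk n U) j :
        Subobject _) : A) := by
      rw [IsZero.iff_id_eq_zero, ← cancel_mono
        (AlgebraicTopology.NormalizedMooreComplex.objX (Lsk n U) j).arrow, harrow,
        comp_zero, comp_zero]
    exact ⟨fun g h _ => hz.eq_of_tgt g h⟩

lemma mono_εc_app (X : SimplexCategoryᵒᵖ) : Mono ((εc n U).app X) := by
  haveI : Mono ((CategoryTheory.Abelian.DoldKan.equivalence (A := A)).functor.map (εc n U)) :=
    mono_N_εc n U
  have hmono : Mono (εc n U) :=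
    (CategoryTheory.Abelian.DoldKan.equivalence (A := A)).functor.mono_of_mono_map inferInstance
  exact (NatTrans.mono_iff_mono_app _).1 hmono X

end

/-- For a simplicial object `U` of an abelian category, the counit `i_{n!} sk_n U ⟶ U` of the skeleton
adjunction is a monomorphism in each degree, with image the subobject generated by the images of the
maps `U_i ⟶ U_m` induced by `[m] ⟶ [i]`, `i ≤ n`. -/
theorem result {A : Type u} [Category.{v} A] [Abelian A] (U : SimplicialObject A) (n : ℕ) (U' : ∀ m : ℕ, Subobject (U.obj (op (SimplexCategory.mk m)))) (hU' : ∀ m : ℕ, IsLUB (Set.range (fun φ : Σ i : Fin (n + 1), (SimplexCategory.mk m ⟶ SimplexCategory.mk i) => imageSubobject (U.map φ.2.op))) (U' m)) [∀ F : (SimplexCategory.Truncated n)ᵒᵖ ⥤ A, (SimplexCategory.Truncated.inclusion n).op.HasLeftKanExtension F] (m : ℕ) : Mono (((SimplicialObject.skAdj n).counit.app U).app (op (SimplexCategory.mk m))) ∧ imageSubobject (((SimplicialObject.skAdj n).counit.app U).app (op (SimplexCategory.mk m))) = U' m := by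
  change Mono ((εc n U).app (op (SimplexCategory.mk m))) ∧
    imageSubobject ((εc n U).app (op (SimplexCategory.mk m))) = U' m
  refine ⟨mono_εc_app n U _, ?_⟩
  apply le_antisymm
  · refine le_trans ?_ (ge_of_eq (Groth.Agent.S6818.eq_kernel_cokernel (U' m)))
    rw [Groth.Agent.S6818.image_le_kernel_iff]
    apply eq_zero_of_Lsk n U m
    intro i hi θ
    rw [← Category.assoc, εc_naturality, Category.assoc]
    have h1 : imageSubobject (U.map θ.op) ≤ U' m :=
      (hU' m).1 ⟨⟨⟨i, Nat.lt_succ_of_le hi⟩, θ⟩, rfl⟩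
    have h2 : U.map θ.op ≫ cokernel.π (U' m).arrow = 0 := by
      rw [← Groth.Agent.S6818.image_le_kernel_iff]
      exact le_trans h1 (le_of_eq (Groth.Agent.S6818.eq_kernel_cokernel (U' m)))
    rw [h2, comp_zero]
  · apply (hU' m).2
    rintro _ ⟨⟨i, φ⟩, rfl⟩
    have hX := ηc_εc n U (op ⟨SimplexCategory.mk i, Nat.le_of_lt_succ i.2⟩)
    have : U.map φ.op =
        (ηc n U (op ⟨SimplexCategory.mk i, Nat.le_of_lt_succ i.2⟩) ≫ (Lsk n U).map φ.op) ≫
          (εc n U).app (op (SimplexCategory.mk m)) := by
      rw [Category.assoc, εc_naturality, ← Category.assoc]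
      erw [hX]
      rw [Category.id_comp]
    show imageSubobject (U.map φ.op) ≤ _
    rw [this]
    exact imageSubobject_comp_le _ _

end Groth.Agent.S6819
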