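import Groth.Statements.S6820
import Mathlib.Tactic

set_option autoImplicit false
universe u
open Smoothing

namespace Groth.Agent.S6820

lemma mk_one_eq_zero_iff {A : Type u} [CommRing A] {M : Type u} [AddCommGroup M] [Module A M]
    (S : Submonoid A) (m : M) :
    LocalizedModule.mk m (1 : S) = 0 ↔ ∃ t ∈ S, t • m = 0 := by
  rw [← LocalizedModule.zero_mk (1 : S), LocalizedModule.mk_eq]
  constructor
  · rintro ⟨u, hu⟩
    refine ⟨u, u.2, ?_⟩
    rw [one_smul, smul_zero, smul_zero] at hu
    exact hu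
  · rintro ⟨t, ht, h⟩
    refine ⟨⟨t, ht⟩, ?_⟩
    rw [one_smul, smul_zero, smul_zero]
    exact h

/-- Let A be a Noetherian ring, M a finite A-module, S a multiplicative subset of A and π an element of
A such that on the localised module S⁻¹M the kernels of multiplication by π and by π² agree. Then
there is an element s of S such that for every n > 0 the kernels of multiplication by sⁿπ and by
(sⁿπ)² on M agree. (Kernel equalities are written as implications, the reverse inclusions being
automatic.) -/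
theorem result {A : Type u} [CommRing A] [IsNoetherianRing A]
    (M : Type u) [AddCommGroup M] [Module A M] [Module.Finite A M] (S : Submonoid A) (π : A)
    (h : ∀ m : LocalizedModule S M, π ^ 2 • m = 0 → π • m = 0) :
    ∃ s ∈ S, ∀ n : ℕ, 0 < n → ∀ m : M, (s ^ n * π) ^ 2 • m = 0 → (s ^ n * π) • m = 0 := by
  classical
  let K' : Submodule A M :=
    LinearMap.ker ((LocalizedModule.mkLinearMap S M) ∘ₗ (LinearMap.lsmul A M (π ^ 2)))
  have hmem : ∀ m, m ∈ K' ↔ LocalizedModule.mk (π ^ 2 • m) (1 : S) = 0 := fun m => Iff.rfl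
  obtain ⟨T, hT⟩ : K'.FG := IsNoetherian.noetherian K'
  have h1 : ∀ m ∈ K', ∃ t ∈ S, t • (π • m) = 0 := by
    intro m hm
    have e1 : π ^ 2 • LocalizedModule.mk m (1 : S) = 0 := by
      rw [LocalizedModule.smul'_mk]
      exact (hmem m).1 hm
    have e2 := h _ e1
    rw [LocalizedModule.smul'_mk] at e2
    exact (mk_one_eq_zero_iff S _).1 e2
  choose! t htS ht using h1
  have hTK : ∀ m ∈ T, m ∈ K' := fun m hm => hT ▸ Submodule.subset_span hm
  refine ⟨∏ m ∈ T, t m, Submonoid.prod_mem _ (fun m hm => htS m (hTK m hm)), ?_⟩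
  have h2 : ∀ m ∈ K', ((∏ m ∈ T, t m) * π) • m = 0 := by
    intro m hm
    rw [← hT] at hm
    refine Submodule.span_induction (p := fun m _ => ((∏ m ∈ T, t m) * π) • m = 0)
      ?_ ?_ ?_ ?_ hm
    · intro x hx
      obtain ⟨c, hc⟩ := Finset.dvd_prod_of_mem t hx
      rw [hc, mul_comm (t x) c, mul_assoc, mul_smul, mul_smul, ht x (hTK x hx), smul_zero]
    · exact smul_zero _
    · intro x y _ _ hx hy
      rw [smul_add, hx, hy, add_zero]
    · intro a x _ hx
      rw [smul_comm, hx, smul_zero]
  intro n hn m hm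
  have hmK : m ∈ K' := by
    rw [hmem, mk_one_eq_zero_iff]
    refine ⟨(∏ m ∈ T, t m) ^ (2 * n), pow_mem (Submonoid.prod_mem _ (fun m hm => htS m (hTK m hm))) _, ?_⟩
    rw [← hm, smul_smul]
    congr 1
    ring
  have h3 := h2 m hmK
  obtain ⟨k, rfl⟩ : ∃ k, n = k + 1 := ⟨n - 1, by omega⟩
  rw [pow_succ, mul_assoc, mul_smul, h3, smul_zero]

end Groth.Agent.S6820
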