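import Groth.Statements.S6833
import Groth.Agent.Lib.Helper45.FTDict8

set_option autoImplicit false
universe u
open CategoryTheory CategoryTheory.Limits TopologicalSpace
open ModSite

namespace Groth.Agent.S6833

/-- On a ringed space (X, O), if φ : G → F is a map of O-modules with G of finite type and F of finite
presentation, then Coker(φ) is of finite presentation. -/
theorem result {X : TopCat.{u}} (O : TopCat.Sheaf CommRingCat.{u} X)
    {G F : ModSite.Mod O} (φ : G ⟶ F) [SheafOfModules.IsFiniteType (R := ModSite.ringSh O) G] [SheafOfModules.IsFinitePresentation (R := ModSite.ringSh O) F] :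
    SheafOfModules.IsFinitePresentation (R := ModSite.ringSh O) (cokernel φ) := by
  exact Groth.Agent.Lib.Helper45.FTDict.isFinitePresentation_of_fpc O _ (Groth.Agent.Lib.Helper45.FTDict.fpc_cokernel O φ (Groth.Agent.Lib.Helper45.FTDict.ft_of_isFiniteType O G) (Groth.Agent.Lib.Helper45.FTDict.fpc_of_isFinitePresentation O F))

end Groth.Agent.S6833
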