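import Groth.Statements.S6841
import Mathlib
import Groth.Agent.Lib.Helper65.JacobiPoint
import Groth.Agent.Lib.Helper65.JacobiDomain
-- import your own Groth.Agent.* helpers here

set_option autoImplicit false
universe u
open Smoothing

namespace Groth.Agent.S6841

open TensorProduct KaehlerDifferential IsLocalRing
open Groth.Agent.Lib.Helper65.JacobiPoint Groth.Agent.Lib.Helper65.JacobiDomain

open TensorProduct in

open TensorProduct in
/-- Let R ⊆ Λ be an extension of discrete valuation rings of ramification index 1 (m_R Λ = m_Λ), A a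
flat R-algebra of finite type with an R-algebra map A → Λ, 𝔮 its kernel and 𝔭 the inverse image of
the maximal ideal of Λ. Assume R → A is smooth at 𝔮. Provided the Λ-module Ω_{A/R} ⊗_A Λ is free,
the map R → A is also smooth at the prime 𝔭. (The published statement phrases the freeness
hypothesis through a surjection B → A from an R-algebra smooth at the point, with kernel I, as
freeness of the cokernel of I/I² ⊗_A Λ → Ω_{B/R} ⊗_B Λ; that cokernel is Ω_{A/R} ⊗_A Λ, which is how
its proof begins, so the two forms are equivalent.) -/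
theorem result {R Λ A : Type u} [CommRing R] [IsDomain R]
    [IsDiscreteValuationRing R] [CommRing Λ] [IsDomain Λ] [IsDiscreteValuationRing Λ] [Algebra R Λ]
    [NoZeroSMulDivisors R Λ] (he : (IsLocalRing.maximalIdeal R).map (algebraMap R Λ) = IsLocalRing.maximalIdeal Λ)
    [CommRing A] [Algebra R A] [Module.Flat R A] [Algebra.FiniteType R A] [Algebra A Λ] [IsScalarTower R A Λ]
    [(RingHom.ker (algebraMap A Λ)).IsPrime]
    (hq : Algebra.IsSmoothAt R (RingHom.ker (algebraMap A Λ)))
    (hfree : Module.Free Λ (Λ ⊗[A] Ω[A⁄R])) :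
    Algebra.IsSmoothAt R ((IsLocalRing.maximalIdeal Λ).comap (algebraMap A Λ)) := by
  classical
  obtain ⟨n, f₀, hf₀⟩ := Algebra.FiniteType.iff_quotient_mvPolynomial''.mp
    (inferInstance : Algebra.FiniteType R A)
  let P := MvPolynomial (Fin n) R
  letI : Algebra P A := f₀.toRingHom.toAlgebra
  haveI : IsScalarTower R P A := .of_algebraMap_eq' f₀.comp_algebraMap.symm
  letI : Algebra P Λ := ((algebraMap A Λ).comp (algebraMap P A)).toAlgebra
  haveI : IsScalarTower P A Λ := .of_algebraMap_eq' rfl
  have h₁ : Function.Surjective (algebraMap P A) := hf₀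
  haveI : Algebra.FinitePresentation R A := Algebra.FinitePresentation.of_finiteType.mp inferInstance
  have h₂ : (RingHom.ker (algebraMap P A)).FG :=
    Algebra.FinitePresentation.ker_fG_of_surjective f₀ hf₀
  obtain ⟨c, f, hfI, hspanΛ, hliK⟩ := exists_generators_of_projective R P A Λ h₁ inferInstance
  let K := ResidueField Λ
  let L := FractionRing Λ
  haveI : IsScalarTower P A K := .of_algebraMap_eq' rfl
  have h𝔭 : RingHom.ker (algebraMap A K) = (maximalIdeal Λ).comap (algebraMap A Λ) := by
    ext x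
    rw [RingHom.mem_ker, Ideal.mem_comap, IsScalarTower.algebraMap_apply A Λ K]
    exact residue_eq_zero_iff _
  haveI : IsScalarTower A Λ L := inferInstance
  haveI : IsScalarTower P Λ L := inferInstance
  haveI : IsScalarTower P A L := .of_algebraMap_eq (fun x => by
    rw [IsScalarTower.algebraMap_apply P Λ L, IsScalarTower.algebraMap_apply A Λ L,
      ← IsScalarTower.algebraMap_apply P A Λ])
  have hinjL : Function.Injective (algebraMap Λ L) := IsFractionRing.injective Λ L
  have h𝔮 : RingHom.ker (algebraMap A L) = RingHom.ker (algebraMap A Λ) := by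
    ext x
    rw [RingHom.mem_ker, RingHom.mem_ker, IsScalarTower.algebraMap_apply A Λ L,
      map_eq_zero_iff _ hinjL]
  have hspanL : ∀ x ∈ RingHom.ker (algebraMap P A), (1 : L) ⊗ₜ[P] D R P x ∈
      Submodule.span L (Set.range fun i => (1 : L) ⊗ₜ[P] D R P (f i)) := by
    intro x hx
    let φ : Λ ⊗[P] Ω[P⁄R] →ₗ[Λ] L ⊗[P] Ω[P⁄R] :=
      AlgebraTensorModule.map (Algebra.linearMap Λ L) LinearMap.id
    have hφ : ∀ ω : Ω[P⁄R], φ ((1 : Λ) ⊗ₜ[P] ω) = (1 : L) ⊗ₜ[P] ω := by
      intro ω
      simp only [φ, AlgebraTensorModule.map_tmul, Algebra.linearMap_apply, map_one,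
        LinearMap.id_apply]
    have h1 := Submodule.mem_map_of_mem (f := φ) (hspanΛ x hx)
    rw [Submodule.map_span, ← Set.range_comp, hφ] at h1
    have h2 := Submodule.span_le_restrictScalars Λ L
      (Set.range (φ ∘ fun i => (1 : Λ) ⊗ₜ[P] D R P (f i)))
    have h3 := h2 h1
    have hfun : (φ ∘ fun i => (1 : Λ) ⊗ₜ[P] D R P (f i)) = fun i => (1 : L) ⊗ₜ[P] D R P (f i) := by
      funext i
      exact hφ _
    rw [hfun] at h3
    exact h3
  have hJq := exists_mul_mem_span_of_isSmoothAt R P A L h₁ h₂ _ h𝔮 hq f hfI hspanL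
  -- the auxiliary smooth algebra `B = P / (f₁, …, f_c)`
  let J : Ideal P := Ideal.span (Set.range f)
  have hJI : J ≤ RingHom.ker (algebraMap P A) := Ideal.span_le.mpr (by rintro _ ⟨i, rfl⟩; exact hfI i)
  have hIK : RingHom.ker (algebraMap P A) ≤ RingHom.ker (algebraMap P K) := by
    intro x hx
    rw [RingHom.mem_ker] at hx ⊢
    rw [IsScalarTower.algebraMap_apply P A K, hx, map_zero]
  have hIL : RingHom.ker (algebraMap P A) ≤ RingHom.ker (algebraMap P L) := by
    intro x hx
    rw [RingHom.mem_ker] at hx ⊢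
    rw [IsScalarTower.algebraMap_apply P A L, hx, map_zero]
  let B := P ⧸ J
  letI : Algebra B K := (Ideal.Quotient.lift J (algebraMap P K) (fun x hx => hIK (hJI hx))).toAlgebra
  haveI : IsScalarTower P B K := .of_algebraMap_eq (fun x => by
    show algebraMap P K x = Ideal.Quotient.lift J (algebraMap P K) _ (Ideal.Quotient.mk J x)
    rw [Ideal.Quotient.lift_mk])
  have h₁B : Function.Surjective (algebraMap P B) := Ideal.Quotient.mk_surjective
  have hkerB : RingHom.ker (algebraMap P B) = J := Ideal.mk_ker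
  have h₂B : (RingHom.ker (algebraMap P B)).FG := by
    rw [hkerB]
    exact Submodule.fg_span (Set.finite_range f)
  let 𝔓 : Ideal B := RingHom.ker (algebraMap B K)
  haveI : 𝔓.IsPrime := RingHom.ker_isPrime _
  have hsmB : Algebra.IsSmoothAt R 𝔓 := by
    refine isSmoothAt_of_linearIndependent R P B K h₁B h₂B 𝔓 rfl f ?_ ?_ hliK
    · intro i
      rw [hkerB]
      exact Ideal.subset_span ⟨i, rfl⟩
    · intro x hx
      rw [hkerB] at hx
      exact ⟨1, by simp, by simpa using hx⟩
  haveI : Algebra.FinitePresentation R B :=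
    Algebra.FinitePresentation.quotient (Submodule.fg_span (Set.finite_range f))
  haveI : IsDomain (Localization.AtPrime 𝔓) := isDomain_localization_of_isSmoothAt R B 𝔓 hsmB
  have hJp : ∀ x ∈ RingHom.ker (algebraMap P A), ∃ t : P, algebraMap P K t ≠ 0 ∧
      t * x ∈ Ideal.span (Set.range f) := by
    intro x hx
    obtain ⟨s, hs, hsx⟩ := hJq x hx
    have h0 : algebraMap B (Localization.AtPrime 𝔓) (Ideal.Quotient.mk J s) *
        algebraMap B (Localization.AtPrime 𝔓) (Ideal.Quotient.mk J x) = 0 := by
      rw [← map_mul, ← map_mul, Ideal.Quotient.eq_zero_iff_mem.mpr hsx, map_zero]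
    rcases mul_eq_zero.mp h0 with h | h
    · exfalso
      obtain ⟨⟨m, hm⟩, hm0⟩ := (IsLocalization.map_eq_zero_iff 𝔓.primeCompl _ _).mp h
      obtain ⟨t, rfl⟩ := Ideal.Quotient.mk_surjective m
      rw [← map_mul, Ideal.Quotient.eq_zero_iff_mem] at hm0
      have h1 : algebraMap P L (t * s) = 0 := hIL (hJI hm0)
      rw [map_mul] at h1
      have h2 : algebraMap P L t = 0 := (mul_eq_zero.mp h1).resolve_right hs
      rw [IsScalarTower.algebraMap_apply P Λ L, map_eq_zero_iff _ hinjL] at h2
      apply hm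
      show algebraMap B K (Ideal.Quotient.mk J t) = 0
      show algebraMap P K t = 0
      rw [IsScalarTower.algebraMap_apply P Λ K, h2, map_zero]
    · obtain ⟨⟨m, hm⟩, hm0⟩ := (IsLocalization.map_eq_zero_iff 𝔓.primeCompl _ _).mp h
      obtain ⟨t, rfl⟩ := Ideal.Quotient.mk_surjective m
      rw [← map_mul, Ideal.Quotient.eq_zero_iff_mem] at hm0
      refine ⟨t, fun h0 => hm ?_, hm0⟩
      show algebraMap B K (Ideal.Quotient.mk J t) = 0
      exact h0
  exact isSmoothAt_of_linearIndependent R P A K h₁ h₂ _ h𝔭 f hfI hJp hliK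


end Groth.Agent.S6841
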