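import Groth.Statements.S6855
-- import your own Groth.Agent.* helpers here

set_option autoImplicit false
universe u
open CategoryTheory CategoryTheory.Limits TopologicalSpace
open ModSite

namespace Groth.Agent.S6855

/-- Let X be a topological space and O a sheaf of rings on X. Then the support of O, the set of points x
with nonzero stalk O_x, is closed in X. -/
theorem result {X : TopCat.{u}} (O : TopCat.Sheaf CommRingCat.{u} X) :
    IsClosed {x : X | Nontrivial (O.presheaf.stalk x)} := by
  rw [← isOpen_compl_iff, isOpen_iff_forall_mem_open]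
  intro x hx
  have hx' : ¬ Nontrivial (O.presheaf.stalk x) := hx
  rw [not_nontrivial_iff_subsingleton] at hx'
  have h10 : O.presheaf.germ ⊤ x trivial (1 : O.presheaf.obj (Opposite.op ⊤)) =
      O.presheaf.germ ⊤ x trivial (0 : O.presheaf.obj (Opposite.op ⊤)) := Subsingleton.elim _ _
  obtain ⟨W, hxW, iU, iV, hW⟩ := O.presheaf.germ_eq (U := ⊤) (V := ⊤) x trivial trivial _ _ h10
  refine ⟨(W : Set X), ?_, W.isOpen, hxW⟩
  intro y hy
  change ¬ Nontrivial (O.presheaf.stalk y)
  rw [not_nontrivial_iff_subsingleton]
  have h1 : (1 : O.presheaf.stalk y) = 0 := by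
    have e1 := O.presheaf.germ_res_apply iU y hy (1 : O.presheaf.obj (Opposite.op ⊤))
    have e2 := O.presheaf.germ_res_apply iV y hy (0 : O.presheaf.obj (Opposite.op ⊤))
    rw [hW, e2] at e1
    simpa using e1.symm
  exact subsingleton_of_zero_eq_one h1.symm

end Groth.Agent.S6855
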