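import Groth.Statements.S6857
import Groth.Agent.Lib.Helper26.ClosedEmbSh
import Groth.Agent.Lib.Helper53.ClosedEmb

set_option autoImplicit false
universe u
open CategoryTheory CategoryTheory.Limits TopologicalSpace
open CohTop

namespace Groth.Agent.S6857

/-- Let i : Z → X be the inclusion of a closed subset of a topological space (a closed embedding). Then
i_* : Ab(Z) → Ab(X) is exact (right exactness being the content, i_* is a right adjoint) and fully
faithful, an abelian sheaf on X lies in its essential image exactly when its stalks at points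
outside i(Z) are zero (support contained in Z), and i⁻¹ ∘ i_* is isomorphic to the identity functor
(existence of an isomorphism of functors is asserted). -/
theorem result {Z X : TopCat.{u}} (i : Z ⟶ X)
    (hi : Topology.IsClosedEmbedding i) :
    PreservesFiniteColimits (CohTop.push i) ∧ (CohTop.push i).Full ∧ (CohTop.push i).Faithful ∧
      (∀ F : CohTop.Ab X, (CohTop.push i).essImage F ↔ ∀ x : X, x ∉ Set.range i → IsZero (CohTop.stalk F x)) ∧
      Nonempty (CohTop.push i ⋙ CohTop.pull i ≅ 𝟭 (CohTop.Ab Z)) := by
  have hfull := Groth.Agent.Lib.Helper26.ClosedEmbSh.push_full AddCommGrpCat.{u} (i := i)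
    hi.toIsInducing
  have hfaith := Groth.Agent.Lib.Helper26.ClosedEmbSh.push_faithful AddCommGrpCat.{u} (i := i)
    hi.toIsInducing
  refine ⟨Groth.Agent.Lib.Helper53.preservesFiniteColimits_push_of_isClosedEmbedding i hi,
    hfull, hfaith, fun F => Groth.Agent.Lib.Helper26.ClosedEmbSh.essImage_push_iff i hi F, ?_⟩
  have : IsIso (TopCat.Sheaf.pullbackPushforwardAdjunction AddCommGrpCat.{u} i).counit :=
    Adjunction.counit_isIso_of_R_fully_faithful _
  have e : TopCat.Sheaf.pushforward AddCommGrpCat.{u} i ⋙ TopCat.Sheaf.pullback AddCommGrpCat.{u} i ≅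
      𝟭 (TopCat.Sheaf AddCommGrpCat.{u} Z) :=
    asIso (TopCat.Sheaf.pullbackPushforwardAdjunction AddCommGrpCat.{u} i).counit
  exact ⟨e⟩

end Groth.Agent.S6857
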