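import Groth.Statements.S6860
import Mathlib

set_option autoImplicit false
universe u
open Smoothing

namespace Groth.Agent.S6860
open MvPolynomial
variable {A : Type u} [CommRing A]

/-- generators of `A` over itself with prescribed values -/
noncomputable def gens {n : ℕ} (e : Fin n → A) : Algebra.Generators A A (Fin n) :=
  Algebra.Generators.ofSurjective e (fun a => ⟨C a, by simp⟩)

theorem sub_C_mem {n : ℕ} (e : Fin n → A) (p : MvPolynomial (Fin n) A) :
    p - C (aeval e p) ∈ Ideal.span (Set.range fun i : Fin n => (X i - C (e i) : MvPolynomial (Fin n) A)) := by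
  induction p using MvPolynomial.induction_on with
  | C a => simp
  | add p q hp hq =>
    have : p + q - C (aeval e (p + q)) = (p - C (aeval e p)) + (q - C (aeval e q)) := by
      rw [map_add, map_add]; ring
    rw [this]
    exact Ideal.add_mem _ hp hq
  | mul_X p i hp =>
    have : p * X i - C (aeval e (p * X i)) =
        (p - C (aeval e p)) * X i + C (aeval e p) * (X i - C (e i)) := by
      rw [map_mul, aeval_X, map_mul]; ring
    rw [this]
    exact Ideal.add_mem _ (Ideal.mul_mem_right _ _ hp)
      (Ideal.mul_mem_left _ _ (Ideal.subset_span ⟨i, rfl⟩))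

noncomputable def pres {n : ℕ} (e : Fin n → A) : Algebra.Presentation A A (Fin n) (Fin n) where
  __ := gens e
  relation i := X i - C (e i)
  span_range_relation_eq_ker := by
    apply le_antisymm
    · rw [Ideal.span_le]
      rintro _ ⟨i, rfl⟩
      rw [SetLike.mem_coe, Algebra.Generators.ker_eq_ker_aeval_val, RingHom.mem_ker]
      show (aeval e) (X i - C (e i)) = 0
      simp
    · intro p hp
      rw [Algebra.Generators.ker_eq_ker_aeval_val, RingHom.mem_ker] at hp
      have := sub_C_mem e p
      have h2 : (aeval e) p = 0 := hp
      rwa [h2, map_zero, sub_zero] at this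

noncomputable def prePres {n : ℕ} (e : Fin n → A) :
    Algebra.PreSubmersivePresentation A A (Fin n) (Fin n) where
  __ := pres e
  map := id
  map_inj := Function.injective_id

theorem jac {n : ℕ} (e : Fin n → A) : (prePres e).jacobian = 1 := by
  classical
  rw [Algebra.PreSubmersivePresentation.jacobian_eq_jacobiMatrix_det]
  have : (prePres e).jacobiMatrix = 1 := by
    refine Matrix.ext fun i j => ?_
    rw [Algebra.PreSubmersivePresentation.jacobiMatrix_apply]
    show pderiv i (X j - C (e j)) = _
    rw [map_sub, pderiv_C, sub_zero, pderiv_X, Matrix.one_apply]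
    by_cases h : i = j
    · subst h; simp
    · rw [if_neg h, Pi.single_apply, if_neg (Ne.symm h)]
  rw [this, Matrix.det_one, map_one]

noncomputable def subPres {n : ℕ} (e : Fin n → A) :
    Algebra.SubmersivePresentation A A (Fin n) (Fin n) where
  __ := prePres e
  jacobian_isUnit := by rw [jac]; exact isUnit_one

theorem main {R : Type u} [CommRing R] [Algebra R A]
    [Algebra.IsStandardSmooth R A] (E : Finset A) :
    ∃ (ι σ : Type) (_ : Finite ι) (_ : Finite σ) (P : Algebra.SubmersivePresentation R A ι σ),
      (↑E : Set A) ⊆ Set.range (P.val ∘ P.map) := by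
  obtain ⟨ι₀, σ₀, hσ₀, hι₀, ⟨P₀⟩⟩ := Algebra.IsStandardSmooth.out (R := R) (S := A)
  set n := E.card
  let e : Fin n → A := fun i => (E.equivFin.symm i : A)
  refine ⟨Fin n ⊕ ι₀, Fin n ⊕ σ₀, inferInstance, inferInstance, (subPres e).comp P₀, ?_⟩
  intro a ha
  refine ⟨Sum.inl (E.equivFin ⟨a, ha⟩), ?_⟩
  show ((subPres e).comp P₀).val (((subPres e).comp P₀).map (Sum.inl (E.equivFin ⟨a, ha⟩))) = a
  show ((subPres e).comp P₀).val (Sum.inl (E.equivFin ⟨a, ha⟩)) = a
  show e (E.equivFin ⟨a, ha⟩) = a
  simp [e]

end Groth.Agent.S6860

namespace Groth.Agent.S6860

/-- Let R → A be standard smooth and E ⊆ A a finite subset. Then A admits a standard smooth presentation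
A = R[x₁, …, x_N]/(f₁, …, f_c) (a submersive presentation: finitely many generators and relations,
an injection from the relations to the variables picking the distinguished variables, and the
Jacobian of the relations with respect to the distinguished variables invertible in A) in which
every element of E is the class of a distinguished variable. (The published statement arranges E to
be exactly the classes of the first n = |E| variables, all of them distinguished, with c ≥ n; this
row states that E is contained in the set of classes of the distinguished variables, which is what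
that arrangement gives.) -/
theorem result {R A : Type u} [CommRing R] [CommRing A] [Algebra R A]
    [Algebra.IsStandardSmooth R A] (E : Finset A) :
    ∃ (ι σ : Type) (_ : Finite ι) (_ : Finite σ) (P : Algebra.SubmersivePresentation R A ι σ),
      (↑E : Set A) ⊆ Set.range (P.val ∘ P.map) := by
  exact main E

end Groth.Agent.S6860
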