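import Groth.Statements.S6862
import Mathlib.RingTheory.Finiteness.Prod
import Mathlib.LinearAlgebra.FreeModule.Basic
-- import your own Groth.Agent.* helpers here

set_option autoImplicit false
universe u
open CAlg

namespace Groth.Agent.S6862

section
variable {R : Type u} [CommRing R]

theorem sf_of_prod {M Q : Type u} [AddCommGroup M] [Module R M] [Module.Finite R M]
    [AddCommGroup Q] [Module R Q]
    (hM : Module.IsStablyFree R M) (hMQ : Module.IsStablyFree R (M × Q)) :
    Module.IsStablyFree R Q := by
  obtain ⟨N₁, _, _, _, _, _⟩ := Module.IsStablyFree.exist_free_prod R M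
  obtain ⟨N₂, _, _, _, _, _⟩ := Module.IsStablyFree.exist_free_prod R (M × Q)
  let e : (((M × Q) × N₂) × N₁) ≃ₗ[R] (Q × ((M × N₁) × N₂)) :=
    { toFun := fun y => (y.1.1.2, ((y.1.1.1, y.2), y.1.2))
      invFun := fun x => (((x.2.1.1, x.1), x.2.2), x.2.1.2)
      map_add' := fun _ _ => rfl
      map_smul' := fun _ _ => rfl
      left_inv := fun _ => rfl
      right_inv := fun _ => rfl }
  have : Module.Free R (Q × ((M × N₁) × N₂)) := Module.Free.of_equiv e
  exact Module.IsStablyFree.of_free_prod R Q ((M × N₁) × N₂)

theorem sf_prod {M Q : Type u} [AddCommGroup M] [Module R M]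
    [AddCommGroup Q] [Module R Q]
    (hM : Module.IsStablyFree R M) (hQ : Module.IsStablyFree R Q) :
    Module.IsStablyFree R (M × Q) := by
  obtain ⟨N₁, _, _, _, _, _⟩ := Module.IsStablyFree.exist_free_prod R M
  obtain ⟨N₂, _, _, _, _, _⟩ := Module.IsStablyFree.exist_free_prod R Q
  let e : ((M × N₁) × (Q × N₂)) ≃ₗ[R] ((M × Q) × (N₁ × N₂)) :=
    { toFun := fun y => ((y.1.1, y.2.1), (y.1.2, y.2.2))
      invFun := fun x => ((x.1.1, x.2.1), (x.1.2, x.2.2))
      map_add' := fun _ _ => rfl
      map_smul' := fun _ _ => rfl
      left_inv := fun _ => rfl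
      right_inv := fun _ => rfl }
  have : Module.Free R ((M × Q) × (N₁ × N₂)) := Module.Free.of_equiv e
  exact Module.IsStablyFree.of_free_prod R (M × Q) (N₁ × N₂)

end

/-- Let `R` be a commutative ring and `P'`, `P`, `P''` finitely generated projective `R`-modules in an
exact sequence `0 → P' → P → P'' → 0`. Whenever two of the three are stably free, the remaining one
is stably free too (all three cases are stated). -/
theorem result {R : Type u} [CommRing R] {P' P P'' : Type u}
    [AddCommGroup P'] [Module R P'] [Module.Finite R P'] [Module.Projective R P']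
    [AddCommGroup P] [Module R P] [Module.Finite R P] [Module.Projective R P]
    [AddCommGroup P''] [Module R P''] [Module.Finite R P''] [Module.Projective R P'']
    (f : P' →ₗ[R] P) (g : P →ₗ[R] P'') (hf : Function.Injective f) (hg : Function.Surjective g)
    (hfg : Function.Exact f g) :
    (Module.IsStablyFree R P' → Module.IsStablyFree R P → Module.IsStablyFree R P'') ∧
    (Module.IsStablyFree R P' → Module.IsStablyFree R P'' → Module.IsStablyFree R P) ∧
    (Module.IsStablyFree R P → Module.IsStablyFree R P'' → Module.IsStablyFree R P') := by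
  obtain ⟨l, hl⟩ := Module.projective_lifting_property g LinearMap.id hg
  let e : P ≃ₗ[R] P' × P'' := (hfg.splitSurjectiveEquiv hf ⟨l, hl⟩).1
  refine ⟨fun h' h => ?_, fun h' h'' => ?_, fun h h'' => ?_⟩
  · exact sf_of_prod h' (Module.IsStablyFree.equiv e)
  · have := sf_prod h' h''
    exact Module.IsStablyFree.equiv e.symm
  · exact sf_of_prod h'' (Module.IsStablyFree.equiv (e.trans (LinearEquiv.prodComm R P' P'')))

end Groth.Agent.S6862
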