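import Groth.Statements.S6863
import Groth.Agent.Lib.Helper11.IdemLift

set_option autoImplicit false
universe u
open TensorProduct
open CAlg

namespace Groth.Agent.S6863

/-- Let `I` be an ideal of a commutative ring `R` contained in the Jacobson radical (equivalently, `1 +
i` is a unit for each `i ∈ I`). Then each finitely generated stably free module `E` over `R/I`
lifts: there is a finite stably free `R`-module `M` with `M/IM ≅ E` (existence of an isomorphism
only; the published statement names no map). -/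
theorem result {R : Type u} [CommRing R] (I : Ideal R)
    (hI : I ≤ Ideal.jacobson (⊥ : Ideal R)) (E : Type u) [AddCommGroup E] [Module (R ⧸ I) E]
    [Module.Finite (R ⧸ I) E] [Module.IsStablyFree (R ⧸ I) E] :
    ∃ (M : Type u) (_ : AddCommGroup M) (_ : Module R M), Module.Finite R M ∧ Module.IsStablyFree R M ∧
      Nonempty ((R ⧸ I) ⊗[R] M ≃ₗ[R ⧸ I] E) := by
  classical
  rcases subsingleton_or_nontrivial R with hR | hR
  · have : Subsingleton (R ⧸ I) := (Ideal.Quotient.mk_surjective (I := I)).subsingleton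
    have : Subsingleton E := Module.subsingleton (R ⧸ I) E
    have : Subsingleton ((R ⧸ I) ⊗[R] PUnit.{u+1}) := Module.subsingleton (R ⧸ I) _
    exact ⟨PUnit, inferInstance, inferInstance, inferInstance, inferInstance,
      ⟨LinearEquiv.ofSubsingleton _ _⟩⟩
  have hItop : I ≠ ⊤ := by
    rintro rfl
    have h1 : (1 : R) ∈ Ideal.jacobson (⊥ : Ideal R) := hI Submodule.mem_top
    have h2 := Ideal.mem_jacobson_bot.mp h1 (-1)
    simp at h2
  have : Nontrivial (R ⧸ I) := Ideal.Quotient.nontrivial_iff.mpr hItop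
  obtain ⟨N, _, _, _, _, hfree⟩ := Module.IsStablyFree.exist_free_prod (R ⧸ I) E
  let S := R ⧸ I
  let m := Module.finrank S N
  let n := Module.finrank S (E × N)
  let bN : Module.Basis (Fin m) S N := Module.finBasis S N
  let bF : Module.Basis (Fin n) S (E × N) := Module.finBasis S (E × N)
  let πb : (Fin n → S) →ₗ[S] (Fin m → S) :=
    bN.equivFun.toLinearMap ∘ₗ LinearMap.snd S E N ∘ₗ bF.equivFun.symm.toLinearMap
  let σb : (Fin m → S) →ₗ[S] (Fin n → S) :=
    bF.equivFun.toLinearMap ∘ₗ LinearMap.inr S E N ∘ₗ bN.equivFun.symm.toLinearMap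
  let fE : (Fin n → S) →ₗ[S] E := LinearMap.fst S E N ∘ₗ bF.equivFun.symm.toLinearMap
  let gE : E →ₗ[S] (Fin n → S) := bF.equivFun.toLinearMap ∘ₗ LinearMap.inl S E N
  have hπσ : πb ∘ₗ σb = LinearMap.id := by
    refine LinearMap.ext fun v => ?_
    simp only [πb, σb, LinearMap.comp_apply, LinearEquiv.coe_coe, LinearEquiv.symm_apply_apply,
      LinearMap.snd_apply, LinearMap.inr_apply, LinearEquiv.apply_symm_apply, LinearMap.id_apply]
  have hfg : fE ∘ₗ gE = LinearMap.id := by
    refine LinearMap.ext fun v => ?_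
    simp only [fE, gE, LinearMap.comp_apply, LinearEquiv.coe_coe, LinearEquiv.symm_apply_apply,
      LinearMap.fst_apply, LinearMap.inl_apply, LinearMap.id_apply]
  have hgf : gE ∘ₗ fE = LinearMap.id - σb ∘ₗ πb := by
    refine LinearMap.ext fun v => ?_
    simp only [gE, fE, σb, πb, LinearMap.comp_apply, LinearEquiv.coe_coe, LinearMap.sub_apply,
      LinearMap.id_apply, LinearEquiv.symm_apply_apply, LinearMap.fst_apply, LinearMap.snd_apply,
      LinearMap.inl_apply, LinearMap.inr_apply]
    rw [eq_sub_iff_add_eq, ← map_add]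
    simp only [Prod.mk_add_mk, add_zero, zero_add, Prod.mk.eta, LinearEquiv.apply_symm_apply]
  let Pib : Matrix (Fin m) (Fin n) S := LinearMap.toMatrix' πb
  let Sigb : Matrix (Fin n) (Fin m) S := LinearMap.toMatrix' σb
  have hPS : Pib * Sigb = 1 := by
    simp only [Pib, Sigb]
    rw [← LinearMap.toMatrix'_comp, hπσ, LinearMap.toMatrix'_id]
  let mk := Ideal.Quotient.mk I
  let Pmat : Matrix (Fin m) (Fin n) R := fun i j => (Ideal.Quotient.mk_surjective (Pib i j)).choose
  have hPi : Pmat.map mk = Pib := by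
    ext i j
    exact (Ideal.Quotient.mk_surjective (Pib i j)).choose_spec
  let Sig₀ : Matrix (Fin n) (Fin m) R :=
    fun i j => (Ideal.Quotient.mk_surjective (Sigb i j)).choose
  have hSig₀ : Sig₀.map mk = Sigb := by
    ext i j
    exact (Ideal.Quotient.mk_surjective (Sigb i j)).choose_spec
  let U : Matrix (Fin m) (Fin m) R := Pmat * Sig₀
  have hU : U.map mk = 1 := by
    simp only [U]
    rw [Matrix.map_mul, hPi, hSig₀, hPS]
  have hdet : IsUnit U.det := by
    have h1 : mk U.det = 1 := by
      rw [RingHom.map_det, RingHom.mapMatrix_apply, hU, Matrix.det_one]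
    have h2 : U.det - 1 ∈ I := by
      rw [← Ideal.Quotient.eq_zero_iff_mem, map_sub, h1, map_one, sub_self]
    have h3 := Ideal.mem_jacobson_bot.mp (hI h2) 1
    simpa using h3
  have hUinv : U * U⁻¹ = 1 := Matrix.mul_nonsing_inv U hdet
  have hUinvmap : (U⁻¹).map mk = 1 := by
    have := congrArg (fun X : Matrix (Fin m) (Fin m) R => X.map mk) hUinv
    simp only [Matrix.map_mul, hU, one_mul] at this
    rw [this]
    ext i j
    simp [Matrix.one_apply, Matrix.map_apply]
  let Sig : Matrix (Fin n) (Fin m) R := Sig₀ * U⁻¹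
  have hPiSig : Pmat * Sig = 1 := by
    simp only [Sig]
    rw [← Matrix.mul_assoc]
    exact hUinv
  have hSig : Sig.map mk = Sigb := by
    simp only [Sig]
    rw [Matrix.map_mul, hUinvmap, hSig₀, Matrix.mul_one]
  let Emat : Matrix (Fin n) (Fin n) R := 1 - Sig * Pmat
  have hX : (Sig * Pmat) * (Sig * Pmat) = Sig * Pmat := by
    rw [Matrix.mul_assoc, ← Matrix.mul_assoc Pmat, hPiSig, Matrix.one_mul]
  have hE : IsIdempotentElem Emat := by
    change Emat * Emat = Emat
    simp only [Emat]
    rw [sub_mul, one_mul, mul_sub, mul_one, hX, sub_self, sub_zero]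
  have hEmap : Matrix.toLin' ((RingHom.mapMatrix mk) Emat) = gE ∘ₗ fE := by
    rw [hgf]
    simp only [Emat]
    rw [map_sub, map_one, RingHom.mapMatrix_apply, Matrix.map_mul, hSig, hPi, map_sub,
      Matrix.toLin'_one, Matrix.toLin'_mul]
    simp only [Sigb, Pib, Matrix.toLin'_toMatrix']
  obtain ⟨iso⟩ := Groth.Agent.H11Idem.tensor_range_equiv I Emat hE fE gE hfg hEmap.symm
  let e : (Fin n → R) →ₗ[R] (Fin n → R) := Matrix.toLin' Emat
  let M : Submodule R (Fin n → R) := LinearMap.range e
  refine ⟨M, inferInstance, inferInstance, Module.Finite.range e, ?_, ⟨iso⟩⟩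
  have heSig : Emat * Sig = 0 := by
    simp only [Emat]
    rw [Matrix.sub_mul, Matrix.one_mul, Matrix.mul_assoc, hPiSig, Matrix.mul_one, sub_self]
  have hPie : Pmat * Emat = 0 := by
    simp only [Emat]
    rw [Matrix.mul_sub, Matrix.mul_one, ← Matrix.mul_assoc, hPiSig, Matrix.one_mul, sub_self]
  let fwd : M × (Fin m → R) →ₗ[R] (Fin n → R) := M.subtype.coprod (Matrix.toLin' Sig)
  let bwd : (Fin n → R) →ₗ[R] M × (Fin m → R) := e.rangeRestrict.prod (Matrix.toLin' Pmat)
  have h1 : fwd ∘ₗ bwd = LinearMap.id := by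
    refine LinearMap.ext fun y => ?_
    simp only [fwd, bwd, LinearMap.comp_apply, LinearMap.prod_apply, Function.prod,
      LinearMap.coprod_apply, Submodule.subtype_apply, LinearMap.codRestrict_apply,
      LinearMap.id_apply, e]
    rw [← LinearMap.comp_apply (Matrix.toLin' Sig), ← Matrix.toLin'_mul, ← LinearMap.add_apply,
      ← map_add]
    simp [Emat]
  have h2 : bwd ∘ₗ fwd = LinearMap.id := by
    refine LinearMap.ext fun z => ?_
    obtain ⟨⟨x, x', rfl⟩, v⟩ := z
    simp only [fwd, bwd, LinearMap.comp_apply, LinearMap.prod_apply, Function.prod,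
      LinearMap.coprod_apply, Submodule.subtype_apply, LinearMap.id_apply, map_add,
      Prod.mk_add_mk]
    have a1 : Matrix.toLin' Emat (Matrix.toLin' Emat x') = Matrix.toLin' Emat x' := by
      rw [← LinearMap.comp_apply, ← Matrix.toLin'_mul, hE.eq]
    have a2 : Matrix.toLin' Emat (Matrix.toLin' Sig v) = 0 := by
      rw [← LinearMap.comp_apply, ← Matrix.toLin'_mul, heSig]; simp
    have a3 : Matrix.toLin' Pmat (Matrix.toLin' Emat x') = 0 := by
      rw [← LinearMap.comp_apply, ← Matrix.toLin'_mul, hPie]; simp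
    have a4 : Matrix.toLin' Pmat (Matrix.toLin' Sig v) = v := by
      rw [← LinearMap.comp_apply, ← Matrix.toLin'_mul, hPiSig]; simp
    refine Prod.ext (Subtype.ext ?_) ?_
    · simp only [Submodule.coe_add, LinearMap.codRestrict_apply, e, a1, a2, add_zero]
    · simp only [e, a3, a4, zero_add]
  let eqv : (M × (Fin m → R)) ≃ₗ[R] (Fin n → R) := LinearEquiv.ofLinearMap fwd bwd h1 h2
  have : Module.Free R (M × (Fin m → R)) := Module.Free.of_equiv eqv.symm
  exact Module.IsStablyFree.of_free_prod R M (Fin m → R)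

end Groth.Agent.S6863
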