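import Groth.Statements.S6864
import Mathlib.RingTheory.Nakayama
import Mathlib.LinearAlgebra.TensorProduct.Quotient
-- import your own Groth.Agent.* helpers here

set_option autoImplicit false
universe u
open TensorProduct
open CAlg

namespace Groth.Agent.S6864

/-- Let `I` be an ideal of a commutative ring `R` contained in the Jacobson radical and let `φ : P → P'`
be an `R`-linear map between finite projective `R`-modules. If the induced map `P/IP → P'/IP'` is
bijective, then `φ` is bijective. -/
theorem result {R : Type u} [CommRing R] (I : Ideal R)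
    (hI : I ≤ Ideal.jacobson (⊥ : Ideal R)) {P P' : Type u}
    [AddCommGroup P] [Module R P] [Module.Finite R P] [Module.Projective R P]
    [AddCommGroup P'] [Module R P'] [Module.Finite R P'] [Module.Projective R P'] (φ : P →ₗ[R] P')
    (h : Function.Bijective (φ.baseChange (R ⧸ I))) : Function.Bijective φ := by
  have hsurj : Function.Surjective φ := by
    apply LinearMap.surjective_of_surjective_comp_mkQ φ I hI
    intro y'
    obtain ⟨y, rfl⟩ := Submodule.Quotient.mk_surjective _ y'
    obtain ⟨z, hz⟩ := h.2 ((1 : R ⧸ I) ⊗ₜ[R] y)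
    obtain ⟨p, hp⟩ := Submodule.Quotient.mk_surjective _ (TensorProduct.quotTensorEquivQuotSMul P I z)
    have hz' : z = (1 : R ⧸ I) ⊗ₜ[R] p := by
      rw [← TensorProduct.quotTensorEquivQuotSMul_symm_mk, hp, LinearEquiv.symm_apply_apply]
    refine ⟨p, ?_⟩
    rw [hz', LinearMap.baseChange_tmul] at hz
    have := congrArg (TensorProduct.quotTensorEquivQuotSMul P' I) hz
    rw [TensorProduct.quotTensorEquivQuotSMul_mk_one_tmul,
      TensorProduct.quotTensorEquivQuotSMul_mk_one_tmul] at this
    exact this
  refine ⟨?_, hsurj⟩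
  obtain ⟨σ, hσ⟩ := Module.projective_lifting_property φ LinearMap.id hsurj
  have hσ' : ∀ x, φ (σ x) = x := fun x => LinearMap.congr_fun hσ x
  let π : P →ₗ[R] P := LinearMap.id - σ ∘ₗ φ
  have hπK : ∀ x, φ (π x) = 0 := by
    intro x
    simp [π, hσ']
  have hKπ : ∀ k, φ k = 0 → π k = k := by
    intro k hk
    simp [π, hk]
  let K := LinearMap.ker φ
  have hKeq : K = Submodule.map π ⊤ := by
    apply le_antisymm
    · intro k hk
      exact ⟨k, trivial, hKπ k hk⟩
    · rintro _ ⟨x, -, rfl⟩
      exact hπK x
  have hKfg : K.FG := by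
    rw [hKeq]
    exact (Module.finite_def.mp inferInstance).map π
  have hKle : K ≤ I • K := by
    intro k hk
    have h1 : (1 : R ⧸ I) ⊗ₜ[R] k = (0 : (R ⧸ I) ⊗[R] P) := by
      apply h.1
      rw [LinearMap.baseChange_tmul, map_zero, hk, TensorProduct.tmul_zero]
    have h2 := congrArg (TensorProduct.quotTensorEquivQuotSMul P I) h1
    rw [TensorProduct.quotTensorEquivQuotSMul_mk_one_tmul, map_zero,
      Submodule.Quotient.mk_eq_zero] at h2
    have h3 : π k ∈ Submodule.map π (I • (⊤ : Submodule R P)) := ⟨k, h2, rfl⟩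
    rw [Submodule.map_smul'', ← hKeq, hKπ k hk] at h3
    exact h3
  have hK0 : K = ⊥ := Submodule.eq_bot_of_le_smul_of_le_jacobson_bot I K hKfg hKle hI
  exact LinearMap.ker_eq_bot.mp hK0

end Groth.Agent.S6864
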