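import Groth.Statements.S6865
import Groth.Agent.S6864
-- import your own Groth.Agent.* helpers here

set_option autoImplicit false
universe u
open TensorProduct
open CAlg

namespace Groth.Agent.S6865

/-- Let `I` be an ideal of a commutative ring `R` contained in the Jacobson radical and let `P, P'` be
finite projective `R`-modules. If `P/IP` and `P'/IP'` are isomorphic `R/I`-modules, then `P` and
`P'` are isomorphic. -/
theorem result {R : Type u} [CommRing R] (I : Ideal R)
    (hI : I ≤ Ideal.jacobson (⊥ : Ideal R)) (P P' : Type u)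
    [AddCommGroup P] [Module R P] [Module.Finite R P] [Module.Projective R P]
    [AddCommGroup P'] [Module R P'] [Module.Finite R P'] [Module.Projective R P']
    (e : (R ⧸ I) ⊗[R] P ≃ₗ[R ⧸ I] (R ⧸ I) ⊗[R] P') : Nonempty (P ≃ₗ[R] P') := by
  have hone : ∀ (Q : Type u) [AddCommGroup Q] [Module R Q] (z : (R ⧸ I) ⊗[R] Q),
      ∃ q : Q, z = (1 : R ⧸ I) ⊗ₜ[R] q := by
    intro Q _ _ z
    obtain ⟨q, hq⟩ := Submodule.Quotient.mk_surjective _ (TensorProduct.quotTensorEquivQuotSMul Q I z)
    refine ⟨q, ?_⟩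
    rw [← TensorProduct.quotTensorEquivQuotSMul_symm_mk, hq, LinearEquiv.symm_apply_apply]
  let q : P' →ₗ[R] (R ⧸ I) ⊗[R] P' := TensorProduct.mk R (R ⧸ I) P' 1
  have hq : Function.Surjective q := by
    intro z
    obtain ⟨x, hx⟩ := hone P' z
    exact ⟨x, hx.symm⟩
  let ψ : P →ₗ[R] (R ⧸ I) ⊗[R] P' :=
    (e.toLinearMap.restrictScalars R) ∘ₗ (TensorProduct.mk R (R ⧸ I) P 1)
  obtain ⟨φ, hφ⟩ := Module.projective_lifting_property q ψ hq
  have hbc : ∀ z, φ.baseChange (R ⧸ I) z = e z := by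
    intro z
    obtain ⟨x, rfl⟩ := hone P z
    rw [LinearMap.baseChange_tmul]
    exact LinearMap.congr_fun hφ x
  have hbij : Function.Bijective (φ.baseChange (R ⧸ I)) := by
    have : ⇑(φ.baseChange (R ⧸ I)) = ⇑e := funext hbc
    rw [this]
    exact e.bijective
  exact ⟨LinearEquiv.ofBijective φ (Groth.Agent.S6864.result I hI φ hbij)⟩

end Groth.Agent.S6865
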