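import Groth.Statements.S6867
import Mathlib.RingTheory.Localization.Finiteness
import Mathlib.RingTheory.Localization.Integer
import Mathlib.Algebra.Module.Torsion.Pi
import Mathlib.LinearAlgebra.FiniteDimensional.Defs
import Mathlib.LinearAlgebra.Dimension.Free
-- import your own Groth.Agent.* helpers here

set_option autoImplicit false
universe u
open CAlg

namespace Groth.Agent.S6867

/-- For a domain `R`, a finite `R`-module `M` is torsion free exactly when it admits an injective
`R`-linear map into `Rⁿ` for some `n`. -/
theorem result (R : Type u) [CommRing R] [IsDomain R] (M : Type u)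
    [AddCommGroup M] [Module R M] [Module.Finite R M] :
    Module.IsTorsionFree R M ↔ ∃ (n : ℕ) (f : M →ₗ[R] (Fin n → R)), Function.Injective f := by
  constructor
  · intro hM
    let S := nonZeroDivisors R
    let K := Localization S
    let MK := LocalizedModule S M
    let ι : M →ₗ[R] MK := LocalizedModule.mkLinearMap S M
    have hι : Function.Injective ι := by
      rw [injective_iff_map_eq_zero]
      intro m hm
      rw [IsLocalizedModule.eq_zero_iff S] at hm
      obtain ⟨c, hc⟩ := hm
      have hc0 : (c : R) ≠ 0 := nonZeroDivisors.coe_ne_zero c
      rcases smul_eq_zero.mp hc with h | h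
      · exact absurd h hc0
      · exact h
    let n := Module.finrank K MK
    let b : Module.Basis (Fin n) K MK := Module.finBasis K MK
    let g : M →ₗ[R] (Fin n → K) := (b.equivFun.toLinearMap.restrictScalars R) ∘ₗ ι
    have hg : Function.Injective g := b.equivFun.injective.comp hι
    obtain ⟨s, hs⟩ := Module.Finite.fg_top (R := R) (M := M)
    obtain ⟨d, hd⟩ := IsLocalization.exist_integer_multiples S (s ×ˢ (Finset.univ : Finset (Fin n)))
      (fun x : M × Fin n => g x.1 x.2)
    let c : (Fin n → R) →ₗ[R] (Fin n → K) := (Algebra.linearMap R K).compLeft (Fin n)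
    have hc : Function.Injective c := by
      intro x y hxy
      funext i
      exact IsFractionRing.injective R K (congrFun hxy i)
    have hmem : ∀ m : M, (d : R) • g m ∈ LinearMap.range c := by
      intro m
      have hm : m ∈ Submodule.span R (s : Set M) := by rw [hs]; trivial
      induction hm using Submodule.span_induction with
      | mem x hx =>
        have : ∀ i : Fin n, ∃ r : R, algebraMap R K r = (d : R) • g x i := fun i =>
          hd (x, i) (Finset.mem_product.mpr ⟨hx, Finset.mem_univ i⟩)
        choose r hr using this
        exact ⟨r, funext fun i => hr i⟩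
      | zero => simp
      | add x y _ _ hx hy => rw [map_add, smul_add]; exact add_mem hx hy
      | smul a x _ hx => rw [map_smul, smul_comm]; exact Submodule.smul_mem _ _ hx
    let f₀ : M →ₗ[R] LinearMap.range c := LinearMap.codRestrict (LinearMap.range c) ((d : R) • g) hmem
    have hf₀ : Function.Injective f₀ := by
      intro x y hxy
      have h1 : (d : R) • g x = (d : R) • g y := congrArg Subtype.val hxy
      have h2 : g ((d : R) • x) = g ((d : R) • y) := by rw [map_smul, map_smul, h1]
      have h3 := hg h2
      have hd0 : (d : R) ≠ 0 := nonZeroDivisors.coe_ne_zero d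
      exact smul_right_injective M hd0 h3
    exact ⟨n, (LinearEquiv.ofInjective c hc).symm.toLinearMap ∘ₗ f₀,
      (LinearEquiv.ofInjective c hc).symm.injective.comp hf₀⟩
  · rintro ⟨n, f, hf⟩
    exact Function.Injective.moduleIsTorsionFree f hf (map_smul f)

end Groth.Agent.S6867
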