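import Groth.Statements.S6866
import Groth.Agent.S6867
import Mathlib.LinearAlgebra.TensorProduct.Finiteness
import Mathlib.LinearAlgebra.TensorProduct.Pi
-- import your own Groth.Agent.* helpers here

set_option autoImplicit false
universe u
open TensorProduct
open CAlg

namespace Groth.Agent.S6866

/-- If `M` is a torsion free module over a domain `R` and `R → R'` is a flat ring map to another domain,
then `R' ⊗_R M` is torsion free over `R'`. -/
theorem result (R R' : Type u) [CommRing R] [IsDomain R] [CommRing R']
    [IsDomain R'] [Algebra R R'] [Module.Flat R R'] (M : Type u) [AddCommGroup M] [Module R M]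
    [Module.IsTorsionFree R M] : Module.IsTorsionFree R' (R' ⊗[R] M) := by
  rw [Module.isTorsionFree_iff_smul_eq_zero]
  intro a z haz
  by_contra hcon
  push Not at hcon
  obtain ⟨ha, hz⟩ := hcon
  obtain ⟨N, hNfin, hzN⟩ := TensorProduct.exists_finite_submodule_right_of_setFinite
    ({z} : Set (R' ⊗[R] M)) (Set.finite_singleton z)
  obtain ⟨w, hw⟩ := hzN (Set.mem_singleton z)
  have hNtf : Module.IsTorsionFree R N :=
    Function.Injective.moduleIsTorsionFree N.subtype N.subtype_injective (map_smul N.subtype)
  obtain ⟨n, f, hf⟩ := (Groth.Agent.S6867.result R N).mp hNtf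
  have hinj1 : Function.Injective (N.subtype.baseChange R') := by
    rw [LinearMap.baseChange_eq_ltensor]
    exact Module.Flat.lTensor_preserves_injective_linearMap _ N.subtype_injective
  have hinj2 : Function.Injective (f.baseChange R') := by
    rw [LinearMap.baseChange_eq_ltensor]
    exact Module.Flat.lTensor_preserves_injective_linearMap _ hf
  have hw' : N.subtype.baseChange R' w = z := by
    rw [LinearMap.baseChange_eq_ltensor]; exact hw
  have haw : a • w = 0 := by
    apply hinj1
    rw [map_smul, hw', haz, map_zero]
  let e : R' ⊗[R] (Fin n → R) ≃ₗ[R'] (Fin n → R') := TensorProduct.piScalarRight R R' R' (Fin n)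
  have h1 : a • e (f.baseChange R' w) = 0 := by
    rw [← map_smul, ← map_smul, haw, map_zero, map_zero]
  rcases smul_eq_zero.mp h1 with h | h
  · exact ha h
  · apply hz
    rw [← hw']
    have : w = 0 := hinj2 (by rw [map_zero]; exact e.injective (by rw [h, map_zero]))
    rw [this, map_zero]

end Groth.Agent.S6866
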