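import Groth.Statements.S6868
import Mathlib
import Groth.Agent.Lib.Helper67.SkEmb
import Groth.Agent.Lib.Helper56.DepthAss

set_option autoImplicit false
universe u
open CAlg

namespace Groth.Agent.S6868

open LocCoh

section
variable (R : Type u) [CommRing R] [IsDomain R] [IsNoetherianRing R] (M : Type u)
  [AddCommGroup M] [Module R M] [Module.Finite R M]

omit [Module.Finite R M] in
theorem torsionFree_iff_ass [Nontrivial M] :
    Module.IsTorsionFree R M ↔ associatedPrimes R M = {⊥} := by
  constructor
  · intro htf
    have hsub : associatedPrimes R M ⊆ {⊥} := by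
      intro P hP
      obtain ⟨hPp, x, hx⟩ := isAssociatedPrime_iff.mp hP
      rw [Set.mem_singleton_iff, eq_bot_iff]
      intro r hr
      rw [hx, Submodule.mem_colon_singleton, Submodule.mem_bot] at hr
      have hx0 : x ≠ 0 := by
        rintro rfl
        apply hPp.ne_top
        rw [hx, eq_top_iff]
        intro a _
        rw [Submodule.mem_colon_singleton, smul_zero]
        exact Submodule.zero_mem _
      rcases smul_eq_zero.mp hr with h | h
      · exact h
      · exact absurd h hx0
    obtain ⟨P, hP⟩ := associatedPrimes.nonempty R M
    have := hsub hP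
    rw [Set.mem_singleton_iff] at this
    apply Set.Subset.antisymm hsub
    rintro _ rfl
    rwa [this] at hP
  · intro hass
    refine ⟨fun r hr => ?_⟩
    have hr0 : r ≠ 0 := hr.ne_zero
    intro x y hxy
    by_contra hne
    have hd : x - y ≠ 0 := sub_ne_zero.mpr hne
    obtain ⟨P, hP, hle⟩ := exists_le_isAssociatedPrime_of_isNoetherianRing (R := R) (x - y) hd
    have hPbot : P = ⊥ := by
      have : P ∈ associatedPrimes R M := hP
      rw [hass] at this
      exact this
    have hrP : r ∈ P := by
      apply hle
      rw [Submodule.mem_colon_singleton, Submodule.mem_bot, smul_sub]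
      exact sub_eq_zero.mpr hxy
    rw [hPbot] at hrP
    exact hr0 hrP

end

/-- (1) ⇔ (3) ⇔ (4): for a Noetherian domain `R` and a nonzero finite `R`-module `M`, torsion-freeness
of `M` is equivalent to `(0)` being the unique associated prime of `M`, and also to the conjunction:
`(0)` belongs to the support of `M` and `M` satisfies Serre's condition `(S_1)`. (The published
statement also lists embedding into a finite free module and the absence of embedded associated
primes; this row states the other three conditions.) -/
theorem result (R : Type u) [CommRing R]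
    [IsDomain R] [IsNoetherianRing R] (M : Type u) [AddCommGroup M] [Module R M] [Module.Finite R M] [Nontrivial M] :
    (Module.IsTorsionFree R M ↔ associatedPrimes R M = {⊥}) ∧
    (Module.IsTorsionFree R M ↔
      (⟨⊥, Ideal.isPrime_bot⟩ : PrimeSpectrum R) ∈ Module.support R M ∧ LocCoh.HasSk 1 R M) := by
  refine ⟨torsionFree_iff_ass R M, ?_⟩
  rw [torsionFree_iff_ass R M]
  have hbotmin : ∀ P : Ideal R, P ∈ (⊥ : Ideal R).minimalPrimes → P = ⊥ := by
    intro P hP
    have : P ∈ minimalPrimes R := hP
    rw [IsDomain.minimalPrimes_eq_singleton_bot] at this
    exact this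
  constructor
  · intro hass
    have hbotass : (⊥ : Ideal R) ∈ associatedPrimes R M := by rw [hass]; rfl
    have hsupp : (⟨⊥, Ideal.isPrime_bot⟩ : PrimeSpectrum R) ∈ Module.support R M := by
      rw [Module.mem_support_iff_of_finite]
      intro r hr
      obtain ⟨-, x, hx⟩ := isAssociatedPrime_iff.mp hbotass
      change r ∈ (⊥ : Ideal R)
      rw [hx, Submodule.mem_colon_singleton, Submodule.mem_bot]
      exact Module.mem_annihilator.mp hr x
    refine ⟨hsupp, ?_⟩
    have hann : Module.annihilator R M = ⊥ :=
      le_bot_iff.mp (Module.annihilator_le_of_mem_support hsupp)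
    intro p hp
    by_cases hd : depth (Localization.AtPrime p) (LocalizedModule p.primeCompl M) = 0
    · -- p is associated, hence zero
      have hmax := (Groth.Agent.Lib.Helper67.depth_eq_zero_iff _).mp hd
      have hpre := Module.associatedPrimes.preimage_comap_associatedPrimes_eq_associatedPrimes_of_isLocalizedModule
        p.primeCompl (Localization.AtPrime p) (LocalizedModule.mkLinearMap p.primeCompl M)
      have hmem : (IsLocalRing.maximalIdeal (Localization.AtPrime p)).comap
          (algebraMap R (Localization.AtPrime p)) ∈ associatedPrimes R M := by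
        have : IsLocalRing.maximalIdeal (Localization.AtPrime p) ∈
            (Ideal.comap (algebraMap R (Localization.AtPrime p))) ⁻¹' (associatedPrimes R M) := by
          rw [hpre]; exact hmax
        exact this
      have hcm : (IsLocalRing.maximalIdeal (Localization.AtPrime p)).comap
          (algebraMap R (Localization.AtPrime p)) = p :=
        IsLocalization.AtPrime.comap_maximalIdeal (Localization.AtPrime p) p
      rw [hcm, hass] at hmem
      have hp0 : p = ⊥ := hmem
      subst hp0
      have hmin : (⊥ : Ideal R) ∈ (Module.annihilator R M).minimalPrimes := by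
        rw [hann]
        have : (⊥ : Ideal R) ∈ minimalPrimes R := by
          rw [IsDomain.minimalPrimes_eq_singleton_bot]; rfl
        exact this
      rw [Groth.Agent.Lib.Helper67.supportDim_localization_eq_zero_of_mem_minimalPrimes M ⊥ hmin, hd]
      exact min_le_right _ _
    · have h1 : (1 : ℕ∞) ≤ depth (Localization.AtPrime p) (LocalizedModule p.primeCompl M) :=
        Order.one_le_iff_pos.mpr (pos_iff_ne_zero.mpr hd)
      refine le_trans (min_le_left _ _) ?_
      exact_mod_cast h1
  · rintro ⟨hsupp, hS1⟩
    have hann : Module.annihilator R M = ⊥ :=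
      le_bot_iff.mp (Module.annihilator_le_of_mem_support hsupp)
    have hsub : associatedPrimes R M ⊆ {⊥} := by
      intro Q hQ
      have hQp : Q.IsPrime := IsAssociatedPrime.isPrime hQ
      have h0 := Groth.Agent.Lib.Helper56.depth_localizedModule_eq_zero_of_mem_associatedPrimes hQ
      have h1 := hS1 Q
      rw [h0] at h1
      have hdim : Module.supportDim (Localization.AtPrime Q) (LocalizedModule Q.primeCompl M) ≤ 0 := by
        rcases le_total (1 : WithBot ℕ∞)
          (Module.supportDim (Localization.AtPrime Q) (LocalizedModule Q.primeCompl M)) with h2 | h2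
        · rw [Nat.cast_one, min_eq_left h2] at h1
          exact absurd h1 (by decide)
        · rw [Nat.cast_one, min_eq_right h2] at h1
          exact h1
      have hQmin := Groth.Agent.Lib.Helper67.mem_minimalPrimes_of_supportDim_localization_le_zero M Q
        (by rw [hann]; exact bot_le) hdim
      rw [hann] at hQmin
      exact hbotmin Q hQmin
    obtain ⟨P, hP⟩ := associatedPrimes.nonempty R M
    have := hsub hP
    rw [Set.mem_singleton_iff] at this
    apply Set.Subset.antisymm hsub
    rintro _ rfl
    rwa [this] at hP

end Groth.Agent.S6868
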