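import Groth.Statements.S6870
import Mathlib.RingTheory.Localization.Finiteness
import Mathlib.RingTheory.Localization.Integer
import Mathlib.Algebra.Module.LocalizedModule.Int
import Mathlib.Algebra.Module.Torsion.Pi
import Mathlib.LinearAlgebra.FiniteDimensional.Defs
import Mathlib.LinearAlgebra.Dimension.Free
-- import your own Groth.Agent.* helpers here

set_option autoImplicit false
universe u
open CAlg

namespace Groth.Agent.S6870

theorem nearSplit (R : Type u) [CommRing R] [IsDomain R] (M : Type u)
    [AddCommGroup M] [Module R M] [Module.Finite R M] :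
    ∃ (n : ℕ) (f : M →ₗ[R] (Fin n → R)) (g : (Fin n → R) →ₗ[R] M) (c : R),
      c ≠ 0 ∧ ∀ m, g (f m) = c • m := by
  classical
  let S := nonZeroDivisors R
  let K := Localization S
  let MK := LocalizedModule S M
  let ι : M →ₗ[R] MK := LocalizedModule.mkLinearMap S M
  let n := Module.finrank K MK
  let b : Module.Basis (Fin n) K MK := Module.finBasis K MK
  let φ : M →ₗ[R] (Fin n → K) := (b.equivFun.toLinearMap.restrictScalars R) ∘ₗ ι
  obtain ⟨s, hs⟩ := Module.Finite.fg_top (R := R) (M := M)
  obtain ⟨d, hd⟩ := IsLocalization.exist_integer_multiples S (s ×ˢ (Finset.univ : Finset (Fin n)))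
    (fun x : M × Fin n => φ x.1 x.2)
  let cm : (Fin n → R) →ₗ[R] (Fin n → K) := (Algebra.linearMap R K).compLeft (Fin n)
  have hcm : Function.Injective cm := by
    intro x y hxy
    funext i
    exact IsFractionRing.injective R K (congrFun hxy i)
  have hmem : ∀ m : M, (d : R) • φ m ∈ LinearMap.range cm := by
    intro m
    have hm : m ∈ Submodule.span R (s : Set M) := by rw [hs]; trivial
    induction hm using Submodule.span_induction with
    | mem x hx =>
      have : ∀ i : Fin n, ∃ r : R, algebraMap R K r = (d : R) • φ x i := fun i =>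
        hd (x, i) (Finset.mem_product.mpr ⟨hx, Finset.mem_univ i⟩)
      choose r hr using this
      exact ⟨r, funext fun i => hr i⟩
    | zero => simp
    | add x y _ _ hx hy => rw [map_add, smul_add]; exact add_mem hx hy
    | smul a x _ hx => rw [map_smul, smul_comm]; exact Submodule.smul_mem _ _ hx
  let f₁ : M →ₗ[R] LinearMap.range cm := LinearMap.codRestrict (LinearMap.range cm) ((d : R) • φ) hmem
  let f₀ : M →ₗ[R] (Fin n → R) := (LinearEquiv.ofInjective cm hcm).symm.toLinearMap ∘ₗ f₁
  have hf₀ : ∀ m i, algebraMap R K (f₀ m i) = (d : R) • φ m i := by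
    intro m i
    have h1 : cm (f₀ m) = (d : R) • φ m := by
      have := (LinearEquiv.ofInjective cm hcm).apply_symm_apply (f₁ m)
      exact congrArg Subtype.val this
    exact congrFun h1 i
  obtain ⟨e, he⟩ := IsLocalizedModule.exist_integer_multiples_of_finite S ι (fun i => b i)
  choose m' hm' using he
  let g₀ : (Fin n → R) →ₗ[R] M := Fintype.linearCombination R m'
  have hg₀ : ∀ m, ι (g₀ (f₀ m)) = ((d : R) * (e : R)) • ι m := by
    intro m
    simp only [g₀, Fintype.linearCombination_apply, map_sum, map_smul, hm']
    have hb := b.sum_equivFun (ι m)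
    conv_rhs => rw [← hb]
    rw [Finset.smul_sum]
    refine Finset.sum_congr rfl fun i _ => ?_
    have h2 := hf₀ m i
    have h3 : φ m i = b.equivFun (ι m) i := rfl
    rw [← h3]
    rw [← algebraMap_smul K (f₀ m i), h2, smul_assoc, smul_comm (φ m i) (e : R) (b i), mul_smul]
  let h : M →ₗ[R] M := g₀ ∘ₗ f₀ - ((d : R) * (e : R)) • LinearMap.id
  have hh : ∀ m, ι (h m) = 0 := by
    intro m
    simp only [h, LinearMap.sub_apply, LinearMap.comp_apply, LinearMap.smul_apply,
      LinearMap.id_apply, map_sub, hg₀, map_smul, sub_self]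
  have hht : ∀ m, ∃ t : S, (t : R) • h m = 0 := by
    intro m
    have := (IsLocalizedModule.eq_zero_iff S ι).mp (hh m)
    obtain ⟨t, ht⟩ := this
    exact ⟨t, ht⟩
  choose t ht using hht
  let T : R := ∏ x ∈ s, (t x : R)
  have hT0 : T ≠ 0 := Finset.prod_ne_zero_iff.mpr fun x _ => nonZeroDivisors.coe_ne_zero (t x)
  have hTh : ∀ m, T • h m = 0 := by
    intro m
    have hm : m ∈ Submodule.span R (s : Set M) := by rw [hs]; trivial
    induction hm using Submodule.span_induction with
    | mem x hx =>
      have : T = (∏ y ∈ s.erase x, (t y : R)) * (t x : R) := by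
        rw [Finset.prod_erase_mul _ _ hx]
      rw [this, mul_smul, ht, smul_zero]
    | zero => simp
    | add x y _ _ hx hy => rw [map_add, smul_add, hx, hy, add_zero]
    | smul a x _ hx => rw [map_smul, smul_comm, hx, smul_zero]
  refine ⟨n, f₀, T • g₀, T * ((d : R) * (e : R)), ?_, ?_⟩
  · exact mul_ne_zero hT0 (mul_ne_zero (nonZeroDivisors.coe_ne_zero d) (nonZeroDivisors.coe_ne_zero e))
  · intro m
    have h1 : g₀ (f₀ m) = h m + ((d : R) * (e : R)) • m := by
      simp [h]
    rw [LinearMap.smul_apply, h1, smul_add, hTh, zero_add, smul_smul]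

/-- Let `R` be a domain, `M` a finite `R`-module and `j : M → M**` the evaluation map into the double
dual. Then one nonzero `c ∈ R` kills the kernel of `j` and multiplies `M**` into the image of `j`.
(The published statement says only that the kernel and cokernel of `j` are torsion; this row gives
one such `c` for both.) -/
theorem result (R : Type u) [CommRing R] [IsDomain R] (M : Type u)
    [AddCommGroup M] [Module R M] [Module.Finite R M] :
    ∃ c : R, c ≠ 0 ∧ (∀ x : M, Module.Dual.eval R M x = 0 → c • x = 0) ∧
      ∀ y : Module.Dual R (Module.Dual R M), c • y ∈ LinearMap.range (Module.Dual.eval R M) := by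
  classical
  obtain ⟨n, f, g, c, hc, hgf⟩ := nearSplit R M
  refine ⟨c, hc, ?_, ?_⟩
  · intro x hx
    have hfx : f x = 0 := by
      funext i
      have := LinearMap.congr_fun hx ((LinearMap.proj i : (Fin n → R) →ₗ[R] R) ∘ₗ f)
      simpa using this
    rw [← hgf, hfx, map_zero]
  · intro y
    let v : Fin n → R := fun i => y ((LinearMap.proj i : (Fin n → R) →ₗ[R] R) ∘ₗ f)
    refine ⟨g v, ?_⟩
    ext φ
    rw [Module.Dual.eval_apply, LinearMap.smul_apply]
    have h1 : c • φ = ∑ i, (φ (g (Pi.single i 1))) • ((LinearMap.proj i : (Fin n → R) →ₗ[R] R) ∘ₗ f) := by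
      ext m
      rw [LinearMap.smul_apply, ← map_smul, ← hgf, LinearMap.sum_apply]
      have h2 : f m = ∑ i, (f m i) • (Pi.single i 1 : Fin n → R) := by
        funext j
        simp [Finset.sum_apply, Pi.single_apply]
      conv_lhs => rw [h2]
      rw [map_sum, map_sum]
      refine Finset.sum_congr rfl fun i _ => ?_
      simp [mul_comm]
    have h3 : g v = ∑ i, v i • g (Pi.single i 1) := by
      have h2 : v = ∑ i, (v i) • (Pi.single i 1 : Fin n → R) := by
        funext j
        simp [Finset.sum_apply, Pi.single_apply]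
      conv_lhs => rw [h2]
      rw [map_sum]
      refine Finset.sum_congr rfl fun i _ => ?_
      rw [map_smul]
    rw [← map_smul, h1, map_sum, h3, map_sum]
    refine Finset.sum_congr rfl fun i _ => ?_
    rw [map_smul, map_smul, smul_eq_mul, smul_eq_mul, mul_comm]

end Groth.Agent.S6870
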