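import Groth.Statements.S6872
import Groth.Agent.S6869
import Groth.Agent.Lib.Helper95.DomainModules
-- import your own Groth.Agent.* helpers here

set_option autoImplicit false
universe u
open CAlg

namespace Groth.Agent.S6872

/-- Let `R` be a Noetherian domain and `f : M → M'`, `g : M' → M''` linear maps between finite
`R`-modules with `f` injective and image of `f` equal to kernel of `g` (so `0 → M → M' → M''` is
exact). Then reflexivity of `M'` together with torsion-freeness of `M''` forces `M` to be reflexive. -/
theorem result (R : Type u) [CommRing R] [IsDomain R]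
    [IsNoetherianRing R] {M M' M'' : Type u} [AddCommGroup M] [Module R M] [Module.Finite R M]
    [AddCommGroup M'] [Module R M'] [Module.Finite R M'] [AddCommGroup M''] [Module R M''] [Module.Finite R M'']
    (f : M →ₗ[R] M') (g : M' →ₗ[R] M'') (hf : Function.Injective f) (hfg : Function.Exact f g)
    [Module.IsReflexive R M'] [Module.IsTorsionFree R M''] : Module.IsReflexive R M := by
  have hM' := Module.bijective_dual_eval R M'
  have hM''inj : Function.Injective (Module.Dual.eval R M'') :=
    (Groth.Agent.S6869.result R M'').mpr inferInstance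
  have hnat : ∀ x : M, Module.Dual.eval R M' (f x) = f.dualMap.dualMap (Module.Dual.eval R M x) :=
    fun _ => rfl
  constructor
  constructor
  · rw [injective_iff_map_eq_zero]
    intro x hx
    apply hf
    apply hM'.1
    rw [hnat, hx, map_zero, map_zero, map_zero]
  · intro y
    obtain ⟨m', hm'⟩ := hM'.2 (f.dualMap.dualMap y)
    have hgm' : g m' = 0 := by
      apply hM''inj
      rw [map_zero]
      ext ψ
      have h1 : Module.Dual.eval R M'' (g m') ψ = Module.Dual.eval R M' m' (g.dualMap ψ) := rfl
      rw [h1, hm']
      have h2 : f.dualMap (g.dualMap ψ) = 0 := by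
        ext x
        change ψ (g (f x)) = 0
        rw [hfg.apply_apply_eq_zero, map_zero]
      change y (f.dualMap (g.dualMap ψ)) = 0
      rw [h2, map_zero]
    obtain ⟨m, rfl⟩ := (hfg m').mp hgm'
    refine ⟨m, ?_⟩
    ext φ
    obtain ⟨c, ψ, hc, hψ⟩ := Groth.Agent.Lib.Helper95.exists_extend_smul R f hf φ
    have h3 : f.dualMap ψ = c • φ := by
      ext x
      exact hψ x
    have h4 : c * y φ = c * φ m := by
      calc c * y φ = y (c • φ) := by rw [map_smul, smul_eq_mul]
        _ = y (f.dualMap ψ) := by rw [h3]
        _ = Module.Dual.eval R M' (f m) ψ := by rw [hm']; rfl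
        _ = ψ (f m) := rfl
        _ = c * φ m := hψ m
    exact (mul_left_cancel₀ hc h4).symm

end Groth.Agent.S6872
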