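import Groth.Statements.S6873
import Groth.Agent.S6872
import Mathlib.RingTheory.Finiteness.Cardinality
import Mathlib.LinearAlgebra.Isomorphisms
-- import your own Groth.Agent.* helpers here

set_option autoImplicit false
universe u
open CAlg

namespace Groth.Agent.S6873

theorem finite_dual (R : Type u) [CommRing R] [IsNoetherianRing R] (M : Type u)
    [AddCommGroup M] [Module R M] [Module.Finite R M] : Module.Finite R (Module.Dual R M) := by
  obtain ⟨k, p, hp⟩ := Module.Finite.exists_fin' R M
  have : IsNoetherian R (Module.Dual R (Fin k → R)) := isNoetherian_of_isNoetherianRing_of_finite R _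
  exact Module.Finite.of_injective p.dualMap (LinearMap.dualMap_injective_of_surjective hp)

/-- For a Noetherian domain `R`, a finite `R`-module `M` is reflexive if and only if `M` admits an
injective `R`-linear map into `Rⁿ`, for some `n`, whose cokernel is torsion free. -/
theorem result (R : Type u) [CommRing R] [IsDomain R]
    [IsNoetherianRing R] (M : Type u) [AddCommGroup M] [Module R M] [Module.Finite R M] :
    Module.IsReflexive R M ↔ ∃ (n : ℕ) (f : M →ₗ[R] (Fin n → R)), Function.Injective f ∧
      Module.IsTorsionFree R ((Fin n → R) ⧸ LinearMap.range f) := by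
  classical
  constructor
  · intro hM
    have hfin : Module.Finite R (Module.Dual R M) := finite_dual R M
    obtain ⟨n, φ, hφ⟩ := Module.Finite.exists_fin (R := R) (M := Module.Dual R M)
    let f : M →ₗ[R] (Fin n → R) := LinearMap.pi φ
    have hbij := Module.bijective_dual_eval R M
    have hvanish : ∀ m : M, (∀ i, φ i m = 0) → m = 0 := by
      intro m hm
      apply hbij.1
      rw [map_zero]
      ext ψ
      have hψ : ψ ∈ Submodule.span R (Set.range φ) := by rw [hφ]; trivial
      rw [Module.Dual.eval_apply, LinearMap.zero_apply]
      induction hψ using Submodule.span_induction with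
      | mem x hx => obtain ⟨i, rfl⟩ := hx; exact hm i
      | zero => rfl
      | add x y _ _ hx hy => rw [LinearMap.add_apply, hx, hy, add_zero]
      | smul a x _ hx => rw [LinearMap.smul_apply, hx, smul_zero]
    have hf : Function.Injective f := by
      rw [injective_iff_map_eq_zero]
      intro m hm
      exact hvanish m fun i => congrFun hm i
    refine ⟨n, f, hf, ?_⟩
    rw [Module.isTorsionFree_iff_smul_eq_zero]
    intro c q hcq
    by_cases hc : c = 0
    · exact Or.inl hc
    right
    obtain ⟨x, rfl⟩ := Submodule.Quotient.mk_surjective _ q
    rw [← Submodule.Quotient.mk_smul, Submodule.Quotient.mk_eq_zero] at hcq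
    obtain ⟨m, hm⟩ := hcq
    rw [Submodule.Quotient.mk_eq_zero]
    let P : (Fin n → R) →ₗ[R] Module.Dual R M := Fintype.linearCombination R φ
    have hP : Function.Surjective P := by
      rw [← LinearMap.range_eq_top, Fintype.range_linearCombination, hφ]
    let X : (Fin n → R) →ₗ[R] R := Fintype.linearCombination R x
    have hker : LinearMap.ker P ≤ LinearMap.ker X := by
      intro a ha
      rw [LinearMap.mem_ker] at ha ⊢
      have h1 : c * X a = P a m := by
        simp only [X, P, Fintype.linearCombination_apply, Finset.mul_sum, LinearMap.sum_apply,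
          LinearMap.smul_apply, smul_eq_mul]
        refine Finset.sum_congr rfl fun i _ => ?_
        have : φ i m = c * x i := congrFun hm i
        rw [this]; ring
      rw [ha, LinearMap.zero_apply] at h1
      exact (mul_eq_zero.mp h1).resolve_left hc
    let y : Module.Dual R (Module.Dual R M) :=
      ((LinearMap.ker P).liftQ X hker) ∘ₗ (P.quotKerEquivOfSurjective hP).symm.toLinearMap
    have hy : ∀ a, y (P a) = X a := by
      intro a
      have : (P.quotKerEquivOfSurjective hP).symm (P a) = Submodule.Quotient.mk a := by
        rw [LinearEquiv.symm_apply_eq, LinearMap.quotKerEquivOfSurjective_apply_mk]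
      change (LinearMap.ker P).liftQ X hker ((P.quotKerEquivOfSurjective hP).symm (P a)) = _
      rw [this, Submodule.liftQ_apply]
    obtain ⟨m₀, hm₀⟩ := hbij.2 y
    refine ⟨m₀, ?_⟩
    funext i
    have h1 : P (Pi.single i 1) = φ i := by
      simp [P, Fintype.linearCombination_apply, Pi.single_apply]
    have h2 : X (Pi.single i 1) = x i := by
      simp [X, Fintype.linearCombination_apply, Pi.single_apply]
    have h3 := hy (Pi.single i 1)
    rw [h1, h2, ← hm₀] at h3
    exact h3
  · rintro ⟨n, f, hf, htf⟩
    exact Groth.Agent.S6872.result R f (LinearMap.range f).mkQ hf (LinearMap.exact_map_mkQ_range f)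

end Groth.Agent.S6873
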