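import Groth.Statements.S6871
import Groth.Agent.S6874
import Groth.Agent.S6873
import Mathlib.RingTheory.LocalProperties.Exactness
import Mathlib.Algebra.Module.FinitePresentation
import Mathlib.RingTheory.Localization.BaseChange
import Mathlib.RingTheory.Flat.Localization
import Mathlib.RingTheory.Localization.Submodule
-- import your own Groth.Agent.* helpers here

set_option autoImplicit false
universe u
open CAlg

namespace Groth.Agent.S6871

theorem reflexive_localization (R : Type u) [CommRing R] [IsDomain R] [IsNoetherianRing R]
    (M : Type u) [AddCommGroup M] [Module R M] [Module.Finite R M] [Module.IsReflexive R M]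
    (p : Ideal R) [p.IsPrime] :
    Module.IsReflexive (Localization.AtPrime p) (LocalizedModule p.primeCompl M) := by
  have h := Groth.Agent.S6874.result R (Localization.AtPrime p) M
  exact Module.equiv (LocalizedModule.equivTensorProduct p.primeCompl M).symm

section
variable (R : Type u) [CommRing R] [IsNoetherianRing R]
    (M : Type u) [AddCommGroup M] [Module R M] [Module.Finite R M]
    (p : Ideal R) [p.IsPrime]

noncomputable def D₁ : Module.Dual R M →ₗ[R]
    Module.Dual (Localization.AtPrime p) (LocalizedModule p.primeCompl M) :=
  IsLocalizedModule.mapExtendScalars p.primeCompl (LocalizedModule.mkLinearMap p.primeCompl M)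
    (Algebra.linearMap R (Localization.AtPrime p)) (Localization.AtPrime p)

theorem D₁_loc : IsLocalizedModule p.primeCompl (D₁ R M p) := by
  have : Module.FinitePresentation R M := Module.finitePresentation_of_finite R M
  unfold D₁
  infer_instance

theorem D₁_apply (φ : Module.Dual R M) (x : M) :
    D₁ R M p φ (LocalizedModule.mkLinearMap p.primeCompl M x) =
      algebraMap R (Localization.AtPrime p) (φ x) := by
  unfold D₁
  rw [IsLocalizedModule.mapExtendScalars_apply_apply, IsLocalizedModule.map_apply]
  rfl

noncomputable def D₂ : Module.Dual R (Module.Dual R M) →ₗ[R]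
    Module.Dual (Localization.AtPrime p)
      (Module.Dual (Localization.AtPrime p) (LocalizedModule p.primeCompl M)) :=
  haveI := D₁_loc R M p
  IsLocalizedModule.mapExtendScalars p.primeCompl (D₁ R M p)
    (Algebra.linearMap R (Localization.AtPrime p)) (Localization.AtPrime p)

theorem D₂_apply (y : Module.Dual R (Module.Dual R M)) (φ : Module.Dual R M) :
    D₂ R M p y (D₁ R M p φ) = algebraMap R (Localization.AtPrime p) (y φ) := by
  have := D₁_loc R M p
  unfold D₂
  rw [IsLocalizedModule.mapExtendScalars_apply_apply, IsLocalizedModule.map_apply]
  rfl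

theorem D₂_loc : IsLocalizedModule p.primeCompl (D₂ R M p) := by
  have := D₁_loc R M p
  have : Module.Finite R (Module.Dual R M) := Groth.Agent.S6873.finite_dual R M
  have : Module.FinitePresentation R (Module.Dual R M) := Module.finitePresentation_of_finite R _
  unfold D₂
  exact Module.FinitePresentation.isLocalizedModule_mapExtendScalars p.primeCompl (D₁ R M p)
    (Algebra.linearMap R (Localization.AtPrime p)) (Localization.AtPrime p)

attribute [local instance] D₁_loc D₂_loc

theorem D₂_eval (x : M) :
    D₂ R M p (Module.Dual.eval R M x) =
      Module.Dual.eval (Localization.AtPrime p) (LocalizedModule p.primeCompl M)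
        (LocalizedModule.mkLinearMap p.primeCompl M x) := by
  have := D₁_loc R M p
  apply LinearMap.restrictScalars_injective R
  apply IsLocalizedModule.linearMap_ext p.primeCompl (D₁ R M p)
    (Algebra.linearMap R (Localization.AtPrime p))
  ext φ
  simp only [LinearMap.coe_comp, LinearMap.coe_restrictScalars, Function.comp_apply]
  rw [D₂_apply, Module.Dual.eval_apply, Module.Dual.eval_apply, D₁_apply]

theorem map_eval :
    IsLocalizedModule.map p.primeCompl (LocalizedModule.mkLinearMap p.primeCompl M) (D₂ R M p)
      (Module.Dual.eval R M) =
    (Module.Dual.eval (Localization.AtPrime p) (LocalizedModule p.primeCompl M)).restrictScalars R := by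
  have := D₂_loc R M p
  apply IsLocalizedModule.linearMap_ext p.primeCompl (LocalizedModule.mkLinearMap p.primeCompl M)
    (D₂ R M p)
  ext x
  simp only [LinearMap.coe_comp, LinearMap.coe_restrictScalars, Function.comp_apply]
  rw [IsLocalizedModule.map_apply, D₂_eval]

end

theorem reflexive_of_localized_maximal (R : Type u) [CommRing R] [IsDomain R] [IsNoetherianRing R]
    (M : Type u) [AddCommGroup M] [Module R M] [Module.Finite R M]
    (h : ∀ (m : Ideal R) (_ : m.IsMaximal),
        Module.IsReflexive (Localization.AtPrime m) (LocalizedModule m.primeCompl M)) :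
    Module.IsReflexive R M := by
  constructor
  refine @bijective_of_isLocalized_maximal R M (Module.Dual R (Module.Dual R M)) _ _ _ _ _
    (fun (P : Ideal R) [P.IsMaximal] => LocalizedModule P.primeCompl M) _ _
    (fun (P : Ideal R) [P.IsMaximal] => LocalizedModule.mkLinearMap P.primeCompl M)
    (fun P _ => inferInstance)
    (fun (P : Ideal R) [P.IsMaximal] => Module.Dual (Localization.AtPrime P)
      (Module.Dual (Localization.AtPrime P) (LocalizedModule P.primeCompl M))) _ _
    (fun (P : Ideal R) [P.IsMaximal] => D₂ R M P)
    (fun P _ => D₂_loc R M P) (Module.Dual.eval R M) ?_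
  intro P hP
  rw [map_eval]
  exact (h P hP).bijective_dual_eval'

/-- Let `R` be a Noetherian domain and `M` a finite `R`-module. Then `M` is reflexive if and only if
`M_𝔭` is a reflexive `R_𝔭`-module for every prime `𝔭`, if and only if `M_𝔪` is a reflexive
`R_𝔪`-module for every maximal ideal `𝔪`. -/
theorem result (R : Type u) [CommRing R] [IsDomain R] [IsNoetherianRing R] (M : Type u)
    [AddCommGroup M] [Module R M] [Module.Finite R M] :
    (Module.IsReflexive R M ↔
      ∀ (p : Ideal R) [p.IsPrime], Module.IsReflexive (Localization.AtPrime p) (LocalizedModule p.primeCompl M)) ∧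
    (Module.IsReflexive R M ↔
      ∀ (m : Ideal R) (_ : m.IsMaximal),
        Module.IsReflexive (Localization.AtPrime m) (LocalizedModule m.primeCompl M)) := by
  have hfwd : Module.IsReflexive R M → ∀ (p : Ideal R) [p.IsPrime],
      Module.IsReflexive (Localization.AtPrime p) (LocalizedModule p.primeCompl M) :=
    fun _ p _ => reflexive_localization R M p
  refine ⟨⟨hfwd, fun h => ?_⟩, ⟨fun hM m hm => ?_, fun h => ?_⟩⟩
  · exact reflexive_of_localized_maximal R M fun m hm => h m
  · exact hfwd hM m
  · exact reflexive_of_localized_maximal R M h

end Groth.Agent.S6871
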