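import Groth.Statements.S6875
import Groth.Agent.S6872
import Mathlib.RingTheory.Finiteness.Cardinality
import Mathlib.LinearAlgebra.Isomorphisms
import Mathlib.LinearAlgebra.FreeModule.Finite.Basic
import Mathlib.LinearAlgebra.StdBasis
-- import your own Groth.Agent.* helpers here

set_option autoImplicit false
universe u
open CAlg

namespace Groth.Agent.S6875

theorem reflexive_pi (R : Type u) [CommRing R] (N : Type u) [AddCommGroup N] [Module R N]
    [Module.IsReflexive R N] (n : ℕ) : Module.IsReflexive R (Fin n → N) := by
  induction n with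
  | zero =>
    have : Subsingleton (Fin 0 → N) := inferInstance
    have h1 : Subsingleton (Module.Dual R (Module.Dual R (Fin 0 → N))) := by
      have h0 : Subsingleton (Module.Dual R (Fin 0 → N)) :=
        ⟨fun a b => LinearMap.ext fun x => by rw [Subsingleton.elim x 0, map_zero, map_zero]⟩
      exact ⟨fun a b => LinearMap.ext fun x => by rw [Subsingleton.elim x 0, map_zero, map_zero]⟩
    exact ⟨⟨fun a b _ => Subsingleton.elim a b, fun y => ⟨0, Subsingleton.elim _ _⟩⟩⟩
  | succ n ih =>
    exact Module.equiv (Fin.consLinearEquiv R (fun _ : Fin (n + 1) => N))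

theorem reflexive_hom_free (R : Type u) [CommRing R] (N : Type u) [AddCommGroup N] [Module R N]
    [Module.IsReflexive R N] (n : ℕ) : Module.IsReflexive R ((Fin n → R) →ₗ[R] N) := by
  have := reflexive_pi R N n
  exact Module.equiv ((Pi.basisFun R (Fin n)).constr R)

theorem torsionFree_hom (R : Type u) [CommRing R] (X N : Type u) [AddCommGroup X] [Module R X]
    [AddCommGroup N] [Module R N] [Module.IsTorsionFree R N] :
    Module.IsTorsionFree R (X →ₗ[R] N) :=
  Function.Injective.moduleIsTorsionFree (fun f : X →ₗ[R] N => (f : X → N))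
    DFunLike.coe_injective (fun _ _ => rfl)

/-- Let `R` be a Noetherian domain, `M` a finite `R`-module and `N` a finite reflexive `R`-module. Then
`Hom_R(M, N)` is reflexive. -/
theorem result (R : Type u) [CommRing R] [IsDomain R] [IsNoetherianRing R]
    (M N : Type u) [AddCommGroup M] [Module R M] [Module.Finite R M] [AddCommGroup N] [Module R N] [Module.Finite R N]
    [Module.IsReflexive R N] : Module.IsReflexive R (M →ₗ[R] N) := by
  obtain ⟨b, p, hp⟩ := Module.Finite.exists_fin' R M
  let K := LinearMap.ker p
  have hKfin : Module.Finite R K := inferInstance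
  obtain ⟨a, q, hq⟩ := Module.Finite.exists_fin' R K
  let F : (M →ₗ[R] N) →ₗ[R] ((Fin b → R) →ₗ[R] N) := LinearMap.lcomp R N p
  let G : ((Fin b → R) →ₗ[R] N) →ₗ[R] ((Fin a → R) →ₗ[R] N) := LinearMap.lcomp R N (K.subtype ∘ₗ q)
  have hF : Function.Injective F := by
    intro h₁ h₂ h
    ext m
    obtain ⟨x, rfl⟩ := hp m
    exact LinearMap.congr_fun h x
  have hFG : Function.Exact F G := by
    intro h
    constructor
    · intro hG
      have hker : LinearMap.ker p ≤ LinearMap.ker h := by
        intro x hx
        obtain ⟨z, hz⟩ := hq ⟨x, hx⟩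
        have := LinearMap.congr_fun hG z
        simp only [G, LinearMap.lcomp_apply, LinearMap.comp_apply, hz, LinearMap.zero_apply] at this
        exact this
      let h' : M →ₗ[R] N :=
        ((LinearMap.ker p).liftQ h hker) ∘ₗ (p.quotKerEquivOfSurjective hp).symm.toLinearMap
      refine ⟨h', LinearMap.ext fun x => ?_⟩
      have : (p.quotKerEquivOfSurjective hp).symm (p x) = Submodule.Quotient.mk x := by
        rw [LinearEquiv.symm_apply_eq, LinearMap.quotKerEquivOfSurjective_apply_mk]
      change (LinearMap.ker p).liftQ h hker ((p.quotKerEquivOfSurjective hp).symm (p x)) = _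
      rw [this, Submodule.liftQ_apply]
    · rintro ⟨h', rfl⟩
      refine LinearMap.ext fun z => ?_
      change h' (p ((q z : K) : Fin b → R)) = 0
      rw [(q z).2, map_zero]
  have hM'refl : Module.IsReflexive R ((Fin b → R) →ₗ[R] N) := reflexive_hom_free R N b
  have hM''tf : Module.IsTorsionFree R ((Fin a → R) →ₗ[R] N) := torsionFree_hom R _ N
  have hfin : Module.Finite R (M →ₗ[R] N) := by
    have : IsNoetherian R ((Fin b → R) →ₗ[R] N) := isNoetherian_of_isNoetherianRing_of_finite R _
    exact Module.Finite.of_injective F hF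
  exact Groth.Agent.S6872.result R F G hF hFG

end Groth.Agent.S6875
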