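import Groth.Statements.S6876
import Groth.Agent.Lib.Helper67.SuppLoc

set_option autoImplicit false
universe u
open CAlg

namespace Groth.Agent.S6876

open Groth.Agent.Lib.Helper67 in
theorem isSMulRegular_linearMap {R : Type u} [CommRing R] (M N : Type u) [AddCommGroup M]
    [Module R M] [AddCommGroup N] [Module R N] {x : R} (hx : IsSMulRegular N x) :
    IsSMulRegular (M →ₗ[R] N) x := by
  intro f g hfg
  ext m
  apply hx
  have := congrArg (fun h : M →ₗ[R] N => h m) hfg
  simpa using this

open scoped Pointwise in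
theorem exists_eq_smul_of_forall_mem {R : Type u} [CommRing R] (M N : Type u) [AddCommGroup M]
    [Module R M] [AddCommGroup N] [Module R N] {x : R} (hx : IsSMulRegular N x)
    (f : M →ₗ[R] N) (hf : ∀ m, f m ∈ x • (⊤ : Submodule R N)) :
    ∃ g : M →ₗ[R] N, f = x • g := by
  have hinj : Function.Injective (LinearMap.lsmul R N x) := hx
  have hrange : ∀ m, f m ∈ LinearMap.range (LinearMap.lsmul R N x) := by
    intro m
    obtain ⟨n, -, hn⟩ := (Submodule.mem_smul_pointwise_iff_exists _ _ _).mp (hf m)
    exact ⟨n, hn⟩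
  refine ⟨(LinearEquiv.ofInjective (LinearMap.lsmul R N x) hinj).symm.toLinearMap ∘ₗ
    f.codRestrict _ hrange, ?_⟩
  ext m
  have := (LinearEquiv.ofInjective (LinearMap.lsmul R N x) hinj).apply_symm_apply
    ⟨f m, hrange m⟩
  have h2 := congrArg Subtype.val this
  simp only [LinearEquiv.ofInjective_apply, LinearMap.lsmul_apply] at h2
  simp only [LinearMap.smul_apply, LinearMap.coe_comp, LinearEquiv.coe_coe, Function.comp_apply]
  exact h2.symm

open scoped Pointwise in
theorem isSMulRegular_quotSMulTop_linearMap {R : Type u} [CommRing R] (M N : Type u)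
    [AddCommGroup M] [Module R M] [AddCommGroup N] [Module R N] {x y : R}
    (hx : IsSMulRegular N x) (hy : IsSMulRegular (QuotSMulTop x N) y) :
    IsSMulRegular (QuotSMulTop x (M →ₗ[R] N)) y := by
  rw [isSMulRegular_iff_right_eq_zero_of_smul]
  intro h hh
  obtain ⟨f, rfl⟩ := Submodule.Quotient.mk_surjective _ h
  rw [← Submodule.Quotient.mk_smul, Submodule.Quotient.mk_eq_zero] at hh
  rw [Submodule.Quotient.mk_eq_zero]
  obtain ⟨g, -, hg⟩ := (Submodule.mem_smul_pointwise_iff_exists _ _ _).mp hh
  have hf : ∀ m, f m ∈ x • (⊤ : Submodule R N) := by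
    intro m
    have h1 : y • (Submodule.Quotient.mk (f m) : QuotSMulTop x N) = 0 := by
      rw [← Submodule.Quotient.mk_smul, Submodule.Quotient.mk_eq_zero]
      have : y • f m = x • g m := by
        have := congrArg (fun h : M →ₗ[R] N => h m) hg
        simpa using this.symm
      rw [this]
      exact Submodule.smul_mem_pointwise_smul _ _ _ trivial
    have h2 := (isSMulRegular_iff_right_eq_zero_of_smul.mp hy) _ h1
    exact (Submodule.Quotient.mk_eq_zero _).mp h2
  obtain ⟨g', hg'⟩ := exists_eq_smul_of_forall_mem M N hx f hf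
  rw [hg']
  exact Submodule.smul_mem_pointwise_smul _ _ _ trivial

/-- Let `R` be a Noetherian local ring and `M, N` finite `R`-modules. If `N` has depth `≥ 1` then so
does `Hom_R(M, N)`; if `N` has depth `≥ 2` then so does `Hom_R(M, N)`. -/
theorem result (R : Type u) [CommRing R] [IsNoetherianRing R] [IsLocalRing R]
    (M N : Type u) [AddCommGroup M] [Module R M] [Module.Finite R M] [AddCommGroup N] [Module R N] [Module.Finite R N] :
    (1 ≤ LocCoh.depth R N → 1 ≤ LocCoh.depth R (M →ₗ[R] N)) ∧
    (2 ≤ LocCoh.depth R N → 2 ≤ LocCoh.depth R (M →ₗ[R] N)) := by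
  open Groth.Agent.Lib.Helper67 in
  have htriv : IsLocalRing.maximalIdeal R • (⊤ : Submodule R N) = ⊤ →
      ∀ n : ℕ, (n : ℕ∞) ≤ LocCoh.depth R (M →ₗ[R] N) := by
    intro h n
    have hsub : Subsingleton N := by
      by_contra hcon
      rw [not_subsingleton_iff_nontrivial] at hcon
      exact maximalIdeal_smul_top_ne_top N h
    have htop : IsLocalRing.maximalIdeal R • (⊤ : Submodule R (M →ₗ[R] N)) = ⊤ := by
      ext z
      have : z = 0 := by
        ext m
        exact Subsingleton.elim _ _
      simp [this]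
    rw [LocCoh.depth, idealDepth_eq_top_of_smul_top_eq_top _ _ htop]
    exact le_top
  constructor
  · intro h
    rw [LocCoh.depth, one_le_idealDepth_iff] at h
    rcases h with h | ⟨x, hxm, hx⟩
    · exact_mod_cast htriv h 1
    · rw [LocCoh.depth, one_le_idealDepth_iff]
      exact Or.inr ⟨x, hxm, isSMulRegular_linearMap M N hx⟩
  · intro h
    have h' : ((2 : ℕ) : ℕ∞) ≤ LocCoh.depth R N := by exact_mod_cast h
    rw [LocCoh.depth, le_idealDepth_iff] at h'
    rcases h' with h' | ⟨rs, hlen, hreg, hmem⟩
    · exact_mod_cast htriv h' 2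
    · match rs, hlen, hreg, hmem with
      | [x, y], _, hreg, hmem =>
        rw [RingTheory.Sequence.isWeaklyRegular_cons_iff,
          RingTheory.Sequence.isWeaklyRegular_cons_iff] at hreg
        have h2 := length_le_idealDepth (IsLocalRing.maximalIdeal R) (M →ₗ[R] N) [x, y]
          (by
            rw [RingTheory.Sequence.isWeaklyRegular_cons_iff,
              RingTheory.Sequence.isWeaklyRegular_cons_iff]
            exact ⟨isSMulRegular_linearMap M N hreg.1,
              isSMulRegular_quotSMulTop_linearMap M N hreg.1 hreg.2.1,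
              RingTheory.Sequence.IsWeaklyRegular.nil R _⟩) hmem
        exact_mod_cast h2

end Groth.Agent.S6876
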