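import Groth.Statements.S6877
import Mathlib
import Groth.Agent.Lib.Helper67.Depth2

set_option autoImplicit false
universe u
open CAlg

namespace Groth.Agent.S6877

open LocCoh RingTheory.Sequence Pointwise

section HomReg
variable {A : Type u} [CommRing A] {M N : Type u} [AddCommGroup M] [Module A M]
  [AddCommGroup N] [Module A N]

theorem isSMulRegular_hom {x : A} (hx : IsSMulRegular N x) : IsSMulRegular (M →ₗ[A] N) x := by
  intro f g hfg
  ext m
  apply hx
  have := LinearMap.congr_fun hfg m
  simpa using this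

theorem isSMulRegular_quot_hom {x y : A} (hx : IsSMulRegular N x)
    (hy : IsSMulRegular (QuotSMulTop x N) y) :
    IsSMulRegular (QuotSMulTop x (M →ₗ[A] N)) y := by
  let comp : (M →ₗ[A] N) →ₗ[A] (M →ₗ[A] QuotSMulTop x N) :=
    LinearMap.compRight A (Submodule.mkQ (x • (⊤ : Submodule A N)))
  have hcomp : ∀ f m, comp f m = Submodule.Quotient.mk (f m) := fun f m => rfl
  have hle : x • (⊤ : Submodule A (M →ₗ[A] N)) ≤ LinearMap.ker comp := by
    intro f hf
    obtain ⟨g, -, rfl⟩ := (Submodule.mem_smul_pointwise_iff_exists _ _ _).mp hf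
    rw [LinearMap.mem_ker]
    ext m
    rw [hcomp, LinearMap.zero_apply, Submodule.Quotient.mk_eq_zero, LinearMap.smul_apply]
    exact Submodule.smul_mem_pointwise_smul _ _ _ Submodule.mem_top
  have hker : LinearMap.ker comp ≤ x • (⊤ : Submodule A (M →ₗ[A] N)) := by
    intro f hf
    rw [LinearMap.mem_ker] at hf
    have hmem : ∀ m, ∃ n, x • n = f m := by
      intro m
      have h1 : comp f m = 0 := by rw [hf]; rfl
      rw [hcomp, Submodule.Quotient.mk_eq_zero] at h1
      obtain ⟨n, -, hn⟩ := (Submodule.mem_smul_pointwise_iff_exists _ _ _).mp h1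
      exact ⟨n, hn⟩
    choose g hg using hmem
    let g' : M →ₗ[A] N :=
      { toFun := g
        map_add' := by
          intro a b
          apply hx
          change x • g (a + b) = x • (g a + g b)
          rw [smul_add, hg, hg, hg, map_add]
        map_smul' := by
          intro c a
          apply hx
          change x • g (c • a) = x • ((RingHom.id A) c • g a)
          rw [RingHom.id_apply, smul_comm, hg, hg, map_smul] }
    rw [Submodule.mem_smul_pointwise_iff_exists]
    refine ⟨g', Submodule.mem_top, ?_⟩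
    ext m
    exact hg m
  let φ : QuotSMulTop x (M →ₗ[A] N) →ₗ[A] (M →ₗ[A] QuotSMulTop x N) :=
    Submodule.liftQ _ comp hle
  have hφ : Function.Injective φ := by
    rw [← LinearMap.ker_eq_bot]
    exact Submodule.ker_liftQ_eq_bot _ _ _ hker
  intro a b hab
  apply hφ
  apply isSMulRegular_hom hy
  change y • φ a = y • φ b
  rw [← map_smul, ← map_smul]
  exact congrArg φ hab

end HomReg


section DepthHom
variable {A : Type u} [CommRing A] [IsLocalRing A] (M N : Type u) [AddCommGroup M] [Module A M]
  [AddCommGroup N] [Module A N] [Module.Finite A N]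

theorem le_depth_hom (j : ℕ) (hj : j ≤ 2) (h : (j : ℕ∞) ≤ depth A N) :
    (j : ℕ∞) ≤ depth A (M →ₗ[A] N) := by
  unfold depth at h ⊢
  rw [Groth.Agent.Lib.Helper67.le_idealDepth_iff] at h ⊢
  rcases h with h | ⟨rs, hlen, hreg, hmem⟩
  · left
    have hbot : (⊤ : Submodule A N) = ⊥ :=
      Submodule.eq_bot_of_le_smul_of_le_jacobson_bot (IsLocalRing.maximalIdeal A) ⊤
        Module.Finite.fg_top h.ge
        (IsLocalRing.jacobson_eq_maximalIdeal ⊥ bot_ne_top).ge
    have hsub : Subsingleton N := by
      constructor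
      intro a b
      have ha : a ∈ (⊤ : Submodule A N) := Submodule.mem_top
      have hb : b ∈ (⊤ : Submodule A N) := Submodule.mem_top
      rw [hbot, Submodule.mem_bot] at ha hb
      rw [ha, hb]
    have : Subsingleton (M →ₗ[A] N) := ⟨fun f g => LinearMap.ext fun m => Subsingleton.elim _ _⟩
    exact Subsingleton.elim _ _
  · right
    match rs, hlen, hreg, hmem with
    | [], hlen, _, _ =>
      exact ⟨[], hlen, IsWeaklyRegular.nil A _, fun r hr => absurd hr (by simp)⟩
    | [x], hlen, hreg, hmem =>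
      refine ⟨[x], hlen, ?_, hmem⟩
      rw [isWeaklyRegular_cons_iff] at hreg ⊢
      exact ⟨isSMulRegular_hom hreg.1, IsWeaklyRegular.nil A _⟩
    | [x, y], hlen, hreg, hmem =>
      refine ⟨[x, y], hlen, ?_, hmem⟩
      rw [isWeaklyRegular_cons_iff] at hreg ⊢
      obtain ⟨hx, hreg'⟩ := hreg
      rw [isWeaklyRegular_cons_iff] at hreg' ⊢
      exact ⟨isSMulRegular_hom hx, isSMulRegular_quot_hom hx hreg'.1, IsWeaklyRegular.nil A _⟩
    | _ :: _ :: _ :: _, hlen, _, _ =>
      exfalso
      simp at hlen
      omega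

end DepthHom

section SuppHom
variable {A : Type u} [CommRing A] (M N : Type u) [AddCommGroup M] [Module A M]
  [AddCommGroup N] [Module A N] [Module.Finite A M]

theorem support_hom_subset : Module.support A (M →ₗ[A] N) ⊆ Module.support A N := by
  classical
  intro q hq
  rw [Module.mem_support_iff_exists_annihilator] at hq ⊢
  obtain ⟨h, hh⟩ := hq
  obtain ⟨s, hs⟩ := (Module.Finite.fg_top : (⊤ : Submodule A M).FG)
  by_contra hcon
  push Not at hcon
  have hex : ∀ m ∈ s, ∃ a, a • h m = 0 ∧ a ∉ q.asIdeal := by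
    intro m _
    have := hcon (h m)
    obtain ⟨a, ha, haq⟩ := Set.not_subset.mp this
    exact ⟨a, Submodule.mem_annihilator_span_singleton _ _ |>.mp ha, haq⟩
  choose! a ha1 ha2 using hex
  have hprod : (∏ m ∈ s, a m) ∉ q.asIdeal := by
    intro hmem
    obtain ⟨m, hm, hmq⟩ := (Ideal.IsPrime.prod_mem_iff (hp := q.isPrime)).mp hmem
    exact ha2 m hm hmq
  apply hprod
  apply hh
  rw [Submodule.mem_annihilator_span_singleton]
  ext m
  have hm : m ∈ Submodule.span A (s : Set M) := by rw [hs]; exact Submodule.mem_top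
  rw [LinearMap.smul_apply, LinearMap.zero_apply]
  induction hm using Submodule.span_induction with
  | mem m hm =>
    rw [← Finset.mul_prod_erase s a hm, mul_comm, mul_smul, ha1 m hm, smul_zero]
  | zero => rw [map_zero, smul_zero]
  | add x y _ _ hx hy => rw [map_add, smul_add, hx, hy, add_zero]
  | smul c x _ hx => rw [map_smul, smul_comm, hx, smul_zero]

theorem supportDim_hom_le : Module.supportDim A (M →ₗ[A] N) ≤ Module.supportDim A N := by
  unfold Module.supportDim
  exact Order.krullDim_le_of_strictMono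
    (fun q : Module.support A (M →ₗ[A] N) => (⟨q.1, support_hom_subset M N q.2⟩ : Module.support A N))
    (fun a b hab => hab)

end SuppHom

theorem sk_transfer (k : ℕ) (hk : k ≤ 2) (dN dH : ℕ∞) (sN sH : WithBot ℕ∞) (hs : sH ≤ sN)
    (hd : ∀ j : ℕ, j ≤ 2 → (j : ℕ∞) ≤ dN → (j : ℕ∞) ≤ dH)
    (h : min (k : WithBot ℕ∞) sN ≤ ((dN : ℕ∞) : WithBot ℕ∞)) :
    min (k : WithBot ℕ∞) sH ≤ ((dH : ℕ∞) : WithBot ℕ∞) := by
  by_cases hkd : (k : ℕ∞) ≤ dN
  · refine le_trans (min_le_left _ _) ?_
    exact_mod_cast hd k hk hkd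
  · rw [not_le] at hkd
    obtain ⟨e, he⟩ := ENat.ne_top_iff_exists.mp (ne_top_of_lt hkd)
    have hek : e < k := by rw [← he] at hkd; exact_mod_cast hkd
    have hsN : sN ≤ ((dN : ℕ∞) : WithBot ℕ∞) := by
      rcases le_total (k : WithBot ℕ∞) sN with h2 | h2
      · rw [min_eq_left h2] at h
        exfalso
        have : (k : ℕ∞) ≤ dN := by exact_mod_cast h
        exact absurd this (not_le.mpr hkd)
      · rwa [min_eq_right h2] at h
    have hedH : (e : ℕ∞) ≤ dH := hd e (by omega) (by rw [he])
    calc min (k : WithBot ℕ∞) sH ≤ sH := min_le_right _ _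
      _ ≤ sN := hs
      _ ≤ ((dN : ℕ∞) : WithBot ℕ∞) := hsN
      _ = (((e : ℕ) : ℕ∞) : WithBot ℕ∞) := by rw [he]
      _ ≤ ((dH : ℕ∞) : WithBot ℕ∞) := by exact_mod_cast hedH

theorem main (R : Type u) [CommRing R] [IsNoetherianRing R]
    (M N : Type u) [AddCommGroup M] [Module R M] [Module.Finite R M] [AddCommGroup N] [Module R N]
    [Module.Finite R N] (k : ℕ) (hk : k ≤ 2) (h : HasSk k R N) : HasSk k R (M →ₗ[R] N) := by
  intro p hp
  have hfp : Module.FinitePresentation R M := Module.finitePresentation_of_finite R M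
  let e : LocalizedModule p.primeCompl (M →ₗ[R] N) ≃ₗ[Localization.AtPrime p]
      (LocalizedModule p.primeCompl M →ₗ[Localization.AtPrime p] LocalizedModule p.primeCompl N) :=
    LinearEquiv.extendScalarsOfIsLocalization p.primeCompl (Localization.AtPrime p)
      (Module.FinitePresentation.linearEquivMapExtendScalars p.primeCompl)
  rw [Groth.Agent.Lib.Helper67.depth_congr e, Module.supportDim_eq_of_equiv e]
  exact sk_transfer k hk _ _ _ _ (supportDim_hom_le _ _)
    (fun j hj hjd => le_depth_hom _ _ j hj hjd) (h p)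

/-- Let `R` be a Noetherian ring and `M, N` finite `R`-modules. If `N` has `(S_1)`, resp. `(S_2)`, then
so does `Hom_R(M, N)`. (The published statement has a third part, over a domain: `N` torsion free
with `(S_2)` implies the same for `Hom_R(M, N)`; this row states parts one and two.) -/
theorem result (R : Type u) [CommRing R] [IsNoetherianRing R]
    (M N : Type u) [AddCommGroup M] [Module R M] [Module.Finite R M] [AddCommGroup N] [Module R N] [Module.Finite R N] :
    (LocCoh.HasSk 1 R N → LocCoh.HasSk 1 R (M →ₗ[R] N)) ∧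
    (LocCoh.HasSk 2 R N → LocCoh.HasSk 2 R (M →ₗ[R] N)) := by
  exact ⟨main R M N 1 (by norm_num), main R M N 2 le_rfl⟩

end Groth.Agent.S6877
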