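import Groth.Statements.S6879
-- import your own Groth.Agent.* helpers here
import Groth.Agent.Lib.Helper85.Reflexive2
import Groth.Agent.Lib.Helper67.Depth2

set_option autoImplicit false
universe u
open CAlg

namespace Groth.Agent.S6879

open Module Groth.Agent.Lib.Helper85.Reflexive

/-- the non-reflexive locus is closed -/
theorem exists_ideal_nonrefl (A : Type u) [CommRing A] [IsNoetherianRing A] (G : Type u)
    [AddCommGroup G] [Module A G] [Module.Finite A G] :
    ∃ I : Ideal A, ∀ (p : Ideal A) [p.IsPrime], I ≤ p ↔
      ¬ Module.IsReflexive (Localization.AtPrime p) (LocalizedModule p.primeCompl G) := by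
  refine ⟨Module.annihilator A (LinearMap.ker (Dual.eval A G)) ⊓
    Module.annihilator A (Dual A (Dual A G) ⧸ LinearMap.range (Dual.eval A G)), ?_⟩
  intro p hp
  constructor
  · intro hle hrefl
    rcases hp.inf_le.mp hle with h | h
    · have hsupp : (⟨p, hp⟩ : PrimeSpectrum A) ∈
          Module.support A (LinearMap.ker (Dual.eval A G)) := by
        rw [Module.mem_support_iff_of_finite]; exact h
      obtain ⟨x, hx⟩ := Module.mem_support_iff'.mp hsupp
      obtain ⟨s, hs, hsx⟩ := exists_smul_eq_zero p G (x : G) (fun φ => by
        have := x.2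
        rw [LinearMap.mem_ker] at this
        have h2 := LinearMap.congr_fun this φ
        rw [Dual.eval_apply, LinearMap.zero_apply] at h2
        exact h2)
      exact hx s hs (Subtype.ext (by simpa using hsx))
    · have hsupp : (⟨p, hp⟩ : PrimeSpectrum A) ∈
          Module.support A (Dual A (Dual A G) ⧸ LinearMap.range (Dual.eval A G)) := by
        rw [Module.mem_support_iff_of_finite]; exact h
      obtain ⟨c, hc⟩ := Module.mem_support_iff'.mp hsupp
      obtain ⟨ξ, rfl⟩ := Submodule.Quotient.mk_surjective _ c
      obtain ⟨s, hs, hsx⟩ := exists_smul_mem_range p G ξ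
      apply hc s hs
      rw [← Submodule.Quotient.mk_smul, Submodule.Quotient.mk_eq_zero]
      exact hsx
  · intro hnr
    by_contra hle
    obtain ⟨s, hsI, hsp⟩ := SetLike.not_le_iff_exists.mp hle
    apply hnr
    apply isReflexive_localization_of_smul p G s hsp
    · intro x hx
      have h1 := Module.mem_annihilator.mp hsI.1 ⟨x, LinearMap.mem_ker.mpr hx⟩
      have h2 := congrArg Subtype.val h1
      simpa using h2
    · intro ξ
      have h1 := Module.mem_annihilator.mp hsI.2 (Submodule.Quotient.mk ξ)
      rw [← Submodule.Quotient.mk_smul, Submodule.Quotient.mk_eq_zero] at h1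
      exact h1

/-- over a zero-dimensional local ring, depth ≥ 2 forces the module to vanish -/
theorem subsingleton_of_two_le_depth (A : Type u) [CommRing A] [IsNoetherianRing A] [IsLocalRing A]
    (hA : ringKrullDim A ≤ 0)
    (G : Type u) [AddCommGroup G] [Module A G] [Module.Finite A G]
    (h : 2 ≤ LocCoh.depth A G) : Subsingleton G := by
  by_contra hcon
  rw [not_subsingleton_iff_nontrivial] at hcon
  have h1 := Groth.Agent.Lib.Helper67.depth_le_supportDim (R := A) G
  have h2 := Module.supportDim_le_ringKrullDim A G
  have h3 : ((LocCoh.depth A G : ℕ∞) : WithBot ℕ∞) ≤ 0 := h1.trans (h2.trans hA)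
  have h4 : LocCoh.depth A G ≤ 0 := by exact_mod_cast h3
  have h5 := h.trans h4
  simp at h5

/-- Let `R` be a Noetherian domain and `M` a finite `R`-module. Then `M` is reflexive if and only if for
every prime `𝔭` of `R` either `M_𝔭` is a reflexive `R_𝔭`-module or `depth(M_𝔭) ≥ 2`. -/
theorem result (R : Type u) [CommRing R] [IsDomain R]
    [IsNoetherianRing R] (M : Type u) [AddCommGroup M] [Module R M] [Module.Finite R M] :
    Module.IsReflexive R M ↔ ∀ (p : Ideal R) [p.IsPrime],
      Module.IsReflexive (Localization.AtPrime p) (LocalizedModule p.primeCompl M) ∨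
        2 ≤ LocCoh.depth (Localization.AtPrime p) (LocalizedModule p.primeCompl M) := by
  constructor
  · intro h p hp
    exact Or.inl (isReflexive_localization p M)
  · intro h
    obtain ⟨I, hI⟩ := exists_ideal_nonrefl R M
    -- the generic point is reflexive
    have hbot : Module.IsReflexive (Localization.AtPrime (⊥ : Ideal R))
        (LocalizedModule (⊥ : Ideal R).primeCompl M) := by
      rcases h ⊥ with h1 | h1
      · exact h1
      · have hdim : ringKrullDim (Localization.AtPrime (⊥ : Ideal R)) ≤ 0 := by
          rw [IsLocalization.AtPrime.ringKrullDim_eq_height (⊥ : Ideal R)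
            (Localization.AtPrime (⊥ : Ideal R))]
          have : (⊥ : Ideal R).height = 0 := by
            rw [Ideal.height_eq_zero_iff]
            exact IsDomain.minimalPrimes_eq_singleton_bot R ▸ Set.mem_singleton _
          rw [this]
          exact le_rfl
        haveI := subsingleton_of_two_le_depth _ hdim _ h1
        exact isReflexive_of_subsingleton _ _
    have hIne : I ≠ ⊥ := by
      intro hIbot
      have := (hI ⊥).mp (hIbot ▸ le_rfl)
      exact this hbot
    apply isReflexive_of_depth M I
    · rw [Groth.Agent.Lib.Helper67.one_le_idealDepth_iff]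
      right
      obtain ⟨r, hrI, hr0⟩ := Submodule.exists_mem_ne_zero_of_ne_bot hIne
      refine ⟨r, hrI, ?_⟩
      intro a b hab
      exact mul_left_cancel₀ hr0 hab
    · intro p hp
      have := (hI p.asIdeal).not.mp hp
      exact not_not.mp this
    · rw [Groth.Agent.Lib.Helper67.idealDepth_eq_iInf_depth_localization]
      refine le_iInf₂ fun p hp => ?_
      rcases h p.asIdeal with h1 | h1
      · exact absurd h1 ((hI p.asIdeal).mp hp)
      · exact h1

end Groth.Agent.S6879
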