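import Groth.Statements.S6881
import Mathlib

set_option autoImplicit false
universe u
open CAlg

namespace Groth.Agent.S6881
open scoped nonZeroDivisors

open Module

section

variable (A K L : Type u) [CommRing A] [IsDomain A]
    [Field K] [Algebra A K] [IsFractionRing A K] [Field L] [Algebra K L] [FiniteDimensional K L]
    [Algebra A L] [IsScalarTower A K L]

/-- the inclusion of the integral closure -/
noncomputable abbrev jj : ↥(integralClosure A L) →ₗ[A] L :=
  (IsScalarTower.toAlgHom A ↥(integralClosure A L) L).toLinearMap

include K in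
theorem isLocJ : IsLocalizedModule A⁰ (jj A L) := by
  have : IsLocalization (Algebra.algebraMapSubmonoid ↥(integralClosure A L) A⁰) L :=
    IsIntegralClosure.isLocalization A K L ↥(integralClosure A L)
  infer_instance

/-- extension of functionals -/
noncomputable def iota : Dual A ↥(integralClosure A L) →ₗ[A] Dual K L :=
  haveI := isLocJ A K L
  IsLocalizedModule.mapExtendScalars A⁰ (jj A L) (Algebra.linearMap A K) K

theorem iota_apply (φ : Dual A ↥(integralClosure A L)) (b : ↥(integralClosure A L)) :
    iota A K L φ (b : L) = algebraMap A K (φ b) := by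
  have := isLocJ A K L
  have h := IsLocalizedModule.map_apply A⁰ (jj A L) (Algebra.linearMap A K) φ b
  simpa [iota] using h

theorem isLocIota [Module.FinitePresentation A ↥(integralClosure A L)] :
    IsLocalizedModule A⁰ (iota A K L) := by
  have := isLocJ A K L
  unfold iota
  infer_instance

/-- extension of double functionals -/
noncomputable def Xi [Module.FinitePresentation A ↥(integralClosure A L)] :
    Dual A (Dual A ↥(integralClosure A L)) →ₗ[A] Dual K (Dual K L) :=
  haveI := isLocIota A K L
  IsLocalizedModule.mapExtendScalars A⁰ (iota A K L) (Algebra.linearMap A K) K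

theorem Xi_apply [Module.FinitePresentation A ↥(integralClosure A L)]
    (ξ : Dual A (Dual A ↥(integralClosure A L))) (φ : Dual A ↥(integralClosure A L)) :
    Xi A K L ξ (iota A K L φ) = algebraMap A K (ξ φ) := by
  have := isLocIota A K L
  have h := IsLocalizedModule.map_apply A⁰ (iota A K L) (Algebra.linearMap A K) ξ φ
  simpa [Xi] using h


variable [Module.FinitePresentation A ↥(integralClosure A L)]

/-- the element of `L` attached to a double functional -/
noncomputable def theta : Dual A (Dual A ↥(integralClosure A L)) →ₗ[A] L :=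
  ((Module.evalEquiv K L).symm.toLinearMap.restrictScalars A) ∘ₗ Xi A K L

theorem theta_spec (ξ : Dual A (Dual A ↥(integralClosure A L))) (ψ : Dual K L) :
    ψ (theta A K L ξ) = Xi A K L ξ ψ := by
  simp only [theta, LinearMap.coe_comp, Function.comp_apply, LinearMap.coe_restrictScalars,
    LinearEquiv.coe_coe]
  exact Module.apply_evalEquiv_symm_apply K L ψ _

theorem iota_theta (ξ : Dual A (Dual A ↥(integralClosure A L))) (φ : Dual A ↥(integralClosure A L)) :
    iota A K L φ (theta A K L ξ) = algebraMap A K (ξ φ) := by
  rw [theta_spec, Xi_apply]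

theorem exists_smul_eq_iota (ψ : Dual K L) :
    ∃ (φ : Dual A ↥(integralClosure A L)) (s : A), s ≠ 0 ∧ s • ψ = iota A K L φ := by
  have := isLocIota A K L
  obtain ⟨⟨φ, s⟩, h⟩ := IsLocalizedModule.surj A⁰ (iota A K L) ψ
  exact ⟨φ, s, nonZeroDivisors.ne_zero s.2, h⟩

/-- two elements of `L` with the same values under all extended functionals agree -/
theorem eq_of_iota (y y' : L) (h : ∀ φ : Dual A ↥(integralClosure A L), iota A K L φ y = iota A K L φ y') :
    y = y' := by
  rw [← sub_eq_zero, ← Module.forall_dual_apply_eq_zero_iff K]
  intro ψ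
  obtain ⟨φ, s, hs, hφ⟩ := exists_smul_eq_iota A K L ψ
  have h1 : (s • ψ) (y - y') = 0 := by rw [hφ, map_sub, h φ, sub_self]
  rw [LinearMap.smul_apply, smul_eq_zero] at h1
  exact h1.resolve_left hs

/-- K-linear maps on `L` agreeing on the integral closure agree -/
theorem dual_ext (ψ ψ' : Dual K L) (h : ∀ b : ↥(integralClosure A L), ψ (b : L) = ψ' (b : L)) : ψ = ψ' := by
  have := isLocJ A K L
  have h1 : (ψ.restrictScalars A) = (ψ'.restrictScalars A) := by
    apply IsLocalizedModule.linearMap_ext A⁰ (jj A L) (Algebra.linearMap A K)
    ext b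
    exact h b
  ext y
  exact LinearMap.congr_fun h1 y


/-- integrality predicate: all extended functionals take values in `A` -/
def IntP (y : L) : Prop :=
  ∀ φ : Dual A ↥(integralClosure A L), ∃ a : A, algebraMap A K a = iota A K L φ y

theorem intP_of_mem (b : ↥(integralClosure A L)) : IntP A K L (b : L) :=
  fun φ => ⟨φ b, (iota_apply A K L φ b).symm⟩

theorem intP_theta (ξ : Dual A (Dual A ↥(integralClosure A L))) : IntP A K L (theta A K L ξ) :=
  fun φ => ⟨ξ φ, (iota_theta A K L ξ φ).symm⟩

theorem theta_of_intP (y : L) (hy : IntP A K L y) : ∃ ξ, theta A K L ξ = y := by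
  choose a ha using hy
  have hinj : Function.Injective (algebraMap A K) := IsFractionRing.injective A K
  let ξ : Dual A (Dual A ↥(integralClosure A L)) :=
    { toFun := a
      map_add' := by
        intro φ φ'
        apply hinj
        rw [map_add, ha, ha, ha, map_add, LinearMap.add_apply]
      map_smul' := by
        intro r φ
        apply hinj
        rw [RingHom.id_apply, smul_eq_mul, map_mul, ha, ha, map_smul, LinearMap.smul_apply,
          Algebra.smul_def] }
  refine ⟨ξ, ?_⟩
  apply eq_of_iota A K L
  intro φ
  rw [iota_theta]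
  exact ha φ

theorem iota_comp_mul (φ : Dual A ↥(integralClosure A L)) (b : ↥(integralClosure A L)) (y : L) :
    iota A K L (φ.comp (LinearMap.mulLeft A b)) y = iota A K L φ ((b : L) * y) := by
  have h : iota A K L (φ.comp (LinearMap.mulLeft A b)) =
      (iota A K L φ).comp (LinearMap.mulLeft K (b : L)) := by
    apply dual_ext A K L
    intro b'
    rw [iota_apply, LinearMap.comp_apply, LinearMap.mulLeft_apply, LinearMap.comp_apply,
      LinearMap.mulLeft_apply]
    have : (b : L) * (b' : L) = ((b * b' : ↥(integralClosure A L)) : L) := rfl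
    rw [this, iota_apply]
  rw [h]; rfl

theorem intP_mem_mul (b : ↥(integralClosure A L)) (y : L) (hy : IntP A K L y) :
    IntP A K L ((b : L) * y) := by
  intro φ
  obtain ⟨a, ha⟩ := hy (φ.comp (LinearMap.mulLeft A b))
  exact ⟨a, by rw [ha, iota_comp_mul]⟩

theorem intP_mul (y y' : L) (hy : IntP A K L y) (hy' : IntP A K L y') : IntP A K L (y * y') := by
  intro φ
  have hinj : Function.Injective (algebraMap A K) := IsFractionRing.injective A K
  -- the functional b ↦ φ(y b)
  have h1 : ∀ b : ↥(integralClosure A L), ∃ a : A, algebraMap A K a = iota A K L φ (y * (b : L)) := by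
    intro b
    obtain ⟨a, ha⟩ := intP_mem_mul A K L b y hy φ
    exact ⟨a, by rw [ha, mul_comm]⟩
  choose a ha using h1
  let φy : Dual A ↥(integralClosure A L) :=
    { toFun := a
      map_add' := by
        intro b b'
        apply hinj
        rw [map_add, ha, ha, ha]
        have : ((b + b' : ↥(integralClosure A L)) : L) = (b : L) + (b' : L) := rfl
        rw [this, mul_add, map_add]
      map_smul' := by
        intro r b
        apply hinj
        rw [RingHom.id_apply, smul_eq_mul, map_mul, ha, ha]
        have : ((r • b : ↥(integralClosure A L)) : L) = r • (b : L) := rfl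
        rw [this, mul_smul_comm, LinearMap.map_smul_of_tower, Algebra.smul_def] }
  have h2 : iota A K L φy = (iota A K L φ).comp (LinearMap.mulLeft K y) := by
    apply dual_ext A K L
    intro b
    rw [iota_apply, LinearMap.comp_apply, LinearMap.mulLeft_apply]
    exact ha b
  obtain ⟨c, hc⟩ := hy' φy
  refine ⟨c, ?_⟩
  rw [hc, h2]; rfl


theorem isIntegral_theta [IsNoetherianRing A] [Module.Finite A ↥(integralClosure A L)]
    (ξ : Dual A (Dual A ↥(integralClosure A L))) : IsIntegral A (theta A K L ξ) := by
  have hfin : Module.Finite A (Dual A (Dual A ↥(integralClosure A L))) := inferInstance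
  refine isIntegral_of_smul_mem_submodule (M := L) (LinearMap.range (theta A K L)) ?_ ?_ _ ?_
  · intro h
    obtain ⟨ξ1, hξ1⟩ := theta_of_intP A K L 1 (by
      have := intP_of_mem A K L (1 : ↥(integralClosure A L))
      simpa using this)
    have : (1 : L) ∈ LinearMap.range (theta A K L) := ⟨ξ1, hξ1⟩
    rw [h, Submodule.mem_bot] at this
    exact one_ne_zero this
  · rw [LinearMap.range_eq_map]
    exact (Module.Finite.fg_top).map _
  · rintro _ ⟨ξ', rfl⟩
    obtain ⟨ξ'', h⟩ := theta_of_intP A K L _
      (intP_mul A K L _ _ (intP_theta A K L ξ) (intP_theta A K L ξ'))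
    exact ⟨ξ'', h⟩

end

theorem main (A K L : Type u) [CommRing A] [IsDomain A] [IsNoetherianRing A]
    [IsIntegrallyClosed A] [Field K] [Algebra A K] [IsFractionRing A K] [Field L] [Algebra K L] [FiniteDimensional K L]
    [Algebra A L] [IsScalarTower A K L] [Module.Finite A ↥(integralClosure A L)] :
    Module.IsReflexive A ↥(integralClosure A L) := by
  have hfp : Module.FinitePresentation A ↥(integralClosure A L) := Module.finitePresentation_of_finite A _
  have hinj : Function.Injective (algebraMap A K) := IsFractionRing.injective A K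
  constructor
  constructor
  · rw [injective_iff_map_eq_zero]
    intro b hb
    by_contra hb0
    have hbL : (b : L) ≠ 0 := fun h => hb0 (Subtype.ext h)
    obtain ⟨ψ, hψ⟩ : ∃ ψ : Dual K L, ψ (b : L) ≠ 0 := by
      by_contra hcon
      push Not at hcon
      exact hbL ((Module.forall_dual_apply_eq_zero_iff K (b : L)).mp hcon)
    obtain ⟨φ, s, hs, hφ⟩ := exists_smul_eq_iota A K L ψ
    have h1 : algebraMap A K (φ b) = s • ψ (b : L) := by
      rw [← iota_apply, ← hφ, LinearMap.smul_apply]
    have h2 : φ b = 0 := by
      have := LinearMap.congr_fun hb φ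
      simpa using this
    rw [h2, map_zero] at h1
    have := smul_eq_zero.mp h1.symm
    exact this.elim hs hψ
  · intro ξ
    have hint := isIntegral_theta A K L ξ
    refine ⟨⟨theta A K L ξ, hint⟩, ?_⟩
    ext φ
    apply hinj
    rw [Module.Dual.eval_apply, ← iota_apply, iota_theta]

end Groth.Agent.S6881

namespace Groth.Agent.S6881

/-- For `A` a Noetherian integrally closed domain with fraction field `K` and `L/K` a finite field
extension, if the integral closure of `A` in `L` is a finitely generated `A`-module then it is a
reflexive `A`-module. -/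
theorem result (A K L : Type u) [CommRing A] [IsDomain A] [IsNoetherianRing A]
    [IsIntegrallyClosed A] [Field K] [Algebra A K] [IsFractionRing A K] [Field L] [Algebra K L] [FiniteDimensional K L]
    [Algebra A L] [IsScalarTower A K L] [Module.Finite A ↥(integralClosure A L)] :
    Module.IsReflexive A ↥(integralClosure A L) := by
  exact main A K L

end Groth.Agent.S6881
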