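import Groth.Statements.S6882
import Mathlib.LinearAlgebra.FreeModule.PID
import Mathlib.Algebra.Module.Torsion.Basic
import Mathlib.LinearAlgebra.Dual.Lemmas
-- import your own Groth.Agent.* helpers here

set_option autoImplicit false
universe u
open CAlg

namespace Groth.Agent.S6882

/-- For a finite module `M` over a discrete valuation ring `R`, the evaluation map from `M` to its
double dual `M**` is surjective. -/
theorem result (R : Type u) [CommRing R] [IsDomain R]
    [IsDiscreteValuationRing R] (M : Type u) [AddCommGroup M] [Module R M] [Module.Finite R M] :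
    Function.Surjective (Module.Dual.eval R M) := by
  classical
  intro φ
  let T := Submodule.torsion R M
  let π : M →ₗ[R] (M ⧸ T) := T.mkQ
  have hπ : Function.Surjective π := T.mkQ_surjective
  have : Module.Finite R (M ⧸ T) := Module.Finite.of_surjective π hπ
  have : Module.Free R (M ⧸ T) := Module.free_of_finite_type_torsion_free'
  have key : ∀ f : Module.Dual R M, ∃ g : Module.Dual R (M ⧸ T), g.comp π = f := by
    intro f
    have hle : T ≤ LinearMap.ker f := by
      intro m hm
      obtain ⟨a, ha⟩ := hm
      rw [LinearMap.mem_ker]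
      have ha' : (a : R) • m = 0 := ha
      have h1 : (a : R) • f m = 0 := by rw [← map_smul, ha', map_zero]
      have h2 : (a : R) ≠ 0 := nonZeroDivisors.coe_ne_zero a
      exact (smul_eq_zero.mp h1).resolve_left h2
    exact ⟨T.liftQ f hle, T.liftQ_mkQ f hle⟩
  let ψ : Module.Dual R (Module.Dual R (M ⧸ T)) := φ.comp (Module.Dual.transpose (R := R) π)
  obtain ⟨q, hq⟩ := (Module.bijective_dual_eval R (M ⧸ T)).2 ψ
  obtain ⟨m, hm⟩ := hπ q
  refine ⟨m, ?_⟩
  ext f
  obtain ⟨g, rfl⟩ := key f
  have h3 := congrArg (fun k => k g) hq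
  simp only [Module.Dual.eval_apply] at h3
  rw [Module.Dual.eval_apply]
  rw [LinearMap.comp_apply, hm, h3]
  rfl

end Groth.Agent.S6882
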