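import Groth.Statements.S6886
import Mathlib.RingTheory.AdjoinRoot
import Mathlib.RingTheory.IntegralClosure.IsIntegralClosure.Basic
import Mathlib.LinearAlgebra.Finsupp.VectorSpace
import Mathlib.RingTheory.Finiteness.Basic
-- import your own Groth.Agent.* helpers here

set_option autoImplicit false
universe u
open TensorProduct
open CAlg

namespace Groth.Agent.S6886


open Polynomial in
theorem adjoinRoot_injective {R : Type u} [CommRing R] (P : R[X]) (hP : P.Monic)
    (hdeg : 0 < P.natDegree) : Function.Injective (algebraMap R (AdjoinRoot P)) := by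
  rw [injective_iff_map_eq_zero]
  intro r hr
  rw [AdjoinRoot.algebraMap_eq, AdjoinRoot.of, RingHom.comp_apply, AdjoinRoot.mk_eq_zero] at hr
  by_contra h0
  have h1 : C r ≠ 0 := by rwa [Ne, C_eq_zero]
  exact hP.not_dvd_of_natDegree_lt h1 (by rwa [natDegree_C]) hr

open Polynomial in
theorem splitting (n : ℕ) : ∀ (R : Type u) [CommRing R] (P : R[X]), P.Monic → P.natDegree = n →
    ∃ (R' : Type u) (_ : CommRing R') (_ : Algebra R R'), Module.Finite R R' ∧ Module.Free R R' ∧
      Function.Injective (algebraMap R R') ∧
      ∃ α : Fin n → R', P.map (algebraMap R R') = ∏ j, (X - C (α j)) := by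
  induction n with
  | zero =>
    intro R _ P hP hdeg
    refine ⟨R, inferInstance, Algebra.id R, inferInstance, inferInstance, Function.injective_id,
      Fin.elim0, ?_⟩
    have : P = 1 := hP.natDegree_eq_zero.mp hdeg
    simp [this]
  | succ n ih =>
    intro R _ P hP hdeg
    have hfin : Module.Finite R (AdjoinRoot P) := hP.finite_adjoinRoot
    have hfree : Module.Free R (AdjoinRoot P) := hP.free_adjoinRoot
    have hinj : Function.Injective (algebraMap R (AdjoinRoot P)) :=
      adjoinRoot_injective P hP (by omega)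
    let a := AdjoinRoot.root P
    let P₁ := P.map (algebraMap R (AdjoinRoot P))
    have hroot : P₁.IsRoot a := AdjoinRoot.isRoot_root P
    let Q := P₁ /ₘ (X - C a)
    have hPQ : (X - C a) * Q = P₁ := mul_divByMonic_eq_iff_isRoot.mpr hroot
    have hP₁ : P₁.Monic := hP.map _
    have hQ : Q.Monic := (monic_X_sub_C a).of_mul_monic_left (hPQ ▸ hP₁)
    have hQdeg : Q.natDegree = n := by
      have hnt : Nontrivial R := by
        by_contra hne
        rw [not_nontrivial_iff_subsingleton] at hne
        have : P.natDegree = 0 := by rw [Subsingleton.elim P 0, natDegree_zero]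
        omega
      have : Nontrivial (AdjoinRoot P) := hinj.nontrivial
      have h1 := (monic_X_sub_C a).natDegree_mul hQ
      rw [hPQ, natDegree_X_sub_C] at h1
      have h2 : P₁.natDegree = n + 1 := by
        change (P.map (algebraMap R (AdjoinRoot P))).natDegree = n + 1
        rw [hP.natDegree_map] ; exact hdeg
      omega
    obtain ⟨R₂, _, _, hfin₂, hfree₂, hinj₂, α, hα⟩ := ih (AdjoinRoot P) Q hQ hQdeg
    let _ : Algebra R R₂ :=
      ((algebraMap (AdjoinRoot P) R₂).comp (algebraMap R (AdjoinRoot P))).toAlgebra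
    have : IsScalarTower R (AdjoinRoot P) R₂ := IsScalarTower.of_algebraMap_eq (fun _ => rfl)
    refine ⟨R₂, inferInstance, inferInstance, Module.Finite.trans (AdjoinRoot P) R₂,
      Module.Free.trans (S := AdjoinRoot P), hinj₂.comp hinj,
      Fin.cons (algebraMap _ R₂ a) α, ?_⟩
    have h3 : P.map (algebraMap R R₂) = P₁.map (algebraMap (AdjoinRoot P) R₂) := by
      rw [Polynomial.map_map]
      rfl
    rw [h3, ← hPQ, Polynomial.map_mul, hα, Fin.prod_univ_succ]
    simp

/-- Let `R → S` be a finite ring map. One can find an extension `R ⊆ R'` of rings, with `R'` finite and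
free as an `R`-module, for which the ring `S ⊗_R R'` arises as a quotient of `R'[T_1, …,
T_n]/(P_1(T_1), …, P_n(T_n))` with each `P_i(T) = ∏_j (T - α_{ij})` a product of linear factors over
`R'`. -/
theorem result (R S : Type u) [CommRing R] [CommRing S] [Algebra R S]
    [Module.Finite R S] :
    ∃ (R' : Type u) (_ : CommRing R') (_ : Algebra R R'), Module.Finite R R' ∧ Module.Free R R' ∧
      Function.Injective (algebraMap R R') ∧
      ∃ (n : ℕ) (d : Fin n → ℕ) (α : (i : Fin n) → Fin (d i) → R')
        (φ : MvPolynomial (Fin n) R' →ₐ[R'] R' ⊗[R] S), Function.Surjective φ ∧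
          ∀ i, φ (∏ j, (MvPolynomial.X i - MvPolynomial.C (α i j))) = 0 := by
  classical
  obtain ⟨n, s, hs⟩ := Module.Finite.exists_fin (R := R) (M := S)
  have hint : ∀ i, IsIntegral R (s i) := fun i => Algebra.IsIntegral.isIntegral (s i)
  choose P hPm hP0 using hint
  let PP : Polynomial R := ∏ i, P i
  have hPP : PP.Monic := Polynomial.monic_prod_of_monic _ _ (fun i _ => hPm i)
  have hPP0 : ∀ i, Polynomial.aeval (s i) PP = 0 := by
    intro i
    simp only [PP, map_prod]
    exact Finset.prod_eq_zero (Finset.mem_univ i) (hP0 i)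
  obtain ⟨R', _, _, hfin, hfree, hinj, α, hα⟩ := splitting PP.natDegree R PP hPP rfl
  refine ⟨R', inferInstance, inferInstance, hfin, hfree, hinj, n, fun _ => PP.natDegree,
    fun _ => α, MvPolynomial.aeval (fun i => (1 : R') ⊗ₜ[R] s i), ?_, ?_⟩
  · intro x
    induction x using TensorProduct.induction_on with
    | zero => exact ⟨0, map_zero _⟩
    | add x y hx hy =>
      obtain ⟨x', rfl⟩ := hx
      obtain ⟨y', rfl⟩ := hy
      exact ⟨x' + y', map_add _ _ _⟩
    | tmul a b =>
      have hb : b ∈ Submodule.span R (Set.range s) := by rw [hs]; trivial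
      induction hb using Submodule.span_induction with
      | mem b hb =>
        obtain ⟨i, rfl⟩ := hb
        refine ⟨MvPolynomial.C a * MvPolynomial.X i, ?_⟩
        simp [Algebra.TensorProduct.tmul_mul_tmul]
      | zero => exact ⟨0, by simp⟩
      | add b c _ _ hb hc =>
        obtain ⟨x', hx'⟩ := hb
        obtain ⟨y', hy'⟩ := hc
        exact ⟨x' + y', by rw [map_add, hx', hy', TensorProduct.tmul_add]⟩
      | smul r b _ hb =>
        obtain ⟨x', hx'⟩ := hb
        refine ⟨(algebraMap R R' r) • x', ?_⟩
        rw [map_smul, hx', algebraMap_smul, TensorProduct.tmul_smul]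
  · intro i
    have h1 : Polynomial.aeval ((1 : R') ⊗ₜ[R] s i) (PP.map (algebraMap R R')) = 0 := by
      rw [Polynomial.aeval_map_algebraMap]
      have : (1 : R') ⊗ₜ[R] s i = (Algebra.TensorProduct.includeRight : S →ₐ[R] R' ⊗[R] S) (s i) :=
        rfl
      rw [this, Polynomial.aeval_algHom_apply, hPP0, map_zero]
    rw [hα, map_prod] at h1
    rw [map_prod]
    convert h1 using 2 with j
    simp

end Groth.Agent.S6886
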