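import Groth.Statements.S6887
import Mathlib.LinearAlgebra.Matrix.Charpoly.LinearMap
import Mathlib.RingTheory.Nakayama
import Mathlib.Tactic
-- import your own Groth.Agent.* helpers here

set_option autoImplicit false
universe u
open Polynomial
open CAlg

namespace Groth.Agent.S6887


theorem ch_diag {A B : Type u} [CommRing A] [CommRing B] [Algebra A B] (I : Ideal A)
    {ι : Type} [Fintype ι] [DecidableEq ι] (x : ι → B)
    (hx : Submodule.span A (Set.range x) = ⊤)
    (b : B) (ε : ι → A) (h : ∀ j, b * x j - ε j • x j ∈ I • (⊤ : Submodule A B)) :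
    ∃ f : A[X], f.Monic ∧ Polynomial.aeval b f = 0 ∧
      f.map (Ideal.Quotient.mk I) = ∏ i, (X - C (Ideal.Quotient.mk I (ε i))) := by
  have h' : ∀ j, b * x j - ε j • x j ∈ LinearMap.range (Ideal.finsuppTotal ι B I x) := by
    intro j
    rw [Ideal.range_finsuppTotal, hx]
    exact h j
  choose c hc using h'
  let M : Matrix ι ι A := fun i j => (if i = j then ε j else 0) + (c j i : A)
  have hrep : M.Represents x (Algebra.lmul A B b) := by
    rw [Matrix.represents_iff']
    intro j
    have h2 := hc j
    rw [Ideal.finsuppTotal_apply_eq_of_fintype] at h2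
    simp only [M, add_smul, Finset.sum_add_distrib, ite_smul, zero_smul, Finset.sum_ite_eq',
      Finset.mem_univ, if_true]
    rw [h2]
    simp
  refine ⟨M.charpoly, M.charpoly_monic, ?_, ?_⟩
  · have h1 : Polynomial.aeval (Algebra.lmul A B b) M.charpoly = 0 := by
      let M' : Matrix.isRepresentation A x := ⟨M, _, hrep⟩
      have h3 : Matrix.isRepresentation.toEnd A x hx M' = Algebra.lmul A B b :=
        Matrix.isRepresentation.eq_toEnd_of_represents A x hx M' hrep
      rw [← h3, Polynomial.aeval_algHom_apply,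
        ← map_zero (Matrix.isRepresentation.toEnd A x hx)]
      congr 1
      ext1
      rw [Polynomial.aeval_subalgebra_coe, Matrix.aeval_self_charpoly, Subalgebra.coe_zero]
    rw [Polynomial.aeval_algHom_apply] at h1
    have h4 := congrArg (fun φ => φ 1) h1
    simpa using h4
  · rw [← Matrix.charpoly_map]
    have h5 : M.map (Ideal.Quotient.mk I) =
        Matrix.diagonal (fun i => Ideal.Quotient.mk I (ε i)) := by
      ext i j
      have h6 : Ideal.Quotient.mk I (c j i : A) = 0 :=
        Ideal.Quotient.eq_zero_iff_mem.mpr (c j i).2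
      by_cases hij : i = j
      · subst hij
        simp [M, h6]
      · simp [M, h6, hij]
    rw [h5, Matrix.charpoly_diagonal]

/-- Let `(A, I)` be a Zariski pair (`I` inside the Jacobson radical) and `A → B` a finite ring map.
Suppose `B/IB ≅ B₁ × B₂` as `A`-algebras with `A → B₁` surjective, and `b ∈ B` maps to `(1, 0)`.
Then there is a monic `f ∈ A[x]` with `f(b) = 0` whose reduction modulo `I` is `(x - 1) x^d` for
some `d ≥ 1`. -/
theorem result (A B : Type u) [CommRing A] [CommRing B]
    [Algebra A B] [Module.Finite A B] (I : Ideal A) (hI : I ≤ Ideal.jacobson (⊥ : Ideal A))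
    (B₁ B₂ : Type u) [CommRing B₁] [CommRing B₂] [Algebra A B₁] [Algebra A B₂]
    (e : (B ⧸ I.map (algebraMap A B)) ≃ₐ[A] B₁ × B₂) (h₁ : Function.Surjective (algebraMap A B₁)) (b : B)
    (hb : e (Ideal.Quotient.mk (I.map (algebraMap A B)) b) = (1, 0)) :
    ∃ (f : A[X]) (d : ℕ), f.Monic ∧ Polynomial.aeval b f = 0 ∧ 1 ≤ d ∧
      f.map (Ideal.Quotient.mk I) = (X - 1) * X ^ d := by
  classical
  obtain ⟨m, β, hβ⟩ := Module.Finite.exists_fin (R := A) (M := B)
  let x : Fin (m + 2) → B := Fin.cons b (Fin.cons 0 (fun k => (1 - b) * β k))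
  let ε : Fin (m + 2) → A := Fin.cons 1 (fun _ => 0)
  have hItop : ∀ y : B, y ∈ I • (⊤ : Submodule A B) ↔
      Ideal.Quotient.mk (I.map (algebraMap A B)) y = 0 := by
    intro y
    rw [Ideal.smul_top_eq_map, Submodule.restrictScalars_mem, Ideal.Quotient.eq_zero_iff_mem]
  have hmul : ∀ y z : B, y ∈ I • (⊤ : Submodule A B) → y * z ∈ I • (⊤ : Submodule A B) := by
    intro y z hy
    rw [hItop] at hy ⊢
    rw [map_mul, hy, zero_mul]
  have hb2 : b * b - b ∈ I • (⊤ : Submodule A B) := by
    rw [hItop]
    apply e.injective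
    simp only [map_sub, map_mul, hb, map_zero]
    ext <;> simp
  have hx0 : x 0 = b := rfl
  have hx1 : x 1 = 0 := rfl
  have hxk : ∀ k : Fin m, x (k.succ.succ) = (1 - b) * β k := fun k => rfl
  have hx : Submodule.span A (Set.range x) = ⊤ := by
    rw [eq_top_iff]
    apply Submodule.le_of_le_smul_of_le_jacobson_bot Module.Finite.fg_top hI
    intro y hytop
    clear hytop
    have hy1 : (1 - b) * y ∈ Submodule.span A (Set.range x) := by
      have hy : y ∈ Submodule.span A (Set.range β) := by rw [hβ]; trivial
      induction hy using Submodule.span_induction with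
      | mem y hy =>
        obtain ⟨k, rfl⟩ := hy
        rw [← hxk k]
        exact Submodule.subset_span ⟨_, rfl⟩
      | zero => rw [mul_zero]; exact zero_mem _
      | add y z _ _ hy hz => rw [mul_add]; exact add_mem hy hz
      | smul a y _ hy => rw [mul_smul_comm]; exact Submodule.smul_mem _ a hy
    obtain ⟨l, hl⟩ := h₁ (e (Ideal.Quotient.mk (I.map (algebraMap A B)) y)).1
    have hy2 : b * y - l • b ∈ I • (⊤ : Submodule A B) := by
      rw [hItop]
      apply e.injective
      have hlb : Ideal.Quotient.mk (I.map (algebraMap A B)) (l • b) =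
          l • Ideal.Quotient.mk (I.map (algebraMap A B)) b := rfl
      simp only [map_sub, map_mul, hlb, map_smul, hb, map_zero]
      ext
      · simp [Algebra.smul_def, hl]
      · simp
    have hy3 : y = ((1 - b) * y + l • b) + (b * y - l • b) := by ring
    rw [hy3]
    refine Submodule.add_mem_sup (add_mem hy1 (Submodule.smul_mem _ l ?_)) hy2
    rw [← hx0]
    exact Submodule.subset_span ⟨_, rfl⟩
  have h : ∀ j, b * x j - ε j • x j ∈ I • (⊤ : Submodule A B) := by
    intro j
    refine Fin.cases ?_ (fun j => Fin.cases ?_ (fun k => ?_) j) j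
    · change b * b - (1 : A) • b ∈ _
      rw [one_smul]; exact hb2
    · change b * 0 - (0 : A) • (0 : B) ∈ _
      rw [mul_zero, smul_zero, sub_zero]; exact zero_mem _
    · change b * ((1 - b) * β k) - (0 : A) • ((1 - b) * β k) ∈ _
      rw [zero_smul, sub_zero]
      have : b * ((1 - b) * β k) = -((b * b - b) * β k) := by ring
      rw [this]
      exact neg_mem (hmul _ _ hb2)
  obtain ⟨f, hf, hfb, hfmap⟩ := ch_diag I x hx b ε h
  refine ⟨f, m + 1, hf, hfb, by omega, ?_⟩
  rw [hfmap, Fin.prod_univ_succ]
  have h0 : ε 0 = 1 := rfl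
  have hs : ∀ i : Fin (m + 1), ε i.succ = 0 := fun i => rfl
  simp only [h0, hs, map_one, map_zero, sub_zero, Finset.prod_const, Finset.card_univ,
    Fintype.card_fin]

end Groth.Agent.S6887
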