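import Groth.Statements.S6888
import Mathlib.Algebra.Polynomial.Derivative
import Mathlib.Algebra.BigOperators.Fin
import Mathlib.Tactic
-- import your own Groth.Agent.* helpers here

set_option autoImplicit false
universe u
open Polynomial
open CAlg

namespace Groth.Agent.S6888


theorem idem_unique {A : Type u} [CommRing A] (I : Ideal A)
    (hI : I ≤ Ideal.jacobson (⊥ : Ideal A)) {e e' : A} (he : IsIdempotentElem e)
    (he' : IsIdempotentElem e') (h : e - e' ∈ I) : e = e' := by
  have h1 : (e - e') * (1 - (e - e') ^ 2) = 0 := by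
    have h2 : e * e = e := he
    have h3 : e' * e' = e' := he'
    have : (e - e') * (1 - (e - e') ^ 2) =
        (e - e') - (e * e * e - 3 * (e * e) * e' + 3 * e * (e' * e') - e' * e' * e') := by ring
    rw [this, h2, h2, h3, h3]
    ring
  have h4 : IsUnit (1 - (e - e') ^ 2) := by
    have h5 : (e - e') ^ 2 ∈ Ideal.jacobson (⊥ : Ideal A) := hI (I.pow_mem_of_mem h 2 (by norm_num))
    have := Ideal.mem_jacobson_bot.mp h5 (-1)
    convert this using 1
    ring
  have h6 := (h4.mul_left_eq_zero).mp h1
  exact sub_eq_zero.mp h6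

theorem exists_idem {A : Type u} [CommRing A] (I : Ideal A)
    (hI : I ≤ Ideal.jacobson (⊥ : Ideal A))
    (hidem : ∀ e : A ⧸ I, IsIdempotentElem e → ∃ e' : A, IsIdempotentElem e' ∧ Ideal.Quotient.mk I e' = e)
    (n : ℕ) (β : Fin n → A) (hprod : ∏ i, β i ∈ I)
    (hunit : IsUnit (Ideal.Quotient.mk I (∑ j, ∏ i ∈ Finset.univ.erase j, β i))) :
    ∃ e : Fin n → A, (∀ i, IsIdempotentElem (e i)) ∧ (∀ i j, i ≠ j → e i * e j = 0) ∧
      ∑ i, e i = 1 ∧ ∀ i, e i * β i ∈ I := by
  classical
  let b : Fin n → A ⧸ I := fun i => Ideal.Quotient.mk I (β i)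
  let c : Fin n → A ⧸ I := fun j => ∏ i ∈ Finset.univ.erase j, b i
  have hb0 : ∏ i, b i = 0 := by
    rw [← map_prod]
    exact Ideal.Quotient.eq_zero_iff_mem.mpr hprod
  have hbc : ∀ j, b j * c j = 0 := by
    intro j
    rw [Finset.mul_prod_erase Finset.univ b (Finset.mem_univ j), hb0]
  have hcc : ∀ j k, j ≠ k → c j * c k = 0 := by
    intro j k hjk
    have hk : k ∈ Finset.univ.erase j := Finset.mem_erase.mpr ⟨hjk.symm, Finset.mem_univ k⟩
    have : c j = b k * ∏ i ∈ (Finset.univ.erase j).erase k, b i :=
      (Finset.mul_prod_erase _ b hk).symm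
    rw [this, mul_comm (b k), mul_assoc, hbc k, mul_zero]
  obtain ⟨u, hu⟩ := hunit
  have hu' : (u : A ⧸ I) = ∑ j, c j := by
    rw [hu, map_sum]
    refine Finset.sum_congr rfl fun j _ => ?_
    rw [map_prod]
  let v : A ⧸ I := ((u⁻¹ : (A ⧸ I)ˣ) : A ⧸ I)
  have huv : (∑ j, c j) * v = 1 := by rw [← hu']; exact u.mul_inv
  let eb : Fin n → A ⧸ I := fun j => c j * v
  have hsum : ∑ j, eb j = 1 := by rw [← Finset.sum_mul, huv]
  have horth : ∀ j k, j ≠ k → eb j * eb k = 0 := by
    intro j k hjk
    have : eb j * eb k = (c j * c k) * (v * v) := by simp only [eb]; ring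
    rw [this, hcc j k hjk, zero_mul]
  have hidemb : ∀ j, IsIdempotentElem (eb j) := by
    intro j
    have h1 : eb j = eb j * ∑ k, eb k := by rw [hsum, mul_one]
    rw [Finset.mul_sum, Finset.sum_eq_single j] at h1
    · exact h1.symm
    · intro k _ hkj
      exact horth j k hkj.symm
    · intro h; exact absurd (Finset.mem_univ j) h
  have hebb : ∀ j, eb j * b j = 0 := by
    intro j
    have : eb j * b j = (b j * c j) * v := by simp only [eb]; ring
    rw [this, hbc, zero_mul]
  choose e he hemk using fun j => hidem (eb j) (hidemb j)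
  have horth' : ∀ i j, i ≠ j → e i * e j = 0 := by
    intro i j hij
    have h1 : IsIdempotentElem (e i * e j) := (he i).mul (he j)
    have h2 : e i * e j - 0 ∈ I := by
      rw [sub_zero, ← Ideal.Quotient.eq_zero_iff_mem, map_mul, hemk, hemk, horth i j hij]
    exact idem_unique I hI h1 IsIdempotentElem.zero h2
  refine ⟨e, he, horth', ?_, ?_⟩
  · have h1 : IsIdempotentElem (∑ i, e i) := by
      change (∑ i, e i) * (∑ i, e i) = ∑ i, e i
      rw [Finset.sum_mul]
      refine Finset.sum_congr rfl fun i _ => ?_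
      rw [Finset.mul_sum, Finset.sum_eq_single i]
      · exact he i
      · intro k _ hki
        exact horth' i k hki.symm
      · intro h; exact absurd (Finset.mem_univ i) h
    have h2 : ∑ i, e i - 1 ∈ I := by
      rw [← Ideal.Quotient.eq_zero_iff_mem, map_sub, map_sum, map_one]
      simp only [hemk]
      rw [hsum, sub_self]
    exact idem_unique I hI h1 IsIdempotentElem.one h2
  · intro i
    rw [← Ideal.Quotient.eq_zero_iff_mem, map_mul, hemk]
    exact hebb i

theorem prod_fin_of_multiset {A : Type u} [CommRing A] (s : Multiset A) :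
    ∃ (n : ℕ) (α : Fin n → A), (s.map fun a => X - C a).prod = ∏ i, (X - C (α i)) := by
  refine ⟨s.toList.length, s.toList.get, ?_⟩
  conv_lhs => rw [← Multiset.coe_toList s]
  rw [Multiset.map_coe, Multiset.prod_coe, ← List.prod_ofFn]
  congr 1
  have : (List.ofFn fun i => X - C (s.toList.get i)) =
      List.map (fun a => X - C a) (List.ofFn s.toList.get) := by
    rw [List.map_ofFn]; rfl
  rw [this, List.ofFn_get]

/-- Let `A` be absolutely integrally closed (every monic polynomial over `A` is a product of linear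
factors) and `I ⊆ A` an ideal contained in the Jacobson radical such that `A → A/I` is surjective
(hence bijective) on idempotents. Then `(A, I)` is a henselian pair. (The published statement also
records the converse, which holds for every henselian pair; this row states the sufficiency only.) -/
theorem result (A : Type u) [CommRing A]
    (hA : ∀ f : A[X], f.Monic → ∃ s : Multiset A, f = (s.map fun a => X - C a).prod) (I : Ideal A)
    (hI : I ≤ Ideal.jacobson (⊥ : Ideal A))
    (hidem : ∀ e : A ⧸ I, IsIdempotentElem e → ∃ e' : A, IsIdempotentElem e' ∧ Ideal.Quotient.mk I e' = e) :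
    HenselianRing A I := by
  classical
  refine ⟨hI, ?_⟩
  intro f hf a₀ h₁ h₂
  obtain ⟨s, hs⟩ := hA f hf
  obtain ⟨n, α, hα⟩ := prod_fin_of_multiset s
  rw [hα] at hs
  let β : Fin n → A := fun i => a₀ - α i
  have hprod : ∏ i, β i ∈ I := by
    have : f.eval a₀ = ∏ i, β i := by
      rw [hs, Polynomial.eval_prod]
      simp [β]
    rwa [this] at h₁
  have hunit : IsUnit (Ideal.Quotient.mk I (∑ j, ∏ i ∈ Finset.univ.erase j, β i)) := by
    have : f.derivative.eval a₀ = ∑ j, ∏ i ∈ Finset.univ.erase j, β i := by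
      rw [hs, Polynomial.derivative_prod_finset, Polynomial.eval_finsetSum]
      refine Finset.sum_congr rfl fun j _ => ?_
      rw [Polynomial.eval_mul, Polynomial.eval_prod]
      simp [β]
    rwa [this] at h₂
  obtain ⟨e, he, horth, hsum, heβ⟩ := exists_idem I hI hidem n β hprod hunit
  let a : A := ∑ j, e j * α j
  have hea : ∀ i, e i * (a - α i) = 0 := by
    intro i
    have h1 : e i * a = e i * α i := by
      simp only [a]
      rw [Finset.mul_sum, Finset.sum_eq_single i]
      · rw [← mul_assoc, (he i).eq]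
      · intro k _ hki
        rw [← mul_assoc, horth i k hki.symm, zero_mul]
      · intro h; exact absurd (Finset.mem_univ i) h
    rw [mul_sub, h1, sub_self]
  refine ⟨a, ?_, ?_⟩
  · change f.eval a = 0
    rw [hs, Polynomial.eval_prod]
    have h1 : ∏ i, Polynomial.eval a (X - C (α i)) = ∏ i, (a - α i) := by simp
    rw [h1]
    have h2 : ∏ i, (a - α i) = (∑ k, e k) * ∏ i, (a - α i) := by rw [hsum, one_mul]
    rw [h2, Finset.sum_mul]
    refine Finset.sum_eq_zero fun k _ => ?_
    rw [← Finset.mul_prod_erase Finset.univ _ (Finset.mem_univ k), ← mul_assoc, hea k, zero_mul]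
  · have h1 : a - a₀ = -∑ j, e j * β j := by
      have : a₀ = (∑ j, e j) * a₀ := by rw [hsum, one_mul]
      rw [this]
      simp only [a, β]
      rw [Finset.sum_mul, ← Finset.sum_sub_distrib, ← Finset.sum_neg_distrib]
      refine Finset.sum_congr rfl fun j _ => ?_
      ring
    rw [h1]
    exact neg_mem (Ideal.sum_mem I fun j _ => heβ j)

end Groth.Agent.S6888
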