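import Groth.Statements.S6897
import Groth.Agent.Lib.Helper75.Fitting32

set_option autoImplicit false
universe u
open CategoryTheory
open Fitt

namespace Groth.Agent.S6897

/-- Let `M` be a finitely presented `R`-module and `k ≥ 0` such that `Fit_k(M) = (f)` for a
nonzerodivisor `f` and `Fit_{k-1}(M) = 0` (no condition when `k = 0`). Let `M' = Ker(f : M → M)`.
Then: the projective dimension of `M` is at most `1`; `M'` coincides with the `f`-power torsion of
`M` and its projective dimension is at most `1`; every prime of `R` has a basic open neighbourhood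
over which `M/M'` is free of rank `k`; and `M ≅ M/M' ⊕ M'` (existence of an isomorphism). -/
theorem result {R : Type u} [CommRing R] (M : Type u)
    [AddCommGroup M] [Module R M] [Module.FinitePresentation R M] (k : ℕ) (f : R) (hf0 : f ∈ nonZeroDivisors R)
    (hf : Fitt.ideal R M k = Ideal.span {f}) (hk : k = 0 ∨ Fitt.ideal R M (k - 1) = ⊥) :
    HasProjectiveDimensionLT (ModuleCat.of R M) 2 ∧
    (∀ x : M, (∃ n : ℕ, f ^ n • x = 0) ↔ f • x = 0) ∧
    HasProjectiveDimensionLT (ModuleCat.of R ↥(LinearMap.ker (f • (LinearMap.id : M →ₗ[R] M)))) 2 ∧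
    (∀ (p : Ideal R) [p.IsPrime], ∃ g : R, g ∉ p ∧
      Module.Free (Localization.Away g)
          (LocalizedModule (Submonoid.powers g) (M ⧸ LinearMap.ker (f • (LinearMap.id : M →ₗ[R] M)))) ∧
        Module.finrank (Localization.Away g)
          (LocalizedModule (Submonoid.powers g) (M ⧸ LinearMap.ker (f • (LinearMap.id : M →ₗ[R] M)))) = k) ∧
    Nonempty (M ≃ₗ[R] (M ⧸ LinearMap.ker (f • (LinearMap.id : M →ₗ[R] M))) ×
      ↥(LinearMap.ker (f • (LinearMap.id : M →ₗ[R] M)))) := by
  have h1 := Groth.Agent.Lib.Helper75.Fitting.pd_lt_two_of_fitt_principal M k f hf0 hf hk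
  have h2 := Groth.Agent.Lib.Helper75.Fitting.pow_torsion_iff_of_fitt_principal M k f hf0 hf hk
  have hker := Groth.Agent.Lib.Helper75.Fitting.ker_smul_eq_powTorsion M k f hf0 hf hk
  have key : ∀ N : Submodule R M, N = FlatCA.powTorsion R f M →
      ∀ (p : Ideal R) [p.IsPrime], ∃ g : R, g ∉ p ∧
        Module.Free (Localization.Away g) (LocalizedModule (Submonoid.powers g) (M ⧸ N)) ∧
        Module.finrank (Localization.Away g) (LocalizedModule (Submonoid.powers g) (M ⧸ N)) = k := by
    intro N hN
    subst hN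
    exact (Groth.Agent.Lib.Helper75.Fitting.locallyFree_iff k).mpr
      (Groth.Agent.Lib.Helper75.Fitting.fitt_quot_powTorsion_of_fitt_principal M k f hf0 hf hk)
  have h4 := key _ hker
  haveI : Module.Projective R (M ⧸ LinearMap.ker (f • (LinearMap.id : M →ₗ[R] M))) :=
    Groth.Agent.Lib.Helper75.Fitting.projective_of_locallyFree _ (fun p _ => by
      obtain ⟨g, hg, hfree, -⟩ := h4 p
      exact ⟨g, hg, hfree⟩)
  refine ⟨h1, h2, ?_, h4, ?_⟩
  · exact Groth.Agent.Lib.Helper75.Fitting.pd_submodule_of_projective_quotient _ 2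
  · exact Groth.Agent.Lib.Helper75.Fitting.nonempty_equiv_prod_of_projective_quotient _

end Groth.Agent.S6897
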