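import Groth.Statements.S6898
import Mathlib

set_option autoImplicit false
universe u
open TensorProduct
open CAlg

namespace Groth.Agent.S6898

open scoped TensorProduct

section psi
variable {A : Type*} [CommRing A] (I : Ideal A) (M : Type*) [AddCommGroup M] [Module A M]

/-- the canonical map `I ⊗ M → M`. -/
noncomputable def psi : I ⊗[A] M →ₗ[A] M :=
  (TensorProduct.lid A M).toLinearMap ∘ₗ LinearMap.rTensor M I.subtype

@[simp] lemma psi_tmul (a : I) (m : M) : psi I M (a ⊗ₜ m) = (a : A) • m := by
  simp [psi]

lemma psi_mem (y : I ⊗[A] M) : psi I M y ∈ I • (⊤ : Submodule A M) := by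
  induction y using TensorProduct.induction_on with
  | zero => simp
  | add x y hx hy => rw [map_add]; exact Submodule.add_mem _ hx hy
  | tmul a m => rw [psi_tmul]; exact Submodule.smul_mem_smul a.2 Submodule.mem_top

lemma exists_psi_eq (y : M) (hy : y ∈ I • (⊤ : Submodule A M)) : ∃ z, psi I M z = y := by
  refine Submodule.smul_induction_on (p := fun y => ∃ z, psi I M z = y) hy ?_ ?_
  · intro a ha m _
    exact ⟨(⟨a, ha⟩ : I) ⊗ₜ m, by simp⟩
  · rintro _ _ ⟨zx, rfl⟩ ⟨zy, rfl⟩
    exact ⟨zx + zy, map_add _ _ _⟩

lemma psi_injective [Module.Flat A M] : Function.Injective (psi I M) :=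
  (TensorProduct.lid A M).injective.comp
    (Module.Flat.rTensor_preserves_injective_linearMap I.subtype Subtype.val_injective)

lemma psi_nat {N : Type*} [AddCommGroup N] [Module A N] (u : M →ₗ[A] N) (z : I ⊗[A] M) :
    psi I N (LinearMap.lTensor I u z) = u (psi I M z) := by
  induction z using TensorProduct.induction_on with
  | zero => simp
  | add x y hx hy => simp only [map_add, hx, hy]
  | tmul a m => simp

lemma psi_inclusion {I₀ : Ideal A} (hle : I₀ ≤ I) (z : I₀ ⊗[A] M) :
    psi I M (LinearMap.rTensor M (Submodule.inclusion hle) z) = psi I₀ M z := by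
  induction z using TensorProduct.induction_on with
  | zero => simp
  | add x y hx hy => simp only [map_add, hx, hy]
  | tmul a m => simp

end psi


/-- Let `(A, 𝔪)` be a local ring and `u : M → N` a linear map between flat `A`-modules whose reduction
`M/𝔪M → N/𝔪N` is injective. If `I` is the content ideal of some `x ∈ M` (the least ideal `I` with `x
∈ IM`), then `I` is also the least ideal `J` with `u(x) ∈ J·N`. -/
theorem result {A : Type u} [CommRing A] [IsLocalRing A] {M N : Type u}
    [AddCommGroup M] [Module A M] [Module.Flat A M] [AddCommGroup N] [Module A N] [Module.Flat A N] (u : M →ₗ[A] N)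
    (hu : Function.Injective (u.baseChange (IsLocalRing.ResidueField A))) (x : M) (I : Ideal A)
    (hx : IsLeast {J : Ideal A | x ∈ J • (⊤ : Submodule A M)} I) :
    IsLeast {J : Ideal A | u x ∈ J • (⊤ : Submodule A N)} I := by
  classical
  obtain ⟨hxI, hmin⟩ := hx
  have hxI' : x ∈ I • (⊤ : Submodule A M) := hxI
  obtain ⟨xt, hxt⟩ := exists_psi_eq I M x hxI'
  refine ⟨?_, ?_⟩
  · change u x ∈ I • (⊤ : Submodule A N)
    rw [← hxt, ← psi_nat]
    exact psi_mem I N _
  intro J hJ
  have hJ' : u x ∈ J • (⊤ : Submodule A N) := hJ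
  by_contra hIJ
  -- I is finitely generated
  have hIfg : I.FG := by
    obtain ⟨I₀, hfg, hle, y, hy⟩ := Submodule.exists_fg_le_eq_rTensor_inclusion xt
    have hx0 : x ∈ I₀ • (⊤ : Submodule A M) := by
      rw [← hxt, hy, psi_inclusion]
      exact psi_mem I₀ M y
    have : I ≤ I₀ := hmin hx0
    rwa [le_antisymm this hle]
  -- the module P = image of I in A/J
  let g : I →ₗ[A] (A ⧸ J) := (Submodule.mkQ J) ∘ₗ I.subtype
  let P : Submodule A (A ⧸ J) := LinearMap.range g
  let π : I →ₗ[A] P := g.rangeRestrict
  have hπsurj : Function.Surjective π := LinearMap.surjective_rangeRestrict g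
  have : Module.Finite A I := Module.Finite.iff_fg.mpr hIfg
  have : Module.Finite A P := Module.Finite.of_surjective π hπsurj
  have hPnt : Nontrivial P := by
    by_contra hP
    rw [not_nontrivial_iff_subsingleton] at hP
    apply hIJ
    intro a ha
    have h0 : π ⟨a, ha⟩ = 0 := Subsingleton.elim _ _
    have h1 : g ⟨a, ha⟩ = 0 := congrArg Subtype.val h0
    exact Ideal.Quotient.eq_zero_iff_mem.mp h1
  let k := IsLocalRing.ResidueField A
  have hkP : Nontrivial (k ⊗[A] P) := by
    by_contra h
    rw [not_nontrivial_iff_subsingleton] at h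
    have := (IsLocalRing.subsingleton_tensorProduct (R := A) (M := P)).mp h
    exact (not_subsingleton P) this
  obtain ⟨v, hv⟩ := exists_ne (0 : k ⊗[A] P)
  obtain ⟨f, hf⟩ : ∃ f : Module.Dual k (k ⊗[A] P), f v ≠ 0 := by
    by_contra h
    push Not at h
    exact hv ((Module.forall_dual_apply_eq_zero_iff k v).mp h)
  let φP : P →ₗ[A] k := (f.restrictScalars A) ∘ₗ (TensorProduct.mk A k P 1)
  have hφP : φP ≠ 0 := by
    intro h0
    apply hf
    have : ∀ w : k ⊗[A] P, f w = 0 := by
      intro w
      induction w using TensorProduct.induction_on with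
      | zero => simp
      | add x y hx hy => rw [map_add, hx, hy, add_zero]
      | tmul c p =>
        have h1 : c ⊗ₜ[A] p = c • ((1 : k) ⊗ₜ[A] p) := by
          rw [TensorProduct.smul_tmul', smul_eq_mul, mul_one]
        rw [h1, map_smul]
        have h2 : f ((1 : k) ⊗ₜ[A] p) = 0 := LinearMap.congr_fun h0 p
        rw [h2, smul_zero]
    exact this v
  let φ : I →ₗ[A] k := φP ∘ₗ π
  have hφ : ∃ a : I, φ a ≠ 0 := by
    by_contra h
    push Not at h
    apply hφP
    refine LinearMap.ext fun p => ?_
    obtain ⟨a, rfl⟩ := hπsurj p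
    exact h a
  obtain ⟨a₀, ha₀⟩ := hφ
  have hφsurj : Function.Surjective φ := by
    intro c
    obtain ⟨r, hr⟩ := Ideal.Quotient.mk_surjective (c * (φ a₀)⁻¹)
    refine ⟨r • a₀, ?_⟩
    rw [map_smul, Algebra.smul_def]
    change IsLocalRing.residue A r * φ a₀ = c
    have : IsLocalRing.residue A r = c * (φ a₀)⁻¹ := hr
    rw [this, mul_assoc, inv_mul_cancel₀ ha₀, mul_one]
  -- the image of `u x̃` in `P ⊗ N` vanishes
  have hyt : LinearMap.rTensor N π (LinearMap.lTensor I u xt) = 0 := by
    have hPinj : Function.Injective (LinearMap.rTensor N P.subtype) :=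
      Module.Flat.rTensor_preserves_injective_linearMap P.subtype Subtype.val_injective
    apply hPinj
    rw [map_zero, ← LinearMap.rTensor_comp_apply]
    have hcomp : P.subtype ∘ₗ π = (Submodule.mkQ J) ∘ₗ I.subtype := by
      refine LinearMap.ext fun a => ?_
      rfl
    rw [hcomp, LinearMap.rTensor_comp_apply]
    -- element of `A ⊗ N` corresponding to `u x ∈ J N`
    have hlid : LinearMap.rTensor N I.subtype (LinearMap.lTensor I u xt) =
        (TensorProduct.lid A N).symm (u x) := by
      apply (TensorProduct.lid A N).injective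
      rw [LinearEquiv.apply_symm_apply]
      have := psi_nat I M u xt
      rw [hxt] at this
      exact this
    rw [hlid]
    obtain ⟨w, hw⟩ := exists_psi_eq J N (u x) hJ'
    rw [← hw]
    have : (TensorProduct.lid A N).symm (psi J N w) = LinearMap.rTensor N J.subtype w := by
      simp [psi]
    rw [this, ← LinearMap.rTensor_comp_apply]
    have hz : (Submodule.mkQ J) ∘ₗ J.subtype = 0 := by
      refine LinearMap.ext fun a => ?_
      exact Ideal.Quotient.eq_zero_iff_mem.mpr a.2
    rw [hz, LinearMap.rTensor_zero, LinearMap.zero_apply]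
  have hφyt : LinearMap.rTensor N φ (LinearMap.lTensor I u xt) = 0 := by
    simp only [φ]
    rw [LinearMap.rTensor_comp_apply, hyt, map_zero]
  have hcomm : LinearMap.rTensor N φ (LinearMap.lTensor I u xt) =
      LinearMap.lTensor k u (LinearMap.rTensor M φ xt) := by
    rw [← LinearMap.comp_apply, ← LinearMap.comp_apply, LinearMap.rTensor_comp_lTensor,
      LinearMap.lTensor_comp_rTensor]
  have hφxt : LinearMap.rTensor M φ xt = 0 := by
    apply hu
    rw [map_zero]
    have : (u.baseChange k) (LinearMap.rTensor M φ xt) =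
        LinearMap.lTensor k u (LinearMap.rTensor M φ xt) := by
      rw [LinearMap.baseChange_eq_ltensor]
    rw [this, ← hcomm, hφyt]
  -- exactness
  let K : Submodule A I := LinearMap.ker φ
  have hex : Function.Exact K.subtype φ := by
    intro a
    constructor
    · intro ha
      exact ⟨⟨a, ha⟩, rfl⟩
    · rintro ⟨b, rfl⟩
      exact b.2
  have hex' := rTensor_exact M hex hφsurj
  obtain ⟨w, hw⟩ := (hex' xt).mp hφxt
  let I'' : Ideal A := Submodule.map I.subtype K
  have hxI'' : x ∈ I'' • (⊤ : Submodule A M) := by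
    rw [← hxt, ← hw]
    clear hw
    induction w using TensorProduct.induction_on with
    | zero => simp
    | add x y hx hy => rw [map_add, map_add]; exact Submodule.add_mem _ hx hy
    | tmul b m =>
      rw [LinearMap.rTensor_tmul, psi_tmul]
      exact Submodule.smul_mem_smul ⟨b.1, b.2, rfl⟩ Submodule.mem_top
  have hle : I ≤ I'' := hmin hxI''
  obtain ⟨b, hb, hba⟩ := hle a₀.2
  apply ha₀
  have : b = a₀ := Subtype.ext hba
  rw [← this]
  exact hb

end Groth.Agent.S6898
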