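import Groth.Statements.S6899
import Mathlib.LinearAlgebra.TensorProduct.RightExactness
import Mathlib.RingTheory.Ideal.Operations
import Mathlib.Tactic
-- import your own Groth.Agent.* helpers here

set_option autoImplicit false
universe u
open TensorProduct
open EtAlg

namespace Groth.Agent.S6899


theorem exists_one_tmul {A' A : Type u} [CommRing A'] [CommRing A] [Algebra A' A]
    (hs : Function.Surjective (algebraMap A' A)) {M : Type u} [AddCommGroup M] [Module A' M]
    (t : A ⊗[A'] M) : ∃ m : M, t = (1 : A) ⊗ₜ[A'] m := by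
  induction t using TensorProduct.induction_on with
  | zero => exact ⟨0, by simp⟩
  | tmul a m =>
    obtain ⟨a', rfl⟩ := hs a
    refine ⟨a' • m, ?_⟩
    rw [← TensorProduct.smul_tmul, Algebra.smul_def, mul_one]
  | add x y hx hy =>
    obtain ⟨m, rfl⟩ := hx
    obtain ⟨m', rfl⟩ := hy
    exact ⟨m + m', by rw [TensorProduct.tmul_add]⟩

theorem mem_ker_smul_of_one_tmul_eq_zero {A' A : Type u} [CommRing A'] [CommRing A] [Algebra A' A]
    (hs : Function.Surjective (algebraMap A' A)) {M : Type u} [AddCommGroup M] [Module A' M]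
    (m : M) (hm : (1 : A) ⊗ₜ[A'] m = 0) :
    m ∈ (RingHom.ker (algebraMap A' A)) • (⊤ : Submodule A' M) := by
  let I := RingHom.ker (algebraMap A' A)
  have hex : Function.Exact (Submodule.subtype I) (Algebra.linearMap A' A) := by
    intro a
    constructor
    · intro h
      exact ⟨⟨a, h⟩, rfl⟩
    · rintro ⟨i, rfl⟩
      exact i.2
  have hexT := rTensor_exact M hex hs
  have h1 : (Algebra.linearMap A' A).rTensor M ((1 : A') ⊗ₜ[A'] m) = 0 := by
    simp [hm]
  obtain ⟨z, hz⟩ := (hexT _).mp h1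
  have key : ∀ z : I ⊗[A'] M, TensorProduct.lid A' M ((Submodule.subtype I).rTensor M z) ∈
      I • (⊤ : Submodule A' M) := by
    intro z
    induction z using TensorProduct.induction_on with
    | zero => simp
    | tmul i m' =>
      simp only [LinearMap.rTensor_tmul, Submodule.subtype_apply, TensorProduct.lid_tmul]
      exact Submodule.smul_mem_smul i.2 trivial
    | add x y hx hy =>
      rw [map_add, map_add]
      exact add_mem hx hy
  have := key z
  rw [hz, TensorProduct.lid_tmul, one_smul] at this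
  exact this

theorem one_tmul_eq_zero_of_mem {A' A : Type u} [CommRing A'] [CommRing A] [Algebra A' A]
    {M : Type u} [AddCommGroup M] [Module A' M]
    (m : M) (hm : m ∈ (RingHom.ker (algebraMap A' A)) • (⊤ : Submodule A' M)) :
    (1 : A) ⊗ₜ[A'] m = 0 := by
  refine Submodule.smul_induction_on hm ?_ ?_
  · intro i hi m' _
    rw [← TensorProduct.smul_tmul, Algebra.smul_def, mul_one, (RingHom.mem_ker).mp hi,
      TensorProduct.zero_tmul]
  · intro x y hx hy
    rw [TensorProduct.tmul_add, hx, hy, add_zero]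

/-- Let `B' = B ×_A A'` be a fibre square of rings with `A' → A` surjective, and let `(N₁, M₁', φ₁) →
(N₂, M₂', φ₂)` be a morphism of glueing data (a `B`-linear `u : N₁ → N₂` and an `A'`-linear `v : M₁'
→ M₂'` compatible with the `φ_i`) with `u` and `v` surjective. Then the induced map of glued modules
`N₁ ×_{φ₁} M₁' → N₂ ×_{φ₂} M₂'` is surjective. -/
theorem result (B' B A' A : Type u) [CommRing B'] [CommRing B] [CommRing A'] [CommRing A]
    [Algebra B' B] [Algebra B' A'] [Algebra B A] [Algebra A' A] [Algebra B' A] [IsScalarTower B' B A] [IsScalarTower B' A' A]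
    (hsq : EtMil.IsFibreSquare B' B A' A)
    {N₁ N₂ M₁' M₂' : Type u} [AddCommGroup N₁] [Module B N₁] [Module B' N₁] [IsScalarTower B' B N₁]
    [AddCommGroup N₂] [Module B N₂] [Module B' N₂] [IsScalarTower B' B N₂]
    [AddCommGroup M₁'] [Module A' M₁'] [Module B' M₁'] [IsScalarTower B' A' M₁']
    [AddCommGroup M₂'] [Module A' M₂'] [Module B' M₂'] [IsScalarTower B' A' M₂']
    (φ₁ : A ⊗[B] N₁ ≃ₗ[A] A ⊗[A'] M₁') (φ₂ : A ⊗[B] N₂ ≃ₗ[A] A ⊗[A'] M₂') (u : N₁ →ₗ[B] N₂) (v : M₁' →ₗ[A'] M₂')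
    (hc : (v.baseChange A).comp φ₁.toLinearMap = φ₂.toLinearMap.comp (u.baseChange A))
    (hu : Function.Surjective u) (hv : Function.Surjective v) :
    ∀ y : N₂ × M₂', y ∈ EtMil.glue B' φ₂ → ∃ x : N₁ × M₁', x ∈ EtMil.glue B' φ₁ ∧ u x.1 = y.1 ∧ v x.2 = y.2 := by
  obtain ⟨hsurj, -⟩ := hsq
  rintro ⟨n₂, m₂⟩ hy
  have hy' : φ₂ ((1 : A) ⊗ₜ[B] n₂) = (1 : A) ⊗ₜ[A'] m₂ := hy
  obtain ⟨n₁, rfl⟩ := hu n₂
  obtain ⟨m, hm⟩ := exists_one_tmul hsurj (φ₁ ((1 : A) ⊗ₜ[B] n₁))
  have h1 : (v.baseChange A) (φ₁ ((1 : A) ⊗ₜ[B] n₁)) = φ₂ ((u.baseChange A) ((1 : A) ⊗ₜ[B] n₁)) :=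
    LinearMap.congr_fun hc _
  rw [hm, LinearMap.baseChange_tmul, LinearMap.baseChange_tmul, hy'] at h1
  have h2 : (1 : A) ⊗ₜ[A'] (v m - m₂) = 0 := by
    rw [TensorProduct.tmul_sub, h1, sub_self]
  have h3 := mem_ker_smul_of_one_tmul_eq_zero hsurj _ h2
  have h4 : (RingHom.ker (algebraMap A' A)) • (⊤ : Submodule A' M₂') =
      Submodule.map v ((RingHom.ker (algebraMap A' A)) • (⊤ : Submodule A' M₁')) := by
    rw [Submodule.map_smul'', Submodule.map_top, LinearMap.range_eq_top.mpr hv]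
  rw [h4] at h3
  obtain ⟨δ, hδ, hδ'⟩ := h3
  refine ⟨(n₁, m - δ), ?_, rfl, ?_⟩
  · change φ₁ ((1 : A) ⊗ₜ[B] n₁) = (1 : A) ⊗ₜ[A'] (m - δ)
    rw [hm, TensorProduct.tmul_sub, one_tmul_eq_zero_of_mem δ hδ, sub_zero]
  · change v (m - δ) = m₂
    rw [map_sub, hδ']
    abel

end Groth.Agent.S6899
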