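import Groth.Statements.S6904
import Groth.Agent.Lib.Helper25.KFlatFP

set_option autoImplicit false
universe u
open CategoryTheory CategoryTheory.Limits MonoidalCategory
open DRing

namespace Groth.Agent.S6904

/-- Let `K•` be a complex of `R`-modules such that `K• ⊗_R M` is acyclic for every finitely presented
`R`-module `M`. Then `K•` is K-flat. -/
theorem result (R : Type u) [CommRing R] (K : DRing.Cx R)
    (hK : ∀ (M : Type u) [AddCommGroup M] [Module R M], Module.FinitePresentation R M →
      (∀ i : ℤ, IsZero ((DRing.tensorCx K (ModuleCat.of R M)).homology i))) :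
    (∀ L : DRing.Cx R, (∀ i : ℤ, IsZero (L.homology i)) → ∀ i : ℤ, IsZero ((L ⊗ K).homology i)) := by
  have hfp : ∀ (M : Type u) [AddCommGroup M] [Module R M], Module.FinitePresentation R M →
      Groth.Agent.Lib.Helper25.KFlatFP.RowExact K M := by
    intro M _ _ hM q₀ q₁ q₂ h01 h12 t ht
    have hac : Groth.Agent.Lib.Helper25.KFlat.Acyclic (DRing.tensorCx K (ModuleCat.of R M)) :=
      hK M hM
    have hcyc : (DRing.tensorCx K (ModuleCat.of R M)).d q₁ q₂
        (TensorProduct.comm R M (K.X q₁) t) = 0 := by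
      change LinearMap.rTensor M (K.d q₁ q₂).hom (TensorProduct.comm R M (K.X q₁) t) = 0
      have h1 := LinearMap.congr_fun (LinearMap.rTensor_comp_comm (N := M) (K.d q₁ q₂).hom) t
      rw [LinearMap.comp_apply, LinearMap.comp_apply] at h1
      erw [h1, ht, map_zero]
    obtain ⟨w, hw⟩ := (Groth.Agent.Lib.Helper25.KFlat.acyclic_iff _).1 hac q₀ q₁ q₂ h01 h12 _ hcyc
    refine ⟨(TensorProduct.comm R M (K.X q₀)).symm w, ?_⟩
    have hw' : LinearMap.rTensor M (K.d q₀ q₁).hom w = TensorProduct.comm R M (K.X q₁) t := hw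
    have h2 := LinearMap.congr_fun (LinearMap.rTensor_comp_comm (N := M) (K.d q₀ q₁).hom)
      ((TensorProduct.comm R M (K.X q₀)).symm w)
    rw [LinearMap.comp_apply, LinearMap.comp_apply] at h2
    apply (TensorProduct.comm R M (K.X q₁)).injective
    erw [← h2]
    erw [LinearEquiv.apply_symm_apply]
    exact hw'
  have hfg : ∀ (M : Type u) [AddCommGroup M] [Module R M], Module.Finite R M →
      Groth.Agent.Lib.Helper25.KFlatFP.RowExact K M := fun M _ _ _ =>
    Groth.Agent.Lib.Helper25.KFlatFP.rowExact_of_finite K hfp M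
  have hall : ∀ (M : Type u) [AddCommGroup M] [Module R M],
      Groth.Agent.Lib.Helper25.KFlatFP.RowExact K M := fun M _ _ =>
    Groth.Agent.Lib.Helper25.KFlatFP.rowExact_of_all K hfg M
  intro L _
  exact Groth.Agent.Lib.Helper25.KFlatFP.acyclic_tensor_of_rowExact K hall L

end Groth.Agent.S6904
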