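import Groth.Statements.S6909
import Mathlib.RingTheory.Filtration
import Mathlib.RingTheory.Ideal.Operations
-- import your own Groth.Agent.* helpers here

set_option autoImplicit false
universe u
open CAlg

namespace Groth.Agent.S6909


theorem pow_smul_anti {A : Type u} [CommRing A] (I : Ideal A) {M : Type u} [AddCommGroup M]
    [Module A M] {m n : ℕ} (h : n ≤ m) :
    I ^ m • (⊤ : Submodule A M) ≤ I ^ n • (⊤ : Submodule A M) :=
  Submodule.smul_mono_left (Ideal.pow_le_pow_right h)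

theorem shift_mem {A : Type u} [CommRing A] (I : Ideal A) {M N : Type u} [AddCommGroup M]
    [Module A M] [AddCommGroup N] [Module A N] (h : M →ₗ[A] N) (k : ℕ)
    (hh : ∀ y : M, h y ∈ I ^ k • (⊤ : Submodule A N)) (r : ℕ) (x : M)
    (hx : x ∈ I ^ r • (⊤ : Submodule A M)) : h x ∈ I ^ (r + k) • (⊤ : Submodule A N) := by
  refine Submodule.smul_induction_on hx ?_ ?_
  · intro i hi x _
    rw [map_smul, pow_add, Submodule.mul_smul]
    exact Submodule.smul_mem_smul hi (hh x)
  · intro x y hx hy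
    rw [map_add]
    exact add_mem hx hy

theorem approx {A : Type u} [CommRing A] (I : Ideal A)
    {L M N : Type u} [AddCommGroup L] [Module A L]
    [AddCommGroup M] [Module A M] [AddCommGroup N] [Module A N]
    (f f' : L →ₗ[A] M) (g g' : M →ₗ[A] N) (c : ℕ) (hgf' : g'.comp f' = 0)
    (hf : (∀ n : ℕ, c ≤ n → LinearMap.range f ⊓ (I ^ n • (⊤ : Submodule A M)) ≤ Submodule.map f (I ^ (n - c) • (⊤ : Submodule A L))))
    (hg : (∀ n : ℕ, c ≤ n → LinearMap.range g ⊓ (I ^ n • (⊤ : Submodule A N)) ≤ Submodule.map g (I ^ (n - c) • (⊤ : Submodule A M))))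
    (hex : Function.Exact f g)
    (hff' : ∀ x : L, f x - f' x ∈ I ^ (c + 1) • (⊤ : Submodule A M))
    (hgg' : ∀ y : M, g y - g' y ∈ I ^ (c + 1) • (⊤ : Submodule A N))
    (n : ℕ) (hn : c ≤ n) (a : M) (ha : g' a ∈ I ^ n • (⊤ : Submodule A N)) :
    ∀ r : ℕ, r ≤ n - c → ∃ b : L, a - f' b ∈ I ^ r • (⊤ : Submodule A M) := by
  intro r
  induction r with
  | zero =>
    intro _
    refine ⟨0, ?_⟩
    rw [pow_zero, Ideal.one_eq_top, Submodule.top_smul]
    trivial
  | succ r ih =>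
    intro hr
    obtain ⟨b₀, hb₀⟩ := ih (by omega)
    set a₀ := a - f' b₀ with ha₀
    have h1 : g' a₀ = g' a := by
      have : g' (f' b₀) = 0 := LinearMap.congr_fun hgf' b₀
      rw [ha₀, map_sub, this, sub_zero]
    have h2 : g a₀ - g' a₀ ∈ I ^ (r + (c + 1)) • (⊤ : Submodule A N) :=
      shift_mem I (g - g') (c + 1) hgg' r a₀ hb₀
    have h3 : g a₀ ∈ I ^ (r + c + 1) • (⊤ : Submodule A N) := by
      have h4 : g' a₀ ∈ I ^ (r + c + 1) • (⊤ : Submodule A N) := by
        rw [h1]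
        exact pow_smul_anti I (by omega) ha
      have : g a₀ = (g a₀ - g' a₀) + g' a₀ := by abel
      rw [this]
      exact add_mem h2 h4
    obtain ⟨a₁, ha₁, ha₁'⟩ := hg (r + c + 1) (by omega) ⟨⟨a₀, rfl⟩, h3⟩
    have hrc : r + c + 1 - c = r + 1 := by omega
    rw [hrc] at ha₁
    have h5 : g (a₀ - a₁) = 0 := by rw [map_sub, ha₁', sub_self]
    obtain ⟨b, hb⟩ := (hex (a₀ - a₁)).mp h5
    have ha₁r : a₁ ∈ I ^ r • (⊤ : Submodule A M) := pow_smul_anti I (by omega) ha₁
    have h6 : f b ∈ I ^ r • (⊤ : Submodule A M) := by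
      rw [hb]
      exact sub_mem hb₀ ha₁r
    have h7 : ∃ b' : L, f b' = f b ∧ f b' - f' b' ∈ I ^ (r + 1) • (⊤ : Submodule A M) := by
      by_cases hrc' : c ≤ r
      · obtain ⟨b', hb', hb''⟩ := hf r hrc' ⟨⟨b, rfl⟩, h6⟩
        refine ⟨b', hb'', ?_⟩
        have := shift_mem I (f - f') (c + 1) hff' (r - c) b' hb'
        have e : r - c + (c + 1) = r + 1 := by omega
        rw [e] at this
        exact this
      · refine ⟨b, rfl, ?_⟩
        exact pow_smul_anti I (by omega) (hff' b)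
    obtain ⟨b', hb', hb''⟩ := h7
    refine ⟨b₀ + b', ?_⟩
    have e : a - f' (b₀ + b') = (f b' - f' b') + a₁ := by
      rw [map_add, hb', hb, ha₀]
      abel
    rw [e]
    exact add_mem hb'' ha₁

theorem krull_sup {A : Type u} [CommRing A] [IsNoetherianRing A] (I : Ideal A)
    (hI : I ≤ Ideal.jacobson (⊥ : Ideal A)) {M : Type u} [AddCommGroup M] [Module A M]
    [Module.Finite A M] (P : Submodule A M) (a : M)
    (ha : ∀ k : ℕ, a ∈ P ⊔ I ^ k • (⊤ : Submodule A M)) : a ∈ P := by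
  have h1 : P.mkQ a ∈ (⨅ i : ℕ, I ^ i • ⊤ : Submodule A (M ⧸ P)) := by
    rw [Submodule.mem_iInf]
    intro k
    obtain ⟨p, hp, x, hx, rfl⟩ := Submodule.mem_sup.mp (ha k)
    have h2 : P.mkQ p = 0 := by rwa [Submodule.mkQ_apply, Submodule.Quotient.mk_eq_zero]
    rw [map_add, h2, zero_add]
    have h3 : P.mkQ x ∈ Submodule.map P.mkQ (I ^ k • (⊤ : Submodule A M)) := ⟨x, hx, rfl⟩
    rw [Submodule.map_smul''] at h3
    exact Submodule.smul_mono le_rfl le_top h3
  rw [Ideal.iInf_pow_smul_eq_bot_of_le_jacobson I hI, Submodule.mem_bot, Submodule.mkQ_apply,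
    Submodule.Quotient.mk_eq_zero] at h1
  exact h1

/-- Let `A` be a Noetherian ring, `I ⊆ A` an ideal inside the Jacobson radical, and `L → M → N` two
complexes `(f, g)` and `(f', g')` of finite `A`-modules with `f' ≡ f` modulo `I^{c+1}M` and `g' ≡ g`
modulo `I^{c+1}N`. If `c` works in the Artin–Rees lemma for `f` and for `g` (that is `f(L) ∩ IⁿM ⊆
f(I^{n-c}L)` for `n ≥ c`, and likewise for `g`) and `(f, g)` is exact, then `c` works for `g'` and
`(f', g')` is exact. -/
theorem result {A : Type u} [CommRing A] [IsNoetherianRing A] (I : Ideal A)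
    (hI : I ≤ Ideal.jacobson (⊥ : Ideal A)) {L M N : Type u} [AddCommGroup L] [Module A L] [Module.Finite A L]
    [AddCommGroup M] [Module A M] [Module.Finite A M] [AddCommGroup N] [Module A N] [Module.Finite A N]
    (f f' : L →ₗ[A] M) (g g' : M →ₗ[A] N) (c : ℕ) (hgf : g.comp f = 0) (hgf' : g'.comp f' = 0)
    (hf : (∀ n : ℕ, c ≤ n → LinearMap.range f ⊓ (I ^ n • (⊤ : Submodule A M)) ≤ Submodule.map f (I ^ (n - c) • (⊤ : Submodule A L))))
    (hg : (∀ n : ℕ, c ≤ n → LinearMap.range g ⊓ (I ^ n • (⊤ : Submodule A N)) ≤ Submodule.map g (I ^ (n - c) • (⊤ : Submodule A M))))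
    (hex : Function.Exact f g)
    (hff' : ∀ x : L, f x - f' x ∈ I ^ (c + 1) • (⊤ : Submodule A M))
    (hgg' : ∀ y : M, g y - g' y ∈ I ^ (c + 1) • (⊤ : Submodule A N)) :
    (∀ n : ℕ, c ≤ n → LinearMap.range g' ⊓ (I ^ n • (⊤ : Submodule A N)) ≤ Submodule.map g' (I ^ (n - c) • (⊤ : Submodule A M))) ∧
    Function.Exact f' g' := by
  have key := approx I f f' g g' c hgf' hf hg hex hff' hgg'
  refine ⟨?_, ?_⟩
  · intro n hn
    rintro y ⟨⟨a, rfl⟩, hy⟩
    obtain ⟨b, hb⟩ := key n hn a hy (n - c) le_rfl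
    refine ⟨a - f' b, hb, ?_⟩
    have : g' (f' b) = 0 := LinearMap.congr_fun hgf' b
    rw [map_sub, this, sub_zero]
  · intro a
    constructor
    · intro ha
      have h1 : a ∈ LinearMap.range f' := by
        apply krull_sup I hI
        intro k
        obtain ⟨b, hb⟩ := key (k + c) (by omega) a (by rw [ha]; exact zero_mem _) k (by omega)
        have : a = f' b + (a - f' b) := by abel
        rw [this]
        exact Submodule.add_mem_sup ⟨b, rfl⟩ hb
      exact h1
    · rintro ⟨b, rfl⟩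
      exact LinearMap.congr_fun hgf' b

end Groth.Agent.S6909
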