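import Groth.Statements.S6910
import Groth.Agent.S6909
-- import your own Groth.Agent.* helpers here

set_option autoImplicit false
universe u
open CAlg

namespace Groth.Agent.S6910


theorem one_dir {A : Type u} [CommRing A] (I : Ideal A)
    {M N : Type u} [AddCommGroup M] [Module A M] [AddCommGroup N] [Module A N]
    (g g' : M →ₗ[A] N) (c : ℕ)
    (hg : (∀ n : ℕ, c ≤ n → LinearMap.range g ⊓ (I ^ n • (⊤ : Submodule A N)) ≤ Submodule.map g (I ^ (n - c) • (⊤ : Submodule A M))))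
    (hgg' : ∀ y : M, g y - g' y ∈ I ^ (c + 1) • (⊤ : Submodule A N)) (n : ℕ) :
    LinearMap.range g ⊓ I ^ n • (⊤ : Submodule A N) ≤
      I ^ (n + 1) • (⊤ : Submodule A N) ⊔ (LinearMap.range g' ⊓ I ^ n • (⊤ : Submodule A N)) := by
  rintro x ⟨⟨a, rfl⟩, hx⟩
  have h7 : ∃ a₁ : M, g a₁ = g a ∧ g a₁ - g' a₁ ∈ I ^ (n + 1) • (⊤ : Submodule A N) := by
    by_cases hc : c ≤ n
    · obtain ⟨a₁, ha₁, ha₁'⟩ := hg n hc ⟨⟨a, rfl⟩, hx⟩
      refine ⟨a₁, ha₁', ?_⟩
      have := Groth.Agent.S6909.shift_mem I (g - g') (c + 1) hgg' (n - c) a₁ ha₁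
      have e : n - c + (c + 1) = n + 1 := by omega
      rw [e] at this
      exact this
    · refine ⟨a, rfl, ?_⟩
      exact Groth.Agent.S6909.pow_smul_anti I (by omega) (hgg' a)
  obtain ⟨a₁, h1, h2⟩ := h7
  have e : g a = (g a₁ - g' a₁) + g' a₁ := by rw [← h1]; abel
  have h3 : g' a₁ ∈ I ^ n • (⊤ : Submodule A N) := by
    have : g' a₁ = g a - (g a₁ - g' a₁) := by rw [← h1]; abel
    rw [this]
    exact sub_mem hx (Groth.Agent.S6909.pow_smul_anti I (by omega) h2)
  rw [e]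
  exact Submodule.add_mem_sup h2 ⟨⟨a₁, rfl⟩, h3⟩

/-- Let `A` be a Noetherian ring, `I ⊆ A` an ideal inside the Jacobson radical, and `L → M → N` two
complexes `(f, g)` and `(f', g')` of finite `A`-modules with `f' ≡ f` modulo `I^{c+1}M` and `g' ≡ g`
modulo `I^{c+1}N`, such that the Artin–Rees bound holds with constant `c` for both `f` and `g`, and
`(f, g)` is exact. Then for every `n` the submodules `I^{n+1}N + g(M) ∩ IⁿN` and `I^{n+1}N + g'(M) ∩
IⁿN` of `N` are equal; consequently the associated graded modules of `Coker g` and `Coker g'` with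
respect to `I` coincide degreewise as subquotients of `N`. -/
theorem result {A : Type u} [CommRing A] [IsNoetherianRing A] (I : Ideal A)
    (hI : I ≤ Ideal.jacobson (⊥ : Ideal A)) {L M N : Type u} [AddCommGroup L] [Module A L] [Module.Finite A L]
    [AddCommGroup M] [Module A M] [Module.Finite A M] [AddCommGroup N] [Module A N] [Module.Finite A N]
    (f f' : L →ₗ[A] M) (g g' : M →ₗ[A] N) (c : ℕ) (hgf : g.comp f = 0) (hgf' : g'.comp f' = 0)
    (hf : (∀ n : ℕ, c ≤ n → LinearMap.range f ⊓ (I ^ n • (⊤ : Submodule A M)) ≤ Submodule.map f (I ^ (n - c) • (⊤ : Submodule A L))))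
    (hg : (∀ n : ℕ, c ≤ n → LinearMap.range g ⊓ (I ^ n • (⊤ : Submodule A N)) ≤ Submodule.map g (I ^ (n - c) • (⊤ : Submodule A M))))
    (hex : Function.Exact f g)
    (hff' : ∀ x : L, f x - f' x ∈ I ^ (c + 1) • (⊤ : Submodule A M))
    (hgg' : ∀ y : M, g y - g' y ∈ I ^ (c + 1) • (⊤ : Submodule A N)) (n : ℕ) :
    I ^ (n + 1) • (⊤ : Submodule A N) ⊔ (LinearMap.range g ⊓ I ^ n • (⊤ : Submodule A N)) =
      I ^ (n + 1) • (⊤ : Submodule A N) ⊔ (LinearMap.range g' ⊓ I ^ n • (⊤ : Submodule A N)) := by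
  have hg' := (Groth.Agent.S6909.result I hI f f' g g' c hgf hgf' hf hg hex hff' hgg').1
  have hg'g : ∀ y : M, g' y - g y ∈ I ^ (c + 1) • (⊤ : Submodule A N) := by
    intro y
    have := neg_mem (hgg' y)
    rwa [neg_sub] at this
  apply le_antisymm
  · exact sup_le le_sup_left (one_dir I g g' c hg hgg' n)
  · exact sup_le le_sup_left (one_dir I g' g c hg' hg'g n)

end Groth.Agent.S6910
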