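import Groth.Statements.S6911
-- import your own Groth.Agent.* helpers here

set_option autoImplicit false
universe u
open TensorProduct
open CAlg

namespace Groth.Agent.S6911


theorem tmul_mem_pow_smul {A B : Type u} [CommRing A] [CommRing B] [Algebra A B] (I : Ideal A)
    {M : Type u} [AddCommGroup M] [Module A M] (k : ℕ) (x : M)
    (hx : x ∈ I ^ k • (⊤ : Submodule A M)) (b : B) :
    b ⊗ₜ[A] x ∈ (I.map (algebraMap A B)) ^ k • (⊤ : Submodule B (B ⊗[A] M)) := by
  refine Submodule.smul_induction_on hx ?_ ?_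
  · intro r hr x _
    have h1 : b ⊗ₜ[A] (r • x) = (algebraMap A B r) • (b ⊗ₜ[A] x) := by
      rw [TensorProduct.tmul_smul, algebraMap_smul]
    rw [h1, ← Ideal.map_pow]
    exact Submodule.smul_mem_smul (Ideal.mem_map_of_mem _ hr) trivial
  · intro x y hx hy
    rw [TensorProduct.tmul_add]
    exact add_mem hx hy

theorem mkQ_baseChange_eq_zero {A B : Type u} [CommRing A] [CommRing B] [Algebra A B] (I : Ideal A)
    {N : Type u} [AddCommGroup N] [Module A N] (k : ℕ) (z : B ⊗[A] N)
    (hz : z ∈ (I.map (algebraMap A B)) ^ k • (⊤ : Submodule B (B ⊗[A] N))) :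
    ((I ^ k • (⊤ : Submodule A N)).mkQ.baseChange B) z = 0 := by
  have key : ∀ r ∈ (I ^ k).map (algebraMap A B),
      ∀ w : B ⊗[A] (N ⧸ (I ^ k • (⊤ : Submodule A N))), r • w = 0 := by
    intro r hr
    induction hr using Submodule.span_induction with
    | mem r hr =>
      obtain ⟨i, hi, rfl⟩ := hr
      intro w
      induction w using TensorProduct.induction_on with
      | zero => exact smul_zero _
      | add x y hx hy => rw [smul_add, hx, hy, add_zero]
      | tmul b x =>
        obtain ⟨x, rfl⟩ := Submodule.mkQ_surjective _ x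
        rw [algebraMap_smul, ← TensorProduct.tmul_smul, ← map_smul]
        have : (I ^ k • (⊤ : Submodule A N)).mkQ (i • x) = 0 := by
          rw [Submodule.mkQ_apply, Submodule.Quotient.mk_eq_zero]
          exact Submodule.smul_mem_smul hi trivial
        rw [this, TensorProduct.tmul_zero]
    | zero => intro w; exact zero_smul _ _
    | add x y _ _ hx hy => intro w; rw [add_smul, hx, hy, add_zero]
    | smul a x _ hx => intro w; rw [smul_eq_mul, mul_smul, hx, smul_zero]
  rw [← Ideal.map_pow] at hz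
  refine Submodule.smul_induction_on hz ?_ ?_
  · intro r hr z _
    rw [map_smul]; exact key r hr _
  · intro x y hx hy
    rw [map_add, hx, hy, add_zero]

/-- Let `A → B` be a flat map of Noetherian rings, `I ⊆ A` an ideal and `f : M → N` a map of finite
`A`-modules such that `c` works for `f` in the Artin–Rees lemma (`f(M) ∩ IⁿN ⊆ f(I^{n-c}M)` for `n ≥
c`). Then `c` works for `f ⊗ 1 : M ⊗_A B → N ⊗_A B` and the ideal `IB`. -/
theorem result {A B : Type u} [CommRing A] [IsNoetherianRing A] [CommRing B]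
    [IsNoetherianRing B] [Algebra A B] [Module.Flat A B] (I : Ideal A) {M N : Type u} [AddCommGroup M] [Module A M]
    [Module.Finite A M] [AddCommGroup N] [Module A N] [Module.Finite A N] (f : M →ₗ[A] N) (c : ℕ)
    (hf : (∀ n : ℕ, c ≤ n → LinearMap.range f ⊓ (I ^ n • (⊤ : Submodule A N)) ≤ Submodule.map f (I ^ (n - c) • (⊤ : Submodule A M)))) :
    ∀ n : ℕ, c ≤ n →
      LinearMap.range (f.baseChange B) ⊓ ((I.map (algebraMap A B)) ^ n • (⊤ : Submodule B (B ⊗[A] N))) ≤
        Submodule.map (f.baseChange B) ((I.map (algebraMap A B)) ^ (n - c) • (⊤ : Submodule B (B ⊗[A] M))) := by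
  intro n hn
  rintro y ⟨⟨y, rfl⟩, hy2⟩
  let Q : Submodule A N := I ^ n • (⊤ : Submodule A N)
  let ψ : M →ₗ[A] N ⧸ Q := Q.mkQ ∘ₗ f
  let K : Submodule A M := LinearMap.ker ψ
  have hex : Function.Exact K.subtype ψ := by
    intro m
    constructor
    · intro hm
      exact ⟨⟨m, hm⟩, rfl⟩
    · rintro ⟨k, rfl⟩
      exact k.2
  have hexB : Function.Exact (K.subtype.lTensor B) (ψ.lTensor B) := Module.Flat.lTensor_exact B hex
  have h1 : (ψ.lTensor B) y = 0 := by
    have := mkQ_baseChange_eq_zero (B := B) I n _ hy2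
    rw [LinearMap.lTensor_comp, LinearMap.comp_apply]
    simpa [LinearMap.baseChange_eq_ltensor] using this
  obtain ⟨k, rfl⟩ := (hexB y).mp h1
  have key : ∀ k : B ⊗[A] K, ∃ y' ∈ (I.map (algebraMap A B)) ^ (n - c) • (⊤ : Submodule B (B ⊗[A] M)),
      f.baseChange B y' = f.baseChange B (K.subtype.lTensor B k) := by
    intro k
    induction k using TensorProduct.induction_on with
    | zero => exact ⟨0, zero_mem _, by simp⟩
    | add x y hx hy =>
      obtain ⟨x', hx', hx''⟩ := hx
      obtain ⟨y', hy', hy''⟩ := hy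
      exact ⟨x' + y', add_mem hx' hy', by rw [map_add, map_add, map_add, hx'', hy'']⟩
    | tmul b k₀ =>
      have hk : f k₀ ∈ LinearMap.range f ⊓ I ^ n • (⊤ : Submodule A N) := by
        refine ⟨⟨k₀, rfl⟩, ?_⟩
        have h2 : ψ k₀ = 0 := k₀.2
        change Q.mkQ (f k₀) = 0 at h2
        rwa [Submodule.mkQ_apply, Submodule.Quotient.mk_eq_zero] at h2
      obtain ⟨m', hm', hm''⟩ := hf n hn hk
      refine ⟨b ⊗ₜ[A] m', tmul_mem_pow_smul I (n - c) m' hm' b, ?_⟩
      simp [hm'']
  obtain ⟨y', hy', hy''⟩ := key k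
  exact ⟨y', hy', hy''⟩

end Groth.Agent.S6911
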