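import Groth.Statements.S6912
import Mathlib.LinearAlgebra.Dimension.Localization
import Mathlib.RingTheory.IsTensorProduct
import Mathlib.Algebra.Module.FinitePresentation
import Mathlib.LinearAlgebra.FreeModule.Finite.Matrix
import Mathlib.LinearAlgebra.Dimension.Constructions
-- import your own Groth.Agent.* helpers here

set_option autoImplicit false
universe u
open TensorProduct
open CAlg

namespace Groth.Agent.S6912

/-- Let `R` be a domain and `M`, `N` two `R`-modules; rank means dimension over the fraction field after
base change. Then `rank (M ⊗_R N) = rank M · rank N`, and when `M` is finitely presented also `rank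
Hom_R(M, N) = rank M · rank N`. -/
theorem result (R : Type u) [CommRing R] [IsDomain R] (M N : Type u)
    [AddCommGroup M] [Module R M] [AddCommGroup N] [Module R N] :
    Module.rank R (M ⊗[R] N) = Module.rank R M * Module.rank R N ∧
    (Module.FinitePresentation R M → Module.rank R (M →ₗ[R] N) = Module.rank R M * Module.rank R N) := by
  classical
  let K := FractionRing R
  have hM : Module.rank K (K ⊗[R] M) = Module.rank R M := (TensorProduct.isBaseChange R M K).rank_eq
  have hN : Module.rank K (K ⊗[R] N) = Module.rank R N := (TensorProduct.isBaseChange R N K).rank_eq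
  refine ⟨?_, ?_⟩
  · have h1 : Module.rank K (K ⊗[R] (M ⊗[R] N)) = Module.rank R (M ⊗[R] N) :=
      (TensorProduct.isBaseChange R (M ⊗[R] N) K).rank_eq
    rw [← h1, (TensorProduct.AlgebraTensorModule.distribBaseChange R K M N).rank_eq,
      rank_tensorProduct', hM, hN]
  · intro hfp
    open nonZeroDivisors in
    let f := LocalizedModule.mkLinearMap R⁰ M
    open nonZeroDivisors in
    let g := LocalizedModule.mkLinearMap R⁰ N
    open nonZeroDivisors in
    have h2 : Module.rank R (LocalizedModule R⁰ M →ₗ[K] LocalizedModule R⁰ N) =
        Module.rank R (M →ₗ[R] N) :=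
      IsLocalizedModule.rank_eq R⁰ le_rfl (IsLocalizedModule.mapExtendScalars R⁰ f g K)
    open nonZeroDivisors in
    have h3 : Module.rank K (LocalizedModule R⁰ M →ₗ[K] LocalizedModule R⁰ N) =
        Module.rank R (LocalizedModule R⁰ M →ₗ[K] LocalizedModule R⁰ N) :=
      IsLocalization.rank_eq K R⁰ le_rfl
    open nonZeroDivisors in
    have h4 : Module.rank K (LocalizedModule R⁰ M) = Module.rank R M := by
      rw [IsLocalization.rank_eq K R⁰ le_rfl]
      exact IsLocalizedModule.rank_eq R⁰ le_rfl f
    open nonZeroDivisors in
    have h5 : Module.rank K (LocalizedModule R⁰ N) = Module.rank R N := by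
      rw [IsLocalization.rank_eq K R⁰ le_rfl]
      exact IsLocalizedModule.rank_eq R⁰ le_rfl g
    open nonZeroDivisors in
    have : Module.Finite K (LocalizedModule R⁰ M) := inferInstance
    rw [← h2, ← h3, Module.rank_linearMap, h4, h5]
    simp

end Groth.Agent.S6912
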