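import Groth.Statements.S6913
import Mathlib.LinearAlgebra.Dimension.Localization
import Mathlib.RingTheory.Localization.Module
import Mathlib.RingTheory.LocalProperties.Projective
import Mathlib.LinearAlgebra.Dimension.Finite
-- import your own Groth.Agent.* helpers here

set_option autoImplicit false
universe u
open CAlg

namespace Groth.Agent.S6913


theorem uniform_torsion (R : Type u) [CommRing R] [IsDomain R] (Q : Type u) [AddCommGroup Q]
    [Module R Q] [Module.Finite R Q] (h : ∀ x : Q, ∃ a : R, a ≠ 0 ∧ a • x = 0) :
    ∃ d : R, d ≠ 0 ∧ ∀ x : Q, d • x = 0 := by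
  classical
  obtain ⟨S, hS⟩ := (Module.Finite.fg_top : (⊤ : Submodule R Q).FG)
  choose a ha ha' using h
  refine ⟨∏ s ∈ S, a s, Finset.prod_ne_zero_iff.mpr fun s _ => ha s, ?_⟩
  intro x
  have hx : x ∈ Submodule.span R (S : Set Q) := by rw [hS]; trivial
  induction hx using Submodule.span_induction with
  | mem s hs =>
    obtain ⟨c, hc⟩ := Finset.dvd_prod_of_mem a hs
    rw [hc, mul_comm, mul_smul, ha', smul_zero]
  | zero => exact smul_zero _
  | add x y _ _ hx hy => rw [smul_add, hx, hy, add_zero]
  | smul r x _ hx => rw [smul_comm, hx, smul_zero]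

theorem exists_inj (R : Type u) [CommRing R] [IsDomain R] (M : Type u) [AddCommGroup M]
    [Module R M] [Module.Finite R M] :
    ∃ g : (Fin (Module.finrank R M) → R) →ₗ[R] M, Function.Injective g ∧
      ∃ d : R, d ≠ 0 ∧ ∀ x : M, d • x ∈ LinearMap.range g := by
  classical
  obtain ⟨v, hv⟩ := exists_linearIndependent_of_le_finrank (R := R) (M := M) le_rfl
  let g := Fintype.linearCombination R v
  have hg : Function.Injective g := hv.fintypeLinearCombination_injective
  refine ⟨g, hg, ?_⟩
  have h0 : Module.rank R (M ⧸ LinearMap.range g) = 0 := by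
    have h1 := rank_quotient_add_rank_of_isDomain (LinearMap.range g)
    have h2 : Module.rank R (LinearMap.range g) = (Module.finrank R M : Cardinal) := by
      rw [← (LinearEquiv.ofInjective g hg).rank_eq]
      simp
    rw [h2, ← Module.finrank_eq_rank R M] at h1
    have h3 : Module.rank R (M ⧸ LinearMap.range g) + (Module.finrank R M : Cardinal) =
        0 + (Module.finrank R M : Cardinal) := by rw [h1, zero_add]
    exact (Cardinal.add_nat_inj _).mp h3
  obtain ⟨d, hd, hd'⟩ := uniform_torsion R (M ⧸ LinearMap.range g) (rank_eq_zero_iff.mp h0)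
  refine ⟨d, hd, fun x => ?_⟩
  have := hd' (Submodule.Quotient.mk x)
  rwa [← Submodule.Quotient.mk_smul, Submodule.Quotient.mk_eq_zero] at this

/-- Let `R` be a domain and `M` a finite `R`-module, of (finite) rank `r`. Then: some linear map `M →
R^r` has torsion kernel and torsion cokernel; some nonzero `f ∈ R` makes `M_f` free of rank `r` over
`R_f`; and some injective linear map `R^r → M` has torsion cokernel. -/
theorem result (R : Type u) [CommRing R] [IsDomain R] (M : Type u) [AddCommGroup M]
    [Module R M] [Module.Finite R M] :
    (∃ h : M →ₗ[R] (Fin (Module.finrank R M) → R),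
      (∀ x : M, h x = 0 → ∃ c : R, c ≠ 0 ∧ c • x = 0) ∧
      (∀ y : Fin (Module.finrank R M) → R, ∃ c : R, c ≠ 0 ∧ c • y ∈ LinearMap.range h)) ∧
    (∃ f : R, f ≠ 0 ∧ Module.Free (Localization.Away f) (LocalizedModule (Submonoid.powers f) M) ∧
      Module.finrank (Localization.Away f) (LocalizedModule (Submonoid.powers f) M) = Module.finrank R M) ∧
    (∃ g : (Fin (Module.finrank R M) → R) →ₗ[R] M, Function.Injective g ∧
      ∀ x : M, ∃ c : R, c ≠ 0 ∧ c • x ∈ LinearMap.range g) := by
  classical
  obtain ⟨g, hg, d, hd, hd'⟩ := exists_inj R M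
  refine ⟨?_, ?_, ?_⟩
  · let e := LinearEquiv.ofInjective g hg
    let k : M →ₗ[R] LinearMap.range g :=
      LinearMap.codRestrict (LinearMap.range g) (d • LinearMap.id) (fun x => hd' x)
    refine ⟨e.symm.toLinearMap ∘ₗ k, ?_, ?_⟩
    · intro x hx
      refine ⟨d, hd, ?_⟩
      have h1 : k x = 0 := by
        have : e.symm (k x) = 0 := hx
        simpa using this
      have h2 := congrArg Subtype.val h1
      simpa [k] using h2
    · intro y
      refine ⟨d, hd, g y, ?_⟩
      have h1 : k (g y) = d • e y := by
        apply Subtype.ext
        simp [k, e]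
      change e.symm (k (g y)) = d • y
      rw [h1, map_smul, LinearEquiv.symm_apply_apply]
  · refine ⟨d, hd, ?_, ?_⟩
    · let S := Submonoid.powers d
      have hinj : Function.Injective (LocalizedModule.map S g) :=
        LocalizedModule.map_injective S g hg
      have hsurj : Function.Surjective (LocalizedModule.map S g) := by
        intro z
        induction z using LocalizedModule.induction_on with
        | h m s =>
          obtain ⟨y, hy⟩ := hd' m
          refine ⟨LocalizedModule.mk y (⟨d, Submonoid.mem_powers d⟩ * s), ?_⟩
          rw [LocalizedModule.map_mk, hy, LocalizedModule.mk_eq]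
          refine ⟨1, ?_⟩
          simp only [one_smul, Submonoid.smul_def, Submonoid.coe_mul, mul_smul]
          rw [smul_comm]
      have : Module.Free (Localization S) (LocalizedModule S (Fin (Module.finrank R M) → R)) :=
        Module.free_of_isLocalizedModule S (LocalizedModule.mkLinearMap S _)
      exact Module.Free.of_equiv (LinearEquiv.ofBijective (LocalizedModule.map S g) ⟨hinj, hsurj⟩)
    · have hp : Submonoid.powers d ≤ nonZeroDivisors R :=
        Submonoid.powers_le.mpr (mem_nonZeroDivisors_of_ne_zero hd)
      have h1 : Module.finrank (Localization.Away d) (LocalizedModule (Submonoid.powers d) M) =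
          Module.finrank R (LocalizedModule (Submonoid.powers d) M) := by
        have := IsLocalization.rank_eq (Localization.Away d) (Submonoid.powers d) hp
          (N := LocalizedModule (Submonoid.powers d) M)
        simp only [Module.finrank, this]
      rw [h1]
      exact IsLocalizedModule.finrank_eq (Submonoid.powers d)
        (LocalizedModule.mkLinearMap (Submonoid.powers d) M) hp
  · exact ⟨g, hg, fun x => ⟨d, hd, hd' x⟩⟩

end Groth.Agent.S6913
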