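import Groth.Statements.S6916
import Mathlib.LinearAlgebra.TensorProduct.RightExactness
import Mathlib.Tactic
-- import your own Groth.Agent.* helpers here

set_option autoImplicit false
universe u
open TensorProduct
open EtAlg

namespace Groth.Agent.S6916

/-- Let `B' = B ×_A A'` be a fibre square of rings with `A' → A` surjective and `L'` any `B'`-module.
Then the canonical map from `L'` to the glueing of `(L' ⊗_{B'} B, L' ⊗_{B'} A')` is surjective:
every pair `(x, y) ∈ (B ⊗_{B'} L') × (A' ⊗_{B'} L')` with equal images in `A ⊗_{B'} L'` is of the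
form `(1 ⊗ l, 1 ⊗ l)`. (It is in general not injective.) -/
theorem result (B' B A' A : Type u) [CommRing B'] [CommRing B] [CommRing A'] [CommRing A]
    [Algebra B' B] [Algebra B' A'] [Algebra B A] [Algebra A' A] [Algebra B' A] [IsScalarTower B' B A] [IsScalarTower B' A' A]
    (hsq : EtMil.IsFibreSquare B' B A' A)
    (L' : Type u) [AddCommGroup L'] [Module B' L'] (x : B ⊗[B'] L') (y : A' ⊗[B'] L')
    (hxy : (IsScalarTower.toAlgHom B' B A).toLinearMap.rTensor L' x = (IsScalarTower.toAlgHom B' A' A).toLinearMap.rTensor L' y) :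
    ∃ l : L', (1 : B) ⊗ₜ[B'] l = x ∧ (1 : A') ⊗ₜ[B'] l = y := by
  obtain ⟨hsurj, hfib⟩ := hsq
  let tB : B →ₗ[B'] A := (IsScalarTower.toAlgHom B' B A).toLinearMap
  let tA : A' →ₗ[B'] A := (IsScalarTower.toAlgHom B' A' A).toLinearMap
  let f : B' →ₗ[B'] B × A' := (Algebra.linearMap B' B).prod (Algebra.linearMap B' A')
  let g : B × A' →ₗ[B'] A := tB.coprod (-tA)
  have hg : ∀ z : B × A', g z = algebraMap B A z.1 - algebraMap A' A z.2 := by
    intro z
    simp [g, tB, tA, sub_eq_add_neg]
  have hex : Function.Exact f g := by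
    intro z
    constructor
    · intro hz
      rw [hg, sub_eq_zero] at hz
      obtain ⟨b', ⟨h1, h2⟩, _⟩ := hfib z.1 z.2 hz
      exact ⟨b', Prod.ext h1 h2⟩
    · rintro ⟨b', rfl⟩
      rw [hg]
      change algebraMap B A (algebraMap B' B b') - algebraMap A' A (algebraMap B' A' b') = 0
      rw [← IsScalarTower.algebraMap_apply, ← IsScalarTower.algebraMap_apply, sub_self]
  have hgs : Function.Surjective g := by
    intro a
    obtain ⟨a', rfl⟩ := hsurj a
    refine ⟨(0, -a'), ?_⟩
    rw [hg]
    simp
  have hexT := rTensor_exact L' hex hgs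
  let z : (B × A') ⊗[B'] L' :=
    (LinearMap.inl B' B A').rTensor L' x + (LinearMap.inr B' B A').rTensor L' y
  have hz : g.rTensor L' z = 0 := by
    simp only [z, map_add]
    rw [← LinearMap.comp_apply, ← LinearMap.comp_apply, ← LinearMap.rTensor_comp,
      ← LinearMap.rTensor_comp]
    have h1 : g ∘ₗ LinearMap.inl B' B A' = tB := by
      ext b; simp [g]
    have h2 : g ∘ₗ LinearMap.inr B' B A' = -tA := by
      ext a; simp [g]
    rw [h1, h2, LinearMap.rTensor_neg, LinearMap.neg_apply]
    change tB.rTensor L' x + -(tA.rTensor L' y) = 0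
    rw [hxy]
    change tA.rTensor L' y + -(tA.rTensor L' y) = 0
    exact add_neg_cancel _
  obtain ⟨w, hw⟩ := (hexT z).mp hz
  refine ⟨TensorProduct.lid B' L' w, ?_, ?_⟩
  · have hw1 : w = (1 : B') ⊗ₜ[B'] (TensorProduct.lid B' L' w) := by
      rw [← TensorProduct.lid_symm_apply, LinearEquiv.symm_apply_apply]
    have h3 := congrArg ((LinearMap.fst B' B A').rTensor L') hw
    rw [← LinearMap.comp_apply, ← LinearMap.rTensor_comp] at h3
    simp only [z, map_add] at h3
    rw [← LinearMap.comp_apply, ← LinearMap.comp_apply, ← LinearMap.rTensor_comp,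
      ← LinearMap.rTensor_comp] at h3
    have e1 : LinearMap.fst B' B A' ∘ₗ LinearMap.inl B' B A' = LinearMap.id := by ext; simp
    have e2 : LinearMap.fst B' B A' ∘ₗ LinearMap.inr B' B A' = 0 := by ext; simp
    rw [e1, e2, LinearMap.rTensor_id, LinearMap.rTensor_zero, LinearMap.id_apply,
      LinearMap.zero_apply, add_zero] at h3
    rw [← h3, hw1]
    simp [f]
  · have hw1 : w = (1 : B') ⊗ₜ[B'] (TensorProduct.lid B' L' w) := by
      rw [← TensorProduct.lid_symm_apply, LinearEquiv.symm_apply_apply]
    have h3 := congrArg ((LinearMap.snd B' B A').rTensor L') hw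
    rw [← LinearMap.comp_apply, ← LinearMap.rTensor_comp] at h3
    simp only [z, map_add] at h3
    rw [← LinearMap.comp_apply, ← LinearMap.comp_apply, ← LinearMap.rTensor_comp,
      ← LinearMap.rTensor_comp] at h3
    have e1 : LinearMap.snd B' B A' ∘ₗ LinearMap.inl B' B A' = 0 := by ext; simp
    have e2 : LinearMap.snd B' B A' ∘ₗ LinearMap.inr B' B A' = LinearMap.id := by ext; simp
    rw [e1, e2, LinearMap.rTensor_id, LinearMap.rTensor_zero, LinearMap.id_apply,
      LinearMap.zero_apply, zero_add] at h3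
    rw [← h3, hw1]
    simp [f]

end Groth.Agent.S6916
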