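import Groth.Statements.S6917
import Mathlib.Topology.Category.TopCat.Limits.Basic
import Mathlib.CategoryTheory.Limits.Shapes.Pullback.IsPullback.Defs
import Mathlib.RingTheory.Spectrum.Prime.Topology

set_option autoImplicit false
set_option linter.unusedSectionVars false
universe u
open CategoryTheory
open EtAlg

namespace Groth.Agent.S6917

theorem top_isPushout {X₁ X₂ X₃ X₄ : Type u} [TopologicalSpace X₁] [TopologicalSpace X₂]
    [TopologicalSpace X₃] [TopologicalSpace X₄]
    (t : C(X₁, X₂)) (l : C(X₁, X₃)) (r : C(X₂, X₄)) (b : C(X₃, X₄))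
    (w : ∀ x, r (t x) = b (l x))
    (hr : Function.Injective r)
    (hpb : ∀ x₂ x₃, r x₂ = b x₃ → ∃ x₁, t x₁ = x₂ ∧ l x₁ = x₃)
    (hsurj : ∀ x₄, (∃ x₂, r x₂ = x₄) ∨ (∃ x₃, b x₃ = x₄))
    (hinj : ∀ x₃ y₃, x₃ ∉ Set.range l → y₃ ∉ Set.range l → b x₃ = b y₃ → x₃ = y₃)
    (hcl : ∀ S : Set X₄, IsClosed (r ⁻¹' S) → IsClosed (b ⁻¹' S) → IsClosed S) :
    IsPushout (TopCat.ofHom t) (TopCat.ofHom l) (TopCat.ofHom r) (TopCat.ofHom b) := by
  classical
  have hw : TopCat.ofHom t ≫ TopCat.ofHom r = TopCat.ofHom l ≫ TopCat.ofHom b := by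
    ext x
    exact w x
  refine ⟨⟨hw⟩, ⟨?_⟩⟩
  have key : ∀ (s : Limits.PushoutCocone (TopCat.ofHom t) (TopCat.ofHom l)),
      ∃ g : C(X₄, s.pt), (∀ x₂, g (r x₂) = s.inl x₂) ∧ (∀ x₃, g (b x₃) = s.inr x₃) := by
    intro s
    have hs : ∀ x₁, s.inl (t x₁) = s.inr (l x₁) := fun x₁ =>
      ConcreteCategory.congr_hom s.condition x₁
    let g : X₄ → s.pt := fun x₄ =>
      if h : ∃ x₂, r x₂ = x₄ then s.inl h.choose
      else s.inr ((hsurj x₄).resolve_left h).choose
    have g1 : ∀ x₂, g (r x₂) = s.inl x₂ := by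
      intro x₂
      have h : ∃ y, r y = r x₂ := ⟨x₂, rfl⟩
      simp only [g, dif_pos h]
      rw [hr h.choose_spec]
    have g2 : ∀ x₃, g (b x₃) = s.inr x₃ := by
      intro x₃
      by_cases h : ∃ x₂, r x₂ = b x₃
      · obtain ⟨x₂, hx₂⟩ := h
        obtain ⟨x₁, rfl, rfl⟩ := hpb x₂ x₃ hx₂
        rw [← hx₂, g1, hs]
      · simp only [g, dif_neg h]
        have hc := ((hsurj (b x₃)).resolve_left h).choose_spec
        have hn : ∀ y₃, b y₃ = b x₃ → y₃ ∉ Set.range l := by
          rintro y₃ hy ⟨x₁, rfl⟩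
          exact h ⟨t x₁, (w x₁).trans hy⟩
        rw [hinj _ _ (hn _ hc) (hn _ rfl) hc]
    refine ⟨⟨g, ?_⟩, g1, g2⟩
    rw [continuous_iff_isClosed]
    intro C hC
    apply hcl
    · have : r ⁻¹' (g ⁻¹' C) = s.inl ⁻¹' C := by
        ext x
        simp [g1]
      rw [this]
      exact hC.preimage s.inl.hom.continuous
    · have : b ⁻¹' (g ⁻¹' C) = s.inr ⁻¹' C := by
        ext x
        simp [g2]
      rw [this]
      exact hC.preimage s.inr.hom.continuous
  choose g hg1 hg2 using key
  refine Limits.PushoutCocone.IsColimit.mk hw (fun s => TopCat.ofHom (g s)) ?_ ?_ ?_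
  · intro s
    ext x
    exact hg1 s x
  · intro s
    ext x
    exact hg2 s x
  · intro s m hm1 hm2
    ext x
    rcases hsurj x with ⟨x₂, rfl⟩ | ⟨x₃, rfl⟩
    · rw [show (TopCat.ofHom (g s)) (r x₂) = s.inl x₂ from hg1 s x₂, ← hm1]
      rfl
    · rw [show (TopCat.ofHom (g s)) (b x₃) = s.inr x₃ from hg2 s x₃, ← hm2]
      rfl


section
variable {B' B A' A : Type u} [CommRing B'] [CommRing B] [CommRing A'] [CommRing A]
    [Algebra B' B] [Algebra B' A'] [Algebra B A] [Algebra A' A] [Algebra B' A]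
    [IsScalarTower B' B A] [IsScalarTower B' A' A]

theorem comm (x : B') :
    algebraMap B A (algebraMap B' B x) = algebraMap A' A (algebraMap B' A' x) := by
  rw [← IsScalarTower.algebraMap_apply, ← IsScalarTower.algebraMap_apply]

variable (hsq : EtMil.IsFibreSquare B' B A' A)
include hsq

theorem ext' {x y : B'} (h1 : algebraMap B' B x = algebraMap B' B y)
    (h2 : algebraMap B' A' x = algebraMap B' A' y) : x = y :=
  (hsq.2 _ _ (comm y)).unique ⟨h1, h2⟩ ⟨rfl, rfl⟩

theorem exists_mk (b : B) (a' : A') (h : algebraMap B A b = algebraMap A' A a') :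
    ∃ x : B', algebraMap B' B x = b ∧ algebraMap B' A' x = a' :=
  (hsq.2 b a' h).exists

theorem exists_mk0 (i : A') (hi : algebraMap A' A i = 0) :
    ∃ x : B', algebraMap B' B x = 0 ∧ algebraMap B' A' x = i :=
  exists_mk hsq 0 i (by rw [map_zero, hi])

theorem p1_surj : Function.Surjective (algebraMap B' B) := by
  intro b
  obtain ⟨a', ha'⟩ := hsq.1 (algebraMap B A b)
  obtain ⟨x, hx, -⟩ := exists_mk hsq b a' ha'.symm
  exact ⟨x, hx⟩

theorem hr : Function.Injective (PrimeSpectrum.comap (algebraMap B' B)) :=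
  PrimeSpectrum.comap_injective_of_surjective _ (p1_surj hsq)

theorem hpb (q : PrimeSpectrum B) (q' : PrimeSpectrum A')
    (h : PrimeSpectrum.comap (algebraMap B' B) q = PrimeSpectrum.comap (algebraMap B' A') q') :
    ∃ z : PrimeSpectrum A, PrimeSpectrum.comap (algebraMap B A) z = q ∧
      PrimeSpectrum.comap (algebraMap A' A) z = q' := by
  have hmem : ∀ x : B', algebraMap B' B x ∈ q.asIdeal ↔ algebraMap B' A' x ∈ q'.asIdeal := by
    intro x
    have := congrArg (fun P => x ∈ P.asIdeal) h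
    simpa using this
  have hq' : q' ∈ Set.range (PrimeSpectrum.comap (algebraMap A' A)) := by
    rw [range_comap_of_surjective _ _ hsq.1, PrimeSpectrum.mem_zeroLocus]
    intro i hi
    obtain ⟨x, hx1, hx2⟩ := exists_mk0 hsq i hi
    rw [SetLike.mem_coe, ← hx2, ← hmem, hx1]
    exact zero_mem _
  obtain ⟨z, hz⟩ := hq'
  refine ⟨z, ?_, hz⟩
  ext b
  obtain ⟨a', ha'⟩ := hsq.1 (algebraMap B A b)
  obtain ⟨x, hx1, hx2⟩ := exists_mk hsq b a' ha'.symm
  rw [PrimeSpectrum.comap_asIdeal, Ideal.mem_comap, ← ha', ← hx1, hmem, hx2, ← hz,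
    PrimeSpectrum.comap_asIdeal, Ideal.mem_comap]

theorem exists_jm (j : B') (hj : algebraMap B' B j = 0) (a' : A') :
    ∃ x : B', algebraMap B' B x = 0 ∧ algebraMap B' A' x = algebraMap B' A' j * a' := by
  apply exists_mk0 hsq
  rw [map_mul, ← comm (B := B), hj, map_zero, zero_mul]

noncomputable def jm (j : B') (hj : algebraMap B' B j = 0) (a' : A') : B' :=
  (exists_jm hsq j hj a').choose

theorem jm_p1 (j : B') (hj : algebraMap B' B j = 0) (a' : A') :
    algebraMap B' B (jm hsq j hj a') = 0 := (exists_jm hsq j hj a').choose_spec.1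

theorem jm_p2 (j : B') (hj : algebraMap B' B j = 0) (a' : A') :
    algebraMap B' A' (jm hsq j hj a') = algebraMap B' A' j * a' :=
  (exists_jm hsq j hj a').choose_spec.2

theorem jm_mul (j : B') (hj : algebraMap B' B j = 0) (a c : A') :
    jm hsq j hj c * jm hsq j hj a = j * jm hsq j hj (c * a) := by
  apply ext' hsq
  · simp [jm_p1, hj]
  · simp only [map_mul, jm_p2]
    ring

theorem jm_map (j : B') (hj : algebraMap B' B j = 0) (x : B') :
    jm hsq j hj (algebraMap B' A' x) = j * x := by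
  apply ext' hsq
  · simp [jm_p1, hj]
  · simp only [map_mul, jm_p2]

noncomputable def qIdeal (j : B') (hj : algebraMap B' B j = 0) (P : Ideal B') [P.IsPrime]
    (hjP : j ∉ P) : Ideal A' where
  carrier := {a' | jm hsq j hj a' ∈ P}
  zero_mem' := by
    have : jm hsq j hj 0 = 0 := by
      apply ext' hsq
      · simp [jm_p1]
      · simp [jm_p2]
    simp only [Set.mem_ofPred_eq, this]
    exact zero_mem _
  add_mem' := by
    intro a b ha hb
    have : jm hsq j hj (a + b) = jm hsq j hj a + jm hsq j hj b := by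
      apply ext' hsq
      · simp [jm_p1]
      · simp [jm_p2, mul_add]
    simp only [Set.mem_ofPred_eq, this] at ha hb ⊢
    exact add_mem ha hb
  smul_mem' := by
    intro c a ha
    simp only [Set.mem_ofPred_eq, smul_eq_mul] at ha ⊢
    have h1 : j * jm hsq j hj (c * a) ∈ P := by
      rw [← jm_mul]
      exact Ideal.mul_mem_left _ _ ha
    exact (Ideal.IsPrime.mem_or_mem inferInstance h1).resolve_left hjP

theorem mem_qIdeal (j : B') (hj : algebraMap B' B j = 0) (P : Ideal B') [P.IsPrime]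
    (hjP : j ∉ P) (a' : A') : a' ∈ qIdeal hsq j hj P hjP ↔ jm hsq j hj a' ∈ P := Iff.rfl

theorem qIdeal_isPrime (j : B') (hj : algebraMap B' B j = 0) (P : Ideal B') [P.IsPrime]
    (hjP : j ∉ P) : (qIdeal hsq j hj P hjP).IsPrime := by
  refine ⟨?_, ?_⟩
  · rw [Ideal.ne_top_iff_one, mem_qIdeal]
    have : jm hsq j hj 1 = j := by
      apply ext' hsq
      · simp [jm_p1, hj]
      · simp [jm_p2]
    rwa [this]
  · intro a b hab
    rw [mem_qIdeal] at hab
    have h1 : jm hsq j hj a * jm hsq j hj b ∈ P := by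
      rw [jm_mul]
      exact Ideal.mul_mem_left _ _ hab
    exact Ideal.IsPrime.mem_or_mem (I := P) inferInstance h1

theorem comap_qIdeal (j : B') (hj : algebraMap B' B j = 0) (P : Ideal B') [P.IsPrime]
    (hjP : j ∉ P) : Ideal.comap (algebraMap B' A') (qIdeal hsq j hj P hjP) = P := by
  ext x
  rw [Ideal.mem_comap, mem_qIdeal, jm_map]
  constructor
  · intro h
    exact (Ideal.IsPrime.mem_or_mem inferInstance h).resolve_left hjP
  · intro h
    exact Ideal.mul_mem_left _ _ h

theorem hsurj (P : PrimeSpectrum B') :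
    (∃ q, PrimeSpectrum.comap (algebraMap B' B) q = P) ∨
      (∃ q', PrimeSpectrum.comap (algebraMap B' A') q' = P) := by
  by_cases h : P ∈ PrimeSpectrum.zeroLocus (RingHom.ker (algebraMap B' B))
  · left
    rw [← range_comap_of_surjective _ _ (p1_surj hsq)] at h
    exact h
  · right
    rw [PrimeSpectrum.mem_zeroLocus, Set.not_subset] at h
    obtain ⟨j, hj, hjP⟩ := h
    rw [SetLike.mem_coe, RingHom.mem_ker] at hj
    rw [SetLike.mem_coe] at hjP
    have := P.isPrime
    refine ⟨⟨qIdeal hsq j hj P.asIdeal hjP, qIdeal_isPrime hsq j hj P.asIdeal hjP⟩, ?_⟩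
    ext1
    exact comap_qIdeal hsq j hj P.asIdeal hjP

theorem exists_not_mem_of_not_range (q' : PrimeSpectrum A')
    (h : q' ∉ Set.range (PrimeSpectrum.comap (algebraMap A' A))) :
    ∃ i : A', algebraMap A' A i = 0 ∧ i ∉ q'.asIdeal := by
  rw [range_comap_of_surjective _ _ hsq.1, PrimeSpectrum.mem_zeroLocus, Set.not_subset] at h
  obtain ⟨i, hi, hiq⟩ := h
  exact ⟨i, hi, hiq⟩

theorem hinj (x₃ y₃ : PrimeSpectrum A')
    (hx : x₃ ∉ Set.range (PrimeSpectrum.comap (algebraMap A' A)))
    (_hy : y₃ ∉ Set.range (PrimeSpectrum.comap (algebraMap A' A)))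
    (h : PrimeSpectrum.comap (algebraMap B' A') x₃ = PrimeSpectrum.comap (algebraMap B' A') y₃) :
    x₃ = y₃ := by
  have hmem : ∀ x : B', algebraMap B' A' x ∈ x₃.asIdeal ↔ algebraMap B' A' x ∈ y₃.asIdeal := by
    intro x
    have := congrArg (fun P => x ∈ P.asIdeal) h
    simpa using this
  obtain ⟨i, hi, hix⟩ := exists_not_mem_of_not_range hsq x₃ hx
  obtain ⟨j, hj1, hj2⟩ := exists_mk0 hsq i hi
  have hiy : i ∉ y₃.asIdeal := by
    rw [← hj2, ← hmem, hj2]
    exact hix
  ext a'
  obtain ⟨x, hx1, hx2⟩ := exists_mk0 hsq (i * a') (by rw [map_mul, hi, zero_mul])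
  have h1 : a' ∈ x₃.asIdeal ↔ i * a' ∈ x₃.asIdeal :=
    ⟨fun h => Ideal.mul_mem_left _ _ h,
      fun h => (Ideal.IsPrime.mem_or_mem x₃.isPrime h).resolve_left hix⟩
  have h2 : a' ∈ y₃.asIdeal ↔ i * a' ∈ y₃.asIdeal :=
    ⟨fun h => Ideal.mul_mem_left _ _ h,
      fun h => (Ideal.IsPrime.mem_or_mem y₃.isPrime h).resolve_left hiy⟩
  rw [h1, h2, ← hx2, hmem]

theorem hcl (S : Set (PrimeSpectrum B'))
    (h1 : IsClosed (PrimeSpectrum.comap (algebraMap B' B) ⁻¹' S))
    (h2 : IsClosed (PrimeSpectrum.comap (algebraMap B' A') ⁻¹' S)) : IsClosed S := by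
  set S₁ := PrimeSpectrum.comap (algebraMap B' B) ⁻¹' S with hS₁
  set S₂ := PrimeSpectrum.comap (algebraMap B' A') ⁻¹' S with hS₂
  set J₁ := PrimeSpectrum.vanishingIdeal S₁ with hJ₁
  set J₂ := PrimeSpectrum.vanishingIdeal S₂ with hJ₂
  have e1 : PrimeSpectrum.zeroLocus (J₁ : Set B) = S₁ := by
    rw [hJ₁, PrimeSpectrum.zeroLocus_vanishingIdeal_eq_closure, h1.closure_eq]
  have e2 : PrimeSpectrum.zeroLocus (J₂ : Set A') = S₂ := by
    rw [hJ₂, PrimeSpectrum.zeroLocus_vanishingIdeal_eq_closure, h2.closure_eq]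
  have hw : ∀ z : PrimeSpectrum A,
      PrimeSpectrum.comap (algebraMap B' B) (PrimeSpectrum.comap (algebraMap B A) z) =
        PrimeSpectrum.comap (algebraMap B' A') (PrimeSpectrum.comap (algebraMap A' A) z) := by
    intro z
    ext x
    simp only [PrimeSpectrum.comap_asIdeal, Ideal.mem_comap]
    rw [comm (B := B) (A' := A')]
  have key : S = PrimeSpectrum.zeroLocus
      ((Ideal.comap (algebraMap B' B) J₁ ⊓ Ideal.comap (algebraMap B' A') J₂ : Ideal B') :
        Set B') := by
    apply Set.Subset.antisymm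
    · intro P hP
      rw [PrimeSpectrum.mem_zeroLocus]
      rcases hsurj hsq P with ⟨q, rfl⟩ | ⟨q', rfl⟩
      · have hq : q ∈ PrimeSpectrum.zeroLocus (J₁ : Set B) := by
          rw [e1]
          exact hP
        rw [PrimeSpectrum.mem_zeroLocus] at hq
        intro x hx
        exact hq hx.1
      · have hq : q' ∈ PrimeSpectrum.zeroLocus (J₂ : Set A') := by
          rw [e2]
          exact hP
        rw [PrimeSpectrum.mem_zeroLocus] at hq
        intro x hx
        exact hq hx.2
    · intro P hP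
      rw [PrimeSpectrum.mem_zeroLocus] at hP
      by_cases hr : ∃ q, PrimeSpectrum.comap (algebraMap B' B) q = P
      · obtain ⟨q, rfl⟩ := hr
        suffices hq : q ∈ PrimeSpectrum.zeroLocus (J₁ : Set B) by
          rw [e1] at hq
          exact hq
        rw [PrimeSpectrum.mem_zeroLocus]
        intro b hb
        have hfb : algebraMap B A b ∈ (Ideal.map (algebraMap A' A) J₂).radical := by
          rw [← PrimeSpectrum.vanishingIdeal_zeroLocus_eq_radical,
            PrimeSpectrum.mem_vanishingIdeal]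
          intro z hz
          rw [PrimeSpectrum.mem_zeroLocus, SetLike.coe_subset_coe, Ideal.map_le_iff_le_comap] at hz
          have hz2 : PrimeSpectrum.comap (algebraMap A' A) z ∈ S₂ := by
            rw [← e2, PrimeSpectrum.mem_zeroLocus]
            exact hz
          have hz1 : PrimeSpectrum.comap (algebraMap B A) z ∈ S₁ := by
            rw [hS₁, Set.mem_preimage, hw]
            exact hz2
          exact (PrimeSpectrum.mem_vanishingIdeal _ _).1 hb _ hz1
        obtain ⟨n, hn⟩ := hfb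
        have hn' : algebraMap B A b ^ (n + 1) ∈ Ideal.map (algebraMap A' A) J₂ := by
          rw [pow_succ]
          exact Ideal.mul_mem_right _ _ hn
        rw [Ideal.mem_map_iff_of_surjective _ hsq.1] at hn'
        obtain ⟨a', ha', hfa⟩ := hn'
        obtain ⟨x, hx1, hx2⟩ := exists_mk hsq (b ^ (n + 1)) a' (by rw [map_pow, hfa])
        have hxP : x ∈ (PrimeSpectrum.comap (algebraMap B' B) q).asIdeal := by
          apply hP
          refine ⟨?_, ?_⟩
          · rw [SetLike.mem_coe, Ideal.mem_comap, hx1]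
            exact Ideal.pow_mem_of_mem _ hb (n + 1) (Nat.succ_pos n)
          · rw [SetLike.mem_coe, Ideal.mem_comap, hx2]
            exact ha'
        rw [PrimeSpectrum.comap_asIdeal, Ideal.mem_comap, hx1] at hxP
        exact q.isPrime.mem_of_pow_mem (n + 1) hxP
      · obtain ⟨q', rfl⟩ := (hsurj hsq P).resolve_left hr
        have hq' : q' ∉ Set.range (PrimeSpectrum.comap (algebraMap A' A)) := by
          rintro ⟨z, rfl⟩
          exact hr ⟨_, hw z⟩
        obtain ⟨i, hi, hiq⟩ := exists_not_mem_of_not_range hsq q' hq'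
        suffices hq : q' ∈ PrimeSpectrum.zeroLocus (J₂ : Set A') by
          rw [e2] at hq
          exact hq
        rw [PrimeSpectrum.mem_zeroLocus]
        intro a' ha'
        obtain ⟨x, hx1, hx2⟩ := exists_mk0 hsq (i * a') (by rw [map_mul, hi, zero_mul])
        have hxP : x ∈ (PrimeSpectrum.comap (algebraMap B' A') q').asIdeal := by
          apply hP
          refine ⟨?_, ?_⟩
          · rw [SetLike.mem_coe, Ideal.mem_comap, hx1]
            exact zero_mem _
          · rw [SetLike.mem_coe, Ideal.mem_comap, hx2]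
            exact Ideal.mul_mem_left _ _ ha'
        rw [PrimeSpectrum.comap_asIdeal, Ideal.mem_comap, hx2] at hxP
        exact (q'.isPrime.mem_or_mem hxP).resolve_left hiq
  rw [key]
  exact PrimeSpectrum.isClosed_zeroLocus _

end


/-- Let `B' = B ×_A A'` be a fibre square of rings with `A' → A` surjective. Then `Spec(B') = Spec(B)
⨿_{Spec(A)} Spec(A')`: the square of prime spectra is a pushout of topological spaces. -/
theorem result (B' B A' A : Type u) [CommRing B'] [CommRing B] [CommRing A'] [CommRing A]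
    [Algebra B' B] [Algebra B' A'] [Algebra B A] [Algebra A' A] [Algebra B' A] [IsScalarTower B' B A] [IsScalarTower B' A' A]
    (hsq : EtMil.IsFibreSquare B' B A' A) :
    IsPushout (TopCat.ofHom (ContinuousMap.mk (PrimeSpectrum.comap (algebraMap B A)) (PrimeSpectrum.continuous_comap _))) (TopCat.ofHom (ContinuousMap.mk (PrimeSpectrum.comap (algebraMap A' A)) (PrimeSpectrum.continuous_comap _)))
      (TopCat.ofHom (ContinuousMap.mk (PrimeSpectrum.comap (algebraMap B' B)) (PrimeSpectrum.continuous_comap _)))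
      (TopCat.ofHom (ContinuousMap.mk (PrimeSpectrum.comap (algebraMap B' A')) (PrimeSpectrum.continuous_comap _))) := by
  exact top_isPushout _ _ _ _
    (fun z => by
      apply PrimeSpectrum.ext
      ext x
      simp only [ContinuousMap.coe_mk, PrimeSpectrum.comap_asIdeal, Ideal.mem_comap]
      rw [comm (B := B) (A' := A')])
    (hr hsq) (hpb hsq) (hsurj hsq) (hinj hsq) (hcl hsq)

end Groth.Agent.S6917
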