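import Mathlib
-- Template for statement S6921 (row 6920; see the milestone table for weights).
-- Copy to Groth/Agent/S6921.lean and replace the sorry. The statement below is byte-identical to the frozen
-- statement EtAlg.GrothFrozen.S6921 (Groth/Statements/S6921.lean; the theorem EtAlg.milnor_relative_glue_finite);
-- the grader kernel-checks Groth.Agent.S6921.result against that frozen type. Keep the theorem IN THIS FILE
-- (a `result` declared elsewhere and merely imported here is not credited); helpers may live anywhere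
-- under Groth/Agent/.
import Groth.Statements.S6921
import Groth.Agent.S6899

set_option autoImplicit false
universe u

namespace Groth.Agent.S6921

open TensorProduct

theorem surjective_of_isPushout (R S R' S' : Type u) [CommRing R] [CommRing S] [CommRing R']
    [CommRing S'] [Algebra R S] [Algebra R R'] [Algebra S S'] [Algebra R' S'] [Algebra R S']
    [IsScalarTower R R' S'] [IsScalarTower R S S'] [h : Algebra.IsPushout R S R' S']
    (hs : Function.Surjective (algebraMap R S)) : Function.Surjective (algebraMap R' S') := by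
  intro x
  refine h.out.inductionOn x (fun x => ∃ y, algebraMap R' S' y = x) ⟨0, map_zero _⟩
    (fun m => ⟨m, rfl⟩) ?_ ?_
  · rintro s n ⟨y, rfl⟩
    obtain ⟨r, rfl⟩ := hs s
    refine ⟨r • y, ?_⟩
    rw [algebraMap_smul, Algebra.smul_def, Algebra.smul_def, map_mul,
      ← IsScalarTower.algebraMap_apply]
  · rintro _ _ ⟨y₁, rfl⟩ ⟨y₂, rfl⟩
    exact ⟨y₁ + y₂, map_add _ _ _⟩

end Groth.Agent.S6921

open TensorProduct
open EtAlg

namespace Groth.Agent.S6921

/-- Let `B' = B ×_A A'` be a fibre square of rings with `A' → A` surjective, `B' → D'` a ring map, and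
`D = D' ⊗_{B'} B`, `C' = D' ⊗_{B'} A'`, `C = D' ⊗_{B'} A`. Let `N` be a finite `D`-module, `M'` a
finite `C'`-module and `φ : N ⊗_D C ≅ M' ⊗_{C'} C` a `C`-linear isomorphism. Then the glued module
`N ×_φ M'` is a finite `D'`-module. -/
theorem result (B' B A' A : Type u) [CommRing B'] [CommRing B] [CommRing A'] [CommRing A]
    [Algebra B' B] [Algebra B' A'] [Algebra B A] [Algebra A' A] [Algebra B' A] [IsScalarTower B' B A] [IsScalarTower B' A' A]
    (hsq : EtMil.IsFibreSquare B' B A' A)
    (D' D C' C : Type u) [CommRing D'] [CommRing D] [CommRing C'] [CommRing C]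
    [Algebra B' D'] [Algebra B D] [Algebra A' C'] [Algebra A C]
    [Algebra D' D] [Algebra B' D] [IsScalarTower B' B D] [IsScalarTower B' D' D] [Algebra.IsPushout B' B D' D]
    [Algebra D' C'] [Algebra B' C'] [IsScalarTower B' A' C'] [IsScalarTower B' D' C'] [Algebra.IsPushout B' A' D' C']
    [Algebra D' C] [Algebra B' C] [IsScalarTower B' A C] [IsScalarTower B' D' C] [Algebra.IsPushout B' A D' C]
    [Algebra D C] [IsScalarTower D' D C] [Algebra B C] [IsScalarTower B A C] [IsScalarTower B D C]
    [Algebra C' C] [IsScalarTower D' C' C] [Algebra A' C] [IsScalarTower A' A C] [IsScalarTower A' C' C]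
    {N M' : Type u} [AddCommGroup N] [Module D N] [Module D' N] [IsScalarTower D' D N]
    [AddCommGroup M'] [Module C' M'] [Module D' M'] [IsScalarTower D' C' M'] (φ : C ⊗[D] N ≃ₗ[C] C ⊗[C'] M')
    [Module.Finite D N] [Module.Finite C' M'] : Module.Finite D' ↥(EtMil.glue D' φ) := by
  classical
  obtain ⟨hsurjA, hfib⟩ := hsq
  -- surjectivity of B' → B
  have hB : Function.Surjective (algebraMap B' B) := by
    intro b
    obtain ⟨a', ha'⟩ := hsurjA (algebraMap B A b)
    obtain ⟨b', ⟨hb', -⟩, -⟩ := hfib b a' ha'.symm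
    exact ⟨b', hb'⟩
  have hD : Function.Surjective (algebraMap D' D) := surjective_of_isPushout B' B D' D hB
  -- surjectivity of C' → C
  have hC : Function.Surjective (algebraMap C' C) := by
    intro x
    have hpo : Algebra.IsPushout B' A D' C := inferInstance
    refine hpo.out.inductionOn x (fun x => ∃ y, algebraMap C' C y = x) ⟨0, map_zero _⟩ ?_ ?_ ?_
    · intro d
      refine ⟨algebraMap D' C' d, ?_⟩
      rw [← IsScalarTower.algebraMap_apply]
      rfl
    · rintro a n ⟨y, rfl⟩
      obtain ⟨a', rfl⟩ := hsurjA a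
      refine ⟨a' • y, ?_⟩
      rw [algebraMap_smul, Algebra.smul_def, Algebra.smul_def, map_mul,
        ← IsScalarTower.algebraMap_apply]
    · rintro _ _ ⟨y₁, rfl⟩ ⟨y₂, rfl⟩
      exact ⟨y₁ + y₂, map_add _ _ _⟩
  -- the kernel of C' → C comes from the kernel of D' → D
  have hK : ∀ u : C', algebraMap C' C u = 0 →
      ∃ d : D', algebraMap D' D d = 0 ∧ algebraMap D' C' d = u := by
    have hpo' : Algebra.IsPushout B' A' D' C' := inferInstance
    have hpo : Algebra.IsPushout B' A D' C := inferInstance
    have hb' := hpo'.out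
    have hb := hpo.out
    let gA : A' →ₗ[B'] A := (IsScalarTower.toAlgHom B' A' A).toLinearMap
    have hgA : Function.Surjective gA := hsurjA
    have hex : Function.Exact (LinearMap.ker gA).subtype gA := LinearMap.exact_subtype_ker_map gA
    have hexT := rTensor_exact D' hex hgA
    have key : ∀ z : A' ⊗[B'] D', algebraMap C' C (hb'.equiv z) = hb.equiv (gA.rTensor D' z) := by
      intro z
      induction z using TensorProduct.induction_on with
      | zero => simp
      | tmul a d =>
        rw [LinearMap.rTensor_tmul, IsBaseChange.equiv_tmul, IsBaseChange.equiv_tmul]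
        change algebraMap C' C (a • algebraMap D' C' d) = (algebraMap A' A a) • algebraMap D' C d
        rw [algebraMap_smul, Algebra.smul_def, Algebra.smul_def, map_mul,
          ← IsScalarTower.algebraMap_apply, ← IsScalarTower.algebraMap_apply D' C' C]
      | add x y hx hy => rw [map_add, map_add, map_add, map_add, hx, hy]
    intro u hu
    have h1 : gA.rTensor D' (hb'.equiv.symm u) = 0 := by
      apply hb.equiv.injective
      rw [← key, LinearEquiv.apply_symm_apply, hu, map_zero]
    obtain ⟨w, hw⟩ := (hexT _).mp h1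
    have hmain : ∀ w : (LinearMap.ker gA) ⊗[B'] D', ∃ d : D', algebraMap D' D d = 0 ∧
        algebraMap D' C' d = hb'.equiv ((LinearMap.ker gA).subtype.rTensor D' w) := by
      intro w
      induction w using TensorProduct.induction_on with
      | zero => exact ⟨0, map_zero _, by simp⟩
      | tmul i d₀ =>
        have hi : algebraMap A' A i.1 = 0 := i.2
        obtain ⟨j, ⟨hj1, hj2⟩, -⟩ := hfib 0 i.1 (by rw [map_zero, hi])
        refine ⟨j • d₀, ?_, ?_⟩
        · rw [Algebra.smul_def, map_mul, ← IsScalarTower.algebraMap_apply,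
            IsScalarTower.algebraMap_apply B' B D, hj1, map_zero, zero_mul]
        · rw [LinearMap.rTensor_tmul, IsBaseChange.equiv_tmul]
          change algebraMap D' C' (j • d₀) = i.1 • algebraMap D' C' d₀
          rw [← hj2, algebraMap_smul, Algebra.smul_def, Algebra.smul_def, map_mul,
            ← IsScalarTower.algebraMap_apply]
      | add x y hx hy =>
        obtain ⟨d₁, h1, h2⟩ := hx
        obtain ⟨d₂, h3, h4⟩ := hy
        exact ⟨d₁ + d₂, by rw [map_add, h1, h3, add_zero], by
          rw [map_add, map_add, map_add, h2, h4]⟩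
    obtain ⟨d, hd1, hd2⟩ := hmain w
    exact ⟨d, hd1, by rw [hd2, hw, LinearEquiv.apply_symm_apply]⟩
  set G := EtMil.glue D' φ with hG
  set J := RingHom.ker (algebraMap C' C) with hJ
  have memG : ∀ x : N × M', x ∈ G ↔ φ ((1 : C) ⊗ₜ[D] x.1) = (1 : C) ⊗ₜ[C'] x.2 := fun x => Iff.rfl
  have hfst : ∀ n : N, ∃ m' : M', (n, m') ∈ G := by
    intro n
    obtain ⟨m, hm⟩ := Groth.Agent.S6899.exists_one_tmul hC (φ ((1 : C) ⊗ₜ[D] n))
    exact ⟨m, hm⟩
  have hzero : ∀ m' : M', m' ∈ J • (⊤ : Submodule C' M') → ((0 : N), m') ∈ G := by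
    intro m' hm'
    rw [memG]
    rw [TensorProduct.tmul_zero, map_zero, Groth.Agent.S6899.one_tmul_eq_zero_of_mem m' hm']
  have hzero' : ∀ m' : M', ((0 : N), m') ∈ G → m' ∈ J • (⊤ : Submodule C' M') := by
    intro m' h
    rw [memG] at h
    rw [TensorProduct.tmul_zero, map_zero] at h
    exact Groth.Agent.S6899.mem_ker_smul_of_one_tmul_eq_zero hC m' h.symm
  -- the second projections generate `M'` over `C'`
  set S : Submodule C' M' := Submodule.span C' (Prod.snd '' (G : Set (N × M'))) with hS
  have hJS : J • (⊤ : Submodule C' M') ≤ S := by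
    intro m' hm'
    exact Submodule.subset_span ⟨(0, m'), hzero m' hm', rfl⟩
  have hone : ∀ (c' : C') (m : M'), (algebraMap C' C c') ⊗ₜ[C'] m = (1 : C) ⊗ₜ[C'] (c' • m) := by
    intro c' m
    rw [← TensorProduct.smul_tmul, Algebra.smul_def, mul_one]
  have hφS : ∀ t : C ⊗[D] N, ∃ s ∈ S, φ t = (1 : C) ⊗ₜ[C'] s := by
    intro t
    induction t using TensorProduct.induction_on with
    | zero => exact ⟨0, S.zero_mem, by simp⟩
    | tmul c n =>
      obtain ⟨m, hm⟩ := hfst n
      obtain ⟨c', rfl⟩ := hC c
      refine ⟨c' • m, S.smul_mem c' (Submodule.subset_span ⟨(n, m), hm, rfl⟩), ?_⟩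
      have h1 : (algebraMap C' C c') ⊗ₜ[D] n = (algebraMap C' C c') • ((1 : C) ⊗ₜ[D] n) := by
        rw [TensorProduct.smul_tmul', smul_eq_mul, mul_one]
      rw [h1, map_smul, (memG (n, m)).mp hm, TensorProduct.smul_tmul', smul_eq_mul, mul_one, hone]
    | add x y hx hy =>
      obtain ⟨s₁, hs₁, h₁⟩ := hx
      obtain ⟨s₂, hs₂, h₂⟩ := hy
      exact ⟨s₁ + s₂, S.add_mem hs₁ hs₂, by rw [map_add, h₁, h₂, TensorProduct.tmul_add]⟩
  have hStop : S = ⊤ := by
    rw [eq_top_iff]
    intro m' _
    obtain ⟨s, hs, h⟩ := hφS (φ.symm ((1 : C) ⊗ₜ[C'] m'))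
    rw [LinearEquiv.apply_symm_apply] at h
    have h0 : (1 : C) ⊗ₜ[C'] (m' - s) = 0 := by rw [TensorProduct.tmul_sub, h, sub_self]
    have h2 := hJS (Groth.Agent.S6899.mem_ker_smul_of_one_tmul_eq_zero hC (m' - s) h0)
    have h3 : m' = (m' - s) + s := by abel
    rw [h3]
    exact S.add_mem h2 hs
  -- a finite subset of `snd '' G` spanning `M'`
  obtain ⟨T, hTsub, hTspan⟩ : ∃ T : Finset M', (T : Set M') ⊆ Prod.snd '' (G : Set (N × M')) ∧
      Submodule.span C' (T : Set M') = ⊤ := by
    obtain ⟨F, hF⟩ := (Module.Finite.fg_top : (⊤ : Submodule C' M').FG)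
    have hch : ∀ y : M', ∃ Ty : Finset M', (Ty : Set M') ⊆ Prod.snd '' (G : Set (N × M')) ∧
        y ∈ Submodule.span C' (Ty : Set M') := by
      intro y
      have hy : y ∈ S := by rw [hStop]; exact Submodule.mem_top
      exact Submodule.mem_span_finite_of_mem_span hy
    choose Ty hTy1 hTy2 using hch
    refine ⟨F.biUnion Ty, ?_, ?_⟩
    · intro x hx
      rw [Finset.mem_coe, Finset.mem_biUnion] at hx
      obtain ⟨y, -, hxy⟩ := hx
      exact hTy1 y hxy
    · rw [eq_top_iff, ← hF, Submodule.span_le]
      intro y hy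
      refine Submodule.span_mono ?_ (hTy2 y)
      intro x hx
      rw [Finset.mem_coe, Finset.mem_biUnion]
      exact ⟨y, hy, hx⟩
  have hTch : ∀ t : M', t ∈ T → ∃ n : N, (n, t) ∈ G := by
    intro t ht
    obtain ⟨x, hx, rfl⟩ := hTsub ht
    exact ⟨x.1, hx⟩
  -- `N` is finite over `D'`
  have hfinD : Module.Finite D' D := Module.Finite.of_surjective (Algebra.linearMap D' D) hD
  have hfinN : Module.Finite D' N := Module.Finite.trans D N
  obtain ⟨FN, hFN⟩ := (Module.Finite.fg_top : (⊤ : Submodule D' N).FG)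
  choose mN hmN using hfst
  choose! nT hnT using hTch
  -- the generators
  set gens : Finset (N × M') := FN.image (fun n => (n, mN n)) ∪ T.image (fun t => (nT t, t))
    with hgens
  set P : Submodule D' (N × M') := Submodule.span D' (gens : Set (N × M')) with hP
  have hPG : P ≤ G := by
    rw [hP, Submodule.span_le]
    intro x hx
    rw [Finset.mem_coe, hgens, Finset.mem_union, Finset.mem_image, Finset.mem_image] at hx
    rcases hx with ⟨n, -, rfl⟩ | ⟨t, ht, rfl⟩
    · exact hmN n
    · exact hnT t ht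
  have ha : ∀ n : N, ∃ p ∈ P, p.1 = n := by
    intro n
    have hn : n ∈ Submodule.span D' (FN : Set N) := by rw [hFN]; exact Submodule.mem_top
    refine Submodule.span_induction ?_ ?_ ?_ ?_ hn
    · intro x hx
      refine ⟨(x, mN x), Submodule.subset_span ?_, rfl⟩
      rw [Finset.mem_coe, hgens, Finset.mem_union]
      exact Or.inl (Finset.mem_image.mpr ⟨x, hx, rfl⟩)
    · exact ⟨0, P.zero_mem, rfl⟩
    · rintro x y - - ⟨p, hp, rfl⟩ ⟨q, hq, rfl⟩
      exact ⟨p + q, P.add_mem hp hq, rfl⟩
    · rintro d x - ⟨p, hp, rfl⟩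
      exact ⟨d • p, P.smul_mem d hp, rfl⟩
  have hb1 : ∀ u ∈ J, ∀ t ∈ T, ((0 : N), u • t) ∈ P := by
    intro u hu t ht
    obtain ⟨d, hd1, hd2⟩ := hK u hu
    have hmem : (nT t, t) ∈ P := by
      refine Submodule.subset_span ?_
      rw [Finset.mem_coe, hgens, Finset.mem_union]
      exact Or.inr (Finset.mem_image.mpr ⟨t, ht, rfl⟩)
    have h1 : d • ((nT t, t) : N × M') = ((0 : N), u • t) := by
      rw [Prod.smul_mk, ← IsScalarTower.algebraMap_smul D d (nT t), hd1, zero_smul,
        ← IsScalarTower.algebraMap_smul C' d t, hd2]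
    rw [← h1]
    exact P.smul_mem d hmem
  have hb2 : ∀ m : M', ∀ u ∈ J, ((0 : N), u • m) ∈ P := by
    intro m
    have hm : m ∈ Submodule.span C' (T : Set M') := by rw [hTspan]; exact Submodule.mem_top
    refine Submodule.span_induction ?_ ?_ ?_ ?_ hm
    · intro t ht u hu
      exact hb1 u hu t ht
    · intro u _
      rw [smul_zero]
      exact P.zero_mem
    · intro x y _ _ hx hy u hu
      have : ((0 : N), u • (x + y)) = ((0 : N), u • x) + ((0 : N), u • y) := by
        rw [Prod.mk_add_mk, add_zero, smul_add]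
      rw [this]
      exact P.add_mem (hx u hu) (hy u hu)
    · intro c x _ hx u hu
      rw [← mul_smul]
      exact hx (u * c) (J.mul_mem_right c hu)
  have hb : ∀ m : M', m ∈ J • (⊤ : Submodule C' M') → ((0 : N), m) ∈ P := by
    intro m hm
    refine Submodule.smul_induction_on hm ?_ ?_
    · intro u hu x _
      exact hb2 x u hu
    · intro x y hx hy
      have : ((0 : N), x + y) = ((0 : N), x) + ((0 : N), y) := by
        rw [Prod.mk_add_mk, add_zero]
      rw [this]
      exact P.add_mem hx hy
  have hGP : G ≤ P := by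
    intro x hx
    obtain ⟨p, hp, hp1⟩ := ha x.1
    have hxp : x - p ∈ G := G.sub_mem hx (hPG hp)
    have h0 : x - p = ((0 : N), x.2 - p.2) := by
      ext
      · simp [hp1]
      · simp
    rw [h0] at hxp
    have := hb _ (hzero' _ hxp)
    rw [← h0] at this
    have h3 : x = (x - p) + p := by abel
    rw [h3]
    exact P.add_mem this hp
  have hGeq : G = P := le_antisymm hGP hPG
  rw [Module.Finite.iff_fg, hGeq]
  exact ⟨gens, rfl⟩

end Groth.Agent.S6921
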