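import Groth.Statements.S6927
import Mathlib
import Groth.Agent.S6926
import Groth.Agent.S6928
import Groth.Agent.Lib.Helper63.LocalColim
import Groth.Agent.Lib.Helper63.ColimFlat5

set_option autoImplicit false
universe u
open TensorProduct
open FlatMor

namespace Groth.Agent.S6927

/-- Let `(R, 𝔪)` be a complete Noetherian local ring, `R → S` of finite type, `M` a finite `S`-module,
and `I ⊆ 𝔪` the least ideal for which, at every prime `𝔮` of `S` lying over `𝔪`, the localization
`(M/IM)_𝔮` is an `R/I`-flat module. Then for every local homomorphism `φ : R → R'` of local rings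
(`R'` arbitrary), with `S' = S ⊗_R R'` and `M' = M ⊗_R R'`: `M'_{𝔮'}` is flat over `R'` for every
prime `𝔮'` of `S'` over `𝔪'` if and only if `φ(I) = 0`. -/
theorem result {R S R' S' : Type u} [CommRing R] [IsLocalRing R]
    [IsNoetherianRing R] [IsAdicComplete (IsLocalRing.maximalIdeal R) R] [CommRing S]
    [CommRing R'] [IsLocalRing R'] [CommRing S']
    [Algebra R S] [Algebra.FiniteType R S] [Algebra R R'] [IsLocalHom (algebraMap R R')] [Algebra S S'] [Algebra R' S']
    [Algebra R S'] [IsScalarTower R S S'] [IsScalarTower R R' S'] [Algebra.IsPushout R S R' S']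
    {M M' : Type u} [AddCommGroup M] [Module S M] [Module R M] [IsScalarTower R S M] [Module.Finite S M]
    [AddCommGroup M'] [Module S' M'] [Module R' M'] [IsScalarTower R' S' M'] [Module S M'] [IsScalarTower S S' M']
    (f : M →ₗ[S] M') (hf : IsBaseChange S' f) (I : Ideal R) (hIm : I ≤ IsLocalRing.maximalIdeal R)
    (hI : (∀ (q : Ideal S) [q.IsPrime], q.comap (algebraMap R S) = IsLocalRing.maximalIdeal R →
        Module.Flat (R ⧸ I) ((R ⧸ I) ⊗[R] LocalizedModule q.primeCompl M)))
    (hmin : ∀ J : Ideal R, (∀ (q : Ideal S) [q.IsPrime], q.comap (algebraMap R S) = IsLocalRing.maximalIdeal R →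
        Module.Flat (R ⧸ J) ((R ⧸ J) ⊗[R] LocalizedModule q.primeCompl M)) → I ≤ J) :
    (∀ (q' : Ideal S') [q'.IsPrime], q'.comap (algebraMap R' S') = IsLocalRing.maximalIdeal R' → FlatCA.FlatAt R' q' M') ↔
      I ≤ RingHom.ker (algebraMap R R') := by
  constructor
  · intro H
    have hSfp : Algebra.FinitePresentation R S :=
      Algebra.FinitePresentation.of_finiteType.1 inferInstance
    have hSn : IsNoetherianRing S := Algebra.FiniteType.isNoetherianRing R S
    have hMfp : Module.FinitePresentation S M := Module.finitePresentation_of_finite S M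
    have hS : FlatCA.EssFinitePresentation R S :=
      ⟨S, inferInstance, inferInstance, Algebra.id S, inferInstance, ⊥, hSfp,
        IsLocalization.self bot_le⟩
    have h : ∀ (q' : Ideal S') [q'.IsPrime],
        (⨆ A : Groth.Agent.Lib.Helper63.LocalColim.Idx R R',
          (IsLocalRing.maximalIdeal (Groth.Agent.Lib.Helper63.LocalColim.Gr A)).map
            (algebraMap (Groth.Agent.Lib.Helper63.LocalColim.Gr A) R')).map (algebraMap R' S') ⊔
          (⊥ : Ideal S).map (algebraMap S S') ≤ q' → FlatCA.FlatAt R' q' M' := by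
      intro q' hq' hle
      refine H q' ?_
      have h1 : (IsLocalRing.maximalIdeal R').map (algebraMap R' S') ≤ q' :=
        (Ideal.map_mono Groth.Agent.Lib.Helper63.LocalColim.maximalIdeal_le_iSup).trans
          (le_sup_left.trans hle)
      have hp : (q'.comap (algebraMap R' S')).IsPrime := Ideal.comap_isPrime _ _
      exact ((IsLocalRing.maximalIdeal.isMaximal R').eq_of_le hp.ne_top
        (Ideal.map_le_iff_le_comap.1 h1)).symm
    obtain ⟨A, hA⟩ := Groth.Agent.S6928.result hS Groth.Agent.Lib.Helper63.LocalColim.Gr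
      Groth.Agent.Lib.Helper63.LocalColim.tr
      (fun A B h => Groth.Agent.Lib.Helper63.LocalColim.tr_comp_algebraMap h) R'
      Groth.Agent.Lib.Helper63.LocalColim.isDirectedColimitRing
      (fun A => IsLocalRing.maximalIdeal (Groth.Agent.Lib.Helper63.LocalColim.Gr A))
      (fun A B h => Groth.Agent.Lib.Helper63.LocalColim.map_maximalIdeal_tr_le h) f hf ⊥ h
    have hn := Groth.Agent.Lib.Helper63.LocalColim.isNoetherianRing_Gr A
    have hl := Groth.Agent.Lib.Helper63.LocalColim.isLocalHom_Gr A
    have h26 := Groth.Agent.Lib.Helper63.ColimFlat.le_ker_of_stage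
      (C := Groth.Agent.Lib.Helper63.LocalColim.Gr A) I hIm hI hmin ⊥ rfl hA
    intro x hx
    have hx0 := h26 hx
    rw [RingHom.mem_ker] at hx0 ⊢
    rw [IsScalarTower.algebraMap_apply R (Groth.Agent.Lib.Helper63.LocalColim.Gr A) R', hx0,
      map_zero]
  · intro hle q' _ hq'
    unfold FlatCA.FlatAt
    refine Groth.Agent.S6926.flatAt_of_flat_tensor (R := R) f hf q' ?_
    set q : Ideal S := q'.comap (algebraMap S S') with hq
    have hqm : q.comap (algebraMap R S) = IsLocalRing.maximalIdeal R :=
      Groth.Agent.S6926.comap_eq_maximalIdeal q' hq'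
    have hflat := hI q hqm
    let alg : Algebra (R ⧸ I) R' :=
      (Ideal.Quotient.lift I (algebraMap R R') (fun a ha => hle ha)).toAlgebra
    have tower : IsScalarTower R (R ⧸ I) R' := IsScalarTower.of_algebraMap_eq (fun r => rfl)
    have h1 : Module.Flat R' (R' ⊗[R ⧸ I] ((R ⧸ I) ⊗[R] LocalizedModule q.primeCompl M)) :=
      inferInstance
    exact Module.Flat.of_linearEquiv
      (AlgebraTensorModule.cancelBaseChange R (R ⧸ I) R' R' (LocalizedModule q.primeCompl M)).symm

end Groth.Agent.S6927
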