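import Groth.Statements.S6929
import Mathlib

set_option autoImplicit false
universe u
open EtAlg

namespace Groth.Agent.S6929

section

theorem finiteType_pi {R : Type*} [CommRing R] {ι : Type*} [Fintype ι]
    (A : ι → Type*) [∀ i, CommRing (A i)] [∀ i, Algebra R (A i)]
    (hA : ∀ i, Algebra.FiniteType R (A i)) : Algebra.FiniteType R (∀ i, A i) := by
  classical
  choose s hs using fun i => (hA i).out
  let gens : Finset (∀ i, A i) :=
    Finset.univ.biUnion (fun i => insert (Pi.single i 1) ((s i).image (Pi.single i)))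
  refine ⟨⟨gens, ?_⟩⟩
  have h1 : ∀ i, (Pi.single i 1 : ∀ i, A i) ∈ Algebra.adjoin R (gens : Set (∀ i, A i)) :=
    fun i => Algebra.subset_adjoin (by
      simp only [gens, Finset.coe_biUnion, Finset.coe_univ, Set.mem_univ, Set.iUnion_true,
        Set.mem_iUnion]
      exact ⟨i, by simp⟩)
  have h2 : ∀ i (a : A i), (Pi.single i a : ∀ i, A i) ∈
      Algebra.adjoin R (gens : Set (∀ i, A i)) := by
    intro i a
    have : a ∈ Algebra.adjoin R ((s i : Finset (A i)) : Set (A i)) := by
      rw [hs i]
      trivial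
    induction this using Algebra.adjoin_induction with
    | mem x hx =>
      exact Algebra.subset_adjoin (by
        simp only [gens, Finset.coe_biUnion, Finset.coe_univ, Set.mem_univ, Set.iUnion_true,
          Set.mem_iUnion]
        exact ⟨i, by simp only [Finset.coe_insert, Finset.coe_image]; exact Or.inr ⟨x, hx, rfl⟩⟩)
    | algebraMap r =>
      rw [Algebra.algebraMap_eq_smul_one, Pi.single_smul]
      exact Subalgebra.smul_mem _ (h1 i) r
    | add x y _ _ hx hy =>
      rw [Pi.single_add]
      exact Subalgebra.add_mem _ hx hy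
    | mul x y _ _ hx hy =>
      rw [Pi.single_mul]
      exact Subalgebra.mul_mem _ hx hy
  rw [eq_top_iff]
  intro t _
  have : t = ∑ i, Pi.single i (t i) := (Finset.univ_sum_single t).symm
  rw [this]
  exact Subalgebra.sum_mem _ (fun i _ => h2 i (t i))

end

/-- Let `R` be a Noetherian ring, `ι` a finite index type, and `φ_i : A_i → B_i`, `ψ_i : Q → B_i`
surjective `R`-algebra maps, where `Q` and all `A_i`, `B_i` are `R`-algebras of finite type. Then
the fibre product ring `P = Q ×_{∏ B_i} ∏ A_i` (pairs `(q, a)` with `ψ_i(q) = φ_i(a_i)` for all `i`)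
is an `R`-algebra of finite type. -/
theorem result (R : Type u) [CommRing R] [IsNoetherianRing R] {ι : Type u} [Fintype ι]
    (Q : Type u) [CommRing Q] [Algebra R Q] [Algebra.FiniteType R Q] (A B : ι → Type u) [∀ i, CommRing (A i)]
    [∀ i, CommRing (B i)] [∀ i, Algebra R (A i)] [∀ i, Algebra R (B i)] (hA : ∀ i, Algebra.FiniteType R (A i))
    (hB : ∀ i, Algebra.FiniteType R (B i)) (φ : ∀ i, A i →ₐ[R] B i) (ψ : ∀ i, Q →ₐ[R] B i)
    (hφ : ∀ i, Function.Surjective (φ i)) (hψ : ∀ i, Function.Surjective (ψ i)) :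
    Algebra.FiniteType R ↥(AlgHom.equalizer ((AlgHom.pi ψ).comp (AlgHom.fst R Q (∀ i, A i)))
      ((AlgHom.pi fun i => (φ i).comp (Pi.evalAlgHom R A i)).comp (AlgHom.snd R Q (∀ i, A i)))) := by
  classical
  have hT : Algebra.FiniteType R (Q × (∀ i, A i)) := by
    have := finiteType_pi A hA
    infer_instance
  have hmem : ∀ t : Q × (∀ i, A i), t ∈ (AlgHom.equalizer ((AlgHom.pi ψ).comp
      (AlgHom.fst R Q (∀ i, A i))) ((AlgHom.pi fun i => (φ i).comp (Pi.evalAlgHom R A i)).comp
      (AlgHom.snd R Q (∀ i, A i)))) ↔ ∀ i, ψ i t.1 = φ i (t.2 i) := by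
    intro t
    rw [AlgHom.mem_equalizer]
    constructor
    · intro h i
      exact congrFun h i
    · intro h
      funext i
      exact h i
  choose lift hlift using fun (q : Q) (i : ι) => hφ i (ψ i q)
  choose back hback using fun (i : ι) (a : A i) => hψ i (φ i a)
  refine ⟨fg_of_fg_of_fg R _ (Q × (∀ i, A i)) hT.out ?_ Subtype.val_injective⟩
  let e0 : Q × (∀ i, A i) := (1, 0)
  let e : ι → Q × (∀ i, A i) := fun i => (0, Pi.single i 1)
  refine ⟨insert e0 (Finset.univ.image e), ?_⟩
  rw [eq_top_iff]
  rintro ⟨q, a⟩ -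
  let pQ : ↥(AlgHom.equalizer ((AlgHom.pi ψ).comp (AlgHom.fst R Q (∀ i, A i)))
      ((AlgHom.pi fun i => (φ i).comp (Pi.evalAlgHom R A i)).comp
      (AlgHom.snd R Q (∀ i, A i)))) :=
    ⟨(q, fun i => lift q i), (hmem _).mpr fun i => (hlift q i).symm⟩
  let pA : ι → ↥(AlgHom.equalizer ((AlgHom.pi ψ).comp (AlgHom.fst R Q (∀ i, A i)))
      ((AlgHom.pi fun i => (φ i).comp (Pi.evalAlgHom R A i)).comp
      (AlgHom.snd R Q (∀ i, A i)))) := fun i =>
    ⟨(back i (a i), fun j => if h : j = i then h ▸ a i else lift (back i (a i)) j),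
      (hmem _).mpr fun j => by
        by_cases h : j = i
        · subst h
          simp only [dif_pos]
          exact hback j (a j)
        · simp only [dif_neg h]
          exact (hlift _ j).symm⟩
  have hdecomp : ((q, a) : Q × (∀ i, A i)) = pQ • e0 + ∑ i, pA i • e i := by
    refine Prod.ext ?_ ?_
    · simp only [Prod.fst_add, Prod.fst_sum]
      rw [Finset.sum_eq_zero]
      · change q = q * 1 + 0
        rw [mul_one, add_zero]
      · intro i _
        change back i (a i) * 0 = 0
        rw [mul_zero]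
    · funext j
      simp only [Prod.snd_add, Prod.snd_sum, Pi.add_apply, Finset.sum_apply]
      rw [Finset.sum_eq_single j]
      · change a j = lift q j * 0 + (if h : j = j then h ▸ a j else lift (back j (a j)) j) *
          (Pi.single j 1 : ∀ i, A i) j
        rw [dif_pos rfl, Pi.single_eq_same, mul_one, mul_zero, zero_add]
      · intro i _ hij
        change (if h : j = i then h ▸ a i else lift (back i (a i)) j) *
          (Pi.single i 1 : ∀ i, A i) j = 0
        rw [Pi.single_eq_of_ne (Ne.symm hij), mul_zero]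
      · intro h
        exact absurd (Finset.mem_univ j) h
  rw [hdecomp]
  refine Submodule.add_mem _ (Submodule.smul_mem _ _ (Submodule.subset_span ?_))
    (Submodule.sum_mem _ fun i _ => Submodule.smul_mem _ _ (Submodule.subset_span ?_))
  · exact Finset.mem_coe.mpr (Finset.mem_insert_self _ _)
  · exact Finset.mem_coe.mpr (Finset.mem_insert_of_mem (Finset.mem_image_of_mem e (Finset.mem_univ i)))

end Groth.Agent.S6929
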