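import Groth.Statements.S6933
-- import your own Groth.Agent.* helpers here

set_option autoImplicit false
universe u
open CategoryTheory
open InjHull

namespace Groth.Agent.S6933

/-- An abelian group `J` that is injective as an object of the category of abelian groups is divisible:
`n J = J` for every nonzero integer `n`. (The published statement is an equivalence; this row states
the implication from injective to divisible.) -/
theorem result (J : Type u) [AddCommGroup J] (hJ : Injective (AddCommGrpCat.of J))
    (n : ℤ) (hn : n ≠ 0) (x : J) : ∃ y : J, n • y = x := by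
  have := hJ
  let f : ULift.{u} ℤ →+ ULift.{u} ℤ := zsmulAddGroupHom n
  let g : ULift.{u} ℤ →+ J := (zmultiplesHom J x).comp AddEquiv.ulift.toAddMonoidHom
  have hf : Function.Injective f := by
    intro a b hab
    have h1 : n * a.down = n * b.down := by
      have := congrArg ULift.down hab
      simpa [f] using this
    exact ULift.ext _ _ (mul_left_cancel₀ hn h1)
  have : Mono (AddCommGrpCat.ofHom f) := ConcreteCategory.mono_of_injective _ hf
  let h := Injective.factorThru (AddCommGrpCat.ofHom g) (AddCommGrpCat.ofHom f)
  have hh : AddCommGrpCat.ofHom f ≫ h = AddCommGrpCat.ofHom g := Injective.comp_factorThru _ _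
  refine ⟨h.hom ⟨1⟩, ?_⟩
  have h2 := congrArg (fun k => k.hom (⟨1⟩ : ULift.{u} ℤ)) hh
  simp only [AddCommGrpCat.hom_comp, AddCommGrpCat.hom_ofHom, AddMonoidHom.comp_apply] at h2
  have h3 : f ⟨1⟩ = n • (⟨1⟩ : ULift.{u} ℤ) := rfl
  rw [h3, map_zsmul] at h2
  rw [h2]
  change (1 : ℤ) • x = x
  exact one_zsmul x

end Groth.Agent.S6933
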