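import Groth.Statements.S6934
import Mathlib.Tactic.Ring
import Mathlib.Tactic.LinearCombination
-- import your own Groth.Agent.* helpers here

set_option autoImplicit false
universe u
open EtAlg

namespace Groth.Agent.S6934

/-- Let `s : B → R`, `t : R' → R` be ring maps and `B' = B ×_R R'` the fibre product ring, i.e. a ring
`B'` with maps `p : B' → B`, `q : B' → R'`, `s ∘ p = t ∘ q`, such that `(p, q)` is injective with
image the pairs `(b, r')` with `s(b) = t(r')`. Let `h ∈ B'` with images `g = p(h)`, `f = q(h)`. Then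
the square of localizations `B'_h → B_g`, `B'_h → R'_f`, `B_g → R_{s(g)}`, `R'_f → R_{t(f)} =
R_{s(g)}` (the induced maps) is cartesian as well: `B'_h = B_g ×_{R_{s(g)}} R'_f`. -/
theorem result {B R R' B' : Type u} [CommRing B] [CommRing R] [CommRing R'] [CommRing B']
    (s : B →+* R) (t : R' →+* R) (p : B' →+* B) (q : B' →+* R') (hc : s.comp p = t.comp q)
    (hinj : ∀ x y : B', p x = p y → q x = q y → x = y) (hsurj : ∀ (b : B) (r' : R'), s b = t r' → ∃ x : B', p x = b ∧ q x = r')
    (h : B') (Bh Bg Rf Rsg : Type u) [CommRing Bh] [CommRing Bg] [CommRing Rf] [CommRing Rsg]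
    [Algebra B' Bh] [IsLocalization.Away h Bh] [Algebra B Bg] [IsLocalization.Away (p h) Bg]
    [Algebra R' Rf] [IsLocalization.Away (q h) Rf] [Algebra R Rsg] [IsLocalization.Away (s (p h)) Rsg]
    (pL : Bh →+* Bg) (qL : Bh →+* Rf) (sL : Bg →+* Rsg) (tL : Rf →+* Rsg)
    (hp : pL.comp (algebraMap B' Bh) = (algebraMap B Bg).comp p) (hq : qL.comp (algebraMap B' Bh) = (algebraMap R' Rf).comp q)
    (hs : sL.comp (algebraMap B Bg) = (algebraMap R Rsg).comp s) (ht : tL.comp (algebraMap R' Rf) = (algebraMap R Rsg).comp t) :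
    (∀ x y : Bh, pL x = pL y → qL x = qL y → x = y) ∧
    (∀ (b : Bg) (r : Rf), sL b = tL r → ∃ x : Bh, pL x = b ∧ qL x = r) := by
  have hp' : ∀ x, pL (algebraMap B' Bh x) = algebraMap B Bg (p x) := fun x => RingHom.congr_fun hp x
  have hq' : ∀ x, qL (algebraMap B' Bh x) = algebraMap R' Rf (q x) := fun x => RingHom.congr_fun hq x
  have hs' : ∀ x, sL (algebraMap B Bg x) = algebraMap R Rsg (s x) := fun x => RingHom.congr_fun hs x
  have ht' : ∀ x, tL (algebraMap R' Rf x) = algebraMap R Rsg (t x) := fun x => RingHom.congr_fun ht x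
  have hc' : ∀ x, s (p x) = t (q x) := fun x => RingHom.congr_fun hc x
  have huh : IsUnit (algebraMap B' Bh h) := IsLocalization.Away.algebraMap_isUnit h
  have hug : IsUnit (algebraMap B Bg (p h)) := IsLocalization.Away.algebraMap_isUnit (p h)
  have huf : IsUnit (algebraMap R' Rf (q h)) := IsLocalization.Away.algebraMap_isUnit (q h)
  have hus : IsUnit (algebraMap R Rsg (s (p h))) := IsLocalization.Away.algebraMap_isUnit (s (p h))
  constructor
  · intro x y hpx hqx
    suffices hz : ∀ z : Bh, pL z = 0 → qL z = 0 → z = 0 by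
      have := hz (x - y) (by rw [map_sub, hpx, sub_self]) (by rw [map_sub, hqx, sub_self])
      exact sub_eq_zero.1 this
    intro z hpz hqz
    obtain ⟨n, b', hb'⟩ := IsLocalization.Away.surj h z
    have h1 : algebraMap B Bg (p b') = algebraMap B Bg 0 := by
      rw [← hp', ← hb', map_mul, hpz, zero_mul, map_zero]
    have h2 : algebraMap R' Rf (q b') = algebraMap R' Rf 0 := by
      rw [← hq', ← hb', map_mul, hqz, zero_mul, map_zero]
    obtain ⟨m1, hm1⟩ := IsLocalization.Away.exists_of_eq (p h) h1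
    obtain ⟨m2, hm2⟩ := IsLocalization.Away.exists_of_eq (q h) h2
    have h3 : h ^ (m1 + m2) * b' = 0 := by
      apply hinj
      · rw [map_mul, map_pow, map_zero, pow_add, mul_comm (p h ^ m1), mul_assoc, hm1, mul_zero,
          mul_zero]
      · rw [map_mul, map_pow, map_zero, pow_add, mul_assoc, hm2, mul_zero, mul_zero]
    have h4 : algebraMap B' Bh b' = 0 := by
      have : algebraMap B' Bh h ^ (m1 + m2) * algebraMap B' Bh b' = 0 := by
        rw [← map_pow, ← map_mul, h3, map_zero]
      exact ((huh.pow (m1 + m2)).mul_right_eq_zero).1 this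
    rw [h4] at hb'
    exact ((huh.pow n).mul_left_eq_zero).1 hb'
  · intro b r hbr
    obtain ⟨n1, β, hβ⟩ := IsLocalization.Away.surj (p h) b
    obtain ⟨n2, ρ, hρ⟩ := IsLocalization.Away.surj (q h) r
    -- common denominators
    set G := algebraMap B Bg (p h) with hG
    set F := algebraMap R' Rf (q h) with hF
    set S := algebraMap R Rsg (s (p h)) with hS
    have hsG : sL G = S := hs' _
    have htF : tL F = S := by rw [hF, ht', ← hc']
    -- s β * S^n2 = t ρ * S^n1 in Rsg
    have h5 : algebraMap R Rsg (s (β * p h ^ n2)) = algebraMap R Rsg (t (ρ * q h ^ n1)) := by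
      have e0 : algebraMap R Rsg (s β) = sL b * S ^ n1 := by
        rw [← hs', ← hβ, map_mul, map_pow, hsG]
      have e0' : algebraMap R Rsg (t ρ) = tL r * S ^ n2 := by
        rw [← ht', ← hρ, map_mul, map_pow, htF]
      have e1 : algebraMap R Rsg (s (β * p h ^ n2)) = sL b * S ^ n1 * S ^ n2 := by
        rw [map_mul, map_mul, map_pow, map_pow, e0]
      have e2 : algebraMap R Rsg (t (ρ * q h ^ n1)) = tL r * S ^ n2 * S ^ n1 := by
        rw [map_mul, map_mul, map_pow, map_pow, e0', ← hc']
      rw [e1, e2, hbr]; ring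
    obtain ⟨m, hm⟩ := IsLocalization.Away.exists_of_eq (s (p h)) h5
    have h6 : s (p h ^ m * (β * p h ^ n2)) = t (q h ^ m * (ρ * q h ^ n1)) := by
      rw [map_mul s, map_mul t, map_pow s, map_pow t, ← hc', hm]
    obtain ⟨x', hx'p, hx'q⟩ := hsurj _ _ h6
    obtain ⟨u, hu⟩ := huh.pow (m + n1 + n2)
    refine ⟨algebraMap B' Bh x' * ↑u⁻¹, ?_, ?_⟩
    · have hGu : IsUnit (G ^ (m + n1 + n2)) := hug.pow _
      apply hGu.mul_left_injective
      have e3 : pL (↑u⁻¹ : Bh) * G ^ (m + n1 + n2) = 1 := by
        have : G ^ (m + n1 + n2) = pL (u : Bh) := by rw [hu, map_pow, hp']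
        rw [this, ← map_mul, Units.inv_mul, map_one]
      simp only
      rw [map_mul, mul_assoc, e3, mul_one, hp', hx'p, map_mul, map_mul, map_pow, map_pow, ← hG, ← hβ]
      ring
    · have hFu : IsUnit (F ^ (m + n1 + n2)) := huf.pow _
      apply hFu.mul_left_injective
      have e3 : qL (↑u⁻¹ : Bh) * F ^ (m + n1 + n2) = 1 := by
        have : F ^ (m + n1 + n2) = qL (u : Bh) := by rw [hu, map_pow, hq']
        rw [this, ← map_mul, Units.inv_mul, map_one]
      simp only
      rw [map_mul, mul_assoc, e3, mul_one, hq', hx'q, map_mul, map_mul, map_pow, map_pow, ← hF, ← hρ]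
      ring

end Groth.Agent.S6934
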