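import Groth.Statements.S6939
import Mathlib.Tactic
import Groth.Agent.Lib.Helper43.PCModule
import Groth.Agent.S2066
import Groth.Agent.Lib.Helper84.DRingBasic
import Mathlib.CategoryTheory.Triangulated.TStructure.TruncLTGE
-- import your own Groth.Agent.* helpers here

set_option autoImplicit false
universe u
open CategoryTheory CategoryTheory.Limits
attribute [local instance] HasDerivedCategory.standard
open DRing

namespace Groth.Agent.S6939

open CategoryTheory.Pretriangulated CategoryTheory.Triangulated DerivedCategory
  Groth.Agent.Lib.Helper43 Groth.Agent.Lib.Helper43.PCModule Groth.Agent.Lib.Helper15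
  Groth.Agent.Lib.Helper84

/-- a module placed in degree `n` -/
lemma isPseudoCoherent_single {R : Type u} [CommRing R] (m n : ℤ) (A : ModuleCat.{u} R)
    (hA : IsPC (m - n) A) :
    DRing.IsPseudoCoherent R m ((DerivedCategory.singleFunctor (ModuleCat.{u} R) n).obj A) := by
  have iso := ((DerivedCategory.singleFunctors (ModuleCat.{u} R)).shiftIso (-n) n 0
    (by simp)).app A
  have h := PseudoCoh.shift' (m' := m) hA (-n) (by ring)
  exact PseudoCoh.of_iso iso h

/-- Stacks 066B by induction on the amplitude. -/
theorem main {R : Type u} [CommRing R] (m : ℤ) :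
    ∀ (k : ℕ) (K : Dual.D R) (n : ℤ), K.IsLE n → n < m + k →
      (∀ i : ℤ, IsPC (m - i) ((homologyFunctor (ModuleCat.{u} R) i).obj K)) →
      DRing.IsPseudoCoherent R m K := by
  intro k
  induction k with
  | zero =>
    intro K n hK hn _
    haveI : K.IsLE (m - 1) := TStructure.t.isLE_of_le K n (m - 1) (by push_cast at hn; lia)
    exact PseudoCoh.of_isLE m K
  | succ k ih =>
    intro K n hK hn hH
    let t : TStructure (DerivedCategory (ModuleCat.{u} R)) := TStructure.t
    have hT := t.triangleLTGE_distinguished n K
    -- the first vertex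
    have h1 : DRing.IsPseudoCoherent R m ((t.truncLT n).obj K) := by
      haveI : ((t.truncLT n).obj K).IsLE (n - 1) := inferInstanceAs
        (t.IsLE ((t.truncLT n).obj K) (n - 1))
      refine ih ((t.truncLT n).obj K) (n - 1) inferInstance (by push_cast at hn; lia) ?_
      intro i
      by_cases hi : i < n
      · haveI := DerivedT.isIso_homologyMap_truncLTι K n i hi
        exact isPC_of_iso
          (asIso ((homologyFunctor (ModuleCat.{u} R) i).map ((t.truncLTι n).app K))).symm (hH i)
      · exact isPC_of_isZero _ (isZero_of_isLE ((t.truncLT n).obj K) (n - 1) i (by lia))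
    -- the third vertex
    have h3 : DRing.IsPseudoCoherent R m ((t.truncGE n).obj K) := by
      haveI : ((t.truncGE n).obj K).IsGE n := inferInstanceAs (t.IsGE ((t.truncGE n).obj K) n)
      haveI : t.IsLE K n := hK
      haveI : ((t.truncGE n).obj K).IsLE n := inferInstanceAs (t.IsLE ((t.truncGE n).obj K) n)
      obtain ⟨A, ⟨e⟩⟩ := exists_iso_singleFunctor_obj_of_isGE_of_isLE ((t.truncGE n).obj K) n
      refine PseudoCoh.of_iso e.symm (isPseudoCoherent_single m n A ?_)
      haveI := DerivedT.isIso_homologyMap_truncGEπ K n n le_rfl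
      have e1 : (homologyFunctor (ModuleCat.{u} R) n).obj K ≅
          (homologyFunctor (ModuleCat.{u} R) n).obj ((t.truncGE n).obj K) :=
        asIso ((homologyFunctor (ModuleCat.{u} R) n).map ((t.truncGEπ n).app K))
      have e2 : (homologyFunctor (ModuleCat.{u} R) n).obj ((t.truncGE n).obj K) ≅ A :=
        (homologyFunctor (ModuleCat.{u} R) n).mapIso e ≪≫
          (singleFunctorCompHomologyFunctorIso (ModuleCat.{u} R) n).app A
      exact isPC_of_iso (e1 ≪≫ e2) (hH n)
    exact PseudoCoh.obj₂ m _ hT h1 h3

/-- Let R be a commutative ring, m an integer and K an object of D(R) whose cohomology vanishes in large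
degrees. If the module H^i(K) is (m - i)-pseudo-coherent for every i, then K is m-pseudo-coherent;
if every H^i(K) is a pseudo-coherent module, then K is pseudo-coherent. -/
theorem result (R : Type u) [CommRing R] (m : ℤ)
    (K : Dual.D R) (hb : ∃ b : ℤ, ∀ i : ℤ, b < i → Subsingleton (Dual.HD R K i)) :
    ((∀ i : ℤ, DRing.IsPseudoCoherentModule R (m - i) (Dual.HD R K i)) → DRing.IsPseudoCoherent R m K) ∧
      ((∀ i : ℤ, DRing.IsPseudoCoherentModule' R (Dual.HD R K i)) → DRing.IsPseudoCoherent' R K) := by
  obtain ⟨b, hb⟩ := hb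
  haveI hle : K.IsLE b := DRingBasic.isLE_of_subsingleton K b hb
  have key : ∀ m' : ℤ, (∀ i : ℤ, DRing.IsPseudoCoherentModule R (m' - i) (Dual.HD R K i)) →
      DRing.IsPseudoCoherent R m' K := fun m' h =>
    main m' (b - m' + 1).toNat K b hle (by lia) (fun i => h i)
  refine ⟨key m, fun h => ?_⟩
  refine (Groth.Agent.S2066.result K).1.1 (fun m' => key m' (fun i => ?_))
  exact (Groth.Agent.S2066.result (Dual.inD R (Dual.HD R K i))).1.2 (h i) (m' - i)

end Groth.Agent.S6939
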