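import Groth.Statements.S6943
import Mathlib.Tactic
import Groth.Agent.Lib.Helper43.PCTower
import Groth.Agent.Lib.Helper43.CoherentRing
import Groth.Agent.Lib.Helper15.PseudoCoh
import Groth.Agent.S2066
-- import your own Groth.Agent.* helpers here

set_option autoImplicit false
universe u
open CategoryTheory CategoryTheory.Limits
attribute [local instance] HasDerivedCategory.standard
open DRing

namespace Groth.Agent.S6943

open CategoryTheory.Pretriangulated DerivedCategory CochainComplex
  Groth.Agent.Lib.Helper43 Groth.Agent.Lib.Helper43.PCTower Groth.Agent.Lib.Helper15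
  Groth.Agent.Lib.Helper84

/-- over a coherent ring, the cohomology of a complex of finite free modules is finitely
presented -/
lemma fp_homology_of_coherent {R : Type u} [CommRing R]
    (hR : ∀ I : Ideal R, I.FG → Module.FinitePresentation R I) (E : Cx R)
    (hE : TermwiseFiniteFree E) (i : ℤ) : Module.FinitePresentation R (E.homology i) := by
  let S := E.sc i
  have e : E.homology i ≅ S.moduleCatLeftHomologyData.H := S.moduleCatHomologyIso
  haveI : Module.Finite R S.X₁ := (hE _).1
  haveI : Module.Finite R S.X₂ := (hE i).1
  haveI : Module.Free R S.X₂ := (hE i).2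
  haveI : Module.Finite R S.X₃ := (hE _).1
  haveI : Module.Free R S.X₃ := (hE _).2
  have hker : (LinearMap.ker S.g.hom).FG := CoherentRing.fg_ker hR S.g.hom
  haveI : Module.FinitePresentation R (LinearMap.ker S.g.hom) :=
    CoherentRing.finitePresentation_submodule hR _ hker
  have h : Module.FinitePresentation R
      (LinearMap.ker S.g.hom ⧸ LinearMap.range S.moduleCatToCycles) := by
    refine Module.finitePresentation_of_surjective (LinearMap.range S.moduleCatToCycles).mkQ
      (Submodule.mkQ_surjective _) ?_
    rw [Submodule.ker_mkQ, LinearMap.range_eq_map]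
    exact Submodule.FG.map _ Module.Finite.fg_top
  have h' : Module.FinitePresentation R S.moduleCatLeftHomologyData.H := h
  exact Module.FinitePresentation.of_equiv e.toLinearEquiv.symm

lemma fp_HD_toD {R : Type u} [CommRing R]
    (hR : ∀ I : Ideal R, I.FG → Module.FinitePresentation R I) (E : Cx R)
    (hE : TermwiseFiniteFree E) (i : ℤ) :
    Module.FinitePresentation R ((homologyFunctor (ModuleCat.{u} R) i).obj (toD E)) := by
  haveI := fp_homology_of_coherent hR E hE i
  exact Module.FinitePresentation.of_equiv (PCHomology.homologyIso E i).toLinearEquiv.symm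

/-- first part -/
theorem part1 (R : Type u) [CommRing R]
    (hR : ∀ I : Ideal R, I.FG → Module.FinitePresentation R I) (K : Dual.D R)
    (hb : ∃ b : ℤ, ∀ i : ℤ, b < i → Subsingleton (Dual.HD R K i)) (m : ℤ) :
    DRing.IsPseudoCoherent R m K ↔
      Module.Finite R (Dual.HD R K m) ∧
        ∀ i : ℤ, m < i → Module.FinitePresentation R (Dual.HD R K i) := by
  constructor
  · rintro ⟨E, a, b, α, hE, hff, hiso, hepi⟩
    refine ⟨?_, fun i hi => ?_⟩
    · haveI := fp_HD_toD hR E hff m
      exact Module.Finite.of_surjective _ ((ModuleCat.epi_iff_surjective _).1 hepi)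
    · haveI := fp_HD_toD hR E hff i
      haveI := hiso i hi
      exact Module.FinitePresentation.of_equiv
        (asIso ((homologyFunctor (ModuleCat.{u} R) i).map α)).toLinearEquiv
  · rintro ⟨hfinK, hfpK⟩
    obtain ⟨n, hn⟩ := hb
    let L : Cx R := Q.objPreimage K
    let e : Q.obj L ≅ K := Q.objObjPreimageIso K
    refine isPseudoCoherent_of_finCond L e n m
      (fun i hi => by haveI := hn i hi; exact ModuleCat.isZero_of_subsingleton _) ?_
    intro j hj _ F α hF hff hacyc
    have hT := mappingCone_triangle_distinguished α
    refine PCApprox.finite_homology_obj₃ _ hT j ?_ ?_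
    · haveI : Module.Finite R ((homologyFunctor (ModuleCat.{u} R) j).obj K) := by
        rcases hj.lt_or_eq with h | rfl
        · haveI := hfpK j h
          exact inferInstanceAs (Module.Finite R (Dual.HD R K j))
        · exact hfinK
      exact Module.Finite.equiv
        ((homologyFunctor (ModuleCat.{u} R) j).mapIso e).toLinearEquiv.symm
    · haveI := fp_HD_toD hR F hff (j + 1)
      haveI : Module.FinitePresentation R
          ((homologyFunctor (ModuleCat.{u} R) (j + 1)).obj (Q.obj L)) := by
        haveI : Module.FinitePresentation R ((homologyFunctor (ModuleCat.{u} R) (j + 1)).obj K) :=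
          hfpK (j + 1) (by lia)
        exact Module.FinitePresentation.of_equiv
          ((homologyFunctor (ModuleCat.{u} R) (j + 1)).mapIso e).toLinearEquiv.symm
      change (LinearMap.ker ((homologyFunctor (ModuleCat.{u} R) (j + 1)).map (Q.map α)).hom).FG
      refine Module.FinitePresentation.fg_ker _ ?_
      have hepi : Epi ((homologyFunctor (ModuleCat.{u} R) (j + 1)).map (Q.map α)) :=
        (HomologySequence.epi_homologyMap_mor₁_iff _ hT (j + 1)).2
          ((hacyc (j + 1) (by lia)).eq_of_tgt _ _)
      exact (ModuleCat.epi_iff_surjective _).1 hepi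

/-- Let R be a coherent commutative ring, i.e. every finitely generated ideal of R is finitely presented
as an R-module. Let K be an object of D(R) whose cohomology vanishes in large degrees and m an
integer. Then K is m-pseudo-coherent if and only if H^m(K) is finitely generated and H^i(K) is
finitely presented for every i > m. Consequently K is pseudo-coherent if and only if every H^i(K) is
finitely presented. -/
theorem result (R : Type u) [CommRing R]
    (hR : ∀ I : Ideal R, I.FG → Module.FinitePresentation R I) (K : Dual.D R)
    (hb : ∃ b : ℤ, ∀ i : ℤ, b < i → Subsingleton (Dual.HD R K i)) (m : ℤ) :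
    (DRing.IsPseudoCoherent R m K ↔
      Module.Finite R (Dual.HD R K m) ∧ ∀ i : ℤ, m < i → Module.FinitePresentation R (Dual.HD R K i)) ∧
      (DRing.IsPseudoCoherent' R K ↔ ∀ i : ℤ, Module.FinitePresentation R (Dual.HD R K i)) := by
  refine ⟨part1 R hR K hb m, ⟨fun h i => ?_, fun h => ?_⟩⟩
  · obtain ⟨E, b, hb', hE, ⟨e⟩⟩ := h
    haveI := fp_HD_toD hR E hE i
    exact Module.FinitePresentation.of_equiv
      ((homologyFunctor (ModuleCat.{u} R) i).mapIso e).toLinearEquiv
  · refine (Groth.Agent.S2066.result K).1.1 (fun m' => ?_)
    refine (part1 R hR K hb m').2 ⟨?_, fun i _ => h i⟩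
    haveI := h m'
    exact inferInstanceAs (Module.Finite R (Dual.HD R K m'))

end Groth.Agent.S6943
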