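import Groth.Statements.S6949
import Mathlib.Tactic
import Groth.Agent.Lib.Helper43.TorAmpDescent
import Mathlib.RingTheory.Localization.Finiteness
import Mathlib.RingTheory.Localization.BaseChange
import Mathlib.RingTheory.LocalProperties.Submodule
import Mathlib.RingTheory.RingHom.Flat
import Mathlib.RingTheory.Flat.Localization
-- import your own Groth.Agent.* helpers here

set_option autoImplicit false
universe u
open CategoryTheory CategoryTheory.Limits
attribute [local instance] HasDerivedCategory.standard
open DRing

namespace Groth.Agent.S6949

open DerivedCategory Groth.Agent.Lib.Helper43 Groth.Agent.Lib.Helper84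
  Groth.Agent.Lib.Helper84.FlatBC TensorProduct CategoryTheory.Limits

/-- translation of flatness to the canonical tensor product -/
lemma flat_tensor_of_ext {A B : Type u} [CommRing A] [CommRing B] [alg : Algebra A B]
    (M : ModuleCat.{u} A) (h : Module.Flat B ((ext (algebraMap A B)).obj M)) :
    Module.Flat B (B ⊗[A] M) := by
  obtain ⟨f, hf⟩ : ∃ f : A →+* B, alg = f.toAlgebra :=
    ⟨algebraMap A B, Algebra.algebra_ext _ _ (fun r => rfl)⟩
  subst hf
  exact h

/-- translation of vanishing to the canonical tensor product -/
lemma subsingleton_tensor_of_ext {A B : Type u} [CommRing A] [CommRing B] [alg : Algebra A B]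
    (M : ModuleCat.{u} A) (h : IsZero ((ext (algebraMap A B)).obj M)) :
    Subsingleton (B ⊗[A] M) := by
  obtain ⟨f, hf⟩ : ∃ f : A →+* B, alg = f.toAlgebra :=
    ⟨algebraMap A B, Algebra.algebra_ext _ _ (fun r => rfl)⟩
  subst hf
  exact ModuleCat.subsingleton_of_isZero h

/-- Let R be a commutative ring, f_1, ..., f_r elements generating the unit ideal, K a cochain complex
of R-modules and a, b integers. If for every i the termwise localization K ⊗_R R_(f_i) has tor
amplitude in [a, b] as an object of D(R_(f_i)), then K has tor amplitude in [a, b] as an object of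
D(R). -/
theorem result {R : Type u} [CommRing R] {r : ℕ} (f : Fin r → R)
    (hf : Ideal.span (Set.range f) = ⊤) (K : DRing.Cx R) (a b : ℤ)
    (hK : ∀ i, DRing.HasTorAmplitudeIn (Localization.Away (f i)) a b
      (DRing.toD (((ModuleCat.extendScalars (algebraMap R (Localization.Away (f i)))).mapHomologicalComplex
        (ComplexShape.up ℤ)).obj K))) :
    DRing.HasTorAmplitudeIn R a b (DRing.toD K) := by
  classical
  haveI : ∀ i, PreservesFiniteLimits (ext (algebraMap R (Localization.Away (f i)))) := fun i =>
    preservesFiniteLimits_ext _ (RingHom.flat_algebraMap_iff.2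
      (IsLocalization.flat (Localization.Away (f i)) (Submonoid.powers (f i))))
  have span' : Ideal.span (Set.range f) = ⊤ := hf
  refine TorAmpDescent.descent (T := Fin r) (fun i => Localization.Away (f i))
    (fun i => algebraMap R (Localization.Away (f i))) ?_ ?_ K a b hK
  · intro M hM
    haveI : Subsingleton M := by
      refine ⟨fun x y => ?_⟩
      refine Module.eq_of_isLocalized_span (Set.range f) span'
        (fun g => Localization.Away g.1 ⊗[R] M)
        (fun g => TensorProduct.mk R (Localization.Away g.1) M 1) x y ?_
      rintro ⟨_, i, rfl⟩
      haveI := subsingleton_tensor_of_ext (B := Localization.Away (f i)) M (hM i)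
      exact Subsingleton.elim _ _
    exact ModuleCat.isZero_of_subsingleton M
  · intro M hM
    refine Module.flat_of_isLocalized_span (R := R) (S := R) (M := M) (s := Set.range f)
      (spn := span') (Mₛ := fun g => Localization.Away g.1 ⊗[R] M)
      (g := fun g => TensorProduct.mk R (Localization.Away g.1) M 1) ?_
    rintro ⟨_, i, rfl⟩
    haveI := flat_tensor_of_ext (B := Localization.Away (f i)) M (hM i)
    haveI : Module.Flat R (Localization.Away (f i)) :=
      IsLocalization.flat (Localization.Away (f i)) (Submonoid.powers (f i))
    exact Module.Flat.trans R (Localization.Away (f i)) _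

end Groth.Agent.S6949
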