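import Groth.Statements.S6951
import Mathlib.Tactic
import Groth.Agent.Lib.Helper43.ResLocal
import Groth.Agent.Lib.Helper15.LDerived
import Groth.Agent.Lib.Helper15.LBCFlat
-- import your own Groth.Agent.* helpers here

set_option autoImplicit false
universe u
open CategoryTheory CategoryTheory.Limits
attribute [local instance] HasDerivedCategory.standard
open DRing

namespace Groth.Agent.S6951

open CategoryTheory.Limits MonoidalCategory Groth.Agent.Lib.Helper43 Groth.Agent.Lib.Helper84
  Groth.Agent.Lib.Helper84.FlatBC Groth.Agent.Lib.Helper25.SingleTensor DerivedCategory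

/-- the statement for ring homomorphisms -/
theorem main {R A B : Type u} [CommRing R] [CommRing A] [CommRing B] (φ : R →+* A) (ψ : A →+* B)
    (ρ : R →+* B) (hρ : ρ = ψ.comp φ)
    (hψ : @Module.FaithfullyFlat A B _ _ ψ.toAlgebra.toModule)
    [DRing.HasLBaseChange ψ] (K : Dual.D A) (a b : ℤ) :
    DRing.HasTorAmplitudeIn R a b ((DRing.restrictD φ).obj K) ↔
      DRing.HasTorAmplitudeIn R a b ((DRing.restrictD ρ).obj ((DRing.LBaseChange ψ).obj K)) := by
  have hflat : ψ.Flat := by
    letI := ψ.toAlgebra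
    haveI : Module.FaithfullyFlat A B := hψ
    exact inferInstanceAs (Module.Flat A B)
  haveI := preservesFiniteLimits_ext ψ hflat
  let X : DRing.Cx A := Q.objPreimage K
  have e : Q.obj X ≅ K := Q.objObjPreimageIso K
  have isoL : (DRing.restrictD φ).obj K ≅ DRing.toD ((DRing.restrictCx φ).obj X) :=
    (DRing.restrictD φ).mapIso e.symm ≪≫
      Groth.Agent.Lib.Helper15.PseudoCohRes.restrictDQIso φ X
  have isoR : (DRing.restrictD ρ).obj ((DRing.LBaseChange ψ).obj K) ≅
      DRing.toD ((DRing.restrictCx ρ).obj (Groth.Agent.Lib.Helper25.KFlat.extCx ψ X)) :=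
    (DRing.restrictD ρ).mapIso ((DRing.LBaseChange ψ).mapIso e.symm ≪≫
      (Groth.Agent.Lib.Helper15.LBCFlat.lbcFlatIso ψ).app _ ≪≫ bcToD ψ X) ≪≫
      Groth.Agent.Lib.Helper15.PseudoCohRes.restrictDQIso ρ _
  have key : ∀ (F : DRing.Cx R) (i : ℤ),
      (X ⊗ Groth.Agent.Lib.Helper25.KFlat.extCx φ F : DRing.Cx A).ExactAt i ↔
      (Groth.Agent.Lib.Helper25.KFlat.extCx ψ X ⊗ Groth.Agent.Lib.Helper25.KFlat.extCx ρ F :
        DRing.Cx B).ExactAt i := by
    intro F i
    rw [← ResLocal.exactAt_extCx_iff_of_faithfullyFlat ψ hψ, ← ResLocal.exactAt_ext_tensor_iff]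
    have e' : Groth.Agent.Lib.Helper25.KFlat.extCx ψ (Groth.Agent.Lib.Helper25.KFlat.extCx φ F) ≅
        Groth.Agent.Lib.Helper25.KFlat.extCx ρ F :=
      (FibreAmp.extCxComp φ ψ F).symm ≪≫ eqToIso (by rw [hρ])
    exact ⟨ResTensor.exactAt_of_iso (whiskerLeftIso _ e') i,
      ResTensor.exactAt_of_iso (whiskerLeftIso _ e'.symm) i⟩
  constructor
  · intro h
    refine Groth.Agent.Lib.Helper84.FlatAmp.torAmp_of_iso ?_ isoR.symm
    have h' := (ResTensor.torAmp_res_iff φ X a b).1
      (Groth.Agent.Lib.Helper84.FlatAmp.torAmp_of_iso h isoL)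
    rw [ResTensor.torAmp_res_iff]
    intro N F hF f hf i hi
    exact (key F i).1 (h' N F hF f hf i hi)
  · intro h
    refine Groth.Agent.Lib.Helper84.FlatAmp.torAmp_of_iso ?_ isoL.symm
    have h' := (ResTensor.torAmp_res_iff ρ _ a b).1
      (Groth.Agent.Lib.Helper84.FlatAmp.torAmp_of_iso h isoR)
    rw [ResTensor.torAmp_res_iff]
    intro N F hF f hf i hi
    exact (key F i).2 (h' N F hF f hf i hi)

/-- Let R → A → B be homomorphisms of commutative rings with A → B faithfully flat, such that the
derived base change D(A) → D(B) exists, and let K be an object of D(A). Then for all integers a, b,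
the following are equivalent: the restriction of K to D(R) is of tor amplitude within [a, b]; the
restriction of K ⊗^L_A B to D(R) is of tor amplitude within [a, b]. -/
theorem result {R A B : Type u}
    [CommRing R] [CommRing A] [CommRing B] [Algebra R A] [Algebra A B] [Algebra R B] [IsScalarTower R A B]
    [Module.FaithfullyFlat A B] [DRing.HasLBaseChange (algebraMap A B)] (K : Dual.D A) (a b : ℤ) :
    DRing.HasTorAmplitudeIn R a b ((DRing.restrictD (algebraMap R A)).obj K) ↔
      DRing.HasTorAmplitudeIn R a b ((DRing.restrictD (algebraMap R B)).obj ((DRing.LBaseChange (algebraMap A B)).obj K)) := by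
  rename_i _ _ _ _ alg _ _ hff _
  obtain ⟨σ, hσ⟩ : ∃ σ : A →+* B, alg = σ.toAlgebra :=
    ⟨algebraMap A B, Algebra.algebra_ext _ _ (fun r => rfl)⟩
  subst hσ
  letI : Algebra A B := σ.toAlgebra
  exact main (algebraMap R A) σ (algebraMap R B) (IsScalarTower.algebraMap_eq R A B) hff K a b

end Groth.Agent.S6951
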