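import Groth.Statements.S6957
import Groth.Agent.Lib.Helper54.LBaseChangeKProj

set_option autoImplicit false
universe u
open CategoryTheory CategoryTheory.Limits
attribute [local instance] HasDerivedCategory.standard
open DRing

namespace Groth.Agent.S6957

open Groth.Agent.Lib.Helper54.LDerived

lemma isZero_extendScalars {A B : Type u} [CommRing A] [CommRing B] (φ : A →+* B)
    (M : ModuleCat.{u} A) (h : IsZero M) : IsZero ((ModuleCat.extendScalars.{u,u,u} φ).obj M) :=
  (ModuleCat.extendScalars.{u,u,u} φ).map_isZero h

lemma finite_projective_extendScalars {A B : Type u} [CommRing A] [CommRing B] (φ : A →+* B)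
    (M : ModuleCat.{u} A) (h : Module.Finite A M ∧ Module.Projective A M) :
    Module.Finite B ((ModuleCat.extendScalars.{u,u,u} φ).obj M) ∧
      Module.Projective B ((ModuleCat.extendScalars.{u,u,u} φ).obj M) := by
  obtain ⟨h1, h2⟩ := h
  letI := φ.toAlgebra
  constructor
  · exact inferInstanceAs (Module.Finite B (TensorProduct A B M))
  · exact inferInstanceAs (Module.Projective B (TensorProduct A B M))


/-- Let A → B be a homomorphism of commutative rings such that the derived base change D(A) → D(B)
exists, and let K be a perfect object of D(A). Then K ⊗^L_A B is a perfect object of D(B). -/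
theorem result {A B : Type u} [CommRing A] [CommRing B] (φ : A →+* B)
    [DRing.HasLBaseChange φ] (K : Dual.D A) (hK : DRing.IsPerfect A K) :
    DRing.IsPerfect B ((DRing.LBaseChange φ).obj K) := by
  obtain ⟨E, a, b, hE, hfp, ⟨e⟩⟩ := hK
  have hKP : E.IsKProjective :=
    isKProjective_of_vanishesAbove E b (fun i hi => hE i (Or.inr hi)) (fun i => (hfp i).2)
  refine ⟨(extCx φ).obj E, a, b, ?_, ?_, ⟨(lbaseChangeIso φ E).symm ≪≫ (DRing.LBaseChange φ).mapIso e⟩⟩
  · intro i hi
    exact isZero_extendScalars φ _ (hE i hi)
  · intro i
    exact finite_projective_extendScalars φ _ (hfp i)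

end Groth.Agent.S6957
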