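import Groth.Statements.S6959
import Groth.Agent.Lib.Helper25.LTensorCxCompute
import Groth.Agent.Lib.Helper25.TensorFin

set_option autoImplicit false
universe u
open CategoryTheory CategoryTheory.Limits
attribute [local instance] HasDerivedCategory.standard
open DRing

namespace Groth.Agent.S6959

/-- Let R be a commutative ring, K a perfect object of D(R) and L a cochain complex of R-modules
defining a perfect object of D(R); assume the derived tensor product - ⊗^L_R L exists on D(R). Then
K ⊗^L_R L is a perfect object of D(R). -/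
theorem result (R : Type u) [CommRing R] (K : Dual.D R) (hK : DRing.IsPerfect R K)
    (L : DRing.Cx R) (hL : DRing.IsPerfect R (DRing.toD L)) [DRing.HasLTensorCx R L] :
    DRing.IsPerfect R ((DRing.LTensorCx R L).obj K) := by
  obtain ⟨E, a, b, hE, hEp, ⟨eK⟩⟩ := hK
  obtain ⟨F, a', b', hF, hFp, ⟨eL⟩⟩ := hL
  have hFflat : Groth.Agent.Lib.Helper25.KFlat.IsKFlat F :=
    Groth.Agent.Lib.Helper25.KFlat.isKFlat_of_boundedAbove_of_flat F b'
      (fun q hq => hF q (Or.inr hq)) (fun q => by
        have := (hFp q).2
        infer_instance)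
  obtain ⟨i⟩ := Groth.Agent.Lib.Helper25.LTensorCxCompute.nonempty_iso_of_iso L E hFflat eL
  refine ⟨(MonoidalCategory.tensorObj E F : DRing.Cx R), a + a', b + b', ?_, ?_, ⟨i.symm ≪≫ (DRing.LTensorCx R L).mapIso eK⟩⟩
  · intro n hn
    rcases hn with hn | hn
    · exact Groth.Agent.Lib.Helper25.TensorFin.isZero_tensor_below E F a a'
        (fun i hi => hE i (Or.inl hi)) (fun i hi => hF i (Or.inl hi)) n hn
    · exact Groth.Agent.Lib.Helper25.TensorFin.isZero_tensor_above E F b b'
        (fun i hi => hE i (Or.inr hi)) (fun i hi => hF i (Or.inr hi)) n hn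
  · intro n
    exact ⟨Groth.Agent.Lib.Helper25.TensorFin.finite_tensor E F b b'
        (fun i hi => hE i (Or.inr hi)) (fun i hi => hF i (Or.inr hi))
        (fun i => (hEp i).1) (fun i => (hFp i).1) n,
      Groth.Agent.Lib.Helper25.TensorFin.projective_tensor E F
        (fun i => (hEp i).2) (fun i => (hFp i).2) n⟩

end Groth.Agent.S6959
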