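import Groth.Statements.S6960
import Mathlib.Tactic
import Groth.Agent.Lib.Helper43.PerfAmp
import Groth.Agent.S2087
import Groth.Agent.S6949
-- import your own Groth.Agent.* helpers here

set_option autoImplicit false
universe u
open CategoryTheory CategoryTheory.Limits
attribute [local instance] HasDerivedCategory.standard
open DRing

namespace Groth.Agent.S6960

/-- Let R be a commutative ring, f_1, ..., f_r elements generating the unit ideal and K a cochain
complex of R-modules. If for every i the termwise localization K ⊗_R R_(f_i) is a perfect object of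
D(R_(f_i)), then K is a perfect object of D(R). -/
theorem result {R : Type u} [CommRing R] {r : ℕ} (f : Fin r → R)
    (hf : Ideal.span (Set.range f) = ⊤) (K : DRing.Cx R)
    (hK : ∀ i, DRing.IsPerfect (Localization.Away (f i))
      (DRing.toD (((ModuleCat.extendScalars (algebraMap R (Localization.Away (f i)))).mapHomologicalComplex
        (ComplexShape.up ℤ)).obj K))) :
    DRing.IsPerfect R (DRing.toD K) := by
  classical
  choose E a b hE hfp e using hK
  let a₀ : ℤ := -∑ i, |a i|
  let b₀ : ℤ := ∑ i, |b i|
  have ha : ∀ i, a₀ ≤ a i := fun i => by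
    have h1 : |a i| ≤ ∑ i, |a i| := Finset.single_le_sum (f := fun i => |a i|)
      (fun j _ => abs_nonneg (a j)) (Finset.mem_univ i)
    have h2 := neg_abs_le (a i)
    change -∑ i, |a i| ≤ a i
    lia
  have hb : ∀ i, b i ≤ b₀ := fun i =>
    (le_abs_self (b i)).trans (Finset.single_le_sum (f := fun i => |b i|)
      (fun j _ => abs_nonneg (b j)) (Finset.mem_univ i))
  have htor' : ∀ i, DRing.HasTorAmplitudeIn (Localization.Away (f i)) a₀ b₀
      (DRing.toD (((ModuleCat.extendScalars (algebraMap R (Localization.Away (f i)))).mapHomologicalComplex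
        (ComplexShape.up ℤ)).obj K)) := fun i =>
    Groth.Agent.Lib.Helper84.FlatAmp.torAmp_mono
      ⟨E i, hE i, fun j => by haveI := (hfp i j).2; infer_instance, e i⟩ (ha i) (hb i)
  have hpc' : ∀ i, DRing.IsPseudoCoherent (Localization.Away (f i)) (a₀ - 1)
      (DRing.toD (((ModuleCat.extendScalars (algebraMap R (Localization.Away (f i)))).mapHomologicalComplex
        (ComplexShape.up ℤ)).obj K)) := fun i => by
    obtain ⟨e'⟩ := e i
    exact Groth.Agent.Lib.Helper15.PseudoCoh.of_iso e'
      (Groth.Agent.Lib.Helper43.PerfAmp.pcAll_of_perfect (E i) (a i) (b i) (hE i) (hfp i) (a₀ - 1))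
  have htor : DRing.HasTorAmplitudeIn R a₀ b₀ (DRing.toD K) :=
    Groth.Agent.S6949.result f hf K a₀ b₀ htor'
  have hpc : DRing.IsPseudoCoherent R (a₀ - 1) (DRing.toD K) :=
    Groth.Agent.S2087.result f hf K (a₀ - 1) hpc'
  obtain ⟨P, h1, h2, h3⟩ :=
    Groth.Agent.Lib.Helper43.PerfAmp.exists_perfect_amplitude (DRing.toD K) a₀ b₀ hpc htor
  exact ⟨P, a₀, b₀, h1, h2, h3⟩

end Groth.Agent.S6960
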