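import Groth.Statements.S6961
import Mathlib.Tactic
import Groth.Agent.Lib.Helper43.PerfAmp
import Groth.Agent.S6941
import Groth.Agent.S6950
-- import your own Groth.Agent.* helpers here

set_option autoImplicit false
universe u
open CategoryTheory CategoryTheory.Limits
attribute [local instance] HasDerivedCategory.standard
open DRing

namespace Groth.Agent.S6961

/-- Let R → R' be a faithfully flat homomorphism of commutative rings and K a cochain complex of
R-modules. If the termwise base change K ⊗_R R' is a perfect object of D(R'), then K is a perfect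
object of D(R). -/
theorem result {R R' : Type u} [CommRing R] [CommRing R'] [Algebra R R']
    [Module.FaithfullyFlat R R'] (K : DRing.Cx R)
    (hK : DRing.IsPerfect R' (DRing.toD (((ModuleCat.extendScalars (algebraMap R R')).mapHomologicalComplex
        (ComplexShape.up ℤ)).obj K))) :
    DRing.IsPerfect R (DRing.toD K) := by
  obtain ⟨E, a, b, hE, hfp, ⟨e⟩⟩ := hK
  have htor' : DRing.HasTorAmplitudeIn R' a b
      (DRing.toD (((ModuleCat.extendScalars (algebraMap R R')).mapHomologicalComplex
        (ComplexShape.up ℤ)).obj K)) :=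
    ⟨E, hE, fun i => by haveI := (hfp i).2; infer_instance, ⟨e⟩⟩
  have hpc' : DRing.IsPseudoCoherent R' (a - 1)
      (DRing.toD (((ModuleCat.extendScalars (algebraMap R R')).mapHomologicalComplex
        (ComplexShape.up ℤ)).obj K)) :=
    Groth.Agent.Lib.Helper15.PseudoCoh.of_iso e
      (Groth.Agent.Lib.Helper43.PerfAmp.pcAll_of_perfect E a b hE hfp (a - 1))
  have htor : DRing.HasTorAmplitudeIn R a b (DRing.toD K) := Groth.Agent.S6950.result K a b htor'
  have hpc : DRing.IsPseudoCoherent R (a - 1) (DRing.toD K) :=
    (Groth.Agent.S6941.result K (a - 1)).1 hpc'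
  obtain ⟨P, h1, h2, h3⟩ :=
    Groth.Agent.Lib.Helper43.PerfAmp.exists_perfect_amplitude (DRing.toD K) a b hpc htor
  exact ⟨P, a, b, h1, h2, h3⟩

end Groth.Agent.S6961
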