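import Groth.Statements.S6962
import Groth.Agent.Lib.Helper84.DRingPerf
import Groth.Agent.Lib.Helper68.DualBasic
import Groth.Agent.Lib.Helper77.RegularGlobal
import Mathlib.Algebra.Homology.DerivedCategory.SingleTriangle

set_option autoImplicit false
universe u
open CategoryTheory CategoryTheory.Limits
attribute [local instance] HasDerivedCategory.standard
open DRing

namespace Groth.Agent.S6962

section Aux
open DerivedCategory

open DerivedCategory Groth.Agent.Lib.Helper84.DRingPerf

section
variable {R : Type u} [CommRing R]

theorem isPerfect_of_finite_projective (M : ModuleCat.{u} R)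
    (hM : Module.Finite R M ∧ Module.Projective R M) :
    IsPerfect R ((singleFunctor (ModuleCat.{u} R) 0).obj M) := by
  refine ⟨(CochainComplex.singleFunctor (ModuleCat.{u} R) 0).obj M, 0, 0, ?_, ?_, ?_⟩
  · intro i hi
    exact HomologicalComplex.isZero_single_obj_X (ComplexShape.up ℤ) 0 M i (by omega)
  · intro i
    by_cases hi : i = 0
    · subst hi
      exact finiteProjective_of_iso
        (HomologicalComplex.singleObjXSelf (ComplexShape.up ℤ) 0 M).symm hM
    · have hz : IsZero (((CochainComplex.singleFunctor (ModuleCat.{u} R) 0).obj M).X i) :=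
        HomologicalComplex.isZero_single_obj_X (ComplexShape.up ℤ) 0 M i hi
      have := ModuleCat.subsingleton_of_isZero hz
      exact ⟨inferInstance, inferInstance⟩
  · exact ⟨((singleFunctorIsoCompQ (ModuleCat.{u} R) 0).app M).symm⟩

theorem isPerfectModule_of_pd [IsNoetherianRing R] (n : ℕ) :
    ∀ (M : Type u) [AddCommGroup M] [Module R M] [Module.Finite R M],
      HasProjectiveDimensionLT (ModuleCat.of R M) (n + 1) → IsPerfectModule R M := by
  induction n with
  | zero =>
    intro M _ _ _ h
    rw [zero_add, ← projective_iff_hasProjectiveDimensionLT_one,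
      ← IsProjective.iff_projective] at h
    exact isPerfect_of_finite_projective (ModuleCat.of R M) ⟨inferInstanceAs (Module.Finite R M), h⟩
  | succ n ih =>
    intro M _ _ _ h
    obtain ⟨s, f, hf⟩ := Module.Finite.exists_fin' R M
    have hS : f.shortComplexKer.ShortExact := LinearMap.shortExact_shortComplexKer hf
    have hproj : Projective f.shortComplexKer.X₂ := by
      show Projective (ModuleCat.of R (Fin s → R))
      rw [← IsProjective.iff_projective]; infer_instance
    have hK : HasProjectiveDimensionLT (ModuleCat.of R (LinearMap.ker f)) (n + 1) :=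
      (hS.hasProjectiveDimensionLT_X₃_iff n hproj).mp h
    have h1 : IsPerfect R ((singleFunctor (ModuleCat.{u} R) 0).obj (ModuleCat.of R (LinearMap.ker f))) :=
      ih _ hK
    have h2 : IsPerfect R ((singleFunctor (ModuleCat.{u} R) 0).obj (ModuleCat.of R (Fin s → R))) :=
      isPerfect_of_finite_projective _ ⟨inferInstanceAs (Module.Finite R (Fin s → R)),
        inferInstanceAs (Module.Projective R (Fin s → R))⟩
    exact isPerfect_obj₃ hS.singleTriangle hS.singleTriangle_distinguished h1 h2

theorem finite_of_isPerfectModule [IsNoetherianRing R] (M : Type u) [AddCommGroup M] [Module R M]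
    (h : IsPerfectModule R M) : Module.Finite R M := by
  obtain ⟨E, a, b, -, hE, ⟨e⟩⟩ := h
  -- H^0
  have e0 := (homologyFunctor (ModuleCat.{u} R) 0).mapIso e
  have e1 := (homologyFunctorFactors (ModuleCat.{u} R) 0).app E
  have e2 := (singleFunctorCompHomologyFunctorIso (ModuleCat.{u} R) 0).app (ModuleCat.of R M)
  have e3 : E.homology 0 ≅ ModuleCat.of R M := e1.symm ≪≫ e0 ≪≫ e2
  have hfin : Module.Finite R (E.homology 0) := by
    have e4 := (E.sc 0).moduleCatHomologyIso
    have : Module.Finite R (E.X 0) := (hE 0).1
    have : Module.Finite R ((E.sc 0).X₂) := (hE 0).1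
    have : IsNoetherian R ((E.sc 0).X₂) := isNoetherian_of_isNoetherianRing_of_finite R _
    have h5 : Module.Finite R ((E.sc 0).moduleCatLeftHomologyData.H) := by
      change Module.Finite R (LinearMap.ker (E.sc 0).g.hom ⧸ LinearMap.range (E.sc 0).moduleCatToCycles)
      infer_instance
    exact Module.Finite.equiv e4.toLinearEquiv.symm
  exact Module.Finite.equiv e3.toLinearEquiv

end

theorem main (R : Type u) [CommRing R] [IsNoetherianRing R]
    (hreg : ∀ p : PrimeSpectrum R, IsRegularLocalRing (Localization.AtPrime p.asIdeal))
    (M : Type u) [AddCommGroup M] [Module R M] :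
    DRing.IsPerfectModule R M ↔ Module.Finite R M := by
  constructor
  · exact finite_of_isPerfectModule M
  · intro hfin
    obtain ⟨n, hn⟩ := Groth.Agent.Lib.Helper77.RegularGlobal.exists_hasProjectiveDimensionLE R hreg M
    exact isPerfectModule_of_pd n M hn


end Aux

/-- Let R be a regular commutative ring, i.e. R is Noetherian and its localization at every prime ideal
is a regular local ring. Then an R-module M is perfect (M[0] is isomorphic in D(R) to a bounded
complex of finite projective modules) if and only if M is finitely generated. -/
theorem result (R : Type u) [CommRing R] [IsNoetherianRing R]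
    (hreg : ∀ p : PrimeSpectrum R, IsRegularLocalRing (Localization.AtPrime p.asIdeal))
    (M : Type u) [AddCommGroup M] [Module R M] :
    DRing.IsPerfectModule R M ↔ Module.Finite R M := by
  exact main R hreg M

end Groth.Agent.S6962
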