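import Groth.Statements.S6964
import Groth.Agent.Lib.Helper84.ProjAmp
import Groth.Agent.Lib.Helper84.DRingBasic
import Mathlib.Algebra.Category.ModuleCat.EnoughInjectives

set_option autoImplicit false
universe u
open CategoryTheory CategoryTheory.Limits
attribute [local instance] HasDerivedCategory.standard
open DRing

namespace Groth.Agent.S6964

/-- Let R be a commutative ring, K an object of D(R) and a, b integers. These four conditions are
equivalent: (1) the projective amplitude of K lies in [a, b], meaning K is isomorphic in D(R) to a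
complex of projective R-modules vanishing outside [a, b]; (2) Hom(K, N[i]) = 0 in D(R) for every
R-module N and every integer i outside [-b, -a]; (3) H^n(K) = 0 for all n > b and Hom(K, N[i]) = 0
for every R-module N and every i > -a; (4) H^n(K) = 0 for all n outside [a - 1, b] and Hom(K, N[-a +
1]) = 0 for every R-module N. -/
theorem result (R : Type u) [CommRing R] (K : Dual.D R) (a b : ℤ) :
    [∃ P : DRing.Cx R, DRing.VanishesOutside P a b ∧ (∀ i : ℤ, Module.Projective R (P.X i)) ∧
        Nonempty (DRing.toD P ≅ K),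
      ∀ (N : Type u) [AddCommGroup N] [Module R N] (i : ℤ), (i < -b ∨ -a < i) →
        Subsingleton (DRing.ExtD R K (Dual.inD R N) i),
      (∀ n : ℤ, b < n → Subsingleton (Dual.HD R K n)) ∧
        ∀ (N : Type u) [AddCommGroup N] [Module R N] (i : ℤ), -a < i → Subsingleton (DRing.ExtD R K (Dual.inD R N) i),
      (∀ n : ℤ, (n < a - 1 ∨ b < n) → Subsingleton (Dual.HD R K n)) ∧
        ∀ (N : Type u) [AddCommGroup N] [Module R N], Subsingleton (DRing.ExtD R K (Dual.inD R N) (-a + 1))].TFAE := by
  open Groth.Agent.Lib.Helper84 Groth.Agent.Lib.Helper84.ProjAmp DerivedCategory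
    CategoryTheory.Triangulated in
  -- conversion between `Hom(K, N[i])` and `Hom(K, N[-j])`
  have conv : ∀ (j : ℤ) (M : ModuleCat.{u} R),
      Subsingleton (K ⟶ (Dual.inD R M)⟦-j⟧) →
        ∀ f : K ⟶ (singleFunctor (ModuleCat.{u} R) j).obj M, f = 0 := by
    intro j M hs f
    let e : ((singleFunctor (ModuleCat.{u} R) 0).obj M)⟦-j⟧ ≅
        (singleFunctor (ModuleCat.{u} R) j).obj M :=
      ((singleFunctors (ModuleCat.{u} R)).shiftIso (-j) j 0 (by lia)).app M
    have h1 : f ≫ e.inv = 0 := Subsingleton.elim _ _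
    exact (cancel_mono e.inv).1 (h1.trans Limits.zero_comp.symm)
  tfae_have 1 → 2 := by
    rintro ⟨P, hP1, hP2, ⟨e⟩⟩ N _ _ i hi
    refine ⟨fun f g => ?_⟩
    have key : ∀ f : K ⟶ (Dual.inD R N)⟦i⟧, f = 0 := by
      intro f
      have hP2' : ∀ i : ℤ, Projective (P.X i) := fun i =>
        (IsProjective.iff_projective (R := R) (P := P.X i)).1 (hP2 i)
      rcases hi with hi | hi
      · -- `i < -b` : t-structure
        haveI : P.IsStrictlyLE b := by
          rw [CochainComplex.isStrictlyLE_iff]
          exact fun j hj => hP1 j (Or.inr hj)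
        have h1 : (Q.obj P).IsLE b := inferInstance
        have h2 : ((Dual.inD R N)⟦i⟧).IsGE (-i) :=
          TStructure.t.isGE_shift (Dual.inD R N) 0 i (-i)
        have h3 : e.hom ≫ f = 0 :=
          TStructure.t.zero_of_isLE_of_isGE _ b (-i) (by lia) h1 h2
        exact (cancel_epi e.hom).1 (h3.trans Limits.comp_zero.symm)
      · -- `-a < i` : projectivity
        haveI : ((Dual.inD R N)⟦i⟧).IsLE (-i) :=
          TStructure.t.isLE_shift (Dual.inD R N) 0 i (-i)
        have h3 : e.hom ≫ f = 0 :=
          KProj.from_projective_eq_zero P a b (-i) (by lia) (fun j hj => hP1 j (Or.inl hj))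
            (fun j hj => hP1 j (Or.inr hj)) hP2' _ _
        exact (cancel_epi e.hom).1 (h3.trans Limits.comp_zero.symm)
    rw [key f, key g]
  tfae_have 2 → 3 := by
    intro H
    refine ⟨fun n hn => ?_, fun N _ _ i hi => H N i (Or.inr hi)⟩
    apply ModuleCat.subsingleton_of_isZero
    apply isZero_homology_of_hom_single_injective_eq_zero
    intro I _ f
    exact conv n I (H I (-n) (Or.inl (by lia))) f
  tfae_have 3 → 4 := by
    rintro ⟨H1, H2⟩
    refine ⟨fun n hn => ?_, fun N _ _ => H2 N (-a + 1) (by lia)⟩
    rcases hn with hn | hn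
    · apply ModuleCat.subsingleton_of_isZero
      apply isZero_homology_of_hom_single_injective_eq_zero
      intro I _ f
      exact conv n I (H2 I (-n) (by lia)) f
    · exact H1 n hn
  tfae_have 4 → 1 := by
    rintro ⟨H1, H2⟩
    haveI : K.IsLE b := DRingBasic.isLE_of_subsingleton K b (fun i hi => H1 i (Or.inr hi))
    haveI : K.IsGE (a - 1) :=
      DRingBasic.isGE_of_subsingleton K (a - 1) (fun i hi => H1 i (Or.inl hi))
    have h1 : ∀ (M : ModuleCat.{u} R) (f : K ⟶ (singleFunctor (ModuleCat.{u} R) (a - 1)).obj M),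
        f = 0 := by
      intro M f
      refine conv (a - 1) M ?_ f
      have : -(a - 1) = -a + 1 := by ring
      rw [this]
      exact H2 M
    have h2 : ExtVanish K a := by
      have := extVanish_of_hom_single_eq_zero K (a - 1) h1
      rwa [sub_add_cancel] at this
    obtain ⟨P, hP1, hP2, ⟨e⟩⟩ := hasProjAmp_of_extVanish K (a - 1) b a h2
    exact ⟨P, hP1, fun i => (IsProjective.iff_projective (R := R) (P := P.X i)).2 (hP2 i), ⟨e⟩⟩
  tfae_finish

end Groth.Agent.S6964
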