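import Groth.Statements.S6966
import Mathlib.Algebra.Homology.DerivedCategory.Ext.EnoughProjectives
import Mathlib.Algebra.Homology.DerivedCategory.SingleTriangle
import Mathlib.Algebra.Homology.DerivedCategory.FullyFaithful
import Mathlib.Algebra.Category.ModuleCat.Projective
import Mathlib.Algebra.Homology.ShortComplex.ModuleCat

set_option autoImplicit false
universe u
open CategoryTheory CategoryTheory.Limits
attribute [local instance] HasDerivedCategory.standard
open CAlg

namespace Groth.Agent.S6966

open DerivedCategory Pretriangulated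

lemma hom_shift_one_eq_zero_of_projective (R : Type u) [CommRing R] (P N : ModuleCat.{u} R)
    [Projective P]
    (y : (singleFunctor (ModuleCat.{u} R) 0).obj P ⟶
      ((singleFunctor (ModuleCat.{u} R) 0).obj N)⟦(1 : ℤ)⟧) : y = 0 := by
  rw [← cancel_mono (((singleFunctors (ModuleCat.{u} R)).shiftIso 1 (-1) 0 (by lia)).hom.app N),
    zero_comp]
  exact from_singleFunctor_obj_eq_zero_of_projective
    (L := (CochainComplex.singleFunctor (ModuleCat.{u} R) (-1)).obj N) (n := -1) _ (by lia)

/-- Let R be a commutative ring, I an ideal of R and M an R-module. Then the following two conditions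
coincide: for each a ∈ I, the endomorphism of M given by multiplication by a can be written as a
composite M → P → M with P some projective R-module; and for every R-module N and every a ∈ I, a
annihilates Ext^1_R(M, N) = Hom(M[0], N[1]) in D(R). -/
theorem result (R : Type u) [CommRing R] (I : Ideal R) (M : Type u)
    [AddCommGroup M] [Module R M] :
    (∀ a ∈ I, ∃ (P : Type u) (_ : AddCommGroup P) (_ : Module R P) (_ : Module.Projective R P)
        (f : M →ₗ[R] P) (g : P →ₗ[R] M), g ∘ₗ f = a • LinearMap.id) ↔
      ∀ (N : Type u) [AddCommGroup N] [Module R N], ∀ a ∈ I,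
        ∀ x : DRing.ExtD R (Dual.inD R M) (Dual.inD R N) 1, a • x = 0 := by
  constructor
  · intro h N _ _ a ha x
    obtain ⟨P, _, _, _, f, g, hgf⟩ := h a ha
    have h1 : a • x = (a • 𝟙 (Dual.inD R M)) ≫ x := by
      rw [Linear.smul_comp, Category.id_comp]
    have h2 : a • 𝟙 (Dual.inD R M) =
        (singleFunctor (ModuleCat.{u} R) 0).map (ModuleCat.ofHom f) ≫
          (singleFunctor (ModuleCat.{u} R) 0).map (ModuleCat.ofHom g) := by
      rw [← Functor.map_comp, ← ModuleCat.ofHom_comp, hgf]
      have : ModuleCat.ofHom (a • (LinearMap.id : M →ₗ[R] M)) = a • 𝟙 (ModuleCat.of R M) := rfl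
      rw [this, Functor.map_smul, CategoryTheory.Functor.map_id]
    have h3 : (singleFunctor (ModuleCat.{u} R) 0).map (ModuleCat.ofHom g) ≫ x = 0 :=
      hom_shift_one_eq_zero_of_projective R (ModuleCat.of R P) (ModuleCat.of R N) _
    rw [h1, h2, Category.assoc, h3, comp_zero]
  · intro h a ha
    let π : (M →₀ R) →ₗ[R] M := Finsupp.linearCombination R id
    have hπ : Function.Surjective π := Finsupp.linearCombination_id_surjective R M
    let S : ShortComplex (ModuleCat.{u} R) :=
      ShortComplex.mk (ModuleCat.ofHom (X := LinearMap.ker π) (LinearMap.ker π).subtype)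
        (ModuleCat.ofHom π) (by
        ext x
        exact x.2)
    have hS : S.ShortExact := by
      have hex : S.Exact := by
        rw [ShortComplex.moduleCat_exact_iff_range_eq_ker]
        simp [S]
      haveI : Mono S.f := (ModuleCat.mono_iff_injective _).mpr (Submodule.injective_subtype _)
      haveI : Epi S.g := (ModuleCat.epi_iff_surjective _).mpr hπ
      exact ShortComplex.ShortExact.mk' hex inferInstance inferInstance
    have h0 := h (LinearMap.ker π) a ha hS.singleδ
    have h1 : (a • 𝟙 (Dual.inD R M)) ≫ hS.singleδ = 0 := by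
      rw [Linear.smul_comp, Category.id_comp]
      exact h0
    obtain ⟨φ, hφ⟩ := Triangle.coyoneda_exact₃ _ hS.singleTriangle_distinguished
      (a • 𝟙 (Dual.inD R M)) h1
    obtain ⟨h₀, rfl⟩ := (singleFunctor (ModuleCat.{u} R) 0).map_surjective φ
    have h2 : h₀ ≫ S.g = a • 𝟙 (ModuleCat.of R M) := by
      apply (singleFunctor (ModuleCat.{u} R) 0).map_injective
      rw [Functor.map_comp, Functor.map_smul, CategoryTheory.Functor.map_id]
      exact hφ.symm
    refine ⟨(M →₀ R), inferInstance, inferInstance, inferInstance, h₀.hom, π, ?_⟩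
    have h3 := congrArg ModuleCat.Hom.hom h2
    exact h3

end Groth.Agent.S6966
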