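import Groth.Statements.S6969
import Mathlib.LinearAlgebra.Finsupp.Supported
import Mathlib.RingTheory.Finiteness.Basic
import Mathlib.RingTheory.Finiteness.Finsupp
import Mathlib.LinearAlgebra.FreeModule.Basic
-- import your own Groth.Agent.* helpers here

set_option autoImplicit false
universe u
open CAlg

namespace Groth.Agent.S6969

/-- Let R be a commutative ring and φ : M → N an R-linear map which factors through a projective
R-module. If M is finitely generated, then φ factors through a finitely generated projective
R-module. -/
theorem result (R : Type u) [CommRing R] {M N : Type u} [AddCommGroup M]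
    [Module R M] [Module.Finite R M] [AddCommGroup N] [Module R N] (φ : M →ₗ[R] N)
    (h : ∃ (P : Type u) (_ : AddCommGroup P) (_ : Module R P) (_ : Module.Projective R P) (f : M →ₗ[R] P)
      (g : P →ₗ[R] N), g ∘ₗ f = φ) :
    ∃ (P : Type u) (_ : AddCommGroup P) (_ : Module R P) (_ : Module.Projective R P) (_ : Module.Finite R P)
      (f : M →ₗ[R] P) (g : P →ₗ[R] N), g ∘ₗ f = φ := by
  obtain ⟨P, i1, i2, i3, f, g, rfl⟩ := h
  obtain ⟨s, hs⟩ := Module.projective_def'.1 i3
  obtain ⟨S, hS⟩ := (Module.Finite.fg_top : (⊤ : Submodule R M).FG)
  classical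
  let T : Finset P := S.biUnion fun m => (s (f m)).support
  have hT : ∀ m : M, s (f m) ∈ Finsupp.supported R R (T : Set P) := by
    intro m
    have hm : m ∈ Submodule.span R (S : Set M) := by rw [hS]; trivial
    have hle : Submodule.span R (S : Set M) ≤
        (Finsupp.supported R R (T : Set P)).comap (s ∘ₗ f) := by
      rw [Submodule.span_le]
      intro m' hm'
      rw [SetLike.mem_coe, Submodule.mem_comap, Finsupp.mem_supported]
      intro x hx
      exact Finset.mem_coe.2 (Finset.mem_biUnion.2 ⟨m', hm', hx⟩)
    exact hle hm
  let f₀ : M →ₗ[R] Finsupp.supported R R (T : Set P) := (s ∘ₗ f).codRestrict _ hT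
  let g₀ : Finsupp.supported R R (T : Set P) →ₗ[R] N :=
    g ∘ₗ Finsupp.linearCombination R id ∘ₗ (Finsupp.supported R R (T : Set P)).subtype
  have : Module.Finite R (Finsupp.supported R R (T : Set P)) :=
    Module.Finite.equiv (Finsupp.supportedEquivFinsupp (T : Set P)).symm
  have : Module.Projective R (Finsupp.supported R R (T : Set P)) :=
    Module.Projective.of_equiv (Finsupp.supportedEquivFinsupp (T : Set P)).symm
  refine ⟨Finsupp.supported R R (T : Set P), inferInstance, inferInstance, inferInstance,
    inferInstance, f₀, g₀, ?_⟩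
  apply LinearMap.ext
  intro m
  have := LinearMap.congr_fun hs (f m)
  simp only [LinearMap.comp_apply, LinearMap.id_apply] at this
  simp [f₀, g₀, this]

end Groth.Agent.S6969
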