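import Groth.Statements.S6970
import Groth.Agent.S7013
import Groth.Agent.Lib.Helper15.LiftNilpotent
import Groth.Agent.Lib.Helper84.NilBdd
import Groth.Agent.Lib.Helper43.FreeRes

set_option autoImplicit false
universe u
open CategoryTheory CategoryTheory.Limits
attribute [local instance] HasDerivedCategory.standard
open DRing

namespace Groth.Agent.S6970

/-- Let R be a commutative ring and I a nilpotent ideal of R such that the derived base change D(R) →
D(R/I) exists. Let K be an object of D(R) and E a bounded above cochain complex of projective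
R/I-modules which is isomorphic in D(R/I) to K ⊗^L_R R/I. Then there is a bounded above cochain
complex P of projective R-modules which is isomorphic to K in D(R) and whose termwise reduction P
⊗_R R/I is isomorphic to E as a complex of R/I-modules. -/
theorem result (R : Type u) [CommRing R] (I : Ideal R)
    (hI : IsNilpotent I) [DRing.HasLBaseChange (Ideal.Quotient.mk I)] (K : Dual.D R)
    (E : DRing.Cx (R ⧸ I)) (b : ℤ) (hEb : DRing.VanishesAbove E b)
    (hEp : ∀ i : ℤ, Module.Projective (R ⧸ I) (E.X i))
    (hE : Nonempty (DRing.toD E ≅ (DRing.LBaseChange (Ideal.Quotient.mk I)).obj K)) :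
    ∃ (P : DRing.Cx R) (b' : ℤ), DRing.VanishesAbove P b' ∧ (∀ i : ℤ, Module.Projective R (P.X i)) ∧
      Nonempty (DRing.toD P ≅ K) ∧ Nonempty ((((ModuleCat.extendScalars (Ideal.Quotient.mk I)).mapHomologicalComplex (ComplexShape.up ℤ)).obj P) ≅ E) := by
  classical
  obtain ⟨iE⟩ := hE
  have hnil : IsNilpotent (RingHom.ker (Ideal.Quotient.mk I)) := by rwa [Ideal.mk_ker]
  haveI : K.IsLE b := Groth.Agent.Lib.Helper84.NilBdd.isLE_of_lbaseChange (Ideal.Quotient.mk I)
    Ideal.Quotient.mk_surjective hnil K b E hEb (fun i => by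
      haveI := hEp i
      infer_instance) iE
  obtain ⟨Qc, hQc, hQf, hQK⟩ := Groth.Agent.Lib.Helper43.FreeRes.exists_free_representative K b
    (fun i hi => (DerivedCategory.isLE_iff K b).1 inferInstance i hi)
  have hEt : ∀ i : ℤ, ∃ X : ModuleCat.{u} R, Groth.Agent.Lib.Helper15.LiftNilpotent.pcProj R X ∧
      Nonempty (TensorProduct R (R ⧸ I) X ≃ₗ[R ⧸ I] E.X i) := fun i => by
    haveI := hEp i
    exact Groth.Agent.Lib.Helper15.LiftNilpotent.exists_lift_projective I hI (E.X i)
  exact Groth.Agent.S7013.result R I (Groth.Agent.Lib.Helper15.LiftNilpotent.pcProj R)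
    (fun X hX => hX) (Groth.Agent.Lib.Helper15.LiftNilpotent.pcProj_prod R)
    (Groth.Agent.Lib.Helper15.LiftNilpotent.pcProj_nakayama I hI) K
    ⟨Qc, b, hQc, fun i => by
      haveI := hQf i
      exact (inferInstance : Module.Projective R (Qc.X i)), hQK⟩
    E b hEb hEt ⟨iE⟩

end Groth.Agent.S6970
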