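import Groth.Statements.S6971
import Groth.Agent.Lib.Helper84.NilPC
import Groth.Agent.S2066

set_option autoImplicit false
universe u
open CategoryTheory CategoryTheory.Limits
attribute [local instance] HasDerivedCategory.standard
open DRing

namespace Groth.Agent.S6971

/-- Let R' → R be a surjective homomorphism of commutative rings whose kernel is a nilpotent ideal, such
that the derived base change D(R') → D(R) exists, and let K' be an object of D(R'). Then K' ⊗^L R is
pseudo-coherent over R (isomorphic in D(R) to a bounded above complex of finite free modules) if and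
only if K' is pseudo-coherent over R'. -/
theorem result {R' R : Type u} [CommRing R'] [CommRing R]
    (φ : R' →+* R) (hφ : Function.Surjective φ) (hnil : IsNilpotent (RingHom.ker φ))
    [DRing.HasLBaseChange φ] (K' : Dual.D R') :
    DRing.IsPseudoCoherent' R ((DRing.LBaseChange φ).obj K') ↔ DRing.IsPseudoCoherent' R' K' := by
  constructor
  · intro h
    obtain ⟨E, b, hb, hff, ⟨eE⟩⟩ := h
    haveI : K'.IsLE b := Groth.Agent.Lib.Helper84.NilBdd.isLE_of_lbaseChange φ hφ hnil K' b E hb
      (fun i => by
        haveI := (hff i).2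
        infer_instance) eE
    have hpc : Groth.Agent.Lib.Helper15.PseudoCoh.PCAll R ((DRing.LBaseChange φ).obj K') :=
      (Groth.Agent.S2066.result _).1.2 ⟨E, b, hb, hff, ⟨eE⟩⟩
    exact (Groth.Agent.S2066.result K').1.1
      (Groth.Agent.Lib.Helper84.NilPC.pcAll_of_lbaseChange φ hφ hnil K' b hpc)
  · rintro ⟨E, b, hb, hff, ⟨e⟩⟩
    refine ⟨Groth.Agent.Lib.Helper15.LDerived.extCx φ E, b, ?_, ?_,
      ⟨(Groth.Agent.Lib.Helper15.LBCKFlat.lbcIsoOfFlat φ E b hb (fun i => by
        haveI := (hff i).2
        infer_instance)).symm ≪≫ (DRing.LBaseChange φ).mapIso e⟩⟩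
    · intro i hi
      exact Functor.map_isZero (ModuleCat.extendScalars.{u, u, u} φ) (hb i hi)
    · intro i
      exact Groth.Agent.Lib.Helper84.NilPC.finiteFree_extendScalars φ _ (hff i)

end Groth.Agent.S6971
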