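import Groth.Statements.S6973
import Groth.Agent.S7013
import Groth.Agent.S0534
import Groth.Agent.Lib.Helper15.LiftFinProj

set_option autoImplicit false
universe u
open CategoryTheory CategoryTheory.Limits
attribute [local instance] HasDerivedCategory.standard
open DRing

namespace Groth.Agent.S6973

/-- Let (R, I) be a henselian pair such that the derived base change D(R) → D(R/I) exists, K a
pseudo-coherent object of D(R), and E a bounded above cochain complex of finite projective
R/I-modules which is isomorphic in D(R/I) to K ⊗^L_R R/I. Then there is a bounded above cochain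
complex P of finite projective R-modules, isomorphic to K in D(R), whose termwise reduction P ⊗_R
R/I is isomorphic to E as a complex, and such that P^i is free for every i for which E^i is free. -/
theorem result (R : Type u) [CommRing R]
    (I : Ideal R) [HenselianRing R I] [DRing.HasLBaseChange (Ideal.Quotient.mk I)] (K : Dual.D R)
    (hK : DRing.IsPseudoCoherent' R K) (E : DRing.Cx (R ⧸ I)) (b : ℤ) (hEb : DRing.VanishesAbove E b)
    (hEp : DRing.TermwiseFiniteProjective E)
    (hE : Nonempty (DRing.toD E ≅ (DRing.LBaseChange (Ideal.Quotient.mk I)).obj K)) :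
    ∃ (P : DRing.Cx R) (b' : ℤ), DRing.VanishesAbove P b' ∧ DRing.TermwiseFiniteProjective P ∧
      Nonempty (DRing.toD P ≅ K) ∧ Nonempty ((((ModuleCat.extendScalars (Ideal.Quotient.mk I)).mapHomologicalComplex (ComplexShape.up ℤ)).obj P) ≅ E) ∧
      ∀ i : ℤ, Module.Free (R ⧸ I) (E.X i) → Module.Free R (P.X i) := by
  classical
  have hI : I ≤ Ideal.jacobson (⊥ : Ideal R) := HenselianRing.jac
  obtain ⟨E₀, b₀, hb₀, hff, hiso⟩ := hK
  have hEt : ∀ i : ℤ, ∃ X : ModuleCat.{u} R, Groth.Agent.Lib.Helper15.LiftFinProj.pcFP R X ∧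
      Nonempty (TensorProduct R (R ⧸ I) X ≃ₗ[R ⧸ I] E.X i) := fun i => by
    haveI := (hEp i).1
    haveI := (hEp i).2
    obtain ⟨P, _, _, hPf, hPp, hPe⟩ := Groth.Agent.S0534.result R I (E.X i)
    exact ⟨ModuleCat.of R P, ⟨hPf, hPp⟩, hPe⟩
  obtain ⟨P, b', hPb, hPPc, hPK, ⟨iPE⟩⟩ := Groth.Agent.S7013.result R I
    (Groth.Agent.Lib.Helper15.LiftFinProj.pcFP R)
    (fun _ h => h.2)
    (Groth.Agent.Lib.Helper15.LiftFinProj.pcFP_prod R)
    (Groth.Agent.Lib.Helper15.LiftFinProj.pcFP_nakayama I hI) K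
    ⟨E₀, b₀, hb₀, fun i => by
      haveI := (hff i).1
      haveI := (hff i).2
      exact ⟨inferInstance, inferInstance⟩, hiso⟩
    E b hEb hEt hE
  refine ⟨P, b', hPb, hPPc, hPK, ⟨iPE⟩, ?_⟩
  intro i hfree
  let e₁ : TensorProduct R (R ⧸ I) (P.X i) ≃ₗ[R ⧸ I] E.X i :=
    ((Groth.Agent.Lib.Helper15.PseudoCohBC.extModuleIso R (R ⧸ I) (P.X i)).symm ≪≫
      (HomologicalComplex.eval _ _ i).mapIso iPE).toLinearEquiv
  haveI : Module.Free (R ⧸ I) (TensorProduct R (R ⧸ I) (P.X i)) := Module.Free.of_equiv e₁.symm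
  exact Groth.Agent.Lib.Helper15.LiftFinProj.free_of_free_tensor I hI (P.X i) (hPPc i)

end Groth.Agent.S6973
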