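import Groth.Statements.S6974
import Mathlib.Tactic
import Groth.Agent.Lib.Helper43.FibreAmp
import Groth.Agent.Lib.Helper15.LBCKFlat
import Groth.Agent.S2066
-- import your own Groth.Agent.* helpers here

set_option autoImplicit false
universe u
open CategoryTheory CategoryTheory.Limits
attribute [local instance] HasDerivedCategory.standard
open DRing

namespace Groth.Agent.S6974

/-- Let R be a commutative ring such that the derived base change D(R) → D(R/m) exists for every ideal
m, let K be a pseudo-coherent object of D(R) and a, b integers. If for every maximal ideal m of R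
the cohomology H^i(K ⊗^L_R R/m) vanishes for all i outside [a, b], then K is perfect and has tor
amplitude in [a, b]. -/
theorem result (R : Type u) [CommRing R]
    [∀ m : Ideal R, DRing.HasLBaseChange (Ideal.Quotient.mk m)] (K : Dual.D R)
    (hK : DRing.IsPseudoCoherent' R K) (a b : ℤ)
    (h : ∀ (m : Ideal R), m.IsMaximal → ∀ i : ℤ, (i < a ∨ b < i) →
      Subsingleton (Dual.HD (R ⧸ m) ((DRing.LBaseChange (Ideal.Quotient.mk m)).obj K) i)) :
    DRing.IsPerfect R K ∧ DRing.HasTorAmplitudeIn R a b K := by
  obtain ⟨E, b₀, hEb, hEff, ⟨e⟩⟩ := hK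
  have hflat : DRing.TermwiseFlat E := fun i => by
    haveI := (hEff i).2
    infer_instance
  have htor : DRing.HasTorAmplitudeIn R a b (DRing.toD E) := by
    refine Groth.Agent.Lib.Helper43.FibreAmp.torAmp_of_fibres E b₀ hEb hEff a b ?_
    intro m hm i hi
    haveI := h m hm i hi
    let iso := (DRing.LBaseChange (Ideal.Quotient.mk m)).mapIso e.symm ≪≫
      Groth.Agent.Lib.Helper15.LBCKFlat.lbcIsoOfFlat (Ideal.Quotient.mk m) E b₀ hEb hflat
    rw [HomologicalComplex.exactAt_iff_isZero_homology]
    refine IsZero.of_iso ?_ (Groth.Agent.Lib.Helper43.PCHomology.homologyIso _ i).symm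
    exact IsZero.of_iso (ModuleCat.isZero_of_subsingleton _)
      ((DerivedCategory.homologyFunctor _ i).mapIso iso.symm)
  have htorK := Groth.Agent.Lib.Helper84.FlatAmp.torAmp_of_iso htor e
  refine ⟨?_, htorK⟩
  obtain ⟨P, h1, h2, h3⟩ := Groth.Agent.Lib.Helper43.PerfAmp.exists_perfect_amplitude K a b
    ((Groth.Agent.S2066.result K).1.2 ⟨E, b₀, hEb, hEff, ⟨e⟩⟩ (a - 1)) htorK
  exact ⟨P, a, b, h1, h2, h3⟩

end Groth.Agent.S6974
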