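import Groth.Statements.S6975
import Groth.Agent.Lib.Helper54.LBaseChangeKProj
import Groth.Agent.Lib.Helper54.LocalSplit

set_option autoImplicit false
universe u
open CategoryTheory CategoryTheory.Limits
attribute [local instance] HasDerivedCategory.standard
open DRing

namespace Groth.Agent.S6975

open Groth.Agent.Lib.Helper54.LDerived Groth.Agent.Lib.Helper54.LocalSplit DerivedCategory

theorem finite_projective_of_isZero {R : Type u} [CommRing R] (M : ModuleCat.{u} R) (h : IsZero M) :
    Module.Finite R M ∧ Module.Projective R M := by
  have : Subsingleton M := ModuleCat.subsingleton_of_isZero h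
  exact ⟨inferInstance, inferInstance⟩


/-- Let R be a local commutative ring with residue field κ such that the derived base change D(R) → D(κ)
exists, and let K be a pseudo-coherent object of D(R). If there is an integer a with H^i(K ⊗^L_R κ)
= 0 for all i < a, then K is perfect. -/
theorem result (R : Type u) [CommRing R] [IsLocalRing R]
    [DRing.HasLBaseChange (IsLocalRing.residue R)] (K : Dual.D R) (hK : DRing.IsPseudoCoherent' R K) (a : ℤ)
    (h : ∀ i : ℤ, i < a → Subsingleton (Dual.HD (IsLocalRing.ResidueField R)
      ((DRing.LBaseChange (IsLocalRing.residue R)).obj K) i)) :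
    DRing.IsPerfect R K := by
  obtain ⟨E, b, hEb, hff, ⟨e⟩⟩ := hK
  have hKP : E.IsKProjective :=
    isKProjective_of_vanishesAbove E b hEb (fun i => by
      have := (hff i).2
      infer_instance)
  have iso : (DRing.LBaseChange (IsLocalRing.residue R)).obj K ≅
      DRing.toD ((extCx (IsLocalRing.residue R)).obj E) :=
    (DRing.LBaseChange (IsLocalRing.residue R)).mapIso e.symm ≪≫
      lbaseChangeIso (IsLocalRing.residue R) E
  have hex' : ∀ i : ℤ, i < a → ((extCx (IsLocalRing.residue R)).obj E).ExactAt i := by
    intro i hi
    rw [HomologicalComplex.exactAt_iff_isZero_homology]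
    have h1 : IsZero ((DerivedCategory.homologyFunctor
        (ModuleCat.{u} (IsLocalRing.ResidueField R)) i).obj
        ((DRing.LBaseChange (IsLocalRing.residue R)).obj K)) :=
      haveI := h i hi
      ModuleCat.isZero_of_subsingleton _
    exact (h1.of_iso ((DerivedCategory.homologyFunctor _ i).mapIso iso.symm)).of_iso
      ((DerivedCategory.homologyFunctorFactors
        (ModuleCat.{u} (IsLocalRing.ResidueField R)) i).app _).symm
  have key := fun i hi => exactAt_and_opcycles E hff i (hex' i hi)
  have hGE : E.IsGE a := by
    rw [CochainComplex.isGE_iff]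
    intro i hi
    exact (key i hi).1
  have hqi : QuasiIso (E.πTruncGE a) := (CochainComplex.quasiIso_πTruncGE_iff E a).2 hGE
  have : IsIso (Q.map (E.πTruncGE a)) := by
    rw [DerivedCategory.isIso_Q_map_iff_quasiIso]
    exact hqi
  refine ⟨E.truncGE a, a, max a b, ?_, ?_, ⟨(asIso (Q.map (E.πTruncGE a))).symm ≪≫ e⟩⟩
  · intro i hi
    rcases hi with hi | hi
    · exact CochainComplex.isZero_of_isStrictlyGE (E.truncGE a) a i hi
    · have hai : a < i := lt_of_le_of_lt (le_max_left a b) hi
      have hbi : b < i := lt_of_le_of_lt (le_max_right a b) hi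
      exact (hEb i hbi).of_iso (E.truncGEXIso a i hai)
  · intro i
    rcases lt_trichotomy i a with hi | hi | hi
    · exact finite_projective_of_isZero _
        (CochainComplex.isZero_of_isStrictlyGE (E.truncGE a) a i hi)
    · subst hi
      have k1 := key (i - 1) (by lia)
      have e1 : (E.truncGE i).X i ≅ E.opcycles (i - 1 + 1) :=
        E.truncGEXIsoOpcycles i ≪≫ eqToIso (by rw [sub_add_cancel])
      have := k1.2.1
      have := k1.2.2
      have : Module.Projective R (E.opcycles (i - 1 + 1)) := Module.Projective.of_free
      exact ⟨Module.Finite.equiv e1.toLinearEquiv.symm,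
        Module.Projective.of_equiv e1.toLinearEquiv.symm⟩
    · have e1 : (E.truncGE a).X i ≅ E.X i := E.truncGEXIso a i hi
      have := (hff i).1
      have := (hff i).2
      have : Module.Projective R (E.X i) := Module.Projective.of_free
      exact ⟨Module.Finite.equiv e1.toLinearEquiv.symm,
        Module.Projective.of_equiv e1.toLinearEquiv.symm⟩

end Groth.Agent.S6975
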