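import Groth.Statements.S6976
import Groth.Agent.Lib.Helper84.FlatAmpPerf
import Groth.Agent.Lib.Helper84.TrimFP
import Groth.Agent.S6954

set_option autoImplicit false
universe u
open CategoryTheory CategoryTheory.Limits
attribute [local instance] HasDerivedCategory.standard
open DRing

namespace Groth.Agent.S6976

/-- Let R be a commutative ring, K a pseudo-coherent object of D(R) and a, b integers. Then K is
isomorphic in D(R) to a complex of projective R-modules vanishing outside [a, b] if and only if K is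
perfect with tor amplitude in [a, b]. -/
theorem result (R : Type u) [CommRing R]
    (K : Dual.D R) (hK : DRing.IsPseudoCoherent' R K) (a b : ℤ) :
    (∃ P : DRing.Cx R, DRing.VanishesOutside P a b ∧ (∀ i : ℤ, Module.Projective R (P.X i)) ∧
        Nonempty (DRing.toD P ≅ K)) ↔ DRing.IsPerfect R K ∧ DRing.HasTorAmplitudeIn R a b K := by
  constructor
  · rintro ⟨P, h1, h2, ⟨e⟩⟩
    have hamp : DRing.HasTorAmplitudeIn R a b K :=
      ⟨P, h1, fun i => by haveI := h2 i; infer_instance, ⟨e⟩⟩
    exact ⟨(Groth.Agent.S6954.result R K).2 ⟨hK, a, b, hamp⟩, hamp⟩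
  · rintro ⟨_, hamp⟩
    obtain ⟨E, n, h1, h2, ⟨e⟩⟩ :=
      Groth.Agent.Lib.Helper84.FlatAmp.exists_finiteProjective_of_pc_of_torAmp K hK a b hamp
    haveI : (DRing.toD E).IsLE b := by
      haveI := Groth.Agent.Lib.Helper84.FlatAmp.torAmp_isLE hamp
      exact DerivedCategory.TStructure.t.isLE_of_iso e.symm b
    obtain ⟨P', h1', h2', ⟨e'⟩⟩ := Groth.Agent.Lib.Helper84.TrimFP.exists_trim E a n b h1 h2
    exact ⟨P', h1', fun i => (h2' i).2, ⟨e' ≪≫ e⟩⟩

end Groth.Agent.S6976
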