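import Groth.Statements.S6977
import Mathlib.Tactic
import Groth.Agent.Lib.Helper43.RelFibre
import Groth.Agent.Lib.Helper43.PerfAmp
import Groth.Agent.Lib.Helper15.PseudoCohRes
import Groth.Agent.S2066
import Groth.Agent.S0563
import Mathlib.RingTheory.LocalRing.ResidueField.Fiber
import Mathlib.RingTheory.TensorProduct.Quotient
-- import your own Groth.Agent.* helpers here

set_option autoImplicit false
universe u
open CategoryTheory CategoryTheory.Limits
attribute [local instance] HasDerivedCategory.standard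
open DRing

namespace Groth.Agent.S6977

open TensorProduct Groth.Agent.Lib.Helper43 Groth.Agent.Lib.Helper84 Groth.Agent.Lib.Helper84.FlatBC
  Groth.Agent.Lib.Helper84.FlatAmp Groth.Agent.Lib.Helper43.RelFibre

attribute [local instance] Algebra.TensorProduct.rightAlgebra

/-- the ring isomorphism `κ_A ⊗_A B ≃ B / m_A B` -/
noncomputable def fibreEquiv (A B : Type u) [CommRing A] [CommRing B] [IsLocalRing A]
    [Algebra A B] :
    IsLocalRing.ResidueField A ⊗[A] B ≃+*
      B ⧸ (IsLocalRing.maximalIdeal A).map (algebraMap A B) :=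
  ((Algebra.TensorProduct.comm A (IsLocalRing.ResidueField A) B).trans
    ((Algebra.TensorProduct.quotIdealMapEquivTensorQuot B
      (IsLocalRing.maximalIdeal A)).symm.restrictScalars A)).toRingEquiv

/-- the map `κ_A ⊗_A B → B/m_B` for a local homomorphism -/
lemma exists_chi (A B : Type u) [CommRing A] [CommRing B] [IsLocalRing A] [IsLocalRing B]
    [Algebra A B] [IsLocalHom (algebraMap A B)] :
    ∃ χ : IsLocalRing.ResidueField A ⊗[A] B →+* B ⧸ IsLocalRing.maximalIdeal B,
      χ.comp (inclR A B (IsLocalRing.ResidueField A)) =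
        Ideal.Quotient.mk (IsLocalRing.maximalIdeal B) := by
  let f₀ : A →ₐ[A] B ⧸ IsLocalRing.maximalIdeal B :=
    Algebra.ofId A (B ⧸ IsLocalRing.maximalIdeal B)
  have hf₀ : ∀ x : A, f₀ x = Ideal.Quotient.mk (IsLocalRing.maximalIdeal B) (algebraMap A B x) :=
    fun x => rfl
  have hf₁ : ∀ x : A, x ∈ IsLocalRing.maximalIdeal A → f₀ x = 0 := by
    intro x hx
    rw [hf₀, Ideal.Quotient.eq_zero_iff_mem, IsLocalRing.mem_maximalIdeal, mem_nonunits_iff]
    intro hu
    exact (IsLocalRing.mem_maximalIdeal _).1 hx (isUnit_of_map_unit (algebraMap A B) x hu)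
  let g : IsLocalRing.ResidueField A →ₐ[A] B ⧸ IsLocalRing.maximalIdeal B :=
    Ideal.Quotient.liftₐ (IsLocalRing.maximalIdeal A) f₀ hf₁
  let χ₀ : IsLocalRing.ResidueField A ⊗[A] B →ₐ[A] B ⧸ IsLocalRing.maximalIdeal B :=
    Algebra.TensorProduct.lift g (Ideal.Quotient.mkₐ A (IsLocalRing.maximalIdeal B))
      (fun _ _ => Commute.all _ _)
  refine ⟨χ₀.toRingHom, RingHom.ext (fun x => ?_)⟩
  change χ₀ ((1 : IsLocalRing.ResidueField A) ⊗ₜ[A] x) =
    Ideal.Quotient.mk (IsLocalRing.maximalIdeal B) x
  rw [Algebra.TensorProduct.lift_tmul, map_one, one_mul]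
  rfl

/-- Let A → B be a flat local homomorphism of local commutative rings such that B/m_A B is a regular
local ring of dimension d, and assume the derived base change D(A) → D(κ_A) to the residue field of
A exists. Let a, b be integers and K a pseudo-coherent object of D(B) such that H^i((K regarded in
D(A)) ⊗^L_A κ_A) = 0 for every i outside [a, b]. Then K is perfect as an object of D(B) and has tor
amplitude in [a - d, b] over B. -/
theorem result {A B : Type u} [CommRing A] [CommRing B] [IsLocalRing A]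
    [IsLocalRing B] [Algebra A B] [IsLocalHom (algebraMap A B)] [Module.Flat A B] (d : ℕ)
    [IsRegularLocalRing (B ⧸ (IsLocalRing.maximalIdeal A).map (algebraMap A B))]
    (hd : ringKrullDim (B ⧸ (IsLocalRing.maximalIdeal A).map (algebraMap A B)) = d)
    [DRing.HasLBaseChange (IsLocalRing.residue A)] (a b : ℤ) (K : Dual.D B) (hK : DRing.IsPseudoCoherent' B K)
    (h : ∀ i : ℤ, (i < a ∨ b < i) → Subsingleton (Dual.HD (IsLocalRing.ResidueField A)
      ((DRing.LBaseChange (IsLocalRing.residue A)).obj ((DRing.restrictD (algebraMap A B)).obj K)) i)) :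
    DRing.IsPerfect B K ∧ DRing.HasTorAmplitudeIn B (a - d) b K := by
  obtain ⟨E, b₀, hEb, hEff, ⟨e⟩⟩ := hK
  have hGb : DRing.VanishesAbove ((DRing.restrictCx (algebraMap A B)).obj E) b₀ := fun i hi =>
    CategoryTheory.Functor.map_isZero (ModuleCat.restrictScalars.{u} (algebraMap A B)) (hEb i hi)
  have hGflat : DRing.TermwiseFlat ((DRing.restrictCx (algebraMap A B)).obj E) := fun i => by
    haveI : Module.Free B (E.X i) := (hEff i).2
    haveI : Module.Flat B ↑((Groth.Agent.Lib.Helper68.TorBaseChange.res A B).obj (E.X i)) :=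
      inferInstanceAs (Module.Flat B (E.X i))
    exact Module.Flat.trans A B ↑((Groth.Agent.Lib.Helper68.TorBaseChange.res A B).obj (E.X i))
  have hS : ∀ (i : ℤ), (i < a ∨ b < i) →
      ((extCx (algebraMap A (IsLocalRing.ResidueField A))).obj
        ((DRing.restrictCx (algebraMap A B)).obj E)).ExactAt i := by
    intro i hi
    have hi' := h i hi
    have iso : (DRing.LBaseChange (IsLocalRing.residue A)).obj
        ((DRing.restrictD (algebraMap A B)).obj K) ≅
        DRing.toD ((extCx (IsLocalRing.residue A)).obj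
          ((DRing.restrictCx (algebraMap A B)).obj E)) :=
      (DRing.LBaseChange (IsLocalRing.residue A)).mapIso
        ((DRing.restrictD (algebraMap A B)).mapIso e.symm ≪≫
          Groth.Agent.Lib.Helper15.PseudoCohRes.restrictDQIso (algebraMap A B) E) ≪≫
        Groth.Agent.Lib.Helper15.LBCKFlat.lbcIsoOfFlat (IsLocalRing.residue A) _ b₀ hGb hGflat
    rw [HomologicalComplex.exactAt_iff_isZero_homology]
    refine IsZero.of_iso ?_ (PCHomology.homologyIso _ i).symm
    have hz : IsZero ((DerivedCategory.homologyFunctor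
        (ModuleCat.{u} (IsLocalRing.ResidueField A)) i).obj
      ((DRing.LBaseChange (IsLocalRing.residue A)).obj
        ((DRing.restrictD (algebraMap A B)).obj K))) := by
      haveI := hi'
      exact ModuleCat.isZero_of_subsingleton _
    exact IsZero.of_iso hz ((DerivedCategory.homologyFunctor _ i).mapIso iso.symm)
  letI eR := fibreEquiv A B
  haveI : IsRegularLocalRing (IsLocalRing.ResidueField A ⊗[A] B) :=
    IsRegularLocalRing.of_ringEquiv eR.symm
  have hdR : ringKrullDim (IsLocalRing.ResidueField A ⊗[A] B) = d := by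
    rw [ringKrullDim_eq_of_ringEquiv eR]; exact hd
  have htorE : DRing.HasTorAmplitudeIn B (a - d) b (DRing.toD E) := by
    refine FibreAmp.torAmp_of_fibres E b₀ hEb hEff (a - d) b ?_
    intro m hm i hi
    obtain rfl := IsLocalRing.eq_maximalIdeal hm
    obtain ⟨χ, hχ⟩ := exists_chi A B
    exact exactAt_fibre_of_relative (S := IsLocalRing.ResidueField A) E b₀ hEb hEff
      a b d hS
      (fun M _ _ => Groth.Agent.S0563.result (IsLocalRing.ResidueField A ⊗[A] B) d hdR M)
      (IsLocalRing.maximalIdeal B) χ hχ i hi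
  have htorK := torAmp_of_iso htorE e
  refine ⟨?_, htorK⟩
  obtain ⟨P, h1, h2, h3⟩ := PerfAmp.exists_perfect_amplitude K (a - d) b
    ((Groth.Agent.S2066.result K).1.2 ⟨E, b₀, hEb, hEff, ⟨e⟩⟩ (a - d - 1)) htorK
  exact ⟨P, a - d, b, h1, h2, h3⟩

end Groth.Agent.S6977
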