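import Groth.Statements.S6978
import Groth.Agent.Lib.Helper89.PerfCompact4
import Groth.Agent.Lib.Helper84.PerfSummand
import Groth.Agent.Lib.Helper15.PseudoCoh
import Groth.Agent.S2066

set_option autoImplicit false
universe u
open CategoryTheory CategoryTheory.Limits
attribute [local instance] HasDerivedCategory.standard
open DRing

namespace Groth.Agent.S6978

/-- Let R be a commutative ring and K an object of D(R). Then K is perfect if and only if K is a compact
object of D(R): for every family (E_i) of objects of D(R) indexed by a small type, the canonical map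
from the direct sum of the Hom(K, E_i) to Hom(K, ⊕ E_i) is bijective. -/
theorem result (R : Type u) [CommRing R] (K : Dual.D R) :
    DRing.IsPerfect R K ↔
      ∀ (I : Type u) (E : I → Dual.D R) [HasCoproduct fun i : ULift.{u + 1} I => E i.down],
        Function.Bijective (CohDer.homSumToHomCoprod K (fun i : ULift.{u + 1} I => E i.down)) := by
  constructor
  · rintro ⟨E, a, b, h1, h2, ⟨e⟩⟩ I X _
    have huc : Groth.Agent.Lib.Helper89.PerfCompact.UC.{u} K :=
      Groth.Agent.Lib.Helper89.PerfCompact.UC.of_iso e
        (Groth.Agent.Lib.Helper89.PerfCompact.uc_of_perfect E a b h1 h2)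
    exact Groth.Agent.Lib.Helper89.PerfCompact.bijective_of_finSum K _
      (fun m => huc I (fun i => X i.down) m)
  · intro h
    have huc : Groth.Agent.Lib.Helper89.PerfCompact.UC.{u} K := by
      intro I X _ m
      haveI : HasCoproduct (fun i : ULift.{u + 1} I => (fun j => X ⟨j⟩) i.down) :=
        (inferInstance : HasCoproduct X)
      exact Groth.Agent.Lib.Helper89.PerfCompact.finSum_of_bijective K _
        (h I (fun j => X ⟨j⟩)) m
    obtain ⟨L, a, b, h1, h2, i, p, hip⟩ :=
      Groth.Agent.Lib.Helper89.PerfCompact.exists_retract_of_uc K huc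
    have hX : DRing.IsPerfect R (DRing.toD L) := ⟨L, a, b, h1, h2, ⟨Iso.refl _⟩⟩
    have hpcX : ∀ m : ℤ, DRing.IsPseudoCoherent R m (DRing.toD L) := fun m =>
      Groth.Agent.S2066.isPseudoCoherent_of_projective _ L b (fun i hi => h1 i (Or.inr hi)) h2
        (Iso.refl _) m
    obtain ⟨Z, g, k, hT⟩ := CategoryTheory.Pretriangulated.distinguished_cocone_triangle i
    have hmono : Mono (CategoryTheory.Pretriangulated.Triangle.mk i g k).mor₁ :=
      (SplitMono.mk p hip).mono
    have hz : (CategoryTheory.Pretriangulated.Triangle.mk i g k).mor₃ = 0 :=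
      (CategoryTheory.Pretriangulated.Triangle.mor₃_eq_zero_iff_mono₁ _ hT).2 hmono
    have hpc : ∀ m : ℤ, DRing.IsPseudoCoherent R m K := fun m =>
      (Groth.Agent.Lib.Helper15.PseudoCoh.of_split m _ hT hz (hpcX m)).1
    exact Groth.Agent.Lib.Helper84.PerfSummand.isPerfect_of_retract K _ i p hip hX hpc

end Groth.Agent.S6978
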