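import Groth.Statements.S6979
import Groth.Agent.S6971
import Groth.Agent.S6952
import Groth.Agent.S5611
import Groth.Agent.S2066

set_option autoImplicit false
universe u
open CategoryTheory CategoryTheory.Limits
attribute [local instance] HasDerivedCategory.standard
open DRing

namespace Groth.Agent.S6979

/-- Let R be a commutative ring and I a nilpotent ideal of R such that the derived base change D(R) →
D(R/I) exists, and let K be an object of D(R). If K ⊗^L_R R/I is a perfect object of D(R/I), then K
is a perfect object of D(R). -/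
theorem result (R : Type u) [CommRing R] (I : Ideal R)
    (hI : IsNilpotent I) [DRing.HasLBaseChange (Ideal.Quotient.mk I)] (K : Dual.D R)
    (hK : DRing.IsPerfect (R ⧸ I) ((DRing.LBaseChange (Ideal.Quotient.mk I)).obj K)) :
    DRing.IsPerfect R K := by
  obtain ⟨E, a, b, hE1, hE2, ⟨e⟩⟩ := hK
  have hsurj : Function.Surjective (Ideal.Quotient.mk I) := Ideal.Quotient.mk_surjective
  have hnil : IsNilpotent (RingHom.ker (Ideal.Quotient.mk I)) := by
    rw [Ideal.mk_ker]
    exact hI
  -- widen the range so that `a ≤ b'`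
  have hE1' : DRing.VanishesOutside E a (max a b) := fun i hi =>
    hE1 i (hi.imp id fun h => lt_of_le_of_lt (le_max_right a b) h)
  -- pseudo-coherence
  have hpc' : DRing.IsPseudoCoherent' (R ⧸ I)
      ((DRing.LBaseChange (Ideal.Quotient.mk I)).obj K) := by
    refine (Groth.Agent.S2066.result _).1.1 ((Groth.Agent.S2066.result _).2.2 ?_)
    exact ⟨E, b, fun i hi => hE1 i (Or.inr hi), hE2, ⟨e⟩⟩
  have hpcK : DRing.IsPseudoCoherent' R K :=
    (Groth.Agent.S6971.result (Ideal.Quotient.mk I) hsurj hnil K).1 hpc'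
  have hpcK' : ∀ m : ℤ, DRing.IsPseudoCoherent R m K := (Groth.Agent.S2066.result K).1.2 hpcK
  -- tor amplitude
  have htor : DRing.HasTorAmplitudeIn (R ⧸ I) a (max a b)
      ((DRing.LBaseChange (Ideal.Quotient.mk I)).obj K) :=
    ⟨E, hE1', fun i => by
      haveI := (hE2 i).1
      haveI := (hE2 i).2
      infer_instance, ⟨e⟩⟩
  have htorK : DRing.HasTorAmplitudeIn R a (max a b) K :=
    (Groth.Agent.S6952.result (Ideal.Quotient.mk I) hsurj hnil K a (max a b)).1 htor
  obtain ⟨E', h1, h2, h3⟩ := (Groth.Agent.S5611.result K a (max a b) (le_max_left a b)).1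
    ⟨hpcK' (a - 1), htorK⟩
  exact ⟨E', a, max a b, h1, h2, h3⟩

end Groth.Agent.S6979
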