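import Groth.Statements.S6980
import Groth.Agent.Lib.Helper15.TwoIdeal
import Groth.Agent.S5611
import Groth.Agent.S2066

set_option autoImplicit false
universe u
open CategoryTheory CategoryTheory.Limits
attribute [local instance] HasDerivedCategory.standard
open DRing

namespace Groth.Agent.S6980

/-- Let R be a commutative ring, I and J ideals of R such that the derived base changes D(R) → D(R/I),
D(R/J), D(R/IJ) exist, and K an object of D(R). If K ⊗^L_R R/I is perfect in D(R/I) and K ⊗^L_R R/J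
is perfect in D(R/J), then K ⊗^L_R R/IJ is perfect in D(R/IJ). -/
theorem result (R : Type u) [CommRing R] (I J : Ideal R)
    [DRing.HasLBaseChange (Ideal.Quotient.mk I)] [DRing.HasLBaseChange (Ideal.Quotient.mk J)]
    [DRing.HasLBaseChange (Ideal.Quotient.mk (I * J))] (K : Dual.D R)
    (hI : DRing.IsPerfect (R ⧸ I) ((DRing.LBaseChange (Ideal.Quotient.mk I)).obj K))
    (hJ : DRing.IsPerfect (R ⧸ J) ((DRing.LBaseChange (Ideal.Quotient.mk J)).obj K)) :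
    DRing.IsPerfect (R ⧸ (I * J)) ((DRing.LBaseChange (Ideal.Quotient.mk (I * J))).obj K) := by
  classical
  have hI' : I * J ≤ I := Ideal.mul_le_left
  have hJ' : I * J ≤ J := Ideal.mul_le_right
  let φ₁ : R ⧸ (I * J) →+* R ⧸ I := Ideal.Quotient.factor hI'
  let φ₂ : R ⧸ (I * J) →+* R ⧸ J := Ideal.Quotient.factor hJ'
  have hφ₁ : Function.Surjective φ₁ := Ideal.Quotient.factor_surjective hI'
  have hφ₂ : Function.Surjective φ₂ := Ideal.Quotient.factor_surjective hJ'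
  have hker : RingHom.ker φ₁ * RingHom.ker φ₂ = ⊥ := by
    rw [Ideal.Quotient.factor_ker, Ideal.Quotient.factor_ker, ← Ideal.map_mul,
      Ideal.map_quotient_self]
  haveI : DRing.HasLBaseChange φ₁ := Groth.Agent.Lib.Helper15.LDerived.hasLBaseChange φ₁
  haveI : DRing.HasLBaseChange φ₂ := Groth.Agent.Lib.Helper15.LDerived.hasLBaseChange φ₂
  haveI : DRing.HasLBaseChange (φ₁.comp (Ideal.Quotient.mk (I * J))) :=
    Groth.Agent.Lib.Helper15.LDerived.hasLBaseChange _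
  haveI : DRing.HasLBaseChange (φ₂.comp (Ideal.Quotient.mk (I * J))) :=
    Groth.Agent.Lib.Helper15.LDerived.hasLBaseChange _
  set K' := (DRing.LBaseChange (Ideal.Quotient.mk (I * J))).obj K with hK'
  have c₁ : (DRing.LBaseChange φ₁).obj K' ≅ (DRing.LBaseChange (Ideal.Quotient.mk I)).obj K :=
    (Groth.Agent.Lib.Helper15.LBCFlat.lbcComp (Ideal.Quotient.mk (I * J)) φ₁).app K ≪≫
      (Groth.Agent.Lib.Helper15.LBCFlat.lbcOfEq (Ideal.Quotient.factor_comp_mk hI')).app K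
  have c₂ : (DRing.LBaseChange φ₂).obj K' ≅ (DRing.LBaseChange (Ideal.Quotient.mk J)).obj K :=
    (Groth.Agent.Lib.Helper15.LBCFlat.lbcComp (Ideal.Quotient.mk (I * J)) φ₂).app K ≪≫
      (Groth.Agent.Lib.Helper15.LBCFlat.lbcOfEq (Ideal.Quotient.factor_comp_mk hJ')).app K
  obtain ⟨E₁, a₁, b₁, hE₁, hfp₁, ⟨e₁⟩⟩ := hI
  obtain ⟨E₂, a₂, b₂, hE₂, hfp₂, ⟨e₂⟩⟩ := hJ
  -- a common range
  obtain ⟨a, b, hab, ha₁, ha₂, hb₁, hb₂⟩ : ∃ a b : ℤ, a ≤ b ∧ a ≤ a₁ ∧ a ≤ a₂ ∧ b₁ ≤ b ∧ b₂ ≤ b :=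
    ⟨min a₁ a₂, max (max b₁ b₂) (min a₁ a₂), le_max_right _ _, min_le_left _ _, min_le_right _ _,
      le_trans (le_max_left _ _) (le_max_left _ _), le_trans (le_max_right _ _) (le_max_left _ _)⟩
  have hE₁' : DRing.VanishesOutside E₁ a b := fun i hi =>
    hE₁ i (hi.imp (fun h => lt_of_lt_of_le h ha₁) (fun h => lt_of_le_of_lt hb₁ h))
  have hE₂' : DRing.VanishesOutside E₂ a b := fun i hi =>
    hE₂ i (hi.imp (fun h => lt_of_lt_of_le h ha₂) (fun h => lt_of_le_of_lt hb₂ h))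
  have hfl₁ : DRing.TermwiseFlat E₁ := fun i => by
    haveI := (hfp₁ i).1
    haveI := (hfp₁ i).2
    infer_instance
  have hfl₂ : DRing.TermwiseFlat E₂ := fun i => by
    haveI := (hfp₂ i).1
    haveI := (hfp₂ i).2
    infer_instance
  -- boundedness
  haveI : K'.IsLE b := Groth.Agent.Lib.Helper15.TwoIdeal.isLE_two φ₁ φ₂ hφ₁ hφ₂ hker K' b
    E₁ (fun i hi => hE₁' i (Or.inr hi)) hfl₁ (e₁ ≪≫ c₁.symm)
    E₂ (fun i hi => hE₂' i (Or.inr hi)) hfl₂ (e₂ ≪≫ c₂.symm)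
  -- pseudo-coherence
  have hpc₁ : Groth.Agent.Lib.Helper15.PseudoCoh.PCAll (R ⧸ I) ((DRing.LBaseChange φ₁).obj K') :=
    (Groth.Agent.S2066.result _).2.2
      ⟨E₁, b, fun i hi => hE₁' i (Or.inr hi), hfp₁, ⟨e₁ ≪≫ c₁.symm⟩⟩
  have hpc₂ : Groth.Agent.Lib.Helper15.PseudoCoh.PCAll (R ⧸ J) ((DRing.LBaseChange φ₂).obj K') :=
    (Groth.Agent.S2066.result _).2.2
      ⟨E₂, b, fun i hi => hE₂' i (Or.inr hi), hfp₂, ⟨e₂ ≪≫ c₂.symm⟩⟩
  have hpc : Groth.Agent.Lib.Helper15.PseudoCoh.PCAll (R ⧸ (I * J)) K' :=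
    Groth.Agent.Lib.Helper15.TwoIdeal.pcAll_two φ₁ φ₂ hφ₁ hφ₂ hker K' b hpc₁ hpc₂
  -- tor amplitude
  have htor : DRing.HasTorAmplitudeIn (R ⧸ (I * J)) a b K' :=
    Groth.Agent.Lib.Helper15.TwoIdeal.torAmp_two φ₁ φ₂ hφ₁ hφ₂ hker K' a b
      ⟨E₁, hE₁', hfl₁, ⟨e₁ ≪≫ c₁.symm⟩⟩ ⟨E₂, hE₂', hfl₂, ⟨e₂ ≪≫ c₂.symm⟩⟩
  obtain ⟨E', h1, h2, h3⟩ := (Groth.Agent.S5611.result K' a b hab).1 ⟨hpc (a - 1), htor⟩
  exact ⟨E', a, b, h1, h2, h3⟩

end Groth.Agent.S6980
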