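import Groth.Statements.S6982
import Groth.Agent.Lib.Helper15.LBCKoszul

set_option autoImplicit false
universe u
open CategoryTheory CategoryTheory.Limits
attribute [local instance] HasDerivedCategory.standard
open DRing

namespace Groth.Agent.S6982

open Groth.Agent.Lib.Helper15.PseudoCohRes Groth.Agent.Lib.Helper15.LBCKoszul
  CategoryTheory.Pretriangulated DerivedCategory in
/-- an element of the kernel acts as zero on restricted objects -/
lemma smul_id_restrictD_eq_zero {A B : Type u} [CommRing A] [CommRing B] (φ : A →+* B) (f : A)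
    (hf : φ f = 0) (K : Dual.D B) : f • 𝟙 ((DRing.restrictD φ).obj K) = 0 := by
  let K₀ : DRing.Cx B := Q.objPreimage K
  let eK : DRing.toD K₀ ≅ K := Q.objObjPreimageIso K
  let e' : (DRing.restrictD φ).obj K ≅ DRing.toD ((DRing.restrictCx φ).obj K₀) :=
    (DRing.restrictD φ).mapIso eK.symm ≪≫ restrictDQIso φ K₀
  have h0 : f • 𝟙 ((DRing.restrictCx φ).obj K₀) = 0 := by
    apply HomologicalComplex.hom_ext
    intro i
    rw [HomologicalComplex.smul_f_apply, HomologicalComplex.id_f, HomologicalComplex.zero_f]
    ext x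
    change φ f • (show K₀.X i from x) = 0
    rw [hf, zero_smul]
  have h1 : f • 𝟙 (DRing.toD ((DRing.restrictCx φ).obj K₀)) = 0 := by
    have := congrArg (fun g => Q.map g) h0
    simpa [Functor.map_smul] using this
  have h2 : f • 𝟙 ((DRing.restrictD φ).obj K) =
      e'.hom ≫ (f • 𝟙 (DRing.toD ((DRing.restrictCx φ).obj K₀))) ≫ e'.inv := by
    simp
  rw [h2, h1, zero_comp, comp_zero]

/-- Let R be a commutative ring, K an object of D(R) and φ : R[x] → R the R-algebra homomorphism sending
x to 0; assume the derived base change D(R[x]) → D(R) along φ exists. Then the derived base change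
along φ of K (regarded as an object of D(R[x]) via φ) is isomorphic in D(R) to K ⊕ K[1]. -/
theorem result (R : Type u) [CommRing R]
    [DRing.HasLBaseChange (Polynomial.evalRingHom (0 : R))] (K : Dual.D R)
    [HasBinaryBiproduct K ((shiftFunctor (Dual.D R) (1 : ℤ)).obj K)] :
    Nonempty ((DRing.LBaseChange (Polynomial.evalRingHom (0 : R))).obj
        ((DRing.restrictD (Polynomial.evalRingHom (0 : R))).obj K) ≅
      K ⊞ (shiftFunctor (Dual.D R) (1 : ℤ)).obj K) := by
  have hφ : Function.Surjective (Polynomial.evalRingHom (0 : R)) := fun r =>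
    ⟨Polynomial.C r, by simp⟩
  have hX : (Polynomial.X : Polynomial R) ∈ nonZeroDivisors (Polynomial R) :=
    Polynomial.X_mem_nonzeroDivisors
  have hker : RingHom.ker (Polynomial.evalRingHom (0 : R)) = Ideal.span {Polynomial.X} := by
    rw [Polynomial.ker_evalRingHom]
    simp
  obtain ⟨g, δ, hT⟩ := Groth.Agent.Lib.Helper15.LBCKoszul.koszul_triangle
    (Polynomial.evalRingHom (0 : R)) hφ Polynomial.X hX hker
    ((DRing.restrictD (Polynomial.evalRingHom (0 : R))).obj K)
  have h0 : (Polynomial.X : Polynomial R) • 𝟙 ((DRing.restrictD (Polynomial.evalRingHom (0 : R))).obj K)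
      = 0 := smul_id_restrictD_eq_zero _ _ (by simp) K
  rw [h0] at hT
  -- restrict along `C : R → R[X]`
  have hT' := (DRing.restrictD (Polynomial.C : R →+* Polynomial R)).map_distinguished _ hT
  have hT'' := CategoryTheory.Pretriangulated.rot_of_distTriang _ hT'
  obtain ⟨e, -, -⟩ := CategoryTheory.Pretriangulated.exists_iso_binaryBiproduct_of_distTriang _ hT''
    (by
      change -(CategoryTheory.shiftFunctor (Dual.D R) (1 : ℤ)).map
        ((DRing.restrictD (Polynomial.C : R →+* Polynomial R)).map 0) = 0
      rw [Functor.map_zero, Functor.map_zero, neg_zero])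
  have hsec : (Polynomial.evalRingHom (0 : R)).comp (Polynomial.C : R →+* Polynomial R) =
      RingHom.id R := by
    ext r
    simp
  let sec := Groth.Agent.Lib.Helper15.PseudoCohRes.restrictDSection
    (Polynomial.C : R →+* Polynomial R) (Polynomial.evalRingHom (0 : R)) hsec
  refine ⟨(sec.app _).symm ≪≫ e ≪≫ biprod.mapIso (sec.app K) ?_⟩
  exact (CategoryTheory.shiftFunctor (Dual.D R) (1 : ℤ)).mapIso (sec.app K)

end Groth.Agent.S6982
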