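import Groth.Statements.S6988
import Mathlib.Tactic
import Groth.Agent.Lib.Helper43.PCStep
import Mathlib.Algebra.Module.FinitePresentation
import Mathlib.Algebra.Homology.SingleHomology
import Mathlib.Algebra.Homology.ShortComplex.ModuleCat
-- import your own Groth.Agent.* helpers here

set_option autoImplicit false
universe u
open CategoryTheory CategoryTheory.Limits
attribute [local instance] HasDerivedCategory.standard
open DRing

namespace Groth.Agent.S6988

/-- the projection of a complex onto its `i`-th opcycles placed in degree `i` -/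
noncomputable def toOpcycles {R : Type u} [CommRing R] (E : DRing.Cx R) (i : ℤ) :
    E ⟶ (HomologicalComplex.single (ModuleCat.{u} R) (ComplexShape.up ℤ) i).obj (E.opcycles i) :=
  HomologicalComplex.mkHomToSingle (E.pOpcycles i) (fun k _ => by simp)

lemma mono_homologyMap_toOpcycles {R : Type u} [CommRing R] (E : DRing.Cx R) (i : ℤ) :
    Mono (HomologicalComplex.homologyMap (toOpcycles E i) i) := by
  have h1 := HomologicalComplex.homologyι_naturality (toOpcycles E i) i
  have h2 : HomologicalComplex.opcyclesMap (toOpcycles E i) i =
      (HomologicalComplex.singleObjOpcyclesSelfIso (ComplexShape.up ℤ) i (E.opcycles i)).hom := by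
    rw [← cancel_epi (E.pOpcycles i), HomologicalComplex.p_opcyclesMap,
      HomologicalComplex.singleObjOpcyclesSelfIso_hom, toOpcycles,
      HomologicalComplex.mkHomToSingle_f, Category.assoc]
  rw [h2] at h1
  have : Mono (HomologicalComplex.homologyMap (toOpcycles E i) i ≫
      HomologicalComplex.homologyι _ i) := by
    rw [h1]
    infer_instance
  exact mono_of_mono _ (HomologicalComplex.homologyι _ i)

lemma finitePresentation_opcycles {R : Type u} [CommRing R] (E : DRing.Cx R) (i : ℤ)
    (hE : DRing.TermwiseFiniteFree E) : Module.FinitePresentation R (E.opcycles i) := by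
  let S := E.sc i
  have e : E.opcycles i ≅ ModuleCat.of R (S.X₂ ⧸ LinearMap.range S.f.hom) :=
    S.moduleCatOpcyclesIso
  haveI : Module.Finite R S.X₂ := (hE i).1
  haveI : Module.Free R S.X₂ := (hE i).2
  haveI : Module.Finite R S.X₁ := (hE _).1
  haveI : Module.FinitePresentation R S.X₂ := Module.finitePresentation_of_projective R _
  have : Module.FinitePresentation R (S.X₂ ⧸ LinearMap.range S.f.hom) := by
    refine Module.finitePresentation_of_surjective (LinearMap.range S.f.hom).mkQ
      (Submodule.mkQ_surjective _) ?_
    rw [Submodule.ker_mkQ, LinearMap.range_eq_map]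
    exact Submodule.FG.map _ Module.Finite.fg_top
  have this' : Module.FinitePresentation R (ModuleCat.of R (S.X₂ ⧸ LinearMap.range S.f.hom)) :=
    this
  exact Module.FinitePresentation.of_equiv e.toLinearEquiv.symm

/-- Let R be a commutative ring, K a pseudo-coherent object of D(R) and i an integer. Then some finitely
presented R-module M admits a morphism K → M[-i] in D(R) that is injective on H^i (here H^i(M[-i]) =
M). -/
theorem result (R : Type u) [CommRing R] (K : Dual.D R)
    (hK : DRing.IsPseudoCoherent' R K) (i : ℤ) :
    ∃ (M : Type u) (_ : AddCommGroup M) (_ : Module R M) (_ : Module.FinitePresentation R M)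
      (f : K ⟶ (shiftFunctor (Dual.D R) (-i)).obj (Dual.inD R M)),
      Mono ((DerivedCategory.homologyFunctor (ModuleCat.{u} R) i).map f) := by
  open DerivedCategory Groth.Agent.Lib.Helper43 in
  obtain ⟨E, b, hb, hE, ⟨e⟩⟩ := hK
  let M : ModuleCat.{u} R := E.opcycles i
  let iso := ((DerivedCategory.singleFunctors (ModuleCat.{u} R)).shiftIso (-i) i 0
    (by simp)).app M
  let f : K ⟶ (shiftFunctor (Dual.D R) (-i)).obj (Dual.inD R M) :=
    e.inv ≫ Q.map (toOpcycles E i) ≫ iso.inv
  refine ⟨M, inferInstance, inferInstance, finitePresentation_opcycles E i hE, f, ?_⟩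
  have h1 : Mono ((homologyFunctor (ModuleCat.{u} R) i).map (Q.map (toOpcycles E i))) :=
    PCStep.mono_homologyFunctor_map_Q _ i (mono_homologyMap_toOpcycles E i)
  change Mono ((homologyFunctor (ModuleCat.{u} R) i).map
    (e.inv ≫ Q.map (toOpcycles E i) ≫ iso.inv))
  rw [Functor.map_comp, Functor.map_comp]
  infer_instance

end Groth.Agent.S6988
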