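import Groth.Statements.S6989
import Groth.Agent.S6942
import Groth.Agent.Lib.Helper84.PCColim
import Groth.Agent.Lib.Helper84.ToSingleH

set_option autoImplicit false
universe u
open CategoryTheory CategoryTheory.Limits
attribute [local instance] HasDerivedCategory.standard
open DRing

namespace Groth.Agent.S6989

/-- Let A be a Noetherian commutative ring, K an object of D(A) whose cohomology vanishes in large
degrees and whose cohomology modules are all finitely generated, m a maximal ideal of A and i an
integer such that m H^i(K) ≠ H^i(K). Then some finitely generated A-module E killed by a power of m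
receives a morphism K → E[-i] in D(A) whose induced map H^i(K) → H^i(E[-i]) is nonzero. -/
theorem result (A : Type u) [CommRing A]
    [IsNoetherianRing A] (K : Dual.D A) (hb : ∃ b : ℤ, ∀ j : ℤ, b < j → Subsingleton (Dual.HD A K j))
    (hfin : ∀ j : ℤ, Module.Finite A (Dual.HD A K j)) (m : Ideal A) [m.IsMaximal] (i : ℤ)
    (hi : m • (⊤ : Submodule A (Dual.HD A K i)) ≠ ⊤) :
    ∃ (E : Type u) (_ : AddCommGroup E) (_ : Module A E) (_ : Module.Finite A E) (n : ℕ)
      (_ : m ^ n • (⊤ : Submodule A E) = ⊥) (f : K ⟶ (shiftFunctor (Dual.D A) (-i)).obj (Dual.inD A E)),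
      (DerivedCategory.homologyFunctor (ModuleCat.{u} A) i).map f ≠ 0 := by
  classical
  -- `K` is `(i-1)`-pseudo-coherent
  have hK : DRing.IsPseudoCoherent A (i - 1) K :=
    ((Groth.Agent.S6942.result A (i - 1) K PUnit).1).2 ⟨hb, fun j _ => hfin j⟩
  obtain ⟨E, a, b, α, h1, h2, h3, h4⟩ := hK
  have hα : Groth.Agent.Lib.Helper15.MQI.IsMQI (i - 1) α := ⟨h3, h4⟩
  haveI : IsIso ((DerivedCategory.homologyFunctor (ModuleCat.{u} A) i).map α) := h3 i (by lia)
  haveI : Module.Finite A (E.X i) := (h2 i).1
  -- the module `N = E^i / im d` and `H^i(E) ↪ N`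
  have hsurj : Function.Surjective (E.pOpcycles i).hom :=
    (ModuleCat.epi_iff_surjective _).1 inferInstance
  haveI : Module.Finite A (E.opcycles i) := Module.Finite.of_surjective _ hsurj
  have hinj : Function.Injective (E.homologyι i).hom :=
    (ModuleCat.mono_iff_injective _).1 inferInstance
  -- transfer the hypothesis to `H^i(E)`
  let e : (E.homology i) ≅ (DerivedCategory.homologyFunctor (ModuleCat.{u} A) i).obj K :=
    ((DerivedCategory.homologyFunctorFactors (ModuleCat.{u} A) i).app E).symm ≪≫
      asIso ((DerivedCategory.homologyFunctor (ModuleCat.{u} A) i).map α)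
  have hi' : m • (⊤ : Submodule A (E.homology i)) ≠ ⊤ := by
    intro h
    apply hi
    have h5 := congrArg (Submodule.map e.toLinearEquiv.toLinearMap) h
    rw [Submodule.map_smul'', Submodule.map_top, LinearMap.range_eq_top.2
      e.toLinearEquiv.surjective] at h5
    exact h5
  obtain ⟨n, hn⟩ := Groth.Agent.Lib.Helper84.ArtinReesSep.exists_not_le_pow_smul
    (E.homologyι i).hom hinj m hi'
  -- the target module
  let Nn : Submodule A (E.opcycles i) := m ^ n • (⊤ : Submodule A (E.opcycles i))
  let E' := (E.opcycles i) ⧸ Nn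
  have hkill : m ^ n • (⊤ : Submodule A E') = ⊥ := by
    rw [eq_bot_iff, Submodule.smul_le]
    intro r hr y _
    obtain ⟨x, rfl⟩ := Nn.mkQ_surjective y
    rw [← map_smul, Submodule.mem_bot, Submodule.mkQ_apply, Submodule.Quotient.mk_eq_zero]
    exact Submodule.smul_mem_smul hr trivial
  let q : E.opcycles i ⟶ ModuleCat.of A E' := ModuleCat.ofHom Nn.mkQ
  let z : E.X i ⟶ ModuleCat.of A E' := E.pOpcycles i ≫ q
  have hz : E.d (i - 1) i ≫ z = 0 := by
    change E.d (i - 1) i ≫ E.pOpcycles i ≫ q = 0
    rw [HomologicalComplex.d_pOpcycles_assoc, zero_comp]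
  have hp' : (i - 1) + 1 = i := by lia
  let ψ : DRing.toD E ⟶ (DerivedCategory.singleFunctor (ModuleCat.{u} A) i).obj (ModuleCat.of A E') :=
    DerivedCategory.Q.map (Groth.Agent.Lib.Helper84.ToSingle.toSingleHom E hp' z hz)
  obtain ⟨f₀, hf₀⟩ := Groth.Agent.Lib.Helper84.PCColim.exists_extension α hα
    (ModuleCat.of A E') i (by lia) ψ
  let σ := ((DerivedCategory.singleFunctors (ModuleCat.{u} A)).shiftIso (-i) i 0 (by lia)).app
    (ModuleCat.of A E')
  refine ⟨E', inferInstance, inferInstance, inferInstance, n, hkill, f₀ ≫ σ.inv, ?_⟩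
  intro h0
  rw [Functor.map_comp] at h0
  have h6 : (DerivedCategory.homologyFunctor (ModuleCat.{u} A) i).map f₀ = 0 := by
    have := (cancel_mono ((DerivedCategory.homologyFunctor (ModuleCat.{u} A) i).map σ.inv)).1
      (h0.trans (zero_comp).symm)
    exact this
  have h7 : (DerivedCategory.homologyFunctor (ModuleCat.{u} A) i).map ψ = 0 := by
    rw [← hf₀, Functor.map_comp, h6, comp_zero]
  have h8 := Groth.Agent.Lib.Helper84.ToSingle.homologyι_comp_eq_zero_of_Q E hp' z hz h7
  have h9 : E.descOpcycles z (i - 1) (by simp) hz = q := by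
    rw [← cancel_epi (E.pOpcycles i), HomologicalComplex.p_descOpcycles]
  rw [h9] at h8
  apply hn
  rintro _ ⟨x, rfl⟩
  have h10 := congrArg (fun g => g.hom x) h8
  simp only [ModuleCat.hom_comp, LinearMap.comp_apply, ModuleCat.hom_zero,
    LinearMap.zero_apply] at h10
  have h11 : Nn.mkQ ((E.homologyι i).hom x) = 0 := h10
  rw [Submodule.mkQ_apply, Submodule.Quotient.mk_eq_zero] at h11
  exact h11

end Groth.Agent.S6989
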