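import Groth.Statements.S6990
import Groth.Agent.Lib.Helper84.DRingBasic
import Groth.Agent.Lib.Helper84.KProj
import Mathlib.Algebra.Category.ModuleCat.Projective

set_option autoImplicit false
universe u
open CategoryTheory CategoryTheory.Limits
attribute [local instance] HasDerivedCategory.standard
open DRing

namespace Groth.Agent.S6990

open CategoryTheory.Pretriangulated in
/-- Let R be a commutative ring, a, b integers, L an object of D(R) isomorphic to a complex of
projective R-modules vanishing outside [a, b], and K an object of D(R). (1) If H^i(K) = 0 for all i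
≥ a, then every morphism L → K in D(R) is zero. (2) If H^i(K) = 0 for all i ≥ a + 1, then for every
distinguished triangle K → M → L → K[1] there is an isomorphism M ≅ K ⊕ L carrying K → M to the
first inclusion and whose composite with the second projection is M → L. -/
theorem result (R : Type u) [CommRing R] (a b : ℤ)
    (L : Dual.D R) (hL : ∃ P : DRing.Cx R, DRing.VanishesOutside P a b ∧ (∀ i : ℤ, Module.Projective R (P.X i)) ∧
      Nonempty (DRing.toD P ≅ L)) (K : Dual.D R) :
    ((∀ i : ℤ, a ≤ i → Subsingleton (Dual.HD R K i)) → Subsingleton (L ⟶ K)) ∧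
      ((∀ i : ℤ, a + 1 ≤ i → Subsingleton (Dual.HD R K i)) → ∀ (T : Triangle (Dual.D R)), T ∈ distinguishedTriangles →
        T.obj₁ = K → T.obj₃ = L → ∀ [HasBinaryBiproduct T.obj₁ T.obj₃],
          ∃ e : T.obj₂ ≅ T.obj₁ ⊞ T.obj₃, T.mor₁ ≫ e.hom = biprod.inl ∧ e.hom ≫ biprod.snd = T.mor₂) := by
  open CategoryTheory.Pretriangulated CategoryTheory.Triangulated DerivedCategory
    Groth.Agent.Lib.Helper84.KProj Groth.Agent.Lib.Helper84.DRingBasic in
  let t : TStructure (Dual.D R) := TStructure.t
  obtain ⟨P, hP1, hP2, ⟨e⟩⟩ := hL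
  have hPproj : ∀ i : ℤ, Projective (P.X i) := fun i =>
    (IsProjective.iff_projective (R := R) (P := P.X i)).1 (hP2 i)
  have key : ∀ (X : Dual.D R) (n : ℤ), n < a → X.IsLE n → ∀ φ : L ⟶ X, φ = 0 := by
    intro X n hn hX φ
    have h0 : e.hom ≫ φ = 0 :=
      from_projective_eq_zero P a b n hn (fun i hi => hP1 i (Or.inl hi))
        (fun i hi => hP1 i (Or.inr hi)) hPproj X _
    exact (cancel_epi e.hom).1 (h0.trans Limits.comp_zero.symm)
  constructor
  · intro hK
    have hKle : K.IsLE (a - 1) := isLE_of_subsingleton K (a - 1) (fun i hi => hK i (by lia))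
    exact ⟨fun x y => by rw [key K (a - 1) (by lia) hKle x, key K (a - 1) (by lia) hKle y]⟩
  · intro hK T hT h1 h3 _
    subst h1 h3
    have hKle : T.obj₁.IsLE a := isLE_of_subsingleton T.obj₁ a (fun i hi => hK i (by lia))
    have hKs : t.IsLE (T.obj₁⟦(1 : ℤ)⟧) (a - 1) := t.isLE_shift T.obj₁ a 1 (a - 1)
    have hz : T.mor₃ = 0 := key _ (a - 1) (by lia) hKs T.mor₃
    obtain ⟨e', he1, he2⟩ := exists_iso_binaryBiproduct_of_distTriang T hT hz
    exact ⟨e', he1, he2.symm⟩

end Groth.Agent.S6990
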