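import Groth.Statements.S6993
import Groth.Agent.Lib.Helper21.RelFP
-- import your own Groth.Agent.* helpers here

set_option autoImplicit false
universe u
open CAlg

namespace Groth.Agent.S6993

open Groth.Agent.Lib.Helper21 MvPolynomial in
/-- Let R → A → B be finite type homomorphisms of commutative rings with A of finite presentation over
R, M a B-module, and α : A[x_1, ..., x_n] → B, β : R[y_1, ..., y_k] → B surjective algebra
homomorphisms over A and R respectively. If M is finitely presented as an A[x_1, ..., x_n]-module
through α (finitely presented relative to A), then M is finitely presented as an R[y_1, ...,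
y_k]-module through β (finitely presented relative to R). -/
theorem result {R A B : Type u} [CommRing R] [CommRing A]
    [CommRing B] [Algebra R A] [Algebra A B] [Algebra R B] [IsScalarTower R A B] [Algebra.FinitePresentation R A]
    [Algebra.FiniteType A B] (M : Type u) [AddCommGroup M] [Module B M] {n k : ℕ}
    (α : MvPolynomial (Fin n) A →ₐ[A] B) (hα : Function.Surjective α)
    (β : MvPolynomial (Fin k) R →ₐ[R] B) (hβ : Function.Surjective β)
    (hM : @Module.FinitePresentation (MvPolynomial (Fin n) A) M _ _ (Module.compHom M α.toRingHom)) :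
    @Module.FinitePresentation (MvPolynomial (Fin k) R) M _ _ (Module.compHom M β.toRingHom) := by
  obtain ⟨l, π, hπ, -⟩ := Algebra.FinitePresentation.out (R := R) (A := A)
  let Ψ : MvPolynomial (Fin n ⊕ Fin l) R →ₐ[R] MvPolynomial (Fin n) A :=
    aeval (Sum.elim X (fun j => C (π (X j))))
  have hΨ : Function.Surjective Ψ := by
    intro p
    induction p using MvPolynomial.induction_on with
    | C a =>
      obtain ⟨p₀, rfl⟩ := hπ a
      refine ⟨rename Sum.inr p₀, ?_⟩
      simp only [Ψ, aeval_rename]
      have : (Sum.elim X (fun j => C (π (X j))) ∘ Sum.inr : Fin l → MvPolynomial (Fin n) A) =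
          fun j => C (π (X j)) := rfl
      rw [this]
      have h2 : (aeval (fun j => (C (π (X j)) : MvPolynomial (Fin n) A)) :
          MvPolynomial (Fin l) R →ₐ[R] MvPolynomial (Fin n) A) =
          (IsScalarTower.toAlgHom R A (MvPolynomial (Fin n) A)).comp π := by
        apply MvPolynomial.algHom_ext
        intro j
        simp [MvPolynomial.algebraMap_eq]
      rw [h2]
      simp [MvPolynomial.algebraMap_eq]
    | add p q hp hq =>
      obtain ⟨p', rfl⟩ := hp
      obtain ⟨q', rfl⟩ := hq
      exact ⟨p' + q', map_add _ _ _⟩
    | mul_X p i hp =>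
      obtain ⟨p', rfl⟩ := hp
      exact ⟨p' * X (Sum.inl i), by simp [Ψ]⟩
  have hk : (RingHom.ker Ψ.toRingHom).FG :=
    Algebra.FinitePresentation.ker_fG_of_surjective Ψ hΨ
  let γ : MvPolynomial (Fin n ⊕ Fin l) R →ₐ[R] B := (α.restrictScalars R).comp Ψ
  have hγ : Function.Surjective γ := hα.comp hΨ
  have h1 : @Module.FinitePresentation (MvPolynomial (Fin n ⊕ Fin l) R) M _ _
      (Module.compHom M γ.toRingHom) :=
    (compHom_comp_iff (M := M) Ψ.toRingHom hΨ hk α.toRingHom).2 hM
  exact (relFP_indep M γ hγ β hβ).1 h1

end Groth.Agent.S6993
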