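import Groth.Statements.S6995
import Mathlib.Tactic
import Groth.Agent.Lib.Helper43.RegGlDim
import Groth.Agent.Lib.Helper43.PCModule
import Groth.Agent.Lib.Helper84.DRingBasic
import Groth.Agent.Lib.Helper84.DerivedT
-- import your own Groth.Agent.* helpers here

set_option autoImplicit false
universe u
open CategoryTheory CategoryTheory.Limits
attribute [local instance] HasDerivedCategory.standard
open DRing

namespace Groth.Agent.S6995

open CategoryTheory.Pretriangulated DerivedCategory
  Groth.Agent.Lib.Helper43 Groth.Agent.Lib.Helper84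

/-- splitting of an object across a cohomological gap, given vanishing of the connecting map -/
theorem split_of_gap {R : Type u} [CommRing R] (K : Dual.D R) (n k b : ℤ) (hnk : n ≤ k + 1) (d : ℕ)
    (hdn : k - d + 2 = n)
    (hgl : ∀ M : ModuleCat.{u} R, HasProjectiveDimensionLT M (d + 1))
    (hKb : ∀ i : ℤ, b < i → IsZero ((homologyFunctor (ModuleCat.{u} R) i).obj K))
    (hgap : ∀ i : ℤ, n ≤ i → i ≤ k → IsZero ((homologyFunctor (ModuleCat.{u} R) i).obj K)) :
    ∃ e : K ≅ ((TStructure.t : Triangulated.TStructure (Dual.D R)).truncLT n).obj K ⊞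
        ((TStructure.t : Triangulated.TStructure (Dual.D R)).truncGE (k + 1)).obj K,
      ((TStructure.t : Triangulated.TStructure (Dual.D R)).truncLTι n).app K ≫ e.hom =
          biprod.inl ∧
        e.hom ≫ biprod.snd =
          ((TStructure.t : Triangulated.TStructure (Dual.D R)).truncGEπ (k + 1)).app K := by
  let t : Triangulated.TStructure (Dual.D R) := TStructure.t
  let C := (t.truncGE n).obj K
  let B := (t.truncGE (k + 1)).obj K
  let A := (t.truncLT n).obj K
  have hC1 : ∀ i : ℤ, i ≤ k → IsZero ((homologyFunctor (ModuleCat.{u} R) i).obj C) := by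
    intro i hi
    by_cases hin : i < n
    · exact isZero_of_isGE C n i hin
    · haveI := DerivedT.isIso_homologyMap_truncGEπ K n i (by lia)
      exact IsZero.of_iso (hgap i (by lia) hi)
        (asIso ((homologyFunctor (ModuleCat.{u} R) i).map ((t.truncGEπ n).app K))).symm
  have hC2 : ∀ i : ℤ, b < i → IsZero ((homologyFunctor (ModuleCat.{u} R) i).obj C) := by
    intro i hi
    by_cases hin : i < n
    · exact isZero_of_isGE C n i hin
    · haveI := DerivedT.isIso_homologyMap_truncGEπ K n i (by lia)
      exact IsZero.of_iso (hKb i hi)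
        (asIso ((homologyFunctor (ModuleCat.{u} R) i).map ((t.truncGEπ n).app K))).symm
  haveI : (A⟦(1 : ℤ)⟧).IsLE (k - d) := by
    haveI : t.IsLE A (n - 1) := inferInstance
    exact t.isLE_shift A (n - 1) 1 (k - d) (by lia)
  have hδ : (t.truncGEδLT n).app K = 0 :=
    RegGlDim.hom_eq_zero C (A⟦(1 : ℤ)⟧) k b d hgl hC2 hC1 _
  let φ : C ⟶ B := (t.natTransTruncGEOfLE n (k + 1) hnk).app K
  have hφ : (t.truncGEπ n).app K ≫ φ = (t.truncGEπ (k + 1)).app K :=
    t.π_natTransTruncGEOfLE_app n (k + 1) hnk K
  haveI : IsIso φ := by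
    rw [DerivedCategory.isIso_iff]
    intro i
    by_cases hik : i ≤ k
    · have h1 := hC1 i hik
      have h2 : IsZero ((homologyFunctor (ModuleCat.{u} R) i).obj B) :=
        isZero_of_isGE B (k + 1) i (by lia)
      exact ⟨0, h1.eq_of_src _ _, h2.eq_of_src _ _⟩
    · have h1 := DerivedT.isIso_homologyMap_truncGEπ K n i (by lia)
      have h2 := DerivedT.isIso_homologyMap_truncGEπ K (k + 1) i (by lia)
      have hfac : (homologyFunctor (ModuleCat.{u} R) i).map ((t.truncGEπ n).app K) ≫
          (homologyFunctor (ModuleCat.{u} R) i).map φ =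
          (homologyFunctor (ModuleCat.{u} R) i).map ((t.truncGEπ (k + 1)).app K) := by
        rw [← Functor.map_comp, hφ]
      exact @IsIso.of_isIso_fac_left _ _ _ _ _ _ _ _ h1 h2 hfac
  let T' : Triangle (Dual.D R) :=
    Triangle.mk ((t.truncLTι n).app K) ((t.truncGEπ (k + 1)).app K) (inv φ ≫ (t.truncGEδLT n).app K)
  have hT' : T' ∈ distTriang _ := by
    refine isomorphic_distinguished _ (t.triangleLTGE_distinguished n K) T' ?_
    refine Triangle.isoMk _ _ (Iso.refl _) (Iso.refl _) (asIso φ).symm ?_ ?_ ?_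
    · change (t.truncLTι n).app K ≫ 𝟙 _ = 𝟙 _ ≫ (t.truncLTι n).app K
      simp
    · change (t.truncGEπ (k + 1)).app K ≫ inv φ = 𝟙 _ ≫ (t.truncGEπ n).app K
      rw [Category.id_comp, ← hφ, Category.assoc, IsIso.hom_inv_id, Category.comp_id]
    · change (inv φ ≫ (t.truncGEδLT n).app K) ≫ (shiftFunctor (Dual.D R) (1 : ℤ)).map (𝟙 _) =
        inv φ ≫ (t.truncGEδLT n).app K
      simp
  obtain ⟨e, he1, he2⟩ := exists_iso_binaryBiproduct_of_distTriang T' hT'
    (by change inv φ ≫ (t.truncGEδLT n).app K = 0; rw [hδ, comp_zero])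
  exact ⟨e, he1, he2.symm⟩

/-- Let R be a Noetherian regular commutative ring of finite Krull dimension d ≥ 1, K a perfect object
of D(R) and k an integer such that H^i(K) = 0 for every i with k - d + 2 ≤ i ≤ k. Then K splits in
D(R) as the direct sum of its canonical truncations: there is an isomorphism K ≅ τ_(≤ k-d+1) K ⊕
τ_(≥ k+1) K under which the truncation map τ_(≤ k-d+1) K → K becomes the first inclusion and K →
τ_(≥ k+1) K the second projection. -/
theorem result (R : Type u) [CommRing R] [IsNoetherianRing R]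
    (hreg : ∀ p : PrimeSpectrum R, IsRegularLocalRing (Localization.AtPrime p.asIdeal)) (d : ℕ) (hd1 : 1 ≤ d)
    (hd : ringKrullDim R = d) (K : Dual.D R) (hK : DRing.IsPerfect R K) (k : ℤ)
    (hgap : ∀ i : ℤ, k - d + 2 ≤ i → i ≤ k → Subsingleton (Dual.HD R K i))
    [HasBinaryBiproduct
      (((DerivedCategory.TStructure.t : Triangulated.TStructure (Dual.D R)).truncLT (k - d + 2)).obj K)
      (((DerivedCategory.TStructure.t : Triangulated.TStructure (Dual.D R)).truncGE (k + 1)).obj K)] :
    ∃ e : K ≅
      ((DerivedCategory.TStructure.t : Triangulated.TStructure (Dual.D R)).truncLT (k - d + 2)).obj K ⊞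
        ((DerivedCategory.TStructure.t : Triangulated.TStructure (Dual.D R)).truncGE (k + 1)).obj K,
      ((DerivedCategory.TStructure.t : Triangulated.TStructure (Dual.D R)).truncLTι (k - d + 2)).app K ≫ e.hom =
          biprod.inl ∧
        e.hom ≫ biprod.snd =
          ((DerivedCategory.TStructure.t : Triangulated.TStructure (Dual.D R)).truncGEπ (k + 1)).app K := by
  have hgl : ∀ M : ModuleCat.{u} R, HasProjectiveDimensionLT M (d + 1) :=
    fun M => Groth.Agent.Lib.Helper43.RegGlDim.glDim_le R hreg d hd M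
  obtain ⟨E, a, b, h1, h2, ⟨e⟩⟩ := hK
  have hKb : ∀ i : ℤ, b < i → IsZero ((homologyFunctor (ModuleCat.{u} R) i).obj K) := fun i hi =>
    IsZero.of_iso (PCModule.isZero_homology_of_vanishesAbove E b (fun j hj => h1 j (Or.inr hj)) i hi)
      ((homologyFunctor (ModuleCat.{u} R) i).mapIso e.symm)
  exact split_of_gap K (k - d + 2) k b (by lia) d rfl hgl hKb
    (fun i hi hik => by
      haveI := hgap i hi hik
      exact ModuleCat.isZero_of_subsingleton _)

end Groth.Agent.S6995
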