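import Groth.Statements.S6996
import Groth.Agent.Lib.Helper25.HomCxQis

set_option autoImplicit false
universe u
open CategoryTheory CategoryTheory.Limits
attribute [local instance] HasDerivedCategory.standard
open DRing

namespace Groth.Agent.S6996

/-- Let R be a commutative ring, P a bounded above cochain complex of projective R-modules such that
RHom_R(P, -) exists, and L a cochain complex of R-modules. Then RHom_R(P, L) is isomorphic in D(R)
to the class of the Hom complex Hom(P, L) (existence of an isomorphism only; the canonical one is
the derived-functor comparison map). -/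
theorem result (R : Type u) [CommRing R] (P : DRing.Cx R) (b : ℤ)
    (hb : DRing.VanishesAbove P b) (hP : ∀ i : ℤ, Module.Projective R (P.X i)) [DRing.HasRHomCx P]
    (L : DRing.Cx R) :
    Nonempty ((DRing.RHomCx P).obj (DRing.toD L) ≅ DRing.toD (DRing.homCx P L)) := by
  have hKP : P.IsKProjective := by
    have : P.IsStrictlyLE b := (CochainComplex.isStrictlyLE_iff P b).2 (fun i hi => hb i hi)
    have : ∀ n, Projective (P.X n) := fun n =>
      ModuleCat.projective_of_categoryTheory_projective (R := R) (P := P.X n)
    exact CochainComplex.isKProjective_of_projective P b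
  have hF : (HomologicalComplex.quasiIso (ModuleCat.{u} R) (ComplexShape.up ℤ)).IsInvertedBy
      (DRing.homCxQ P) := by
    intro L₁ L₂ f hf
    rw [HomologicalComplex.mem_quasiIso_iff] at hf
    haveI := hf
    haveI := Groth.Agent.Lib.Helper25.HomCxQis.quasiIso_homCxMap P f
    change IsIso (DerivedCategory.Q.map (DRing.homCxMap P f))
    infer_instance
  have hiso := Functor.isIso_of_isRightDerivedFunctor_of_inverts (L := DerivedCategory.Q)
    (DRing.RHomCx P) ((DRing.homCxQ P).totalRightDerivedUnit DerivedCategory.Q
      (HomologicalComplex.quasiIso (ModuleCat.{u} R) (ComplexShape.up ℤ))) hF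
  exact ⟨(asIso (((DRing.homCxQ P).totalRightDerivedUnit DerivedCategory.Q
    (HomologicalComplex.quasiIso (ModuleCat.{u} R) (ComplexShape.up ℤ))).app L)).symm⟩

end Groth.Agent.S6996
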