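import Groth.Statements.S6999
import Groth.Agent.Lib.Helper84.PCColim

set_option autoImplicit false
universe u
open CategoryTheory CategoryTheory.Limits
attribute [local instance] HasDerivedCategory.standard
open DRing

namespace Groth.Agent.S6999

open CategoryTheory CategoryTheory.Limits in
/-- the statement with `N[n]` replaced by `N` placed in degree `-n` -/
theorem aux (R : Type u) [CommRing R] (m : ℤ) (K : Dual.D R)
    (hK : DRing.IsPseudoCoherent R m K) {J : Type u} [SmallCategory J] [IsFiltered J]
    (F : J ⥤ ModuleCat.{u} R) (c : Cocone F) (hc : IsColimit c) :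
    (∀ n : ℤ, n < -m → ∀ x : K ⟶ (shiftFunctor (Dual.D R) n).obj
        ((DerivedCategory.singleFunctor (ModuleCat.{u} R) 0).obj c.pt),
      ∃ (j : J) (y : K ⟶ (shiftFunctor (Dual.D R) n).obj
          ((DerivedCategory.singleFunctor (ModuleCat.{u} R) 0).obj (F.obj j))),
        y ≫ (shiftFunctor (Dual.D R) n).map
          ((DerivedCategory.singleFunctor (ModuleCat.{u} R) 0).map (c.ι.app j)) = x) ∧
    (∀ n : ℤ, n ≤ -m → ∀ (j : J) (y : K ⟶ (shiftFunctor (Dual.D R) n).obj
        ((DerivedCategory.singleFunctor (ModuleCat.{u} R) 0).obj (F.obj j))),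
      y ≫ (shiftFunctor (Dual.D R) n).map
          ((DerivedCategory.singleFunctor (ModuleCat.{u} R) 0).map (c.ι.app j)) = 0 →
      ∃ (j' : J) (f : j ⟶ j'), y ≫ (shiftFunctor (Dual.D R) n).map
          ((DerivedCategory.singleFunctor (ModuleCat.{u} R) 0).map (F.map f)) = 0) := by
  have σ : ∀ n : ℤ, DerivedCategory.singleFunctor (ModuleCat.{u} R) 0 ⋙ shiftFunctor (Dual.D R) n ≅
      DerivedCategory.singleFunctor (ModuleCat.{u} R) (-n) := fun n =>
    (DerivedCategory.singleFunctors (ModuleCat.{u} R)).shiftIso n (-n) 0 (by lia)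
  constructor
  · intro n hn x
    obtain ⟨j, y0, hy0⟩ := Groth.Agent.Lib.Helper84.PCColim.surjective_of_isPseudoCoherent F c hc
      m K hK (-n) (by lia) (x ≫ (σ n).hom.app c.pt)
    refine ⟨j, y0 ≫ (σ n).inv.app (F.obj j), ?_⟩
    have nat := (σ n).inv.naturality (c.ι.app j)
    dsimp at nat
    rw [Category.assoc]
    erw [← nat]
    rw [← Category.assoc]
    erw [hy0]
    rw [Category.assoc, Iso.hom_inv_id_app]
    exact Category.comp_id _
  · intro n hn j y hy
    obtain ⟨j', f, hf⟩ := Groth.Agent.Lib.Helper84.PCColim.injective_of_isPseudoCoherent F c hc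
      m K hK (-n) (by lia) j (y ≫ (σ n).hom.app (F.obj j)) (by
        have nat := (σ n).hom.naturality (c.ι.app j)
        dsimp at nat
        rw [Category.assoc]
        erw [← nat]
        rw [← Category.assoc]
        erw [hy]
        exact zero_comp)
    refine ⟨j', f, ?_⟩
    have nat := (σ n).hom.naturality (F.map f)
    dsimp at nat
    rw [Category.assoc] at hf
    erw [← nat] at hf
    rw [← Category.assoc] at hf
    exact (cancel_mono ((σ n).hom.app (F.obj j'))).1 (hf.trans zero_comp.symm)

/-- Let R be a commutative ring, m an integer, K an m-pseudo-coherent object of D(R), and (M_j) a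
diagram of R-modules over a small filtered category with colimit cocone M. Then the canonical map
colim_j Hom(K, M_j[n]) → Hom(K, M[n]) in D(R) is bijective for n < -m and injective for n = -m.
Unfolded: for n < -m every morphism K → M[n] factors through M_j[n] → M[n] for some j; and for n ≤
-m, a morphism K → M_j[n] whose composite with M_j[n] → M[n] is zero already has zero composite with
M_j[n] → M_(j')[n] for some j → j'. -/
theorem result (R : Type u) [CommRing R] (m : ℤ) (K : Dual.D R)
    (hK : DRing.IsPseudoCoherent R m K) {J : Type u} [SmallCategory J] [IsFiltered J]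
    (F : J ⥤ ModuleCat.{u} R) (c : Cocone F) (hc : IsColimit c) :
    (∀ n : ℤ, n < -m → ∀ x : K ⟶ (shiftFunctor (Dual.D R) n).obj (Dual.inD R c.pt),
      ∃ (j : J) (y : K ⟶ (shiftFunctor (Dual.D R) n).obj (Dual.inD R (F.obj j))),
        y ≫ (shiftFunctor (Dual.D R) n).map
          ((DerivedCategory.singleFunctor (ModuleCat.{u} R) 0).map (c.ι.app j)) = x) ∧
    (∀ n : ℤ, n ≤ -m → ∀ (j : J) (y : K ⟶ (shiftFunctor (Dual.D R) n).obj (Dual.inD R (F.obj j))),
      y ≫ (shiftFunctor (Dual.D R) n).map
          ((DerivedCategory.singleFunctor (ModuleCat.{u} R) 0).map (c.ι.app j)) = 0 →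
      ∃ (j' : J) (f : j ⟶ j'), y ≫ (shiftFunctor (Dual.D R) n).map
          ((DerivedCategory.singleFunctor (ModuleCat.{u} R) 0).map (F.map f)) = 0) := by
  exact aux R m K hK F c hc

end Groth.Agent.S6999
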