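import Groth.Statements.S7003
import Groth.Agent.Lib.Helper84.DRingBasic
import Groth.Agent.Lib.Helper84.ProjAmp
import Mathlib.Algebra.Category.ModuleCat.Projective
import Mathlib.Algebra.Category.ModuleCat.EnoughInjectives
import Mathlib.Algebra.Category.ModuleCat.EpiMono

set_option autoImplicit false
universe u
open CategoryTheory CategoryTheory.Limits
attribute [local instance] HasDerivedCategory.standard
open DRing

namespace Groth.Agent.S7003

/-- Let R be a commutative ring, a an integer and K an object of D(R) whose cohomology vanishes in large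
degrees. Assume that for every injective R-linear map M → M' the induced map Hom(K, M[-a]) → Hom(K,
M'[-a]) in D(R) is injective. Then K ≅ τ_(≤ a) K ⊕ τ_(≥ a+1) K by an isomorphism carrying τ_(≤ a) K
→ K to the first inclusion and K → τ_(≥ a+1) K to the second projection, and τ_(≥ a+1) K is
isomorphic in D(R) to a complex of projective modules vanishing outside [a+1, b] for some integer b.
(The published statement also asserts that the decomposition is unique; that part is not restated.) -/
theorem result (R : Type u) [CommRing R] (a : ℤ) (K : Dual.D R)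
    (hKb : ∃ b : ℤ, ∀ i : ℤ, b < i → Subsingleton (Dual.HD R K i))
    (h : ∀ (M M' : Type u) [AddCommGroup M] [Module R M] [AddCommGroup M'] [Module R M'] (g : M →ₗ[R] M'),
      Function.Injective g → Function.Injective (fun x : K ⟶ (shiftFunctor (Dual.D R) (-a)).obj (Dual.inD R M) =>
        x ≫ (shiftFunctor (Dual.D R) (-a)).map
          ((DerivedCategory.singleFunctor (ModuleCat.{u} R) 0).map (ModuleCat.ofHom g))))
    [HasBinaryBiproduct (((DerivedCategory.TStructure.t : Triangulated.TStructure (Dual.D R)).truncLT (a + 1)).obj K) (((DerivedCategory.TStructure.t : Triangulated.TStructure (Dual.D R)).truncGE (a + 1)).obj K)] :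
    (∃ e : K ≅ ((DerivedCategory.TStructure.t : Triangulated.TStructure (Dual.D R)).truncLT (a + 1)).obj K ⊞ ((DerivedCategory.TStructure.t : Triangulated.TStructure (Dual.D R)).truncGE (a + 1)).obj K,
      ((DerivedCategory.TStructure.t : Triangulated.TStructure (Dual.D R)).truncLTι (a + 1)).app K ≫ e.hom = biprod.inl ∧
        e.hom ≫ biprod.snd = ((DerivedCategory.TStructure.t : Triangulated.TStructure (Dual.D R)).truncGEπ (a + 1)).app K) ∧
      ∃ (P : DRing.Cx R) (b : ℤ), DRing.VanishesOutside P (a + 1) b ∧ (∀ i : ℤ, Module.Projective R (P.X i)) ∧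
        Nonempty (DRing.toD P ≅ ((DerivedCategory.TStructure.t : Triangulated.TStructure (Dual.D R)).truncGE (a + 1)).obj K) := by
  open CategoryTheory.Pretriangulated CategoryTheory.Triangulated DerivedCategory
    Groth.Agent.Lib.Helper84.ProjAmp Groth.Agent.Lib.Helper84.DRingBasic in
  let t : TStructure (Dual.D R) := TStructure.t
  obtain ⟨b, hb⟩ := hKb
  have hKle : K.IsLE b := isLE_of_subsingleton K b hb
  have hXle : t.IsLE ((t.truncGE (a + 1)).obj K) b := inferInstance
  have hXge : t.IsGE ((t.truncGE (a + 1)).obj K) (a + 1) := inferInstance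
  have hXge' : t.IsGE ((t.truncGE (a + 1)).obj K) a := t.isGE_of_ge _ a (a + 1)
  -- vanishing at level `a`
  have hlevel : ∀ (M : ModuleCat.{u} R)
      (f : (t.truncGE (a + 1)).obj K ⟶ (singleFunctor (ModuleCat.{u} R) a).obj M), f = 0 := by
    intro M f
    apply hom_truncGE_single_eq_zero_of_precomp K (a + 1) a le_rfl M f
    let I := Injective.under M
    let ι : M ⟶ I := Injective.ι M
    have hι : Function.Injective ι.hom := (ModuleCat.mono_iff_injective ι).1 inferInstance
    let eM := ((singleFunctors (ModuleCat.{u} R)).shiftIso (-a) a 0 (by lia))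
    have hinj := h M I ι.hom hι
    have hx : ((t.truncGEπ (a + 1)).app K ≫ f) ≫ eM.inv.app M = 0 := by
      apply hinj
      dsimp only
      rw [Limits.zero_comp, ModuleCat.ofHom_hom]
      have hnat := eM.inv.naturality ι
      dsimp at hnat
      have h1 : f ≫ (singleFunctor (ModuleCat.{u} R) a).map ι = 0 :=
        to_single_injective_eq_zero a (a + 1) (by lia) _ _
      rw [Category.assoc, Category.assoc]
      erw [← hnat]
      rw [reassoc_of% h1, Limits.zero_comp, Limits.comp_zero]
    have := (cancel_mono (eM.inv.app M)).1 (hx.trans Limits.zero_comp.symm)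
    exact this
  have hvan : ExtVanish ((t.truncGE (a + 1)).obj K) (a + 1) :=
    extVanish_of_hom_single_eq_zero _ a hlevel
  have hamp : HasProjAmp ((t.truncGE (a + 1)).obj K) (a + 1) b :=
    hasProjAmp_of_extVanish _ (a + 1) b (a + 1) hvan
  constructor
  · have hz := truncation_mor₃_eq_zero K (a + 1) (a + 1) b (by lia) hamp
    obtain ⟨e, he1, he2⟩ := exists_iso_binaryBiproduct_of_distTriang _
      (t.triangleLTGE_distinguished (a + 1) K) hz
    exact ⟨e, he1, he2.symm⟩
  · obtain ⟨P, h1, h2, ⟨e⟩⟩ := hamp
    exact ⟨P, b, h1, fun i => (IsProjective.iff_projective (R := R) (P := P.X i)).2 (h2 i), ⟨e⟩⟩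

end Groth.Agent.S7003
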