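import Groth.Statements.S7004
import Groth.Agent.Lib.Helper84.DRingBasic
import Groth.Agent.Lib.Helper84.ProjAmp
import Mathlib.Algebra.Category.ModuleCat.Projective
import Mathlib.Algebra.Category.ModuleCat.EnoughInjectives
import Mathlib.Algebra.Category.ModuleCat.EpiMono

set_option autoImplicit false
universe u
open CategoryTheory CategoryTheory.Limits
attribute [local instance] HasDerivedCategory.standard
open DRing

namespace Groth.Agent.S7004

/-- Let R be a commutative ring, a an integer and K an object of D(R) whose cohomology vanishes in large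
degrees, such that Hom(K, M[-a]) = 0 in D(R) for every R-module M. Then K ≅ τ_(≤ a-1) K ⊕ τ_(≥ a+1)
K by an isomorphism carrying τ_(≤ a-1) K → K to the first inclusion and K → τ_(≥ a+1) K to the
second projection, and τ_(≥ a+1) K is isomorphic in D(R) to a complex of projective modules
vanishing outside [a+1, b] for some integer b. (The published statement also asserts that the
decomposition is unique; that part is not restated.) -/
theorem result (R : Type u) [CommRing R] (a : ℤ) (K : Dual.D R)
    (hKb : ∃ b : ℤ, ∀ i : ℤ, b < i → Subsingleton (Dual.HD R K i))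
    (h : ∀ (M : Type u) [AddCommGroup M] [Module R M],
      Subsingleton (K ⟶ (shiftFunctor (Dual.D R) (-a)).obj (Dual.inD R M)))
    [HasBinaryBiproduct (((DerivedCategory.TStructure.t : Triangulated.TStructure (Dual.D R)).truncLT a).obj K) (((DerivedCategory.TStructure.t : Triangulated.TStructure (Dual.D R)).truncGE (a + 1)).obj K)] :
    (∃ e : K ≅ ((DerivedCategory.TStructure.t : Triangulated.TStructure (Dual.D R)).truncLT a).obj K ⊞ ((DerivedCategory.TStructure.t : Triangulated.TStructure (Dual.D R)).truncGE (a + 1)).obj K,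
      ((DerivedCategory.TStructure.t : Triangulated.TStructure (Dual.D R)).truncLTι a).app K ≫ e.hom = biprod.inl ∧
        e.hom ≫ biprod.snd = ((DerivedCategory.TStructure.t : Triangulated.TStructure (Dual.D R)).truncGEπ (a + 1)).app K) ∧
      ∃ (P : DRing.Cx R) (b : ℤ), DRing.VanishesOutside P (a + 1) b ∧ (∀ i : ℤ, Module.Projective R (P.X i)) ∧
        Nonempty (DRing.toD P ≅ ((DerivedCategory.TStructure.t : Triangulated.TStructure (Dual.D R)).truncGE (a + 1)).obj K) := by
  open CategoryTheory.Pretriangulated CategoryTheory.Triangulated DerivedCategory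
    Groth.Agent.Lib.Helper84.ProjAmp Groth.Agent.Lib.Helper84.DRingBasic in
  let t : TStructure (Dual.D R) := TStructure.t
  obtain ⟨b, hb⟩ := hKb
  have hKle : K.IsLE b := isLE_of_subsingleton K b hb
  have hXle : t.IsLE ((t.truncGE a).obj K) b := inferInstance
  have hXge : t.IsGE ((t.truncGE a).obj K) a := inferInstance
  -- vanishing at level `a`
  have hlevel : ∀ (M : ModuleCat.{u} R)
      (f : (t.truncGE a).obj K ⟶ (singleFunctor (ModuleCat.{u} R) a).obj M), f = 0 := by
    intro M f
    apply hom_truncGE_single_eq_zero_of_precomp K a a (by lia) M f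
    let eM := ((singleFunctors (ModuleCat.{u} R)).shiftIso (-a) a 0 (by lia))
    have hx : ((t.truncGEπ a).app K ≫ f) ≫ eM.inv.app M = 0 := (h M).elim _ _
    exact (cancel_mono (eM.inv.app M)).1 (hx.trans Limits.zero_comp.symm)
  have hvan : ExtVanish ((t.truncGE a).obj K) (a + 1) :=
    extVanish_of_hom_single_eq_zero _ a hlevel
  have hamp : HasProjAmp ((t.truncGE a).obj K) (a + 1) b :=
    hasProjAmp_of_extVanish _ a b (a + 1) hvan
  -- hence `τ_{≥ a} K` is `≥ a + 1`
  have hXge1 : t.IsGE ((t.truncGE a).obj K) (a + 1) := by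
    obtain ⟨P, h1, h2, ⟨e⟩⟩ := hamp
    have : P.IsStrictlyGE (a + 1) := by
      rw [CochainComplex.isStrictlyGE_iff]
      intro i hi
      exact h1 i (Or.inl hi)
    exact t.isGE_of_iso e (a + 1)
  -- comparison `τ_{≥ a} K ≅ τ_{≥ a+1} K`
  have hiso1 : IsIso ((t.truncGE (a + 1)).map ((t.truncGEπ a).app K)) :=
    t.isIso_truncGE_map_truncGEπ_app (a + 1) a (by lia) K
  let ψ : (t.truncGE a).obj K ≅ (t.truncGE (a + 1)).obj K :=
    asIso ((t.truncGEπ (a + 1)).app ((t.truncGE a).obj K)) ≪≫
      (asIso ((t.truncGE (a + 1)).map ((t.truncGEπ a).app K))).symm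
  have hψ : (t.truncGEπ a).app K ≫ ψ.hom = (t.truncGEπ (a + 1)).app K := by
    have hnat : (t.truncGEπ (a + 1)).app K ≫ (t.truncGE (a + 1)).map ((t.truncGEπ a).app K) =
        (t.truncGEπ a).app K ≫ (t.truncGEπ (a + 1)).app ((t.truncGE a).obj K) :=
      t.truncGEπ_naturality (a + 1) ((t.truncGEπ a).app K)
    dsimp only [ψ, Iso.trans_hom, asIso_hom, Iso.symm_hom, asIso_inv]
    rw [← Category.assoc, ← hnat, Category.assoc, IsIso.hom_inv_id, Category.comp_id]
  have hψ' : (t.truncGEπ (a + 1)).app K ≫ ψ.inv = (t.truncGEπ a).app K := by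
    rw [← hψ, Category.assoc, Iso.hom_inv_id, Category.comp_id]
  have hz : (t.truncGEδLT a).app K = 0 := truncation_mor₃_eq_zero K a (a + 1) b (by lia) hamp
  -- the modified triangle
  let T' : Triangle (Dual.D R) := Triangle.mk ((t.truncLTι a).app K) ((t.truncGEπ (a + 1)).app K)
    (ψ.inv ≫ (t.truncGEδLT a).app K)
  have hT' : T' ∈ distinguishedTriangles := by
    refine isomorphic_distinguished _ (t.triangleLTGE_distinguished a K) _ ?_
    refine Triangle.isoMk T' ((t.triangleLTGE a).obj K) (Iso.refl _) (Iso.refl _) ψ.symm ?_ ?_ ?_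
    · exact (Category.comp_id _).trans (Category.id_comp _).symm
    · exact hψ'.trans (Category.id_comp _).symm
    · change (ψ.inv ≫ (t.truncGEδLT a).app K) ≫ (shiftFunctor (Dual.D R) (1 : ℤ)).map (𝟙 _) =
        ψ.inv ≫ (t.truncGEδLT a).app K
      rw [CategoryTheory.Functor.map_id]; exact Category.comp_id _
  have hz' : T'.mor₃ = 0 := by
    change ψ.inv ≫ (t.truncGEδLT a).app K = 0
    rw [hz, Limits.comp_zero]
  constructor
  · obtain ⟨e, he1, he2⟩ := exists_iso_binaryBiproduct_of_distTriang T' hT' hz'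
    exact ⟨e, he1, he2.symm⟩
  · obtain ⟨P, h1, h2, ⟨e⟩⟩ := hamp
    exact ⟨P, b, h1, fun i => (IsProjective.iff_projective (R := R) (P := P.X i)).2 (h2 i),
      ⟨e ≪≫ ψ⟩⟩

end Groth.Agent.S7004
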