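import Groth.Statements.S7007
import Groth.Agent.S7005
import Groth.Agent.Lib.Helper21.RelFP5
import Mathlib.Tactic

set_option autoImplicit false
universe u
open CAlg

namespace Groth.Agent.S7007

open Groth.Agent.Lib.Helper21

/-- Let R → A be a finite type homomorphism of commutative rings with a surjective R-algebra
homomorphism α : R[x_1, ..., x_n] → A, M an A-module, f_1, ..., f_r elements of A generating the
unit ideal, and for each i a surjective R-algebra homomorphism γ_i : R[z_1, ..., z_(k_i)] → A_(f_i).
Then M is finitely presented as an R[x_1, ..., x_n]-module through α if and only if, for every i,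
the localization M_(f_i) is finitely presented as an R[z_1, ..., z_(k_i)]-module through γ_i. -/
theorem result {R A : Type u} [CommRing R] [CommRing A] [Algebra R A]
    {n : ℕ} (α : MvPolynomial (Fin n) R →ₐ[R] A) (hα : Function.Surjective α) (M : Type u) [AddCommGroup M]
    [Module A M] {r : ℕ} (f : Fin r → A) (hf : Ideal.span (Set.range f) = ⊤) (k : Fin r → ℕ)
    (γ : ∀ i, MvPolynomial (Fin (k i)) R →ₐ[R] Localization.Away (f i)) (hγ : ∀ i, Function.Surjective (γ i)) :
    @Module.FinitePresentation (MvPolynomial (Fin n) R) (M) _ _ (Module.compHom (M) α.toRingHom) ↔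
      ∀ i, @Module.FinitePresentation (MvPolynomial (Fin (k i)) R) (LocalizedModule (Submonoid.powers (f i)) M) _ _ (Module.compHom (LocalizedModule (Submonoid.powers (f i)) M) (γ i).toRingHom) := by
  constructor
  · intro hM i
    have hfpA : Algebra.FinitePresentation A (Localization.Away (f i)) :=
      IsLocalization.Away.finitePresentation (f i)
    have h1 := Groth.Agent.S7005.relFP_tensor (A' := Localization.Away (f i)) M α hα hM (γ i) (hγ i)
    exact fp_compHom_of_linearEquiv (γ i).toRingHom
      (LocalizedModule.isBaseChange (Submonoid.powers (f i)) M).equiv h1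
  · intro h
    choose F hF using fun i => hα (f i)
    obtain rfl : f = fun i => α (F i) := funext fun i => (hF i).symm
    have h1 : (1 : A) ∈ Ideal.span (Set.range fun i => α (F i)) := by rw [hf]; trivial
    obtain ⟨c, hc⟩ := (Ideal.mem_span_range_iff_exists_fun).mp h1
    choose C hC using fun i => hα (c i)
    let h0 : MvPolynomial (Fin n) R := 1 - ∑ i, C i * F i
    have hh0 : α h0 = 0 := by
      simp only [h0, map_sub, map_one, map_sum, map_mul, hC]
      rw [hc, sub_self]
    let s : Set (MvPolynomial (Fin n) R) := insert h0 (Set.range F)
    have hs : Ideal.span s = ⊤ := by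
      rw [Ideal.eq_top_iff_one]
      have e : (1 : MvPolynomial (Fin n) R) = h0 + ∑ i, C i * F i := by simp [h0]
      rw [e]
      refine Ideal.add_mem _ (Ideal.subset_span (Set.mem_insert _ _))
        (Ideal.sum_mem _ fun i _ => Ideal.mul_mem_left _ _
          (Ideal.subset_span (Set.mem_insert_of_mem _ ⟨i, rfl⟩)))
    refine fp_compHom_of_localizationSpan α.toRingHom M s hs
      (fun g => (Localization.awayMapₐ α g).toRingHom) ?_ ?_
    · intro g x
      change IsLocalization.Away.map (Localization.Away g) (Localization.Away (α g))
        α.toRingHom g (algebraMap _ _ x) = _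
      rw [IsLocalization.Away.map, IsLocalization.map_eq]
      rfl
    · rintro g (rfl | ⟨i, rfl⟩)
      · have hsub : Subsingleton (LocalizedModule (Submonoid.powers (α.toRingHom h0)) M) :=
          LocalizedModule.subsingleton (by
            change (0 : A) ∈ Submonoid.powers (α h0)
            rw [hh0]
            exact ⟨1, pow_one 0⟩)
        exact @Module.FinitePresentation.of_subsingleton _ _ _ _ (_) hsub
      · exact relFP_away_of_relFP α hα (F i) _ (γ i) (hγ i) (h i)

end Groth.Agent.S7007
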