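import Groth.Statements.S7009
import Groth.Agent.Lib.Helper15.DescendCx
import Groth.Agent.Lib.Helper15.LBCKFlat
import Groth.Agent.S6957

set_option autoImplicit false
universe u
open CategoryTheory CategoryTheory.Limits
attribute [local instance] HasDerivedCategory.standard
open DRing

namespace Groth.Agent.S7009


/-- a finitely generated subring of a filtered colimit of rings factors through a stage -/
theorem exists_factor {J : Type u} [SmallCategory J] [IsFiltered J]
    (F : J ⥤ CommRingCat.{u}) (c : Cocone F) (hc : IsColimit c)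
    (A₀ : Subalgebra ℤ c.pt) (hfg : A₀.FG) :
    ∃ (j : J) (ψ : A₀ →+* F.obj j), (c.ι.app j).hom.comp ψ = algebraMap A₀ c.pt := by
  let R : CommRingCat.{u} := CommRingCat.of (ULift.{u} ℤ)
  let α : (Functor.const J).obj R ⟶ F :=
    { app := fun i => CommRingCat.isInitial.to (F.obj i)
      naturality := fun i j f => CommRingCat.isInitial.hom_ext _ _ }
  let S : CommRingCat.{u} := CommRingCat.of A₀
  let f : R ⟶ S := CommRingCat.isInitial.to S
  have hft : Algebra.FiniteType ℤ A₀ := (Subalgebra.fg_iff_finiteType A₀).mp hfg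
  have hf : f.hom.FinitePresentation := by
    have h1 : (algebraMap ℤ A₀).FinitePresentation := by
      rw [RingHom.FinitePresentation]
      convert Algebra.FinitePresentation.of_finiteType.mp hft
      exact Algebra.algebra_ext _ _ (fun r => rfl)
    have h2 : (ULift.ringEquiv (R := ℤ)).toRingHom.FinitePresentation :=
      RingHom.FinitePresentation.of_surjective _ (ULift.ringEquiv (R := ℤ)).surjective
        (by
          have : RingHom.ker (ULift.ringEquiv (R := ℤ)).toRingHom = ⊥ :=
            (RingHom.injective_iff_ker_eq_bot _).mp (ULift.ringEquiv (R := ℤ)).injective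
          rw [this]; exact Submodule.fg_bot)
    have := h1.comp h2
    convert this using 1
    exact congrArg CommRingCat.Hom.hom (CommRingCat.isInitial.hom_ext f
      (CommRingCat.ofHom ((algebraMap ℤ A₀).comp (ULift.ringEquiv (R := ℤ)).toRingHom)))
  let g : S ⟶ c.pt := CommRingCat.ofHom (algebraMap A₀ c.pt)
  obtain ⟨i, g', -, hg'⟩ := RingHom.EssFiniteType.exists_eq_comp_ι_app_of_isColimit R F α f c hc hf g
    (fun i => CommRingCat.isInitial.hom_ext _ _)
  refine ⟨i, g'.hom, ?_⟩
  have := congrArg CommRingCat.Hom.hom hg'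
  exact this.symm

/-- Let (R_j) be a diagram of commutative rings over a small filtered category with colimit R, such that
the derived base change D(R_j) → D(R) exists for every j, and let K be a perfect object of D(R).
Then there exist an index j and a perfect object K_j of D(R_j) such that K_j ⊗^L R is isomorphic to
K in D(R). -/
theorem result {J : Type u} [SmallCategory J] [IsFiltered J]
    (F : J ⥤ CommRingCat.{u}) (c : Cocone F) (hc : IsColimit c)
    [∀ j : J, DRing.HasLBaseChange (c.ι.app j).hom] (K : Dual.D c.pt) (hK : DRing.IsPerfect c.pt K) :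
    ∃ (j : J) (Kj : Dual.D (F.obj j)), DRing.IsPerfect (F.obj j) Kj ∧
      Nonempty ((DRing.LBaseChange (c.ι.app j).hom).obj Kj ≅ K) := by
  obtain ⟨E, a, b, hE, hfp, ⟨eK⟩⟩ := hK
  obtain ⟨A, hA, E', hE', hfp', ⟨eE⟩⟩ :=
    Groth.Agent.Lib.Helper15.DescendCx.exists_descent E a b hE hfp
  obtain ⟨j, ψ, hψ⟩ := exists_factor F c hc A hA
  refine ⟨j, (DRing.LBaseChange ψ).obj (DRing.toD E'),
    Groth.Agent.S6957.result ψ (DRing.toD E') ⟨E', a, b, hE', hfp', ⟨Iso.refl _⟩⟩, ⟨?_⟩⟩
  have e1 : (DRing.LBaseChange (c.ι.app j).hom).obj ((DRing.LBaseChange ψ).obj (DRing.toD E')) ≅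
      (DRing.LBaseChange (algebraMap A c.pt)).obj (DRing.toD E') :=
    (Groth.Agent.Lib.Helper15.LBCFlat.lbcComp ψ (c.ι.app j).hom ≪≫
      Groth.Agent.Lib.Helper15.LBCFlat.lbcOfEq hψ).app (DRing.toD E')
  have e2 := Groth.Agent.Lib.Helper15.LBCKFlat.lbcIsoOfFlat (algebraMap A c.pt) E' b
    (fun q hq => hE' q (Or.inr hq)) (fun q => by
      haveI := (hfp' q).2
      infer_instance)
  exact e1 ≪≫ e2 ≪≫ DerivedCategory.Q.mapIso eE ≪≫ eK

end Groth.Agent.S7009
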