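import Groth.Statements.S7010
import Groth.Agent.Lib.Helper84.BrutalTrunc
import Groth.Agent.Lib.Helper84.DRingPC
import Mathlib.LinearAlgebra.Pi
import Mathlib.RingTheory.Finiteness.Cardinality

set_option autoImplicit false
universe u
open CategoryTheory CategoryTheory.Limits
attribute [local instance] HasDerivedCategory.standard
open DRing

namespace Groth.Agent.S7010

open CategoryTheory.Pretriangulated DerivedCategory in
/-- The class of objects considered: closed under iso, shifts, extensions, summands, contains `R`. -/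
structure Good (R : Type u) [CommRing R] (P : ObjectProperty (Dual.D R)) : Prop where
  iso : P.IsClosedUnderIsomorphisms
  hR : P (Dual.inD R R)
  hshift : ∀ (K : Dual.D R) (n : ℤ), P K → P ((shiftFunctor (Dual.D R) n).obj K)
  hext : ∀ T : Triangle (Dual.D R), T ∈ distinguishedTriangles → P T.obj₁ → P T.obj₃ → P T.obj₂
  hsum : ∀ (X Y : Dual.D R) [HasBinaryBiproduct X Y], P (X ⊞ Y) → P X

namespace Good

open CategoryTheory.Pretriangulated DerivedCategory

variable {R : Type u} [CommRing R] {P : ObjectProperty (Dual.D R)} (h : Good R P)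

include h

lemma of_iso {X Y : Dual.D R} (e : X ≅ Y) (hX : P X) : P Y :=
  haveI := h.iso
  P.prop_of_iso e hX

lemma zero {Z : Dual.D R} (hZ : IsZero Z) : P Z := by
  have h1 : P (Z ⊞ Dual.inD R R) := h.of_iso (isoZeroBiprod hZ) h.hR
  exact h.hsum _ _ h1

lemma retract {X Y : Dual.D R} (i : X ⟶ Y) (p : Y ⟶ X) (hip : i ≫ p = 𝟙 X) (hY : P Y) : P X := by
  obtain ⟨Z, g, k, hT⟩ := distinguished_cocone_triangle i
  have hmono : Mono (Triangle.mk i g k).mor₁ := (SplitMono.mk p hip).mono
  have hz : (Triangle.mk i g k).mor₃ = 0 := (Triangle.mor₃_eq_zero_iff_mono₁ _ hT).2 hmono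
  obtain ⟨e, -, -⟩ := exists_iso_binaryBiproduct_of_distTriang _ hT hz
  exact h.hsum _ _ (h.of_iso e hY)

lemma biprod {X Y : Dual.D R} (hX : P X) (hY : P Y) : P (X ⊞ Y) :=
  h.hext _ (binaryBiproductTriangle_distinguished X Y) hX hY

lemma single_R (n : ℤ) : P ((singleFunctor (ModuleCat.{u} R) n).obj (ModuleCat.of R R)) := by
  have e := ((singleFunctors (ModuleCat.{u} R)).shiftIso (-n) n 0 (by lia)).app (ModuleCat.of R R)
  exact h.of_iso e (h.hshift _ (-n) h.hR)

lemma single_fin (n : ℤ) (k : ℕ) :
    P ((singleFunctor (ModuleCat.{u} R) n).obj (ModuleCat.of R (Fin k → R))) := by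
  induction k with
  | zero =>
    apply h.zero
    apply Functor.map_isZero
    exact ModuleCat.isZero_of_subsingleton _
  | succ k ih =>
    have e1 : ModuleCat.of R (R × (Fin k → R)) ≅ ModuleCat.of R (Fin (k + 1) → R) :=
      (Fin.consLinearEquiv R (fun _ : Fin (k + 1) => R)).toModuleIso
    have e2 : (ModuleCat.of R R ⊞ ModuleCat.of R (Fin k → R) : ModuleCat.{u} R) ≅
        ModuleCat.of R (R × (Fin k → R)) := ModuleCat.biprodIsoProd _ _
    haveI : PreservesBinaryBiproducts (singleFunctor (ModuleCat.{u} R) n) :=
      preservesBinaryBiproducts_of_preservesBiproducts _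
    have e3 := (singleFunctor (ModuleCat.{u} R) n).mapBiprod (ModuleCat.of R R)
      (ModuleCat.of R (Fin k → R))
    exact h.of_iso (e3.symm ≪≫ (singleFunctor (ModuleCat.{u} R) n).mapIso (e2 ≪≫ e1))
      (h.biprod (h.single_R n) ih)

lemma single_finite_projective (n : ℤ) (M : ModuleCat.{u} R) (h1 : Module.Finite R M)
    (h2 : Module.Projective R M) : P ((singleFunctor (ModuleCat.{u} R) n).obj M) := by
  obtain ⟨k, f, hf⟩ := Module.Finite.exists_fin' R M
  obtain ⟨s, hs⟩ := Module.projective_lifting_property f LinearMap.id hf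
  refine h.retract ((singleFunctor (ModuleCat.{u} R) n).map (ModuleCat.ofHom s))
    ((singleFunctor (ModuleCat.{u} R) n).map (ModuleCat.ofHom f)) ?_ (h.single_fin n k)
  rw [← Functor.map_comp, ← ModuleCat.ofHom_comp, hs]
  simp

/-- main induction -/
lemma perfect_aux (n : ℕ) : ∀ (a : ℤ) (E : DRing.Cx R),
    (∀ i : ℤ, i < a ∨ a + n ≤ i → IsZero (E.X i)) →
    (∀ i : ℤ, Module.Finite R (E.X i) ∧ Module.Projective R (E.X i)) → P (DRing.toD E) := by
  induction n with
  | zero =>
    intro a E hE _
    apply h.zero
    have : IsZero E := by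
      rw [IsZero.iff_id_eq_zero]
      apply HomologicalComplex.hom_ext
      intro i
      exact (hE i (by lia)).eq_of_src _ _
    exact Functor.map_isZero Q this
  | succ n ih =>
    intro a E hE hfp
    obtain ⟨E', f, g, δ, hT, hz, hiso⟩ :=
      Groth.Agent.Lib.Helper84.BrutalTrunc.exists_bottom_truncation E a
        (fun i hi => hE i (Or.inl hi))
    have hE' : P (DRing.toD E') := by
      apply ih (a + 1) E'
      · intro i hi
        by_cases hia : i ≤ a
        · exact hz i hia
        · obtain ⟨e⟩ := hiso i (by lia)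
          exact IsZero.of_iso (hE i (Or.inr (by push_cast; lia))) e
      · intro i
        by_cases hia : i ≤ a
        · have := ModuleCat.subsingleton_of_isZero (hz i hia)
          exact ⟨inferInstance, inferInstance⟩
        · obtain ⟨e⟩ := hiso i (by lia)
          obtain ⟨h1, h2⟩ := hfp i
          exact ⟨Module.Finite.equiv e.symm.toLinearEquiv,
            Module.Projective.of_equiv' e.symm.toLinearEquiv⟩
    exact h.hext _ hT hE' (h.single_finite_projective a _ (hfp a).1 (hfp a).2)

end Good


open CategoryTheory.Pretriangulated in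
/-- The inclusion of the perfect objects in the subcategory generated by R: let R be a commutative ring
and P a property of objects of D(R) which is closed under isomorphisms, holds for R[0], is stable
under all shifts, is closed under extensions (if it holds for the outer terms of a distinguished
triangle it holds for the middle term) and is closed under taking direct summands. Then P holds for
every perfect object of D(R). -/
theorem result (R : Type u) [CommRing R]
    (P : ObjectProperty (Dual.D R)) [P.IsClosedUnderIsomorphisms] (hR : P (Dual.inD R R))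
    (hshift : ∀ (K : Dual.D R) (n : ℤ), P K → P ((shiftFunctor (Dual.D R) n).obj K))
    (hext : ∀ T : Triangle (Dual.D R), T ∈ distinguishedTriangles → P T.obj₁ → P T.obj₃ → P T.obj₂)
    (hsum : ∀ (X Y : Dual.D R) [HasBinaryBiproduct X Y], P (X ⊞ Y) → P X)
    (K : Dual.D R) (hK : DRing.IsPerfect R K) : P K := by
  have hG : Good R P := ⟨inferInstance, hR, hshift, hext, hsum⟩
  obtain ⟨E, a, b, h1, h2, ⟨e⟩⟩ := hK
  refine hG.of_iso e ?_
  refine hG.perfect_aux (b + 1 - a).toNat a E ?_ h2
  intro i hi
  apply h1
  rcases hi with hi | hi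
  · exact Or.inl hi
  · right
    have := Int.self_le_toNat (b + 1 - a)
    lia

end Groth.Agent.S7010
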