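import Groth.Statements.S7012
import Groth.Agent.Lib.Helper15.LiftAssemble
import Groth.Agent.Lib.Helper15.LiftExt

set_option autoImplicit false
universe u
open CategoryTheory CategoryTheory.Limits
attribute [local instance] HasDerivedCategory.standard
open DRing

namespace Groth.Agent.S7012

/-- Let R be a commutative ring, I an ideal of R and Pc a class of R-modules closed under isomorphisms
such that: (1) every module in Pc is projective; (2) if P₁ and P₁ ⊕ P₂ belong to Pc then P₂ belongs
to Pc; (3) every homomorphism between modules of Pc which is surjective modulo I is surjective. Let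
E be a bounded above acyclic cochain complex of R/I-modules each of whose terms is isomorphic to
P/IP for some P in Pc. Then there is a bounded above acyclic cochain complex of R-modules with all
terms in Pc whose termwise reduction modulo I is isomorphic to E as a complex. -/
theorem result (R : Type u) [CommRing R] (I : Ideal R)
    (Pc : ObjectProperty (ModuleCat.{u} R)) [Pc.IsClosedUnderIsomorphisms]
    (h1 : ∀ X : ModuleCat.{u} R, Pc X → Module.Projective R X)
    (h2 : ∀ X Y : ModuleCat.{u} R, Pc X → Pc (ModuleCat.of R (X × Y)) → Pc Y)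
    (h3 : ∀ (X Y : ModuleCat.{u} R) (f : X ⟶ Y), Pc X → Pc Y →
      LinearMap.range f.hom ⊔ I • (⊤ : Submodule R Y) = ⊤ → Function.Surjective f.hom)
    (E : DRing.Cx (R ⧸ I)) (b : ℤ) (hEb : DRing.VanishesAbove E b) (hEa : E.Acyclic)
    (hEt : ∀ i : ℤ, ∃ X : ModuleCat.{u} R, Pc X ∧ Nonempty (TensorProduct R (R ⧸ I) X ≃ₗ[R ⧸ I] E.X i)) :
    ∃ (P : DRing.Cx R) (b' : ℤ), DRing.VanishesAbove P b' ∧ P.Acyclic ∧ (∀ i : ℤ, Pc (P.X i)) ∧
      Nonempty ((((ModuleCat.extendScalars (Ideal.Quotient.mk I)).mapHomologicalComplex (ComplexShape.up ℤ)).obj P) ≅ E) := by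
  classical
  -- the zero module is in `Pc`
  obtain ⟨X₀, hX₀, -⟩ := hEt 0
  have hPc0 : Pc (ModuleCat.of R PUnit.{u + 1}) := by
    refine h2 X₀ (ModuleCat.of R PUnit.{u + 1}) hX₀ (Pc.prop_of_iso ?_ hX₀)
    exact (LinearEquiv.prodUnique (R := R) (M := X₀) (M₂ := PUnit.{u + 1})).symm.toModuleIso
  -- choose the lifts of the terms
  have hch : ∀ i : ℤ, ∃ X : ModuleCat.{u} R, Pc X ∧
      Nonempty (TensorProduct R (R ⧸ I) X ≃ₗ[R ⧸ I] E.X i) ∧ (b < i → Subsingleton X) := by
    intro i
    by_cases hi : b < i
    · refine ⟨ModuleCat.of R PUnit.{u + 1}, hPc0, ⟨?_⟩, fun _ => inferInstanceAs (Subsingleton PUnit)⟩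
      haveI : Subsingleton (E.X i) := ModuleCat.subsingleton_of_isZero (hEb i hi)
      haveI : Subsingleton (TensorProduct R (R ⧸ I) (ModuleCat.of R PUnit.{u + 1})) :=
        (Groth.Agent.Lib.Helper15.LiftExt.red_surjective I PUnit.{u + 1}).subsingleton
      exact LinearEquiv.ofSubsingleton _ _
    · obtain ⟨X, hX, hX'⟩ := hEt i
      exact ⟨X, hX, hX', fun h => absurd h hi⟩
  choose Xc hXc he hXs using hch
  let e : ∀ i, TensorProduct R (R ⧸ I) (Xc i) ≃ₗ[R ⧸ I] E.X i := fun i => (he i).some
  let G : DRing.Cx R := CochainComplex.of (fun _ => ModuleCat.of R PUnit.{u + 1}) (fun _ => 0)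
    (fun _ => by simp)
  have hG : ∀ j, Subsingleton (G.X j) := fun j => inferInstanceAs (Subsingleton PUnit.{u + 1})
  let C : DRing.Cx R := ((ModuleCat.restrictScalars (Ideal.Quotient.mk I)).mapHomologicalComplex
    (ComplexShape.up ℤ)).obj E
  let L : Groth.Agent.Lib.Helper15.LiftData R I Pc :=
    { F := Xc
      G := G
      C := C
      π := fun j => (Groth.Agent.Lib.Helper15.LiftExt.redTo I (e j)) ∘ₗ LinearMap.fst R (Xc j) (G.X j)
      b := b
      iso := inferInstance
      h1 := h1
      h2 := h2
      h3 := h3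
      hFp := fun j => h1 _ (hXc j)
      hT := fun j => by
        haveI : Unique (G.X j) := inferInstanceAs (Unique PUnit.{u + 1})
        exact Pc.prop_of_iso
          (LinearEquiv.prodUnique (R := R) (M := Xc j) (M₂ := G.X j)).symm.toModuleIso (hXc j)
      hC := fun j z hz => by
        have hex := (Groth.Agent.Lib.Helper15.LiftData.exactAt_iff_function_exact E j).1 (hEa (j + 1))
        exact (hex z).1 hz
      hπs := fun j => (Groth.Agent.Lib.Helper15.LiftExt.redTo_surjective I (e j)).comp
        LinearMap.fst_surjective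
      hπk := fun j => by
        ext a
        change a.1 ∈ LinearMap.ker (Groth.Agent.Lib.Helper15.LiftExt.redTo I (e j)) ↔ _
        rw [Groth.Agent.Lib.Helper15.LiftExt.ker_redTo,
          Groth.Agent.Lib.Helper15.LiftExt.mem_smul_top_prod_iff]
        haveI := hG j
        constructor
        · intro h
          exact ⟨h, by rw [Subsingleton.elim a.2 0]; exact Submodule.zero_mem _⟩
        · intro h; exact h.1
      hcompat := fun j y => by
        haveI := hG j
        haveI := hG (j + 1)
        simp
      hb := fun j hj => by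
        haveI := hG j
        haveI := hXs j hj
        infer_instance }
  refine ⟨L.P, b, ?_, L.P_acyclic hG, hXc, ?_⟩
  · intro i hi
    haveI : Subsingleton (Xc i) := hXs i hi
    change IsZero (Xc i)
    exact ModuleCat.isZero_of_subsingleton _
  · refine Groth.Agent.Lib.Helper15.LiftExt.nonempty_ext_iso I Xc
      (fun j => ModuleCat.ofHom (L.d j))
      (fun j => by rw [← ModuleCat.ofHom_comp, L.d_comp_d j]; rfl) E e ?_
    intro j x
    have h := LinearMap.congr_fun (L.D_comm j) (x, 0)
    have h' : (L.D j (x, 0)).1 = L.d j x := L.fst_D j (x, 0)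
    change e (j + 1) ((1 : R ⧸ I) ⊗ₜ[R] (L.D j (x, 0)).1) = (E.d j (j + 1)).hom (e j ((1 : R ⧸ I) ⊗ₜ[R] x)) at h
    rw [h'] at h
    exact h

end Groth.Agent.S7012
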