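import Groth.Statements.S7015
import Mathlib.LinearAlgebra.TensorProduct.Finiteness
import Mathlib.RingTheory.Finiteness.Basic
import Mathlib.LinearAlgebra.FreeModule.Basic
import Mathlib.LinearAlgebra.StdBasis
import Mathlib.LinearAlgebra.FreeModule.Finite.Basic
-- import your own Groth.Agent.* helpers here

set_option autoImplicit false
universe u
open CategoryTheory MonoidalCategory
open DRing

namespace Groth.Agent.S7015

open TensorProduct in
theorem finite_projective_of_dualBasis_tensor {R : Type u} [CommRing R] {M N : Type u}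
    [AddCommGroup M] [Module R M] [AddCommGroup N] [Module R N]
    (η : M ⊗[R] N) (ε : N ⊗[R] M →ₗ[R] R)
    (key : ∀ m : M, TensorProduct.rid R M
      (LinearMap.lTensor M ε (TensorProduct.assoc R M N M (η ⊗ₜ[R] m))) = m) :
    Module.Finite R M ∧ Module.Projective R M := by
  obtain ⟨S, hS⟩ := TensorProduct.exists_finset η
  let f : M →ₗ[R] (S → R) := LinearMap.pi fun i => ε ∘ₗ (TensorProduct.mk R N M (i : M × N).2)
  let g : (S → R) →ₗ[R] M := Fintype.linearCombination R (fun i : S => (i : M × N).1)
  have hgf : g ∘ₗ f = LinearMap.id := by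
    apply LinearMap.ext
    intro m
    have h1 := key m
    rw [hS, TensorProduct.sum_tmul, map_sum, map_sum, map_sum] at h1
    simp only [TensorProduct.assoc_tmul, LinearMap.lTensor_tmul, TensorProduct.rid_tmul] at h1
    rw [LinearMap.comp_apply, LinearMap.id_apply]
    conv_rhs => rw [← h1]
    simp only [g, f, Fintype.linearCombination_apply, LinearMap.pi_apply, LinearMap.comp_apply,
      TensorProduct.mk_apply]
    exact Finset.sum_coe_sort S (fun i : M × N => ε (i.2 ⊗ₜ[R] m) • i.1)
  have hsurj : Function.Surjective g := fun m => ⟨f m, LinearMap.congr_fun hgf m⟩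
  exact ⟨Module.Finite.of_surjective g hsurj, Module.Projective.of_split f g hgf⟩

open TensorProduct in
theorem finite_projective_of_dualBasis_tensor' {R : Type u} [CommRing R] {M N : Type u}
    [AddCommGroup M] [Module R M] [AddCommGroup N] [Module R N]
    (η : M ⊗[R] N) (ε : N ⊗[R] M →ₗ[R] R)
    (key : ∀ n : N, TensorProduct.lid R N
      (LinearMap.rTensor N ε ((TensorProduct.assoc R N M N).symm (n ⊗ₜ[R] η))) = n) :
    Module.Finite R N ∧ Module.Projective R N := by
  obtain ⟨S, hS⟩ := TensorProduct.exists_finset η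
  let f : N →ₗ[R] (S → R) :=
    LinearMap.pi fun i => ε ∘ₗ (TensorProduct.mk R N M).flip (i : M × N).1
  let g : (S → R) →ₗ[R] N := Fintype.linearCombination R (fun i : S => (i : M × N).2)
  have hgf : g ∘ₗ f = LinearMap.id := by
    apply LinearMap.ext
    intro n
    have h1 := key n
    rw [hS, TensorProduct.tmul_sum, map_sum, map_sum, map_sum] at h1
    simp only [TensorProduct.assoc_symm_tmul, LinearMap.rTensor_tmul, TensorProduct.lid_tmul] at h1
    rw [LinearMap.comp_apply, LinearMap.id_apply]
    conv_rhs => rw [← h1]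
    simp only [g, f, Fintype.linearCombination_apply, LinearMap.pi_apply, LinearMap.comp_apply,
      LinearMap.flip_apply, TensorProduct.mk_apply]
    exact Finset.sum_coe_sort S (fun i : M × N => ε (n ⊗ₜ[R] i.1) • i.2)
  have hsurj : Function.Surjective g := fun m => ⟨f m, LinearMap.congr_fun hgf m⟩
  exact ⟨Module.Finite.of_surjective g hsurj, Module.Projective.of_split f g hgf⟩

/-- Let R be a commutative ring and M, N R-modules such that N is a left dual of M for the tensor
product of R-modules, i.e. there are a coevaluation R → M ⊗ N and an evaluation N ⊗ M → R satisfying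
the triangle identities (an exact pairing). Then M and N are finitely generated projective
R-modules. -/
theorem result (R : Type u) [CommRing R] (M N : Type u) [AddCommGroup M]
    [Module R M] [AddCommGroup N] [Module R N] [ExactPairing (ModuleCat.of R M) (ModuleCat.of R N)] :
    Module.Finite R M ∧ Module.Projective R M ∧ Module.Finite R N ∧ Module.Projective R N := by
  let η : TensorProduct R M N := (η_ (ModuleCat.of R M) (ModuleCat.of R N)).hom (1 : R)
  let ε : TensorProduct R N M →ₗ[R] R := (ε_ (ModuleCat.of R M) (ModuleCat.of R N)).hom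
  have key1 : ∀ m : M, TensorProduct.rid R M
      (LinearMap.lTensor M ε (TensorProduct.assoc R M N M (η ⊗ₜ[R] m))) = m := by
    intro m
    have h := ExactPairing.evaluation_coevaluation (ModuleCat.of R M) (ModuleCat.of R N)
    have e1 : LinearMap.lTensor M ε (TensorProduct.assoc R M N M (η ⊗ₜ[R] m)) =
        (η_ (ModuleCat.of R M) (ModuleCat.of R N) ▷ (ModuleCat.of R M) ≫ (α_ _ _ _).hom ≫
          (ModuleCat.of R M) ◁ ε_ (ModuleCat.of R M) (ModuleCat.of R N)).hom
            ((1 : R) ⊗ₜ[R] m) := rfl
    have e2 : ((λ_ (ModuleCat.of R M)).hom ≫ (ρ_ (ModuleCat.of R M)).inv).hom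
        ((1 : R) ⊗ₜ[R] m) = m ⊗ₜ[R] (1 : R) := by
      rw [ModuleCat.hom_comp, LinearMap.comp_apply]
      erw [ModuleCat.MonoidalCategory.leftUnitor_hom_apply]
      rw [one_smul]
      exact ModuleCat.MonoidalCategory.rightUnitor_inv_apply (M := ModuleCat.of R M) m
    rw [e1, h, e2, TensorProduct.rid_tmul, one_smul]
  have key2 : ∀ n : N, TensorProduct.lid R N
      (LinearMap.rTensor N ε ((TensorProduct.assoc R N M N).symm (n ⊗ₜ[R] η))) = n := by
    intro n
    have h := ExactPairing.coevaluation_evaluation (ModuleCat.of R M) (ModuleCat.of R N)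
    have e1 : LinearMap.rTensor N ε ((TensorProduct.assoc R N M N).symm (n ⊗ₜ[R] η)) =
        ((ModuleCat.of R N) ◁ η_ (ModuleCat.of R M) (ModuleCat.of R N) ≫ (α_ _ _ _).inv ≫
          ε_ (ModuleCat.of R M) (ModuleCat.of R N) ▷ (ModuleCat.of R N)).hom
            (n ⊗ₜ[R] (1 : R)) := rfl
    have e2 : ((ρ_ (ModuleCat.of R N)).hom ≫ (λ_ (ModuleCat.of R N)).inv).hom
        (n ⊗ₜ[R] (1 : R)) = (1 : R) ⊗ₜ[R] n := by
      rw [ModuleCat.hom_comp, LinearMap.comp_apply]
      erw [ModuleCat.MonoidalCategory.rightUnitor_hom_apply]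
      rw [one_smul]
      exact ModuleCat.MonoidalCategory.leftUnitor_inv_apply (M := ModuleCat.of R N) n
    rw [e1, h, e2, TensorProduct.lid_tmul, one_smul]
  obtain ⟨h1, h2⟩ := finite_projective_of_dualBasis_tensor η ε key1
  obtain ⟨h3, h4⟩ := finite_projective_of_dualBasis_tensor' η ε key2
  exact ⟨h1, h2, h3, h4⟩

end Groth.Agent.S7015
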