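import Groth.Statements.S7017
import Groth.Agent.Lib.Helper84.DRingPC

set_option autoImplicit false
universe u
open CategoryTheory CategoryTheory.Limits
attribute [local instance] HasDerivedCategory.standard
open DRing

namespace Groth.Agent.S7017

open CategoryTheory.Pretriangulated in
/-- Let R be a commutative ring and K → L → M → K[1] a distinguished triangle in D(R). Whenever two of
K, L, M are pseudo-coherent (isomorphic in D(R) to bounded above complexes of finite free modules),
the remaining one is as well. -/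
theorem result (R : Type u) [CommRing R] (T : Triangle (Dual.D R))
    (hT : T ∈ distinguishedTriangles) :
    (DRing.IsPseudoCoherent' R T.obj₁ → DRing.IsPseudoCoherent' R T.obj₂ → DRing.IsPseudoCoherent' R T.obj₃) ∧
      (DRing.IsPseudoCoherent' R T.obj₁ → DRing.IsPseudoCoherent' R T.obj₃ → DRing.IsPseudoCoherent' R T.obj₂) ∧
      (DRing.IsPseudoCoherent' R T.obj₂ → DRing.IsPseudoCoherent' R T.obj₃ → DRing.IsPseudoCoherent' R T.obj₁) := by
  open Groth.Agent.Lib.Helper84.DRingPC in
  refine ⟨fun h₁ h₂ => isPseudoCoherent'_obj₃ T hT h₁ h₂, fun h₁ h₃ => ?_, fun h₂ h₃ => ?_⟩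
  · -- use the inverse rotation `Z⟦-1⟧ ⟶ X ⟶ Y ⟶`
    have hT' := Pretriangulated.inv_rot_of_distTriang _ hT
    exact isPseudoCoherent'_obj₃ T.invRotate hT' (isPseudoCoherent'_shift _ (-1) h₃) h₁
  · -- use the rotation `Y ⟶ Z ⟶ X⟦1⟧ ⟶`
    have hT' := Pretriangulated.rot_of_distTriang _ hT
    have h := isPseudoCoherent'_obj₃ T.rotate hT' h₂ h₃
    have h' := isPseudoCoherent'_shift _ (-1) h
    exact isPseudoCoherent'_of_iso (shiftShiftNeg T.obj₁ (1 : ℤ)) h'

end Groth.Agent.S7017
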