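import Groth.Statements.S7019
import Groth.Agent.Lib.Helper84.PerfSummand
import Groth.Agent.S2066

set_option autoImplicit false
universe u
open CategoryTheory CategoryTheory.Limits
attribute [local instance] HasDerivedCategory.standard
open DRing

namespace Groth.Agent.S7019

/-- Let R be a commutative ring such that the derived tensor product - ⊗^L_R M exists on D(R) for every
R-module M, and let K, L be objects of D(R). If K ⊕ L is perfect, then K and L are perfect. -/
theorem result (R : Type u) [CommRing R] [∀ M : ModuleCat.{u} R, DRing.HasLTensor R M]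
    (K L : Dual.D R) [HasBinaryBiproduct K L] (h : DRing.IsPerfect R (K ⊞ L)) :
    DRing.IsPerfect R K ∧ DRing.IsPerfect R L := by
  have hpcKL : ∀ m : ℤ, DRing.IsPseudoCoherent R m (K ⊞ L) := by
    obtain ⟨E, a, b, h1, h2, he⟩ := h
    exact (Groth.Agent.S2066.result (K ⊞ L)).2.2 ⟨E, b, fun i hi => h1 i (Or.inr hi), h2, he⟩
  have hpc : ∀ m : ℤ, DRing.IsPseudoCoherent R m K ∧ DRing.IsPseudoCoherent R m L :=
    fun m => Groth.Agent.Lib.Helper15.PseudoCoh.of_biprod m K L (hpcKL m)
  exact ⟨Groth.Agent.Lib.Helper84.PerfSummand.isPerfect_of_retract K (K ⊞ L) biprod.inl biprod.fst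
      biprod.inl_fst h (fun m => (hpc m).1),
    Groth.Agent.Lib.Helper84.PerfSummand.isPerfect_of_retract L (K ⊞ L) biprod.inr biprod.snd
      biprod.inr_snd h (fun m => (hpc m).2)⟩

end Groth.Agent.S7019
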