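import Groth.Statements.S7021
import Groth.Agent.Lib.Helper15.PseudoCohRel
import Groth.Agent.S6935

set_option autoImplicit false
universe u
open CategoryTheory CategoryTheory.Limits
attribute [local instance] HasDerivedCategory.standard
open DerCA

namespace Groth.Agent.S7021

/-- Let R → A be a finite type homomorphism of commutative rings, α : R[x_1, ..., x_n] → A a surjective
R-algebra homomorphism and M an A-module. Then relative 0-pseudo-coherence of M over R amounts to M
being a finitely generated A-module, and relative (-1)-pseudo-coherence of M over R amounts to M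
being finitely presented as an R[x_1, ..., x_n]-module through α. -/
theorem result {R A : Type u} [CommRing R] [CommRing A]
    [Algebra R A] [Algebra.FiniteType R A] {n : ℕ} (α : MvPolynomial (Fin n) R →ₐ[R] A)
    (hα : Function.Surjective α) (M : Type u) [AddCommGroup M] [Module A M] :
    (DerCA.IsRelPseudoCoherentModule R A 0 M ↔ Module.Finite A M) ∧
      (DerCA.IsRelPseudoCoherentModule R A (-1) M ↔
        @Module.FinitePresentation (MvPolynomial (Fin n) R) M _ _ (Module.compHom M α.toRingHom)) := by
  letI : Module (MvPolynomial (Fin n) R) M := Module.compHom M α.toRingHom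
  have key : ∀ m : ℤ, DerCA.IsRelPseudoCoherentModule R A m M ↔
      DRing.IsPseudoCoherentModule (MvPolynomial (Fin n) R) m M := by
    intro m
    unfold DerCA.IsRelPseudoCoherentModule
    rw [Groth.Agent.Lib.Helper15.PseudoCohRel.isRel_iff_via α hα]
    unfold DerCA.IsRelPseudoCoherentVia DRing.IsPseudoCoherentModule
    have e : (DRing.restrictD (α : MvPolynomial (Fin n) R →+* A)).obj (Dual.inD A M) ≅
        Dual.inD (MvPolynomial (Fin n) R) M :=
      ((ModuleCat.restrictScalars.{u} (α : MvPolynomial (Fin n) R →+* A)).mapDerivedCategorySingleFunctor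
        0).app (ModuleCat.of A M)
    exact ⟨fun h => Groth.Agent.Lib.Helper15.PseudoCoh.of_iso e h,
      fun h => Groth.Agent.Lib.Helper15.PseudoCoh.of_iso e.symm h⟩
  have hfin : Module.Finite (MvPolynomial (Fin n) R) M ↔ Module.Finite A M := by
    letI : Algebra (MvPolynomial (Fin n) R) A := α.toRingHom.toAlgebra
    haveI : IsScalarTower (MvPolynomial (Fin n) R) A M :=
      IsScalarTower.of_algebraMap_smul (fun r x => rfl)
    constructor
    · intro h
      exact Module.Finite.of_restrictScalars_finite (MvPolynomial (Fin n) R) A M
    · intro h
      haveI : Module.Finite (MvPolynomial (Fin n) R) A :=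
        Module.Finite.of_surjective (Algebra.linearMap (MvPolynomial (Fin n) R) A) hα
      exact Module.Finite.trans A M
  exact ⟨(key 0).trans ((Groth.Agent.S6935.result (MvPolynomial (Fin n) R) M).1.trans hfin),
    (key (-1)).trans (Groth.Agent.S6935.result (MvPolynomial (Fin n) R) M).2⟩

end Groth.Agent.S7021
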