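import Groth.Statements.S7022
import Groth.Agent.Lib.Helper15.PseudoCohRel

set_option autoImplicit false
universe u
open CategoryTheory CategoryTheory.Limits
attribute [local instance] HasDerivedCategory.standard
open DerCA

namespace Groth.Agent.S7022

/-- Let R → A be a finite type homomorphism of commutative rings, m an integer and K, L objects of the
derived category D(A). Whenever the direct sum K ⊕ L is pseudo-coherent relative to R in degree m,
both summands K and L are too; likewise, relative pseudo-coherence of K ⊕ L (in every degree) passes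
to K and to L. -/
theorem result {R A : Type u} [CommRing R] [CommRing A] [Algebra R A] [Algebra.FiniteType R A] (m : ℤ) (K L : Dual.D A) [HasBinaryBiproduct K L] :
    (DerCA.IsRelPseudoCoherent R A m (K ⊞ L) → DerCA.IsRelPseudoCoherent R A m K ∧ DerCA.IsRelPseudoCoherent R A m L) ∧
      (DerCA.IsRelPseudoCoherentAll R A (K ⊞ L) →
        DerCA.IsRelPseudoCoherentAll R A K ∧ DerCA.IsRelPseudoCoherentAll R A L) := by
  obtain ⟨n, α, hα⟩ := Groth.Agent.Lib.Helper15.PseudoCohRel.exists_presentation R A
  simp only [Groth.Agent.Lib.Helper15.PseudoCohRel.isRel_iff_via α hα,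
    Groth.Agent.Lib.Helper15.PseudoCohRel.isRelAll_iff_via α hα]
  refine ⟨fun h => Groth.Agent.Lib.Helper15.PseudoCohRel.via_of_biprod α m K L h, fun h => ?_⟩
  exact ⟨fun k => (Groth.Agent.Lib.Helper15.PseudoCohRel.via_of_biprod α k K L (h k)).1,
    fun k => (Groth.Agent.Lib.Helper15.PseudoCohRel.via_of_biprod α k K L (h k)).2⟩

end Groth.Agent.S7022
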