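import Groth.Statements.S7023
import Groth.Agent.Lib.Helper15.PseudoCohRel
import Groth.Agent.S6938

set_option autoImplicit false
universe u
open CategoryTheory CategoryTheory.Limits
attribute [local instance] HasDerivedCategory.standard
open DerCA

namespace Groth.Agent.S7023

/-- Let R → A be a finite type homomorphism of commutative rings, m an integer and K a bounded above
cochain complex of A-modules such that the module K^i is (m - i)-pseudo-coherent relative to R for
every i. Then K is m-pseudo-coherent relative to R. Moreover, K is pseudo-coherent over R as soon as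
each of its terms K^i is so. -/
theorem result {R A : Type u} [CommRing R] [CommRing A] [Algebra R A] [Algebra.FiniteType R A] (m : ℤ) (K : DRing.Cx A) (b : ℤ)
    (hb : DRing.VanishesAbove K b) :
    ((∀ i : ℤ, DerCA.IsRelPseudoCoherentModule R A (m - i) (K.X i)) → DerCA.IsRelPseudoCoherent R A m (DRing.toD K)) ∧
      ((∀ i : ℤ, DerCA.IsRelPseudoCoherentModuleAll R A (K.X i)) →
        DerCA.IsRelPseudoCoherentAll R A (DRing.toD K)) := by
  obtain ⟨n, α, hα⟩ := Groth.Agent.Lib.Helper15.PseudoCohRel.exists_presentation R A
  -- single-functor compatibility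
  have eS : ∀ M : ModuleCat.{u} A,
      (DRing.restrictD (α : MvPolynomial (Fin n) R →+* A)).obj (Dual.inD A M) ≅
        Dual.inD (MvPolynomial (Fin n) R)
          ((ModuleCat.restrictScalars.{u} (α : MvPolynomial (Fin n) R →+* A)).obj M) := fun M =>
    ((ModuleCat.restrictScalars.{u}
      (α : MvPolynomial (Fin n) R →+* A)).mapDerivedCategorySingleFunctor 0).app M
  have hb' : DRing.VanishesAbove
      ((DRing.restrictCx (α : MvPolynomial (Fin n) R →+* A)).obj K) b := fun i hi =>
    (ModuleCat.restrictScalars.{u} (α : MvPolynomial (Fin n) R →+* A)).map_isZero (hb i hi)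
  have key : ∀ m' : ℤ, (∀ i : ℤ, DerCA.IsRelPseudoCoherentModule R A (m' - i) (K.X i)) →
      DerCA.IsRelPseudoCoherent R A m' (DRing.toD K) := by
    intro m' h
    rw [Groth.Agent.Lib.Helper15.PseudoCohRel.isRel_iff_via α hα]
    refine Groth.Agent.Lib.Helper15.PseudoCoh.of_iso
      (Groth.Agent.Lib.Helper15.PseudoCohRes.restrictDQIso
        (α : MvPolynomial (Fin n) R →+* A) K).symm ?_
    refine (Groth.Agent.S6938.result (MvPolynomial (Fin n) R) m'
      ((DRing.restrictCx (α : MvPolynomial (Fin n) R →+* A)).obj K) b hb').1 fun i => ?_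
    have hi := (Groth.Agent.Lib.Helper15.PseudoCohRel.isRel_iff_via α hα (m' - i) _).1 (h i)
    exact Groth.Agent.Lib.Helper15.PseudoCoh.of_iso (eS (K.X i)) hi
  exact ⟨key m, fun h m' => key m' fun i => h i (m' - i)⟩

end Groth.Agent.S7023
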