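import Groth.Statements.S7024
import Groth.Agent.Lib.Helper15.PseudoCohRel
import Groth.Agent.S6939
import Groth.Agent.S7057

set_option autoImplicit false
universe u
open CategoryTheory CategoryTheory.Limits
attribute [local instance] HasDerivedCategory.standard
open DerCA

namespace Groth.Agent.S7024

/-- Let R → A be a finite type homomorphism of commutative rings, m an integer and K an object of D(A)
whose cohomology vanishes in large degrees. If the module H^i(K) is (m - i)-pseudo-coherent relative
to R for every i, then K is m-pseudo-coherent relative to R. Moreover, K is relatively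
pseudo-coherent over R as soon as each cohomology module H^i(K) has this property over R. -/
theorem result {R A : Type u} [CommRing R] [CommRing A] [Algebra R A] [Algebra.FiniteType R A] (m : ℤ) (K : Dual.D A)
    (hb : ∃ b : ℤ, ∀ i : ℤ, b < i → Subsingleton (Dual.HD A K i)) :
    ((∀ i : ℤ, DerCA.IsRelPseudoCoherentModule R A (m - i) (Dual.HD A K i)) → DerCA.IsRelPseudoCoherent R A m K) ∧
      ((∀ i : ℤ, DerCA.IsRelPseudoCoherentModuleAll R A (Dual.HD A K i)) → DerCA.IsRelPseudoCoherentAll R A K) := by
  obtain ⟨n, α, hα⟩ := Groth.Agent.Lib.Helper15.PseudoCohRel.exists_presentation R A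
  -- single-functor compatibility
  have eS : ∀ M : ModuleCat.{u} A,
      (DRing.restrictD (α : MvPolynomial (Fin n) R →+* A)).obj (Dual.inD A M) ≅
        Dual.inD (MvPolynomial (Fin n) R)
          ((ModuleCat.restrictScalars.{u} (α : MvPolynomial (Fin n) R →+* A)).obj M) := fun M =>
    ((ModuleCat.restrictScalars.{u}
      (α : MvPolynomial (Fin n) R →+* A)).mapDerivedCategorySingleFunctor 0).app M
  have e := fun i => Groth.Agent.S7057.hdRestrictIso (α : MvPolynomial (Fin n) R →+* A) K i
  obtain ⟨b, hb⟩ := hb
  have hb' : ∃ b : ℤ, ∀ i : ℤ, b < i → Subsingleton (Dual.HD (MvPolynomial (Fin n) R)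
      ((DRing.restrictD (α : MvPolynomial (Fin n) R →+* A)).obj K) i) :=
    ⟨b, fun i hi => @Equiv.subsingleton _ _ (e i).toLinearEquiv.toEquiv (hb i hi)⟩
  have key : ∀ m' : ℤ, (∀ i : ℤ, DerCA.IsRelPseudoCoherentModule R A (m' - i) (Dual.HD A K i)) →
      DerCA.IsRelPseudoCoherent R A m' K := by
    intro m' h
    rw [Groth.Agent.Lib.Helper15.PseudoCohRel.isRel_iff_via α hα]
    refine (Groth.Agent.S6939.result (MvPolynomial (Fin n) R) m'
      ((DRing.restrictD (α : MvPolynomial (Fin n) R →+* A)).obj K) hb').1 fun i => ?_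
    have hi := (Groth.Agent.Lib.Helper15.PseudoCohRel.isRel_iff_via α hα (m' - i) _).1 (h i)
    exact Groth.Agent.Lib.Helper15.PseudoCoh.of_iso (eS ((DerivedCategory.homologyFunctor (ModuleCat.{u} A) i).obj K) ≪≫
      (DerivedCategory.singleFunctor (ModuleCat.{u} (MvPolynomial (Fin n) R)) 0).mapIso
        (e i).symm) hi
  exact ⟨key m, fun h m' => key m' fun i => h i (m' - i)⟩

end Groth.Agent.S7024
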