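import Groth.Statements.S7026
import Groth.Agent.Lib.Helper15.PseudoCohRel
import Groth.Agent.S6942
import Groth.Agent.S7057

set_option autoImplicit false
universe u
open CategoryTheory CategoryTheory.Limits
attribute [local instance] HasDerivedCategory.standard
open DerCA

namespace Groth.Agent.S7026

/-- finiteness is insensitive to restriction of scalars along a surjection -/
lemma finite_restrictScalars_iff {P A : Type u} [CommRing P] [CommRing A] (f : P →+* A)
    (hf : Function.Surjective f) (N : ModuleCat.{u} A) :
    Module.Finite P ((ModuleCat.restrictScalars.{u} f).obj N) ↔ Module.Finite A N := by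
  letI : Algebra P A := f.toAlgebra
  haveI : IsScalarTower P A ((ModuleCat.restrictScalars.{u} f).obj N) :=
    IsScalarTower.of_algebraMap_smul fun p x => rfl
  constructor
  · intro h
    exact Module.Finite.of_restrictScalars_finite P A ((ModuleCat.restrictScalars.{u} f).obj N)
  · intro h
    haveI : Module.Finite P A := Module.Finite.of_surjective (Algebra.linearMap P A) hf
    haveI : Module.Finite A ((ModuleCat.restrictScalars.{u} f).obj N) := h
    exact Module.Finite.trans A ((ModuleCat.restrictScalars.{u} f).obj N)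

lemma key {R A : Type u} [CommRing R] [IsNoetherianRing R] [CommRing A] [Algebra R A]
    [Algebra.FiniteType R A] (m : ℤ) (K : Dual.D A) :
    DerCA.IsRelPseudoCoherent R A m K ↔
      (∃ b : ℤ, ∀ i : ℤ, b < i → Subsingleton (Dual.HD A K i)) ∧
        ∀ i : ℤ, m ≤ i → Module.Finite A (Dual.HD A K i) := by
  obtain ⟨n, α, hα⟩ := Groth.Agent.Lib.Helper15.PseudoCohRel.exists_presentation R A
  rw [Groth.Agent.Lib.Helper15.PseudoCohRel.isRel_iff_via α hα m K]
  unfold DerCA.IsRelPseudoCoherentVia
  rw [(Groth.Agent.S6942.result (MvPolynomial (Fin n) R) m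
    ((DRing.restrictD (α : MvPolynomial (Fin n) R →+* A)).obj K) PUnit).1]
  have e := fun i => Groth.Agent.S7057.hdRestrictIso (α : MvPolynomial (Fin n) R →+* A) K i
  have hsub : ∀ i, Subsingleton (Dual.HD (MvPolynomial (Fin n) R)
      ((DRing.restrictD (α : MvPolynomial (Fin n) R →+* A)).obj K) i) ↔
      Subsingleton (Dual.HD A K i) := fun i =>
    ⟨fun h => @Equiv.subsingleton _ _ (e i).toLinearEquiv.symm.toEquiv h,
      fun h => @Equiv.subsingleton _ _ (e i).toLinearEquiv.toEquiv h⟩
  have hfin : ∀ i, Module.Finite (MvPolynomial (Fin n) R) (Dual.HD (MvPolynomial (Fin n) R)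
      ((DRing.restrictD (α : MvPolynomial (Fin n) R →+* A)).obj K) i) ↔
      Module.Finite A (Dual.HD A K i) := fun i => by
    rw [← finite_restrictScalars_iff (α : MvPolynomial (Fin n) R →+* A) hα]
    exact ⟨fun h => Module.Finite.equiv (e i).toLinearEquiv,
      fun h => Module.Finite.equiv (e i).toLinearEquiv.symm⟩
  simp only [hsub, hfin]

/-- Let R be a Noetherian commutative ring, R → A a finite type ring homomorphism, m an integer, K an
object of D(A) and M an A-module. Then: m-pseudo-coherence of K relative to R is equivalent to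
H^i(K) vanishing for all large i together with H^i(K) being a finitely generated A-module for each i
≥ m; pseudo-coherence of K relative to R (every degree) is equivalent to the same with H^i(K)
finitely generated for every i; and the A-module M is pseudo-coherent relative to R exactly when M
is finitely generated. -/
theorem result {R A : Type u} [CommRing R]
    [IsNoetherianRing R] [CommRing A] [Algebra R A] [Algebra.FiniteType R A] (m : ℤ) (K : Dual.D A)
    (M : Type u) [AddCommGroup M] [Module A M] :
    (DerCA.IsRelPseudoCoherent R A m K ↔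
      (∃ b : ℤ, ∀ i : ℤ, b < i → Subsingleton (Dual.HD A K i)) ∧ ∀ i : ℤ, m ≤ i → Module.Finite A (Dual.HD A K i)) ∧
    (DerCA.IsRelPseudoCoherentAll R A K ↔
      (∃ b : ℤ, ∀ i : ℤ, b < i → Subsingleton (Dual.HD A K i)) ∧ ∀ i : ℤ, Module.Finite A (Dual.HD A K i)) ∧
    (DerCA.IsRelPseudoCoherentModuleAll R A M ↔ Module.Finite A M) := by
  have hall : ∀ L : Dual.D A, DerCA.IsRelPseudoCoherentAll R A L ↔
      (∃ b : ℤ, ∀ i : ℤ, b < i → Subsingleton (Dual.HD A L i)) ∧
        ∀ i : ℤ, Module.Finite A (Dual.HD A L i) := by
    intro L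
    constructor
    · intro h
      refine ⟨((key (R := R) 0 L).1 (h 0)).1, fun i => ((key (R := R) i L).1 (h i)).2 i le_rfl⟩
    · rintro ⟨h1, h2⟩ m'
      exact (key (R := R) m' L).2 ⟨h1, fun i _ => h2 i⟩
  refine ⟨key m K, hall K, ?_⟩
  change DerCA.IsRelPseudoCoherentAll R A (Dual.inD A M) ↔ _
  rw [hall]
  constructor
  · rintro ⟨-, h2⟩
    have := h2 0
    exact Module.Finite.equiv (Groth.Agent.S6935.h0Iso A M).toLinearEquiv
  · intro h
    refine ⟨⟨0, fun i hi => ?_⟩, fun i => ?_⟩
    · exact ModuleCat.subsingleton_of_isZero (Groth.Agent.S6935.isZero_hi A M i (by omega))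
    · by_cases hi : i = 0
      · subst hi
        exact Module.Finite.equiv (Groth.Agent.S6935.h0Iso A M).toLinearEquiv.symm
      · haveI : Subsingleton (Dual.HD A (Dual.inD A M) i) :=
          ModuleCat.subsingleton_of_isZero (Groth.Agent.S6935.isZero_hi A M i hi)
        infer_instance

end Groth.Agent.S7026
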