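import Groth.Statements.S7031
import Groth.Agent.S7030
import Groth.Agent.S6962
import Mathlib

set_option autoImplicit false
universe u
open CategoryTheory CategoryTheory.Limits
attribute [local instance] HasDerivedCategory.standard
open DRing

namespace Groth.Agent.S7031

open DerivedCategory

theorem homology_of_perfect (R : Type u) [CommRing R] [IsNoetherianRing R] (K : Dual.D R)
    (h : DRing.IsPerfect R K) :
    (∃ a b : ℤ, ∀ i : ℤ, (i < a ∨ b < i) → Subsingleton (Dual.HD R K i)) ∧
      ∀ i : ℤ, Module.Finite R (Dual.HD R K i) := by
  obtain ⟨E, a, b, hab, hE, ⟨e⟩⟩ := h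
  have iso : ∀ i : ℤ, E.homology i ≅ (homologyFunctor (ModuleCat.{u} R) i).obj K := fun i =>
    ((homologyFunctorFactors (ModuleCat.{u} R) i).app E).symm ≪≫
      (homologyFunctor (ModuleCat.{u} R) i).mapIso e
  constructor
  · refine ⟨a, b, fun i hi => ?_⟩
    have hz : IsZero (E.X i) := hab i hi
    have hz' : IsZero (E.homology i) := by
      have hex : (E.sc i).Exact := ShortComplex.exact_of_isZero_X₂ _ hz
      exact (ShortComplex.exact_iff_isZero_homology _).1 hex
    have : IsZero ((homologyFunctor (ModuleCat.{u} R) i).obj K) := hz'.of_iso (iso i).symm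
    exact ModuleCat.subsingleton_of_isZero this
  · intro i
    have hfin : Module.Finite R (E.homology i) := by
      have e4 := (E.sc i).moduleCatHomologyIso
      have : Module.Finite R ((E.sc i).X₂) := (hE i).1
      have : IsNoetherian R ((E.sc i).X₂) := isNoetherian_of_isNoetherianRing_of_finite R _
      have h5 : Module.Finite R ((E.sc i).moduleCatLeftHomologyData.H) := by
        change Module.Finite R (LinearMap.ker (E.sc i).g.hom ⧸ LinearMap.range (E.sc i).moduleCatToCycles)
        infer_instance
      exact Module.Finite.equiv e4.toLinearEquiv.symm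
    exact Module.Finite.equiv (iso i).toLinearEquiv

/-- Let R be a regular commutative ring (Noetherian, with regular local rings at all primes) such that
the derived tensor product - ⊗^L_R M exists on D(R) for every R-module M, and let K be an object of
D(R). Then K is perfect if and only if H^i(K) = 0 outside a bounded range of degrees and every
H^i(K) is a finitely generated R-module. -/
theorem result (R : Type u) [CommRing R] [IsNoetherianRing R]
    (hreg : ∀ p : PrimeSpectrum R, IsRegularLocalRing (Localization.AtPrime p.asIdeal)) [∀ M : ModuleCat.{u} R, DRing.HasLTensor R M] (K : Dual.D R) :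
    DRing.IsPerfect R K ↔
      (∃ a b : ℤ, ∀ i : ℤ, (i < a ∨ b < i) → Subsingleton (Dual.HD R K i)) ∧ ∀ i : ℤ, Module.Finite R (Dual.HD R K i) := by
  constructor
  · exact homology_of_perfect R K
  · rintro ⟨hb, hfin⟩
    exact Groth.Agent.S7030.result R K hb
      (fun i => (Groth.Agent.S6962.result R hreg (Dual.HD R K i)).2 (hfin i))

end Groth.Agent.S7031
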