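import Groth.Statements.S7035
import Mathlib.Tactic
import Groth.Agent.Lib.Helper43.RelFibre
import Groth.Agent.Lib.Helper43.PerfAmp
import Groth.Agent.Lib.Helper15.PseudoCohRes
import Groth.Agent.S2066
import Mathlib.RingTheory.LocalRing.ResidueField.Ideal
-- import your own Groth.Agent.* helpers here

set_option autoImplicit false
universe u
open CategoryTheory CategoryTheory.Limits
attribute [local instance] HasDerivedCategory.standard
open DRing

namespace Groth.Agent.S7035

open TensorProduct Groth.Agent.Lib.Helper43 Groth.Agent.Lib.Helper84 Groth.Agent.Lib.Helper84.FlatBC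
  Groth.Agent.Lib.Helper84.FlatAmp Groth.Agent.Lib.Helper43.RelFibre

attribute [local instance] Algebra.TensorProduct.rightAlgebra

/-- the map `κ(m ∩ A) ⊗_A B → B/m` for a maximal ideal `m` of `B` -/
lemma exists_chi {A B : Type u} [CommRing A] [CommRing B] [Algebra A B] (m : Ideal B)
    [m.IsMaximal] :
    ∃ χ : (m.comap (algebraMap A B)).ResidueField ⊗[A] B →+* B ⧸ m,
      χ.comp (inclR A B (m.comap (algebraMap A B)).ResidueField) = Ideal.Quotient.mk m := by
  letI : Field (B ⧸ m) := Ideal.Quotient.field m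
  let f₀ : A →ₐ[A] B ⧸ m := Algebra.ofId A (B ⧸ m)
  have hf₀ : ∀ x : A, f₀ x = Ideal.Quotient.mk m (algebraMap A B x) := fun x => rfl
  have hf₁ : m.comap (algebraMap A B) ≤ RingHom.ker f₀ := by
    intro x hx
    rw [RingHom.mem_ker]
    change f₀ x = 0
    rw [hf₀, Ideal.Quotient.eq_zero_iff_mem]
    exact hx
  have hf₂ : (m.comap (algebraMap A B)).primeCompl ≤ (IsUnit.submonoid (B ⧸ m)).comap f₀ := by
    intro x hx
    change IsUnit (f₀ x)
    rw [isUnit_iff_ne_zero, hf₀, Ne, Ideal.Quotient.eq_zero_iff_mem]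
    exact hx
  let g : (m.comap (algebraMap A B)).ResidueField →ₐ[A] B ⧸ m :=
    Ideal.ResidueField.liftₐ (m.comap (algebraMap A B)) f₀ hf₁ hf₂
  let χ₀ : (m.comap (algebraMap A B)).ResidueField ⊗[A] B →ₐ[A] B ⧸ m :=
    Algebra.TensorProduct.lift g (Ideal.Quotient.mkₐ A m) (fun _ _ => Commute.all _ _)
  refine ⟨χ₀.toRingHom, RingHom.ext (fun x => ?_)⟩
  change χ₀ ((1 : (m.comap (algebraMap A B)).ResidueField) ⊗ₜ[A] x) = Ideal.Quotient.mk m x
  rw [Algebra.TensorProduct.lift_tmul, map_one, one_mul]
  rfl

/-- Let A → B be a flat homomorphism of commutative rings and d a natural number such that for every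
prime p of A, with residue field κ(p), every module over κ(p) ⊗_A B has projective dimension at most
d; assume the derived tensor products - ⊗^L M exist on D(κ(p) ⊗_A B) for all p and the derived base
changes D(B) → D(B/m) exist for all ideals m of B. Let a, b be integers and K an object of D(B)
which is pseudo-coherent over B and, with scalars restricted to A, has tor amplitude in [a, b]. Then
K is perfect over B and has tor amplitude in [a - d, b] over B. -/
theorem result {A B : Type u} [CommRing A] [CommRing B] [Algebra A B]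
    [Module.Flat A B] (d : ℕ)
    (hgl : ∀ (p : PrimeSpectrum A) (M : Type u) [AddCommGroup M]
      [Module (TensorProduct A p.asIdeal.ResidueField B) M],
      HasProjectiveDimensionLT (ModuleCat.of (TensorProduct A p.asIdeal.ResidueField B) M) (d + 1))
    [∀ (p : PrimeSpectrum A) (M : ModuleCat.{u} (TensorProduct A p.asIdeal.ResidueField B)),
      DRing.HasLTensor (TensorProduct A p.asIdeal.ResidueField B) M]
    [∀ m : Ideal B, DRing.HasLBaseChange (Ideal.Quotient.mk m)] (a b : ℤ) (K : Dual.D B)
    (hK : DRing.IsPseudoCoherent' B K)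
    (hKa : DRing.HasTorAmplitudeIn A a b ((DRing.restrictD (algebraMap A B)).obj K)) :
    DRing.IsPerfect B K ∧ DRing.HasTorAmplitudeIn B (a - d) b K := by
  obtain ⟨E, b₀, hEb, hEff, ⟨e⟩⟩ := hK
  have hGb : DRing.VanishesAbove ((DRing.restrictCx (algebraMap A B)).obj E) b₀ := fun i hi =>
    CategoryTheory.Functor.map_isZero (ModuleCat.restrictScalars.{u} (algebraMap A B)) (hEb i hi)
  have hGflat : DRing.TermwiseFlat ((DRing.restrictCx (algebraMap A B)).obj E) := fun i => by
    haveI : Module.Free B (E.X i) := (hEff i).2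
    haveI : Module.Flat B ↑((Groth.Agent.Lib.Helper68.TorBaseChange.res A B).obj (E.X i)) :=
      inferInstanceAs (Module.Flat B (E.X i))
    exact Module.Flat.trans A B ↑((Groth.Agent.Lib.Helper68.TorBaseChange.res A B).obj (E.X i))
  have htorG : DRing.HasTorAmplitudeIn A a b
      (DRing.toD ((DRing.restrictCx (algebraMap A B)).obj E)) :=
    torAmp_of_iso hKa ((DRing.restrictD (algebraMap A B)).mapIso e.symm ≪≫
      Groth.Agent.Lib.Helper15.PseudoCohRes.restrictDQIso (algebraMap A B) E)
  have hS : ∀ (p : PrimeSpectrum A) (i : ℤ), (i < a ∨ b < i) →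
      ((extCx (algebraMap A p.asIdeal.ResidueField)).obj
        ((DRing.restrictCx (algebraMap A B)).obj E)).ExactAt i := by
    intro p i hi
    have h2 : DRing.HasTorAmplitudeIn p.asIdeal.ResidueField a b
        (DRing.toD ((extCx (algebraMap A p.asIdeal.ResidueField)).obj
          ((DRing.restrictCx (algebraMap A B)).obj E))) :=
      torAmp_of_iso (Groth.Agent.S6948.result (algebraMap A p.asIdeal.ResidueField) _ a b htorG)
        (Groth.Agent.Lib.Helper15.LBCKFlat.lbcIsoOfFlat _ _ b₀ hGb hGflat)
    rw [HomologicalComplex.exactAt_iff_isZero_homology]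
    refine IsZero.of_iso ?_ (PCHomology.homologyIso _ i).symm
    rcases hi with hi | hi
    · haveI := torAmp_isGE h2
      exact DerivedCategory.isZero_of_isGE _ a i hi
    · haveI := torAmp_isLE h2
      exact DerivedCategory.isZero_of_isLE _ b i hi
  have htorE : DRing.HasTorAmplitudeIn B (a - d) b (DRing.toD E) := by
    refine FibreAmp.torAmp_of_fibres E b₀ hEb hEff (a - d) b ?_
    intro m hm i hi
    haveI := hm
    obtain ⟨χ, hχ⟩ := exists_chi (A := A) m
    exact exactAt_fibre_of_relative (S := (m.comap (algebraMap A B)).ResidueField) E b₀ hEb hEff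
      a b d (hS ⟨m.comap (algebraMap A B), inferInstance⟩)
      (hgl ⟨m.comap (algebraMap A B), inferInstance⟩) m χ hχ i hi
  have htorK := torAmp_of_iso htorE e
  refine ⟨?_, htorK⟩
  obtain ⟨P, h1, h2, h3⟩ := PerfAmp.exists_perfect_amplitude K (a - d) b
    ((Groth.Agent.S2066.result K).1.2 ⟨E, b₀, hEb, hEff, ⟨e⟩⟩ (a - d - 1)) htorK
  exact ⟨P, a - d, b, h1, h2, h3⟩

end Groth.Agent.S7035
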