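import Groth.Statements.S7037
import Groth.Agent.Lib.Helper25.LTensorCxCompute
import Groth.Agent.Lib.Helper25.TensorFin

set_option autoImplicit false
universe u
open CategoryTheory CategoryTheory.Limits
attribute [local instance] HasDerivedCategory.standard
open DRing

namespace Groth.Agent.S7037

/-- Let R be a commutative ring, K a pseudo-coherent object of D(R), and L a cochain complex of
R-modules which is pseudo-coherent as an object of D(R); assume the derived tensor product - ⊗^L_R L
exists on D(R). Then K ⊗^L_R L is pseudo-coherent. -/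
theorem result (R : Type u) [CommRing R] (K : Dual.D R) (hK : DRing.IsPseudoCoherent' R K)
    (L : DRing.Cx R) (hL : DRing.IsPseudoCoherent' R (DRing.toD L)) [DRing.HasLTensorCx R L] :
    DRing.IsPseudoCoherent' R ((DRing.LTensorCx R L).obj K) := by
  obtain ⟨E, b, hE, hEp, ⟨eK⟩⟩ := hK
  obtain ⟨F, b', hF, hFp, ⟨eL⟩⟩ := hL
  have hFflat : Groth.Agent.Lib.Helper25.KFlat.IsKFlat F :=
    Groth.Agent.Lib.Helper25.KFlat.isKFlat_of_boundedAbove_of_flat F b'
      (fun q hq => hF q hq) (fun q => by
        have := (hFp q).2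
        infer_instance)
  obtain ⟨i⟩ := Groth.Agent.Lib.Helper25.LTensorCxCompute.nonempty_iso_of_iso L E hFflat eL
  refine ⟨(MonoidalCategory.tensorObj E F : DRing.Cx R), b + b', ?_, ?_, ⟨i.symm ≪≫ (DRing.LTensorCx R L).mapIso eK⟩⟩
  · intro n hn
    exact Groth.Agent.Lib.Helper25.TensorFin.isZero_tensor_above E F b b' hE hF n hn
  · intro n
    exact ⟨Groth.Agent.Lib.Helper25.TensorFin.finite_tensor E F b b' hE hF
        (fun i => (hEp i).1) (fun i => (hFp i).1) n,
      Groth.Agent.Lib.Helper25.TensorFin.free_tensor E F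
        (fun i => (hEp i).2) (fun i => (hFp i).2) n⟩

end Groth.Agent.S7037
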