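import Groth.Statements.S7038
import Mathlib.RingTheory.Support
import Mathlib.RingTheory.Ideal.Operations
-- import your own Groth.Agent.* helpers here

set_option autoImplicit false
universe u
open LocCoh

namespace Groth.Agent.S7038

/-- For an ideal I of a commutative ring R and an R-module M, if every element of M is killed by a power
of I then the support of M is contained in the closed set V(I); conversely, when I is finitely
generated and the support of M is contained in V(I), every element of M is killed by a power of I.
(Finite generation is used only for the converse.) -/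
theorem result {R : Type u} [CommRing R] (I : Ideal R)
    (M : Type u) [AddCommGroup M] [Module R M] :
    (LocCoh.IsPowerTorsion I M → Module.support R M ⊆ PrimeSpectrum.zeroLocus (I : Set R)) ∧
    (I.FG → Module.support R M ⊆ PrimeSpectrum.zeroLocus (I : Set R) → LocCoh.IsPowerTorsion I M) := by
  refine ⟨fun h p hp => ?_, fun hI hs m => ?_⟩
  · rw [Module.mem_support_iff_exists_annihilator] at hp
    obtain ⟨m, hm⟩ := hp
    obtain ⟨n, hn⟩ := h m
    rw [PrimeSpectrum.mem_zeroLocus]
    have h1 : I ^ n ≤ p.asIdeal := fun a ha => hm (by
      rw [Submodule.mem_annihilator_span_singleton]; exact hn a ha)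
    exact Ideal.IsPrime.le_of_pow_le h1
  · have h1 : Module.support R (Submodule.span R {m}) ⊆ PrimeSpectrum.zeroLocus (I : Set R) :=
      (Module.support_subset_of_injective (Submodule.subtype _) (Submodule.injective_subtype _)).trans hs
    rw [Module.support_eq_zeroLocus, PrimeSpectrum.zeroLocus_subset_zeroLocus_iff] at h1
    obtain ⟨n, hn⟩ := Ideal.exists_pow_le_of_le_radical_of_fg h1 hI
    refine ⟨n, fun a ha => ?_⟩
    have h2 := hn ha
    exact (Submodule.mem_annihilator.mp h2) m (Submodule.mem_span_singleton_self m)

end Groth.Agent.S7038
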