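import Groth.Statements.S7039

set_option autoImplicit false
universe u
open LocCoh

namespace Groth.Agent.S7039

/-- For a finitely generated ideal I of a commutative ring R and any R-module M, the quotient of M by
its submodule of I-power torsion elements has no nonzero element annihilated by I. -/
theorem result {R : Type u} [CommRing R] (I : Ideal R) (hI : I.FG)
    (M : Type u) [AddCommGroup M] [Module R M] :
    LocCoh.torsionBy I (M ⧸ DRing.torsionSub I M) = ⊥ := by
  classical
  rw [eq_bot_iff]
  intro x hx
  obtain ⟨m, rfl⟩ := Submodule.Quotient.mk_surjective _ x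
  rw [Submodule.mem_bot, Submodule.Quotient.mk_eq_zero]
  obtain ⟨s, rfl⟩ := hI
  have h1 : ∀ a ∈ (Ideal.span (s : Set R)), a • m ∈ DRing.torsionSub (Ideal.span (s : Set R)) M := by
    intro a ha
    have := (Submodule.mem_torsionBySet_iff _ _).1 hx ⟨a, ha⟩
    rw [← Submodule.Quotient.mk_eq_zero]
    simpa using this
  choose n hn using h1
  let n' : R → ℕ := fun a => if h : a ∈ Ideal.span (s : Set R) then n a h else 0
  let N := s.sup n'
  have h2 : ∀ c ∈ Ideal.span (s : Set R), ∀ b ∈ (Ideal.span (s : Set R)) ^ N, (b * c) • m = 0 := by
    intro c hc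
    induction hc using Submodule.span_induction with
    | mem a ha =>
      intro b hb
      have ha' : a ∈ Ideal.span (s : Set R) := Ideal.subset_span ha
      have hle : n a ha' ≤ N := by
        have : n' a ≤ N := Finset.le_sup (f := n') ha
        simpa [n', ha'] using this
      rw [mul_smul]
      exact hn a ha' b (Ideal.pow_le_pow_right hle hb)
    | zero => intro b hb; simp
    | add x y hx hy ihx ihy =>
      intro b hb
      rw [mul_add, add_smul, ihx b hb, ihy b hb, add_zero]
    | smul r x hx ih =>
      intro b hb
      rw [smul_eq_mul, mul_left_comm, mul_smul, ih b hb, smul_zero]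
  refine ⟨N + 1, fun a ha => ?_⟩
  rw [pow_succ] at ha
  refine Submodule.mul_induction_on ha (fun b hb c hc => h2 c hc b hb) ?_
  intro x y hx hy
  rw [add_smul, hx, hy, add_zero]

end Groth.Agent.S7039
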