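import Groth.Statements.S7040
import Mathlib.Algebra.Homology.ShortComplex.ModuleCat
import Mathlib.CategoryTheory.Abelian.SerreClass.Basic
-- import your own Groth.Agent.* helpers here

set_option autoImplicit false
universe u
open CategoryTheory
open LocCoh

namespace Groth.Agent.S7040

/-- For a finitely generated ideal I of a commutative ring R, the property of being an I-power torsion
module (every element killed by a power of I) is a Serre class in the category of R-modules: it
holds for 0 and is closed under subobjects, quotients and extensions. -/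
theorem result {R : Type u} [CommRing R] (I : Ideal R) (hI : I.FG) :
    ObjectProperty.IsSerreClass (C := ModuleCat.{u} R) (fun M => LocCoh.IsPowerTorsion I M) := by
  refine { exists_zero := ?_, prop_of_mono := ?_, prop_of_epi := ?_, prop_X₂_of_shortExact := ?_ }
  · refine ⟨ModuleCat.of R PUnit, ModuleCat.isZero_of_subsingleton _, fun m => ⟨0, fun a _ => ?_⟩⟩
    exact Subsingleton.elim _ _
  · intro X Y f hf hY m
    rw [ModuleCat.mono_iff_injective] at hf
    obtain ⟨n, hn⟩ := hY (f m)
    refine ⟨n, fun a ha => hf ?_⟩
    rw [map_smul, hn a ha, map_zero]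
  · intro X Y f hf hX m
    rw [ModuleCat.epi_iff_surjective] at hf
    obtain ⟨x, rfl⟩ := hf m
    obtain ⟨n, hn⟩ := hX x
    refine ⟨n, fun a ha => ?_⟩
    rw [← map_smul, hn a ha, map_zero]
  · intro S hS h₁ h₃ x
    obtain ⟨n, hn⟩ := h₃ (S.g x)
    have hfg : (I ^ n).FG := hI.pow
    obtain ⟨s, hs⟩ := hfg
    have hex := (ShortComplex.moduleCat_exact_iff S).1 hS.exact
    have key : ∀ a ∈ s, ∃ y : S.X₁, S.f y = a • x := by
      intro a ha
      have ha' : a ∈ I ^ n := by rw [← hs]; exact Ideal.subset_span ha
      exact hex (a • x) (by rw [map_smul, hn a ha'])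
    choose! y hy using key
    have key2 : ∀ a : R, ∃ m : ℕ, ∀ b ∈ I ^ m, b • y a = 0 := fun a => h₁ (y a)
    choose mm hmm using key2
    refine ⟨s.sup mm + n, fun c hc => ?_⟩
    rw [pow_add] at hc
    have hle : I ^ s.sup mm * I ^ n ≤ (Submodule.span R {x}).annihilator := by
      rw [Ideal.mul_le]
      intro b hb a ha
      rw [Submodule.mem_annihilator_span_singleton, mul_smul]
      have hle2 : I ^ n ≤ (Submodule.span R {b • x}).annihilator := by
        rw [← hs, Ideal.span_le]
        intro a' ha'
        simp only [SetLike.mem_coe, Submodule.mem_annihilator_span_singleton]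
        rw [smul_comm, ← hy a' ha', ← map_smul,
          hmm a' b (Ideal.pow_le_pow_right (Finset.le_sup ha') hb), map_zero]
      have := hle2 ha
      rw [Submodule.mem_annihilator_span_singleton] at this
      rw [smul_comm]; exact this
    have := hle hc
    rwa [Submodule.mem_annihilator_span_singleton] at this

end Groth.Agent.S7040
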