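import Groth.Statements.S7041
import Mathlib.Algebra.Colimit.TensorProduct
import Mathlib.LinearAlgebra.TensorProduct.Quotient
import Mathlib.RingTheory.Ideal.Quotient.Operations
-- import your own Groth.Agent.* helpers here

set_option autoImplicit false
universe u
open TensorProduct
open LocCoh

namespace Groth.Agent.S7041

/-- Let R → R' be a homomorphism of commutative rings and I an ideal of R such that the induced map
R/I^n → R'/I^n R' is bijective for every n > 0. Then for every R-module M in which every element is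
killed by a power of I, the map M → R' ⊗_R M sending m to 1 ⊗ m is bijective. -/
theorem result {R R' : Type u} [CommRing R] [CommRing R'] [Algebra R R']
    (I : Ideal R)
    (hq : ∀ n : ℕ, 0 < n → Function.Bijective
      (Ideal.quotientMap (Ideal.map (algebraMap R R') (I ^ n)) (algebraMap R R') Ideal.le_comap_map))
    (M : Type u) [AddCommGroup M] [Module R M] (hM : LocCoh.IsPowerTorsion I M) :
    Function.Bijective (fun m : M => (1 : R') ⊗ₜ[R] m) := by
  classical
  have key : ∀ (n : ℕ) (m : M), (∀ a ∈ I ^ n, a • m = 0) →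
      ∀ x ∈ Ideal.map (algebraMap R R') (I ^ n), x ⊗ₜ[R] m = (0 : R' ⊗[R] M) := by
    intro n m hm x hx
    suffices ∀ s : R', (s * x) ⊗ₜ[R] m = (0 : R' ⊗[R] M) by simpa using this 1
    unfold Ideal.map at hx
    induction hx using Submodule.span_induction with
    | mem x hx =>
      obtain ⟨a, ha, rfl⟩ := hx
      intro s
      rw [mul_comm, ← Algebra.smul_def, TensorProduct.smul_tmul, hm a ha, tmul_zero]
    | zero => intro s; simp
    | add x y _ _ hx hy => intro s; rw [mul_add, add_tmul, hx, hy, add_zero]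
    | smul t x _ hx => intro s; rw [smul_eq_mul, ← mul_assoc]; exact hx _
  constructor
  · intro m₁ m₂ h
    have h0 : (1 : R') ⊗ₜ[R] (m₁ - m₂) = 0 := by rw [tmul_sub]; exact sub_eq_zero.mpr h
    suffices hm : m₁ - m₂ = 0 from sub_eq_zero.mp hm
    generalize m₁ - m₂ = m at h0
    let N : Submodule R M := Submodule.span R {m}
    have hmN : m ∈ N := Submodule.mem_span_singleton_self m
    have hNfg : N.FG := Submodule.fg_span_singleton m
    have eq : N.subtype.rTensor R' ((⟨m, hmN⟩ : N) ⊗ₜ[R] (1 : R')) = N.subtype.rTensor R' 0 := by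
      rw [LinearMap.rTensor_tmul, map_zero]
      have := congrArg (TensorProduct.comm R R' M) h0
      simpa using this
    obtain ⟨N', hN'fg, hle, eq'⟩ := hNfg.exists_rTensor_fg_inclusion_eq eq
    rw [LinearMap.rTensor_tmul, map_zero] at eq'
    -- uniform power
    have hunif : ∃ n : ℕ, ∀ a ∈ I ^ n, ∀ x ∈ N', a • x = 0 := by
      obtain ⟨s, hs⟩ := hN'fg
      choose nn hnn using hM
      refine ⟨s.sup nn, fun a ha x hx => ?_⟩
      rw [← hs] at hx
      induction hx using Submodule.span_induction with
      | mem x hx => exact hnn x a (Ideal.pow_le_pow_right (Finset.le_sup hx) ha)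
      | zero => simp
      | add x y _ _ hx hy => rw [smul_add, hx, hy, add_zero]
      | smul t x _ hx => rw [smul_comm, hx, smul_zero]
    obtain ⟨n₀, hn₀⟩ := hunif
    set n := n₀ + 1 with hn_def
    have hn : ∀ a ∈ I ^ n, ∀ x ∈ N', a • x = 0 := fun a ha x hx =>
      hn₀ a (Ideal.pow_le_pow_right (Nat.le_succ n₀) ha) x hx
    have hbot : (I ^ n • (⊤ : Submodule R N')) = ⊥ := by
      rw [eq_bot_iff, Submodule.smul_le]
      intro a ha x _
      rw [Submodule.mem_bot]
      exact Subtype.ext (hn a ha x.1 x.2)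
    let E : (R ⧸ I ^ n) ≃+* (R' ⧸ Ideal.map (algebraMap R R') (I ^ n)) :=
      RingEquiv.ofBijective _ (hq n (Nat.succ_pos n₀))
    have hE : ∀ r : R, E.symm (Ideal.Quotient.mk (Ideal.map (algebraMap R R') (I ^ n)) (algebraMap R R' r)) =
        Ideal.Quotient.mk (I ^ n) r := by
      intro r
      rw [RingEquiv.symm_apply_eq]
      exact (Ideal.quotientMap_mk (J := I ^ n) (I := Ideal.map (algebraMap R R') (I ^ n))
        (f := algebraMap R R') (H := Ideal.le_comap_map) (x := r)).symm
    let ψ : R' →ₗ[R] R ⧸ I ^ n :=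
      { toFun := fun r' => E.symm (Ideal.Quotient.mk (Ideal.map (algebraMap R R') (I ^ n)) r')
        map_add' := fun x y => by simp only [map_add]
        map_smul' := fun r x => by
          simp only [RingHom.id_apply]
          rw [Algebra.smul_def, map_mul, map_mul, hE, Algebra.smul_def]
          rfl }
    have hψ1 : ψ 1 = Ideal.Quotient.mk (I ^ n) 1 := by
      change E.symm (Ideal.Quotient.mk (Ideal.map (algebraMap R R') (I ^ n)) 1) = _
      rw [map_one, map_one, map_one]
    let ρ : N' ⊗[R] R' →ₗ[R] N' ⧸ (I ^ n • (⊤ : Submodule R N')) :=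
      (TensorProduct.tensorQuotEquivQuotSMul N' (I ^ n)).toLinearMap ∘ₗ (LinearMap.lTensor N' ψ)
    have h1 := congrArg ρ eq'
    simp only [ρ, LinearMap.coe_comp, LinearEquiv.coe_coe, Function.comp_apply,
      LinearMap.lTensor_tmul, map_zero] at h1
    rw [hψ1, TensorProduct.tensorQuotEquivQuotSMul_tmul_mk, one_smul,
      Submodule.Quotient.mk_eq_zero, hbot, Submodule.mem_bot] at h1
    simpa using congrArg Subtype.val h1
  · intro z
    induction z using TensorProduct.induction_on with
    | zero => exact ⟨0, by simp⟩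
    | tmul r' m =>
      obtain ⟨n, hn⟩ := hM m
      have hn' : ∀ a ∈ I ^ (n + 1), a • m = 0 := fun a ha =>
        hn a (Ideal.pow_le_pow_right (Nat.le_succ n) ha)
      obtain ⟨q, hq'⟩ := (hq (n + 1) (Nat.succ_pos n)).2 (Ideal.Quotient.mk _ r')
      obtain ⟨r, rfl⟩ := Ideal.Quotient.mk_surjective q
      rw [Ideal.quotientMap_mk, Ideal.Quotient.eq] at hq'
      refine ⟨r • m, ?_⟩
      have := key (n + 1) m hn' _ hq'
      rw [sub_tmul, sub_eq_zero] at this
      change (1 : R') ⊗ₜ[R] (r • m) = r' ⊗ₜ[R] m
      rw [← this, ← TensorProduct.smul_tmul, Algebra.smul_def, mul_one]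
    | add x y hx hy =>
      obtain ⟨a, rfl⟩ := hx
      obtain ⟨b, rfl⟩ := hy
      exact ⟨a + b, by simp [tmul_add]⟩

end Groth.Agent.S7041
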