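import Groth.Statements.S7042
import Groth.Agent.Lib.Helper80.DCompSeq

set_option autoImplicit false
universe u
attribute [local instance] HasDerivedCategory.standard
open DRing

namespace Groth.Agent.S7042

/-- Let I be a finitely generated ideal of a commutative ring A and let M be an A-module which, placed
in degree 0, is derived complete with respect to I, and in which every element is killed by a power
of I. Then a single power of I kills M. -/
theorem result {A : Type u} [CommRing A]
    (I : Ideal A) (hI : I.FG) (M : Type u) [AddCommGroup M] [Module A M]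
    (hc : DRing.IsDerivedComplete I (Dual.inD A M)) (ht : LocCoh.IsPowerTorsion I M) :
    ∃ n : ℕ, I ^ n • (⊤ : Submodule A M) = ⊥ := by
  have hb := (Groth.Agent.Lib.Helper84.DComp.isDerivedComplete_module_iff I M).1 hc
  have h1 : I ≤ (Module.annihilator A M).radical := by
    intro f hf
    obtain ⟨n, hn⟩ := Groth.Agent.Lib.Helper80.DCompSeq.exists_pow_smul_eq_zero (hb f hf)
      (fun m => by
        obtain ⟨n, hn⟩ := ht m
        exact ⟨n, hn _ (Ideal.pow_mem_pow hf n)⟩)
    exact ⟨n, Module.mem_annihilator.2 hn⟩
  obtain ⟨k, hk⟩ := Ideal.exists_pow_le_of_le_radical_of_fg h1 hI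
  refine ⟨k, ?_⟩
  rw [eq_bot_iff, Submodule.smul_le]
  intro a ha m _
  exact (Submodule.mem_bot A).2 (Module.mem_annihilator.1 (hk ha) m)

end Groth.Agent.S7042
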