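import Groth.Statements.S7044
import Groth.Agent.Lib.Helper80.DCompSeq
import Mathlib.RingTheory.Henselian

set_option autoImplicit false
universe u
attribute [local instance] HasDerivedCategory.standard
open DRing

namespace Groth.Agent.S7044

open Groth.Agent.Lib.Helper84.DComp Groth.Agent.Lib.Helper84.DCompAlg Groth.Agent.Lib.Helper80.DCompSeq Polynomial

lemma le_jacobson {A : Type u} [CommRing A] (I : Ideal A)
    (hb : ∀ f ∈ I, SeqBij f A) : I ≤ Ideal.jacobson ⊥ := by
  intro x hx
  rw [Ideal.mem_jacobson_bot]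
  intro y
  have hg : -(x * y) ∈ I := I.neg_mem (I.mul_mem_right _ hx)
  have h := hb _ hg
  have h1 := X_spec h (fun _ => (1 : A)) 0
  have h2 := congrFun (X_shift h (fun _ => (1 : A)) 1) 0
  simp only [zero_add] at h1 h2
  rw [← h2, smul_eq_mul] at h1
  refine IsUnit.of_mul_eq_one (X h (fun _ => (1 : A)) 0) ?_
  linear_combination h1

/-- Let A be a commutative ring and I an ideal of A; if A, regarded as an object of D(A) sitting in
degree 0, is I-adically derived complete, then the pair (A, I) is henselian: I lies in the Jacobson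
radical and simple roots modulo I of monic polynomials lift to roots in A. -/
theorem result {A : Type u} [CommRing A] (I : Ideal A)
    (hc : DRing.IsDerivedComplete I (Dual.inD A A)) : HenselianRing A I := by
  have hb := (isDerivedComplete_module_iff I A).1 hc
  have hjac := le_jacobson I hb
  have := isLocalHom_of_le_jacobson_bot I hjac
  refine ⟨hjac, ?_⟩
  intro P _ a₀ h₁ h₂
  set t : A := P.eval a₀ with ht
  have hbt : SeqBij t A := hb t h₁
  -- units
  have hunit : ∀ b : A, b - a₀ ∈ I → IsUnit (P.derivative.eval b) := by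
    intro b hbI
    apply IsUnit.of_map (Ideal.Quotient.mk I)
    have : Ideal.Quotient.mk I (P.derivative.eval b) = Ideal.Quotient.mk I (P.derivative.eval a₀) := by
      rw [Ideal.Quotient.eq, (P.derivative.evalSubFactor b a₀).2]
      exact I.mul_mem_left _ hbI
    rw [this]
    exact h₂
  -- Newton step: from `b ≡ a₀ mod t` with `t^(n+1) ∣ P b` to `b'` with `t^(n+1) ∣ b' - b`, `t^(n+2) ∣ P b'`
  have hstep : ∀ (n : ℕ) (b : A), (∃ d, b - a₀ = t * d) → (∃ e, P.eval b = t ^ (n + 1) * e) →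
      ∃ b' : A, (∃ d, b' - a₀ = t * d) ∧ (∃ e, P.eval b' = t ^ (n + 2) * e) ∧
        ∃ y, b' - b = t ^ (n + 1) * y := by
    rintro n b ⟨d, hd⟩ ⟨e, he⟩
    have hu : IsUnit (P.derivative.eval b) := hunit b (by rw [hd]; exact I.mul_mem_right _ h₁)
    obtain ⟨v, hv⟩ := hu.exists_right_inv
    obtain ⟨k, hk⟩ := P.binomExpansion b (-(t ^ (n + 1) * e * v))
    refine ⟨b + -(t ^ (n + 1) * e * v), ⟨d - t ^ n * e * v, ?_⟩, ⟨k * t ^ n * e ^ 2 * v ^ 2, ?_⟩,
      ⟨-(e * v), ?_⟩⟩
    · linear_combination hd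
    · rw [hk, he]
      linear_combination (-(t ^ (n + 1) * e)) * hv
    · ring
  -- the Newton sequence
  have hseq : ∃ c : ℕ → A, c 0 = a₀ ∧ ∀ n, (∃ d, c n - a₀ = t * d) ∧
      (∃ e, P.eval (c n) = t ^ (n + 1) * e) ∧ ∃ y, c (n + 1) - c n = t ^ (n + 1) * y := by
    choose! nb h1 h2 h3 using hstep
    let S : (n : ℕ) → {b : A // (∃ d, b - a₀ = t * d) ∧ (∃ e, P.eval b = t ^ (n + 1) * e)} :=
      fun n => Nat.rec ⟨a₀, ⟨0, by simp⟩, ⟨1, by simp [ht]⟩⟩
        (fun n p => ⟨nb n p.1, h1 n p.1 p.2.1 p.2.2, h2 n p.1 p.2.1 p.2.2⟩) n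
    refine ⟨fun n => (S n).1, rfl, fun n => ⟨(S n).2.1, (S n).2.2, ?_⟩⟩
    exact h3 n (S n).1 (S n).2.1 (S n).2.2
  obtain ⟨c, hc0, hcn⟩ := hseq
  choose d hd using fun n => (hcn n).1
  choose e he using fun n => (hcn n).2.1
  choose y hy using fun n => (hcn n).2.2
  -- the limit
  set a : A := a₀ + t * X hbt y 0 with ha
  have hcsum : ∀ n, c n = a₀ + ∑ j ∈ Finset.range n, t ^ (j + 1) * y j := by
    intro n
    induction n with
    | zero => simp [hc0]
    | succ n ih =>
      rw [Finset.sum_range_succ, ← add_assoc, ← ih, ← hy n]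
      ring
  have hac : ∀ n, a - c n = t ^ (n + 1) * X hbt y n := by
    intro n
    have := X_tail hbt y 0 n
    simp only [zero_add, smul_eq_mul] at this
    rw [ha, this, hcsum n, mul_add, Finset.mul_sum]
    have : ∀ j ∈ Finset.range n, t * (t ^ j * y j) = t ^ (j + 1) * y j := fun j _ => by ring
    rw [Finset.sum_congr rfl this]
    ring
  have hPa : ∀ n, ∃ q, P.eval a = t ^ n * q := by
    intro n
    obtain ⟨z, hz⟩ := P.evalSubFactor a (c n)
    refine ⟨t * (z * X hbt y n + e n), ?_⟩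
    have := he n
    rw [hac n] at hz
    linear_combination hz + this
  have hsq : P.eval a * P.eval a = 0 := by
    have := smul_eq_zero_of_forall_dvd hbt (P.eval a) hPa (P.eval a)
      (fun n => by obtain ⟨q, hq⟩ := hPa n; exact ⟨q, by rw [hq, smul_eq_mul]⟩)
    simpa using this
  have haI : a - a₀ ∈ I := by
    rw [ha, add_sub_cancel_left]
    exact I.mul_mem_right _ h₁
  obtain ⟨v, hv⟩ := (hunit a haI).exists_right_inv
  obtain ⟨k, hk⟩ := P.binomExpansion a (-(P.eval a * v))
  refine ⟨a + -(P.eval a * v), ?_, ?_⟩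
  · rw [IsRoot.def, hk]
    linear_combination (-(P.eval a)) * hv + (k * v ^ 2) * hsq
  · have h4 : P.eval a ∈ I := by
      obtain ⟨q, hq⟩ := hPa 1
      rw [hq, pow_one]
      exact I.mul_mem_right _ h₁
    have : a + -(P.eval a * v) - a₀ = (a - a₀) - P.eval a * v := by ring
    rw [this]
    exact I.sub_mem haI (I.mul_mem_right _ h4)

end Groth.Agent.S7044
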