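import Groth.Statements.S7045
import Groth.Agent.Lib.Helper80.DCompSeq

set_option autoImplicit false
universe u
attribute [local instance] HasDerivedCategory.standard
open DRing

namespace Groth.Agent.S7045

open Groth.Agent.Lib.Helper84 Groth.Agent.Lib.Helper84.AwayRes Groth.Agent.Lib.Helper84.DComp
  Groth.Agent.Lib.Helper84.DCompAlg Groth.Agent.Lib.Helper80.DCompSeq

/-- derived completeness passes to the quotient ring `B/(c)` -/
lemma seqBij_quotient {B : Type u} [CommRing B] (c g : B) (h : SeqBij g B) :
    SeqBij (Ideal.Quotient.mk (Ideal.span {c}) g) (B ⧸ Ideal.span {c}) := by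
  constructor
  · rw [injective_iff_map_eq_zero]
    intro xb hxb
    choose x hx using fun k => Ideal.Quotient.mk_surjective (xb k)
    have h1 : ∀ k, ∃ p, g * x (k + 1) - x k = p * c := by
      intro k
      have := congrFun hxb k
      simp only [seqMap, LinearMap.coe_mk, AddHom.coe_mk, Pi.zero_apply, smul_eq_mul] at this
      rw [← hx k, ← hx (k + 1), ← map_mul, ← map_sub, Ideal.Quotient.eq_zero_iff_mem,
        Ideal.mem_span_singleton'] at this
      obtain ⟨p, hp⟩ := this
      exact ⟨p, hp.symm⟩
    choose p hp using h1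
    obtain ⟨q, hq⟩ := h.2 p
    have h2 : seqMap B g (fun k => x k - q k * c) = 0 := by
      ext k
      have := congrFun hq k
      simp only [seqMap, LinearMap.coe_mk, AddHom.coe_mk, smul_eq_mul, Pi.zero_apply] at this ⊢
      linear_combination hp k - c * this
    have h3 : (fun k => x k - q k * c) = 0 := h.1 (h2.trans (map_zero _).symm)
    ext k
    have := congrFun h3 k
    simp only [Pi.zero_apply, sub_eq_zero] at this
    rw [Pi.zero_apply, ← hx k, Ideal.Quotient.eq_zero_iff_mem, this, Ideal.mem_span_singleton']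
    exact ⟨q k, rfl⟩
  · intro yb
    choose y hy using fun k => Ideal.Quotient.mk_surjective (yb k)
    obtain ⟨x, hx⟩ := h.2 y
    refine ⟨fun k => Ideal.Quotient.mk _ (x k), ?_⟩
    ext k
    have := congrFun hx k
    simp only [seqMap, LinearMap.coe_mk, AddHom.coe_mk, smul_eq_mul] at this ⊢
    rw [← hy k, ← this, map_sub, map_mul]

lemma aux (r : ℕ) : ∀ (B : Type u) [CommRing B] (s : Finset B), s.card ≤ r →
    (∀ g ∈ Ideal.span (s : Set B), SeqBij g B) →
    (⨅ n : ℕ, (Ideal.span (s : Set B)) ^ n) ^ (2 ^ r) = ⊥ := by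
  classical
  induction r with
  | zero =>
    intro B _ s hs _
    have : s = ∅ := Finset.card_eq_zero.1 (Nat.le_zero.1 hs)
    subst this
    rw [eq_bot_iff, pow_zero, pow_one]
    refine (iInf_le _ 1).trans ?_
    simp
  | succ r ih =>
    intro B _ s hs hb
    rcases s.eq_empty_or_nonempty with rfl | ⟨f, hf⟩
    · have := ih B ∅ (by simp) hb
      rw [pow_succ, pow_mul, this, ← Ideal.zero_eq_bot, zero_pow two_ne_zero]
    set I := Ideal.span (s : Set B) with hI
    set J := ⨅ n : ℕ, I ^ n with hJ
    set s' := s.erase f with hs'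
    have hcard : s'.card ≤ r := by
      rw [hs', Finset.card_erase_of_mem hf]
      lia
    have hIsup : I = Ideal.span {f} ⊔ Ideal.span (s' : Set B) := by
      rw [hI, ← Ideal.span_union, hs', Finset.coe_erase]
      congr 1
      ext x
      by_cases hx : x = f
      · subst hx; simpa using hf
      · simp [hx]
    have hfI : f ∈ I := Ideal.subset_span hf
    have hbf : SeqBij f B := hb f hfI
    -- `J ^ (2 ^ r)` lies in every `(f^m)`
    have h1 : ∀ m : ℕ, J ^ (2 ^ r) ≤ Ideal.span {f ^ m} := by
      intro m
      set π := Ideal.Quotient.mk (Ideal.span {f ^ m}) with hπ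
      have hπs : Function.Surjective π := Ideal.Quotient.mk_surjective
      have hIH := ih (B ⧸ Ideal.span {f ^ m}) (s'.image π)
        (Finset.card_image_le.trans hcard) (by
          intro gb hgb
          rw [Finset.coe_image, ← Ideal.map_span, Ideal.mem_map_iff_of_surjective π hπs] at hgb
          obtain ⟨g, hg, rfl⟩ := hgb
          refine seqBij_quotient (f ^ m) g (hb g ?_)
          rw [hIsup]
          exact Ideal.mem_sup_right hg)
      rw [Finset.coe_image, ← Ideal.map_span] at hIH
      have h2 : J.map π ≤ ⨅ n : ℕ, (Ideal.map π (Ideal.span (s' : Set B))) ^ n := by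
        refine le_iInf fun n => ?_
        have h3 : J ≤ Ideal.span {f} ^ m ⊔ Ideal.span (s' : Set B) ^ n := by
          refine (iInf_le _ (m + n)).trans ?_
          rw [hIsup]
          exact Ideal.sup_pow_add_le_pow_sup_pow
        refine (Ideal.map_mono h3).trans ?_
        rw [Ideal.map_sup, Ideal.span_singleton_pow, Ideal.map_quotient_self, bot_sup_eq,
          Ideal.map_pow]
      have h4 : (J ^ (2 ^ r)).map π = ⊥ := by
        rw [Ideal.map_pow, eq_bot_iff, ← hIH]
        exact Ideal.pow_right_mono h2 _
      rw [Ideal.map_eq_bot_iff_le_ker, Ideal.mk_ker] at h4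
      exact h4
    rw [pow_succ, pow_mul, pow_two, eq_bot_iff, Ideal.mul_le]
    intro a ha b hb'
    have hdiv : ∀ x ∈ J ^ (2 ^ r), ∀ n : ℕ, ∃ c : B, x = f ^ n * c := by
      intro x hx n
      obtain ⟨c, hc⟩ := Ideal.mem_span_singleton'.1 (h1 n hx)
      exact ⟨c, by rw [← hc, mul_comm]⟩
    have := smul_eq_zero_of_forall_dvd hbf a (hdiv a ha) b (fun n => by
      obtain ⟨c, hc⟩ := hdiv b hb' n
      exact ⟨c, by rw [hc, smul_eq_mul]⟩)
    simpa using this

/-- Let A be a commutative ring which, placed in degree 0 of D(A), is derived complete with respect to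
an ideal I generated by a finite set of r elements. Then the ideal J = ⋂ I^n satisfies J^N = 0 with
N = 2^r. -/
theorem result {A : Type u} [CommRing A] (I : Ideal A)
    (s : Finset A) (hs : Ideal.span (s : Set A) = I)
    (hc : DRing.IsDerivedComplete I (Dual.inD A A)) :
    (⨅ n : ℕ, I ^ n) ^ (2 ^ s.card) = ⊥ := by
  have hb := (isDerivedComplete_module_iff I A).1 hc
  subst hs
  exact aux s.card A s le_rfl hb

end Groth.Agent.S7045
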