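import Groth.Statements.S7046
import Groth.Agent.S7045
import Groth.Agent.S7049

set_option autoImplicit false
universe u
attribute [local instance] HasDerivedCategory.standard
open DRing

namespace Groth.Agent.S7046

/-- A reduced commutative ring A which, placed in degree 0 of D(A), is derived complete with respect to
a finitely generated ideal I is I-adically complete, i.e. separated and complete for the I-adic
topology. -/
theorem result {A : Type u} [CommRing A] [IsReduced A]
    (I : Ideal A) (hI : I.FG) (hc : DRing.IsDerivedComplete I (Dual.inD A A)) :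
    IsAdicComplete I A := by
  have hsurj := Groth.Agent.S7049.result I hI A hc
  obtain ⟨s, hs⟩ := hI
  have hnil := Groth.Agent.S7045.result I s hs hc
  have hJ : (⨅ n : ℕ, I ^ n) = ⊥ := by
    rw [eq_bot_iff]
    intro x hx
    have h1 : x ^ (2 ^ s.card) ∈ (⨅ n : ℕ, I ^ n) ^ (2 ^ s.card) := Ideal.pow_mem_pow hx _
    rw [hnil, Ideal.mem_bot] at h1
    rw [Ideal.mem_bot]
    exact (IsReduced.eq_zero x ⟨_, h1⟩)
  have : IsHausdorff I A := by
    refine ⟨fun x hx => ?_⟩
    have : x ∈ (⨅ n : ℕ, I ^ n) := by
      rw [Ideal.mem_iInf]
      intro n
      have := hx n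
      rw [SModEq.zero, smul_eq_mul, Ideal.mul_top] at this
      exact this
    rw [hJ] at this
    exact this
  exact { toIsHausdorff := inferInstance
          toIsPrecomplete := AdicCompletion.of_surjective_iff.mp hsurj }

end Groth.Agent.S7046
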