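import Groth.Statements.S7047
import Groth.Agent.Lib.Helper84.DComp
import Groth.Agent.S7057

set_option autoImplicit false
universe u
attribute [local instance] HasDerivedCategory.standard
open DRing

namespace Groth.Agent.S7047

open Groth.Agent.Lib.Helper84 AwayRes DCompAlg DComp

/-- if `M` is derived `f^(n+1)`-complete then it is derived `f`-complete -/
lemma seqBij_of_pow {A : Type u} [CommRing A] {M : Type u} [AddCommGroup M] [Module A M]
    (f : A) (n : ℕ) (h : SeqBij (f ^ (n + 1)) M) : SeqBij f M := by
  have hP : SeqBij (f ^ (n + 1)) (ℕ → M) := seqBij_pi M _ h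
  have pow_surj : ∀ (N : Type u) [AddCommGroup N] [Module A N],
      Function.Surjective (fun x : N => f • x) →
      Function.Surjective (fun x : N => f ^ (n + 1) • x) := by
    intro N _ _ hs
    have : ∀ k : ℕ, Function.Surjective (fun x : N => f ^ k • x) := by
      intro k
      induction k with
      | zero => intro x; exact ⟨x, by simp⟩
      | succ k ih =>
        intro x
        obtain ⟨y, hy⟩ := ih x
        obtain ⟨z, hz⟩ := hs y
        refine ⟨z, ?_⟩
        change f ^ (k + 1) • z = x
        rw [pow_succ, mul_smul]
        change f ^ k • (f • z) = x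
        have hz' : f • z = y := hz
        rw [hz']
        exact hy
    exact this (n + 1)
  apply Groth.Agent.S7057.seqBij_of_subsingleton_ker_coker
  · have hK := seqBij_ker (seqMap M f) (f ^ (n + 1)) hP hP
    exact subsingleton_of_smul_surjective (f ^ (n + 1)) hK.1
      (pow_surj _ (Groth.Agent.S7057.smul_surjective_ker f))
  · have hK := seqBij_coker (seqMap M f) (f ^ (n + 1)) hP hP
    exact subsingleton_of_smul_surjective (f ^ (n + 1)) hK.1
      (pow_surj _ (Groth.Agent.S7057.smul_surjective_coker f))

/-- For a commutative ring A and an object K of D(A), the set of elements f of A such that every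
morphism from A_f (placed in degree 0) to any shift K[n] vanishes is a radical ideal of A. -/
theorem result {A : Type u} [CommRing A] (K : Dual.D A) :
    ∃ J : Ideal A, J.IsRadical ∧
      (J : Set A) = {f : A | ∀ n : ℤ, Subsingleton (Dual.inD A (Localization.Away f) ⟶ K⟦n⟧)} := by
  have hmem : ∀ f : A, (∀ n : ℤ, Subsingleton (Dual.inD A (Localization.Away f) ⟶ K⟦n⟧)) ↔
      ∀ i : ℤ, SeqBij f (Dual.HD A K i) := fun f => away_orth_iff f K
  let J : Ideal A :=
    { carrier := {f : A | ∀ i : ℤ, SeqBij f (Dual.HD A K i)}
      add_mem' := fun {a b} ha hb i => Groth.Agent.S7057.seqBij_add a b (ha i) (hb i)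
      zero_mem' := fun i => Groth.Agent.S7057.seqBij_zero
      smul_mem' := fun c {x} hx i => by
        change SeqBij (c * x) _
        exact Groth.Agent.S7057.seqBij_mul c x (hx i) }
  refine ⟨J, ?_, ?_⟩
  · intro f hf
    obtain ⟨n, hn⟩ := hf
    change ∀ i : ℤ, SeqBij f (Dual.HD A K i)
    intro i
    have hn' : ∀ i : ℤ, SeqBij (f ^ n) (Dual.HD A K i) := hn
    cases n with
    | zero =>
      -- `1 ∈ J`, so everything is
      have h1 : SeqBij (f * 1) (Dual.HD A K i) :=
        Groth.Agent.S7057.seqBij_mul f 1 (by simpa using hn' i)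
      simpa using h1
    | succ n => exact seqBij_of_pow f n (hn' i)
  · ext f
    change (∀ i : ℤ, SeqBij f (Dual.HD A K i)) ↔ _
    exact (hmem f).symm

end Groth.Agent.S7047
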