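import Groth.Statements.S7061
-- import your own Groth.Agent.* helpers here
import Groth.Agent.Lib.Helper88.DCompFlat3

set_option autoImplicit false
universe u
attribute [local instance] HasDerivedCategory.standard
open TensorProduct
open CategoryTheory
open DRing

namespace Groth.Agent.S7061

/-- Let A be a Noetherian commutative ring and I an ideal, and assume the derived completion functor
exists. For a finite A-module M and a flat A-module N, the derived completion of M ⊗_A N (placed in
degree 0) has vanishing cohomology in every nonzero degree, and there is an A-linear isomorphism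
from its degree-0 cohomology to the I-adic completion of M ⊗_A N which carries the map M ⊗_A N =
H^0((M ⊗_A N)[0]) → H^0(((M ⊗_A N)[0])^∧) induced by the canonical morphism to the derived
completion to the canonical map from M ⊗_A N to its I-adic completion. -/
theorem result {A : Type u} [CommRing A] [IsNoetherianRing A]
    (I : Ideal A) [DRing.HasDerivedCompletion I]
    (M N : Type u) [AddCommGroup M] [Module A M] [Module.Finite A M] [AddCommGroup N] [Module A N] [Module.Flat A N] :
    (∀ i : ℤ, i ≠ 0 → Subsingleton (Dual.HD A ((DRing.derivedCompletion I).obj (Dual.inD A (M ⊗[A] N))).obj i)) ∧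
      ∃ e : Dual.HD A ((DRing.derivedCompletion I).obj (Dual.inD A (M ⊗[A] N))).obj 0 ≃ₗ[A]
          AdicCompletion I (M ⊗[A] N),
        ∀ x : M ⊗[A] N,
          e ((((DerivedCategory.singleFunctorCompHomologyFunctorIso (ModuleCat.{u} A) 0).inv.app
                (ModuleCat.of A (M ⊗[A] N))) ≫
              (DerivedCategory.homologyFunctor (ModuleCat.{u} A) 0).map
                (DRing.toDerivedCompletion I (Dual.inD A (M ⊗[A] N)))).hom x) =
            AdicCompletion.of I (M ⊗[A] N) x := by
  have hIfg : I.FG := (isNoetherianRing_iff_ideal_fg A).1 inferInstance I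
  have hc := Groth.Agent.Lib.Helper88.DCompFlat3.isRefl_single_of I M N
  haveI := AdicCompletion.isAdicComplete (I := I) (M := M ⊗[A] N) hIfg
  have hcomp : DRing.IsDerivedComplete I (Dual.inD A (AdicCompletion I (M ⊗[A] N))) :=
    (Groth.Agent.Lib.Helper84.DComp.isDerivedComplete_module_iff I _).2
      (fun f hf => Groth.Agent.Lib.Helper84.DCompAlg.seqBij_of_isAdicComplete I _ hf)
  obtain ⟨φ, hφ⟩ := Groth.Agent.Lib.Helper88.DCompRefl3.IsRefl.exists_iso
    (Groth.Agent.Lib.Helper25.DCompRefl.isRefl_unit _ (DRing.derivedCompletionAdj I)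
      (Dual.inD A (M ⊗[A] N))) hc
    ((DRing.derivedCompletion I).obj (Dual.inD A (M ⊗[A] N))).property hcomp
  constructor
  · intro i hi
    have hz : Limits.IsZero ((DerivedCategory.homologyFunctor (ModuleCat.{u} A) i).obj
        (Dual.inD A (AdicCompletion I (M ⊗[A] N)))) := by
      rcases lt_or_gt_of_ne hi with h | h
      · exact DerivedCategory.isZero_of_isGE (Dual.inD A (AdicCompletion I (M ⊗[A] N))) 0 i h
      · exact DerivedCategory.isZero_of_isLE (Dual.inD A (AdicCompletion I (M ⊗[A] N))) 0 i h
    exact Groth.Agent.Lib.Helper84.FlatAmp.subsingleton_HD_of_iso φ.symm i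
      (ModuleCat.subsingleton_of_isZero hz)
  · let e := ((DerivedCategory.homologyFunctor (ModuleCat.{u} A) 0).mapIso φ ≪≫
      (DerivedCategory.singleFunctorCompHomologyFunctorIso (ModuleCat.{u} A) 0).app
        (ModuleCat.of A (AdicCompletion I (M ⊗[A] N)))).toLinearEquiv
    refine ⟨e, fun x => ?_⟩
    have n1 := (DerivedCategory.singleFunctorCompHomologyFunctorIso (ModuleCat.{u} A) 0).inv.naturality
      (ModuleCat.ofHom (AdicCompletion.of I (M ⊗[A] N)))
    have key : (((DerivedCategory.singleFunctorCompHomologyFunctorIso (ModuleCat.{u} A) 0).inv.app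
          (ModuleCat.of A (M ⊗[A] N))) ≫
        (DerivedCategory.homologyFunctor (ModuleCat.{u} A) 0).map
          (DRing.toDerivedCompletion I (Dual.inD A (M ⊗[A] N)))) ≫
        ((DerivedCategory.homologyFunctor (ModuleCat.{u} A) 0).map φ.hom ≫
          (DerivedCategory.singleFunctorCompHomologyFunctorIso (ModuleCat.{u} A) 0).hom.app
            (ModuleCat.of A (AdicCompletion I (M ⊗[A] N)))) =
        ModuleCat.ofHom (AdicCompletion.of I (M ⊗[A] N)) := by
      rw [Category.assoc, ← Category.assoc ((DerivedCategory.homologyFunctor (ModuleCat.{u} A) 0).map _),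
        ← Functor.map_comp, hφ]
      have n2 : (DerivedCategory.singleFunctorCompHomologyFunctorIso (ModuleCat.{u} A) 0).inv.app
            (ModuleCat.of A (M ⊗[A] N)) ≫
          (DerivedCategory.homologyFunctor (ModuleCat.{u} A) 0).map
            ((DerivedCategory.singleFunctor (ModuleCat.{u} A) 0).map
              (ModuleCat.ofHom (AdicCompletion.of I (M ⊗[A] N)))) =
          ModuleCat.ofHom (AdicCompletion.of I (M ⊗[A] N)) ≫
            (DerivedCategory.singleFunctorCompHomologyFunctorIso (ModuleCat.{u} A) 0).inv.app
              (ModuleCat.of A (AdicCompletion I (M ⊗[A] N))) := n1.symm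
      rw [← Category.assoc, n2, Category.assoc, Iso.inv_hom_id_app]
      exact Category.comp_id _
    exact congrArg (fun t => t.hom x) key

end Groth.Agent.S7061
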