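import Groth.Statements.S7065
import Mathlib.RingTheory.Spectrum.Prime.Topology
-- import your own Groth.Agent.* helpers here

set_option autoImplicit false
universe u
open EtGlue

namespace Groth.Agent.S7065

/-- Let R → R' be a homomorphism of commutative rings and f an element of R such that the induced map
R/fR → R'/fR' is bijective. Then Spec(R') ⊔ Spec(R_f) → Spec(R) is surjective: every prime of R is
the contraction of a prime of R' or of a prime of R_f. -/
theorem result {R R' : Type u} [CommRing R] [CommRing R']
    [Algebra R R'] (f : R)
    (hq : Function.Bijective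
      (Ideal.quotientMap (Ideal.map (algebraMap R R') (Ideal.span {f})) (algebraMap R R') Ideal.le_comap_map))
    (p : PrimeSpectrum R) :
    (∃ q : PrimeSpectrum R', PrimeSpectrum.comap (algebraMap R R') q = p) ∨
      ∃ q : PrimeSpectrum (Localization.Away f), PrimeSpectrum.comap (algebraMap R (Localization.Away f)) q = p := by
  by_cases hf : f ∈ p.asIdeal
  · left
    set J : Ideal R := Ideal.span {f} with hJ
    set J' : Ideal R' := Ideal.map (algebraMap R R') J with hJ'
    set ψ := Ideal.quotientMap J' (algebraMap R R') Ideal.le_comap_map with hψ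
    have hp : p ∈ Set.range (PrimeSpectrum.comap (Ideal.Quotient.mk J)) := by
      rw [range_comap_of_surjective _ _ Ideal.Quotient.mk_surjective,
        Ideal.mk_ker, PrimeSpectrum.mem_zeroLocus, hJ]
      intro x hx
      rw [SetLike.mem_coe, Ideal.mem_span_singleton] at hx
      exact Ideal.mem_of_dvd _ hx hf
    obtain ⟨p₁, rfl⟩ := hp
    let e := RingEquiv.ofBijective ψ hq
    let p₂ : PrimeSpectrum (R' ⧸ J') := PrimeSpectrum.comap e.symm.toRingHom p₁
    have h2 : PrimeSpectrum.comap ψ p₂ = p₁ := by
      apply PrimeSpectrum.ext
      ext x
      simp only [p₂, PrimeSpectrum.comap_asIdeal, Ideal.mem_comap]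
      have : e.symm.toRingHom (ψ x) = x := e.symm_apply_apply x
      rw [this]
    refine ⟨PrimeSpectrum.comap (Ideal.Quotient.mk J') p₂, ?_⟩
    rw [← PrimeSpectrum.comap_comp_apply,
      ← Ideal.quotientMap_comp_mk (J := J) (I := J') (f := algebraMap R R') Ideal.le_comap_map,
      PrimeSpectrum.comap_comp_apply, ← hψ, h2]
  · right
    have : p ∈ Set.range (PrimeSpectrum.comap (algebraMap R (Localization.Away f))) := by
      rw [PrimeSpectrum.localization_away_comap_range (Localization.Away f) f]
      exact hf
    exact this

end Groth.Agent.S7065
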