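import Groth.Statements.S7066
import Mathlib.Tactic
import Groth.Agent.Lib.Helper43.PolyTorAmp
import Groth.Agent.Lib.Helper43.FibreAmp
import Groth.Agent.S6954
-- import your own Groth.Agent.* helpers here

set_option autoImplicit false
universe u
attribute [local instance] HasDerivedCategory.standard
open MoreMor

namespace Groth.Agent.S7066

/-- A homomorphism of commutative rings A → B is perfect, i.e. pseudo-coherent with B of finite tor
dimension as an A-module, if and only if B is a quotient of a polynomial ring A[x_1, …, x_n] over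
which B is a perfect module, i.e. B placed in degree 0 is isomorphic in the derived category of the
polynomial ring to a bounded complex of finite projective modules. -/
theorem result (A B : Type u) [CommRing A] [CommRing B] [Algebra A B] :
    MoreMor.IsPerfectHom A B ↔
      ∃ (n : ℕ) (φ : MvPolynomial (Fin n) A →ₐ[A] B), Function.Surjective φ ∧
        letI := φ.toRingHom.toAlgebra
        DRing.IsPerfectModule (MvPolynomial (Fin n) A) B := by
  constructor
  · rintro ⟨⟨n, φ, hφ, hpc⟩, d, hd⟩
    refine ⟨n, φ, hφ, ?_⟩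
    letI alg : Algebra (MvPolynomial (Fin n) A) B := φ.toRingHom.toAlgebra
    haveI : IsScalarTower A (MvPolynomial (Fin n) A) B := ⟨fun a p b => by
      change φ (a • p) * b = a • (φ p * b)
      rw [map_smul, smul_mul_assoc]⟩
    have h1 := (Groth.Agent.S6946.result A B d).1.1 hd
    have h2 := Groth.Agent.Lib.Helper43.PolyTor.torAmp_mvPolynomial A n B (-(d : ℤ)) h1
    exact (Groth.Agent.S6954.result (MvPolynomial (Fin n) A) _).2 ⟨hpc, _, _, h2⟩
  · rintro ⟨n, φ, hφ, hperf⟩
    letI alg : Algebra (MvPolynomial (Fin n) A) B := φ.toRingHom.toAlgebra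
    haveI : IsScalarTower A (MvPolynomial (Fin n) A) B := ⟨fun a p b => by
      change φ (a • p) * b = a • (φ p * b)
      rw [map_smul, smul_mul_assoc]⟩
    obtain ⟨hpc, a, b, hab⟩ := (Groth.Agent.S6954.result (MvPolynomial (Fin n) A) _).1 hperf
    refine ⟨⟨n, φ, hφ, hpc⟩, ?_⟩
    have hB : DRing.HasTorAmplitudeIn A (-((0 : ℕ) : ℤ)) 0 (Dual.inD A (MvPolynomial (Fin n) A)) :=
      (Groth.Agent.S6946.result A (MvPolynomial (Fin n) A) 0).1.1
        ((Groth.Agent.S6946.result A (MvPolynomial (Fin n) A) 0).2.2 inferInstance)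
    have h2 := Groth.Agent.S6947.result 0 hB (Dual.inD (MvPolynomial (Fin n) A) B) a b hab
    have h3 := Groth.Agent.Lib.Helper84.FlatAmp.torAmp_of_iso h2
      (Groth.Agent.Lib.Helper43.RestrictSingle.restrictSingleIso A (MvPolynomial (Fin n) A) B)
    haveI : (Dual.inD A B).IsLE 0 := by
      dsimp only [Dual.inD]
      infer_instance
    have h4 := Groth.Agent.Lib.Helper43.FibreAmp.torAmp_of_isLE h3 0
    refine ⟨(-a).toNat, (Groth.Agent.S6946.result A B _).1.2 ?_⟩
    refine Groth.Agent.Lib.Helper84.FlatAmp.torAmp_mono h4 ?_ le_rfl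
    have := Int.self_le_toNat (-a)
    push_cast
    lia

end Groth.Agent.S7066
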