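import Groth.Statements.S7069
import Groth.Agent.S7067
import Groth.Agent.Lib.Helper43.TorDim
import Groth.Agent.Lib.Helper43.RegGlDim
import Groth.Agent.Lib.Helper84.FlatAmpDim

set_option autoImplicit false
universe u
attribute [local instance] HasDerivedCategory.standard
open MoreMor

namespace Groth.Agent.S7069

/-- A finite type homomorphism of commutative rings A → B, where A is a regular ring of finite Krull
dimension, is perfect: pseudo-coherent with B of finite tor dimension as an A-module. -/
theorem result (A B : Type u) [CommRing A] [CommRing B] [Algebra A B]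
    [IsRegularRing A] (hdim : ringKrullDim A < ⊤) [Algebra.FiniteType A B] : MoreMor.IsPerfectHom A B := by
  refine ⟨Groth.Agent.S7067.result A B, ?_⟩
  by_cases htriv : Subsingleton A
  · refine ⟨0, fun N _ _ p _ => ?_⟩
    exact Module.subsingleton A _
  · haveI : Nontrivial A := not_subsingleton_iff_nontrivial.1 htriv
    obtain ⟨d, hd⟩ : ∃ d : ℕ, ringKrullDim A = d := by
      have h0 : ringKrullDim A ≠ ⊥ := ne_of_gt (lt_of_lt_of_le (WithBot.bot_lt_coe 0)
        ringKrullDim_nonneg_of_nontrivial)
      obtain ⟨e, he⟩ := WithBot.ne_bot_iff_exists.1 h0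
      have h1 : e ≠ ⊤ := by
        rintro rfl
        rw [← he] at hdim
        exact lt_irrefl _ hdim
      obtain ⟨d, rfl⟩ := ENat.ne_top_iff_exists.1 h1
      exact ⟨d, he.symm⟩
    refine ⟨d, fun N _ _ p hp => ?_⟩
    have h1 := Groth.Agent.Lib.Helper43.RegGlDim.glDim_le A (fun p => inferInstance) d hd B
    have h2 := Groth.Agent.Lib.Helper84.FlatAmp.torAmp_single_of_hasProjectiveDimensionLT d _ h1
    exact ModuleCat.subsingleton_of_isZero
      (Groth.Agent.Lib.Helper43.TorDim.isZero_T_of_hasTorAmplitudeIn_single (ModuleCat.of A B) d h2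
        (ModuleCat.of A N) p hp)

end Groth.Agent.S7069
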