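import Groth.Statements.S7073
import Mathlib.Tactic
import Groth.Agent.Lib.Helper43.PerfAmp
import Groth.Agent.Lib.Helper15.PseudoCohRes
import Groth.Agent.Lib.Helper68.TorBaseChange
import Groth.Agent.S2066
-- import your own Groth.Agent.* helpers here

set_option autoImplicit false
universe u
attribute [local instance] HasDerivedCategory.standard
open Dual2

namespace Groth.Agent.S7073

/-- For a flat homomorphism of finite presentation R → A of commutative rings, every perfect object of
D(A) is R-perfect, i.e. pseudo-coherent over A and of finite tor dimension as a complex of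
R-modules. -/
theorem result (R A : Type u) [CommRing R] [CommRing A] [Algebra R A]
    [Module.Flat R A] [Algebra.FinitePresentation R A] (K : Dual.D A) (hK : DRing.IsPerfect A K) :
    Dual2.IsRelPerfect R A K := by
  refine ⟨(Groth.Agent.S2066.result K).1.1
    (Groth.Agent.Lib.Helper43.PerfAmp.pcAll_of_isPerfect hK), ?_⟩
  obtain ⟨E, a, b, hE, hfp, ⟨e⟩⟩ := hK
  refine ⟨a, b, (DRing.restrictCx (algebraMap R A)).obj E, fun i hi =>
    CategoryTheory.Functor.map_isZero (ModuleCat.restrictScalars.{u} (algebraMap R A)) (hE i hi), fun i => ?_,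
    ⟨(Groth.Agent.Lib.Helper15.PseudoCohRes.restrictDQIso (algebraMap R A) E).symm ≪≫
      (DRing.restrictD (algebraMap R A)).mapIso e⟩⟩
  haveI : Module.Projective A (E.X i) := (hfp i).2
  haveI : Module.Flat A ↑((Groth.Agent.Lib.Helper68.TorBaseChange.res R A).obj (E.X i)) :=
    inferInstanceAs (Module.Flat A (E.X i))
  exact Module.Flat.trans R A ↑((Groth.Agent.Lib.Helper68.TorBaseChange.res R A).obj (E.X i))

end Groth.Agent.S7073
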