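import Groth.Statements.S7075
import Groth.Agent.Lib.Helper84.RelPerfBC

set_option autoImplicit false
universe u
attribute [local instance] HasDerivedCategory.standard
open TensorProduct
open Dual2

namespace Groth.Agent.S7075

/-- Let R → A be a flat homomorphism of finite presentation of commutative rings, R → R' any ring map
and A' = R' ⊗_R A. If K in D(A) is R-perfect then its derived base change K ⊗^L_A A' (the total left
derived functor of extension of scalars, assumed to exist) is R'-perfect in D(A'). -/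
theorem result (R A R' : Type u) [CommRing R] [CommRing A] [Algebra R A] [CommRing R'] [Algebra R R']
    [Module.Flat R A] [Algebra.FinitePresentation R A]
    [DRing.HasLBaseChange (Algebra.TensorProduct.includeRight.toRingHom : A →+* R' ⊗[R] A)]
    (K : Dual.D A) (hK : Dual2.IsRelPerfect R A K) :
    Dual2.IsRelPerfect R' (R' ⊗[R] A)
      ((DRing.LBaseChange (Algebra.TensorProduct.includeRight.toRingHom : A →+* R' ⊗[R] A)).obj K) := by
  obtain ⟨⟨E, b0, hb0, hff, ⟨e⟩⟩, a, b, hT⟩ := hK
  have hfl : ∀ i : ℤ, Module.Flat A (E.X i) := fun i => by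
    haveI := (hff i).2
    infer_instance
  refine ⟨⟨Groth.Agent.Lib.Helper15.LDerived.extCx _ E, b0, ?_, ?_,
    ⟨(Groth.Agent.Lib.Helper15.LBCKFlat.lbcIsoOfFlat _ E b0 hb0 hfl).symm ≪≫
      (DRing.LBaseChange _).mapIso e⟩⟩, a, b, ?_⟩
  · intro i hi
    exact CategoryTheory.Functor.map_isZero (ModuleCat.extendScalars.{u, u, u} _) (hb0 i hi)
  · intro i
    exact Groth.Agent.Lib.Helper84.NilPC.finiteFree_extendScalars _ _ (hff i)
  · have h1 : DRing.HasTorAmplitudeIn R a b
        ((DRing.restrictD (algebraMap R A)).obj (DRing.toD E)) :=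
      Groth.Agent.Lib.Helper84.FlatAmp.torAmp_of_iso hT
        ((DRing.restrictD (algebraMap R A)).mapIso e.symm)
    have h2 := Groth.Agent.Lib.Helper84.RelPerfBC.torAmp_lbaseChange (algebraMap R R') _ a b h1
    have h3 := Groth.Agent.Lib.Helper84.FlatAmp.torAmp_of_iso h2
      (Groth.Agent.Lib.Helper84.RelPerfBC.resLbcIso R R' A E b0 hb0 hfl).symm
    exact Groth.Agent.Lib.Helper84.FlatAmp.torAmp_of_iso h3
      ((DRing.restrictD (algebraMap R' (R' ⊗[R] A))).mapIso ((DRing.LBaseChange _).mapIso e))

end Groth.Agent.S7075
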