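import Groth.Statements.S7076
import Groth.Agent.Lib.Helper84.RelPerfBC
import Groth.Agent.S6971

set_option autoImplicit false
universe u
attribute [local instance] HasDerivedCategory.standard
open TensorProduct
open Dual2

namespace Groth.Agent.S7076

/-- Let R' → A' be a flat homomorphism of finite presentation of commutative rings, R' → R a surjective
homomorphism of rings with nilpotent kernel, A = R ⊗_{R'} A', and K' an object of D(A'). If the
derived base change K' ⊗^L_{A'} A (total left derived functor of extension of scalars, assumed to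
exist) is R-perfect in D(A), then K' is R'-perfect in D(A'). -/
theorem result (R' A' R : Type u) [CommRing R'] [CommRing A'] [Algebra R' A']
    [CommRing R] [Algebra R' R] [Module.Flat R' A'] [Algebra.FinitePresentation R' A']
    (hs : Function.Surjective (algebraMap R' R)) (hn : IsNilpotent (RingHom.ker (algebraMap R' R)))
    [DRing.HasLBaseChange (Algebra.TensorProduct.includeRight.toRingHom : A' →+* R ⊗[R'] A')]
    (K' : Dual.D A')
    (hK : Dual2.IsRelPerfect R (R ⊗[R'] A')
      ((DRing.LBaseChange (Algebra.TensorProduct.includeRight.toRingHom : A' →+* R ⊗[R'] A')).obj K')) :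
    Dual2.IsRelPerfect R' A' K' := by
  let ψ : A' →+* R ⊗[R'] A' := Algebra.TensorProduct.includeRight.toRingHom
  have hψ : Function.Surjective ψ := by
    intro t
    obtain ⟨m, hm⟩ := Groth.Agent.Lib.Helper84.NilFinite.exists_one_tmul (R := R) A' hs t
    exact ⟨m, hm.symm⟩
  have hker : RingHom.ker ψ ≤ Ideal.map (algebraMap R' A') (RingHom.ker (algebraMap R' R)) := by
    intro x hx
    have h0 : (1 : R) ⊗ₜ[R'] x = 0 := hx
    have h1 := Groth.Agent.Lib.Helper84.NilFinite.mem_smul_top_of_one_tmul_eq_zero (R := R) A' hs x h0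
    refine Submodule.smul_induction_on h1 ?_ ?_
    · intro r hr a _
      rw [Algebra.smul_def]
      exact Ideal.mul_mem_right _ _ (Ideal.mem_map_of_mem _ hr)
    · intro x y hx hy
      exact add_mem hx hy
  have hnil : IsNilpotent (RingHom.ker ψ) := by
    obtain ⟨n, hn'⟩ := hn
    refine ⟨n, ?_⟩
    rw [Ideal.zero_eq_bot, eq_bot_iff]
    refine le_trans (Ideal.pow_right_mono hker n) ?_
    rw [← Ideal.map_pow, hn', Ideal.zero_eq_bot, Ideal.map_bot]
  obtain ⟨hpc, a, b, hT⟩ := hK
  have hpc' : DRing.IsPseudoCoherent' A' K' := (Groth.Agent.S6971.result ψ hψ hnil K').1 hpc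
  refine ⟨hpc', a, b, ?_⟩
  obtain ⟨E, b0, hb0, hff, ⟨e⟩⟩ := hpc'
  have hfl : ∀ i : ℤ, Module.Flat A' (E.X i) := fun i => by
    haveI := (hff i).2
    infer_instance
  have h1 : DRing.HasTorAmplitudeIn R a b
      ((DRing.restrictD (algebraMap R (R ⊗[R'] A'))).obj ((DRing.LBaseChange ψ).obj (DRing.toD E))) :=
    Groth.Agent.Lib.Helper84.FlatAmp.torAmp_of_iso hT
      ((DRing.restrictD (algebraMap R (R ⊗[R'] A'))).mapIso ((DRing.LBaseChange ψ).mapIso e.symm))
  have h2 := Groth.Agent.Lib.Helper84.FlatAmp.torAmp_of_iso h1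
    (Groth.Agent.Lib.Helper84.RelPerfBC.resLbcIso R' R A' E b0 hb0 hfl)
  have h3 := Groth.Agent.Lib.Helper84.NilTorAmp.torAmp_of_lbaseChange (algebraMap R' R) hs hn _ a b h2
  exact Groth.Agent.Lib.Helper84.FlatAmp.torAmp_of_iso h3
    ((DRing.restrictD (algebraMap R' A')).mapIso e)

end Groth.Agent.S7076
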