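import Groth.Statements.S7077
import Groth.Agent.Lib.Helper84.DRingBasic
import Mathlib.Algebra.Category.ModuleCat.Projective

set_option autoImplicit false
universe u
attribute [local instance] HasDerivedCategory.standard
open CategoryTheory
open DRing

namespace Groth.Agent.S7077

/-- (1)⇔(2): let R be a commutative ring and K an object of D(R) whose cohomology modules vanish outside
degrees -1 and 0. Then H^{-1}(K) vanishes and H^0(K) is a projective R-module if and only if
Ext^1_R(K, M) = Hom_{D(R)}(K, M[1]) vanishes for every R-module M. -/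
theorem result {R : Type u} [CommRing R] (K : Dual.D R)
    (hK : ∀ i : ℤ, i ≠ -1 → i ≠ 0 → Subsingleton (Dual.HD R K i)) :
    (Subsingleton (Dual.HD R K (-1)) ∧ Module.Projective R (Dual.HD R K 0)) ↔
      ∀ (M : Type u) [AddCommGroup M] [Module R M], Subsingleton (K ⟶ (Dual.inD R M)⟦(1 : ℤ)⟧) := by
  open CategoryTheory.Pretriangulated CategoryTheory.Triangulated DerivedCategory
    Groth.Agent.Lib.Helper84.DerivedT Groth.Agent.Lib.Helper84.DRingBasic in
  let t : TStructure (Dual.D R) := TStructure.t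
  have hLE : K.IsLE 0 := isLE_zero_of_twoTerm K hK
  have hGE : K.IsGE (-1) := isGE_neg_one_of_twoTerm K hK
  constructor
  · rintro ⟨h1, h0⟩ M _ _
    have hGE0 : K.IsGE 0 := by
      apply isGE_of_subsingleton K 0
      intro i hi
      by_cases hi' : i = -1
      · subst hi'; exact h1
      · exact hK i hi' (by lia)
    obtain ⟨Y, ⟨e⟩⟩ := exists_iso_singleFunctor_obj_of_isGE_of_isLE K 0
    have eY : (homologyFunctor (ModuleCat.{u} R) 0).obj K ≅ Y :=
      (homologyFunctor (ModuleCat.{u} R) 0).mapIso e ≪≫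
        (singleFunctorCompHomologyFunctorIso (ModuleCat.{u} R) 0).app Y
    have hP : Projective ((homologyFunctor (ModuleCat.{u} R) 0).obj K) :=
      (IsProjective.iff_projective (R := R) (P := Dual.HD R K 0)).1 h0
    have hPY : Projective Y := Projective.of_iso eY hP
    have : t.IsLE ((Dual.inD R M)⟦(1 : ℤ)⟧) (-1) := t.isLE_shift (Dual.inD R M) 0 1 (-1)
    refine ⟨fun x y => ?_⟩
    have hx : e.inv ≫ x = 0 := from_single_projective_eq_zero 0 (-1) (by lia) _ _
    have hy : e.inv ≫ y = 0 := from_single_projective_eq_zero 0 (-1) (by lia) _ _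
    rw [← cancel_epi e.inv, hx, hy]
  · intro h
    -- the truncation triangle
    have hT := t.triangleLTGE_distinguished 0 K
    have hA1 : t.IsLE ((t.truncLT 0).obj K) (-1) := t.isLE_truncLT_obj K 0 (-1)
    have hA2 : t.IsGE ((t.truncLT 0).obj K) (-1) := inferInstance
    have hB1 : t.IsGE ((t.truncGE 0).obj K) 0 := inferInstance
    have hB2 : t.IsLE ((t.truncGE 0).obj K) 0 := inferInstance
    obtain ⟨Y, ⟨eB⟩⟩ := exists_iso_singleFunctor_obj_of_isGE_of_isLE ((t.truncGE 0).obj K) 0
    -- claim 1 : Y is projective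
    have hPY : Projective Y := by
      apply projective_of_subsingleton_hom_shift_one
      intro M
      refine ⟨fun x y => ?_⟩
      suffices H : ∀ z : (singleFunctor (ModuleCat.{u} R) 0).obj Y ⟶
          ((singleFunctor (ModuleCat.{u} R) 0).obj M)⟦(1 : ℤ)⟧, z = 0 by rw [H x, H y]
      intro z
      have hz : (t.truncGEπ 0).app K ≫ eB.hom ≫ z = 0 :=
        (h M).elim _ _
      obtain ⟨g, hg⟩ := Triangle.yoneda_exact₃ _ hT (eB.hom ≫ z) hz
      have hg0 : g = 0 := by
        refine t.zero_of_isLE_of_isGE g (-2) (-1) (by lia) ?_ ?_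
        · exact t.isLE_shift ((t.truncLT 0).obj K) (-1) 1 (-2)
        · exact t.isGE_shift ((singleFunctor (ModuleCat.{u} R) 0).obj M) 0 1 (-1)
      rw [hg0, Limits.comp_zero] at hg
      exact (cancel_epi eB.hom).1 (hg.trans Limits.comp_zero.symm)
    -- claim 2 : the truncation `τ_{<0} K` is zero
    have hA0 : Limits.IsZero ((t.truncLT 0).obj K) := by
      have hs1 : t.IsLE (((t.truncLT 0).obj K)⟦(-1 : ℤ)⟧) 0 :=
        t.isLE_shift ((t.truncLT 0).obj K) (-1) (-1) 0
      have hs2 : t.IsGE (((t.truncLT 0).obj K)⟦(-1 : ℤ)⟧) 0 :=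
        t.isGE_shift ((t.truncLT 0).obj K) (-1) (-1) 0
      obtain ⟨N, ⟨eA⟩⟩ := exists_iso_singleFunctor_obj_of_isGE_of_isLE
        (((t.truncLT 0).obj K)⟦(-1 : ℤ)⟧) 0
      let x : (t.truncLT 0).obj K ≅ ((singleFunctor (ModuleCat.{u} R) 0).obj N)⟦(1 : ℤ)⟧ :=
        (shiftNegShift ((t.truncLT 0).obj K) (1 : ℤ)).symm ≪≫ (shiftFunctor _ (1 : ℤ)).mapIso eA
      -- the map `B⟦-1⟧ ⟶ A` vanishes
      have hT' := inv_rot_of_distTriang _ hT
      have hm : ((t.triangleLTGE 0).obj K).invRotate.mor₁ = 0 := by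
        have hs3 : t.IsLE ((t.truncLT 0).obj K) 0 := t.isLE_of_le _ (-1) 0
        have e1 : ((singleFunctor (ModuleCat.{u} R) 0).obj Y)⟦(-1 : ℤ)⟧ ≅
            (singleFunctor (ModuleCat.{u} R) 1).obj Y :=
          ((singleFunctors (ModuleCat.{u} R)).shiftIso (-1) 1 0 (by lia)).app Y
        have e2 : ((t.truncGE 0).obj K)⟦(-1 : ℤ)⟧ ≅ (singleFunctor (ModuleCat.{u} R) 1).obj Y :=
          (shiftFunctor _ (-1 : ℤ)).mapIso eB ≪≫ e1
        have : e2.inv ≫ ((t.triangleLTGE 0).obj K).invRotate.mor₁ = 0 := by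
          haveI : t.IsLE (((t.triangleLTGE 0).obj K).invRotate.obj₂) 0 := hs3
          exact from_single_projective_eq_zero 1 0 (by lia) _ _
        exact (cancel_epi e2.inv).1 (this.trans Limits.comp_zero.symm)
      obtain ⟨g, hg⟩ := Triangle.yoneda_exact₂ _ hT' x.hom (by rw [hm, Limits.zero_comp])
      have hg0 : g = 0 := (h N).elim _ _
      rw [hg0, Limits.comp_zero] at hg
      have hx0 : x.hom = 0 := hg
      rw [Limits.IsZero.iff_id_eq_zero, ← x.hom_inv_id, hx0, Limits.zero_comp]
    constructor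
    · have := isIso_homologyMap_truncLTι K 0 (-1) (by lia)
      have hz : Limits.IsZero ((homologyFunctor (ModuleCat.{u} R) (-1)).obj K) :=
        Limits.IsZero.of_iso (((homologyFunctor (ModuleCat.{u} R) (-1)).map_isZero hA0))
          (asIso ((homologyFunctor (ModuleCat.{u} R) (-1)).map ((t.truncLTι 0).app K))).symm
      exact ModuleCat.subsingleton_of_isZero hz
    · have := isIso_homologyMap_truncGEπ K 0 0 le_rfl
      have eY : (homologyFunctor (ModuleCat.{u} R) 0).obj K ≅ Y :=
        asIso ((homologyFunctor (ModuleCat.{u} R) 0).map ((t.truncGEπ 0).app K)) ≪≫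
        (homologyFunctor (ModuleCat.{u} R) 0).mapIso eB ≪≫
          (singleFunctorCompHomologyFunctorIso (ModuleCat.{u} R) 0).app Y
      have hP : Projective ((homologyFunctor (ModuleCat.{u} R) 0).obj K) :=
        Projective.of_iso eY.symm hPY
      exact (IsProjective.iff_projective (R := R) (P := Dual.HD R K 0)).2 hP

end Groth.Agent.S7077
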