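import Groth.Statements.S7078
import Groth.Agent.Lib.Helper84.DRingBasic
import Groth.Agent.Lib.Helper84.TwoTerm
import Mathlib.Algebra.Category.ModuleCat.Projective
import Mathlib.Algebra.Category.ModuleCat.EpiMono
import Mathlib.LinearAlgebra.FreeModule.Basic

set_option autoImplicit false
universe u
attribute [local instance] HasDerivedCategory.standard
open CategoryTheory
open DRing

namespace Groth.Agent.S7078

/-- For a commutative ring R and an object K of D(R) whose cohomology modules vanish outside degrees -1
and 0, K is represented by a two-term complex K^{-1} → K^0 with K^0 a free R-module. -/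
theorem result {R : Type u} [CommRing R] (K : Dual.D R)
    (hK : ∀ i : ℤ, i ≠ -1 → i ≠ 0 → Subsingleton (Dual.HD R K i)) :
    ∃ E : DRing.Cx R, DRing.VanishesOutside E (-1) 0 ∧ Module.Free R (E.X 0) ∧ Nonempty (DRing.toD E ≅ K) := by
  open DerivedCategory Groth.Agent.Lib.Helper84.TwoTerm Groth.Agent.Lib.Helper84.DRingBasic in
  have hLE : K.IsLE 0 := isLE_zero_of_twoTerm K hK
  have hGE : K.IsGE (-1) := isGE_neg_one_of_twoTerm K hK
  let H : ModuleCat.{u} R := (homologyFunctor (ModuleCat.{u} R) 0).obj K
  let F : ModuleCat.{u} R := ModuleCat.of R (H →₀ R)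
  let u₀ : F ⟶ H := ModuleCat.ofHom (Finsupp.linearCombination R (id : H → H))
  have hu₀ : Epi u₀ := (ModuleCat.epi_iff_surjective _).2 (Finsupp.linearCombination_id_surjective R H)
  have hF : Projective F :=
    (IsProjective.iff_projective (R := R) (P := (H →₀ R))).1 Module.Projective.of_free
  obtain ⟨N, v, ⟨e⟩, -⟩ := exists_twoTerm K F u₀
  refine ⟨_, fun i hi => isZero_coneSingle_X v i hi, ?_, ⟨e⟩⟩
  have : Module.Free R F := inferInstanceAs (Module.Free R (H →₀ R))
  exact Module.Free.of_equiv (coneSingleXZeroIso v).symm.toLinearEquiv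

end Groth.Agent.S7078
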