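import Groth.Statements.S7079
import Groth.Agent.Lib.Helper84.DRingBasic
import Groth.Agent.Lib.Helper84.TwoTerm
import Mathlib.Algebra.Category.ModuleCat.Projective
import Mathlib.Algebra.Category.ModuleCat.EpiMono
import Mathlib.LinearAlgebra.FreeModule.Basic
import Mathlib.Algebra.Homology.ShortComplex.ModuleCat
import Mathlib.RingTheory.Noetherian.Basic
import Mathlib.RingTheory.Finiteness.Cardinality

set_option autoImplicit false
universe u
attribute [local instance] HasDerivedCategory.standard
open CategoryTheory
open DRing

namespace Groth.Agent.S7079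

/-- middle term of an exact sequence with finite left term and noetherian right term -/
lemma finite_of_exact {R : Type u} [CommRing R] (S : ShortComplex (ModuleCat.{u} R)) (hS : S.Exact)
    [Module.Finite R S.X₁] [IsNoetherian R S.X₃] : Module.Finite R S.X₂ := by
  have hrk := (ShortComplex.moduleCat_exact_iff_range_eq_ker S).1 hS
  have h1 : Module.Finite R (LinearMap.ker S.g.hom) := by
    rw [← hrk]
    exact Module.Finite.range S.f.hom
  have h2 : Module.Finite R (S.X₂ ⧸ LinearMap.ker S.g.hom) := by
    have e := S.g.hom.quotKerEquivRange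
    have : Module.Finite R (LinearMap.range S.g.hom) := Module.IsNoetherian.finite R _
    exact Module.Finite.equiv e.symm
  exact Module.Finite.of_submodule_quotient (LinearMap.ker S.g.hom)

/-- For a Noetherian commutative ring R and an object K of D(R) whose cohomology modules vanish outside
degrees -1 and 0 and are finite modules in those two degrees, K is represented by a two-term complex
K^{-1} → K^0 with K^0 finite free and K^{-1} finite. -/
theorem result {R : Type u} [CommRing R] [IsNoetherianRing R] (K : Dual.D R)
    (hK : ∀ i : ℤ, i ≠ -1 → i ≠ 0 → Subsingleton (Dual.HD R K i))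
    (h1 : Module.Finite R (Dual.HD R K (-1))) (h0 : Module.Finite R (Dual.HD R K 0)) :
    ∃ E : DRing.Cx R, DRing.VanishesOutside E (-1) 0 ∧ Module.Free R (E.X 0) ∧ Module.Finite R (E.X 0) ∧
      Module.Finite R (E.X (-1)) ∧ Nonempty (DRing.toD E ≅ K) := by
  open DerivedCategory Groth.Agent.Lib.Helper84.TwoTerm Groth.Agent.Lib.Helper84.DRingBasic in
  have hLE : K.IsLE 0 := isLE_zero_of_twoTerm K hK
  have hGE : K.IsGE (-1) := isGE_neg_one_of_twoTerm K hK
  let H : ModuleCat.{u} R := (homologyFunctor (ModuleCat.{u} R) 0).obj K
  obtain ⟨n, f, hf⟩ := Module.Finite.exists_fin' R H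
  let F : ModuleCat.{u} R := ModuleCat.of R (Fin n → R)
  let u₀ : F ⟶ H := ModuleCat.ofHom f
  have hu₀ : Epi u₀ := (ModuleCat.epi_iff_surjective _).2 hf
  have hF : Projective F :=
    (IsProjective.iff_projective (R := R) (P := (Fin n → R))).1 Module.Projective.of_free
  obtain ⟨N, v, ⟨e⟩, a, c, hac, hex⟩ := exists_twoTerm K F u₀
  have hFfree : Module.Free R F := inferInstanceAs (Module.Free R (Fin n → R))
  have hFfin : Module.Finite R F := inferInstanceAs (Module.Finite R (Fin n → R))
  have hNfin : Module.Finite R N := by
    have : Module.Finite R (ShortComplex.mk a c hac).X₁ := h1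
    have : IsNoetherian R (ShortComplex.mk a c hac).X₃ :=
      inferInstanceAs (IsNoetherian R (Fin n → R))
    exact finite_of_exact _ hex
  refine ⟨_, fun i hi => isZero_coneSingle_X v i hi, ?_, ?_, ?_, ⟨e⟩⟩
  · exact Module.Free.of_equiv (coneSingleXZeroIso v).symm.toLinearEquiv
  · exact Module.Finite.equiv (coneSingleXZeroIso v).symm.toLinearEquiv
  · exact Module.Finite.equiv (coneSingleXNegOneIso v).symm.toLinearEquiv

end Groth.Agent.S7079
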