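import Groth.Statements.S7080
import Groth.Agent.Lib.Helper84.DRingBasic

set_option autoImplicit false
universe u
attribute [local instance] HasDerivedCategory.standard
open CategoryTheory
open DRing

namespace Groth.Agent.S7080

/-- Let R be a commutative ring and α : K → K' a morphism in D(R) between objects whose cohomology
vanishes outside degrees -1 and 0, such that H^0(α) is an isomorphism and H^{-1}(α) is surjective.
If multiplication by an element f of R is the zero endomorphism of K in D(R), then it is also the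
zero endomorphism of K'. -/
theorem result {R : Type u} [CommRing R] {K K' : Dual.D R} (α : K ⟶ K')
    (hK : ∀ i : ℤ, i ≠ -1 → i ≠ 0 → Subsingleton (Dual.HD R K i))
    (hK' : ∀ i : ℤ, i ≠ -1 → i ≠ 0 → Subsingleton (Dual.HD R K' i))
    (h0 : IsIso ((DerivedCategory.homologyFunctor (ModuleCat.{u} R) 0).map α))
    (h1 : Epi ((DerivedCategory.homologyFunctor (ModuleCat.{u} R) (-1)).map α))
    (f : R) (hf : f • (𝟙 K) = 0) : f • (𝟙 K') = 0 := by
  open CategoryTheory.Pretriangulated CategoryTheory.Triangulated DerivedCategory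
    Groth.Agent.Lib.Helper84.DerivedT Groth.Agent.Lib.Helper84.DRingBasic in
  let t : TStructure (Dual.D R) := TStructure.t
  have : K.IsLE 0 := isLE_zero_of_twoTerm K hK
  have : K'.IsLE 0 := isLE_zero_of_twoTerm K' hK'
  have : K'.IsGE (-1) := isGE_neg_one_of_twoTerm K' hK'
  obtain ⟨Z, g, h, hT⟩ := distinguished_cocone_triangle α
  -- the cone is `≤ -2`
  have hZ : Z.IsLE (-2) := by
    rw [isLE_iff]
    intro i hi
    by_cases h0 : i = 0
    · subst h0
      refine isZero_homology_obj₃ _ hT 0 1 rfl (by change Epi ((homologyFunctor (ModuleCat R) 0).map α); infer_instance) ?_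
      exact ⟨fun _ _ _ => (isZero_of_isLE K 0 1 (by lia)).eq_of_tgt _ _⟩
    by_cases h1' : i = -1
    · subst h1'
      exact isZero_homology_obj₃ _ hT (-1) 0 rfl h1 (by change Mono ((homologyFunctor (ModuleCat R) 0).map α); infer_instance)
    · exact isZero_homology_obj₃_of_isZero _ hT i (i + 1) rfl
        (isZero_of_isLE K' 0 i (by lia)) (isZero_of_isLE K 0 (i + 1) (by lia))
  have hα : α ≫ (f • 𝟙 K') = 0 := by
    rw [Linear.comp_smul, Category.comp_id, ← Category.id_comp α, ← Linear.smul_comp, hf,
      Limits.zero_comp]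
  obtain ⟨k, hk⟩ := Triangle.yoneda_exact₂ _ hT (f • 𝟙 K') hα
  have hk0 : k = 0 := t.zero_of_isLE_of_isGE k (-2) (-1) (by lia) hZ inferInstance
  rw [hk, hk0]; exact Limits.comp_zero

end Groth.Agent.S7080
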