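import Groth.Statements.S7081
import Groth.Agent.Lib.Helper84.DRingBasic

set_option autoImplicit false
universe u
attribute [local instance] HasDerivedCategory.standard
open CategoryTheory
open DRing

namespace Groth.Agent.S7081

/-- Let R be a commutative ring and φ : K₁ → K₂, ψ : K₂ → K₃ morphisms in D(R) between objects whose
cohomology vanishes outside degrees -1 and 0. If φ induces the zero map on H^0 and ψ induces the
zero map on H^{-1}, then the composite K₁ → K₃ is zero. -/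
theorem result {R : Type u} [CommRing R] {K₁ K₂ K₃ : Dual.D R}
    (φ : K₁ ⟶ K₂) (ψ : K₂ ⟶ K₃)
    (h₁ : ∀ i : ℤ, i ≠ -1 → i ≠ 0 → Subsingleton (Dual.HD R K₁ i))
    (h₂ : ∀ i : ℤ, i ≠ -1 → i ≠ 0 → Subsingleton (Dual.HD R K₂ i))
    (h₃ : ∀ i : ℤ, i ≠ -1 → i ≠ 0 → Subsingleton (Dual.HD R K₃ i))
    (hφ : (DerivedCategory.homologyFunctor (ModuleCat.{u} R) 0).map φ = 0)
    (hψ : (DerivedCategory.homologyFunctor (ModuleCat.{u} R) (-1)).map ψ = 0) :
    φ ≫ ψ = 0 := by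
  open CategoryTheory.Pretriangulated CategoryTheory.Triangulated DerivedCategory
    Groth.Agent.Lib.Helper84.DerivedT Groth.Agent.Lib.Helper84.DRingBasic in
  let t : TStructure (Dual.D R) := TStructure.t
  have : K₁.IsLE 0 := isLE_zero_of_twoTerm K₁ h₁
  have : K₃.IsGE (-1) := isGE_neg_one_of_twoTerm K₃ h₃
  -- step 1 : φ ≫ π = 0
  have hπ : φ ≫ (t.truncGEπ 0).app K₂ = 0 := by
    have : t.IsGE ((t.truncGE 0).obj K₂) 0 := inferInstance
    apply eq_zero_of_homologyMap_eq_zero (C := ModuleCat.{u} R) 0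
    rw [Functor.map_comp, hφ, Limits.zero_comp]
  obtain ⟨φ', hφ'⟩ : ∃ φ' : K₁ ⟶ (t.truncLT 0).obj K₂, φ = φ' ≫ (t.truncLTι 0).app K₂ :=
    Triangle.coyoneda_exact₂ _ (t.triangleLTGE_distinguished 0 K₂) φ hπ
  have hι : (t.truncLTι 0).app K₂ ≫ ψ = 0 := by
    have : t.IsLE ((t.truncLT 0).obj K₂) (-1) := t.isLE_truncLT_obj K₂ 0 (-1)
    apply eq_zero_of_homologyMap_eq_zero (C := ModuleCat.{u} R) (-1)
    rw [Functor.map_comp, hψ, Limits.comp_zero]
  rw [hφ', Category.assoc, hι, Limits.comp_zero]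

end Groth.Agent.S7081
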