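import Groth.Statements.S7083
import Mathlib.Tactic
import Mathlib.Algebra.Homology.DerivedCategory.HomologySequence
import Mathlib.Algebra.Homology.DerivedCategory.TStructure
import Mathlib.Algebra.Homology.DerivedCategory.Linear
-- import your own Groth.Agent.* helpers here

set_option autoImplicit false
universe u
attribute [local instance] HasDerivedCategory.standard
open CategoryTheory
open DRing

namespace Groth.Agent.S7083


open DerivedCategory Pretriangulated Limits in
/-- If in the homology sequence of a distinguished triangle the map `H^n(mor₂)` and the connecting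
map out of `H^n(obj₃)` vanish, then `H^n(obj₃) = 0`. -/
lemma isZero_homology_obj₃ {C : Type*} [Category C] [Abelian C] [HasDerivedCategory C]
    (T : Triangle (DerivedCategory C)) (hT : T ∈ distTriang _) (n₀ n₁ : ℤ) (h : n₀ + 1 = n₁)
    (h2 : (homologyFunctor C n₀).map T.mor₂ = 0)
    (h3 : HomologySequence.δ T n₀ n₁ h = 0) :
    IsZero ((homologyFunctor C n₀).obj T.obj₃) := by
  have hex := HomologySequence.exact₃ T hT n₀ n₁ h
  have hmono : Mono (HomologySequence.δ T n₀ n₁ h) := hex.mono_g h2
  exact IsZero.of_mono_eq_zero _ h3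

/-- Let R be a commutative ring, I an ideal, and α : K → K' a morphism in D(R) between objects whose
cohomology vanishes outside degrees -1 and 0, such that H^0(α) is an isomorphism and H^{-1}(α) is
surjective. If I annihilates Ext^1_R(K, N) = Hom_{D(R)}(K, N[1]) for every R-module N, then I
annihilates Ext^1_R(K', N) for every R-module N. -/
theorem result {R : Type u} [CommRing R] (I : Ideal R) {K K' : Dual.D R}
    (α : K ⟶ K')
    (hK : ∀ i : ℤ, i ≠ -1 → i ≠ 0 → Subsingleton (Dual.HD R K i))
    (hK' : ∀ i : ℤ, i ≠ -1 → i ≠ 0 → Subsingleton (Dual.HD R K' i))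
    (h0 : IsIso ((DerivedCategory.homologyFunctor (ModuleCat.{u} R) 0).map α))
    (h1 : Epi ((DerivedCategory.homologyFunctor (ModuleCat.{u} R) (-1)).map α))
    (hI : ∀ (N : Type u) [AddCommGroup N] [Module R N] (a : R), a ∈ I →
        ∀ ξ : K ⟶ (Dual.inD R N)⟦(1 : ℤ)⟧, a • ξ = 0)
    (N : Type u) [AddCommGroup N] [Module R N] (a : R) (ha : a ∈ I) (ξ : K' ⟶ (Dual.inD R N)⟦(1 : ℤ)⟧) :
    a • ξ = 0 := by
  classical
  obtain ⟨C, g, h, hT⟩ := Pretriangulated.distinguished_cocone_triangle α
  set T := Pretriangulated.Triangle.mk α g h with hTdef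
  have hzK : ∀ i : ℤ, i ≠ -1 → i ≠ 0 →
      Limits.IsZero ((DerivedCategory.homologyFunctor (ModuleCat.{u} R) i).obj K) := by
    intro i h1 h2
    have := hK i h1 h2
    exact ModuleCat.isZero_of_subsingleton _
  have hzK' : ∀ i : ℤ, i ≠ -1 → i ≠ 0 →
      Limits.IsZero ((DerivedCategory.homologyFunctor (ModuleCat.{u} R) i).obj K') := by
    intro i h1 h2
    have := hK' i h1 h2
    exact ModuleCat.isZero_of_subsingleton _
  -- `C` lives in degrees `≤ -2`
  have hC : DerivedCategory.IsLE C (-2) := by
    rw [DerivedCategory.isLE_iff]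
    intro i hi
    refine isZero_homology_obj₃ T hT i (i + 1) rfl ?_ ?_
    · -- H^i(mor₂) = 0
      by_cases hi0 : i = 0
      · subst hi0
        apply (DerivedCategory.HomologySequence.epi_homologyMap_mor₁_iff T hT 0).1
        show Epi ((DerivedCategory.homologyFunctor (ModuleCat.{u} R) 0).map α)
        infer_instance
      by_cases hi1 : i = -1
      · subst hi1
        apply (DerivedCategory.HomologySequence.epi_homologyMap_mor₁_iff T hT (-1)).1
        exact h1
      · exact (hzK' i hi1 hi0).eq_of_src _ _
    · -- δ = 0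
      by_cases hi1 : i = -1
      · subst hi1
        apply (DerivedCategory.HomologySequence.mono_homologyMap_mor₁_iff T hT (-1) (-1 + 1) rfl).1
        show Mono ((DerivedCategory.homologyFunctor (ModuleCat.{u} R) (-1 + 1)).map α)
        have : ((-1 : ℤ) + 1) = 0 := by norm_num
        rw [this]
        infer_instance
      · exact (hzK (i + 1) (by lia) (by lia)).eq_of_tgt _ _
  have hN : DerivedCategory.IsGE ((Dual.inD R N)⟦(1 : ℤ)⟧) (-1) :=
    DerivedCategory.TStructure.t.isGE_shift (Dual.inD R N) 0 1 (-1) (by norm_num)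
  -- exactness of Hom(-, N[1])
  have hcomp : α ≫ (a • ξ) = 0 := by
    rw [Linear.comp_smul]
    exact hI N a ha (α ≫ ξ)
  obtain ⟨k, hk⟩ := Pretriangulated.Triangle.yoneda_exact₂ T hT (a • ξ) hcomp
  have hk0 : k = 0 :=
    DerivedCategory.TStructure.t.zero_of_isLE_of_isGE k (-2) (-1) (by norm_num) hC hN
  rw [hk, hk0]
  exact Limits.comp_zero

end Groth.Agent.S7083
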