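import Groth.Statements.S7084
import Groth.Agent.Lib.Helper84.NilLT

set_option autoImplicit false
universe u
attribute [local instance] HasDerivedCategory.standard
open CategoryTheory
open LocCoh

namespace Groth.Agent.S7084

open DRing MonoidalCategory Groth.Agent.Lib.Helper84.TensCx Groth.Agent.Lib.Helper84.FlatAmp
  Groth.Agent.Lib.Helper84.NilTorAmp Groth.Agent.Lib.Helper84.NilBdd Groth.Agent.Lib.Helper84.NilLT

/-- Parts (1)–(2) in the case of a module killed by a power of the ideal: let R be a commutative ring, I
an ideal and K an object of D(R) such that K ⊗^L_R R/I has no cohomology in positive degrees. Then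
for every R-module N annihilated by some power of I, K ⊗^L_R N has no cohomology in positive
degrees. (The published statement allows any I-power torsion module N; this row takes N annihilated
by a single power of I, the case the published argument carries out in full, which contains the case
N = R/I^n.) The derived tensor products with modules are total left derived functors, assumed to
exist. -/
theorem result {R : Type u} [CommRing R] (I : Ideal R)
    [DRing.HasLTensor R (ModuleCat.of R (R ⧸ I))] (K : Dual.D R)
    (hK : ∀ i : ℤ, 0 < i → Subsingleton (Dual.HD R ((DRing.LTensor R (ModuleCat.of R (R ⧸ I))).obj K) i))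
    (N : Type u) [AddCommGroup N] [Module R N] (n : ℕ) (hN : I ^ n • (⊤ : Submodule R N) = ⊥)
    [DRing.HasLTensor R (ModuleCat.of R N)] (i : ℤ) (hi : 0 < i) :
    Subsingleton (Dual.HD R ((DRing.LTensor R (ModuleCat.of R N)).obj K) i) := by
  classical
  let φ : R →+* R ⧸ I := Ideal.Quotient.mk I
  have hφ : Function.Surjective φ := Ideal.Quotient.mk_surjective
  obtain ⟨P, π, hP, hπ, hKF, hflat, -⟩ :=
    Groth.Agent.Lib.Helper15.KProjRes.exists_kprojective_resolution
      (DerivedCategory.Q.objPreimage K)
  haveI := hP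
  haveI : IsIso (DerivedCategory.Q.map π) := by
    rw [DerivedCategory.isIso_Q_map_iff_quasiIso]
    exact hπ
  have e1 : toD P ≅ K :=
    asIso (DerivedCategory.Q.map π) ≪≫ DerivedCategory.Q.objObjPreimageIso K
  have eLT : ∀ (M : ModuleCat.{u} R) [DRing.HasLTensor R M],
      (DRing.LTensor R M).obj K ≅ toD ((tens M).obj P) := fun M _ =>
    (DRing.LTensor R M).mapIso e1.symm ≪≫ Groth.Agent.Lib.Helper15.LDerived.ltIso R M P ≪≫
      DerivedCategory.Q.mapIso (tensRightIso M P)
  -- the hypothesis
  have h1 : ∀ j : ℤ, 0 < j → ((tens (ModuleCat.of R (R ⧸ I))).obj P).ExactAt j := fun j hj =>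
    exactAt_of_subsingleton_HD _ j (subsingleton_HD_of_iso (eLT _) j (hK j hj))
  -- identify `R ⧸ I` with the restriction of the unit
  have eU : (ModuleCat.restrictScalars φ).obj (𝟙_ (ModuleCat.{u} (R ⧸ I))) ≅
      ModuleCat.of R (R ⧸ I) :=
    LinearEquiv.toModuleIso
      (show ((ModuleCat.restrictScalars φ).obj (𝟙_ (ModuleCat.{u} (R ⧸ I)))) ≃ₗ[R] (R ⧸ I) from
        { AddEquiv.refl (R ⧸ I) with
          map_smul' := fun r x => by
            change φ r * (show R ⧸ I from x) = r • (show R ⧸ I from x)
            rw [Algebra.smul_def]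
            rfl })
  have h2 : ∀ j : ℤ, 0 < j →
      ((tens ((ModuleCat.restrictScalars φ).obj (𝟙_ (ModuleCat.{u} (R ⧸ I))))).obj P).ExactAt j :=
    torVanP_of_iso (p := fun j => 0 < j) eU.symm h1
  have h3 : ∀ j : ℤ, 0 < j → (Groth.Agent.Lib.Helper15.LDerived.extCx φ P).ExactAt j :=
    fun j hj => exactAt_of_exactAt_tens_unit _ j ((exactAt_tens_res_iff φ _ P j).1 (h2 j hj))
  have h4 := exactAt_tens_of_pow_smul_eq_bot φ hφ P hKF hflat 0 h3 n (ModuleCat.of R N)
    (by rw [Ideal.mk_ker]; exact hN) i hi
  exact subsingleton_HD_of_iso (eLT _).symm i (subsingleton_HD_of_exactAt _ i h4)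

end Groth.Agent.S7084
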