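import Groth.Statements.S7085
import Mathlib.Tactic
-- import your own Groth.Agent.* helpers here

set_option autoImplicit false
universe u
open LocCoh

namespace Groth.Agent.S7085


lemma key {R : Type u} [CommRing R] (I : Ideal R) (M : Type u) [AddCommGroup M] [Module R M]
    (h : LocCoh.torsionBy I M = ⊥) (n : ℕ) (m : M) (hm : ∀ a ∈ I ^ n, a • m = 0) : m = 0 := by
  induction n generalizing m with
  | zero =>
    have := hm 1 (by simp)
    simpa using this
  | succ n ih =>
    have hmem : m ∈ LocCoh.torsionBy I M := by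
      rw [Submodule.mem_torsionBySet_iff]
      rintro ⟨a, ha⟩
      apply ih
      intro b hb
      rw [← mul_smul]
      apply hm
      rw [pow_succ]
      exact Ideal.mul_mem_mul hb ha
    rw [h] at hmem
    simpa using hmem

/-- Let R be a commutative ring, I an ideal generated by finitely many elements f_1, …, f_t, and M an
R-module. Then: M has no nonzero element killed by I if and only if it has no nonzero element killed
by I^n for every n ≥ 1; and M has no nonzero element killed by I if and only if an element of M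
vanishing in every localization M_{f_i} is zero. -/
theorem result {R : Type u} [CommRing R] {t : ℕ} (f : Fin t → R)
    (I : Ideal R) (hI : Ideal.span (Set.range f) = I) (M : Type u) [AddCommGroup M] [Module R M] :
    (LocCoh.torsionBy I M = ⊥ ↔ ∀ n : ℕ, 1 ≤ n → LocCoh.torsionBy (I ^ n) M = ⊥) ∧
    (LocCoh.torsionBy I M = ⊥ ↔
      ∀ m : M, (∀ i : Fin t, LocalizedModule.mkLinearMap (Submonoid.powers (f i)) M m = 0) → m = 0) := by
  refine ⟨⟨fun h n _ => ?_, fun h => ?_⟩, ⟨fun h m hm => ?_, fun h => ?_⟩⟩
  · rw [eq_bot_iff]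
    intro m hm
    rw [Submodule.mem_torsionBySet_iff] at hm
    rw [Submodule.mem_bot]
    exact key I M h n m (fun a ha => hm ⟨a, ha⟩)
  · have := h 1 le_rfl
    rwa [pow_one] at this
  · -- each f i ^ k i kills m
    have hk : ∀ i : Fin t, ∃ k : ℕ, f i ^ k • m = 0 := by
      intro i
      have := (IsLocalizedModule.eq_zero_iff (Submonoid.powers (f i))
        (LocalizedModule.mkLinearMap (Submonoid.powers (f i)) M)).1 (hm i)
      obtain ⟨⟨c, ⟨k, rfl⟩⟩, hc⟩ := this
      exact ⟨k, hc⟩
    choose k hk using hk
    set J : Ideal R := Ideal.span (Set.range (fun i => f i ^ k i)) with hJ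
    have hJm : ∀ a ∈ J, a • m = 0 := by
      intro a ha
      refine Submodule.span_induction (p := fun a _ => a • m = 0) ?_ ?_ ?_ ?_ ha
      · rintro _ ⟨i, rfl⟩
        exact hk i
      · simp
      · intro x y _ _ hx hy
        rw [add_smul, hx, hy, add_zero]
      · intro r x _ hx
        rw [smul_eq_mul, mul_smul, hx, smul_zero]
    have hIJ : I ≤ J.radical := by
      rw [← hI, Ideal.span_le]
      rintro _ ⟨i, rfl⟩
      exact ⟨k i, Ideal.subset_span ⟨i, rfl⟩⟩
    have hfg : I.FG := by
      rw [← hI]
      exact ⟨(Set.finite_range f).toFinset, by simp⟩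
    obtain ⟨N, hN⟩ := Ideal.exists_pow_le_of_le_radical_of_fg hIJ hfg
    exact key I M h N m (fun a ha => hJm a (hN ha))
  · rw [eq_bot_iff]
    intro m hm
    rw [Submodule.mem_torsionBySet_iff] at hm
    rw [Submodule.mem_bot]
    apply h
    intro i
    rw [IsLocalizedModule.eq_zero_iff (Submonoid.powers (f i))]
    refine ⟨⟨f i, ⟨1, pow_one _⟩⟩, ?_⟩
    have hfi : f i ∈ I := by
      rw [← hI]
      exact Ideal.subset_span ⟨i, rfl⟩
    exact hm ⟨f i, hfi⟩

end Groth.Agent.S7085
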