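import Groth.Statements.S7088
import Groth.Agent.Lib.Helper25.HomCxPre
import Groth.Agent.Lib.Helper25.HomCxAdj
import Groth.Agent.Lib.Helper25.LTenCompute
import Mathlib.Algebra.Homology.DerivedCategory.KProjective

set_option autoImplicit false
universe u
attribute [local instance] HasDerivedCategory.standard
open CategoryTheory MonoidalCategory
open DRing

namespace Groth.Agent.S7088

/-- Let R be a commutative ring, P a bounded above cochain complex of projective R-modules whose image
in D(R) is perfect, and K a K-flat complex of R-modules (tensoring with K carries acyclic complexes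
to acyclic complexes). Then the Hom complex Hom•(P, K) is again K-flat. -/
theorem result {R : Type u} [CommRing R] (P K : DRing.Cx R) (b : ℤ)
    (hPb : DRing.VanishesAbove P b) (hPp : ∀ i : ℤ, Module.Projective R (P.X i))
    (hperf : DRing.IsPerfect R (DRing.toD P))
    (hK : ∀ L : DRing.Cx R, (∀ i : ℤ, Limits.IsZero (L.homology i)) →
      ∀ i : ℤ, Limits.IsZero (((tensorRight K).obj L).homology i)) :
    ∀ L : DRing.Cx R, (∀ i : ℤ, Limits.IsZero (L.homology i)) →
      ∀ i : ℤ, Limits.IsZero (((tensorRight (DRing.homCx P K)).obj L).homology i) := by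
  classical
  have hKF : Groth.Agent.Lib.Helper25.KFlat.IsKFlat K := fun L hL => hK L hL
  obtain ⟨E, a, c, hE, hEfp, ⟨e⟩⟩ := hperf
  haveI : ∀ i, Module.Finite R (E.X i) := fun i => (hEfp i).1
  haveI : ∀ i, Module.Projective R (E.X i) := fun i => (hEfp i).2
  haveI hPK : P.IsKProjective := by
    have : P.IsStrictlyLE b := (CochainComplex.isStrictlyLE_iff P b).2 (fun i hi => hPb i hi)
    have : ∀ n, Projective (P.X n) := fun n =>
      ModuleCat.projective_of_categoryTheory_projective (R := R) (P := P.X n)
    exact CochainComplex.isKProjective_of_projective P b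
  haveI hEK : E.IsKProjective := by
    have : E.IsStrictlyLE c :=
      (CochainComplex.isStrictlyLE_iff E c).2 (fun i hi => hE i (Or.inr hi))
    have : ∀ n, Projective (E.X n) := fun n =>
      ModuleCat.projective_of_categoryTheory_projective (R := R) (P := E.X n)
    exact CochainComplex.isKProjective_of_projective E c
  -- a chain map realizing the isomorphism in `D(R)`
  obtain ⟨f', hf'⟩ := (CochainComplex.IsKProjective.Qh_map_bijective P
    ((HomotopyCategory.quotient _ _).obj E)).surjective e.inv
  obtain ⟨f, rfl⟩ := (HomotopyCategory.quotient _ _).map_surjective f'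
  have hq : QuasiIso f := by
    rw [← DerivedCategory.isIso_Q_map_iff_quasiIso]
    change IsIso (DerivedCategory.Qh.map ((HomotopyCategory.quotient _ _).map f))
    rw [hf']
    infer_instance
  obtain ⟨he, -⟩ := (CochainComplex.IsKProjective.quasiIso_iff f).1 hq
  -- `Hom•(E, K) ≅ K ⊗ E^∨` is K-flat
  have h1 : Groth.Agent.Lib.Helper25.KFlat.IsKFlat
      (MonoidalCategory.tensorObj K (Groth.Agent.Lib.Helper25.DualCx.dualCx E)) :=
    Groth.Agent.Lib.Helper25.LTenCompute.isKFlat_tensor hKF
      (Groth.Agent.Lib.Helper25.KFlat.isKFlat_of_boundedAbove_of_flat _ (-a)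
        (fun q hq => Groth.Agent.Lib.Helper25.DualCx.dualCx_isZero E a c hE q (Or.inr hq))
        (fun q => inferInstance))
  have h2 : Groth.Agent.Lib.Helper25.KFlat.IsKFlat (DRing.homCx E K) :=
    Groth.Agent.Lib.Helper25.KFlat.isKFlat_of_homotopyEquiv
      (HomotopyEquiv.ofIso (Groth.Agent.Lib.Helper25.HomCxAdj.homCxIsoTensorDual E a c hE K).symm) h1
  have h3 : Groth.Agent.Lib.Helper25.KFlat.IsKFlat (DRing.homCx P K) :=
    Groth.Agent.Lib.Helper25.KFlat.isKFlat_of_homotopyEquiv
      (Groth.Agent.Lib.Helper25.HomCxPre.homCxPreHomotopyEquiv he K) h2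
  exact fun L hL => h3 L hL

end Groth.Agent.S7088
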