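import Groth.Statements.S7089
import Mathlib.Tactic
import Mathlib.Algebra.Homology.QuasiIso
import Mathlib.Algebra.Homology.ShortComplex.ModuleCat
import Mathlib.Algebra.Homology.Single
import Mathlib.Algebra.Homology.SingleHomology
-- import your own Groth.Agent.* helpers here

set_option autoImplicit false
universe u
open CategoryTheory
open LocCoh

namespace Groth.Agent.S7089


section
variable {R : Type u} [CommRing R] (I : Ideal R)

/-- The index type of the canonical cover. -/
def Idx (N : Type u) [AddCommGroup N] [Module R N] : Type u :=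
  {p : N × ℕ // ∀ a ∈ I ^ p.2, a • p.1 = 0}

/-- The canonical cover `⨁ R/I^n`. -/
abbrev F (N : Type u) [AddCommGroup N] [Module R N] : Type u :=
  DirectSum (Idx I N) fun j => R ⧸ I ^ j.1.2

/-- Component of the canonical map. -/
noncomputable def comp (N : Type u) [AddCommGroup N] [Module R N] (j : Idx I N) :
    (R ⧸ I ^ j.1.2) →ₗ[R] N :=
  Submodule.liftQ (I ^ j.1.2) (LinearMap.toSpanSingleton R N j.1.1) (by
    intro a ha
    simp only [LinearMap.mem_ker, LinearMap.toSpanSingleton_apply]
    exact j.2 a ha)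

open Classical in
/-- The canonical map `⨁ R/I^n → N`. -/
noncomputable def pi (N : Type u) [AddCommGroup N] [Module R N] : F I N →ₗ[R] N :=
  DirectSum.toModule R _ N (comp I N)

lemma pi_surjective (N : Type u) [AddCommGroup N] [Module R N] (hN : LocCoh.IsPowerTorsion I N) :
    Function.Surjective (pi I N) := by
  classical
  intro m
  obtain ⟨n, hn⟩ := hN m
  refine ⟨DirectSum.lof R _ (fun j : Idx I N => R ⧸ I ^ j.1.2) ⟨(m, n), hn⟩
    (Submodule.Quotient.mk (1 : R)), ?_⟩
  simp only [pi, DirectSum.toModule_lof, comp, Submodule.liftQ_apply,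
    LinearMap.toSpanSingleton_apply, one_smul]

lemma F_powerTorsion (N : Type u) [AddCommGroup N] [Module R N] :
    LocCoh.IsPowerTorsion I (F I N) := by
  classical
  intro x
  induction x using DirectSum.induction_on with
  | zero => exact ⟨0, by simp⟩
  | of j y =>
    refine ⟨j.1.2, fun a ha => ?_⟩
    obtain ⟨r, rfl⟩ := Submodule.Quotient.mk_surjective _ y
    have h0 : a • (Submodule.Quotient.mk r : R ⧸ I ^ j.1.2) = 0 := by
      rw [← Submodule.Quotient.mk_smul, Submodule.Quotient.mk_eq_zero]
      exact Ideal.mul_mem_right _ _ ha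
    have := (DirectSum.lof R _ (fun j : Idx I N => R ⧸ I ^ j.1.2) j).map_smul a
      (Submodule.Quotient.mk r)
    rw [h0, map_zero] at this
    exact this.symm
  | add x y hx hy =>
    obtain ⟨n, hn⟩ := hx
    obtain ⟨m, hm⟩ := hy
    refine ⟨max n m, fun a ha => ?_⟩
    rw [smul_add, hn a (Ideal.pow_le_pow_right (le_max_left _ _) ha),
      hm a (Ideal.pow_le_pow_right (le_max_right _ _) ha), add_zero]

lemma sub_powerTorsion (N : Type u) [AddCommGroup N] [Module R N]
    (hN : LocCoh.IsPowerTorsion I N) (K : Submodule R N) : LocCoh.IsPowerTorsion I K := by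
  intro x
  obtain ⟨n, hn⟩ := hN x.1
  refine ⟨n, fun a ha => ?_⟩
  apply Subtype.ext
  simpa using hn a ha

/-- State of the recursion: a module together with a submodule (the kernel so far). -/
structure St (R : Type u) [CommRing R] where
  X : ModuleCat.{u} R
  K : Submodule R X

/-- Next state. -/
noncomputable def next (s : St R) : St R :=
  ⟨ModuleCat.of R (F I s.K), LinearMap.ker (s.K.subtype ∘ₗ pi I s.K)⟩

/-- The differential. -/
noncomputable def dmap (s : St R) : (next I s).X ⟶ s.X :=
  ModuleCat.ofHom (s.K.subtype ∘ₗ pi I s.K)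

/-- The sequence of states. -/
noncomputable def seq (M : Type u) [AddCommGroup M] [Module R M] : ℕ → St R
  | 0 => ⟨ModuleCat.of R (F I M), LinearMap.ker (pi I M)⟩
  | n + 1 => next I (seq M n)

lemma seq_X_powerTorsion (M : Type u) [AddCommGroup M] [Module R M] (n : ℕ) :
    LocCoh.IsPowerTorsion I (seq I M n).X := by
  cases n with
  | zero => exact F_powerTorsion I M
  | succ n => exact F_powerTorsion I _

lemma seq_X_iso (M : Type u) [AddCommGroup M] [Module R M] (n : ℕ) :
    ∃ (ι : Type u) (k : ι → ℕ),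
      Nonempty ((seq I M n).X ≅ ModuleCat.of R (DirectSum ι fun j => R ⧸ I ^ k j)) := by
  cases n with
  | zero => exact ⟨Idx I M, fun j => j.1.2, ⟨Iso.refl _⟩⟩
  | succ n => exact ⟨Idx I (seq I M n).K, fun j => j.1.2, ⟨Iso.refl _⟩⟩

/-- The differentials of the resolution. -/
noncomputable def dd (M : Type u) [AddCommGroup M] [Module R M] (n : ℕ) :
    (seq I M (n + 1)).X ⟶ (seq I M n).X :=
  dmap I (seq I M n)

lemma dmap_apply (s : St R) (x : F I s.K) :
    (dmap I s).hom x = ((pi I s.K x : s.K) : s.X) := rfl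

lemma dmap_apply_mem (s : St R) (x : F I s.K) : (dmap I s).hom x ∈ s.K := by
  rw [dmap_apply]
  exact (pi I s.K x).2

lemma mem_next_K (s : St R) (x : F I s.K) :
    x ∈ (next I s).K ↔ (dmap I s).hom x = 0 := by
  change x ∈ LinearMap.ker (s.K.subtype ∘ₗ pi I s.K) ↔ _
  rw [LinearMap.mem_ker]
  rfl

lemma dmap_next_comp (s : St R) : dmap I (next I s) ≫ dmap I s = 0 := by
  ext x
  have h1 := dmap_apply_mem I (next I s) x
  have h2 := (mem_next_K I s _).1 h1
  simpa using h2

lemma exists_preimage_next (s : St R) (x : F I s.K)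
    (hx : (dmap I s).hom x = 0) : ∃ y : F I (next I s).K, (dmap I (next I s)).hom y = x := by
  rw [← mem_next_K] at hx
  have hsur := pi_surjective I (next I s).K
    (sub_powerTorsion I _ (F_powerTorsion I s.K) _)
  obtain ⟨y, hy⟩ := hsur ⟨x, hx⟩
  refine ⟨y, ?_⟩
  rw [dmap_apply, hy]

lemma dd_sq (M : Type u) [AddCommGroup M] [Module R M] (n : ℕ) :
    dd I M (n + 1) ≫ dd I M n = 0 :=
  dmap_next_comp I (seq I M n)

lemma exists_preimage (M : Type u) [AddCommGroup M] [Module R M] (n : ℕ) (x : (seq I M (n + 1)).X)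
    (hx : (dd I M n).hom x = 0) : ∃ y : (seq I M (n + 2)).X, (dd I M (n + 1)).hom y = x :=
  exists_preimage_next I (seq I M n) x hx

lemma exists_preimage_zero (M : Type u) [AddCommGroup M] [Module R M] (x : F I M)
    (hx : pi I M x = 0) : ∃ y : (seq I M 1).X, (dd I M 0).hom y = x := by
  have hx' : x ∈ LinearMap.ker (pi I M) := hx
  have hsur := pi_surjective I (LinearMap.ker (pi I M))
    (sub_powerTorsion I _ (F_powerTorsion I M) _)
  obtain ⟨y, hy⟩ := hsur ⟨x, hx'⟩
  refine ⟨y, ?_⟩
  change (dmap I (seq I M 0)).hom y = x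
  rw [dmap_apply]
  change ((pi I (LinearMap.ker (pi I M)) y : LinearMap.ker (pi I M)) : F I M) = x
  rw [hy]

lemma dd_zero_pi (M : Type u) [AddCommGroup M] [Module R M] :
    dd I M 0 ≫ ModuleCat.ofHom (pi I M) = 0 := by
  ext x
  have h1 : (dmap I (seq I M 0)).hom x ∈ LinearMap.ker (pi I M) :=
    dmap_apply_mem I (seq I M 0) x
  have h1' : pi I M ((dmap I (seq I M 0)).hom x) = 0 := h1
  change pi I M ((dmap I (seq I M 0)).hom x) = 0
  exact h1'

end

/-- Let R be a commutative ring, I an ideal and M an R-module in which every element is killed by a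
power of I. Then M has a left resolution by modules each of which is a direct sum of copies of R/I^n
for varying n: there are a chain complex K of R-modules, a quasi-isomorphism from K to M placed in
degree 0, and for each i an isomorphism of K_i with such a direct sum. -/
theorem result {R : Type u} [CommRing R] (I : Ideal R)
    (M : Type u) [AddCommGroup M] [Module R M] (hM : LocCoh.IsPowerTorsion I M) :
    ∃ (K : ChainComplex (ModuleCat.{u} R) ℕ) (π : K ⟶ (ChainComplex.single₀ (ModuleCat.{u} R)).obj (ModuleCat.of R M)),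
      QuasiIso π ∧ ∀ i : ℕ, ∃ (ι : Type u) (n : ι → ℕ),
        Nonempty (K.X i ≅ ModuleCat.of R (DirectSum ι fun j => R ⧸ I ^ n j)) := by
  classical
  let K : ChainComplex (ModuleCat.{u} R) ℕ :=
    ChainComplex.of (fun n => (seq I M n).X) (dd I M) (dd_sq I M)
  have hd : ∀ n : ℕ, K.d (n + 1) n = dd I M n := fun n => ChainComplex.of_d (fun n => (seq I M n).X) (dd I M) n
  let π : K ⟶ (ChainComplex.single₀ (ModuleCat.{u} R)).obj (ModuleCat.of R M) :=
    (ChainComplex.toSingle₀Equiv K (ModuleCat.of R M)).symm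
      ⟨ModuleCat.ofHom (pi I M), by rw [hd 0]; exact dd_zero_pi I M⟩
  refine ⟨K, π, ⟨fun n => ?_⟩, fun i => seq_X_iso I M i⟩
  cases n with
  | zero =>
    rw [ChainComplex.quasiIsoAt₀_iff, ShortComplex.quasiIso_iff_of_zeros' _ (K.shape _ _ (by simp)) rfl rfl]
    constructor
    · rw [ShortComplex.moduleCat_exact_iff]
      intro x hx
      dsimp at x hx ⊢
      have hx' : pi I M x = 0 := by
        simp [π, ChainComplex.toSingle₀Equiv] at hx
        exact hx
      obtain ⟨y, hy⟩ := exists_preimage_zero I M x hx'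
      refine ⟨y, ?_⟩
      have : (K.d 1 0).hom y = x := by
        rw [show K.d 1 0 = dd I M 0 from hd 0]
        exact hy
      exact this
    · rw [ModuleCat.epi_iff_surjective]
      intro m
      obtain ⟨x, hx⟩ := pi_surjective I M hM m
      refine ⟨x, ?_⟩
      simp [π, ChainComplex.toSingle₀Equiv]
      exact hx
  | succ n =>
    rw [quasiIsoAt_iff_exactAt' (hL := ChainComplex.exactAt_succ_single_obj ..),
      HomologicalComplex.exactAt_iff' _ (n + 2) (n + 1) n (by simp) (by simp)]
    rw [ShortComplex.moduleCat_exact_iff]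
    intro x hx
    dsimp at x hx ⊢
    have hx2 : (dd I M n).hom x = 0 := by
      rw [← hd n]
      exact hx
    obtain ⟨y, hy⟩ := exists_preimage I M n x hx2
    refine ⟨y, ?_⟩
    have : (K.d (n + 2) (n + 1)).hom y = x := by
      rw [show K.d (n + 2) (n + 1) = dd I M (n + 1) from hd (n + 1)]
      exact hy
    exact this

end Groth.Agent.S7089
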