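import Groth.Statements.S7093
import Groth.Agent.Lib.Helper84.FlatAmpTri
import Groth.Agent.Lib.Helper15.PseudoCoh
import Groth.Agent.S2066

set_option autoImplicit false
universe u
attribute [local instance] HasDerivedCategory.standard
open CategoryTheory CategoryTheory.Limits
open Dual2

namespace Groth.Agent.S7093

open DRing CategoryTheory.Pretriangulated Groth.Agent.Lib.Helper15.PseudoCoh
  Groth.Agent.Lib.Helper84.FlatAmp

section aux

variable (R A : Type u) [CommRing R] [CommRing A] [Algebra R A]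

lemma pc'_iff (K : Dual.D A) : DRing.IsPseudoCoherent' A K ↔ PCAll A K :=
  (Groth.Agent.S2066.result K).1.symm

lemma relPerfect_iff (K : Dual.D A) : Dual2.IsRelPerfect R A K ↔
    PCAll A K ∧ ∃ a b : ℤ, HasTorAmplitudeIn R a b ((DRing.restrictD (algebraMap R A)).obj K) := by
  unfold Dual2.IsRelPerfect
  rw [pc'_iff]
  rfl

lemma relPerfect_of_iso {K L : Dual.D A} (e : K ≅ L) (h : Dual2.IsRelPerfect R A K) :
    Dual2.IsRelPerfect R A L := by
  rw [relPerfect_iff] at h ⊢
  obtain ⟨h1, a, b, h2⟩ := h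
  exact ⟨h1.of_iso e, a, b, torAmp_of_iso h2 ((DRing.restrictD (algebraMap R A)).mapIso e)⟩

lemma relPerfect_of_isZero {K : Dual.D A} (hK : IsZero K) : Dual2.IsRelPerfect R A K := by
  rw [relPerfect_iff]
  exact ⟨PCAll.of_isZero hK, 0, 0, torAmp_of_isZero (Functor.map_isZero _ hK) 0 0⟩

lemma relPerfect_shift {K : Dual.D A} (h : Dual2.IsRelPerfect R A K) (n : ℤ) :
    Dual2.IsRelPerfect R A (K⟦n⟧) := by
  rw [relPerfect_iff] at h ⊢
  obtain ⟨h1, a, b, h2⟩ := h
  exact ⟨h1.shift n, a - n, b - n, torAmp_of_iso (torAmp_shift h2 n)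
    (((DRing.restrictD (algebraMap R A)).commShiftIso n).app K).symm⟩

lemma relPerfect_obj₂ (T : Triangle (Dual.D A)) (hT : T ∈ distTriang _)
    (h₁ : Dual2.IsRelPerfect R A T.obj₁) (h₃ : Dual2.IsRelPerfect R A T.obj₃) :
    Dual2.IsRelPerfect R A T.obj₂ := by
  rw [relPerfect_iff] at h₁ h₃ ⊢
  obtain ⟨p1, a1, b1, t1⟩ := h₁
  obtain ⟨p3, a3, b3, t3⟩ := h₃
  refine ⟨PCAll.obj₂ T hT p1 p3, min a1 a3, max b1 b3, ?_⟩
  exact torAmp_obj₂ _ ((DRing.restrictD (algebraMap R A)).map_distinguished _ hT) _ _
    (torAmp_mono t1 (min_le_left _ _) (le_max_left _ _))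
    (torAmp_mono t3 (min_le_right _ _) (le_max_right _ _))

lemma relPerfect_of_retract {X Y : Dual.D A} (i : X ⟶ Y) (p : Y ⟶ X) (hip : i ≫ p = 𝟙 X)
    (hpc : PCAll A X) (h : Dual2.IsRelPerfect R A Y) : Dual2.IsRelPerfect R A X := by
  rw [relPerfect_iff] at h ⊢
  obtain ⟨_, a, b, h2⟩ := h
  refine ⟨hpc, a, b, torAmp_of_retract ((DRing.restrictD (algebraMap R A)).map i)
    ((DRing.restrictD (algebraMap R A)).map p) ?_ a b h2⟩
  rw [← Functor.map_comp, hip, CategoryTheory.Functor.map_id]

end aux

/-- For a flat homomorphism of finite presentation R → A of commutative rings, the R-perfect objects of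
D(A) (pseudo-coherent over A, finite tor dimension over R) form a strictly full, saturated
triangulated subcategory: the property is a triangulated object property (contains zero, stable
under shifts and under extensions in distinguished triangles), is closed under isomorphisms, and
passes to direct summands. -/
theorem result (R A : Type u) [CommRing R] [CommRing A] [Algebra R A]
    [Module.Flat R A] [Algebra.FinitePresentation R A] :
    ObjectProperty.IsTriangulated (C := Dual.D A) (fun K => Dual2.IsRelPerfect R A K) ∧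
      ObjectProperty.IsClosedUnderIsomorphisms (C := Dual.D A) (fun K => Dual2.IsRelPerfect R A K) ∧
      ∀ X Y : Dual.D A, Dual2.IsRelPerfect R A (X ⊞ Y) → Dual2.IsRelPerfect R A X ∧ Dual2.IsRelPerfect R A Y := by
  have hiso : ObjectProperty.IsClosedUnderIsomorphisms (C := Dual.D A)
      (fun K => Dual2.IsRelPerfect R A K) :=
    ⟨fun e h => relPerfect_of_iso R A e h⟩
  refine ⟨?_, hiso, ?_⟩
  · have h0 : ObjectProperty.ContainsZero (C := Dual.D A) (fun K => Dual2.IsRelPerfect R A K) :=
      ⟨⟨_, isZero_zero _, relPerfect_of_isZero R A (isZero_zero _)⟩⟩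
    have hs : ObjectProperty.IsStableUnderShift (C := Dual.D A)
        (fun K => Dual2.IsRelPerfect R A K) ℤ :=
      ⟨fun n => ⟨fun X hX => relPerfect_shift R A hX n⟩⟩
    have h2 : ObjectProperty.IsTriangulatedClosed₂ (C := Dual.D A)
        (fun K => Dual2.IsRelPerfect R A K) :=
      ObjectProperty.IsTriangulatedClosed₂.mk' (fun T hT h₁ h₃ => relPerfect_obj₂ R A T hT h₁ h₃)
    exact { }
  · intro X Y h
    have hpc : PCAll A (X ⊞ Y) := ((relPerfect_iff R A _).1 h).1
    constructor
    · exact relPerfect_of_retract R A biprod.inl biprod.fst (by simp)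
        (fun m => (of_biprod m X Y (hpc m)).1) h
    · exact relPerfect_of_retract R A biprod.inr biprod.snd (by simp)
        (fun m => (of_biprod m X Y (hpc m)).2) h

end Groth.Agent.S7093
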