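import Groth.Statements.S7102
import Mathlib.Tactic
import Groth.Agent.Lib.Helper43.ResTensor
import Groth.Agent.Lib.Helper43.PerfAmp
import Groth.Agent.Lib.Helper15.LDerived
import Groth.Agent.S7037
import Groth.Agent.S2066
-- import your own Groth.Agent.* helpers here

set_option autoImplicit false
universe u
attribute [local instance] HasDerivedCategory.standard
open Dual2

namespace Groth.Agent.S7102

open CategoryTheory

/-- Let R → A be a flat homomorphism of finite presentation of commutative rings, E a bounded cochain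
complex of finite projective A-modules (a perfect object of D(A)) for which the derived functor −
⊗^L_A E exists, and M an R-perfect object of D(A). Then M ⊗^L_A E is R-perfect. -/
theorem result (R A : Type u) [CommRing R] [CommRing A] [Algebra R A]
    [Module.Flat R A] [Algebra.FinitePresentation R A] (E : DRing.Cx A) (a b : ℤ)
    (hEb : DRing.VanishesOutside E a b) (hEp : DRing.TermwiseFiniteProjective E) [DRing.HasLTensorCx A E]
    (M : Dual.D A) (hM : Dual2.IsRelPerfect R A M) :
    Dual2.IsRelPerfect R A ((DRing.LTensorCx A E).obj M) := by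
  obtain ⟨hMpc, c, d, hMtor⟩ := hM
  have hEflat : DRing.TermwiseFlat E := fun i => by
    haveI := (hEp i).2
    infer_instance
  have hEK : Groth.Agent.Lib.Helper25.KFlat.IsKFlat E :=
    Groth.Agent.Lib.Helper25.KFlat.isKFlat_of_boundedAbove_of_flat E b
      (fun q hq => hEb q (Or.inr hq)) hEflat
  have hEpc : DRing.IsPseudoCoherent' A (DRing.toD E) :=
    (Groth.Agent.S2066.result (DRing.toD E)).1.1
      (Groth.Agent.Lib.Helper43.PerfAmp.pcAll_of_perfect E a b hEb hEp)
  refine ⟨Groth.Agent.S7037.result A M hMpc E hEpc, a + c, b + d, ?_⟩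
  let X : DRing.Cx A := DerivedCategory.Q.objPreimage M
  have e : DerivedCategory.Q.obj X ≅ M := DerivedCategory.Q.objObjPreimageIso M
  obtain ⟨iso⟩ := Groth.Agent.Lib.Helper25.LTensorCxCompute.nonempty_iso_of_res E X hEK (CategoryTheory.CategoryStruct.id E)
    inferInstance
  have iso1 : (DRing.restrictD (algebraMap R A)).obj ((DRing.LTensorCx A E).obj M) ≅
      DRing.toD ((DRing.restrictCx (algebraMap R A)).obj
        (MonoidalCategory.tensorObj X E : DRing.Cx A)) :=
    (DRing.restrictD (algebraMap R A)).mapIso ((DRing.LTensorCx A E).mapIso e.symm ≪≫ iso) ≪≫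
      Groth.Agent.Lib.Helper15.PseudoCohRes.restrictDQIso (algebraMap R A) _
  have isoM : (DRing.restrictD (algebraMap R A)).obj M ≅
      DRing.toD ((DRing.restrictCx (algebraMap R A)).obj X) :=
    (DRing.restrictD (algebraMap R A)).mapIso e.symm ≪≫
      Groth.Agent.Lib.Helper15.PseudoCohRes.restrictDQIso (algebraMap R A) X
  refine Groth.Agent.Lib.Helper84.FlatAmp.torAmp_of_iso ?_ iso1.symm
  rw [Groth.Agent.Lib.Helper43.ResTensor.torAmp_res_iff]
  intro N F hF f hf i hi
  have hX := (Groth.Agent.Lib.Helper43.ResTensor.torAmp_res_iff (algebraMap R A) X c d).1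
    (Groth.Agent.Lib.Helper84.FlatAmp.torAmp_of_iso hMtor isoM) N F hF f hf
  have h1 := Groth.Agent.Lib.Helper43.ResTensor.exactAt_tensor_of_bounded_flat E
    (MonoidalCategory.tensorObj X (Groth.Agent.Lib.Helper25.KFlat.extCx (algebraMap R A) F))
    a b c d hEb hEflat hX i hi
  exact Groth.Agent.Lib.Helper43.ResTensor.exactAt_of_iso
    ((MonoidalCategory.whiskerRightIso (Groth.Agent.Lib.Helper25.TensorCx.braid X E)
      (Groth.Agent.Lib.Helper25.KFlat.extCx (algebraMap R A) F) ≪≫
      MonoidalCategory.associator E X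
        (Groth.Agent.Lib.Helper25.KFlat.extCx (algebraMap R A) F)).symm) i h1

end Groth.Agent.S7102
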