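import Groth.Statements.S7105
import Groth.Agent.Lib.Helper84.ProjTopHom
import Mathlib.Algebra.Category.ModuleCat.EnoughInjectives
import Mathlib.Algebra.Category.ModuleCat.Projective

set_option autoImplicit false
universe u
attribute [local instance] HasDerivedCategory.standard
open CategoryTheory
open DRing

namespace Groth.Agent.S7105

/-- Let R be a commutative ring, M a cochain complex of R-modules with M^i = 0 for i > 0 and M^0
projective, and K a cochain complex with K^i = 0 for all i ≤ -2. Then the canonical map
Hom_{K(R)}(M, K) → Hom_{D(R)}(M, K), from homotopy classes of chain maps to morphisms in the derived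
category, is bijective. -/
theorem result {R : Type u} [CommRing R] (M K : DRing.Cx R)
    (hM : ∀ i : ℤ, 0 < i → Limits.IsZero (M.X i)) (hM0 : Module.Projective R (M.X 0))
    (hK : ∀ i : ℤ, i ≤ -2 → Limits.IsZero (K.X i)) :
    Function.Bijective (fun φ : (HomotopyCategory.quotient (ModuleCat.{u} R) (ComplexShape.up ℤ)).obj M ⟶
        (HomotopyCategory.quotient (ModuleCat.{u} R) (ComplexShape.up ℤ)).obj K => DerivedCategory.Qh.map φ) := by
  open Groth.Agent.Lib.Helper84 DerivedCategory in
  haveI : Projective (M.X 0) := (IsProjective.iff_projective (R := R) (P := M.X 0)).1 hM0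
  open Groth.Agent.Lib.Helper84 DerivedCategory in
  constructor
  · intro φ φ' h
    obtain ⟨f, rfl⟩ := (HomotopyCategory.quotient _ _).map_surjective φ
    obtain ⟨f', rfl⟩ := (HomotopyCategory.quotient _ _).map_surjective φ'
    have h1 : Q.map (f - f') = 0 := by
      have e1 := quotientCompQhIso_hom_naturality f
      have e2 := quotientCompQhIso_hom_naturality f'
      have h' : Qh.map ((HomotopyCategory.quotient _ _).map f) =
          Qh.map ((HomotopyCategory.quotient _ _).map f') := h
      rw [h'] at e1
      have := (cancel_epi _).1 (e1.symm.trans e2)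
      rw [Functor.map_sub, this, sub_self]
    obtain ⟨ho⟩ := ProjTopHom.nonempty_homotopy_zero_of_Q_map_eq_zero M K hM hK (f - f') h1
    have h2 : (HomotopyCategory.quotient _ _).map (f - f') = 0 := by
      rw [HomotopyCategory.eq_of_homotopy _ _ ho, Functor.map_zero]
    rw [Functor.map_sub, sub_eq_zero] at h2
    exact h2
  · intro ψ
    obtain ⟨f, hf⟩ := ProjTopHom.exists_Q_map_eq M K hM hK
      ((quotientCompQhIso _).inv.app M ≫ ψ ≫ (quotientCompQhIso _).hom.app K)
    refine ⟨(HomotopyCategory.quotient _ _).map f, ?_⟩
    have e1 := quotientCompQhIso_hom_naturality f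
    rw [hf] at e1
    simp only [Category.assoc, Iso.hom_inv_id_app_assoc] at e1
    exact (cancel_mono _).1 e1

end Groth.Agent.S7105
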