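import Groth.Statements.S7106
import Groth.Agent.Lib.Helper84.ProjTopHom
import Mathlib.Algebra.Category.ModuleCat.EnoughInjectives
import Mathlib.Algebra.Category.ModuleCat.Projective

set_option autoImplicit false
universe u
attribute [local instance] HasDerivedCategory.standard
open CategoryTheory
open DRing

namespace Groth.Agent.S7106

/-- Let R be a commutative ring, M a cochain complex of R-modules with M^i = 0 for i > 0 and M^0
projective, K a cochain complex with K^i = 0 for i outside [-1, 0] and K^0 projective, and a : M → K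
a chain map. Then precomposition with a is the zero map Ext^1_R(K, N) → Ext^1_R(M, N) (morphisms
into N[1] in D(R)) for every R-module N if and only if there is a map h : M^0 → K^{-1} with a^{-1} +
h ∘ d_M^{-1} = 0. (The published statement composes h^0 with the differential K^{-1} → K^0 of K,
which is not defined; this row composes it with the differential M^{-1} → M^0 of M, as the homotopy
in the published proof does.) -/
theorem result {R : Type u} [CommRing R] (M K : DRing.Cx R)
    (hM : ∀ i : ℤ, 0 < i → Limits.IsZero (M.X i)) (hM0 : Module.Projective R (M.X 0))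
    (hK : ∀ i : ℤ, i ≠ -1 → i ≠ 0 → Limits.IsZero (K.X i)) (hK0 : Module.Projective R (K.X 0))
    (a : M ⟶ K) :
    (∀ (N : Type u) [AddCommGroup N] [Module R N] (ξ : DRing.toD K ⟶ (Dual.inD R N)⟦(1 : ℤ)⟧),
        DerivedCategory.Q.map a ≫ ξ = 0) ↔
      ∃ h : M.X 0 ⟶ K.X (-1), a.f (-1) + M.d (-1) 0 ≫ h = 0 := by
  open Groth.Agent.Lib.Helper84 DerivedCategory CochainComplex HomComplex in
  haveI : Projective (M.X 0) := (IsProjective.iff_projective (R := R) (P := M.X 0)).1 hM0
  open Groth.Agent.Lib.Helper84 DerivedCategory CochainComplex HomComplex in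
  haveI : Projective (K.X 0) := (IsProjective.iff_projective (R := R) (P := K.X 0)).1 hK0
  have hsingle : ∀ (N : ModuleCat.{u} R) (i : ℤ), i ≤ -2 →
      Limits.IsZero (((CochainComplex.singleFunctor (ModuleCat.{u} R) (-1)).obj N).X i) :=
    fun N i hi => HomologicalComplex.isZero_single_obj_X _ (-1) N i (by lia)
  have hKpos : ∀ i : ℤ, 0 < i → Limits.IsZero (K.X i) := fun i hi => hK i (by lia) (by lia)
  -- the shift isomorphism `N[0][1] ≅ N[1]`
  let eS : ∀ N : ModuleCat.{u} R, (Dual.inD R N)⟦(1 : ℤ)⟧ ≅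
      DerivedCategory.Q.obj ((CochainComplex.singleFunctor (ModuleCat.{u} R) (-1)).obj N) :=
    fun N => ((DerivedCategory.singleFunctors (ModuleCat.{u} R)).shiftIso 1 (-1) 0 (by lia)).app N
  open Groth.Agent.Lib.Helper84 DerivedCategory CochainComplex HomComplex in
  constructor
  · intro H
    have hd : K.d (-2) (-1) ≫ 𝟙 (K.X (-1)) = 0 :=
      (hK (-2) (by lia) (by lia)).eq_of_src _ _
    let p : K ⟶ (CochainComplex.singleFunctor (ModuleCat.{u} R) (-1)).obj (K.X (-1)) :=
      Cocycle.homOf (Cocycle.toSingleMk (𝟙 (K.X (-1))) (by lia : (-1 : ℤ) + 0 = -1) (-2)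
        (by lia) hd)
    have h1 : Q.map a ≫ (Q.map p ≫ (eS (K.X (-1))).inv) = 0 := H (K.X (-1)) _
    have h2 : Q.map (a ≫ p) = 0 := by
      rw [← Category.assoc] at h1
      rw [Functor.map_comp]
      exact (cancel_mono (eS (K.X (-1))).inv).1 (h1.trans Limits.zero_comp.symm)
    have h3 := ProjTopHom.nonempty_homotopy_zero_of_Q_map_eq_zero M _ hM (hsingle _) (a ≫ p) h2
    rw [ProjTopHom.comp_toSingleMk, ProjTopHom.toSingle_homotopy_zero_iff] at h3
    obtain ⟨g', hg'⟩ := h3
    refine ⟨-g', ?_⟩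
    rw [Preadditive.comp_neg, hg', Category.comp_id, add_neg_cancel]
  · rintro ⟨h, hh⟩ N _ _ ξ
    obtain ⟨f, hf⟩ := ProjTopHom.exists_Q_map_eq K _ hKpos (hsingle (ModuleCat.of R N))
      (ξ ≫ (eS (ModuleCat.of R N)).hom)
    obtain ⟨g, hg, rfl⟩ := ProjTopHom.exists_toSingleMk_eq K (ModuleCat.of R N) f
    have h1 : Nonempty (Homotopy (a ≫ Cocycle.homOf (Cocycle.toSingleMk g
        (by lia : (-1 : ℤ) + 0 = -1) (-2) (by lia) hg)) 0) := by
      rw [ProjTopHom.comp_toSingleMk, ProjTopHom.toSingle_homotopy_zero_iff]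
      refine ⟨-(h ≫ g), ?_⟩
      have : a.f (-1) = -(M.d (-1) 0 ≫ h) := eq_neg_of_add_eq_zero_left hh
      rw [this, Preadditive.comp_neg, Preadditive.neg_comp, Category.assoc]
    obtain ⟨ho⟩ := h1
    have h2 := ProjTopHom.Q_map_eq_zero_of_homotopy _ ho
    rw [Functor.map_comp, hf, ← Category.assoc] at h2
    exact (cancel_mono (eS (ModuleCat.of R N)).hom).1 (h2.trans Limits.zero_comp.symm)

end Groth.Agent.S7106
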