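import Groth.Statements.S7107
import Mathlib.LinearAlgebra.Finsupp.SumProd
import Mathlib.LinearAlgebra.Finsupp.Pi
import Mathlib.LinearAlgebra.Finsupp.LSum
import Mathlib.SetTheory.Cardinal.Arithmetic
-- import your own Groth.Agent.* helpers here

set_option autoImplicit false
universe u
open CAlg

namespace Groth.Agent.S7107

section
variable (R : Type*) [Semiring R] (α : Type*) (M N : Type*) [AddCommMonoid M] [Module R M]
  [AddCommMonoid N] [Module R N]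

noncomputable def finsuppProdCodLEquiv : (α →₀ M × N) ≃ₗ[R] (α →₀ M) × (α →₀ N) where
  toFun f := (f.mapRange Prod.fst rfl, f.mapRange Prod.snd rfl)
  invFun g := Finsupp.zipWith Prod.mk rfl g.1 g.2
  map_add' f g := by
    ext <;> simp
  map_smul' c f := by
    ext <;> simp
  left_inv f := by
    ext <;> simp
  right_inv g := by
    ext <;> simp

noncomputable def natFinsuppSucc : (ℕ →₀ M) ≃ₗ[R] (ℕ →₀ M) × M :=
  (Finsupp.domLCongr (Equiv.natSumPUnitEquivNat.{0}).symm) ≪≫ₗ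
    (Finsupp.sumFinsuppLEquivProdFinsupp R) ≪≫ₗ
    (LinearEquiv.prodCongr (LinearEquiv.refl R _) (Finsupp.uniqueLinearEquiv R M PUnit.unit))

end

theorem nat_prod_equiv (ι : Type u) [Infinite ι] : Nonempty (ℕ × ι ≃ ι) := by
  rw [← Cardinal.eq, Cardinal.mk_prod, Cardinal.mk_nat, Cardinal.lift_aleph0, Cardinal.lift_uzero]
  exact Cardinal.aleph0_mul_eq (Cardinal.aleph0_le_mk ι)

/-- Let R be a ring and P, Q modules such that P ⊕ Q is isomorphic to a free module F on an infinite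
basis. Then P ⊕ F is isomorphic to F. -/
theorem result (R : Type u) [CommRing R] (P Q : Type u) [AddCommGroup P] [Module R P]
    [AddCommGroup Q] [Module R Q] (ι : Type u) [Infinite ι] (e : (P × Q) ≃ₗ[R] (ι →₀ R)) :
    Nonempty ((P × (ι →₀ R)) ≃ₗ[R] (ι →₀ R)) := by
  obtain ⟨σ⟩ := nat_prod_equiv ι
  let e1 : (ℕ →₀ (P × Q)) ≃ₗ[R] (ι →₀ R) :=
    (Finsupp.mapRange.linearEquiv e) ≪≫ₗ (Finsupp.curryLinearEquiv R).symm ≪≫ₗ
      (Finsupp.domLCongr σ)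
  let e2 : (ℕ →₀ (P × Q)) ≃ₗ[R] (ℕ →₀ P) × (ℕ →₀ Q) := finsuppProdCodLEquiv R ℕ P Q
  let e3 : (ℕ →₀ P) ≃ₗ[R] (ℕ →₀ P) × P := natFinsuppSucc R P
  let e4 : (P × (ℕ →₀ (P × Q))) ≃ₗ[R] (ℕ →₀ (P × Q)) :=
    (LinearEquiv.prodCongr (LinearEquiv.refl R P) e2) ≪≫ₗ
      (LinearEquiv.prodAssoc R P (ℕ →₀ P) (ℕ →₀ Q)).symm ≪≫ₗ
      (LinearEquiv.prodCongr ((LinearEquiv.prodComm R P (ℕ →₀ P)) ≪≫ₗ e3.symm)
        (LinearEquiv.refl R (ℕ →₀ Q))) ≪≫ₗ e2.symm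
  exact ⟨(LinearEquiv.prodCongr (LinearEquiv.refl R P) e1.symm) ≪≫ₗ e4 ≪≫ₗ e1⟩

end Groth.Agent.S7107
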