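import Groth.Statements.S7108
import Groth.Agent.S7107
import Mathlib.LinearAlgebra.FreeModule.Basic
-- import your own Groth.Agent.* helpers here

set_option autoImplicit false
universe u
open CAlg

namespace Groth.Agent.S7108

noncomputable def splitEquiv {R F P : Type*} [Ring R] [AddCommGroup F] [Module R F]
    [AddCommGroup P] [Module R P] (π : F →ₗ[R] P) (s : P →ₗ[R] F)
    (h : π ∘ₗ s = LinearMap.id) : (P × LinearMap.ker π) ≃ₗ[R] F where
  toFun x := s x.1 + x.2
  map_add' x y := by simp; abel
  map_smul' c x := by simp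
  invFun y := (π y, ⟨y - s (π y), by
    have := LinearMap.congr_fun h (π y)
    simp only [LinearMap.comp_apply, LinearMap.id_apply] at this
    simp [this]⟩)
  left_inv x := by
    have h1 := LinearMap.congr_fun h x.1
    simp only [LinearMap.comp_apply, LinearMap.id_apply] at h1
    have h2 : π (x.2 : F) = 0 := x.2.2
    ext <;> simp [h1, h2]
  right_inv y := by simp

/-- Every projective module P over a ring R becomes free after adding a suitable free module: P ⊕ F is
free for some free module F (here F is the free module on some index type). -/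
theorem result (R : Type u) [CommRing R] (P : Type u) [AddCommGroup P]
    [Module R P] [Module.Projective R P] : ∃ ι : Type u, Module.Free R (P × (ι →₀ R)) := by
  obtain ⟨s, hs⟩ := Module.projective_def'.1 (inferInstance : Module.Projective R P)
  let Q := LinearMap.ker (Finsupp.linearCombination R (id : P → P))
  let e0 : (P × Q) ≃ₗ[R] (P →₀ R) := splitEquiv _ s hs
  let ι := P ⊕ ULift.{u} ℕ
  let e : (P × (Q × (ULift.{u} ℕ →₀ R))) ≃ₗ[R] (ι →₀ R) :=
    (LinearEquiv.prodAssoc R P Q (ULift.{u} ℕ →₀ R)).symm ≪≫ₗ
      (LinearEquiv.prodCongr e0 (LinearEquiv.refl R _)) ≪≫ₗ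
      (Finsupp.sumFinsuppLEquivProdFinsupp R).symm
  haveI : Infinite ι := Sum.infinite_of_right
  obtain ⟨E⟩ := Groth.Agent.S7107.result R P (Q × (ULift.{u} ℕ →₀ R)) ι e
  exact ⟨ι, Module.Free.of_equiv E.symm⟩

end Groth.Agent.S7108
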