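import Groth.Statements.S7114
-- import your own Groth.Agent.* helpers here

set_option autoImplicit false
universe u
open CAlg

namespace Groth.Agent.S7114

variable {R : Type u} [CommRing R]

theorem ker_le (x : R) (n : ℕ) :
    (Ideal.span {x} : Submodule R R) ≤
      Submodule.comap (LinearMap.mulLeft R (x ^ n)) (Ideal.span {x ^ (n + 1)}) := by
  intro a ha
  rw [Ideal.mem_span_singleton'] at ha
  obtain ⟨b, rfl⟩ := ha
  simp only [Submodule.mem_comap, LinearMap.mulLeft_apply]
  rw [Ideal.mem_span_singleton']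
  exact ⟨b, by ring⟩

noncomputable def f (x : R) (n : ℕ) : (R ⧸ Ideal.span {x}) →ₗ[R] (R ⧸ Ideal.span {x ^ (n + 1)}) :=
  Submodule.mapQ _ _ (LinearMap.mulLeft R (x ^ n)) (ker_le x n)

theorem pow_le (x : R) (n : ℕ) :
    (Ideal.span {x ^ (n + 1)} : Submodule R R) ≤
      Submodule.comap (LinearMap.id : R →ₗ[R] R) (Ideal.span {x ^ n}) := by
  intro a ha
  rw [Ideal.mem_span_singleton'] at ha
  obtain ⟨b, rfl⟩ := ha
  simp only [Submodule.mem_comap, LinearMap.id_apply]
  rw [Ideal.mem_span_singleton']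
  exact ⟨b * x, by ring⟩

noncomputable def g (x : R) (n : ℕ) : (R ⧸ Ideal.span {x ^ (n + 1)}) →ₗ[R] (R ⧸ Ideal.span {x ^ n}) :=
  Submodule.mapQ _ _ LinearMap.id (pow_le x n)

theorem g_surj (x : R) (n : ℕ) : Function.Surjective (g x n) := by
  intro y
  obtain ⟨a, rfl⟩ := Submodule.Quotient.mk_surjective _ y
  exact ⟨Submodule.Quotient.mk a, rfl⟩

theorem exact_fg (x : R) (n : ℕ) : Function.Exact (f x n) (g x n) := by
  intro y
  obtain ⟨a, rfl⟩ := Submodule.Quotient.mk_surjective _ y
  constructor
  · intro h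
    have h' : a ∈ Ideal.span {x ^ n} := by
      have : (Submodule.Quotient.mk a : R ⧸ (Ideal.span {x ^ n} : Submodule R R)) = 0 := h
      rwa [Submodule.Quotient.mk_eq_zero] at this
    rw [Ideal.mem_span_singleton'] at h'
    obtain ⟨b, rfl⟩ := h'
    refine ⟨Submodule.Quotient.mk b, ?_⟩
    show Submodule.Quotient.mk (x ^ n * b) = Submodule.Quotient.mk (b * x ^ n)
    rw [mul_comm]
  · rintro ⟨z, hz⟩
    obtain ⟨b, rfl⟩ := Submodule.Quotient.mk_surjective _ z
    rw [← hz]
    show (Submodule.Quotient.mk (x ^ n * b) : R ⧸ (Ideal.span {x ^ n} : Submodule R R)) = 0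
    rw [Submodule.Quotient.mk_eq_zero]
    exact Ideal.mem_span_singleton'.mpr ⟨b, by ring⟩

theorem f_inj (x : R) (n : ℕ) (hx : x ∈ nonZeroDivisors R) : Function.Injective (f x n) := by
  rw [← LinearMap.ker_eq_bot, LinearMap.ker_eq_bot']
  intro y hy
  obtain ⟨a, rfl⟩ := Submodule.Quotient.mk_surjective _ y
  have h' : x ^ n * a ∈ Ideal.span {x ^ (n + 1)} := by
    have : (Submodule.Quotient.mk (x ^ n * a) : R ⧸ (Ideal.span {x ^ (n + 1)} : Submodule R R)) = 0 := hy
    rwa [Submodule.Quotient.mk_eq_zero] at this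
  rw [Ideal.mem_span_singleton'] at h'
  obtain ⟨b, hb⟩ := h'
  have hxn : x ^ n ∈ nonZeroDivisors R := pow_mem hx n
  have : a = b * x := by
    have h2 : x ^ n * (b * x) = x ^ n * a := by rw [← hb]; ring
    exact ((mul_cancel_left_mem_nonZeroDivisors hxn).mp h2).symm
  show (Submodule.Quotient.mk a : R ⧸ (Ideal.span {x} : Submodule R R)) = 0
  rw [Submodule.Quotient.mk_eq_zero]
  exact Ideal.mem_span_singleton'.mpr ⟨b, this.symm⟩

theorem step_le (x : R) (n : ℕ) :
    Module.length R (R ⧸ Ideal.span {x ^ (n + 1)}) ≤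
      Module.length R (R ⧸ Ideal.span {x}) + Module.length R (R ⧸ Ideal.span {x ^ n}) := by
  rw [Module.length_eq_add_of_exact (LinearMap.range (f x n)).subtype (g x n)
    (Submodule.subtype_injective _) (g_surj x n)
    (by
      have := exact_fg x n
      intro y
      rw [this y]
      simp)]
  gcongr
  exact Module.length_le_of_surjective (f x n).rangeRestrict (LinearMap.surjective_rangeRestrict _)

theorem step_eq (x : R) (n : ℕ) (hx : x ∈ nonZeroDivisors R) :
    Module.length R (R ⧸ Ideal.span {x ^ (n + 1)}) =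
      Module.length R (R ⧸ Ideal.span {x}) + Module.length R (R ⧸ Ideal.span {x ^ n}) :=
  Module.length_eq_add_of_exact (f x n) (g x n) (f_inj x n hx) (g_surj x n) (exact_fg x n)

theorem main_le (x : R) (n : ℕ) :
    Module.length R (R ⧸ Ideal.span {x ^ n}) ≤ (n : ℕ∞) * Module.length R (R ⧸ Ideal.span {x}) := by
  induction n with
  | zero =>
    simp only [Nat.cast_zero, zero_mul, nonpos_iff_eq_zero]
    rw [Module.length_eq_zero_iff]
    rw [pow_zero, Ideal.span_singleton_one]
    infer_instance
  | succ n ih =>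
    refine (step_le x n).trans ?_
    push_cast
    rw [add_mul, one_mul, add_comm]
    gcongr

theorem main_eq (x : R) (n : ℕ) (hx : x ∈ nonZeroDivisors R) :
    Module.length R (R ⧸ Ideal.span {x ^ n}) = (n : ℕ∞) * Module.length R (R ⧸ Ideal.span {x}) := by
  induction n with
  | zero =>
    simp only [Nat.cast_zero, zero_mul]
    rw [Module.length_eq_zero_iff]
    rw [pow_zero, Ideal.span_singleton_one]
    infer_instance
  | succ n ih =>
    rw [step_eq x n hx, ih]
    push_cast
    rw [add_mul, one_mul, add_comm]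


/-- Let R be a Noetherian local ring of Krull dimension one and x an element of the maximal ideal lying
in no minimal prime of R. Then for every n the length of R/xⁿR is at most n times the length of
R/xR, and equality holds when x is a nonzerodivisor. -/
theorem result (R : Type u) [CommRing R] [IsNoetherianRing R] [IsLocalRing R]
    (hdim : ringKrullDim R = 1) (x : R) (hx : x ∈ IsLocalRing.maximalIdeal R)
    (hmin : ∀ p ∈ minimalPrimes R, x ∉ p) (n : ℕ) :
    Module.length R (R ⧸ Ideal.span {x ^ n}) ≤ (n : ℕ∞) * Module.length R (R ⧸ Ideal.span {x}) ∧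
      (x ∈ nonZeroDivisors R →
        Module.length R (R ⧸ Ideal.span {x ^ n}) = (n : ℕ∞) * Module.length R (R ⧸ Ideal.span {x})) := by
  exact ⟨main_le x n, main_eq x n⟩

end Groth.Agent.S7114
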