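import Groth.Statements.S7115
import Mathlib

set_option autoImplicit false
universe u
open CAlg

namespace Groth.Agent.S7115

section
variable {R : Type u} [CommRing R] [IsNoetherianRing R] [IsLocalRing R]

omit [IsNoetherianRing R] [IsLocalRing R] in
theorem one_le_height_span (f : R) (hmin : ∀ p ∈ minimalPrimes R, f ∉ p) :
    (1 : ℕ∞) ≤ (Ideal.span {f}).height := by
  rw [Ideal.height_eq_inf_minimalPrimes]
  refine le_iInf₂ fun K hK => ?_
  have hKp := hK.isPrime
  rw [Order.one_le_iff_ne_zero, Ne, Ideal.height_eq_zero_iff]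
  intro hKmin
  exact hmin K hKmin (hK.le (Ideal.subset_span rfl))

theorem step (d : ℕ) (hd : ringKrullDim R = d) (I : Ideal R)
    (n : ℕ) (hn : n ≠ 0) (hI : I = IsLocalRing.maximalIdeal R ^ n)
    (J : Ideal R) (j : ℕ) (hj : j + 1 < d) (hJ : ((j + 1 : ℕ) : ℕ∞) ≤ J.height) :
    ∃ x ∈ I, ((j + 2 : ℕ) : ℕ∞) ≤ (J ⊔ Ideal.span {x}).height := by
  classical
  let S := { K | K ∈ J.minimalPrimes ∧ Ideal.height K = ((j + 1 : ℕ) : ℕ∞) }
  have hS : Set.Finite S := Set.Finite.subset J.finite_minimalPrimes_of_isNoetherianRing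
    (fun _ h => h.1)
  have hmh : (IsLocalRing.maximalIdeal R).height = (d : ℕ∞) := by
    have := IsLocalRing.maximalIdeal_height_eq_ringKrullDim (R := R)
    rw [hd] at this
    exact_mod_cast this
  have : ¬(I : Set R) ⊆ ⋃ K ∈ hS.toFinset, (K : Set R) := by
    refine (Ideal.subset_union_prime ⊥ ⊥ ?_).not.mpr ?_
    · rintro K hK - -
      rw [Set.Finite.mem_toFinset] at hK
      exact hK.1.isPrime
    · push Not
      intro K hK e
      rw [Set.Finite.mem_toFinset] at hK
      have hKp := hK.1.isPrime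
      rw [hI, Ideal.IsPrime.pow_le_iff hn] at e
      have hKm : K = IsLocalRing.maximalIdeal R :=
        le_antisymm (IsLocalRing.le_maximalIdeal hKp.ne_top) e
      have h1 := hK.2
      rw [hKm, hmh] at h1
      have : d = j + 1 := by exact_mod_cast h1
      omega
  simp_rw [Set.not_subset, Set.mem_iUnion, not_exists, Set.Finite.mem_toFinset] at this
  obtain ⟨x, hx₁, hx₂⟩ := this
  refine ⟨x, hx₁, ?_⟩
  rw [Ideal.height_eq_inf_minimalPrimes]
  refine le_iInf₂ (fun p hp ↦ ?_)
  have := hp.isPrime
  by_cases h : p.height = ⊤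
  · exact le_of_le_of_eq le_top h.symm
  have : p.FiniteHeight := ⟨Or.inr h⟩
  have hmono := Ideal.height_mono (le_sup_left.trans hp.le)
  suffices h : ((j + 1 : ℕ) : ℕ∞) ≠ p.height by
    have := Order.add_one_le_of_lt (lt_of_le_of_ne (hJ.trans hmono) h)
    exact_mod_cast this
  intro e
  apply hx₂ p
  · exact ⟨Ideal.mem_minimalPrimes_of_height_le (le_sup_left.trans hp.le) (e.symm.trans_le hJ),
      e.symm⟩
  · apply hp.le <| Ideal.mem_sup_right <| Ideal.mem_span_singleton_self x

theorem exists_family (d : ℕ) (hd : ringKrullDim R = d) (f : R)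
    (hmin : ∀ p ∈ minimalPrimes R, f ∉ p) (I : Ideal R)
    (n : ℕ) (hn : n ≠ 0) (hI : I = IsLocalRing.maximalIdeal R ^ n) (j : ℕ) (hj : j + 1 ≤ d) :
    ∃ g : Fin j → R, (∀ i, g i ∈ I) ∧
      ((j + 1 : ℕ) : ℕ∞) ≤ (Ideal.span (insert f (Set.range g))).height := by
  induction j with
  | zero =>
    refine ⟨Fin.elim0, fun i => i.elim0, ?_⟩
    have : (insert f (Set.range (Fin.elim0 : Fin 0 → R))) = {f} := by
      ext y
      simp
    rw [this]
    simpa using one_le_height_span f hmin
  | succ j ih =>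
    obtain ⟨g, hgI, hgh⟩ := ih (by omega)
    obtain ⟨x, hxI, hxh⟩ := step d hd I n hn hI _ j (by omega) hgh
    refine ⟨Fin.snoc g x, ?_, ?_⟩
    · intro i
      refine Fin.lastCases ?_ (fun i => ?_) i
      · simpa using hxI
      · simpa using hgI i
    · refine hxh.trans (Ideal.height_mono ?_)
      rw [sup_le_iff, Ideal.span_le, Ideal.span_le]
      constructor
      · intro y hy
        rcases hy with rfl | ⟨i, rfl⟩
        · exact Ideal.subset_span (Set.mem_insert _ _)
        · apply Ideal.subset_span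
          right
          exact ⟨i.castSucc, by simp⟩
      · intro y hy
        rw [Set.mem_singleton_iff] at hy
        subst hy
        apply Ideal.subset_span
        right
        exact ⟨Fin.last j, by simp⟩

end

/-- Let R be a Noetherian local ring of Krull dimension d > 1 with maximal ideal m, let f be an element
of m contained in no minimal prime, and let k be a natural number. Then there are elements g_1, ...,
g_{d-1} of m lying in m^k such that f, g_1, ..., g_{d-1} form a system of parameters: these d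
elements of m generate an ideal whose radical is m. -/
theorem result (R : Type u) [CommRing R] [IsNoetherianRing R] [IsLocalRing R]
    (d : ℕ) (hd : ringKrullDim R = d) (h1 : 1 < d) (f : R) (hf : f ∈ IsLocalRing.maximalIdeal R)
    (hmin : ∀ p ∈ minimalPrimes R, f ∉ p) (k : ℕ) :
    ∃ g : Fin (d - 1) → R, (∀ i, g i ∈ IsLocalRing.maximalIdeal R ^ k) ∧ (∀ i, g i ∈ IsLocalRing.maximalIdeal R) ∧
      IsLocalRing.maximalIdeal R ≤ (Ideal.span (insert f (Set.range g))).radical := by
  obtain ⟨g, hgI, hgh⟩ := exists_family d hd f hmin (IsLocalRing.maximalIdeal R ^ (k + 1)) (k + 1)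
    (by omega) rfl (d - 1) (by omega)
  have hgm : ∀ i, g i ∈ IsLocalRing.maximalIdeal R := fun i =>
    Ideal.pow_le_self (by omega) (hgI i)
  refine ⟨g, fun i => Ideal.pow_le_pow_right (Nat.le_succ k) (hgI i), hgm, ?_⟩
  have hmh : (IsLocalRing.maximalIdeal R).height = (d : ℕ∞) := by
    have := IsLocalRing.maximalIdeal_height_eq_ringKrullDim (R := R)
    rw [hd] at this
    exact_mod_cast this
  rw [Ideal.radical_eq_sInf]
  refine le_sInf ?_
  rintro P ⟨hJP, hP⟩
  have hle : P ≤ IsLocalRing.maximalIdeal R := IsLocalRing.le_maximalIdeal hP.ne_top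
  have hfin : (IsLocalRing.maximalIdeal R).FiniteHeight := ⟨Or.inr (by rw [hmh]; simp)⟩
  by_contra hne
  have hlt : P < IsLocalRing.maximalIdeal R := lt_of_le_of_ne hle (fun h => hne h.ge)
  have h2 := Ideal.height_strict_mono_of_isPrime_of_isPrime hlt
  have h3 := hgh.trans (Ideal.height_mono hJP)
  rw [hmh] at h2
  have h4 : ((d - 1 + 1 : ℕ) : ℕ∞) = d := by
    congr 1
    omega
  rw [h4] at h3
  exact absurd (lt_of_le_of_lt h3 h2) (lt_irrefl _)

end Groth.Agent.S7115
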