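import Groth.Statements.S7116
import Mathlib
import Groth.Agent.Lib.Helper90.DimParam

set_option autoImplicit false
universe u
open CAlg

namespace Groth.Agent.S7116

open IsLocalRing Module Pointwise

section
variable {R : Type u} [CommRing R] [IsNoetherianRing R] [IsLocalRing R]

instance : Finite (MaximalSpectrum R) := by
  have : Subsingleton (MaximalSpectrum R) := by
    constructor
    intro a b
    ext1
    rw [IsLocalRing.eq_maximalIdeal a.isMaximal, IsLocalRing.eq_maximalIdeal b.isMaximal]
  infer_instance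

/-- A finite length cyclic quotient: a power of the maximal ideal kills it. -/
theorem exists_pow_smul_top_eq_bot (Q : Type u) [AddCommGroup Q] [Module R Q] [Module.Finite R Q]
    (hfl : IsFiniteLength R Q) : ∃ k : ℕ, (maximalIdeal R ^ k) • (⊤ : Submodule R Q) = ⊥ := by
  have hart : IsArtinian R Q := (isFiniteLength_iff_isNoetherian_isArtinian.mp hfl).2
  let φ : ℕ →o (Submodule R Q)ᵒᵈ :=
    ⟨fun k => OrderDual.toDual ((maximalIdeal R ^ k) • (⊤ : Submodule R Q)), by
      intro a b hab
      change (maximalIdeal R ^ b) • (⊤ : Submodule R Q) ≤ (maximalIdeal R ^ a) • (⊤ : Submodule R Q)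
      exact Submodule.smul_mono_left (Ideal.pow_le_pow_right hab)⟩
  obtain ⟨k, hk⟩ := IsArtinian.monotone_stabilizes φ
  refine ⟨k, ?_⟩
  have h1 : (maximalIdeal R ^ k) • (⊤ : Submodule R Q) =
      (maximalIdeal R ^ (k + 1)) • (⊤ : Submodule R Q) := by
    have := hk (k + 1) (Nat.le_succ k)
    exact congrArg OrderDual.ofDual this
  apply Submodule.eq_bot_of_le_smul_of_le_jacobson_bot (maximalIdeal R) _
    (IsNoetherian.noetherian _)
  · conv_lhs => rw [h1]
    rw [pow_succ', mul_smul]
  · exact (IsLocalRing.jacobson_eq_maximalIdeal ⊥ bot_ne_top).ge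

end

/-- Let R be a Noetherian local ring of Krull dimension d with maximal ideal m and let f be an element
of m contained in no minimal prime. Then there are g_1, ..., g_{d-1} in m and a natural number N
such that f, g_1, ..., g_{d-1} is a system of parameters (these d elements of m generate an ideal
with radical m) and, for every h in m^N, the elements f + h, g_1, ..., g_{d-1} again form a system
of parameters and the lengths of R/(f, g_1, ..., g_{d-1}) and R/(f + h, g_1, ..., g_{d-1}) agree. -/
theorem result (R : Type u) [CommRing R] [IsNoetherianRing R] [IsLocalRing R]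
    (d : ℕ) (hd : ringKrullDim R = d) (f : R) (hf : f ∈ IsLocalRing.maximalIdeal R)
    (hmin : ∀ p ∈ minimalPrimes R, f ∉ p) :
    ∃ (g : Fin (d - 1) → R) (N : ℕ), (∀ i, g i ∈ IsLocalRing.maximalIdeal R) ∧
      IsLocalRing.maximalIdeal R ≤ (Ideal.span (insert f (Set.range g))).radical ∧
      ∀ h ∈ IsLocalRing.maximalIdeal R ^ N,
        IsLocalRing.maximalIdeal R ≤ (Ideal.span (insert (f + h) (Set.range g))).radical ∧
        Module.length R (R ⧸ Ideal.span (insert f (Set.range g))) =
          Module.length R (R ⧸ Ideal.span (insert (f + h) (Set.range g))) := by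
  classical
  -- d ≠ 0
  have hd0 : d ≠ 0 := by
    rintro rfl
    have h0 : (maximalIdeal R).height = 0 := by
      have h : ((maximalIdeal R).height : WithBot ℕ∞) = ((0 : ℕ∞) : WithBot ℕ∞) := by
        rw [maximalIdeal_height_eq_ringKrullDim, hd]; rfl
      exact WithBot.coe_injective h
    exact hmin _ (Ideal.height_eq_zero_iff.mp h0) hf
  obtain ⟨e, rfl⟩ := Nat.exists_eq_succ_of_ne_zero hd0
  change ∃ (g : Fin e → R) (N : ℕ), _
  -- dimension of Q = R/fR
  have hann : annihilator R R = ⊥ := Module.annihilator_eq_bot.mpr inferInstance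
  have hQ1 : supportDim R (QuotSMulTop f R) + 1 ≤ supportDim R R :=
    supportDim_quotSMulTop_succ_le_of_notMem_minimalPrimes (by rw [hann]; exact hmin)
  rw [supportDim_self_eq_ringKrullDim, hd] at hQ1
  have hQ : supportDim R (QuotSMulTop f R) ≤ e := by
    rcases Groth.Agent.Lib.Helper90.DimParam.withBot_enat_cases (supportDim R (QuotSMulTop f R))
      with hb | ht | ⟨e', he'⟩
    · rw [hb]; exact bot_le
    · rw [ht] at hQ1
      exfalso
      have : (⊤ : WithBot ℕ∞) + 1 = ⊤ := rfl
      rw [this, top_le_iff] at hQ1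
      have h' : (((e + 1 : ℕ) : ℕ∞) : WithBot ℕ∞) = ((⊤ : ℕ∞) : WithBot ℕ∞) := hQ1
      exact absurd (WithBot.coe_injective h') (ENat.coe_ne_top _)
    · rw [he'] at hQ1 ⊢
      have : e' + 1 ≤ e + 1 := by exact_mod_cast hQ1
      exact_mod_cast (by omega : e' ≤ e)
  obtain ⟨n, hn, x, hx, hfl⟩ := Groth.Agent.Lib.Helper90.DimParam.exists_params e hQ
  have hxm : ∀ j, x j ∈ maximalIdeal R := by
    intro j
    have := hx j
    rwa [IsLocalRing.ringJacobson_eq_maximalIdeal] at this
  let g : Fin e → R := fun i => if h : (i : ℕ) < n then x ⟨i, h⟩ else 0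
  have hg1 : ∀ i, g i ∈ maximalIdeal R := by
    intro i
    simp only [g]
    split_ifs with h
    · exact hxm _
    · exact Ideal.zero_mem _
  have hg2 : Ideal.span (Set.range x) ≤ Ideal.span (Set.range g) := by
    apply Ideal.span_mono
    rintro _ ⟨j, rfl⟩
    refine ⟨⟨j, lt_of_lt_of_le j.2 hn⟩, ?_⟩
    simp [g]
  have hkey : ∃ k : ℕ, maximalIdeal R ^ k ≤ Ideal.span (insert f (Set.range g)) := by
    obtain ⟨k, hk⟩ := exists_pow_smul_top_eq_bot
      (QuotSMulTop f R ⧸ (Ideal.span (Set.range x) • (⊤ : Submodule R (QuotSMulTop f R)))) hfl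
    refine ⟨k, fun r hr => ?_⟩
    have h0 : r • (Submodule.Quotient.mk (Submodule.Quotient.mk (1 : R)) :
        QuotSMulTop f R ⧸ (Ideal.span (Set.range x) • (⊤ : Submodule R (QuotSMulTop f R)))) = 0 := by
      have : r • (Submodule.Quotient.mk (Submodule.Quotient.mk (1 : R)) :
        QuotSMulTop f R ⧸ (Ideal.span (Set.range x) • (⊤ : Submodule R (QuotSMulTop f R)))) ∈
          (maximalIdeal R ^ k) • (⊤ : Submodule R _) :=
        Submodule.smul_mem_smul hr Submodule.mem_top
      rw [hk] at this
      exact (Submodule.mem_bot R).mp this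
    rw [← Submodule.Quotient.mk_smul, ← Submodule.Quotient.mk_smul, smul_eq_mul, mul_one,
      Submodule.Quotient.mk_eq_zero] at h0
    have hmap : (Ideal.span (Set.range x) • (⊤ : Submodule R (QuotSMulTop f R))) =
        Submodule.map (Submodule.mkQ (f • (⊤ : Submodule R R)))
          (Ideal.span (Set.range x) • (⊤ : Submodule R R)) := by
      rw [Submodule.map_smul'', Submodule.map_top, Submodule.range_mkQ]
    rw [hmap] at h0
    obtain ⟨r', hr', hrr'⟩ := h0
    have hr'' : r' ∈ Ideal.span (Set.range x) := by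
      rwa [smul_eq_mul, Ideal.mul_top] at hr'
    have hsub : r' - r ∈ f • (⊤ : Submodule R R) := by
      rw [← Submodule.Quotient.mk_eq_zero, Submodule.Quotient.mk_sub]
      rw [Submodule.mkQ_apply] at hrr'
      rw [hrr', sub_self]
    obtain ⟨c, -, hc⟩ := (Submodule.mem_smul_pointwise_iff_exists _ _ _).mp hsub
    have hr_eq : r = r' - f * c := by
      rw [smul_eq_mul] at hc; rw [hc]; ring
    rw [hr_eq]
    refine Ideal.sub_mem _ ?_ ?_
    · exact Ideal.span_mono (Set.subset_insert _ _) (hg2 hr'')
    · exact Ideal.mul_mem_right _ _ (Ideal.subset_span (Set.mem_insert _ _))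
  obtain ⟨k, hk⟩ := hkey
  have hrad : ∀ I : Ideal R, maximalIdeal R ^ k ≤ I → maximalIdeal R ≤ I.radical := by
    intro I hI a ha
    exact ⟨k, hI (Ideal.pow_mem_pow ha k)⟩
  refine ⟨g, k + 1, hg1, hrad _ hk, fun h hh => ?_⟩
  have hhI : h ∈ maximalIdeal R * Ideal.span (insert f (Set.range g)) := by
    rw [pow_succ'] at hh
    exact Ideal.mul_mono_right hk hh
  have hhI' : h ∈ Ideal.span (insert f (Set.range g)) := (Ideal.mul_le_inf.trans inf_le_right) hhI
  have hle1 : Ideal.span (insert (f + h) (Set.range g)) ≤ Ideal.span (insert f (Set.range g)) := by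
    rw [Ideal.span_le]
    rintro a (rfl | ha)
    · exact Ideal.add_mem _ (Ideal.subset_span (Set.mem_insert _ _)) hhI'
    · exact Ideal.subset_span (Set.mem_insert_of_mem _ ha)
  have hle2 : Ideal.span (insert f (Set.range g)) ≤ Ideal.span (insert (f + h) (Set.range g)) := by
    apply Submodule.le_of_le_smul_of_le_jacobson_bot (I := maximalIdeal R)
      (IsNoetherian.noetherian _)
      (IsLocalRing.jacobson_eq_maximalIdeal ⊥ bot_ne_top).ge
    rw [Ideal.span_le]
    rintro a (rfl | ha)
    · have h1 := Submodule.sub_mem (Ideal.span (insert (a + h) (Set.range g)) ⊔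
          maximalIdeal R • Ideal.span (insert a (Set.range g)))
        (Submodule.mem_sup_left (Ideal.subset_span (Set.mem_insert (a + h) _)))
        (Submodule.mem_sup_right hhI)
      have h2 : a + h - h = a := by ring
      rw [h2] at h1
      exact h1
    · exact Submodule.mem_sup_left (Ideal.subset_span (Set.mem_insert_of_mem _ ha))
  have heq : Ideal.span (insert (f + h) (Set.range g)) = Ideal.span (insert f (Set.range g)) :=
    le_antisymm hle1 hle2
  rw [heq]
  exact ⟨hrad _ hk, rfl⟩

end Groth.Agent.S7116
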