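import Groth.Statements.S7117
import Groth.Agent.Lib.Helper59.Mult

set_option autoImplicit false
universe u
open CAlg

namespace Groth.Agent.S7117

/-- Let R be a Noetherian local ring of Krull dimension d with maximal ideal m, and suppose g_1, ...,
g_d in m form a system of parameters (they generate an ideal with radical m). Then the number of
minimal prime ideals p of R with R/p of Krull dimension d is at most the length of R/(g_1, ...,
g_d). -/
theorem result (R : Type u) [CommRing R] [IsNoetherianRing R] [IsLocalRing R]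
    (d : ℕ) (hd : ringKrullDim R = d) (g : Fin d → R) (hg : ∀ i, g i ∈ IsLocalRing.maximalIdeal R)
    (hsop : IsLocalRing.maximalIdeal R ≤ (Ideal.span (Set.range g)).radical) :
    (Set.ncard {p : Ideal R | p ∈ minimalPrimes R ∧ ringKrullDim (R ⧸ p) = d} : ℕ∞) ≤
      Module.length R (R ⧸ Ideal.span (Set.range g)) := by
  classical
  set q := Ideal.span (Set.range g) with hqdef
  set P : Set (Ideal R) := {p : Ideal R | p ∈ minimalPrimes R ∧ ringKrullDim (R ⧸ p) = d} with hP
  have hq : ∃ N : ℕ, IsLocalRing.maximalIdeal R ^ N ≤ q :=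
    Ideal.exists_pow_le_of_le_radical_of_fg hsop (IsNoetherian.noetherian _)
  have hPfin : P.Finite :=
    (minimalPrimes.finite_of_isNoetherianRing R).subset (fun p hp => hp.1)
  rcases eq_or_ne (Module.length R (R ⧸ q)) ⊤ with htop | hfin
  · rw [htop]; exact le_top
  · have h1 := Groth.Agent.Lib.Helper59.Mult.card_le_mult g hq hg hPfin.toFinset
      (fun p hp => (hPfin.mem_toFinset.mp hp))
    have h2 : Groth.Agent.Lib.Helper59.Mult.mult q d (R ⧸ hPfin.toFinset.inf id) ≤
        Groth.Agent.Lib.Helper59.Mult.mult q d R :=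
      Groth.Agent.Lib.Helper59.Mult.mult_le_of_surjective g hq
        (Submodule.mkQ (hPfin.toFinset.inf id)) (Submodule.mkQ_surjective _)
    have h3 := Groth.Agent.Lib.Helper59.Mult.mult_le_length g hq R
    have h4 : (q • (⊤ : Submodule R R)) = q := by rw [smul_eq_mul, Ideal.mul_top]
    rw [h4] at h3
    have h5 : (hPfin.toFinset.card : ℝ) ≤ ((Module.length R (R ⧸ q)).toNat : ℝ) :=
      h1.trans (h2.trans h3)
    have h6 : hPfin.toFinset.card ≤ (Module.length R (R ⧸ q)).toNat := by exact_mod_cast h5
    rw [Set.ncard_eq_toFinset_card P hPfin, ← ENat.natCast_toNat hfin]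
    exact_mod_cast h6

end Groth.Agent.S7117
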