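import Mathlib
-- Template for statement S7121 (row 7120; see the milestone table for weights).
-- Copy to Groth/Agent/S7121.lean and replace the sorry. The statement below is byte-identical to the frozen
-- statement CAlg.GrothFrozen.S7121 (Groth/Statements/S7121.lean; the theorem CAlg.finitePresentation_free_prod_torsion_of_isBezout);
-- the grader kernel-checks Groth.Agent.S7121.result against that frozen type. Keep the theorem IN THIS FILE
-- (a `result` declared elsewhere and merely imported here is not credited); helpers may live anywhere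
-- under Groth/Agent/.
import Groth.Statements.S7121
import Groth.Agent.Lib.Helper24.BezoutFP

set_option autoImplicit false
universe u
open CAlg

namespace Groth.Agent.S7121

/-- Over a Bézout domain R, a finitely presented module M splits as R^r ⊕ M_tors for some r, and its
torsion part M_tors is a retract (direct summand) of R/f_1R ⊕ … ⊕ R/f_nR for some nonzero f_1, …,
f_n. -/
theorem result (R : Type u) [CommRing R] [IsDomain R] [IsBezout R]
    (M : Type u) [AddCommGroup M] [Module R M] [Module.FinitePresentation R M] :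
    (∃ r : ℕ, Nonempty (M ≃ₗ[R] ((Fin r → R) × Submodule.torsion R M))) ∧
      ∃ (n : ℕ) (f : Fin n → R), (∀ j, f j ≠ 0) ∧
        ∃ (i : Submodule.torsion R M →ₗ[R] ((j : Fin n) → R ⧸ Ideal.span {f j}))
          (p : ((j : Fin n) → R ⧸ Ideal.span {f j}) →ₗ[R] Submodule.torsion R M),
          p ∘ₗ i = LinearMap.id := by
  classical
  obtain ⟨h1, hFP⟩ := Groth.Agent.Lib.Helper24.RDProj.exists_equiv_free_prod_torsion R M
  refine ⟨h1, ?_⟩
  haveI := hFP
  obtain ⟨ι, f, i, p, hpi⟩ := Groth.Agent.S7123.backward (R := R) (Submodule.torsion R M)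
    (fun B C _ _ _ _ π hπ hRD ψ =>
      Groth.Agent.Lib.Helper24.RDProj.exists_lift_of_locally_chain
        (fun m _ a b => Groth.Agent.Lib.Helper24.RDProj.dvd_total_localization_of_isBezout m a b)
        (Submodule.torsion R M) π hπ hRD ψ)
  obtain ⟨n, g, i', p', hpi', hne⟩ :=
    Groth.Agent.Lib.Helper24.RDProj.finite_retract (Submodule.torsion R M) ι f i p hpi
  refine ⟨n, fun k => f (g k), ?_, i', p', hpi'⟩
  intro k hk
  have hk' : f (g k) = 0 := hk
  obtain ⟨x, hx⟩ := hne k
  apply hx
  obtain ⟨⟨r, hr⟩, hrx⟩ := x.2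
  have hrx' : r • x = 0 := Subtype.ext hrx
  obtain ⟨y, hy⟩ := Submodule.Quotient.mk_surjective _ (i x (g k))
  have h0 : r • (i x (g k)) = 0 := by
    rw [← DirectSum.smul_apply, ← map_smul, hrx', map_zero]
    rfl
  rw [← hy, ← Submodule.Quotient.mk_smul, Submodule.Quotient.mk_eq_zero, hk',
    Ideal.mem_span_singleton, zero_dvd_iff, smul_eq_mul] at h0
  have hy0 : y = 0 := by
    rcases mul_eq_zero.mp h0 with h | h
    · exact absurd h (nonZeroDivisors.ne_zero hr)
    · exact h
  rw [← hy, hy0]
  rfl

end Groth.Agent.S7121
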