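import Groth.Statements.S7122
import Groth.Agent.S7120
import Mathlib.LinearAlgebra.Dimension.Constructions
import Mathlib.LinearAlgebra.Dimension.Free
import Mathlib.LinearAlgebra.FreeModule.StrongRankCondition
import Mathlib.LinearAlgebra.Matrix.NonsingularInverse
import Mathlib.LinearAlgebra.Matrix.ToLin
import Mathlib.LinearAlgebra.Finsupp.LinearCombination
-- import your own Groth.Agent.* helpers here

set_option autoImplicit false
universe u
open CAlg

namespace Groth.Agent.S7122

/-- Let R be a Bézout domain, n ≥ 1, and f_1, ..., f_n elements generating the unit ideal. Then some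
invertible n × n matrix over R has (f_1, ..., f_n) as its first row. -/
theorem result (R : Type u) [CommRing R] [IsDomain R] [IsBezout R]
    (n : ℕ) (f : Fin (n + 1) → R) (hf : Ideal.span (Set.range f) = ⊤) :
    ∃ A : Matrix (Fin (n + 1)) (Fin (n + 1)) R, IsUnit A.det ∧ A 0 = f := by
  classical
  let V := Fin (n + 1) → R
  let φ : V →ₗ[R] R := Fintype.linearCombination R f
  have hφ : Function.Surjective φ := by
    rw [← LinearMap.range_eq_top]
    show LinearMap.range (Fintype.linearCombination R f) = ⊤
    rw [Fintype.range_linearCombination]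
    exact hf
  obtain ⟨s, hs⟩ := φ.exists_rightInverse_of_surjective (LinearMap.range_eq_top.2 hφ)
  have hs1 : ∀ r, φ (s r) = r := fun r => LinearMap.congr_fun hs r
  let K : Submodule R V := LinearMap.ker φ
  let e1 : (K × R) ≃ₗ[R] V :=
    lequivProdOfRightSplitExact (j := K.subtype) (g := φ)
      (Submodule.subtype_injective _) (by simp [K]) hs
  have hfin1 : Module.Finite R (K × R) := Module.Finite.equiv e1.symm
  have hfinK : Module.Finite R K :=
    Module.Finite.of_surjective (LinearMap.fst R K R) LinearMap.fst_surjective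
  have hKfg : K.FG := Module.Finite.iff_fg.mp hfinK
  obtain ⟨hfree, -⟩ := Groth.Agent.S7120.result R V K hKfg
  have hrank : Module.finrank R K = n := by
    have h1 : Module.finrank R (K × R) = Module.finrank R V := LinearEquiv.finrank_eq e1
    rw [Module.finrank_prod, Module.finrank_self, Module.finrank_fin_fun] at h1
    omega
  let c : Module.Basis (Fin n) R K := Module.finBasisOfFinrankEq R K hrank
  let e2 : K ≃ₗ[R] (Fin n → R) := c.equivFun
  let q : V →ₗ[R] K := (LinearMap.id - s ∘ₗ φ).codRestrict K (by
    intro v
    simp only [K, LinearMap.mem_ker, LinearMap.sub_apply, LinearMap.id_apply,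
      LinearMap.comp_apply, map_sub, hs1, sub_self])
  let G : V →ₗ[R] V :=
    (Fin.consLinearEquiv R (fun _ : Fin (n + 1) => R)).toLinearMap ∘ₗ
      LinearMap.prod φ (e2.toLinearMap ∘ₗ q)
  let H : V →ₗ[R] V :=
    (s ∘ₗ LinearMap.fst R R (Fin n → R) + K.subtype ∘ₗ e2.symm.toLinearMap ∘ₗ
      LinearMap.snd R R (Fin n → R)) ∘ₗ
      (Fin.consLinearEquiv R (fun _ : Fin (n + 1) => R)).symm.toLinearMap
  have hGH : G ∘ₗ H = LinearMap.id := by
    apply LinearMap.ext
    intro w
    obtain ⟨⟨a, t⟩, rfl⟩ := (Fin.consLinearEquiv R (fun _ : Fin (n + 1) => R)).surjective w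
    have hφk : φ ((e2.symm t : K) : V) = 0 := (e2.symm t).2
    have hH : H (Fin.consLinearEquiv R (fun _ : Fin (n + 1) => R) (a, t)) =
        s a + ((e2.symm t : K) : V) := by
      simp only [H, LinearMap.comp_apply, LinearEquiv.coe_coe, LinearEquiv.symm_apply_apply,
        LinearMap.add_apply, LinearMap.fst_apply, LinearMap.snd_apply, Submodule.subtype_apply]
    have hφH : φ (s a + ((e2.symm t : K) : V)) = a := by
      rw [map_add, hs1, hφk, add_zero]
    have hq : q (s a + ((e2.symm t : K) : V)) = e2.symm t := by
      apply Subtype.ext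
      simp only [q, LinearMap.codRestrict_apply, LinearMap.sub_apply, LinearMap.id_apply,
        LinearMap.comp_apply]
      rw [hφH]
      abel
    simp only [LinearMap.comp_apply, LinearMap.id_apply]
    rw [hH]
    have hG : ∀ v, G v = Fin.consLinearEquiv R (fun _ : Fin (n + 1) => R) (φ v, e2 (q v)) := by
      intro v
      rfl
    rw [hG, hφH, hq, LinearEquiv.apply_symm_apply]
  refine ⟨LinearMap.toMatrix' G, ?_, ?_⟩
  · apply Matrix.isUnit_det_of_right_inverse (B := LinearMap.toMatrix' H)
    rw [← LinearMap.toMatrix'_comp, hGH, LinearMap.toMatrix'_id]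
  · funext j
    rw [LinearMap.toMatrix'_apply]
    have hG : ∀ v, G v = Fin.consLinearEquiv R (fun _ : Fin (n + 1) => R) (φ v, e2 (q v)) := by
      intro v
      rfl
    rw [hG]
    show Fintype.linearCombination R f (Pi.single j 1) = f j
    rw [Fintype.linearCombination_apply_single, one_smul]

end Groth.Agent.S7122
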