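import Groth.Statements.S7131
import Groth.Agent.Lib.Helper43.TorDim
import Groth.Agent.Lib.Helper69.TorAmpWEt

set_option autoImplicit false
universe u
open EtAlg CategoryTheory
attribute [local instance] HasDerivedCategory.standard

namespace Groth.Agent.S7131

/-- Suppose A → B is weakly étale and every A-module has tor dimension at most d. Then every B-module
has tor dimension at most d over B (weak dimension at most d ascends along weakly étale maps). -/
theorem result (A B : Type u) [CommRing A] [CommRing B] [Algebra A B]
    [Algebra.WeaklyEtale A B] (d : ℕ)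
    (hA : ∀ (M : Type u) [AddCommGroup M] [Module A M], DRing.HasTorDimLE A d M)
    (N : Type u) [AddCommGroup N] [Module B N] : DRing.HasTorDimLE B d N := by
  intro N' _ _ p hp
  let NB : ModuleCat.{u} B := ModuleCat.of B N
  let NA : ModuleCat.{u} A := (ModuleCat.restrictScalars.{u} (algebraMap A B)).obj NB
  -- tor dimension of `N` over `A`
  have h1 : ∀ (X : ModuleCat.{u} A) (q : ℕ), d < q →
      Limits.IsZero (Groth.Agent.Lib.Helper43.TorDim.T q NA X) := by
    intro X q hq
    haveI : Subsingleton (DRing.Tor A q NA X) := hA NA X q hq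
    exact ModuleCat.isZero_of_subsingleton _
  have h2 := Groth.Agent.Lib.Helper43.TorDim.hasTorAmplitudeIn_single_of_isZero_T NA d h1
  -- transfer to `D(B)`
  have e : (DerivedCategory.singleFunctor (ModuleCat.{u} A) 0).obj NA ≅
      (DRing.restrictD (algebraMap A B)).obj
        ((DerivedCategory.singleFunctor (ModuleCat.{u} B) 0).obj NB) :=
    ((ModuleCat.restrictScalars.{u} (algebraMap A B)).mapDerivedCategorySingleFunctor 0).symm.app NB
  have h3 := (Groth.Agent.Lib.Helper69.TorAmpWEt.torAmp_restrictD_iff_of_weaklyEtale A B
    (-(d : ℤ)) 0 _).1 (Groth.Agent.Lib.Helper84.FlatAmp.torAmp_of_iso h2 e)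
  have h4 := Groth.Agent.Lib.Helper43.TorDim.isZero_T_of_hasTorAmplitudeIn_single NB d h3
    (ModuleCat.of B N') p hp
  exact ModuleCat.subsingleton_of_isZero h4

end Groth.Agent.S7131
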