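import Mathlib
import Groth.Statements.S7133
import Groth.Agent.Lib.Helper9.DvrExt

set_option autoImplicit false
universe u
open EtAlg

namespace Groth.Agent.S7133

open Groth.Agent.Lib.Helper9.DvrExt

/-- For an injective local homomorphism A → B of discrete valuation rings whose fields of fractions are
K ⊆ L: if K has characteristic p > 0 and L/K is purely inseparable, then the ramification index of B
over A is a power of p. -/
theorem result (A B K L : Type u) [CommRing A] [IsDomain A]
    [IsDiscreteValuationRing A] [CommRing B] [IsDomain B] [IsDiscreteValuationRing B] [Algebra A B]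
    (hinj : Function.Injective (algebraMap A B)) [IsLocalHom (algebraMap A B)]
    [Field K] [Field L] [Algebra A K] [IsFractionRing A K] [Algebra B L] [IsFractionRing B L]
    [Algebra K L] [Algebra A L] [IsScalarTower A K L] [IsScalarTower A B L]
    (p : ℕ) (hp : p.Prime) [CharP K p] [IsPurelyInseparable K L] :
    ∃ k : ℕ, Ideal.ramificationIdx' (IsLocalRing.maximalIdeal A) (IsLocalRing.maximalIdeal B) =
      p ^ k := by
  classical
  obtain ⟨ϖ, hϖ⟩ := IsDiscreteValuationRing.exists_irreducible B
  have : ExpChar K p := ExpChar.prime hp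
  obtain ⟨k, c, hc⟩ := IsPurelyInseparable.pow_mem K p (algebraMap B L ϖ)
  obtain ⟨a, s, hs, rfl⟩ := IsFractionRing.div_surjective (A := A) c
  have hs0 : s ≠ 0 := nonZeroDivisors.ne_zero hs
  have hBL : Function.Injective (algebraMap B L) := IsFractionRing.injective B L
  have key : ϖ ^ p ^ k * algebraMap A B s = algebraMap A B a := by
    apply hBL
    rw [map_mul, map_pow, ← hc, ← IsScalarTower.algebraMap_apply A B L,
      ← IsScalarTower.algebraMap_apply A B L, IsScalarTower.algebraMap_apply A K L s,
      IsScalarTower.algebraMap_apply A K L a, ← map_mul]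
    congr 1
    rw [div_mul_cancel₀]
    exact (map_ne_zero_iff _ (IsFractionRing.injective A K)).2 hs0
  have ha0 : a ≠ 0 := by
    rintro rfl
    rw [map_zero] at key
    rcases mul_eq_zero.1 key with h | h
    · exact hϖ.ne_zero (pow_eq_zero_iff (pow_ne_zero _ hp.ne_zero) |>.1 h)
    · exact hs0 ((map_eq_zero_iff _ hinj).1 h)
  set e := Ideal.ramificationIdx' (IsLocalRing.maximalIdeal A) (IsLocalRing.maximalIdeal B) with he
  have h1 := congrArg (IsDiscreteValuationRing.addVal B) key
  rw [IsDiscreteValuationRing.addVal_mul, IsDiscreteValuationRing.addVal_pow,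
    IsDiscreteValuationRing.addVal_uniformizer hϖ, addVal_algebraMap hinj,
    addVal_algebraMap hinj, ← he] at h1
  obtain ⟨m, hm⟩ := ENat.ne_top_iff_exists.1
    (show IsDiscreteValuationRing.addVal A s ≠ ⊤ from
      fun h => hs0 (IsDiscreteValuationRing.addVal_eq_top_iff.1 h))
  obtain ⟨n, hn⟩ := ENat.ne_top_iff_exists.1
    (show IsDiscreteValuationRing.addVal A a ≠ ⊤ from
      fun h => ha0 (IsDiscreteValuationRing.addVal_eq_top_iff.1 h))
  rw [← hm, ← hn] at h1
  have h2 : p ^ k + e * m = e * n := by
    have : ((p ^ k + e * m : ℕ) : ℕ∞) = ((e * n : ℕ) : ℕ∞) := by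
      push_cast
      simpa using h1
    exact_mod_cast this
  have hdvd : e ∣ p ^ k := by
    have : e ∣ e * n := dvd_mul_right _ _
    rw [← h2] at this
    exact (Nat.dvd_add_left (dvd_mul_right e m)).1 this
  obtain ⟨j, _, hj⟩ := (Nat.dvd_prime_pow hp).1 hdvd
  exact ⟨j, hj⟩

end Groth.Agent.S7133
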