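import Mathlib
import Groth.Statements.S7138
import Groth.Agent.Lib.Helper9.KrasnerDescent

set_option autoImplicit false
universe u
open EtAlg

namespace Groth.Agent.S7138

open TensorProduct in
/-- Let A be a discrete valuation ring, K its field of fractions, A^ its completion and K^ the fraction
field of A^. Every finite separable extension M of K^ arises by base change: M ≅ K^ ⊗_K L as
K^-algebras for some finite separable extension L/K. -/
theorem result (A K : Type u) [CommRing A] [IsDomain A]
    [IsDiscreteValuationRing A] [Field K] [Algebra A K] [IsFractionRing A K]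
    (Kh : Type u) [Field Kh] [Algebra (AdicCompletion (IsLocalRing.maximalIdeal A) A) Kh]
    [IsFractionRing (AdicCompletion (IsLocalRing.maximalIdeal A) A) Kh] [Algebra A Kh] [Algebra K Kh]
    [IsScalarTower A (AdicCompletion (IsLocalRing.maximalIdeal A) A) Kh] [IsScalarTower A K Kh]
    (M : Type u) [Field M] [Algebra Kh M] [FiniteDimensional Kh M] [Algebra.IsSeparable Kh M] :
    ∃ (L : Type u) (_ : Field L) (_ : Algebra K L), FiniteDimensional K L ∧ Algebra.IsSeparable K L ∧
      Nonempty ((Kh ⊗[K] L) ≃ₐ[Kh] M) := by
  classical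
  haveI : IsNoetherianRing A := inferInstance
  obtain ⟨hdom, hdvr⟩ := (Groth.Agent.S0549.result A).1 ⟨inferInstance, inferInstance⟩
  refine Groth.Agent.Lib.Helper9.KrasnerDescent.exists_descent A K
    (AdicCompletion (IsLocalRing.maximalIdeal A) A) ?_ Kh M
  intro x N
  obtain ⟨a, ha⟩ := Submodule.Quotient.mk_surjective _ (x.val N)
  refine ⟨a, ?_⟩
  have hfg : (IsLocalRing.maximalIdeal A).FG := (IsLocalRing.maximalIdeal A).fg_of_isNoetherianRing
  have h1 : x - algebraMap A (AdicCompletion (IsLocalRing.maximalIdeal A) A) a ∈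
      (IsLocalRing.maximalIdeal A ^ N • ⊤ :
        Submodule A (AdicCompletion (IsLocalRing.maximalIdeal A) A)) := by
    rw [AdicCompletion.pow_smul_top_eq_ker_eval hfg, LinearMap.mem_ker, map_sub,
      AdicCompletion.algebraMap_apply, AdicCompletion.eval_of]
    rw [AdicCompletion.eval_apply, ← ha]
    simp
  rw [Ideal.smul_top_eq_map] at h1
  rw [AdicCompletion.maximalIdeal_eq_map, ← Ideal.map_pow]
  exact h1

end Groth.Agent.S7138
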