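import Groth.Statements.S7141
import Mathlib
import Groth.Agent.Lib.Helper27.WeaklyEtaleField

set_option autoImplicit false
universe u
open EtAlg

namespace Groth.Agent.S7141

open Groth.Agent.Lib.Helper27.WeaklyEtaleField

theorem mem_max_iff {K : Type u} [Field K] {A : Type u} [CommRing A] [Algebra K A] (a : A) :
    a ∈ EtAlgD.maxWeaklyEtale K A ↔ IsSeparable K a :=
  mem_sSup_weaklyEtale_iff a

theorem part2 (K : Type u) [Field K] (A : Type u) [CommRing A] [Algebra K A] (A' : Subalgebra K A) :
    (EtAlgD.maxWeaklyEtale K A').map A'.val = EtAlgD.maxWeaklyEtale K A ⊓ A' := by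
  ext x
  simp only [Subalgebra.mem_map, Algebra.mem_inf, mem_max_iff]
  constructor
  · rintro ⟨y, hy, rfl⟩
    exact ⟨(isSeparable_val_iff A' y).mpr hy, y.2⟩
  · rintro ⟨hx, hxA⟩
    exact ⟨⟨x, hxA⟩, (isSeparable_val_iff A' ⟨x, hxA⟩).mp hx, rfl⟩

theorem part4 (K : Type u) [Field K] (A : Type u) [CommRing A] [Algebra K A] :
    Set.BijOn (Ideal.Quotient.mkₐ K (nilradical A)) (EtAlgD.maxWeaklyEtale K A)
      (EtAlgD.maxWeaklyEtale K (A ⧸ nilradical A)) := by
  refine ⟨?_, ?_, ?_⟩
  · intro a ha
    rw [SetLike.mem_coe, mem_max_iff] at ha ⊢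
    exact isSeparable_map_of_isSeparable _ ha
  · intro a ha b hb hab
    rw [SetLike.mem_coe] at ha hb
    have hsub : a - b ∈ EtAlgD.maxWeaklyEtale K A := sub_mem ha hb
    have hnil : IsNilpotent (a - b) := by
      have : a - b ∈ nilradical A := by
        rw [← Ideal.Quotient.eq]
        exact hab
      exact this
    have hw : Algebra.WeaklyEtale K (EtAlgD.maxWeaklyEtale K A) :=
      weaklyEtale_sSup _ (fun S hS => hS)
    have hred : IsReduced (EtAlgD.maxWeaklyEtale K A) := isReduced_of_weaklyEtale K _
    have hnil' : IsNilpotent (⟨a - b, hsub⟩ : EtAlgD.maxWeaklyEtale K A) := by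
      obtain ⟨n, hn⟩ := hnil
      exact ⟨n, Subtype.ext (by simpa using hn)⟩
    have := hnil'.eq_zero
    have h0 : a - b = 0 := congrArg Subtype.val this
    exact sub_eq_zero.mp h0
  · intro y hy
    rw [SetLike.mem_coe, mem_max_iff] at hy
    obtain ⟨x, rfl⟩ := Ideal.Quotient.mk_surjective y
    set g := minpoly K (Ideal.Quotient.mk (nilradical A) x) with hg
    have h1 : Ideal.Quotient.mk (nilradical A) (Polynomial.aeval x g) = 0 := by
      have := minpoly.aeval K (Ideal.Quotient.mk (nilradical A) x)
      rw [← hg] at this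
      rw [← this]
      exact (Polynomial.aeval_algHom_apply (Ideal.Quotient.mkₐ K (nilradical A)) x g).symm
    have hnil : IsNilpotent (Polynomial.aeval x g) := by
      rw [Ideal.Quotient.eq_zero_iff_mem] at h1
      exact h1
    have hunit : IsUnit (Polynomial.aeval x (Polynomial.derivative g)) := by
      have hu := isUnit_aeval_derivative_of_separable hy (minpoly.aeval K _)
      rw [← hg] at hu
      have h2 : Ideal.Quotient.mk (nilradical A) (Polynomial.aeval x (Polynomial.derivative g)) =
          Polynomial.aeval (Ideal.Quotient.mk (nilradical A) x) (Polynomial.derivative g) :=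
        (Polynomial.aeval_algHom_apply (Ideal.Quotient.mkₐ K (nilradical A)) x _).symm
      rw [← h2] at hu
      obtain ⟨v, hv⟩ := isUnit_iff_exists_inv.mp hu
      obtain ⟨w, rfl⟩ := Ideal.Quotient.mk_surjective v
      rw [← map_mul, ← map_one (Ideal.Quotient.mk (nilradical A)), Ideal.Quotient.eq] at hv
      have hn : IsNilpotent (Polynomial.aeval x (Polynomial.derivative g) * w - 1) := hv
      have : IsUnit (Polynomial.aeval x (Polynomial.derivative g) * w) := by
        have := hn.isUnit_add_one
        simpa using this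
      exact isUnit_of_mul_isUnit_left this
    obtain ⟨r, ⟨hr1, hr2⟩, -⟩ :=
      Polynomial.existsUnique_nilpotent_sub_and_aeval_eq_zero (P := g) hnil hunit
    refine ⟨r, ?_, ?_⟩
    · rw [SetLike.mem_coe, mem_max_iff]
      exact isSeparable_of_aeval_eq_zero hy hr2
    · symm
      show Ideal.Quotient.mk (nilradical A) x = Ideal.Quotient.mk (nilradical A) r
      rw [Ideal.Quotient.eq]
      exact hr1

theorem part6 (K : Type u) [Field K] (A : Type u) [CommRing A] [Algebra K A]
    (hidem : ∀ e : A, IsIdempotentElem e → e = 0 ∨ e = 1) (hnt : Nontrivial A) :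
    IsField (EtAlgD.maxWeaklyEtale K A) ∧ Algebra.IsSeparable K (EtAlgD.maxWeaklyEtale K A) := by
  have hw : Algebra.WeaklyEtale K (EtAlgD.maxWeaklyEtale K A) :=
    weaklyEtale_sSup _ (fun S hS => hS)
  refine ⟨?_, algebra_isSeparable_of_weaklyEtale K _⟩
  refine ⟨⟨0, 1, ?_⟩, mul_comm, ?_⟩
  · intro h
    exact zero_ne_one (α := A) (congrArg Subtype.val h)
  · intro a ha
    obtain ⟨d, hd⟩ := exists_eq_sq_mul (K := K) a
    have hid : IsIdempotentElem ((a * d : EtAlgD.maxWeaklyEtale K A) : A) := by
      have : (a * d) * (a * d) = a * d := by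
        calc (a * d) * (a * d) = (a * a * d) * d := by ring
          _ = a * d := by rw [← hd]
      exact congrArg Subtype.val this
    rcases hidem _ hid with h0 | h1
    · exfalso
      apply ha
      have h0' : a * d = 0 := Subtype.ext h0
      calc a = a * a * d := hd
        _ = a * (a * d) := by ring
        _ = 0 := by rw [h0', mul_zero]
    · exact ⟨d, Subtype.ext h1⟩

/-- Let K be a field and, for a K-algebra A, let B_max(A) be its largest weakly étale K-subalgebra. (2)
For a K-subalgebra A' ⊆ A one has B_max(A') = B_max(A) ∩ A'. (4) The quotient map A → A_red =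
A/nilradical restricts to a bijection B_max(A) → B_max(A_red). (6) If A ≠ 0 and its only idempotents
are 0 and 1, then B_max(A) is a field, algebraic and separable over K. (The published statement
omits A ≠ 0; this row assumes it, since for A = 0 the largest weakly étale subalgebra is the zero
ring.) -/
theorem result (K : Type u) [Field K] (A : Type u) [CommRing A] [Algebra K A] :
    (∀ A' : Subalgebra K A,
      (EtAlgD.maxWeaklyEtale K A').map A'.val = EtAlgD.maxWeaklyEtale K A ⊓ A') ∧
    (Set.BijOn (Ideal.Quotient.mkₐ K (nilradical A)) (EtAlgD.maxWeaklyEtale K A)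
      (EtAlgD.maxWeaklyEtale K (A ⧸ nilradical A))) ∧
    ((∀ e : A, IsIdempotentElem e → e = 0 ∨ e = 1) → Nontrivial A →
      IsField (EtAlgD.maxWeaklyEtale K A) ∧ Algebra.IsSeparable K (EtAlgD.maxWeaklyEtale K A)) := by
  exact ⟨part2 K A, part4 K A, part6 K A⟩

end Groth.Agent.S7141
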