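import Mathlib
-- Template for statement S7143 (row 7142; see the milestone table for weights).
-- Copy to Groth/Agent/S7143.lean and replace the sorry. The statement below is byte-identical to the frozen
-- statement EtAlg.GrothFrozen.S7143 (Groth/Statements/S7143.lean; the theorem EtAlg.exists_cartesian_square_into_weakDimOne);
-- the grader kernel-checks Groth.Agent.S7143.result against that frozen type. Keep the theorem IN THIS FILE
-- (a `result` declared elsewhere and merely imported here is not credited); helpers may live anywhere
-- under Groth/Agent/.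
import Groth.Statements.S7143

set_option autoImplicit false
universe u
open CategoryTheory
open EtAlg

namespace Groth.Agent.S7143

section aux

variable (A K : Type u) [CommRing A] [Field K] [Algebra A K]

/-- Index set: the valuation subrings of `K` containing the image of `A`. -/
abbrev Idx : Type u := {O : ValuationSubring K // ∀ a : A, algebraMap A K a ∈ O}

/-- The subring of `Idx → K` of families `v` with `v i ∈ i` (the product of the valuation rings). -/
def VV : Subring (Idx A K → K) where
  carrier := {v | ∀ i : Idx A K, v i ∈ i.1}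
  mul_mem' := fun ha hb i => mul_mem (ha i) (hb i)
  one_mem' := fun i => one_mem _
  add_mem' := fun ha hb i => add_mem (ha i) (hb i)
  zero_mem' := fun i => zero_mem _
  neg_mem' := fun ha i => neg_mem (ha i)

variable {A K}

/-- coordinate evaluation -/
def ev (j : Idx A K) : VV A K →+* K :=
  (Pi.evalRingHom (fun _ : Idx A K => K) j).comp (VV A K).subtype

lemma ev_mem (j : Idx A K) (v : VV A K) : ev j v ∈ j.1 := v.2 j

lemma ext_ev {v w : VV A K} (h : ∀ j, ev j v = ev j w) : v = w := Subtype.ext (funext h)

/-- build an element from its coordinates -/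
def mk' (v : Idx A K → K) (hv : ∀ j : Idx A K, v j ∈ j.1) : VV A K := ⟨v, hv⟩

@[simp] lemma ev_mk' (v : Idx A K → K) (hv : ∀ j : Idx A K, v j ∈ j.1) (j : Idx A K) :
    ev j (mk' v hv) = v j := rfl

theorem flat_ideal (I : Ideal (VV A K)) : Module.Flat (VV A K) I := by
  classical
  refine Module.Flat.of_forall_isTrivialRelation ?_
  intro l f x hfx
  rcases Nat.eq_zero_or_pos l with rfl | hl
  · exact ⟨0, fun i => i.elim0, fun j => j.elim0, fun i => i.elim0, fun j => j.elim0⟩
  haveI : Nonempty (Fin l) := ⟨⟨0, hl⟩⟩
  have hm : ∀ j : Idx A K, ∃ m : Fin l, ∀ i : Fin l,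
      j.1.valuation (ev j (x i).1) ≤ j.1.valuation (ev j (x m).1) := by
    intro j
    obtain ⟨m, -, hm⟩ := Finset.exists_max_image Finset.univ
      (fun i : Fin l => j.1.valuation (ev j (x i).1)) Finset.univ_nonempty
    exact ⟨m, fun i => hm i (Finset.mem_univ i)⟩
  choose m hm using hm
  let e : Fin l → VV A K := fun i => mk' (fun j => if m j = i then 1 else 0) (fun j => by
    split_ifs
    · exact one_mem _
    · exact zero_mem _)
  let c : VV A K := ∑ i, e i * (x i).1
  have hcI : c ∈ I := Ideal.sum_mem _ fun i _ => I.mul_mem_left _ (x i).2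
  have hc : ∀ j, ev j c = ev j (x (m j)).1 := by
    intro j
    simp only [c, map_sum, map_mul]
    rw [Finset.sum_eq_single (m j)]
    · simp [e]
    · intro i _ hi
      have : ev j (e i) = 0 := by simp [e, Ne.symm hi]
      rw [this, zero_mul]
    · intro h; exact absurd (Finset.mem_univ _) h
  have hadiv : ∀ (i : Fin l) (j : Idx A K), ev j (x i).1 / ev j c ∈ j.1 := by
    intro i j
    rw [← ValuationSubring.valuation_le_one_iff, map_div₀, hc j]
    rcases eq_or_ne (j.1.valuation (ev j (x (m j)).1)) 0 with h0 | h0
    · rw [h0, div_zero]; exact zero_le_one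
    · exact (div_le_one₀ (zero_lt_iff.mpr h0)).mpr (hm j i)
  let a : Fin l → VV A K := fun i => mk' (fun j => ev j (x i).1 / ev j c) (hadiv i)
  have hax : ∀ i j, ev j (a i) * ev j c = ev j (x i).1 := by
    intro i j
    show ev j (x i).1 / ev j c * ev j c = _
    rcases eq_or_ne (ev j c) 0 with h0 | h0
    · have h1 : j.1.valuation (ev j (x i).1) ≤ 0 := by
        have := hm j i
        rw [← hc j, h0, map_zero] at this
        exact this
      have h2 : ev j (x i).1 = 0 := by
        simpa using le_zero_iff.mp h1
      rw [h0, h2]; simp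
    · exact div_mul_cancel₀ _ h0
  let ε : VV A K := mk' (fun j => if ev j c = 0 then 0 else 1) (fun j => by
    split_ifs
    · exact zero_mem _
    · exact one_mem _)
  have hεc : ∀ j, ev j ε * ev j c = ev j c := by
    intro j
    show (if ev j c = 0 then (0:K) else 1) * ev j c = ev j c
    split_ifs with h
    · rw [h, zero_mul]
    · rw [one_mul]
  have hr : ∀ j, (∑ i, ev j (f i) * ev j (a i)) * ev j c = 0 := by
    intro j
    rw [Finset.sum_mul]
    have := congrArg (fun z : I => ev j z.1) hfx
    simp only [Submodule.coe_sum, Submodule.coe_smul, map_sum, smul_eq_mul, map_mul,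
      Submodule.coe_zero, map_zero] at this
    rw [← this]
    refine Finset.sum_congr rfl fun i _ => ?_
    rw [mul_assoc, hax]
  refine ⟨1, fun i _ => a i * ε, fun _ => ⟨c, hcI⟩, ?_, ?_⟩
  · intro i
    rw [Fin.sum_univ_one]
    apply Subtype.ext
    apply ext_ev; intro j
    show ev j (x i).1 = ev j ((a i * ε) * c)
    rw [map_mul, map_mul, mul_assoc, hεc, hax]
  · intro _
    apply ext_ev; intro j
    rw [map_sum, map_zero]
    simp only [map_mul]
    have h1 := hr j
    rcases mul_eq_zero.mp h1 with h | h
    · rw [← Finset.sum_congr rfl (fun i _ => mul_assoc _ _ _), ← Finset.sum_mul, h, zero_mul]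
    · have : ev j ε = 0 := by
        show (if ev j c = 0 then (0:K) else 1) = 0
        rw [if_pos h]
      simp [this]

/-- the submonoid of elements with all coordinates nonzero -/
def SS : Submonoid (VV A K) where
  carrier := {s | ∀ j, ev j s ≠ 0}
  one_mem' := fun j => by rw [map_one]; exact one_ne_zero
  mul_mem' := fun ha hb j => by rw [map_mul]; exact mul_ne_zero (ha j) (hb j)

theorem isLocalization :
    letI := (VV A K).subtype.toAlgebra
    IsLocalization (SS (A := A) (K := K)) (Idx A K → K) := by
  letI := (VV A K).subtype.toAlgebra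
  classical
  rw [isLocalization_iff]
  refine ⟨?_, ?_, ?_⟩
  · rintro ⟨s, hs⟩
    rw [Pi.isUnit_iff]
    intro j
    exact isUnit_iff_ne_zero.mpr (hs j)
  · intro l
    let s : VV A K := mk' (fun j => if l j ∈ j.1 then 1 else (l j)⁻¹) (fun j => by
      split_ifs with h
      · exact one_mem _
      · exact (j.1.mem_or_inv_mem (l j)).resolve_left h)
    have hs : s ∈ SS (A := A) (K := K) := fun j => by
      show (if l j ∈ j.1 then (1:K) else (l j)⁻¹) ≠ 0
      split_ifs with h
      · exact one_ne_zero
      · refine inv_ne_zero fun h0 => h ?_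
        rw [h0]; exact zero_mem _
    let x : VV A K := mk' (fun j => if l j ∈ j.1 then l j else 1) (fun j => by
      split_ifs with h
      · exact h
      · exact one_mem _)
    refine ⟨(x, ⟨s, hs⟩), ?_⟩
    funext j
    show l j * (if l j ∈ j.1 then (1:K) else (l j)⁻¹) = if l j ∈ j.1 then l j else 1
    split_ifs with h
    · rw [mul_one]
    · refine mul_inv_cancel₀ fun h0 => h ?_
      rw [h0]; exact zero_mem _
  · intro x y hxy
    exact ⟨1, by rw [Subtype.ext hxy]⟩

end aux

/-- Every normal domain A with fraction field K is the fibre product V ×_L K for suitable rings V and L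
with maps A → V, V → L, K → L (together with the given A → K), where every ideal of V is flat (weak
dimension at most one) and V → L is flat, injective and an epimorphism of rings. -/
theorem result (A K : Type u) [CommRing A] [IsDomain A] [Field K] [Algebra A K]
    [IsFractionRing A K] [IsIntegrallyClosed A] :
    ∃ (V L : Type u) (_ : CommRing V) (_ : CommRing L) (f : A →+* V) (g : V →+* L) (h : K →+* L),
      g.comp f = h.comp (algebraMap A K) ∧
      (∀ I : Ideal V, Module.Flat V I) ∧ g.Flat ∧ Function.Injective g ∧ Epi (CommRingCat.ofHom g) ∧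
      ∀ (v : V) (k : K), g v = h k → ∃! a : A, f a = v ∧ algebraMap A K a = k := by
  classical
  let h : K →+* (Idx A K → K) := Pi.ringHom (fun _ => RingHom.id K)
  let f : A →+* VV A K := (h.comp (algebraMap A K)).codRestrict (VV A K) (fun a i => i.2 a)
  refine ⟨VV A K, Idx A K → K, (VV A K).toCommRing, Pi.commRing, f, (VV A K).subtype, h,
    ?_, flat_ideal, ?_, ?_, ?_, ?_⟩
  · ext a j; rfl
  · letI := (VV A K).subtype.toAlgebra
    haveI := isLocalization (A := A) (K := K)
    exact IsLocalization.flat (Idx A K → K) (SS (A := A) (K := K))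
  · exact Subtype.val_injective
  · letI := (VV A K).subtype.toAlgebra
    haveI := isLocalization (A := A) (K := K)
    exact IsLocalization.epi (SS (A := A) (K := K)) (Idx A K → K)
  · intro v k hvk
    have hvk' : ∀ j : Idx A K, v.1 j = k := fun j => congrFun hvk j
    have hk : k ∈ (algebraMap A K).range := by
      by_contra hk
      have hk' : k ∉ (integralClosure A K).toSubring := by
        intro hk2
        apply hk
        have : k ∈ integralClosure A K := hk2
        rw [IsIntegrallyClosed.integralClosure_eq_bot, Algebra.mem_bot] at this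
        exact this
      obtain ⟨O, hO, hkO⟩ := Subring.exists_le_valuationSubring_of_isIntegrallyClosedIn hk'
      let j : Idx A K := ⟨O, fun a => hO (Subalgebra.algebraMap_mem (integralClosure A K) a)⟩
      apply hkO
      rw [← hvk' j]
      exact v.2 j
    obtain ⟨a, rfl⟩ := hk
    refine ⟨a, ⟨?_, rfl⟩, ?_⟩
    · apply Subtype.ext
      funext j
      exact (hvk' j).symm
    · rintro b ⟨-, hb⟩
      exact IsFractionRing.injective A K hb

end Groth.Agent.S7143
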