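import Groth.Statements.S7145
import Mathlib

set_option autoImplicit false
universe u
open CategoryTheory CategoryTheory.Limits
open CAlg

namespace Groth.Agent.S7145

open CategoryTheory

section reach
variable {R : Type u} [CommRing R] (F : CochainComplex (ModuleCat.{u} R) ℤ)
  (ι : ℤ → Type u) (B : ∀ n, Module.Basis (ι n) R (F.X n))
  {N : ℕ} (deg : Fin N → ℤ) (f : ∀ i : Fin N, F.X (deg i))

/-- basis elements reachable from the supports of the `f i` by applying `d`. -/
inductive Reach : (Σ n, ι n) → Prop
  | base (i : Fin N) (e : ι (deg i)) (h : e ∈ ((B (deg i)).repr (f i)).support) : Reach ⟨deg i, e⟩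
  | step (n : ℤ) (e' : ι n) (e : ι (n + 1)) (h' : Reach ⟨n, e'⟩)
      (h : e ∈ ((B (n + 1)).repr ((F.d n (n + 1)).hom (B n e'))).support) : Reach ⟨n + 1, e⟩

lemma Reach.lower (a : ℤ) (ha : ∀ i, a ≤ deg i) (p : Σ n, ι n) (hp : Reach F ι B deg f p) :
    a ≤ p.1 := by
  induction hp with
  | base i e h => exact ha i
  | step n e' e h' h ih => exact le_trans ih (by simp)

lemma Reach.finite_le (a : ℤ) (ha : ∀ i, a ≤ deg i) (m : ℤ) :
    Set.Finite {p : Σ n, ι n | Reach F ι B deg f p ∧ p.1 ≤ m} := by
  rcases lt_or_ge m a with hm | hm
  · convert Set.finite_empty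
    ext p
    simp only [Set.mem_ofPred_eq, Set.mem_empty_iff_false, iff_false, not_and, not_le]
    intro hp
    exact lt_of_lt_of_le hm (Reach.lower F ι B deg f a ha p hp)
  · induction m, hm using Int.leInduction with
    | base =>
      -- only base elements of degree a
      refine Set.Finite.subset (s := ⋃ i : Fin N,
        (fun e => (⟨deg i, e⟩ : Σ n, ι n)) '' (((B (deg i)).repr (f i)).support : Set (ι (deg i))))
        (Set.finite_iUnion fun i => (Finset.finite_toSet _).image _) ?_
      rintro p ⟨hp, hpa⟩
      cases hp with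
      | base i e h => exact Set.mem_iUnion.mpr ⟨i, e, h, rfl⟩
      | step n e' e h' h =>
        exfalso
        have := Reach.lower F ι B deg f a ha _ h'
        simp only at this hpa
        omega
    | succ m hm ih =>
      have hfin2 : Set.Finite (⋃ p ∈ {p : Σ n, ι n | Reach F ι B deg f p ∧ p.1 ≤ m},
          (fun e => (⟨p.1 + 1, e⟩ : Σ n, ι n)) ''
            (((B (p.1 + 1)).repr ((F.d p.1 (p.1 + 1)).hom (B p.1 p.2))).support :
              Set (ι (p.1 + 1)))) :=
        Set.Finite.biUnion ih fun p _ => (Finset.finite_toSet _).image _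
      have hfin1 : Set.Finite (⋃ i : Fin N,
        (fun e => (⟨deg i, e⟩ : Σ n, ι n)) ''
          (((B (deg i)).repr (f i)).support : Set (ι (deg i)))) :=
        Set.finite_iUnion fun i => (Finset.finite_toSet _).image _
      refine Set.Finite.subset (hfin1.union hfin2) ?_
      rintro p ⟨hp, hpa⟩
      cases hp with
      | base i e h => exact Or.inl (Set.mem_iUnion.mpr ⟨i, e, h, rfl⟩)
      | step n e' e h' h =>
        refine Or.inr (Set.mem_biUnion (x := ⟨n, e'⟩) ⟨h', ?_⟩ ⟨e, h, rfl⟩)
        simp only at hpa ⊢
        omega

lemma Reach.finite (n : ℤ) : Set.Finite {e : ι n | Reach F ι B deg f ⟨n, e⟩} := by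
  have ha : ∀ i, (-∑ j, |deg j|) ≤ deg i := by
    intro i
    have h1 : |deg i| ≤ ∑ j, |deg j| :=
      Finset.single_le_sum (f := fun j => |deg j|) (fun j _ => abs_nonneg _) (Finset.mem_univ i)
    have h2 := neg_abs_le (deg i)
    linarith
  have := Reach.finite_le F ι B deg f _ ha n
  refine Set.Finite.of_finite_image (f := fun e => (⟨n, e⟩ : Σ n, ι n)) (this.subset ?_) ?_
  · rintro _ ⟨e, he, rfl⟩
    exact ⟨he, le_refl _⟩
  · intro e₁ _ e₂ _ h
    exact eq_of_heq (Sigma.mk.inj h).2

end reach


/-- Let R be a ring and F a cochain complex of free R-modules that is zero in all sufficiently large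
degrees. Given finitely many elements f_i of F, f_i lying in degree n_i, there is a subcomplex G of
F (a map of complexes G → F injective in every degree) through which every f_i passes, such that G
is zero outside a finite range of degrees and each term of G is a finitely generated free R-module. -/
theorem result (R : Type u) [CommRing R]
    (F : CochainComplex (ModuleCat.{u} R) ℤ) (hfree : ∀ n : ℤ, Module.Free R (F.X n))
    (b : ℤ) (hb : ∀ n : ℤ, b < n → IsZero (F.X n))
    (N : ℕ) (deg : Fin N → ℤ) (f : ∀ i : Fin N, F.X (deg i)) :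
    ∃ (G : CochainComplex (ModuleCat.{u} R) ℤ) (ι : G ⟶ F),
      (∀ n : ℤ, Function.Injective (ι.f n)) ∧
      (∃ a c : ℤ, ∀ n : ℤ, (n < a ∨ c < n) → IsZero (G.X n)) ∧
      (∀ n : ℤ, Module.Finite R (G.X n) ∧ Module.Free R (G.X n)) ∧
      ∀ i : Fin N, f i ∈ Set.range (ι.f (deg i)) := by
  classical
  let ι : ℤ → Type u := fun n => Module.Free.ChooseBasisIndex R (F.X n)
  let B : ∀ n, Module.Basis (ι n) R (F.X n) := fun n => Module.Free.chooseBasis R (F.X n)
  let T : ∀ n, Set (ι n) := fun n => {e : ι n | Reach F ι B deg f ⟨n, e⟩}
  have hTfin : ∀ n, (T n).Finite := fun n => Reach.finite F ι B deg f n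
  let Gs : ∀ n, Submodule R (F.X n) := fun n => Submodule.span R (B n '' T n)
  have hmem : ∀ n (x : F.X n), (∀ e ∈ ((B n).repr x).support, e ∈ T n) → x ∈ Gs n := by
    intro n x hx
    rw [← (B n).linearCombination_repr x, Finsupp.linearCombination_apply]
    refine Submodule.sum_mem _ fun e he => Submodule.smul_mem _ _ (Submodule.subset_span ?_)
    exact ⟨e, hx e he, rfl⟩
  have hd : ∀ n m, ∀ x ∈ Gs n, (F.d n m).hom x ∈ Gs m := by
    intro n m x hx
    by_cases hnm : n + 1 = m
    · subst hnm
      induction hx using Submodule.span_induction with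
      | mem x hx =>
        obtain ⟨e', he', rfl⟩ := hx
        exact hmem _ _ fun e he => Reach.step n e' e he' he
      | zero => rw [map_zero]; exact Submodule.zero_mem _
      | add x y _ _ hx hy => rw [map_add]; exact Submodule.add_mem _ hx hy
      | smul r x _ hx => rw [map_smul]; exact Submodule.smul_mem _ _ hx
    · have : F.d n m = 0 := F.shape n m hnm
      rw [this]
      exact Submodule.zero_mem _
  let G : CochainComplex (ModuleCat.{u} R) ℤ :=
    { X := fun n => ModuleCat.of R (Gs n)
      d := fun n m => ModuleCat.ofHom ((F.d n m).hom.restrict (hd n m))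
      shape := fun n m h => by
        ext x
        change (F.d n m).hom x.1 = 0
        rw [F.shape n m h]
        rfl
      d_comp_d' := fun i j k _ _ => by
        ext x
        change (F.d j k).hom ((F.d i j).hom x.1) = 0
        have h2 : (F.d i j ≫ F.d j k).hom x.1 = 0 := by
          rw [F.d_comp_d]
          rfl
        exact h2 }
  let incl : G ⟶ F :=
    { f := fun n => ModuleCat.ofHom (Gs n).subtype
      comm' := fun i j _ => by
        ext x
        rfl }
  refine ⟨G, incl, ?_, ?_, ?_, ?_⟩
  · intro n
    exact Subtype.val_injective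
  · refine ⟨-∑ j, |deg j|, b, ?_⟩
    intro n hn
    have hsub : Subsingleton (Gs n) := by
      rcases hn with hn | hn
      · have hT : T n = ∅ := by
          ext e
          simp only [T, Set.mem_ofPred_eq, Set.mem_empty_iff_false, iff_false]
          intro he
          have ha : ∀ i, (-∑ j, |deg j|) ≤ deg i := by
            intro i
            have h1 : |deg i| ≤ ∑ j, |deg j| :=
              Finset.single_le_sum (f := fun j => |deg j|) (fun j _ => abs_nonneg _)
                (Finset.mem_univ i)
            have h2 := neg_abs_le (deg i)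
            linarith
          have := Reach.lower F ι B deg f _ ha _ he
          simp only at this
          omega
        have : Gs n = ⊥ := by simp [Gs, hT]
        rw [this]
        infer_instance
      · have hz : Subsingleton (F.X n) := ModuleCat.subsingleton_of_isZero (hb n hn)
        infer_instance
    exact ModuleCat.isZero_of_subsingleton (ModuleCat.of R (Gs n))
  · intro n
    constructor
    · exact Module.Finite.span_of_finite R ((hTfin n).image _)
    · have hli : LinearIndependent R (fun e : T n => B n e.1) :=
        (B n).linearIndependent.comp _ Subtype.val_injective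
      have hrange : Set.range (fun e : T n => B n e.1) = B n '' T n := by
        ext x
        constructor
        · rintro ⟨e, rfl⟩; exact ⟨e.1, e.2, rfl⟩
        · rintro ⟨e, he, rfl⟩; exact ⟨⟨e, he⟩, rfl⟩
      have b' := Module.Basis.span hli
      rw [hrange] at b'
      exact Module.Free.of_basis b'
  · intro i
    refine ⟨⟨f i, ?_⟩, rfl⟩
    exact hmem _ _ fun e he => Reach.base i e he

end Groth.Agent.S7145
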