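import Groth.Statements.S7146
import Mathlib.Data.Sym.Card
import Mathlib.Analysis.SpecificLimits.Basic
import Mathlib.Data.Nat.Choose.Bounds
-- import your own Groth.Agent.* helpers here

set_option autoImplicit false
universe u
open Filter
open CAlg

namespace Groth.Agent.S7146

section alg

variable {R : Type u} [CommRing R] {d : ℕ} (g : Fin d → R)

/-- the monomial attached to a multiset of indices -/
noncomputable def gm (n : ℕ) (m : Sym (Fin d) n) : R := (m.1.map g).prod

theorem gm_mem (n : ℕ) (m : Sym (Fin d) n) : gm g n m ∈ Ideal.span (Set.range g) ^ n := by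
  obtain ⟨m, hm⟩ := m
  subst hm
  unfold gm
  induction m using Multiset.induction_on with
  | empty => simp
  | cons a s ih =>
    simp only [Multiset.map_cons, Multiset.prod_cons, Multiset.card_cons]
    rw [pow_succ']
    exact Ideal.mul_mem_mul (Ideal.subset_span ⟨a, rfl⟩) ih

theorem pow_le_span_gm (n : ℕ) :
    Ideal.span (Set.range g) ^ n ≤ Ideal.span (Set.range (gm g n)) := by
  induction n with
  | zero =>
    rw [pow_zero]
    have : (1 : R) ∈ Ideal.span (Set.range (gm g 0)) :=
      Ideal.subset_span ⟨⟨0, rfl⟩, by simp [gm]⟩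
    rw [(Ideal.eq_top_iff_one _).mpr this]
    exact le_top
  | succ n ih =>
    rw [pow_succ']
    refine (Ideal.mul_mono_right ih).trans ?_
    rw [Ideal.span_mul_span']
    refine Ideal.span_mono ?_
    rintro _ ⟨_, ⟨i, rfl⟩, _, ⟨m, rfl⟩, rfl⟩
    refine ⟨i ::ₛ m, ?_⟩
    simp [gm, Sym.coe_cons]

theorem length_step (n : ℕ) :
    Module.length R (R ⧸ Ideal.span (Set.range g) ^ (n + 1)) ≤
      Module.length R (R ⧸ Ideal.span (Set.range g) ^ n) +
        (Nat.multichoose d n : ℕ∞) * Module.length R (R ⧸ Ideal.span (Set.range g)) := by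
  classical
  set I := Ideal.span (Set.range g) with hI
  have hle : I ^ (n + 1) ≤ I ^ n := Ideal.pow_le_pow_right (Nat.le_succ n)
  let q : (R ⧸ I ^ (n + 1)) →ₗ[R] (R ⧸ I ^ n) :=
    Submodule.liftQ (I ^ (n + 1)) (Submodule.mkQ (I ^ n)) (by rw [Submodule.ker_mkQ]; exact hle)
  have hq : Function.Surjective q := by
    intro y
    obtain ⟨r, rfl⟩ := Submodule.mkQ_surjective _ y
    exact ⟨Submodule.mkQ _ r, rfl⟩
  have hker : LinearMap.ker q = Submodule.map (Submodule.mkQ (I ^ (n + 1))) (I ^ n) := by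
    rw [Submodule.ker_liftQ, Submodule.ker_mkQ]
  let x : Sym (Fin d) n → R ⧸ I ^ (n + 1) := fun m => Submodule.mkQ (I ^ (n + 1)) (gm g n m)
  have hx : ∀ m, I ≤ LinearMap.ker (LinearMap.toSpanSingleton R (R ⧸ I ^ (n + 1)) (x m)) := by
    intro m a ha
    rw [LinearMap.mem_ker, LinearMap.toSpanSingleton_apply]
    change a • Submodule.mkQ (I ^ (n + 1)) (gm g n m) = 0
    rw [← map_smul, smul_eq_mul, Submodule.mkQ_apply, Submodule.Quotient.mk_eq_zero, pow_succ']
    exact Ideal.mul_mem_mul ha (gm_mem g n m)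
  let ψ : ∀ m : Sym (Fin d) n, (R ⧸ I) →ₗ[R] (R ⧸ I ^ (n + 1)) := fun m =>
    Submodule.liftQ I (LinearMap.toSpanSingleton R _ (x m)) (hx m)
  let Φ : (Sym (Fin d) n → R ⧸ I) →ₗ[R] (R ⧸ I ^ (n + 1)) :=
    ∑ m, (ψ m) ∘ₗ (LinearMap.proj m)
  have hΦ : LinearMap.ker q ≤ LinearMap.range Φ := by
    rw [hker]
    refine (Submodule.map_mono (pow_le_span_gm g n)).trans ?_
    rw [Ideal.span, Submodule.map_span, Submodule.span_le]
    rintro _ ⟨_, ⟨m, rfl⟩, rfl⟩
    refine ⟨Pi.single m (Submodule.mkQ I 1), ?_⟩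
    simp only [Φ, LinearMap.sum_apply, LinearMap.comp_apply, LinearMap.proj_apply]
    rw [Finset.sum_eq_single m]
    · simp only [Pi.single_eq_same, ψ, x]
      have : ∀ (y : R ⧸ I ^ (n + 1))
          (h : I ≤ LinearMap.ker (LinearMap.toSpanSingleton R (R ⧸ I ^ (n + 1)) y)),
          Submodule.liftQ I (LinearMap.toSpanSingleton R _ y) h (Submodule.mkQ I 1) = y := by
        intro y h
        rw [Submodule.mkQ_apply, Submodule.liftQ_apply, LinearMap.toSpanSingleton_apply, one_smul]
      exact this _ _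
    · intro m' _ hm'
      simp [Pi.single_eq_of_ne hm']
    · simp
  have h1 : Module.length R (R ⧸ I ^ (n + 1)) =
      Module.length R (LinearMap.ker q) + Module.length R (R ⧸ I ^ n) :=
    Module.length_eq_add_of_exact (LinearMap.ker q).subtype q (Submodule.subtype_injective _) hq
      (LinearMap.exact_subtype_ker_map q)
  have h2 : Module.length R (LinearMap.ker q) ≤ Module.length R (LinearMap.range Φ) :=
    Module.length_le_of_injective (Submodule.inclusion hΦ) (Submodule.inclusion_injective hΦ)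
  have h3 : Module.length R (LinearMap.range Φ) ≤ Module.length R (Sym (Fin d) n → R ⧸ I) :=
    Module.length_le_of_surjective Φ.rangeRestrict Φ.surjective_rangeRestrict
  have h4 : Module.length R (Sym (Fin d) n → R ⧸ I) =
      (Nat.multichoose d n : ℕ∞) * Module.length R (R ⧸ I) := by
    rw [Module.length_pi, ENat.card_eq_coe_fintype_card, Sym.card_sym_fin_eq_multichoose]
  rw [h1, add_comm]
  gcongr
  exact (h2.trans h3).trans h4.le

theorem length_bound (n : ℕ) :
    Module.length R (R ⧸ Ideal.span (Set.range g) ^ (n + 1)) ≤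
      (Nat.multichoose (d + 1) n : ℕ∞) * Module.length R (R ⧸ Ideal.span (Set.range g)) := by
  induction n with
  | zero => simp; rw [pow_one]
  | succ n ih =>
    refine (length_step g (n + 1)).trans ?_
    rw [Nat.multichoose_succ_succ, Nat.cast_add, add_mul, add_comm]
    gcongr

theorem fact_mul_multichoose_le (n : ℕ) :
    d.factorial * Nat.multichoose (d + 1) n ≤ (n + d) ^ d := by
  rw [Nat.multichoose_eq, show d + 1 + n - 1 = n + d by omega, Nat.choose_symm_add,
    ← Nat.descFactorial_eq_factorial_mul_choose]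
  exact Nat.descFactorial_le_pow _ _

end alg


/-- Let R be a Noetherian local ring of Krull dimension d and I the ideal generated by a system of
parameters g_1, ..., g_d (d elements of the maximal ideal generating an ideal with radical the
maximal ideal); let e_I be the multiplicity of I, i.e. d! times the top coefficient of the numerical
polynomial n ↦ length(R/I^(n+1)), equivalently the limit of d!·length(R/Iⁿ)/n^d. Then e_I ≤
length(R/I). (Stated for a natural number e equal to that limit.) -/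
theorem result (R : Type u) [CommRing R] [IsNoetherianRing R] [IsLocalRing R]
    (d : ℕ) (hd : ringKrullDim R = d) (g : Fin d → R) (hg : ∀ i, g i ∈ IsLocalRing.maximalIdeal R)
    (hsop : IsLocalRing.maximalIdeal R ≤ (Ideal.span (Set.range g)).radical) (e : ℕ)
    (he : Tendsto (fun n : ℕ => (d.factorial : ℝ) * ((Module.length R (R ⧸ Ideal.span (Set.range g) ^ n)).toNat : ℝ) / (n : ℝ) ^ d)
      atTop (nhds (e : ℝ))) :
    (e : ℕ∞) ≤ Module.length R (R ⧸ Ideal.span (Set.range g)) := by
  classical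
  set I := Ideal.span (Set.range g) with hI
  rcases eq_or_ne (Module.length R (R ⧸ I)) ⊤ with htop | hne
  · rw [htop]; exact le_top
  obtain ⟨l, hl⟩ := ENat.ne_top_iff_exists.mp hne
  rw [← hl, Nat.cast_le]
  have key : ∀ n : ℕ, (d.factorial : ℝ) *
      ((Module.length R (R ⧸ I ^ (n + 1))).toNat : ℝ) / (((n + 1 : ℕ) : ℝ)) ^ d ≤
      (l : ℝ) * (1 + ((d : ℝ) - 1) * (1 / ((n : ℝ) + 1))) ^ d := by
    intro n
    have hb := length_bound g n
    rw [← hl] at hb
    have h1 : (Module.length R (R ⧸ I ^ (n + 1))).toNat ≤ Nat.multichoose (d + 1) n * l := by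
      have h' : Module.length R (R ⧸ I ^ (n + 1)) ≤ ((Nat.multichoose (d + 1) n * l : ℕ) : ℕ∞) := by
        exact_mod_cast hb
      exact ENat.toNat_le_of_le_natCast h'
    have h2 : d.factorial * (Module.length R (R ⧸ I ^ (n + 1))).toNat ≤ (n + d) ^ d * l := by
      calc d.factorial * (Module.length R (R ⧸ I ^ (n + 1))).toNat
          ≤ d.factorial * (Nat.multichoose (d + 1) n * l) := Nat.mul_le_mul_left _ h1
        _ = (d.factorial * Nat.multichoose (d + 1) n) * l := by ring
        _ ≤ (n + d) ^ d * l := Nat.mul_le_mul_right _ (fact_mul_multichoose_le n)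
    have h3 : (d.factorial : ℝ) * ((Module.length R (R ⧸ I ^ (n + 1))).toNat : ℝ) ≤
        ((n : ℝ) + d) ^ d * l := by exact_mod_cast h2
    have hpos : (0 : ℝ) < ((n : ℝ) + 1) := by positivity
    have e1 : (1 + ((d : ℝ) - 1) * (1 / ((n : ℝ) + 1))) = ((n : ℝ) + d) / ((n : ℝ) + 1) := by
      field_simp
      ring
    rw [e1, div_pow, Nat.cast_add, Nat.cast_one, div_le_iff₀ (by positivity)]
    calc (d.factorial : ℝ) * ((Module.length R (R ⧸ I ^ (n + 1))).toNat : ℝ)
        ≤ ((n : ℝ) + d) ^ d * l := h3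
      _ = (l : ℝ) * (((n : ℝ) + d) ^ d / ((n : ℝ) + 1) ^ d) * ((n : ℝ) + 1) ^ d := by
        field_simp
  have he' := he.comp (tendsto_add_atTop_nat 1)
  have hlim : Tendsto (fun n : ℕ => (l : ℝ) * (1 + ((d : ℝ) - 1) * (1 / ((n : ℝ) + 1))) ^ d)
      atTop (nhds (l : ℝ)) := by
    have h0 := tendsto_one_div_add_atTop_nhds_zero_nat (𝕜 := ℝ)
    have h1 : Tendsto (fun n : ℕ => (1 + ((d : ℝ) - 1) * (1 / ((n : ℝ) + 1)))) atTop
        (nhds (1 + ((d : ℝ) - 1) * 0)) := (h0.const_mul _).const_add _
    have h2 := (h1.pow d).const_mul (l : ℝ)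
    simpa using h2
  have hfin := le_of_tendsto_of_tendsto' he' hlim key
  exact_mod_cast hfin

end Groth.Agent.S7146
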