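import Groth.Statements.S7147
import Mathlib

set_option autoImplicit false
universe u
open CAlg

namespace Groth.Agent.S7147

section Aux
variable {R : Type u} [CommRing R] {M : Type u} [AddCommGroup M] [Module R M]

/-- Elements all of whose linear forms take values in `x`. -/
def Nx (M : Type u) [AddCommGroup M] [Module R M] (x : Ideal R) : Submodule R M where
  carrier := {m | ∀ φ : M →ₗ[R] R, φ m ∈ x}
  add_mem' := fun ha hb φ => by rw [map_add]; exact x.add_mem (ha φ) (hb φ)
  zero_mem' := fun φ => by rw [map_zero]; exact x.zero_mem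
  smul_mem' := fun c m hm φ => by rw [map_smul]; exact x.mul_mem_left _ (hm φ)

theorem mem_Nx (x : Ideal R) (m : M) : m ∈ Nx M x ↔ ∀ φ : M →ₗ[R] R, φ m ∈ x := Iff.rfl

theorem smul_top_le_Nx (x : Ideal R) : (x • ⊤ : Submodule R M) ≤ Nx M x := by
  rw [Submodule.smul_le]
  intro a ha m _ φ
  rw [map_smul]
  exact x.mul_mem_right _ ha

theorem mem_Bx_iff (x : Ideal R) (y : M ⧸ (x • ⊤ : Submodule R M)) :
    y ∈ Submodule.span (R ⧸ x)
      ((x • ⊤ : Submodule R M).mkQ '' {m : M | ∀ φ : M →ₗ[R] R, φ m ∈ x}) ↔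
    ∃ m ∈ Nx M x, (x • ⊤ : Submodule R M).mkQ m = y := by
  constructor
  · intro hy
    induction hy using Submodule.span_induction with
    | mem y hy => obtain ⟨m, hm, rfl⟩ := hy; exact ⟨m, hm, rfl⟩
    | zero => exact ⟨0, Submodule.zero_mem _, map_zero _⟩
    | add y z _ _ ihy ihz =>
      obtain ⟨m, hm, rfl⟩ := ihy
      obtain ⟨m', hm', rfl⟩ := ihz
      exact ⟨m + m', Submodule.add_mem _ hm hm', map_add _ _ _⟩
    | smul c y _ ihy =>
      obtain ⟨m, hm, rfl⟩ := ihy
      obtain ⟨c, rfl⟩ := Ideal.Quotient.mk_surjective c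
      exact ⟨c • m, Submodule.smul_mem _ c hm, rfl⟩
  · rintro ⟨m, hm, rfl⟩
    exact Submodule.subset_span ⟨m, hm, rfl⟩

theorem mkQ_mem_Bx_iff (x : Ideal R) (m : M) :
    (x • ⊤ : Submodule R M).mkQ m ∈ Submodule.span (R ⧸ x)
      ((x • ⊤ : Submodule R M).mkQ '' {m : M | ∀ φ : M →ₗ[R] R, φ m ∈ x}) ↔ m ∈ Nx M x := by
  rw [mem_Bx_iff]
  constructor
  · rintro ⟨m', hm', h⟩
    have : m - m' ∈ (x • ⊤ : Submodule R M) := by
      rw [← Submodule.Quotient.mk_eq_zero, Submodule.Quotient.mk_sub, sub_eq_zero]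
      exact h.symm
    have h2 := Submodule.add_mem _ (smul_top_le_Nx x this) hm'
    rwa [sub_add_cancel] at h2
  · intro hm
    exact ⟨m, hm, rfl⟩

theorem li_iff (x : Ideal R) [x.IsMaximal] (r : ℕ) (s : Fin r → M) :
    LinearIndependent (R ⧸ x) (fun i => (Submodule.span (R ⧸ x)
      ((x • ⊤ : Submodule R M).mkQ '' {m : M | ∀ φ : M →ₗ[R] R, φ m ∈ x})).mkQ
        ((x • ⊤ : Submodule R M).mkQ (s i))) ↔
    ∀ c : Fin r → R, ∑ i, c i • s i ∈ Nx M x → ∀ i, c i ∈ x := by
  set Bx := Submodule.span (R ⧸ x)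
      ((x • ⊤ : Submodule R M).mkQ '' {m : M | ∀ φ : M →ₗ[R] R, φ m ∈ x}) with hBx
  have key : ∀ c : Fin r → R, ∑ i, Ideal.Quotient.mk x (c i) • Bx.mkQ ((x • ⊤ : Submodule R M).mkQ (s i)) =
      Bx.mkQ ((x • ⊤ : Submodule R M).mkQ (∑ i, c i • s i)) := by
    intro c
    rw [map_sum, map_sum]
    apply Finset.sum_congr rfl
    intro i _
    rw [← map_smul]
    rfl
  rw [Fintype.linearIndependent_iff]
  constructor
  · intro h c hc i
    have h1 := h (fun i => Ideal.Quotient.mk x (c i)) (by
      rw [key c, Submodule.mkQ_apply, Submodule.Quotient.mk_eq_zero]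
      exact (mkQ_mem_Bx_iff x _).mpr hc) i
    exact Ideal.Quotient.eq_zero_iff_mem.mp h1
  · intro h g hg i
    choose c hc using fun i => Ideal.Quotient.mk_surjective (g i)
    have : ∑ i, g i • Bx.mkQ ((x • ⊤ : Submodule R M).mkQ (s i)) =
        ∑ i, Ideal.Quotient.mk x (c i) • Bx.mkQ ((x • ⊤ : Submodule R M).mkQ (s i)) := by
      apply Finset.sum_congr rfl
      intro i _
      rw [hc i]
    rw [this, key c, Submodule.mkQ_apply, Submodule.Quotient.mk_eq_zero] at hg
    have := h c ((mkQ_mem_Bx_iff x _).mp hg) i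
    rw [← hc i]
    exact Ideal.Quotient.eq_zero_iff_mem.mpr this

end Aux
section Main
variable {R : Type u} [CommRing R] {M : Type u} [AddCommGroup M] [Module R M]

theorem forward [Module.FinitePresentation R M] (x : Ideal R) [x.IsMaximal] (r : ℕ) (s : Fin r → M)
    (f : R) (hf : f ∉ x)
    (g : LocalizedModule (Submonoid.powers f) M →ₗ[Localization.Away f] (Fin r → Localization.Away f))
    (hg : g ∘ₗ Fintype.linearCombination (Localization.Away f)
            (fun i => LocalizedModule.mkLinearMap (Submonoid.powers f) M (s i)) = LinearMap.id)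
    (c : Fin r → R) (hc : ∑ i, c i • s i ∈ Nx M x) (j : Fin r) : c j ∈ x := by
  have hpow : ∀ u ∈ Submonoid.powers f, u ∉ x := by
    rintro u ⟨k, rfl⟩ hu
    exact hf (Ideal.IsPrime.mem_of_pow_mem inferInstance k hu)
  set γ : M →ₗ[R] Localization.Away f :=
    ((LinearMap.proj j ∘ₗ g).restrictScalars R) ∘ₗ LocalizedModule.mkLinearMap (Submonoid.powers f) M
    with hγ
  obtain ⟨φ, t, hφ⟩ := Module.FinitePresentation.exists_lift_of_isLocalizedModule
    (Submonoid.powers f) (Algebra.linearMap R (Localization.Away f)) γ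
  set m₀ := ∑ i, c i • s i with hm₀
  have h1 : LocalizedModule.mkLinearMap (Submonoid.powers f) M m₀ =
      Fintype.linearCombination (Localization.Away f)
        (fun i => LocalizedModule.mkLinearMap (Submonoid.powers f) M (s i))
        (fun i => algebraMap R (Localization.Away f) (c i)) := by
    rw [Fintype.linearCombination_apply, hm₀, map_sum]
    apply Finset.sum_congr rfl
    intro i _
    rw [map_smul, algebraMap_smul]
  have h2 : γ m₀ = algebraMap R (Localization.Away f) (c j) := by
    rw [hγ]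
    simp only [LinearMap.coe_comp, Function.comp_apply, LinearMap.coe_restrictScalars,
      LinearMap.coe_proj, Function.eval]
    rw [h1, ← LinearMap.comp_apply, hg]
    rfl
  have h3 := LinearMap.congr_fun hφ m₀
  simp only [LinearMap.coe_comp, Function.comp_apply, Algebra.linearMap_apply,
    LinearMap.smul_apply] at h3
  rw [h2, Submonoid.smul_def, ← algebraMap_smul (Localization.Away f) (t : R), smul_eq_mul,
    ← map_mul] at h3
  obtain ⟨u, hu⟩ := (IsLocalization.eq_iff_exists (Submonoid.powers f) (Localization.Away f)).mp h3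
  have h4 : (u : R) * ((t : R) * c j) ∈ x := by
    rw [← hu]
    exact x.mul_mem_left _ (hc φ)
  have hx : x.IsPrime := inferInstance
  rcases hx.mem_or_mem h4 with h | h
  · exact absurd h (hpow _ u.2)
  · rcases hx.mem_or_mem h with h | h
    · exact absurd h (hpow _ t.2)
    · exact h

end Main
section Main2
variable {R : Type u} [CommRing R] {M : Type u} [AddCommGroup M] [Module R M]

theorem exists_dual_forms (x : Ideal R) [x.IsMaximal] (r : ℕ) (s : Fin r → M)
    (h : ∀ c : Fin r → R, ∑ i, c i • s i ∈ Nx M x → ∀ i, c i ∈ x) :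
    ∀ j : Fin r, ∃ ψ : M →ₗ[R] R, ∀ i, Ideal.Quotient.mk x (ψ (s i)) = if i = j then 1 else 0 := by
  letI := Ideal.Quotient.field x
  let U : Submodule (R ⧸ x) (Fin r → R ⧸ x) :=
    { carrier := Set.range fun ψ : M →ₗ[R] R => fun i => Ideal.Quotient.mk x (ψ (s i))
      add_mem' := by
        rintro _ _ ⟨a, rfl⟩ ⟨b, rfl⟩
        exact ⟨a + b, by ext i; simp⟩
      zero_mem' := ⟨0, by ext i; simp⟩
      smul_mem' := by
        rintro c _ ⟨a, rfl⟩
        obtain ⟨c, rfl⟩ := Ideal.Quotient.mk_surjective c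
        exact ⟨c • a, by ext i; simp⟩ }
  have hU : U = ⊤ := by
    by_contra hne
    obtain ⟨F, hF0, hFU⟩ := Submodule.exists_le_ker_of_lt_top U (lt_top_iff_ne_top.mpr hne)
    apply hF0
    choose c hc using fun i => Ideal.Quotient.mk_surjective (F (Pi.single i 1))
    have h1 : ∀ ψ : M →ₗ[R] R, ψ (∑ i, c i • s i) ∈ x := by
      intro ψ
      have h2 : F (fun i => Ideal.Quotient.mk x (ψ (s i))) = 0 := hFU ⟨ψ, rfl⟩
      rw [LinearMap.pi_apply_eq_sum_univ F] at h2
      rw [← Ideal.Quotient.eq_zero_iff_mem, map_sum, map_sum]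
      rw [← h2]
      apply Finset.sum_congr rfl
      intro i _
      rw [map_smul, smul_eq_mul, map_mul, hc i, smul_eq_mul, mul_comm]
      congr 2
      ext k
      simp [Pi.single_apply, eq_comm]
    have h3 := h c h1
    apply LinearMap.pi_ext
    intro i a
    have : (Pi.single i a : Fin r → R ⧸ x) = a • Pi.single i 1 := by
      ext k; simp [Pi.single_apply]
    rw [this, map_smul, ← hc i, Ideal.Quotient.eq_zero_iff_mem.mpr (h3 i), smul_zero,
      LinearMap.zero_apply]
  intro j
  have : (Pi.single j 1 : Fin r → R ⧸ x) ∈ U := by rw [hU]; trivial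
  obtain ⟨ψ, hψ⟩ := this
  refine ⟨ψ, fun i => ?_⟩
  have := congr_fun hψ i
  simp only [Pi.single_apply] at this
  exact this

theorem backward (x : Ideal R) [x.IsMaximal] (r : ℕ) (s : Fin r → M)
    (h : ∀ c : Fin r → R, ∑ i, c i • s i ∈ Nx M x → ∀ i, c i ∈ x) :
    ∃ f : R, f ∉ x ∧
      ∃ g : LocalizedModule (Submonoid.powers f) M →ₗ[Localization.Away f] (Fin r → Localization.Away f),
        g ∘ₗ Fintype.linearCombination (Localization.Away f)
            (fun i => LocalizedModule.mkLinearMap (Submonoid.powers f) M (s i)) = LinearMap.id := by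
  choose ψ hψ using exists_dual_forms x r s h
  set A₀ : Matrix (Fin r) (Fin r) R := Matrix.of (fun j i => ψ j (s i)) with hA₀
  have hA₀1 : (Ideal.Quotient.mk x).mapMatrix A₀ = 1 := by
    ext j i
    simp only [RingHom.mapMatrix_apply, Matrix.map_apply, hA₀, Matrix.one_apply, Matrix.of_apply]
    rw [hψ]
    simp [eq_comm]
  refine ⟨A₀.det, ?_, ?_⟩
  · intro hdet
    have h1 : Ideal.Quotient.mk x A₀.det = 0 := Ideal.Quotient.eq_zero_iff_mem.mpr hdet
    rw [RingHom.map_det, hA₀1, Matrix.det_one] at h1
    haveI : Nontrivial (R ⧸ x) := Ideal.Quotient.nontrivial_iff.mpr (Ideal.IsMaximal.ne_top inferInstance)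
    exact one_ne_zero h1
  · set f := A₀.det with hf
    set A : Matrix (Fin r) (Fin r) (Localization.Away f) :=
      (algebraMap R (Localization.Away f)).mapMatrix A₀ with hA
    have hAdet : IsUnit A.det := by
      rw [hA, ← RingHom.map_det]
      exact IsLocalization.Away.algebraMap_isUnit f
    let g' : LocalizedModule (Submonoid.powers f) M →ₗ[Localization.Away f] (Fin r → Localization.Away f) :=
      LinearMap.pi fun j =>
        (IsLocalizedModule.map (Submonoid.powers f) (LocalizedModule.mkLinearMap (Submonoid.powers f) M)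
          (Algebra.linearMap R (Localization.Away f)) (ψ j)).extendScalarsOfIsLocalization
            (Submonoid.powers f) (Localization.Away f)
    have hg' : ∀ m : M, g' (LocalizedModule.mkLinearMap (Submonoid.powers f) M m) =
        fun j => algebraMap R (Localization.Away f) (ψ j m) := by
      intro m
      ext j
      simp only [g', LinearMap.pi_apply, LinearMap.extendScalarsOfIsLocalization_apply']
      rw [IsLocalizedModule.map_apply]
      rfl
    refine ⟨A⁻¹.mulVecLin ∘ₗ g', ?_⟩
    apply LinearMap.pi_ext'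
    intro i
    ext
    simp only [LinearMap.coe_comp, Function.comp_apply, LinearMap.coe_single,
      Fintype.linearCombination_apply_single, one_smul, LinearMap.id_coe, id_eq]
    rw [hg']
    have : (fun j => algebraMap R (Localization.Away f) (ψ j (s i))) = A.mulVec (Pi.single i 1) := by
      rw [Matrix.mulVec_single_one]
      ext j
      simp [hA, hA₀]
    rw [this, Matrix.mulVecLin_apply, Matrix.mulVec_mulVec, Matrix.nonsing_inv_mul _ hAdet,
      Matrix.one_mulVec]

end Main2


/-- Let R be a ring, M a finitely presented R-module and x a maximal ideal of R with residue field κ(x);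
write M(x) = M/xM and let B(x) ⊆ M(x) be the orthogonal of the image of Hom_R(M, R) in the dual of
M(x), i.e. the classes of those m in M with φ(m) in x for every linear form φ on M, and V(x) =
M(x)/B(x). For s_1, ..., s_r in M the following are equivalent: (1) there is f in R, f not in x,
such that the map R_f^r → M_f given by the s_i is the inclusion of a direct summand; (2) the images
of s_1, ..., s_r in V(x) are linearly independent over κ(x). -/
theorem result (R : Type u) [CommRing R] (M : Type u)
    [AddCommGroup M] [Module R M] [Module.FinitePresentation R M] (x : Ideal R) [x.IsMaximal]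
    (r : ℕ) (s : Fin r → M) :
    let Mx := M ⧸ (x • ⊤ : Submodule R M)
    let Bx : Submodule (R ⧸ x) Mx :=
      Submodule.span (R ⧸ x) ((x • ⊤ : Submodule R M).mkQ '' {m : M | ∀ φ : M →ₗ[R] R, φ m ∈ x})
    (∃ f : R, f ∉ x ∧
      ∃ g : LocalizedModule (Submonoid.powers f) M →ₗ[Localization.Away f] (Fin r → Localization.Away f),
        g ∘ₗ Fintype.linearCombination (Localization.Away f)
            (fun i => LocalizedModule.mkLinearMap (Submonoid.powers f) M (s i)) = LinearMap.id) ↔
    LinearIndependent (R ⧸ x) (fun i => Bx.mkQ ((x • ⊤ : Submodule R M).mkQ (s i))) := by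
  intro Mx Bx
  show _ ↔ LinearIndependent (R ⧸ x) (fun i => (Submodule.span (R ⧸ x)
      ((x • ⊤ : Submodule R M).mkQ '' {m : M | ∀ φ : M →ₗ[R] R, φ m ∈ x})).mkQ
        ((x • ⊤ : Submodule R M).mkQ (s i)))
  rw [li_iff]
  constructor
  · rintro ⟨f, hf, g, hg⟩ c hc j
    exact forward x r s f hf g hg c hc j
  · intro h
    exact backward x r s h

end Groth.Agent.S7147
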