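import Groth.Statements.S7149
import Groth.Agent.Lib.Helper43.ExtProj
import Mathlib.Tactic
import Mathlib.RingTheory.Filtration
import Mathlib.LinearAlgebra.FreeModule.Finite.Matrix
-- import your own Groth.Agent.* helpers here

set_option autoImplicit false
universe u
open CategoryTheory
attribute [local instance] HasDerivedCategory.standard
open CAlg

namespace Groth.Agent.S7149


open Groth.Agent.Lib.Helper43.ExtProj

/-- A linear map out of a finite free module with values in `I • ⊤` lies in `I • ⊤`. -/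
lemma lin_mem {A : Type u} [CommRing A] (F M : Type u) [AddCommGroup F] [Module A F]
    [Module.Finite A F] [Module.Free A F] [AddCommGroup M] [Module A M] (I : Ideal A)
    (f : F →ₗ[A] M) (hf : ∀ x, f x ∈ I • (⊤ : Submodule A M)) :
    f ∈ I • (⊤ : Submodule A (F →ₗ[A] M)) := by
  classical
  let b := Module.Free.chooseBasis A F
  have hsum : f = ∑ j, (LinearMap.smulRightₗ (b.coord j) : M →ₗ[A] F →ₗ[A] M) (f (b j)) := by
    apply b.ext
    intro k
    simp only [LinearMap.coe_sum, Finset.sum_apply, LinearMap.smulRightₗ_apply,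
      LinearMap.smulRight_apply, Module.Basis.coord_apply, Module.Basis.repr_self]
    rw [Finset.sum_eq_single k]
    · simp
    · intro j _ hjk
      rw [Finsupp.single_apply, if_neg (Ne.symm hjk), zero_smul]
    · intro hk
      exact absurd (Finset.mem_univ k) hk
  rw [hsum]
  refine Submodule.sum_mem _ (fun j _ => ?_)
  exact map_mem_smul_top _ I (hf (b j))

/-- The same statement for morphisms in `ModuleCat`. -/
lemma hom_mem {A : Type u} [CommRing A] (F : ModuleCat.{u} A)
    [Module.Finite A F] [Module.Free A F] (M : Type u) [AddCommGroup M] [Module A M] (I : Ideal A)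
    (ψ : F ⟶ ModuleCat.of A ↥(I • ⊤ : Submodule A M)) :
    ψ ≫ ModuleCat.ofHom (I • ⊤ : Submodule A M).subtype ∈
      I • (⊤ : Submodule A (F ⟶ ModuleCat.of A M)) := by
  have h1 : (ψ ≫ ModuleCat.ofHom (I • ⊤ : Submodule A M).subtype).hom ∈
      I • (⊤ : Submodule A (F →ₗ[A] M)) := by
    apply lin_mem
    intro x
    exact (ψ.hom x).2
  have h2 := map_mem_smul_top
    ((ModuleCat.homLinearEquiv (S := A) (M := F) (N := ModuleCat.of A M)).symm.toLinearMap) I h1
  exact h2

/-- Let A be a Noetherian ring, I an ideal, K a pseudo-coherent object of D(A) and M a finite A-module.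
For each integer p there is c such that for all n ≥ c the image of Ext^p_A(K, IⁿM) → Ext^p_A(K, M)
is contained in I^(n-c)·Ext^p_A(K, M); here Ext^p(K, X) = Hom_{D(A)}(K, X[p]) with its natural
A-module structure. -/
theorem result (A : Type u) [CommRing A] [IsNoetherianRing A] (I : Ideal A)
    (K : Dual.D A) (hK : DRing.IsPseudoCoherent' A K) (M : Type u) [AddCommGroup M] [Module A M] [Module.Finite A M]
    (p : ℤ) :
    ∃ c : ℕ, ∀ n : ℕ, c ≤ n →
      ∀ e : K ⟶ (Dual.inD A ↥(I ^ n • ⊤ : Submodule A M))⟦p⟧,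
        e ≫ ((DerivedCategory.singleFunctor (ModuleCat.{u} A) 0).map
              (ModuleCat.ofHom (I ^ n • ⊤ : Submodule A M).subtype))⟦p⟧' ∈
          (I ^ (n - c) • ⊤ : Submodule A (K ⟶ (Dual.inD A M)⟦p⟧)) := by
  classical
  obtain ⟨E, b, hb, hff, ⟨κ⟩⟩ := hK
  have : E.IsStrictlyLE b := by
    rw [CochainComplex.isStrictlyLE_iff]
    intro i hi
    exact hb i hi
  have : ∀ n : ℤ, Module.Finite A (E.X n) := fun n => (hff n).1
  have : ∀ n : ℤ, Module.Free A (E.X n) := fun n => (hff n).2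
  have : ∀ n : ℤ, CategoryTheory.Projective (E.X n) := fun n => inferInstance
  have : E.IsKProjective := CochainComplex.isKProjective_of_projective E b
  -- the finite module of maps `E^{-p} → M` and its cocycle submodule
  have : Module.Finite A (E.X (-p) ⟶ ModuleCat.of A M) :=
    Module.Finite.equiv (ModuleCat.homLinearEquiv (S := A) (M := E.X (-p))
      (N := ModuleCat.of A M)).symm
  obtain ⟨c, hc⟩ := Ideal.exists_pow_inf_eq_pow_smul I (Z E p (ModuleCat.of A M))
  refine ⟨c, fun n hn e => ?_⟩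
  -- represent `κ.hom ≫ e` by a cocycle
  obtain ⟨ψ, hψ⟩ := Φ_surjective E p (ModuleCat.of A ↥(I ^ n • ⊤ : Submodule A M)) (κ.hom ≫ e)
  have he : e = κ.inv ≫ Φ E p _ ψ := by
    rw [hψ, Iso.inv_hom_id_assoc]
  set u : ModuleCat.of A ↥(I ^ n • ⊤ : Submodule A M) ⟶ ModuleCat.of A M :=
    ModuleCat.ofHom (I ^ n • ⊤ : Submodule A M).subtype with hu
  have hzZ : ψ.1 ≫ u ∈ Z E p (ModuleCat.of A M) := comp_mem_Z E p u ψ
  rw [he, Category.assoc, Φ_naturality E p u ψ hzZ]
  -- the cocycle lies in `I^n • ⊤ ⊓ Z`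
  have hz : ψ.1 ≫ u ∈ (I ^ n • ⊤ ⊓ Z E p (ModuleCat.of A M) :
      Submodule A (E.X (-p) ⟶ ModuleCat.of A M)) :=
    ⟨hom_mem (E.X (-p)) M (I ^ n) ψ.1, hzZ⟩
  rw [hc n hn] at hz
  -- transfer to the submodule `Z`
  set ZZ := Z E p (ModuleCat.of A M) with hZZ
  set N' : Submodule A (E.X (-p) ⟶ ModuleCat.of A M) := I ^ c • ⊤ ⊓ ZZ with hN'
  have hN'le : N' ≤ ZZ := inf_le_right
  have hmap : Submodule.map ZZ.subtype (Submodule.comap ZZ.subtype N') = N' := by
    rw [Submodule.map_comap_eq, Submodule.range_subtype]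
    exact inf_eq_right.2 hN'le
  rw [← hmap, ← Submodule.map_smul''] at hz
  obtain ⟨z', hz', hz'eq⟩ := hz
  have hz'top : z' ∈ I ^ (n - c) • (⊤ : Submodule A ZZ) :=
    Submodule.smul_mono le_rfl le_top hz'
  have h3 := map_mem_smul_top (Φ E p (ModuleCat.of A M)) (I ^ (n - c)) hz'top
  have h4 : z' = ⟨ψ.1 ≫ u, hzZ⟩ := Subtype.ext hz'eq
  rw [h4] at h3
  exact map_mem_smul_top (Linear.leftComp A _ κ.inv) (I ^ (n - c)) h3

end Groth.Agent.S7149
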