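import Groth.Statements.S7150
-- import your own Groth.Agent.* helpers here
import Groth.Agent.Lib.Helper49.MacLane2
import Mathlib.RingTheory.LocalRing.ResidueField.Basic

set_option autoImplicit false
universe u
open EtAlg

namespace Groth.Agent.S7150

open IsLocalRing Groth.Agent.Lib.Helper49.MacLane

theorem exists_section_alg {F A : Type u} [Field F] [CommRing A] [IsLocalRing A] [Algebra F A]
    (hnil : ∃ n : ℕ, maximalIdeal A ^ n = ⊥) [Algebra.FormallySmooth F (ResidueField A)] :
    ∃ σ : ResidueField A →ₐ[F] A, ∀ x, residue A (σ x) = x := by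
  let g : ResidueField A →ₐ[F] A ⧸ maximalIdeal A := AlgHom.id F (ResidueField A)
  obtain ⟨f, hf⟩ := Algebra.FormallySmooth.exists_lift (maximalIdeal A) hnil g
  refine ⟨f, fun x => ?_⟩
  have := congrArg (fun w => w x) hf
  exact this

theorem part1 (p : ℕ) (hp : p.Prime) (A : Type u) [CommRing A]
    [IsLocalRing A] [CharP A p] (hnil : ∃ n : ℕ, IsLocalRing.maximalIdeal A ^ n = ⊥) :
    ∃ σ : IsLocalRing.ResidueField A →+* A, (IsLocalRing.residue A).comp σ = RingHom.id _ := by
  have : Fact p.Prime := ⟨hp⟩
  let _ : Algebra (ZMod p) A := ZMod.algebra A p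
  let _ : Algebra (ULift.{u} (ZMod p)) A := ULift.algebra' (ZMod p) A
  have hchar : CharP (ResidueField A) p := by
    rw [CharP.charP_iff_prime_eq_zero hp]
    have h0 : ((p : A)) = 0 := CharP.cast_eq_zero A p
    have := congrArg (residue A) h0
    rwa [map_natCast, map_zero] at this
  have : Algebra.FormallySmooth (ULift.{u} (ZMod p)) (ResidueField A) :=
    formallySmooth_of_perfect p
  obtain ⟨σ, hσ⟩ := exists_section_alg (F := ULift.{u} (ZMod p)) hnil
  exact ⟨σ.toRingHom, RingHom.ext fun x => hσ x⟩

theorem part2 (A : Type u) [CommRing A] [IsLocalRing A]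
    (A' : Type u) [CommRing A'] [IsLocalRing A'] [Algebra A A'] [IsLocalHom (algebraMap A A')]
    (hnil : ∃ n : ℕ, IsLocalRing.maximalIdeal A' ^ n = ⊥)
    (hGR : Algebra.IsGeometricallyReduced (IsLocalRing.ResidueField A) (IsLocalRing.ResidueField A'))
    (σ : IsLocalRing.ResidueField A →+* A) (hσ : (IsLocalRing.residue A).comp σ = RingHom.id _) :
    ∃ σ' : IsLocalRing.ResidueField A' →+* A', (IsLocalRing.residue A').comp σ' = RingHom.id _ ∧
      σ'.comp (IsLocalRing.ResidueField.map (algebraMap A A')) = (algebraMap A A').comp σ := by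
  let _ : Algebra (ResidueField A) A' := ((algebraMap A A').comp σ).toAlgebra
  have hFS : Algebra.FormallySmooth (ResidueField A) (ResidueField A') :=
    formallySmooth_of_geomReduced
  let g : ResidueField A' →ₐ[ResidueField A] A' ⧸ maximalIdeal A' :=
    { toRingHom := RingHom.id _
      commutes' := by
        intro x
        change ResidueField.map (algebraMap A A') x = residue A' (algebraMap A A' (σ x))
        have hx : residue A (σ x) = x := congrArg (fun w => w x) hσ
        conv_lhs => rw [← hx]
        exact ResidueField.map_residue _ _ }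
  obtain ⟨f, hf⟩ := Algebra.FormallySmooth.exists_lift (maximalIdeal A') hnil g
  refine ⟨f.toRingHom, RingHom.ext fun x => ?_, RingHom.ext fun x => ?_⟩
  · have := congrArg (fun w => w x) hf
    exact this
  · exact f.commutes x



/-- Suppose p is a prime with p·1 = 0 in the local ring A and some power of the maximal ideal of A is
zero. Then the residue map A → κ_A has a section σ : κ_A → A that is a ring map. If moreover A → A'
is a local homomorphism to another local ring whose maximal ideal has a vanishing power, and the
residue field extension κ_{A'}/κ_A is separable (possibly transcendental, i.e. geometrically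
reduced), then for any such σ there is a section σ' : κ_{A'} → A' compatible with σ. -/
theorem result (p : ℕ) (hp : p.Prime) (A : Type u) [CommRing A]
    [IsLocalRing A] [CharP A p] (hnil : ∃ n : ℕ, IsLocalRing.maximalIdeal A ^ n = ⊥) :
    (∃ σ : IsLocalRing.ResidueField A →+* A, (IsLocalRing.residue A).comp σ = RingHom.id _) ∧
    ∀ (A' : Type u) [CommRing A'] [IsLocalRing A'] [Algebra A A'] [IsLocalHom (algebraMap A A')],
      (∃ n : ℕ, IsLocalRing.maximalIdeal A' ^ n = ⊥) →
      Algebra.IsGeometricallyReduced (IsLocalRing.ResidueField A) (IsLocalRing.ResidueField A') →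
      ∀ σ : IsLocalRing.ResidueField A →+* A, (IsLocalRing.residue A).comp σ = RingHom.id _ →
        ∃ σ' : IsLocalRing.ResidueField A' →+* A', (IsLocalRing.residue A').comp σ' = RingHom.id _ ∧
          σ'.comp (IsLocalRing.ResidueField.map (algebraMap A A')) = (algebraMap A A').comp σ := by
  exact ⟨part1 p hp A hnil, fun A' _ _ _ _ hnil' hGR σ hσ => part2 A A' hnil' hGR σ hσ⟩

end Groth.Agent.S7150
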