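import Groth.Statements.S7153
import Mathlib.RingTheory.Filtration
-- import your own Groth.Agent.* helpers here

set_option autoImplicit false
universe u
open CAlg

namespace Groth.Agent.S7153

theorem ar_le {A : Type u} [CommRing A] [IsNoetherianRing A] (I : Ideal A)
    {L : Type u} [AddCommGroup L] [Module A L] [Module.Finite A L] (N : Submodule A L) :
    ∃ k : ℕ, ∀ c : ℕ, k ≤ c → ∀ n : ℕ, I ^ (n + c) • ⊤ ⊓ N ≤ I ^ n • N := by
  obtain ⟨k, hk⟩ := Ideal.exists_pow_inf_eq_pow_smul I N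
  refine ⟨k, fun c hc n => ?_⟩
  rw [hk (n + c) (by omega)]
  calc I ^ (n + c - k) • (I ^ k • ⊤ ⊓ N) ≤ I ^ (n + c - k) • N :=
        Submodule.smul_mono le_rfl inf_le_right
    _ ≤ I ^ n • N := Submodule.smul_mono_left (Ideal.pow_le_pow_right (by omega))


/-- Let A be a Noetherian ring, I an ideal and K → L → M a complex of finite A-modules with maps α, β
and homology H = Ker β / Im α; for n ≥ 0 let H_n be the homology of the induced complex K/IⁿK →
L/IⁿL → M/IⁿM, which is β⁻¹(IⁿM)/(Im α + IⁿL). Then there is c > 0 such that for every n: (i) the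
image of H_(n+c) → H_n is contained in, hence equal to, the image of H → H_n; (ii) the kernel and
the cokernel of H/IⁿH → H_n are annihilated by I^c. Everything is phrased with representatives in L. -/
theorem result (A : Type u) [CommRing A] [IsNoetherianRing A] (I : Ideal A)
    (K L M : Type u) [AddCommGroup K] [Module A K] [Module.Finite A K] [AddCommGroup L] [Module A L]
    [Module.Finite A L] [AddCommGroup M] [Module A M] [Module.Finite A M]
    (α : K →ₗ[A] L) (β : L →ₗ[A] M) (hαβ : β ∘ₗ α = 0) :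
    ∃ c : ℕ, 0 < c ∧ ∀ n : ℕ,
      (∀ y ∈ (I ^ (n + c) • ⊤ : Submodule A M).comap β,
        ∃ z ∈ LinearMap.ker β, y - z ∈ LinearMap.range α ⊔ (I ^ n • ⊤ : Submodule A L)) ∧
      (∀ z ∈ LinearMap.ker β, z ∈ LinearMap.range α ⊔ (I ^ n • ⊤ : Submodule A L) →
        ∀ a ∈ I ^ c, a • z ∈ LinearMap.range α ⊔ I ^ n • LinearMap.ker β) ∧
      (∀ y ∈ (I ^ n • ⊤ : Submodule A M).comap β, ∀ a ∈ I ^ c,
        ∃ z ∈ LinearMap.ker β, a • y - z ∈ LinearMap.range α ⊔ (I ^ n • ⊤ : Submodule A L)) := by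
  obtain ⟨k₁, h₁⟩ := ar_le I (LinearMap.range β)
  obtain ⟨k₂, h₂⟩ := ar_le I (LinearMap.ker β)
  have hβα : ∀ k, β (α k) = 0 := fun k => by
    have := congrArg (fun f => f k) hαβ
    simpa using this
  have hmap : ∀ n : ℕ, I ^ n • LinearMap.range β = (I ^ n • ⊤ : Submodule A L).map β := by
    intro n
    rw [Submodule.map_smul'', Submodule.map_top]
  set c := max k₁ k₂ + 1 with hc
  have hk₁ : k₁ ≤ c := by omega
  have hk₂ : k₂ ≤ c := by omega
  refine ⟨c, by omega, fun n => ⟨?_, ?_, ?_⟩⟩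
  · intro y hy
    have hy' : β y ∈ I ^ (n + c) • ⊤ ⊓ LinearMap.range β := ⟨hy, ⟨y, rfl⟩⟩
    have := h₁ c hk₁ n hy'
    rw [hmap] at this
    obtain ⟨l, hl, hly⟩ := this
    refine ⟨y - l, ?_, ?_⟩
    · simp [hly]
    · simpa using Submodule.mem_sup_right hl
  · intro z hz hz' a ha
    obtain ⟨x, ⟨k, rfl⟩, l, hl, rfl⟩ := Submodule.mem_sup.mp hz'
    have hlker : l ∈ LinearMap.ker β := by
      have : β (α k + l) = 0 := hz
      simpa [hβα] using this
    rw [smul_add]
    refine Submodule.add_mem_sup ⟨a • k, by simp⟩ ?_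
    by_cases hn : c ≤ n
    · obtain ⟨m, rfl⟩ := Nat.exists_eq_add_of_le' hn
      have := h₂ c hk₂ m ⟨hl, hlker⟩
      rw [pow_add, mul_comm, mul_smul]
      exact Submodule.smul_mem_smul ha this
    · exact Submodule.smul_mem_smul (Ideal.pow_le_pow_right (by omega) ha) hlker
  · intro y hy a ha
    by_cases hn : c ≤ n
    · obtain ⟨m, rfl⟩ := Nat.exists_eq_add_of_le' hn
      have hy' : β y ∈ I ^ (m + c) • ⊤ ⊓ LinearMap.range β := ⟨hy, ⟨y, rfl⟩⟩
      have h3 := h₁ c hk₁ m hy'
      have h4 : a • β y ∈ I ^ (m + c) • LinearMap.range β := by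
        rw [pow_add, mul_comm, mul_smul]
        exact Submodule.smul_mem_smul ha h3
      rw [hmap] at h4
      obtain ⟨l, hl, hly⟩ := h4
      refine ⟨a • y - l, ?_, ?_⟩
      · simp [hly]
      · simpa using Submodule.mem_sup_right hl
    · refine ⟨0, by simp, ?_⟩
      rw [sub_zero]
      exact Submodule.mem_sup_right
        (Submodule.smul_mem_smul (Ideal.pow_le_pow_right (by omega) ha) Submodule.mem_top)

end Groth.Agent.S7153
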