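import Mathlib
import Groth.Statements.S7155
import Groth.Agent.Lib.Helper9.EppAS1
import Groth.Agent.Lib.Helper9.EppAS2
import Groth.Agent.Lib.Helper9.EppAS4

set_option autoImplicit false
universe u
open EtAlg

namespace Groth.Agent.S7155

/-- Let A → B → C be injective local homomorphisms of discrete valuation rings whose fields of fractions
are K ⊆ L ⊆ M, where A → B is weakly unramified, K has characteristic p, M/L is Galois of degree p,
and κ_A, inside κ_B, is exactly the set of elements admitting a pⁿ-th root for every n. Then some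
finite separable extension K₁/K that is totally ramified with respect to A is a weak solution for A
→ C. (The published statement asks for K₁/K Galois; this row asks only that K₁/K be separable, which
is what the printed construction provides.) -/
theorem result (p : ℕ) (hp : p.Prime) (A B C K L M : Type u)
    [CommRing A] [IsDomain A] [IsDiscreteValuationRing A] [CommRing B] [IsDomain B] [IsDiscreteValuationRing B]
    [CommRing C] [IsDomain C] [IsDiscreteValuationRing C]
    [Algebra A B] [Algebra B C] [Algebra A C] [IsScalarTower A B C]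
    (hAB : Function.Injective (algebraMap A B)) (hBC : Function.Injective (algebraMap B C))
    [IsLocalHom (algebraMap A B)] [IsLocalHom (algebraMap B C)]
    [Field K] [Field L] [Field M] [Algebra A K] [IsFractionRing A K] [Algebra B L] [IsFractionRing B L]
    [Algebra C M] [IsFractionRing C M] [Algebra K L] [Algebra L M] [Algebra K M] [IsScalarTower K L M]
    [Algebra A L] [IsScalarTower A K L] [IsScalarTower A B L] [Algebra B M] [IsScalarTower B L M] [IsScalarTower B C M]
    [Algebra A M] [IsScalarTower A K M] [IsScalarTower A C M]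
    (hw : EtRam.IsWeaklyUnramified A B) [CharP K p] [IsGalois L M] (hdeg : Module.finrank L M = p)
    (hk : ∀ x : IsLocalRing.ResidueField B, (∀ n : ℕ, ∃ y : IsLocalRing.ResidueField B, y ^ (p ^ n) = x) ↔
      x ∈ Set.range (algebraMap (IsLocalRing.ResidueField A) (IsLocalRing.ResidueField B))) :
    ∃ (K₁ : Type u) (_ : Field K₁) (_ : Algebra K K₁), FiniteDimensional K K₁ ∧ Algebra.IsSeparable K K₁ ∧
      EtRam.IsTotallyRamified A ((algebraMap K K₁).comp (algebraMap A K)) ∧ EtRam.IsWeakSolution C K M K₁ := by
  classical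
  haveI : Fact p.Prime := ⟨hp⟩
  haveI : CharP L p := charP_of_injective_algebraMap (algebraMap K L).injective p
  obtain ⟨π, hπirr⟩ := IsDiscreteValuationRing.exists_irreducible A
  have hπ : IsLocalRing.maximalIdeal A = Ideal.span {π} :=
    (IsDiscreteValuationRing.irreducible_iff_uniformizer π).1 hπirr
  haveI : CharP B p :=
    (RingHom.charP_iff (algebraMap B L) (IsFractionRing.injective B L) p).2 inferInstance
  haveI : CharP (IsLocalRing.ResidueField B) p := by
    refine (CharP.charP_iff_prime_eq_zero hp).2 ?_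
    rw [← map_natCast (IsLocalRing.residue B), CharP.cast_eq_zero B p, map_zero]
  have hperf := Groth.Agent.Lib.Helper9.EppAS.perfect_of_hk p (IsLocalRing.ResidueField A)
    (IsLocalRing.ResidueField B) hk
  obtain ⟨z, ξ, hz, hgenz⟩ := Groth.Agent.Lib.Helper9.EppAS.exists_as_generator p L M hdeg
  have hmB : IsLocalRing.maximalIdeal B = Ideal.span {algebraMap A B π} := by
    have h1 : (IsLocalRing.maximalIdeal A).map (algebraMap A B) = IsLocalRing.maximalIdeal B := hw
    rw [← h1, hπ, Ideal.map_span, Set.image_singleton]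
  have hπBirr : Irreducible (algebraMap A B π) :=
    (IsDiscreteValuationRing.irreducible_iff_uniformizer _).2 hmB
  have hπBL : algebraMap B L (algebraMap A B π) = algebraMap A L π :=
    (IsScalarTower.algebraMap_apply A B L π).symm
  have hπL : algebraMap A L π ≠ 0 := by
    rw [← hπBL, Ne, map_eq_zero_iff _ (IsFractionRing.injective B L)]
    exact hπBirr.ne_zero
  obtain ⟨n, c, hc⟩ := Groth.Agent.Lib.Helper9.DvrArtinSchreier.exists_pole (A := B) (K := L)
    hπBirr ξ
  rw [hπBL] at hc
  obtain ⟨y, η, J, β, s, b, hξ, hJ⟩ := Groth.Agent.Lib.Helper9.EppAS.expansion p A B K L hw π hπ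
    hπL hk n ξ ⟨c, hc⟩
  have hm : ∀ j ∈ J, s j < J.sup s + 1 := fun j hj =>
    Nat.lt_succ_of_le (Finset.le_sup (f := s) hj)
  have hn₀ : ∀ j ∈ J, j < J.sup id + 2 := fun j hj => by
    have := Finset.le_sup (f := id) hj
    simp only [id] at this
    omega
  obtain ⟨K₁, instF, instAlg, hfd, hsep, ht, y₁, a₁, πq, bq, hη, hπq, hint⟩ :=
    Groth.Agent.Lib.Helper9.EppAS.exists_K1 p A K hperf π hπ η (J.sup s + 1) (J.sup id + 2)
      (by omega)
  refine ⟨K₁, instF, instAlg, hfd, hsep, ht, ?_⟩
  intro M' _ _ _ _ _ _ hgen W hW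
  by_cases hJne : J.Nonempty
  · exact Groth.Agent.Lib.Helper9.EppAS.local_C p hp A B C K L M hAB hBC hw hdeg π hπirr z ξ hz
      y η J β s b hξ (fun j hj => ⟨(hJ j hj).1, (hJ j hj).2.2.1, (hJ j hj).2.2.2⟩) hJne K₁ ht
      (J.sup s + 1) (J.sup id + 2) hm hn₀ (by omega) y₁ a₁ πq bq hη hπq hint M' hgen W hW
  · rw [Finset.not_nonempty_iff_eq_empty] at hJne
    subst hJne
    rw [Finset.sum_empty, add_zero] at hξ
    exact Groth.Agent.Lib.Helper9.EppAS.local_A p hp A B C K L M hAB hBC hw z ξ hz hgenz
      y η b hξ K₁ ht y₁ a₁ hη (fun V₁ hV₁ => (hint V₁ hV₁).1) M' hgen W hW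

end Groth.Agent.S7155
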