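import Mathlib
import Groth.Statements.S7156
import Groth.Agent.Lib.Helper9.EppInsep2

set_option autoImplicit false
universe u
open EtAlg

namespace Groth.Agent.S7156

open TensorProduct in
/-- Let A → B → C be injective local homomorphisms of discrete valuation rings whose fields of fractions
are K ⊆ L ⊆ M, and let π be a uniformizer of A; suppose B is a Nagata ring, A → B is weakly
unramified, and M/L is purely inseparable of prime degree p. Then one of the following holds: the
extension A → C is itself weakly unramified; or else C = B[π^(1/p)]; or else there is a separable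
degree-p extension K₁/K, totally ramified with respect to A, for which L ⊗_K K₁ and M ⊗_K K₁ are
fields and the integral closures A₁ → B₁ → C₁ are weakly unramified extensions, i.e. K₁ is a weak
solution for A ⊆ B and for A ⊆ C. -/
theorem result (p : ℕ) (hp : p.Prime) (A B C K L M : Type u)
    [CommRing A] [IsDomain A] [IsDiscreteValuationRing A] [CommRing B] [IsDomain B] [IsDiscreteValuationRing B]
    [CommRing C] [IsDomain C] [IsDiscreteValuationRing C]
    [Algebra A B] [Algebra B C] [Algebra A C] [IsScalarTower A B C]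
    (hAB : Function.Injective (algebraMap A B)) (hBC : Function.Injective (algebraMap B C))
    [IsLocalHom (algebraMap A B)] [IsLocalHom (algebraMap B C)]
    [Field K] [Field L] [Field M] [Algebra A K] [IsFractionRing A K] [Algebra B L] [IsFractionRing B L]
    [Algebra C M] [IsFractionRing C M] [Algebra K L] [Algebra L M] [Algebra K M] [IsScalarTower K L M]
    [Algebra A L] [IsScalarTower A K L] [IsScalarTower A B L] [Algebra B M] [IsScalarTower B L M] [IsScalarTower B C M]
    [Algebra A M] [IsScalarTower A K M] [IsScalarTower A C M]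
    (π : A) (hπ : IsLocalRing.maximalIdeal A = Ideal.span {π}) (hB : CAlg.IsNagata B)
    (hw : EtRam.IsWeaklyUnramified A B) [IsPurelyInseparable L M] (hdeg : Module.finrank L M = p) :
    EtRam.IsWeaklyUnramified A C ∨
      (∃ c : C, c ^ p = algebraMap A C π ∧ Algebra.adjoin B {c} = ⊤) ∨
      ∃ (K₁ : Type u) (_ : Field K₁) (_ : Algebra K K₁),
        Module.finrank K K₁ = p ∧ Algebra.IsSeparable K K₁ ∧
          EtRam.IsTotallyRamified A ((algebraMap K K₁).comp (algebraMap A K)) ∧
          IsField (L ⊗[K] K₁) ∧ IsField (M ⊗[K] K₁) ∧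
          EtRam.IsWeakSolution B K L K₁ ∧ EtRam.IsWeakSolution C K M K₁ := by
  classical
  have hπ0 : π ≠ 0 := by
    rintro rfl
    exact IsDiscreteValuationRing.not_a_field A (hπ.trans (Ideal.span_singleton_eq_bot.2 rfl))
  have hπirr : Irreducible π := IsDiscreteValuationRing.irreducible_of_span_eq_maximalIdeal π hπ0 hπ
  have hϖ0 : algebraMap A B π ≠ 0 := by
    rw [Ne, map_eq_zero_iff _ hAB]; exact hπ0
  have hϖmax : IsLocalRing.maximalIdeal B = Ideal.span {algebraMap A B π} := by
    have h1 : (IsLocalRing.maximalIdeal A).map (algebraMap A B) = IsLocalRing.maximalIdeal B := hw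
    rw [← h1, hπ, Ideal.map_span, Set.image_singleton]
  have hϖirr : Irreducible (algebraMap A B π) :=
    IsDiscreteValuationRing.irreducible_of_span_eq_maximalIdeal _ hϖ0 hϖmax
  rcases Groth.Agent.Lib.Helper9.EppInsep.dichotomy (L := L) (M := M) hp hdeg hBC hϖirr with
    h1 | ⟨he, c₀, u₀, -, hu₀, hc₀⟩
  · left
    have h2 : (IsLocalRing.maximalIdeal B).map (algebraMap B C) = IsLocalRing.maximalIdeal C :=
      (Groth.Agent.Lib.Helper9.DvrExt.isWeaklyUnramified_iff hBC).2 h1
    have h3 : (IsLocalRing.maximalIdeal A).map (algebraMap A B) = IsLocalRing.maximalIdeal B := hw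
    change (IsLocalRing.maximalIdeal A).map (algebraMap A C) = IsLocalRing.maximalIdeal C
    rw [IsScalarTower.algebraMap_eq A B C, ← Ideal.map_map, h3, h2]
  · right
    have hQ0 : ∃ (c : C) (u₁ : B),
        c ^ p = algebraMap B C (algebraMap A B π * (1 + algebraMap A B π ^ 0 * u₁)) ∧
        IsUnit (1 + algebraMap A B π ^ 0 * u₁) := by
      refine ⟨c₀, u₀ - 1, ?_, ?_⟩
      · rw [hc₀]; congr 1; ring
      · have : 1 + algebraMap A B π ^ 0 * (u₀ - 1) = u₀ := by ring
        rw [this]; exact hu₀
    rcases Groth.Agent.Lib.Helper9.EppInsep.forall_or_exists_max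
      (fun k => ∃ (c : C) (u₁ : B),
        c ^ p = algebraMap B C (algebraMap A B π * (1 + algebraMap A B π ^ k * u₁)) ∧
        IsUnit (1 + algebraMap A B π ^ k * u₁)) hQ0 with hall | ⟨k, ⟨c, u₁, hc, hu⟩, hnot⟩
    · left
      obtain ⟨c, hc⟩ := Groth.Agent.Lib.Helper9.EppInsep.exists_root_C (L := L) (M := M) hp hdeg hB
        hϖirr (fun k => by obtain ⟨c, u₁, h, -⟩ := hall k; exact ⟨c, u₁, h⟩)
      refine ⟨c, ?_, Groth.Agent.Lib.Helper9.EppInsep.adjoin_eq_top (L := L) (M := M) hp hdeg hBC hB
        hϖirr he c hc⟩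
      rw [hc, ← IsScalarTower.algebraMap_apply]
    · right
      refine Groth.Agent.Lib.Helper9.EppInsep.case3 p hp A B C K L M hAB hBC π hπirr hw hdeg he k c u₁
        hc ?_
      intro w hw'
      exact hnot (Groth.Agent.Lib.Helper9.EppInsep.mod_step (L := L) (M := M) hp hdeg hϖirr k c u₁ w
        hc hu hw')

end Groth.Agent.S7156
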