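import Groth.Statements.S7160
import Mathlib.Tactic
import Mathlib.Algebra.Homology.DerivedCategory.HomologySequence
import Mathlib.Algebra.Homology.DerivedCategory.Linear
import Mathlib.Algebra.Homology.ShortComplex.Linear
-- import your own Groth.Agent.* helpers here

set_option autoImplicit false
universe u
open CategoryTheory CategoryTheory.Pretriangulated
attribute [local instance] HasDerivedCategory.standard
open CAlg

namespace Groth.Agent.S7160


open DerivedCategory in
lemma homologyMap_smul_id (R : Type u) [CommRing R] (f : R)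
    (K : CochainComplex (ModuleCat.{u} R) ℤ) (i : ℤ) :
    HomologicalComplex.homologyMap (f • 𝟙 K) i = f • 𝟙 _ := by
  have h : (HomologicalComplex.shortComplexFunctor (ModuleCat.{u} R) (ComplexShape.up ℤ) i).map
      (f • 𝟙 K) = f • 𝟙 ((HomologicalComplex.shortComplexFunctor (ModuleCat.{u} R)
        (ComplexShape.up ℤ) i).obj K) := by
    ext <;> rfl
  unfold HomologicalComplex.homologyMap
  rw [h, ShortComplex.homologyMap_smul, ShortComplex.homologyMap_id]
  rfl

lemma smul_id_comm {C : Type*} [Category C] [Preadditive C] {R : Type*} [Semiring R] [Linear R C]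
    {X Y : C} (a : X ⟶ Y) (f : R) : a ≫ (f • 𝟙 Y) = (f • 𝟙 X) ≫ a := by
  rw [Linear.comp_smul, Linear.smul_comp, Category.comp_id, Category.id_comp]

open DerivedCategory in
lemma map_smul_id (R : Type u) [CommRing R] (f : R) (M : Dual.D R) (i : ℤ) :
    (homologyFunctor (ModuleCat.{u} R) i).map (f • 𝟙 M) = f • 𝟙 _ := by
  obtain ⟨K, ⟨e⟩⟩ : ∃ K : CochainComplex (ModuleCat.{u} R) ℤ, Nonempty (Q.obj K ≅ M) :=
    ⟨_, ⟨Q.objObjPreimageIso M⟩⟩
  have h1 : f • 𝟙 M = e.inv ≫ Q.map (f • 𝟙 K) ≫ e.hom := by
    rw [CategoryTheory.Functor.map_smul, CategoryTheory.Functor.map_id]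
    simp [Linear.comp_smul, Linear.smul_comp]
  have h2 := homologyFunctorFactors_hom_naturality (C := ModuleCat.{u} R) (f • 𝟙 K) i
  have h3 : (homologyFunctor (ModuleCat.{u} R) i).map (Q.map (f • 𝟙 K)) = f • 𝟙 _ := by
    rw [homologyMap_smul_id] at h2
    apply (cancel_mono ((homologyFunctorFactors (ModuleCat.{u} R) i).hom.app K)).1
    rw [h2]
    exact smul_id_comm _ f
  rw [h1, Functor.map_comp, Functor.map_comp, h3]
  simp [Linear.comp_smul, Linear.smul_comp, ← CategoryTheory.Functor.map_comp]

/-- Let R be a ring, f an element of R, M an object of D(R) and C the cone of f : M → M. Suppose that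
H^i(M)_f = 0 whenever i < 0 (every element of H^i(M) is killed by a power of f) and that H^i(C) = 0
whenever i < -1. Then H^i(M) vanishes for every i < 0. -/
theorem result (R : Type u) [CommRing R] (f : R) (M C : Dual.D R)
    (g : M ⟶ C) (h : C ⟶ M⟦(1 : ℤ)⟧) (hT : Triangle.mk (f • 𝟙 M) g h ∈ distinguishedTriangles)
    (hloc : ∀ i : ℤ, i < 0 → ∀ x : Dual.HD R M i, ∃ n : ℕ, f ^ n • x = 0)
    (hC : ∀ i : ℤ, i < -1 → Subsingleton (Dual.HD R C i)) :
    ∀ i : ℤ, i < 0 → Subsingleton (Dual.HD R M i) := by
  intro i hi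
  have hmono : Mono ((DerivedCategory.homologyFunctor (ModuleCat.{u} R) i).map (f • 𝟙 M)) := by
    have := (DerivedCategory.HomologySequence.mono_homologyMap_mor₁_iff _ hT (i - 1) i (by lia))
    apply this.2
    have hz : Limits.IsZero ((DerivedCategory.homologyFunctor (ModuleCat.{u} R) (i - 1)).obj C) := by
      have := hC (i - 1) (by lia)
      exact ModuleCat.isZero_of_subsingleton _
    exact hz.eq_of_src _ _
  rw [map_smul_id] at hmono
  have hinj : Function.Injective (fun x : Dual.HD R M i => f • x) := by
    have := (ModuleCat.mono_iff_injective _).1 hmono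
    intro x y hxy
    apply this
    simpa using hxy
  constructor
  intro x y
  have key : ∀ z : Dual.HD R M i, z = 0 := by
    intro z
    obtain ⟨n, hn⟩ := hloc i hi z
    induction n with
    | zero => simpa using hn
    | succ n ih =>
      apply ih
      apply hinj
      simp only [smul_zero]
      rw [← hn, pow_succ', mul_smul]
  rw [key x, key y]

end Groth.Agent.S7160
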