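import Groth.Statements.S7164
import Groth.Agent.S7149
import Groth.Agent.Lib.Helper43.ExtProj
import Groth.Agent.Lib.Helper43.CoyonedaLES
import Mathlib.Tactic
import Mathlib.Algebra.Homology.DerivedCategory.SingleTriangle
import Mathlib.Algebra.Homology.ShortComplex.ModuleCat
-- import your own Groth.Agent.* helpers here

set_option autoImplicit false
universe u
open CategoryTheory
attribute [local instance] HasDerivedCategory.standard
open CAlg

namespace Groth.Agent.S7164


open Groth.Agent.Lib.Helper43.ExtProj Groth.Agent.Lib.Helper43 Pretriangulated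

/-- Uniform torsion: if every class in `Ext^j(K, N)` is killed by a power of `I`, then a single
power of `I` kills all of `Ext^j(K, N)` (`K` pseudo-coherent, `N` finite, `A` Noetherian). -/
lemma uniform_torsion (A : Type u) [CommRing A] [IsNoetherianRing A]
    (I : Ideal A) (K : Dual.D A) (hK : DRing.IsPseudoCoherent' A K)
    (N : Type u) [AddCommGroup N] [Module A N] [Module.Finite A N] (j : ℤ)
    (htors : ∀ e : K ⟶ (Dual.inD A N)⟦j⟧, ∃ n : ℕ, ∀ x ∈ I ^ n, x • e = 0) :
    ∃ t : ℕ, ∀ x ∈ I ^ t, ∀ e : K ⟶ (Dual.inD A N)⟦j⟧, x • e = 0 := by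
  classical
  obtain ⟨E, b, hb, hff, ⟨κ⟩⟩ := hK
  have : E.IsStrictlyLE b := by
    rw [CochainComplex.isStrictlyLE_iff]
    intro i hi
    exact hb i hi
  have : ∀ n : ℤ, Module.Finite A (E.X n) := fun n => (hff n).1
  have : ∀ n : ℤ, Module.Free A (E.X n) := fun n => (hff n).2
  have : ∀ n : ℤ, CategoryTheory.Projective (E.X n) := fun n => inferInstance
  have : E.IsKProjective := CochainComplex.isKProjective_of_projective E b
  have : Module.Finite A (E.X (-j) ⟶ ModuleCat.of A N) :=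
    Module.Finite.equiv (ModuleCat.homLinearEquiv (S := A) (M := E.X (-j))
      (N := ModuleCat.of A N)).symm
  set ZZ := Z E j (ModuleCat.of A N) with hZZ
  have hfin : Module.Finite A ZZ := inferInstance
  obtain ⟨S, hS⟩ := hfin.fg_top
  -- the linear map `ZZ → Hom(K, N[j])`
  let Ψ : ZZ →ₗ[A] (K ⟶ (Dual.inD A N)⟦j⟧) :=
    (Linear.leftComp A _ κ.inv).comp (Φ E j (ModuleCat.of A N))
  have hΨsurj : Function.Surjective Ψ := by
    intro e
    obtain ⟨z, hz⟩ := Φ_surjective E j (ModuleCat.of A N) (κ.hom ≫ e)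
    refine ⟨z, ?_⟩
    change κ.inv ≫ Φ E j (ModuleCat.of A N) z = e
    rw [hz, Iso.inv_hom_id_assoc]
  choose nn hnn using fun z : ZZ => htors (Ψ z)
  refine ⟨S.sup nn, fun x hx e => ?_⟩
  obtain ⟨z, rfl⟩ := hΨsurj e
  rw [← map_smul]
  have hker : (⊤ : Submodule A ZZ) ≤ LinearMap.ker ((LinearMap.lsmul A _ x).comp Ψ) := by
    rw [← hS, Submodule.span_le]
    intro s hs
    rw [SetLike.mem_coe, LinearMap.mem_ker]
    change x • Ψ s = 0
    exact hnn s x (Ideal.pow_le_pow_right (Finset.le_sup hs) hx)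
  have := hker (Submodule.mem_top (x := z))
  rw [LinearMap.mem_ker] at this
  change x • Ψ z = 0 at this
  rw [map_smul]
  exact this

/-- The short exact sequence `0 → N → M → M/N → 0`. -/
noncomputable def sc {A : Type u} [CommRing A] {M : Type u} [AddCommGroup M] [Module A M]
    (N : Submodule A M) : ShortComplex (ModuleCat.{u} A) where
  X₁ := ModuleCat.of A N
  X₂ := ModuleCat.of A M
  X₃ := ModuleCat.of A (M ⧸ N)
  f := ModuleCat.ofHom N.subtype
  g := ModuleCat.ofHom N.mkQ
  zero := by ext x; simp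

lemma sc_shortExact {A : Type u} [CommRing A] {M : Type u} [AddCommGroup M] [Module A M]
    (N : Submodule A M) : (sc N).ShortExact :=
  ModuleCat.shortComplex_shortExact _ (LinearMap.exact_subtype_mkQ N) N.injective_subtype
    N.mkQ_surjective

/-- The map of short exact sequences induced by `N' ≤ N`. -/
noncomputable def scMap {A : Type u} [CommRing A] {M : Type u} [AddCommGroup M] [Module A M]
    {N' N : Submodule A M} (h : N' ≤ N) : sc N' ⟶ sc N where
  τ₁ := ModuleCat.ofHom (Submodule.inclusion h)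
  τ₂ := 𝟙 _
  τ₃ := ModuleCat.ofHom (Submodule.mapQ N' N LinearMap.id h)
  comm₁₂ := by ext x; rfl
  comm₂₃ := by ext x; rfl

/-- `I^k • ⊤` inside `N = I^n • ⊤` is `I^(n+k) • ⊤`. -/
lemma mem_pow_smul_top_sub {A : Type u} [CommRing A] {M : Type u} [AddCommGroup M] [Module A M]
    (I : Ideal A) (n k : ℕ) (x : M) (hx : x ∈ (I ^ (n + k) • ⊤ : Submodule A M))
    (hx' : x ∈ (I ^ n • ⊤ : Submodule A M)) :
    (⟨x, hx'⟩ : ↥(I ^ n • ⊤ : Submodule A M)) ∈
      (I ^ k • ⊤ : Submodule A ↥(I ^ n • ⊤ : Submodule A M)) := by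
  have h1 : (I ^ (n + k) • ⊤ : Submodule A M) =
      Submodule.map (I ^ n • ⊤ : Submodule A M).subtype
        (I ^ k • ⊤ : Submodule A ↥(I ^ n • ⊤ : Submodule A M)) := by
    rw [Submodule.map_smul'', Submodule.map_top, Submodule.range_subtype, ← mul_smul, ← pow_add,
      add_comm]
  rw [h1] at hx
  obtain ⟨y, hy, hyx⟩ := hx
  have : y = ⟨x, hx'⟩ := Subtype.ext hyx
  rw [← this]
  exact hy

/-- Let A be a Noetherian ring, I an ideal, K a pseudo-coherent object of D(A) and a an integer. Assume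
that for every finite A-module M and every i ≥ a the module Ext^i_A(K, M) is I-power torsion. Then
for i ≥ a and M finite the inverse system (Ext^i_A(K, M/IⁿM))_n is essentially constant with value
Ext^i_A(K, M) (so that Ext^i_A(K, M) = lim Ext^i_A(K, M/IⁿM)): concretely, some comparison map
Ext^i(K, M) → Ext^i(K, M/I^mM) is injective and for every n there is m' ≥ n such that the image of
the transition map Ext^i(K, M/I^(m')M) → Ext^i(K, M/IⁿM) is contained in the image of Ext^i(K, M).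
Here Ext^i(K, X) = Hom_{D(A)}(K, X[i]). -/
theorem result (A : Type u) [CommRing A] [IsNoetherianRing A]
    (I : Ideal A) (K : Dual.D A) (hK : DRing.IsPseudoCoherent' A K) (a : ℤ)
    (htors : ∀ (M : Type u) [AddCommGroup M] [Module A M], Module.Finite A M → ∀ i : ℤ, a ≤ i →
      ∀ e : K ⟶ (Dual.inD A M)⟦i⟧, ∃ n : ℕ, ∀ x ∈ I ^ n, x • e = 0)
    (M : Type u) [AddCommGroup M] [Module A M] [Module.Finite A M] (i : ℤ) (hi : a ≤ i) :
    let Mq : ℕ → Submodule A M := fun n => I ^ n • ⊤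
    let c : ∀ n : ℕ, (K ⟶ (Dual.inD A M)⟦i⟧) → (K ⟶ (Dual.inD A (M ⧸ Mq n))⟦i⟧) :=
      fun n e => e ≫ ((DerivedCategory.singleFunctor (ModuleCat.{u} A) 0).map (ModuleCat.ofHom (Mq n).mkQ))⟦i⟧'
    let t : ∀ n m : ℕ, n ≤ m → (K ⟶ (Dual.inD A (M ⧸ Mq m))⟦i⟧) → (K ⟶ (Dual.inD A (M ⧸ Mq n))⟦i⟧) :=
      fun n m hnm e => e ≫ ((DerivedCategory.singleFunctor (ModuleCat.{u} A) 0).map (ModuleCat.ofHom
        (Submodule.mapQ (Mq m) (Mq n) (LinearMap.id : M →ₗ[A] M) (Submodule.smul_mono_left (Ideal.pow_le_pow_right hnm)))))⟦i⟧'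
    (∃ m : ℕ, Function.Injective (c m)) ∧
      ∀ n : ℕ, ∃ (m' : ℕ) (hnm : n ≤ m'), Set.range (t n m' hnm) ⊆ Set.range (c n) := by
  classical
  intro Mq c t
  have hfinsub : ∀ n : ℕ, Module.Finite A ↥(Mq n) := fun n => by
    have : IsNoetherian A M := isNoetherian_of_isNoetherianRing_of_finite A M
    infer_instance
  refine ⟨?_, ?_⟩
  · -- injectivity of some comparison map
    obtain ⟨c₀, hc₀⟩ := Groth.Agent.S7149.result A I K hK M i
    obtain ⟨t₀, ht₀⟩ := uniform_torsion A I K hK M i (htors M inferInstance i hi)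
    refine ⟨c₀ + t₀, ?_⟩
    have hzero : ∀ e : K ⟶ (Dual.inD A M)⟦i⟧, c (c₀ + t₀) e = 0 → e = 0 := by
      intro e he
      have hT := (sc_shortExact (Mq (c₀ + t₀))).singleTriangle_distinguished
      obtain ⟨y, hy⟩ := CoyonedaLES.exact₂ K _ hT i e he
      have hmem := hc₀ (c₀ + t₀) (Nat.le_add_right _ _) y
      rw [Nat.add_sub_cancel_left] at hmem
      have hmem' : e ∈ (I ^ t₀ • ⊤ : Submodule A (K ⟶ (Dual.inD A M)⟦i⟧)) := by
        rw [← hy]
        exact hmem
      have hbot : (I ^ t₀ • ⊤ : Submodule A (K ⟶ (Dual.inD A M)⟦i⟧)) ≤ ⊥ := by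
        rw [Submodule.smul_le]
        intro x hx e' _
        rw [Submodule.mem_bot]
        exact ht₀ x hx e'
      exact (Submodule.mem_bot A).1 (hbot hmem')
    intro e₁ e₂ h12
    have : c (c₀ + t₀) (e₁ - e₂) = 0 := by
      change (e₁ - e₂) ≫ _ = 0
      rw [Preadditive.sub_comp]
      exact sub_eq_zero.2 h12
    exact sub_eq_zero.1 (hzero _ this)
  · intro n
    -- apply the Artin–Rees statement and uniform torsion to `N = I^n M` in degree `i + 1`
    have := hfinsub n
    obtain ⟨c₁, hc₁⟩ := Groth.Agent.S7149.result A I K hK ↥(Mq n) (i + 1)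
    obtain ⟨t₁, ht₁⟩ := uniform_torsion A I K hK ↥(Mq n) (i + 1)
      (htors ↥(Mq n) inferInstance (i + 1) (by lia))
    set k := c₁ + t₁ with hk
    have hle : Mq (n + k) ≤ Mq n :=
      Submodule.smul_mono_left (Ideal.pow_le_pow_right (Nat.le_add_right n k))
    refine ⟨n + k, Nat.le_add_right n k, ?_⟩
    rintro _ ⟨e, rfl⟩
    have hTn := (sc_shortExact (Mq n)).singleTriangle_distinguished
    -- the morphism of triangles
    let φ := CategoryTheory.ShortComplex.ShortExact.singleTriangle.map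
      (sc_shortExact (Mq (n + k))) (sc_shortExact (Mq n)) (scMap hle)
    have hte : t n (n + k) (Nat.le_add_right n k) e = e ≫ φ.hom₃⟦i⟧' := rfl
    -- it suffices to show that the connecting map kills `t e`
    suffices hδ : CoyonedaLES.δ K (sc_shortExact (Mq n)).singleTriangle i (i + 1) rfl
        (t n (n + k) (Nat.le_add_right n k) e) = 0 by
      obtain ⟨y, hy⟩ := CoyonedaLES.exact₃ K _ hTn i (i + 1) rfl _ hδ
      exact ⟨y, hy⟩
    have hnat := CoyonedaLES.δ_naturality K _ _ φ i (i + 1) rfl e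
    rw [hte]
    refine hnat.trans ?_
    set d := CoyonedaLES.δ K (sc_shortExact (Mq (n + k))).singleTriangle i (i + 1) rfl e with hd
    -- factor the inclusion through `I^k • ⊤ ⊆ N`
    let jmap : ↥(Mq (n + k)) →ₗ[A] ↥(I ^ k • ⊤ : Submodule A ↥(Mq n)) :=
      { toFun := fun x => ⟨⟨x.1, hle x.2⟩, mem_pow_smul_top_sub I n k x.1 x.2 (hle x.2)⟩
        map_add' := fun x y => rfl
        map_smul' := fun r x => rfl }
    have hfac : φ.hom₁ = (DerivedCategory.singleFunctor (ModuleCat.{u} A) 0).map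
        (ModuleCat.ofHom jmap) ≫ (DerivedCategory.singleFunctor (ModuleCat.{u} A) 0).map
        (ModuleCat.ofHom (I ^ k • ⊤ : Submodule A ↥(Mq n)).subtype) := by
      rw [← Functor.map_comp]
      rfl
    have hfac' : φ.hom₁⟦i + 1⟧' =
        ((DerivedCategory.singleFunctor (ModuleCat.{u} A) 0).map (ModuleCat.ofHom jmap))⟦i + 1⟧' ≫
        ((DerivedCategory.singleFunctor (ModuleCat.{u} A) 0).map
          (ModuleCat.ofHom (I ^ k • ⊤ : Submodule A ↥(Mq n)).subtype))⟦i + 1⟧' := by
      rw [hfac]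
      exact Functor.map_comp _ _ _
    have hmem := hc₁ k (Nat.le_add_right _ _)
      (d ≫ ((DerivedCategory.singleFunctor (ModuleCat.{u} A) 0).map (ModuleCat.ofHom jmap))⟦i + 1⟧')
    have hk' : k - c₁ = t₁ := by omega
    rw [hk'] at hmem
    have hbot : (I ^ t₁ • ⊤ : Submodule A (K ⟶ (Dual.inD A ↥(Mq n))⟦i + 1⟧)) ≤ ⊥ := by
      rw [Submodule.smul_le]
      intro x hx e' _
      rw [Submodule.mem_bot]
      exact ht₁ x hx e'
    have hfinal := (Submodule.mem_bot A).1 (hbot hmem)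
    exact (congrArg (fun z => d ≫ z) hfac').trans ((Category.assoc _ _ _).symm.trans hfinal)

end Groth.Agent.S7164
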