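import Groth.Statements.S7168
import Groth.Agent.S2066
import Groth.Agent.S6935

set_option autoImplicit false
universe u
attribute [local instance] HasDerivedCategory.standard
open FlatMor

namespace Groth.Agent.S7168

open AlgebraicGeometry CategoryTheory

/-- a pseudo-coherent ring map is of finite presentation -/
lemma finitePresentation_of_isPseudoCoherentHom (A B : Type u) [CommRing A] [CommRing B]
    [Algebra A B] (h : MoreMor.IsPseudoCoherentHom A B) : Algebra.FinitePresentation A B := by
  obtain ⟨n, φ, hφ, hpc⟩ := h
  letI := φ.toRingHom.toAlgebra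
  have hpcAll := (Groth.Agent.S2066.result (Dual.inD (MvPolynomial (Fin n) A) B)).1.2 hpc
  have hfp : Module.FinitePresentation (MvPolynomial (Fin n) A) B :=
    (Groth.Agent.S6935.result (MvPolynomial (Fin n) A) B).2.1 (hpcAll (-1))
  have hker := Module.FinitePresentation.fg_ker
    (Algebra.linearMap (MvPolynomial (Fin n) A) B) hφ
  refine ⟨n, φ, hφ, ?_⟩
  have heq : (RingHom.ker φ.toRingHom : Ideal (MvPolynomial (Fin n) A)) =
      LinearMap.ker (Algebra.linearMap (MvPolynomial (Fin n) A) B) := by
    ext x
    rfl
  rw [heq]
  exact hker

open AlgebraicGeometry CategoryTheory Limits in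
/-- A pseudo-coherent morphism of schemes is locally of finite presentation. -/
theorem result {X S : Scheme.{u}} (f : X ⟶ S) (hf : MoreMor.IsPseudoCoherentMor f) :
    LocallyOfFinitePresentation f := by
  rw [locallyOfFinitePresentation_iff]
  intro V hV U hU e
  exact @finitePresentation_of_isPseudoCoherentHom _ _ _ _ (f.appLE V U e).hom.toAlgebra
    (hf U V hU hV e)

end Groth.Agent.S7168
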