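import Groth.Statements.S7169
import Mathlib.Tactic
import Groth.Agent.Lib.Helper43.PCMor
-- import your own Groth.Agent.* helpers here

set_option autoImplicit false
universe u
attribute [local instance] HasDerivedCategory.standard
open FlatMor

namespace Groth.Agent.S7169

open AlgebraicGeometry CategoryTheory Limits in
/-- If X and Y are pseudo-coherent over a base scheme S (via g : Y → S and f ≫ g), then any S-morphism f
: X → Y is pseudo-coherent. -/
theorem result {X Y S : Scheme.{u}} (f : X ⟶ Y) (g : Y ⟶ S)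
    (hX : MoreMor.IsPseudoCoherentMor (f ≫ g)) (hY : MoreMor.IsPseudoCoherentMor g) : MoreMor.IsPseudoCoherentMor f := by
  rw [← Groth.Agent.Lib.Helper43.PCMor.pcMor_iff,
    HasRingHomProperty.iff_exists_appLE (P := Groth.Agent.Lib.Helper43.PCMor.pcMor)
      Groth.Agent.Lib.Helper43.PCHomLocal.PCQ_stableUnderCompositionWithLocalizationAwaySource]
  intro x
  -- an affine neighbourhood `W` of `g (f x)` in `S`
  obtain ⟨W, hW, hxW, -⟩ := TopologicalSpace.Opens.isBasis_iff_nbhd.mp S.isBasis_affineOpens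
    (TopologicalSpace.Opens.mem_top (g (f x)))
  -- an affine neighbourhood `V` of `f x` in `g⁻¹ W`
  obtain ⟨V, hV, hxV, eVW⟩ := TopologicalSpace.Opens.isBasis_iff_nbhd.mp Y.isBasis_affineOpens
    (show f x ∈ g ⁻¹ᵁ W from hxW)
  -- an affine neighbourhood `U` of `x` in `f⁻¹ V`
  obtain ⟨U, hU, hxU, eUV⟩ := TopologicalSpace.Opens.isBasis_iff_nbhd.mp X.isBasis_affineOpens
    (show x ∈ f ⁻¹ᵁ V from hxV)
  refine ⟨⟨V, hV⟩, ⟨U, hU⟩, hxU, eUV, ?_⟩
  have h1 := hY V W hV hW eVW
  have h2 := hX U W hU hW (eUV.trans ((TopologicalSpace.Opens.map f.base).map (homOfLE eVW)).le)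
  have hcomp : (f.appLE V U eUV).hom.comp (g.appLE W V eVW).hom =
      ((f ≫ g).appLE W U
        (eUV.trans ((TopologicalSpace.Opens.map f.base).map (homOfLE eVW)).le)).hom := by
    rw [← Scheme.Hom.appLE_comp_appLE]
    rfl
  refine Groth.Agent.Lib.Helper43.PCHomLocal.PCQ_cancel (g.appLE W V eVW).hom _ h1 ?_
  rw [hcomp]
  exact h2

end Groth.Agent.S7169
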