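import Groth.Statements.S7173
import Mathlib.Tactic
import Groth.Agent.S7069
-- import your own Groth.Agent.* helpers here

set_option autoImplicit false
universe u
attribute [local instance] HasDerivedCategory.standard
open FlatMor

namespace Groth.Agent.S7173

open AlgebraicGeometry CategoryTheory Limits in
/-- A morphism locally of finite type to a regular scheme S (locally Noetherian with all local rings
regular) whose affine opens have finite Krull dimension is perfect. (The published statement carries
no dimension hypothesis; its proof is the ring statement for a finite type algebra over a regular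
ring of finite dimension, so finite Krull dimension of the affine opens of S is assumed here.) -/
theorem result {X S : Scheme.{u}} (f : X ⟶ S) [LocallyOfFiniteType f] [IsLocallyNoetherian S]
    (hreg : ∀ s : S, IsRegularLocalRing (S.presheaf.stalk s))
    (hdim : ∀ V : S.Opens, IsAffineOpen V → ringKrullDim Γ(S, V) < ⊤) :
    MoreMor.IsPerfectMor f := by
  intro U V hU hV e
  letI := (f.appLE V U e).hom.toAlgebra
  haveI : IsNoetherianRing Γ(S, V) := IsLocallyNoetherian.component_noetherian ⟨V, hV⟩
  have h1 : (f.appLE V U e).hom.FiniteType := f.finiteType_appLE hV hU e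
  haveI : Algebra.FiniteType Γ(S, V) Γ(X, U) :=
    (RingHom.finiteType_algebraMap (A := Γ(S, V)) (B := Γ(X, U))).1 h1
  haveI : IsRegularRing Γ(S, V) := by
    rw [isRegularRing_iff]
    intro p hp
    let y : PrimeSpectrum Γ(S, V) := ⟨p, hp⟩
    have hy : hV.fromSpec y ∈ V := by
      have h0 : hV.fromSpec y ∈ Set.range hV.fromSpec := ⟨y, rfl⟩
      rw [hV.range_fromSpec] at h0
      exact h0
    letI := TopCat.Presheaf.algebra_section_stalk S.presheaf ⟨hV.fromSpec y, hy⟩
    haveI : IsLocalization.AtPrime (S.presheaf.stalk (hV.fromSpec y)) p :=
      hV.isLocalization_stalk' y hy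
    haveI := hreg (hV.fromSpec y)
    exact IsRegularLocalRing.of_ringEquiv
      (IsLocalization.algEquiv p.primeCompl (S.presheaf.stalk (hV.fromSpec y))
        (Localization.AtPrime p)).toRingEquiv
  exact Groth.Agent.S7069.result Γ(S, V) Γ(X, U) (hdim V hV)

end Groth.Agent.S7173
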