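import Groth.Statements.S7177
import Mathlib
import Groth.Agent.Lib.Helper69.WEtFlatGen

set_option autoImplicit false
universe u
open FlatMor

namespace Groth.Agent.S7177

section aux
open AlgebraicGeometry CategoryTheory Limits
set_option linter.style.haveILetI false

/-- a flat diagonal passes to the local ring maps -/
lemma flat_diagonal_SpecMap_stalkMap {X Y : Scheme.{u}} (f : X ⟶ Y) [Flat (pullback.diagonal f)]
    (x : X) : Flat (pullback.diagonal (Spec.map (f.stalkMap x))) := by
  have hmono : MorphismProperty.monomorphisms Scheme.{u} ≤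
      (MorphismProperty.diagonal (@Flat : MorphismProperty Scheme.{u})).diagonal := by
    intro A B g hg
    haveI : Mono g := hg
    show Flat (pullback.diagonal (pullback.diagonal g))
    infer_instance
  haveI : (MorphismProperty.diagonal (@Flat : MorphismProperty Scheme.{u})).HasOfPostcompProperty
      (MorphismProperty.monomorphisms Scheme.{u}) :=
    MorphismProperty.hasOfPostcompProperty_iff_le_diagonal.2 hmono
  have e := Scheme.SpecMap_stalkMap_fromSpecStalk f (x := x)
  have h1 : (MorphismProperty.diagonal (@Flat : MorphismProperty Scheme.{u}))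
      (X.fromSpecStalk x ≫ f) := by
    refine MorphismProperty.comp_mem _ _ _ ?_ ?_
    · show Flat (pullback.diagonal (X.fromSpecStalk x))
      infer_instance
    · show Flat (pullback.diagonal f)
      infer_instance
  rw [← e] at h1
  exact MorphismProperty.of_postcomp (MorphismProperty.diagonal (@Flat : MorphismProperty Scheme.{u}))
    (W' := MorphismProperty.monomorphisms Scheme.{u})
    (Spec.map (f.stalkMap x)) (Y.fromSpecStalk (f x))
    (inferInstanceAs (Mono (Y.fromSpecStalk (f x)))) h1

lemma flat_lmul'_of_flat_diagonal_SpecMap {R S : CommRingCat.{u}} (φ : R ⟶ S)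
    (h : Flat (pullback.diagonal (Spec.map φ))) :
    (letI := φ.hom.toAlgebra
     (Algebra.TensorProduct.lmul' (S := ↑S) (↑R)).toRingHom.Flat) := by
  letI : Algebra R S := φ.hom.toAlgebra
  have e : Spec.map φ = Spec.map (CommRingCat.ofHom (algebraMap R S)) := rfl
  rw [e, diagonal_SpecMap, MorphismProperty.cancel_right_of_respectsIso (P := @Flat),
    Flat.SpecMap_iff] at h
  exact h

end aux

open AlgebraicGeometry CategoryTheory Limits in
/-- Let f : X → Y have flat diagonal and let F be an O_X-module flat over Y. Then F is flat as an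
O_X-module. -/
theorem result {X Y : Scheme.{u}} (f : X ⟶ Y) [Flat (pullback.diagonal f)] (F : X.Modules)
    (hF : FlatMod.IsFlatOver f F) : FlatMod.IsFlat F := by
  intro x
  have h1 := flat_lmul'_of_flat_diagonal_SpecMap _ (flat_diagonal_SpecMap_stalkMap f x)
  have h2 := hF x
  letI : Algebra (Y.presheaf.stalk (f.base x)) (X.presheaf.stalk x) := (f.stalkMap x).hom.toAlgebra
  letI := FlatMod.moduleStalkOver f F x
  haveI : IsScalarTower (Y.presheaf.stalk (f.base x)) (X.presheaf.stalk x) (F.presheaf.stalk x) :=
    IsScalarTower.of_algebraMap_smul fun r m => rfl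
  haveI : Module.Flat (Y.presheaf.stalk (f.base x)) (F.presheaf.stalk x) := h2
  exact Groth.Agent.Lib.Helper69.WEtFlatGen.flat_of_flat_lmul' h1 (F.presheaf.stalk x)

end Groth.Agent.S7177
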