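import Groth.Statements.S7178
import Groth.Agent.S1412

set_option autoImplicit false
universe u
open FlatMor

namespace Groth.Agent.S7178

section aux
open AlgebraicGeometry CategoryTheory Limits
set_option linter.style.haveILetI false



/-- weak étaleness of `Spec.map` only depends on the arrow up to isomorphism -/
lemma weaklyEtale_SpecMap_arrow_iso {R R' T T' : CommRingCat.{u}} {φ : R ⟶ R'} {ψ : T ⟶ T'}
    (e : Arrow.mk φ ≅ Arrow.mk ψ) : WeaklyEtale (Spec.map φ) ↔ WeaklyEtale (Spec.map ψ) := by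
  have hw : φ ≫ e.hom.right = e.hom.left ≫ ψ := (Arrow.w e.hom).symm
  haveI : IsIso e.hom.left := inferInstance
  haveI : IsIso e.hom.right := inferInstance
  have h1 : Spec.map e.hom.right ≫ Spec.map φ = Spec.map ψ ≫ Spec.map e.hom.left := by
    rw [← Spec.map_comp, ← Spec.map_comp, hw]
  have : WeaklyEtale (Spec.map φ) ↔ WeaklyEtale (Spec.map e.hom.right ≫ Spec.map φ) :=
    (MorphismProperty.cancel_left_of_respectsIso @WeaklyEtale _ _).symm
  rw [this, h1]
  exact MorphismProperty.cancel_right_of_respectsIso @WeaklyEtale _ _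

lemma weaklyEtale_resLE_iff {X S : Scheme.{u}} (f : X ⟶ S) (U : X.Opens) (V : S.Opens)
    (hU : IsAffineOpen U) (hV : IsAffineOpen V) (e : U ≤ f ⁻¹ᵁ V) :
    WeaklyEtale (f.resLE V U e) ↔ WeaklyEtale (Spec.map (f.appLE V U e)) := by
  haveI : IsAffine (U : Scheme) := hU
  haveI : IsAffine (V : Scheme) := hV
  rw [MorphismProperty.arrow_mk_iso_iff @WeaklyEtale (arrowIsoSpecΓOfIsAffine (f.resLE V U e))]
  exact weaklyEtale_SpecMap_arrow_iso (arrowResLEAppIso f V U e)

instance : MorphismProperty.RespectsRight @WeaklyEtale @IsOpenImmersion where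
  postcomp i hi f hf := by
    haveI : IsOpenImmersion i := hi
    haveI : WeaklyEtale f := hf
    show WeaklyEtale (f ≫ i)
    infer_instance



end aux

open AlgebraicGeometry CategoryTheory Limits in
/-- (1) ⇔ (2): f : X → S is weakly étale if and only if, whenever U ⊆ X and V ⊆ S are affine opens and f
maps U into V, the ring O_X(U) is a weakly étale O_S(V)-algebra (flat, with flat multiplication map
O_X(U) ⊗ O_X(U) → O_X(U) over O_S(V)). -/
theorem result {X S : Scheme.{u}} (f : X ⟶ S) :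
    WeaklyEtale f ↔ ∀ (U : X.Opens) (V : S.Opens) (_ : IsAffineOpen U) (_ : IsAffineOpen V) (hUV : U ≤ f ⁻¹ᵁ V),
      (letI := (f.appLE V U hUV).hom.toAlgebra
       Algebra.WeaklyEtale Γ(S, V) Γ(X, U)) := by
  constructor
  · intro h U V hU hV e
    have h1 := (weaklyEtale_resLE_iff f U V hU hV e).1 inferInstance
    obtain ⟨h2, h3⟩ := (Groth.Agent.S1412.weaklyEtale_SpecMap_iff _).1 h1
    letI := (f.appLE V U e).hom.toAlgebra
    exact ⟨h2, h3⟩
  · intro H
    rw [IsZariskiLocalAtSource.iff_exists_resLE (P := @WeaklyEtale)]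
    intro x
    obtain ⟨_, ⟨V, hV, rfl⟩, hxV, -⟩ :=
      S.isBasis_affineOpens.exists_subset_of_mem_open (Set.mem_univ (f x)) isOpen_univ
    obtain ⟨_, ⟨U, hU, rfl⟩, hxU, hUV⟩ :=
      X.isBasis_affineOpens.exists_subset_of_mem_open (show x ∈ (f ⁻¹ᵁ V : Set X) from hxV)
        (f ⁻¹ᵁ V).isOpen
    refine ⟨V, U, hxU, hUV, ?_⟩
    have h1 := H U V hU hV hUV
    letI := (f.appLE V U hUV).hom.toAlgebra
    exact (weaklyEtale_resLE_iff f U V hU hV hUV).2
      ((Groth.Agent.S1412.weaklyEtale_SpecMap_iff _).2 ⟨h1.flat, Algebra.WeaklyEtale.flat_lmul' _ _⟩)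

end Groth.Agent.S7178
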