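import Groth.Statements.S7179
import Groth.Agent.S1412
import Groth.Agent.Lib.Helper69.WEtReduced

set_option autoImplicit false
universe u
open FlatMor

namespace Groth.Agent.S7179

open AlgebraicGeometry CategoryTheory Limits in
/-- The source of a weakly étale morphism with reduced target is reduced. -/
theorem result {X Y : Scheme.{u}} (f : X ⟶ Y) [WeaklyEtale f] [IsReduced Y] : IsReduced X := by
  haveI : ∀ x : X, _root_.IsReduced (X.presheaf.stalk x) := fun x => by
    obtain ⟨hfl, hmul⟩ := (Groth.Agent.S1412.result f).1 inferInstance x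
    letI := (f.stalkMap x).hom.toAlgebra
    haveI : Module.Flat (Y.presheaf.stalk (f x)) (X.presheaf.stalk x) := hfl
    haveI : Algebra.WeaklyEtale (Y.presheaf.stalk (f x)) (X.presheaf.stalk x) := ⟨hfl, hmul⟩
    exact Groth.Agent.Lib.Helper69.WEtReduced.isReduced_of_weaklyEtale
      (Y.presheaf.stalk (f x)) (X.presheaf.stalk x)
  exact isReduced_of_isReduced_stalk X

end Groth.Agent.S7179
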