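import Groth.Statements.S7183
import Groth.Agent.Lib.Helper79.FerrandRel2
import Groth.Agent.Lib.Helper79.FerrandFiniteSet

set_option autoImplicit false
universe u
open FlatMor

namespace Groth.Agent.S7183

open AlgebraicGeometry CategoryTheory Limits in
/-- Let i : Z → X, j : Z → Y be closed immersions with pushout P, let X' → X and Y' → Y be morphisms
whose base changes to Z are identified (a scheme Z' cartesian over both), let P' be the pushout of
Z' → X' and Z' → Y' and h : P' → P the induced morphism. Then h is locally of finite type (resp.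
flat, resp. flat and locally of finite presentation, resp. smooth, resp. étale) if and only if X' →
X and Y' → Y both are. -/
theorem result {X Y Z P X' Y' Z' P' : Scheme.{u}}
    (i : Z ⟶ X) (j : Z ⟶ Y) [IsClosedImmersion i] [IsClosedImmersion j] (a : X ⟶ P) (b : Y ⟶ P) (hP : IsPushout i j a b)
    (f : X' ⟶ X) (g : Y' ⟶ Y) (i' : Z' ⟶ X') (j' : Z' ⟶ Y') (c : Z' ⟶ Z) (hX : IsPullback i' c f i) (hY : IsPullback j' c g j)
    (a' : X' ⟶ P') (b' : Y' ⟶ P') (hP' : IsPushout i' j' a' b') (h : P' ⟶ P) (ha : a' ≫ h = f ≫ a) (hb : b' ≫ h = g ≫ b) :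
    (LocallyOfFiniteType h ↔ LocallyOfFiniteType f ∧ LocallyOfFiniteType g) ∧
    (Flat h ↔ Flat f ∧ Flat g) ∧
    ((Flat h ∧ LocallyOfFinitePresentation h) ↔ (Flat f ∧ LocallyOfFinitePresentation f) ∧ (Flat g ∧ LocallyOfFinitePresentation g)) ∧
    (Smooth h ↔ Smooth f ∧ Smooth g) ∧
    (Etale h ↔ Etale f ∧ Etale g) := by
  have hi' : IsClosedImmersion i' :=
    MorphismProperty.of_isPullback (P := @IsClosedImmersion) hX.flip inferInstance
  have hj' : IsClosedImmersion j' :=
    MorphismProperty.of_isPullback (P := @IsClosedImmersion) hY.flip inferInstance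
  have hF : Groth.Agent.Lib.Helper79.Ferrand.Cond i j :=
    Groth.Agent.Lib.Helper79.Ferrand.cond_of_isClosedImmersion
  have hF' : Groth.Agent.Lib.Helper79.Ferrand.Cond i' j' :=
    Groth.Agent.Lib.Helper79.Ferrand.cond_of_isClosedImmersion
  have hcp := fun τ τ' hU hV =>
    Groth.Agent.Lib.Helper79.Ferrand.chart_props (i := i) (j := j) (i' := i') (j' := j')
      hX hY τ τ' hU hV
  refine ⟨?_, ?_, ?_, ?_, ?_⟩
  · refine Groth.Agent.Lib.Helper79.Ferrand.rel_iff hF hP hF' hP' hX hY h ha hb
      @LocallyOfFiniteType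
      (fun u v _ hu => MorphismProperty.comp_mem _ u v hu inferInstance)
      (fun u v _ huv => MorphismProperty.of_postcomp (W := @LocallyOfFiniteType)
        (W' := MorphismProperty.monomorphisms Scheme) u v (inferInstanceAs (Mono v)) huv) ?_
    intro τ τ' hU hV
    simp only [HasRingHomProperty.Spec_iff (P := @LocallyOfFiniteType), CommRingCat.hom_ofHom]
    exact (hcp τ τ' hU hV).1
  · refine Groth.Agent.Lib.Helper79.Ferrand.rel_iff hF hP hF' hP' hX hY h ha hb
      @Flat
      (fun u v _ hu => MorphismProperty.comp_mem _ u v hu inferInstance)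
      (fun u v _ huv => MorphismProperty.of_postcomp (W := @Flat)
        (W' := MorphismProperty.monomorphisms Scheme) u v (inferInstanceAs (Mono v)) huv) ?_
    intro τ τ' hU hV
    simp only [HasRingHomProperty.Spec_iff (P := @Flat), CommRingCat.hom_ofHom]
    exact (hcp τ τ' hU hV).2.1
  · haveI := HasRingHomProperty.inf (P := @Flat) (P' := @LocallyOfFinitePresentation)
    have key := Groth.Agent.Lib.Helper79.Ferrand.rel_iff hF hP hF' hP' hX hY h ha hb
      (@Flat ⊓ @LocallyOfFinitePresentation)
      (fun u v _ hu => ⟨MorphismProperty.comp_mem _ u v hu.1 inferInstance,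
        MorphismProperty.comp_mem _ u v hu.2 inferInstance⟩)
      (fun u v _ huv => ⟨MorphismProperty.of_postcomp (W := @Flat)
        (W' := MorphismProperty.monomorphisms Scheme) u v (inferInstanceAs (Mono v)) huv.1,
        MorphismProperty.of_postcomp (W := @LocallyOfFinitePresentation)
        (W' := MorphismProperty.monomorphisms Scheme) u v (inferInstanceAs (Mono v)) huv.2⟩) ?_
    · exact key
    intro τ τ' hU hV
    change (Flat _ ∧ LocallyOfFinitePresentation _) ↔
      (Flat _ ∧ LocallyOfFinitePresentation _) ∧ (Flat _ ∧ LocallyOfFinitePresentation _)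
    simp only [HasRingHomProperty.Spec_iff (P := @Flat),
      HasRingHomProperty.Spec_iff (P := @LocallyOfFinitePresentation), CommRingCat.hom_ofHom]
    exact (hcp τ τ' hU hV).2.2.1
  · refine Groth.Agent.Lib.Helper79.Ferrand.rel_iff hF hP hF' hP' hX hY h ha hb
      @Smooth
      (fun u v _ hu => MorphismProperty.comp_mem _ u v hu inferInstance)
      (fun u v _ huv => MorphismProperty.of_postcomp (W := @Smooth)
        (W' := MorphismProperty.monomorphisms Scheme) u v (inferInstanceAs (Mono v)) huv) ?_
    intro τ τ' hU hV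
    simp only [HasRingHomProperty.Spec_iff (P := @Smooth), CommRingCat.hom_ofHom]
    exact (hcp τ τ' hU hV).2.2.2.1
  · refine Groth.Agent.Lib.Helper79.Ferrand.rel_iff hF hP hF' hP' hX hY h ha hb
      @Etale
      (fun u v _ hu => MorphismProperty.comp_mem _ u v hu inferInstance)
      (fun u v _ huv => MorphismProperty.of_postcomp (W := @Etale)
        (W' := MorphismProperty.monomorphisms Scheme) u v (inferInstanceAs (Mono v)) huv) ?_
    intro τ τ' hU hV
    simp only [HasRingHomProperty.Spec_iff (P := @Etale), CommRingCat.hom_ofHom]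
    exact (hcp τ τ' hU hV).2.2.2.2

end Groth.Agent.S7183
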