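import Groth.Statements.S7184
import Groth.Agent.Lib.Helper35.PbRel

set_option autoImplicit false
universe u
open FlatMor

namespace Groth.Agent.S7184

open AlgebraicGeometry CategoryTheory Limits in
/-- If f : X → Y is affine or quasi-affine and Y has an ample family of invertible modules, then X has
an ample family of invertible modules. -/
theorem result {X Y : Scheme.{u}} (f : X ⟶ Y) (hf : IsAffineHom f ∨ Mor2.IsQuasiAffine f)
    (hY : MoreMor.HasAmpleFamily Y) : MoreMor.HasAmpleFamily X := by
  classical
  obtain ⟨hc, hpts⟩ := hY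
  haveI := hc
  rcases hf with hf | hf
  · haveI := hf
    haveI : CompactSpace X := QuasiCompact.compactSpace_of_compactSpace f
    refine ⟨inferInstance, fun x => ?_⟩
    obtain ⟨L, n, s, hinv, hn, hx, haff⟩ := hpts (f x)
    obtain ⟨s', hs'⟩ := Groth.Agent.Lib.Helper35.PbInv.exists_pullback_section f hinv n s
    refine ⟨(Scheme.Modules.pullback f).obj L, n, s',
      Groth.Agent.Lib.Helper35.PbInv.isInvertible_pullback f hinv, hn, ?_, ?_⟩
    · rw [hs']; exact hx
    · rw [hs']; exact haff.preimage f
  · haveI := hf.1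
    haveI : CompactSpace X := QuasiCompact.compactSpace_of_compactSpace f
    haveI : QuasiSeparatedSpace Y := by
      apply Groth.Agent.Lib.Helper35.AffDiag.quasiSeparatedSpace_of_cover
      intro y
      obtain ⟨L, n, s, hinv, hn, hy, haff⟩ := hpts y
      exact ⟨_, hy, haff, Groth.Agent.Lib.Helper35.GenLocus.isAffineHom_genLocus_ι _
        (Groth.Agent.Lib.Helper35.Gen.isInvertible_tensorPow hinv n) s⟩
    haveI : QuasiSeparated f := Groth.Agent.Lib.Helper35.PbInv.quasiSeparated_of_isQuasiAffine f hf.2
    haveI : QuasiSeparatedSpace X := quasiSeparatedSpace_of_quasiSeparated f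
    refine ⟨inferInstance, fun x => ?_⟩
    obtain ⟨L, n, s, hinv, hn, hx, haff⟩ := hpts (f x)
    have hinv' := Groth.Agent.Lib.Helper35.PbInv.isInvertible_pullback f hinv
    obtain ⟨s', hs'⟩ := Groth.Agent.Lib.Helper35.PbInv.exists_pullback_section f hinv n s
    haveI : (CohB1.genLocus _ s' : Scheme.{u}).IsQuasiAffine := by
      rw [hs']
      exact hf.2 _ haff
    have hx' : x ∈ CohB1.genLocus _ s' := by rw [hs']; exact hx
    obtain ⟨a, hxa, haaff⟩ :=
      Groth.Agent.Lib.Helper35.PbInv.exists_affine_basicOpen_of_isQuasiAffine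
        (CohB1.genLocus _ s') x hx'
    obtain ⟨k, s'', hs''⟩ :=
      Groth.Agent.Lib.Helper35.Ample.exists_section_genLocus_eq_basicOpen hinv' n s' a
    refine ⟨(Scheme.Modules.pullback f).obj L, n * (k + 1), s'', hinv',
      Nat.mul_pos (by omega) (Nat.succ_pos k), ?_, ?_⟩
    · rw [hs'']; exact hxa
    · rw [hs'']; exact haaff

end Groth.Agent.S7184
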