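import Groth.Statements.S7191
import Mathlib
import Groth.Agent.S15543
import Groth.Agent.Lib.Helper50.LimBC
import Groth.Agent.Lib.Helper46.CDInd
import Groth.Agent.Lib.Helper46.CDStage
import Groth.Agent.Lib.Helper46.PullbackStage
import Groth.Agent.Lib.Helper46.ProConsClosure

set_option autoImplicit false
universe u
open CategoryTheory AlgebraicGeometry
open FlatMor

namespace Groth.Agent.S7191

set_option backward.isDefEq.respectTransparency false in
/-- Let S = lim S_i be a cofiltered limit of schemes with affine transition morphisms, f₀ : X₀ → Y₀ a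
morphism over some S_{i₀} with Y₀ quasi-compact and quasi-separated and f₀ locally of finite
presentation, and f : X → Y its base change to S. If f is completely decomposed (every point of Y is
the image of a point of X with the same residue field), then some base change f_i : X_i → Y_i of f₀
to an S_i, i → i₀, is completely decomposed. -/
theorem result {I : Type u} [SmallCategory I] [IsCofiltered I]
    (D : I ⥤ Scheme.{u}) (c : Limits.Cone D) (hc : Limits.IsLimit c)
    [∀ (i j : I) (a : i ⟶ j), IsAffineHom (D.map a)]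
    (i0 : I) {X0 Y0 X Y : Scheme.{u}} (f0 : X0 ⟶ Y0) (q0 : Y0 ⟶ D.obj i0) [CompactSpace ↥Y0] [QuasiSeparatedSpace ↥Y0]
    [LocallyOfFinitePresentation f0]
    (f : X ⟶ Y) (q : Y ⟶ c.pt) (pY : Y ⟶ Y0) (pX : X ⟶ X0)
    (hY : IsPullback pY q q0 (c.π.app i0)) (hX : IsPullback pX f f0 pY)
    (hcd : ∀ y : Y, ∃ x : X, f x = y ∧ Function.Bijective (f.residueFieldMap x)) :
    ∃ (i : I) (a : i ⟶ i0) (Xi Yi : Scheme.{u}) (fi : Xi ⟶ Yi) (qi : Yi ⟶ D.obj i) (pYi : Yi ⟶ Y0) (pXi : Xi ⟶ X0),
      IsPullback pYi qi q0 (D.map a) ∧ IsPullback pXi fi f0 pYi ∧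
      ∀ y : Yi, ∃ x : Xi, fi x = y ∧ Function.Bijective (fi.residueFieldMap x) := by
  classical
  open Groth.Agent.Lib.Helper46.CD Groth.Agent.Lib.Helper46 Groth.Agent.Lib.Helper50 Limits in
  -- reindex over `i0`
  let J := Over i0
  let D' : J ⥤ Scheme.{u} := Over.forget i0 ⋙ D
  let c' : Cone D' := c.whisker (Over.forget i0)
  have hc' : IsLimit c' := (Functor.Initial.isLimitWhiskerEquiv (Over.forget i0) c).symm hc
  haveI : ∀ (k l : J) (φ : k ⟶ l), IsAffineHom (D'.map φ) := fun k l φ ↦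
    inferInstanceAs (IsAffineHom (D.map φ.left))
  let β' : ∀ j : J, D'.obj j ⟶ D.obj i0 := fun j => D.map j.hom
  have hβ' : ∀ {j k : J} (φ : j ⟶ k), D'.map φ ≫ β' k = β' j := by
    intro j k φ
    change D.map φ.left ≫ D.map k.hom = D.map j.hom
    rw [← D.map_comp, Over.w]
  have hb : ∀ j : J, c'.π.app j ≫ β' j = c.π.app i0 := fun j => c.w j.hom
  -- the diagram of the `Y_j`
  let DY : J ⥤ Scheme.{u} := bcDiagram D' β' hβ' q0
  let cY : Cone DY := bcCone D' β' hβ' q0 c' (c.π.app i0) hb pY q hY.w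
  haveI : IsConnected J := IsCofiltered.isConnected J
  have hcY : IsLimit cY := isLimitBcCone D' β' hβ' q0 c' (c.π.app i0) hb pY q hc' hY
  let βY : ∀ j : J, DY.obj j ⟶ Y0 := fun j => pullback.fst q0 (D.map j.hom)
  have hβY : ∀ {j k : J} (φ : j ⟶ k), DY.map φ ≫ βY k = βY j := fun φ =>
    bcDiagram_map_fst D' β' hβ' q0 φ
  have hqY : ∀ j : J, cY.π.app j ≫ βY j = pY := fun j =>
    bcConeπ_fst D' β' q0 c' (c.π.app i0) hb pY q hY.w j
  haveI : ∀ j : J, IsAffineHom (βY j) := fun j =>
    MorphismProperty.pullback_fst (P := @IsAffineHom) _ _ inferInstance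
  haveI : ∀ j : J, CompactSpace (DY.obj j) := fun j =>
    QuasiCompact.compactSpace_of_compactSpace (βY j)
  -- the morphisms `f_j`
  let E : ∀ j : J, Set (DY.obj j) := fun j => cdSet (pullback.snd f0 (βY j))
  have hmonoE : ∀ {k j : J} (φ : k ⟶ j), (DY.map φ).base ⁻¹' E j ⊆ E k := by
    intro k j φ x' hx'
    exact mem_cdSet_of_isPullback (isPullback_stage f0 (βY j) (DY.map φ) (βY k) (hβY φ)) hx'
  have hEind : ∀ j : J, ProCons.IsIndConstructible (E j) := fun j => isIndConstructible_cdSet _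
  -- every point of `Y` is eventually in `E j`
  have hC : ∀ y : Y, ∃ j : J, (cY.π.app j).base y ∈ E j := by
    intro y
    obtain ⟨σ, hσ⟩ := exists_section_of_mem_cdSet f (hcd y : y ∈ cdSet f)
    obtain ⟨j, τj, hτj⟩ := exists_stage_section DY cY hcY f0 βY pY hqY y (σ ≫ pX) (by
      rw [Category.assoc, hX.w, ← Category.assoc, hσ]; rfl)
    refine ⟨j, ?_⟩
    exact mem_cdSet_of_section_residueField _ _ (pullback.lift τj _ hτj) (pullback.lift_snd _ _ _)
  -- compactness of `Y`
  haveI : IsAffineHom (c.π.app i0) := isAffineHom_π_app D c hc i0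
  haveI : IsAffineHom pY := MorphismProperty.of_isPullback (P := @IsAffineHom) hY.flip inferInstance
  haveI : CompactSpace Y := QuasiCompact.compactSpace_of_compactSpace pY
  obtain ⟨F, hF⟩ := exists_finset_iUnion_eq_univ (X := Y)
    (fun j : J => (cY.π.app j).base ⁻¹' E j)
    (fun j => Groth.Agent.S15543.result (cY.π.app j) (E j) (hEind j))
    (Set.eq_univ_of_forall fun y => Set.mem_iUnion.2 (hC y))
  obtain ⟨k, hk⟩ := IsCofiltered.inf_objs_exists (F : Finset J)
  have hk' : (cY.π.app k).base ⁻¹' Set.univ ⊆ (cY.π.app k).base ⁻¹' E k := by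
    intro y _
    have : y ∈ ⋃ j ∈ F, (cY.π.app j).base ⁻¹' E j := hF ▸ Set.mem_univ y
    simp only [Set.mem_iUnion] at this
    obtain ⟨j, hjF, hyj⟩ := this
    obtain ⟨φ⟩ := hk hjF
    apply hmonoE φ
    have h1 : (DY.map φ).base ((cY.π.app k).base y) = (cY.π.app j).base y := by
      rw [← Scheme.Hom.comp_apply, cY.w φ]; rfl
    change (DY.map φ).base ((cY.π.app k).base y) ∈ E j
    rw [h1]
    exact hyj
  obtain ⟨l, φ, hl⟩ := exists_stage_preimage_subset DY cY hcY k
    (Groth.Agent.Lib.Helper36.isProConstructible_of_isLocallyConstructible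
      Topology.IsLocallyConstructible.univ) (hEind k) hk'
  refine ⟨l.left, l.hom, pullback f0 (βY l), DY.obj l, pullback.snd f0 (βY l),
    pullback.snd q0 (D.map l.hom), βY l, pullback.fst f0 (βY l),
    IsPullback.of_hasPullback _ _, IsPullback.of_hasPullback _ _, fun y => ?_⟩
  exact hmonoE φ (hl (Set.mem_univ _))

end Groth.Agent.S7191
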