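import Groth.Statements.S7199
import Mathlib
import Groth.Agent.Lib.Helper73.DimFT.Catenary

set_option autoImplicit false
universe u
open FlatMor

namespace Groth.Agent.S7199

open MvPolynomial

set_option linter.style.haveILetI false
set_option linter.unusedSectionVars false


theorem step1 {k A : Type u} [Field k] [CommRing A] [IsDomain A] [Algebra k A]
    [Algebra.FiniteType k A] (a b : A) (p : Ideal A)
    (hp : p ∈ (Ideal.span {a, b}).minimalPrimes)
    (hdim : ringKrullDim (A ⧸ p) + 2 = ringKrullDim A) :
    AlgebraicIndependent k ![a, b] := by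
  classical
  haveI hpp : p.IsPrime := hp.1.1
  haveI : IsNoetherianRing A := Algebra.FiniteType.isNoetherianRing k A
  have hht := Groth.Agent.Lib.Helper73.height_add_ringKrullDim_quotient k p
  obtain ⟨d, hd⟩ := Groth.Agent.Lib.Helper73.exists_nat_ringKrullDim_eq k (A ⧸ p)
  by_contra hdep
  rw [algebraicIndependent_iff_injective_aeval] at hdep
  let R := MvPolynomial (Fin 2) k
  let φ : R →ₐ[k] A := MvPolynomial.aeval ![a, b]
  obtain ⟨P, hP0, hP⟩ : ∃ P : R, P ≠ 0 ∧ φ P = 0 := by
    rw [injective_iff_map_eq_zero] at hdep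
    push Not at hdep
    obtain ⟨P, h1, h2⟩ := hdep
    exact ⟨P, h2, h1⟩
  let B : Subalgebra k A := φ.range
  have hsurj : Function.Surjective φ.rangeRestrict := φ.rangeRestrict_surjective
  haveI : IsNoetherianRing B :=
    isNoetherianRing_of_surjective R B φ.rangeRestrict.toRingHom hsurj
  have hdimB : ringKrullDim B + 1 ≤ 2 := by
    have h1 : ringKrullDim (R ⧸ Ideal.span {P}) + 1 ≤ ringKrullDim R :=
      ringKrullDim_quotient_succ_le_of_nonZeroDivisor (mem_nonZeroDivisors_of_ne_zero hP0)
    have h2 : ringKrullDim R = 2 := by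
      rw [MvPolynomial.ringKrullDim_of_isNoetherianRing, ringKrullDim_eq_zero_of_field]
      simp
    let f : R ⧸ Ideal.span {P} →+* B := Ideal.Quotient.lift _ φ.rangeRestrict.toRingHom (by
      intro x hx
      obtain ⟨y, rfl⟩ := Ideal.mem_span_singleton'.mp hx
      apply Subtype.ext
      change φ (y * P) = 0
      rw [map_mul, hP, mul_zero])
    have hf : Function.Surjective f :=
      Ideal.Quotient.lift_surjective_of_surjective _ _ hsurj
    have h3 : ringKrullDim B ≤ ringKrullDim (R ⧸ Ideal.span {P}) :=
      ringKrullDim_le_of_surjective f hf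
    rw [h2] at h1
    exact (add_le_add_left h3 1).trans h1
  -- the contracted prime
  let m : Ideal B := p.comap (algebraMap B A)
  haveI hmp : m.IsPrime := Ideal.comap_isPrime _ _
  haveI : p.LiesOver m := ⟨rfl⟩
  have hle := Ideal.height_le_height_add_of_liesOver m p
  have hm : m.height ≤ 1 := by
    have h1 : (m.height : WithBot ℕ∞) ≤ ringKrullDim B :=
      Ideal.height_le_ringKrullDim_of_ne_top hmp.ne_top
    have h2 : (m.height : WithBot ℕ∞) + 1 ≤ 2 := (add_le_add_left h1 1).trans hdimB
    have h3 : m.height + 1 ≤ 1 + 1 := by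
      have : ((m.height + 1 : ℕ∞) : WithBot ℕ∞) ≤ ((2 : ℕ∞) : WithBot ℕ∞) := by
        push_cast
        exact h2
      have h4 := WithBot.coe_le_coe.mp this
      rwa [show (2 : ℕ∞) = 1 + 1 by norm_num] at h4
    exact (ENat.add_le_add_iff_right (by simp)).mp h3
  have haB : a ∈ B := ⟨X 0, by
    change aeval ![a, b] (X 0) = a
    rw [aeval_X]
    rfl⟩
  have hbB : b ∈ B := ⟨X 1, by
    change aeval ![a, b] (X 1) = b
    rw [aeval_X]
    rfl⟩
  have hap : a ∈ p := hp.1.2 (Ideal.subset_span (by simp))
  have hbp : b ∈ p := hp.1.2 (Ideal.subset_span (by simp))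
  have hI : Ideal.span {a, b} ≤ m.map (algebraMap B A) := by
    rw [Ideal.span_le]
    rintro x hx
    rcases hx with rfl | rfl
    · exact Ideal.mem_map_of_mem (algebraMap B A) (show (⟨x, haB⟩ : B) ∈ m from hap)
    · exact Ideal.mem_map_of_mem (algebraMap B A) (show (⟨x, hbB⟩ : B) ∈ m from hbp)
  have hJp : m.map (algebraMap B A) ≤ p := Ideal.map_comap_le
  have hpmin : p ∈ (m.map (algebraMap B A)).minimalPrimes :=
    ⟨⟨hpp, hJp⟩, fun q hq hqp => hp.2 ⟨hq.1, hI.trans hq.2⟩ hqp⟩
  have hzero : (p.map (Ideal.Quotient.mk (m.map (algebraMap B A)))).height = 0 := by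
    rw [Ideal.minimalPrimes_eq_comap] at hpmin
    obtain ⟨Q, hQ, hQp⟩ := hpmin
    have hmap : p.map (Ideal.Quotient.mk (m.map (algebraMap B A))) = Q := by
      rw [← hQp, Ideal.map_comap_of_surjective _ Ideal.Quotient.mk_surjective]
    rw [hmap]
    haveI : Q.IsPrime := hQ.1.1
    exact Ideal.height_eq_zero_iff.mpr hQ
  rw [hzero, add_zero] at hle
  have hp1 : p.height ≤ 1 := hle.trans hm
  -- but `ht p = 2`
  rw [hd] at hht hdim
  rw [← hdim] at hht
  have h5 : ((p.height + d : ℕ∞) : WithBot ℕ∞) = ((d + 2 : ℕ∞) : WithBot ℕ∞) := by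
    push_cast
    exact hht
  have h6 : p.height + d = d + 2 := WithBot.coe_injective h5
  have h7 : p.height = 2 := by
    rw [add_comm] at h6
    exact (ENat.add_right_injective_of_ne_top (ENat.coe_ne_top d)) h6
  rw [h7] at hp1
  norm_num at hp1



/-- Field-theoretic core: if `b, u ∈ K` are algebraically independent over `k`, then in
`K[X_i]` the family `X_i`, `Σ a_i X_i`, `u` is algebraically independent over `k` whenever
some coefficient `a_j` equals `b`. -/
theorem step2 {k K : Type u} [Field k] [Field K] [Algebra k K] {σ : Type} [Fintype σ]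
    [DecidableEq σ] (a : σ → K) (j : σ) (u : K)
    (hind : AlgebraicIndependent k ![a j, u]) :
    AlgebraicIndependent k
      (Sum.elim (fun i : σ => (X i : MvPolynomial σ K))
        ![∑ i, C (a i) * X i, C u]) := by
  classical
  set S := MvPolynomial σ K
  have hu0 : u ≠ 0 := hind.ne_zero 1
  have hu1 : u ≠ 1 := by
    intro h
    apply hind.transcendental 1
    change IsAlgebraic k u
    rw [h]
    exact isAlgebraic_one
  -- the big independent family
  let w : σ ⊕ Fin 2 → S := Sum.elim (fun i : σ => (X i : S)) ![C (a j), C u]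
  have hw : AlgebraicIndependent k w := by
    have h1 := AlgebraicIndependent.sumElim_comp (A := S) hind
      (MvPolynomial.algebraicIndependent_X σ K)
    convert h1 using 1
    ext x
    rcases x with i | i
    · rfl
    · fin_cases i <;> rfl
  let t : σ ⊕ Fin 2 → S := Sum.elim (fun i : σ => (X i : S)) ![∑ i, C (a i) * X i, C u]
  change AlgebraicIndependent k t
  have htw : ∀ x : σ ⊕ Fin 2, x ≠ Sum.inr 0 → t x = w x := by
    intro x hx
    rcases x with i | i
    · rfl
    · fin_cases i
      · exact absurd rfl hx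
      · rfl
  rw [AlgebraicIndependent.iff_transcendental_adjoin_image (Sum.inr 0)] at hw ⊢
  obtain ⟨hw1, hw2⟩ := hw
  refine ⟨?_, ?_⟩
  · convert hw1 using 1
    funext x
    exact htw x.1 x.2
  have himg : t '' {Sum.inr 0}ᶜ = w '' {Sum.inr 0}ᶜ := Set.image_congr fun x hx => htw x hx
  rw [himg]
  set Z := Algebra.adjoin k (w '' {Sum.inr 0}ᶜ) with hZ
  change Transcendental Z (C (a j)) at hw2
  change Transcendental Z (∑ i, C (a i) * X i)
  have hXZ : ∀ i : σ, (X i : S) ∈ Z := fun i =>
    Algebra.subset_adjoin ⟨Sum.inl i, by simp, rfl⟩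
  have hCZ : (C u : S) ∈ Z := Algebra.subset_adjoin ⟨Sum.inr 1, by simp, rfl⟩
  -- the automorphism
  let φ : S →ₐ[K] S := aeval (fun i => if i = j then C u * X j else X i)
  let ψ : S →ₐ[K] S := aeval (fun i => if i = j then C u⁻¹ * X j else X i)
  have hψφ : ψ.comp φ = AlgHom.id K S := by
    apply MvPolynomial.algHom_ext
    intro i
    change ψ (φ (X i)) = X i
    have h1 : φ (X i) = if i = j then C u * X j else X i := aeval_X _ _
    have h2 : ψ (X j) = C u⁻¹ * X j := by
      have : ψ (X j) = if j = j then C u⁻¹ * X j else X j := aeval_X _ _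
      rwa [if_pos rfl] at this
    have h3 : ψ (C u) = C u := by
      have : ψ (C u) = algebraMap K S u := aeval_C _ _
      rwa [MvPolynomial.algebraMap_eq] at this
    rw [h1]
    by_cases hi : i = j
    · subst hi
      rw [if_pos rfl, map_mul, h2, h3, ← mul_assoc, ← C_mul, mul_inv_cancel₀ hu0, C_1, one_mul]
    · rw [if_neg hi]
      have : ψ (X i) = if i = j then C u⁻¹ * X j else X i := aeval_X _ _
      rwa [if_neg hi] at this
  have hφinj : Function.Injective φ := by
    intro x y hxy
    have := congrArg ψ hxy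
    rwa [← AlgHom.comp_apply, ← AlgHom.comp_apply, hψφ] at this
  have hφZ : ∀ z ∈ Z, φ z ∈ Z := by
    intro z hz
    have hle : Z.map (φ.restrictScalars k) ≤ Z := by
      rw [hZ, AlgHom.map_adjoin, Algebra.adjoin_le_iff]
      rintro _ ⟨_, ⟨x, hx, rfl⟩, rfl⟩
      rcases x with i | i
      · change φ (X i) ∈ Z
        have h1 : φ (X i) = if i = j then C u * X j else X i := aeval_X _ _
        rw [h1]
        split_ifs
        · exact Z.mul_mem hCZ (hXZ j)
        · exact hXZ i
      · fin_cases i
        · exact absurd rfl hx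
        · change φ (C u) ∈ Z
          have h3 : φ (C u) = algebraMap K S u := aeval_C _ _
          rw [h3, MvPolynomial.algebraMap_eq]
          exact hCZ
    exact hle ⟨z, hz, rfl⟩
  intro halg
  apply hw2
  obtain ⟨p, hp0, hp⟩ := halg
  let φZ : Z →+* Z := RingHom.codRestrict (φ.toRingHom.comp (algebraMap Z S)) Z
    (fun z => hφZ z.1 z.2)
  have hφZinj : Function.Injective φZ := by
    intro x y hxy
    apply Subtype.ext
    apply hφinj
    exact congrArg Subtype.val hxy
  have halg2 : IsAlgebraic Z (φ (∑ i, C (a i) * X i)) := by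
    refine ⟨p.map φZ, (Polynomial.map_ne_zero_iff hφZinj).mpr hp0, ?_⟩
    rw [Polynomial.aeval_def, Polynomial.eval₂_map]
    have hcomp : (algebraMap Z S).comp φZ = φ.toRingHom.comp (algebraMap Z S) := by
      ext z
      rfl
    rw [hcomp]
    change Polynomial.eval₂ ((φ : S →+* S).comp (algebraMap Z S))
      ((φ : S →+* S) (∑ i, C (a i) * X i)) p = 0
    rw [← Polynomial.hom_eval₂, ← Polynomial.aeval_def, hp, map_zero]
  have halg3 : IsAlgebraic Z (φ (∑ i, C (a i) * X i) - ∑ i, C (a i) * X i) :=
    halg2.sub ⟨p, hp0, hp⟩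
  have hdiff : φ (∑ i, C (a i) * X i) - ∑ i, C (a i) * X i = ((C u - 1) * X j) * C (a j) := by
    have hφC : ∀ c : K, φ (C c) = C c := fun c => by
      have h3 : φ (C c) = algebraMap K S c := aeval_C _ _
      rw [h3, MvPolynomial.algebraMap_eq]
    have hφX : ∀ i, φ (X i) = if i = j then C u * X j else X i := fun i => aeval_X _ _
    rw [map_sum, ← Finset.sum_sub_distrib]
    rw [Finset.sum_eq_single j]
    · rw [map_mul, hφC, hφX, if_pos rfl]
      ring
    · intro i _ hi
      rw [map_mul, hφC, hφX, if_neg hi, sub_self]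
    · intro h
      exact absurd (Finset.mem_univ j) h
  rw [hdiff] at halg3
  have hyZ : ((C u - 1) * X j : S) ∈ Z := Z.mul_mem (Z.sub_mem hCZ Z.one_mem) (hXZ j)
  have hy0 : ((C u - 1) * X j : S) ≠ 0 := by
    apply mul_ne_zero
    · intro h
      apply hu1
      have h2 : (C u : S) = C 1 := by rw [C_1]; exact sub_eq_zero.mp h
      exact C_injective σ K h2
    · exact X_ne_zero j
  exact IsAlgebraic.of_mul (mem_nonZeroDivisors_of_ne_zero hy0)
    (isAlgebraic_algebraMap (⟨_, hyZ⟩ : Z)) halg3

/-- Take a field k, an integral domain A that is a finitely generated k-algebra, n ≥ 2 and g_1, …, g_n ∈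
A, and suppose some irreducible component of the common zero locus of g_1 and g_2 in Spec A has
dimension dim A − 2. Then for suitable c_1, …, c_n ∈ k the n + 2 elements x_1, …, x_n, Σ g_i x_i, Σ
c_i g_i of the rational function field Frac(A)(x_1, …, x_n) form an algebraically independent family
over k. -/
theorem result {k A : Type u} [Field k] [CommRing A] [IsDomain A] [Algebra k A]
    [Algebra.FiniteType k A] (m : ℕ) (g : Fin (m + 2) → A)
    (p : Ideal A) (hp : p ∈ (Ideal.span {g 0, g 1}).minimalPrimes) (hdim : ringKrullDim (A ⧸ p) + 2 = ringKrullDim A) :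
    ∃ c : Fin (m + 2) → k,
      AlgebraicIndependent k
        (Sum.elim
          (fun i : Fin (m + 2) => algebraMap (MvPolynomial (Fin (m + 2)) (FractionRing A)) (FractionRing (MvPolynomial (Fin (m + 2)) (FractionRing A))) (MvPolynomial.X i))
          ![∑ i, algebraMap A (FractionRing (MvPolynomial (Fin (m + 2)) (FractionRing A))) (g i) *
              algebraMap (MvPolynomial (Fin (m + 2)) (FractionRing A)) (FractionRing (MvPolynomial (Fin (m + 2)) (FractionRing A))) (MvPolynomial.X i),
            algebraMap A (FractionRing (MvPolynomial (Fin (m + 2)) (FractionRing A))) (∑ i, c i • g i)]) := by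
  classical
  set K := FractionRing A with hK
  set S := MvPolynomial (Fin (m + 2)) K with hS
  set L := FractionRing S with hL
  -- algebraic independence of `g 1, g 0` in `A`, then in `K`
  have hp' : p ∈ (Ideal.span {g 1, g 0}).minimalPrimes := by
    rwa [Set.pair_comm]
  have h1 : AlgebraicIndependent k ![g 1, g 0] := step1 (g 1) (g 0) p hp' hdim
  have h2 : AlgebraicIndependent k
      ![(fun i => algebraMap A K (g i)) 1, algebraMap A K (g 0)] := by
    have := h1.map' (f := IsScalarTower.toAlgHom k A K) (IsFractionRing.injective A K)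
    convert this using 1
    funext x
    fin_cases x <;> rfl
  have h3 := step2 (k := k) (fun i => algebraMap A K (g i)) 1 (algebraMap A K (g 0)) h2
  have h4 := h3.map' (f := IsScalarTower.toAlgHom k S L) (IsFractionRing.injective S L)
  refine ⟨fun i => if i = 0 then 1 else 0, ?_⟩
  convert h4 using 1
  funext x
  have hCL : ∀ r : A, algebraMap S L (C (algebraMap A K r)) = algebraMap A L r := by
    intro r
    rw [IsScalarTower.algebraMap_apply A S L, MvPolynomial.algebraMap_apply]
  rcases x with i | i
  · rfl
  · fin_cases i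
    · change ∑ i, algebraMap A L (g i) * algebraMap S L (X i) =
        algebraMap S L (∑ i, C (algebraMap A K (g i)) * X i)
      rw [map_sum]
      refine Finset.sum_congr rfl fun i _ => ?_
      rw [map_mul, hCL]
    · change algebraMap A L (∑ i, (if i = 0 then (1 : k) else 0) • g i) =
        algebraMap S L (C (algebraMap A K (g 0)))
      rw [hCL]
      congr 1
      rw [Finset.sum_eq_single 0]
      · rw [if_pos rfl, one_smul]
      · intro i _ hi
        rw [if_neg hi, zero_smul]
      · intro h
        exact absurd (Finset.mem_univ _) h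

end Groth.Agent.S7199
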