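import Groth.Statements.S7201
import Mathlib
import Groth.Agent.Lib.Helper80.ApproxSec
import Groth.Agent.Lib.Helper87.BranchFibre
import Groth.Agent.Lib.Helper87.BranchEtale

set_option autoImplicit false
universe u
open FlatMor

namespace Groth.Agent.S7201

set_option linter.style.haveILetI false
set_option linter.unusedSectionVars false

open AlgebraicGeometry CategoryTheory Limits IsLocalRing

theorem exists_approx {A : Type u} [CommRing A] [IsLocalRing A] [IsNoetherianRing A] (N : ℕ)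
    (z : AdicCompletion (maximalIdeal A) A) :
    ∃ a : A, z - algebraMap A (AdicCompletion (maximalIdeal A) A) a ∈
      (maximalIdeal A ^ N).map (algebraMap A (AdicCompletion (maximalIdeal A) A)) := by
  obtain ⟨a, ha⟩ := Submodule.mkQ_surjective _ (AdicCompletion.eval (maximalIdeal A) A N z)
  refine ⟨a, ?_⟩
  have hfg : (maximalIdeal A).FG := (maximalIdeal A).fg_of_isNoetherianRing
  have hker : z - AdicCompletion.of (maximalIdeal A) A a ∈
      (AdicCompletion.eval (maximalIdeal A) A N).ker := by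
    rw [LinearMap.mem_ker, map_sub, AdicCompletion.eval_of, ha, sub_self]
  rw [← AdicCompletion.pow_smul_top_eq_ker_eval hfg, Ideal.smul_top_eq_map] at hker
  have e : algebraMap A (AdicCompletion (maximalIdeal A) A) a =
      AdicCompletion.of (maximalIdeal A) A a := by
    rw [AdicCompletion.algebraMap_apply]; rfl
  rw [e]
  exact hker

open AlgebraicGeometry CategoryTheory Limits in
/-- Let h : T → S be a morphism of finite type between Noetherian schemes, t a point of T with image s,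
and σ : O_{T,t} → O_{S,s}^∧ a local O_{S,s}-algebra map to the completion. For every N ≥ 1 there is
a morphism of finite type g : T' → T and a point t' over t such that σ factors through O_{T,t} →
O_{T',t'}, and any local O_{S,s}-algebra map σ' : O_{T,t} → O_{S,s}^∧ factoring through O_{T,t} →
O_{T',t'} agrees with σ modulo m_s^N. -/
theorem result {T S : Scheme.{u}} [IsNoetherian T] [IsNoetherian S]
    (h : T ⟶ S) [LocallyOfFiniteType h] [QuasiCompact h] (t : T)
    (σ : ↑(T.presheaf.stalk t) →+* (AdicCompletion (IsLocalRing.maximalIdeal ↑(S.presheaf.stalk (h t))) ↑(S.presheaf.stalk (h t))))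
    (hσ : σ.comp (h.stalkMap t).hom = algebraMap ↑(S.presheaf.stalk (h t)) (AdicCompletion (IsLocalRing.maximalIdeal ↑(S.presheaf.stalk (h t))) ↑(S.presheaf.stalk (h t))))
    (hloc : ∀ a ∈ IsLocalRing.maximalIdeal ↑(T.presheaf.stalk t),
      σ a ∈ (IsLocalRing.maximalIdeal ↑(S.presheaf.stalk (h t))).map (algebraMap ↑(S.presheaf.stalk (h t)) (AdicCompletion (IsLocalRing.maximalIdeal ↑(S.presheaf.stalk (h t))) ↑(S.presheaf.stalk (h t)))))
    (N : ℕ) (hN : 1 ≤ N) :
    ∃ (T' : Scheme.{u}) (g : T' ⟶ T) (t' : T') (hg : g t' = t) (τ : ↑(T'.presheaf.stalk t') →+* (AdicCompletion (IsLocalRing.maximalIdeal ↑(S.presheaf.stalk (h t))) ↑(S.presheaf.stalk (h t)))),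
      LocallyOfFiniteType g ∧ QuasiCompact g ∧
      τ.comp ((g.stalkMap t').hom.comp (T.presheaf.stalkCongr (Inseparable.of_eq hg)).inv.hom) = σ ∧
      ∀ (σ' : ↑(T.presheaf.stalk t) →+* (AdicCompletion (IsLocalRing.maximalIdeal ↑(S.presheaf.stalk (h t))) ↑(S.presheaf.stalk (h t)))),
        σ'.comp (h.stalkMap t).hom = algebraMap ↑(S.presheaf.stalk (h t)) (AdicCompletion (IsLocalRing.maximalIdeal ↑(S.presheaf.stalk (h t))) ↑(S.presheaf.stalk (h t))) →
        (∀ a ∈ IsLocalRing.maximalIdeal ↑(T.presheaf.stalk t),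
          σ' a ∈ (IsLocalRing.maximalIdeal ↑(S.presheaf.stalk (h t))).map (algebraMap ↑(S.presheaf.stalk (h t)) (AdicCompletion (IsLocalRing.maximalIdeal ↑(S.presheaf.stalk (h t))) ↑(S.presheaf.stalk (h t))))) →
        (∃ τ' : ↑(T'.presheaf.stalk t') →+* (AdicCompletion (IsLocalRing.maximalIdeal ↑(S.presheaf.stalk (h t))) ↑(S.presheaf.stalk (h t))),
          τ'.comp ((g.stalkMap t').hom.comp (T.presheaf.stalkCongr (Inseparable.of_eq hg)).inv.hom) = σ') →
        ∀ a : ↑(T.presheaf.stalk t), σ a - σ' a ∈ (IsLocalRing.maximalIdeal ↑(S.presheaf.stalk (h t)) ^ N).map (algebraMap ↑(S.presheaf.stalk (h t)) (AdicCompletion (IsLocalRing.maximalIdeal ↑(S.presheaf.stalk (h t))) ↑(S.presheaf.stalk (h t)))) := by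
  classical
  -- affine charts
  obtain ⟨V, hV, hsV, -⟩ :=
    exists_isAffineOpen_mem_and_subset (X := S) (x := h t) (U := ⊤) trivial
  obtain ⟨U, hU, htU, hUV⟩ :=
    exists_isAffineOpen_mem_and_subset (X := T) (x := t) (U := h ⁻¹ᵁ V) hsV
  let ψ : Γ(S, V) →+* Γ(T, U) := (h.appLE V U hUV).hom
  let gA : Γ(S, V) →+* ↑(S.presheaf.stalk (h t)) := (S.presheaf.germ V (h t) hsV).hom
  let gB : Γ(T, U) →+* ↑(T.presheaf.stalk t) := (T.presheaf.germ U t htU).hom
  have hψ : ψ.FiniteType := h.finiteType_appLE hV hU hUV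
  have hφ : (h.stalkMap t).hom.comp gA = gB.comp ψ := by
    ext b
    show h.stalkMap t (S.presheaf.germ V (h t) hsV b) = T.presheaf.germ U t htU (h.appLE V U hUV b)
    rw [Scheme.Hom.germ_stalkMap_apply, Scheme.Hom.appLE, CommRingCat.comp_apply]
    exact (TopCat.Presheaf.germ_res_apply T.presheaf (homOfLE hUV) t htU _).symm
  haveI : IsNoetherianRing Γ(S, V) := IsLocallyNoetherian.component_noetherian ⟨V, hV⟩
  haveI : IsNoetherianRing ↑(S.presheaf.stalk (h t)) := inferInstance
  set 𝔮 : Ideal Γ(S, V) := (hV.primeIdealOf ⟨h t, hsV⟩).asIdeal with h𝔮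
  set 𝔭 : Ideal Γ(T, U) := (hU.primeIdealOf ⟨t, htU⟩).asIdeal with h𝔭
  have hA : @IsLocalization.AtPrime _ _ ↑(S.presheaf.stalk (h t)) _ gA.toAlgebra 𝔮 _ :=
    hV.isLocalization_stalk ⟨h t, hsV⟩
  have hB : @IsLocalization.AtPrime _ _ ↑(T.presheaf.stalk t) _ gB.toAlgebra 𝔭 _ :=
    hU.isLocalization_stalk ⟨t, htU⟩
  -- generators of 𝔮^N
  obtain ⟨r, μ, hμ⟩ := Submodule.fg_iff_exists_fin_generating_family.mp
    ((isNoetherianRing_iff_ideal_fg _).mp inferInstance (𝔮 ^ N))
  set Ah := AdicCompletion (maximalIdeal ↑(S.presheaf.stalk (h t))) ↑(S.presheaf.stalk (h t)) with hAh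
  set ι : ↑(S.presheaf.stalk (h t)) →+* Ah := algebraMap _ _ with hι
  set J : Ideal Ah := (maximalIdeal ↑(S.presheaf.stalk (h t)) ^ N).map ι with hJ
  have H2 : J = Ideal.span (Set.range fun l => ι (gA (μ l))) := by
    have h1 : maximalIdeal ↑(S.presheaf.stalk (h t)) = 𝔮.map gA := by
      letI := gA.toAlgebra
      haveI := hA
      exact (IsLocalization.AtPrime.map_eq_maximalIdeal 𝔮 _).symm
    have h1N : maximalIdeal ↑(S.presheaf.stalk (h t)) ^ N =
        Ideal.map gA (Ideal.span (Set.range μ)) := by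
      rw [h1, ← Ideal.map_pow]
      exact congrArg (Ideal.map gA) hμ.symm
    rw [hJ]
    refine (congrArg (Ideal.map ι) h1N).trans ?_
    rw [Ideal.map_map, Ideal.map_span, ← Set.range_comp]
    rfl
  have hσloc : (maximalIdeal Ah).comap σ = maximalIdeal ↑(T.presheaf.stalk t) := by
    apply le_antisymm
    · exact IsLocalRing.le_maximalIdeal (Ideal.comap_ne_top _ (Ideal.IsPrime.ne_top inferInstance))
    · intro a ha
      rw [Ideal.mem_comap, AdicCompletion.maximalIdeal_eq_map]
      exact hloc a ha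
  obtain ⟨C, instC, κ, P, hP, hκ, hPκ, hmain⟩ :=
    Groth.Agent.Lib.Helper80.ApproxSec.alg_main ψ hψ gA gB (h.stalkMap t).hom hφ ι σ hσ hσloc
      𝔮 hA 𝔭 hB J (fun z => exists_approx N z) r μ H2
  letI algC : Algebra Γ(T, U) C := κ.toAlgebra
  let g : Spec (CommRingCat.of C) ⟶ T :=
    Spec.map (CommRingCat.ofHom (algebraMap Γ(T, U) C)) ≫ hU.fromSpec
  let t' : Spec (CommRingCat.of C) := ⟨P, hP⟩
  have hg : g t' = t :=
    Groth.Agent.Lib.Helper87.BranchEtale.Spec_map_comp_fromSpec_apply hU C t htU P hPκ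
  letI algB' : Algebra C ↑((Spec (CommRingCat.of C)).presheaf.stalk t') :=
    StructureSheaf.stalkAlgebra (R := C) t'
  haveI locB' : IsLocalization.AtPrime ↑((Spec (CommRingCat.of C)).presheaf.stalk t') P :=
    StructureSheaf.IsLocalization.to_stalk (R := C) t'
  have hθ : ((g.stalkMap t').hom.comp (T.presheaf.stalkCongr (Inseparable.of_eq hg)).inv.hom).comp gB =
      (algebraMap C ↑((Spec (CommRingCat.of C)).presheaf.stalk t')).comp κ := by
    ext x
    have h1 : (T.presheaf.stalkCongr (Inseparable.of_eq hg)).inv.hom (gB x) =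
        T.presheaf.germ U (g t') (hg ▸ htU) x := by
      show (T.presheaf.germ U t htU ≫
        T.presheaf.stalkSpecializes (Inseparable.of_eq hg).le) x = _
      rw [TopCat.Presheaf.germ_stalkSpecializes]
    have h2 := Groth.Agent.Lib.Helper87.BranchFibre.germ_stalkMap_Spec hU (CommRingCat.of C)
      (CommRingCat.ofHom (algebraMap Γ(T, U) C)) t' (hg ▸ htU)
    have h3 := congrArg (fun k => k.hom x) h2
    simp only [RingHom.comp_apply]
    rw [h1]
    exact h3
  obtain ⟨⟨τ, hτ⟩, hfin⟩ := hmain ↑((Spec (CommRingCat.of C)).presheaf.stalk t')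
    ((g.stalkMap t').hom.comp (T.presheaf.stalkCongr (Inseparable.of_eq hg)).inv.hom) hθ
  refine ⟨Spec (CommRingCat.of C), g, t', hg, τ, ?_, ?_, hτ, ?_⟩
  · have : LocallyOfFiniteType (Spec.map (CommRingCat.ofHom (algebraMap Γ(T, U) C))) := by
      rw [HasRingHomProperty.Spec_iff (P := @LocallyOfFiniteType)]
      exact hκ
    infer_instance
  · infer_instance
  · intro σ' hσ' _ hτ' a
    obtain ⟨τ', hτ'⟩ := hτ'
    exact hfin σ' τ' hσ' hτ' a

end Groth.Agent.S7201
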