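import Groth.Statements.S7204
import Groth.Agent.Lib.Helper6.FpqcColim

set_option autoImplicit false
universe w u
open FlatMor

namespace Groth.Agent.S7204

open AlgebraicGeometry CategoryTheory Limits in
/-- Let (X_i)_{i ∈ I} be a diagram of schemes and (W, X_i → W) a cocone under it. If there is an fpqc
covering {W_a → W} such that each W_a is the colimit (in schemes) of the base-changed diagram (X_i
×_W W_a), and each W_a ×_W W_b is the colimit of (X_i ×_W W_a ×_W W_b), then W is the colimit of
(X_i) in the category of schemes. -/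
theorem result {J : Type u} [SmallCategory J] (D : J ⥤ Scheme.{u}) (c : Cocone D)
    (F : PreZeroHypercover.{w} c.pt) (hF : F.presieve₀ ∈ Scheme.fpqcPrecoverage c.pt)
    (h1 : ∀ a : F.I₀, Nonempty (IsColimit ((Over.forgetCocone (F.X a)).whisker
      (D.toOver c.pt (fun j => c.ι.app j) (fun g => c.w g) ⋙ Over.pullback (F.f a)))))
    (h2 : ∀ a b : F.I₀, Nonempty (IsColimit ((Over.forgetCocone (pullback (F.f a) (F.f b))).whisker
      (D.toOver c.pt (fun j => c.ι.app j) (fun g => c.w g) ⋙ Over.pullback (pullback.fst (F.f a) (F.f b) ≫ F.f a))))) :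
    Nonempty (IsColimit c) := by
  open Groth.Agent.Lib.Helper6.FpqcColim in
  classical
  -- the local descents
  have hφ : ∀ (s : Cocone D) (a : F.I₀), ∃! φ : F.X a ⟶ s.pt,
      ∀ j, pullback.snd (c.ι.app j) (F.f a) ≫ φ = pullback.fst (c.ι.app j) (F.f a) ≫ s.ι.app j :=
    fun s a => existsUnique_desc D c (F.f a) (h1 a).some s
  choose φ hφ1 hφ2 using hφ
  -- compatibility on overlaps
  have hcomp : ∀ (s : Cocone D) (a b : F.I₀),
      pullback.fst (F.f a) (F.f b) ≫ φ s a = pullback.snd (F.f a) (F.f b) ≫ φ s b := by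
    intro s a b
    obtain ⟨ψ, -, hψ⟩ := existsUnique_desc D c (pullback.fst (F.f a) (F.f b) ≫ F.f a) (h2 a b).some s
    have e1 : pullback.fst (F.f a) (F.f b) ≫ φ s a = ψ := by
      refine hψ _ fun j => ?_
      have hc : pullback.fst (c.ι.app j) (pullback.fst (F.f a) (F.f b) ≫ F.f a) ≫ c.ι.app j =
          (pullback.snd (c.ι.app j) (pullback.fst (F.f a) (F.f b) ≫ F.f a) ≫
            pullback.fst (F.f a) (F.f b)) ≫ F.f a := by
        rw [Category.assoc]; exact pullback.condition
      have := hφ1 s a j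
      calc pullback.snd (c.ι.app j) (pullback.fst (F.f a) (F.f b) ≫ F.f a) ≫
            pullback.fst (F.f a) (F.f b) ≫ φ s a
          = pullback.lift _ _ hc ≫ pullback.snd (c.ι.app j) (F.f a) ≫ φ s a := by
            rw [pullback.lift_snd_assoc, Category.assoc]
        _ = pullback.lift _ _ hc ≫ pullback.fst (c.ι.app j) (F.f a) ≫ s.ι.app j := by rw [this]
        _ = _ := by rw [pullback.lift_fst_assoc]
    have e2 : pullback.snd (F.f a) (F.f b) ≫ φ s b = ψ := by
      refine hψ _ fun j => ?_
      have hc : pullback.fst (c.ι.app j) (pullback.fst (F.f a) (F.f b) ≫ F.f a) ≫ c.ι.app j =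
          (pullback.snd (c.ι.app j) (pullback.fst (F.f a) (F.f b) ≫ F.f a) ≫
            pullback.snd (F.f a) (F.f b)) ≫ F.f b := by
        rw [Category.assoc, ← pullback.condition (f := F.f a) (g := F.f b)]
        exact pullback.condition
      have := hφ1 s b j
      calc pullback.snd (c.ι.app j) (pullback.fst (F.f a) (F.f b) ≫ F.f a) ≫
            pullback.snd (F.f a) (F.f b) ≫ φ s b
          = pullback.lift _ _ hc ≫ pullback.snd (c.ι.app j) (F.f b) ≫ φ s b := by
            rw [pullback.lift_snd_assoc, Category.assoc]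
        _ = pullback.lift _ _ hc ≫ pullback.fst (c.ι.app j) (F.f b) ≫ s.ι.app j := by rw [this]
        _ = _ := by rw [pullback.lift_fst_assoc]
    rw [e1, e2]
  -- glue
  have hglue : ∀ s : Cocone D, ∃! t : c.pt ⟶ s.pt, ∀ a, F.f a ≫ t = φ s a :=
    fun s => exists_unique_glue F.X F.f hF s.pt (φ s) (hcomp s)
  choose t ht1 ht2 using hglue
  -- covers of the X_j
  have hcov : ∀ j, Presieve.ofArrows (fun a => pullback (c.ι.app j) (F.f a))
      (fun a => pullback.fst (c.ι.app j) (F.f a)) ∈ Scheme.fpqcPrecoverage (D.obj j) := by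
    intro j
    exact Precoverage.mem_coverings_of_isPullback F.f hF (c.ι.app j) _
      (fun a => pullback.snd (c.ι.app j) (F.f a)) (fun a => IsPullback.of_hasPullback _ _)
  refine ⟨{ desc := t, fac := fun s j => ?_, uniq := fun s m hm => ?_ }⟩
  · refine hom_ext_of_cover _ _ (hcov j) _ _ fun a => ?_
    rw [← hφ1 s a j, ← ht1 s a, pullback.condition_assoc]
  · refine ht2 s m fun a => ?_
    refine hφ2 s a _ fun j => ?_
    rw [← hm j, pullback.condition_assoc]

end Groth.Agent.S7204
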