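import Groth.Statements.S7214
import Groth.Agent.S0888
import Groth.Agent.Lib.Helper2.DCohPC

set_option autoImplicit false
universe u
open CategoryTheory CategoryTheory.Limits AlgebraicGeometry Opposite TopologicalSpace
attribute [local instance] HasDerivedCategory.standard
open FlatMor

namespace Groth.Agent.S7214

/-- Let f : X ⟶ S be a morphism of schemes, m an integer, and E, K objects of D(O_X). If the direct sum
E ⊕ K is m-pseudo-coherent relative to f (chart form; in particular f is locally of finite type),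
then so are E and K. -/
theorem result {X S : Scheme.{u}} (f : X ⟶ S) (m : ℤ) (E K : DCoh.D X)
    [HasBinaryBiproduct E K] (h : DerSch.IsPseudoCoherentRel f m (E ⊞ K)) :
    DerSch.IsPseudoCoherentRel f m E ∧ DerSch.IsPseudoCoherentRel f m K := by
  classical
  have key : ∀ (A B : DCoh.D X) [HasBinaryBiproduct A B],
      DerSch.IsPseudoCoherentRel f m (A ⊞ B) → DerSch.IsPseudoCoherentRel f m A := by
    intro A B _ hAB
    obtain ⟨hlft, 𝒱, hcov, hV⟩ := hAB
    refine ⟨hlft, 𝒱, hcov, fun V hVmem => ?_⟩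
    obtain ⟨𝒰, hUcov, hU⟩ := hV V hVmem
    refine ⟨𝒰, hUcov, fun U hUmem hle => ?_⟩
    obtain ⟨n, φ, hchart, hpc⟩ := hU U hUmem hle
    refine ⟨n, φ, hchart, ?_⟩
    intro G ⟨eG⟩
    obtain ⟨G', ⟨eG'⟩⟩ : ∃ G' : CochainComplex X.Modules ℤ, Nonempty (DCoh.toD X G' ≅ B) :=
      ⟨_, ⟨(DerivedCategory.Q.objObjPreimageIso B)⟩⟩
    let F : CochainComplex X.Modules ℤ ⥤ DCoh.D (Spec (CommRingCat.of (MvPolynomial (Fin n) Γ(S, (V : S.Opens))))) :=
      (DCoh.restrictCx (U : X.Opens)) ⋙ DerSch.pushCx (DerSch.chartImm (U : X.Opens) φ) ⋙ DerivedCategory.Q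
    haveI : F.Additive := by dsimp only [F]; infer_instance
    haveI : PreservesBinaryBiproducts F := preservesBinaryBiproducts_of_preservesBiproducts F
    haveI : PreservesBinaryBiproducts (DerivedCategory.Q (C := X.Modules)) :=
      preservesBinaryBiproducts_of_preservesBiproducts _
    have e1 : DCoh.toD X (G ⊞ G') ≅ A ⊞ B :=
      (DerivedCategory.Q).mapBiprod G G' ≪≫ biprod.mapIso eG eG'
    have h1 := hpc (G ⊞ G') ⟨e1⟩
    have e2 : F.obj (G ⊞ G') ≅ F.obj G ⊞ F.obj G' := F.mapBiprod G G'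
    have h2 : DCoh.IsPseudoCoherentD m (F.obj G ⊞ F.obj G') := by
      rw [Groth.Agent.Lib.Helper2.DCohPC.isPseudoCoherentD_iff] at h1 ⊢
      intro y
      exact Groth.Agent.Lib.Helper2.DCohPC.pcAt_of_iso e2 (h1 y)
    exact (Groth.Agent.S0888.result m _ _ h2).1
  refine ⟨key E K h, ?_⟩
  haveI : HasBinaryBiproduct K E := HasBinaryBiproducts.has_binary_biproduct K E
  refine key K E ?_
  obtain ⟨hlft, 𝒱, hcov, hV⟩ := h
  refine ⟨hlft, 𝒱, hcov, fun V hVmem => ?_⟩
  obtain ⟨𝒰, hUcov, hU⟩ := hV V hVmem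
  refine ⟨𝒰, hUcov, fun U hUmem hle => ?_⟩
  obtain ⟨n, φ, hchart, hpc⟩ := hU U hUmem hle
  refine ⟨n, φ, hchart, ?_⟩
  intro G ⟨eG⟩
  exact hpc G ⟨eG ≪≫ biprod.braiding K E⟩

end Groth.Agent.S7214
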