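import Groth.Statements.S7237
-- import your own Groth.Agent.* helpers here

set_option autoImplicit false
universe u
open TensorProduct
open FlatMor

namespace Groth.Agent.S7237

theorem exists_derivation (A : Type u) [CommRing A] (M : Type u) [AddCommGroup M] [Module A M]
    (N : Type u) [AddCommGroup N] [Module A N] [Module (SymmetricAlgebra A M) N]
    [IsScalarTower A (SymmetricAlgebra A M) N] (g : M →ₗ[A] N) :
    ∃ d : Derivation A (SymmetricAlgebra A M) N, ∀ m, d (SymmetricAlgebra.ι A M m) = g m := by
  letI : Module (SymmetricAlgebra A M)ᵐᵒᵖ N :=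
    Module.compHom N ((RingHom.id (SymmetricAlgebra A M)).fromOpposite fun _ _ => Commute.all _ _)
  haveI : IsCentralScalar (SymmetricAlgebra A M) N := ⟨fun r m => rfl⟩
  haveI : IsScalarTower A (SymmetricAlgebra A M)ᵐᵒᵖ N := ⟨fun a c n => by
    change (a • c.unop) • n = a • (c.unop • n)
    exact smul_assoc _ _ _⟩
  let f : M →ₗ[A] TrivSqZeroExt (SymmetricAlgebra A M) N :=
    (TrivSqZeroExt.inlAlgHom A (SymmetricAlgebra A M) N).toLinearMap ∘ₗ SymmetricAlgebra.ι A M +
      ((TrivSqZeroExt.inrHom (SymmetricAlgebra A M) N).restrictScalars A) ∘ₗ g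
  let φ : SymmetricAlgebra A M →ₐ[A] TrivSqZeroExt (SymmetricAlgebra A M) N :=
    SymmetricAlgebra.lift f
  have hφι : ∀ m, φ (SymmetricAlgebra.ι A M m) = f m := fun m => SymmetricAlgebra.lift_ι_apply f m
  have hfst : ∀ x, (φ x).fst = x := by
    intro x
    have : (TrivSqZeroExt.fstHom A (SymmetricAlgebra A M) N).comp φ =
        AlgHom.id A (SymmetricAlgebra A M) := by
      apply SymmetricAlgebra.algHom_ext
      ext m
      simp [hφι, f]
    exact congr($this x)
  let d : Derivation A (SymmetricAlgebra A M) N :=
    Derivation.mk' ((TrivSqZeroExt.sndHom (SymmetricAlgebra A M) N).restrictScalars A ∘ₗ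
      φ.toLinearMap) (by
      intro a b
      simp only [LinearMap.coe_comp, Function.comp_apply, AlgHom.toLinearMap_apply,
        LinearMap.coe_restrictScalars, TrivSqZeroExt.sndHom_apply, map_mul,
        TrivSqZeroExt.snd_mul, hfst]
      rw [op_smul_eq_smul])
  refine ⟨d, fun m => ?_⟩
  change (φ (SymmetricAlgebra.ι A M m)).snd = g m
  rw [hφι]
  simp [f]

/-- Let A be a ring and M a finitely generated A-module, and let C = Sym_A(M) be the symmetric algebra
of M with its canonical A-linear map ι : M → C. Then Ω_{C/A} = M ⊗_A C: the C-linear map C ⊗_A M →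
Ω_{C/A} obtained by extending scalars in the A-linear map m ↦ d(ι m), d being the universal
A-derivation of C, is bijective. (The published lemma also computes the whole naive cotangent
complex of the presentation of C attached to a surjection A^m → M with kernel K, namely as K ⊗_A C →
⊕_j C dy_j; only its consequence for Ω is asserted here.) -/
theorem result (A : Type u) [CommRing A] (M : Type u)
    [AddCommGroup M] [Module A M] [Module.Finite A M] :
    Function.Bijective (LinearMap.liftBaseChange (SymmetricAlgebra A M)
      ((KaehlerDifferential.D A (SymmetricAlgebra A M)).toLinearMap.restrictScalars A ∘ₗ SymmetricAlgebra.ι A M)) := by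
  let Φ := LinearMap.liftBaseChange (SymmetricAlgebra A M)
      ((KaehlerDifferential.D A (SymmetricAlgebra A M)).toLinearMap.restrictScalars A ∘ₗ
        SymmetricAlgebra.ι A M)
  obtain ⟨d, hd⟩ := exists_derivation A M (SymmetricAlgebra A M ⊗[A] M)
    (TensorProduct.mk A (SymmetricAlgebra A M) M 1)
  constructor
  · have hleft : d.liftKaehlerDifferential ∘ₗ Φ = LinearMap.id := by
      apply TensorProduct.AlgebraTensorModule.curry_injective
      ext m
      simp [Φ, hd]
    intro x y hxy
    have := congr(d.liftKaehlerDifferential $hxy)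
    change (d.liftKaehlerDifferential ∘ₗ Φ) x = (d.liftKaehlerDifferential ∘ₗ Φ) y at this
    rwa [hleft] at this
  · rw [← LinearMap.range_eq_top, LinearMap.range_liftBaseChange, eq_top_iff,
      ← KaehlerDifferential.span_range_derivation, Submodule.span_le]
    rintro _ ⟨x, rfl⟩
    induction x using SymmetricAlgebra.induction with
    | algebraMap r => simp
    | ι m => exact Submodule.subset_span ⟨m, rfl⟩
    | mul a b ha hb =>
      rw [Derivation.leibniz]
      exact Submodule.add_mem _ (Submodule.smul_mem _ _ hb) (Submodule.smul_mem _ _ ha)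
    | add a b ha hb =>
      rw [map_add]
      exact Submodule.add_mem _ ha hb

end Groth.Agent.S7237
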