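import Groth.Statements.S7240
import Groth.Agent.Lib.Helper2.DCohHom

set_option autoImplicit false
universe u
open CategoryTheory CategoryTheory.Limits AlgebraicGeometry
attribute [local instance] HasDerivedCategory.standard
open Perf

namespace Groth.Agent.S7240

open Groth.Agent.Lib.Helper2.DCohBase Groth.Agent.Lib.Helper2.DCohHom
open Groth.Agent.Lib.Lead.PullbackAff in

/-- Let X be a scheme, m an integer and E an m-pseudo-coherent object of D(O_X). Then the cohomology
sheaf Hⁱ(E) is quasi-coherent for every i > m, and Hᵐ(E) is, locally on X, a quotient of a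
quasi-coherent module: every point of X has an open neighbourhood V and a quasi-coherent O_V-module
mapping onto Hᵐ(E)|_V. (The published statement says that Hᵐ(E) is a quotient of a quasi-coherent
O_X-module; its proof gives this only locally on X, which is what this row states, and the global
form fails: on the affine plane over ℚ, the direct image of an invertible module over the inverse
image of O_X on a triangle of three lines, twisted by the constant 2 around the cycle, is an
O_X-module of finite type with no nonzero global section, so it is not a quotient of any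
quasi-coherent module.) -/
theorem result {X : Scheme.{u}} (m : ℤ) (E : DCoh.D X)
    (hE : DCoh.IsPseudoCoherentD m E) :
    (∀ i : ℤ, m < i → Coh.IsQCoh (DCoh.HD E i)) ∧
      ∀ x : X, ∃ (V : X.Opens) (Q : (V : Scheme.{u}).Modules)
        (π : Q ⟶ (Scheme.Modules.restrictFunctor V.ι).obj (DCoh.HD E m)), x ∈ V ∧ Coh.IsQCoh Q ∧ Epi π := by
  obtain ⟨F₀, ⟨e₀⟩⟩ := exists_rep E
  choose V hxV hV using hE
  have key : ∀ x : X, ∃ (E' : CochainComplex ((V x : X.Opens) : Scheme.{u}).Modules ℤ)
      (α : DerivedCategory.Q.obj E' ⟶ DerivedCategory.Q.obj ((resCx (V x).ι).obj F₀)),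
      DCoh.IsStrictlyPerfect E' ∧
      (∀ i : ℤ, m < i → IsIso ((DerivedCategory.homologyFunctor _ i).map α)) ∧
      Epi ((DerivedCategory.homologyFunctor _ m).map α) := fun x => hV x F₀ ⟨e₀⟩
  choose E' α hE' hiso hepi using key
  constructor
  · intro i hi
    refine Groth.Agent.Lib.Helper40.QCohCoprod.isQuasicoherent_of_isOpenCover _ V ?_ (fun x => ?_)
    · change ⨆ x, V x = ⊤
      exact top_le_iff.1 fun x _ => TopologicalSpace.Opens.mem_iSup.2 ⟨x, hxV x⟩
    · haveI := hiso x i hi
      haveI := isQuasicoherent_homology_of_isStrictlyPerfect (E' x) (hE' x) i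
      let ε : (E' x).homology i ≅
          (Scheme.Modules.restrictFunctor (V x).ι).obj (DCoh.HD E i) :=
        ((DerivedCategory.homologyFunctorFactors _ i).app (E' x)).symm ≪≫
          asIso ((DerivedCategory.homologyFunctor _ i).map (α x)) ≪≫
          (homRestrictIso E F₀ e₀ (V x).ι i).symm
      exact isQuasicoherent_of_iso ε
  · intro x
    refine ⟨V x, (E' x).homology m,
      ((DerivedCategory.homologyFunctorFactors _ m).app (E' x)).inv ≫
        (DerivedCategory.homologyFunctor _ m).map (α x) ≫
        (homRestrictIso E F₀ e₀ (V x).ι m).inv, hxV x,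
      isQuasicoherent_homology_of_isStrictlyPerfect (E' x) (hE' x) m, ?_⟩
    haveI : Epi ((DerivedCategory.homologyFunctor _ m).map (α x)) := hepi x
    haveI : Epi ((DerivedCategory.homologyFunctor _ m).map (α x) ≫
        (homRestrictIso E F₀ e₀ (V x).ι m).inv) := epi_comp _ _
    exact epi_comp _ _

end Groth.Agent.S7240
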