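import Groth.Statements.S7244
import Groth.Agent.Lib.Helper2.LpullRes
import Groth.Agent.S6950

set_option autoImplicit false
universe u
open CategoryTheory CategoryTheory.Limits AlgebraicGeometry
attribute [local instance] HasDerivedCategory.standard
open Perf

namespace Groth.Agent.S7244

open Groth.Agent.Lib.Helper2.Lpull Groth.Agent.Lib.Helper12.StalkExact

theorem hasFlatAmplitudeIn_of_iso {X : Scheme.{u}} {K L : DCoh.D X} (e : K ≅ L) (a b : ℤ)
    (h : DCoh.HasFlatAmplitudeIn a b K) : DCoh.HasFlatAmplitudeIn a b L := by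
  obtain ⟨E, hE, hfl, ⟨e'⟩⟩ := h
  exact ⟨E, hE, hfl, ⟨e' ≪≫ e⟩⟩


/-- Let f : X ⟶ Y be a flat and surjective morphism of schemes, E ∈ D(O_Y) and a, b ∈ ℤ. Assuming the
derived pullback Lf^* exists, if Lf^*E has tor amplitude in [a, b] then so does E; tor amplitude is
stated in the flat-representative form (isomorphic to a complex of flat modules vanishing outside
[a, b]), equivalent to the derived-tensor form. (The converse, that derived pullback preserves tor
amplitude, holds for any f.) -/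
theorem result {X Y : Scheme.{u}} (f : X ⟶ Y) [Flat f] [Surjective f]
    [DCoh.HasLpull f] (E : DCoh.D Y) (a b : ℤ) (h : DCoh.HasFlatAmplitudeIn a b ((DCoh.Lpull f).obj E)) :
    DCoh.HasFlatAmplitudeIn a b E := by
  obtain ⟨P, hP, ⟨e⟩⟩ := exists_kflat_rep E
  have h1 : DCoh.HasFlatAmplitudeIn a b (DCoh.toD X ((pbCx f).obj P)) :=
    hasFlatAmplitudeIn_of_iso ((DCoh.Lpull f).mapIso e.symm ≪≫ lpIso f P hP) a b h
  have h2 := hasTorAmplitude_id_of_hasFlatAmplitudeIn _ a b h1
  refine hasFlatAmplitudeIn_of_iso e a b ?_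
  apply hasFlatAmplitudeIn_of_hasTorAmplitude_id
  intro y
  obtain ⟨x, rfl⟩ := ‹AlgebraicGeometry.Surjective f›.surj y
  rw [hasTorAmplitudeAt_id_iff]
  have h3 := (hasTorAmplitudeAt_id_iff a b _ x).1 (h2 x)
  have h4 := Groth.Agent.Lib.Helper84.FlatAmp.torAmp_of_iso h3
    (DerivedCategory.Q.mapIso (stalkPbCxIso f P x))
  letI : Algebra (Y.presheaf.stalk (f.base x)) (X.presheaf.stalk x) := (f.stalkMap x).hom.toAlgebra
  haveI : Module.FaithfullyFlat (Y.presheaf.stalk (f.base x)) (X.presheaf.stalk x) :=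
    @Module.FaithfullyFlat.of_flat_of_isLocalHom _ _ _ _ _ _ _
      (AlgebraicGeometry.Flat.stalkMap f x) (f.toLRSHom.prop x)
  exact Groth.Agent.S6950.result _ a b h4

end Groth.Agent.S7244
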