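import Groth.Statements.S7248
import Groth.Agent.Lib.Helper2.DCohPC
import Groth.Agent.Lib.Helper2.FinLocFreeAff
import Groth.Agent.Lib.Helper2.RankSections

set_option autoImplicit false
universe u
open CategoryTheory CategoryTheory.Limits AlgebraicGeometry
attribute [local instance] HasDerivedCategory.standard
open Perf

namespace Groth.Agent.S7248

theorem isFlatOver_of_isFinLocFree {Y S : Scheme.{u}} (g : Y ⟶ S) [Flat g] (M : Y.Modules)
    (hM : FlatMod.IsFinLocFree M) : FlatMod.IsFlatOver g M := by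
  intro y
  haveI := Groth.Agent.Lib.Helper2.RankSections.isQuasicoherent_of_isFinLocFree M hM
  have h1 : Module.Flat (Y.presheaf.stalk y) (M.presheaf.stalk y) :=
    Groth.Agent.Lib.Helper2.FinLocFreeAff.isFlat_of_isFinLocFree M hM y
  unfold FlatMod.IsFlatOverAt
  letI algAB : Algebra (S.presheaf.stalk (g y)) (Y.presheaf.stalk y) :=
    (g.stalkMap y).hom.toAlgebra
  letI modA : Module (S.presheaf.stalk (g y)) (M.presheaf.stalk y) :=
    FlatMod.moduleStalkOver g M y
  haveI : IsScalarTower (S.presheaf.stalk (g y)) (Y.presheaf.stalk y) (M.presheaf.stalk y) :=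
    IsScalarTower.of_algebraMap_smul fun r m => rfl
  haveI : Module.Flat (S.presheaf.stalk (g y)) (Y.presheaf.stalk y) := Flat.stalkMap g y
  exact Module.Flat.trans (S.presheaf.stalk (g y)) (Y.presheaf.stalk y) (M.presheaf.stalk y)

open Groth.Agent.Lib.Helper2.DCohBase Groth.Agent.Lib.Helper2.DCohPerf in

/-- Let f : X ⟶ S be flat and locally of finite presentation. Then a perfect object E of D(O_X) is
S-perfect, that is, E is pseudo-coherent (m-pseudo-coherent for every m) and, locally on X, the tor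
dimension of E over the sheaf of rings f⁻¹O_S is finite (locally represented by a bounded complex of
O_X-modules flat over S). -/
theorem result {X S : Scheme.{u}} (f : X ⟶ S) [Flat f] [LocallyOfFinitePresentation f]
    (E : DCoh.D X) (hE : DCoh.IsPerfect E) :
    (∀ m : ℤ, DCoh.IsPseudoCoherentD m E) ∧ DCoh.LocHasFiniteRelTorDim f E := by
  constructor
  · intro m x
    obtain ⟨V, hxV, hV⟩ := hE x
    refine ⟨V, hxV, fun F hF => ?_⟩
    obtain ⟨E', hE', ⟨ε⟩⟩ := hV F hF
    refine ⟨E', ε.inv, hE', fun i _ => inferInstance, inferInstance⟩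
  · intro x
    obtain ⟨V, hxV, hV⟩ := hE x
    obtain ⟨F₀, ⟨e₀⟩⟩ := exists_rep E
    obtain ⟨E', ⟨⟨a, b, hab⟩, hflf⟩, ⟨ε⟩⟩ := hV F₀ ⟨e₀⟩
    refine ⟨V, a, b, hxV, fun F' ⟨e'⟩ => ⟨E', hab, fun i => ?_, ⟨?_⟩⟩⟩
    · exact isFlatOver_of_isFinLocFree (V.ι ≫ f) _ (hflf i)
    · exact ε.symm ≪≫ (resDQ V.ι F₀).symm ≪≫ (resD V.ι).mapIso (e₀ ≪≫ e'.symm) ≪≫ resDQ V.ι F'

end Groth.Agent.S7248
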