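import Groth.Statements.S7260
import Groth.Agent.Lib.Helper53.ModLoc
import Groth.Agent.Lib.Helper53.RlimLoc
import Groth.Agent.Lib.Helper53.ModGroth
import Groth.Agent.Lib.Helper53.Restrict
import Groth.Agent.Lib.Helper26.AffineVanishing
import Groth.Agent.Lib.Helper21.QCohKernel

set_option autoImplicit false
universe u
open CategoryTheory CategoryTheory.Limits AlgebraicGeometry
attribute [local instance] HasDerivedCategory.standard
open Perf

namespace Groth.Agent.S7260

/-- Let X be a scheme and (F_n)_{n ≥ 0} an inverse system of quasi-coherent O_X-modules whose transition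
maps F_{n+1} ⟶ F_n are surjective for n ≥ 1. Then R lim F_n = lim F_n, that is, lim F_n placed in
degree 0 is a derived limit in D(O_X) of the system (F_n[0]) (granted the countable product exists
there), and H^p(U, lim F_n) = 0 for every affine open U ⊆ X and every p > 0. (The published
statement is phrased for the system of q-th cohomology sheaves of an inverse system in D_QCoh(O_X);
the proof uses only that these form an inverse system of quasi-coherent modules with surjective
transition maps, which is the form stated here.) -/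
theorem result {X : Scheme.{u}} (F : ℕ → X.Modules)
    (hF : ∀ n, Coh.IsQCoh (F n)) (t : ∀ n, F (n + 1) ⟶ F n) (ht : ∀ n, 1 ≤ n → Epi (t n))
    [HasProduct fun n => DCoh.inD X (F n)] :
    DCoh.IsRlim (fun n => DCoh.inD X (F n)) (fun n => (DerivedCategory.singleFunctor X.Modules 0).map (t n))
        (DCoh.inD X (Limits.limit (Functor.ofOpSequence t))) ∧
      ∀ (U : X.Opens), IsAffineOpen U → ∀ p : ℕ, 0 < p →
        Subsingleton (Coh.HHon X (Limits.limit (Functor.ofOpSequence t)) U p) := by
  haveI : IsGrothendieckAbelian.{u} (SheafOfModules.{u} X.ringCatSheaf) :=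
    Groth.Agent.Lib.Helper53.ModGroth.isGrothendieckAbelian (Opens.grothendieckTopology X) X.ringCatSheaf
  haveI : HasExt.{u} (SheafOfModules.{u} X.ringCatSheaf) := hasExt_of_enoughInjectives _
  have hvan : ∀ (U : X.Opens), IsAffineOpen U → ∀ (M : SheafOfModules.{u} X.ringCatSheaf),
      Coh.IsQCoh (X := X) M → ∀ p : ℕ,
      Subsingleton (Abelian.Ext.{u} (Groth.Agent.Lib.Helper53.ModLoc.Tm
        (Opens.grothendieckTopology X) X.ringCatSheaf U) M (p + 1)) := by
    intro U hU M hM p
    exact Groth.Agent.Lib.Helper53.ModLoc.subsingleton_ext_Tm (Opens.grothendieckTopology X)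
      X.ringCatSheaf U M (p + 1)
      (@Groth.Agent.Lib.Helper26.AffineVanishing.subsingleton_HU_succ X M hM p U hU)
  have key := @Groth.Agent.Lib.Helper53.RlimLoc.main _ _ _ _ _ _ _
    (Groth.Agent.Lib.Helper53.ModLoc.modLocData (Opens.grothendieckTopology X) X.ringCatSheaf)
    {U : X.Opens | IsAffineOpen U} ?_ F t _ _ _ _ _ ‹HasProduct _› ?_ ?_
  · refine ⟨key.1, fun U hU p hp => ?_⟩
    obtain ⟨p', rfl⟩ : ∃ p', p = p' + 1 := ⟨p - 1, by omega⟩
    have h1 := key.2 U hU p'
    obtain ⟨e⟩ := Groth.Agent.Lib.Helper53.ModLoc.nonempty_ext_Tm_equiv (Opens.grothendieckTopology X)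
      X.ringCatSheaf U (Limits.limit (Functor.ofOpSequence t)) (p' + 1)
    have h2 : Subsingleton (CohTop.HU (Coh.toAb (Limits.limit (Functor.ofOpSequence t))) (p' + 1) U) :=
      @Equiv.subsingleton _ _ e.symm.toEquiv h1
    obtain ⟨e1⟩ := Groth.Agent.Lib.Helper53.nonempty_HU_equiv_H_restr (X := X.toTopCat) U
      (Coh.toAb (Limits.limit (Functor.ofOpSequence t))) (p' + 1)
    exact @Equiv.subsingleton _ _ e1.symm.toEquiv h2
  · intro U
    refine ⟨{W : X.Opens // IsAffineOpen W ∧ W ≤ U}, fun W => W.1, fun W => homOfLE W.2.2, ?_,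
      fun W => W.2.1⟩
    rw [Opens.mem_grothendieckTopology]
    intro x hx
    obtain ⟨W, hW, hxW, hWU⟩ := TopologicalSpace.Opens.isBasis_iff_nbhd.mp X.isBasis_affineOpens hx
    exact ⟨W, homOfLE hWU, ⟨_, 𝟙 _, _, ⟨(⟨W, hW, hWU⟩ : {W : X.Opens // IsAffineOpen W ∧ W ≤ U})⟩,
      by simp⟩, hxW⟩
  · intro U hU p n
    exact hvan U hU (F n) (hF n) p
  · intro U hU
    let F' : ℕ → SheafOfModules.{u} X.ringCatSheaf := F
    let t' : ∀ n, F' (n + 1) ⟶ F' n := t
    refine Groth.Agent.Lib.Helper53.RlimLoc.limOneHom_of_eventually_liftsOn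
      (𝒜 := SheafOfModules.{u} X.ringCatSheaf) F' t' _ 1 (fun n hn => ?_)
    haveI hepi : Epi (t' n) := ht n hn
    have hq : Coh.IsQCoh (X := X) (kernel (t' n)) := by
      haveI : (F (n + 1)).IsQuasicoherent := hF (n + 1)
      haveI : (F n).IsQuasicoherent := hF n
      exact Groth.Agent.Lib.Helper21.QCohKernel.isQuasicoherent_kernel (t n)
    have hS : (ShortComplex.mk (kernel.ι (t' n)) (t' n) (kernel.condition _)).ShortExact :=
      ShortComplex.ShortExact.mk' (ShortComplex.exact_kernel (t' n)) inferInstance inferInstance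
    exact Groth.Agent.Lib.Helper53.RlimAbs.liftsOn_of_ext_one
      (𝒜 := SheafOfModules.{u} X.ringCatSheaf) hS _ (hvan U hU _ hq 0)

end Groth.Agent.S7260
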