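import Groth.Statements.S7264
import Groth.Agent.Lib.Helper15.RelAmp
import Groth.Agent.S7259
import Groth.Agent.S2066

set_option autoImplicit false
universe u
open CategoryTheory CategoryTheory.Limits AlgebraicGeometry
attribute [local instance] HasDerivedCategory.standard
open Perf

namespace Groth.Agent.S7264

/-- (1) ⇔ (2) in the affine case to which the proof reduces: let R → A be flat and of finite
presentation, f : X = Spec A ⟶ S = Spec R, M ∈ D(A) and E = M~ ∈ D(O_X) (tilde recorded as exact),
so that RΓ(X, E) = M. Then E is S-perfect (pseudo-coherent, and locally on X represented by a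
bounded complex of O_X-modules flat over S) if and only if M is R-perfect (pseudo-coherent as a
complex of A-modules and of finite tor dimension as a complex of R-modules). -/
theorem result (R A : Type u) [CommRing R] [CommRing A] [Algebra R A]
    [Module.Flat R A] [Algebra.FinitePresentation R A]
    [PreservesFiniteLimits (tilde.functor (CommRingCat.of A))] (M : Dual.D A) :
    ((∀ m : ℤ, DCoh.IsPseudoCoherentD m ((DCoh.tildeD (CommRingCat.of A)).obj M)) ∧
      DCoh.LocHasFiniteRelTorDim (Spec.map (CommRingCat.ofHom (algebraMap R A))) ((DCoh.tildeD (CommRingCat.of A)).obj M)) ↔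
    Dual2.IsRelPerfect R A M := by
  haveI : Flat (Spec.map (CommRingCat.ofHom (algebraMap R A))) := by
    rw [HasRingHomProperty.Spec_iff (P := @Flat)]
    exact (RingHom.flat_algebraMap_iff).2 inferInstance
  let K : DRing.Cx A := DerivedCategory.Q.objPreimage M
  let e : DerivedCategory.Q.obj K ≅ M := DerivedCategory.Q.objObjPreimageIso M
  let F := ((tilde.functor (CommRingCat.of A)).mapHomologicalComplex (ComplexShape.up ℤ)).obj K
  have eF : DCoh.toD _ F ≅ (DCoh.tildeD (CommRingCat.of A)).obj M :=
    (Groth.Agent.Lib.Helper15.TildePC.tildeDQIso (CommRingCat.of A) K).symm ≪≫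
      (DCoh.tildeD (CommRingCat.of A)).mapIso e
  have hpc : (∀ m : ℤ, DCoh.IsPseudoCoherentD m ((DCoh.tildeD (CommRingCat.of A)).obj M)) ↔
      DRing.IsPseudoCoherent' A M := by
    rw [← (Groth.Agent.S2066.result M).1]
    exact forall_congr' fun m =>
      Groth.Agent.Lib.Helper15.TildePC.isPseudoCoherentD_tildeD_iff (CommRingCat.of A) M m
  constructor
  · rintro ⟨h1, h2⟩
    refine ⟨hpc.1 h1, ?_⟩
    have h3 : DCoh.LocHasFiniteRelTorDim (Spec.map (CommRingCat.ofHom (algebraMap R A)))
        (DCoh.toD _ F) := by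
      intro x
      obtain ⟨V, a, b, hxV, hV⟩ := h2 x
      exact ⟨V, a, b, hxV, fun F' ⟨e'⟩ => hV F' ⟨e' ≪≫ eF⟩⟩
    obtain ⟨a, b, hab⟩ :=
      Groth.Agent.Lib.Helper15.RelAmp.exists_hasTorAmplitude_of_locHasFiniteRelTorDim _ F h3
    exact ⟨a, b, (Groth.Agent.S7259.result (algebraMap R A) M F ⟨eF⟩ a b).1 hab⟩
  · rintro ⟨h1, a, b, hab⟩
    refine ⟨hpc.2 h1, ?_⟩
    exact Groth.Agent.Lib.Helper15.RelAmp.locHasFiniteRelTorDim_of_hasTorAmplitude _ _ a b
      (fun F' hF' => (Groth.Agent.S7259.result (algebraMap R A) M F' hF' a b).2 hab)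

end Groth.Agent.S7264
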