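import Groth.Statements.S7275
import Groth.Agent.Lib.Helper15.RelPerfSLZ

set_option autoImplicit false
universe u
open CategoryTheory CategoryTheory.Limits AlgebraicGeometry
attribute [local instance] HasDerivedCategory.standard
open Perf

namespace Groth.Agent.S7275

/-- Let f : X ⟶ S be flat and locally of finite presentation and E ∈ D(O_X). Then E is S-perfect
(pseudo-coherent, and locally on X represented by a bounded complex of O_X-modules flat over S) if
and only if E satisfies the alternative definition of relative perfectness: locally on X, E becomes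
isomorphic in the derived category to a bounded complex whose terms are O_X-modules of finite
presentation that are S-flat (every point has an open neighbourhood V such that the restriction to V
of any representing complex is isomorphic in D(O_V) to such a complex). -/
theorem result {X S : Scheme.{u}} (f : X ⟶ S)
    [Flat f] [LocallyOfFinitePresentation f] (E : DCoh.D X) :
    ((∀ m : ℤ, DCoh.IsPseudoCoherentD m E) ∧ DCoh.LocHasFiniteRelTorDim f E) ↔
      ∀ x : X, ∃ V : X.Opens, x ∈ V ∧ ∀ F : CochainComplex X.Modules ℤ, Nonempty (DCoh.toD X F ≅ E) →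
        ∃ (G : CochainComplex (V : Scheme.{u}).Modules ℤ) (a b : ℤ), DCoh.VanishesOutside G a b ∧
          (∀ i : ℤ, CohB1.IsFP (G.X i) ∧ FlatMod.IsFlatOver (V.ι ≫ f) (G.X i)) ∧
          Nonempty (DerivedCategory.Q.obj ((DCoh.restrictCx V).obj F) ≅ DerivedCategory.Q.obj G) := by
  constructor
  · rintro ⟨hpc, htor⟩ x
    exact Groth.Agent.Lib.Helper15.RelPerfLoc.exists_opens_of_rpAt f E x
      (Groth.Agent.Lib.Helper15.RelPerfLoc.rpAt_of_pc_of_locTor f E hpc htor x)
  · intro H
    obtain ⟨F₀, ⟨e₀⟩⟩ := Groth.Agent.Lib.Helper2.DCohBase.exists_rep E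
    choose V hxV hV using H
    choose G a b hG hterms hε using fun x => hV x F₀ ⟨e₀⟩
    have hrp : ∀ x : X, Groth.Agent.Lib.Helper15.RelPerfLoc.RPAt f E x := by
      intro x
      obtain ⟨ε⟩ := hε x
      exact ⟨(V x : Scheme.{u}), (V x).ι, inferInstance, ⟨⟨x, hxV x⟩, rfl⟩, G x, a x, b x, hG x,
        fun i => ⟨(hterms x i).1, (hterms x i).2⟩,
        ⟨(Groth.Agent.Lib.Helper2.DCohBase.resD (V x).ι).mapIso e₀.symm ≪≫
          Groth.Agent.Lib.Helper2.DCohPerf.resDQ (V x).ι F₀ ≪≫ ε⟩⟩
    refine ⟨fun m => ?_, fun x => ?_⟩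
    · exact (Groth.Agent.Lib.Helper2.DCohPC.isPseudoCoherentD_iff m E).2
        (fun x => Groth.Agent.Lib.Helper15.RelPerfSLZ.pcAt_of_rpAt f E x (hrp x) m)
    · obtain ⟨ε⟩ := hε x
      refine ⟨V x, a x, b x, hxV x, fun F' ⟨e'⟩ => ⟨G x, hG x, fun i => (hterms x i).2, ⟨?_⟩⟩⟩
      exact ε.symm ≪≫ Groth.Agent.Lib.Helper2.DCohBase.resQIso (V x).ι (e₀ ≪≫ e'.symm)

end Groth.Agent.S7275
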