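import Groth.Statements.S7287
import Groth.Agent.Lib.Helper73.DimFormula.RelMax

set_option autoImplicit false
open CategoryTheory CategoryTheory.Limits AlgebraicGeometry Opposite
universe u
open RelCyc

namespace Groth.Agent.S7287

/-- Let f from X to S be locally of finite type, r a natural number and g from S' to S a surjective
morphism. Let S'' be the fibre product of S' with itself over S (projections p, q), X' the base
change of X along g (structure map f', projection g' to X), and X'' the base change of X along S''
with structure map f'' and the two projections p', q' to X' lying over p and q and compatible with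
the projections to X. Let x be a point of X whose residue field has transcendence degree r over that
of f(x). If x1 and x2 are points of X' mapping to x whose residue fields have transcendence degree r
over those of their images in S', then there is a point of X'' whose residue field has transcendence
degree r over that of its image in S'' and whose two projections are x1 and x2. -/
theorem result {X S S' S'' X' X'' : Scheme.{u}}
    (f : X ⟶ S) [LocallyOfFiniteType f] (r : ℕ) (g : S' ⟶ S) [Surjective g]
    (p q : S'' ⟶ S') (hS : IsPullback p q g g)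
    (f' : X' ⟶ S') (g' : X' ⟶ X) (hX : IsPullback g' f' f g)
    (f'' : X'' ⟶ S'') (p' q' : X'' ⟶ X') (hp : IsPullback p' f'' f' p) (hq : IsPullback q' f'' f' q)
    (hpq : p' ≫ g' = q' ≫ g')
    (x : ↥X) (hx : Dual3.resTrdeg f x = r)
    (x₁ x₂ : ↥X') (h₁ : g'.base x₁ = x) (h₂ : g'.base x₂ = x)
    (hx₁ : Dual3.resTrdeg f' x₁ = r) (hx₂ : Dual3.resTrdeg f' x₂ = r) :
    ∃ x'' : ↥X'', Dual3.resTrdeg f'' x'' = r ∧ p'.base x'' = x₁ ∧ q'.base x'' = x₂ := by
  open Groth.Agent.Lib.Helper73 in
  have hlft' : LocallyOfFiniteType f' := locallyOfFiniteType_of_isPullback' f g g' f' hX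
  have hlft'' : LocallyOfFiniteType f'' := locallyOfFiniteType_of_isPullback' f' p p' f'' hp
  -- translate the hypotheses
  have hx' : resTrdegNat f x = r := by
    have h : resTrdeg f x = (r : Cardinal.{u}) := hx
    rw [resTrdeg_eq_resTrdegNat] at h
    exact_mod_cast h
  have hx₁' : resTrdegNat f' x₁ = r := by
    have h : resTrdeg f' x₁ = (r : Cardinal.{u}) := hx₁
    rw [resTrdeg_eq_resTrdegNat] at h
    exact_mod_cast h
  have hx₂' : resTrdegNat f' x₂ = r := by
    have h : resTrdeg f' x₂ = (r : Cardinal.{u}) := hx₂
    rw [resTrdeg_eq_resTrdegNat] at h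
    exact_mod_cast h
  -- `X'' = X' ×_X X'`
  have houter : IsPullback (p' ≫ f') q' g (g' ≫ f) := by
    have h1 : IsPullback q' (f'' ≫ p) (f' ≫ g) g := hq.paste_vert hS.flip
    have h2 := h1.flip
    rw [← hp.w, ← hX.w] at h2
    exact h2
  have hPB : IsPullback p' q' g' g' := IsPullback.of_right houter hpq hX.flip
  -- a point over `(x₁, x₂)`
  obtain ⟨y, hy₁, hy₂⟩ := Scheme.Pullback.exists_preimage_pullback (f := g') (g := g') x₁ x₂
    (h₁.trans h₂.symm)
  let e := hPB.isoPullback
  have he₁ : e.inv ≫ p' = pullback.fst g' g' := hPB.isoPullback_inv_fst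
  have he₂ : e.inv ≫ q' = pullback.snd g' g' := hPB.isoPullback_inv_snd
  set x₀ := e.inv y with hx₀
  have hx₀₁ : p' x₀ = x₁ := by
    rw [← hy₁, ← he₁]; rfl
  have hx₀₂ : q' x₀ = x₂ := by
    rw [← hy₂, ← he₂]; rfl
  -- a relatively maximal generization
  obtain ⟨x'', hsp, hf'', hp'', hmax⟩ := exists_relMaximal_specializes f' p p' f'' hp x₀
  have h3 := resTrdegNat_eq_of_isPullback_of_relMaximal f' p p' f'' hp x'' hmax
  rw [hp'', hx₀₁, hx₁'] at h3
  refine ⟨x'', ?_, hp''.trans hx₀₁, ?_⟩
  · show resTrdeg f'' x'' = (r : Cardinal.{u})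
    rw [resTrdeg_eq_resTrdegNat, h3]
  · -- `x₂` is relatively maximal for the square `hX`
    have hrel := relMaximal_of_resTrdegNat_eq f g g' f' hX x₂ (by rw [hx₂', h₂, hx'])
    apply hrel
    · rw [← hx₀₂]
      exact hsp.map q'.continuous
    · have e1 : f' (q' x'') = q (f'' x'') := by
        have := congrArg (fun φ => φ x'') hq.w
        simpa only [Scheme.Hom.comp_apply] using this
      have e2 : f' (q' x₀) = q (f'' x₀) := by
        have := congrArg (fun φ => φ x₀) hq.w
        simpa only [Scheme.Hom.comp_apply] using this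
      rw [e1, hf'', ← e2, hx₀₂]
    · have e1 : g' (q' x'') = g' (p' x'') := by
        have := congrArg (fun φ => φ x'') hpq
        simpa only [Scheme.Hom.comp_apply] using this.symm
      rw [e1, hp'', hx₀₁, h₁, h₂]

end Groth.Agent.S7287
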