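import Groth.Statements.S7288
import Groth.Agent.Lib.Helper82.EpsMod
import Groth.Agent.Lib.Helper82.WSerreImage

set_option autoImplicit false
open CategoryTheory CategoryTheory.Limits AlgebraicGeometry Opposite
universe u
open EtModW

namespace Groth.Agent.S7288

/-- Let X be a scheme and Λ a ring. The essential image of the pullback functor from sheaves of
Λ-modules on the small etale site of X to sheaves of Λ-modules on the small pro-etale site is a weak
Serre subcategory: the kernel and the cokernel of a morphism between objects of the essential image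
lie in it, and an extension of two objects of the essential image lies in it. (Continuity of the
inclusion of the etale site into the pro-etale site is carried as a binder.) -/
theorem result (Λ : Type (u + 1)) [CommRing Λ] (X : Scheme.{u})
    [ProEtS.EpsCont X] :
    (∀ (F G : EtModW.ModP Λ X) (φ : F ⟶ G), (EtModW.epsPullMod Λ X).essImage F →
      (EtModW.epsPullMod Λ X).essImage G →
        (EtModW.epsPullMod Λ X).essImage (kernel φ) ∧ (EtModW.epsPullMod Λ X).essImage (cokernel φ)) ∧
    ∀ (T : ShortComplex (EtModW.ModP Λ X)), T.ShortExact →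
      (EtModW.epsPullMod Λ X).essImage T.X₁ → (EtModW.epsPullMod Λ X).essImage T.X₃ →
        (EtModW.epsPullMod Λ X).essImage T.X₂ := by
  have hW : WSerre.IsWeakSerre (⊤ : ObjectProperty (EtModW.Mod Λ X)) :=
    { exists_zero := ⟨_, (HasZeroObject.zero (C := EtModW.Mod Λ X)).choose_spec, trivial⟩
      kernels_le := fun _ _ => trivial
      cokernels_le := fun _ _ => trivial
      prop_X₂_of_shortExact := fun _ _ _ => trivial }
  have key : ∀ F : EtModW.ModP Λ X, (EtModW.epsPullMod Λ X).essImage F ↔
      Groth.Agent.Lib.Helper82.WSerreImage.Im (L := EtModW.epsPullMod Λ X) ⊤ F := by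
    intro F
    constructor
    · rintro ⟨G, ⟨e⟩⟩
      exact ⟨G, trivial, ⟨e⟩⟩
    · rintro ⟨G, -, ⟨e⟩⟩
      exact ⟨G, ⟨e⟩⟩
  refine ⟨fun F G φ hF hG => ⟨?_, ?_⟩, fun T hT h₁ h₃ => ?_⟩
  · rw [key] at hF hG ⊢
    exact Groth.Agent.Lib.Helper82.WSerreImage.im_kernels
      (Groth.Agent.Lib.Helper82.EpsMod.adjM X Λ) ⊤ φ _ (limit.isLimit (parallelPair φ 0)) hF hG
  · rw [key] at hF hG ⊢
    exact Groth.Agent.Lib.Helper82.WSerreImage.im_cokernels
      (Groth.Agent.Lib.Helper82.EpsMod.adjM X Λ) ⊤ φ _ (colimit.isColimit (parallelPair φ 0)) hF hG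
  · rw [key] at h₁ h₃ ⊢
    refine Groth.Agent.Lib.Helper82.WSerreImage.im_extensions
      (Groth.Agent.Lib.Helper82.EpsMod.adjM X Λ) ⊤ ?_ hT h₁ h₃
    rintro T' hT' ⟨A, -, ⟨e⟩⟩
    exact Groth.Agent.Lib.Helper82.EpsMod.epi_pushM_map hT' A e

end Groth.Agent.S7288
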