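import Groth.Statements.S7290
import Mathlib.RingTheory.Spectrum.Prime.ConstructibleSet

set_option autoImplicit false
open CategoryTheory CategoryTheory.Limits AlgebraicGeometry Opposite
universe u
open ProEtW

namespace Groth.Agent.S7290

open PrimeSpectrum in
/-- Membership in a constructible subset of `Spec A` depends only on which elements of a suitable
finite set `E` lie in the prime. -/
lemma key (A : Type u) [CommRing A] (T : Set (PrimeSpectrum A)) (hT : Topology.IsConstructible T) :
    ∃ E : Finset A, ∀ y y' : PrimeSpectrum A,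
      (∀ f ∈ E, f ∈ y.asIdeal ↔ f ∈ y'.asIdeal) → y ∈ T → y' ∈ T := by
  classical
  obtain ⟨S, rfl⟩ := PrimeSpectrum.exists_constructibleSetData_iff.mpr hT
  refine ⟨S.biUnion (fun C => insert C.f (Finset.univ.image C.g)), ?_⟩
  intro y y' h hy
  simp only [ConstructibleSetData.toSet, Set.mem_iUnion, BasicConstructibleSetData.toSet,
    Set.mem_diff, mem_zeroLocus, Set.singleton_subset_iff, SetLike.mem_coe, exists_prop] at hy ⊢
  obtain ⟨C, hC, hg, hf⟩ := hy
  refine ⟨C, hC, ?_, ?_⟩
  · rintro _ ⟨j, rfl⟩
    refine (h (C.g j) ?_).mp (hg ⟨j, rfl⟩)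
    rw [Finset.mem_biUnion]
    exact ⟨C, hC, Finset.mem_insert_of_mem (Finset.mem_image_of_mem _ (Finset.mem_univ _))⟩
  · intro hf'
    refine hf ((h C.f ?_).mpr hf')
    rw [Finset.mem_biUnion]
    exact ⟨C, hC, Finset.mem_insert_self _ _⟩

/-- Let A be a ring and let Spec A be the disjoint union of finitely many constructible subsets T_i.
Then there is a finite subset E of A such that the stratification of Spec A according to which
elements of E vanish at a point refines the given one: each nonempty stratum, consisting of the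
primes whose intersection with E is a prescribed subset, is contained in one of the T_i. -/
theorem result (A : Type u) [CommRing A] {ι : Type u} [Finite ι]
    (T : ι → Set (PrimeSpectrum A)) (hT : ∀ i, Topology.IsConstructible (T i))
    (hcov : ⋃ i, T i = Set.univ) (hdisj : Pairwise fun i j => Disjoint (T i) (T j)) :
    ∃ E : Finset A, ∀ E'' : Finset A, E'' ⊆ E →
      ∀ x : PrimeSpectrum A, (∀ f ∈ E, f ∈ x.asIdeal ↔ f ∈ E'') →
        ∃ i, {y : PrimeSpectrum A | ∀ f ∈ E, f ∈ y.asIdeal ↔ f ∈ E''} ⊆ T i := by
  classical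
  haveI := Fintype.ofFinite ι
  choose E hE using fun i => key A (T i) (hT i)
  refine ⟨Finset.univ.biUnion E, ?_⟩
  intro E'' _ x hx
  have hxm : x ∈ ⋃ i, T i := by rw [hcov]; exact Set.mem_univ x
  obtain ⟨i, hi⟩ := Set.mem_iUnion.mp hxm
  refine ⟨i, ?_⟩
  intro y hy
  refine hE i x y ?_ hi
  intro f hf
  have hfE : f ∈ Finset.univ.biUnion E := by
    rw [Finset.mem_biUnion]
    exact ⟨i, Finset.mem_univ _, hf⟩
  rw [hx f hfE, hy f hfE]

end Groth.Agent.S7290
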