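import Groth.Statements.S7318
import Groth.Agent.Lib.Helper39.NumType
import Mathlib.Combinatorics.SimpleGraph.Acyclic
-- import your own Groth.Agent.* helpers here

set_option autoImplicit false
open Finset
open Models Models.NumericalType

namespace Groth.Agent.S7318

/-- For a numerical type T on n indices with e pairs i < j such that a_ij > 0, the topological genus 1 -
n + e is ≥ 0. -/
theorem result {n : ℕ} (T : Models.NumericalType n) : 0 ≤ T.topGenus := by
  classical
  let G : SimpleGraph (Fin n) :=
    { Adj := fun i j => i ≠ j ∧ 0 < T.a i j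
      symm := ⟨fun i j h => ⟨h.1.symm, by rw [Groth.Agent.Lib.Helper39.NT.symm' T j i]; exact h.2⟩⟩
      loopless := ⟨fun i h => h.1 rfl⟩ }
  have hconn : G.Connected := by
    rw [SimpleGraph.connected_iff_exists_forall_reachable]
    refine ⟨⟨0, T.pos⟩, fun w => ?_⟩
    by_contra hw
    set u : Fin n := ⟨0, T.pos⟩
    obtain ⟨i, hi, j, hj, hne⟩ := T.connected (univ.filter fun x => G.Reachable u x)
      ⟨u, by simp⟩ (by
        intro hh
        have : w ∈ univ.filter fun x => G.Reachable u x := by rw [hh]; exact mem_univ _
        simp at this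
        exact hw this)
    simp only [mem_filter, mem_univ, true_and] at hi hj
    have hij : i ≠ j := by rintro rfl; exact hj hi
    have hadj : G.Adj i j := ⟨hij, Groth.Agent.Lib.Helper39.NT.pos_of_ne T hij hne⟩
    exact hj (hi.trans hadj.reachable)
  have hcard := hconn.card_vert_le_card_edgeSet_add_one
  have hle : Nat.card G.edgeSet ≤ T.edgeCount := by
    rw [Nat.card_eq_fintype_card, ← SimpleGraph.edgeFinset_card]
    unfold Models.NumericalType.edgeCount
    apply Finset.card_le_card_of_surjOn (fun p : Fin n × Fin n => s(p.1, p.2))
    intro e he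
    induction e using Sym2.ind with
    | _ x y =>
      have hxy : G.Adj x y := by simpa using he
      rcases lt_or_gt_of_ne hxy.1 with hlt | hlt
      · exact ⟨(x, y), by simp [hlt, hxy.2], rfl⟩
      · refine ⟨(y, x), by simp [hlt, hxy.symm.2], ?_⟩
        exact Sym2.eq_swap
  have hn : Nat.card (Fin n) = n := by simp
  unfold Models.NumericalType.topGenus
  omega

end Groth.Agent.S7318
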