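import Groth.Statements.S7341
import Groth.Agent.Lib.Helper39.NumType
-- import your own Groth.Agent.* helpers here

set_option autoImplicit false
open Finset
open Models Models.NumericalType

namespace Groth.Agent.S7341

theorem aux {n : ℕ} (T : Models.NumericalType n) (hn : 3 < n) (v : Fin 3 ↪ Fin n)
    (hv : ∀ j, T.IsMinusTwo (v j)) (h01 : 0 < T.a (v 0) (v 1)) (h12 : 0 < T.a (v 1) (v 2)) :
    T.a (v 0) (v 2) = 0 ∧ ∃ (i' k' : Fin n) (w : ℤ), ((i' = v 0 ∧ k' = v 2) ∨ (i' = v 2 ∧ k' = v 0)) ∧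
      ((T.w i' = w ∧ T.w (v 1) = w ∧ T.w k' = w ∧ T.a i' (v 1) = w ∧ T.a (v 1) k' = w ∧
          T.m (v 1) ≤ 2 * T.m i' ∧ T.m i' + T.m k' ≤ 2 * T.m (v 1) ∧ T.m (v 1) ≤ 2 * T.m k') ∨
        (T.w i' = w ∧ T.w (v 1) = w ∧ T.w k' = 2 * w ∧ T.a i' (v 1) = w ∧ T.a (v 1) k' = 2 * w ∧
          T.m (v 1) ≤ 2 * T.m i' ∧ T.m i' + 2 * T.m k' ≤ 2 * T.m (v 1) ∧ T.m (v 1) ≤ 2 * T.m k') ∨
        (T.w i' = 2 * w ∧ T.w (v 1) = 2 * w ∧ T.w k' = w ∧ T.a i' (v 1) = 2 * w ∧ T.a (v 1) k' = 2 * w ∧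
          T.m (v 1) ≤ 2 * T.m i' ∧ T.m i' + T.m k' ≤ 2 * T.m (v 1) ∧ T.m (v 1) ≤ T.m k')) := by
  have hnn : ∀ s t : Fin 3, s ≠ t → 0 ≤ T.a (v s) (v t) := fun s t hst =>
    T.offDiag_nonneg _ _ (fun h => hst (v.injective h))
  have hdiag : ∀ s : Fin 3, T.a (v s) (v s) = -2 * T.w (v s) := fun s => (hv s).2
  have hsym : ∀ s t : Fin 3, T.a (v s) (v t) = T.a (v t) (v s) := fun s t =>
    Groth.Agent.Lib.Helper39.NT.symm' T _ _
  have hwp : ∀ s : Fin 3, 0 < T.w (v s) := fun s => T.w_pos _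
  have hmp : ∀ s : Fin 3, 0 < T.m (v s) := fun s => T.m_pos _
  have hdc : ∀ s t : Fin 3, 0 < T.a (v s) (v t) → (T.a (v s) (v t) = T.w (v s) ∨
      T.a (v s) (v t) = 2 * T.w (v s) ∨ T.a (v s) (v t) = 3 * T.w (v s) ∨
      4 * T.w (v s) ≤ T.a (v s) (v t)) := fun s t h =>
    Groth.Agent.Lib.Helper39.NT.dvd_cases (T.w_pos _) h (T.w_dvd _ _)
  have hlb : ∀ s t : Fin 3, 0 < T.a (v s) (v t) → T.w (v s) ≤ T.a (v s) (v t) := fun s t h =>
    Int.le_of_dvd h (T.w_dvd _ _)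
  have hd2 : ∀ s t : Fin 3, 0 < T.a (v s) (v t) → (T.a (v s) (v t) = T.w (v s) ∨
      2 * T.w (v s) ≤ T.a (v s) (v t)) := fun s t h => by
    rcases hdc s t h with h1 | h1 | h1 | h1
    · exact Or.inl h1
    · exact Or.inr (by linarith [hwp s])
    · exact Or.inr (by linarith [hwp s])
    · exact Or.inr (by linarith [hwp s])
  have hd3 : ∀ s t : Fin 3, 0 < T.a (v s) (v t) → (T.a (v s) (v t) = T.w (v s) ∨
      T.a (v s) (v t) = 2 * T.w (v s) ∨ 3 * T.w (v s) ≤ T.a (v s) (v t)) := fun s t h => by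
    rcases hdc s t h with h1 | h1 | h1 | h1
    · exact Or.inl h1
    · exact Or.inr (Or.inl h1)
    · exact Or.inr (Or.inr h1.ge)
    · exact Or.inr (Or.inr (by linarith [hwp s]))
  have hp_0_1 : 0 < T.a (v 0) (v 1) := h01
  have hp_1_0 : 0 < T.a (v 1) (v 0) := by rw [hsym 1 0]; exact hp_0_1
  have hl_0_1 := hlb 0 1 hp_0_1
  have hl_1_0 := hlb 1 0 hp_1_0
  have hp_1_2 : 0 < T.a (v 1) (v 2) := h12
  have hp_2_1 : 0 < T.a (v 2) (v 1) := by rw [hsym 2 1]; exact hp_1_2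
  have hl_1_2 := hlb 1 2 hp_1_2
  have hl_2_1 := hlb 2 1 hp_2_1
  have hz_0_2 : T.a (v 0) (v 2) = 0 := by
    by_contra hne
    have hq1 : 0 < T.a (v 0) (v 2) := lt_of_le_of_ne (hnn 0 2 (by decide)) (Ne.symm hne)
    have hq2 : 0 < T.a (v 2) (v 0) := by rw [hsym 2 0]; exact hq1
    have hr1 := hlb 0 2 hq1
    have hr2 := hlb 2 0 hq2
    refine Groth.Agent.Lib.Helper39.NT.cert T v hn ![1, 1, 1] (by decide) 0 (by decide) ?_
    intro s hs
    fin_cases s
    · simp [Fin.sum_univ_three]; linarith [hdiag 0, hl_0_1, hr1]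
    · simp [Fin.sum_univ_three]; linarith [hdiag 1, hl_1_0, hl_1_2]
    · simp [Fin.sum_univ_three]; linarith [hdiag 2, hr2, hl_2_1]
  have hz_2_0 : T.a (v 2) (v 0) = 0 := by rw [hsym 2 0]; exact hz_0_2
  refine ⟨hz_0_2, ?_⟩
  rcases hd3 0 1 hp_0_1 with hx_0_1 | hx_0_1 | hx_0_1
  · rcases hd3 1 0 hp_1_0 with hx_1_0 | hx_1_0 | hx_1_0
    · rcases hd3 1 2 hp_1_2 with hx_1_2 | hx_1_2 | hx_1_2
      · rcases hd3 2 1 hp_2_1 with hx_2_1 | hx_2_1 | hx_2_1
        · have cw_0 : T.w (v 0) = T.w (v 0) := by linarith [hx_0_1, hx_1_0, hsym 0 1, hx_1_2, hx_2_1, hsym 1 2]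
          have cw_1 : T.w (v 1) = T.w (v 0) := by linarith [hx_0_1, hx_1_0, hsym 0 1, hx_1_2, hx_2_1, hsym 1 2]
          have cw_2 : T.w (v 2) = T.w (v 0) := by linarith [hx_0_1, hx_1_0, hsym 0 1, hx_1_2, hx_2_1, hsym 1 2]
          have ca_0 : T.a (v 0) (v 1) = T.w (v 0) := by linarith [hx_0_1, hx_1_0, hsym 0 1, hx_1_2, hx_2_1, hsym 1 2]
          have ca_1 : T.a (v 1) (v 2) = T.w (v 0) := by linarith [hx_0_1, hx_1_0, hsym 0 1, hx_1_2, hx_2_1, hsym 1 2]
          have cm_0 : T.m (v 1) ≤ 2 * T.m (v 0) := by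
            have h := Groth.Agent.Lib.Helper39.NT.row_emb_le T v 0
            simp only [Fin.sum_univ_three] at h
            rw [show T.a (v 0) (v 0) = -2 * T.w (v 0) by linarith [hx_0_1, hx_1_0, hsym 0 1, hx_1_2, hx_2_1, hsym 1 2, hdiag 0], show T.a (v 0) (v 1) = 1 * T.w (v 0) by linarith [hx_0_1, hx_1_0, hsym 0 1, hx_1_2, hx_2_1, hsym 1 2, hdiag 0], show T.a (v 0) (v 2) = 0 * T.w (v 0) by linarith [hx_0_1, hx_1_0, hsym 0 1, hx_1_2, hx_2_1, hsym 1 2, hdiag 0, hz_0_2]] at h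
            have h2 : T.w (v 0) * (T.m (v 1)) ≤ T.w (v 0) * (2 * T.m (v 0)) := by linarith
            exact le_of_mul_le_mul_left h2 (hwp 0)
          have cm_1 : T.m (v 0) + T.m (v 2) ≤ 2 * T.m (v 1) := by
            have h := Groth.Agent.Lib.Helper39.NT.row_emb_le T v 1
            simp only [Fin.sum_univ_three] at h
            rw [show T.a (v 1) (v 0) = 1 * T.w (v 0) by linarith [hx_0_1, hx_1_0, hsym 0 1, hx_1_2, hx_2_1, hsym 1 2, hdiag 1], show T.a (v 1) (v 1) = -2 * T.w (v 0) by linarith [hx_0_1, hx_1_0, hsym 0 1, hx_1_2, hx_2_1, hsym 1 2, hdiag 1], show T.a (v 1) (v 2) = 1 * T.w (v 0) by linarith [hx_0_1, hx_1_0, hsym 0 1, hx_1_2, hx_2_1, hsym 1 2, hdiag 1]] at h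
            have h2 : T.w (v 0) * (T.m (v 0) + T.m (v 2)) ≤ T.w (v 0) * (2 * T.m (v 1)) := by linarith
            exact le_of_mul_le_mul_left h2 (hwp 0)
          have cm_2 : T.m (v 1) ≤ 2 * T.m (v 2) := by
            have h := Groth.Agent.Lib.Helper39.NT.row_emb_le T v 2
            simp only [Fin.sum_univ_three] at h
            rw [show T.a (v 2) (v 0) = 0 * T.w (v 0) by linarith [hx_0_1, hx_1_0, hsym 0 1, hx_1_2, hx_2_1, hsym 1 2, hdiag 2, hz_2_0], show T.a (v 2) (v 1) = 1 * T.w (v 0) by linarith [hx_0_1, hx_1_0, hsym 0 1, hx_1_2, hx_2_1, hsym 1 2, hdiag 2], show T.a (v 2) (v 2) = -2 * T.w (v 0) by linarith [hx_0_1, hx_1_0, hsym 0 1, hx_1_2, hx_2_1, hsym 1 2, hdiag 2]] at h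
            have h2 : T.w (v 0) * (T.m (v 1)) ≤ T.w (v 0) * (2 * T.m (v 2)) := by linarith
            exact le_of_mul_le_mul_left h2 (hwp 0)
          exact ⟨v 0, v 2, T.w (v 0), Or.inl ⟨rfl, rfl⟩, Or.inl ⟨cw_0, cw_1, cw_2, ca_0, ca_1, cm_0, cm_1, cm_2⟩⟩
        · have cw_0 : T.w (v 0) = 2 * T.w (v 2) := by linarith [hx_0_1, hx_1_0, hsym 0 1, hx_1_2, hx_2_1, hsym 1 2]
          have cw_1 : T.w (v 1) = 2 * T.w (v 2) := by linarith [hx_0_1, hx_1_0, hsym 0 1, hx_1_2, hx_2_1, hsym 1 2]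
          have cw_2 : T.w (v 2) = T.w (v 2) := by linarith [hx_0_1, hx_1_0, hsym 0 1, hx_1_2, hx_2_1, hsym 1 2]
          have ca_0 : T.a (v 0) (v 1) = 2 * T.w (v 2) := by linarith [hx_0_1, hx_1_0, hsym 0 1, hx_1_2, hx_2_1, hsym 1 2]
          have ca_1 : T.a (v 1) (v 2) = 2 * T.w (v 2) := by linarith [hx_0_1, hx_1_0, hsym 0 1, hx_1_2, hx_2_1, hsym 1 2]
          have cm_0 : T.m (v 1) ≤ 2 * T.m (v 0) := by
            have h := Groth.Agent.Lib.Helper39.NT.row_emb_le T v 0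
            simp only [Fin.sum_univ_three] at h
            rw [show T.a (v 0) (v 0) = -4 * T.w (v 2) by linarith [hx_0_1, hx_1_0, hsym 0 1, hx_1_2, hx_2_1, hsym 1 2, hdiag 0], show T.a (v 0) (v 1) = 2 * T.w (v 2) by linarith [hx_0_1, hx_1_0, hsym 0 1, hx_1_2, hx_2_1, hsym 1 2, hdiag 0], show T.a (v 0) (v 2) = 0 * T.w (v 2) by linarith [hx_0_1, hx_1_0, hsym 0 1, hx_1_2, hx_2_1, hsym 1 2, hdiag 0, hz_0_2]] at h
            have h2 : T.w (v 2) * (T.m (v 1)) ≤ T.w (v 2) * (2 * T.m (v 0)) := by linarith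
            exact le_of_mul_le_mul_left h2 (hwp 2)
          have cm_1 : T.m (v 0) + T.m (v 2) ≤ 2 * T.m (v 1) := by
            have h := Groth.Agent.Lib.Helper39.NT.row_emb_le T v 1
            simp only [Fin.sum_univ_three] at h
            rw [show T.a (v 1) (v 0) = 2 * T.w (v 2) by linarith [hx_0_1, hx_1_0, hsym 0 1, hx_1_2, hx_2_1, hsym 1 2, hdiag 1], show T.a (v 1) (v 1) = -4 * T.w (v 2) by linarith [hx_0_1, hx_1_0, hsym 0 1, hx_1_2, hx_2_1, hsym 1 2, hdiag 1], show T.a (v 1) (v 2) = 2 * T.w (v 2) by linarith [hx_0_1, hx_1_0, hsym 0 1, hx_1_2, hx_2_1, hsym 1 2, hdiag 1]] at h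
            have h2 : T.w (v 2) * (T.m (v 0) + T.m (v 2)) ≤ T.w (v 2) * (2 * T.m (v 1)) := by linarith
            exact le_of_mul_le_mul_left h2 (hwp 2)
          have cm_2 : T.m (v 1) ≤ T.m (v 2) := by
            have h := Groth.Agent.Lib.Helper39.NT.row_emb_le T v 2
            simp only [Fin.sum_univ_three] at h
            rw [show T.a (v 2) (v 0) = 0 * T.w (v 2) by linarith [hx_0_1, hx_1_0, hsym 0 1, hx_1_2, hx_2_1, hsym 1 2, hdiag 2, hz_2_0], show T.a (v 2) (v 1) = 2 * T.w (v 2) by linarith [hx_0_1, hx_1_0, hsym 0 1, hx_1_2, hx_2_1, hsym 1 2, hdiag 2], show T.a (v 2) (v 2) = -2 * T.w (v 2) by linarith [hx_0_1, hx_1_0, hsym 0 1, hx_1_2, hx_2_1, hsym 1 2, hdiag 2]] at h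
            have h2 : T.w (v 2) * (T.m (v 1)) ≤ T.w (v 2) * (T.m (v 2)) := by linarith
            exact le_of_mul_le_mul_left h2 (hwp 2)
          exact ⟨v 0, v 2, T.w (v 2), Or.inl ⟨rfl, rfl⟩, Or.inr (Or.inr (⟨cw_0, cw_1, cw_2, ca_0, ca_1, cm_0, cm_1, cm_2⟩))⟩
        · exfalso
          refine Groth.Agent.Lib.Helper39.NT.cert T v hn ![1, 2, 3] (by decide) 0 (by decide) ?_
          intro s hs
          fin_cases s
          · simp [Fin.sum_univ_three]; linarith [hdiag 0, hl_0_1, hnn 0 2 (by decide)]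
          · simp [Fin.sum_univ_three]; linarith [hdiag 1, hl_1_0, hl_1_2]
          · simp [Fin.sum_univ_three]; linarith [hdiag 2, hnn 2 0 (by decide), hx_2_1]
      · rcases hd3 2 1 hp_2_1 with hx_2_1 | hx_2_1 | hx_2_1
        · have cw_0 : T.w (v 0) = T.w (v 0) := by linarith [hx_0_1, hx_1_0, hsym 0 1, hx_1_2, hx_2_1, hsym 1 2]
          have cw_1 : T.w (v 1) = T.w (v 0) := by linarith [hx_0_1, hx_1_0, hsym 0 1, hx_1_2, hx_2_1, hsym 1 2]
          have cw_2 : T.w (v 2) = 2 * T.w (v 0) := by linarith [hx_0_1, hx_1_0, hsym 0 1, hx_1_2, hx_2_1, hsym 1 2]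
          have ca_0 : T.a (v 0) (v 1) = T.w (v 0) := by linarith [hx_0_1, hx_1_0, hsym 0 1, hx_1_2, hx_2_1, hsym 1 2]
          have ca_1 : T.a (v 1) (v 2) = 2 * T.w (v 0) := by linarith [hx_0_1, hx_1_0, hsym 0 1, hx_1_2, hx_2_1, hsym 1 2]
          have cm_0 : T.m (v 1) ≤ 2 * T.m (v 0) := by
            have h := Groth.Agent.Lib.Helper39.NT.row_emb_le T v 0
            simp only [Fin.sum_univ_three] at h
            rw [show T.a (v 0) (v 0) = -2 * T.w (v 0) by linarith [hx_0_1, hx_1_0, hsym 0 1, hx_1_2, hx_2_1, hsym 1 2, hdiag 0], show T.a (v 0) (v 1) = 1 * T.w (v 0) by linarith [hx_0_1, hx_1_0, hsym 0 1, hx_1_2, hx_2_1, hsym 1 2, hdiag 0], show T.a (v 0) (v 2) = 0 * T.w (v 0) by linarith [hx_0_1, hx_1_0, hsym 0 1, hx_1_2, hx_2_1, hsym 1 2, hdiag 0, hz_0_2]] at h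
            have h2 : T.w (v 0) * (T.m (v 1)) ≤ T.w (v 0) * (2 * T.m (v 0)) := by linarith
            exact le_of_mul_le_mul_left h2 (hwp 0)
          have cm_1 : T.m (v 0) + 2 * T.m (v 2) ≤ 2 * T.m (v 1) := by
            have h := Groth.Agent.Lib.Helper39.NT.row_emb_le T v 1
            simp only [Fin.sum_univ_three] at h
            rw [show T.a (v 1) (v 0) = 1 * T.w (v 0) by linarith [hx_0_1, hx_1_0, hsym 0 1, hx_1_2, hx_2_1, hsym 1 2, hdiag 1], show T.a (v 1) (v 1) = -2 * T.w (v 0) by linarith [hx_0_1, hx_1_0, hsym 0 1, hx_1_2, hx_2_1, hsym 1 2, hdiag 1], show T.a (v 1) (v 2) = 2 * T.w (v 0) by linarith [hx_0_1, hx_1_0, hsym 0 1, hx_1_2, hx_2_1, hsym 1 2, hdiag 1]] at h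
            have h2 : T.w (v 0) * (T.m (v 0) + 2 * T.m (v 2)) ≤ T.w (v 0) * (2 * T.m (v 1)) := by linarith
            exact le_of_mul_le_mul_left h2 (hwp 0)
          have cm_2 : T.m (v 1) ≤ 2 * T.m (v 2) := by
            have h := Groth.Agent.Lib.Helper39.NT.row_emb_le T v 2
            simp only [Fin.sum_univ_three] at h
            rw [show T.a (v 2) (v 0) = 0 * T.w (v 0) by linarith [hx_0_1, hx_1_0, hsym 0 1, hx_1_2, hx_2_1, hsym 1 2, hdiag 2, hz_2_0], show T.a (v 2) (v 1) = 2 * T.w (v 0) by linarith [hx_0_1, hx_1_0, hsym 0 1, hx_1_2, hx_2_1, hsym 1 2, hdiag 2], show T.a (v 2) (v 2) = -4 * T.w (v 0) by linarith [hx_0_1, hx_1_0, hsym 0 1, hx_1_2, hx_2_1, hsym 1 2, hdiag 2]] at h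
            have h2 : T.w (v 0) * (T.m (v 1)) ≤ T.w (v 0) * (2 * T.m (v 2)) := by linarith
            exact le_of_mul_le_mul_left h2 (hwp 0)
          exact ⟨v 0, v 2, T.w (v 0), Or.inl ⟨rfl, rfl⟩, Or.inr (Or.inl ⟨cw_0, cw_1, cw_2, ca_0, ca_1, cm_0, cm_1, cm_2⟩)⟩
        · exfalso
          refine Groth.Agent.Lib.Helper39.NT.cert T v hn ![0, 1, 1] (by decide) 1 (by decide) ?_
          intro s hs
          fin_cases s
          · simp at hs
          · simp [Fin.sum_univ_three]; linarith [hdiag 1, hx_1_2.ge]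
          · simp [Fin.sum_univ_three]; linarith [hdiag 2, hx_2_1.ge]
        · exfalso
          refine Groth.Agent.Lib.Helper39.NT.cert T v hn ![0, 1, 1] (by decide) 1 (by decide) ?_
          intro s hs
          fin_cases s
          · simp at hs
          · simp [Fin.sum_univ_three]; linarith [hdiag 1, hx_1_2.ge]
          · simp [Fin.sum_univ_three]; linarith [hdiag 2, hx_2_1]
      · exfalso
        refine Groth.Agent.Lib.Helper39.NT.cert T v hn ![1, 2, 1] (by decide) 0 (by decide) ?_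
        intro s hs
        fin_cases s
        · simp [Fin.sum_univ_three]; linarith [hdiag 0, hl_0_1, hnn 0 2 (by decide)]
        · simp [Fin.sum_univ_three]; linarith [hdiag 1, hl_1_0, hx_1_2]
        · simp [Fin.sum_univ_three]; linarith [hdiag 2, hnn 2 0 (by decide), hl_2_1]
    · rcases hd3 1 2 hp_1_2 with hx_1_2 | hx_1_2 | hx_1_2
      · rcases hd3 2 1 hp_2_1 with hx_2_1 | hx_2_1 | hx_2_1
        · have cw_0 : T.w (v 2) = T.w (v 1) := by linarith [hx_0_1, hx_1_0, hsym 0 1, hx_1_2, hx_2_1, hsym 1 2]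
          have cw_1 : T.w (v 1) = T.w (v 1) := by linarith [hx_0_1, hx_1_0, hsym 0 1, hx_1_2, hx_2_1, hsym 1 2]
          have cw_2 : T.w (v 0) = 2 * T.w (v 1) := by linarith [hx_0_1, hx_1_0, hsym 0 1, hx_1_2, hx_2_1, hsym 1 2]
          have ca_0 : T.a (v 2) (v 1) = T.w (v 1) := by linarith [hx_0_1, hx_1_0, hsym 0 1, hx_1_2, hx_2_1, hsym 1 2]
          have ca_1 : T.a (v 1) (v 0) = 2 * T.w (v 1) := by linarith [hx_0_1, hx_1_0, hsym 0 1, hx_1_2, hx_2_1, hsym 1 2]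
          have cm_0 : T.m (v 1) ≤ 2 * T.m (v 2) := by
            have h := Groth.Agent.Lib.Helper39.NT.row_emb_le T v 2
            simp only [Fin.sum_univ_three] at h
            rw [show T.a (v 2) (v 0) = 0 * T.w (v 1) by linarith [hx_0_1, hx_1_0, hsym 0 1, hx_1_2, hx_2_1, hsym 1 2, hdiag 2, hz_2_0], show T.a (v 2) (v 1) = 1 * T.w (v 1) by linarith [hx_0_1, hx_1_0, hsym 0 1, hx_1_2, hx_2_1, hsym 1 2, hdiag 2], show T.a (v 2) (v 2) = -2 * T.w (v 1) by linarith [hx_0_1, hx_1_0, hsym 0 1, hx_1_2, hx_2_1, hsym 1 2, hdiag 2]] at h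
            have h2 : T.w (v 1) * (T.m (v 1)) ≤ T.w (v 1) * (2 * T.m (v 2)) := by linarith
            exact le_of_mul_le_mul_left h2 (hwp 1)
          have cm_1 : T.m (v 2) + 2 * T.m (v 0) ≤ 2 * T.m (v 1) := by
            have h := Groth.Agent.Lib.Helper39.NT.row_emb_le T v 1
            simp only [Fin.sum_univ_three] at h
            rw [show T.a (v 1) (v 0) = 2 * T.w (v 1) by linarith [hx_0_1, hx_1_0, hsym 0 1, hx_1_2, hx_2_1, hsym 1 2, hdiag 1], show T.a (v 1) (v 1) = -2 * T.w (v 1) by linarith [hx_0_1, hx_1_0, hsym 0 1, hx_1_2, hx_2_1, hsym 1 2, hdiag 1], show T.a (v 1) (v 2) = 1 * T.w (v 1) by linarith [hx_0_1, hx_1_0, hsym 0 1, hx_1_2, hx_2_1, hsym 1 2, hdiag 1]] at h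
            have h2 : T.w (v 1) * (T.m (v 2) + 2 * T.m (v 0)) ≤ T.w (v 1) * (2 * T.m (v 1)) := by linarith
            exact le_of_mul_le_mul_left h2 (hwp 1)
          have cm_2 : T.m (v 1) ≤ 2 * T.m (v 0) := by
            have h := Groth.Agent.Lib.Helper39.NT.row_emb_le T v 0
            simp only [Fin.sum_univ_three] at h
            rw [show T.a (v 0) (v 0) = -4 * T.w (v 1) by linarith [hx_0_1, hx_1_0, hsym 0 1, hx_1_2, hx_2_1, hsym 1 2, hdiag 0], show T.a (v 0) (v 1) = 2 * T.w (v 1) by linarith [hx_0_1, hx_1_0, hsym 0 1, hx_1_2, hx_2_1, hsym 1 2, hdiag 0], show T.a (v 0) (v 2) = 0 * T.w (v 1) by linarith [hx_0_1, hx_1_0, hsym 0 1, hx_1_2, hx_2_1, hsym 1 2, hdiag 0, hz_0_2]] at h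
            have h2 : T.w (v 1) * (T.m (v 1)) ≤ T.w (v 1) * (2 * T.m (v 0)) := by linarith
            exact le_of_mul_le_mul_left h2 (hwp 1)
          exact ⟨v 2, v 0, T.w (v 1), Or.inr ⟨rfl, rfl⟩, Or.inr (Or.inl ⟨cw_0, cw_1, cw_2, ca_0, ca_1, cm_0, cm_1, cm_2⟩)⟩
        · exfalso
          refine Groth.Agent.Lib.Helper39.NT.cert T v hn ![1, 2, 2] (by decide) 0 (by decide) ?_
          intro s hs
          fin_cases s
          · simp [Fin.sum_univ_three]; linarith [hdiag 0, hl_0_1, hnn 0 2 (by decide)]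
          · simp [Fin.sum_univ_three]; linarith [hdiag 1, hx_1_0.ge, hl_1_2]
          · simp [Fin.sum_univ_three]; linarith [hdiag 2, hnn 2 0 (by decide), hx_2_1.ge]
        · exfalso
          refine Groth.Agent.Lib.Helper39.NT.cert T v hn ![1, 2, 2] (by decide) 0 (by decide) ?_
          intro s hs
          fin_cases s
          · simp [Fin.sum_univ_three]; linarith [hdiag 0, hl_0_1, hnn 0 2 (by decide)]
          · simp [Fin.sum_univ_three]; linarith [hdiag 1, hx_1_0.ge, hl_1_2]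
          · simp [Fin.sum_univ_three]; linarith [hdiag 2, hnn 2 0 (by decide), hx_2_1]
      · exfalso
        refine Groth.Agent.Lib.Helper39.NT.cert T v hn ![1, 2, 1] (by decide) 0 (by decide) ?_
        intro s hs
        fin_cases s
        · simp [Fin.sum_univ_three]; linarith [hdiag 0, hl_0_1, hnn 0 2 (by decide)]
        · simp [Fin.sum_univ_three]; linarith [hdiag 1, hx_1_0.ge, hx_1_2.ge]
        · simp [Fin.sum_univ_three]; linarith [hdiag 2, hnn 2 0 (by decide), hl_2_1]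
      · exfalso
        refine Groth.Agent.Lib.Helper39.NT.cert T v hn ![1, 2, 1] (by decide) 0 (by decide) ?_
        intro s hs
        fin_cases s
        · simp [Fin.sum_univ_three]; linarith [hdiag 0, hl_0_1, hnn 0 2 (by decide)]
        · simp [Fin.sum_univ_three]; linarith [hdiag 1, hx_1_0.ge, hx_1_2]
        · simp [Fin.sum_univ_three]; linarith [hdiag 2, hnn 2 0 (by decide), hl_2_1]
    · exfalso
      refine Groth.Agent.Lib.Helper39.NT.cert T v hn ![1, 2, 1] (by decide) 0 (by decide) ?_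
      intro s hs
      fin_cases s
      · simp [Fin.sum_univ_three]; linarith [hdiag 0, hl_0_1, hnn 0 2 (by decide)]
      · simp [Fin.sum_univ_three]; linarith [hdiag 1, hx_1_0, hl_1_2]
      · simp [Fin.sum_univ_three]; linarith [hdiag 2, hnn 2 0 (by decide), hl_2_1]
  · rcases hd3 1 0 hp_1_0 with hx_1_0 | hx_1_0 | hx_1_0
    · rcases hd3 1 2 hp_1_2 with hx_1_2 | hx_1_2 | hx_1_2
      · rcases hd3 2 1 hp_2_1 with hx_2_1 | hx_2_1 | hx_2_1
        · have cw_0 : T.w (v 2) = 2 * T.w (v 0) := by linarith [hx_0_1, hx_1_0, hsym 0 1, hx_1_2, hx_2_1, hsym 1 2]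
          have cw_1 : T.w (v 1) = 2 * T.w (v 0) := by linarith [hx_0_1, hx_1_0, hsym 0 1, hx_1_2, hx_2_1, hsym 1 2]
          have cw_2 : T.w (v 0) = T.w (v 0) := by linarith [hx_0_1, hx_1_0, hsym 0 1, hx_1_2, hx_2_1, hsym 1 2]
          have ca_0 : T.a (v 2) (v 1) = 2 * T.w (v 0) := by linarith [hx_0_1, hx_1_0, hsym 0 1, hx_1_2, hx_2_1, hsym 1 2]
          have ca_1 : T.a (v 1) (v 0) = 2 * T.w (v 0) := by linarith [hx_0_1, hx_1_0, hsym 0 1, hx_1_2, hx_2_1, hsym 1 2]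
          have cm_0 : T.m (v 1) ≤ 2 * T.m (v 2) := by
            have h := Groth.Agent.Lib.Helper39.NT.row_emb_le T v 2
            simp only [Fin.sum_univ_three] at h
            rw [show T.a (v 2) (v 0) = 0 * T.w (v 0) by linarith [hx_0_1, hx_1_0, hsym 0 1, hx_1_2, hx_2_1, hsym 1 2, hdiag 2, hz_2_0], show T.a (v 2) (v 1) = 2 * T.w (v 0) by linarith [hx_0_1, hx_1_0, hsym 0 1, hx_1_2, hx_2_1, hsym 1 2, hdiag 2], show T.a (v 2) (v 2) = -4 * T.w (v 0) by linarith [hx_0_1, hx_1_0, hsym 0 1, hx_1_2, hx_2_1, hsym 1 2, hdiag 2]] at h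
            have h2 : T.w (v 0) * (T.m (v 1)) ≤ T.w (v 0) * (2 * T.m (v 2)) := by linarith
            exact le_of_mul_le_mul_left h2 (hwp 0)
          have cm_1 : T.m (v 2) + T.m (v 0) ≤ 2 * T.m (v 1) := by
            have h := Groth.Agent.Lib.Helper39.NT.row_emb_le T v 1
            simp only [Fin.sum_univ_three] at h
            rw [show T.a (v 1) (v 0) = 2 * T.w (v 0) by linarith [hx_0_1, hx_1_0, hsym 0 1, hx_1_2, hx_2_1, hsym 1 2, hdiag 1], show T.a (v 1) (v 1) = -4 * T.w (v 0) by linarith [hx_0_1, hx_1_0, hsym 0 1, hx_1_2, hx_2_1, hsym 1 2, hdiag 1], show T.a (v 1) (v 2) = 2 * T.w (v 0) by linarith [hx_0_1, hx_1_0, hsym 0 1, hx_1_2, hx_2_1, hsym 1 2, hdiag 1]] at h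
            have h2 : T.w (v 0) * (T.m (v 2) + T.m (v 0)) ≤ T.w (v 0) * (2 * T.m (v 1)) := by linarith
            exact le_of_mul_le_mul_left h2 (hwp 0)
          have cm_2 : T.m (v 1) ≤ T.m (v 0) := by
            have h := Groth.Agent.Lib.Helper39.NT.row_emb_le T v 0
            simp only [Fin.sum_univ_three] at h
            rw [show T.a (v 0) (v 0) = -2 * T.w (v 0) by linarith [hx_0_1, hx_1_0, hsym 0 1, hx_1_2, hx_2_1, hsym 1 2, hdiag 0], show T.a (v 0) (v 1) = 2 * T.w (v 0) by linarith [hx_0_1, hx_1_0, hsym 0 1, hx_1_2, hx_2_1, hsym 1 2, hdiag 0], show T.a (v 0) (v 2) = 0 * T.w (v 0) by linarith [hx_0_1, hx_1_0, hsym 0 1, hx_1_2, hx_2_1, hsym 1 2, hdiag 0, hz_0_2]] at h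
            have h2 : T.w (v 0) * (T.m (v 1)) ≤ T.w (v 0) * (T.m (v 0)) := by linarith
            exact le_of_mul_le_mul_left h2 (hwp 0)
          exact ⟨v 2, v 0, T.w (v 0), Or.inr ⟨rfl, rfl⟩, Or.inr (Or.inr (⟨cw_0, cw_1, cw_2, ca_0, ca_1, cm_0, cm_1, cm_2⟩))⟩
        · exfalso
          refine Groth.Agent.Lib.Helper39.NT.cert T v hn ![1, 1, 1] (by decide) 0 (by decide) ?_
          intro s hs
          fin_cases s
          · simp [Fin.sum_univ_three]; linarith [hdiag 0, hx_0_1.ge, hnn 0 2 (by decide)]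
          · simp [Fin.sum_univ_three]; linarith [hdiag 1, hl_1_0, hl_1_2]
          · simp [Fin.sum_univ_three]; linarith [hdiag 2, hnn 2 0 (by decide), hx_2_1.ge]
        · exfalso
          refine Groth.Agent.Lib.Helper39.NT.cert T v hn ![1, 1, 1] (by decide) 0 (by decide) ?_
          intro s hs
          fin_cases s
          · simp [Fin.sum_univ_three]; linarith [hdiag 0, hx_0_1.ge, hnn 0 2 (by decide)]
          · simp [Fin.sum_univ_three]; linarith [hdiag 1, hl_1_0, hl_1_2]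
          · simp [Fin.sum_univ_three]; linarith [hdiag 2, hnn 2 0 (by decide), hx_2_1]
      · exfalso
        refine Groth.Agent.Lib.Helper39.NT.cert T v hn ![2, 2, 1] (by decide) 0 (by decide) ?_
        intro s hs
        fin_cases s
        · simp [Fin.sum_univ_three]; linarith [hdiag 0, hx_0_1.ge, hnn 0 2 (by decide)]
        · simp [Fin.sum_univ_three]; linarith [hdiag 1, hl_1_0, hx_1_2.ge]
        · simp [Fin.sum_univ_three]; linarith [hdiag 2, hnn 2 0 (by decide), hl_2_1]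
      · exfalso
        refine Groth.Agent.Lib.Helper39.NT.cert T v hn ![1, 2, 1] (by decide) 0 (by decide) ?_
        intro s hs
        fin_cases s
        · simp [Fin.sum_univ_three]; linarith [hdiag 0, hx_0_1.ge, hnn 0 2 (by decide)]
        · simp [Fin.sum_univ_three]; linarith [hdiag 1, hl_1_0, hx_1_2]
        · simp [Fin.sum_univ_three]; linarith [hdiag 2, hnn 2 0 (by decide), hl_2_1]
    · exfalso
      refine Groth.Agent.Lib.Helper39.NT.cert T v hn ![1, 1, 0] (by decide) 0 (by decide) ?_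
      intro s hs
      fin_cases s
      · simp [Fin.sum_univ_three]; linarith [hdiag 0, hx_0_1.ge]
      · simp [Fin.sum_univ_three]; linarith [hdiag 1, hx_1_0.ge]
      · simp at hs
    · exfalso
      refine Groth.Agent.Lib.Helper39.NT.cert T v hn ![1, 1, 0] (by decide) 0 (by decide) ?_
      intro s hs
      fin_cases s
      · simp [Fin.sum_univ_three]; linarith [hdiag 0, hx_0_1.ge]
      · simp [Fin.sum_univ_three]; linarith [hdiag 1, hx_1_0]
      · simp at hs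
  · exfalso
    refine Groth.Agent.Lib.Helper39.NT.cert T v hn ![3, 2, 1] (by decide) 0 (by decide) ?_
    intro s hs
    fin_cases s
    · simp [Fin.sum_univ_three]; linarith [hdiag 0, hx_0_1, hnn 0 2 (by decide)]
    · simp [Fin.sum_univ_three]; linarith [hdiag 1, hl_1_0, hl_1_2]
    · simp [Fin.sum_univ_three]; linarith [hdiag 2, hnn 2 0 (by decide), hl_2_1]

/-- Classification of proper subgraphs which are chains of three vertices: let T be a numerical type on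
n > 3 indices and i, j, k distinct (-2)-indices with a_ij > 0 and a_jk > 0. Then a_ik = 0 and, up to
reversing the order of i, j, k, one of the following holds for some integer w: (A3) w_i = w_j = w_k
= w, a_ij = a_jk = w, with 2 m_i ≥ m_j, 2 m_j ≥ m_i + m_k, 2 m_k ≥ m_j; (C3) w_i = w_j = w, w_k =
2w, a_ij = w, a_jk = 2w, with 2 m_i ≥ m_j, 2 m_j ≥ m_i + 2 m_k, 2 m_k ≥ m_j; (B3) w_i = w_j = 2w,
w_k = w, a_ij = a_jk = 2w, with 2 m_i ≥ m_j, 2 m_j ≥ m_i + m_k, m_k ≥ m_j. -/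
theorem result {n : ℕ} (T : Models.NumericalType n) (hn : 3 < n) (i j k : Fin n)
    (hij : i ≠ j) (hjk : j ≠ k) (hik : i ≠ k) (hi : T.IsMinusTwo i) (hj : T.IsMinusTwo j) (hk : T.IsMinusTwo k)
    (h1 : 0 < T.a i j) (h2 : 0 < T.a j k) :
    T.a i k = 0 ∧ ∃ (i' k' : Fin n) (w : ℤ), ((i' = i ∧ k' = k) ∨ (i' = k ∧ k' = i)) ∧
      ((T.w i' = w ∧ T.w j = w ∧ T.w k' = w ∧ T.a i' j = w ∧ T.a j k' = w ∧
          T.m j ≤ 2 * T.m i' ∧ T.m i' + T.m k' ≤ 2 * T.m j ∧ T.m j ≤ 2 * T.m k') ∨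
        (T.w i' = w ∧ T.w j = w ∧ T.w k' = 2 * w ∧ T.a i' j = w ∧ T.a j k' = 2 * w ∧
          T.m j ≤ 2 * T.m i' ∧ T.m i' + 2 * T.m k' ≤ 2 * T.m j ∧ T.m j ≤ 2 * T.m k') ∨
        (T.w i' = 2 * w ∧ T.w j = 2 * w ∧ T.w k' = w ∧ T.a i' j = 2 * w ∧ T.a j k' = 2 * w ∧
          T.m j ≤ 2 * T.m i' ∧ T.m i' + T.m k' ≤ 2 * T.m j ∧ T.m j ≤ T.m k')) := by
  have hinj : Function.Injective ![i, j, k] := by
    intro a b hab
    fin_cases a <;> fin_cases b <;> simp_all
  have hv' : ∀ t, T.IsMinusTwo ((⟨![i, j, k], hinj⟩ : Fin 3 ↪ Fin n) t) := by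
    intro t
    fin_cases t
    · exact hi
    · exact hj
    · exact hk
  exact aux T hn ⟨![i, j, k], hinj⟩ hv' h1 h2

end Groth.Agent.S7341
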