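import Groth.Statements.S7342
import Groth.Agent.Lib.Helper39.NumType
-- import your own Groth.Agent.* helpers here

set_option autoImplicit false
open Finset
open Models Models.NumericalType

namespace Groth.Agent.S7342

/-- Let T be a numerical type on n indices, t ≥ 4 and n > t + 2. Then no t + 2 (-2)-indices of T,
pairwise distinct and numbered i_0, …, i_{t+1}, satisfy: a_{i_j i_{j+1}} > 0 for 1 ≤ j ≤ t - 1,
a_{i_0 i_2} > 0 and a_{i_{t-1} i_{t+1}} > 0. -/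
theorem result {n : ℕ} (T : Models.NumericalType n) (t : ℕ) (ht : 4 ≤ t) (hn : t + 2 < n)
    (v : Fin (t + 2) ↪ Fin n) (hv : ∀ j, T.IsMinusTwo (v j))
    (hchain : ∀ j j' : Fin (t + 2), 1 ≤ j.val → j.val + 1 ≤ t → j'.val = j.val + 1 → 0 < T.a (v j) (v j'))
    (h02 : ∀ j j' : Fin (t + 2), j.val = 0 → j'.val = 2 → 0 < T.a (v j) (v j'))
    (hlast : ∀ j j' : Fin (t + 2), j.val = t - 1 → j'.val = t + 1 → 0 < T.a (v j) (v j')) : False := by
  classical
  let c : Fin (t + 2) → ℤ := fun x =>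
    if x.val = 0 ∨ x.val = 1 ∨ x.val = t ∨ x.val = t + 1 then 1 else 2
  have hc1 : ∀ x : Fin (t + 2), (x.val = 0 ∨ x.val = 1 ∨ x.val = t ∨ x.val = t + 1) → c x = 1 :=
    fun x hx => if_pos hx
  have hc2 : ∀ x : Fin (t + 2), 2 ≤ x.val → x.val ≤ t - 1 → c x = 2 :=
    fun x h1 h2 => if_neg (by omega)
  have hc : ∀ x, 0 ≤ c x := fun x => by
    by_cases hx : x.val = 0 ∨ x.val = 1 ∨ x.val = t ∨ x.val = t + 1
    · rw [hc1 x hx]; norm_num
    · have : c x = 2 := if_neg hx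
      rw [this]; norm_num
  have hsym : ∀ a b : Fin (t + 2), T.a (v a) (v b) = T.a (v b) (v a) := fun a b =>
    Groth.Agent.Lib.Helper39.NT.symm' T _ _
  have hdiag : ∀ s, T.a (v s) (v s) = -2 * T.w (v s) := fun s => (hv s).2
  have hlb : ∀ a b : Fin (t + 2), 0 < T.a (v a) (v b) → T.w (v a) ≤ T.a (v a) (v b) :=
    fun a b h => Int.le_of_dvd h (T.w_dvd _ _)
  have hlb' : ∀ a b : Fin (t + 2), 0 < T.a (v b) (v a) → T.w (v a) ≤ T.a (v a) (v b) :=
    fun a b h => hlb a b (by rw [hsym]; exact h)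
  have hne : ∀ a b : Fin (t + 2), a.val ≠ b.val → a ≠ b := fun a b h hab => h (by rw [hab])
  refine Groth.Agent.Lib.Helper39.NT.cert T v hn c hc ⟨0, by omega⟩
    (by rw [hc1 _ (Or.inl rfl)]; norm_num) ?_
  intro s _
  obtain ⟨sv, hsv⟩ := s
  have hcases : sv = 0 ∨ sv = 1 ∨ sv = 2 ∨ (3 ≤ sv ∧ sv ≤ t - 2) ∨ sv = t - 1 ∨ sv = t ∨
      sv = t + 1 := by omega
  rcases hcases with h | h | h | h | h | h | h
  · subst h
    have hx : (2 : ℕ) < t + 2 := by omega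
    have h := Groth.Agent.Lib.Helper39.NT.sum_ge_one T v c hc ⟨0, hsv⟩ ⟨2, hx⟩
      (hne _ _ (by simp))
    rw [hdiag, hc1 ⟨0, hsv⟩ (Or.inl rfl), hc2 ⟨2, hx⟩ (le_refl _) (by first | (simp; omega) | simp)] at h
    have e := hlb ⟨0, hsv⟩ ⟨2, hx⟩ (h02 _ _ rfl rfl)
    linarith
  · subst h
    have hx : (2 : ℕ) < t + 2 := by omega
    have h := Groth.Agent.Lib.Helper39.NT.sum_ge_one T v c hc ⟨1, hsv⟩ ⟨2, hx⟩
      (hne _ _ (by simp))
    rw [hdiag, hc1 ⟨1, hsv⟩ (Or.inr (Or.inl rfl)), hc2 ⟨2, hx⟩ (le_refl _) (by first | (simp; omega) | simp)] at h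
    have e := hlb ⟨1, hsv⟩ ⟨2, hx⟩ (hchain _ _ (le_refl _) (by first | (simp; omega) | simp) rfl)
    linarith
  · subst h
    have hx : (0 : ℕ) < t + 2 := by omega
    have hy : (1 : ℕ) < t + 2 := by omega
    have hz : (3 : ℕ) < t + 2 := by omega
    have h := Groth.Agent.Lib.Helper39.NT.sum_ge_three T v c hc ⟨2, hsv⟩ ⟨0, hx⟩ ⟨1, hy⟩ ⟨3, hz⟩
      (hne _ _ (by simp)) (hne _ _ (by simp)) (hne _ _ (by simp)) (hne _ _ (by simp))
      (hne _ _ (by simp)) (hne _ _ (by simp))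
    rw [hdiag, hc2 ⟨2, hsv⟩ (le_refl _) (by first | (simp; omega) | simp), hc1 ⟨0, hx⟩ (Or.inl rfl),
      hc1 ⟨1, hy⟩ (Or.inr (Or.inl rfl)), hc2 ⟨3, hz⟩ (by simp) (by first | (simp; omega) | simp)] at h
    have e1 := hlb' ⟨2, hsv⟩ ⟨0, hx⟩ (h02 _ _ rfl rfl)
    have e2 := hlb' ⟨2, hsv⟩ ⟨1, hy⟩ (hchain _ _ (le_refl _) (by first | (simp; omega) | simp) rfl)
    have e3 := hlb ⟨2, hsv⟩ ⟨3, hz⟩ (hchain _ _ (by simp) (by first | (simp; omega) | simp) rfl)
    linarith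
  · obtain ⟨h3, h4⟩ := h
    have hx : sv - 1 < t + 2 := by omega
    have hy : sv + 1 < t + 2 := by omega
    have h := Groth.Agent.Lib.Helper39.NT.sum_ge_two T v c hc ⟨sv, hsv⟩ ⟨sv - 1, hx⟩ ⟨sv + 1, hy⟩
      (hne _ _ (by first | (simp; omega) | simp)) (hne _ _ (by simp)) (hne _ _ (by first | (simp; omega) | simp))
    rw [hdiag, hc2 ⟨sv, hsv⟩ (by first | (simp; omega) | simp) (by first | (simp; omega) | simp),
      hc2 ⟨sv - 1, hx⟩ (by first | (simp; omega) | simp) (by first | (simp; omega) | simp),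
      hc2 ⟨sv + 1, hy⟩ (by first | (simp; omega) | simp) (by first | (simp; omega) | simp)] at h
    have e1 := hlb' ⟨sv, hsv⟩ ⟨sv - 1, hx⟩
      (hchain _ _ (by first | (simp; omega) | simp) (by first | (simp; omega) | simp) (by first | (simp; omega) | simp))
    have e2 := hlb ⟨sv, hsv⟩ ⟨sv + 1, hy⟩
      (hchain _ _ (by first | (simp; omega) | simp) (by first | (simp; omega) | simp) (by simp))
    linarith
  · subst h
    have hx : t - 2 < t + 2 := by omega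
    have hy : t < t + 2 := by omega
    have hz : t + 1 < t + 2 := by omega
    have h := Groth.Agent.Lib.Helper39.NT.sum_ge_three T v c hc ⟨t - 1, hsv⟩ ⟨t - 2, hx⟩ ⟨t, hy⟩
      ⟨t + 1, hz⟩
      (hne _ _ (by first | (simp; omega) | simp)) (hne _ _ (by first | (simp; omega) | simp)) (hne _ _ (by first | (simp; omega) | simp))
      (hne _ _ (by first | (simp; omega) | simp)) (hne _ _ (by first | (simp; omega) | simp)) (hne _ _ (by simp))
    rw [hdiag, hc2 ⟨t - 1, hsv⟩ (by first | (simp; omega) | simp) (by simp),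
      hc2 ⟨t - 2, hx⟩ (by first | (simp; omega) | simp) (by first | (simp; omega) | simp),
      hc1 ⟨t, hy⟩ (Or.inr (Or.inr (Or.inl rfl))),
      hc1 ⟨t + 1, hz⟩ (Or.inr (Or.inr (Or.inr rfl)))] at h
    have e1 := hlb' ⟨t - 1, hsv⟩ ⟨t - 2, hx⟩
      (hchain _ _ (by first | (simp; omega) | simp) (by first | (simp; omega) | simp) (by first | (simp; omega) | simp))
    have e2 := hlb ⟨t - 1, hsv⟩ ⟨t, hy⟩
      (hchain _ _ (by first | (simp; omega) | simp) (by first | (simp; omega) | simp) (by first | (simp; omega) | simp))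
    have e3 := hlb ⟨t - 1, hsv⟩ ⟨t + 1, hz⟩ (hlast _ _ rfl rfl)
    linarith
  · subst h
    have hx : sv - 1 < sv + 2 := by omega
    have h := Groth.Agent.Lib.Helper39.NT.sum_ge_one T v c hc ⟨sv, hsv⟩ ⟨sv - 1, hx⟩
      (hne _ _ (by first | (simp; omega) | simp))
    rw [hdiag, hc1 ⟨sv, hsv⟩ (Or.inr (Or.inr (Or.inl rfl))),
      hc2 ⟨sv - 1, hx⟩ (by first | (simp; omega) | simp) (by simp)] at h
    have e := hlb' ⟨sv, hsv⟩ ⟨sv - 1, hx⟩
      (hchain _ _ (by first | (simp; omega) | simp) (by first | (simp; omega) | simp) (by first | (simp; omega) | simp))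
    linarith
  · subst h
    have hx : t - 1 < t + 2 := by omega
    have h := Groth.Agent.Lib.Helper39.NT.sum_ge_one T v c hc ⟨t + 1, hsv⟩ ⟨t - 1, hx⟩
      (hne _ _ (by first | (simp; omega) | simp))
    rw [hdiag, hc1 ⟨t + 1, hsv⟩ (Or.inr (Or.inr (Or.inr rfl))),
      hc2 ⟨t - 1, hx⟩ (by first | (simp; omega) | simp) (by simp)] at h
    have e := hlb' ⟨t + 1, hsv⟩ ⟨t - 1, hx⟩ (hlast _ _ rfl rfl)
    linarith

end Groth.Agent.S7342
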