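import Groth.Statements.S7343
import Groth.Agent.Lib.Helper39.NumType
-- import your own Groth.Agent.* helpers here

set_option autoImplicit false
open Finset
open Models Models.NumericalType

namespace Groth.Agent.S7343

/-- Let T be a numerical type on n > 7 indices. Then no seven (-2)-indices of T, pairwise distinct and
named f, g, h, i, j, k, l, have a_fg, a_gh, a_ij, a_jh, a_kl and a_lh all nonzero (three chains of
length two attached to h). -/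
theorem result {n : ℕ} (T : Models.NumericalType n) (hn : 7 < n)
    (v : Fin 7 ↪ Fin n) (hv : ∀ j, T.IsMinusTwo (v j))
    (h01 : T.a (v 0) (v 1) ≠ 0) (h12 : T.a (v 1) (v 2) ≠ 0) (h34 : T.a (v 3) (v 4) ≠ 0)
    (h42 : T.a (v 4) (v 2) ≠ 0) (h56 : T.a (v 5) (v 6) ≠ 0) (h62 : T.a (v 6) (v 2) ≠ 0) : False := by
  have hnn : ∀ s t : Fin 7, s ≠ t → 0 ≤ T.a (v s) (v t) := fun s t hst =>
    T.offDiag_nonneg _ _ (fun h => hst (v.injective h))
  have hdiag : ∀ s : Fin 7, T.a (v s) (v s) = -2 * T.w (v s) := fun s => (hv s).2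
  have hsym : ∀ s t : Fin 7, T.a (v s) (v t) = T.a (v t) (v s) := fun s t =>
    Groth.Agent.Lib.Helper39.NT.symm' T _ _
  have hwp : ∀ s : Fin 7, 0 < T.w (v s) := fun s => T.w_pos _
  have hmp : ∀ s : Fin 7, 0 < T.m (v s) := fun s => T.m_pos _
  have hdc : ∀ s t : Fin 7, 0 < T.a (v s) (v t) → (T.a (v s) (v t) = T.w (v s) ∨
      T.a (v s) (v t) = 2 * T.w (v s) ∨ T.a (v s) (v t) = 3 * T.w (v s) ∨
      4 * T.w (v s) ≤ T.a (v s) (v t)) := fun s t h =>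
    Groth.Agent.Lib.Helper39.NT.dvd_cases (T.w_pos _) h (T.w_dvd _ _)
  have hlb : ∀ s t : Fin 7, 0 < T.a (v s) (v t) → T.w (v s) ≤ T.a (v s) (v t) := fun s t h =>
    Int.le_of_dvd h (T.w_dvd _ _)
  have hd2 : ∀ s t : Fin 7, 0 < T.a (v s) (v t) → (T.a (v s) (v t) = T.w (v s) ∨
      2 * T.w (v s) ≤ T.a (v s) (v t)) := fun s t h => by
    rcases hdc s t h with h1 | h1 | h1 | h1
    · exact Or.inl h1
    · exact Or.inr (by linarith [hwp s])
    · exact Or.inr (by linarith [hwp s])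
    · exact Or.inr (by linarith [hwp s])
  have hp_0_1 : 0 < T.a (v 0) (v 1) := lt_of_le_of_ne (hnn 0 1 (by decide)) (Ne.symm h01)
  have hp_1_0 : 0 < T.a (v 1) (v 0) := by rw [hsym 1 0]; exact hp_0_1
  have hl_0_1 := hlb 0 1 hp_0_1
  have hl_1_0 := hlb 1 0 hp_1_0
  have hp_1_2 : 0 < T.a (v 1) (v 2) := lt_of_le_of_ne (hnn 1 2 (by decide)) (Ne.symm h12)
  have hp_2_1 : 0 < T.a (v 2) (v 1) := by rw [hsym 2 1]; exact hp_1_2
  have hl_1_2 := hlb 1 2 hp_1_2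
  have hl_2_1 := hlb 2 1 hp_2_1
  have hp_3_4 : 0 < T.a (v 3) (v 4) := lt_of_le_of_ne (hnn 3 4 (by decide)) (Ne.symm h34)
  have hp_4_3 : 0 < T.a (v 4) (v 3) := by rw [hsym 4 3]; exact hp_3_4
  have hl_3_4 := hlb 3 4 hp_3_4
  have hl_4_3 := hlb 4 3 hp_4_3
  have hp_4_2 : 0 < T.a (v 4) (v 2) := lt_of_le_of_ne (hnn 4 2 (by decide)) (Ne.symm h42)
  have hp_2_4 : 0 < T.a (v 2) (v 4) := by rw [hsym 2 4]; exact hp_4_2
  have hl_4_2 := hlb 4 2 hp_4_2
  have hl_2_4 := hlb 2 4 hp_2_4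
  have hp_5_6 : 0 < T.a (v 5) (v 6) := lt_of_le_of_ne (hnn 5 6 (by decide)) (Ne.symm h56)
  have hp_6_5 : 0 < T.a (v 6) (v 5) := by rw [hsym 6 5]; exact hp_5_6
  have hl_5_6 := hlb 5 6 hp_5_6
  have hl_6_5 := hlb 6 5 hp_6_5
  have hp_6_2 : 0 < T.a (v 6) (v 2) := lt_of_le_of_ne (hnn 6 2 (by decide)) (Ne.symm h62)
  have hp_2_6 : 0 < T.a (v 2) (v 6) := by rw [hsym 2 6]; exact hp_6_2
  have hl_6_2 := hlb 6 2 hp_6_2
  have hl_2_6 := hlb 2 6 hp_2_6
  refine Groth.Agent.Lib.Helper39.NT.cert T v hn ![1, 2, 3, 1, 2, 1, 2] (by decide) 0 (by decide) ?_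
  intro s hs
  fin_cases s
  · simp [Fin.sum_univ_seven]; linarith [hdiag 0, hl_0_1, hnn 0 2 (by decide), hnn 0 3 (by decide), hnn 0 4 (by decide), hnn 0 5 (by decide), hnn 0 6 (by decide)]
  · simp [Fin.sum_univ_seven]; linarith [hdiag 1, hl_1_0, hl_1_2, hnn 1 3 (by decide), hnn 1 4 (by decide), hnn 1 5 (by decide), hnn 1 6 (by decide)]
  · simp [Fin.sum_univ_seven]; linarith [hdiag 2, hnn 2 0 (by decide), hl_2_1, hnn 2 3 (by decide), hl_2_4, hnn 2 5 (by decide), hl_2_6]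
  · simp [Fin.sum_univ_seven]; linarith [hdiag 3, hnn 3 0 (by decide), hnn 3 1 (by decide), hnn 3 2 (by decide), hl_3_4, hnn 3 5 (by decide), hnn 3 6 (by decide)]
  · simp [Fin.sum_univ_seven]; linarith [hdiag 4, hnn 4 0 (by decide), hnn 4 1 (by decide), hl_4_2, hl_4_3, hnn 4 5 (by decide), hnn 4 6 (by decide)]
  · simp [Fin.sum_univ_seven]; linarith [hdiag 5, hnn 5 0 (by decide), hnn 5 1 (by decide), hnn 5 2 (by decide), hnn 5 3 (by decide), hnn 5 4 (by decide), hl_5_6]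
  · simp [Fin.sum_univ_seven]; linarith [hdiag 6, hnn 6 0 (by decide), hnn 6 1 (by decide), hl_6_2, hnn 6 3 (by decide), hnn 6 4 (by decide), hl_6_5]

end Groth.Agent.S7343
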