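import Groth.Statements.S7345
import Groth.Agent.Lib.Helper39.NumType
-- import your own Groth.Agent.* helpers here

set_option autoImplicit false
open Finset
open Models Models.NumericalType

namespace Groth.Agent.S7345

theorem sum_univ_nine (f : Fin 9 → ℤ) :
    ∑ i, f i = f 0 + f 1 + f 2 + f 3 + f 4 + f 5 + f 6 + f 7 + f 8 := by
  rw [Fin.sum_univ_castSucc, Fin.sum_univ_eight]
  rfl

/-- Let T be a numerical type on n > 9 indices. Then no nine (-2)-indices of T, pairwise distinct and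
named d, e, f, g, h, i, j, k, l, have a_de, a_ef, a_fg, a_gh, a_hi, a_ij, a_jk and a_li all nonzero
(a chain of eight, d to k, with l joined to its sixth vertex i). (The published list of nonzero
entries ends with a_lh, joining l to the fifth vertex h; that configuration already contains the
completed E7 configuration on eight of the indices and is impossible for that reason alone. The
pictured graph and the argument for it join l to the sixth vertex i, and this row states that case.) -/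
theorem result {n : ℕ} (T : Models.NumericalType n) (hn : 9 < n)
    (v : Fin 9 ↪ Fin n) (hv : ∀ j, T.IsMinusTwo (v j))
    (h01 : T.a (v 0) (v 1) ≠ 0) (h12 : T.a (v 1) (v 2) ≠ 0) (h23 : T.a (v 2) (v 3) ≠ 0)
    (h34 : T.a (v 3) (v 4) ≠ 0) (h45 : T.a (v 4) (v 5) ≠ 0) (h56 : T.a (v 5) (v 6) ≠ 0)
    (h67 : T.a (v 6) (v 7) ≠ 0) (h85 : T.a (v 8) (v 5) ≠ 0) : False := by
  have hnn : ∀ s t : Fin 9, s ≠ t → 0 ≤ T.a (v s) (v t) := fun s t hst =>
    T.offDiag_nonneg _ _ (fun h => hst (v.injective h))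
  have hdiag : ∀ s : Fin 9, T.a (v s) (v s) = -2 * T.w (v s) := fun s => (hv s).2
  have hsym : ∀ s t : Fin 9, T.a (v s) (v t) = T.a (v t) (v s) := fun s t =>
    Groth.Agent.Lib.Helper39.NT.symm' T _ _
  have hwp : ∀ s : Fin 9, 0 < T.w (v s) := fun s => T.w_pos _
  have hmp : ∀ s : Fin 9, 0 < T.m (v s) := fun s => T.m_pos _
  have hdc : ∀ s t : Fin 9, 0 < T.a (v s) (v t) → (T.a (v s) (v t) = T.w (v s) ∨
      T.a (v s) (v t) = 2 * T.w (v s) ∨ T.a (v s) (v t) = 3 * T.w (v s) ∨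
      4 * T.w (v s) ≤ T.a (v s) (v t)) := fun s t h =>
    Groth.Agent.Lib.Helper39.NT.dvd_cases (T.w_pos _) h (T.w_dvd _ _)
  have hlb : ∀ s t : Fin 9, 0 < T.a (v s) (v t) → T.w (v s) ≤ T.a (v s) (v t) := fun s t h =>
    Int.le_of_dvd h (T.w_dvd _ _)
  have hd2 : ∀ s t : Fin 9, 0 < T.a (v s) (v t) → (T.a (v s) (v t) = T.w (v s) ∨
      2 * T.w (v s) ≤ T.a (v s) (v t)) := fun s t h => by
    rcases hdc s t h with h1 | h1 | h1 | h1
    · exact Or.inl h1
    · exact Or.inr (by linarith [hwp s])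
    · exact Or.inr (by linarith [hwp s])
    · exact Or.inr (by linarith [hwp s])
  have hp_0_1 : 0 < T.a (v 0) (v 1) := lt_of_le_of_ne (hnn 0 1 (by decide)) (Ne.symm h01)
  have hp_1_0 : 0 < T.a (v 1) (v 0) := by rw [hsym 1 0]; exact hp_0_1
  have hl_0_1 := hlb 0 1 hp_0_1
  have hl_1_0 := hlb 1 0 hp_1_0
  have hp_1_2 : 0 < T.a (v 1) (v 2) := lt_of_le_of_ne (hnn 1 2 (by decide)) (Ne.symm h12)
  have hp_2_1 : 0 < T.a (v 2) (v 1) := by rw [hsym 2 1]; exact hp_1_2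
  have hl_1_2 := hlb 1 2 hp_1_2
  have hl_2_1 := hlb 2 1 hp_2_1
  have hp_2_3 : 0 < T.a (v 2) (v 3) := lt_of_le_of_ne (hnn 2 3 (by decide)) (Ne.symm h23)
  have hp_3_2 : 0 < T.a (v 3) (v 2) := by rw [hsym 3 2]; exact hp_2_3
  have hl_2_3 := hlb 2 3 hp_2_3
  have hl_3_2 := hlb 3 2 hp_3_2
  have hp_3_4 : 0 < T.a (v 3) (v 4) := lt_of_le_of_ne (hnn 3 4 (by decide)) (Ne.symm h34)
  have hp_4_3 : 0 < T.a (v 4) (v 3) := by rw [hsym 4 3]; exact hp_3_4
  have hl_3_4 := hlb 3 4 hp_3_4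
  have hl_4_3 := hlb 4 3 hp_4_3
  have hp_4_5 : 0 < T.a (v 4) (v 5) := lt_of_le_of_ne (hnn 4 5 (by decide)) (Ne.symm h45)
  have hp_5_4 : 0 < T.a (v 5) (v 4) := by rw [hsym 5 4]; exact hp_4_5
  have hl_4_5 := hlb 4 5 hp_4_5
  have hl_5_4 := hlb 5 4 hp_5_4
  have hp_5_6 : 0 < T.a (v 5) (v 6) := lt_of_le_of_ne (hnn 5 6 (by decide)) (Ne.symm h56)
  have hp_6_5 : 0 < T.a (v 6) (v 5) := by rw [hsym 6 5]; exact hp_5_6
  have hl_5_6 := hlb 5 6 hp_5_6
  have hl_6_5 := hlb 6 5 hp_6_5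
  have hp_6_7 : 0 < T.a (v 6) (v 7) := lt_of_le_of_ne (hnn 6 7 (by decide)) (Ne.symm h67)
  have hp_7_6 : 0 < T.a (v 7) (v 6) := by rw [hsym 7 6]; exact hp_6_7
  have hl_6_7 := hlb 6 7 hp_6_7
  have hl_7_6 := hlb 7 6 hp_7_6
  have hp_8_5 : 0 < T.a (v 8) (v 5) := lt_of_le_of_ne (hnn 8 5 (by decide)) (Ne.symm h85)
  have hp_5_8 : 0 < T.a (v 5) (v 8) := by rw [hsym 5 8]; exact hp_8_5
  have hl_8_5 := hlb 8 5 hp_8_5
  have hl_5_8 := hlb 5 8 hp_5_8
  refine Groth.Agent.Lib.Helper39.NT.cert T v hn ![1, 2, 3, 4, 5, 6, 4, 2, 3] (by decide) 0 (by decide) ?_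
  intro s hs
  fin_cases s
  · simp [sum_univ_nine]; linarith [hdiag 0, hl_0_1, hnn 0 2 (by decide), hnn 0 3 (by decide), hnn 0 4 (by decide), hnn 0 5 (by decide), hnn 0 6 (by decide), hnn 0 7 (by decide), hnn 0 8 (by decide)]
  · simp [sum_univ_nine]; linarith [hdiag 1, hl_1_0, hl_1_2, hnn 1 3 (by decide), hnn 1 4 (by decide), hnn 1 5 (by decide), hnn 1 6 (by decide), hnn 1 7 (by decide), hnn 1 8 (by decide)]
  · simp [sum_univ_nine]; linarith [hdiag 2, hnn 2 0 (by decide), hl_2_1, hl_2_3, hnn 2 4 (by decide), hnn 2 5 (by decide), hnn 2 6 (by decide), hnn 2 7 (by decide), hnn 2 8 (by decide)]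
  · simp [sum_univ_nine]; linarith [hdiag 3, hnn 3 0 (by decide), hnn 3 1 (by decide), hl_3_2, hl_3_4, hnn 3 5 (by decide), hnn 3 6 (by decide), hnn 3 7 (by decide), hnn 3 8 (by decide)]
  · simp [sum_univ_nine]; linarith [hdiag 4, hnn 4 0 (by decide), hnn 4 1 (by decide), hnn 4 2 (by decide), hl_4_3, hl_4_5, hnn 4 6 (by decide), hnn 4 7 (by decide), hnn 4 8 (by decide)]
  · simp [sum_univ_nine]; linarith [hdiag 5, hnn 5 0 (by decide), hnn 5 1 (by decide), hnn 5 2 (by decide), hnn 5 3 (by decide), hl_5_4, hl_5_6, hnn 5 7 (by decide), hl_5_8]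
  · simp [sum_univ_nine]; linarith [hdiag 6, hnn 6 0 (by decide), hnn 6 1 (by decide), hnn 6 2 (by decide), hnn 6 3 (by decide), hnn 6 4 (by decide), hl_6_5, hl_6_7, hnn 6 8 (by decide)]
  · simp [sum_univ_nine]; linarith [hdiag 7, hnn 7 0 (by decide), hnn 7 1 (by decide), hnn 7 2 (by decide), hnn 7 3 (by decide), hnn 7 4 (by decide), hnn 7 5 (by decide), hl_7_6, hnn 7 8 (by decide)]
  · simp [sum_univ_nine]; linarith [hdiag 8, hnn 8 0 (by decide), hnn 8 1 (by decide), hnn 8 2 (by decide), hnn 8 3 (by decide), hnn 8 4 (by decide), hl_8_5, hnn 8 6 (by decide), hnn 8 7 (by decide)]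

end Groth.Agent.S7345
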