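import Groth.Statements.S7350
import Groth.Agent.Lib.Helper39.NumType
-- import your own Groth.Agent.* helpers here

set_option autoImplicit false
open Finset
open Models Models.NumericalType

namespace Groth.Agent.S7350

/-- Classification of proper subgraphs of type E8 (a chain i_1 … i_7 with i_8 joined to i_5): let T be a
numerical type on n > 8 indices and i_1, …, i_8 distinct (-2)-indices with a_{12}, a_{23}, a_{34},
a_{45}, a_{56}, a_{67}, a_{58} nonzero. Then for some integer w all w_{i_j} equal w, these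
intersection numbers equal w, all other a_{i_j i_k} (j ≠ k) vanish, and 2 m_1 ≥ m_2, 2 m_2 ≥ m_1 +
m_3, 2 m_3 ≥ m_2 + m_4, 2 m_4 ≥ m_3 + m_5, 2 m_5 ≥ m_4 + m_6 + m_8, 2 m_6 ≥ m_5 + m_7, 2 m_7 ≥ m_6,
2 m_8 ≥ m_5. (The published statement lists a_{65} and a_{57} among the nonzero entries, which
contradicts its own conclusion a_{57} = 0; this row uses the edges of the E8 graph, a_{67} and
a_{58}, as the pictured graph and the matrix give them.) -/
theorem result {n : ℕ} (T : Models.NumericalType n) (hn : 8 < n)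
    (v : Fin 8 ↪ Fin n) (hv : ∀ j, T.IsMinusTwo (v j)) (h01 : T.a (v 0) (v 1) ≠ 0) (h12 : T.a (v 1) (v 2) ≠ 0) (h23 : T.a (v 2) (v 3) ≠ 0) (h34 : T.a (v 3) (v 4) ≠ 0) (h45 : T.a (v 4) (v 5) ≠ 0) (h56 : T.a (v 5) (v 6) ≠ 0) (h47 : T.a (v 4) (v 7) ≠ 0) :
    ∃ w : ℤ, (∀ j : Fin 8, T.w (v j) = w) ∧
      T.a (v 0) (v 1) = w ∧
      T.a (v 1) (v 2) = w ∧
      T.a (v 2) (v 3) = w ∧
      T.a (v 3) (v 4) = w ∧
      T.a (v 4) (v 5) = w ∧
      T.a (v 5) (v 6) = w ∧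
      T.a (v 4) (v 7) = w ∧
      T.a (v 0) (v 2) = 0 ∧
      T.a (v 0) (v 3) = 0 ∧
      T.a (v 0) (v 4) = 0 ∧
      T.a (v 0) (v 5) = 0 ∧
      T.a (v 0) (v 6) = 0 ∧
      T.a (v 0) (v 7) = 0 ∧
      T.a (v 1) (v 3) = 0 ∧
      T.a (v 1) (v 4) = 0 ∧
      T.a (v 1) (v 5) = 0 ∧
      T.a (v 1) (v 6) = 0 ∧
      T.a (v 1) (v 7) = 0 ∧
      T.a (v 2) (v 4) = 0 ∧
      T.a (v 2) (v 5) = 0 ∧
      T.a (v 2) (v 6) = 0 ∧
      T.a (v 2) (v 7) = 0 ∧
      T.a (v 3) (v 5) = 0 ∧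
      T.a (v 3) (v 6) = 0 ∧
      T.a (v 3) (v 7) = 0 ∧
      T.a (v 4) (v 6) = 0 ∧
      T.a (v 5) (v 7) = 0 ∧
      T.a (v 6) (v 7) = 0 ∧
      T.m (v 1) ≤ 2 * T.m (v 0) ∧
      T.m (v 0) + T.m (v 2) ≤ 2 * T.m (v 1) ∧
      T.m (v 1) + T.m (v 3) ≤ 2 * T.m (v 2) ∧
      T.m (v 2) + T.m (v 4) ≤ 2 * T.m (v 3) ∧
      T.m (v 3) + T.m (v 5) + T.m (v 7) ≤ 2 * T.m (v 4) ∧
      T.m (v 4) + T.m (v 6) ≤ 2 * T.m (v 5) ∧
      T.m (v 5) ≤ 2 * T.m (v 6) ∧
      T.m (v 4) ≤ 2 * T.m (v 7) := by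
  have hnn : ∀ s t : Fin 8, s ≠ t → 0 ≤ T.a (v s) (v t) := fun s t hst =>
    T.offDiag_nonneg _ _ (fun h => hst (v.injective h))
  have hdiag : ∀ s : Fin 8, T.a (v s) (v s) = -2 * T.w (v s) := fun s => (hv s).2
  have hsym : ∀ s t : Fin 8, T.a (v s) (v t) = T.a (v t) (v s) := fun s t =>
    Groth.Agent.Lib.Helper39.NT.symm' T _ _
  have hwp : ∀ s : Fin 8, 0 < T.w (v s) := fun s => T.w_pos _
  have hmp : ∀ s : Fin 8, 0 < T.m (v s) := fun s => T.m_pos _
  have hdc : ∀ s t : Fin 8, 0 < T.a (v s) (v t) → (T.a (v s) (v t) = T.w (v s) ∨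
      T.a (v s) (v t) = 2 * T.w (v s) ∨ T.a (v s) (v t) = 3 * T.w (v s) ∨
      4 * T.w (v s) ≤ T.a (v s) (v t)) := fun s t h =>
    Groth.Agent.Lib.Helper39.NT.dvd_cases (T.w_pos _) h (T.w_dvd _ _)
  have hlb : ∀ s t : Fin 8, 0 < T.a (v s) (v t) → T.w (v s) ≤ T.a (v s) (v t) := fun s t h =>
    Int.le_of_dvd h (T.w_dvd _ _)
  have hd2 : ∀ s t : Fin 8, 0 < T.a (v s) (v t) → (T.a (v s) (v t) = T.w (v s) ∨
      2 * T.w (v s) ≤ T.a (v s) (v t)) := fun s t h => by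
    rcases hdc s t h with h1 | h1 | h1 | h1
    · exact Or.inl h1
    · exact Or.inr (by linarith [hwp s])
    · exact Or.inr (by linarith [hwp s])
    · exact Or.inr (by linarith [hwp s])
  have hp_0_1 : 0 < T.a (v 0) (v 1) := lt_of_le_of_ne (hnn 0 1 (by decide)) (Ne.symm h01)
  have hp_1_0 : 0 < T.a (v 1) (v 0) := by rw [hsym 1 0]; exact hp_0_1
  have hl_0_1 := hlb 0 1 hp_0_1
  have hl_1_0 := hlb 1 0 hp_1_0
  have hp_1_2 : 0 < T.a (v 1) (v 2) := lt_of_le_of_ne (hnn 1 2 (by decide)) (Ne.symm h12)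
  have hp_2_1 : 0 < T.a (v 2) (v 1) := by rw [hsym 2 1]; exact hp_1_2
  have hl_1_2 := hlb 1 2 hp_1_2
  have hl_2_1 := hlb 2 1 hp_2_1
  have hp_2_3 : 0 < T.a (v 2) (v 3) := lt_of_le_of_ne (hnn 2 3 (by decide)) (Ne.symm h23)
  have hp_3_2 : 0 < T.a (v 3) (v 2) := by rw [hsym 3 2]; exact hp_2_3
  have hl_2_3 := hlb 2 3 hp_2_3
  have hl_3_2 := hlb 3 2 hp_3_2
  have hp_3_4 : 0 < T.a (v 3) (v 4) := lt_of_le_of_ne (hnn 3 4 (by decide)) (Ne.symm h34)
  have hp_4_3 : 0 < T.a (v 4) (v 3) := by rw [hsym 4 3]; exact hp_3_4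
  have hl_3_4 := hlb 3 4 hp_3_4
  have hl_4_3 := hlb 4 3 hp_4_3
  have hp_4_5 : 0 < T.a (v 4) (v 5) := lt_of_le_of_ne (hnn 4 5 (by decide)) (Ne.symm h45)
  have hp_5_4 : 0 < T.a (v 5) (v 4) := by rw [hsym 5 4]; exact hp_4_5
  have hl_4_5 := hlb 4 5 hp_4_5
  have hl_5_4 := hlb 5 4 hp_5_4
  have hp_5_6 : 0 < T.a (v 5) (v 6) := lt_of_le_of_ne (hnn 5 6 (by decide)) (Ne.symm h56)
  have hp_6_5 : 0 < T.a (v 6) (v 5) := by rw [hsym 6 5]; exact hp_5_6
  have hl_5_6 := hlb 5 6 hp_5_6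
  have hl_6_5 := hlb 6 5 hp_6_5
  have hp_4_7 : 0 < T.a (v 4) (v 7) := lt_of_le_of_ne (hnn 4 7 (by decide)) (Ne.symm h47)
  have hp_7_4 : 0 < T.a (v 7) (v 4) := by rw [hsym 7 4]; exact hp_4_7
  have hl_4_7 := hlb 4 7 hp_4_7
  have hl_7_4 := hlb 7 4 hp_7_4
  have hz_0_2 : T.a (v 0) (v 2) = 0 := by
    by_contra hne
    have hq1 : 0 < T.a (v 0) (v 2) := lt_of_le_of_ne (hnn 0 2 (by decide)) (Ne.symm hne)
    have hq2 : 0 < T.a (v 2) (v 0) := by rw [hsym 2 0]; exact hq1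
    have hr1 := hlb 0 2 hq1
    have hr2 := hlb 2 0 hq2
    refine Groth.Agent.Lib.Helper39.NT.cert T v hn ![1, 1, 1, 0, 0, 0, 0, 0] (by decide) 0 (by decide) ?_
    intro s hs
    fin_cases s
    · simp [Fin.sum_univ_eight]; linarith [hdiag 0, hl_0_1, hr1]
    · simp [Fin.sum_univ_eight]; linarith [hdiag 1, hl_1_0, hl_1_2]
    · simp [Fin.sum_univ_eight]; linarith [hdiag 2, hr2, hl_2_1]
    · simp at hs
    · simp at hs
    · simp at hs
    · simp at hs
    · simp at hs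
  have hz_0_3 : T.a (v 0) (v 3) = 0 := by
    by_contra hne
    have hq1 : 0 < T.a (v 0) (v 3) := lt_of_le_of_ne (hnn 0 3 (by decide)) (Ne.symm hne)
    have hq2 : 0 < T.a (v 3) (v 0) := by rw [hsym 3 0]; exact hq1
    have hr1 := hlb 0 3 hq1
    have hr2 := hlb 3 0 hq2
    refine Groth.Agent.Lib.Helper39.NT.cert T v hn ![1, 1, 1, 1, 0, 0, 0, 0] (by decide) 0 (by decide) ?_
    intro s hs
    fin_cases s
    · simp [Fin.sum_univ_eight]; linarith [hdiag 0, hl_0_1, hnn 0 2 (by decide), hr1]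
    · simp [Fin.sum_univ_eight]; linarith [hdiag 1, hl_1_0, hl_1_2, hnn 1 3 (by decide)]
    · simp [Fin.sum_univ_eight]; linarith [hdiag 2, hnn 2 0 (by decide), hl_2_1, hl_2_3]
    · simp [Fin.sum_univ_eight]; linarith [hdiag 3, hr2, hnn 3 1 (by decide), hl_3_2]
    · simp at hs
    · simp at hs
    · simp at hs
    · simp at hs
  have hz_0_4 : T.a (v 0) (v 4) = 0 := by
    by_contra hne
    have hq1 : 0 < T.a (v 0) (v 4) := lt_of_le_of_ne (hnn 0 4 (by decide)) (Ne.symm hne)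
    have hq2 : 0 < T.a (v 4) (v 0) := by rw [hsym 4 0]; exact hq1
    have hr1 := hlb 0 4 hq1
    have hr2 := hlb 4 0 hq2
    refine Groth.Agent.Lib.Helper39.NT.cert T v hn ![1, 1, 1, 1, 1, 0, 0, 0] (by decide) 0 (by decide) ?_
    intro s hs
    fin_cases s
    · simp [Fin.sum_univ_eight]; linarith [hdiag 0, hl_0_1, hnn 0 2 (by decide), hnn 0 3 (by decide), hr1]
    · simp [Fin.sum_univ_eight]; linarith [hdiag 1, hl_1_0, hl_1_2, hnn 1 3 (by decide), hnn 1 4 (by decide)]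
    · simp [Fin.sum_univ_eight]; linarith [hdiag 2, hnn 2 0 (by decide), hl_2_1, hl_2_3, hnn 2 4 (by decide)]
    · simp [Fin.sum_univ_eight]; linarith [hdiag 3, hnn 3 0 (by decide), hnn 3 1 (by decide), hl_3_2, hl_3_4]
    · simp [Fin.sum_univ_eight]; linarith [hdiag 4, hr2, hnn 4 1 (by decide), hnn 4 2 (by decide), hl_4_3]
    · simp at hs
    · simp at hs
    · simp at hs
  have hz_0_5 : T.a (v 0) (v 5) = 0 := by
    by_contra hne
    have hq1 : 0 < T.a (v 0) (v 5) := lt_of_le_of_ne (hnn 0 5 (by decide)) (Ne.symm hne)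
    have hq2 : 0 < T.a (v 5) (v 0) := by rw [hsym 5 0]; exact hq1
    have hr1 := hlb 0 5 hq1
    have hr2 := hlb 5 0 hq2
    refine Groth.Agent.Lib.Helper39.NT.cert T v hn ![1, 1, 1, 1, 1, 1, 0, 0] (by decide) 0 (by decide) ?_
    intro s hs
    fin_cases s
    · simp [Fin.sum_univ_eight]; linarith [hdiag 0, hl_0_1, hnn 0 2 (by decide), hnn 0 3 (by decide), hnn 0 4 (by decide), hr1]
    · simp [Fin.sum_univ_eight]; linarith [hdiag 1, hl_1_0, hl_1_2, hnn 1 3 (by decide), hnn 1 4 (by decide), hnn 1 5 (by decide)]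
    · simp [Fin.sum_univ_eight]; linarith [hdiag 2, hnn 2 0 (by decide), hl_2_1, hl_2_3, hnn 2 4 (by decide), hnn 2 5 (by decide)]
    · simp [Fin.sum_univ_eight]; linarith [hdiag 3, hnn 3 0 (by decide), hnn 3 1 (by decide), hl_3_2, hl_3_4, hnn 3 5 (by decide)]
    · simp [Fin.sum_univ_eight]; linarith [hdiag 4, hnn 4 0 (by decide), hnn 4 1 (by decide), hnn 4 2 (by decide), hl_4_3, hl_4_5]
    · simp [Fin.sum_univ_eight]; linarith [hdiag 5, hr2, hnn 5 1 (by decide), hnn 5 2 (by decide), hnn 5 3 (by decide), hl_5_4]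
    · simp at hs
    · simp at hs
  have hz_0_6 : T.a (v 0) (v 6) = 0 := by
    by_contra hne
    have hq1 : 0 < T.a (v 0) (v 6) := lt_of_le_of_ne (hnn 0 6 (by decide)) (Ne.symm hne)
    have hq2 : 0 < T.a (v 6) (v 0) := by rw [hsym 6 0]; exact hq1
    have hr1 := hlb 0 6 hq1
    have hr2 := hlb 6 0 hq2
    refine Groth.Agent.Lib.Helper39.NT.cert T v hn ![1, 1, 1, 1, 1, 1, 1, 0] (by decide) 0 (by decide) ?_
    intro s hs
    fin_cases s
    · simp [Fin.sum_univ_eight]; linarith [hdiag 0, hl_0_1, hnn 0 2 (by decide), hnn 0 3 (by decide), hnn 0 4 (by decide), hnn 0 5 (by decide), hr1]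
    · simp [Fin.sum_univ_eight]; linarith [hdiag 1, hl_1_0, hl_1_2, hnn 1 3 (by decide), hnn 1 4 (by decide), hnn 1 5 (by decide), hnn 1 6 (by decide)]
    · simp [Fin.sum_univ_eight]; linarith [hdiag 2, hnn 2 0 (by decide), hl_2_1, hl_2_3, hnn 2 4 (by decide), hnn 2 5 (by decide), hnn 2 6 (by decide)]
    · simp [Fin.sum_univ_eight]; linarith [hdiag 3, hnn 3 0 (by decide), hnn 3 1 (by decide), hl_3_2, hl_3_4, hnn 3 5 (by decide), hnn 3 6 (by decide)]
    · simp [Fin.sum_univ_eight]; linarith [hdiag 4, hnn 4 0 (by decide), hnn 4 1 (by decide), hnn 4 2 (by decide), hl_4_3, hl_4_5, hnn 4 6 (by decide)]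
    · simp [Fin.sum_univ_eight]; linarith [hdiag 5, hnn 5 0 (by decide), hnn 5 1 (by decide), hnn 5 2 (by decide), hnn 5 3 (by decide), hl_5_4, hl_5_6]
    · simp [Fin.sum_univ_eight]; linarith [hdiag 6, hr2, hnn 6 1 (by decide), hnn 6 2 (by decide), hnn 6 3 (by decide), hnn 6 4 (by decide), hl_6_5]
    · simp at hs
  have hz_0_7 : T.a (v 0) (v 7) = 0 := by
    by_contra hne
    have hq1 : 0 < T.a (v 0) (v 7) := lt_of_le_of_ne (hnn 0 7 (by decide)) (Ne.symm hne)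
    have hq2 : 0 < T.a (v 7) (v 0) := by rw [hsym 7 0]; exact hq1
    have hr1 := hlb 0 7 hq1
    have hr2 := hlb 7 0 hq2
    refine Groth.Agent.Lib.Helper39.NT.cert T v hn ![1, 1, 1, 1, 1, 0, 0, 1] (by decide) 0 (by decide) ?_
    intro s hs
    fin_cases s
    · simp [Fin.sum_univ_eight]; linarith [hdiag 0, hl_0_1, hnn 0 2 (by decide), hnn 0 3 (by decide), hnn 0 4 (by decide), hr1]
    · simp [Fin.sum_univ_eight]; linarith [hdiag 1, hl_1_0, hl_1_2, hnn 1 3 (by decide), hnn 1 4 (by decide), hnn 1 7 (by decide)]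
    · simp [Fin.sum_univ_eight]; linarith [hdiag 2, hnn 2 0 (by decide), hl_2_1, hl_2_3, hnn 2 4 (by decide), hnn 2 7 (by decide)]
    · simp [Fin.sum_univ_eight]; linarith [hdiag 3, hnn 3 0 (by decide), hnn 3 1 (by decide), hl_3_2, hl_3_4, hnn 3 7 (by decide)]
    · simp [Fin.sum_univ_eight]; linarith [hdiag 4, hnn 4 0 (by decide), hnn 4 1 (by decide), hnn 4 2 (by decide), hl_4_3, hl_4_7]
    · simp at hs
    · simp at hs
    · simp [Fin.sum_univ_eight]; linarith [hdiag 7, hr2, hnn 7 1 (by decide), hnn 7 2 (by decide), hnn 7 3 (by decide), hl_7_4]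
  have hz_1_3 : T.a (v 1) (v 3) = 0 := by
    by_contra hne
    have hq1 : 0 < T.a (v 1) (v 3) := lt_of_le_of_ne (hnn 1 3 (by decide)) (Ne.symm hne)
    have hq2 : 0 < T.a (v 3) (v 1) := by rw [hsym 3 1]; exact hq1
    have hr1 := hlb 1 3 hq1
    have hr2 := hlb 3 1 hq2
    refine Groth.Agent.Lib.Helper39.NT.cert T v hn ![0, 1, 1, 1, 0, 0, 0, 0] (by decide) 1 (by decide) ?_
    intro s hs
    fin_cases s
    · simp at hs
    · simp [Fin.sum_univ_eight]; linarith [hdiag 1, hl_1_2, hr1]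
    · simp [Fin.sum_univ_eight]; linarith [hdiag 2, hl_2_1, hl_2_3]
    · simp [Fin.sum_univ_eight]; linarith [hdiag 3, hr2, hl_3_2]
    · simp at hs
    · simp at hs
    · simp at hs
    · simp at hs
  have hz_1_4 : T.a (v 1) (v 4) = 0 := by
    by_contra hne
    have hq1 : 0 < T.a (v 1) (v 4) := lt_of_le_of_ne (hnn 1 4 (by decide)) (Ne.symm hne)
    have hq2 : 0 < T.a (v 4) (v 1) := by rw [hsym 4 1]; exact hq1
    have hr1 := hlb 1 4 hq1
    have hr2 := hlb 4 1 hq2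
    refine Groth.Agent.Lib.Helper39.NT.cert T v hn ![0, 1, 1, 1, 1, 0, 0, 0] (by decide) 1 (by decide) ?_
    intro s hs
    fin_cases s
    · simp at hs
    · simp [Fin.sum_univ_eight]; linarith [hdiag 1, hl_1_2, hnn 1 3 (by decide), hr1]
    · simp [Fin.sum_univ_eight]; linarith [hdiag 2, hl_2_1, hl_2_3, hnn 2 4 (by decide)]
    · simp [Fin.sum_univ_eight]; linarith [hdiag 3, hnn 3 1 (by decide), hl_3_2, hl_3_4]
    · simp [Fin.sum_univ_eight]; linarith [hdiag 4, hr2, hnn 4 2 (by decide), hl_4_3]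
    · simp at hs
    · simp at hs
    · simp at hs
  have hz_1_5 : T.a (v 1) (v 5) = 0 := by
    by_contra hne
    have hq1 : 0 < T.a (v 1) (v 5) := lt_of_le_of_ne (hnn 1 5 (by decide)) (Ne.symm hne)
    have hq2 : 0 < T.a (v 5) (v 1) := by rw [hsym 5 1]; exact hq1
    have hr1 := hlb 1 5 hq1
    have hr2 := hlb 5 1 hq2
    refine Groth.Agent.Lib.Helper39.NT.cert T v hn ![0, 1, 1, 1, 1, 1, 0, 0] (by decide) 1 (by decide) ?_
    intro s hs
    fin_cases s
    · simp at hs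
    · simp [Fin.sum_univ_eight]; linarith [hdiag 1, hl_1_2, hnn 1 3 (by decide), hnn 1 4 (by decide), hr1]
    · simp [Fin.sum_univ_eight]; linarith [hdiag 2, hl_2_1, hl_2_3, hnn 2 4 (by decide), hnn 2 5 (by decide)]
    · simp [Fin.sum_univ_eight]; linarith [hdiag 3, hnn 3 1 (by decide), hl_3_2, hl_3_4, hnn 3 5 (by decide)]
    · simp [Fin.sum_univ_eight]; linarith [hdiag 4, hnn 4 1 (by decide), hnn 4 2 (by decide), hl_4_3, hl_4_5]
    · simp [Fin.sum_univ_eight]; linarith [hdiag 5, hr2, hnn 5 2 (by decide), hnn 5 3 (by decide), hl_5_4]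
    · simp at hs
    · simp at hs
  have hz_1_6 : T.a (v 1) (v 6) = 0 := by
    by_contra hne
    have hq1 : 0 < T.a (v 1) (v 6) := lt_of_le_of_ne (hnn 1 6 (by decide)) (Ne.symm hne)
    have hq2 : 0 < T.a (v 6) (v 1) := by rw [hsym 6 1]; exact hq1
    have hr1 := hlb 1 6 hq1
    have hr2 := hlb 6 1 hq2
    refine Groth.Agent.Lib.Helper39.NT.cert T v hn ![0, 1, 1, 1, 1, 1, 1, 0] (by decide) 1 (by decide) ?_
    intro s hs
    fin_cases s
    · simp at hs
    · simp [Fin.sum_univ_eight]; linarith [hdiag 1, hl_1_2, hnn 1 3 (by decide), hnn 1 4 (by decide), hnn 1 5 (by decide), hr1]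
    · simp [Fin.sum_univ_eight]; linarith [hdiag 2, hl_2_1, hl_2_3, hnn 2 4 (by decide), hnn 2 5 (by decide), hnn 2 6 (by decide)]
    · simp [Fin.sum_univ_eight]; linarith [hdiag 3, hnn 3 1 (by decide), hl_3_2, hl_3_4, hnn 3 5 (by decide), hnn 3 6 (by decide)]
    · simp [Fin.sum_univ_eight]; linarith [hdiag 4, hnn 4 1 (by decide), hnn 4 2 (by decide), hl_4_3, hl_4_5, hnn 4 6 (by decide)]
    · simp [Fin.sum_univ_eight]; linarith [hdiag 5, hnn 5 1 (by decide), hnn 5 2 (by decide), hnn 5 3 (by decide), hl_5_4, hl_5_6]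
    · simp [Fin.sum_univ_eight]; linarith [hdiag 6, hr2, hnn 6 2 (by decide), hnn 6 3 (by decide), hnn 6 4 (by decide), hl_6_5]
    · simp at hs
  have hz_1_7 : T.a (v 1) (v 7) = 0 := by
    by_contra hne
    have hq1 : 0 < T.a (v 1) (v 7) := lt_of_le_of_ne (hnn 1 7 (by decide)) (Ne.symm hne)
    have hq2 : 0 < T.a (v 7) (v 1) := by rw [hsym 7 1]; exact hq1
    have hr1 := hlb 1 7 hq1
    have hr2 := hlb 7 1 hq2
    refine Groth.Agent.Lib.Helper39.NT.cert T v hn ![0, 1, 1, 1, 1, 0, 0, 1] (by decide) 1 (by decide) ?_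
    intro s hs
    fin_cases s
    · simp at hs
    · simp [Fin.sum_univ_eight]; linarith [hdiag 1, hl_1_2, hnn 1 3 (by decide), hnn 1 4 (by decide), hr1]
    · simp [Fin.sum_univ_eight]; linarith [hdiag 2, hl_2_1, hl_2_3, hnn 2 4 (by decide), hnn 2 7 (by decide)]
    · simp [Fin.sum_univ_eight]; linarith [hdiag 3, hnn 3 1 (by decide), hl_3_2, hl_3_4, hnn 3 7 (by decide)]
    · simp [Fin.sum_univ_eight]; linarith [hdiag 4, hnn 4 1 (by decide), hnn 4 2 (by decide), hl_4_3, hl_4_7]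
    · simp at hs
    · simp at hs
    · simp [Fin.sum_univ_eight]; linarith [hdiag 7, hr2, hnn 7 2 (by decide), hnn 7 3 (by decide), hl_7_4]
  have hz_2_4 : T.a (v 2) (v 4) = 0 := by
    by_contra hne
    have hq1 : 0 < T.a (v 2) (v 4) := lt_of_le_of_ne (hnn 2 4 (by decide)) (Ne.symm hne)
    have hq2 : 0 < T.a (v 4) (v 2) := by rw [hsym 4 2]; exact hq1
    have hr1 := hlb 2 4 hq1
    have hr2 := hlb 4 2 hq2
    refine Groth.Agent.Lib.Helper39.NT.cert T v hn ![0, 0, 1, 1, 1, 0, 0, 0] (by decide) 2 (by decide) ?_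
    intro s hs
    fin_cases s
    · simp at hs
    · simp at hs
    · simp [Fin.sum_univ_eight]; linarith [hdiag 2, hl_2_3, hr1]
    · simp [Fin.sum_univ_eight]; linarith [hdiag 3, hl_3_2, hl_3_4]
    · simp [Fin.sum_univ_eight]; linarith [hdiag 4, hr2, hl_4_3]
    · simp at hs
    · simp at hs
    · simp at hs
  have hz_2_5 : T.a (v 2) (v 5) = 0 := by
    by_contra hne
    have hq1 : 0 < T.a (v 2) (v 5) := lt_of_le_of_ne (hnn 2 5 (by decide)) (Ne.symm hne)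
    have hq2 : 0 < T.a (v 5) (v 2) := by rw [hsym 5 2]; exact hq1
    have hr1 := hlb 2 5 hq1
    have hr2 := hlb 5 2 hq2
    refine Groth.Agent.Lib.Helper39.NT.cert T v hn ![0, 0, 1, 1, 1, 1, 0, 0] (by decide) 2 (by decide) ?_
    intro s hs
    fin_cases s
    · simp at hs
    · simp at hs
    · simp [Fin.sum_univ_eight]; linarith [hdiag 2, hl_2_3, hnn 2 4 (by decide), hr1]
    · simp [Fin.sum_univ_eight]; linarith [hdiag 3, hl_3_2, hl_3_4, hnn 3 5 (by decide)]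
    · simp [Fin.sum_univ_eight]; linarith [hdiag 4, hnn 4 2 (by decide), hl_4_3, hl_4_5]
    · simp [Fin.sum_univ_eight]; linarith [hdiag 5, hr2, hnn 5 3 (by decide), hl_5_4]
    · simp at hs
    · simp at hs
  have hz_2_6 : T.a (v 2) (v 6) = 0 := by
    by_contra hne
    have hq1 : 0 < T.a (v 2) (v 6) := lt_of_le_of_ne (hnn 2 6 (by decide)) (Ne.symm hne)
    have hq2 : 0 < T.a (v 6) (v 2) := by rw [hsym 6 2]; exact hq1
    have hr1 := hlb 2 6 hq1
    have hr2 := hlb 6 2 hq2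
    refine Groth.Agent.Lib.Helper39.NT.cert T v hn ![0, 0, 1, 1, 1, 1, 1, 0] (by decide) 2 (by decide) ?_
    intro s hs
    fin_cases s
    · simp at hs
    · simp at hs
    · simp [Fin.sum_univ_eight]; linarith [hdiag 2, hl_2_3, hnn 2 4 (by decide), hnn 2 5 (by decide), hr1]
    · simp [Fin.sum_univ_eight]; linarith [hdiag 3, hl_3_2, hl_3_4, hnn 3 5 (by decide), hnn 3 6 (by decide)]
    · simp [Fin.sum_univ_eight]; linarith [hdiag 4, hnn 4 2 (by decide), hl_4_3, hl_4_5, hnn 4 6 (by decide)]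
    · simp [Fin.sum_univ_eight]; linarith [hdiag 5, hnn 5 2 (by decide), hnn 5 3 (by decide), hl_5_4, hl_5_6]
    · simp [Fin.sum_univ_eight]; linarith [hdiag 6, hr2, hnn 6 3 (by decide), hnn 6 4 (by decide), hl_6_5]
    · simp at hs
  have hz_2_7 : T.a (v 2) (v 7) = 0 := by
    by_contra hne
    have hq1 : 0 < T.a (v 2) (v 7) := lt_of_le_of_ne (hnn 2 7 (by decide)) (Ne.symm hne)
    have hq2 : 0 < T.a (v 7) (v 2) := by rw [hsym 7 2]; exact hq1
    have hr1 := hlb 2 7 hq1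
    have hr2 := hlb 7 2 hq2
    refine Groth.Agent.Lib.Helper39.NT.cert T v hn ![0, 0, 1, 1, 1, 0, 0, 1] (by decide) 2 (by decide) ?_
    intro s hs
    fin_cases s
    · simp at hs
    · simp at hs
    · simp [Fin.sum_univ_eight]; linarith [hdiag 2, hl_2_3, hnn 2 4 (by decide), hr1]
    · simp [Fin.sum_univ_eight]; linarith [hdiag 3, hl_3_2, hl_3_4, hnn 3 7 (by decide)]
    · simp [Fin.sum_univ_eight]; linarith [hdiag 4, hnn 4 2 (by decide), hl_4_3, hl_4_7]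
    · simp at hs
    · simp at hs
    · simp [Fin.sum_univ_eight]; linarith [hdiag 7, hr2, hnn 7 3 (by decide), hl_7_4]
  have hz_3_5 : T.a (v 3) (v 5) = 0 := by
    by_contra hne
    have hq1 : 0 < T.a (v 3) (v 5) := lt_of_le_of_ne (hnn 3 5 (by decide)) (Ne.symm hne)
    have hq2 : 0 < T.a (v 5) (v 3) := by rw [hsym 5 3]; exact hq1
    have hr1 := hlb 3 5 hq1
    have hr2 := hlb 5 3 hq2
    refine Groth.Agent.Lib.Helper39.NT.cert T v hn ![0, 0, 0, 1, 1, 1, 0, 0] (by decide) 3 (by decide) ?_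
    intro s hs
    fin_cases s
    · simp at hs
    · simp at hs
    · simp at hs
    · simp [Fin.sum_univ_eight]; linarith [hdiag 3, hl_3_4, hr1]
    · simp [Fin.sum_univ_eight]; linarith [hdiag 4, hl_4_3, hl_4_5]
    · simp [Fin.sum_univ_eight]; linarith [hdiag 5, hr2, hl_5_4]
    · simp at hs
    · simp at hs
  have hz_3_6 : T.a (v 3) (v 6) = 0 := by
    by_contra hne
    have hq1 : 0 < T.a (v 3) (v 6) := lt_of_le_of_ne (hnn 3 6 (by decide)) (Ne.symm hne)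
    have hq2 : 0 < T.a (v 6) (v 3) := by rw [hsym 6 3]; exact hq1
    have hr1 := hlb 3 6 hq1
    have hr2 := hlb 6 3 hq2
    refine Groth.Agent.Lib.Helper39.NT.cert T v hn ![0, 0, 0, 1, 1, 1, 1, 0] (by decide) 3 (by decide) ?_
    intro s hs
    fin_cases s
    · simp at hs
    · simp at hs
    · simp at hs
    · simp [Fin.sum_univ_eight]; linarith [hdiag 3, hl_3_4, hnn 3 5 (by decide), hr1]
    · simp [Fin.sum_univ_eight]; linarith [hdiag 4, hl_4_3, hl_4_5, hnn 4 6 (by decide)]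
    · simp [Fin.sum_univ_eight]; linarith [hdiag 5, hnn 5 3 (by decide), hl_5_4, hl_5_6]
    · simp [Fin.sum_univ_eight]; linarith [hdiag 6, hr2, hnn 6 4 (by decide), hl_6_5]
    · simp at hs
  have hz_3_7 : T.a (v 3) (v 7) = 0 := by
    by_contra hne
    have hq1 : 0 < T.a (v 3) (v 7) := lt_of_le_of_ne (hnn 3 7 (by decide)) (Ne.symm hne)
    have hq2 : 0 < T.a (v 7) (v 3) := by rw [hsym 7 3]; exact hq1
    have hr1 := hlb 3 7 hq1
    have hr2 := hlb 7 3 hq2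
    refine Groth.Agent.Lib.Helper39.NT.cert T v hn ![0, 0, 0, 1, 1, 0, 0, 1] (by decide) 3 (by decide) ?_
    intro s hs
    fin_cases s
    · simp at hs
    · simp at hs
    · simp at hs
    · simp [Fin.sum_univ_eight]; linarith [hdiag 3, hl_3_4, hr1]
    · simp [Fin.sum_univ_eight]; linarith [hdiag 4, hl_4_3, hl_4_7]
    · simp at hs
    · simp at hs
    · simp [Fin.sum_univ_eight]; linarith [hdiag 7, hr2, hl_7_4]
  have hz_4_6 : T.a (v 4) (v 6) = 0 := by
    by_contra hne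
    have hq1 : 0 < T.a (v 4) (v 6) := lt_of_le_of_ne (hnn 4 6 (by decide)) (Ne.symm hne)
    have hq2 : 0 < T.a (v 6) (v 4) := by rw [hsym 6 4]; exact hq1
    have hr1 := hlb 4 6 hq1
    have hr2 := hlb 6 4 hq2
    refine Groth.Agent.Lib.Helper39.NT.cert T v hn ![0, 0, 0, 0, 1, 1, 1, 0] (by decide) 4 (by decide) ?_
    intro s hs
    fin_cases s
    · simp at hs
    · simp at hs
    · simp at hs
    · simp at hs
    · simp [Fin.sum_univ_eight]; linarith [hdiag 4, hl_4_5, hr1]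
    · simp [Fin.sum_univ_eight]; linarith [hdiag 5, hl_5_4, hl_5_6]
    · simp [Fin.sum_univ_eight]; linarith [hdiag 6, hr2, hl_6_5]
    · simp at hs
  have hz_5_7 : T.a (v 5) (v 7) = 0 := by
    by_contra hne
    have hq1 : 0 < T.a (v 5) (v 7) := lt_of_le_of_ne (hnn 5 7 (by decide)) (Ne.symm hne)
    have hq2 : 0 < T.a (v 7) (v 5) := by rw [hsym 7 5]; exact hq1
    have hr1 := hlb 5 7 hq1
    have hr2 := hlb 7 5 hq2
    refine Groth.Agent.Lib.Helper39.NT.cert T v hn ![0, 0, 0, 0, 1, 1, 0, 1] (by decide) 4 (by decide) ?_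
    intro s hs
    fin_cases s
    · simp at hs
    · simp at hs
    · simp at hs
    · simp at hs
    · simp [Fin.sum_univ_eight]; linarith [hdiag 4, hl_4_5, hl_4_7]
    · simp [Fin.sum_univ_eight]; linarith [hdiag 5, hl_5_4, hr1]
    · simp at hs
    · simp [Fin.sum_univ_eight]; linarith [hdiag 7, hl_7_4, hr2]
  have hz_6_7 : T.a (v 6) (v 7) = 0 := by
    by_contra hne
    have hq1 : 0 < T.a (v 6) (v 7) := lt_of_le_of_ne (hnn 6 7 (by decide)) (Ne.symm hne)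
    have hq2 : 0 < T.a (v 7) (v 6) := by rw [hsym 7 6]; exact hq1
    have hr1 := hlb 6 7 hq1
    have hr2 := hlb 7 6 hq2
    refine Groth.Agent.Lib.Helper39.NT.cert T v hn ![0, 0, 0, 0, 1, 1, 1, 1] (by decide) 4 (by decide) ?_
    intro s hs
    fin_cases s
    · simp at hs
    · simp at hs
    · simp at hs
    · simp at hs
    · simp [Fin.sum_univ_eight]; linarith [hdiag 4, hl_4_5, hnn 4 6 (by decide), hl_4_7]
    · simp [Fin.sum_univ_eight]; linarith [hdiag 5, hl_5_4, hl_5_6, hnn 5 7 (by decide)]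
    · simp [Fin.sum_univ_eight]; linarith [hdiag 6, hnn 6 4 (by decide), hl_6_5, hr1]
    · simp [Fin.sum_univ_eight]; linarith [hdiag 7, hl_7_4, hnn 7 5 (by decide), hr2]
  have he_0_1 : T.a (v 0) (v 1) = T.w (v 0) := by
    rcases hd2 0 1 hp_0_1 with h1 | hh
    · exact h1
    · exfalso
      refine Groth.Agent.Lib.Helper39.NT.cert T v hn ![2, 2, 2, 2, 2, 1, 0, 1] (by decide) 0 (by decide) ?_
      intro s hs
      fin_cases s
      · simp [Fin.sum_univ_eight]; linarith [hdiag 0, hh, hnn 0 2 (by decide), hnn 0 3 (by decide), hnn 0 4 (by decide), hnn 0 5 (by decide), hnn 0 7 (by decide)]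
      · simp [Fin.sum_univ_eight]; linarith [hdiag 1, hl_1_0, hl_1_2, hnn 1 3 (by decide), hnn 1 4 (by decide), hnn 1 5 (by decide), hnn 1 7 (by decide)]
      · simp [Fin.sum_univ_eight]; linarith [hdiag 2, hnn 2 0 (by decide), hl_2_1, hl_2_3, hnn 2 4 (by decide), hnn 2 5 (by decide), hnn 2 7 (by decide)]
      · simp [Fin.sum_univ_eight]; linarith [hdiag 3, hnn 3 0 (by decide), hnn 3 1 (by decide), hl_3_2, hl_3_4, hnn 3 5 (by decide), hnn 3 7 (by decide)]
      · simp [Fin.sum_univ_eight]; linarith [hdiag 4, hnn 4 0 (by decide), hnn 4 1 (by decide), hnn 4 2 (by decide), hl_4_3, hl_4_5, hl_4_7]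
      · simp [Fin.sum_univ_eight]; linarith [hdiag 5, hnn 5 0 (by decide), hnn 5 1 (by decide), hnn 5 2 (by decide), hnn 5 3 (by decide), hl_5_4, hnn 5 7 (by decide)]
      · simp at hs
      · simp [Fin.sum_univ_eight]; linarith [hdiag 7, hnn 7 0 (by decide), hnn 7 1 (by decide), hnn 7 2 (by decide), hnn 7 3 (by decide), hl_7_4, hnn 7 5 (by decide)]
  have he_1_0 : T.a (v 1) (v 0) = T.w (v 1) := by
    rcases hd2 1 0 hp_1_0 with h1 | hh
    · exact h1
    · exfalso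
      refine Groth.Agent.Lib.Helper39.NT.cert T v hn ![1, 2, 2, 2, 2, 1, 0, 1] (by decide) 0 (by decide) ?_
      intro s hs
      fin_cases s
      · simp [Fin.sum_univ_eight]; linarith [hdiag 0, hl_0_1, hnn 0 2 (by decide), hnn 0 3 (by decide), hnn 0 4 (by decide), hnn 0 5 (by decide), hnn 0 7 (by decide)]
      · simp [Fin.sum_univ_eight]; linarith [hdiag 1, hh, hl_1_2, hnn 1 3 (by decide), hnn 1 4 (by decide), hnn 1 5 (by decide), hnn 1 7 (by decide)]
      · simp [Fin.sum_univ_eight]; linarith [hdiag 2, hnn 2 0 (by decide), hl_2_1, hl_2_3, hnn 2 4 (by decide), hnn 2 5 (by decide), hnn 2 7 (by decide)]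
      · simp [Fin.sum_univ_eight]; linarith [hdiag 3, hnn 3 0 (by decide), hnn 3 1 (by decide), hl_3_2, hl_3_4, hnn 3 5 (by decide), hnn 3 7 (by decide)]
      · simp [Fin.sum_univ_eight]; linarith [hdiag 4, hnn 4 0 (by decide), hnn 4 1 (by decide), hnn 4 2 (by decide), hl_4_3, hl_4_5, hl_4_7]
      · simp [Fin.sum_univ_eight]; linarith [hdiag 5, hnn 5 0 (by decide), hnn 5 1 (by decide), hnn 5 2 (by decide), hnn 5 3 (by decide), hl_5_4, hnn 5 7 (by decide)]
      · simp at hs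
      · simp [Fin.sum_univ_eight]; linarith [hdiag 7, hnn 7 0 (by decide), hnn 7 1 (by decide), hnn 7 2 (by decide), hnn 7 3 (by decide), hl_7_4, hnn 7 5 (by decide)]
  have he_1_2 : T.a (v 1) (v 2) = T.w (v 1) := by
    rcases hd2 1 2 hp_1_2 with h1 | hh
    · exact h1
    · exfalso
      refine Groth.Agent.Lib.Helper39.NT.cert T v hn ![0, 2, 2, 2, 2, 1, 0, 1] (by decide) 1 (by decide) ?_
      intro s hs
      fin_cases s
      · simp at hs
      · simp [Fin.sum_univ_eight]; linarith [hdiag 1, hh, hnn 1 3 (by decide), hnn 1 4 (by decide), hnn 1 5 (by decide), hnn 1 7 (by decide)]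
      · simp [Fin.sum_univ_eight]; linarith [hdiag 2, hl_2_1, hl_2_3, hnn 2 4 (by decide), hnn 2 5 (by decide), hnn 2 7 (by decide)]
      · simp [Fin.sum_univ_eight]; linarith [hdiag 3, hnn 3 1 (by decide), hl_3_2, hl_3_4, hnn 3 5 (by decide), hnn 3 7 (by decide)]
      · simp [Fin.sum_univ_eight]; linarith [hdiag 4, hnn 4 1 (by decide), hnn 4 2 (by decide), hl_4_3, hl_4_5, hl_4_7]
      · simp [Fin.sum_univ_eight]; linarith [hdiag 5, hnn 5 1 (by decide), hnn 5 2 (by decide), hnn 5 3 (by decide), hl_5_4, hnn 5 7 (by decide)]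
      · simp at hs
      · simp [Fin.sum_univ_eight]; linarith [hdiag 7, hnn 7 1 (by decide), hnn 7 2 (by decide), hnn 7 3 (by decide), hl_7_4, hnn 7 5 (by decide)]
  have he_2_1 : T.a (v 2) (v 1) = T.w (v 2) := by
    rcases hd2 2 1 hp_2_1 with h1 | hh
    · exact h1
    · exfalso
      refine Groth.Agent.Lib.Helper39.NT.cert T v hn ![0, 1, 2, 2, 2, 1, 0, 1] (by decide) 1 (by decide) ?_
      intro s hs
      fin_cases s
      · simp at hs
      · simp [Fin.sum_univ_eight]; linarith [hdiag 1, hl_1_2, hnn 1 3 (by decide), hnn 1 4 (by decide), hnn 1 5 (by decide), hnn 1 7 (by decide)]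
      · simp [Fin.sum_univ_eight]; linarith [hdiag 2, hh, hl_2_3, hnn 2 4 (by decide), hnn 2 5 (by decide), hnn 2 7 (by decide)]
      · simp [Fin.sum_univ_eight]; linarith [hdiag 3, hnn 3 1 (by decide), hl_3_2, hl_3_4, hnn 3 5 (by decide), hnn 3 7 (by decide)]
      · simp [Fin.sum_univ_eight]; linarith [hdiag 4, hnn 4 1 (by decide), hnn 4 2 (by decide), hl_4_3, hl_4_5, hl_4_7]
      · simp [Fin.sum_univ_eight]; linarith [hdiag 5, hnn 5 1 (by decide), hnn 5 2 (by decide), hnn 5 3 (by decide), hl_5_4, hnn 5 7 (by decide)]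
      · simp at hs
      · simp [Fin.sum_univ_eight]; linarith [hdiag 7, hnn 7 1 (by decide), hnn 7 2 (by decide), hnn 7 3 (by decide), hl_7_4, hnn 7 5 (by decide)]
  have he_2_3 : T.a (v 2) (v 3) = T.w (v 2) := by
    rcases hd2 2 3 hp_2_3 with h1 | hh
    · exact h1
    · exfalso
      refine Groth.Agent.Lib.Helper39.NT.cert T v hn ![0, 0, 2, 2, 2, 1, 0, 1] (by decide) 2 (by decide) ?_
      intro s hs
      fin_cases s
      · simp at hs
      · simp at hs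
      · simp [Fin.sum_univ_eight]; linarith [hdiag 2, hh, hnn 2 4 (by decide), hnn 2 5 (by decide), hnn 2 7 (by decide)]
      · simp [Fin.sum_univ_eight]; linarith [hdiag 3, hl_3_2, hl_3_4, hnn 3 5 (by decide), hnn 3 7 (by decide)]
      · simp [Fin.sum_univ_eight]; linarith [hdiag 4, hnn 4 2 (by decide), hl_4_3, hl_4_5, hl_4_7]
      · simp [Fin.sum_univ_eight]; linarith [hdiag 5, hnn 5 2 (by decide), hnn 5 3 (by decide), hl_5_4, hnn 5 7 (by decide)]
      · simp at hs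
      · simp [Fin.sum_univ_eight]; linarith [hdiag 7, hnn 7 2 (by decide), hnn 7 3 (by decide), hl_7_4, hnn 7 5 (by decide)]
  have he_3_2 : T.a (v 3) (v 2) = T.w (v 3) := by
    rcases hd2 3 2 hp_3_2 with h1 | hh
    · exact h1
    · exfalso
      refine Groth.Agent.Lib.Helper39.NT.cert T v hn ![0, 0, 1, 2, 2, 1, 0, 1] (by decide) 2 (by decide) ?_
      intro s hs
      fin_cases s
      · simp at hs
      · simp at hs
      · simp [Fin.sum_univ_eight]; linarith [hdiag 2, hl_2_3, hnn 2 4 (by decide), hnn 2 5 (by decide), hnn 2 7 (by decide)]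
      · simp [Fin.sum_univ_eight]; linarith [hdiag 3, hh, hl_3_4, hnn 3 5 (by decide), hnn 3 7 (by decide)]
      · simp [Fin.sum_univ_eight]; linarith [hdiag 4, hnn 4 2 (by decide), hl_4_3, hl_4_5, hl_4_7]
      · simp [Fin.sum_univ_eight]; linarith [hdiag 5, hnn 5 2 (by decide), hnn 5 3 (by decide), hl_5_4, hnn 5 7 (by decide)]
      · simp at hs
      · simp [Fin.sum_univ_eight]; linarith [hdiag 7, hnn 7 2 (by decide), hnn 7 3 (by decide), hl_7_4, hnn 7 5 (by decide)]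
  have he_3_4 : T.a (v 3) (v 4) = T.w (v 3) := by
    rcases hd2 3 4 hp_3_4 with h1 | hh
    · exact h1
    · exfalso
      refine Groth.Agent.Lib.Helper39.NT.cert T v hn ![0, 0, 0, 2, 2, 1, 0, 1] (by decide) 3 (by decide) ?_
      intro s hs
      fin_cases s
      · simp at hs
      · simp at hs
      · simp at hs
      · simp [Fin.sum_univ_eight]; linarith [hdiag 3, hh, hnn 3 5 (by decide), hnn 3 7 (by decide)]
      · simp [Fin.sum_univ_eight]; linarith [hdiag 4, hl_4_3, hl_4_5, hl_4_7]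
      · simp [Fin.sum_univ_eight]; linarith [hdiag 5, hnn 5 3 (by decide), hl_5_4, hnn 5 7 (by decide)]
      · simp at hs
      · simp [Fin.sum_univ_eight]; linarith [hdiag 7, hnn 7 3 (by decide), hl_7_4, hnn 7 5 (by decide)]
  have he_4_3 : T.a (v 4) (v 3) = T.w (v 4) := by
    rcases hd2 4 3 hp_4_3 with h1 | hh
    · exact h1
    · exfalso
      refine Groth.Agent.Lib.Helper39.NT.cert T v hn ![0, 0, 0, 1, 2, 1, 0, 1] (by decide) 3 (by decide) ?_
      intro s hs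
      fin_cases s
      · simp at hs
      · simp at hs
      · simp at hs
      · simp [Fin.sum_univ_eight]; linarith [hdiag 3, hl_3_4, hnn 3 5 (by decide), hnn 3 7 (by decide)]
      · simp [Fin.sum_univ_eight]; linarith [hdiag 4, hh, hl_4_5, hl_4_7]
      · simp [Fin.sum_univ_eight]; linarith [hdiag 5, hnn 5 3 (by decide), hl_5_4, hnn 5 7 (by decide)]
      · simp at hs
      · simp [Fin.sum_univ_eight]; linarith [hdiag 7, hnn 7 3 (by decide), hl_7_4, hnn 7 5 (by decide)]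
  have he_4_5 : T.a (v 4) (v 5) = T.w (v 4) := by
    rcases hd2 4 5 hp_4_5 with h1 | hh
    · exact h1
    · exfalso
      refine Groth.Agent.Lib.Helper39.NT.cert T v hn ![0, 0, 0, 1, 2, 1, 0, 1] (by decide) 3 (by decide) ?_
      intro s hs
      fin_cases s
      · simp at hs
      · simp at hs
      · simp at hs
      · simp [Fin.sum_univ_eight]; linarith [hdiag 3, hl_3_4, hnn 3 5 (by decide), hnn 3 7 (by decide)]
      · simp [Fin.sum_univ_eight]; linarith [hdiag 4, hl_4_3, hh, hl_4_7]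
      · simp [Fin.sum_univ_eight]; linarith [hdiag 5, hnn 5 3 (by decide), hl_5_4, hnn 5 7 (by decide)]
      · simp at hs
      · simp [Fin.sum_univ_eight]; linarith [hdiag 7, hnn 7 3 (by decide), hl_7_4, hnn 7 5 (by decide)]
  have he_5_4 : T.a (v 5) (v 4) = T.w (v 5) := by
    rcases hd2 5 4 hp_5_4 with h1 | hh
    · exact h1
    · exfalso
      refine Groth.Agent.Lib.Helper39.NT.cert T v hn ![0, 0, 0, 1, 2, 2, 0, 1] (by decide) 3 (by decide) ?_
      intro s hs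
      fin_cases s
      · simp at hs
      · simp at hs
      · simp at hs
      · simp [Fin.sum_univ_eight]; linarith [hdiag 3, hl_3_4, hnn 3 5 (by decide), hnn 3 7 (by decide)]
      · simp [Fin.sum_univ_eight]; linarith [hdiag 4, hl_4_3, hl_4_5, hl_4_7]
      · simp [Fin.sum_univ_eight]; linarith [hdiag 5, hnn 5 3 (by decide), hh, hnn 5 7 (by decide)]
      · simp at hs
      · simp [Fin.sum_univ_eight]; linarith [hdiag 7, hnn 7 3 (by decide), hl_7_4, hnn 7 5 (by decide)]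
  have he_5_6 : T.a (v 5) (v 6) = T.w (v 5) := by
    rcases hd2 5 6 hp_5_6 with h1 | hh
    · exact h1
    · exfalso
      refine Groth.Agent.Lib.Helper39.NT.cert T v hn ![0, 0, 0, 1, 2, 2, 1, 1] (by decide) 3 (by decide) ?_
      intro s hs
      fin_cases s
      · simp at hs
      · simp at hs
      · simp at hs
      · simp [Fin.sum_univ_eight]; linarith [hdiag 3, hl_3_4, hnn 3 5 (by decide), hnn 3 6 (by decide), hnn 3 7 (by decide)]
      · simp [Fin.sum_univ_eight]; linarith [hdiag 4, hl_4_3, hl_4_5, hnn 4 6 (by decide), hl_4_7]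
      · simp [Fin.sum_univ_eight]; linarith [hdiag 5, hnn 5 3 (by decide), hl_5_4, hh, hnn 5 7 (by decide)]
      · simp [Fin.sum_univ_eight]; linarith [hdiag 6, hnn 6 3 (by decide), hnn 6 4 (by decide), hl_6_5, hnn 6 7 (by decide)]
      · simp [Fin.sum_univ_eight]; linarith [hdiag 7, hnn 7 3 (by decide), hl_7_4, hnn 7 5 (by decide), hnn 7 6 (by decide)]
  have he_6_5 : T.a (v 6) (v 5) = T.w (v 6) := by
    rcases hd2 6 5 hp_6_5 with h1 | hh
    · exact h1
    · exfalso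
      refine Groth.Agent.Lib.Helper39.NT.cert T v hn ![0, 0, 0, 1, 2, 2, 2, 1] (by decide) 3 (by decide) ?_
      intro s hs
      fin_cases s
      · simp at hs
      · simp at hs
      · simp at hs
      · simp [Fin.sum_univ_eight]; linarith [hdiag 3, hl_3_4, hnn 3 5 (by decide), hnn 3 6 (by decide), hnn 3 7 (by decide)]
      · simp [Fin.sum_univ_eight]; linarith [hdiag 4, hl_4_3, hl_4_5, hnn 4 6 (by decide), hl_4_7]
      · simp [Fin.sum_univ_eight]; linarith [hdiag 5, hnn 5 3 (by decide), hl_5_4, hl_5_6, hnn 5 7 (by decide)]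
      · simp [Fin.sum_univ_eight]; linarith [hdiag 6, hnn 6 3 (by decide), hnn 6 4 (by decide), hh, hnn 6 7 (by decide)]
      · simp [Fin.sum_univ_eight]; linarith [hdiag 7, hnn 7 3 (by decide), hl_7_4, hnn 7 5 (by decide), hnn 7 6 (by decide)]
  have he_4_7 : T.a (v 4) (v 7) = T.w (v 4) := by
    rcases hd2 4 7 hp_4_7 with h1 | hh
    · exact h1
    · exfalso
      refine Groth.Agent.Lib.Helper39.NT.cert T v hn ![0, 0, 0, 1, 2, 1, 0, 1] (by decide) 3 (by decide) ?_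
      intro s hs
      fin_cases s
      · simp at hs
      · simp at hs
      · simp at hs
      · simp [Fin.sum_univ_eight]; linarith [hdiag 3, hl_3_4, hnn 3 5 (by decide), hnn 3 7 (by decide)]
      · simp [Fin.sum_univ_eight]; linarith [hdiag 4, hl_4_3, hl_4_5, hh]
      · simp [Fin.sum_univ_eight]; linarith [hdiag 5, hnn 5 3 (by decide), hl_5_4, hnn 5 7 (by decide)]
      · simp at hs
      · simp [Fin.sum_univ_eight]; linarith [hdiag 7, hnn 7 3 (by decide), hl_7_4, hnn 7 5 (by decide)]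
  have he_7_4 : T.a (v 7) (v 4) = T.w (v 7) := by
    rcases hd2 7 4 hp_7_4 with h1 | hh
    · exact h1
    · exfalso
      refine Groth.Agent.Lib.Helper39.NT.cert T v hn ![0, 0, 0, 1, 2, 1, 0, 2] (by decide) 3 (by decide) ?_
      intro s hs
      fin_cases s
      · simp at hs
      · simp at hs
      · simp at hs
      · simp [Fin.sum_univ_eight]; linarith [hdiag 3, hl_3_4, hnn 3 5 (by decide), hnn 3 7 (by decide)]
      · simp [Fin.sum_univ_eight]; linarith [hdiag 4, hl_4_3, hl_4_5, hl_4_7]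
      · simp [Fin.sum_univ_eight]; linarith [hdiag 5, hnn 5 3 (by decide), hl_5_4, hnn 5 7 (by decide)]
      · simp at hs
      · simp [Fin.sum_univ_eight]; linarith [hdiag 7, hnn 7 3 (by decide), hh, hnn 7 5 (by decide)]
  have hw_1 : T.w (v 1) = T.w (v 0) := by linarith [he_0_1, he_1_0, hsym 0 1, he_1_2, he_2_1, hsym 1 2, he_2_3, he_3_2, hsym 2 3, he_3_4, he_4_3, hsym 3 4, he_4_5, he_5_4, hsym 4 5, he_5_6, he_6_5, hsym 5 6, he_4_7, he_7_4, hsym 4 7]
  have hw_2 : T.w (v 2) = T.w (v 0) := by linarith [he_0_1, he_1_0, hsym 0 1, he_1_2, he_2_1, hsym 1 2, he_2_3, he_3_2, hsym 2 3, he_3_4, he_4_3, hsym 3 4, he_4_5, he_5_4, hsym 4 5, he_5_6, he_6_5, hsym 5 6, he_4_7, he_7_4, hsym 4 7]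
  have hw_3 : T.w (v 3) = T.w (v 0) := by linarith [he_0_1, he_1_0, hsym 0 1, he_1_2, he_2_1, hsym 1 2, he_2_3, he_3_2, hsym 2 3, he_3_4, he_4_3, hsym 3 4, he_4_5, he_5_4, hsym 4 5, he_5_6, he_6_5, hsym 5 6, he_4_7, he_7_4, hsym 4 7]
  have hw_4 : T.w (v 4) = T.w (v 0) := by linarith [he_0_1, he_1_0, hsym 0 1, he_1_2, he_2_1, hsym 1 2, he_2_3, he_3_2, hsym 2 3, he_3_4, he_4_3, hsym 3 4, he_4_5, he_5_4, hsym 4 5, he_5_6, he_6_5, hsym 5 6, he_4_7, he_7_4, hsym 4 7]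
  have hw_5 : T.w (v 5) = T.w (v 0) := by linarith [he_0_1, he_1_0, hsym 0 1, he_1_2, he_2_1, hsym 1 2, he_2_3, he_3_2, hsym 2 3, he_3_4, he_4_3, hsym 3 4, he_4_5, he_5_4, hsym 4 5, he_5_6, he_6_5, hsym 5 6, he_4_7, he_7_4, hsym 4 7]
  have hw_6 : T.w (v 6) = T.w (v 0) := by linarith [he_0_1, he_1_0, hsym 0 1, he_1_2, he_2_1, hsym 1 2, he_2_3, he_3_2, hsym 2 3, he_3_4, he_4_3, hsym 3 4, he_4_5, he_5_4, hsym 4 5, he_5_6, he_6_5, hsym 5 6, he_4_7, he_7_4, hsym 4 7]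
  have hw_7 : T.w (v 7) = T.w (v 0) := by linarith [he_0_1, he_1_0, hsym 0 1, he_1_2, he_2_1, hsym 1 2, he_2_3, he_3_2, hsym 2 3, he_3_4, he_4_3, hsym 3 4, he_4_5, he_5_4, hsym 4 5, he_5_6, he_6_5, hsym 5 6, he_4_7, he_7_4, hsym 4 7]
  have hall : ∀ j : Fin 8, T.w (v j) = T.w (v 0) := by
    intro j
    fin_cases j
    exacts [rfl, hw_1, hw_2, hw_3, hw_4, hw_5, hw_6, hw_7]
  have hz_2_0 : T.a (v 2) (v 0) = 0 := by rw [hsym 2 0]; exact hz_0_2
  have hz_3_0 : T.a (v 3) (v 0) = 0 := by rw [hsym 3 0]; exact hz_0_3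
  have hz_4_0 : T.a (v 4) (v 0) = 0 := by rw [hsym 4 0]; exact hz_0_4
  have hz_5_0 : T.a (v 5) (v 0) = 0 := by rw [hsym 5 0]; exact hz_0_5
  have hz_6_0 : T.a (v 6) (v 0) = 0 := by rw [hsym 6 0]; exact hz_0_6
  have hz_7_0 : T.a (v 7) (v 0) = 0 := by rw [hsym 7 0]; exact hz_0_7
  have hz_3_1 : T.a (v 3) (v 1) = 0 := by rw [hsym 3 1]; exact hz_1_3
  have hz_4_1 : T.a (v 4) (v 1) = 0 := by rw [hsym 4 1]; exact hz_1_4
  have hz_5_1 : T.a (v 5) (v 1) = 0 := by rw [hsym 5 1]; exact hz_1_5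
  have hz_6_1 : T.a (v 6) (v 1) = 0 := by rw [hsym 6 1]; exact hz_1_6
  have hz_7_1 : T.a (v 7) (v 1) = 0 := by rw [hsym 7 1]; exact hz_1_7
  have hz_4_2 : T.a (v 4) (v 2) = 0 := by rw [hsym 4 2]; exact hz_2_4
  have hz_5_2 : T.a (v 5) (v 2) = 0 := by rw [hsym 5 2]; exact hz_2_5
  have hz_6_2 : T.a (v 6) (v 2) = 0 := by rw [hsym 6 2]; exact hz_2_6
  have hz_7_2 : T.a (v 7) (v 2) = 0 := by rw [hsym 7 2]; exact hz_2_7
  have hz_5_3 : T.a (v 5) (v 3) = 0 := by rw [hsym 5 3]; exact hz_3_5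
  have hz_6_3 : T.a (v 6) (v 3) = 0 := by rw [hsym 6 3]; exact hz_3_6
  have hz_7_3 : T.a (v 7) (v 3) = 0 := by rw [hsym 7 3]; exact hz_3_7
  have hz_6_4 : T.a (v 6) (v 4) = 0 := by rw [hsym 6 4]; exact hz_4_6
  have hz_7_5 : T.a (v 7) (v 5) = 0 := by rw [hsym 7 5]; exact hz_5_7
  have hz_7_6 : T.a (v 7) (v 6) = 0 := by rw [hsym 7 6]; exact hz_6_7
  have hm_0 : T.m (v 1) ≤ 2 * T.m (v 0) := by
    have h := Groth.Agent.Lib.Helper39.NT.row_emb_le T v 0
    simp only [Fin.sum_univ_eight] at h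
    rw [hdiag 0, he_0_1, hz_0_2, hz_0_3, hz_0_4, hz_0_5, hz_0_6, hz_0_7] at h
    have h2 : T.w (v 0) * (T.m (v 1)) ≤ T.w (v 0) * (2 * T.m (v 0)) := by linarith
    exact le_of_mul_le_mul_left h2 (hwp 0)
  have hm_1 : T.m (v 0) + T.m (v 2) ≤ 2 * T.m (v 1) := by
    have h := Groth.Agent.Lib.Helper39.NT.row_emb_le T v 1
    simp only [Fin.sum_univ_eight] at h
    rw [hdiag 1, he_1_0, he_1_2, hz_1_3, hz_1_4, hz_1_5, hz_1_6, hz_1_7] at h
    have h2 : T.w (v 1) * (T.m (v 0) + T.m (v 2)) ≤ T.w (v 1) * (2 * T.m (v 1)) := by linarith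
    exact le_of_mul_le_mul_left h2 (hwp 1)
  have hm_2 : T.m (v 1) + T.m (v 3) ≤ 2 * T.m (v 2) := by
    have h := Groth.Agent.Lib.Helper39.NT.row_emb_le T v 2
    simp only [Fin.sum_univ_eight] at h
    rw [hdiag 2, he_2_1, he_2_3, hz_2_0, hz_2_4, hz_2_5, hz_2_6, hz_2_7] at h
    have h2 : T.w (v 2) * (T.m (v 1) + T.m (v 3)) ≤ T.w (v 2) * (2 * T.m (v 2)) := by linarith
    exact le_of_mul_le_mul_left h2 (hwp 2)
  have hm_3 : T.m (v 2) + T.m (v 4) ≤ 2 * T.m (v 3) := by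
    have h := Groth.Agent.Lib.Helper39.NT.row_emb_le T v 3
    simp only [Fin.sum_univ_eight] at h
    rw [hdiag 3, he_3_2, he_3_4, hz_3_0, hz_3_1, hz_3_5, hz_3_6, hz_3_7] at h
    have h2 : T.w (v 3) * (T.m (v 2) + T.m (v 4)) ≤ T.w (v 3) * (2 * T.m (v 3)) := by linarith
    exact le_of_mul_le_mul_left h2 (hwp 3)
  have hm_4 : T.m (v 3) + T.m (v 5) + T.m (v 7) ≤ 2 * T.m (v 4) := by
    have h := Groth.Agent.Lib.Helper39.NT.row_emb_le T v 4
    simp only [Fin.sum_univ_eight] at h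
    rw [hdiag 4, he_4_3, he_4_5, he_4_7, hz_4_0, hz_4_1, hz_4_2, hz_4_6] at h
    have h2 : T.w (v 4) * (T.m (v 3) + T.m (v 5) + T.m (v 7)) ≤ T.w (v 4) * (2 * T.m (v 4)) := by linarith
    exact le_of_mul_le_mul_left h2 (hwp 4)
  have hm_5 : T.m (v 4) + T.m (v 6) ≤ 2 * T.m (v 5) := by
    have h := Groth.Agent.Lib.Helper39.NT.row_emb_le T v 5
    simp only [Fin.sum_univ_eight] at h
    rw [hdiag 5, he_5_4, he_5_6, hz_5_0, hz_5_1, hz_5_2, hz_5_3, hz_5_7] at h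
    have h2 : T.w (v 5) * (T.m (v 4) + T.m (v 6)) ≤ T.w (v 5) * (2 * T.m (v 5)) := by linarith
    exact le_of_mul_le_mul_left h2 (hwp 5)
  have hm_6 : T.m (v 5) ≤ 2 * T.m (v 6) := by
    have h := Groth.Agent.Lib.Helper39.NT.row_emb_le T v 6
    simp only [Fin.sum_univ_eight] at h
    rw [hdiag 6, he_6_5, hz_6_0, hz_6_1, hz_6_2, hz_6_3, hz_6_4, hz_6_7] at h
    have h2 : T.w (v 6) * (T.m (v 5)) ≤ T.w (v 6) * (2 * T.m (v 6)) := by linarith
    exact le_of_mul_le_mul_left h2 (hwp 6)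
  have hm_7 : T.m (v 4) ≤ 2 * T.m (v 7) := by
    have h := Groth.Agent.Lib.Helper39.NT.row_emb_le T v 7
    simp only [Fin.sum_univ_eight] at h
    rw [hdiag 7, he_7_4, hz_7_0, hz_7_1, hz_7_2, hz_7_3, hz_7_5, hz_7_6] at h
    have h2 : T.w (v 7) * (T.m (v 4)) ≤ T.w (v 7) * (2 * T.m (v 7)) := by linarith
    exact le_of_mul_le_mul_left h2 (hwp 7)
  exact ⟨T.w (v 0), hall, he_0_1, he_1_2.trans hw_1, he_2_3.trans hw_2, he_3_4.trans hw_3, he_4_5.trans hw_4, he_5_6.trans hw_5, he_4_7.trans hw_4, hz_0_2, hz_0_3, hz_0_4, hz_0_5, hz_0_6, hz_0_7, hz_1_3, hz_1_4, hz_1_5, hz_1_6, hz_1_7, hz_2_4, hz_2_5, hz_2_6, hz_2_7, hz_3_5, hz_3_6, hz_3_7, hz_4_6, hz_5_7, hz_6_7, hm_0, hm_1, hm_2, hm_3, hm_4, hm_5, hm_6, hm_7⟩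

end Groth.Agent.S7350
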