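import Groth.Statements.S7351
import Groth.Agent.Lib.Helper39.NumType
-- import your own Groth.Agent.* helpers here

set_option autoImplicit false
open Finset
open Models Models.NumericalType

namespace Groth.Agent.S7351

/-- Let T be a numerical type on n > 5 indices. There do not exist five distinct (-2)-indices h, i, j,
k, l with a_hi > 0, a_hj > 0, a_hk > 0 and a_hl > 0. -/
theorem result {n : ℕ} (T : Models.NumericalType n) (hn : 5 < n)
    (v : Fin 5 ↪ Fin n) (hv : ∀ j, T.IsMinusTwo (v j))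
    (h01 : 0 < T.a (v 0) (v 1)) (h02 : 0 < T.a (v 0) (v 2)) (h03 : 0 < T.a (v 0) (v 3)) (h04 : 0 < T.a (v 0) (v 4)) : False := by
  have hnn : ∀ s t : Fin 5, s ≠ t → 0 ≤ T.a (v s) (v t) := fun s t hst =>
    T.offDiag_nonneg _ _ (fun h => hst (v.injective h))
  have hdiag : ∀ s : Fin 5, T.a (v s) (v s) = -2 * T.w (v s) := fun s => (hv s).2
  have hsym : ∀ s t : Fin 5, T.a (v s) (v t) = T.a (v t) (v s) := fun s t =>
    Groth.Agent.Lib.Helper39.NT.symm' T _ _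
  have hwp : ∀ s : Fin 5, 0 < T.w (v s) := fun s => T.w_pos _
  have hmp : ∀ s : Fin 5, 0 < T.m (v s) := fun s => T.m_pos _
  have hdc : ∀ s t : Fin 5, 0 < T.a (v s) (v t) → (T.a (v s) (v t) = T.w (v s) ∨
      T.a (v s) (v t) = 2 * T.w (v s) ∨ T.a (v s) (v t) = 3 * T.w (v s) ∨
      4 * T.w (v s) ≤ T.a (v s) (v t)) := fun s t h =>
    Groth.Agent.Lib.Helper39.NT.dvd_cases (T.w_pos _) h (T.w_dvd _ _)
  have hlb : ∀ s t : Fin 5, 0 < T.a (v s) (v t) → T.w (v s) ≤ T.a (v s) (v t) := fun s t h =>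
    Int.le_of_dvd h (T.w_dvd _ _)
  have hd2 : ∀ s t : Fin 5, 0 < T.a (v s) (v t) → (T.a (v s) (v t) = T.w (v s) ∨
      2 * T.w (v s) ≤ T.a (v s) (v t)) := fun s t h => by
    rcases hdc s t h with h1 | h1 | h1 | h1
    · exact Or.inl h1
    · exact Or.inr (by linarith [hwp s])
    · exact Or.inr (by linarith [hwp s])
    · exact Or.inr (by linarith [hwp s])
  have hp_0_1 : 0 < T.a (v 0) (v 1) := h01
  have hp_1_0 : 0 < T.a (v 1) (v 0) := by rw [hsym 1 0]; exact hp_0_1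
  have hl_0_1 := hlb 0 1 hp_0_1
  have hl_1_0 := hlb 1 0 hp_1_0
  have hp_0_2 : 0 < T.a (v 0) (v 2) := h02
  have hp_2_0 : 0 < T.a (v 2) (v 0) := by rw [hsym 2 0]; exact hp_0_2
  have hl_0_2 := hlb 0 2 hp_0_2
  have hl_2_0 := hlb 2 0 hp_2_0
  have hp_0_3 : 0 < T.a (v 0) (v 3) := h03
  have hp_3_0 : 0 < T.a (v 3) (v 0) := by rw [hsym 3 0]; exact hp_0_3
  have hl_0_3 := hlb 0 3 hp_0_3
  have hl_3_0 := hlb 3 0 hp_3_0
  have hp_0_4 : 0 < T.a (v 0) (v 4) := h04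
  have hp_4_0 : 0 < T.a (v 4) (v 0) := by rw [hsym 4 0]; exact hp_0_4
  have hl_0_4 := hlb 0 4 hp_0_4
  have hl_4_0 := hlb 4 0 hp_4_0
  refine Groth.Agent.Lib.Helper39.NT.cert T v hn ![2, 1, 1, 1, 1] (by decide) 0 (by decide) ?_
  intro s hs
  fin_cases s
  · simp [Fin.sum_univ_five]; linarith [hdiag 0, hl_0_1, hl_0_2, hl_0_3, hl_0_4]
  · simp [Fin.sum_univ_five]; linarith [hdiag 1, hl_1_0, hnn 1 2 (by decide), hnn 1 3 (by decide), hnn 1 4 (by decide)]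
  · simp [Fin.sum_univ_five]; linarith [hdiag 2, hl_2_0, hnn 2 1 (by decide), hnn 2 3 (by decide), hnn 2 4 (by decide)]
  · simp [Fin.sum_univ_five]; linarith [hdiag 3, hl_3_0, hnn 3 1 (by decide), hnn 3 2 (by decide), hnn 3 4 (by decide)]
  · simp [Fin.sum_univ_five]; linarith [hdiag 4, hl_4_0, hnn 4 1 (by decide), hnn 4 2 (by decide), hnn 4 3 (by decide)]

end Groth.Agent.S7351
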