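import Groth.Statements.S7353
import Groth.Agent.Lib.Helper39.NumType
-- import your own Groth.Agent.* helpers here

set_option autoImplicit false
open Finset
open Models Models.NumericalType

namespace Groth.Agent.S7353

/-- Classification of proper subgraphs which are chains of five vertices: let T be a numerical type on n
> 5 indices and i_1, …, i_5 distinct (-2)-indices with a_{i_j i_{j+1}} nonzero for j < 5. Then
a_{i_j i_l} = 0 for |j - l| ≥ 2 and, after possibly reversing the order of the indices, for some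
integer w one of the following holds: (A5) w = (w, w, w, w, w), consecutive a = (w, w, w, w), with
2m_1 ≥ m_2, 2m_2 ≥ m_1 + m_3, 2m_3 ≥ m_2 + m_4, 2m_4 ≥ m_3 + m_5, 2m_5 ≥ m_4; (C5) w = (w, w, w, w,
2w), consecutive a = (w, w, w, 2w), with 2m_1 ≥ m_2, 2m_2 ≥ m_1 + m_3, 2m_3 ≥ m_2 + m_4, 2m_4 ≥ m_3
+ 2m_5, 2m_5 ≥ m_4; (B5) w = (2w, 2w, 2w, 2w, w), consecutive a = (2w, 2w, 2w, 2w), with 2m_1 ≥ m_2,
2m_2 ≥ m_1 + m_3, 2m_3 ≥ m_2 + m_4, 2m_4 ≥ m_3 + m_5, m_5 ≥ m_4. (The inequalities are those given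
by the rows Σ_l a_{kl} m_l = 0 of the displayed matrices; the published text has 2m_3 ≥ m_2 + 2m_4
and 2m_4 ≥ m_3 + m_5 in case C5 and m_4 ≥ m_3 in case B5, of which the first does not follow — for
the numerical type with six indices, weights (1,1,1,1,2,1), chain intersection numbers (1,1,1,2)
plus a_{16} = 1, a_{66} = -1 and multiplicities (2,2,2,2,1,2) one has 2m_3 = 4 < m_2 + 2m_4 = 6 — so
the matrix inequalities are stated.) -/
theorem result {n : ℕ} (T : Models.NumericalType n) (hn : 5 < n)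
    (v : Fin 5 ↪ Fin n) (hv : ∀ j, T.IsMinusTwo (v j)) (h01 : T.a (v 0) (v 1) ≠ 0) (h12 : T.a (v 1) (v 2) ≠ 0) (h23 : T.a (v 2) (v 3) ≠ 0) (h34 : T.a (v 3) (v 4) ≠ 0) :
    (T.a (v 0) (v 2) = 0 ∧ T.a (v 0) (v 3) = 0 ∧ T.a (v 0) (v 4) = 0 ∧ T.a (v 1) (v 3) = 0 ∧ T.a (v 1) (v 4) = 0 ∧ T.a (v 2) (v 4) = 0) ∧
    ∃ (u : Fin 5 → Fin n) (w : ℤ), ((∀ j, u j = v j) ∨ (∀ j, u j = v (Fin.rev j))) ∧
      ((T.w (u 0) = w ∧ T.w (u 1) = w ∧ T.w (u 2) = w ∧ T.w (u 3) = w ∧ T.w (u 4) = w ∧ T.a (u 0) (u 1) = w ∧ T.a (u 1) (u 2) = w ∧ T.a (u 2) (u 3) = w ∧ T.a (u 3) (u 4) = w ∧ T.m (u 1) ≤ 2 * T.m (u 0) ∧ T.m (u 0) + T.m (u 2) ≤ 2 * T.m (u 1) ∧ T.m (u 1) + T.m (u 3) ≤ 2 * T.m (u 2) ∧ T.m (u 2) + T.m (u 4) ≤ 2 * T.m (u 3) ∧ T.m (u 3) ≤ 2 * T.m (u 4)) ∨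
      (T.w (u 0) = w ∧ T.w (u 1) = w ∧ T.w (u 2) = w ∧ T.w (u 3) = w ∧ T.w (u 4) = 2 * w ∧ T.a (u 0) (u 1) = w ∧ T.a (u 1) (u 2) = w ∧ T.a (u 2) (u 3) = w ∧ T.a (u 3) (u 4) = 2 * w ∧ T.m (u 1) ≤ 2 * T.m (u 0) ∧ T.m (u 0) + T.m (u 2) ≤ 2 * T.m (u 1) ∧ T.m (u 1) + T.m (u 3) ≤ 2 * T.m (u 2) ∧ T.m (u 2) + 2 * T.m (u 4) ≤ 2 * T.m (u 3) ∧ T.m (u 3) ≤ 2 * T.m (u 4)) ∨
      (T.w (u 0) = 2 * w ∧ T.w (u 1) = 2 * w ∧ T.w (u 2) = 2 * w ∧ T.w (u 3) = 2 * w ∧ T.w (u 4) = w ∧ T.a (u 0) (u 1) = 2 * w ∧ T.a (u 1) (u 2) = 2 * w ∧ T.a (u 2) (u 3) = 2 * w ∧ T.a (u 3) (u 4) = 2 * w ∧ T.m (u 1) ≤ 2 * T.m (u 0) ∧ T.m (u 0) + T.m (u 2) ≤ 2 * T.m (u 1) ∧ T.m (u 1) + T.m (u 3) ≤ 2 * T.m (u 2) ∧ T.m (u 2) + T.m (u 4) ≤ 2 * T.m (u 3) ∧ T.m (u 3) ≤ T.m (u 4))) := by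
  have hnn : ∀ s t : Fin 5, s ≠ t → 0 ≤ T.a (v s) (v t) := fun s t hst =>
    T.offDiag_nonneg _ _ (fun h => hst (v.injective h))
  have hdiag : ∀ s : Fin 5, T.a (v s) (v s) = -2 * T.w (v s) := fun s => (hv s).2
  have hsym : ∀ s t : Fin 5, T.a (v s) (v t) = T.a (v t) (v s) := fun s t =>
    Groth.Agent.Lib.Helper39.NT.symm' T _ _
  have hwp : ∀ s : Fin 5, 0 < T.w (v s) := fun s => T.w_pos _
  have hmp : ∀ s : Fin 5, 0 < T.m (v s) := fun s => T.m_pos _
  have hdc : ∀ s t : Fin 5, 0 < T.a (v s) (v t) → (T.a (v s) (v t) = T.w (v s) ∨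
      T.a (v s) (v t) = 2 * T.w (v s) ∨ T.a (v s) (v t) = 3 * T.w (v s) ∨
      4 * T.w (v s) ≤ T.a (v s) (v t)) := fun s t h =>
    Groth.Agent.Lib.Helper39.NT.dvd_cases (T.w_pos _) h (T.w_dvd _ _)
  have hlb : ∀ s t : Fin 5, 0 < T.a (v s) (v t) → T.w (v s) ≤ T.a (v s) (v t) := fun s t h =>
    Int.le_of_dvd h (T.w_dvd _ _)
  have hd2 : ∀ s t : Fin 5, 0 < T.a (v s) (v t) → (T.a (v s) (v t) = T.w (v s) ∨
      2 * T.w (v s) ≤ T.a (v s) (v t)) := fun s t h => by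
    rcases hdc s t h with h1 | h1 | h1 | h1
    · exact Or.inl h1
    · exact Or.inr (by linarith [hwp s])
    · exact Or.inr (by linarith [hwp s])
    · exact Or.inr (by linarith [hwp s])
  have hd3 : ∀ s t : Fin 5, 0 < T.a (v s) (v t) → (T.a (v s) (v t) = T.w (v s) ∨
      T.a (v s) (v t) = 2 * T.w (v s) ∨ 3 * T.w (v s) ≤ T.a (v s) (v t)) := fun s t h => by
    rcases hdc s t h with h1 | h1 | h1 | h1
    · exact Or.inl h1
    · exact Or.inr (Or.inl h1)
    · exact Or.inr (Or.inr h1.ge)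
    · exact Or.inr (Or.inr (by linarith [hwp s]))
  have hp_0_1 : 0 < T.a (v 0) (v 1) := lt_of_le_of_ne (hnn 0 1 (by decide)) (Ne.symm h01)
  have hp_1_0 : 0 < T.a (v 1) (v 0) := by rw [hsym 1 0]; exact hp_0_1
  have hl_0_1 := hlb 0 1 hp_0_1
  have hl_1_0 := hlb 1 0 hp_1_0
  have hp_1_2 : 0 < T.a (v 1) (v 2) := lt_of_le_of_ne (hnn 1 2 (by decide)) (Ne.symm h12)
  have hp_2_1 : 0 < T.a (v 2) (v 1) := by rw [hsym 2 1]; exact hp_1_2
  have hl_1_2 := hlb 1 2 hp_1_2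
  have hl_2_1 := hlb 2 1 hp_2_1
  have hp_2_3 : 0 < T.a (v 2) (v 3) := lt_of_le_of_ne (hnn 2 3 (by decide)) (Ne.symm h23)
  have hp_3_2 : 0 < T.a (v 3) (v 2) := by rw [hsym 3 2]; exact hp_2_3
  have hl_2_3 := hlb 2 3 hp_2_3
  have hl_3_2 := hlb 3 2 hp_3_2
  have hp_3_4 : 0 < T.a (v 3) (v 4) := lt_of_le_of_ne (hnn 3 4 (by decide)) (Ne.symm h34)
  have hp_4_3 : 0 < T.a (v 4) (v 3) := by rw [hsym 4 3]; exact hp_3_4
  have hl_3_4 := hlb 3 4 hp_3_4
  have hl_4_3 := hlb 4 3 hp_4_3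
  have hz_0_2 : T.a (v 0) (v 2) = 0 := by
    by_contra hne
    have hq1 : 0 < T.a (v 0) (v 2) := lt_of_le_of_ne (hnn 0 2 (by decide)) (Ne.symm hne)
    have hq2 : 0 < T.a (v 2) (v 0) := by rw [hsym 2 0]; exact hq1
    have hr1 := hlb 0 2 hq1
    have hr2 := hlb 2 0 hq2
    refine Groth.Agent.Lib.Helper39.NT.cert T v hn ![1, 1, 1, 0, 0] (by decide) 0 (by decide) ?_
    intro s hs
    fin_cases s
    · simp [Fin.sum_univ_five]; linarith [hdiag 0, hl_0_1, hr1]
    · simp [Fin.sum_univ_five]; linarith [hdiag 1, hl_1_0, hl_1_2]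
    · simp [Fin.sum_univ_five]; linarith [hdiag 2, hr2, hl_2_1]
    · simp at hs
    · simp at hs
  have hz_2_0 : T.a (v 2) (v 0) = 0 := by rw [hsym 2 0]; exact hz_0_2
  have hz_0_3 : T.a (v 0) (v 3) = 0 := by
    by_contra hne
    have hq1 : 0 < T.a (v 0) (v 3) := lt_of_le_of_ne (hnn 0 3 (by decide)) (Ne.symm hne)
    have hq2 : 0 < T.a (v 3) (v 0) := by rw [hsym 3 0]; exact hq1
    have hr1 := hlb 0 3 hq1
    have hr2 := hlb 3 0 hq2
    refine Groth.Agent.Lib.Helper39.NT.cert T v hn ![1, 1, 1, 1, 0] (by decide) 0 (by decide) ?_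
    intro s hs
    fin_cases s
    · simp [Fin.sum_univ_five]; linarith [hdiag 0, hl_0_1, hnn 0 2 (by decide), hr1]
    · simp [Fin.sum_univ_five]; linarith [hdiag 1, hl_1_0, hl_1_2, hnn 1 3 (by decide)]
    · simp [Fin.sum_univ_five]; linarith [hdiag 2, hnn 2 0 (by decide), hl_2_1, hl_2_3]
    · simp [Fin.sum_univ_five]; linarith [hdiag 3, hr2, hnn 3 1 (by decide), hl_3_2]
    · simp at hs
  have hz_3_0 : T.a (v 3) (v 0) = 0 := by rw [hsym 3 0]; exact hz_0_3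
  have hz_0_4 : T.a (v 0) (v 4) = 0 := by
    by_contra hne
    have hq1 : 0 < T.a (v 0) (v 4) := lt_of_le_of_ne (hnn 0 4 (by decide)) (Ne.symm hne)
    have hq2 : 0 < T.a (v 4) (v 0) := by rw [hsym 4 0]; exact hq1
    have hr1 := hlb 0 4 hq1
    have hr2 := hlb 4 0 hq2
    refine Groth.Agent.Lib.Helper39.NT.cert T v hn ![1, 1, 1, 1, 1] (by decide) 0 (by decide) ?_
    intro s hs
    fin_cases s
    · simp [Fin.sum_univ_five]; linarith [hdiag 0, hl_0_1, hnn 0 2 (by decide), hnn 0 3 (by decide), hr1]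
    · simp [Fin.sum_univ_five]; linarith [hdiag 1, hl_1_0, hl_1_2, hnn 1 3 (by decide), hnn 1 4 (by decide)]
    · simp [Fin.sum_univ_five]; linarith [hdiag 2, hnn 2 0 (by decide), hl_2_1, hl_2_3, hnn 2 4 (by decide)]
    · simp [Fin.sum_univ_five]; linarith [hdiag 3, hnn 3 0 (by decide), hnn 3 1 (by decide), hl_3_2, hl_3_4]
    · simp [Fin.sum_univ_five]; linarith [hdiag 4, hr2, hnn 4 1 (by decide), hnn 4 2 (by decide), hl_4_3]
  have hz_4_0 : T.a (v 4) (v 0) = 0 := by rw [hsym 4 0]; exact hz_0_4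
  have hz_1_3 : T.a (v 1) (v 3) = 0 := by
    by_contra hne
    have hq1 : 0 < T.a (v 1) (v 3) := lt_of_le_of_ne (hnn 1 3 (by decide)) (Ne.symm hne)
    have hq2 : 0 < T.a (v 3) (v 1) := by rw [hsym 3 1]; exact hq1
    have hr1 := hlb 1 3 hq1
    have hr2 := hlb 3 1 hq2
    refine Groth.Agent.Lib.Helper39.NT.cert T v hn ![0, 1, 1, 1, 0] (by decide) 1 (by decide) ?_
    intro s hs
    fin_cases s
    · simp at hs
    · simp [Fin.sum_univ_five]; linarith [hdiag 1, hl_1_2, hr1]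
    · simp [Fin.sum_univ_five]; linarith [hdiag 2, hl_2_1, hl_2_3]
    · simp [Fin.sum_univ_five]; linarith [hdiag 3, hr2, hl_3_2]
    · simp at hs
  have hz_3_1 : T.a (v 3) (v 1) = 0 := by rw [hsym 3 1]; exact hz_1_3
  have hz_1_4 : T.a (v 1) (v 4) = 0 := by
    by_contra hne
    have hq1 : 0 < T.a (v 1) (v 4) := lt_of_le_of_ne (hnn 1 4 (by decide)) (Ne.symm hne)
    have hq2 : 0 < T.a (v 4) (v 1) := by rw [hsym 4 1]; exact hq1
    have hr1 := hlb 1 4 hq1
    have hr2 := hlb 4 1 hq2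
    refine Groth.Agent.Lib.Helper39.NT.cert T v hn ![0, 1, 1, 1, 1] (by decide) 1 (by decide) ?_
    intro s hs
    fin_cases s
    · simp at hs
    · simp [Fin.sum_univ_five]; linarith [hdiag 1, hl_1_2, hnn 1 3 (by decide), hr1]
    · simp [Fin.sum_univ_five]; linarith [hdiag 2, hl_2_1, hl_2_3, hnn 2 4 (by decide)]
    · simp [Fin.sum_univ_five]; linarith [hdiag 3, hnn 3 1 (by decide), hl_3_2, hl_3_4]
    · simp [Fin.sum_univ_five]; linarith [hdiag 4, hr2, hnn 4 2 (by decide), hl_4_3]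
  have hz_4_1 : T.a (v 4) (v 1) = 0 := by rw [hsym 4 1]; exact hz_1_4
  have hz_2_4 : T.a (v 2) (v 4) = 0 := by
    by_contra hne
    have hq1 : 0 < T.a (v 2) (v 4) := lt_of_le_of_ne (hnn 2 4 (by decide)) (Ne.symm hne)
    have hq2 : 0 < T.a (v 4) (v 2) := by rw [hsym 4 2]; exact hq1
    have hr1 := hlb 2 4 hq1
    have hr2 := hlb 4 2 hq2
    refine Groth.Agent.Lib.Helper39.NT.cert T v hn ![0, 0, 1, 1, 1] (by decide) 2 (by decide) ?_
    intro s hs
    fin_cases s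
    · simp at hs
    · simp at hs
    · simp [Fin.sum_univ_five]; linarith [hdiag 2, hl_2_3, hr1]
    · simp [Fin.sum_univ_five]; linarith [hdiag 3, hl_3_2, hl_3_4]
    · simp [Fin.sum_univ_five]; linarith [hdiag 4, hr2, hl_4_3]
  have hz_4_2 : T.a (v 4) (v 2) = 0 := by rw [hsym 4 2]; exact hz_2_4
  refine ⟨⟨hz_0_2, hz_0_3, hz_0_4, hz_1_3, hz_1_4, hz_2_4⟩, ?_⟩
  rcases hd3 0 1 hp_0_1 with hx_0_1 | hx_0_1 | hx_0_1
  · rcases hd3 1 0 hp_1_0 with hx_1_0 | hx_1_0 | hx_1_0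
    · rcases hd3 1 2 hp_1_2 with hx_1_2 | hx_1_2 | hx_1_2
      · rcases hd3 2 1 hp_2_1 with hx_2_1 | hx_2_1 | hx_2_1
        · rcases hd3 2 3 hp_2_3 with hx_2_3 | hx_2_3 | hx_2_3
          · rcases hd3 3 2 hp_3_2 with hx_3_2 | hx_3_2 | hx_3_2
            · rcases hd3 3 4 hp_3_4 with hx_3_4 | hx_3_4 | hx_3_4
              · rcases hd3 4 3 hp_4_3 with hx_4_3 | hx_4_3 | hx_4_3
                · have cw_0 : T.w (v 0) = T.w (v 0) := by linarith [hx_0_1, hx_1_0, hsym 0 1, hx_1_2, hx_2_1, hsym 1 2, hx_2_3, hx_3_2, hsym 2 3, hx_3_4, hx_4_3, hsym 3 4]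
                  have cw_1 : T.w (v 1) = T.w (v 0) := by linarith [hx_0_1, hx_1_0, hsym 0 1, hx_1_2, hx_2_1, hsym 1 2, hx_2_3, hx_3_2, hsym 2 3, hx_3_4, hx_4_3, hsym 3 4]
                  have cw_2 : T.w (v 2) = T.w (v 0) := by linarith [hx_0_1, hx_1_0, hsym 0 1, hx_1_2, hx_2_1, hsym 1 2, hx_2_3, hx_3_2, hsym 2 3, hx_3_4, hx_4_3, hsym 3 4]
                  have cw_3 : T.w (v 3) = T.w (v 0) := by linarith [hx_0_1, hx_1_0, hsym 0 1, hx_1_2, hx_2_1, hsym 1 2, hx_2_3, hx_3_2, hsym 2 3, hx_3_4, hx_4_3, hsym 3 4]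
                  have cw_4 : T.w (v 4) = T.w (v 0) := by linarith [hx_0_1, hx_1_0, hsym 0 1, hx_1_2, hx_2_1, hsym 1 2, hx_2_3, hx_3_2, hsym 2 3, hx_3_4, hx_4_3, hsym 3 4]
                  have ca_0 : T.a (v 0) (v 1) = T.w (v 0) := by linarith [hx_0_1, hx_1_0, hsym 0 1, hx_1_2, hx_2_1, hsym 1 2, hx_2_3, hx_3_2, hsym 2 3, hx_3_4, hx_4_3, hsym 3 4]
                  have ca_1 : T.a (v 1) (v 2) = T.w (v 0) := by linarith [hx_0_1, hx_1_0, hsym 0 1, hx_1_2, hx_2_1, hsym 1 2, hx_2_3, hx_3_2, hsym 2 3, hx_3_4, hx_4_3, hsym 3 4]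
                  have ca_2 : T.a (v 2) (v 3) = T.w (v 0) := by linarith [hx_0_1, hx_1_0, hsym 0 1, hx_1_2, hx_2_1, hsym 1 2, hx_2_3, hx_3_2, hsym 2 3, hx_3_4, hx_4_3, hsym 3 4]
                  have ca_3 : T.a (v 3) (v 4) = T.w (v 0) := by linarith [hx_0_1, hx_1_0, hsym 0 1, hx_1_2, hx_2_1, hsym 1 2, hx_2_3, hx_3_2, hsym 2 3, hx_3_4, hx_4_3, hsym 3 4]
                  have cm_0 : T.m (v 1) ≤ 2 * T.m (v 0) := by
                    have h := Groth.Agent.Lib.Helper39.NT.row_emb_le T v 0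
                    simp only [Fin.sum_univ_five] at h
                    rw [show T.a (v 0) (v 0) = -2 * T.w (v 0) by linarith [hx_0_1, hx_1_0, hsym 0 1, hx_1_2, hx_2_1, hsym 1 2, hx_2_3, hx_3_2, hsym 2 3, hx_3_4, hx_4_3, hsym 3 4, hdiag 0], show T.a (v 0) (v 1) = 1 * T.w (v 0) by linarith [hx_0_1, hx_1_0, hsym 0 1, hx_1_2, hx_2_1, hsym 1 2, hx_2_3, hx_3_2, hsym 2 3, hx_3_4, hx_4_3, hsym 3 4, hdiag 0], show T.a (v 0) (v 2) = 0 * T.w (v 0) by linarith [hx_0_1, hx_1_0, hsym 0 1, hx_1_2, hx_2_1, hsym 1 2, hx_2_3, hx_3_2, hsym 2 3, hx_3_4, hx_4_3, hsym 3 4, hdiag 0, hz_0_2], show T.a (v 0) (v 3) = 0 * T.w (v 0) by linarith [hx_0_1, hx_1_0, hsym 0 1, hx_1_2, hx_2_1, hsym 1 2, hx_2_3, hx_3_2, hsym 2 3, hx_3_4, hx_4_3, hsym 3 4, hdiag 0, hz_0_3], show T.a (v 0) (v 4) = 0 * T.w (v 0) by linarith [hx_0_1, hx_1_0, hsym 0 1, hx_1_2, hx_2_1, hsym 1 2, hx_2_3, hx_3_2, hsym 2 3, hx_3_4, hx_4_3, hsym 3 4, hdiag 0, hz_0_4]] at h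
                    have h2 : T.w (v 0) * (T.m (v 1)) ≤ T.w (v 0) * (2 * T.m (v 0)) := by linarith
                    exact le_of_mul_le_mul_left h2 (hwp 0)
                  have cm_1 : T.m (v 0) + T.m (v 2) ≤ 2 * T.m (v 1) := by
                    have h := Groth.Agent.Lib.Helper39.NT.row_emb_le T v 1
                    simp only [Fin.sum_univ_five] at h
                    rw [show T.a (v 1) (v 0) = 1 * T.w (v 0) by linarith [hx_0_1, hx_1_0, hsym 0 1, hx_1_2, hx_2_1, hsym 1 2, hx_2_3, hx_3_2, hsym 2 3, hx_3_4, hx_4_3, hsym 3 4, hdiag 1], show T.a (v 1) (v 1) = -2 * T.w (v 0) by linarith [hx_0_1, hx_1_0, hsym 0 1, hx_1_2, hx_2_1, hsym 1 2, hx_2_3, hx_3_2, hsym 2 3, hx_3_4, hx_4_3, hsym 3 4, hdiag 1], show T.a (v 1) (v 2) = 1 * T.w (v 0) by linarith [hx_0_1, hx_1_0, hsym 0 1, hx_1_2, hx_2_1, hsym 1 2, hx_2_3, hx_3_2, hsym 2 3, hx_3_4, hx_4_3, hsym 3 4, hdiag 1], show T.a (v 1) (v 3) = 0 * T.w (v 0) by linarith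 [hx_0_1, hx_1_0, hsym 0 1, hx_1_2, hx_2_1, hsym 1 2, hx_2_3, hx_3_2, hsym 2 3, hx_3_4, hx_4_3, hsym 3 4, hdiag 1, hz_1_3], show T.a (v 1) (v 4) = 0 * T.w (v 0) by linarith [hx_0_1, hx_1_0, hsym 0 1, hx_1_2, hx_2_1, hsym 1 2, hx_2_3, hx_3_2, hsym 2 3, hx_3_4, hx_4_3, hsym 3 4, hdiag 1, hz_1_4]] at h
                    have h2 : T.w (v 0) * (T.m (v 0) + T.m (v 2)) ≤ T.w (v 0) * (2 * T.m (v 1)) := by linarith
                    exact le_of_mul_le_mul_left h2 (hwp 0)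
                  have cm_2 : T.m (v 1) + T.m (v 3) ≤ 2 * T.m (v 2) := by
                    have h := Groth.Agent.Lib.Helper39.NT.row_emb_le T v 2
                    simp only [Fin.sum_univ_five] at h
                    rw [show T.a (v 2) (v 0) = 0 * T.w (v 0) by linarith [hx_0_1, hx_1_0, hsym 0 1, hx_1_2, hx_2_1, hsym 1 2, hx_2_3, hx_3_2, hsym 2 3, hx_3_4, hx_4_3, hsym 3 4, hdiag 2, hz_2_0], show T.a (v 2) (v 1) = 1 * T.w (v 0) by linarith [hx_0_1, hx_1_0, hsym 0 1, hx_1_2, hx_2_1, hsym 1 2, hx_2_3, hx_3_2, hsym 2 3, hx_3_4, hx_4_3, hsym 3 4, hdiag 2], show T.a (v 2) (v 2) = -2 * T.w (v 0) by linarith [hx_0_1, hx_1_0, hsym 0 1, hx_1_2, hx_2_1, hsym 1 2, hx_2_3, hx_3_2, hsym 2 3, hx_3_4, hx_4_3, hsym 3 4, hdiag 2], show T.a (v 2) (v 3) = 1 * T.w (v 0) by linarith [hx_0_1, hx_1_0, hsym 0 1, hx_1_2, hx_2_1, hsym 1 2, hx_2_3, hx_3_2, hsym 2 3, hx_3_4, hx_4_3, hsym 3 4, hdiag 2], show T.a (v 2) (v 4) = 0 * T.w (v 0)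 by linarith [hx_0_1, hx_1_0, hsym 0 1, hx_1_2, hx_2_1, hsym 1 2, hx_2_3, hx_3_2, hsym 2 3, hx_3_4, hx_4_3, hsym 3 4, hdiag 2, hz_2_4]] at h
                    have h2 : T.w (v 0) * (T.m (v 1) + T.m (v 3)) ≤ T.w (v 0) * (2 * T.m (v 2)) := by linarith
                    exact le_of_mul_le_mul_left h2 (hwp 0)
                  have cm_3 : T.m (v 2) + T.m (v 4) ≤ 2 * T.m (v 3) := by
                    have h := Groth.Agent.Lib.Helper39.NT.row_emb_le T v 3
                    simp only [Fin.sum_univ_five] at h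
                    rw [show T.a (v 3) (v 0) = 0 * T.w (v 0) by linarith [hx_0_1, hx_1_0, hsym 0 1, hx_1_2, hx_2_1, hsym 1 2, hx_2_3, hx_3_2, hsym 2 3, hx_3_4, hx_4_3, hsym 3 4, hdiag 3, hz_3_0], show T.a (v 3) (v 1) = 0 * T.w (v 0) by linarith [hx_0_1, hx_1_0, hsym 0 1, hx_1_2, hx_2_1, hsym 1 2, hx_2_3, hx_3_2, hsym 2 3, hx_3_4, hx_4_3, hsym 3 4, hdiag 3, hz_3_1], show T.a (v 3) (v 2) = 1 * T.w (v 0) by linarith [hx_0_1, hx_1_0, hsym 0 1, hx_1_2, hx_2_1, hsym 1 2, hx_2_3, hx_3_2, hsym 2 3, hx_3_4, hx_4_3, hsym 3 4, hdiag 3], show T.a (v 3) (v 3) = -2 * T.w (v 0) by linarith [hx_0_1, hx_1_0, hsym 0 1, hx_1_2, hx_2_1, hsym 1 2, hx_2_3, hx_3_2, hsym 2 3, hx_3_4, hx_4_3, hsym 3 4, hdiag 3], show T.a (v 3) (v 4) = 1 * T.w (v 0) by linarith [hx_0_1, hx_1_0, hsym 0 1, hx_1_2, hx_2_1, hsym 1 2, hx_2_3, hx_3_2, hsym 2 3, hx_3_4, hx_4_3, hsym 3 4, hdiag 3]] at h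
                    have h2 : T.w (v 0) * (T.m (v 2) + T.m (v 4)) ≤ T.w (v 0) * (2 * T.m (v 3)) := by linarith
                    exact le_of_mul_le_mul_left h2 (hwp 0)
                  have cm_4 : T.m (v 3) ≤ 2 * T.m (v 4) := by
                    have h := Groth.Agent.Lib.Helper39.NT.row_emb_le T v 4
                    simp only [Fin.sum_univ_five] at h
                    rw [show T.a (v 4) (v 0) = 0 * T.w (v 0) by linarith [hx_0_1, hx_1_0, hsym 0 1, hx_1_2, hx_2_1, hsym 1 2, hx_2_3, hx_3_2, hsym 2 3, hx_3_4, hx_4_3, hsym 3 4, hdiag 4, hz_4_0], show T.a (v 4) (v 1) = 0 * T.w (v 0) by linarith [hx_0_1, hx_1_0, hsym 0 1, hx_1_2, hx_2_1, hsym 1 2, hx_2_3, hx_3_2, hsym 2 3, hx_3_4, hx_4_3, hsym 3 4, hdiag 4, hz_4_1], show T.a (v 4) (v 2) = 0 * T.w (v 0) by linarith [hx_0_1, hx_1_0, hsym 0 1, hx_1_2, hx_2_1, hsym 1 2, hx_2_3, hx_3_2, hsym 2 3, hx_3_4, hx_4_3, hsym 3 4, hdiag 4, hz_4_2], show T.a (v 4) (v 3) = 1 *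 T.w (v 0) by linarith [hx_0_1, hx_1_0, hsym 0 1, hx_1_2, hx_2_1, hsym 1 2, hx_2_3, hx_3_2, hsym 2 3, hx_3_4, hx_4_3, hsym 3 4, hdiag 4], show T.a (v 4) (v 4) = -2 * T.w (v 0) by linarith [hx_0_1, hx_1_0, hsym 0 1, hx_1_2, hx_2_1, hsym 1 2, hx_2_3, hx_3_2, hsym 2 3, hx_3_4, hx_4_3, hsym 3 4, hdiag 4]] at h
                    have h2 : T.w (v 0) * (T.m (v 3)) ≤ T.w (v 0) * (2 * T.m (v 4)) := by linarith
                    exact le_of_mul_le_mul_left h2 (hwp 0)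
                  exact ⟨fun j => v j, T.w (v 0), Or.inl (fun _ => rfl), Or.inl ⟨cw_0, cw_1, cw_2, cw_3, cw_4, ca_0, ca_1, ca_2, ca_3, cm_0, cm_1, cm_2, cm_3, cm_4⟩⟩
                · have cw_0 : T.w (v 0) = 2 * T.w (v 4) := by linarith [hx_0_1, hx_1_0, hsym 0 1, hx_1_2, hx_2_1, hsym 1 2, hx_2_3, hx_3_2, hsym 2 3, hx_3_4, hx_4_3, hsym 3 4]
                  have cw_1 : T.w (v 1) = 2 * T.w (v 4) := by linarith [hx_0_1, hx_1_0, hsym 0 1, hx_1_2, hx_2_1, hsym 1 2, hx_2_3, hx_3_2, hsym 2 3, hx_3_4, hx_4_3, hsym 3 4]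
                  have cw_2 : T.w (v 2) = 2 * T.w (v 4) := by linarith [hx_0_1, hx_1_0, hsym 0 1, hx_1_2, hx_2_1, hsym 1 2, hx_2_3, hx_3_2, hsym 2 3, hx_3_4, hx_4_3, hsym 3 4]
                  have cw_3 : T.w (v 3) = 2 * T.w (v 4) := by linarith [hx_0_1, hx_1_0, hsym 0 1, hx_1_2, hx_2_1, hsym 1 2, hx_2_3, hx_3_2, hsym 2 3, hx_3_4, hx_4_3, hsym 3 4]
                  have cw_4 : T.w (v 4) = T.w (v 4) := by linarith [hx_0_1, hx_1_0, hsym 0 1, hx_1_2, hx_2_1, hsym 1 2, hx_2_3, hx_3_2, hsym 2 3, hx_3_4, hx_4_3, hsym 3 4]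
                  have ca_0 : T.a (v 0) (v 1) = 2 * T.w (v 4) := by linarith [hx_0_1, hx_1_0, hsym 0 1, hx_1_2, hx_2_1, hsym 1 2, hx_2_3, hx_3_2, hsym 2 3, hx_3_4, hx_4_3, hsym 3 4]
                  have ca_1 : T.a (v 1) (v 2) = 2 * T.w (v 4) := by linarith [hx_0_1, hx_1_0, hsym 0 1, hx_1_2, hx_2_1, hsym 1 2, hx_2_3, hx_3_2, hsym 2 3, hx_3_4, hx_4_3, hsym 3 4]
                  have ca_2 : T.a (v 2) (v 3) = 2 * T.w (v 4) := by linarith [hx_0_1, hx_1_0, hsym 0 1, hx_1_2, hx_2_1, hsym 1 2, hx_2_3, hx_3_2, hsym 2 3, hx_3_4, hx_4_3, hsym 3 4]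
                  have ca_3 : T.a (v 3) (v 4) = 2 * T.w (v 4) := by linarith [hx_0_1, hx_1_0, hsym 0 1, hx_1_2, hx_2_1, hsym 1 2, hx_2_3, hx_3_2, hsym 2 3, hx_3_4, hx_4_3, hsym 3 4]
                  have cm_0 : T.m (v 1) ≤ 2 * T.m (v 0) := by
                    have h := Groth.Agent.Lib.Helper39.NT.row_emb_le T v 0
                    simp only [Fin.sum_univ_five] at h
                    rw [show T.a (v 0) (v 0) = -4 * T.w (v 4) by linarith [hx_0_1, hx_1_0, hsym 0 1, hx_1_2, hx_2_1, hsym 1 2, hx_2_3, hx_3_2, hsym 2 3, hx_3_4, hx_4_3, hsym 3 4, hdiag 0], show T.a (v 0) (v 1) = 2 * T.w (v 4) by linarith [hx_0_1, hx_1_0, hsym 0 1, hx_1_2, hx_2_1, hsym 1 2, hx_2_3, hx_3_2, hsym 2 3, hx_3_4, hx_4_3, hsym 3 4, hdiag 0], show T.a (v 0) (v 2) = 0 * T.w (v 4) by linarith [hx_0_1, hx_1_0, hsym 0 1, hx_1_2, hx_2_1, hsym 1 2, hx_2_3, hx_3_2, hsym 2 3, hx_3_4, hx_4_3, hsym 3 4, hdiag 0, hz_0_2], show T.a (v 0) (v 3) = 0 * T.w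 (v 4) by linarith [hx_0_1, hx_1_0, hsym 0 1, hx_1_2, hx_2_1, hsym 1 2, hx_2_3, hx_3_2, hsym 2 3, hx_3_4, hx_4_3, hsym 3 4, hdiag 0, hz_0_3], show T.a (v 0) (v 4) = 0 * T.w (v 4) by linarith [hx_0_1, hx_1_0, hsym 0 1, hx_1_2, hx_2_1, hsym 1 2, hx_2_3, hx_3_2, hsym 2 3, hx_3_4, hx_4_3, hsym 3 4, hdiag 0, hz_0_4]] at h
                    have h2 : T.w (v 4) * (T.m (v 1)) ≤ T.w (v 4) * (2 * T.m (v 0)) := by linarith
                    exact le_of_mul_le_mul_left h2 (hwp 4)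
                  have cm_1 : T.m (v 0) + T.m (v 2) ≤ 2 * T.m (v 1) := by
                    have h := Groth.Agent.Lib.Helper39.NT.row_emb_le T v 1
                    simp only [Fin.sum_univ_five] at h
                    rw [show T.a (v 1) (v 0) = 2 * T.w (v 4) by linarith [hx_0_1, hx_1_0, hsym 0 1, hx_1_2, hx_2_1, hsym 1 2, hx_2_3, hx_3_2, hsym 2 3, hx_3_4, hx_4_3, hsym 3 4, hdiag 1], show T.a (v 1) (v 1) = -4 * T.w (v 4) by linarith [hx_0_1, hx_1_0, hsym 0 1, hx_1_2, hx_2_1, hsym 1 2, hx_2_3, hx_3_2, hsym 2 3, hx_3_4, hx_4_3, hsym 3 4, hdiag 1], show T.a (v 1) (v 2) = 2 * T.w (v 4) by linarith [hx_0_1, hx_1_0, hsym 0 1, hx_1_2, hx_2_1, hsym 1 2, hx_2_3, hx_3_2, hsym 2 3, hx_3_4, hx_4_3, hsym 3 4, hdiag 1], show T.a (v 1) (v 3) = 0 * T.w (v 4) by linarith [hx_0_1, hx_1_0, hsym 0 1, hx_1_2, hx_2_1, hsym 1 2, hx_2_3, hx_3_2, hsym 2 3, hx_3_4, hx_4_3, hsym 3 4, hdiag 1, hz_1_3], show T.a (v 1) (v 4) = 0 * T.w (v 4)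 by linarith [hx_0_1, hx_1_0, hsym 0 1, hx_1_2, hx_2_1, hsym 1 2, hx_2_3, hx_3_2, hsym 2 3, hx_3_4, hx_4_3, hsym 3 4, hdiag 1, hz_1_4]] at h
                    have h2 : T.w (v 4) * (T.m (v 0) + T.m (v 2)) ≤ T.w (v 4) * (2 * T.m (v 1)) := by linarith
                    exact le_of_mul_le_mul_left h2 (hwp 4)
                  have cm_2 : T.m (v 1) + T.m (v 3) ≤ 2 * T.m (v 2) := by
                    have h := Groth.Agent.Lib.Helper39.NT.row_emb_le T v 2
                    simp only [Fin.sum_univ_five] at h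
                    rw [show T.a (v 2) (v 0) = 0 * T.w (v 4) by linarith [hx_0_1, hx_1_0, hsym 0 1, hx_1_2, hx_2_1, hsym 1 2, hx_2_3, hx_3_2, hsym 2 3, hx_3_4, hx_4_3, hsym 3 4, hdiag 2, hz_2_0], show T.a (v 2) (v 1) = 2 * T.w (v 4) by linarith [hx_0_1, hx_1_0, hsym 0 1, hx_1_2, hx_2_1, hsym 1 2, hx_2_3, hx_3_2, hsym 2 3, hx_3_4, hx_4_3, hsym 3 4, hdiag 2], show T.a (v 2) (v 2) = -4 * T.w (v 4) by linarith [hx_0_1, hx_1_0, hsym 0 1, hx_1_2, hx_2_1, hsym 1 2, hx_2_3, hx_3_2, hsym 2 3, hx_3_4, hx_4_3, hsym 3 4, hdiag 2], show T.a (v 2) (v 3) = 2 * T.w (v 4) by linarith [hx_0_1, hx_1_0, hsym 0 1, hx_1_2, hx_2_1, hsym 1 2, hx_2_3, hx_3_2, hsym 2 3, hx_3_4, hx_4_3, hsym 3 4, hdiag 2], show T.a (v 2) (v 4) = 0 * T.w (v 4) by linarith [hx_0_1, hx_1_0, hsym 0 1, hx_1_2, hx_2_1, hsym 1 2, hx_2_3, hx_3_2, hsym 2 3, hx_3_4, hx_4_3, hsym 3 4, hdiag 2, hz_2_4]] at h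
                    have h2 : T.w (v 4) * (T.m (v 1) + T.m (v 3)) ≤ T.w (v 4) * (2 * T.m (v 2)) := by linarith
                    exact le_of_mul_le_mul_left h2 (hwp 4)
                  have cm_3 : T.m (v 2) + T.m (v 4) ≤ 2 * T.m (v 3) := by
                    have h := Groth.Agent.Lib.Helper39.NT.row_emb_le T v 3
                    simp only [Fin.sum_univ_five] at h
                    rw [show T.a (v 3) (v 0) = 0 * T.w (v 4) by linarith [hx_0_1, hx_1_0, hsym 0 1, hx_1_2, hx_2_1, hsym 1 2, hx_2_3, hx_3_2, hsym 2 3, hx_3_4, hx_4_3, hsym 3 4, hdiag 3, hz_3_0], show T.a (v 3) (v 1) = 0 * T.w (v 4) by linarith [hx_0_1, hx_1_0, hsym 0 1, hx_1_2, hx_2_1, hsym 1 2, hx_2_3, hx_3_2, hsym 2 3, hx_3_4, hx_4_3, hsym 3 4, hdiag 3, hz_3_1], show T.a (v 3) (v 2) = 2 * T.w (v 4) by linarith [hx_0_1, hx_1_0, hsym 0 1, hx_1_2, hx_2_1, hsym 1 2, hx_2_3, hx_3_2, hsym 2 3, hx_3_4, hx_4_3, hsym 3 4, hdiag 3], show T.a (v 3) (v 3) =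 -4 * T.w (v 4) by linarith [hx_0_1, hx_1_0, hsym 0 1, hx_1_2, hx_2_1, hsym 1 2, hx_2_3, hx_3_2, hsym 2 3, hx_3_4, hx_4_3, hsym 3 4, hdiag 3], show T.a (v 3) (v 4) = 2 * T.w (v 4) by linarith [hx_0_1, hx_1_0, hsym 0 1, hx_1_2, hx_2_1, hsym 1 2, hx_2_3, hx_3_2, hsym 2 3, hx_3_4, hx_4_3, hsym 3 4, hdiag 3]] at h
                    have h2 : T.w (v 4) * (T.m (v 2) + T.m (v 4)) ≤ T.w (v 4) * (2 * T.m (v 3)) := by linarith
                    exact le_of_mul_le_mul_left h2 (hwp 4)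
                  have cm_4 : T.m (v 3) ≤ T.m (v 4) := by
                    have h := Groth.Agent.Lib.Helper39.NT.row_emb_le T v 4
                    simp only [Fin.sum_univ_five] at h
                    rw [show T.a (v 4) (v 0) = 0 * T.w (v 4) by linarith [hx_0_1, hx_1_0, hsym 0 1, hx_1_2, hx_2_1, hsym 1 2, hx_2_3, hx_3_2, hsym 2 3, hx_3_4, hx_4_3, hsym 3 4, hdiag 4, hz_4_0], show T.a (v 4) (v 1) = 0 * T.w (v 4) by linarith [hx_0_1, hx_1_0, hsym 0 1, hx_1_2, hx_2_1, hsym 1 2, hx_2_3, hx_3_2, hsym 2 3, hx_3_4, hx_4_3, hsym 3 4, hdiag 4, hz_4_1], show T.a (v 4) (v 2) = 0 * T.w (v 4) by linarith [hx_0_1, hx_1_0, hsym 0 1, hx_1_2, hx_2_1, hsym 1 2, hx_2_3, hx_3_2, hsym 2 3, hx_3_4, hx_4_3, hsym 3 4, hdiag 4, hz_4_2], show T.a (v 4) (v 3) = 2 * T.w (v 4) by linarith [hx_0_1, hx_1_0, hsym 0 1, hx_1_2, hx_2_1, hsym 1 2, hx_2_3, hx_3_2, hsym 2 3, hx_3_4, hx_4_3, hsym 3 4, hdiag 4], show T.a (v 4) (v 4) = -2 * T.w (v 4)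 by linarith [hx_0_1, hx_1_0, hsym 0 1, hx_1_2, hx_2_1, hsym 1 2, hx_2_3, hx_3_2, hsym 2 3, hx_3_4, hx_4_3, hsym 3 4, hdiag 4]] at h
                    have h2 : T.w (v 4) * (T.m (v 3)) ≤ T.w (v 4) * (T.m (v 4)) := by linarith
                    exact le_of_mul_le_mul_left h2 (hwp 4)
                  exact ⟨fun j => v j, T.w (v 4), Or.inl (fun _ => rfl), Or.inr (Or.inr (⟨cw_0, cw_1, cw_2, cw_3, cw_4, ca_0, ca_1, ca_2, ca_3, cm_0, cm_1, cm_2, cm_3, cm_4⟩))⟩
                · exfalso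
                  refine Groth.Agent.Lib.Helper39.NT.cert T v hn ![0, 0, 1, 2, 3] (by decide) 2 (by decide) ?_
                  intro s hs
                  fin_cases s
                  · simp at hs
                  · simp at hs
                  · simp [Fin.sum_univ_five]; linarith [hdiag 2, hl_2_3, hnn 2 4 (by decide)]
                  · simp [Fin.sum_univ_five]; linarith [hdiag 3, hl_3_2, hl_3_4]
                  · simp [Fin.sum_univ_five]; linarith [hdiag 4, hnn 4 2 (by decide), hx_4_3]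
              · rcases hd3 4 3 hp_4_3 with hx_4_3 | hx_4_3 | hx_4_3
                · have cw_0 : T.w (v 0) = T.w (v 0) := by linarith [hx_0_1, hx_1_0, hsym 0 1, hx_1_2, hx_2_1, hsym 1 2, hx_2_3, hx_3_2, hsym 2 3, hx_3_4, hx_4_3, hsym 3 4]
                  have cw_1 : T.w (v 1) = T.w (v 0) := by linarith [hx_0_1, hx_1_0, hsym 0 1, hx_1_2, hx_2_1, hsym 1 2, hx_2_3, hx_3_2, hsym 2 3, hx_3_4, hx_4_3, hsym 3 4]
                  have cw_2 : T.w (v 2) = T.w (v 0) := by linarith [hx_0_1, hx_1_0, hsym 0 1, hx_1_2, hx_2_1, hsym 1 2, hx_2_3, hx_3_2, hsym 2 3, hx_3_4, hx_4_3, hsym 3 4]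
                  have cw_3 : T.w (v 3) = T.w (v 0) := by linarith [hx_0_1, hx_1_0, hsym 0 1, hx_1_2, hx_2_1, hsym 1 2, hx_2_3, hx_3_2, hsym 2 3, hx_3_4, hx_4_3, hsym 3 4]
                  have cw_4 : T.w (v 4) = 2 * T.w (v 0) := by linarith [hx_0_1, hx_1_0, hsym 0 1, hx_1_2, hx_2_1, hsym 1 2, hx_2_3, hx_3_2, hsym 2 3, hx_3_4, hx_4_3, hsym 3 4]
                  have ca_0 : T.a (v 0) (v 1) = T.w (v 0) := by linarith [hx_0_1, hx_1_0, hsym 0 1, hx_1_2, hx_2_1, hsym 1 2, hx_2_3, hx_3_2, hsym 2 3, hx_3_4, hx_4_3, hsym 3 4]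
                  have ca_1 : T.a (v 1) (v 2) = T.w (v 0) := by linarith [hx_0_1, hx_1_0, hsym 0 1, hx_1_2, hx_2_1, hsym 1 2, hx_2_3, hx_3_2, hsym 2 3, hx_3_4, hx_4_3, hsym 3 4]
                  have ca_2 : T.a (v 2) (v 3) = T.w (v 0) := by linarith [hx_0_1, hx_1_0, hsym 0 1, hx_1_2, hx_2_1, hsym 1 2, hx_2_3, hx_3_2, hsym 2 3, hx_3_4, hx_4_3, hsym 3 4]
                  have ca_3 : T.a (v 3) (v 4) = 2 * T.w (v 0) := by linarith [hx_0_1, hx_1_0, hsym 0 1, hx_1_2, hx_2_1, hsym 1 2, hx_2_3, hx_3_2, hsym 2 3, hx_3_4, hx_4_3, hsym 3 4]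
                  have cm_0 : T.m (v 1) ≤ 2 * T.m (v 0) := by
                    have h := Groth.Agent.Lib.Helper39.NT.row_emb_le T v 0
                    simp only [Fin.sum_univ_five] at h
                    rw [show T.a (v 0) (v 0) = -2 * T.w (v 0) by linarith [hx_0_1, hx_1_0, hsym 0 1, hx_1_2, hx_2_1, hsym 1 2, hx_2_3, hx_3_2, hsym 2 3, hx_3_4, hx_4_3, hsym 3 4, hdiag 0], show T.a (v 0) (v 1) = 1 * T.w (v 0) by linarith [hx_0_1, hx_1_0, hsym 0 1, hx_1_2, hx_2_1, hsym 1 2, hx_2_3, hx_3_2, hsym 2 3, hx_3_4, hx_4_3, hsym 3 4, hdiag 0], show T.a (v 0) (v 2) = 0 * T.w (v 0) by linarith [hx_0_1, hx_1_0, hsym 0 1, hx_1_2, hx_2_1, hsym 1 2, hx_2_3, hx_3_2, hsym 2 3, hx_3_4, hx_4_3, hsym 3 4, hdiag 0, hz_0_2], show T.a (v 0) (v 3) = 0 * T.w (v 0) by linarith [hx_0_1, hx_1_0, hsym 0 1, hx_1_2, hx_2_1, hsym 1 2, hx_2_3, hx_3_2, hsym 2 3, hx_3_4, hx_4_3, hsym 3 4, hdiag 0, hz_0_3], show T.a (v 0) (v 4) = 0 * T.w (v 0) by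 linarith [hx_0_1, hx_1_0, hsym 0 1, hx_1_2, hx_2_1, hsym 1 2, hx_2_3, hx_3_2, hsym 2 3, hx_3_4, hx_4_3, hsym 3 4, hdiag 0, hz_0_4]] at h
                    have h2 : T.w (v 0) * (T.m (v 1)) ≤ T.w (v 0) * (2 * T.m (v 0)) := by linarith
                    exact le_of_mul_le_mul_left h2 (hwp 0)
                  have cm_1 : T.m (v 0) + T.m (v 2) ≤ 2 * T.m (v 1) := by
                    have h := Groth.Agent.Lib.Helper39.NT.row_emb_le T v 1
                    simp only [Fin.sum_univ_five] at h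
                    rw [show T.a (v 1) (v 0) = 1 * T.w (v 0) by linarith [hx_0_1, hx_1_0, hsym 0 1, hx_1_2, hx_2_1, hsym 1 2, hx_2_3, hx_3_2, hsym 2 3, hx_3_4, hx_4_3, hsym 3 4, hdiag 1], show T.a (v 1) (v 1) = -2 * T.w (v 0) by linarith [hx_0_1, hx_1_0, hsym 0 1, hx_1_2, hx_2_1, hsym 1 2, hx_2_3, hx_3_2, hsym 2 3, hx_3_4, hx_4_3, hsym 3 4, hdiag 1], show T.a (v 1) (v 2) = 1 * T.w (v 0) by linarith [hx_0_1, hx_1_0, hsym 0 1, hx_1_2, hx_2_1, hsym 1 2, hx_2_3, hx_3_2, hsym 2 3, hx_3_4, hx_4_3, hsym 3 4, hdiag 1], show T.a (v 1) (v 3) = 0 * T.w (v 0) by linarith [hx_0_1, hx_1_0, hsym 0 1, hx_1_2, hx_2_1, hsym 1 2, hx_2_3, hx_3_2, hsym 2 3, hx_3_4, hx_4_3, hsym 3 4, hdiag 1, hz_1_3], show T.a (v 1) (v 4) = 0 * T.w (v 0) by linarith [hx_0_1, hx_1_0, hsym 0 1, hx_1_2, hx_2_1, hsym 1 2, hx_2_3, hx_3_2, hsym 2 3, hx_3_4, hx_4_3, hsym 3 4, hdiag 1, hz_1_4]] at h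
                    have h2 : T.w (v 0) * (T.m (v 0) + T.m (v 2)) ≤ T.w (v 0) * (2 * T.m (v 1)) := by linarith
                    exact le_of_mul_le_mul_left h2 (hwp 0)
                  have cm_2 : T.m (v 1) + T.m (v 3) ≤ 2 * T.m (v 2) := by
                    have h := Groth.Agent.Lib.Helper39.NT.row_emb_le T v 2
                    simp only [Fin.sum_univ_five] at h
                    rw [show T.a (v 2) (v 0) = 0 * T.w (v 0) by linarith [hx_0_1, hx_1_0, hsym 0 1, hx_1_2, hx_2_1, hsym 1 2, hx_2_3, hx_3_2, hsym 2 3, hx_3_4, hx_4_3, hsym 3 4, hdiag 2, hz_2_0], show T.a (v 2) (v 1) = 1 * T.w (v 0) by linarith [hx_0_1, hx_1_0, hsym 0 1, hx_1_2, hx_2_1, hsym 1 2, hx_2_3, hx_3_2, hsym 2 3, hx_3_4, hx_4_3, hsym 3 4, hdiag 2], show T.a (v 2) (v 2) = -2 * T.w (v 0) by linarith [hx_0_1, hx_1_0, hsym 0 1, hx_1_2, hx_2_1, hsym 1 2, hx_2_3, hx_3_2, hsym 2 3, hx_3_4, hx_4_3, hsym 3 4, hdiag 2], show T.a (v 2) (v 3) = 1 * T.w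 (v 0) by linarith [hx_0_1, hx_1_0, hsym 0 1, hx_1_2, hx_2_1, hsym 1 2, hx_2_3, hx_3_2, hsym 2 3, hx_3_4, hx_4_3, hsym 3 4, hdiag 2], show T.a (v 2) (v 4) = 0 * T.w (v 0) by linarith [hx_0_1, hx_1_0, hsym 0 1, hx_1_2, hx_2_1, hsym 1 2, hx_2_3, hx_3_2, hsym 2 3, hx_3_4, hx_4_3, hsym 3 4, hdiag 2, hz_2_4]] at h
                    have h2 : T.w (v 0) * (T.m (v 1) + T.m (v 3)) ≤ T.w (v 0) * (2 * T.m (v 2)) := by linarith
                    exact le_of_mul_le_mul_left h2 (hwp 0)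
                  have cm_3 : T.m (v 2) + 2 * T.m (v 4) ≤ 2 * T.m (v 3) := by
                    have h := Groth.Agent.Lib.Helper39.NT.row_emb_le T v 3
                    simp only [Fin.sum_univ_five] at h
                    rw [show T.a (v 3) (v 0) = 0 * T.w (v 0) by linarith [hx_0_1, hx_1_0, hsym 0 1, hx_1_2, hx_2_1, hsym 1 2, hx_2_3, hx_3_2, hsym 2 3, hx_3_4, hx_4_3, hsym 3 4, hdiag 3, hz_3_0], show T.a (v 3) (v 1) = 0 * T.w (v 0) by linarith [hx_0_1, hx_1_0, hsym 0 1, hx_1_2, hx_2_1, hsym 1 2, hx_2_3, hx_3_2, hsym 2 3, hx_3_4, hx_4_3, hsym 3 4, hdiag 3, hz_3_1], show T.a (v 3) (v 2) = 1 * T.w (v 0) by linarith [hx_0_1, hx_1_0, hsym 0 1, hx_1_2, hx_2_1, hsym 1 2, hx_2_3, hx_3_2, hsym 2 3, hx_3_4, hx_4_3, hsym 3 4, hdiag 3], show T.a (v 3) (v 3) = -2 * T.w (v 0) by linarith [hx_0_1, hx_1_0, hsym 0 1, hx_1_2, hx_2_1, hsym 1 2, hx_2_3, hx_3_2, hsym 2 3, hx_3_4, hx_4_3, hsym 3 4, hdiag 3], show T.a (v 3) (v 4) =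 2 * T.w (v 0) by linarith [hx_0_1, hx_1_0, hsym 0 1, hx_1_2, hx_2_1, hsym 1 2, hx_2_3, hx_3_2, hsym 2 3, hx_3_4, hx_4_3, hsym 3 4, hdiag 3]] at h
                    have h2 : T.w (v 0) * (T.m (v 2) + 2 * T.m (v 4)) ≤ T.w (v 0) * (2 * T.m (v 3)) := by linarith
                    exact le_of_mul_le_mul_left h2 (hwp 0)
                  have cm_4 : T.m (v 3) ≤ 2 * T.m (v 4) := by
                    have h := Groth.Agent.Lib.Helper39.NT.row_emb_le T v 4
                    simp only [Fin.sum_univ_five] at h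
                    rw [show T.a (v 4) (v 0) = 0 * T.w (v 0) by linarith [hx_0_1, hx_1_0, hsym 0 1, hx_1_2, hx_2_1, hsym 1 2, hx_2_3, hx_3_2, hsym 2 3, hx_3_4, hx_4_3, hsym 3 4, hdiag 4, hz_4_0], show T.a (v 4) (v 1) = 0 * T.w (v 0) by linarith [hx_0_1, hx_1_0, hsym 0 1, hx_1_2, hx_2_1, hsym 1 2, hx_2_3, hx_3_2, hsym 2 3, hx_3_4, hx_4_3, hsym 3 4, hdiag 4, hz_4_1], show T.a (v 4) (v 2) = 0 * T.w (v 0) by linarith [hx_0_1, hx_1_0, hsym 0 1, hx_1_2, hx_2_1, hsym 1 2, hx_2_3, hx_3_2, hsym 2 3, hx_3_4, hx_4_3, hsym 3 4, hdiag 4, hz_4_2], show T.a (v 4) (v 3) = 2 * T.w (v 0) by linarith [hx_0_1, hx_1_0, hsym 0 1, hx_1_2, hx_2_1, hsym 1 2, hx_2_3, hx_3_2, hsym 2 3, hx_3_4, hx_4_3, hsym 3 4, hdiag 4], show T.a (v 4) (v 4) = -4 * T.w (v 0) by linarith [hx_0_1, hx_1_0, hsym 0 1, hx_1_2, hx_2_1, hsym 1 2, hx_2_3, hx_3_2, hsym 2 3, hx_3_4, hx_4_3, hsym 3 4, hdiag 4]] at h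
                    have h2 : T.w (v 0) * (T.m (v 3)) ≤ T.w (v 0) * (2 * T.m (v 4)) := by linarith
                    exact le_of_mul_le_mul_left h2 (hwp 0)
                  exact ⟨fun j => v j, T.w (v 0), Or.inl (fun _ => rfl), Or.inr (Or.inl ⟨cw_0, cw_1, cw_2, cw_3, cw_4, ca_0, ca_1, ca_2, ca_3, cm_0, cm_1, cm_2, cm_3, cm_4⟩)⟩
                · exfalso
                  refine Groth.Agent.Lib.Helper39.NT.cert T v hn ![0, 0, 0, 1, 1] (by decide) 3 (by decide) ?_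
                  intro s hs
                  fin_cases s
                  · simp at hs
                  · simp at hs
                  · simp at hs
                  · simp [Fin.sum_univ_five]; linarith [hdiag 3, hx_3_4.ge]
                  · simp [Fin.sum_univ_five]; linarith [hdiag 4, hx_4_3.ge]
                · exfalso
                  refine Groth.Agent.Lib.Helper39.NT.cert T v hn ![0, 0, 0, 1, 1] (by decide) 3 (by decide) ?_
                  intro s hs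
                  fin_cases s
                  · simp at hs
                  · simp at hs
                  · simp at hs
                  · simp [Fin.sum_univ_five]; linarith [hdiag 3, hx_3_4.ge]
                  · simp [Fin.sum_univ_five]; linarith [hdiag 4, hx_4_3]
              · exfalso
                refine Groth.Agent.Lib.Helper39.NT.cert T v hn ![0, 0, 1, 2, 1] (by decide) 2 (by decide) ?_
                intro s hs
                fin_cases s
                · simp at hs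
                · simp at hs
                · simp [Fin.sum_univ_five]; linarith [hdiag 2, hl_2_3, hnn 2 4 (by decide)]
                · simp [Fin.sum_univ_five]; linarith [hdiag 3, hl_3_2, hx_3_4]
                · simp [Fin.sum_univ_five]; linarith [hdiag 4, hnn 4 2 (by decide), hl_4_3]
            · exfalso
              refine Groth.Agent.Lib.Helper39.NT.cert T v hn ![1, 2, 3, 4, 2] (by decide) 0 (by decide) ?_
              intro s hs
              fin_cases s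
              · simp [Fin.sum_univ_five]; linarith [hdiag 0, hl_0_1, hnn 0 2 (by decide), hnn 0 3 (by decide), hnn 0 4 (by decide)]
              · simp [Fin.sum_univ_five]; linarith [hdiag 1, hl_1_0, hl_1_2, hnn 1 3 (by decide), hnn 1 4 (by decide)]
              · simp [Fin.sum_univ_five]; linarith [hdiag 2, hnn 2 0 (by decide), hl_2_1, hl_2_3, hnn 2 4 (by decide)]
              · simp [Fin.sum_univ_five]; linarith [hdiag 3, hnn 3 0 (by decide), hnn 3 1 (by decide), hx_3_2.ge, hl_3_4]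
              · simp [Fin.sum_univ_five]; linarith [hdiag 4, hnn 4 0 (by decide), hnn 4 1 (by decide), hnn 4 2 (by decide), hl_4_3]
            · exfalso
              refine Groth.Agent.Lib.Helper39.NT.cert T v hn ![0, 0, 1, 2, 1] (by decide) 2 (by decide) ?_
              intro s hs
              fin_cases s
              · simp at hs
              · simp at hs
              · simp [Fin.sum_univ_five]; linarith [hdiag 2, hl_2_3, hnn 2 4 (by decide)]
              · simp [Fin.sum_univ_five]; linarith [hdiag 3, hx_3_2, hl_3_4]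
              · simp [Fin.sum_univ_five]; linarith [hdiag 4, hnn 4 2 (by decide), hl_4_3]
          · exfalso
            refine Groth.Agent.Lib.Helper39.NT.cert T v hn ![1, 2, 3, 2, 1] (by decide) 0 (by decide) ?_
            intro s hs
            fin_cases s
            · simp [Fin.sum_univ_five]; linarith [hdiag 0, hl_0_1, hnn 0 2 (by decide), hnn 0 3 (by decide), hnn 0 4 (by decide)]
            · simp [Fin.sum_univ_five]; linarith [hdiag 1, hl_1_0, hl_1_2, hnn 1 3 (by decide), hnn 1 4 (by decide)]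
            · simp [Fin.sum_univ_five]; linarith [hdiag 2, hnn 2 0 (by decide), hl_2_1, hx_2_3.ge, hnn 2 4 (by decide)]
            · simp [Fin.sum_univ_five]; linarith [hdiag 3, hnn 3 0 (by decide), hnn 3 1 (by decide), hl_3_2, hl_3_4]
            · simp [Fin.sum_univ_five]; linarith [hdiag 4, hnn 4 0 (by decide), hnn 4 1 (by decide), hnn 4 2 (by decide), hl_4_3]
          · exfalso
            refine Groth.Agent.Lib.Helper39.NT.cert T v hn ![0, 1, 2, 1, 0] (by decide) 1 (by decide) ?_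
            intro s hs
            fin_cases s
            · simp at hs
            · simp [Fin.sum_univ_five]; linarith [hdiag 1, hl_1_2, hnn 1 3 (by decide)]
            · simp [Fin.sum_univ_five]; linarith [hdiag 2, hl_2_1, hx_2_3]
            · simp [Fin.sum_univ_five]; linarith [hdiag 3, hnn 3 1 (by decide), hl_3_2]
            · simp at hs
        · exfalso
          refine Groth.Agent.Lib.Helper39.NT.cert T v hn ![1, 2, 3, 2, 1] (by decide) 0 (by decide) ?_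
          intro s hs
          fin_cases s
          · simp [Fin.sum_univ_five]; linarith [hdiag 0, hl_0_1, hnn 0 2 (by decide), hnn 0 3 (by decide), hnn 0 4 (by decide)]
          · simp [Fin.sum_univ_five]; linarith [hdiag 1, hl_1_0, hl_1_2, hnn 1 3 (by decide), hnn 1 4 (by decide)]
          · simp [Fin.sum_univ_five]; linarith [hdiag 2, hnn 2 0 (by decide), hx_2_1.ge, hl_2_3, hnn 2 4 (by decide)]
          · simp [Fin.sum_univ_five]; linarith [hdiag 3, hnn 3 0 (by decide), hnn 3 1 (by decide), hl_3_2, hl_3_4]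
          · simp [Fin.sum_univ_five]; linarith [hdiag 4, hnn 4 0 (by decide), hnn 4 1 (by decide), hnn 4 2 (by decide), hl_4_3]
        · exfalso
          refine Groth.Agent.Lib.Helper39.NT.cert T v hn ![0, 1, 2, 1, 0] (by decide) 1 (by decide) ?_
          intro s hs
          fin_cases s
          · simp at hs
          · simp [Fin.sum_univ_five]; linarith [hdiag 1, hl_1_2, hnn 1 3 (by decide)]
          · simp [Fin.sum_univ_five]; linarith [hdiag 2, hx_2_1, hl_2_3]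
          · simp [Fin.sum_univ_five]; linarith [hdiag 3, hnn 3 1 (by decide), hl_3_2]
          · simp at hs
      · exfalso
        refine Groth.Agent.Lib.Helper39.NT.cert T v hn ![2, 4, 3, 2, 1] (by decide) 0 (by decide) ?_
        intro s hs
        fin_cases s
        · simp [Fin.sum_univ_five]; linarith [hdiag 0, hl_0_1, hnn 0 2 (by decide), hnn 0 3 (by decide), hnn 0 4 (by decide)]
        · simp [Fin.sum_univ_five]; linarith [hdiag 1, hl_1_0, hx_1_2.ge, hnn 1 3 (by decide), hnn 1 4 (by decide)]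
        · simp [Fin.sum_univ_five]; linarith [hdiag 2, hnn 2 0 (by decide), hl_2_1, hl_2_3, hnn 2 4 (by decide)]
        · simp [Fin.sum_univ_five]; linarith [hdiag 3, hnn 3 0 (by decide), hnn 3 1 (by decide), hl_3_2, hl_3_4]
        · simp [Fin.sum_univ_five]; linarith [hdiag 4, hnn 4 0 (by decide), hnn 4 1 (by decide), hnn 4 2 (by decide), hl_4_3]
      · exfalso
        refine Groth.Agent.Lib.Helper39.NT.cert T v hn ![1, 2, 1, 0, 0] (by decide) 0 (by decide) ?_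
        intro s hs
        fin_cases s
        · simp [Fin.sum_univ_five]; linarith [hdiag 0, hl_0_1, hnn 0 2 (by decide)]
        · simp [Fin.sum_univ_five]; linarith [hdiag 1, hl_1_0, hx_1_2]
        · simp [Fin.sum_univ_five]; linarith [hdiag 2, hnn 2 0 (by decide), hl_2_1]
        · simp at hs
        · simp at hs
    · rcases hd3 1 2 hp_1_2 with hx_1_2 | hx_1_2 | hx_1_2
      · rcases hd3 2 1 hp_2_1 with hx_2_1 | hx_2_1 | hx_2_1
        · rcases hd3 2 3 hp_2_3 with hx_2_3 | hx_2_3 | hx_2_3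
          · rcases hd3 3 2 hp_3_2 with hx_3_2 | hx_3_2 | hx_3_2
            · rcases hd3 3 4 hp_3_4 with hx_3_4 | hx_3_4 | hx_3_4
              · rcases hd3 4 3 hp_4_3 with hx_4_3 | hx_4_3 | hx_4_3
                · have cw_0 : T.w (v 4) = T.w (v 1) := by linarith [hx_0_1, hx_1_0, hsym 0 1, hx_1_2, hx_2_1, hsym 1 2, hx_2_3, hx_3_2, hsym 2 3, hx_3_4, hx_4_3, hsym 3 4]
                  have cw_1 : T.w (v 3) = T.w (v 1) := by linarith [hx_0_1, hx_1_0, hsym 0 1, hx_1_2, hx_2_1, hsym 1 2, hx_2_3, hx_3_2, hsym 2 3, hx_3_4, hx_4_3, hsym 3 4]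
                  have cw_2 : T.w (v 2) = T.w (v 1) := by linarith [hx_0_1, hx_1_0, hsym 0 1, hx_1_2, hx_2_1, hsym 1 2, hx_2_3, hx_3_2, hsym 2 3, hx_3_4, hx_4_3, hsym 3 4]
                  have cw_3 : T.w (v 1) = T.w (v 1) := by linarith [hx_0_1, hx_1_0, hsym 0 1, hx_1_2, hx_2_1, hsym 1 2, hx_2_3, hx_3_2, hsym 2 3, hx_3_4, hx_4_3, hsym 3 4]
                  have cw_4 : T.w (v 0) = 2 * T.w (v 1) := by linarith [hx_0_1, hx_1_0, hsym 0 1, hx_1_2, hx_2_1, hsym 1 2, hx_2_3, hx_3_2, hsym 2 3, hx_3_4, hx_4_3, hsym 3 4]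
                  have ca_0 : T.a (v 4) (v 3) = T.w (v 1) := by linarith [hx_0_1, hx_1_0, hsym 0 1, hx_1_2, hx_2_1, hsym 1 2, hx_2_3, hx_3_2, hsym 2 3, hx_3_4, hx_4_3, hsym 3 4]
                  have ca_1 : T.a (v 3) (v 2) = T.w (v 1) := by linarith [hx_0_1, hx_1_0, hsym 0 1, hx_1_2, hx_2_1, hsym 1 2, hx_2_3, hx_3_2, hsym 2 3, hx_3_4, hx_4_3, hsym 3 4]
                  have ca_2 : T.a (v 2) (v 1) = T.w (v 1) := by linarith [hx_0_1, hx_1_0, hsym 0 1, hx_1_2, hx_2_1, hsym 1 2, hx_2_3, hx_3_2, hsym 2 3, hx_3_4, hx_4_3, hsym 3 4]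
                  have ca_3 : T.a (v 1) (v 0) = 2 * T.w (v 1) := by linarith [hx_0_1, hx_1_0, hsym 0 1, hx_1_2, hx_2_1, hsym 1 2, hx_2_3, hx_3_2, hsym 2 3, hx_3_4, hx_4_3, hsym 3 4]
                  have cm_0 : T.m (v 3) ≤ 2 * T.m (v 4) := by
                    have h := Groth.Agent.Lib.Helper39.NT.row_emb_le T v 4
                    simp only [Fin.sum_univ_five] at h
                    rw [show T.a (v 4) (v 0) = 0 * T.w (v 1) by linarith [hx_0_1, hx_1_0, hsym 0 1, hx_1_2, hx_2_1, hsym 1 2, hx_2_3, hx_3_2, hsym 2 3, hx_3_4, hx_4_3, hsym 3 4, hdiag 4, hz_4_0], show T.a (v 4) (v 1) = 0 * T.w (v 1) by linarith [hx_0_1, hx_1_0, hsym 0 1, hx_1_2, hx_2_1, hsym 1 2, hx_2_3, hx_3_2, hsym 2 3, hx_3_4, hx_4_3, hsym 3 4, hdiag 4, hz_4_1], show T.a (v 4) (v 2) = 0 * T.w (v 1) by linarith [hx_0_1, hx_1_0, hsym 0 1, hx_1_2, hx_2_1, hsym 1 2, hx_2_3, hx_3_2, hsym 2 3, hx_3_4, hx_4_3, hsym 3 4, hdiag 4, hz_4_2], show T.a (v 4)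 (v 3) = 1 * T.w (v 1) by linarith [hx_0_1, hx_1_0, hsym 0 1, hx_1_2, hx_2_1, hsym 1 2, hx_2_3, hx_3_2, hsym 2 3, hx_3_4, hx_4_3, hsym 3 4, hdiag 4], show T.a (v 4) (v 4) = -2 * T.w (v 1) by linarith [hx_0_1, hx_1_0, hsym 0 1, hx_1_2, hx_2_1, hsym 1 2, hx_2_3, hx_3_2, hsym 2 3, hx_3_4, hx_4_3, hsym 3 4, hdiag 4]] at h
                    have h2 : T.w (v 1) * (T.m (v 3)) ≤ T.w (v 1) * (2 * T.m (v 4)) := by linarith
                    exact le_of_mul_le_mul_left h2 (hwp 1)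
                  have cm_1 : T.m (v 4) + T.m (v 2) ≤ 2 * T.m (v 3) := by
                    have h := Groth.Agent.Lib.Helper39.NT.row_emb_le T v 3
                    simp only [Fin.sum_univ_five] at h
                    rw [show T.a (v 3) (v 0) = 0 * T.w (v 1) by linarith [hx_0_1, hx_1_0, hsym 0 1, hx_1_2, hx_2_1, hsym 1 2, hx_2_3, hx_3_2, hsym 2 3, hx_3_4, hx_4_3, hsym 3 4, hdiag 3, hz_3_0], show T.a (v 3) (v 1) = 0 * T.w (v 1) by linarith [hx_0_1, hx_1_0, hsym 0 1, hx_1_2, hx_2_1, hsym 1 2, hx_2_3, hx_3_2, hsym 2 3, hx_3_4, hx_4_3, hsym 3 4, hdiag 3, hz_3_1], show T.a (v 3) (v 2) = 1 * T.w (v 1) by linarith [hx_0_1, hx_1_0, hsym 0 1, hx_1_2, hx_2_1, hsym 1 2, hx_2_3, hx_3_2, hsym 2 3, hx_3_4, hx_4_3, hsym 3 4, hdiag 3], show T.a (v 3) (v 3) = -2 * T.w (v 1) by linarith [hx_0_1, hx_1_0, hsym 0 1, hx_1_2, hx_2_1, hsym 1 2, hx_2_3, hx_3_2, hsym 2 3, hx_3_4, hx_4_3, hsym 3 4, hdiag 3], show T.a (v 3) (v 4) = 1 *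 T.w (v 1) by linarith [hx_0_1, hx_1_0, hsym 0 1, hx_1_2, hx_2_1, hsym 1 2, hx_2_3, hx_3_2, hsym 2 3, hx_3_4, hx_4_3, hsym 3 4, hdiag 3]] at h
                    have h2 : T.w (v 1) * (T.m (v 4) + T.m (v 2)) ≤ T.w (v 1) * (2 * T.m (v 3)) := by linarith
                    exact le_of_mul_le_mul_left h2 (hwp 1)
                  have cm_2 : T.m (v 3) + T.m (v 1) ≤ 2 * T.m (v 2) := by
                    have h := Groth.Agent.Lib.Helper39.NT.row_emb_le T v 2
                    simp only [Fin.sum_univ_five] at h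
                    rw [show T.a (v 2) (v 0) = 0 * T.w (v 1) by linarith [hx_0_1, hx_1_0, hsym 0 1, hx_1_2, hx_2_1, hsym 1 2, hx_2_3, hx_3_2, hsym 2 3, hx_3_4, hx_4_3, hsym 3 4, hdiag 2, hz_2_0], show T.a (v 2) (v 1) = 1 * T.w (v 1) by linarith [hx_0_1, hx_1_0, hsym 0 1, hx_1_2, hx_2_1, hsym 1 2, hx_2_3, hx_3_2, hsym 2 3, hx_3_4, hx_4_3, hsym 3 4, hdiag 2], show T.a (v 2) (v 2) = -2 * T.w (v 1) by linarith [hx_0_1, hx_1_0, hsym 0 1, hx_1_2, hx_2_1, hsym 1 2, hx_2_3, hx_3_2, hsym 2 3, hx_3_4, hx_4_3, hsym 3 4, hdiag 2], show T.a (v 2) (v 3) = 1 * T.w (v 1) by linarith [hx_0_1, hx_1_0, hsym 0 1, hx_1_2, hx_2_1, hsym 1 2, hx_2_3, hx_3_2, hsym 2 3, hx_3_4, hx_4_3, hsym 3 4, hdiag 2], show T.a (v 2) (v 4) = 0 * T.w (v 1) by linarith [hx_0_1, hx_1_0, hsym 0 1, hx_1_2, hx_2_1, hsym 1 2, hx_2_3, hx_3_2, hsym 2 3, hx_3_4, hx_4_3, hsym 3 4, hdiag 2, hz_2_4]] at h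
                    have h2 : T.w (v 1) * (T.m (v 3) + T.m (v 1)) ≤ T.w (v 1) * (2 * T.m (v 2)) := by linarith
                    exact le_of_mul_le_mul_left h2 (hwp 1)
                  have cm_3 : T.m (v 2) + 2 * T.m (v 0) ≤ 2 * T.m (v 1) := by
                    have h := Groth.Agent.Lib.Helper39.NT.row_emb_le T v 1
                    simp only [Fin.sum_univ_five] at h
                    rw [show T.a (v 1) (v 0) = 2 * T.w (v 1) by linarith [hx_0_1, hx_1_0, hsym 0 1, hx_1_2, hx_2_1, hsym 1 2, hx_2_3, hx_3_2, hsym 2 3, hx_3_4, hx_4_3, hsym 3 4, hdiag 1], show T.a (v 1) (v 1) = -2 * T.w (v 1) by linarith [hx_0_1, hx_1_0, hsym 0 1, hx_1_2, hx_2_1, hsym 1 2, hx_2_3, hx_3_2, hsym 2 3, hx_3_4, hx_4_3, hsym 3 4, hdiag 1], show T.a (v 1) (v 2) = 1 * T.w (v 1) by linarith [hx_0_1, hx_1_0, hsym 0 1, hx_1_2, hx_2_1, hsym 1 2, hx_2_3, hx_3_2, hsym 2 3, hx_3_4, hx_4_3, hsym 3 4, hdiag 1], show T.a (v 1) (v 3) = 0 * T.w (v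 1) by linarith [hx_0_1, hx_1_0, hsym 0 1, hx_1_2, hx_2_1, hsym 1 2, hx_2_3, hx_3_2, hsym 2 3, hx_3_4, hx_4_3, hsym 3 4, hdiag 1, hz_1_3], show T.a (v 1) (v 4) = 0 * T.w (v 1) by linarith [hx_0_1, hx_1_0, hsym 0 1, hx_1_2, hx_2_1, hsym 1 2, hx_2_3, hx_3_2, hsym 2 3, hx_3_4, hx_4_3, hsym 3 4, hdiag 1, hz_1_4]] at h
                    have h2 : T.w (v 1) * (T.m (v 2) + 2 * T.m (v 0)) ≤ T.w (v 1) * (2 * T.m (v 1)) := by linarith
                    exact le_of_mul_le_mul_left h2 (hwp 1)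
                  have cm_4 : T.m (v 1) ≤ 2 * T.m (v 0) := by
                    have h := Groth.Agent.Lib.Helper39.NT.row_emb_le T v 0
                    simp only [Fin.sum_univ_five] at h
                    rw [show T.a (v 0) (v 0) = -4 * T.w (v 1) by linarith [hx_0_1, hx_1_0, hsym 0 1, hx_1_2, hx_2_1, hsym 1 2, hx_2_3, hx_3_2, hsym 2 3, hx_3_4, hx_4_3, hsym 3 4, hdiag 0], show T.a (v 0) (v 1) = 2 * T.w (v 1) by linarith [hx_0_1, hx_1_0, hsym 0 1, hx_1_2, hx_2_1, hsym 1 2, hx_2_3, hx_3_2, hsym 2 3, hx_3_4, hx_4_3, hsym 3 4, hdiag 0], show T.a (v 0) (v 2) = 0 * T.w (v 1) by linarith [hx_0_1, hx_1_0, hsym 0 1, hx_1_2, hx_2_1, hsym 1 2, hx_2_3, hx_3_2, hsym 2 3, hx_3_4, hx_4_3, hsym 3 4, hdiag 0, hz_0_2], show T.a (v 0) (v 3) = 0 * T.w (v 1) by linarith [hx_0_1, hx_1_0, hsym 0 1, hx_1_2, hx_2_1, hsym 1 2, hx_2_3, hx_3_2, hsym 2 3, hx_3_4, hx_4_3, hsym 3 4, hdiag 0, hz_0_3], show T.a (v 0) (v 4) = 0 * T.w (v 1) by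 linarith [hx_0_1, hx_1_0, hsym 0 1, hx_1_2, hx_2_1, hsym 1 2, hx_2_3, hx_3_2, hsym 2 3, hx_3_4, hx_4_3, hsym 3 4, hdiag 0, hz_0_4]] at h
                    have h2 : T.w (v 1) * (T.m (v 1)) ≤ T.w (v 1) * (2 * T.m (v 0)) := by linarith
                    exact le_of_mul_le_mul_left h2 (hwp 1)
                  exact ⟨fun j => v (Fin.rev j), T.w (v 1), Or.inr (fun _ => rfl), Or.inr (Or.inl ⟨cw_0, cw_1, cw_2, cw_3, cw_4, ca_0, ca_1, ca_2, ca_3, cm_0, cm_1, cm_2, cm_3, cm_4⟩)⟩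
                · exfalso
                  refine Groth.Agent.Lib.Helper39.NT.cert T v hn ![1, 2, 2, 2, 2] (by decide) 0 (by decide) ?_
                  intro s hs
                  fin_cases s
                  · simp [Fin.sum_univ_five]; linarith [hdiag 0, hl_0_1, hnn 0 2 (by decide), hnn 0 3 (by decide), hnn 0 4 (by decide)]
                  · simp [Fin.sum_univ_five]; linarith [hdiag 1, hx_1_0.ge, hl_1_2, hnn 1 3 (by decide), hnn 1 4 (by decide)]
                  · simp [Fin.sum_univ_five]; linarith [hdiag 2, hnn 2 0 (by decide), hl_2_1, hl_2_3, hnn 2 4 (by decide)]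
                  · simp [Fin.sum_univ_five]; linarith [hdiag 3, hnn 3 0 (by decide), hnn 3 1 (by decide), hl_3_2, hl_3_4]
                  · simp [Fin.sum_univ_five]; linarith [hdiag 4, hnn 4 0 (by decide), hnn 4 1 (by decide), hnn 4 2 (by decide), hx_4_3.ge]
                · exfalso
                  refine Groth.Agent.Lib.Helper39.NT.cert T v hn ![0, 0, 1, 2, 3] (by decide) 2 (by decide) ?_
                  intro s hs
                  fin_cases s
                  · simp at hs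
                  · simp at hs
                  · simp [Fin.sum_univ_five]; linarith [hdiag 2, hl_2_3, hnn 2 4 (by decide)]
                  · simp [Fin.sum_univ_five]; linarith [hdiag 3, hl_3_2, hl_3_4]
                  · simp [Fin.sum_univ_five]; linarith [hdiag 4, hnn 4 2 (by decide), hx_4_3]
              · exfalso
                refine Groth.Agent.Lib.Helper39.NT.cert T v hn ![1, 2, 2, 2, 1] (by decide) 0 (by decide) ?_
                intro s hs
                fin_cases s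
                · simp [Fin.sum_univ_five]; linarith [hdiag 0, hl_0_1, hnn 0 2 (by decide), hnn 0 3 (by decide), hnn 0 4 (by decide)]
                · simp [Fin.sum_univ_five]; linarith [hdiag 1, hx_1_0.ge, hl_1_2, hnn 1 3 (by decide), hnn 1 4 (by decide)]
                · simp [Fin.sum_univ_five]; linarith [hdiag 2, hnn 2 0 (by decide), hl_2_1, hl_2_3, hnn 2 4 (by decide)]
                · simp [Fin.sum_univ_five]; linarith [hdiag 3, hnn 3 0 (by decide), hnn 3 1 (by decide), hl_3_2, hx_3_4.ge]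
                · simp [Fin.sum_univ_five]; linarith [hdiag 4, hnn 4 0 (by decide), hnn 4 1 (by decide), hnn 4 2 (by decide), hl_4_3]
              · exfalso
                refine Groth.Agent.Lib.Helper39.NT.cert T v hn ![0, 0, 1, 2, 1] (by decide) 2 (by decide) ?_
                intro s hs
                fin_cases s
                · simp at hs
                · simp at hs
                · simp [Fin.sum_univ_five]; linarith [hdiag 2, hl_2_3, hnn 2 4 (by decide)]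
                · simp [Fin.sum_univ_five]; linarith [hdiag 3, hl_3_2, hx_3_4]
                · simp [Fin.sum_univ_five]; linarith [hdiag 4, hnn 4 2 (by decide), hl_4_3]
            · exfalso
              refine Groth.Agent.Lib.Helper39.NT.cert T v hn ![1, 2, 2, 2, 0] (by decide) 0 (by decide) ?_
              intro s hs
              fin_cases s
              · simp [Fin.sum_univ_five]; linarith [hdiag 0, hl_0_1, hnn 0 2 (by decide), hnn 0 3 (by decide)]
              · simp [Fin.sum_univ_five]; linarith [hdiag 1, hx_1_0.ge, hl_1_2, hnn 1 3 (by decide)]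
              · simp [Fin.sum_univ_five]; linarith [hdiag 2, hnn 2 0 (by decide), hl_2_1, hl_2_3]
              · simp [Fin.sum_univ_five]; linarith [hdiag 3, hnn 3 0 (by decide), hnn 3 1 (by decide), hx_3_2.ge]
              · simp at hs
            · exfalso
              refine Groth.Agent.Lib.Helper39.NT.cert T v hn ![0, 0, 1, 2, 1] (by decide) 2 (by decide) ?_
              intro s hs
              fin_cases s
              · simp at hs
              · simp at hs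
              · simp [Fin.sum_univ_five]; linarith [hdiag 2, hl_2_3, hnn 2 4 (by decide)]
              · simp [Fin.sum_univ_five]; linarith [hdiag 3, hx_3_2, hl_3_4]
              · simp [Fin.sum_univ_five]; linarith [hdiag 4, hnn 4 2 (by decide), hl_4_3]
          · exfalso
            refine Groth.Agent.Lib.Helper39.NT.cert T v hn ![1, 2, 2, 1, 0] (by decide) 0 (by decide) ?_
            intro s hs
            fin_cases s
            · simp [Fin.sum_univ_five]; linarith [hdiag 0, hl_0_1, hnn 0 2 (by decide), hnn 0 3 (by decide)]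
            · simp [Fin.sum_univ_five]; linarith [hdiag 1, hx_1_0.ge, hl_1_2, hnn 1 3 (by decide)]
            · simp [Fin.sum_univ_five]; linarith [hdiag 2, hnn 2 0 (by decide), hl_2_1, hx_2_3.ge]
            · simp [Fin.sum_univ_five]; linarith [hdiag 3, hnn 3 0 (by decide), hnn 3 1 (by decide), hl_3_2]
            · simp at hs
          · exfalso
            refine Groth.Agent.Lib.Helper39.NT.cert T v hn ![0, 1, 2, 1, 0] (by decide) 1 (by decide) ?_
            intro s hs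
            fin_cases s
            · simp at hs
            · simp [Fin.sum_univ_five]; linarith [hdiag 1, hl_1_2, hnn 1 3 (by decide)]
            · simp [Fin.sum_univ_five]; linarith [hdiag 2, hl_2_1, hx_2_3]
            · simp [Fin.sum_univ_five]; linarith [hdiag 3, hnn 3 1 (by decide), hl_3_2]
            · simp at hs
        · exfalso
          refine Groth.Agent.Lib.Helper39.NT.cert T v hn ![1, 2, 2, 0, 0] (by decide) 0 (by decide) ?_
          intro s hs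
          fin_cases s
          · simp [Fin.sum_univ_five]; linarith [hdiag 0, hl_0_1, hnn 0 2 (by decide)]
          · simp [Fin.sum_univ_five]; linarith [hdiag 1, hx_1_0.ge, hl_1_2]
          · simp [Fin.sum_univ_five]; linarith [hdiag 2, hnn 2 0 (by decide), hx_2_1.ge]
          · simp at hs
          · simp at hs
        · exfalso
          refine Groth.Agent.Lib.Helper39.NT.cert T v hn ![0, 1, 2, 1, 0] (by decide) 1 (by decide) ?_
          intro s hs
          fin_cases s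
          · simp at hs
          · simp [Fin.sum_univ_five]; linarith [hdiag 1, hl_1_2, hnn 1 3 (by decide)]
          · simp [Fin.sum_univ_five]; linarith [hdiag 2, hx_2_1, hl_2_3]
          · simp [Fin.sum_univ_five]; linarith [hdiag 3, hnn 3 1 (by decide), hl_3_2]
          · simp at hs
      · exfalso
        refine Groth.Agent.Lib.Helper39.NT.cert T v hn ![1, 2, 1, 0, 0] (by decide) 0 (by decide) ?_
        intro s hs
        fin_cases s
        · simp [Fin.sum_univ_five]; linarith [hdiag 0, hl_0_1, hnn 0 2 (by decide)]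
        · simp [Fin.sum_univ_five]; linarith [hdiag 1, hx_1_0.ge, hx_1_2.ge]
        · simp [Fin.sum_univ_five]; linarith [hdiag 2, hnn 2 0 (by decide), hl_2_1]
        · simp at hs
        · simp at hs
      · exfalso
        refine Groth.Agent.Lib.Helper39.NT.cert T v hn ![1, 2, 1, 0, 0] (by decide) 0 (by decide) ?_
        intro s hs
        fin_cases s
        · simp [Fin.sum_univ_five]; linarith [hdiag 0, hl_0_1, hnn 0 2 (by decide)]
        · simp [Fin.sum_univ_five]; linarith [hdiag 1, hx_1_0.ge, hx_1_2]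
        · simp [Fin.sum_univ_five]; linarith [hdiag 2, hnn 2 0 (by decide), hl_2_1]
        · simp at hs
        · simp at hs
    · exfalso
      refine Groth.Agent.Lib.Helper39.NT.cert T v hn ![1, 2, 1, 0, 0] (by decide) 0 (by decide) ?_
      intro s hs
      fin_cases s
      · simp [Fin.sum_univ_five]; linarith [hdiag 0, hl_0_1, hnn 0 2 (by decide)]
      · simp [Fin.sum_univ_five]; linarith [hdiag 1, hx_1_0, hl_1_2]
      · simp [Fin.sum_univ_five]; linarith [hdiag 2, hnn 2 0 (by decide), hl_2_1]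
      · simp at hs
      · simp at hs
  · rcases hd3 1 0 hp_1_0 with hx_1_0 | hx_1_0 | hx_1_0
    · rcases hd3 1 2 hp_1_2 with hx_1_2 | hx_1_2 | hx_1_2
      · rcases hd3 2 1 hp_2_1 with hx_2_1 | hx_2_1 | hx_2_1
        · rcases hd3 2 3 hp_2_3 with hx_2_3 | hx_2_3 | hx_2_3
          · rcases hd3 3 2 hp_3_2 with hx_3_2 | hx_3_2 | hx_3_2
            · rcases hd3 3 4 hp_3_4 with hx_3_4 | hx_3_4 | hx_3_4
              · rcases hd3 4 3 hp_4_3 with hx_4_3 | hx_4_3 | hx_4_3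
                · have cw_0 : T.w (v 4) = 2 * T.w (v 0) := by linarith [hx_0_1, hx_1_0, hsym 0 1, hx_1_2, hx_2_1, hsym 1 2, hx_2_3, hx_3_2, hsym 2 3, hx_3_4, hx_4_3, hsym 3 4]
                  have cw_1 : T.w (v 3) = 2 * T.w (v 0) := by linarith [hx_0_1, hx_1_0, hsym 0 1, hx_1_2, hx_2_1, hsym 1 2, hx_2_3, hx_3_2, hsym 2 3, hx_3_4, hx_4_3, hsym 3 4]
                  have cw_2 : T.w (v 2) = 2 * T.w (v 0) := by linarith [hx_0_1, hx_1_0, hsym 0 1, hx_1_2, hx_2_1, hsym 1 2, hx_2_3, hx_3_2, hsym 2 3, hx_3_4, hx_4_3, hsym 3 4]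
                  have cw_3 : T.w (v 1) = 2 * T.w (v 0) := by linarith [hx_0_1, hx_1_0, hsym 0 1, hx_1_2, hx_2_1, hsym 1 2, hx_2_3, hx_3_2, hsym 2 3, hx_3_4, hx_4_3, hsym 3 4]
                  have cw_4 : T.w (v 0) = T.w (v 0) := by linarith [hx_0_1, hx_1_0, hsym 0 1, hx_1_2, hx_2_1, hsym 1 2, hx_2_3, hx_3_2, hsym 2 3, hx_3_4, hx_4_3, hsym 3 4]
                  have ca_0 : T.a (v 4) (v 3) = 2 * T.w (v 0) := by linarith [hx_0_1, hx_1_0, hsym 0 1, hx_1_2, hx_2_1, hsym 1 2, hx_2_3, hx_3_2, hsym 2 3, hx_3_4, hx_4_3, hsym 3 4]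
                  have ca_1 : T.a (v 3) (v 2) = 2 * T.w (v 0) := by linarith [hx_0_1, hx_1_0, hsym 0 1, hx_1_2, hx_2_1, hsym 1 2, hx_2_3, hx_3_2, hsym 2 3, hx_3_4, hx_4_3, hsym 3 4]
                  have ca_2 : T.a (v 2) (v 1) = 2 * T.w (v 0) := by linarith [hx_0_1, hx_1_0, hsym 0 1, hx_1_2, hx_2_1, hsym 1 2, hx_2_3, hx_3_2, hsym 2 3, hx_3_4, hx_4_3, hsym 3 4]
                  have ca_3 : T.a (v 1) (v 0) = 2 * T.w (v 0) := by linarith [hx_0_1, hx_1_0, hsym 0 1, hx_1_2, hx_2_1, hsym 1 2, hx_2_3, hx_3_2, hsym 2 3, hx_3_4, hx_4_3, hsym 3 4]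
                  have cm_0 : T.m (v 3) ≤ 2 * T.m (v 4) := by
                    have h := Groth.Agent.Lib.Helper39.NT.row_emb_le T v 4
                    simp only [Fin.sum_univ_five] at h
                    rw [show T.a (v 4) (v 0) = 0 * T.w (v 0) by linarith [hx_0_1, hx_1_0, hsym 0 1, hx_1_2, hx_2_1, hsym 1 2, hx_2_3, hx_3_2, hsym 2 3, hx_3_4, hx_4_3, hsym 3 4, hdiag 4, hz_4_0], show T.a (v 4) (v 1) = 0 * T.w (v 0) by linarith [hx_0_1, hx_1_0, hsym 0 1, hx_1_2, hx_2_1, hsym 1 2, hx_2_3, hx_3_2, hsym 2 3, hx_3_4, hx_4_3, hsym 3 4, hdiag 4, hz_4_1], show T.a (v 4) (v 2) = 0 * T.w (v 0) by linarith [hx_0_1, hx_1_0, hsym 0 1, hx_1_2, hx_2_1, hsym 1 2, hx_2_3, hx_3_2, hsym 2 3, hx_3_4, hx_4_3, hsym 3 4, hdiag 4, hz_4_2], show T.a (v 4) (v 3) = 2 * T.w (v 0) by linarith [hx_0_1, hx_1_0, hsym 0 1, hx_1_2, hx_2_1, hsym 1 2, hx_2_3, hx_3_2, hsym 2 3, hx_3_4, hx_4_3, hsym 3 4, hdiag 4], show T.a (v 4) (v 4) = -4 * T.w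 (v 0) by linarith [hx_0_1, hx_1_0, hsym 0 1, hx_1_2, hx_2_1, hsym 1 2, hx_2_3, hx_3_2, hsym 2 3, hx_3_4, hx_4_3, hsym 3 4, hdiag 4]] at h
                    have h2 : T.w (v 0) * (T.m (v 3)) ≤ T.w (v 0) * (2 * T.m (v 4)) := by linarith
                    exact le_of_mul_le_mul_left h2 (hwp 0)
                  have cm_1 : T.m (v 4) + T.m (v 2) ≤ 2 * T.m (v 3) := by
                    have h := Groth.Agent.Lib.Helper39.NT.row_emb_le T v 3
                    simp only [Fin.sum_univ_five] at h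
                    rw [show T.a (v 3) (v 0) = 0 * T.w (v 0) by linarith [hx_0_1, hx_1_0, hsym 0 1, hx_1_2, hx_2_1, hsym 1 2, hx_2_3, hx_3_2, hsym 2 3, hx_3_4, hx_4_3, hsym 3 4, hdiag 3, hz_3_0], show T.a (v 3) (v 1) = 0 * T.w (v 0) by linarith [hx_0_1, hx_1_0, hsym 0 1, hx_1_2, hx_2_1, hsym 1 2, hx_2_3, hx_3_2, hsym 2 3, hx_3_4, hx_4_3, hsym 3 4, hdiag 3, hz_3_1], show T.a (v 3) (v 2) = 2 * T.w (v 0) by linarith [hx_0_1, hx_1_0, hsym 0 1, hx_1_2, hx_2_1, hsym 1 2, hx_2_3, hx_3_2, hsym 2 3, hx_3_4, hx_4_3, hsym 3 4, hdiag 3], show T.a (v 3) (v 3) = -4 * T.w (v 0) by linarith [hx_0_1, hx_1_0, hsym 0 1, hx_1_2, hx_2_1, hsym 1 2, hx_2_3, hx_3_2, hsym 2 3, hx_3_4, hx_4_3, hsym 3 4, hdiag 3], show T.a (v 3) (v 4) = 2 * T.w (v 0) by linarith [hx_0_1, hx_1_0, hsym 0 1, hx_1_2, hx_2_1, hsym 1 2, hx_2_3, hx_3_2, hsym 2 3, hx_3_4, hx_4_3, hsym 3 4, hdiag 3]] at h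
                    have h2 : T.w (v 0) * (T.m (v 4) + T.m (v 2)) ≤ T.w (v 0) * (2 * T.m (v 3)) := by linarith
                    exact le_of_mul_le_mul_left h2 (hwp 0)
                  have cm_2 : T.m (v 3) + T.m (v 1) ≤ 2 * T.m (v 2) := by
                    have h := Groth.Agent.Lib.Helper39.NT.row_emb_le T v 2
                    simp only [Fin.sum_univ_five] at h
                    rw [show T.a (v 2) (v 0) = 0 * T.w (v 0) by linarith [hx_0_1, hx_1_0, hsym 0 1, hx_1_2, hx_2_1, hsym 1 2, hx_2_3, hx_3_2, hsym 2 3, hx_3_4, hx_4_3, hsym 3 4, hdiag 2, hz_2_0], show T.a (v 2) (v 1) = 2 * T.w (v 0) by linarith [hx_0_1, hx_1_0, hsym 0 1, hx_1_2, hx_2_1, hsym 1 2, hx_2_3, hx_3_2, hsym 2 3, hx_3_4, hx_4_3, hsym 3 4, hdiag 2], show T.a (v 2) (v 2) = -4 * T.w (v 0) by linarith [hx_0_1, hx_1_0, hsym 0 1, hx_1_2, hx_2_1, hsym 1 2, hx_2_3, hx_3_2, hsym 2 3, hx_3_4, hx_4_3, hsym 3 4, hdiag 2], show T.a (v 2) (v 3) = 2 * T.w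 (v 0) by linarith [hx_0_1, hx_1_0, hsym 0 1, hx_1_2, hx_2_1, hsym 1 2, hx_2_3, hx_3_2, hsym 2 3, hx_3_4, hx_4_3, hsym 3 4, hdiag 2], show T.a (v 2) (v 4) = 0 * T.w (v 0) by linarith [hx_0_1, hx_1_0, hsym 0 1, hx_1_2, hx_2_1, hsym 1 2, hx_2_3, hx_3_2, hsym 2 3, hx_3_4, hx_4_3, hsym 3 4, hdiag 2, hz_2_4]] at h
                    have h2 : T.w (v 0) * (T.m (v 3) + T.m (v 1)) ≤ T.w (v 0) * (2 * T.m (v 2)) := by linarith
                    exact le_of_mul_le_mul_left h2 (hwp 0)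
                  have cm_3 : T.m (v 2) + T.m (v 0) ≤ 2 * T.m (v 1) := by
                    have h := Groth.Agent.Lib.Helper39.NT.row_emb_le T v 1
                    simp only [Fin.sum_univ_five] at h
                    rw [show T.a (v 1) (v 0) = 2 * T.w (v 0) by linarith [hx_0_1, hx_1_0, hsym 0 1, hx_1_2, hx_2_1, hsym 1 2, hx_2_3, hx_3_2, hsym 2 3, hx_3_4, hx_4_3, hsym 3 4, hdiag 1], show T.a (v 1) (v 1) = -4 * T.w (v 0) by linarith [hx_0_1, hx_1_0, hsym 0 1, hx_1_2, hx_2_1, hsym 1 2, hx_2_3, hx_3_2, hsym 2 3, hx_3_4, hx_4_3, hsym 3 4, hdiag 1], show T.a (v 1) (v 2) = 2 * T.w (v 0) by linarith [hx_0_1, hx_1_0, hsym 0 1, hx_1_2, hx_2_1, hsym 1 2, hx_2_3, hx_3_2, hsym 2 3, hx_3_4, hx_4_3, hsym 3 4, hdiag 1], show T.a (v 1) (v 3) = 0 * T.w (v 0) by linarith [hx_0_1, hx_1_0, hsym 0 1, hx_1_2, hx_2_1, hsym 1 2, hx_2_3, hx_3_2, hsym 2 3, hx_3_4, hx_4_3, hsym 3 4, hdiag 1, hz_1_3], show T.a (v 1) (v 4) = 0 * T.w (v 0)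 by linarith [hx_0_1, hx_1_0, hsym 0 1, hx_1_2, hx_2_1, hsym 1 2, hx_2_3, hx_3_2, hsym 2 3, hx_3_4, hx_4_3, hsym 3 4, hdiag 1, hz_1_4]] at h
                    have h2 : T.w (v 0) * (T.m (v 2) + T.m (v 0)) ≤ T.w (v 0) * (2 * T.m (v 1)) := by linarith
                    exact le_of_mul_le_mul_left h2 (hwp 0)
                  have cm_4 : T.m (v 1) ≤ T.m (v 0) := by
                    have h := Groth.Agent.Lib.Helper39.NT.row_emb_le T v 0
                    simp only [Fin.sum_univ_five] at h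
                    rw [show T.a (v 0) (v 0) = -2 * T.w (v 0) by linarith [hx_0_1, hx_1_0, hsym 0 1, hx_1_2, hx_2_1, hsym 1 2, hx_2_3, hx_3_2, hsym 2 3, hx_3_4, hx_4_3, hsym 3 4, hdiag 0], show T.a (v 0) (v 1) = 2 * T.w (v 0) by linarith [hx_0_1, hx_1_0, hsym 0 1, hx_1_2, hx_2_1, hsym 1 2, hx_2_3, hx_3_2, hsym 2 3, hx_3_4, hx_4_3, hsym 3 4, hdiag 0], show T.a (v 0) (v 2) = 0 * T.w (v 0) by linarith [hx_0_1, hx_1_0, hsym 0 1, hx_1_2, hx_2_1, hsym 1 2, hx_2_3, hx_3_2, hsym 2 3, hx_3_4, hx_4_3, hsym 3 4, hdiag 0, hz_0_2], show T.a (v 0) (v 3) = 0 * T.w (v 0) by linarith [hx_0_1, hx_1_0, hsym 0 1, hx_1_2, hx_2_1, hsym 1 2, hx_2_3, hx_3_2, hsym 2 3, hx_3_4, hx_4_3, hsym 3 4, hdiag 0, hz_0_3], show T.a (v 0) (v 4) = 0 * T.w (v 0) by linarith [hx_0_1, hx_1_0, hsym 0 1, hx_1_2, hx_2_1, hsym 1 2, hx_2_3, hx_3_2, hsym 2 3, hx_3_4, hx_4_3, hsym 3 4, hdiag 0, hz_0_4]] at h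
                    have h2 : T.w (v 0) * (T.m (v 1)) ≤ T.w (v 0) * (T.m (v 0)) := by linarith
                    exact le_of_mul_le_mul_left h2 (hwp 0)
                  exact ⟨fun j => v (Fin.rev j), T.w (v 0), Or.inr (fun _ => rfl), Or.inr (Or.inr (⟨cw_0, cw_1, cw_2, cw_3, cw_4, ca_0, ca_1, ca_2, ca_3, cm_0, cm_1, cm_2, cm_3, cm_4⟩))⟩
                · exfalso
                  refine Groth.Agent.Lib.Helper39.NT.cert T v hn ![1, 1, 1, 1, 1] (by decide) 0 (by decide) ?_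
                  intro s hs
                  fin_cases s
                  · simp [Fin.sum_univ_five]; linarith [hdiag 0, hx_0_1.ge, hnn 0 2 (by decide), hnn 0 3 (by decide), hnn 0 4 (by decide)]
                  · simp [Fin.sum_univ_five]; linarith [hdiag 1, hl_1_0, hl_1_2, hnn 1 3 (by decide), hnn 1 4 (by decide)]
                  · simp [Fin.sum_univ_five]; linarith [hdiag 2, hnn 2 0 (by decide), hl_2_1, hl_2_3, hnn 2 4 (by decide)]
                  · simp [Fin.sum_univ_five]; linarith [hdiag 3, hnn 3 0 (by decide), hnn 3 1 (by decide), hl_3_2, hl_3_4]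
                  · simp [Fin.sum_univ_five]; linarith [hdiag 4, hnn 4 0 (by decide), hnn 4 1 (by decide), hnn 4 2 (by decide), hx_4_3.ge]
                · exfalso
                  refine Groth.Agent.Lib.Helper39.NT.cert T v hn ![1, 1, 1, 1, 1] (by decide) 0 (by decide) ?_
                  intro s hs
                  fin_cases s
                  · simp [Fin.sum_univ_five]; linarith [hdiag 0, hx_0_1.ge, hnn 0 2 (by decide), hnn 0 3 (by decide), hnn 0 4 (by decide)]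
                  · simp [Fin.sum_univ_five]; linarith [hdiag 1, hl_1_0, hl_1_2, hnn 1 3 (by decide), hnn 1 4 (by decide)]
                  · simp [Fin.sum_univ_five]; linarith [hdiag 2, hnn 2 0 (by decide), hl_2_1, hl_2_3, hnn 2 4 (by decide)]
                  · simp [Fin.sum_univ_five]; linarith [hdiag 3, hnn 3 0 (by decide), hnn 3 1 (by decide), hl_3_2, hl_3_4]
                  · simp [Fin.sum_univ_five]; linarith [hdiag 4, hnn 4 0 (by decide), hnn 4 1 (by decide), hnn 4 2 (by decide), hx_4_3]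
              · exfalso
                refine Groth.Agent.Lib.Helper39.NT.cert T v hn ![2, 2, 2, 2, 1] (by decide) 0 (by decide) ?_
                intro s hs
                fin_cases s
                · simp [Fin.sum_univ_five]; linarith [hdiag 0, hx_0_1.ge, hnn 0 2 (by decide), hnn 0 3 (by decide), hnn 0 4 (by decide)]
                · simp [Fin.sum_univ_five]; linarith [hdiag 1, hl_1_0, hl_1_2, hnn 1 3 (by decide), hnn 1 4 (by decide)]
                · simp [Fin.sum_univ_five]; linarith [hdiag 2, hnn 2 0 (by decide), hl_2_1, hl_2_3, hnn 2 4 (by decide)]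
                · simp [Fin.sum_univ_five]; linarith [hdiag 3, hnn 3 0 (by decide), hnn 3 1 (by decide), hl_3_2, hx_3_4.ge]
                · simp [Fin.sum_univ_five]; linarith [hdiag 4, hnn 4 0 (by decide), hnn 4 1 (by decide), hnn 4 2 (by decide), hl_4_3]
              · exfalso
                refine Groth.Agent.Lib.Helper39.NT.cert T v hn ![0, 0, 1, 2, 1] (by decide) 2 (by decide) ?_
                intro s hs
                fin_cases s
                · simp at hs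
                · simp at hs
                · simp [Fin.sum_univ_five]; linarith [hdiag 2, hl_2_3, hnn 2 4 (by decide)]
                · simp [Fin.sum_univ_five]; linarith [hdiag 3, hl_3_2, hx_3_4]
                · simp [Fin.sum_univ_five]; linarith [hdiag 4, hnn 4 2 (by decide), hl_4_3]
            · exfalso
              refine Groth.Agent.Lib.Helper39.NT.cert T v hn ![1, 1, 1, 1, 0] (by decide) 0 (by decide) ?_
              intro s hs
              fin_cases s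
              · simp [Fin.sum_univ_five]; linarith [hdiag 0, hx_0_1.ge, hnn 0 2 (by decide), hnn 0 3 (by decide)]
              · simp [Fin.sum_univ_five]; linarith [hdiag 1, hl_1_0, hl_1_2, hnn 1 3 (by decide)]
              · simp [Fin.sum_univ_five]; linarith [hdiag 2, hnn 2 0 (by decide), hl_2_1, hl_2_3]
              · simp [Fin.sum_univ_five]; linarith [hdiag 3, hnn 3 0 (by decide), hnn 3 1 (by decide), hx_3_2.ge]
              · simp at hs
            · exfalso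
              refine Groth.Agent.Lib.Helper39.NT.cert T v hn ![0, 0, 1, 2, 1] (by decide) 2 (by decide) ?_
              intro s hs
              fin_cases s
              · simp at hs
              · simp at hs
              · simp [Fin.sum_univ_five]; linarith [hdiag 2, hl_2_3, hnn 2 4 (by decide)]
              · simp [Fin.sum_univ_five]; linarith [hdiag 3, hx_3_2, hl_3_4]
              · simp [Fin.sum_univ_five]; linarith [hdiag 4, hnn 4 2 (by decide), hl_4_3]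
          · exfalso
            refine Groth.Agent.Lib.Helper39.NT.cert T v hn ![2, 2, 2, 1, 0] (by decide) 0 (by decide) ?_
            intro s hs
            fin_cases s
            · simp [Fin.sum_univ_five]; linarith [hdiag 0, hx_0_1.ge, hnn 0 2 (by decide), hnn 0 3 (by decide)]
            · simp [Fin.sum_univ_five]; linarith [hdiag 1, hl_1_0, hl_1_2, hnn 1 3 (by decide)]
            · simp [Fin.sum_univ_five]; linarith [hdiag 2, hnn 2 0 (by decide), hl_2_1, hx_2_3.ge]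
            · simp [Fin.sum_univ_five]; linarith [hdiag 3, hnn 3 0 (by decide), hnn 3 1 (by decide), hl_3_2]
            · simp at hs
          · exfalso
            refine Groth.Agent.Lib.Helper39.NT.cert T v hn ![0, 1, 2, 1, 0] (by decide) 1 (by decide) ?_
            intro s hs
            fin_cases s
            · simp at hs
            · simp [Fin.sum_univ_five]; linarith [hdiag 1, hl_1_2, hnn 1 3 (by decide)]
            · simp [Fin.sum_univ_five]; linarith [hdiag 2, hl_2_1, hx_2_3]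
            · simp [Fin.sum_univ_five]; linarith [hdiag 3, hnn 3 1 (by decide), hl_3_2]
            · simp at hs
        · exfalso
          refine Groth.Agent.Lib.Helper39.NT.cert T v hn ![1, 1, 1, 0, 0] (by decide) 0 (by decide) ?_
          intro s hs
          fin_cases s
          · simp [Fin.sum_univ_five]; linarith [hdiag 0, hx_0_1.ge, hnn 0 2 (by decide)]
          · simp [Fin.sum_univ_five]; linarith [hdiag 1, hl_1_0, hl_1_2]
          · simp [Fin.sum_univ_five]; linarith [hdiag 2, hnn 2 0 (by decide), hx_2_1.ge]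
          · simp at hs
          · simp at hs
        · exfalso
          refine Groth.Agent.Lib.Helper39.NT.cert T v hn ![1, 1, 1, 0, 0] (by decide) 0 (by decide) ?_
          intro s hs
          fin_cases s
          · simp [Fin.sum_univ_five]; linarith [hdiag 0, hx_0_1.ge, hnn 0 2 (by decide)]
          · simp [Fin.sum_univ_five]; linarith [hdiag 1, hl_1_0, hl_1_2]
          · simp [Fin.sum_univ_five]; linarith [hdiag 2, hnn 2 0 (by decide), hx_2_1]
          · simp at hs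
          · simp at hs
      · exfalso
        refine Groth.Agent.Lib.Helper39.NT.cert T v hn ![2, 2, 1, 0, 0] (by decide) 0 (by decide) ?_
        intro s hs
        fin_cases s
        · simp [Fin.sum_univ_five]; linarith [hdiag 0, hx_0_1.ge, hnn 0 2 (by decide)]
        · simp [Fin.sum_univ_five]; linarith [hdiag 1, hl_1_0, hx_1_2.ge]
        · simp [Fin.sum_univ_five]; linarith [hdiag 2, hnn 2 0 (by decide), hl_2_1]
        · simp at hs
        · simp at hs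
      · exfalso
        refine Groth.Agent.Lib.Helper39.NT.cert T v hn ![1, 2, 1, 0, 0] (by decide) 0 (by decide) ?_
        intro s hs
        fin_cases s
        · simp [Fin.sum_univ_five]; linarith [hdiag 0, hx_0_1.ge, hnn 0 2 (by decide)]
        · simp [Fin.sum_univ_five]; linarith [hdiag 1, hl_1_0, hx_1_2]
        · simp [Fin.sum_univ_five]; linarith [hdiag 2, hnn 2 0 (by decide), hl_2_1]
        · simp at hs
        · simp at hs
    · exfalso
      refine Groth.Agent.Lib.Helper39.NT.cert T v hn ![1, 1, 0, 0, 0] (by decide) 0 (by decide) ?_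
      intro s hs
      fin_cases s
      · simp [Fin.sum_univ_five]; linarith [hdiag 0, hx_0_1.ge]
      · simp [Fin.sum_univ_five]; linarith [hdiag 1, hx_1_0.ge]
      · simp at hs
      · simp at hs
      · simp at hs
    · exfalso
      refine Groth.Agent.Lib.Helper39.NT.cert T v hn ![1, 1, 0, 0, 0] (by decide) 0 (by decide) ?_
      intro s hs
      fin_cases s
      · simp [Fin.sum_univ_five]; linarith [hdiag 0, hx_0_1.ge]
      · simp [Fin.sum_univ_five]; linarith [hdiag 1, hx_1_0]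
      · simp at hs
      · simp at hs
      · simp at hs
  · exfalso
    refine Groth.Agent.Lib.Helper39.NT.cert T v hn ![3, 2, 1, 0, 0] (by decide) 0 (by decide) ?_
    intro s hs
    fin_cases s
    · simp [Fin.sum_univ_five]; linarith [hdiag 0, hx_0_1, hnn 0 2 (by decide)]
    · simp [Fin.sum_univ_five]; linarith [hdiag 1, hl_1_0, hl_1_2]
    · simp [Fin.sum_univ_five]; linarith [hdiag 2, hnn 2 0 (by decide), hl_2_1]
    · simp at hs
    · simp at hs

end Groth.Agent.S7353
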