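import Groth.Statements.S7354
import Groth.Agent.Lib.Helper39.NumPath
import Groth.Agent.Lib.Helper39.NumChainLemmas
-- import your own Groth.Agent.* helpers here

set_option autoImplicit false
open Finset
open Models Models.NumericalType

namespace Groth.Agent.S7354


open Groth.Agent.Lib.Helper39

def F {t : ℕ} (ht : 0 < t) (a : ℕ) : Fin t := ⟨min a (t - 1), by omega⟩

theorem F_val {t : ℕ} (ht : 0 < t) (a : ℕ) (ha : a < t) : (F ht a).val = a := by
  show min a (t - 1) = a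
  omega

theorem F_inj {t : ℕ} (ht : 0 < t) (a b : ℕ) (ha : a < t) (hb : b < t) (h : F ht a = F ht b) :
    a = b := by
  have := congrArg Fin.val h
  rwa [F_val ht a ha, F_val ht b hb] at this

theorem F_self {t : ℕ} (ht : 0 < t) (j : Fin t) : F ht j.val = j :=
  Fin.ext (F_val ht _ j.isLt)

section
variable {n : ℕ} (T : Models.NumericalType n) (t : ℕ) (ht : 5 < t) (hn : t < n)
  (v : Fin t ↪ Fin n) (hv : ∀ j, T.IsMinusTwo (v j))
  (hchain : ∀ j j' : Fin t, j'.val = j.val + 1 → T.a (v j) (v j') ≠ 0)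

include ht hn hv hchain

theorem hch (ht0 : 0 < t) (a : ℕ) (ha : a + 1 < t) :
    T.a (v (F ht0 a)) (v (F ht0 (a + 1))) ≠ 0 :=
  hchain _ _ (by rw [F_val ht0 _ ha, F_val ht0 _ (by omega)])

theorem hch' (ht0 : 0 < t) (a : ℕ) (ha : a + 1 < t) :
    T.a (v (F ht0 (a + 1))) (v (F ht0 a)) ≠ 0 := by
  rw [NT.symm' T]
  exact hch T t ht hn v hv hchain ht0 a ha

theorem hZ (ht0 : 0 < t) (x y : ℕ) (hxy : x + 1 < y) (hy : y < t) :
    T.a (v (F ht0 x)) (v (F ht0 y)) = 0 := by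
  by_contra hne
  refine NT.cycle_path T v hn hv (y - x) (by omega) (fun i => F ht0 (x + i))
    (fun i j hi hj h => by
      have := F_inj ht0 _ _ (by omega) (by omega) h
      omega)
    (fun i hi => hch T t ht hn v hv hchain ht0 (x + i) (by omega)) ?_
  show T.a (v (F ht0 (x + (y - x)))) (v (F ht0 (x + 0))) ≠ 0
  rw [show x + (y - x) = y by omega, Nat.add_zero x, NT.symm' T]
  exact hne

theorem hWin (ht0 : 0 < t) (s : ℕ) (hs : s + 4 < t) :
    T.a (v (F ht0 (s + 1))) (v (F ht0 (s + 2))) = T.w (v (F ht0 (s + 1))) ∧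
    T.a (v (F ht0 (s + 2))) (v (F ht0 (s + 1))) = T.w (v (F ht0 (s + 2))) ∧
    T.a (v (F ht0 (s + 2))) (v (F ht0 (s + 3))) = T.w (v (F ht0 (s + 2))) ∧
    T.a (v (F ht0 (s + 3))) (v (F ht0 (s + 2))) = T.w (v (F ht0 (s + 3))) := by
  let w5 : Fin 5 ↪ Fin n := ⟨fun i => v (F ht0 (s + i.val)), fun i j h => by
    have h1 := F_inj ht0 _ _ (by omega) (by omega) (v.injective h)
    exact Fin.ext (by omega)⟩
  have hc := hch T t ht hn v hv hchain ht0
  exact NT.mid5 T (by omega) w5 (fun j => hv _) (hc (s + 0) (by omega)) (hc (s + 1) (by omega))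
    (hc (s + 2) (by omega)) (hc (s + 3) (by omega))

theorem hN (ht0 : 0 < t) (a : ℕ) (h1 : 1 ≤ a) (h2 : a + 2 < t) :
    T.a (v (F ht0 a)) (v (F ht0 (a + 1))) = T.w (v (F ht0 a)) ∧
    T.a (v (F ht0 (a + 1))) (v (F ht0 a)) = T.w (v (F ht0 (a + 1))) := by
  by_cases h3 : a + 3 < t
  · obtain ⟨s, rfl⟩ : ∃ s, a = s + 1 := ⟨a - 1, by omega⟩
    have := hWin T t ht hn v hv hchain ht0 s (by omega)
    exact ⟨this.1, this.2.1⟩
  · obtain ⟨s, rfl⟩ : ∃ s, a = s + 2 := ⟨a - 2, by omega⟩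
    have := hWin T t ht hn v hv hchain ht0 s (by omega)
    exact ⟨this.2.2.1, this.2.2.2⟩

theorem hLast (ht0 : 0 < t) :
    (T.a (v (F ht0 (t - 1))) (v (F ht0 (t - 2))) = T.w (v (F ht0 (t - 1))) ∧
      T.a (v (F ht0 (t - 2))) (v (F ht0 (t - 1))) = T.w (v (F ht0 (t - 2)))) ∨
    (T.a (v (F ht0 (t - 1))) (v (F ht0 (t - 2))) = 2 * T.w (v (F ht0 (t - 1))) ∧
      T.a (v (F ht0 (t - 2))) (v (F ht0 (t - 1))) = T.w (v (F ht0 (t - 2)))) ∨
    (T.a (v (F ht0 (t - 1))) (v (F ht0 (t - 2))) = T.w (v (F ht0 (t - 1))) ∧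
      T.a (v (F ht0 (t - 2))) (v (F ht0 (t - 1))) = 2 * T.w (v (F ht0 (t - 2)))) := by
  let w3 : Fin 3 ↪ Fin n := ⟨fun i => v (F ht0 (t - 1 - i.val)), fun i j h => by
    have h1 := F_inj ht0 _ _ (by omega) (by omega) (v.injective h)
    exact Fin.ext (by omega)⟩
  have hc := hch' T t ht hn v hv hchain ht0
  have h01 : T.a (w3 0) (w3 1) ≠ 0 := by
    show T.a (v (F ht0 (t - 1 - 0))) (v (F ht0 (t - 1 - 1))) ≠ 0
    have := hc (t - 2) (by omega)
    rwa [show t - 2 + 1 = t - 1 - 0 by omega, show t - 2 = t - 1 - 1 by omega] at this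
  have h12 : T.a (w3 1) (w3 2) ≠ 0 := by
    show T.a (v (F ht0 (t - 1 - 1))) (v (F ht0 (t - 1 - 2))) ≠ 0
    have := hc (t - 3) (by omega)
    rwa [show t - 3 + 1 = t - 1 - 1 by omega, show t - 3 = t - 1 - 2 by omega] at this
  have := NT.end3 T (by omega) w3 (fun j => hv _) h01 h12
  have e0 : w3 0 = v (F ht0 (t - 1)) := rfl
  have e1 : w3 1 = v (F ht0 (t - 2)) := by
    show v (F ht0 (t - 1 - 1)) = v (F ht0 (t - 2))
    rw [show t - 1 - 1 = t - 2 by omega]
  rw [e0, e1] at this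
  exact this

theorem hFirst (ht0 : 0 < t) :
    (T.a (v (F ht0 0)) (v (F ht0 1)) = T.w (v (F ht0 0)) ∧
      T.a (v (F ht0 1)) (v (F ht0 0)) = T.w (v (F ht0 1))) ∨
    (T.a (v (F ht0 0)) (v (F ht0 1)) = 2 * T.w (v (F ht0 0)) ∧
      T.a (v (F ht0 1)) (v (F ht0 0)) = T.w (v (F ht0 1))) ∨
    (T.a (v (F ht0 0)) (v (F ht0 1)) = T.w (v (F ht0 0)) ∧
      T.a (v (F ht0 1)) (v (F ht0 0)) = 2 * T.w (v (F ht0 1))) := by
  let w3 : Fin 3 ↪ Fin n := ⟨fun i => v (F ht0 i.val), fun i j h => by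
    have h1 := F_inj ht0 _ _ (by omega) (by omega) (v.injective h)
    exact Fin.ext h1⟩
  have hc := hch T t ht hn v hv hchain ht0
  exact NT.end3 T (by omega) w3 (fun j => hv _) (hc 0 (by omega)) (hc 1 (by omega))

theorem main_fwd (ht0 : 0 < t)
    (hfirst : T.a (v (F ht0 0)) (v (F ht0 1)) = T.w (v (F ht0 0)) ∧
      T.a (v (F ht0 1)) (v (F ht0 0)) = T.w (v (F ht0 1))) :
    ∃ w : ℤ, (∀ j k : Fin t, j.val + 1 < k.val → T.a (v j) (v k) = 0) ∧
      ((∀ j : Fin t, T.w (v j) = w) ∧ (∀ j j' : Fin t, j'.val = j.val + 1 → T.a (v j) (v j') = w) ∨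
        ((∀ j : Fin t, j.val + 1 < t → T.w (v j) = w) ∧ (∀ j : Fin t, j.val + 1 = t → T.w (v j) = 2 * w) ∧
          (∀ j j' : Fin t, j'.val = j.val + 1 → j'.val + 1 < t → T.a (v j) (v j') = w) ∧
          (∀ j j' : Fin t, j'.val = j.val + 1 → j'.val + 1 = t → T.a (v j) (v j') = 2 * w)) ∨
        ((∀ j : Fin t, j.val + 1 < t → T.w (v j) = 2 * w) ∧ (∀ j : Fin t, j.val + 1 = t → T.w (v j) = w) ∧
          (∀ j j' : Fin t, j'.val = j.val + 1 → T.a (v j) (v j') = 2 * w))) := by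
  have hsym := NT.symm' T
  have hstep : ∀ a, a + 2 < t → T.w (v (F ht0 (a + 1))) = T.w (v (F ht0 a)) ∧
      T.a (v (F ht0 a)) (v (F ht0 (a + 1))) = T.w (v (F ht0 a)) := by
    intro a ha
    by_cases ha0 : a = 0
    · subst ha0
      exact ⟨by rw [← hfirst.2, ← hfirst.1, hsym], hfirst.1⟩
    · have := hN T t ht hn v hv hchain ht0 a (by omega) ha
      exact ⟨by rw [← this.2, ← this.1, hsym], this.1⟩
  have hWall : ∀ a, a + 1 < t → T.w (v (F ht0 a)) = T.w (v (F ht0 0)) := by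
    intro a
    induction a with
    | zero => intro _; rfl
    | succ a ih =>
      intro ha
      rw [(hstep a (by omega)).1, ih (by omega)]
  have hEall : ∀ a, a + 2 < t → T.a (v (F ht0 a)) (v (F ht0 (a + 1))) = T.w (v (F ht0 0)) :=
    fun a ha => by rw [(hstep a ha).2, hWall a (by omega)]
  have hzero : ∀ j k : Fin t, j.val + 1 < k.val → T.a (v j) (v k) = 0 := fun j k hjk => by
    rw [← F_self ht0 j, ← F_self ht0 k]
    exact hZ T t ht hn v hv hchain ht0 _ _ hjk k.isLt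
  have hW2 := hWall (t - 2) (by omega)
  rcases hLast T t ht hn v hv hchain ht0 with ⟨h1, h2⟩ | ⟨h1, h2⟩ | ⟨h1, h2⟩
  · refine ⟨T.w (v (F ht0 0)), hzero, Or.inl ⟨?_, ?_⟩⟩
    · intro j
      rw [← F_self ht0 j]
      by_cases hj : j.val + 1 < t
      · exact hWall _ hj
      · rw [show j.val = t - 1 by omega, ← h1, hsym, h2, hW2]
    · intro j j' hjj
      rw [← F_self ht0 j, ← F_self ht0 j', hjj]
      by_cases hj : j.val + 2 < t
      · exact hEall _ hj
      · have hjt : j.val = t - 2 := by omega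
        rw [hjt, show t - 2 + 1 = t - 1 by omega, h2, hW2]
  · refine ⟨T.w (v (F ht0 (t - 1))), hzero, Or.inr (Or.inr ⟨?_, ?_, ?_⟩)⟩
    · intro j hj
      rw [← F_self ht0 j, hWall _ hj, ← hW2, ← h2, hsym, h1]
    · intro j hj
      rw [← F_self ht0 j, show j.val = t - 1 by omega]
    · intro j j' hjj
      rw [← F_self ht0 j, ← F_self ht0 j', hjj]
      by_cases hj : j.val + 2 < t
      · rw [hEall _ hj, ← hW2, ← h2, hsym, h1]
      · have hjt : j.val = t - 2 := by omega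
        rw [hjt, show t - 2 + 1 = t - 1 by omega, hsym, h1]
  · refine ⟨T.w (v (F ht0 0)), hzero, Or.inr (Or.inl ⟨?_, ?_, ?_, ?_⟩)⟩
    · intro j hj
      rw [← F_self ht0 j]
      exact hWall _ hj
    · intro j hj
      rw [← F_self ht0 j, show j.val = t - 1 by omega, ← h1, hsym, h2, hW2]
    · intro j j' hjj hj'
      rw [← F_self ht0 j, ← F_self ht0 j', hjj]
      exact hEall _ (by omega)
    · intro j j' hjj hj'
      rw [← F_self ht0 j, ← F_self ht0 j', hjj]
      have hjt : j.val = t - 2 := by omega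
      rw [hjt, show t - 2 + 1 = t - 1 by omega, h2, hW2]

end

/-- Let T be a numerical type on n indices, t > 5 with n > t, and i_1, …, i_t distinct (-2)-indices with
a_{i_j i_{j+1}} nonzero for j = 1, …, t - 1. Then, after possibly reversing the order of the
indices, for some integer w either (A) w_{i_1} = … = w_{i_t} = w and a_{i_j i_{j+1}} = w for all j;
or (C) w_{i_1} = … = w_{i_{t-1}} = w, w_{i_t} = 2w, a_{i_j i_{j+1}} = w for j < t - 1 and a_{i_{t-1}
i_t} = 2w; or (B) w_{i_1} = … = w_{i_{t-1}} = 2w, w_{i_t} = w and a_{i_j i_{j+1}} = 2w for all j;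
and in every case a_{i_j i_k} = 0 whenever k > j + 1. -/
theorem result {n : ℕ} (T : Models.NumericalType n) (t : ℕ) (ht : 5 < t) (hn : t < n)
    (v : Fin t ↪ Fin n) (hv : ∀ j, T.IsMinusTwo (v j))
    (hchain : ∀ j j' : Fin t, j'.val = j.val + 1 → T.a (v j) (v j') ≠ 0) :
    ∃ (u : Fin t → Fin n) (w : ℤ), ((∀ j, u j = v j) ∨ (∀ j, u j = v (Fin.rev j))) ∧
      (∀ j k : Fin t, j.val + 1 < k.val → T.a (u j) (u k) = 0) ∧
      ((∀ j : Fin t, T.w (u j) = w) ∧ (∀ j j' : Fin t, j'.val = j.val + 1 → T.a (u j) (u j') = w) ∨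
        ((∀ j : Fin t, j.val + 1 < t → T.w (u j) = w) ∧ (∀ j : Fin t, j.val + 1 = t → T.w (u j) = 2 * w) ∧
          (∀ j j' : Fin t, j'.val = j.val + 1 → j'.val + 1 < t → T.a (u j) (u j') = w) ∧
          (∀ j j' : Fin t, j'.val = j.val + 1 → j'.val + 1 = t → T.a (u j) (u j') = 2 * w)) ∨
        ((∀ j : Fin t, j.val + 1 < t → T.w (u j) = 2 * w) ∧ (∀ j : Fin t, j.val + 1 = t → T.w (u j) = w) ∧
          (∀ j j' : Fin t, j'.val = j.val + 1 → T.a (u j) (u j') = 2 * w))) := by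
  have ht0 : 0 < t := by omega
  have hsym := NT.symm' T
  have hrev : ∀ a, a < t → Fin.rev (F ht0 a) = F ht0 (t - 1 - a) := fun a ha => by
    apply Fin.ext
    rw [Fin.val_rev, F_val ht0 a ha, F_val ht0 _ (by omega)]
    omega
  rcases hFirst T t ht hn v hv hchain ht0 with hf | hf | hf
  · obtain ⟨w, hz, h⟩ := main_fwd T t ht hn v hv hchain ht0 hf
    exact ⟨fun j => v j, w, Or.inl (fun _ => rfl), hz, h⟩
  all_goals
    rcases hLast T t ht hn v hv hchain ht0 with hl | hl | hl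
    · let vr : Fin t ↪ Fin n := ⟨fun j => v (Fin.rev j), fun i j h =>
        Fin.rev_injective (v.injective h)⟩
      have hvr : ∀ j, T.IsMinusTwo (vr j) := fun j => hv _
      have hchr : ∀ j j' : Fin t, j'.val = j.val + 1 → T.a (vr j) (vr j') ≠ 0 := by
        intro j j' hjj
        show T.a (v (Fin.rev j)) (v (Fin.rev j')) ≠ 0
        rw [hsym]
        refine hchain _ _ ?_
        rw [Fin.val_rev, Fin.val_rev]
        have := j'.isLt
        omega
      have hfr : T.a (vr (F ht0 0)) (vr (F ht0 1)) = T.w (vr (F ht0 0)) ∧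
          T.a (vr (F ht0 1)) (vr (F ht0 0)) = T.w (vr (F ht0 1)) := by
        show T.a (v (Fin.rev (F ht0 0))) (v (Fin.rev (F ht0 1))) = T.w (v (Fin.rev (F ht0 0))) ∧
          T.a (v (Fin.rev (F ht0 1))) (v (Fin.rev (F ht0 0))) = T.w (v (Fin.rev (F ht0 1)))
        rw [hrev 0 (by omega), hrev 1 (by omega), show t - 1 - 0 = t - 1 by omega,
          show t - 1 - 1 = t - 2 by omega]
        exact hl
      obtain ⟨w, hz, h⟩ := main_fwd T t ht hn vr hvr hchr ht0 hfr
      exact ⟨fun j => v (Fin.rev j), w, Or.inr (fun _ => rfl), hz, h⟩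
    all_goals
      exfalso
      have hp1 : ∀ a, a + 1 < t → 1 * T.w (v (F ht0 a)) ≤ T.a (v (F ht0 a)) (v (F ht0 (a + 1))) :=
        fun a ha => NT.one_mul_le T v _ _
          (fun h => by have := F_inj ht0 _ _ (by omega) (by omega) h; omega)
          (hch T t ht hn v hv hchain ht0 a ha)
      have e1 : t - 1 - 1 = t - 2 := by omega
      first
      | refine NT.boost_path T v hn hv (t - 1) (by omega) (fun i => F ht0 i)
          (fun i j hi hj h => F_inj ht0 _ _ (by omega) (by omega) h)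
          (fun i hi => hch T t ht hn v hv hchain ht0 i (by omega))
          2 2 (Or.inr rfl) (Or.inr rfl) ?_ ?_ ?_ ?_ <;>
        (try simp only [e1]) <;> linarith [hf.1, hf.2, hl.1, hl.2]
      | refine NT.boost_path T v hn hv (t - 1) (by omega) (fun i => F ht0 i)
          (fun i j hi hj h => F_inj ht0 _ _ (by omega) (by omega) h)
          (fun i hi => hch T t ht hn v hv hchain ht0 i (by omega))
          2 1 (Or.inr rfl) (Or.inl rfl) ?_ ?_ ?_ ?_ <;>
        (try simp only [e1]) <;> linarith [hf.1, hf.2, hl.1, hl.2]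
      | refine NT.boost_path T v hn hv (t - 1) (by omega) (fun i => F ht0 i)
          (fun i j hi hj h => F_inj ht0 _ _ (by omega) (by omega) h)
          (fun i hi => hch T t ht hn v hv hchain ht0 i (by omega))
          1 2 (Or.inl rfl) (Or.inr rfl) ?_ ?_ ?_ ?_ <;>
        (try simp only [e1]) <;> linarith [hf.1, hf.2, hl.1, hl.2]
      | refine NT.boost_path T v hn hv (t - 1) (by omega) (fun i => F ht0 i)
          (fun i j hi hj h => F_inj ht0 _ _ (by omega) (by omega) h)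
          (fun i hi => hch T t ht hn v hv hchain ht0 i (by omega))
          1 1 (Or.inl rfl) (Or.inl rfl) ?_ ?_ ?_ ?_ <;>
        (try simp only [e1]) <;> linarith [hf.1, hf.2, hl.1, hl.2]

end Groth.Agent.S7354
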