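import Groth.Statements.S7355
import Groth.Agent.Lib.Helper39.NumPath
-- import your own Groth.Agent.* helpers here

set_option autoImplicit false
open Finset
open Models Models.NumericalType

namespace Groth.Agent.S7355

/-- Classification of proper subgraphs of type D: let T be a numerical type on n indices, t > 4 with n >
t + 1, and i_1, …, i_{t+1} distinct (-2)-indices such that a_{i_j i_{j+1}} is nonzero for j = 1, …,
t - 1 and a_{i_{t-1} i_{t+1}} is nonzero. Then for some integer w one has w_{i_1} = … = w_{i_{t+1}}
= w, a_{i_j i_{j+1}} = w for j < t, a_{i_{t-1} i_{t+1}} = w, and a_{i_j i_k} = 0 for all other pairs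
j ≠ k. -/
theorem result {n : ℕ} (T : Models.NumericalType n) (t : ℕ) (ht : 4 < t) (hn : t + 1 < n)
    (v : Fin (t + 1) ↪ Fin n) (hv : ∀ j, T.IsMinusTwo (v j))
    (hchain : ∀ j j' : Fin (t + 1), j'.val = j.val + 1 → j'.val < t → T.a (v j) (v j') ≠ 0)
    (hbranch : ∀ j j' : Fin (t + 1), j.val + 2 = t → j'.val = t → T.a (v j) (v j') ≠ 0) :
    ∃ w : ℤ, (∀ j : Fin (t + 1), T.w (v j) = w) ∧
      (∀ j j' : Fin (t + 1), j'.val = j.val + 1 → j'.val < t → T.a (v j) (v j') = w) ∧
      (∀ j j' : Fin (t + 1), j.val + 2 = t → j'.val = t → T.a (v j) (v j') = w) ∧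
      (∀ j k : Fin (t + 1), j.val < k.val → ¬ (k.val = j.val + 1 ∧ k.val < t) → ¬ (j.val + 2 = t ∧ k.val = t) →
        T.a (v j) (v k) = 0) := by
  have hsym : ∀ x y : Fin (t + 1), T.a (v x) (v y) = T.a (v y) (v x) := fun x y =>
    Groth.Agent.Lib.Helper39.NT.symm' T _ _
  let F : ℕ → Fin (t + 1) := fun a => ⟨min a t, Nat.lt_succ_of_le (min_le_right _ _)⟩
  have hF : ∀ a, a ≤ t → (F a).val = a := fun a ha => min_eq_left ha
  have hFinj : ∀ a b, a ≤ t → b ≤ t → F a = F b → a = b := fun a b ha hb h => by
    have := congrArg Fin.val h
    rwa [hF a ha, hF b hb] at this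
  have hFv : ∀ j : Fin (t + 1), F j.val = j := fun j => by
    apply Fin.ext
    rw [hF _ (Nat.lt_succ_iff.mp j.isLt)]
  have hch : ∀ a, a + 1 < t → T.a (v (F a)) (v (F (a + 1))) ≠ 0 := fun a ha =>
    hchain (F a) (F (a + 1)) (by rw [hF _ (by omega), hF _ (by omega)])
      (by rw [hF _ (by omega)]; exact ha)
  have hbr : T.a (v (F (t - 2))) (v (F t)) ≠ 0 :=
    hbranch (F (t - 2)) (F t) (by rw [hF _ (by omega)]; omega) (by rw [hF _ le_rfl])
  have hbr' : T.a (v (F t)) (v (F (t - 2))) ≠ 0 := by rw [hsym]; exact hbr
  have hch' : ∀ a, a + 1 < t → T.a (v (F (a + 1))) (v (F a)) ≠ 0 := fun a ha => by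
    rw [hsym]; exact hch a ha
  have hA : ∀ a, a + 1 < t → T.a (v (F a)) (v (F (a + 1))) = T.w (v (F a)) ∧
      T.a (v (F (a + 1))) (v (F a)) = T.w (v (F (a + 1))) := by
    intro a ha
    by_cases ha2 : a + 1 ≤ t - 2
    · have h := Groth.Agent.Lib.Helper39.NT.fork_path T v hn hv (t - 2 - a) (by omega)
        (fun i => F (t - 2 - i))
        (fun i j hi hj hij => by
          have := hFinj _ _ (by omega) (by omega) hij
          omega)
        (fun i hi => by
          have e : t - 2 - i = (t - 2 - (i + 1)) + 1 := by omega
          show T.a (v (F (t - 2 - i))) (v (F (t - 2 - (i + 1)))) ≠ 0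
          rw [e]
          exact hch' _ (by omega))
        (F (t - 1)) (F t)
        (fun h => by have := hFinj _ _ (by omega) (by omega) h; omega)
        (fun i hi h => by have := hFinj _ _ (by omega) (by omega) h; omega)
        (fun i hi h => by have := hFinj _ _ (by omega) (by omega) h; omega)
        (by
          show T.a (v (F (t - 2 - 0))) (v (F (t - 1))) ≠ 0
          have := hch (t - 2) (by omega)
          rwa [show t - 2 + 1 = t - 1 by omega] at this)
        (by
          show T.a (v (F (t - 2 - 0))) (v (F t)) ≠ 0
          exact hbr)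
      have e1 : t - 2 - (t - 2 - a) = a := by omega
      have e2 : t - 2 - (t - 2 - a - 1) = a + 1 := by omega
      simp only [e1, e2] at h
      exact h
    · have hat : a = t - 2 := by omega
      subst hat
      have h := Groth.Agent.Lib.Helper39.NT.fork_path T v hn hv 1 le_rfl
        (fun i => F (t - 2 + i))
        (fun i j hi hj hij => by
          have := hFinj _ _ (by omega) (by omega) hij
          omega)
        (fun i hi => by
          have hi0 : i = 0 := by omega
          subst hi0
          exact hch (t - 2) (by omega))
        (F (t - 3)) (F t)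
        (fun h => by have := hFinj _ _ (by omega) (by omega) h; omega)
        (fun i hi h => by have := hFinj _ _ (by omega) (by omega) h; omega)
        (fun i hi h => by have := hFinj _ _ (by omega) (by omega) h; omega)
        (by
          show T.a (v (F (t - 2 + 0))) (v (F (t - 3))) ≠ 0
          have := hch' (t - 3) (by omega)
          rwa [show t - 3 + 1 = t - 2 by omega] at this)
        (by
          show T.a (v (F (t - 2 + 0))) (v (F t)) ≠ 0
          exact hbr)
      simp only [show (1 : ℕ) - 1 = 0 from rfl, Nat.add_zero] at h
      exact ⟨h.2, h.1⟩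
  have hB : T.a (v (F (t - 2))) (v (F t)) = T.w (v (F (t - 2))) ∧
      T.a (v (F t)) (v (F (t - 2))) = T.w (v (F t)) := by
    have h := Groth.Agent.Lib.Helper39.NT.fork_path T v hn hv 1 le_rfl
      (fun i => if i = 0 then F (t - 2) else F t)
      (fun i j hi hj hij => by
        by_cases hi0 : i = 0 <;> by_cases hj0 : j = 0
        · omega
        · rw [if_pos hi0, if_neg hj0] at hij
          have := hFinj _ _ (by omega) (by omega) hij; omega
        · rw [if_neg hi0, if_pos hj0] at hij
          have := hFinj _ _ (by omega) (by omega) hij; omega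
        · omega)
      (fun i hi => by
        have hi0 : i = 0 := by omega
        subst hi0
        exact hbr)
      (F (t - 3)) (F (t - 1))
      (fun h => by have := hFinj _ _ (by omega) (by omega) h; omega)
      (fun i hi h => by
        by_cases hi0 : i = 0
        · rw [if_pos hi0] at h
          have := hFinj _ _ (by omega) (by omega) h; omega
        · rw [if_neg hi0] at h
          have := hFinj _ _ (by omega) (by omega) h; omega)
      (fun i hi h => by
        by_cases hi0 : i = 0
        · rw [if_pos hi0] at h
          have := hFinj _ _ (by omega) (by omega) h; omega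
        · rw [if_neg hi0] at h
          have := hFinj _ _ (by omega) (by omega) h; omega)
      (by
        show T.a (v (F (t - 2))) (v (F (t - 3))) ≠ 0
        have := hch' (t - 3) (by omega)
        rwa [show t - 3 + 1 = t - 2 by omega] at this)
      (by
        show T.a (v (F (t - 2))) (v (F (t - 1))) ≠ 0
        have := hch (t - 2) (by omega)
        rwa [show t - 2 + 1 = t - 1 by omega] at this)
    have e1 : (if (1 : ℕ) = 0 then F (t - 2) else F t) = F t := if_neg (by omega)
    have e2 : (if (1 - 1 : ℕ) = 0 then F (t - 2) else F t) = F (t - 2) := if_pos rfl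
    simp only [e1, e2] at h
    exact ⟨h.2, h.1⟩
  have hWstep : ∀ a, a + 1 < t → T.w (v (F (a + 1))) = T.w (v (F a)) := fun a ha => by
    have h := hA a ha
    rw [← h.1, ← h.2, hsym]
  have hW : ∀ a, a < t → T.w (v (F a)) = T.w (v (F 0)) := by
    intro a
    induction a with
    | zero => intro _; rfl
    | succ a ih =>
      intro ha
      rw [hWstep a ha, ih (by omega)]
  have hWt : T.w (v (F t)) = T.w (v (F 0)) := by
    rw [← hW (t - 2) (by omega), ← hB.1, ← hB.2, hsym]
  have hWall : ∀ j : Fin (t + 1), T.w (v j) = T.w (v (F 0)) := by
    intro j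
    rw [← hFv j]
    by_cases hj : j.val < t
    · exact hW _ hj
    · have : j.val = t := by omega
      rw [this]; exact hWt
  refine ⟨T.w (v (F 0)), hWall, ?_, ?_, ?_⟩
  · intro j j' h1 h2
    rw [← hFv j, ← hFv j', h1, (hA j.val (by omega)).1]
    exact hW _ (by omega)
  · intro j j' h1 h2
    rw [← hFv j, ← hFv j', h2, show j.val = t - 2 by omega, hB.1]
    exact hW _ (by omega)
  · intro j k hjk hn1 hn2
    by_contra hne
    rw [← hFv j, ← hFv k] at hne
    have hkt : k.val ≤ t := Nat.lt_succ_iff.mp k.isLt
    by_cases hk : k.val < t
    · have hk2 : j.val + 2 ≤ k.val := by omega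
      refine Groth.Agent.Lib.Helper39.NT.cycle_path T v hn hv (k.val - j.val) (by omega)
        (fun i => F (j.val + i))
        (fun i i' hi hi' h => by
          have := hFinj _ _ (by omega) (by omega) h
          omega)
        (fun i hi => hch (j.val + i) (by omega))
        ?_
      show T.a (v (F (j.val + (k.val - j.val)))) (v (F (j.val + 0))) ≠ 0
      rw [show j.val + (k.val - j.val) = k.val by omega, Nat.add_zero j.val, hsym]
      exact hne
    · have hkt' : k.val = t := by omega
      rw [hkt'] at hne
      by_cases hj1 : j.val = t - 1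
      · refine Groth.Agent.Lib.Helper39.NT.cycle_path T v hn hv 2 le_rfl
          (fun i => F (t - 2 + i))
          (fun i i' hi hi' h => by
            have := hFinj _ _ (by omega) (by omega) h
            omega)
          (fun i hi => by
            rcases (by omega : i = 0 ∨ i = 1) with h0 | h0
            · subst h0
              exact hch (t - 2) (by omega)
            · subst h0
              show T.a (v (F (t - 2 + 1))) (v (F (t - 2 + (1 + 1)))) ≠ 0
              rw [show t - 2 + 1 = j.val by omega, show t - 2 + (1 + 1) = t by omega]
              exact hne)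
          ?_
        show T.a (v (F (t - 2 + 2))) (v (F (t - 2 + 0))) ≠ 0
        rw [show t - 2 + 2 = t by omega, Nat.add_zero (t - 2)]
        exact hbr'
      · have hj3 : j.val + 3 ≤ t := by omega
        refine Groth.Agent.Lib.Helper39.NT.cycle_path T v hn hv (t - 1 - j.val) (by omega)
          (fun i => if i ≤ t - 2 - j.val then F (j.val + i) else F t)
          (fun i i' hi hi' h => by
            by_cases h1 : i ≤ t - 2 - j.val <;> by_cases h2 : i' ≤ t - 2 - j.val
            · rw [if_pos h1, if_pos h2] at h
              have := hFinj _ _ (by omega) (by omega) h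
              omega
            · rw [if_pos h1, if_neg h2] at h
              have := hFinj _ _ (by omega) (by omega) h
              omega
            · rw [if_neg h1, if_pos h2] at h
              have := hFinj _ _ (by omega) (by omega) h
              omega
            · omega)
          (fun i hi => by
            by_cases h1 : i + 1 ≤ t - 2 - j.val
            · rw [if_pos (by omega), if_pos h1]
              exact hch (j.val + i) (by omega)
            · rw [if_pos (by omega), if_neg h1, show j.val + i = t - 2 by omega]
              exact hbr)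
          ?_
        rw [if_neg (by omega), if_pos (by omega), Nat.add_zero j.val, hsym]
        exact hne

end Groth.Agent.S7355
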