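import Groth.Statements.S7357
import Groth.Agent.Lib.Helper29.TrE

set_option autoImplicit false
universe u
open Polynomial
open Resolve

namespace Groth.Agent.S7357

-- AUX BEGIN
open Groth.Agent.Lib.Helper29.Tr in
theorem setup_adjoinRoot {R : Type u} [CommRing R] (f : R[X]) :
    Setup R (AdjoinRoot f) (AdjoinRoot.root f) f where
  surj := by
    intro s
    obtain ⟨g, rfl⟩ := AdjoinRoot.mk_surjective s
    exact ⟨g, AdjoinRoot.aeval_eq g⟩
  ker := by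
    intro g hg
    rw [AdjoinRoot.aeval_eq, AdjoinRoot.mk_eq_zero] at hg
    exact hg
  root := by
    rw [AdjoinRoot.aeval_eq, AdjoinRoot.mk_self]

theorem exists_tau {R : Type u} [CommRing R] [Nontrivial R] (a : R) (p : ℕ) (hp : 1 ≤ p) :
    ∃ τ₀ : AdjoinRoot (X ^ p - C a : R[X]) →ₗ[R] R,
      ∀ i, i < p → τ₀ (AdjoinRoot.root (X ^ p - C a) ^ i) = if i = p - 1 then 1 else 0 := by
  have hm : (X ^ p - C a : R[X]).Monic := monic_X_pow_sub_C a (by omega)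
  have hd : (AdjoinRoot.powerBasis' hm).dim = p := by
    rw [AdjoinRoot.powerBasis'_dim, natDegree_X_pow_sub_C]
  have hk : p - 1 < (AdjoinRoot.powerBasis' hm).dim := by rw [hd]; omega
  refine ⟨(AdjoinRoot.powerBasis' hm).basis.coord ⟨p - 1, hk⟩, ?_⟩
  intro i hi
  have hi' : i < (AdjoinRoot.powerBasis' hm).dim := by rw [hd]; exact hi
  have h1 : AdjoinRoot.root (X ^ p - C a : R[X]) ^ i = (AdjoinRoot.powerBasis' hm).basis ⟨i, hi'⟩ := by
    rw [PowerBasis.basis_eq_pow, AdjoinRoot.powerBasis'_gen]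
  rw [h1, Module.Basis.coord_apply, Module.Basis.repr_self, Finsupp.single_apply]
  simp only [Fin.mk.injEq]
-- AUX END


/-- Let p be a prime number, Λ → R a ring map with R of characteristic p, a ∈ R and S = R[x]/(x^p - a).
For every t ≥ 0 there is a canonical R-linear map Tr : Ω^{t+1}_{S/Λ} → Ω^{t+1}_{R/Λ} with η_1 ∧ … ∧
η_t ∧ x^i dx ↦ 0 for 0 ≤ i ≤ p - 2 and η_1 ∧ … ∧ η_t ∧ x^{p-1} dx ↦ η_1 ∧ … ∧ η_t ∧ da (η_j ∈
Ω_{R/Λ}, pulled back to Ω_{S/Λ}), and Tr annihilates the image of S ⊗_R Ω^{t+1}_{R/Λ} →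
Ω^{t+1}_{S/Λ}. (Existence of such a map is asserted; R-linearity is written through the R-action on
S.) -/
theorem result (p : ℕ) [Fact p.Prime] (Λ R : Type u) [CommRing Λ] [CommRing R] [Algebra Λ R]
    [CharP Λ p] [CharP R p] (a : R) (t : ℕ) :
    ∃ Tr : (⋀[AdjoinRoot (X ^ p - C a : R[X])]^(t + 1) (Ω[AdjoinRoot (X ^ p - C a : R[X])⁄Λ])) →+ (⋀[R]^(t + 1) (Ω[R⁄Λ])),
      (∀ (r : R) (ω : ⋀[AdjoinRoot (X ^ p - C a : R[X])]^(t + 1) (Ω[AdjoinRoot (X ^ p - C a : R[X])⁄Λ])),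
        Tr (algebraMap R (AdjoinRoot (X ^ p - C a : R[X])) r • ω) = r • Tr ω) ∧
      (∀ (η : Fin t → Ω[R⁄Λ]) (i : ℕ), i + 2 ≤ p →
        Tr (exteriorPower.ιMulti _ (t + 1) (Fin.snoc (fun j => KaehlerDifferential.map Λ Λ R (AdjoinRoot (X ^ p - C a : R[X])) (η j))
          (AdjoinRoot.root (X ^ p - C a) ^ i • KaehlerDifferential.D Λ _ (AdjoinRoot.root (X ^ p - C a))))) = 0) ∧
      (∀ (η : Fin t → Ω[R⁄Λ]),
        Tr (exteriorPower.ιMulti _ (t + 1) (Fin.snoc (fun j => KaehlerDifferential.map Λ Λ R (AdjoinRoot (X ^ p - C a : R[X])) (η j))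
          (AdjoinRoot.root (X ^ p - C a) ^ (p - 1) • KaehlerDifferential.D Λ _ (AdjoinRoot.root (X ^ p - C a))))) =
          exteriorPower.ιMulti R (t + 1) (Fin.snoc η (KaehlerDifferential.D Λ R a))) ∧
      (∀ (s : AdjoinRoot (X ^ p - C a : R[X])) (η : Fin (t + 1) → Ω[R⁄Λ]),
        Tr (s • exteriorPower.ιMulti _ (t + 1) (fun j => KaehlerDifferential.map Λ Λ R (AdjoinRoot (X ^ p - C a : R[X])) (η j))) = 0) := by
  have : Nontrivial R := CharP.nontrivial_of_char_ne_one (R := R) (v := p) (Fact.out : p.Prime).ne_one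
  have hp1 : 1 ≤ p := (Fact.out : p.Prime).one_lt.le
  obtain ⟨τ₀, hτ⟩ := exists_tau a p hp1
  have hp0 : ((p : ℕ) : AdjoinRoot (X ^ p - C a : R[X])) = 0 := by
    rw [← map_natCast (algebraMap R (AdjoinRoot (X ^ p - C a : R[X]))) p, CharP.cast_eq_zero R p,
      map_zero]
  exact Groth.Agent.Lib.Helper29.Tr.main Λ (setup_adjoinRoot _) hp0 τ₀ hτ hp1 t

end Groth.Agent.S7357
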