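import Groth.Statements.S7362
import Groth.Agent.Lib.Helper45.NumType
-- import your own Groth.Agent.* helpers here

set_option autoImplicit false
open Finset
open Models Models.NumericalType

namespace Groth.Agent.S7362

/-- Genus one classification: case n = 2: let T be a minimal numerical type of genus 1 on two indices.
Then for some ordering i, j of the indices and some integers m, w, either m_i = m_j = m, a_ii = a_jj
= -2w, a_ij = 2w, w_i = w_j = w, g_i = g_j = 0; or m_i = 2m, m_j = m, a_ii = -2w, a_ij = 4w, a_jj =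
-8w, w_i = w, w_j = 4w, g_i = g_j = 0. Only the classification direction is stated. -/
theorem result (T : Models.NumericalType 2) (hmin : T.IsMinimal) (hg : T.genus = 1) :
    ∃ (i j : Fin 2) (m w : ℤ), i ≠ j ∧ T.g i = 0 ∧ T.g j = 0 ∧
      ((T.m i = m ∧ T.m j = m ∧ T.a i i = -2 * w ∧ T.a i j = 2 * w ∧ T.a j j = -2 * w ∧ T.w i = w ∧ T.w j = w) ∨
        (T.m i = 2 * m ∧ T.m j = m ∧ T.a i i = -2 * w ∧ T.a i j = 4 * w ∧ T.a j j = -8 * w ∧ T.w i = w ∧ T.w j = 4 * w)) := by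
  obtain ⟨hg0, ha00⟩ := Groth.Agent.Lib.Helper45.numType_minusTwo_of_minimal_genus_one T le_rfl hmin hg 0
  obtain ⟨hg1, ha11⟩ := Groth.Agent.Lib.Helper45.numType_minusTwo_of_minimal_genus_one T le_rfl hmin hg 1
  have hr0 := Groth.Agent.Lib.Helper45.numType_row T 0
  have hr1 := Groth.Agent.Lib.Helper45.numType_row T 1
  rw [Fin.sum_univ_two] at hr0 hr1
  have hsymm : T.a 1 0 = T.a 0 1 := Groth.Agent.Lib.Helper45.numType_symm T 1 0
  rw [hsymm] at hr1
  have hm0 := T.m_pos 0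
  have hm1 := T.m_pos 1
  have hw0 := T.w_pos 0
  have hw1 := T.w_pos 1
  obtain ⟨p, hp⟩ := T.w_dvd 0 1
  obtain ⟨q, hq⟩ := T.w_dvd 1 0
  rw [hsymm] at hq
  have ha_nonneg : 0 ≤ T.a 0 1 := T.offDiag_nonneg 0 1 (by decide)
  -- a01^2 = 4 w0 w1
  have hsq : T.a 0 1 * T.a 0 1 = 4 * T.w 0 * T.w 1 := by
    have e0 : T.a 0 1 * T.m 1 = 2 * T.w 0 * T.m 0 := by rw [ha00] at hr0; linarith
    have e1 : T.a 0 1 * T.m 0 = 2 * T.w 1 * T.m 1 := by rw [ha11] at hr1; linarith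
    have : T.a 0 1 * T.a 0 1 * (T.m 0 * T.m 1) = 4 * T.w 0 * T.w 1 * (T.m 0 * T.m 1) := by
      calc T.a 0 1 * T.a 0 1 * (T.m 0 * T.m 1) = (T.a 0 1 * T.m 1) * (T.a 0 1 * T.m 0) := by ring
        _ = (2 * T.w 0 * T.m 0) * (2 * T.w 1 * T.m 1) := by rw [e0, e1]
        _ = 4 * T.w 0 * T.w 1 * (T.m 0 * T.m 1) := by ring
    exact mul_right_cancel₀ (mul_pos hm0 hm1).ne' this
  have hpq : p * q = 4 := by
    have : T.w 0 * T.w 1 * (p * q) = T.w 0 * T.w 1 * 4 := by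
      calc T.w 0 * T.w 1 * (p * q) = (T.w 0 * p) * (T.w 1 * q) := by ring
        _ = T.a 0 1 * T.a 0 1 := by rw [← hp, ← hq]
        _ = T.w 0 * T.w 1 * 4 := by rw [hsq]; ring
    exact mul_left_cancel₀ (mul_pos hw0 hw1).ne' this
  have hp_pos : 0 < p := by
    by_contra hcon
    push_neg at hcon
    have h1 : T.a 0 1 ≤ 0 := by rw [hp]; exact mul_nonpos_of_nonneg_of_nonpos hw0.le hcon
    have h2 : T.a 0 1 = 0 := le_antisymm h1 ha_nonneg
    rw [h2] at hsq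
    have := mul_pos hw0 hw1
    linarith
  have hq_pos : 0 < q := by
    by_contra hcon
    push_neg at hcon
    have : p * q ≤ 0 := mul_nonpos_of_nonneg_of_nonpos hp_pos.le hcon
    omega
  have hp_le : p ≤ 4 := by nlinarith
  have e0 : T.a 0 1 * T.m 1 = 2 * T.w 0 * T.m 0 := by rw [ha00] at hr0; linarith
  have e1 : T.a 0 1 * T.m 0 = 2 * T.w 1 * T.m 1 := by rw [ha11] at hr1; linarith
  have hcases : (p = 1 ∧ q = 4) ∨ (p = 2 ∧ q = 2) ∨ (p = 4 ∧ q = 1) := by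
    interval_cases p <;> omega
  rcases hcases with ⟨rfl, rfl⟩ | ⟨rfl, rfl⟩ | ⟨rfl, rfl⟩
  · -- a01 = w0 = 4 w1 : i = 1, j = 0
    have hw : T.w 0 = 4 * T.w 1 := by linarith
    have hm : T.m 1 = 2 * T.m 0 := by
      have : T.w 0 * (T.m 1) = T.w 0 * (2 * T.m 0) := by
        rw [hp] at e0; linarith
      exact mul_left_cancel₀ hw0.ne' this
    refine ⟨1, 0, T.m 0, T.w 1, by decide, hg1, hg0, Or.inr ⟨hm, rfl, ha11, ?_, ?_, rfl, hw⟩⟩
    · rw [hsymm, hq]; ring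
    · rw [ha00, hw]; ring
  · have hw : T.w 0 = T.w 1 := by linarith
    have hm : T.m 0 = T.m 1 := by
      have : T.w 0 * (2 * T.m 1) = T.w 0 * (2 * T.m 0) := by
        rw [hp] at e0; linarith
      have := mul_left_cancel₀ hw0.ne' this
      linarith
    refine ⟨0, 1, T.m 0, T.w 0, by decide, hg0, hg1, Or.inl ⟨rfl, hm.symm, ha00, ?_, ?_, rfl, hw.symm⟩⟩
    · rw [hp]; ring
    · rw [ha11, hw]
  · have hw : T.w 1 = 4 * T.w 0 := by linarith
    have hm : T.m 0 = 2 * T.m 1 := by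
      have : T.w 0 * (4 * T.m 1) = T.w 0 * (2 * T.m 0) := by
        rw [hp] at e0; linarith
      have := mul_left_cancel₀ hw0.ne' this
      linarith
    refine ⟨0, 1, T.m 1, T.w 0, by decide, hg0, hg1, Or.inr ⟨hm, rfl, ha00, ?_, ?_, rfl, hw⟩⟩
    · rw [hp]; ring
    · rw [ha11, hw]; ring

end Groth.Agent.S7362
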