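import Groth.Statements.S7363
import Groth.Agent.Lib.Helper45.NumType
-- import your own Groth.Agent.* helpers here

set_option autoImplicit false
open Finset
open Models Models.NumericalType

namespace Groth.Agent.S7363

lemma sum3 (f : Fin 3 → ℤ) (i j k : Fin 3) (hij : i ≠ j) (hjk : j ≠ k) (hik : i ≠ k) :
    ∑ l, f l = f i + f j + f k := by
  rw [Fin.sum_univ_three]
  fin_cases i <;> fin_cases j <;> fin_cases k <;> simp_all <;> ring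

def PathGoal (T : Models.NumericalType 3) (i j k : Fin 3) : Prop :=
  ∃ m w : ℤ,
        (T.m i = m ∧ T.m j = 2 * m ∧ T.m k = m ∧ T.a i i = -2 * w ∧ T.a i j = w ∧ T.a i k = 0 ∧ T.a j j = -2 * w ∧
          T.a j k = 3 * w ∧ T.a k k = -6 * w ∧ T.w i = w ∧ T.w j = w ∧ T.w k = 3 * w) ∨
        (T.m i = m ∧ T.m j = 2 * m ∧ T.m k = 3 * m ∧ T.a i i = -6 * w ∧ T.a i j = 3 * w ∧ T.a i k = 0 ∧ T.a j j = -6 * w ∧
          T.a j k = 3 * w ∧ T.a k k = -2 * w ∧ T.w i = 3 * w ∧ T.w j = 3 * w ∧ T.w k = w) ∨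
        (T.m i = 2 * m ∧ T.m j = 2 * m ∧ T.m k = m ∧ T.a i i = -2 * w ∧ T.a i j = 2 * w ∧ T.a i k = 0 ∧ T.a j j = -4 * w ∧
          T.a j k = 4 * w ∧ T.a k k = -8 * w ∧ T.w i = w ∧ T.w j = 2 * w ∧ T.w k = 4 * w) ∨
        (T.m i = m ∧ T.m j = m ∧ T.m k = m ∧ T.a i i = -2 * w ∧ T.a i j = 2 * w ∧ T.a i k = 0 ∧ T.a j j = -4 * w ∧
          T.a j k = 2 * w ∧ T.a k k = -2 * w ∧ T.w i = w ∧ T.w j = 2 * w ∧ T.w k = w) ∨
        (T.m i = m ∧ T.m j = 2 * m ∧ T.m k = m ∧ T.a i i = -4 * w ∧ T.a i j = 2 * w ∧ T.a i k = 0 ∧ T.a j j = -2 * w ∧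
          T.a j k = 2 * w ∧ T.a k k = -4 * w ∧ T.w i = 2 * w ∧ T.w j = w ∧ T.w k = 2 * w)

lemma path_case (T : Models.NumericalType 3) (i j k : Fin 3) (hij : i ≠ j) (hjk : j ≠ k) (hik : i ≠ k)
    (hmt : ∀ l, T.g l = 0 ∧ T.a l l = -2 * T.w l)
    (h0 : T.a i k = 0) (hx : 0 < T.a i j) (hz : 0 < T.a j k) :
    PathGoal T i j k ∨ PathGoal T k j i := by
  have hri := Groth.Agent.Lib.Helper45.numType_row T i
  have hrj := Groth.Agent.Lib.Helper45.numType_row T j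
  have hrk := Groth.Agent.Lib.Helper45.numType_row T k
  rw [sum3 _ i j k hij hjk hik] at hri hrj hrk
  have sji : T.a j i = T.a i j := Groth.Agent.Lib.Helper45.numType_symm T j i
  have skj : T.a k j = T.a j k := Groth.Agent.Lib.Helper45.numType_symm T k j
  have ski : T.a k i = T.a i k := Groth.Agent.Lib.Helper45.numType_symm T k i
  rw [(hmt i).2, h0] at hri
  rw [(hmt j).2, sji] at hrj
  rw [(hmt k).2, skj, ski, h0] at hrk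
  have hmi := T.m_pos i
  have hmj := T.m_pos j
  have hmk := T.m_pos k
  have hwi := T.w_pos i
  have hwj := T.w_pos j
  have hwk := T.w_pos k
  obtain ⟨p, hp⟩ := T.w_dvd i j
  obtain ⟨p', hp'⟩ := T.w_dvd j i
  obtain ⟨q, hq⟩ := T.w_dvd k j
  obtain ⟨q', hq'⟩ := T.w_dvd j k
  rw [sji] at hp'
  rw [skj] at hq
  have pos_of : ∀ (u v : ℤ), 0 < u → 0 < u * v → 0 < v := by
    intro u v hu huv
    by_contra hcon
    push_neg at hcon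
    have := mul_nonpos_of_nonneg_of_nonpos hu.le hcon
    linarith
  have hp_pos : 0 < p := pos_of _ _ hwi (hp ▸ hx)
  have hp'_pos : 0 < p' := pos_of _ _ hwj (hp' ▸ hx)
  have hq_pos : 0 < q := pos_of _ _ hwk (hq ▸ hz)
  have hq'_pos : 0 < q' := pos_of _ _ hwj (hq' ▸ hz)
  -- reduced equations
  have e_i : 2 * T.m i = p * T.m j := by
    have : T.w i * (2 * T.m i) = T.w i * (p * T.m j) := by
      rw [hp] at hri; linarith
    exact mul_left_cancel₀ hwi.ne' this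
  have e_k : 2 * T.m k = q * T.m j := by
    have : T.w k * (2 * T.m k) = T.w k * (q * T.m j) := by
      rw [hq] at hrk; linarith
    exact mul_left_cancel₀ hwk.ne' this
  have e_j : 2 * T.m j = p' * T.m i + q' * T.m k := by
    have : T.w j * (2 * T.m j) = T.w j * (p' * T.m i + q' * T.m k) := by
      have h1 : T.a i j * T.m i = T.w j * p' * T.m i := by rw [hp']
      have h2 : T.a j k * T.m k = T.w j * q' * T.m k := by rw [hq']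
      linarith
    exact mul_left_cancel₀ hwj.ne' this
  have h4 : p * p' + q * q' = 4 := by
    have : T.m j * (p * p' + q * q') = T.m j * 4 := by
      have h1 : 4 * T.m j = p' * (2 * T.m i) + q' * (2 * T.m k) := by linarith
      rw [e_i, e_k] at h1
      linarith
    exact mul_left_cancel₀ hmj.ne' this
  have hp3 : p ≤ 3 := by nlinarith [mul_pos hq_pos hq'_pos]
  have hp'3 : p' ≤ 3 := by nlinarith [mul_pos hq_pos hq'_pos]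
  have hq3 : q ≤ 3 := by nlinarith [mul_pos hp_pos hp'_pos]
  have hq'3 : q' ≤ 3 := by nlinarith [mul_pos hp_pos hp'_pos]
  have hgi := (hmt i).2
  have hgj := (hmt j).2
  have hgk := (hmt k).2
  have hcases : (p = 1 ∧ p' = 1 ∧ q = 1 ∧ q' = 3) ∨ (p = 1 ∧ p' = 1 ∧ q = 3 ∧ q' = 1) ∨
      (p = 1 ∧ p' = 3 ∧ q = 1 ∧ q' = 1) ∨ (p = 3 ∧ p' = 1 ∧ q = 1 ∧ q' = 1) ∨
      (p = 1 ∧ p' = 2 ∧ q = 1 ∧ q' = 2) ∨ (p = 2 ∧ p' = 1 ∧ q = 2 ∧ q' = 1) ∨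
      (p = 2 ∧ p' = 1 ∧ q = 1 ∧ q' = 2) ∨ (p = 1 ∧ p' = 2 ∧ q = 2 ∧ q' = 1) := by
    interval_cases p <;> interval_cases p' <;> interval_cases q <;> interval_cases q' <;> omega
  rcases hcases with ⟨rfl, rfl, rfl, rfl⟩ | ⟨rfl, rfl, rfl, rfl⟩ | ⟨rfl, rfl, rfl, rfl⟩ |
    ⟨rfl, rfl, rfl, rfl⟩ | ⟨rfl, rfl, rfl, rfl⟩ | ⟨rfl, rfl, rfl, rfl⟩ | ⟨rfl, rfl, rfl, rfl⟩ |
    ⟨rfl, rfl, rfl, rfl⟩
  · -- (1,1,1,3): x = w_i = w_j, z = w_k = 3 w_j : case 2 with (i,j,k)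
    left
    refine ⟨T.m i, T.w i, Or.inl ?_⟩
    refine ⟨rfl, ?_, ?_, ?_, ?_, h0, ?_, ?_, ?_, rfl, ?_, ?_⟩ <;> linarith
  · -- (1,1,3,1): x = w_i = w_j, z = 3 w_k = w_j: case 3 with (i,j,k), w = w_k
    left
    refine ⟨T.m i, T.w k, Or.inr (Or.inl ?_)⟩
    refine ⟨rfl, ?_, ?_, ?_, ?_, h0, ?_, ?_, ?_, ?_, ?_, rfl⟩ <;> linarith
  · -- (1,3,1,1)
    right
    refine ⟨T.m k, T.w k, Or.inl ?_⟩
    refine ⟨rfl, ?_, ?_, ?_, ?_, ?_, ?_, ?_, ?_, rfl, ?_, ?_⟩ <;> linarith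
  · -- (3,1,1,1)
    right
    refine ⟨T.m k, T.w i, Or.inr (Or.inl ?_)⟩
    refine ⟨rfl, ?_, ?_, ?_, ?_, ?_, ?_, ?_, ?_, ?_, ?_, rfl⟩ <;> linarith
  · -- (1,2,1,2): x = w_i = 2 w_j, z = w_k = 2 w_j: case 6
    left
    refine ⟨T.m i, T.w j, Or.inr (Or.inr (Or.inr (Or.inr ?_)))⟩
    refine ⟨rfl, ?_, ?_, ?_, ?_, h0, ?_, ?_, ?_, ?_, rfl, ?_⟩ <;> linarith
  · -- (2,1,2,1): x = 2 w_i = w_j, z = 2 w_k = w_j : case 5
    left
    refine ⟨T.m i, T.w i, Or.inr (Or.inr (Or.inr (Or.inl ?_)))⟩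
    refine ⟨rfl, ?_, ?_, ?_, ?_, h0, ?_, ?_, ?_, rfl, ?_, ?_⟩ <;> linarith
  · -- (2,1,1,2): x = 2 w_i = w_j, z = w_k = 2 w_j: case 4 with (i,j,k), m = m_k, w = w_i
    left
    refine ⟨T.m k, T.w i, Or.inr (Or.inr (Or.inl ?_))⟩
    refine ⟨?_, ?_, rfl, ?_, ?_, h0, ?_, ?_, ?_, rfl, ?_, ?_⟩ <;> linarith
  · -- (1,2,2,1): mirror: case 4 with (k,j,i), m = m_i, w = w_k
    right
    refine ⟨T.m i, T.w k, Or.inr (Or.inr (Or.inl ?_))⟩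
    refine ⟨?_, ?_, rfl, ?_, ?_, ?_, ?_, ?_, ?_, rfl, ?_, ?_⟩ <;> linarith

/-- Genus one classification: case n = 3: let T be a minimal numerical type of genus 1 on three indices.
Then all g = 0 and, for some ordering i, j, k of the indices and some integers m, w, the data (m; a;
w) is one of: (m,m,m; a_ii = a_jj = a_kk = -2w, a_ij = a_ik = a_jk = w; w,w,w); (m,2m,m; a_ii = -2w,
a_ij = w, a_ik = 0, a_jj = -2w, a_jk = 3w, a_kk = -6w; w,w,3w); (m,2m,3m; a_ii = -6w, a_ij = 3w,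
a_ik = 0, a_jj = -6w, a_jk = 3w, a_kk = -2w; 3w,3w,w); (2m,2m,m; a_ii = -2w, a_ij = 2w, a_ik = 0,
a_jj = -4w, a_jk = 4w, a_kk = -8w; w,2w,4w); (m,m,m; a_ii = -2w, a_ij = 2w, a_ik = 0, a_jj = -4w,
a_jk = 2w, a_kk = -2w; w,2w,w); (m,2m,m; a_ii = -4w, a_ij = 2w, a_ik = 0, a_jj = -2w, a_jk = 2w,
a_kk = -4w; 2w,w,2w). Only the classification direction is stated. -/
theorem result (T : Models.NumericalType 3) (hmin : T.IsMinimal) (hg : T.genus = 1) :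
    ∃ (i j k : Fin 3) (m w : ℤ), i ≠ j ∧ j ≠ k ∧ i ≠ k ∧ T.g i = 0 ∧ T.g j = 0 ∧ T.g k = 0 ∧
      ((T.m i = m ∧ T.m j = m ∧ T.m k = m ∧ T.a i i = -2 * w ∧ T.a j j = -2 * w ∧ T.a k k = -2 * w ∧
          T.a i j = w ∧ T.a i k = w ∧ T.a j k = w ∧ T.w i = w ∧ T.w j = w ∧ T.w k = w) ∨
        (T.m i = m ∧ T.m j = 2 * m ∧ T.m k = m ∧ T.a i i = -2 * w ∧ T.a i j = w ∧ T.a i k = 0 ∧ T.a j j = -2 * w ∧
          T.a j k = 3 * w ∧ T.a k k = -6 * w ∧ T.w i = w ∧ T.w j = w ∧ T.w k = 3 * w) ∨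
        (T.m i = m ∧ T.m j = 2 * m ∧ T.m k = 3 * m ∧ T.a i i = -6 * w ∧ T.a i j = 3 * w ∧ T.a i k = 0 ∧ T.a j j = -6 * w ∧
          T.a j k = 3 * w ∧ T.a k k = -2 * w ∧ T.w i = 3 * w ∧ T.w j = 3 * w ∧ T.w k = w) ∨
        (T.m i = 2 * m ∧ T.m j = 2 * m ∧ T.m k = m ∧ T.a i i = -2 * w ∧ T.a i j = 2 * w ∧ T.a i k = 0 ∧ T.a j j = -4 * w ∧
          T.a j k = 4 * w ∧ T.a k k = -8 * w ∧ T.w i = w ∧ T.w j = 2 * w ∧ T.w k = 4 * w) ∨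
        (T.m i = m ∧ T.m j = m ∧ T.m k = m ∧ T.a i i = -2 * w ∧ T.a i j = 2 * w ∧ T.a i k = 0 ∧ T.a j j = -4 * w ∧
          T.a j k = 2 * w ∧ T.a k k = -2 * w ∧ T.w i = w ∧ T.w j = 2 * w ∧ T.w k = w) ∨
        (T.m i = m ∧ T.m j = 2 * m ∧ T.m k = m ∧ T.a i i = -4 * w ∧ T.a i j = 2 * w ∧ T.a i k = 0 ∧ T.a j j = -2 * w ∧
          T.a j k = 2 * w ∧ T.a k k = -4 * w ∧ T.w i = 2 * w ∧ T.w j = w ∧ T.w k = 2 * w)) := by
  have hmt := Groth.Agent.Lib.Helper45.numType_minusTwo_of_minimal_genus_one T (by norm_num) hmin hg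
  have hg0 : ∀ l, T.g l = 0 := fun l => (hmt l).1
  have s10 : T.a 1 0 = T.a 0 1 := Groth.Agent.Lib.Helper45.numType_symm T 1 0
  have s20 : T.a 2 0 = T.a 0 2 := Groth.Agent.Lib.Helper45.numType_symm T 2 0
  have s21 : T.a 2 1 = T.a 1 2 := Groth.Agent.Lib.Helper45.numType_symm T 2 1
  have nx : 0 ≤ T.a 0 1 := T.offDiag_nonneg 0 1 (by decide)
  have ny : 0 ≤ T.a 0 2 := T.offDiag_nonneg 0 2 (by decide)
  have nz : 0 ≤ T.a 1 2 := T.offDiag_nonneg 1 2 (by decide)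
  -- connectivity
  have c0 : T.a 0 1 ≠ 0 ∨ T.a 0 2 ≠ 0 := by
    obtain ⟨i, hi, j, hj, hne⟩ := T.connected {0} (singleton_nonempty 0) (by decide)
    rw [mem_singleton] at hi
    subst hi
    fin_cases j
    · simp at hj
    · exact Or.inl hne
    · exact Or.inr hne
  have c1 : T.a 0 1 ≠ 0 ∨ T.a 1 2 ≠ 0 := by
    obtain ⟨i, hi, j, hj, hne⟩ := T.connected {1} (singleton_nonempty 1) (by decide)
    rw [mem_singleton] at hi
    subst hi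
    fin_cases j
    · exact Or.inl (s10 ▸ hne)
    · simp at hj
    · exact Or.inr hne
  have c2 : T.a 0 2 ≠ 0 ∨ T.a 1 2 ≠ 0 := by
    obtain ⟨i, hi, j, hj, hne⟩ := T.connected {2} (singleton_nonempty 2) (by decide)
    rw [mem_singleton] at hi
    subst hi
    fin_cases j
    · exact Or.inl (s20 ▸ hne)
    · exact Or.inr (s21 ▸ hne)
    · simp at hj
  have finish : ∀ i j k : Fin 3, i ≠ j → j ≠ k → i ≠ k → PathGoal T i j k ∨ PathGoal T k j i →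
      ∃ (i j k : Fin 3) (m w : ℤ), i ≠ j ∧ j ≠ k ∧ i ≠ k ∧ T.g i = 0 ∧ T.g j = 0 ∧ T.g k = 0 ∧
      ((T.m i = m ∧ T.m j = m ∧ T.m k = m ∧ T.a i i = -2 * w ∧ T.a j j = -2 * w ∧ T.a k k = -2 * w ∧
          T.a i j = w ∧ T.a i k = w ∧ T.a j k = w ∧ T.w i = w ∧ T.w j = w ∧ T.w k = w) ∨
        (T.m i = m ∧ T.m j = 2 * m ∧ T.m k = m ∧ T.a i i = -2 * w ∧ T.a i j = w ∧ T.a i k = 0 ∧ T.a j j = -2 * w ∧
          T.a j k = 3 * w ∧ T.a k k = -6 * w ∧ T.w i = w ∧ T.w j = w ∧ T.w k = 3 * w) ∨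
        (T.m i = m ∧ T.m j = 2 * m ∧ T.m k = 3 * m ∧ T.a i i = -6 * w ∧ T.a i j = 3 * w ∧ T.a i k = 0 ∧ T.a j j = -6 * w ∧
          T.a j k = 3 * w ∧ T.a k k = -2 * w ∧ T.w i = 3 * w ∧ T.w j = 3 * w ∧ T.w k = w) ∨
        (T.m i = 2 * m ∧ T.m j = 2 * m ∧ T.m k = m ∧ T.a i i = -2 * w ∧ T.a i j = 2 * w ∧ T.a i k = 0 ∧ T.a j j = -4 * w ∧
          T.a j k = 4 * w ∧ T.a k k = -8 * w ∧ T.w i = w ∧ T.w j = 2 * w ∧ T.w k = 4 * w) ∨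
        (T.m i = m ∧ T.m j = m ∧ T.m k = m ∧ T.a i i = -2 * w ∧ T.a i j = 2 * w ∧ T.a i k = 0 ∧ T.a j j = -4 * w ∧
          T.a j k = 2 * w ∧ T.a k k = -2 * w ∧ T.w i = w ∧ T.w j = 2 * w ∧ T.w k = w) ∨
        (T.m i = m ∧ T.m j = 2 * m ∧ T.m k = m ∧ T.a i i = -4 * w ∧ T.a i j = 2 * w ∧ T.a i k = 0 ∧ T.a j j = -2 * w ∧
          T.a j k = 2 * w ∧ T.a k k = -4 * w ∧ T.w i = 2 * w ∧ T.w j = w ∧ T.w k = 2 * w)) := by
    intro i j k hij hjk hik h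
    rcases h with ⟨m, w, h⟩ | ⟨m, w, h⟩
    · exact ⟨i, j, k, m, w, hij, hjk, hik, hg0 i, hg0 j, hg0 k, Or.inr h⟩
    · exact ⟨k, j, i, m, w, hjk.symm, hij.symm, hik.symm, hg0 k, hg0 j, hg0 i, Or.inr h⟩
  by_cases hx : T.a 0 1 = 0
  · -- path 0 - 2 - 1
    have hy : 0 < T.a 0 2 := lt_of_le_of_ne ny (Ne.symm (c0.resolve_left (not_not.mpr hx)))
    have hz : 0 < T.a 1 2 := lt_of_le_of_ne nz (Ne.symm (c1.resolve_left (not_not.mpr hx)))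
    exact finish 0 2 1 (by decide) (by decide) (by decide)
      (path_case T 0 2 1 (by decide) (by decide) (by decide) hmt hx hy (s21 ▸ hz))
  by_cases hy : T.a 0 2 = 0
  · -- path 0 - 1 - 2
    have hx' : 0 < T.a 0 1 := lt_of_le_of_ne nx (Ne.symm hx)
    have hz : 0 < T.a 1 2 := lt_of_le_of_ne nz (Ne.symm (c2.resolve_left (not_not.mpr hy)))
    exact finish 0 1 2 (by decide) (by decide) (by decide)
      (path_case T 0 1 2 (by decide) (by decide) (by decide) hmt hy hx' hz)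
  by_cases hz : T.a 1 2 = 0
  · -- path 1 - 0 - 2
    have hx' : 0 < T.a 0 1 := lt_of_le_of_ne nx (Ne.symm hx)
    have hy' : 0 < T.a 0 2 := lt_of_le_of_ne ny (Ne.symm hy)
    exact finish 1 0 2 (by decide) (by decide) (by decide)
      (path_case T 1 0 2 (by decide) (by decide) (by decide) hmt hz (s10 ▸ hx') hy')
  -- triangle
  have hx' : 0 < T.a 0 1 := lt_of_le_of_ne nx (Ne.symm hx)
  have hy' : 0 < T.a 0 2 := lt_of_le_of_ne ny (Ne.symm hy)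
  have hz' : 0 < T.a 1 2 := lt_of_le_of_ne nz (Ne.symm hz)
  have hr0 := Groth.Agent.Lib.Helper45.numType_row T 0
  have hr1 := Groth.Agent.Lib.Helper45.numType_row T 1
  have hr2 := Groth.Agent.Lib.Helper45.numType_row T 2
  rw [Fin.sum_univ_three] at hr0 hr1 hr2
  rw [(hmt 0).2] at hr0
  rw [(hmt 1).2, s10] at hr1
  rw [(hmt 2).2, s20, s21] at hr2
  have hm0 := T.m_pos 0
  have hm1 := T.m_pos 1
  have hm2 := T.m_pos 2
  have hw0 := T.w_pos 0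
  have hw1 := T.w_pos 1
  have hw2 := T.w_pos 2
  have ge_of_dvd : ∀ (u v : ℤ), 0 < u → 0 < v → u ∣ v → u ≤ v := fun u v _ hv h => Int.le_of_dvd hv h
  have x0 : T.w 0 ≤ T.a 0 1 := ge_of_dvd _ _ hw0 hx' (T.w_dvd 0 1)
  have x1 : T.w 1 ≤ T.a 0 1 := ge_of_dvd _ _ hw1 hx' (s10 ▸ T.w_dvd 1 0)
  have y0 : T.w 0 ≤ T.a 0 2 := ge_of_dvd _ _ hw0 hy' (T.w_dvd 0 2)
  have y2 : T.w 2 ≤ T.a 0 2 := ge_of_dvd _ _ hw2 hy' (s20 ▸ T.w_dvd 2 0)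
  have z1 : T.w 1 ≤ T.a 1 2 := ge_of_dvd _ _ hw1 hz' (T.w_dvd 1 2)
  have z2 : T.w 2 ≤ T.a 1 2 := ge_of_dvd _ _ hw2 hz' (s21 ▸ T.w_dvd 2 1)
  -- 2 m_0 ≥ m_1 + m_2 etc.
  have i0 : T.m 1 + T.m 2 ≤ 2 * T.m 0 := by
    have : T.w 0 * (T.m 1 + T.m 2) ≤ T.w 0 * (2 * T.m 0) := by nlinarith
    exact le_of_mul_le_mul_left this hw0
  have i1 : T.m 0 + T.m 2 ≤ 2 * T.m 1 := by
    have : T.w 1 * (T.m 0 + T.m 2) ≤ T.w 1 * (2 * T.m 1) := by nlinarith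
    exact le_of_mul_le_mul_left this hw1
  have i2 : T.m 0 + T.m 1 ≤ 2 * T.m 2 := by
    have : T.w 2 * (T.m 0 + T.m 1) ≤ T.w 2 * (2 * T.m 2) := by nlinarith
    exact le_of_mul_le_mul_left this hw2
  have m01 : T.m 0 = T.m 1 := by linarith
  have m02 : T.m 0 = T.m 2 := by linarith
  -- now slack zero
  have ex0 : T.a 0 1 = T.w 0 := by nlinarith
  have ey0 : T.a 0 2 = T.w 0 := by nlinarith
  have ex1 : T.a 0 1 = T.w 1 := by nlinarith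
  have ez1 : T.a 1 2 = T.w 1 := by nlinarith
  have ey2 : T.a 0 2 = T.w 2 := by nlinarith
  refine ⟨0, 1, 2, T.m 0, T.w 0, by decide, by decide, by decide, hg0 0, hg0 1, hg0 2, Or.inl ?_⟩
  refine ⟨rfl, m01.symm, m02.symm, (hmt 0).2, ?_, ?_, ex0, ey0, ?_, rfl, ?_, ?_⟩
  · rw [(hmt 1).2]; linarith
  · rw [(hmt 2).2]; linarith
  · linarith
  · linarith
  · linarith

end Groth.Agent.S7363
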