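import Groth.Statements.S7364
import Groth.Agent.Lib.Helper39.NumGenus2
-- import your own Groth.Agent.* helpers here

set_option autoImplicit false
open Finset
open Models Models.NumericalType

namespace Groth.Agent.S7364

open Groth.Agent.Lib.Helper39

/-- Genus one classification: case n = 4: let T be a minimal numerical type of genus 1 on 4 indices.
Then all g_i = 0 and, for some permutation σ of the indices and some integers m, w, the
multiplicities, weights and intersection matrix (m_{σ(i)}, w_{σ(i)}, a_{σ(i)σ(j)}) are those of one
of the following 6 types: [four cycle] m = (m, m, m, m), w = (w, w, w, w), a = (-2 * w w 0 w / w -2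
* w w 0 / 0 w -2 * w w / w 0 w -2 * w); [up equal up] m = (2 * m, 2 * m, 2 * m, m), w = (w, 2 * w, 2
* w, 4 * w), a = (-2 * w 2 * w 0 0 / 2 * w -4 * w 2 * w 0 / 0 2 * w -4 * w 4 * w / 0 0 4 * w -8 *
w); [up equal down] m = (m, m, m, m), w = (w, 2 * w, 2 * w, w), a = (-2 * w 2 * w 0 0 / 2 * w -4 * w
2 * w 0 / 0 2 * w -4 * w 2 * w / 0 0 2 * w -2 * w); [down equal up] m = (m, 2 * m, 2 * m, m), w = (2
* w, w, w, 2 * w), a = (-4 * w 2 * w 0 0 / 2 * w -2 * w w 0 / 0 w -2 * w 2 * w / 0 0 2 * w -4 * w);
[triple with up] m = (2 * m, m, m, m), w = (w, w, w, 2 * w), a = (-2 * w w w 2 * w / w -2 * w 0 0 /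
w 0 -2 * w 0 / 2 * w 0 0 -4 * w); [triple with down] m = (2 * m, m, m, 2 * m), w = (2 * w, 2 * w, 2
* w, w), a = (-4 * w 2 * w 2 * w 2 * w / 2 * w -4 * w 0 0 / 2 * w 0 -4 * w 0 / 2 * w 0 0 -2 * w).
Only the classification direction is stated. -/
theorem result (T : Models.NumericalType 4) (hmin : T.IsMinimal) (hg : T.genus = 1) :
    (∀ i, T.g i = 0) ∧ ∃ (σ : Equiv.Perm (Fin 4)) (m w : ℤ),
      ((T.m (σ 0) = m ∧ T.m (σ 1) = m ∧ T.m (σ 2) = m ∧ T.m (σ 3) = m ∧ T.w (σ 0) = w ∧ T.w (σ 1) = w ∧ T.w (σ 2) = w ∧ T.w (σ 3) = w ∧ T.a (σ 0) (σ 0) = -2 * w ∧ T.a (σ 0) (σ 1) = w ∧ T.a (σ 0) (σ 2) = 0 ∧ T.a (σ 0) (σ 3) = w ∧ T.a (σ 1) (σ 1) = -2 * w ∧ T.a (σ 1) (σ 2) = w ∧ T.a (σ 1) (σ 3) = 0 ∧ T.a (σ 2) (σ 2) = -2 * w ∧ T.a (σ 2) (σ 3) = w ∧ T.a (σ 3) (σ 3) = -2 * w) ∨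
      (T.m (σ 0) = 2 * m ∧ T.m (σ 1) = 2 * m ∧ T.m (σ 2) = 2 * m ∧ T.m (σ 3) = m ∧ T.w (σ 0) = w ∧ T.w (σ 1) = 2 * w ∧ T.w (σ 2) = 2 * w ∧ T.w (σ 3) = 4 * w ∧ T.a (σ 0) (σ 0) = -2 * w ∧ T.a (σ 0) (σ 1) = 2 * w ∧ T.a (σ 0) (σ 2) = 0 ∧ T.a (σ 0) (σ 3) = 0 ∧ T.a (σ 1) (σ 1) = -4 * w ∧ T.a (σ 1) (σ 2) = 2 * w ∧ T.a (σ 1) (σ 3) = 0 ∧ T.a (σ 2) (σ 2) = -4 * w ∧ T.a (σ 2) (σ 3) = 4 * w ∧ T.a (σ 3) (σ 3) = -8 * w) ∨
      (T.m (σ 0) = m ∧ T.m (σ 1) = m ∧ T.m (σ 2) = m ∧ T.m (σ 3) = m ∧ T.w (σ 0) = w ∧ T.w (σ 1) = 2 * w ∧ T.w (σ 2) = 2 * w ∧ T.w (σ 3) = w ∧ T.a (σ 0) (σ 0) = -2 * w ∧ T.a (σ 0) (σ 1) = 2 * w ∧ T.a (σ 0) (σ 2) = 0 ∧ T.a (σ 0) (σ 3) = 0 ∧ T.a (σ 1) (σ 1) = -4 * w ∧ T.a (σ 1) (σ 2) = 2 * w ∧ T.a (σ 1) (σ 3) = 0 ∧ T.a (σ 2) (σ 2) = -4 * w ∧ T.a (σ 2) (σ 3) = 2 * w ∧ T.a (σ 3) (σ 3) = -2 * w) ∨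
      (T.m (σ 0) = m ∧ T.m (σ 1) = 2 * m ∧ T.m (σ 2) = 2 * m ∧ T.m (σ 3) = m ∧ T.w (σ 0) = 2 * w ∧ T.w (σ 1) = w ∧ T.w (σ 2) = w ∧ T.w (σ 3) = 2 * w ∧ T.a (σ 0) (σ 0) = -4 * w ∧ T.a (σ 0) (σ 1) = 2 * w ∧ T.a (σ 0) (σ 2) = 0 ∧ T.a (σ 0) (σ 3) = 0 ∧ T.a (σ 1) (σ 1) = -2 * w ∧ T.a (σ 1) (σ 2) = w ∧ T.a (σ 1) (σ 3) = 0 ∧ T.a (σ 2) (σ 2) = -2 * w ∧ T.a (σ 2) (σ 3) = 2 * w ∧ T.a (σ 3) (σ 3) = -4 * w) ∨
      (T.m (σ 0) = 2 * m ∧ T.m (σ 1) = m ∧ T.m (σ 2) = m ∧ T.m (σ 3) = m ∧ T.w (σ 0) = w ∧ T.w (σ 1) = w ∧ T.w (σ 2) = w ∧ T.w (σ 3) = 2 * w ∧ T.a (σ 0) (σ 0) = -2 * w ∧ T.a (σ 0) (σ 1) = w ∧ T.a (σ 0) (σ 2) = w ∧ T.a (σ 0) (σ 3) = 2 * w ∧ T.a (σ 1) (σ 1) = -2 * w ∧ T.a (σ 1) (σ 2) = 0 ∧ T.a (σ 1) (σ 3) = 0 ∧ T.a (σ 2) (σ 2) = -2 * w ∧ T.a (σ 2) (σ 3) = 0 ∧ T.a (σ 3) (σ 3) = -4 * w) ∨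
      (T.m (σ 0) = 2 * m ∧ T.m (σ 1) = m ∧ T.m (σ 2) = m ∧ T.m (σ 3) = 2 * m ∧ T.w (σ 0) = 2 * w ∧ T.w (σ 1) = 2 * w ∧ T.w (σ 2) = 2 * w ∧ T.w (σ 3) = w ∧ T.a (σ 0) (σ 0) = -4 * w ∧ T.a (σ 0) (σ 1) = 2 * w ∧ T.a (σ 0) (σ 2) = 2 * w ∧ T.a (σ 0) (σ 3) = 2 * w ∧ T.a (σ 1) (σ 1) = -4 * w ∧ T.a (σ 1) (σ 2) = 0 ∧ T.a (σ 1) (σ 3) = 0 ∧ T.a (σ 2) (σ 2) = -4 * w ∧ T.a (σ 2) (σ 3) = 0 ∧ T.a (σ 3) (σ 3) = -2 * w)) := by
  have hall := NT.all_minusTwo T (by norm_num) hmin hg
  have hd : ∀ i, T.a i i = -2 * T.w i := fun i => (hall i).2
  have hwp := T.w_pos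
  have hmp := T.m_pos
  have hsym : ∀ i j, T.a i j = T.a j i := NT.symm' T
  have hnn : ∀ i j, i ≠ j → 0 ≤ T.a i j := T.offDiag_nonneg
  refine ⟨fun i => (hall i).1, ?_⟩
  by_cases h3 : ∃ x y1 y2 y3 : Fin 4, x ≠ y1 ∧ x ≠ y2 ∧ x ≠ y3 ∧ y1 ≠ y2 ∧ y1 ≠ y3 ∧ y2 ≠ y3 ∧ T.a x y1 ≠ 0 ∧ T.a x y2 ≠ 0 ∧ T.a x y3 ≠ 0
  · obtain ⟨x0, x1, x2, x3, hne_0_1, hne_0_2, hne_0_3, hne_1_2, hne_1_3, hne_2_3, hadj_0_1, hadj_0_2, hadj_0_3⟩ := h3
    have hadj_1_0 : T.a x1 x0 ≠ 0 := by rw [hsym]; exact hadj_0_1
    have hl_0_1 := NT.lb1 T _ _ hne_0_1 hadj_0_1
    have hl_1_0 := NT.lb1 T _ _ hne_0_1.symm hadj_1_0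
    have hs_0_1 : T.a x0 x1 = T.a x1 x0 := hsym _ _
    have hadj_2_0 : T.a x2 x0 ≠ 0 := by rw [hsym]; exact hadj_0_2
    have hl_0_2 := NT.lb1 T _ _ hne_0_2 hadj_0_2
    have hl_2_0 := NT.lb1 T _ _ hne_0_2.symm hadj_2_0
    have hs_0_2 : T.a x0 x2 = T.a x2 x0 := hsym _ _
    have hadj_3_0 : T.a x3 x0 ≠ 0 := by rw [hsym]; exact hadj_0_3
    have hl_0_3 := NT.lb1 T _ _ hne_0_3 hadj_0_3
    have hl_3_0 := NT.lb1 T _ _ hne_0_3.symm hadj_3_0
    have hs_0_3 : T.a x0 x3 = T.a x3 x0 := hsym _ _
    have hz_1_2 : T.a x1 x2 = 0 := by
      by_contra hadj_1_2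
      have hadj_2_1 : T.a x2 x1 ≠ 0 := by rw [hsym]; exact hadj_1_2
      have hl_1_2 := NT.lb1 T _ _ hne_1_2 hadj_1_2
      have hl_2_1 := NT.lb1 T _ _ hne_1_2.symm hadj_2_1
      have hs_1_2 : T.a x1 x2 = T.a x2 x1 := hsym _ _
      refine NT.cert3 T x0 x1 x2 hne_0_1 hne_0_2 hne_1_2 (by norm_num) 1 1 1 (by norm_num) (by norm_num) (by norm_num) ?_ ?_ ?_
      · linarith only [hd x0, hwp x0, hl_0_1, hl_0_2]
      · linarith only [hd x1, hwp x1, hl_1_0, hl_1_2]
      · linarith only [hd x2, hwp x2, hl_2_0, hl_2_1]
    have hz_2_1 : T.a x2 x1 = 0 := by rw [hsym]; exact hz_1_2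
    have hz_1_3 : T.a x1 x3 = 0 := by
      by_contra hadj_1_3
      have hadj_3_1 : T.a x3 x1 ≠ 0 := by rw [hsym]; exact hadj_1_3
      have hl_1_3 := NT.lb1 T _ _ hne_1_3 hadj_1_3
      have hl_3_1 := NT.lb1 T _ _ hne_1_3.symm hadj_3_1
      have hs_1_3 : T.a x1 x3 = T.a x3 x1 := hsym _ _
      refine NT.cert3 T x0 x1 x3 hne_0_1 hne_0_3 hne_1_3 (by norm_num) 1 1 1 (by norm_num) (by norm_num) (by norm_num) ?_ ?_ ?_
      · linarith only [hd x0, hwp x0, hl_0_1, hl_0_3]
      · linarith only [hd x1, hwp x1, hl_1_0, hl_1_3]
      · linarith only [hd x3, hwp x3, hl_3_0, hl_3_1]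
    have hz_3_1 : T.a x3 x1 = 0 := by rw [hsym]; exact hz_1_3
    have hz_2_3 : T.a x2 x3 = 0 := by
      by_contra hadj_2_3
      have hadj_3_2 : T.a x3 x2 ≠ 0 := by rw [hsym]; exact hadj_2_3
      have hl_2_3 := NT.lb1 T _ _ hne_2_3 hadj_2_3
      have hl_3_2 := NT.lb1 T _ _ hne_2_3.symm hadj_3_2
      have hs_2_3 : T.a x2 x3 = T.a x3 x2 := hsym _ _
      refine NT.cert3 T x0 x2 x3 hne_0_2 hne_0_3 hne_2_3 (by norm_num) 1 1 1 (by norm_num) (by norm_num) (by norm_num) ?_ ?_ ?_
      · linarith only [hd x0, hwp x0, hl_0_2, hl_0_3]
      · linarith only [hd x2, hwp x2, hl_2_0, hl_2_3]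
      · linarith only [hd x3, hwp x3, hl_3_0, hl_3_2]
    have hz_3_2 : T.a x3 x2 = 0 := by rw [hsym]; exact hz_2_3
    have hinj : Function.Injective ![x0, x1, x2, x3] := NT.inj4 _ _ _ _ hne_0_1 hne_0_2 hne_0_3 hne_1_2 hne_1_3 hne_2_3
    have hrow_0 : T.a x0 x0 * T.m x0 + T.a x0 x1 * T.m x1 + T.a x0 x2 * T.m x2 + T.a x0 x3 * T.m x3 = 0 := by
      have h := NT.row_fun T _ hinj (0 : Fin 4)
      rw [Fin.sum_univ_four] at h
      exact h
    have hrow_1 : T.a x1 x0 * T.m x0 + T.a x1 x1 * T.m x1 + T.a x1 x2 * T.m x2 + T.a x1 x3 * T.m x3 = 0 := by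
      have h := NT.row_fun T _ hinj (1 : Fin 4)
      rw [Fin.sum_univ_four] at h
      exact h
    have hrow_2 : T.a x2 x0 * T.m x0 + T.a x2 x1 * T.m x1 + T.a x2 x2 * T.m x2 + T.a x2 x3 * T.m x3 = 0 := by
      have h := NT.row_fun T _ hinj (2 : Fin 4)
      rw [Fin.sum_univ_four] at h
      exact h
    have hrow_3 : T.a x3 x0 * T.m x0 + T.a x3 x1 * T.m x1 + T.a x3 x2 * T.m x2 + T.a x3 x3 * T.m x3 = 0 := by
      have h := NT.row_fun T _ hinj (3 : Fin 4)
      rw [Fin.sum_univ_four] at h
      exact h
    rcases NT.edge3 T x0 x1 hne_0_1 hadj_0_1 with hx_0_1 | hx_0_1 | hx_0_1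
    · rcases NT.edge3 T x1 x0 hne_0_1.symm hadj_1_0 with hx_1_0 | hx_1_0 | hx_1_0
      · rcases NT.edge3 T x0 x2 hne_0_2 hadj_0_2 with hx_0_2 | hx_0_2 | hx_0_2
        · rcases NT.edge3 T x2 x0 hne_0_2.symm hadj_2_0 with hx_2_0 | hx_2_0 | hx_2_0
          · rcases NT.edge3 T x0 x3 hne_0_3 hadj_0_3 with hx_0_3 | hx_0_3 | hx_0_3
            · rcases NT.edge3 T x3 x0 hne_0_3.symm hadj_3_0 with hx_3_0 | hx_3_0 | hx_3_0
              · have cw_0 : T.w x0 = T.w x0 := rfl
                have cw_1 : T.w x1 = T.w x0 := by linarith only [cw_0, hx_0_1, hx_1_0, hs_0_1]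
                have cw_2 : T.w x2 = T.w x0 := by linarith only [cw_0, hx_0_2, hx_2_0, hs_0_2]
                have cw_3 : T.w x3 = T.w x0 := by linarith only [cw_0, hx_0_3, hx_3_0, hs_0_3]
                have ca_0_0 : T.a x0 x0 = -2 * T.w x0 := by linarith only [hd x0, cw_0]
                have ca_0_1 : T.a x0 x1 = T.w x0 := by linarith only [hx_0_1, cw_0]
                have ca_0_2 : T.a x0 x2 = T.w x0 := by linarith only [hx_0_2, cw_0]
                have ca_0_3 : T.a x0 x3 = T.w x0 := by linarith only [hx_0_3, cw_0]
                have ca_1_0 : T.a x1 x0 = T.w x0 := by linarith only [hx_1_0, cw_1]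
                have ca_1_1 : T.a x1 x1 = -2 * T.w x0 := by linarith only [hd x1, cw_1]
                have ca_2_0 : T.a x2 x0 = T.w x0 := by linarith only [hx_2_0, cw_2]
                have ca_2_2 : T.a x2 x2 = -2 * T.w x0 := by linarith only [hd x2, cw_2]
                have ca_3_0 : T.a x3 x0 = T.w x0 := by linarith only [hx_3_0, cw_3]
                have ca_3_3 : T.a x3 x3 = -2 * T.w x0 := by linarith only [hd x3, cw_3]
                have hm_0 : -2 * T.m x0 + 1 * T.m x1 + 1 * T.m x2 + 1 * T.m x3 = 0 := by
                  have h := hrow_0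
                  rw [ca_0_0, ca_0_1, ca_0_2, ca_0_3] at h
                  have h2 : T.w x0 * (-2 * T.m x0 + 1 * T.m x1 + 1 * T.m x2 + 1 * T.m x3) = 0 := by linarith only [h]
                  rcases mul_eq_zero.mp h2 with h3 | h3
                  · exact absurd h3 (hwp _).ne'
                  · exact h3
                have hm_1 : 1 * T.m x0 + -2 * T.m x1 = 0 := by
                  have h := hrow_1
                  rw [ca_1_0, ca_1_1, hz_1_2, hz_1_3] at h
                  have h2 : T.w x0 * (1 * T.m x0 + -2 * T.m x1) = 0 := by linarith only [h]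
                  rcases mul_eq_zero.mp h2 with h3 | h3
                  · exact absurd h3 (hwp _).ne'
                  · exact h3
                have hm_2 : 1 * T.m x0 + -2 * T.m x2 = 0 := by
                  have h := hrow_2
                  rw [ca_2_0, hz_2_1, ca_2_2, hz_2_3] at h
                  have h2 : T.w x0 * (1 * T.m x0 + -2 * T.m x2) = 0 := by linarith only [h]
                  rcases mul_eq_zero.mp h2 with h3 | h3
                  · exact absurd h3 (hwp _).ne'
                  · exact h3
                have hm_3 : 1 * T.m x0 + -2 * T.m x3 = 0 := by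
                  have h := hrow_3
                  rw [ca_3_0, hz_3_1, hz_3_2, ca_3_3] at h
                  have h2 : T.w x0 * (1 * T.m x0 + -2 * T.m x3) = 0 := by linarith only [h]
                  rcases mul_eq_zero.mp h2 with h3 | h3
                  · exact absurd h3 (hwp _).ne'
                  · exact h3
                exfalso
                linarith only [hm_0, hm_1, hm_2, hm_3, hmp x0, hmp x1, hmp x2, hmp x3]
              · have cw_3 : T.w x3 = T.w x3 := rfl
                have cw_0 : T.w x0 = 2 * T.w x3 := by linarith only [cw_3, hx_3_0, hx_0_3, hs_0_3]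
                have cw_1 : T.w x1 = 2 * T.w x3 := by linarith only [cw_0, hx_0_1, hx_1_0, hs_0_1]
                have cw_2 : T.w x2 = 2 * T.w x3 := by linarith only [cw_0, hx_0_2, hx_2_0, hs_0_2]
                have ca_0_0 : T.a x0 x0 = -4 * T.w x3 := by linarith only [hd x0, cw_0]
                have ca_0_1 : T.a x0 x1 = 2 * T.w x3 := by linarith only [hx_0_1, cw_0]
                have ca_0_2 : T.a x0 x2 = 2 * T.w x3 := by linarith only [hx_0_2, cw_0]
                have ca_0_3 : T.a x0 x3 = 2 * T.w x3 := by linarith only [hx_0_3, cw_0]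
                have ca_1_0 : T.a x1 x0 = 2 * T.w x3 := by linarith only [hx_1_0, cw_1]
                have ca_1_1 : T.a x1 x1 = -4 * T.w x3 := by linarith only [hd x1, cw_1]
                have ca_2_0 : T.a x2 x0 = 2 * T.w x3 := by linarith only [hx_2_0, cw_2]
                have ca_2_2 : T.a x2 x2 = -4 * T.w x3 := by linarith only [hd x2, cw_2]
                have ca_3_0 : T.a x3 x0 = 2 * T.w x3 := by linarith only [hx_3_0, cw_3]
                have ca_3_3 : T.a x3 x3 = -2 * T.w x3 := by linarith only [hd x3, cw_3]
                have hm_0 : -4 * T.m x0 + 2 * T.m x1 + 2 * T.m x2 + 2 * T.m x3 = 0 := by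
                  have h := hrow_0
                  rw [ca_0_0, ca_0_1, ca_0_2, ca_0_3] at h
                  have h2 : T.w x3 * (-4 * T.m x0 + 2 * T.m x1 + 2 * T.m x2 + 2 * T.m x3) = 0 := by linarith only [h]
                  rcases mul_eq_zero.mp h2 with h3 | h3
                  · exact absurd h3 (hwp _).ne'
                  · exact h3
                have hm_1 : 2 * T.m x0 + -4 * T.m x1 = 0 := by
                  have h := hrow_1
                  rw [ca_1_0, ca_1_1, hz_1_2, hz_1_3] at h
                  have h2 : T.w x3 * (2 * T.m x0 + -4 * T.m x1) = 0 := by linarith only [h]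
                  rcases mul_eq_zero.mp h2 with h3 | h3
                  · exact absurd h3 (hwp _).ne'
                  · exact h3
                have hm_2 : 2 * T.m x0 + -4 * T.m x2 = 0 := by
                  have h := hrow_2
                  rw [ca_2_0, hz_2_1, ca_2_2, hz_2_3] at h
                  have h2 : T.w x3 * (2 * T.m x0 + -4 * T.m x2) = 0 := by linarith only [h]
                  rcases mul_eq_zero.mp h2 with h3 | h3
                  · exact absurd h3 (hwp _).ne'
                  · exact h3
                have hm_3 : 2 * T.m x0 + -2 * T.m x3 = 0 := by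
                  have h := hrow_3
                  rw [ca_3_0, hz_3_1, hz_3_2, ca_3_3] at h
                  have h2 : T.w x3 * (2 * T.m x0 + -2 * T.m x3) = 0 := by linarith only [h]
                  rcases mul_eq_zero.mp h2 with h3 | h3
                  · exact absurd h3 (hwp _).ne'
                  · exact h3
                have cmu_0 : T.m x0 = 2 * T.m x1 := by linarith only [hm_0, hm_1, hm_2, hm_3]
                have cmu_1 : T.m x1 = T.m x1 := rfl
                have cmu_2 : T.m x2 = T.m x1 := by linarith only [hm_0, hm_1, hm_2, hm_3]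
                have cmu_3 : T.m x3 = 2 * T.m x1 := by linarith only [hm_0, hm_1, hm_2, hm_3]
                have hinjσ : Function.Injective ![x0, x1, x2, x3] := NT.inj4 _ _ _ _ hne_0_1 hne_0_2 hne_0_3 hne_1_2 hne_1_3 hne_2_3
                exact ⟨Equiv.ofBijective ![x0, x1, x2, x3] ⟨hinjσ, Finite.surjective_of_injective hinjσ⟩, T.m x1, T.w x3, Or.inr (Or.inr (Or.inr (Or.inr (Or.inr (⟨cmu_0, cmu_1, cmu_2, cmu_3, cw_0, cw_1, cw_2, cw_3, ca_0_0, ca_0_1, ca_0_2, ca_0_3, ca_1_1, hz_1_2, hz_1_3, ca_2_2, hz_2_3, ca_3_3⟩)))))⟩
              · exfalso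
                refine NT.cert3 T x0 x1 x3 hne_0_1 hne_0_3 hne_1_3 (by norm_num) 2 1 3 (by norm_num) (by norm_num) (by norm_num) ?_ ?_ ?_
                · linarith only [hd x0, hwp x0, hx_0_1.ge, hx_0_3.ge]
                · linarith only [hd x1, hwp x1, hx_1_0.ge, hnn x1 x3 hne_1_3]
                · linarith only [hd x3, hwp x3, hx_3_0, hnn x3 x1 hne_1_3.symm]
            · obtain ⟨heq_0, heq_1, heq_2, heq_3⟩ := NT.harm4 T x0 x1 x2 x3 hne_0_1 hne_0_2 hne_0_3 hne_1_2 hne_1_3 hne_2_3 2 1 1 1
                (by linarith only [hd x0, hx_0_1.ge, hx_0_2.ge, hx_0_3.ge])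
                (by linarith only [hd x1, hx_1_0.ge, hz_1_2, hz_1_3])
                (by linarith only [hd x2, hx_2_0.ge, hz_2_1, hz_2_3])
                (by linarith only [hd x3, hl_3_0, hz_3_1, hz_3_2])
              have hx_3_0 : T.a x3 x0 = T.w x3 := by linarith only [heq_3, hwp x3, hd x3, hl_3_0, hz_3_1, hz_3_2]
              have cw_0 : T.w x0 = T.w x0 := rfl
              have cw_1 : T.w x1 = T.w x0 := by linarith only [cw_0, hx_0_1, hx_1_0, hs_0_1]
              have cw_2 : T.w x2 = T.w x0 := by linarith only [cw_0, hx_0_2, hx_2_0, hs_0_2]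
              have cw_3 : T.w x3 = 2 * T.w x0 := by linarith only [cw_0, hx_0_3, hx_3_0, hs_0_3]
              have ca_0_0 : T.a x0 x0 = -2 * T.w x0 := by linarith only [hd x0, cw_0]
              have ca_0_1 : T.a x0 x1 = T.w x0 := by linarith only [hx_0_1, cw_0]
              have ca_0_2 : T.a x0 x2 = T.w x0 := by linarith only [hx_0_2, cw_0]
              have ca_0_3 : T.a x0 x3 = 2 * T.w x0 := by linarith only [hx_0_3, cw_0]
              have ca_1_0 : T.a x1 x0 = T.w x0 := by linarith only [hx_1_0, cw_1]
              have ca_1_1 : T.a x1 x1 = -2 * T.w x0 := by linarith only [hd x1, cw_1]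
              have ca_2_0 : T.a x2 x0 = T.w x0 := by linarith only [hx_2_0, cw_2]
              have ca_2_2 : T.a x2 x2 = -2 * T.w x0 := by linarith only [hd x2, cw_2]
              have ca_3_0 : T.a x3 x0 = 2 * T.w x0 := by linarith only [hx_3_0, cw_3]
              have ca_3_3 : T.a x3 x3 = -4 * T.w x0 := by linarith only [hd x3, cw_3]
              have hm_0 : -2 * T.m x0 + 1 * T.m x1 + 1 * T.m x2 + 2 * T.m x3 = 0 := by
                have h := hrow_0
                rw [ca_0_0, ca_0_1, ca_0_2, ca_0_3] at h
                have h2 : T.w x0 * (-2 * T.m x0 + 1 * T.m x1 + 1 * T.m x2 + 2 * T.m x3) = 0 := by linarith only [h]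
                rcases mul_eq_zero.mp h2 with h3 | h3
                · exact absurd h3 (hwp _).ne'
                · exact h3
              have hm_1 : 1 * T.m x0 + -2 * T.m x1 = 0 := by
                have h := hrow_1
                rw [ca_1_0, ca_1_1, hz_1_2, hz_1_3] at h
                have h2 : T.w x0 * (1 * T.m x0 + -2 * T.m x1) = 0 := by linarith only [h]
                rcases mul_eq_zero.mp h2 with h3 | h3
                · exact absurd h3 (hwp _).ne'
                · exact h3
              have hm_2 : 1 * T.m x0 + -2 * T.m x2 = 0 := by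
                have h := hrow_2
                rw [ca_2_0, hz_2_1, ca_2_2, hz_2_3] at h
                have h2 : T.w x0 * (1 * T.m x0 + -2 * T.m x2) = 0 := by linarith only [h]
                rcases mul_eq_zero.mp h2 with h3 | h3
                · exact absurd h3 (hwp _).ne'
                · exact h3
              have hm_3 : 2 * T.m x0 + -4 * T.m x3 = 0 := by
                have h := hrow_3
                rw [ca_3_0, hz_3_1, hz_3_2, ca_3_3] at h
                have h2 : T.w x0 * (2 * T.m x0 + -4 * T.m x3) = 0 := by linarith only [h]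
                rcases mul_eq_zero.mp h2 with h3 | h3
                · exact absurd h3 (hwp _).ne'
                · exact h3
              have cmu_0 : T.m x0 = 2 * T.m x1 := by linarith only [hm_0, hm_1, hm_2, hm_3]
              have cmu_1 : T.m x1 = T.m x1 := rfl
              have cmu_2 : T.m x2 = T.m x1 := by linarith only [hm_0, hm_1, hm_2, hm_3]
              have cmu_3 : T.m x3 = T.m x1 := by linarith only [hm_0, hm_1, hm_2, hm_3]
              have hinjσ : Function.Injective ![x0, x1, x2, x3] := NT.inj4 _ _ _ _ hne_0_1 hne_0_2 hne_0_3 hne_1_2 hne_1_3 hne_2_3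
              exact ⟨Equiv.ofBijective ![x0, x1, x2, x3] ⟨hinjσ, Finite.surjective_of_injective hinjσ⟩, T.m x1, T.w x0, Or.inr (Or.inr (Or.inr (Or.inr (Or.inl ⟨cmu_0, cmu_1, cmu_2, cmu_3, cw_0, cw_1, cw_2, cw_3, ca_0_0, ca_0_1, ca_0_2, ca_0_3, ca_1_1, hz_1_2, hz_1_3, ca_2_2, hz_2_3, ca_3_3⟩))))⟩
            · exfalso
              refine NT.cert3 T x0 x1 x3 hne_0_1 hne_0_3 hne_1_3 (by norm_num) 2 1 1 (by norm_num) (by norm_num) (by norm_num) ?_ ?_ ?_
              · linarith only [hd x0, hwp x0, hx_0_1.ge, hx_0_3]
              · linarith only [hd x1, hwp x1, hx_1_0.ge, hnn x1 x3 hne_1_3]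
              · linarith only [hd x3, hwp x3, hl_3_0, hnn x3 x1 hne_1_3.symm]
          · obtain ⟨heq_0, heq_1, heq_2, heq_3⟩ := NT.harm4 T x0 x1 x2 x3 hne_0_1 hne_0_2 hne_0_3 hne_1_2 hne_1_3 hne_2_3 2 1 2 1
              (by linarith only [hd x0, hx_0_1.ge, hx_0_2.ge, hl_0_3])
              (by linarith only [hd x1, hx_1_0.ge, hz_1_2, hz_1_3])
              (by linarith only [hd x2, hx_2_0.ge, hz_2_1, hz_2_3])
              (by linarith only [hd x3, hl_3_0, hz_3_1, hz_3_2])
            have hx_0_3 : T.a x0 x3 = T.w x0 := by linarith only [heq_0, hwp x0, hd x0, hx_0_1.ge, hx_0_2.ge, hl_0_3]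
            have hx_3_0 : T.a x3 x0 = T.w x3 := by linarith only [heq_3, hwp x3, hd x3, hl_3_0, hz_3_1, hz_3_2]
            have cw_2 : T.w x2 = T.w x2 := rfl
            have cw_0 : T.w x0 = 2 * T.w x2 := by linarith only [cw_2, hx_2_0, hx_0_2, hs_0_2]
            have cw_1 : T.w x1 = 2 * T.w x2 := by linarith only [cw_0, hx_0_1, hx_1_0, hs_0_1]
            have cw_3 : T.w x3 = 2 * T.w x2 := by linarith only [cw_0, hx_0_3, hx_3_0, hs_0_3]
            have ca_0_0 : T.a x0 x0 = -4 * T.w x2 := by linarith only [hd x0, cw_0]
            have ca_0_1 : T.a x0 x1 = 2 * T.w x2 := by linarith only [hx_0_1, cw_0]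
            have ca_0_2 : T.a x0 x2 = 2 * T.w x2 := by linarith only [hx_0_2, cw_0]
            have ca_0_3 : T.a x0 x3 = 2 * T.w x2 := by linarith only [hx_0_3, cw_0]
            have ca_1_0 : T.a x1 x0 = 2 * T.w x2 := by linarith only [hx_1_0, cw_1]
            have ca_1_1 : T.a x1 x1 = -4 * T.w x2 := by linarith only [hd x1, cw_1]
            have ca_2_0 : T.a x2 x0 = 2 * T.w x2 := by linarith only [hx_2_0, cw_2]
            have ca_2_2 : T.a x2 x2 = -2 * T.w x2 := by linarith only [hd x2, cw_2]
            have ca_3_0 : T.a x3 x0 = 2 * T.w x2 := by linarith only [hx_3_0, cw_3]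
            have ca_3_3 : T.a x3 x3 = -4 * T.w x2 := by linarith only [hd x3, cw_3]
            have hm_0 : -4 * T.m x0 + 2 * T.m x1 + 2 * T.m x2 + 2 * T.m x3 = 0 := by
              have h := hrow_0
              rw [ca_0_0, ca_0_1, ca_0_2, ca_0_3] at h
              have h2 : T.w x2 * (-4 * T.m x0 + 2 * T.m x1 + 2 * T.m x2 + 2 * T.m x3) = 0 := by linarith only [h]
              rcases mul_eq_zero.mp h2 with h3 | h3
              · exact absurd h3 (hwp _).ne'
              · exact h3
            have hm_1 : 2 * T.m x0 + -4 * T.m x1 = 0 := by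
              have h := hrow_1
              rw [ca_1_0, ca_1_1, hz_1_2, hz_1_3] at h
              have h2 : T.w x2 * (2 * T.m x0 + -4 * T.m x1) = 0 := by linarith only [h]
              rcases mul_eq_zero.mp h2 with h3 | h3
              · exact absurd h3 (hwp _).ne'
              · exact h3
            have hm_2 : 2 * T.m x0 + -2 * T.m x2 = 0 := by
              have h := hrow_2
              rw [ca_2_0, hz_2_1, ca_2_2, hz_2_3] at h
              have h2 : T.w x2 * (2 * T.m x0 + -2 * T.m x2) = 0 := by linarith only [h]
              rcases mul_eq_zero.mp h2 with h3 | h3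
              · exact absurd h3 (hwp _).ne'
              · exact h3
            have hm_3 : 2 * T.m x0 + -4 * T.m x3 = 0 := by
              have h := hrow_3
              rw [ca_3_0, hz_3_1, hz_3_2, ca_3_3] at h
              have h2 : T.w x2 * (2 * T.m x0 + -4 * T.m x3) = 0 := by linarith only [h]
              rcases mul_eq_zero.mp h2 with h3 | h3
              · exact absurd h3 (hwp _).ne'
              · exact h3
            have cmu_0 : T.m x0 = 2 * T.m x1 := by linarith only [hm_0, hm_1, hm_2, hm_3]
            have cmu_1 : T.m x1 = T.m x1 := rfl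
            have cmu_2 : T.m x2 = 2 * T.m x1 := by linarith only [hm_0, hm_1, hm_2, hm_3]
            have cmu_3 : T.m x3 = T.m x1 := by linarith only [hm_0, hm_1, hm_2, hm_3]
            have hinjσ : Function.Injective ![x0, x1, x3, x2] := NT.inj4 _ _ _ _ hne_0_1 hne_0_3 hne_0_2 hne_1_3 hne_1_2 hne_2_3.symm
            exact ⟨Equiv.ofBijective ![x0, x1, x3, x2] ⟨hinjσ, Finite.surjective_of_injective hinjσ⟩, T.m x1, T.w x2, Or.inr (Or.inr (Or.inr (Or.inr (Or.inr (⟨cmu_0, cmu_1, cmu_3, cmu_2, cw_0, cw_1, cw_3, cw_2, ca_0_0, ca_0_1, ca_0_3, ca_0_2, ca_1_1, hz_1_3, hz_1_2, ca_3_3, hz_3_2, ca_2_2⟩)))))⟩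
          · exfalso
            refine NT.cert3 T x0 x1 x2 hne_0_1 hne_0_2 hne_1_2 (by norm_num) 2 1 3 (by norm_num) (by norm_num) (by norm_num) ?_ ?_ ?_
            · linarith only [hd x0, hwp x0, hx_0_1.ge, hx_0_2.ge]
            · linarith only [hd x1, hwp x1, hx_1_0.ge, hnn x1 x2 hne_1_2]
            · linarith only [hd x2, hwp x2, hx_2_0, hnn x2 x1 hne_1_2.symm]
        · obtain ⟨heq_0, heq_1, heq_2, heq_3⟩ := NT.harm4 T x0 x1 x2 x3 hne_0_1 hne_0_2 hne_0_3 hne_1_2 hne_1_3 hne_2_3 2 1 1 1
            (by linarith only [hd x0, hx_0_1.ge, hx_0_2.ge, hl_0_3])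
            (by linarith only [hd x1, hx_1_0.ge, hz_1_2, hz_1_3])
            (by linarith only [hd x2, hl_2_0, hz_2_1, hz_2_3])
            (by linarith only [hd x3, hl_3_0, hz_3_1, hz_3_2])
          have hx_2_0 : T.a x2 x0 = T.w x2 := by linarith only [heq_2, hwp x2, hd x2, hl_2_0, hz_2_1, hz_2_3]
          have hx_0_3 : T.a x0 x3 = T.w x0 := by linarith only [heq_0, hwp x0, hd x0, hx_0_1.ge, hx_0_2.ge, hl_0_3]
          have hx_3_0 : T.a x3 x0 = T.w x3 := by linarith only [heq_3, hwp x3, hd x3, hl_3_0, hz_3_1, hz_3_2]
          have cw_0 : T.w x0 = T.w x0 := rfl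
          have cw_1 : T.w x1 = T.w x0 := by linarith only [cw_0, hx_0_1, hx_1_0, hs_0_1]
          have cw_2 : T.w x2 = 2 * T.w x0 := by linarith only [cw_0, hx_0_2, hx_2_0, hs_0_2]
          have cw_3 : T.w x3 = T.w x0 := by linarith only [cw_0, hx_0_3, hx_3_0, hs_0_3]
          have ca_0_0 : T.a x0 x0 = -2 * T.w x0 := by linarith only [hd x0, cw_0]
          have ca_0_1 : T.a x0 x1 = T.w x0 := by linarith only [hx_0_1, cw_0]
          have ca_0_2 : T.a x0 x2 = 2 * T.w x0 := by linarith only [hx_0_2, cw_0]
          have ca_0_3 : T.a x0 x3 = T.w x0 := by linarith only [hx_0_3, cw_0]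
          have ca_1_0 : T.a x1 x0 = T.w x0 := by linarith only [hx_1_0, cw_1]
          have ca_1_1 : T.a x1 x1 = -2 * T.w x0 := by linarith only [hd x1, cw_1]
          have ca_2_0 : T.a x2 x0 = 2 * T.w x0 := by linarith only [hx_2_0, cw_2]
          have ca_2_2 : T.a x2 x2 = -4 * T.w x0 := by linarith only [hd x2, cw_2]
          have ca_3_0 : T.a x3 x0 = T.w x0 := by linarith only [hx_3_0, cw_3]
          have ca_3_3 : T.a x3 x3 = -2 * T.w x0 := by linarith only [hd x3, cw_3]
          have hm_0 : -2 * T.m x0 + 1 * T.m x1 + 2 * T.m x2 + 1 * T.m x3 = 0 := by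
            have h := hrow_0
            rw [ca_0_0, ca_0_1, ca_0_2, ca_0_3] at h
            have h2 : T.w x0 * (-2 * T.m x0 + 1 * T.m x1 + 2 * T.m x2 + 1 * T.m x3) = 0 := by linarith only [h]
            rcases mul_eq_zero.mp h2 with h3 | h3
            · exact absurd h3 (hwp _).ne'
            · exact h3
          have hm_1 : 1 * T.m x0 + -2 * T.m x1 = 0 := by
            have h := hrow_1
            rw [ca_1_0, ca_1_1, hz_1_2, hz_1_3] at h
            have h2 : T.w x0 * (1 * T.m x0 + -2 * T.m x1) = 0 := by linarith only [h]
            rcases mul_eq_zero.mp h2 with h3 | h3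
            · exact absurd h3 (hwp _).ne'
            · exact h3
          have hm_2 : 2 * T.m x0 + -4 * T.m x2 = 0 := by
            have h := hrow_2
            rw [ca_2_0, hz_2_1, ca_2_2, hz_2_3] at h
            have h2 : T.w x0 * (2 * T.m x0 + -4 * T.m x2) = 0 := by linarith only [h]
            rcases mul_eq_zero.mp h2 with h3 | h3
            · exact absurd h3 (hwp _).ne'
            · exact h3
          have hm_3 : 1 * T.m x0 + -2 * T.m x3 = 0 := by
            have h := hrow_3
            rw [ca_3_0, hz_3_1, hz_3_2, ca_3_3] at h
            have h2 : T.w x0 * (1 * T.m x0 + -2 * T.m x3) = 0 := by linarith only [h]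
            rcases mul_eq_zero.mp h2 with h3 | h3
            · exact absurd h3 (hwp _).ne'
            · exact h3
          have cmu_0 : T.m x0 = 2 * T.m x1 := by linarith only [hm_0, hm_1, hm_2, hm_3]
          have cmu_1 : T.m x1 = T.m x1 := rfl
          have cmu_2 : T.m x2 = T.m x1 := by linarith only [hm_0, hm_1, hm_2, hm_3]
          have cmu_3 : T.m x3 = T.m x1 := by linarith only [hm_0, hm_1, hm_2, hm_3]
          have hinjσ : Function.Injective ![x0, x1, x3, x2] := NT.inj4 _ _ _ _ hne_0_1 hne_0_3 hne_0_2 hne_1_3 hne_1_2 hne_2_3.symm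
          exact ⟨Equiv.ofBijective ![x0, x1, x3, x2] ⟨hinjσ, Finite.surjective_of_injective hinjσ⟩, T.m x1, T.w x0, Or.inr (Or.inr (Or.inr (Or.inr (Or.inl ⟨cmu_0, cmu_1, cmu_3, cmu_2, cw_0, cw_1, cw_3, cw_2, ca_0_0, ca_0_1, ca_0_3, ca_0_2, ca_1_1, hz_1_3, hz_1_2, ca_3_3, hz_3_2, ca_2_2⟩))))⟩
        · exfalso
          refine NT.cert3 T x0 x1 x2 hne_0_1 hne_0_2 hne_1_2 (by norm_num) 2 1 1 (by norm_num) (by norm_num) (by norm_num) ?_ ?_ ?_
          · linarith only [hd x0, hwp x0, hx_0_1.ge, hx_0_2]
          · linarith only [hd x1, hwp x1, hx_1_0.ge, hnn x1 x2 hne_1_2]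
          · linarith only [hd x2, hwp x2, hl_2_0, hnn x2 x1 hne_1_2.symm]
      · obtain ⟨heq_0, heq_1, heq_2, heq_3⟩ := NT.harm4 T x0 x1 x2 x3 hne_0_1 hne_0_2 hne_0_3 hne_1_2 hne_1_3 hne_2_3 2 2 1 1
          (by linarith only [hd x0, hx_0_1.ge, hl_0_2, hl_0_3])
          (by linarith only [hd x1, hx_1_0.ge, hz_1_2, hz_1_3])
          (by linarith only [hd x2, hl_2_0, hz_2_1, hz_2_3])
          (by linarith only [hd x3, hl_3_0, hz_3_1, hz_3_2])
        have hx_0_2 : T.a x0 x2 = T.w x0 := by linarith only [heq_0, hwp x0, hd x0, hx_0_1.ge, hl_0_2, hl_0_3]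
        have hx_2_0 : T.a x2 x0 = T.w x2 := by linarith only [heq_2, hwp x2, hd x2, hl_2_0, hz_2_1, hz_2_3]
        have hx_0_3 : T.a x0 x3 = T.w x0 := by linarith only [heq_0, hwp x0, hd x0, hx_0_1.ge, hl_0_2, hl_0_3]
        have hx_3_0 : T.a x3 x0 = T.w x3 := by linarith only [heq_3, hwp x3, hd x3, hl_3_0, hz_3_1, hz_3_2]
        have cw_1 : T.w x1 = T.w x1 := rfl
        have cw_0 : T.w x0 = 2 * T.w x1 := by linarith only [cw_1, hx_1_0, hx_0_1, hs_0_1]
        have cw_2 : T.w x2 = 2 * T.w x1 := by linarith only [cw_0, hx_0_2, hx_2_0, hs_0_2]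
        have cw_3 : T.w x3 = 2 * T.w x1 := by linarith only [cw_0, hx_0_3, hx_3_0, hs_0_3]
        have ca_0_0 : T.a x0 x0 = -4 * T.w x1 := by linarith only [hd x0, cw_0]
        have ca_0_1 : T.a x0 x1 = 2 * T.w x1 := by linarith only [hx_0_1, cw_0]
        have ca_0_2 : T.a x0 x2 = 2 * T.w x1 := by linarith only [hx_0_2, cw_0]
        have ca_0_3 : T.a x0 x3 = 2 * T.w x1 := by linarith only [hx_0_3, cw_0]
        have ca_1_0 : T.a x1 x0 = 2 * T.w x1 := by linarith only [hx_1_0, cw_1]
        have ca_1_1 : T.a x1 x1 = -2 * T.w x1 := by linarith only [hd x1, cw_1]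
        have ca_2_0 : T.a x2 x0 = 2 * T.w x1 := by linarith only [hx_2_0, cw_2]
        have ca_2_2 : T.a x2 x2 = -4 * T.w x1 := by linarith only [hd x2, cw_2]
        have ca_3_0 : T.a x3 x0 = 2 * T.w x1 := by linarith only [hx_3_0, cw_3]
        have ca_3_3 : T.a x3 x3 = -4 * T.w x1 := by linarith only [hd x3, cw_3]
        have hm_0 : -4 * T.m x0 + 2 * T.m x1 + 2 * T.m x2 + 2 * T.m x3 = 0 := by
          have h := hrow_0
          rw [ca_0_0, ca_0_1, ca_0_2, ca_0_3] at h
          have h2 : T.w x1 * (-4 * T.m x0 + 2 * T.m x1 + 2 * T.m x2 + 2 * T.m x3) = 0 := by linarith only [h]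
          rcases mul_eq_zero.mp h2 with h3 | h3
          · exact absurd h3 (hwp _).ne'
          · exact h3
        have hm_1 : 2 * T.m x0 + -2 * T.m x1 = 0 := by
          have h := hrow_1
          rw [ca_1_0, ca_1_1, hz_1_2, hz_1_3] at h
          have h2 : T.w x1 * (2 * T.m x0 + -2 * T.m x1) = 0 := by linarith only [h]
          rcases mul_eq_zero.mp h2 with h3 | h3
          · exact absurd h3 (hwp _).ne'
          · exact h3
        have hm_2 : 2 * T.m x0 + -4 * T.m x2 = 0 := by
          have h := hrow_2
          rw [ca_2_0, hz_2_1, ca_2_2, hz_2_3] at h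
          have h2 : T.w x1 * (2 * T.m x0 + -4 * T.m x2) = 0 := by linarith only [h]
          rcases mul_eq_zero.mp h2 with h3 | h3
          · exact absurd h3 (hwp _).ne'
          · exact h3
        have hm_3 : 2 * T.m x0 + -4 * T.m x3 = 0 := by
          have h := hrow_3
          rw [ca_3_0, hz_3_1, hz_3_2, ca_3_3] at h
          have h2 : T.w x1 * (2 * T.m x0 + -4 * T.m x3) = 0 := by linarith only [h]
          rcases mul_eq_zero.mp h2 with h3 | h3
          · exact absurd h3 (hwp _).ne'
          · exact h3
        have cmu_0 : T.m x0 = 2 * T.m x2 := by linarith only [hm_0, hm_1, hm_2, hm_3]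
        have cmu_1 : T.m x1 = 2 * T.m x2 := by linarith only [hm_0, hm_1, hm_2, hm_3]
        have cmu_2 : T.m x2 = T.m x2 := rfl
        have cmu_3 : T.m x3 = T.m x2 := by linarith only [hm_0, hm_1, hm_2, hm_3]
        have hinjσ : Function.Injective ![x0, x2, x3, x1] := NT.inj4 _ _ _ _ hne_0_2 hne_0_3 hne_0_1 hne_2_3 hne_1_2.symm hne_1_3.symm
        exact ⟨Equiv.ofBijective ![x0, x2, x3, x1] ⟨hinjσ, Finite.surjective_of_injective hinjσ⟩, T.m x2, T.w x1, Or.inr (Or.inr (Or.inr (Or.inr (Or.inr (⟨cmu_0, cmu_2, cmu_3, cmu_1, cw_0, cw_2, cw_3, cw_1, ca_0_0, ca_0_2, ca_0_3, ca_0_1, ca_2_2, hz_2_3, hz_2_1, ca_3_3, hz_3_1, ca_1_1⟩)))))⟩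
      · exfalso
        refine NT.cert3 T x0 x1 x2 hne_0_1 hne_0_2 hne_1_2 (by norm_num) 2 3 1 (by norm_num) (by norm_num) (by norm_num) ?_ ?_ ?_
        · linarith only [hd x0, hwp x0, hx_0_1.ge, hl_0_2]
        · linarith only [hd x1, hwp x1, hx_1_0, hnn x1 x2 hne_1_2]
        · linarith only [hd x2, hwp x2, hl_2_0, hnn x2 x1 hne_1_2.symm]
    · obtain ⟨heq_0, heq_1, heq_2, heq_3⟩ := NT.harm4 T x0 x1 x2 x3 hne_0_1 hne_0_2 hne_0_3 hne_1_2 hne_1_3 hne_2_3 2 1 1 1
        (by linarith only [hd x0, hx_0_1.ge, hl_0_2, hl_0_3])
        (by linarith only [hd x1, hl_1_0, hz_1_2, hz_1_3])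
        (by linarith only [hd x2, hl_2_0, hz_2_1, hz_2_3])
        (by linarith only [hd x3, hl_3_0, hz_3_1, hz_3_2])
      have hx_1_0 : T.a x1 x0 = T.w x1 := by linarith only [heq_1, hwp x1, hd x1, hl_1_0, hz_1_2, hz_1_3]
      have hx_0_2 : T.a x0 x2 = T.w x0 := by linarith only [heq_0, hwp x0, hd x0, hx_0_1.ge, hl_0_2, hl_0_3]
      have hx_2_0 : T.a x2 x0 = T.w x2 := by linarith only [heq_2, hwp x2, hd x2, hl_2_0, hz_2_1, hz_2_3]
      have hx_0_3 : T.a x0 x3 = T.w x0 := by linarith only [heq_0, hwp x0, hd x0, hx_0_1.ge, hl_0_2, hl_0_3]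
      have hx_3_0 : T.a x3 x0 = T.w x3 := by linarith only [heq_3, hwp x3, hd x3, hl_3_0, hz_3_1, hz_3_2]
      have cw_0 : T.w x0 = T.w x0 := rfl
      have cw_1 : T.w x1 = 2 * T.w x0 := by linarith only [cw_0, hx_0_1, hx_1_0, hs_0_1]
      have cw_2 : T.w x2 = T.w x0 := by linarith only [cw_0, hx_0_2, hx_2_0, hs_0_2]
      have cw_3 : T.w x3 = T.w x0 := by linarith only [cw_0, hx_0_3, hx_3_0, hs_0_3]
      have ca_0_0 : T.a x0 x0 = -2 * T.w x0 := by linarith only [hd x0, cw_0]
      have ca_0_1 : T.a x0 x1 = 2 * T.w x0 := by linarith only [hx_0_1, cw_0]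
      have ca_0_2 : T.a x0 x2 = T.w x0 := by linarith only [hx_0_2, cw_0]
      have ca_0_3 : T.a x0 x3 = T.w x0 := by linarith only [hx_0_3, cw_0]
      have ca_1_0 : T.a x1 x0 = 2 * T.w x0 := by linarith only [hx_1_0, cw_1]
      have ca_1_1 : T.a x1 x1 = -4 * T.w x0 := by linarith only [hd x1, cw_1]
      have ca_2_0 : T.a x2 x0 = T.w x0 := by linarith only [hx_2_0, cw_2]
      have ca_2_2 : T.a x2 x2 = -2 * T.w x0 := by linarith only [hd x2, cw_2]
      have ca_3_0 : T.a x3 x0 = T.w x0 := by linarith only [hx_3_0, cw_3]
      have ca_3_3 : T.a x3 x3 = -2 * T.w x0 := by linarith only [hd x3, cw_3]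
      have hm_0 : -2 * T.m x0 + 2 * T.m x1 + 1 * T.m x2 + 1 * T.m x3 = 0 := by
        have h := hrow_0
        rw [ca_0_0, ca_0_1, ca_0_2, ca_0_3] at h
        have h2 : T.w x0 * (-2 * T.m x0 + 2 * T.m x1 + 1 * T.m x2 + 1 * T.m x3) = 0 := by linarith only [h]
        rcases mul_eq_zero.mp h2 with h3 | h3
        · exact absurd h3 (hwp _).ne'
        · exact h3
      have hm_1 : 2 * T.m x0 + -4 * T.m x1 = 0 := by
        have h := hrow_1
        rw [ca_1_0, ca_1_1, hz_1_2, hz_1_3] at h
        have h2 : T.w x0 * (2 * T.m x0 + -4 * T.m x1) = 0 := by linarith only [h]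
        rcases mul_eq_zero.mp h2 with h3 | h3
        · exact absurd h3 (hwp _).ne'
        · exact h3
      have hm_2 : 1 * T.m x0 + -2 * T.m x2 = 0 := by
        have h := hrow_2
        rw [ca_2_0, hz_2_1, ca_2_2, hz_2_3] at h
        have h2 : T.w x0 * (1 * T.m x0 + -2 * T.m x2) = 0 := by linarith only [h]
        rcases mul_eq_zero.mp h2 with h3 | h3
        · exact absurd h3 (hwp _).ne'
        · exact h3
      have hm_3 : 1 * T.m x0 + -2 * T.m x3 = 0 := by
        have h := hrow_3
        rw [ca_3_0, hz_3_1, hz_3_2, ca_3_3] at h
        have h2 : T.w x0 * (1 * T.m x0 + -2 * T.m x3) = 0 := by linarith only [h]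
        rcases mul_eq_zero.mp h2 with h3 | h3
        · exact absurd h3 (hwp _).ne'
        · exact h3
      have cmu_0 : T.m x0 = 2 * T.m x2 := by linarith only [hm_0, hm_1, hm_2, hm_3]
      have cmu_1 : T.m x1 = T.m x2 := by linarith only [hm_0, hm_1, hm_2, hm_3]
      have cmu_2 : T.m x2 = T.m x2 := rfl
      have cmu_3 : T.m x3 = T.m x2 := by linarith only [hm_0, hm_1, hm_2, hm_3]
      have hinjσ : Function.Injective ![x0, x2, x3, x1] := NT.inj4 _ _ _ _ hne_0_2 hne_0_3 hne_0_1 hne_2_3 hne_1_2.symm hne_1_3.symm
      exact ⟨Equiv.ofBijective ![x0, x2, x3, x1] ⟨hinjσ, Finite.surjective_of_injective hinjσ⟩, T.m x2, T.w x0, Or.inr (Or.inr (Or.inr (Or.inr (Or.inl ⟨cmu_0, cmu_2, cmu_3, cmu_1, cw_0, cw_2, cw_3, cw_1, ca_0_0, ca_0_2, ca_0_3, ca_0_1, ca_2_2, hz_2_3, hz_2_1, ca_3_3, hz_3_1, ca_1_1⟩))))⟩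
    · exfalso
      refine NT.cert3 T x0 x1 x2 hne_0_1 hne_0_2 hne_1_2 (by norm_num) 2 1 1 (by norm_num) (by norm_num) (by norm_num) ?_ ?_ ?_
      · linarith only [hd x0, hwp x0, hx_0_1, hl_0_2]
      · linarith only [hd x1, hwp x1, hl_1_0, hnn x1 x2 hne_1_2]
      · linarith only [hd x2, hwp x2, hl_2_0, hnn x2 x1 hne_1_2.symm]
  · by_cases hleaf : ∃ x y : Fin 4, x ≠ y ∧ T.a x y ≠ 0 ∧ ∀ z, T.a x z ≠ 0 → z = x ∨ z = y
    · obtain ⟨x0, x1, hne_0_1, hadj_0_1, hlf⟩ := hleaf
      have hadj_1_0 : T.a x1 x0 ≠ 0 := by rw [hsym]; exact hadj_0_1
      have hl_0_1 := NT.lb1 T _ _ hne_0_1 hadj_0_1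
      have hl_1_0 := NT.lb1 T _ _ hne_0_1.symm hadj_1_0
      have hs_0_1 : T.a x0 x1 = T.a x1 x0 := hsym _ _
      have hq_0 : ¬ ∃ y, (y ≠ x0 ∧ y ≠ x1) ∧ T.a x0 y ≠ 0 := by
        rintro ⟨y, ⟨h0, h1⟩, h⟩
        rcases hlf y h with e | e
        · exact h0 e
        · exact h1 e
      by_cases hq_1 : ∃ y, (y ≠ x0 ∧ y ≠ x1) ∧ T.a x1 y ≠ 0
      · obtain ⟨x2, ⟨hn0, hn1⟩, hadj_1_2⟩ := hq_1
        have hne_0_2 : x0 ≠ x2 := hn0.symm
        have hne_1_2 : x1 ≠ x2 := hn1.symm
        have hadj_2_1 : T.a x2 x1 ≠ 0 := by rw [hsym]; exact hadj_1_2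
        have hl_1_2 := NT.lb1 T _ _ hne_1_2 hadj_1_2
        have hl_2_1 := NT.lb1 T _ _ hne_1_2.symm hadj_2_1
        have hs_1_2 : T.a x1 x2 = T.a x2 x1 := hsym _ _
        have hz_0_2 : T.a x0 x2 = 0 := by
          by_contra h
          exact hq_0 ⟨x2, ⟨hne_0_2.symm, hne_1_2.symm⟩, h⟩
        have hz_2_0 : T.a x2 x0 = 0 := by rw [hsym]; exact hz_0_2
        by_cases hq_2 : ∃ y, (y ≠ x0 ∧ y ≠ x1 ∧ y ≠ x2) ∧ T.a x2 y ≠ 0
        · obtain ⟨x3, ⟨hn0, hn1, hn2⟩, hadj_2_3⟩ := hq_2
          have hne_0_3 : x0 ≠ x3 := hn0.symm
          have hne_1_3 : x1 ≠ x3 := hn1.symm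
          have hne_2_3 : x2 ≠ x3 := hn2.symm
          have hadj_3_2 : T.a x3 x2 ≠ 0 := by rw [hsym]; exact hadj_2_3
          have hl_2_3 := NT.lb1 T _ _ hne_2_3 hadj_2_3
          have hl_3_2 := NT.lb1 T _ _ hne_2_3.symm hadj_3_2
          have hs_2_3 : T.a x2 x3 = T.a x3 x2 := hsym _ _
          have hz_0_3 : T.a x0 x3 = 0 := by
            by_contra h
            exact hq_0 ⟨x3, ⟨hne_0_3.symm, hne_1_3.symm⟩, h⟩
          have hz_3_0 : T.a x3 x0 = 0 := by rw [hsym]; exact hz_0_3
          have hz_1_3 : T.a x1 x3 = 0 := by
            by_contra hadj_1_3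
            have hadj_3_1 : T.a x3 x1 ≠ 0 := by rw [hsym]; exact hadj_1_3
            have hl_1_3 := NT.lb1 T _ _ hne_1_3 hadj_1_3
            have hl_3_1 := NT.lb1 T _ _ hne_1_3.symm hadj_3_1
            have hs_1_3 : T.a x1 x3 = T.a x3 x1 := hsym _ _
            exact h3 ⟨x1, x0, x2, x3, hne_0_1.symm, hne_1_2, hne_1_3, hne_0_2, hne_0_3, hne_2_3, hadj_1_0, hadj_1_2, hadj_1_3⟩
          have hz_3_1 : T.a x3 x1 = 0 := by rw [hsym]; exact hz_1_3
          have hinj : Function.Injective ![x0, x1, x2, x3] := NT.inj4 _ _ _ _ hne_0_1 hne_0_2 hne_0_3 hne_1_2 hne_1_3 hne_2_3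
          have hrow_0 : T.a x0 x0 * T.m x0 + T.a x0 x1 * T.m x1 + T.a x0 x2 * T.m x2 + T.a x0 x3 * T.m x3 = 0 := by
            have h := NT.row_fun T _ hinj (0 : Fin 4)
            rw [Fin.sum_univ_four] at h
            exact h
          have hrow_1 : T.a x1 x0 * T.m x0 + T.a x1 x1 * T.m x1 + T.a x1 x2 * T.m x2 + T.a x1 x3 * T.m x3 = 0 := by
            have h := NT.row_fun T _ hinj (1 : Fin 4)
            rw [Fin.sum_univ_four] at h
            exact h
          have hrow_2 : T.a x2 x0 * T.m x0 + T.a x2 x1 * T.m x1 + T.a x2 x2 * T.m x2 + T.a x2 x3 * T.m x3 = 0 := by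
            have h := NT.row_fun T _ hinj (2 : Fin 4)
            rw [Fin.sum_univ_four] at h
            exact h
          have hrow_3 : T.a x3 x0 * T.m x0 + T.a x3 x1 * T.m x1 + T.a x3 x2 * T.m x2 + T.a x3 x3 * T.m x3 = 0 := by
            have h := NT.row_fun T _ hinj (3 : Fin 4)
            rw [Fin.sum_univ_four] at h
            exact h
          rcases NT.edge3 T x0 x1 hne_0_1 hadj_0_1 with hx_0_1 | hx_0_1 | hx_0_1
          · rcases NT.edge3 T x1 x0 hne_0_1.symm hadj_1_0 with hx_1_0 | hx_1_0 | hx_1_0
            · rcases NT.edge3 T x1 x2 hne_1_2 hadj_1_2 with hx_1_2 | hx_1_2 | hx_1_2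
              · rcases NT.edge3 T x2 x1 hne_1_2.symm hadj_2_1 with hx_2_1 | hx_2_1 | hx_2_1
                · rcases NT.edge3 T x2 x3 hne_2_3 hadj_2_3 with hx_2_3 | hx_2_3 | hx_2_3
                  · rcases NT.edge3 T x3 x2 hne_2_3.symm hadj_3_2 with hx_3_2 | hx_3_2 | hx_3_2
                    · have cw_0 : T.w x0 = T.w x0 := rfl
                      have cw_1 : T.w x1 = T.w x0 := by linarith only [cw_0, hx_0_1, hx_1_0, hs_0_1]
                      have cw_2 : T.w x2 = T.w x0 := by linarith only [cw_1, hx_1_2, hx_2_1, hs_1_2]
                      have cw_3 : T.w x3 = T.w x0 := by linarith only [cw_2, hx_2_3, hx_3_2, hs_2_3]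
                      have ca_0_0 : T.a x0 x0 = -2 * T.w x0 := by linarith only [hd x0, cw_0]
                      have ca_0_1 : T.a x0 x1 = T.w x0 := by linarith only [hx_0_1, cw_0]
                      have ca_1_0 : T.a x1 x0 = T.w x0 := by linarith only [hx_1_0, cw_1]
                      have ca_1_1 : T.a x1 x1 = -2 * T.w x0 := by linarith only [hd x1, cw_1]
                      have ca_1_2 : T.a x1 x2 = T.w x0 := by linarith only [hx_1_2, cw_1]
                      have ca_2_1 : T.a x2 x1 = T.w x0 := by linarith only [hx_2_1, cw_2]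
                      have ca_2_2 : T.a x2 x2 = -2 * T.w x0 := by linarith only [hd x2, cw_2]
                      have ca_2_3 : T.a x2 x3 = T.w x0 := by linarith only [hx_2_3, cw_2]
                      have ca_3_2 : T.a x3 x2 = T.w x0 := by linarith only [hx_3_2, cw_3]
                      have ca_3_3 : T.a x3 x3 = -2 * T.w x0 := by linarith only [hd x3, cw_3]
                      have hm_0 : -2 * T.m x0 + 1 * T.m x1 = 0 := by
                        have h := hrow_0
                        rw [ca_0_0, ca_0_1, hz_0_2, hz_0_3] at h
                        have h2 : T.w x0 * (-2 * T.m x0 + 1 * T.m x1) = 0 := by linarith only [h]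
                        rcases mul_eq_zero.mp h2 with h3 | h3
                        · exact absurd h3 (hwp _).ne'
                        · exact h3
                      have hm_1 : 1 * T.m x0 + -2 * T.m x1 + 1 * T.m x2 = 0 := by
                        have h := hrow_1
                        rw [ca_1_0, ca_1_1, ca_1_2, hz_1_3] at h
                        have h2 : T.w x0 * (1 * T.m x0 + -2 * T.m x1 + 1 * T.m x2) = 0 := by linarith only [h]
                        rcases mul_eq_zero.mp h2 with h3 | h3
                        · exact absurd h3 (hwp _).ne'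
                        · exact h3
                      have hm_2 : 1 * T.m x1 + -2 * T.m x2 + 1 * T.m x3 = 0 := by
                        have h := hrow_2
                        rw [hz_2_0, ca_2_1, ca_2_2, ca_2_3] at h
                        have h2 : T.w x0 * (1 * T.m x1 + -2 * T.m x2 + 1 * T.m x3) = 0 := by linarith only [h]
                        rcases mul_eq_zero.mp h2 with h3 | h3
                        · exact absurd h3 (hwp _).ne'
                        · exact h3
                      have hm_3 : 1 * T.m x2 + -2 * T.m x3 = 0 := by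
                        have h := hrow_3
                        rw [hz_3_0, hz_3_1, ca_3_2, ca_3_3] at h
                        have h2 : T.w x0 * (1 * T.m x2 + -2 * T.m x3) = 0 := by linarith only [h]
                        rcases mul_eq_zero.mp h2 with h3 | h3
                        · exact absurd h3 (hwp _).ne'
                        · exact h3
                      exfalso
                      linarith only [hm_0, hm_1, hm_2, hm_3, hmp x0, hmp x1, hmp x2, hmp x3]
                    · have cw_3 : T.w x3 = T.w x3 := rfl
                      have cw_2 : T.w x2 = 2 * T.w x3 := by linarith only [cw_3, hx_3_2, hx_2_3, hs_2_3]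
                      have cw_1 : T.w x1 = 2 * T.w x3 := by linarith only [cw_2, hx_2_1, hx_1_2, hs_1_2]
                      have cw_0 : T.w x0 = 2 * T.w x3 := by linarith only [cw_1, hx_1_0, hx_0_1, hs_0_1]
                      have ca_0_0 : T.a x0 x0 = -4 * T.w x3 := by linarith only [hd x0, cw_0]
                      have ca_0_1 : T.a x0 x1 = 2 * T.w x3 := by linarith only [hx_0_1, cw_0]
                      have ca_1_0 : T.a x1 x0 = 2 * T.w x3 := by linarith only [hx_1_0, cw_1]
                      have ca_1_1 : T.a x1 x1 = -4 * T.w x3 := by linarith only [hd x1, cw_1]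
                      have ca_1_2 : T.a x1 x2 = 2 * T.w x3 := by linarith only [hx_1_2, cw_1]
                      have ca_2_1 : T.a x2 x1 = 2 * T.w x3 := by linarith only [hx_2_1, cw_2]
                      have ca_2_2 : T.a x2 x2 = -4 * T.w x3 := by linarith only [hd x2, cw_2]
                      have ca_2_3 : T.a x2 x3 = 2 * T.w x3 := by linarith only [hx_2_3, cw_2]
                      have ca_3_2 : T.a x3 x2 = 2 * T.w x3 := by linarith only [hx_3_2, cw_3]
                      have ca_3_3 : T.a x3 x3 = -2 * T.w x3 := by linarith only [hd x3, cw_3]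
                      have hm_0 : -4 * T.m x0 + 2 * T.m x1 = 0 := by
                        have h := hrow_0
                        rw [ca_0_0, ca_0_1, hz_0_2, hz_0_3] at h
                        have h2 : T.w x3 * (-4 * T.m x0 + 2 * T.m x1) = 0 := by linarith only [h]
                        rcases mul_eq_zero.mp h2 with h3 | h3
                        · exact absurd h3 (hwp _).ne'
                        · exact h3
                      have hm_1 : 2 * T.m x0 + -4 * T.m x1 + 2 * T.m x2 = 0 := by
                        have h := hrow_1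
                        rw [ca_1_0, ca_1_1, ca_1_2, hz_1_3] at h
                        have h2 : T.w x3 * (2 * T.m x0 + -4 * T.m x1 + 2 * T.m x2) = 0 := by linarith only [h]
                        rcases mul_eq_zero.mp h2 with h3 | h3
                        · exact absurd h3 (hwp _).ne'
                        · exact h3
                      have hm_2 : 2 * T.m x1 + -4 * T.m x2 + 2 * T.m x3 = 0 := by
                        have h := hrow_2
                        rw [hz_2_0, ca_2_1, ca_2_2, ca_2_3] at h
                        have h2 : T.w x3 * (2 * T.m x1 + -4 * T.m x2 + 2 * T.m x3) = 0 := by linarith only [h]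
                        rcases mul_eq_zero.mp h2 with h3 | h3
                        · exact absurd h3 (hwp _).ne'
                        · exact h3
                      have hm_3 : 2 * T.m x2 + -2 * T.m x3 = 0 := by
                        have h := hrow_3
                        rw [hz_3_0, hz_3_1, ca_3_2, ca_3_3] at h
                        have h2 : T.w x3 * (2 * T.m x2 + -2 * T.m x3) = 0 := by linarith only [h]
                        rcases mul_eq_zero.mp h2 with h3 | h3
                        · exact absurd h3 (hwp _).ne'
                        · exact h3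
                      exfalso
                      linarith only [hm_0, hm_1, hm_2, hm_3, hmp x0, hmp x1, hmp x2, hmp x3]
                    · exfalso
                      refine NT.cert3 T x1 x2 x3 hne_1_2 hne_1_3 hne_2_3 (by norm_num) 1 2 3 (by norm_num) (by norm_num) (by norm_num) ?_ ?_ ?_
                      · linarith only [hd x1, hwp x1, hx_1_2.ge, hnn x1 x3 hne_1_3]
                      · linarith only [hd x2, hwp x2, hx_2_1.ge, hx_2_3.ge]
                      · linarith only [hd x3, hwp x3, hnn x3 x1 hne_1_3.symm, hx_3_2]
                  · rcases NT.edge3 T x3 x2 hne_2_3.symm hadj_3_2 with hx_3_2 | hx_3_2 | hx_3_2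
                    · have cw_0 : T.w x0 = T.w x0 := rfl
                      have cw_1 : T.w x1 = T.w x0 := by linarith only [cw_0, hx_0_1, hx_1_0, hs_0_1]
                      have cw_2 : T.w x2 = T.w x0 := by linarith only [cw_1, hx_1_2, hx_2_1, hs_1_2]
                      have cw_3 : T.w x3 = 2 * T.w x0 := by linarith only [cw_2, hx_2_3, hx_3_2, hs_2_3]
                      have ca_0_0 : T.a x0 x0 = -2 * T.w x0 := by linarith only [hd x0, cw_0]
                      have ca_0_1 : T.a x0 x1 = T.w x0 := by linarith only [hx_0_1, cw_0]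
                      have ca_1_0 : T.a x1 x0 = T.w x0 := by linarith only [hx_1_0, cw_1]
                      have ca_1_1 : T.a x1 x1 = -2 * T.w x0 := by linarith only [hd x1, cw_1]
                      have ca_1_2 : T.a x1 x2 = T.w x0 := by linarith only [hx_1_2, cw_1]
                      have ca_2_1 : T.a x2 x1 = T.w x0 := by linarith only [hx_2_1, cw_2]
                      have ca_2_2 : T.a x2 x2 = -2 * T.w x0 := by linarith only [hd x2, cw_2]
                      have ca_2_3 : T.a x2 x3 = 2 * T.w x0 := by linarith only [hx_2_3, cw_2]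
                      have ca_3_2 : T.a x3 x2 = 2 * T.w x0 := by linarith only [hx_3_2, cw_3]
                      have ca_3_3 : T.a x3 x3 = -4 * T.w x0 := by linarith only [hd x3, cw_3]
                      have hm_0 : -2 * T.m x0 + 1 * T.m x1 = 0 := by
                        have h := hrow_0
                        rw [ca_0_0, ca_0_1, hz_0_2, hz_0_3] at h
                        have h2 : T.w x0 * (-2 * T.m x0 + 1 * T.m x1) = 0 := by linarith only [h]
                        rcases mul_eq_zero.mp h2 with h3 | h3
                        · exact absurd h3 (hwp _).ne'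
                        · exact h3
                      have hm_1 : 1 * T.m x0 + -2 * T.m x1 + 1 * T.m x2 = 0 := by
                        have h := hrow_1
                        rw [ca_1_0, ca_1_1, ca_1_2, hz_1_3] at h
                        have h2 : T.w x0 * (1 * T.m x0 + -2 * T.m x1 + 1 * T.m x2) = 0 := by linarith only [h]
                        rcases mul_eq_zero.mp h2 with h3 | h3
                        · exact absurd h3 (hwp _).ne'
                        · exact h3
                      have hm_2 : 1 * T.m x1 + -2 * T.m x2 + 2 * T.m x3 = 0 := by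
                        have h := hrow_2
                        rw [hz_2_0, ca_2_1, ca_2_2, ca_2_3] at h
                        have h2 : T.w x0 * (1 * T.m x1 + -2 * T.m x2 + 2 * T.m x3) = 0 := by linarith only [h]
                        rcases mul_eq_zero.mp h2 with h3 | h3
                        · exact absurd h3 (hwp _).ne'
                        · exact h3
                      have hm_3 : 2 * T.m x2 + -4 * T.m x3 = 0 := by
                        have h := hrow_3
                        rw [hz_3_0, hz_3_1, ca_3_2, ca_3_3] at h
                        have h2 : T.w x0 * (2 * T.m x2 + -4 * T.m x3) = 0 := by linarith only [h]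
                        rcases mul_eq_zero.mp h2 with h3 | h3
                        · exact absurd h3 (hwp _).ne'
                        · exact h3
                      exfalso
                      linarith only [hm_0, hm_1, hm_2, hm_3, hmp x0, hmp x1, hmp x2, hmp x3]
                    · exfalso
                      refine NT.cert2 T x2 x3 hne_2_3 (by norm_num) 1 1 (by norm_num) (by norm_num) ?_ ?_
                      · linarith only [hd x2, hwp x2, hx_2_3.ge]
                      · linarith only [hd x3, hwp x3, hx_3_2.ge]
                    · exfalso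
                      refine NT.cert2 T x2 x3 hne_2_3 (by norm_num) 1 1 (by norm_num) (by norm_num) ?_ ?_
                      · linarith only [hd x2, hwp x2, hx_2_3.ge]
                      · linarith only [hd x3, hwp x3, hx_3_2]
                  · exfalso
                    refine NT.cert3 T x1 x2 x3 hne_1_2 hne_1_3 hne_2_3 (by norm_num) 1 2 1 (by norm_num) (by norm_num) (by norm_num) ?_ ?_ ?_
                    · linarith only [hd x1, hwp x1, hx_1_2.ge, hnn x1 x3 hne_1_3]
                    · linarith only [hd x2, hwp x2, hx_2_1.ge, hx_2_3]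
                    · linarith only [hd x3, hwp x3, hnn x3 x1 hne_1_3.symm, hl_3_2]
                · rcases NT.edge3 T x2 x3 hne_2_3 hadj_2_3 with hx_2_3 | hx_2_3 | hx_2_3
                  · rcases NT.edge3 T x3 x2 hne_2_3.symm hadj_3_2 with hx_3_2 | hx_3_2 | hx_3_2
                    · have cw_2 : T.w x2 = T.w x2 := rfl
                      have cw_1 : T.w x1 = 2 * T.w x2 := by linarith only [cw_2, hx_2_1, hx_1_2, hs_1_2]
                      have cw_3 : T.w x3 = T.w x2 := by linarith only [cw_2, hx_2_3, hx_3_2, hs_2_3]
                      have cw_0 : T.w x0 = 2 * T.w x2 := by linarith only [cw_1, hx_1_0, hx_0_1, hs_0_1]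
                      have ca_0_0 : T.a x0 x0 = -4 * T.w x2 := by linarith only [hd x0, cw_0]
                      have ca_0_1 : T.a x0 x1 = 2 * T.w x2 := by linarith only [hx_0_1, cw_0]
                      have ca_1_0 : T.a x1 x0 = 2 * T.w x2 := by linarith only [hx_1_0, cw_1]
                      have ca_1_1 : T.a x1 x1 = -4 * T.w x2 := by linarith only [hd x1, cw_1]
                      have ca_1_2 : T.a x1 x2 = 2 * T.w x2 := by linarith only [hx_1_2, cw_1]
                      have ca_2_1 : T.a x2 x1 = 2 * T.w x2 := by linarith only [hx_2_1, cw_2]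
                      have ca_2_2 : T.a x2 x2 = -2 * T.w x2 := by linarith only [hd x2, cw_2]
                      have ca_2_3 : T.a x2 x3 = T.w x2 := by linarith only [hx_2_3, cw_2]
                      have ca_3_2 : T.a x3 x2 = T.w x2 := by linarith only [hx_3_2, cw_3]
                      have ca_3_3 : T.a x3 x3 = -2 * T.w x2 := by linarith only [hd x3, cw_3]
                      have hm_0 : -4 * T.m x0 + 2 * T.m x1 = 0 := by
                        have h := hrow_0
                        rw [ca_0_0, ca_0_1, hz_0_2, hz_0_3] at h
                        have h2 : T.w x2 * (-4 * T.m x0 + 2 * T.m x1) = 0 := by linarith only [h]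
                        rcases mul_eq_zero.mp h2 with h3 | h3
                        · exact absurd h3 (hwp _).ne'
                        · exact h3
                      have hm_1 : 2 * T.m x0 + -4 * T.m x1 + 2 * T.m x2 = 0 := by
                        have h := hrow_1
                        rw [ca_1_0, ca_1_1, ca_1_2, hz_1_3] at h
                        have h2 : T.w x2 * (2 * T.m x0 + -4 * T.m x1 + 2 * T.m x2) = 0 := by linarith only [h]
                        rcases mul_eq_zero.mp h2 with h3 | h3
                        · exact absurd h3 (hwp _).ne'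
                        · exact h3
                      have hm_2 : 2 * T.m x1 + -2 * T.m x2 + 1 * T.m x3 = 0 := by
                        have h := hrow_2
                        rw [hz_2_0, ca_2_1, ca_2_2, ca_2_3] at h
                        have h2 : T.w x2 * (2 * T.m x1 + -2 * T.m x2 + 1 * T.m x3) = 0 := by linarith only [h]
                        rcases mul_eq_zero.mp h2 with h3 | h3
                        · exact absurd h3 (hwp _).ne'
                        · exact h3
                      have hm_3 : 1 * T.m x2 + -2 * T.m x3 = 0 := by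
                        have h := hrow_3
                        rw [hz_3_0, hz_3_1, ca_3_2, ca_3_3] at h
                        have h2 : T.w x2 * (1 * T.m x2 + -2 * T.m x3) = 0 := by linarith only [h]
                        rcases mul_eq_zero.mp h2 with h3 | h3
                        · exact absurd h3 (hwp _).ne'
                        · exact h3
                      exfalso
                      linarith only [hm_0, hm_1, hm_2, hm_3, hmp x0, hmp x1, hmp x2, hmp x3]
                    · exfalso
                      refine NT.cert3 T x1 x2 x3 hne_1_2 hne_1_3 hne_2_3 (by norm_num) 1 2 2 (by norm_num) (by norm_num) (by norm_num) ?_ ?_ ?_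
                      · linarith only [hd x1, hwp x1, hx_1_2.ge, hnn x1 x3 hne_1_3]
                      · linarith only [hd x2, hwp x2, hx_2_1.ge, hx_2_3.ge]
                      · linarith only [hd x3, hwp x3, hnn x3 x1 hne_1_3.symm, hx_3_2.ge]
                    · exfalso
                      refine NT.cert3 T x1 x2 x3 hne_1_2 hne_1_3 hne_2_3 (by norm_num) 1 2 3 (by norm_num) (by norm_num) (by norm_num) ?_ ?_ ?_
                      · linarith only [hd x1, hwp x1, hx_1_2.ge, hnn x1 x3 hne_1_3]
                      · linarith only [hd x2, hwp x2, hx_2_1.ge, hx_2_3.ge]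
                      · linarith only [hd x3, hwp x3, hnn x3 x1 hne_1_3.symm, hx_3_2]
                  · exfalso
                    refine NT.cert3 T x1 x2 x3 hne_1_2 hne_1_3 hne_2_3 (by norm_num) 1 2 1 (by norm_num) (by norm_num) (by norm_num) ?_ ?_ ?_
                    · linarith only [hd x1, hwp x1, hx_1_2.ge, hnn x1 x3 hne_1_3]
                    · linarith only [hd x2, hwp x2, hx_2_1.ge, hx_2_3.ge]
                    · linarith only [hd x3, hwp x3, hnn x3 x1 hne_1_3.symm, hl_3_2]
                  · exfalso
                    refine NT.cert3 T x1 x2 x3 hne_1_2 hne_1_3 hne_2_3 (by norm_num) 1 2 1 (by norm_num) (by norm_num) (by norm_num) ?_ ?_ ?_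
                    · linarith only [hd x1, hwp x1, hx_1_2.ge, hnn x1 x3 hne_1_3]
                    · linarith only [hd x2, hwp x2, hx_2_1.ge, hx_2_3]
                    · linarith only [hd x3, hwp x3, hnn x3 x1 hne_1_3.symm, hl_3_2]
                · exfalso
                  refine NT.cert3 T x0 x1 x2 hne_0_1 hne_0_2 hne_1_2 (by norm_num) 1 2 3 (by norm_num) (by norm_num) (by norm_num) ?_ ?_ ?_
                  · linarith only [hd x0, hwp x0, hx_0_1.ge, hnn x0 x2 hne_0_2]
                  · linarith only [hd x1, hwp x1, hx_1_0.ge, hx_1_2.ge]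
                  · linarith only [hd x2, hwp x2, hnn x2 x0 hne_0_2.symm, hx_2_1]
              · rcases NT.edge3 T x2 x1 hne_1_2.symm hadj_2_1 with hx_2_1 | hx_2_1 | hx_2_1
                · rcases NT.edge3 T x2 x3 hne_2_3 hadj_2_3 with hx_2_3 | hx_2_3 | hx_2_3
                  · rcases NT.edge3 T x3 x2 hne_2_3.symm hadj_3_2 with hx_3_2 | hx_3_2 | hx_3_2
                    · have cw_0 : T.w x0 = T.w x0 := rfl
                      have cw_1 : T.w x1 = T.w x0 := by linarith only [cw_0, hx_0_1, hx_1_0, hs_0_1]
                      have cw_2 : T.w x2 = 2 * T.w x0 := by linarith only [cw_1, hx_1_2, hx_2_1, hs_1_2]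
                      have cw_3 : T.w x3 = 2 * T.w x0 := by linarith only [cw_2, hx_2_3, hx_3_2, hs_2_3]
                      have ca_0_0 : T.a x0 x0 = -2 * T.w x0 := by linarith only [hd x0, cw_0]
                      have ca_0_1 : T.a x0 x1 = T.w x0 := by linarith only [hx_0_1, cw_0]
                      have ca_1_0 : T.a x1 x0 = T.w x0 := by linarith only [hx_1_0, cw_1]
                      have ca_1_1 : T.a x1 x1 = -2 * T.w x0 := by linarith only [hd x1, cw_1]
                      have ca_1_2 : T.a x1 x2 = 2 * T.w x0 := by linarith only [hx_1_2, cw_1]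
                      have ca_2_1 : T.a x2 x1 = 2 * T.w x0 := by linarith only [hx_2_1, cw_2]
                      have ca_2_2 : T.a x2 x2 = -4 * T.w x0 := by linarith only [hd x2, cw_2]
                      have ca_2_3 : T.a x2 x3 = 2 * T.w x0 := by linarith only [hx_2_3, cw_2]
                      have ca_3_2 : T.a x3 x2 = 2 * T.w x0 := by linarith only [hx_3_2, cw_3]
                      have ca_3_3 : T.a x3 x3 = -4 * T.w x0 := by linarith only [hd x3, cw_3]
                      have hm_0 : -2 * T.m x0 + 1 * T.m x1 = 0 := by
                        have h := hrow_0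
                        rw [ca_0_0, ca_0_1, hz_0_2, hz_0_3] at h
                        have h2 : T.w x0 * (-2 * T.m x0 + 1 * T.m x1) = 0 := by linarith only [h]
                        rcases mul_eq_zero.mp h2 with h3 | h3
                        · exact absurd h3 (hwp _).ne'
                        · exact h3
                      have hm_1 : 1 * T.m x0 + -2 * T.m x1 + 2 * T.m x2 = 0 := by
                        have h := hrow_1
                        rw [ca_1_0, ca_1_1, ca_1_2, hz_1_3] at h
                        have h2 : T.w x0 * (1 * T.m x0 + -2 * T.m x1 + 2 * T.m x2) = 0 := by linarith only [h]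
                        rcases mul_eq_zero.mp h2 with h3 | h3
                        · exact absurd h3 (hwp _).ne'
                        · exact h3
                      have hm_2 : 2 * T.m x1 + -4 * T.m x2 + 2 * T.m x3 = 0 := by
                        have h := hrow_2
                        rw [hz_2_0, ca_2_1, ca_2_2, ca_2_3] at h
                        have h2 : T.w x0 * (2 * T.m x1 + -4 * T.m x2 + 2 * T.m x3) = 0 := by linarith only [h]
                        rcases mul_eq_zero.mp h2 with h3 | h3
                        · exact absurd h3 (hwp _).ne'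
                        · exact h3
                      have hm_3 : 2 * T.m x2 + -4 * T.m x3 = 0 := by
                        have h := hrow_3
                        rw [hz_3_0, hz_3_1, ca_3_2, ca_3_3] at h
                        have h2 : T.w x0 * (2 * T.m x2 + -4 * T.m x3) = 0 := by linarith only [h]
                        rcases mul_eq_zero.mp h2 with h3 | h3
                        · exact absurd h3 (hwp _).ne'
                        · exact h3
                      exfalso
                      linarith only [hm_0, hm_1, hm_2, hm_3, hmp x0, hmp x1, hmp x2, hmp x3]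
                    · exfalso
                      refine NT.cert3 T x1 x2 x3 hne_1_2 hne_1_3 hne_2_3 (by norm_num) 1 1 1 (by norm_num) (by norm_num) (by norm_num) ?_ ?_ ?_
                      · linarith only [hd x1, hwp x1, hx_1_2.ge, hnn x1 x3 hne_1_3]
                      · linarith only [hd x2, hwp x2, hx_2_1.ge, hx_2_3.ge]
                      · linarith only [hd x3, hwp x3, hnn x3 x1 hne_1_3.symm, hx_3_2.ge]
                    · exfalso
                      refine NT.cert3 T x1 x2 x3 hne_1_2 hne_1_3 hne_2_3 (by norm_num) 2 2 3 (by norm_num) (by norm_num) (by norm_num) ?_ ?_ ?_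
                      · linarith only [hd x1, hwp x1, hx_1_2.ge, hnn x1 x3 hne_1_3]
                      · linarith only [hd x2, hwp x2, hx_2_1.ge, hx_2_3.ge]
                      · linarith only [hd x3, hwp x3, hnn x3 x1 hne_1_3.symm, hx_3_2]
                  · exfalso
                    refine NT.cert3 T x1 x2 x3 hne_1_2 hne_1_3 hne_2_3 (by norm_num) 2 2 1 (by norm_num) (by norm_num) (by norm_num) ?_ ?_ ?_
                    · linarith only [hd x1, hwp x1, hx_1_2.ge, hnn x1 x3 hne_1_3]
                    · linarith only [hd x2, hwp x2, hx_2_1.ge, hx_2_3.ge]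
                    · linarith only [hd x3, hwp x3, hnn x3 x1 hne_1_3.symm, hl_3_2]
                  · exfalso
                    refine NT.cert3 T x1 x2 x3 hne_1_2 hne_1_3 hne_2_3 (by norm_num) 2 2 1 (by norm_num) (by norm_num) (by norm_num) ?_ ?_ ?_
                    · linarith only [hd x1, hwp x1, hx_1_2.ge, hnn x1 x3 hne_1_3]
                    · linarith only [hd x2, hwp x2, hx_2_1.ge, hx_2_3]
                    · linarith only [hd x3, hwp x3, hnn x3 x1 hne_1_3.symm, hl_3_2]
                · exfalso
                  refine NT.cert2 T x1 x2 hne_1_2 (by norm_num) 1 1 (by norm_num) (by norm_num) ?_ ?_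
                  · linarith only [hd x1, hwp x1, hx_1_2.ge]
                  · linarith only [hd x2, hwp x2, hx_2_1.ge]
                · exfalso
                  refine NT.cert2 T x1 x2 hne_1_2 (by norm_num) 1 1 (by norm_num) (by norm_num) ?_ ?_
                  · linarith only [hd x1, hwp x1, hx_1_2.ge]
                  · linarith only [hd x2, hwp x2, hx_2_1]
              · exfalso
                refine NT.cert3 T x0 x1 x2 hne_0_1 hne_0_2 hne_1_2 (by norm_num) 1 2 1 (by norm_num) (by norm_num) (by norm_num) ?_ ?_ ?_
                · linarith only [hd x0, hwp x0, hx_0_1.ge, hnn x0 x2 hne_0_2]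
                · linarith only [hd x1, hwp x1, hx_1_0.ge, hx_1_2]
                · linarith only [hd x2, hwp x2, hnn x2 x0 hne_0_2.symm, hl_2_1]
            · rcases NT.edge3 T x1 x2 hne_1_2 hadj_1_2 with hx_1_2 | hx_1_2 | hx_1_2
              · rcases NT.edge3 T x2 x1 hne_1_2.symm hadj_2_1 with hx_2_1 | hx_2_1 | hx_2_1
                · rcases NT.edge3 T x2 x3 hne_2_3 hadj_2_3 with hx_2_3 | hx_2_3 | hx_2_3
                  · rcases NT.edge3 T x3 x2 hne_2_3.symm hadj_3_2 with hx_3_2 | hx_3_2 | hx_3_2
                    · have cw_1 : T.w x1 = T.w x1 := rfl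
                      have cw_0 : T.w x0 = 2 * T.w x1 := by linarith only [cw_1, hx_1_0, hx_0_1, hs_0_1]
                      have cw_2 : T.w x2 = T.w x1 := by linarith only [cw_1, hx_1_2, hx_2_1, hs_1_2]
                      have cw_3 : T.w x3 = T.w x1 := by linarith only [cw_2, hx_2_3, hx_3_2, hs_2_3]
                      have ca_0_0 : T.a x0 x0 = -4 * T.w x1 := by linarith only [hd x0, cw_0]
                      have ca_0_1 : T.a x0 x1 = 2 * T.w x1 := by linarith only [hx_0_1, cw_0]
                      have ca_1_0 : T.a x1 x0 = 2 * T.w x1 := by linarith only [hx_1_0, cw_1]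
                      have ca_1_1 : T.a x1 x1 = -2 * T.w x1 := by linarith only [hd x1, cw_1]
                      have ca_1_2 : T.a x1 x2 = T.w x1 := by linarith only [hx_1_2, cw_1]
                      have ca_2_1 : T.a x2 x1 = T.w x1 := by linarith only [hx_2_1, cw_2]
                      have ca_2_2 : T.a x2 x2 = -2 * T.w x1 := by linarith only [hd x2, cw_2]
                      have ca_2_3 : T.a x2 x3 = T.w x1 := by linarith only [hx_2_3, cw_2]
                      have ca_3_2 : T.a x3 x2 = T.w x1 := by linarith only [hx_3_2, cw_3]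
                      have ca_3_3 : T.a x3 x3 = -2 * T.w x1 := by linarith only [hd x3, cw_3]
                      have hm_0 : -4 * T.m x0 + 2 * T.m x1 = 0 := by
                        have h := hrow_0
                        rw [ca_0_0, ca_0_1, hz_0_2, hz_0_3] at h
                        have h2 : T.w x1 * (-4 * T.m x0 + 2 * T.m x1) = 0 := by linarith only [h]
                        rcases mul_eq_zero.mp h2 with h3 | h3
                        · exact absurd h3 (hwp _).ne'
                        · exact h3
                      have hm_1 : 2 * T.m x0 + -2 * T.m x1 + 1 * T.m x2 = 0 := by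
                        have h := hrow_1
                        rw [ca_1_0, ca_1_1, ca_1_2, hz_1_3] at h
                        have h2 : T.w x1 * (2 * T.m x0 + -2 * T.m x1 + 1 * T.m x2) = 0 := by linarith only [h]
                        rcases mul_eq_zero.mp h2 with h3 | h3
                        · exact absurd h3 (hwp _).ne'
                        · exact h3
                      have hm_2 : 1 * T.m x1 + -2 * T.m x2 + 1 * T.m x3 = 0 := by
                        have h := hrow_2
                        rw [hz_2_0, ca_2_1, ca_2_2, ca_2_3] at h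
                        have h2 : T.w x1 * (1 * T.m x1 + -2 * T.m x2 + 1 * T.m x3) = 0 := by linarith only [h]
                        rcases mul_eq_zero.mp h2 with h3 | h3
                        · exact absurd h3 (hwp _).ne'
                        · exact h3
                      have hm_3 : 1 * T.m x2 + -2 * T.m x3 = 0 := by
                        have h := hrow_3
                        rw [hz_3_0, hz_3_1, ca_3_2, ca_3_3] at h
                        have h2 : T.w x1 * (1 * T.m x2 + -2 * T.m x3) = 0 := by linarith only [h]
                        rcases mul_eq_zero.mp h2 with h3 | h3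
                        · exact absurd h3 (hwp _).ne'
                        · exact h3
                      exfalso
                      linarith only [hm_0, hm_1, hm_2, hm_3, hmp x0, hmp x1, hmp x2, hmp x3]
                    · have cw_3 : T.w x3 = T.w x3 := rfl
                      have cw_2 : T.w x2 = 2 * T.w x3 := by linarith only [cw_3, hx_3_2, hx_2_3, hs_2_3]
                      have cw_1 : T.w x1 = 2 * T.w x3 := by linarith only [cw_2, hx_2_1, hx_1_2, hs_1_2]
                      have cw_0 : T.w x0 = 4 * T.w x3 := by linarith only [cw_1, hx_1_0, hx_0_1, hs_0_1]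
                      have ca_0_0 : T.a x0 x0 = -8 * T.w x3 := by linarith only [hd x0, cw_0]
                      have ca_0_1 : T.a x0 x1 = 4 * T.w x3 := by linarith only [hx_0_1, cw_0]
                      have ca_1_0 : T.a x1 x0 = 4 * T.w x3 := by linarith only [hx_1_0, cw_1]
                      have ca_1_1 : T.a x1 x1 = -4 * T.w x3 := by linarith only [hd x1, cw_1]
                      have ca_1_2 : T.a x1 x2 = 2 * T.w x3 := by linarith only [hx_1_2, cw_1]
                      have ca_2_1 : T.a x2 x1 = 2 * T.w x3 := by linarith only [hx_2_1, cw_2]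
                      have ca_2_2 : T.a x2 x2 = -4 * T.w x3 := by linarith only [hd x2, cw_2]
                      have ca_2_3 : T.a x2 x3 = 2 * T.w x3 := by linarith only [hx_2_3, cw_2]
                      have ca_3_2 : T.a x3 x2 = 2 * T.w x3 := by linarith only [hx_3_2, cw_3]
                      have ca_3_3 : T.a x3 x3 = -2 * T.w x3 := by linarith only [hd x3, cw_3]
                      have hm_0 : -8 * T.m x0 + 4 * T.m x1 = 0 := by
                        have h := hrow_0
                        rw [ca_0_0, ca_0_1, hz_0_2, hz_0_3] at h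
                        have h2 : T.w x3 * (-8 * T.m x0 + 4 * T.m x1) = 0 := by linarith only [h]
                        rcases mul_eq_zero.mp h2 with h3 | h3
                        · exact absurd h3 (hwp _).ne'
                        · exact h3
                      have hm_1 : 4 * T.m x0 + -4 * T.m x1 + 2 * T.m x2 = 0 := by
                        have h := hrow_1
                        rw [ca_1_0, ca_1_1, ca_1_2, hz_1_3] at h
                        have h2 : T.w x3 * (4 * T.m x0 + -4 * T.m x1 + 2 * T.m x2) = 0 := by linarith only [h]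
                        rcases mul_eq_zero.mp h2 with h3 | h3
                        · exact absurd h3 (hwp _).ne'
                        · exact h3
                      have hm_2 : 2 * T.m x1 + -4 * T.m x2 + 2 * T.m x3 = 0 := by
                        have h := hrow_2
                        rw [hz_2_0, ca_2_1, ca_2_2, ca_2_3] at h
                        have h2 : T.w x3 * (2 * T.m x1 + -4 * T.m x2 + 2 * T.m x3) = 0 := by linarith only [h]
                        rcases mul_eq_zero.mp h2 with h3 | h3
                        · exact absurd h3 (hwp _).ne'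
                        · exact h3
                      have hm_3 : 2 * T.m x2 + -2 * T.m x3 = 0 := by
                        have h := hrow_3
                        rw [hz_3_0, hz_3_1, ca_3_2, ca_3_3] at h
                        have h2 : T.w x3 * (2 * T.m x2 + -2 * T.m x3) = 0 := by linarith only [h]
                        rcases mul_eq_zero.mp h2 with h3 | h3
                        · exact absurd h3 (hwp _).ne'
                        · exact h3
                      have cmu_0 : T.m x0 = T.m x0 := rfl
                      have cmu_1 : T.m x1 = 2 * T.m x0 := by linarith only [hm_0, hm_1, hm_2, hm_3]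
                      have cmu_2 : T.m x2 = 2 * T.m x0 := by linarith only [hm_0, hm_1, hm_2, hm_3]
                      have cmu_3 : T.m x3 = 2 * T.m x0 := by linarith only [hm_0, hm_1, hm_2, hm_3]
                      have hinjσ : Function.Injective ![x3, x2, x1, x0] := NT.inj4 _ _ _ _ hne_2_3.symm hne_1_3.symm hne_0_3.symm hne_1_2.symm hne_0_2.symm hne_0_1.symm
                      exact ⟨Equiv.ofBijective ![x3, x2, x1, x0] ⟨hinjσ, Finite.surjective_of_injective hinjσ⟩, T.m x0, T.w x3, Or.inr (Or.inl ⟨cmu_3, cmu_2, cmu_1, cmu_0, cw_3, cw_2, cw_1, cw_0, ca_3_3, ca_3_2, hz_3_1, hz_3_0, ca_2_2, ca_2_1, hz_2_0, ca_1_1, ca_1_0, ca_0_0⟩)⟩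
                    · exfalso
                      refine NT.cert3 T x1 x2 x3 hne_1_2 hne_1_3 hne_2_3 (by norm_num) 1 2 3 (by norm_num) (by norm_num) (by norm_num) ?_ ?_ ?_
                      · linarith only [hd x1, hwp x1, hx_1_2.ge, hnn x1 x3 hne_1_3]
                      · linarith only [hd x2, hwp x2, hx_2_1.ge, hx_2_3.ge]
                      · linarith only [hd x3, hwp x3, hnn x3 x1 hne_1_3.symm, hx_3_2]
                  · obtain ⟨heq_0, heq_1, heq_2, heq_3⟩ := NT.harm4 T x0 x1 x2 x3 hne_0_1 hne_0_2 hne_0_3 hne_1_2 hne_1_3 hne_2_3 1 2 2 1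
                      (by linarith only [hd x0, hx_0_1.ge, hz_0_2, hz_0_3])
                      (by linarith only [hd x1, hx_1_0.ge, hx_1_2.ge, hz_1_3])
                      (by linarith only [hd x2, hz_2_0, hx_2_1.ge, hx_2_3.ge])
                      (by linarith only [hd x3, hz_3_0, hz_3_1, hl_3_2])
                    have hx_3_2 : T.a x3 x2 = T.w x3 := by linarith only [heq_3, hwp x3, hd x3, hz_3_0, hz_3_1, hl_3_2]
                    have cw_1 : T.w x1 = T.w x1 := rfl
                    have cw_0 : T.w x0 = 2 * T.w x1 := by linarith only [cw_1, hx_1_0, hx_0_1, hs_0_1]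
                    have cw_2 : T.w x2 = T.w x1 := by linarith only [cw_1, hx_1_2, hx_2_1, hs_1_2]
                    have cw_3 : T.w x3 = 2 * T.w x1 := by linarith only [cw_2, hx_2_3, hx_3_2, hs_2_3]
                    have ca_0_0 : T.a x0 x0 = -4 * T.w x1 := by linarith only [hd x0, cw_0]
                    have ca_0_1 : T.a x0 x1 = 2 * T.w x1 := by linarith only [hx_0_1, cw_0]
                    have ca_1_0 : T.a x1 x0 = 2 * T.w x1 := by linarith only [hx_1_0, cw_1]
                    have ca_1_1 : T.a x1 x1 = -2 * T.w x1 := by linarith only [hd x1, cw_1]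
                    have ca_1_2 : T.a x1 x2 = T.w x1 := by linarith only [hx_1_2, cw_1]
                    have ca_2_1 : T.a x2 x1 = T.w x1 := by linarith only [hx_2_1, cw_2]
                    have ca_2_2 : T.a x2 x2 = -2 * T.w x1 := by linarith only [hd x2, cw_2]
                    have ca_2_3 : T.a x2 x3 = 2 * T.w x1 := by linarith only [hx_2_3, cw_2]
                    have ca_3_2 : T.a x3 x2 = 2 * T.w x1 := by linarith only [hx_3_2, cw_3]
                    have ca_3_3 : T.a x3 x3 = -4 * T.w x1 := by linarith only [hd x3, cw_3]
                    have hm_0 : -4 * T.m x0 + 2 * T.m x1 = 0 := by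
                      have h := hrow_0
                      rw [ca_0_0, ca_0_1, hz_0_2, hz_0_3] at h
                      have h2 : T.w x1 * (-4 * T.m x0 + 2 * T.m x1) = 0 := by linarith only [h]
                      rcases mul_eq_zero.mp h2 with h3 | h3
                      · exact absurd h3 (hwp _).ne'
                      · exact h3
                    have hm_1 : 2 * T.m x0 + -2 * T.m x1 + 1 * T.m x2 = 0 := by
                      have h := hrow_1
                      rw [ca_1_0, ca_1_1, ca_1_2, hz_1_3] at h
                      have h2 : T.w x1 * (2 * T.m x0 + -2 * T.m x1 + 1 * T.m x2) = 0 := by linarith only [h]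
                      rcases mul_eq_zero.mp h2 with h3 | h3
                      · exact absurd h3 (hwp _).ne'
                      · exact h3
                    have hm_2 : 1 * T.m x1 + -2 * T.m x2 + 2 * T.m x3 = 0 := by
                      have h := hrow_2
                      rw [hz_2_0, ca_2_1, ca_2_2, ca_2_3] at h
                      have h2 : T.w x1 * (1 * T.m x1 + -2 * T.m x2 + 2 * T.m x3) = 0 := by linarith only [h]
                      rcases mul_eq_zero.mp h2 with h3 | h3
                      · exact absurd h3 (hwp _).ne'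
                      · exact h3
                    have hm_3 : 2 * T.m x2 + -4 * T.m x3 = 0 := by
                      have h := hrow_3
                      rw [hz_3_0, hz_3_1, ca_3_2, ca_3_3] at h
                      have h2 : T.w x1 * (2 * T.m x2 + -4 * T.m x3) = 0 := by linarith only [h]
                      rcases mul_eq_zero.mp h2 with h3 | h3
                      · exact absurd h3 (hwp _).ne'
                      · exact h3
                    have cmu_0 : T.m x0 = T.m x0 := rfl
                    have cmu_1 : T.m x1 = 2 * T.m x0 := by linarith only [hm_0, hm_1, hm_2, hm_3]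
                    have cmu_2 : T.m x2 = 2 * T.m x0 := by linarith only [hm_0, hm_1, hm_2, hm_3]
                    have cmu_3 : T.m x3 = T.m x0 := by linarith only [hm_0, hm_1, hm_2, hm_3]
                    have hinjσ : Function.Injective ![x0, x1, x2, x3] := NT.inj4 _ _ _ _ hne_0_1 hne_0_2 hne_0_3 hne_1_2 hne_1_3 hne_2_3
                    exact ⟨Equiv.ofBijective ![x0, x1, x2, x3] ⟨hinjσ, Finite.surjective_of_injective hinjσ⟩, T.m x0, T.w x1, Or.inr (Or.inr (Or.inr (Or.inl ⟨cmu_0, cmu_1, cmu_2, cmu_3, cw_0, cw_1, cw_2, cw_3, ca_0_0, ca_0_1, hz_0_2, hz_0_3, ca_1_1, ca_1_2, hz_1_3, ca_2_2, ca_2_3, ca_3_3⟩)))⟩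
                  · exfalso
                    refine NT.cert3 T x1 x2 x3 hne_1_2 hne_1_3 hne_2_3 (by norm_num) 1 2 1 (by norm_num) (by norm_num) (by norm_num) ?_ ?_ ?_
                    · linarith only [hd x1, hwp x1, hx_1_2.ge, hnn x1 x3 hne_1_3]
                    · linarith only [hd x2, hwp x2, hx_2_1.ge, hx_2_3]
                    · linarith only [hd x3, hwp x3, hnn x3 x1 hne_1_3.symm, hl_3_2]
                · exfalso
                  refine NT.cert3 T x0 x1 x2 hne_0_1 hne_0_2 hne_1_2 (by norm_num) 1 2 2 (by norm_num) (by norm_num) (by norm_num) ?_ ?_ ?_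
                  · linarith only [hd x0, hwp x0, hx_0_1.ge, hnn x0 x2 hne_0_2]
                  · linarith only [hd x1, hwp x1, hx_1_0.ge, hx_1_2.ge]
                  · linarith only [hd x2, hwp x2, hnn x2 x0 hne_0_2.symm, hx_2_1.ge]
                · exfalso
                  refine NT.cert3 T x0 x1 x2 hne_0_1 hne_0_2 hne_1_2 (by norm_num) 1 2 3 (by norm_num) (by norm_num) (by norm_num) ?_ ?_ ?_
                  · linarith only [hd x0, hwp x0, hx_0_1.ge, hnn x0 x2 hne_0_2]
                  · linarith only [hd x1, hwp x1, hx_1_0.ge, hx_1_2.ge]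
                  · linarith only [hd x2, hwp x2, hnn x2 x0 hne_0_2.symm, hx_2_1]
              · exfalso
                refine NT.cert3 T x0 x1 x2 hne_0_1 hne_0_2 hne_1_2 (by norm_num) 1 2 1 (by norm_num) (by norm_num) (by norm_num) ?_ ?_ ?_
                · linarith only [hd x0, hwp x0, hx_0_1.ge, hnn x0 x2 hne_0_2]
                · linarith only [hd x1, hwp x1, hx_1_0.ge, hx_1_2.ge]
                · linarith only [hd x2, hwp x2, hnn x2 x0 hne_0_2.symm, hl_2_1]
              · exfalso
                refine NT.cert3 T x0 x1 x2 hne_0_1 hne_0_2 hne_1_2 (by norm_num) 1 2 1 (by norm_num) (by norm_num) (by norm_num) ?_ ?_ ?_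
                · linarith only [hd x0, hwp x0, hx_0_1.ge, hnn x0 x2 hne_0_2]
                · linarith only [hd x1, hwp x1, hx_1_0.ge, hx_1_2]
                · linarith only [hd x2, hwp x2, hnn x2 x0 hne_0_2.symm, hl_2_1]
            · exfalso
              refine NT.cert3 T x0 x1 x2 hne_0_1 hne_0_2 hne_1_2 (by norm_num) 1 2 1 (by norm_num) (by norm_num) (by norm_num) ?_ ?_ ?_
              · linarith only [hd x0, hwp x0, hx_0_1.ge, hnn x0 x2 hne_0_2]
              · linarith only [hd x1, hwp x1, hx_1_0, hl_1_2]
              · linarith only [hd x2, hwp x2, hnn x2 x0 hne_0_2.symm, hl_2_1]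
          · rcases NT.edge3 T x1 x0 hne_0_1.symm hadj_1_0 with hx_1_0 | hx_1_0 | hx_1_0
            · rcases NT.edge3 T x1 x2 hne_1_2 hadj_1_2 with hx_1_2 | hx_1_2 | hx_1_2
              · rcases NT.edge3 T x2 x1 hne_1_2.symm hadj_2_1 with hx_2_1 | hx_2_1 | hx_2_1
                · rcases NT.edge3 T x2 x3 hne_2_3 hadj_2_3 with hx_2_3 | hx_2_3 | hx_2_3
                  · rcases NT.edge3 T x3 x2 hne_2_3.symm hadj_3_2 with hx_3_2 | hx_3_2 | hx_3_2
                    · have cw_0 : T.w x0 = T.w x0 := rfl
                      have cw_1 : T.w x1 = 2 * T.w x0 := by linarith only [cw_0, hx_0_1, hx_1_0, hs_0_1]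
                      have cw_2 : T.w x2 = 2 * T.w x0 := by linarith only [cw_1, hx_1_2, hx_2_1, hs_1_2]
                      have cw_3 : T.w x3 = 2 * T.w x0 := by linarith only [cw_2, hx_2_3, hx_3_2, hs_2_3]
                      have ca_0_0 : T.a x0 x0 = -2 * T.w x0 := by linarith only [hd x0, cw_0]
                      have ca_0_1 : T.a x0 x1 = 2 * T.w x0 := by linarith only [hx_0_1, cw_0]
                      have ca_1_0 : T.a x1 x0 = 2 * T.w x0 := by linarith only [hx_1_0, cw_1]
                      have ca_1_1 : T.a x1 x1 = -4 * T.w x0 := by linarith only [hd x1, cw_1]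
                      have ca_1_2 : T.a x1 x2 = 2 * T.w x0 := by linarith only [hx_1_2, cw_1]
                      have ca_2_1 : T.a x2 x1 = 2 * T.w x0 := by linarith only [hx_2_1, cw_2]
                      have ca_2_2 : T.a x2 x2 = -4 * T.w x0 := by linarith only [hd x2, cw_2]
                      have ca_2_3 : T.a x2 x3 = 2 * T.w x0 := by linarith only [hx_2_3, cw_2]
                      have ca_3_2 : T.a x3 x2 = 2 * T.w x0 := by linarith only [hx_3_2, cw_3]
                      have ca_3_3 : T.a x3 x3 = -4 * T.w x0 := by linarith only [hd x3, cw_3]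
                      have hm_0 : -2 * T.m x0 + 2 * T.m x1 = 0 := by
                        have h := hrow_0
                        rw [ca_0_0, ca_0_1, hz_0_2, hz_0_3] at h
                        have h2 : T.w x0 * (-2 * T.m x0 + 2 * T.m x1) = 0 := by linarith only [h]
                        rcases mul_eq_zero.mp h2 with h3 | h3
                        · exact absurd h3 (hwp _).ne'
                        · exact h3
                      have hm_1 : 2 * T.m x0 + -4 * T.m x1 + 2 * T.m x2 = 0 := by
                        have h := hrow_1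
                        rw [ca_1_0, ca_1_1, ca_1_2, hz_1_3] at h
                        have h2 : T.w x0 * (2 * T.m x0 + -4 * T.m x1 + 2 * T.m x2) = 0 := by linarith only [h]
                        rcases mul_eq_zero.mp h2 with h3 | h3
                        · exact absurd h3 (hwp _).ne'
                        · exact h3
                      have hm_2 : 2 * T.m x1 + -4 * T.m x2 + 2 * T.m x3 = 0 := by
                        have h := hrow_2
                        rw [hz_2_0, ca_2_1, ca_2_2, ca_2_3] at h
                        have h2 : T.w x0 * (2 * T.m x1 + -4 * T.m x2 + 2 * T.m x3) = 0 := by linarith only [h]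
                        rcases mul_eq_zero.mp h2 with h3 | h3
                        · exact absurd h3 (hwp _).ne'
                        · exact h3
                      have hm_3 : 2 * T.m x2 + -4 * T.m x3 = 0 := by
                        have h := hrow_3
                        rw [hz_3_0, hz_3_1, ca_3_2, ca_3_3] at h
                        have h2 : T.w x0 * (2 * T.m x2 + -4 * T.m x3) = 0 := by linarith only [h]
                        rcases mul_eq_zero.mp h2 with h3 | h3
                        · exact absurd h3 (hwp _).ne'
                        · exact h3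
                      exfalso
                      linarith only [hm_0, hm_1, hm_2, hm_3, hmp x0, hmp x1, hmp x2, hmp x3]
                    · have cw_0 : T.w x0 = T.w x0 := rfl
                      have cw_1 : T.w x1 = 2 * T.w x0 := by linarith only [cw_0, hx_0_1, hx_1_0, hs_0_1]
                      have cw_2 : T.w x2 = 2 * T.w x0 := by linarith only [cw_1, hx_1_2, hx_2_1, hs_1_2]
                      have cw_3 : T.w x3 = T.w x0 := by linarith only [cw_2, hx_2_3, hx_3_2, hs_2_3]
                      have ca_0_0 : T.a x0 x0 = -2 * T.w x0 := by linarith only [hd x0, cw_0]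
                      have ca_0_1 : T.a x0 x1 = 2 * T.w x0 := by linarith only [hx_0_1, cw_0]
                      have ca_1_0 : T.a x1 x0 = 2 * T.w x0 := by linarith only [hx_1_0, cw_1]
                      have ca_1_1 : T.a x1 x1 = -4 * T.w x0 := by linarith only [hd x1, cw_1]
                      have ca_1_2 : T.a x1 x2 = 2 * T.w x0 := by linarith only [hx_1_2, cw_1]
                      have ca_2_1 : T.a x2 x1 = 2 * T.w x0 := by linarith only [hx_2_1, cw_2]
                      have ca_2_2 : T.a x2 x2 = -4 * T.w x0 := by linarith only [hd x2, cw_2]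
                      have ca_2_3 : T.a x2 x3 = 2 * T.w x0 := by linarith only [hx_2_3, cw_2]
                      have ca_3_2 : T.a x3 x2 = 2 * T.w x0 := by linarith only [hx_3_2, cw_3]
                      have ca_3_3 : T.a x3 x3 = -2 * T.w x0 := by linarith only [hd x3, cw_3]
                      have hm_0 : -2 * T.m x0 + 2 * T.m x1 = 0 := by
                        have h := hrow_0
                        rw [ca_0_0, ca_0_1, hz_0_2, hz_0_3] at h
                        have h2 : T.w x0 * (-2 * T.m x0 + 2 * T.m x1) = 0 := by linarith only [h]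
                        rcases mul_eq_zero.mp h2 with h3 | h3
                        · exact absurd h3 (hwp _).ne'
                        · exact h3
                      have hm_1 : 2 * T.m x0 + -4 * T.m x1 + 2 * T.m x2 = 0 := by
                        have h := hrow_1
                        rw [ca_1_0, ca_1_1, ca_1_2, hz_1_3] at h
                        have h2 : T.w x0 * (2 * T.m x0 + -4 * T.m x1 + 2 * T.m x2) = 0 := by linarith only [h]
                        rcases mul_eq_zero.mp h2 with h3 | h3
                        · exact absurd h3 (hwp _).ne'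
                        · exact h3
                      have hm_2 : 2 * T.m x1 + -4 * T.m x2 + 2 * T.m x3 = 0 := by
                        have h := hrow_2
                        rw [hz_2_0, ca_2_1, ca_2_2, ca_2_3] at h
                        have h2 : T.w x0 * (2 * T.m x1 + -4 * T.m x2 + 2 * T.m x3) = 0 := by linarith only [h]
                        rcases mul_eq_zero.mp h2 with h3 | h3
                        · exact absurd h3 (hwp _).ne'
                        · exact h3
                      have hm_3 : 2 * T.m x2 + -2 * T.m x3 = 0 := by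
                        have h := hrow_3
                        rw [hz_3_0, hz_3_1, ca_3_2, ca_3_3] at h
                        have h2 : T.w x0 * (2 * T.m x2 + -2 * T.m x3) = 0 := by linarith only [h]
                        rcases mul_eq_zero.mp h2 with h3 | h3
                        · exact absurd h3 (hwp _).ne'
                        · exact h3
                      have cmu_0 : T.m x0 = T.m x0 := rfl
                      have cmu_1 : T.m x1 = T.m x0 := by linarith only [hm_0, hm_1, hm_2, hm_3]
                      have cmu_2 : T.m x2 = T.m x0 := by linarith only [hm_0, hm_1, hm_2, hm_3]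
                      have cmu_3 : T.m x3 = T.m x0 := by linarith only [hm_0, hm_1, hm_2, hm_3]
                      have hinjσ : Function.Injective ![x0, x1, x2, x3] := NT.inj4 _ _ _ _ hne_0_1 hne_0_2 hne_0_3 hne_1_2 hne_1_3 hne_2_3
                      exact ⟨Equiv.ofBijective ![x0, x1, x2, x3] ⟨hinjσ, Finite.surjective_of_injective hinjσ⟩, T.m x0, T.w x0, Or.inr (Or.inr (Or.inl ⟨cmu_0, cmu_1, cmu_2, cmu_3, cw_0, cw_1, cw_2, cw_3, ca_0_0, ca_0_1, hz_0_2, hz_0_3, ca_1_1, ca_1_2, hz_1_3, ca_2_2, ca_2_3, ca_3_3⟩))⟩
                    · exfalso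
                      refine NT.cert3 T x1 x2 x3 hne_1_2 hne_1_3 hne_2_3 (by norm_num) 1 2 3 (by norm_num) (by norm_num) (by norm_num) ?_ ?_ ?_
                      · linarith only [hd x1, hwp x1, hx_1_2.ge, hnn x1 x3 hne_1_3]
                      · linarith only [hd x2, hwp x2, hx_2_1.ge, hx_2_3.ge]
                      · linarith only [hd x3, hwp x3, hnn x3 x1 hne_1_3.symm, hx_3_2]
                  · obtain ⟨heq_0, heq_1, heq_2, heq_3⟩ := NT.harm4 T x0 x1 x2 x3 hne_0_1 hne_0_2 hne_0_3 hne_1_2 hne_1_3 hne_2_3 2 2 2 1
                      (by linarith only [hd x0, hx_0_1.ge, hz_0_2, hz_0_3])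
                      (by linarith only [hd x1, hx_1_0.ge, hx_1_2.ge, hz_1_3])
                      (by linarith only [hd x2, hz_2_0, hx_2_1.ge, hx_2_3.ge])
                      (by linarith only [hd x3, hz_3_0, hz_3_1, hl_3_2])
                    have hx_3_2 : T.a x3 x2 = T.w x3 := by linarith only [heq_3, hwp x3, hd x3, hz_3_0, hz_3_1, hl_3_2]
                    have cw_0 : T.w x0 = T.w x0 := rfl
                    have cw_1 : T.w x1 = 2 * T.w x0 := by linarith only [cw_0, hx_0_1, hx_1_0, hs_0_1]
                    have cw_2 : T.w x2 = 2 * T.w x0 := by linarith only [cw_1, hx_1_2, hx_2_1, hs_1_2]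
                    have cw_3 : T.w x3 = 4 * T.w x0 := by linarith only [cw_2, hx_2_3, hx_3_2, hs_2_3]
                    have ca_0_0 : T.a x0 x0 = -2 * T.w x0 := by linarith only [hd x0, cw_0]
                    have ca_0_1 : T.a x0 x1 = 2 * T.w x0 := by linarith only [hx_0_1, cw_0]
                    have ca_1_0 : T.a x1 x0 = 2 * T.w x0 := by linarith only [hx_1_0, cw_1]
                    have ca_1_1 : T.a x1 x1 = -4 * T.w x0 := by linarith only [hd x1, cw_1]
                    have ca_1_2 : T.a x1 x2 = 2 * T.w x0 := by linarith only [hx_1_2, cw_1]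
                    have ca_2_1 : T.a x2 x1 = 2 * T.w x0 := by linarith only [hx_2_1, cw_2]
                    have ca_2_2 : T.a x2 x2 = -4 * T.w x0 := by linarith only [hd x2, cw_2]
                    have ca_2_3 : T.a x2 x3 = 4 * T.w x0 := by linarith only [hx_2_3, cw_2]
                    have ca_3_2 : T.a x3 x2 = 4 * T.w x0 := by linarith only [hx_3_2, cw_3]
                    have ca_3_3 : T.a x3 x3 = -8 * T.w x0 := by linarith only [hd x3, cw_3]
                    have hm_0 : -2 * T.m x0 + 2 * T.m x1 = 0 := by
                      have h := hrow_0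
                      rw [ca_0_0, ca_0_1, hz_0_2, hz_0_3] at h
                      have h2 : T.w x0 * (-2 * T.m x0 + 2 * T.m x1) = 0 := by linarith only [h]
                      rcases mul_eq_zero.mp h2 with h3 | h3
                      · exact absurd h3 (hwp _).ne'
                      · exact h3
                    have hm_1 : 2 * T.m x0 + -4 * T.m x1 + 2 * T.m x2 = 0 := by
                      have h := hrow_1
                      rw [ca_1_0, ca_1_1, ca_1_2, hz_1_3] at h
                      have h2 : T.w x0 * (2 * T.m x0 + -4 * T.m x1 + 2 * T.m x2) = 0 := by linarith only [h]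
                      rcases mul_eq_zero.mp h2 with h3 | h3
                      · exact absurd h3 (hwp _).ne'
                      · exact h3
                    have hm_2 : 2 * T.m x1 + -4 * T.m x2 + 4 * T.m x3 = 0 := by
                      have h := hrow_2
                      rw [hz_2_0, ca_2_1, ca_2_2, ca_2_3] at h
                      have h2 : T.w x0 * (2 * T.m x1 + -4 * T.m x2 + 4 * T.m x3) = 0 := by linarith only [h]
                      rcases mul_eq_zero.mp h2 with h3 | h3
                      · exact absurd h3 (hwp _).ne'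
                      · exact h3
                    have hm_3 : 4 * T.m x2 + -8 * T.m x3 = 0 := by
                      have h := hrow_3
                      rw [hz_3_0, hz_3_1, ca_3_2, ca_3_3] at h
                      have h2 : T.w x0 * (4 * T.m x2 + -8 * T.m x3) = 0 := by linarith only [h]
                      rcases mul_eq_zero.mp h2 with h3 | h3
                      · exact absurd h3 (hwp _).ne'
                      · exact h3
                    have cmu_0 : T.m x0 = 2 * T.m x3 := by linarith only [hm_0, hm_1, hm_2, hm_3]
                    have cmu_1 : T.m x1 = 2 * T.m x3 := by linarith only [hm_0, hm_1, hm_2, hm_3]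
                    have cmu_2 : T.m x2 = 2 * T.m x3 := by linarith only [hm_0, hm_1, hm_2, hm_3]
                    have cmu_3 : T.m x3 = T.m x3 := rfl
                    have hinjσ : Function.Injective ![x0, x1, x2, x3] := NT.inj4 _ _ _ _ hne_0_1 hne_0_2 hne_0_3 hne_1_2 hne_1_3 hne_2_3
                    exact ⟨Equiv.ofBijective ![x0, x1, x2, x3] ⟨hinjσ, Finite.surjective_of_injective hinjσ⟩, T.m x3, T.w x0, Or.inr (Or.inl ⟨cmu_0, cmu_1, cmu_2, cmu_3, cw_0, cw_1, cw_2, cw_3, ca_0_0, ca_0_1, hz_0_2, hz_0_3, ca_1_1, ca_1_2, hz_1_3, ca_2_2, ca_2_3, ca_3_3⟩)⟩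
                  · exfalso
                    refine NT.cert3 T x1 x2 x3 hne_1_2 hne_1_3 hne_2_3 (by norm_num) 1 2 1 (by norm_num) (by norm_num) (by norm_num) ?_ ?_ ?_
                    · linarith only [hd x1, hwp x1, hx_1_2.ge, hnn x1 x3 hne_1_3]
                    · linarith only [hd x2, hwp x2, hx_2_1.ge, hx_2_3]
                    · linarith only [hd x3, hwp x3, hnn x3 x1 hne_1_3.symm, hl_3_2]
                · exfalso
                  refine NT.cert3 T x0 x1 x2 hne_0_1 hne_0_2 hne_1_2 (by norm_num) 1 1 1 (by norm_num) (by norm_num) (by norm_num) ?_ ?_ ?_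
                  · linarith only [hd x0, hwp x0, hx_0_1.ge, hnn x0 x2 hne_0_2]
                  · linarith only [hd x1, hwp x1, hx_1_0.ge, hx_1_2.ge]
                  · linarith only [hd x2, hwp x2, hnn x2 x0 hne_0_2.symm, hx_2_1.ge]
                · exfalso
                  refine NT.cert3 T x0 x1 x2 hne_0_1 hne_0_2 hne_1_2 (by norm_num) 2 2 3 (by norm_num) (by norm_num) (by norm_num) ?_ ?_ ?_
                  · linarith only [hd x0, hwp x0, hx_0_1.ge, hnn x0 x2 hne_0_2]
                  · linarith only [hd x1, hwp x1, hx_1_0.ge, hx_1_2.ge]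
                  · linarith only [hd x2, hwp x2, hnn x2 x0 hne_0_2.symm, hx_2_1]
              · exfalso
                refine NT.cert3 T x0 x1 x2 hne_0_1 hne_0_2 hne_1_2 (by norm_num) 2 2 1 (by norm_num) (by norm_num) (by norm_num) ?_ ?_ ?_
                · linarith only [hd x0, hwp x0, hx_0_1.ge, hnn x0 x2 hne_0_2]
                · linarith only [hd x1, hwp x1, hx_1_0.ge, hx_1_2.ge]
                · linarith only [hd x2, hwp x2, hnn x2 x0 hne_0_2.symm, hl_2_1]
              · exfalso
                refine NT.cert3 T x0 x1 x2 hne_0_1 hne_0_2 hne_1_2 (by norm_num) 2 2 1 (by norm_num) (by norm_num) (by norm_num) ?_ ?_ ?_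
                · linarith only [hd x0, hwp x0, hx_0_1.ge, hnn x0 x2 hne_0_2]
                · linarith only [hd x1, hwp x1, hx_1_0.ge, hx_1_2]
                · linarith only [hd x2, hwp x2, hnn x2 x0 hne_0_2.symm, hl_2_1]
            · exfalso
              refine NT.cert2 T x0 x1 hne_0_1 (by norm_num) 1 1 (by norm_num) (by norm_num) ?_ ?_
              · linarith only [hd x0, hwp x0, hx_0_1.ge]
              · linarith only [hd x1, hwp x1, hx_1_0.ge]
            · exfalso
              refine NT.cert2 T x0 x1 hne_0_1 (by norm_num) 1 1 (by norm_num) (by norm_num) ?_ ?_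
              · linarith only [hd x0, hwp x0, hx_0_1.ge]
              · linarith only [hd x1, hwp x1, hx_1_0]
          · exfalso
            refine NT.cert3 T x0 x1 x2 hne_0_1 hne_0_2 hne_1_2 (by norm_num) 3 2 1 (by norm_num) (by norm_num) (by norm_num) ?_ ?_ ?_
            · linarith only [hd x0, hwp x0, hx_0_1, hnn x0 x2 hne_0_2]
            · linarith only [hd x1, hwp x1, hl_1_0, hl_1_2]
            · linarith only [hd x2, hwp x2, hnn x2 x0 hne_0_2.symm, hl_2_1]
        · by_cases hq_1 : ∃ y, (y ≠ x0 ∧ y ≠ x1 ∧ y ≠ x2) ∧ T.a x1 y ≠ 0
          · obtain ⟨x3, ⟨hn0, hn1, hn2⟩, hadj_1_3⟩ := hq_1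
            have hne_0_3 : x0 ≠ x3 := hn0.symm
            have hne_1_3 : x1 ≠ x3 := hn1.symm
            have hne_2_3 : x2 ≠ x3 := hn2.symm
            have hadj_3_1 : T.a x3 x1 ≠ 0 := by rw [hsym]; exact hadj_1_3
            have hl_1_3 := NT.lb1 T _ _ hne_1_3 hadj_1_3
            have hl_3_1 := NT.lb1 T _ _ hne_1_3.symm hadj_3_1
            have hs_1_3 : T.a x1 x3 = T.a x3 x1 := hsym _ _
            have hz_0_3 : T.a x0 x3 = 0 := by
              by_contra h
              exact hq_0 ⟨x3, ⟨hne_0_3.symm, hne_1_3.symm⟩, h⟩
            have hz_3_0 : T.a x3 x0 = 0 := by rw [hsym]; exact hz_0_3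
            have hz_2_3 : T.a x2 x3 = 0 := by
              by_contra h
              exact hq_2 ⟨x3, ⟨hne_0_3.symm, hne_1_3.symm, hne_2_3.symm⟩, h⟩
            have hz_3_2 : T.a x3 x2 = 0 := by rw [hsym]; exact hz_2_3
            exact (h3 ⟨x1, x0, x2, x3, hne_0_1.symm, hne_1_2, hne_1_3, hne_0_2, hne_0_3, hne_2_3, hadj_1_0, hadj_1_2, hadj_1_3⟩).elim
          · exfalso
            refine NT.not_closed T ![x0, x1, x2] (by norm_num) (by norm_num) ?_
            intro s y hy
            by_contra hcon
            fin_cases s
            · exact hq_0 ⟨y, ⟨fun h => hcon ⟨(0 : Fin 3), h⟩, fun h => hcon ⟨(1 : Fin 3), h⟩⟩, hy⟩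
            · exact hq_1 ⟨y, ⟨fun h => hcon ⟨(0 : Fin 3), h⟩, fun h => hcon ⟨(1 : Fin 3), h⟩, fun h => hcon ⟨(2 : Fin 3), h⟩⟩, hy⟩
            · exact hq_2 ⟨y, ⟨fun h => hcon ⟨(0 : Fin 3), h⟩, fun h => hcon ⟨(1 : Fin 3), h⟩, fun h => hcon ⟨(2 : Fin 3), h⟩⟩, hy⟩
      · exfalso
        refine NT.not_closed T ![x0, x1] (by norm_num) (by norm_num) ?_
        intro s y hy
        by_contra hcon
        fin_cases s
        · exact hq_0 ⟨y, ⟨fun h => hcon ⟨(0 : Fin 2), h⟩, fun h => hcon ⟨(1 : Fin 2), h⟩⟩, hy⟩
        · exact hq_1 ⟨y, ⟨fun h => hcon ⟨(0 : Fin 2), h⟩, fun h => hcon ⟨(1 : Fin 2), h⟩⟩, hy⟩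
    · obtain ⟨x0⟩ : Nonempty (Fin 4) := ⟨⟨0, by norm_num⟩⟩
      by_cases hq_0 : ∃ y, y ≠ x0 ∧ T.a x0 y ≠ 0
      · obtain ⟨x1, hn0, hadj_0_1⟩ := hq_0
        have hne_0_1 : x0 ≠ x1 := hn0.symm
        have hadj_1_0 : T.a x1 x0 ≠ 0 := by rw [hsym]; exact hadj_0_1
        have hl_0_1 := NT.lb1 T _ _ hne_0_1 hadj_0_1
        have hl_1_0 := NT.lb1 T _ _ hne_0_1.symm hadj_1_0
        have hs_0_1 : T.a x0 x1 = T.a x1 x0 := hsym _ _
        by_cases hq_1 : ∃ y, (y ≠ x0 ∧ y ≠ x1) ∧ T.a x1 y ≠ 0
        · obtain ⟨x2, ⟨hn0, hn1⟩, hadj_1_2⟩ := hq_1
          have hne_0_2 : x0 ≠ x2 := hn0.symm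
          have hne_1_2 : x1 ≠ x2 := hn1.symm
          have hadj_2_1 : T.a x2 x1 ≠ 0 := by rw [hsym]; exact hadj_1_2
          have hl_1_2 := NT.lb1 T _ _ hne_1_2 hadj_1_2
          have hl_2_1 := NT.lb1 T _ _ hne_1_2.symm hadj_2_1
          have hs_1_2 : T.a x1 x2 = T.a x2 x1 := hsym _ _
          have hz_0_2 : T.a x0 x2 = 0 := by
            by_contra hadj_0_2
            have hadj_2_0 : T.a x2 x0 ≠ 0 := by rw [hsym]; exact hadj_0_2
            have hl_0_2 := NT.lb1 T _ _ hne_0_2 hadj_0_2
            have hl_2_0 := NT.lb1 T _ _ hne_0_2.symm hadj_2_0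
            have hs_0_2 : T.a x0 x2 = T.a x2 x0 := hsym _ _
            refine NT.cert3 T x0 x1 x2 hne_0_1 hne_0_2 hne_1_2 (by norm_num) 1 1 1 (by norm_num) (by norm_num) (by norm_num) ?_ ?_ ?_
            · linarith only [hd x0, hwp x0, hl_0_1, hl_0_2]
            · linarith only [hd x1, hwp x1, hl_1_0, hl_1_2]
            · linarith only [hd x2, hwp x2, hl_2_0, hl_2_1]
          have hz_2_0 : T.a x2 x0 = 0 := by rw [hsym]; exact hz_0_2
          by_cases hq_2 : ∃ y, (y ≠ x0 ∧ y ≠ x1 ∧ y ≠ x2) ∧ T.a x2 y ≠ 0
          · obtain ⟨x3, ⟨hn0, hn1, hn2⟩, hadj_2_3⟩ := hq_2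
            have hne_0_3 : x0 ≠ x3 := hn0.symm
            have hne_1_3 : x1 ≠ x3 := hn1.symm
            have hne_2_3 : x2 ≠ x3 := hn2.symm
            have hadj_3_2 : T.a x3 x2 ≠ 0 := by rw [hsym]; exact hadj_2_3
            have hl_2_3 := NT.lb1 T _ _ hne_2_3 hadj_2_3
            have hl_3_2 := NT.lb1 T _ _ hne_2_3.symm hadj_3_2
            have hs_2_3 : T.a x2 x3 = T.a x3 x2 := hsym _ _
            by_cases hadj_0_3 : T.a x0 x3 ≠ 0
            · have hadj_3_0 : T.a x3 x0 ≠ 0 := by rw [hsym]; exact hadj_0_3
              have hl_0_3 := NT.lb1 T _ _ hne_0_3 hadj_0_3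
              have hl_3_0 := NT.lb1 T _ _ hne_0_3.symm hadj_3_0
              have hs_0_3 : T.a x0 x3 = T.a x3 x0 := hsym _ _
              have hz_1_3 : T.a x1 x3 = 0 := by
                by_contra hadj_1_3
                have hadj_3_1 : T.a x3 x1 ≠ 0 := by rw [hsym]; exact hadj_1_3
                have hl_1_3 := NT.lb1 T _ _ hne_1_3 hadj_1_3
                have hl_3_1 := NT.lb1 T _ _ hne_1_3.symm hadj_3_1
                have hs_1_3 : T.a x1 x3 = T.a x3 x1 := hsym _ _
                exact h3 ⟨x1, x0, x2, x3, hne_0_1.symm, hne_1_2, hne_1_3, hne_0_2, hne_0_3, hne_2_3, hadj_1_0, hadj_1_2, hadj_1_3⟩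
              have hz_3_1 : T.a x3 x1 = 0 := by rw [hsym]; exact hz_1_3
              have hinj : Function.Injective ![x0, x1, x2, x3] := NT.inj4 _ _ _ _ hne_0_1 hne_0_2 hne_0_3 hne_1_2 hne_1_3 hne_2_3
              have hrow_0 : T.a x0 x0 * T.m x0 + T.a x0 x1 * T.m x1 + T.a x0 x2 * T.m x2 + T.a x0 x3 * T.m x3 = 0 := by
                have h := NT.row_fun T _ hinj (0 : Fin 4)
                rw [Fin.sum_univ_four] at h
                exact h
              have hrow_1 : T.a x1 x0 * T.m x0 + T.a x1 x1 * T.m x1 + T.a x1 x2 * T.m x2 + T.a x1 x3 * T.m x3 = 0 := by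
                have h := NT.row_fun T _ hinj (1 : Fin 4)
                rw [Fin.sum_univ_four] at h
                exact h
              have hrow_2 : T.a x2 x0 * T.m x0 + T.a x2 x1 * T.m x1 + T.a x2 x2 * T.m x2 + T.a x2 x3 * T.m x3 = 0 := by
                have h := NT.row_fun T _ hinj (2 : Fin 4)
                rw [Fin.sum_univ_four] at h
                exact h
              have hrow_3 : T.a x3 x0 * T.m x0 + T.a x3 x1 * T.m x1 + T.a x3 x2 * T.m x2 + T.a x3 x3 * T.m x3 = 0 := by
                have h := NT.row_fun T _ hinj (3 : Fin 4)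
                rw [Fin.sum_univ_four] at h
                exact h
              obtain ⟨heq_0, heq_1, heq_2, heq_3⟩ := NT.harm4 T x0 x1 x2 x3 hne_0_1 hne_0_2 hne_0_3 hne_1_2 hne_1_3 hne_2_3 1 1 1 1
                (by linarith only [hd x0, hl_0_1, hz_0_2, hl_0_3])
                (by linarith only [hd x1, hl_1_0, hl_1_2, hz_1_3])
                (by linarith only [hd x2, hz_2_0, hl_2_1, hl_2_3])
                (by linarith only [hd x3, hl_3_0, hz_3_1, hl_3_2])
              have hx_0_1 : T.a x0 x1 = T.w x0 := by linarith only [heq_0, hwp x0, hd x0, hl_0_1, hz_0_2, hl_0_3]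
              have hx_1_0 : T.a x1 x0 = T.w x1 := by linarith only [heq_1, hwp x1, hd x1, hl_1_0, hl_1_2, hz_1_3]
              have hx_1_2 : T.a x1 x2 = T.w x1 := by linarith only [heq_1, hwp x1, hd x1, hl_1_0, hl_1_2, hz_1_3]
              have hx_2_1 : T.a x2 x1 = T.w x2 := by linarith only [heq_2, hwp x2, hd x2, hz_2_0, hl_2_1, hl_2_3]
              have hx_2_3 : T.a x2 x3 = T.w x2 := by linarith only [heq_2, hwp x2, hd x2, hz_2_0, hl_2_1, hl_2_3]
              have hx_3_2 : T.a x3 x2 = T.w x3 := by linarith only [heq_3, hwp x3, hd x3, hl_3_0, hz_3_1, hl_3_2]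
              have hx_0_3 : T.a x0 x3 = T.w x0 := by linarith only [heq_0, hwp x0, hd x0, hl_0_1, hz_0_2, hl_0_3]
              have hx_3_0 : T.a x3 x0 = T.w x3 := by linarith only [heq_3, hwp x3, hd x3, hl_3_0, hz_3_1, hl_3_2]
              have cw_0 : T.w x0 = T.w x0 := rfl
              have cw_1 : T.w x1 = T.w x0 := by linarith only [cw_0, hx_0_1, hx_1_0, hs_0_1]
              have cw_3 : T.w x3 = T.w x0 := by linarith only [cw_0, hx_0_3, hx_3_0, hs_0_3]
              have cw_2 : T.w x2 = T.w x0 := by linarith only [cw_3, hx_3_2, hx_2_3, hs_2_3]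
              have ca_0_0 : T.a x0 x0 = -2 * T.w x0 := by linarith only [hd x0, cw_0]
              have ca_0_1 : T.a x0 x1 = T.w x0 := by linarith only [hx_0_1, cw_0]
              have ca_0_3 : T.a x0 x3 = T.w x0 := by linarith only [hx_0_3, cw_0]
              have ca_1_0 : T.a x1 x0 = T.w x0 := by linarith only [hx_1_0, cw_1]
              have ca_1_1 : T.a x1 x1 = -2 * T.w x0 := by linarith only [hd x1, cw_1]
              have ca_1_2 : T.a x1 x2 = T.w x0 := by linarith only [hx_1_2, cw_1]
              have ca_2_1 : T.a x2 x1 = T.w x0 := by linarith only [hx_2_1, cw_2]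
              have ca_2_2 : T.a x2 x2 = -2 * T.w x0 := by linarith only [hd x2, cw_2]
              have ca_2_3 : T.a x2 x3 = T.w x0 := by linarith only [hx_2_3, cw_2]
              have ca_3_0 : T.a x3 x0 = T.w x0 := by linarith only [hx_3_0, cw_3]
              have ca_3_2 : T.a x3 x2 = T.w x0 := by linarith only [hx_3_2, cw_3]
              have ca_3_3 : T.a x3 x3 = -2 * T.w x0 := by linarith only [hd x3, cw_3]
              have hm_0 : -2 * T.m x0 + 1 * T.m x1 + 1 * T.m x3 = 0 := by
                have h := hrow_0
                rw [ca_0_0, ca_0_1, hz_0_2, ca_0_3] at h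
                have h2 : T.w x0 * (-2 * T.m x0 + 1 * T.m x1 + 1 * T.m x3) = 0 := by linarith only [h]
                rcases mul_eq_zero.mp h2 with h3 | h3
                · exact absurd h3 (hwp _).ne'
                · exact h3
              have hm_1 : 1 * T.m x0 + -2 * T.m x1 + 1 * T.m x2 = 0 := by
                have h := hrow_1
                rw [ca_1_0, ca_1_1, ca_1_2, hz_1_3] at h
                have h2 : T.w x0 * (1 * T.m x0 + -2 * T.m x1 + 1 * T.m x2) = 0 := by linarith only [h]
                rcases mul_eq_zero.mp h2 with h3 | h3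
                · exact absurd h3 (hwp _).ne'
                · exact h3
              have hm_2 : 1 * T.m x1 + -2 * T.m x2 + 1 * T.m x3 = 0 := by
                have h := hrow_2
                rw [hz_2_0, ca_2_1, ca_2_2, ca_2_3] at h
                have h2 : T.w x0 * (1 * T.m x1 + -2 * T.m x2 + 1 * T.m x3) = 0 := by linarith only [h]
                rcases mul_eq_zero.mp h2 with h3 | h3
                · exact absurd h3 (hwp _).ne'
                · exact h3
              have hm_3 : 1 * T.m x0 + 1 * T.m x2 + -2 * T.m x3 = 0 := by
                have h := hrow_3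
                rw [ca_3_0, hz_3_1, ca_3_2, ca_3_3] at h
                have h2 : T.w x0 * (1 * T.m x0 + 1 * T.m x2 + -2 * T.m x3) = 0 := by linarith only [h]
                rcases mul_eq_zero.mp h2 with h3 | h3
                · exact absurd h3 (hwp _).ne'
                · exact h3
              have cmu_0 : T.m x0 = T.m x0 := rfl
              have cmu_1 : T.m x1 = T.m x0 := by linarith only [hm_0, hm_1, hm_2, hm_3]
              have cmu_2 : T.m x2 = T.m x0 := by linarith only [hm_0, hm_1, hm_2, hm_3]
              have cmu_3 : T.m x3 = T.m x0 := by linarith only [hm_0, hm_1, hm_2, hm_3]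
              have hinjσ : Function.Injective ![x0, x1, x2, x3] := NT.inj4 _ _ _ _ hne_0_1 hne_0_2 hne_0_3 hne_1_2 hne_1_3 hne_2_3
              exact ⟨Equiv.ofBijective ![x0, x1, x2, x3] ⟨hinjσ, Finite.surjective_of_injective hinjσ⟩, T.m x0, T.w x0, Or.inl ⟨cmu_0, cmu_1, cmu_2, cmu_3, cw_0, cw_1, cw_2, cw_3, ca_0_0, ca_0_1, hz_0_2, ca_0_3, ca_1_1, ca_1_2, hz_1_3, ca_2_2, ca_2_3, ca_3_3⟩⟩
            · have hz_0_3 : T.a x0 x3 = 0 := not_not.mp hadj_0_3
              have hz_3_0 : T.a x3 x0 = 0 := by rw [hsym]; exact hz_0_3
              have hz_1_3 : T.a x1 x3 = 0 := by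
                by_contra hadj_1_3
                have hadj_3_1 : T.a x3 x1 ≠ 0 := by rw [hsym]; exact hadj_1_3
                have hl_1_3 := NT.lb1 T _ _ hne_1_3 hadj_1_3
                have hl_3_1 := NT.lb1 T _ _ hne_1_3.symm hadj_3_1
                have hs_1_3 : T.a x1 x3 = T.a x3 x1 := hsym _ _
                exact h3 ⟨x1, x0, x2, x3, hne_0_1.symm, hne_1_2, hne_1_3, hne_0_2, hne_0_3, hne_2_3, hadj_1_0, hadj_1_2, hadj_1_3⟩
              have hz_3_1 : T.a x3 x1 = 0 := by rw [hsym]; exact hz_1_3
              have hinj : Function.Injective ![x0, x1, x2, x3] := NT.inj4 _ _ _ _ hne_0_1 hne_0_2 hne_0_3 hne_1_2 hne_1_3 hne_2_3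
              have hrow_0 : T.a x0 x0 * T.m x0 + T.a x0 x1 * T.m x1 + T.a x0 x2 * T.m x2 + T.a x0 x3 * T.m x3 = 0 := by
                have h := NT.row_fun T _ hinj (0 : Fin 4)
                rw [Fin.sum_univ_four] at h
                exact h
              have hrow_1 : T.a x1 x0 * T.m x0 + T.a x1 x1 * T.m x1 + T.a x1 x2 * T.m x2 + T.a x1 x3 * T.m x3 = 0 := by
                have h := NT.row_fun T _ hinj (1 : Fin 4)
                rw [Fin.sum_univ_four] at h
                exact h
              have hrow_2 : T.a x2 x0 * T.m x0 + T.a x2 x1 * T.m x1 + T.a x2 x2 * T.m x2 + T.a x2 x3 * T.m x3 = 0 := by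
                have h := NT.row_fun T _ hinj (2 : Fin 4)
                rw [Fin.sum_univ_four] at h
                exact h
              have hrow_3 : T.a x3 x0 * T.m x0 + T.a x3 x1 * T.m x1 + T.a x3 x2 * T.m x2 + T.a x3 x3 * T.m x3 = 0 := by
                have h := NT.row_fun T _ hinj (3 : Fin 4)
                rw [Fin.sum_univ_four] at h
                exact h
              rcases NT.edge3 T x0 x1 hne_0_1 hadj_0_1 with hx_0_1 | hx_0_1 | hx_0_1
              · rcases NT.edge3 T x1 x0 hne_0_1.symm hadj_1_0 with hx_1_0 | hx_1_0 | hx_1_0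
                · rcases NT.edge3 T x1 x2 hne_1_2 hadj_1_2 with hx_1_2 | hx_1_2 | hx_1_2
                  · rcases NT.edge3 T x2 x1 hne_1_2.symm hadj_2_1 with hx_2_1 | hx_2_1 | hx_2_1
                    · rcases NT.edge3 T x2 x3 hne_2_3 hadj_2_3 with hx_2_3 | hx_2_3 | hx_2_3
                      · rcases NT.edge3 T x3 x2 hne_2_3.symm hadj_3_2 with hx_3_2 | hx_3_2 | hx_3_2
                        · have cw_0 : T.w x0 = T.w x0 := rfl
                          have cw_1 : T.w x1 = T.w x0 := by linarith only [cw_0, hx_0_1, hx_1_0, hs_0_1]
                          have cw_2 : T.w x2 = T.w x0 := by linarith only [cw_1, hx_1_2, hx_2_1, hs_1_2]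
                          have cw_3 : T.w x3 = T.w x0 := by linarith only [cw_2, hx_2_3, hx_3_2, hs_2_3]
                          have ca_0_0 : T.a x0 x0 = -2 * T.w x0 := by linarith only [hd x0, cw_0]
                          have ca_0_1 : T.a x0 x1 = T.w x0 := by linarith only [hx_0_1, cw_0]
                          have ca_1_0 : T.a x1 x0 = T.w x0 := by linarith only [hx_1_0, cw_1]
                          have ca_1_1 : T.a x1 x1 = -2 * T.w x0 := by linarith only [hd x1, cw_1]
                          have ca_1_2 : T.a x1 x2 = T.w x0 := by linarith only [hx_1_2, cw_1]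
                          have ca_2_1 : T.a x2 x1 = T.w x0 := by linarith only [hx_2_1, cw_2]
                          have ca_2_2 : T.a x2 x2 = -2 * T.w x0 := by linarith only [hd x2, cw_2]
                          have ca_2_3 : T.a x2 x3 = T.w x0 := by linarith only [hx_2_3, cw_2]
                          have ca_3_2 : T.a x3 x2 = T.w x0 := by linarith only [hx_3_2, cw_3]
                          have ca_3_3 : T.a x3 x3 = -2 * T.w x0 := by linarith only [hd x3, cw_3]
                          have hm_0 : -2 * T.m x0 + 1 * T.m x1 = 0 := by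
                            have h := hrow_0
                            rw [ca_0_0, ca_0_1, hz_0_2, hz_0_3] at h
                            have h2 : T.w x0 * (-2 * T.m x0 + 1 * T.m x1) = 0 := by linarith only [h]
                            rcases mul_eq_zero.mp h2 with h3 | h3
                            · exact absurd h3 (hwp _).ne'
                            · exact h3
                          have hm_1 : 1 * T.m x0 + -2 * T.m x1 + 1 * T.m x2 = 0 := by
                            have h := hrow_1
                            rw [ca_1_0, ca_1_1, ca_1_2, hz_1_3] at h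
                            have h2 : T.w x0 * (1 * T.m x0 + -2 * T.m x1 + 1 * T.m x2) = 0 := by linarith only [h]
                            rcases mul_eq_zero.mp h2 with h3 | h3
                            · exact absurd h3 (hwp _).ne'
                            · exact h3
                          have hm_2 : 1 * T.m x1 + -2 * T.m x2 + 1 * T.m x3 = 0 := by
                            have h := hrow_2
                            rw [hz_2_0, ca_2_1, ca_2_2, ca_2_3] at h
                            have h2 : T.w x0 * (1 * T.m x1 + -2 * T.m x2 + 1 * T.m x3) = 0 := by linarith only [h]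
                            rcases mul_eq_zero.mp h2 with h3 | h3
                            · exact absurd h3 (hwp _).ne'
                            · exact h3
                          have hm_3 : 1 * T.m x2 + -2 * T.m x3 = 0 := by
                            have h := hrow_3
                            rw [hz_3_0, hz_3_1, ca_3_2, ca_3_3] at h
                            have h2 : T.w x0 * (1 * T.m x2 + -2 * T.m x3) = 0 := by linarith only [h]
                            rcases mul_eq_zero.mp h2 with h3 | h3
                            · exact absurd h3 (hwp _).ne'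
                            · exact h3
                          exfalso
                          linarith only [hm_0, hm_1, hm_2, hm_3, hmp x0, hmp x1, hmp x2, hmp x3]
                        · have cw_3 : T.w x3 = T.w x3 := rfl
                          have cw_2 : T.w x2 = 2 * T.w x3 := by linarith only [cw_3, hx_3_2, hx_2_3, hs_2_3]
                          have cw_1 : T.w x1 = 2 * T.w x3 := by linarith only [cw_2, hx_2_1, hx_1_2, hs_1_2]
                          have cw_0 : T.w x0 = 2 * T.w x3 := by linarith only [cw_1, hx_1_0, hx_0_1, hs_0_1]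
                          have ca_0_0 : T.a x0 x0 = -4 * T.w x3 := by linarith only [hd x0, cw_0]
                          have ca_0_1 : T.a x0 x1 = 2 * T.w x3 := by linarith only [hx_0_1, cw_0]
                          have ca_1_0 : T.a x1 x0 = 2 * T.w x3 := by linarith only [hx_1_0, cw_1]
                          have ca_1_1 : T.a x1 x1 = -4 * T.w x3 := by linarith only [hd x1, cw_1]
                          have ca_1_2 : T.a x1 x2 = 2 * T.w x3 := by linarith only [hx_1_2, cw_1]
                          have ca_2_1 : T.a x2 x1 = 2 * T.w x3 := by linarith only [hx_2_1, cw_2]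
                          have ca_2_2 : T.a x2 x2 = -4 * T.w x3 := by linarith only [hd x2, cw_2]
                          have ca_2_3 : T.a x2 x3 = 2 * T.w x3 := by linarith only [hx_2_3, cw_2]
                          have ca_3_2 : T.a x3 x2 = 2 * T.w x3 := by linarith only [hx_3_2, cw_3]
                          have ca_3_3 : T.a x3 x3 = -2 * T.w x3 := by linarith only [hd x3, cw_3]
                          have hm_0 : -4 * T.m x0 + 2 * T.m x1 = 0 := by
                            have h := hrow_0
                            rw [ca_0_0, ca_0_1, hz_0_2, hz_0_3] at h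
                            have h2 : T.w x3 * (-4 * T.m x0 + 2 * T.m x1) = 0 := by linarith only [h]
                            rcases mul_eq_zero.mp h2 with h3 | h3
                            · exact absurd h3 (hwp _).ne'
                            · exact h3
                          have hm_1 : 2 * T.m x0 + -4 * T.m x1 + 2 * T.m x2 = 0 := by
                            have h := hrow_1
                            rw [ca_1_0, ca_1_1, ca_1_2, hz_1_3] at h
                            have h2 : T.w x3 * (2 * T.m x0 + -4 * T.m x1 + 2 * T.m x2) = 0 := by linarith only [h]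
                            rcases mul_eq_zero.mp h2 with h3 | h3
                            · exact absurd h3 (hwp _).ne'
                            · exact h3
                          have hm_2 : 2 * T.m x1 + -4 * T.m x2 + 2 * T.m x3 = 0 := by
                            have h := hrow_2
                            rw [hz_2_0, ca_2_1, ca_2_2, ca_2_3] at h
                            have h2 : T.w x3 * (2 * T.m x1 + -4 * T.m x2 + 2 * T.m x3) = 0 := by linarith only [h]
                            rcases mul_eq_zero.mp h2 with h3 | h3
                            · exact absurd h3 (hwp _).ne'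
                            · exact h3
                          have hm_3 : 2 * T.m x2 + -2 * T.m x3 = 0 := by
                            have h := hrow_3
                            rw [hz_3_0, hz_3_1, ca_3_2, ca_3_3] at h
                            have h2 : T.w x3 * (2 * T.m x2 + -2 * T.m x3) = 0 := by linarith only [h]
                            rcases mul_eq_zero.mp h2 with h3 | h3
                            · exact absurd h3 (hwp _).ne'
                            · exact h3
                          exfalso
                          linarith only [hm_0, hm_1, hm_2, hm_3, hmp x0, hmp x1, hmp x2, hmp x3]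
                        · exfalso
                          refine NT.cert3 T x1 x2 x3 hne_1_2 hne_1_3 hne_2_3 (by norm_num) 1 2 3 (by norm_num) (by norm_num) (by norm_num) ?_ ?_ ?_
                          · linarith only [hd x1, hwp x1, hx_1_2.ge, hnn x1 x3 hne_1_3]
                          · linarith only [hd x2, hwp x2, hx_2_1.ge, hx_2_3.ge]
                          · linarith only [hd x3, hwp x3, hnn x3 x1 hne_1_3.symm, hx_3_2]
                      · rcases NT.edge3 T x3 x2 hne_2_3.symm hadj_3_2 with hx_3_2 | hx_3_2 | hx_3_2
                        · have cw_0 : T.w x0 = T.w x0 := rfl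
                          have cw_1 : T.w x1 = T.w x0 := by linarith only [cw_0, hx_0_1, hx_1_0, hs_0_1]
                          have cw_2 : T.w x2 = T.w x0 := by linarith only [cw_1, hx_1_2, hx_2_1, hs_1_2]
                          have cw_3 : T.w x3 = 2 * T.w x0 := by linarith only [cw_2, hx_2_3, hx_3_2, hs_2_3]
                          have ca_0_0 : T.a x0 x0 = -2 * T.w x0 := by linarith only [hd x0, cw_0]
                          have ca_0_1 : T.a x0 x1 = T.w x0 := by linarith only [hx_0_1, cw_0]
                          have ca_1_0 : T.a x1 x0 = T.w x0 := by linarith only [hx_1_0, cw_1]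
                          have ca_1_1 : T.a x1 x1 = -2 * T.w x0 := by linarith only [hd x1, cw_1]
                          have ca_1_2 : T.a x1 x2 = T.w x0 := by linarith only [hx_1_2, cw_1]
                          have ca_2_1 : T.a x2 x1 = T.w x0 := by linarith only [hx_2_1, cw_2]
                          have ca_2_2 : T.a x2 x2 = -2 * T.w x0 := by linarith only [hd x2, cw_2]
                          have ca_2_3 : T.a x2 x3 = 2 * T.w x0 := by linarith only [hx_2_3, cw_2]
                          have ca_3_2 : T.a x3 x2 = 2 * T.w x0 := by linarith only [hx_3_2, cw_3]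
                          have ca_3_3 : T.a x3 x3 = -4 * T.w x0 := by linarith only [hd x3, cw_3]
                          have hm_0 : -2 * T.m x0 + 1 * T.m x1 = 0 := by
                            have h := hrow_0
                            rw [ca_0_0, ca_0_1, hz_0_2, hz_0_3] at h
                            have h2 : T.w x0 * (-2 * T.m x0 + 1 * T.m x1) = 0 := by linarith only [h]
                            rcases mul_eq_zero.mp h2 with h3 | h3
                            · exact absurd h3 (hwp _).ne'
                            · exact h3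
                          have hm_1 : 1 * T.m x0 + -2 * T.m x1 + 1 * T.m x2 = 0 := by
                            have h := hrow_1
                            rw [ca_1_0, ca_1_1, ca_1_2, hz_1_3] at h
                            have h2 : T.w x0 * (1 * T.m x0 + -2 * T.m x1 + 1 * T.m x2) = 0 := by linarith only [h]
                            rcases mul_eq_zero.mp h2 with h3 | h3
                            · exact absurd h3 (hwp _).ne'
                            · exact h3
                          have hm_2 : 1 * T.m x1 + -2 * T.m x2 + 2 * T.m x3 = 0 := by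
                            have h := hrow_2
                            rw [hz_2_0, ca_2_1, ca_2_2, ca_2_3] at h
                            have h2 : T.w x0 * (1 * T.m x1 + -2 * T.m x2 + 2 * T.m x3) = 0 := by linarith only [h]
                            rcases mul_eq_zero.mp h2 with h3 | h3
                            · exact absurd h3 (hwp _).ne'
                            · exact h3
                          have hm_3 : 2 * T.m x2 + -4 * T.m x3 = 0 := by
                            have h := hrow_3
                            rw [hz_3_0, hz_3_1, ca_3_2, ca_3_3] at h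
                            have h2 : T.w x0 * (2 * T.m x2 + -4 * T.m x3) = 0 := by linarith only [h]
                            rcases mul_eq_zero.mp h2 with h3 | h3
                            · exact absurd h3 (hwp _).ne'
                            · exact h3
                          exfalso
                          linarith only [hm_0, hm_1, hm_2, hm_3, hmp x0, hmp x1, hmp x2, hmp x3]
                        · exfalso
                          refine NT.cert2 T x2 x3 hne_2_3 (by norm_num) 1 1 (by norm_num) (by norm_num) ?_ ?_
                          · linarith only [hd x2, hwp x2, hx_2_3.ge]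
                          · linarith only [hd x3, hwp x3, hx_3_2.ge]
                        · exfalso
                          refine NT.cert2 T x2 x3 hne_2_3 (by norm_num) 1 1 (by norm_num) (by norm_num) ?_ ?_
                          · linarith only [hd x2, hwp x2, hx_2_3.ge]
                          · linarith only [hd x3, hwp x3, hx_3_2]
                      · exfalso
                        refine NT.cert3 T x1 x2 x3 hne_1_2 hne_1_3 hne_2_3 (by norm_num) 1 2 1 (by norm_num) (by norm_num) (by norm_num) ?_ ?_ ?_
                        · linarith only [hd x1, hwp x1, hx_1_2.ge, hnn x1 x3 hne_1_3]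
                        · linarith only [hd x2, hwp x2, hx_2_1.ge, hx_2_3]
                        · linarith only [hd x3, hwp x3, hnn x3 x1 hne_1_3.symm, hl_3_2]
                    · rcases NT.edge3 T x2 x3 hne_2_3 hadj_2_3 with hx_2_3 | hx_2_3 | hx_2_3
                      · rcases NT.edge3 T x3 x2 hne_2_3.symm hadj_3_2 with hx_3_2 | hx_3_2 | hx_3_2
                        · have cw_2 : T.w x2 = T.w x2 := rfl
                          have cw_1 : T.w x1 = 2 * T.w x2 := by linarith only [cw_2, hx_2_1, hx_1_2, hs_1_2]
                          have cw_3 : T.w x3 = T.w x2 := by linarith only [cw_2, hx_2_3, hx_3_2, hs_2_3]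
                          have cw_0 : T.w x0 = 2 * T.w x2 := by linarith only [cw_1, hx_1_0, hx_0_1, hs_0_1]
                          have ca_0_0 : T.a x0 x0 = -4 * T.w x2 := by linarith only [hd x0, cw_0]
                          have ca_0_1 : T.a x0 x1 = 2 * T.w x2 := by linarith only [hx_0_1, cw_0]
                          have ca_1_0 : T.a x1 x0 = 2 * T.w x2 := by linarith only [hx_1_0, cw_1]
                          have ca_1_1 : T.a x1 x1 = -4 * T.w x2 := by linarith only [hd x1, cw_1]
                          have ca_1_2 : T.a x1 x2 = 2 * T.w x2 := by linarith only [hx_1_2, cw_1]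
                          have ca_2_1 : T.a x2 x1 = 2 * T.w x2 := by linarith only [hx_2_1, cw_2]
                          have ca_2_2 : T.a x2 x2 = -2 * T.w x2 := by linarith only [hd x2, cw_2]
                          have ca_2_3 : T.a x2 x3 = T.w x2 := by linarith only [hx_2_3, cw_2]
                          have ca_3_2 : T.a x3 x2 = T.w x2 := by linarith only [hx_3_2, cw_3]
                          have ca_3_3 : T.a x3 x3 = -2 * T.w x2 := by linarith only [hd x3, cw_3]
                          have hm_0 : -4 * T.m x0 + 2 * T.m x1 = 0 := by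
                            have h := hrow_0
                            rw [ca_0_0, ca_0_1, hz_0_2, hz_0_3] at h
                            have h2 : T.w x2 * (-4 * T.m x0 + 2 * T.m x1) = 0 := by linarith only [h]
                            rcases mul_eq_zero.mp h2 with h3 | h3
                            · exact absurd h3 (hwp _).ne'
                            · exact h3
                          have hm_1 : 2 * T.m x0 + -4 * T.m x1 + 2 * T.m x2 = 0 := by
                            have h := hrow_1
                            rw [ca_1_0, ca_1_1, ca_1_2, hz_1_3] at h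
                            have h2 : T.w x2 * (2 * T.m x0 + -4 * T.m x1 + 2 * T.m x2) = 0 := by linarith only [h]
                            rcases mul_eq_zero.mp h2 with h3 | h3
                            · exact absurd h3 (hwp _).ne'
                            · exact h3
                          have hm_2 : 2 * T.m x1 + -2 * T.m x2 + 1 * T.m x3 = 0 := by
                            have h := hrow_2
                            rw [hz_2_0, ca_2_1, ca_2_2, ca_2_3] at h
                            have h2 : T.w x2 * (2 * T.m x1 + -2 * T.m x2 + 1 * T.m x3) = 0 := by linarith only [h]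
                            rcases mul_eq_zero.mp h2 with h3 | h3
                            · exact absurd h3 (hwp _).ne'
                            · exact h3
                          have hm_3 : 1 * T.m x2 + -2 * T.m x3 = 0 := by
                            have h := hrow_3
                            rw [hz_3_0, hz_3_1, ca_3_2, ca_3_3] at h
                            have h2 : T.w x2 * (1 * T.m x2 + -2 * T.m x3) = 0 := by linarith only [h]
                            rcases mul_eq_zero.mp h2 with h3 | h3
                            · exact absurd h3 (hwp _).ne'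
                            · exact h3
                          exfalso
                          linarith only [hm_0, hm_1, hm_2, hm_3, hmp x0, hmp x1, hmp x2, hmp x3]
                        · exfalso
                          refine NT.cert3 T x1 x2 x3 hne_1_2 hne_1_3 hne_2_3 (by norm_num) 1 2 2 (by norm_num) (by norm_num) (by norm_num) ?_ ?_ ?_
                          · linarith only [hd x1, hwp x1, hx_1_2.ge, hnn x1 x3 hne_1_3]
                          · linarith only [hd x2, hwp x2, hx_2_1.ge, hx_2_3.ge]
                          · linarith only [hd x3, hwp x3, hnn x3 x1 hne_1_3.symm, hx_3_2.ge]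
                        · exfalso
                          refine NT.cert3 T x1 x2 x3 hne_1_2 hne_1_3 hne_2_3 (by norm_num) 1 2 3 (by norm_num) (by norm_num) (by norm_num) ?_ ?_ ?_
                          · linarith only [hd x1, hwp x1, hx_1_2.ge, hnn x1 x3 hne_1_3]
                          · linarith only [hd x2, hwp x2, hx_2_1.ge, hx_2_3.ge]
                          · linarith only [hd x3, hwp x3, hnn x3 x1 hne_1_3.symm, hx_3_2]
                      · exfalso
                        refine NT.cert3 T x1 x2 x3 hne_1_2 hne_1_3 hne_2_3 (by norm_num) 1 2 1 (by norm_num) (by norm_num) (by norm_num) ?_ ?_ ?_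
                        · linarith only [hd x1, hwp x1, hx_1_2.ge, hnn x1 x3 hne_1_3]
                        · linarith only [hd x2, hwp x2, hx_2_1.ge, hx_2_3.ge]
                        · linarith only [hd x3, hwp x3, hnn x3 x1 hne_1_3.symm, hl_3_2]
                      · exfalso
                        refine NT.cert3 T x1 x2 x3 hne_1_2 hne_1_3 hne_2_3 (by norm_num) 1 2 1 (by norm_num) (by norm_num) (by norm_num) ?_ ?_ ?_
                        · linarith only [hd x1, hwp x1, hx_1_2.ge, hnn x1 x3 hne_1_3]
                        · linarith only [hd x2, hwp x2, hx_2_1.ge, hx_2_3]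
                        · linarith only [hd x3, hwp x3, hnn x3 x1 hne_1_3.symm, hl_3_2]
                    · exfalso
                      refine NT.cert3 T x0 x1 x2 hne_0_1 hne_0_2 hne_1_2 (by norm_num) 1 2 3 (by norm_num) (by norm_num) (by norm_num) ?_ ?_ ?_
                      · linarith only [hd x0, hwp x0, hx_0_1.ge, hnn x0 x2 hne_0_2]
                      · linarith only [hd x1, hwp x1, hx_1_0.ge, hx_1_2.ge]
                      · linarith only [hd x2, hwp x2, hnn x2 x0 hne_0_2.symm, hx_2_1]
                  · rcases NT.edge3 T x2 x1 hne_1_2.symm hadj_2_1 with hx_2_1 | hx_2_1 | hx_2_1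
                    · rcases NT.edge3 T x2 x3 hne_2_3 hadj_2_3 with hx_2_3 | hx_2_3 | hx_2_3
                      · rcases NT.edge3 T x3 x2 hne_2_3.symm hadj_3_2 with hx_3_2 | hx_3_2 | hx_3_2
                        · have cw_0 : T.w x0 = T.w x0 := rfl
                          have cw_1 : T.w x1 = T.w x0 := by linarith only [cw_0, hx_0_1, hx_1_0, hs_0_1]
                          have cw_2 : T.w x2 = 2 * T.w x0 := by linarith only [cw_1, hx_1_2, hx_2_1, hs_1_2]
                          have cw_3 : T.w x3 = 2 * T.w x0 := by linarith only [cw_2, hx_2_3, hx_3_2, hs_2_3]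
                          have ca_0_0 : T.a x0 x0 = -2 * T.w x0 := by linarith only [hd x0, cw_0]
                          have ca_0_1 : T.a x0 x1 = T.w x0 := by linarith only [hx_0_1, cw_0]
                          have ca_1_0 : T.a x1 x0 = T.w x0 := by linarith only [hx_1_0, cw_1]
                          have ca_1_1 : T.a x1 x1 = -2 * T.w x0 := by linarith only [hd x1, cw_1]
                          have ca_1_2 : T.a x1 x2 = 2 * T.w x0 := by linarith only [hx_1_2, cw_1]
                          have ca_2_1 : T.a x2 x1 = 2 * T.w x0 := by linarith only [hx_2_1, cw_2]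
                          have ca_2_2 : T.a x2 x2 = -4 * T.w x0 := by linarith only [hd x2, cw_2]
                          have ca_2_3 : T.a x2 x3 = 2 * T.w x0 := by linarith only [hx_2_3, cw_2]
                          have ca_3_2 : T.a x3 x2 = 2 * T.w x0 := by linarith only [hx_3_2, cw_3]
                          have ca_3_3 : T.a x3 x3 = -4 * T.w x0 := by linarith only [hd x3, cw_3]
                          have hm_0 : -2 * T.m x0 + 1 * T.m x1 = 0 := by
                            have h := hrow_0
                            rw [ca_0_0, ca_0_1, hz_0_2, hz_0_3] at h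
                            have h2 : T.w x0 * (-2 * T.m x0 + 1 * T.m x1) = 0 := by linarith only [h]
                            rcases mul_eq_zero.mp h2 with h3 | h3
                            · exact absurd h3 (hwp _).ne'
                            · exact h3
                          have hm_1 : 1 * T.m x0 + -2 * T.m x1 + 2 * T.m x2 = 0 := by
                            have h := hrow_1
                            rw [ca_1_0, ca_1_1, ca_1_2, hz_1_3] at h
                            have h2 : T.w x0 * (1 * T.m x0 + -2 * T.m x1 + 2 * T.m x2) = 0 := by linarith only [h]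
                            rcases mul_eq_zero.mp h2 with h3 | h3
                            · exact absurd h3 (hwp _).ne'
                            · exact h3
                          have hm_2 : 2 * T.m x1 + -4 * T.m x2 + 2 * T.m x3 = 0 := by
                            have h := hrow_2
                            rw [hz_2_0, ca_2_1, ca_2_2, ca_2_3] at h
                            have h2 : T.w x0 * (2 * T.m x1 + -4 * T.m x2 + 2 * T.m x3) = 0 := by linarith only [h]
                            rcases mul_eq_zero.mp h2 with h3 | h3
                            · exact absurd h3 (hwp _).ne'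
                            · exact h3
                          have hm_3 : 2 * T.m x2 + -4 * T.m x3 = 0 := by
                            have h := hrow_3
                            rw [hz_3_0, hz_3_1, ca_3_2, ca_3_3] at h
                            have h2 : T.w x0 * (2 * T.m x2 + -4 * T.m x3) = 0 := by linarith only [h]
                            rcases mul_eq_zero.mp h2 with h3 | h3
                            · exact absurd h3 (hwp _).ne'
                            · exact h3
                          exfalso
                          linarith only [hm_0, hm_1, hm_2, hm_3, hmp x0, hmp x1, hmp x2, hmp x3]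
                        · exfalso
                          refine NT.cert3 T x1 x2 x3 hne_1_2 hne_1_3 hne_2_3 (by norm_num) 1 1 1 (by norm_num) (by norm_num) (by norm_num) ?_ ?_ ?_
                          · linarith only [hd x1, hwp x1, hx_1_2.ge, hnn x1 x3 hne_1_3]
                          · linarith only [hd x2, hwp x2, hx_2_1.ge, hx_2_3.ge]
                          · linarith only [hd x3, hwp x3, hnn x3 x1 hne_1_3.symm, hx_3_2.ge]
                        · exfalso
                          refine NT.cert3 T x1 x2 x3 hne_1_2 hne_1_3 hne_2_3 (by norm_num) 2 2 3 (by norm_num) (by norm_num) (by norm_num) ?_ ?_ ?_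
                          · linarith only [hd x1, hwp x1, hx_1_2.ge, hnn x1 x3 hne_1_3]
                          · linarith only [hd x2, hwp x2, hx_2_1.ge, hx_2_3.ge]
                          · linarith only [hd x3, hwp x3, hnn x3 x1 hne_1_3.symm, hx_3_2]
                      · exfalso
                        refine NT.cert3 T x1 x2 x3 hne_1_2 hne_1_3 hne_2_3 (by norm_num) 2 2 1 (by norm_num) (by norm_num) (by norm_num) ?_ ?_ ?_
                        · linarith only [hd x1, hwp x1, hx_1_2.ge, hnn x1 x3 hne_1_3]
                        · linarith only [hd x2, hwp x2, hx_2_1.ge, hx_2_3.ge]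
                        · linarith only [hd x3, hwp x3, hnn x3 x1 hne_1_3.symm, hl_3_2]
                      · exfalso
                        refine NT.cert3 T x1 x2 x3 hne_1_2 hne_1_3 hne_2_3 (by norm_num) 2 2 1 (by norm_num) (by norm_num) (by norm_num) ?_ ?_ ?_
                        · linarith only [hd x1, hwp x1, hx_1_2.ge, hnn x1 x3 hne_1_3]
                        · linarith only [hd x2, hwp x2, hx_2_1.ge, hx_2_3]
                        · linarith only [hd x3, hwp x3, hnn x3 x1 hne_1_3.symm, hl_3_2]
                    · exfalso
                      refine NT.cert2 T x1 x2 hne_1_2 (by norm_num) 1 1 (by norm_num) (by norm_num) ?_ ?_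
                      · linarith only [hd x1, hwp x1, hx_1_2.ge]
                      · linarith only [hd x2, hwp x2, hx_2_1.ge]
                    · exfalso
                      refine NT.cert2 T x1 x2 hne_1_2 (by norm_num) 1 1 (by norm_num) (by norm_num) ?_ ?_
                      · linarith only [hd x1, hwp x1, hx_1_2.ge]
                      · linarith only [hd x2, hwp x2, hx_2_1]
                  · exfalso
                    refine NT.cert3 T x0 x1 x2 hne_0_1 hne_0_2 hne_1_2 (by norm_num) 1 2 1 (by norm_num) (by norm_num) (by norm_num) ?_ ?_ ?_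
                    · linarith only [hd x0, hwp x0, hx_0_1.ge, hnn x0 x2 hne_0_2]
                    · linarith only [hd x1, hwp x1, hx_1_0.ge, hx_1_2]
                    · linarith only [hd x2, hwp x2, hnn x2 x0 hne_0_2.symm, hl_2_1]
                · rcases NT.edge3 T x1 x2 hne_1_2 hadj_1_2 with hx_1_2 | hx_1_2 | hx_1_2
                  · rcases NT.edge3 T x2 x1 hne_1_2.symm hadj_2_1 with hx_2_1 | hx_2_1 | hx_2_1
                    · rcases NT.edge3 T x2 x3 hne_2_3 hadj_2_3 with hx_2_3 | hx_2_3 | hx_2_3
                      · rcases NT.edge3 T x3 x2 hne_2_3.symm hadj_3_2 with hx_3_2 | hx_3_2 | hx_3_2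
                        · have cw_1 : T.w x1 = T.w x1 := rfl
                          have cw_0 : T.w x0 = 2 * T.w x1 := by linarith only [cw_1, hx_1_0, hx_0_1, hs_0_1]
                          have cw_2 : T.w x2 = T.w x1 := by linarith only [cw_1, hx_1_2, hx_2_1, hs_1_2]
                          have cw_3 : T.w x3 = T.w x1 := by linarith only [cw_2, hx_2_3, hx_3_2, hs_2_3]
                          have ca_0_0 : T.a x0 x0 = -4 * T.w x1 := by linarith only [hd x0, cw_0]
                          have ca_0_1 : T.a x0 x1 = 2 * T.w x1 := by linarith only [hx_0_1, cw_0]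
                          have ca_1_0 : T.a x1 x0 = 2 * T.w x1 := by linarith only [hx_1_0, cw_1]
                          have ca_1_1 : T.a x1 x1 = -2 * T.w x1 := by linarith only [hd x1, cw_1]
                          have ca_1_2 : T.a x1 x2 = T.w x1 := by linarith only [hx_1_2, cw_1]
                          have ca_2_1 : T.a x2 x1 = T.w x1 := by linarith only [hx_2_1, cw_2]
                          have ca_2_2 : T.a x2 x2 = -2 * T.w x1 := by linarith only [hd x2, cw_2]
                          have ca_2_3 : T.a x2 x3 = T.w x1 := by linarith only [hx_2_3, cw_2]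
                          have ca_3_2 : T.a x3 x2 = T.w x1 := by linarith only [hx_3_2, cw_3]
                          have ca_3_3 : T.a x3 x3 = -2 * T.w x1 := by linarith only [hd x3, cw_3]
                          have hm_0 : -4 * T.m x0 + 2 * T.m x1 = 0 := by
                            have h := hrow_0
                            rw [ca_0_0, ca_0_1, hz_0_2, hz_0_3] at h
                            have h2 : T.w x1 * (-4 * T.m x0 + 2 * T.m x1) = 0 := by linarith only [h]
                            rcases mul_eq_zero.mp h2 with h3 | h3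
                            · exact absurd h3 (hwp _).ne'
                            · exact h3
                          have hm_1 : 2 * T.m x0 + -2 * T.m x1 + 1 * T.m x2 = 0 := by
                            have h := hrow_1
                            rw [ca_1_0, ca_1_1, ca_1_2, hz_1_3] at h
                            have h2 : T.w x1 * (2 * T.m x0 + -2 * T.m x1 + 1 * T.m x2) = 0 := by linarith only [h]
                            rcases mul_eq_zero.mp h2 with h3 | h3
                            · exact absurd h3 (hwp _).ne'
                            · exact h3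
                          have hm_2 : 1 * T.m x1 + -2 * T.m x2 + 1 * T.m x3 = 0 := by
                            have h := hrow_2
                            rw [hz_2_0, ca_2_1, ca_2_2, ca_2_3] at h
                            have h2 : T.w x1 * (1 * T.m x1 + -2 * T.m x2 + 1 * T.m x3) = 0 := by linarith only [h]
                            rcases mul_eq_zero.mp h2 with h3 | h3
                            · exact absurd h3 (hwp _).ne'
                            · exact h3
                          have hm_3 : 1 * T.m x2 + -2 * T.m x3 = 0 := by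
                            have h := hrow_3
                            rw [hz_3_0, hz_3_1, ca_3_2, ca_3_3] at h
                            have h2 : T.w x1 * (1 * T.m x2 + -2 * T.m x3) = 0 := by linarith only [h]
                            rcases mul_eq_zero.mp h2 with h3 | h3
                            · exact absurd h3 (hwp _).ne'
                            · exact h3
                          exfalso
                          linarith only [hm_0, hm_1, hm_2, hm_3, hmp x0, hmp x1, hmp x2, hmp x3]
                        · have cw_3 : T.w x3 = T.w x3 := rfl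
                          have cw_2 : T.w x2 = 2 * T.w x3 := by linarith only [cw_3, hx_3_2, hx_2_3, hs_2_3]
                          have cw_1 : T.w x1 = 2 * T.w x3 := by linarith only [cw_2, hx_2_1, hx_1_2, hs_1_2]
                          have cw_0 : T.w x0 = 4 * T.w x3 := by linarith only [cw_1, hx_1_0, hx_0_1, hs_0_1]
                          have ca_0_0 : T.a x0 x0 = -8 * T.w x3 := by linarith only [hd x0, cw_0]
                          have ca_0_1 : T.a x0 x1 = 4 * T.w x3 := by linarith only [hx_0_1, cw_0]
                          have ca_1_0 : T.a x1 x0 = 4 * T.w x3 := by linarith only [hx_1_0, cw_1]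
                          have ca_1_1 : T.a x1 x1 = -4 * T.w x3 := by linarith only [hd x1, cw_1]
                          have ca_1_2 : T.a x1 x2 = 2 * T.w x3 := by linarith only [hx_1_2, cw_1]
                          have ca_2_1 : T.a x2 x1 = 2 * T.w x3 := by linarith only [hx_2_1, cw_2]
                          have ca_2_2 : T.a x2 x2 = -4 * T.w x3 := by linarith only [hd x2, cw_2]
                          have ca_2_3 : T.a x2 x3 = 2 * T.w x3 := by linarith only [hx_2_3, cw_2]
                          have ca_3_2 : T.a x3 x2 = 2 * T.w x3 := by linarith only [hx_3_2, cw_3]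
                          have ca_3_3 : T.a x3 x3 = -2 * T.w x3 := by linarith only [hd x3, cw_3]
                          have hm_0 : -8 * T.m x0 + 4 * T.m x1 = 0 := by
                            have h := hrow_0
                            rw [ca_0_0, ca_0_1, hz_0_2, hz_0_3] at h
                            have h2 : T.w x3 * (-8 * T.m x0 + 4 * T.m x1) = 0 := by linarith only [h]
                            rcases mul_eq_zero.mp h2 with h3 | h3
                            · exact absurd h3 (hwp _).ne'
                            · exact h3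
                          have hm_1 : 4 * T.m x0 + -4 * T.m x1 + 2 * T.m x2 = 0 := by
                            have h := hrow_1
                            rw [ca_1_0, ca_1_1, ca_1_2, hz_1_3] at h
                            have h2 : T.w x3 * (4 * T.m x0 + -4 * T.m x1 + 2 * T.m x2) = 0 := by linarith only [h]
                            rcases mul_eq_zero.mp h2 with h3 | h3
                            · exact absurd h3 (hwp _).ne'
                            · exact h3
                          have hm_2 : 2 * T.m x1 + -4 * T.m x2 + 2 * T.m x3 = 0 := by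
                            have h := hrow_2
                            rw [hz_2_0, ca_2_1, ca_2_2, ca_2_3] at h
                            have h2 : T.w x3 * (2 * T.m x1 + -4 * T.m x2 + 2 * T.m x3) = 0 := by linarith only [h]
                            rcases mul_eq_zero.mp h2 with h3 | h3
                            · exact absurd h3 (hwp _).ne'
                            · exact h3
                          have hm_3 : 2 * T.m x2 + -2 * T.m x3 = 0 := by
                            have h := hrow_3
                            rw [hz_3_0, hz_3_1, ca_3_2, ca_3_3] at h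
                            have h2 : T.w x3 * (2 * T.m x2 + -2 * T.m x3) = 0 := by linarith only [h]
                            rcases mul_eq_zero.mp h2 with h3 | h3
                            · exact absurd h3 (hwp _).ne'
                            · exact h3
                          have cmu_0 : T.m x0 = T.m x0 := rfl
                          have cmu_1 : T.m x1 = 2 * T.m x0 := by linarith only [hm_0, hm_1, hm_2, hm_3]
                          have cmu_2 : T.m x2 = 2 * T.m x0 := by linarith only [hm_0, hm_1, hm_2, hm_3]
                          have cmu_3 : T.m x3 = 2 * T.m x0 := by linarith only [hm_0, hm_1, hm_2, hm_3]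
                          have hinjσ : Function.Injective ![x3, x2, x1, x0] := NT.inj4 _ _ _ _ hne_2_3.symm hne_1_3.symm hne_0_3.symm hne_1_2.symm hne_0_2.symm hne_0_1.symm
                          exact ⟨Equiv.ofBijective ![x3, x2, x1, x0] ⟨hinjσ, Finite.surjective_of_injective hinjσ⟩, T.m x0, T.w x3, Or.inr (Or.inl ⟨cmu_3, cmu_2, cmu_1, cmu_0, cw_3, cw_2, cw_1, cw_0, ca_3_3, ca_3_2, hz_3_1, hz_3_0, ca_2_2, ca_2_1, hz_2_0, ca_1_1, ca_1_0, ca_0_0⟩)⟩
                        · exfalso
                          refine NT.cert3 T x1 x2 x3 hne_1_2 hne_1_3 hne_2_3 (by norm_num) 1 2 3 (by norm_num) (by norm_num) (by norm_num) ?_ ?_ ?_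
                          · linarith only [hd x1, hwp x1, hx_1_2.ge, hnn x1 x3 hne_1_3]
                          · linarith only [hd x2, hwp x2, hx_2_1.ge, hx_2_3.ge]
                          · linarith only [hd x3, hwp x3, hnn x3 x1 hne_1_3.symm, hx_3_2]
                      · obtain ⟨heq_0, heq_1, heq_2, heq_3⟩ := NT.harm4 T x0 x1 x2 x3 hne_0_1 hne_0_2 hne_0_3 hne_1_2 hne_1_3 hne_2_3 1 2 2 1
                          (by linarith only [hd x0, hx_0_1.ge, hz_0_2, hz_0_3])
                          (by linarith only [hd x1, hx_1_0.ge, hx_1_2.ge, hz_1_3])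
                          (by linarith only [hd x2, hz_2_0, hx_2_1.ge, hx_2_3.ge])
                          (by linarith only [hd x3, hz_3_0, hz_3_1, hl_3_2])
                        have hx_3_2 : T.a x3 x2 = T.w x3 := by linarith only [heq_3, hwp x3, hd x3, hz_3_0, hz_3_1, hl_3_2]
                        have cw_1 : T.w x1 = T.w x1 := rfl
                        have cw_0 : T.w x0 = 2 * T.w x1 := by linarith only [cw_1, hx_1_0, hx_0_1, hs_0_1]
                        have cw_2 : T.w x2 = T.w x1 := by linarith only [cw_1, hx_1_2, hx_2_1, hs_1_2]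
                        have cw_3 : T.w x3 = 2 * T.w x1 := by linarith only [cw_2, hx_2_3, hx_3_2, hs_2_3]
                        have ca_0_0 : T.a x0 x0 = -4 * T.w x1 := by linarith only [hd x0, cw_0]
                        have ca_0_1 : T.a x0 x1 = 2 * T.w x1 := by linarith only [hx_0_1, cw_0]
                        have ca_1_0 : T.a x1 x0 = 2 * T.w x1 := by linarith only [hx_1_0, cw_1]
                        have ca_1_1 : T.a x1 x1 = -2 * T.w x1 := by linarith only [hd x1, cw_1]
                        have ca_1_2 : T.a x1 x2 = T.w x1 := by linarith only [hx_1_2, cw_1]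
                        have ca_2_1 : T.a x2 x1 = T.w x1 := by linarith only [hx_2_1, cw_2]
                        have ca_2_2 : T.a x2 x2 = -2 * T.w x1 := by linarith only [hd x2, cw_2]
                        have ca_2_3 : T.a x2 x3 = 2 * T.w x1 := by linarith only [hx_2_3, cw_2]
                        have ca_3_2 : T.a x3 x2 = 2 * T.w x1 := by linarith only [hx_3_2, cw_3]
                        have ca_3_3 : T.a x3 x3 = -4 * T.w x1 := by linarith only [hd x3, cw_3]
                        have hm_0 : -4 * T.m x0 + 2 * T.m x1 = 0 := by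
                          have h := hrow_0
                          rw [ca_0_0, ca_0_1, hz_0_2, hz_0_3] at h
                          have h2 : T.w x1 * (-4 * T.m x0 + 2 * T.m x1) = 0 := by linarith only [h]
                          rcases mul_eq_zero.mp h2 with h3 | h3
                          · exact absurd h3 (hwp _).ne'
                          · exact h3
                        have hm_1 : 2 * T.m x0 + -2 * T.m x1 + 1 * T.m x2 = 0 := by
                          have h := hrow_1
                          rw [ca_1_0, ca_1_1, ca_1_2, hz_1_3] at h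
                          have h2 : T.w x1 * (2 * T.m x0 + -2 * T.m x1 + 1 * T.m x2) = 0 := by linarith only [h]
                          rcases mul_eq_zero.mp h2 with h3 | h3
                          · exact absurd h3 (hwp _).ne'
                          · exact h3
                        have hm_2 : 1 * T.m x1 + -2 * T.m x2 + 2 * T.m x3 = 0 := by
                          have h := hrow_2
                          rw [hz_2_0, ca_2_1, ca_2_2, ca_2_3] at h
                          have h2 : T.w x1 * (1 * T.m x1 + -2 * T.m x2 + 2 * T.m x3) = 0 := by linarith only [h]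
                          rcases mul_eq_zero.mp h2 with h3 | h3
                          · exact absurd h3 (hwp _).ne'
                          · exact h3
                        have hm_3 : 2 * T.m x2 + -4 * T.m x3 = 0 := by
                          have h := hrow_3
                          rw [hz_3_0, hz_3_1, ca_3_2, ca_3_3] at h
                          have h2 : T.w x1 * (2 * T.m x2 + -4 * T.m x3) = 0 := by linarith only [h]
                          rcases mul_eq_zero.mp h2 with h3 | h3
                          · exact absurd h3 (hwp _).ne'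
                          · exact h3
                        have cmu_0 : T.m x0 = T.m x0 := rfl
                        have cmu_1 : T.m x1 = 2 * T.m x0 := by linarith only [hm_0, hm_1, hm_2, hm_3]
                        have cmu_2 : T.m x2 = 2 * T.m x0 := by linarith only [hm_0, hm_1, hm_2, hm_3]
                        have cmu_3 : T.m x3 = T.m x0 := by linarith only [hm_0, hm_1, hm_2, hm_3]
                        have hinjσ : Function.Injective ![x0, x1, x2, x3] := NT.inj4 _ _ _ _ hne_0_1 hne_0_2 hne_0_3 hne_1_2 hne_1_3 hne_2_3
                        exact ⟨Equiv.ofBijective ![x0, x1, x2, x3] ⟨hinjσ, Finite.surjective_of_injective hinjσ⟩, T.m x0, T.w x1, Or.inr (Or.inr (Or.inr (Or.inl ⟨cmu_0, cmu_1, cmu_2, cmu_3, cw_0, cw_1, cw_2, cw_3, ca_0_0, ca_0_1, hz_0_2, hz_0_3, ca_1_1, ca_1_2, hz_1_3, ca_2_2, ca_2_3, ca_3_3⟩)))⟩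
                      · exfalso
                        refine NT.cert3 T x1 x2 x3 hne_1_2 hne_1_3 hne_2_3 (by norm_num) 1 2 1 (by norm_num) (by norm_num) (by norm_num) ?_ ?_ ?_
                        · linarith only [hd x1, hwp x1, hx_1_2.ge, hnn x1 x3 hne_1_3]
                        · linarith only [hd x2, hwp x2, hx_2_1.ge, hx_2_3]
                        · linarith only [hd x3, hwp x3, hnn x3 x1 hne_1_3.symm, hl_3_2]
                    · exfalso
                      refine NT.cert3 T x0 x1 x2 hne_0_1 hne_0_2 hne_1_2 (by norm_num) 1 2 2 (by norm_num) (by norm_num) (by norm_num) ?_ ?_ ?_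
                      · linarith only [hd x0, hwp x0, hx_0_1.ge, hnn x0 x2 hne_0_2]
                      · linarith only [hd x1, hwp x1, hx_1_0.ge, hx_1_2.ge]
                      · linarith only [hd x2, hwp x2, hnn x2 x0 hne_0_2.symm, hx_2_1.ge]
                    · exfalso
                      refine NT.cert3 T x0 x1 x2 hne_0_1 hne_0_2 hne_1_2 (by norm_num) 1 2 3 (by norm_num) (by norm_num) (by norm_num) ?_ ?_ ?_
                      · linarith only [hd x0, hwp x0, hx_0_1.ge, hnn x0 x2 hne_0_2]
                      · linarith only [hd x1, hwp x1, hx_1_0.ge, hx_1_2.ge]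
                      · linarith only [hd x2, hwp x2, hnn x2 x0 hne_0_2.symm, hx_2_1]
                  · exfalso
                    refine NT.cert3 T x0 x1 x2 hne_0_1 hne_0_2 hne_1_2 (by norm_num) 1 2 1 (by norm_num) (by norm_num) (by norm_num) ?_ ?_ ?_
                    · linarith only [hd x0, hwp x0, hx_0_1.ge, hnn x0 x2 hne_0_2]
                    · linarith only [hd x1, hwp x1, hx_1_0.ge, hx_1_2.ge]
                    · linarith only [hd x2, hwp x2, hnn x2 x0 hne_0_2.symm, hl_2_1]
                  · exfalso
                    refine NT.cert3 T x0 x1 x2 hne_0_1 hne_0_2 hne_1_2 (by norm_num) 1 2 1 (by norm_num) (by norm_num) (by norm_num) ?_ ?_ ?_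
                    · linarith only [hd x0, hwp x0, hx_0_1.ge, hnn x0 x2 hne_0_2]
                    · linarith only [hd x1, hwp x1, hx_1_0.ge, hx_1_2]
                    · linarith only [hd x2, hwp x2, hnn x2 x0 hne_0_2.symm, hl_2_1]
                · exfalso
                  refine NT.cert3 T x0 x1 x2 hne_0_1 hne_0_2 hne_1_2 (by norm_num) 1 2 1 (by norm_num) (by norm_num) (by norm_num) ?_ ?_ ?_
                  · linarith only [hd x0, hwp x0, hx_0_1.ge, hnn x0 x2 hne_0_2]
                  · linarith only [hd x1, hwp x1, hx_1_0, hl_1_2]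
                  · linarith only [hd x2, hwp x2, hnn x2 x0 hne_0_2.symm, hl_2_1]
              · rcases NT.edge3 T x1 x0 hne_0_1.symm hadj_1_0 with hx_1_0 | hx_1_0 | hx_1_0
                · rcases NT.edge3 T x1 x2 hne_1_2 hadj_1_2 with hx_1_2 | hx_1_2 | hx_1_2
                  · rcases NT.edge3 T x2 x1 hne_1_2.symm hadj_2_1 with hx_2_1 | hx_2_1 | hx_2_1
                    · rcases NT.edge3 T x2 x3 hne_2_3 hadj_2_3 with hx_2_3 | hx_2_3 | hx_2_3
                      · rcases NT.edge3 T x3 x2 hne_2_3.symm hadj_3_2 with hx_3_2 | hx_3_2 | hx_3_2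
                        · have cw_0 : T.w x0 = T.w x0 := rfl
                          have cw_1 : T.w x1 = 2 * T.w x0 := by linarith only [cw_0, hx_0_1, hx_1_0, hs_0_1]
                          have cw_2 : T.w x2 = 2 * T.w x0 := by linarith only [cw_1, hx_1_2, hx_2_1, hs_1_2]
                          have cw_3 : T.w x3 = 2 * T.w x0 := by linarith only [cw_2, hx_2_3, hx_3_2, hs_2_3]
                          have ca_0_0 : T.a x0 x0 = -2 * T.w x0 := by linarith only [hd x0, cw_0]
                          have ca_0_1 : T.a x0 x1 = 2 * T.w x0 := by linarith only [hx_0_1, cw_0]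
                          have ca_1_0 : T.a x1 x0 = 2 * T.w x0 := by linarith only [hx_1_0, cw_1]
                          have ca_1_1 : T.a x1 x1 = -4 * T.w x0 := by linarith only [hd x1, cw_1]
                          have ca_1_2 : T.a x1 x2 = 2 * T.w x0 := by linarith only [hx_1_2, cw_1]
                          have ca_2_1 : T.a x2 x1 = 2 * T.w x0 := by linarith only [hx_2_1, cw_2]
                          have ca_2_2 : T.a x2 x2 = -4 * T.w x0 := by linarith only [hd x2, cw_2]
                          have ca_2_3 : T.a x2 x3 = 2 * T.w x0 := by linarith only [hx_2_3, cw_2]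
                          have ca_3_2 : T.a x3 x2 = 2 * T.w x0 := by linarith only [hx_3_2, cw_3]
                          have ca_3_3 : T.a x3 x3 = -4 * T.w x0 := by linarith only [hd x3, cw_3]
                          have hm_0 : -2 * T.m x0 + 2 * T.m x1 = 0 := by
                            have h := hrow_0
                            rw [ca_0_0, ca_0_1, hz_0_2, hz_0_3] at h
                            have h2 : T.w x0 * (-2 * T.m x0 + 2 * T.m x1) = 0 := by linarith only [h]
                            rcases mul_eq_zero.mp h2 with h3 | h3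
                            · exact absurd h3 (hwp _).ne'
                            · exact h3
                          have hm_1 : 2 * T.m x0 + -4 * T.m x1 + 2 * T.m x2 = 0 := by
                            have h := hrow_1
                            rw [ca_1_0, ca_1_1, ca_1_2, hz_1_3] at h
                            have h2 : T.w x0 * (2 * T.m x0 + -4 * T.m x1 + 2 * T.m x2) = 0 := by linarith only [h]
                            rcases mul_eq_zero.mp h2 with h3 | h3
                            · exact absurd h3 (hwp _).ne'
                            · exact h3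
                          have hm_2 : 2 * T.m x1 + -4 * T.m x2 + 2 * T.m x3 = 0 := by
                            have h := hrow_2
                            rw [hz_2_0, ca_2_1, ca_2_2, ca_2_3] at h
                            have h2 : T.w x0 * (2 * T.m x1 + -4 * T.m x2 + 2 * T.m x3) = 0 := by linarith only [h]
                            rcases mul_eq_zero.mp h2 with h3 | h3
                            · exact absurd h3 (hwp _).ne'
                            · exact h3
                          have hm_3 : 2 * T.m x2 + -4 * T.m x3 = 0 := by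
                            have h := hrow_3
                            rw [hz_3_0, hz_3_1, ca_3_2, ca_3_3] at h
                            have h2 : T.w x0 * (2 * T.m x2 + -4 * T.m x3) = 0 := by linarith only [h]
                            rcases mul_eq_zero.mp h2 with h3 | h3
                            · exact absurd h3 (hwp _).ne'
                            · exact h3
                          exfalso
                          linarith only [hm_0, hm_1, hm_2, hm_3, hmp x0, hmp x1, hmp x2, hmp x3]
                        · have cw_0 : T.w x0 = T.w x0 := rfl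
                          have cw_1 : T.w x1 = 2 * T.w x0 := by linarith only [cw_0, hx_0_1, hx_1_0, hs_0_1]
                          have cw_2 : T.w x2 = 2 * T.w x0 := by linarith only [cw_1, hx_1_2, hx_2_1, hs_1_2]
                          have cw_3 : T.w x3 = T.w x0 := by linarith only [cw_2, hx_2_3, hx_3_2, hs_2_3]
                          have ca_0_0 : T.a x0 x0 = -2 * T.w x0 := by linarith only [hd x0, cw_0]
                          have ca_0_1 : T.a x0 x1 = 2 * T.w x0 := by linarith only [hx_0_1, cw_0]
                          have ca_1_0 : T.a x1 x0 = 2 * T.w x0 := by linarith only [hx_1_0, cw_1]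
                          have ca_1_1 : T.a x1 x1 = -4 * T.w x0 := by linarith only [hd x1, cw_1]
                          have ca_1_2 : T.a x1 x2 = 2 * T.w x0 := by linarith only [hx_1_2, cw_1]
                          have ca_2_1 : T.a x2 x1 = 2 * T.w x0 := by linarith only [hx_2_1, cw_2]
                          have ca_2_2 : T.a x2 x2 = -4 * T.w x0 := by linarith only [hd x2, cw_2]
                          have ca_2_3 : T.a x2 x3 = 2 * T.w x0 := by linarith only [hx_2_3, cw_2]
                          have ca_3_2 : T.a x3 x2 = 2 * T.w x0 := by linarith only [hx_3_2, cw_3]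
                          have ca_3_3 : T.a x3 x3 = -2 * T.w x0 := by linarith only [hd x3, cw_3]
                          have hm_0 : -2 * T.m x0 + 2 * T.m x1 = 0 := by
                            have h := hrow_0
                            rw [ca_0_0, ca_0_1, hz_0_2, hz_0_3] at h
                            have h2 : T.w x0 * (-2 * T.m x0 + 2 * T.m x1) = 0 := by linarith only [h]
                            rcases mul_eq_zero.mp h2 with h3 | h3
                            · exact absurd h3 (hwp _).ne'
                            · exact h3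
                          have hm_1 : 2 * T.m x0 + -4 * T.m x1 + 2 * T.m x2 = 0 := by
                            have h := hrow_1
                            rw [ca_1_0, ca_1_1, ca_1_2, hz_1_3] at h
                            have h2 : T.w x0 * (2 * T.m x0 + -4 * T.m x1 + 2 * T.m x2) = 0 := by linarith only [h]
                            rcases mul_eq_zero.mp h2 with h3 | h3
                            · exact absurd h3 (hwp _).ne'
                            · exact h3
                          have hm_2 : 2 * T.m x1 + -4 * T.m x2 + 2 * T.m x3 = 0 := by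
                            have h := hrow_2
                            rw [hz_2_0, ca_2_1, ca_2_2, ca_2_3] at h
                            have h2 : T.w x0 * (2 * T.m x1 + -4 * T.m x2 + 2 * T.m x3) = 0 := by linarith only [h]
                            rcases mul_eq_zero.mp h2 with h3 | h3
                            · exact absurd h3 (hwp _).ne'
                            · exact h3
                          have hm_3 : 2 * T.m x2 + -2 * T.m x3 = 0 := by
                            have h := hrow_3
                            rw [hz_3_0, hz_3_1, ca_3_2, ca_3_3] at h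
                            have h2 : T.w x0 * (2 * T.m x2 + -2 * T.m x3) = 0 := by linarith only [h]
                            rcases mul_eq_zero.mp h2 with h3 | h3
                            · exact absurd h3 (hwp _).ne'
                            · exact h3
                          have cmu_0 : T.m x0 = T.m x0 := rfl
                          have cmu_1 : T.m x1 = T.m x0 := by linarith only [hm_0, hm_1, hm_2, hm_3]
                          have cmu_2 : T.m x2 = T.m x0 := by linarith only [hm_0, hm_1, hm_2, hm_3]
                          have cmu_3 : T.m x3 = T.m x0 := by linarith only [hm_0, hm_1, hm_2, hm_3]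
                          have hinjσ : Function.Injective ![x0, x1, x2, x3] := NT.inj4 _ _ _ _ hne_0_1 hne_0_2 hne_0_3 hne_1_2 hne_1_3 hne_2_3
                          exact ⟨Equiv.ofBijective ![x0, x1, x2, x3] ⟨hinjσ, Finite.surjective_of_injective hinjσ⟩, T.m x0, T.w x0, Or.inr (Or.inr (Or.inl ⟨cmu_0, cmu_1, cmu_2, cmu_3, cw_0, cw_1, cw_2, cw_3, ca_0_0, ca_0_1, hz_0_2, hz_0_3, ca_1_1, ca_1_2, hz_1_3, ca_2_2, ca_2_3, ca_3_3⟩))⟩
                        · exfalso
                          refine NT.cert3 T x1 x2 x3 hne_1_2 hne_1_3 hne_2_3 (by norm_num) 1 2 3 (by norm_num) (by norm_num) (by norm_num) ?_ ?_ ?_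
                          · linarith only [hd x1, hwp x1, hx_1_2.ge, hnn x1 x3 hne_1_3]
                          · linarith only [hd x2, hwp x2, hx_2_1.ge, hx_2_3.ge]
                          · linarith only [hd x3, hwp x3, hnn x3 x1 hne_1_3.symm, hx_3_2]
                      · obtain ⟨heq_0, heq_1, heq_2, heq_3⟩ := NT.harm4 T x0 x1 x2 x3 hne_0_1 hne_0_2 hne_0_3 hne_1_2 hne_1_3 hne_2_3 2 2 2 1
                          (by linarith only [hd x0, hx_0_1.ge, hz_0_2, hz_0_3])
                          (by linarith only [hd x1, hx_1_0.ge, hx_1_2.ge, hz_1_3])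
                          (by linarith only [hd x2, hz_2_0, hx_2_1.ge, hx_2_3.ge])
                          (by linarith only [hd x3, hz_3_0, hz_3_1, hl_3_2])
                        have hx_3_2 : T.a x3 x2 = T.w x3 := by linarith only [heq_3, hwp x3, hd x3, hz_3_0, hz_3_1, hl_3_2]
                        have cw_0 : T.w x0 = T.w x0 := rfl
                        have cw_1 : T.w x1 = 2 * T.w x0 := by linarith only [cw_0, hx_0_1, hx_1_0, hs_0_1]
                        have cw_2 : T.w x2 = 2 * T.w x0 := by linarith only [cw_1, hx_1_2, hx_2_1, hs_1_2]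
                        have cw_3 : T.w x3 = 4 * T.w x0 := by linarith only [cw_2, hx_2_3, hx_3_2, hs_2_3]
                        have ca_0_0 : T.a x0 x0 = -2 * T.w x0 := by linarith only [hd x0, cw_0]
                        have ca_0_1 : T.a x0 x1 = 2 * T.w x0 := by linarith only [hx_0_1, cw_0]
                        have ca_1_0 : T.a x1 x0 = 2 * T.w x0 := by linarith only [hx_1_0, cw_1]
                        have ca_1_1 : T.a x1 x1 = -4 * T.w x0 := by linarith only [hd x1, cw_1]
                        have ca_1_2 : T.a x1 x2 = 2 * T.w x0 := by linarith only [hx_1_2, cw_1]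
                        have ca_2_1 : T.a x2 x1 = 2 * T.w x0 := by linarith only [hx_2_1, cw_2]
                        have ca_2_2 : T.a x2 x2 = -4 * T.w x0 := by linarith only [hd x2, cw_2]
                        have ca_2_3 : T.a x2 x3 = 4 * T.w x0 := by linarith only [hx_2_3, cw_2]
                        have ca_3_2 : T.a x3 x2 = 4 * T.w x0 := by linarith only [hx_3_2, cw_3]
                        have ca_3_3 : T.a x3 x3 = -8 * T.w x0 := by linarith only [hd x3, cw_3]
                        have hm_0 : -2 * T.m x0 + 2 * T.m x1 = 0 := by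
                          have h := hrow_0
                          rw [ca_0_0, ca_0_1, hz_0_2, hz_0_3] at h
                          have h2 : T.w x0 * (-2 * T.m x0 + 2 * T.m x1) = 0 := by linarith only [h]
                          rcases mul_eq_zero.mp h2 with h3 | h3
                          · exact absurd h3 (hwp _).ne'
                          · exact h3
                        have hm_1 : 2 * T.m x0 + -4 * T.m x1 + 2 * T.m x2 = 0 := by
                          have h := hrow_1
                          rw [ca_1_0, ca_1_1, ca_1_2, hz_1_3] at h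
                          have h2 : T.w x0 * (2 * T.m x0 + -4 * T.m x1 + 2 * T.m x2) = 0 := by linarith only [h]
                          rcases mul_eq_zero.mp h2 with h3 | h3
                          · exact absurd h3 (hwp _).ne'
                          · exact h3
                        have hm_2 : 2 * T.m x1 + -4 * T.m x2 + 4 * T.m x3 = 0 := by
                          have h := hrow_2
                          rw [hz_2_0, ca_2_1, ca_2_2, ca_2_3] at h
                          have h2 : T.w x0 * (2 * T.m x1 + -4 * T.m x2 + 4 * T.m x3) = 0 := by linarith only [h]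
                          rcases mul_eq_zero.mp h2 with h3 | h3
                          · exact absurd h3 (hwp _).ne'
                          · exact h3
                        have hm_3 : 4 * T.m x2 + -8 * T.m x3 = 0 := by
                          have h := hrow_3
                          rw [hz_3_0, hz_3_1, ca_3_2, ca_3_3] at h
                          have h2 : T.w x0 * (4 * T.m x2 + -8 * T.m x3) = 0 := by linarith only [h]
                          rcases mul_eq_zero.mp h2 with h3 | h3
                          · exact absurd h3 (hwp _).ne'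
                          · exact h3
                        have cmu_0 : T.m x0 = 2 * T.m x3 := by linarith only [hm_0, hm_1, hm_2, hm_3]
                        have cmu_1 : T.m x1 = 2 * T.m x3 := by linarith only [hm_0, hm_1, hm_2, hm_3]
                        have cmu_2 : T.m x2 = 2 * T.m x3 := by linarith only [hm_0, hm_1, hm_2, hm_3]
                        have cmu_3 : T.m x3 = T.m x3 := rfl
                        have hinjσ : Function.Injective ![x0, x1, x2, x3] := NT.inj4 _ _ _ _ hne_0_1 hne_0_2 hne_0_3 hne_1_2 hne_1_3 hne_2_3
                        exact ⟨Equiv.ofBijective ![x0, x1, x2, x3] ⟨hinjσ, Finite.surjective_of_injective hinjσ⟩, T.m x3, T.w x0, Or.inr (Or.inl ⟨cmu_0, cmu_1, cmu_2, cmu_3, cw_0, cw_1, cw_2, cw_3, ca_0_0, ca_0_1, hz_0_2, hz_0_3, ca_1_1, ca_1_2, hz_1_3, ca_2_2, ca_2_3, ca_3_3⟩)⟩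
                      · exfalso
                        refine NT.cert3 T x1 x2 x3 hne_1_2 hne_1_3 hne_2_3 (by norm_num) 1 2 1 (by norm_num) (by norm_num) (by norm_num) ?_ ?_ ?_
                        · linarith only [hd x1, hwp x1, hx_1_2.ge, hnn x1 x3 hne_1_3]
                        · linarith only [hd x2, hwp x2, hx_2_1.ge, hx_2_3]
                        · linarith only [hd x3, hwp x3, hnn x3 x1 hne_1_3.symm, hl_3_2]
                    · exfalso
                      refine NT.cert3 T x0 x1 x2 hne_0_1 hne_0_2 hne_1_2 (by norm_num) 1 1 1 (by norm_num) (by norm_num) (by norm_num) ?_ ?_ ?_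
                      · linarith only [hd x0, hwp x0, hx_0_1.ge, hnn x0 x2 hne_0_2]
                      · linarith only [hd x1, hwp x1, hx_1_0.ge, hx_1_2.ge]
                      · linarith only [hd x2, hwp x2, hnn x2 x0 hne_0_2.symm, hx_2_1.ge]
                    · exfalso
                      refine NT.cert3 T x0 x1 x2 hne_0_1 hne_0_2 hne_1_2 (by norm_num) 2 2 3 (by norm_num) (by norm_num) (by norm_num) ?_ ?_ ?_
                      · linarith only [hd x0, hwp x0, hx_0_1.ge, hnn x0 x2 hne_0_2]
                      · linarith only [hd x1, hwp x1, hx_1_0.ge, hx_1_2.ge]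
                      · linarith only [hd x2, hwp x2, hnn x2 x0 hne_0_2.symm, hx_2_1]
                  · exfalso
                    refine NT.cert3 T x0 x1 x2 hne_0_1 hne_0_2 hne_1_2 (by norm_num) 2 2 1 (by norm_num) (by norm_num) (by norm_num) ?_ ?_ ?_
                    · linarith only [hd x0, hwp x0, hx_0_1.ge, hnn x0 x2 hne_0_2]
                    · linarith only [hd x1, hwp x1, hx_1_0.ge, hx_1_2.ge]
                    · linarith only [hd x2, hwp x2, hnn x2 x0 hne_0_2.symm, hl_2_1]
                  · exfalso
                    refine NT.cert3 T x0 x1 x2 hne_0_1 hne_0_2 hne_1_2 (by norm_num) 2 2 1 (by norm_num) (by norm_num) (by norm_num) ?_ ?_ ?_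
                    · linarith only [hd x0, hwp x0, hx_0_1.ge, hnn x0 x2 hne_0_2]
                    · linarith only [hd x1, hwp x1, hx_1_0.ge, hx_1_2]
                    · linarith only [hd x2, hwp x2, hnn x2 x0 hne_0_2.symm, hl_2_1]
                · exfalso
                  refine NT.cert2 T x0 x1 hne_0_1 (by norm_num) 1 1 (by norm_num) (by norm_num) ?_ ?_
                  · linarith only [hd x0, hwp x0, hx_0_1.ge]
                  · linarith only [hd x1, hwp x1, hx_1_0.ge]
                · exfalso
                  refine NT.cert2 T x0 x1 hne_0_1 (by norm_num) 1 1 (by norm_num) (by norm_num) ?_ ?_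
                  · linarith only [hd x0, hwp x0, hx_0_1.ge]
                  · linarith only [hd x1, hwp x1, hx_1_0]
              · exfalso
                refine NT.cert3 T x0 x1 x2 hne_0_1 hne_0_2 hne_1_2 (by norm_num) 3 2 1 (by norm_num) (by norm_num) (by norm_num) ?_ ?_ ?_
                · linarith only [hd x0, hwp x0, hx_0_1, hnn x0 x2 hne_0_2]
                · linarith only [hd x1, hwp x1, hl_1_0, hl_1_2]
                · linarith only [hd x2, hwp x2, hnn x2 x0 hne_0_2.symm, hl_2_1]
          · exfalso
            refine hleaf ⟨x2, x1, hne_1_2.symm, hadj_2_1, fun z hz => ?_⟩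
            by_contra hcon
            rw [not_or] at hcon
            exact hq_2 ⟨z, ⟨fun h => hz (h ▸ hz_2_0), hcon.2, hcon.1⟩, hz⟩
        · exfalso
          refine hleaf ⟨x1, x0, hne_0_1.symm, hadj_1_0, fun z hz => ?_⟩
          by_contra hcon
          rw [not_or] at hcon
          exact hq_1 ⟨z, ⟨hcon.2, hcon.1⟩, hz⟩
      · exfalso
        refine NT.not_closed T ![x0] (by norm_num) (by norm_num) ?_
        intro s y hy
        by_contra hcon
        fin_cases s
        · exact hq_0 ⟨y, fun h => hcon ⟨(0 : Fin 1), h⟩, hy⟩

end Groth.Agent.S7364
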