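import Groth.Statements.S7367
import Groth.Agent.Lib.Helper39.NumGenus2
-- import your own Groth.Agent.* helpers here

set_option autoImplicit false
open Finset
open Models Models.NumericalType

namespace Groth.Agent.S7367

open Groth.Agent.Lib.Helper39

/-- Genus one classification: case n = 6: let T be a minimal numerical type of genus 1 on 6 indices.
Then all g_i = 0 and, for some permutation σ of the indices and some integers m, w, the
multiplicities, weights and intersection matrix (m_{σ(i)}, w_{σ(i)}, a_{σ(i)σ(j)}) are those of one
of the following 7 types: [cycle] m = (m, m, m, m, m, m), w = (w, w, w, w, w, w), a = (-2 * w w 0 0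
0 w / w -2 * w w 0 0 0 / 0 w -2 * w w 0 0 / 0 0 w -2 * w w 0 / 0 0 0 w -2 * w w / w 0 0 0 w -2 * w);
[up chain equal up] m = (2 * m, 2 * m, 2 * m, 2 * m, 2 * m, m), w = (w, 2 * w, 2 * w, 2 * w, 2 * w,
4 * w), a = (-2 * w 2 * w 0 0 0 0 / 2 * w -4 * w 2 * w 0 0 0 / 0 2 * w -4 * w 2 * w 0 0 / 0 0 2 * w
-4 * w 2 * w 0 / 0 0 0 2 * w -4 * w 4 * w / 0 0 0 0 4 * w -8 * w); [up chain equal down] m = (m, m,
m, m, m, m), w = (w, 2 * w, 2 * w, 2 * w, 2 * w, w), a = (-2 * w 2 * w 0 0 0 0 / 2 * w -4 * w 2 * w
0 0 0 / 0 2 * w -4 * w 2 * w 0 0 / 0 0 2 * w -4 * w 2 * w 0 / 0 0 0 2 * w -4 * w 2 * w / 0 0 0 0 2 *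
w -2 * w); [down chain equal up] m = (m, 2 * m, 2 * m, 2 * m, 2 * m, m), w = (2 * w, w, w, w, w, 2 *
w), a = (-4 * w 2 * w 0 0 0 0 / 2 * w -2 * w w 0 0 0 / 0 w -2 * w w 0 0 / 0 0 w -2 * w w 0 / 0 0 0 w
-2 * w 2 * w / 0 0 0 0 2 * w -4 * w); [D extended up] m = (m, 2 * m, 2 * m, 2 * m, m, m), w = (2 *
w, w, w, w, w, w), a = (-4 * w 2 * w 0 0 0 0 / 2 * w -2 * w w 0 0 0 / 0 w -2 * w w 0 0 / 0 0 w -2 *
w w w / 0 0 0 w -2 * w 0 / 0 0 0 w 0 -2 * w); [D extended down] m = (2 * m, 2 * m, 2 * m, 2 * m, m,
m), w = (w, 2 * w, 2 * w, 2 * w, 2 * w, 2 * w), a = (-2 * w 2 * w 0 0 0 0 / 2 * w -4 * w 2 * w 0 0 0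
/ 0 2 * w -4 * w 2 * w 0 0 / 0 0 2 * w -4 * w 2 * w 2 * w / 0 0 0 2 * w -4 * w 0 / 0 0 0 2 * w 0 -4
* w); [double triple] m = (m, m, 2 * m, 2 * m, m, m), w = (w, w, w, w, w, w), a = (-2 * w 0 w 0 0 0
/ 0 -2 * w w 0 0 0 / w w -2 * w w 0 0 / 0 0 w -2 * w w w / 0 0 0 w -2 * w 0 / 0 0 0 w 0 -2 * w).
Only the classification direction is stated. (In the family with weights (w, 2w, …, 2w, w) the
consecutive intersection numbers are 2w, as divisibility by the weights forces; the published list
prints w there, and omits m_{n-2} = 2m in the two D-type families.) -/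
theorem result (T : Models.NumericalType 6) (hmin : T.IsMinimal) (hg : T.genus = 1) :
    (∀ i, T.g i = 0) ∧ ∃ (σ : Equiv.Perm (Fin 6)) (m w : ℤ),
      ((T.m (σ 0) = m ∧ T.m (σ 1) = m ∧ T.m (σ 2) = m ∧ T.m (σ 3) = m ∧ T.m (σ 4) = m ∧ T.m (σ 5) = m ∧ T.w (σ 0) = w ∧ T.w (σ 1) = w ∧ T.w (σ 2) = w ∧ T.w (σ 3) = w ∧ T.w (σ 4) = w ∧ T.w (σ 5) = w ∧ T.a (σ 0) (σ 0) = -2 * w ∧ T.a (σ 0) (σ 1) = w ∧ T.a (σ 0) (σ 2) = 0 ∧ T.a (σ 0) (σ 3) = 0 ∧ T.a (σ 0) (σ 4) = 0 ∧ T.a (σ 0) (σ 5) = w ∧ T.a (σ 1) (σ 1) = -2 * w ∧ T.a (σ 1) (σ 2) = w ∧ T.a (σ 1) (σ 3) = 0 ∧ T.a (σ 1) (σ 4) = 0 ∧ T.a (σ 1) (σ 5) = 0 ∧ T.a (σ 2) (σ 2) = -2 * w ∧ T.a (σ 2) (σ 3) = w ∧ T.a (σ 2) (σ 4) = 0 ∧ T.a (σ 2) (σ 5) = 0 ∧ T.a (σ 3) (σ 3) = -2 * w ∧ T.a (σ 3) (σ 4) = w ∧ T.a (σ 3) (σ 5) = 0 ∧ T.a (σ 4) (σ 4) = -2 * w ∧ T.a (σ 4) (σ 5) = w ∧ T.a (σ 5) (σ 5) = -2 * w) ∨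
      (T.m (σ 0) = 2 * m ∧ T.m (σ 1) = 2 * m ∧ T.m (σ 2) = 2 * m ∧ T.m (σ 3) = 2 * m ∧ T.m (σ 4) = 2 * m ∧ T.m (σ 5) = m ∧ T.w (σ 0) = w ∧ T.w (σ 1) = 2 * w ∧ T.w (σ 2) = 2 * w ∧ T.w (σ 3) = 2 * w ∧ T.w (σ 4) = 2 * w ∧ T.w (σ 5) = 4 * w ∧ T.a (σ 0) (σ 0) = -2 * w ∧ T.a (σ 0) (σ 1) = 2 * w ∧ T.a (σ 0) (σ 2) = 0 ∧ T.a (σ 0) (σ 3) = 0 ∧ T.a (σ 0) (σ 4) = 0 ∧ T.a (σ 0) (σ 5) = 0 ∧ T.a (σ 1) (σ 1) = -4 * w ∧ T.a (σ 1) (σ 2) = 2 * w ∧ T.a (σ 1) (σ 3) = 0 ∧ T.a (σ 1) (σ 4) = 0 ∧ T.a (σ 1) (σ 5) = 0 ∧ T.a (σ 2) (σ 2) = -4 * w ∧ T.a (σ 2) (σ 3) = 2 * w ∧ T.a (σ 2) (σ 4) = 0 ∧ T.a (σ 2) (σ 5) = 0 ∧ T.a (σ 3) (σ 3) = -4 * w ∧ T.a (σ 3) (σ 4) = 2 * w ∧ T.a (σ 3) (σ 5) = 0 ∧ T.a (σ 4) (σ 4) = -4 * w ∧ T.a (σ 4) (σ 5) = 4 * w ∧ T.a (σ 5) (σ 5) = -8 * w) ∨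
      (T.m (σ 0) = m ∧ T.m (σ 1) = m ∧ T.m (σ 2) = m ∧ T.m (σ 3) = m ∧ T.m (σ 4) = m ∧ T.m (σ 5) = m ∧ T.w (σ 0) = w ∧ T.w (σ 1) = 2 * w ∧ T.w (σ 2) = 2 * w ∧ T.w (σ 3) = 2 * w ∧ T.w (σ 4) = 2 * w ∧ T.w (σ 5) = w ∧ T.a (σ 0) (σ 0) = -2 * w ∧ T.a (σ 0) (σ 1) = 2 * w ∧ T.a (σ 0) (σ 2) = 0 ∧ T.a (σ 0) (σ 3) = 0 ∧ T.a (σ 0) (σ 4) = 0 ∧ T.a (σ 0) (σ 5) = 0 ∧ T.a (σ 1) (σ 1) = -4 * w ∧ T.a (σ 1) (σ 2) = 2 * w ∧ T.a (σ 1) (σ 3) = 0 ∧ T.a (σ 1) (σ 4) = 0 ∧ T.a (σ 1) (σ 5) = 0 ∧ T.a (σ 2) (σ 2) = -4 * w ∧ T.a (σ 2) (σ 3) = 2 * w ∧ T.a (σ 2) (σ 4) = 0 ∧ T.a (σ 2) (σ 5) = 0 ∧ T.a (σ 3) (σ 3) = -4 * w ∧ T.a (σ 3) (σ 4) = 2 * w ∧ T.a (σ 3) (σ 5) = 0 ∧ T.a (σ 4) (σ 4) = -4 * w ∧ T.a (σ 4) (σ 5) = 2 * w ∧ T.a (σ 5) (σ 5) = -2 * w) ∨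
      (T.m (σ 0) = m ∧ T.m (σ 1) = 2 * m ∧ T.m (σ 2) = 2 * m ∧ T.m (σ 3) = 2 * m ∧ T.m (σ 4) = 2 * m ∧ T.m (σ 5) = m ∧ T.w (σ 0) = 2 * w ∧ T.w (σ 1) = w ∧ T.w (σ 2) = w ∧ T.w (σ 3) = w ∧ T.w (σ 4) = w ∧ T.w (σ 5) = 2 * w ∧ T.a (σ 0) (σ 0) = -4 * w ∧ T.a (σ 0) (σ 1) = 2 * w ∧ T.a (σ 0) (σ 2) = 0 ∧ T.a (σ 0) (σ 3) = 0 ∧ T.a (σ 0) (σ 4) = 0 ∧ T.a (σ 0) (σ 5) = 0 ∧ T.a (σ 1) (σ 1) = -2 * w ∧ T.a (σ 1) (σ 2) = w ∧ T.a (σ 1) (σ 3) = 0 ∧ T.a (σ 1) (σ 4) = 0 ∧ T.a (σ 1) (σ 5) = 0 ∧ T.a (σ 2) (σ 2) = -2 * w ∧ T.a (σ 2) (σ 3) = w ∧ T.a (σ 2) (σ 4) = 0 ∧ T.a (σ 2) (σ 5) = 0 ∧ T.a (σ 3) (σ 3) = -2 * w ∧ T.a (σ 3) (σ 4) = w ∧ T.a (σ 3) (σ 5) = 0 ∧ T.a (σ 4) (σ 4) = -2 * w ∧ T.a (σ 4) (σ 5) = 2 * w ∧ T.a (σ 5) (σ 5) = -4 * w) ∨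
      (T.m (σ 0) = m ∧ T.m (σ 1) = 2 * m ∧ T.m (σ 2) = 2 * m ∧ T.m (σ 3) = 2 * m ∧ T.m (σ 4) = m ∧ T.m (σ 5) = m ∧ T.w (σ 0) = 2 * w ∧ T.w (σ 1) = w ∧ T.w (σ 2) = w ∧ T.w (σ 3) = w ∧ T.w (σ 4) = w ∧ T.w (σ 5) = w ∧ T.a (σ 0) (σ 0) = -4 * w ∧ T.a (σ 0) (σ 1) = 2 * w ∧ T.a (σ 0) (σ 2) = 0 ∧ T.a (σ 0) (σ 3) = 0 ∧ T.a (σ 0) (σ 4) = 0 ∧ T.a (σ 0) (σ 5) = 0 ∧ T.a (σ 1) (σ 1) = -2 * w ∧ T.a (σ 1) (σ 2) = w ∧ T.a (σ 1) (σ 3) = 0 ∧ T.a (σ 1) (σ 4) = 0 ∧ T.a (σ 1) (σ 5) = 0 ∧ T.a (σ 2) (σ 2) = -2 * w ∧ T.a (σ 2) (σ 3) = w ∧ T.a (σ 2) (σ 4) = 0 ∧ T.a (σ 2) (σ 5) = 0 ∧ T.a (σ 3) (σ 3) = -2 * w ∧ T.a (σ 3) (σ 4) = w ∧ T.a (σ 3) (σ 5) = w ∧ T.a (σ 4) (σ 4) = -2 * w ∧ T.a (σ 4) (σ 5) = 0 ∧ T.a (σ 5) (σ 5) = -2 * w) ∨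
      (T.m (σ 0) = 2 * m ∧ T.m (σ 1) = 2 * m ∧ T.m (σ 2) = 2 * m ∧ T.m (σ 3) = 2 * m ∧ T.m (σ 4) = m ∧ T.m (σ 5) = m ∧ T.w (σ 0) = w ∧ T.w (σ 1) = 2 * w ∧ T.w (σ 2) = 2 * w ∧ T.w (σ 3) = 2 * w ∧ T.w (σ 4) = 2 * w ∧ T.w (σ 5) = 2 * w ∧ T.a (σ 0) (σ 0) = -2 * w ∧ T.a (σ 0) (σ 1) = 2 * w ∧ T.a (σ 0) (σ 2) = 0 ∧ T.a (σ 0) (σ 3) = 0 ∧ T.a (σ 0) (σ 4) = 0 ∧ T.a (σ 0) (σ 5) = 0 ∧ T.a (σ 1) (σ 1) = -4 * w ∧ T.a (σ 1) (σ 2) = 2 * w ∧ T.a (σ 1) (σ 3) = 0 ∧ T.a (σ 1) (σ 4) = 0 ∧ T.a (σ 1) (σ 5) = 0 ∧ T.a (σ 2) (σ 2) = -4 * w ∧ T.a (σ 2) (σ 3) = 2 * w ∧ T.a (σ 2) (σ 4) = 0 ∧ T.a (σ 2) (σ 5) = 0 ∧ T.a (σ 3) (σ 3) = -4 * w ∧ T.a (σ 3) (σ 4) = 2 * w ∧ T.a (σ 3) (σ 5) = 2 * w ∧ T.a (σ 4) (σ 4) = -4 * w ∧ T.a (σ 4) (σ 5) = 0 ∧ T.a (σ 5) (σ 5) = -4 * w) ∨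
      (T.m (σ 0) = m ∧ T.m (σ 1) = m ∧ T.m (σ 2) = 2 * m ∧ T.m (σ 3) = 2 * m ∧ T.m (σ 4) = m ∧ T.m (σ 5) = m ∧ T.w (σ 0) = w ∧ T.w (σ 1) = w ∧ T.w (σ 2) = w ∧ T.w (σ 3) = w ∧ T.w (σ 4) = w ∧ T.w (σ 5) = w ∧ T.a (σ 0) (σ 0) = -2 * w ∧ T.a (σ 0) (σ 1) = 0 ∧ T.a (σ 0) (σ 2) = w ∧ T.a (σ 0) (σ 3) = 0 ∧ T.a (σ 0) (σ 4) = 0 ∧ T.a (σ 0) (σ 5) = 0 ∧ T.a (σ 1) (σ 1) = -2 * w ∧ T.a (σ 1) (σ 2) = w ∧ T.a (σ 1) (σ 3) = 0 ∧ T.a (σ 1) (σ 4) = 0 ∧ T.a (σ 1) (σ 5) = 0 ∧ T.a (σ 2) (σ 2) = -2 * w ∧ T.a (σ 2) (σ 3) = w ∧ T.a (σ 2) (σ 4) = 0 ∧ T.a (σ 2) (σ 5) = 0 ∧ T.a (σ 3) (σ 3) = -2 * w ∧ T.a (σ 3) (σ 4) = w ∧ T.a (σ 3) (σ 5) = w ∧ T.a (σ 4) (σ 4) = -2 * w ∧ T.a (σ 4) (σ 5) = 0 ∧ T.a (σ 5) (σ 5) = -2 * w)) := by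
  have hall := NT.all_minusTwo T (by norm_num) hmin hg
  have hd : ∀ i, T.a i i = -2 * T.w i := fun i => (hall i).2
  have hwp := T.w_pos
  have hmp := T.m_pos
  have hsym : ∀ i j, T.a i j = T.a j i := NT.symm' T
  have hnn : ∀ i j, i ≠ j → 0 ≤ T.a i j := T.offDiag_nonneg
  refine ⟨fun i => (hall i).1, ?_⟩
  by_cases h3 : ∃ x y1 y2 y3 : Fin 6, x ≠ y1 ∧ x ≠ y2 ∧ x ≠ y3 ∧ y1 ≠ y2 ∧ y1 ≠ y3 ∧ y2 ≠ y3 ∧ T.a x y1 ≠ 0 ∧ T.a x y2 ≠ 0 ∧ T.a x y3 ≠ 0
  · obtain ⟨x0, x1, x2, x3, hne_0_1, hne_0_2, hne_0_3, hne_1_2, hne_1_3, hne_2_3, hadj_0_1, hadj_0_2, hadj_0_3⟩ := h3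
    have hadj_1_0 : T.a x1 x0 ≠ 0 := by rw [hsym]; exact hadj_0_1
    have hl_0_1 := NT.lb1 T _ _ hne_0_1 hadj_0_1
    have hl_1_0 := NT.lb1 T _ _ hne_0_1.symm hadj_1_0
    have hs_0_1 : T.a x0 x1 = T.a x1 x0 := hsym _ _
    have hadj_2_0 : T.a x2 x0 ≠ 0 := by rw [hsym]; exact hadj_0_2
    have hl_0_2 := NT.lb1 T _ _ hne_0_2 hadj_0_2
    have hl_2_0 := NT.lb1 T _ _ hne_0_2.symm hadj_2_0
    have hs_0_2 : T.a x0 x2 = T.a x2 x0 := hsym _ _
    have hadj_3_0 : T.a x3 x0 ≠ 0 := by rw [hsym]; exact hadj_0_3
    have hl_0_3 := NT.lb1 T _ _ hne_0_3 hadj_0_3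
    have hl_3_0 := NT.lb1 T _ _ hne_0_3.symm hadj_3_0
    have hs_0_3 : T.a x0 x3 = T.a x3 x0 := hsym _ _
    have hz_1_2 : T.a x1 x2 = 0 := by
      by_contra hadj_1_2
      have hadj_2_1 : T.a x2 x1 ≠ 0 := by rw [hsym]; exact hadj_1_2
      have hl_1_2 := NT.lb1 T _ _ hne_1_2 hadj_1_2
      have hl_2_1 := NT.lb1 T _ _ hne_1_2.symm hadj_2_1
      have hs_1_2 : T.a x1 x2 = T.a x2 x1 := hsym _ _
      refine NT.cert3 T x0 x1 x2 hne_0_1 hne_0_2 hne_1_2 (by norm_num) 1 1 1 (by norm_num) (by norm_num) (by norm_num) ?_ ?_ ?_
      · linarith only [hd x0, hwp x0, hl_0_1, hl_0_2]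
      · linarith only [hd x1, hwp x1, hl_1_0, hl_1_2]
      · linarith only [hd x2, hwp x2, hl_2_0, hl_2_1]
    have hz_2_1 : T.a x2 x1 = 0 := by rw [hsym]; exact hz_1_2
    have hz_1_3 : T.a x1 x3 = 0 := by
      by_contra hadj_1_3
      have hadj_3_1 : T.a x3 x1 ≠ 0 := by rw [hsym]; exact hadj_1_3
      have hl_1_3 := NT.lb1 T _ _ hne_1_3 hadj_1_3
      have hl_3_1 := NT.lb1 T _ _ hne_1_3.symm hadj_3_1
      have hs_1_3 : T.a x1 x3 = T.a x3 x1 := hsym _ _
      refine NT.cert3 T x0 x1 x3 hne_0_1 hne_0_3 hne_1_3 (by norm_num) 1 1 1 (by norm_num) (by norm_num) (by norm_num) ?_ ?_ ?_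
      · linarith only [hd x0, hwp x0, hl_0_1, hl_0_3]
      · linarith only [hd x1, hwp x1, hl_1_0, hl_1_3]
      · linarith only [hd x3, hwp x3, hl_3_0, hl_3_1]
    have hz_3_1 : T.a x3 x1 = 0 := by rw [hsym]; exact hz_1_3
    have hz_2_3 : T.a x2 x3 = 0 := by
      by_contra hadj_2_3
      have hadj_3_2 : T.a x3 x2 ≠ 0 := by rw [hsym]; exact hadj_2_3
      have hl_2_3 := NT.lb1 T _ _ hne_2_3 hadj_2_3
      have hl_3_2 := NT.lb1 T _ _ hne_2_3.symm hadj_3_2
      have hs_2_3 : T.a x2 x3 = T.a x3 x2 := hsym _ _
      refine NT.cert3 T x0 x2 x3 hne_0_2 hne_0_3 hne_2_3 (by norm_num) 1 1 1 (by norm_num) (by norm_num) (by norm_num) ?_ ?_ ?_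
      · linarith only [hd x0, hwp x0, hl_0_2, hl_0_3]
      · linarith only [hd x2, hwp x2, hl_2_0, hl_2_3]
      · linarith only [hd x3, hwp x3, hl_3_0, hl_3_2]
    have hz_3_2 : T.a x3 x2 = 0 := by rw [hsym]; exact hz_2_3
    by_cases hq_3 : ∃ y, (y ≠ x0 ∧ y ≠ x1 ∧ y ≠ x2 ∧ y ≠ x3) ∧ T.a x3 y ≠ 0
    · obtain ⟨x4, ⟨hn0, hn1, hn2, hn3⟩, hadj_3_4⟩ := hq_3
      have hne_0_4 : x0 ≠ x4 := hn0.symm
      have hne_1_4 : x1 ≠ x4 := hn1.symm
      have hne_2_4 : x2 ≠ x4 := hn2.symm
      have hne_3_4 : x3 ≠ x4 := hn3.symm
      have hadj_4_3 : T.a x4 x3 ≠ 0 := by rw [hsym]; exact hadj_3_4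
      have hl_3_4 := NT.lb1 T _ _ hne_3_4 hadj_3_4
      have hl_4_3 := NT.lb1 T _ _ hne_3_4.symm hadj_4_3
      have hs_3_4 : T.a x3 x4 = T.a x4 x3 := hsym _ _
      have hz_0_4 : T.a x0 x4 = 0 := by
        by_contra hadj_0_4
        have hadj_4_0 : T.a x4 x0 ≠ 0 := by rw [hsym]; exact hadj_0_4
        have hl_0_4 := NT.lb1 T _ _ hne_0_4 hadj_0_4
        have hl_4_0 := NT.lb1 T _ _ hne_0_4.symm hadj_4_0
        have hs_0_4 : T.a x0 x4 = T.a x4 x0 := hsym _ _
        refine NT.cert3 T x0 x3 x4 hne_0_3 hne_0_4 hne_3_4 (by norm_num) 1 1 1 (by norm_num) (by norm_num) (by norm_num) ?_ ?_ ?_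
        · linarith only [hd x0, hwp x0, hl_0_3, hl_0_4]
        · linarith only [hd x3, hwp x3, hl_3_0, hl_3_4]
        · linarith only [hd x4, hwp x4, hl_4_0, hl_4_3]
      have hz_4_0 : T.a x4 x0 = 0 := by rw [hsym]; exact hz_0_4
      have hz_1_4 : T.a x1 x4 = 0 := by
        by_contra hadj_1_4
        have hadj_4_1 : T.a x4 x1 ≠ 0 := by rw [hsym]; exact hadj_1_4
        have hl_1_4 := NT.lb1 T _ _ hne_1_4 hadj_1_4
        have hl_4_1 := NT.lb1 T _ _ hne_1_4.symm hadj_4_1
        have hs_1_4 : T.a x1 x4 = T.a x4 x1 := hsym _ _
        refine NT.cert4 T x0 x1 x3 x4 hne_0_1 hne_0_3 hne_0_4 hne_1_3 hne_1_4 hne_3_4 (by norm_num) 1 1 1 1 (by norm_num) (by norm_num) (by norm_num) (by norm_num) ?_ ?_ ?_ ?_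
        · linarith only [hd x0, hwp x0, hl_0_1, hl_0_3, hnn x0 x4 hne_0_4]
        · linarith only [hd x1, hwp x1, hl_1_0, hnn x1 x3 hne_1_3, hl_1_4]
        · linarith only [hd x3, hwp x3, hl_3_0, hnn x3 x1 hne_1_3.symm, hl_3_4]
        · linarith only [hd x4, hwp x4, hnn x4 x0 hne_0_4.symm, hl_4_1, hl_4_3]
      have hz_4_1 : T.a x4 x1 = 0 := by rw [hsym]; exact hz_1_4
      have hz_2_4 : T.a x2 x4 = 0 := by
        by_contra hadj_2_4
        have hadj_4_2 : T.a x4 x2 ≠ 0 := by rw [hsym]; exact hadj_2_4
        have hl_2_4 := NT.lb1 T _ _ hne_2_4 hadj_2_4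
        have hl_4_2 := NT.lb1 T _ _ hne_2_4.symm hadj_4_2
        have hs_2_4 : T.a x2 x4 = T.a x4 x2 := hsym _ _
        refine NT.cert4 T x0 x2 x3 x4 hne_0_2 hne_0_3 hne_0_4 hne_2_3 hne_2_4 hne_3_4 (by norm_num) 1 1 1 1 (by norm_num) (by norm_num) (by norm_num) (by norm_num) ?_ ?_ ?_ ?_
        · linarith only [hd x0, hwp x0, hl_0_2, hl_0_3, hnn x0 x4 hne_0_4]
        · linarith only [hd x2, hwp x2, hl_2_0, hnn x2 x3 hne_2_3, hl_2_4]
        · linarith only [hd x3, hwp x3, hl_3_0, hnn x3 x2 hne_2_3.symm, hl_3_4]
        · linarith only [hd x4, hwp x4, hnn x4 x0 hne_0_4.symm, hl_4_2, hl_4_3]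
      have hz_4_2 : T.a x4 x2 = 0 := by rw [hsym]; exact hz_2_4
      by_cases hq_4 : ∃ y, (y ≠ x0 ∧ y ≠ x1 ∧ y ≠ x2 ∧ y ≠ x3 ∧ y ≠ x4) ∧ T.a x4 y ≠ 0
      · obtain ⟨x5, ⟨hn0, hn1, hn2, hn3, hn4⟩, hadj_4_5⟩ := hq_4
        have hne_0_5 : x0 ≠ x5 := hn0.symm
        have hne_1_5 : x1 ≠ x5 := hn1.symm
        have hne_2_5 : x2 ≠ x5 := hn2.symm
        have hne_3_5 : x3 ≠ x5 := hn3.symm
        have hne_4_5 : x4 ≠ x5 := hn4.symm
        have hadj_5_4 : T.a x5 x4 ≠ 0 := by rw [hsym]; exact hadj_4_5
        have hl_4_5 := NT.lb1 T _ _ hne_4_5 hadj_4_5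
        have hl_5_4 := NT.lb1 T _ _ hne_4_5.symm hadj_5_4
        have hs_4_5 : T.a x4 x5 = T.a x5 x4 := hsym _ _
        have hz_0_5 : T.a x0 x5 = 0 := by
          by_contra hadj_0_5
          have hadj_5_0 : T.a x5 x0 ≠ 0 := by rw [hsym]; exact hadj_0_5
          have hl_0_5 := NT.lb1 T _ _ hne_0_5 hadj_0_5
          have hl_5_0 := NT.lb1 T _ _ hne_0_5.symm hadj_5_0
          have hs_0_5 : T.a x0 x5 = T.a x5 x0 := hsym _ _
          refine NT.cert4 T x0 x3 x4 x5 hne_0_3 hne_0_4 hne_0_5 hne_3_4 hne_3_5 hne_4_5 (by norm_num) 1 1 1 1 (by norm_num) (by norm_num) (by norm_num) (by norm_num) ?_ ?_ ?_ ?_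
          · linarith only [hd x0, hwp x0, hl_0_3, hnn x0 x4 hne_0_4, hl_0_5]
          · linarith only [hd x3, hwp x3, hl_3_0, hl_3_4, hnn x3 x5 hne_3_5]
          · linarith only [hd x4, hwp x4, hnn x4 x0 hne_0_4.symm, hl_4_3, hl_4_5]
          · linarith only [hd x5, hwp x5, hl_5_0, hnn x5 x3 hne_3_5.symm, hl_5_4]
        have hz_5_0 : T.a x5 x0 = 0 := by rw [hsym]; exact hz_0_5
        have hz_1_5 : T.a x1 x5 = 0 := by
          by_contra hadj_1_5
          have hadj_5_1 : T.a x5 x1 ≠ 0 := by rw [hsym]; exact hadj_1_5
          have hl_1_5 := NT.lb1 T _ _ hne_1_5 hadj_1_5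
          have hl_5_1 := NT.lb1 T _ _ hne_1_5.symm hadj_5_1
          have hs_1_5 : T.a x1 x5 = T.a x5 x1 := hsym _ _
          refine NT.cert5 T x0 x1 x3 x4 x5 hne_0_1 hne_0_3 hne_0_4 hne_0_5 hne_1_3 hne_1_4 hne_1_5 hne_3_4 hne_3_5 hne_4_5 (by norm_num) 1 1 1 1 1 (by norm_num) (by norm_num) (by norm_num) (by norm_num) (by norm_num) ?_ ?_ ?_ ?_ ?_
          · linarith only [hd x0, hwp x0, hl_0_1, hl_0_3, hnn x0 x4 hne_0_4, hnn x0 x5 hne_0_5]
          · linarith only [hd x1, hwp x1, hl_1_0, hnn x1 x3 hne_1_3, hnn x1 x4 hne_1_4, hl_1_5]
          · linarith only [hd x3, hwp x3, hl_3_0, hnn x3 x1 hne_1_3.symm, hl_3_4, hnn x3 x5 hne_3_5]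
          · linarith only [hd x4, hwp x4, hnn x4 x0 hne_0_4.symm, hnn x4 x1 hne_1_4.symm, hl_4_3, hl_4_5]
          · linarith only [hd x5, hwp x5, hnn x5 x0 hne_0_5.symm, hl_5_1, hnn x5 x3 hne_3_5.symm, hl_5_4]
        have hz_5_1 : T.a x5 x1 = 0 := by rw [hsym]; exact hz_1_5
        have hz_2_5 : T.a x2 x5 = 0 := by
          by_contra hadj_2_5
          have hadj_5_2 : T.a x5 x2 ≠ 0 := by rw [hsym]; exact hadj_2_5
          have hl_2_5 := NT.lb1 T _ _ hne_2_5 hadj_2_5
          have hl_5_2 := NT.lb1 T _ _ hne_2_5.symm hadj_5_2
          have hs_2_5 : T.a x2 x5 = T.a x5 x2 := hsym _ _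
          refine NT.cert5 T x0 x2 x3 x4 x5 hne_0_2 hne_0_3 hne_0_4 hne_0_5 hne_2_3 hne_2_4 hne_2_5 hne_3_4 hne_3_5 hne_4_5 (by norm_num) 1 1 1 1 1 (by norm_num) (by norm_num) (by norm_num) (by norm_num) (by norm_num) ?_ ?_ ?_ ?_ ?_
          · linarith only [hd x0, hwp x0, hl_0_2, hl_0_3, hnn x0 x4 hne_0_4, hnn x0 x5 hne_0_5]
          · linarith only [hd x2, hwp x2, hl_2_0, hnn x2 x3 hne_2_3, hnn x2 x4 hne_2_4, hl_2_5]
          · linarith only [hd x3, hwp x3, hl_3_0, hnn x3 x2 hne_2_3.symm, hl_3_4, hnn x3 x5 hne_3_5]
          · linarith only [hd x4, hwp x4, hnn x4 x0 hne_0_4.symm, hnn x4 x2 hne_2_4.symm, hl_4_3, hl_4_5]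
          · linarith only [hd x5, hwp x5, hnn x5 x0 hne_0_5.symm, hl_5_2, hnn x5 x3 hne_3_5.symm, hl_5_4]
        have hz_5_2 : T.a x5 x2 = 0 := by rw [hsym]; exact hz_2_5
        have hz_3_5 : T.a x3 x5 = 0 := by
          by_contra hadj_3_5
          have hadj_5_3 : T.a x5 x3 ≠ 0 := by rw [hsym]; exact hadj_3_5
          have hl_3_5 := NT.lb1 T _ _ hne_3_5 hadj_3_5
          have hl_5_3 := NT.lb1 T _ _ hne_3_5.symm hadj_5_3
          have hs_3_5 : T.a x3 x5 = T.a x5 x3 := hsym _ _
          refine NT.cert3 T x3 x4 x5 hne_3_4 hne_3_5 hne_4_5 (by norm_num) 1 1 1 (by norm_num) (by norm_num) (by norm_num) ?_ ?_ ?_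
          · linarith only [hd x3, hwp x3, hl_3_4, hl_3_5]
          · linarith only [hd x4, hwp x4, hl_4_3, hl_4_5]
          · linarith only [hd x5, hwp x5, hl_5_3, hl_5_4]
        have hz_5_3 : T.a x5 x3 = 0 := by rw [hsym]; exact hz_3_5
        have hinj : Function.Injective ![x0, x1, x2, x3, x4, x5] := NT.inj6 _ _ _ _ _ _ hne_0_1 hne_0_2 hne_0_3 hne_0_4 hne_0_5 hne_1_2 hne_1_3 hne_1_4 hne_1_5 hne_2_3 hne_2_4 hne_2_5 hne_3_4 hne_3_5 hne_4_5
        have hrow_0 : T.a x0 x0 * T.m x0 + T.a x0 x1 * T.m x1 + T.a x0 x2 * T.m x2 + T.a x0 x3 * T.m x3 + T.a x0 x4 * T.m x4 + T.a x0 x5 * T.m x5 = 0 := by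
          have h := NT.row_fun T _ hinj (0 : Fin 6)
          rw [Fin.sum_univ_six] at h
          exact h
        have hrow_1 : T.a x1 x0 * T.m x0 + T.a x1 x1 * T.m x1 + T.a x1 x2 * T.m x2 + T.a x1 x3 * T.m x3 + T.a x1 x4 * T.m x4 + T.a x1 x5 * T.m x5 = 0 := by
          have h := NT.row_fun T _ hinj (1 : Fin 6)
          rw [Fin.sum_univ_six] at h
          exact h
        have hrow_2 : T.a x2 x0 * T.m x0 + T.a x2 x1 * T.m x1 + T.a x2 x2 * T.m x2 + T.a x2 x3 * T.m x3 + T.a x2 x4 * T.m x4 + T.a x2 x5 * T.m x5 = 0 := by
          have h := NT.row_fun T _ hinj (2 : Fin 6)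
          rw [Fin.sum_univ_six] at h
          exact h
        have hrow_3 : T.a x3 x0 * T.m x0 + T.a x3 x1 * T.m x1 + T.a x3 x2 * T.m x2 + T.a x3 x3 * T.m x3 + T.a x3 x4 * T.m x4 + T.a x3 x5 * T.m x5 = 0 := by
          have h := NT.row_fun T _ hinj (3 : Fin 6)
          rw [Fin.sum_univ_six] at h
          exact h
        have hrow_4 : T.a x4 x0 * T.m x0 + T.a x4 x1 * T.m x1 + T.a x4 x2 * T.m x2 + T.a x4 x3 * T.m x3 + T.a x4 x4 * T.m x4 + T.a x4 x5 * T.m x5 = 0 := by
          have h := NT.row_fun T _ hinj (4 : Fin 6)
          rw [Fin.sum_univ_six] at h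
          exact h
        have hrow_5 : T.a x5 x0 * T.m x0 + T.a x5 x1 * T.m x1 + T.a x5 x2 * T.m x2 + T.a x5 x3 * T.m x3 + T.a x5 x4 * T.m x4 + T.a x5 x5 * T.m x5 = 0 := by
          have h := NT.row_fun T _ hinj (5 : Fin 6)
          rw [Fin.sum_univ_six] at h
          exact h
        rcases NT.edge3 T x0 x1 hne_0_1 hadj_0_1 with hx_0_1 | hx_0_1 | hx_0_1
        · rcases NT.edge3 T x1 x0 hne_0_1.symm hadj_1_0 with hx_1_0 | hx_1_0 | hx_1_0
          · rcases NT.edge3 T x0 x2 hne_0_2 hadj_0_2 with hx_0_2 | hx_0_2 | hx_0_2
            · rcases NT.edge3 T x2 x0 hne_0_2.symm hadj_2_0 with hx_2_0 | hx_2_0 | hx_2_0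
              · rcases NT.edge3 T x0 x3 hne_0_3 hadj_0_3 with hx_0_3 | hx_0_3 | hx_0_3
                · rcases NT.edge3 T x3 x0 hne_0_3.symm hadj_3_0 with hx_3_0 | hx_3_0 | hx_3_0
                  · rcases NT.edge3 T x3 x4 hne_3_4 hadj_3_4 with hx_3_4 | hx_3_4 | hx_3_4
                    · rcases NT.edge3 T x4 x3 hne_3_4.symm hadj_4_3 with hx_4_3 | hx_4_3 | hx_4_3
                      · rcases NT.edge3 T x4 x5 hne_4_5 hadj_4_5 with hx_4_5 | hx_4_5 | hx_4_5
                        · rcases NT.edge3 T x5 x4 hne_4_5.symm hadj_5_4 with hx_5_4 | hx_5_4 | hx_5_4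
                          · have cw_0 : T.w x0 = T.w x0 := rfl
                            have cw_1 : T.w x1 = T.w x0 := by linarith only [cw_0, hx_0_1, hx_1_0, hs_0_1]
                            have cw_2 : T.w x2 = T.w x0 := by linarith only [cw_0, hx_0_2, hx_2_0, hs_0_2]
                            have cw_3 : T.w x3 = T.w x0 := by linarith only [cw_0, hx_0_3, hx_3_0, hs_0_3]
                            have cw_4 : T.w x4 = T.w x0 := by linarith only [cw_3, hx_3_4, hx_4_3, hs_3_4]
                            have cw_5 : T.w x5 = T.w x0 := by linarith only [cw_4, hx_4_5, hx_5_4, hs_4_5]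
                            have ca_0_0 : T.a x0 x0 = -2 * T.w x0 := by linarith only [hd x0, cw_0]
                            have ca_0_1 : T.a x0 x1 = T.w x0 := by linarith only [hx_0_1, cw_0]
                            have ca_0_2 : T.a x0 x2 = T.w x0 := by linarith only [hx_0_2, cw_0]
                            have ca_0_3 : T.a x0 x3 = T.w x0 := by linarith only [hx_0_3, cw_0]
                            have ca_1_0 : T.a x1 x0 = T.w x0 := by linarith only [hx_1_0, cw_1]
                            have ca_1_1 : T.a x1 x1 = -2 * T.w x0 := by linarith only [hd x1, cw_1]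
                            have ca_2_0 : T.a x2 x0 = T.w x0 := by linarith only [hx_2_0, cw_2]
                            have ca_2_2 : T.a x2 x2 = -2 * T.w x0 := by linarith only [hd x2, cw_2]
                            have ca_3_0 : T.a x3 x0 = T.w x0 := by linarith only [hx_3_0, cw_3]
                            have ca_3_3 : T.a x3 x3 = -2 * T.w x0 := by linarith only [hd x3, cw_3]
                            have ca_3_4 : T.a x3 x4 = T.w x0 := by linarith only [hx_3_4, cw_3]
                            have ca_4_3 : T.a x4 x3 = T.w x0 := by linarith only [hx_4_3, cw_4]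
                            have ca_4_4 : T.a x4 x4 = -2 * T.w x0 := by linarith only [hd x4, cw_4]
                            have ca_4_5 : T.a x4 x5 = T.w x0 := by linarith only [hx_4_5, cw_4]
                            have ca_5_4 : T.a x5 x4 = T.w x0 := by linarith only [hx_5_4, cw_5]
                            have ca_5_5 : T.a x5 x5 = -2 * T.w x0 := by linarith only [hd x5, cw_5]
                            have hm_0 : -2 * T.m x0 + 1 * T.m x1 + 1 * T.m x2 + 1 * T.m x3 = 0 := by
                              have h := hrow_0
                              rw [ca_0_0, ca_0_1, ca_0_2, ca_0_3, hz_0_4, hz_0_5] at h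
                              have h2 : T.w x0 * (-2 * T.m x0 + 1 * T.m x1 + 1 * T.m x2 + 1 * T.m x3) = 0 := by linarith only [h]
                              rcases mul_eq_zero.mp h2 with h3 | h3
                              · exact absurd h3 (hwp _).ne'
                              · exact h3
                            have hm_1 : 1 * T.m x0 + -2 * T.m x1 = 0 := by
                              have h := hrow_1
                              rw [ca_1_0, ca_1_1, hz_1_2, hz_1_3, hz_1_4, hz_1_5] at h
                              have h2 : T.w x0 * (1 * T.m x0 + -2 * T.m x1) = 0 := by linarith only [h]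
                              rcases mul_eq_zero.mp h2 with h3 | h3
                              · exact absurd h3 (hwp _).ne'
                              · exact h3
                            have hm_2 : 1 * T.m x0 + -2 * T.m x2 = 0 := by
                              have h := hrow_2
                              rw [ca_2_0, hz_2_1, ca_2_2, hz_2_3, hz_2_4, hz_2_5] at h
                              have h2 : T.w x0 * (1 * T.m x0 + -2 * T.m x2) = 0 := by linarith only [h]
                              rcases mul_eq_zero.mp h2 with h3 | h3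
                              · exact absurd h3 (hwp _).ne'
                              · exact h3
                            have hm_3 : 1 * T.m x0 + -2 * T.m x3 + 1 * T.m x4 = 0 := by
                              have h := hrow_3
                              rw [ca_3_0, hz_3_1, hz_3_2, ca_3_3, ca_3_4, hz_3_5] at h
                              have h2 : T.w x0 * (1 * T.m x0 + -2 * T.m x3 + 1 * T.m x4) = 0 := by linarith only [h]
                              rcases mul_eq_zero.mp h2 with h3 | h3
                              · exact absurd h3 (hwp _).ne'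
                              · exact h3
                            have hm_4 : 1 * T.m x3 + -2 * T.m x4 + 1 * T.m x5 = 0 := by
                              have h := hrow_4
                              rw [hz_4_0, hz_4_1, hz_4_2, ca_4_3, ca_4_4, ca_4_5] at h
                              have h2 : T.w x0 * (1 * T.m x3 + -2 * T.m x4 + 1 * T.m x5) = 0 := by linarith only [h]
                              rcases mul_eq_zero.mp h2 with h3 | h3
                              · exact absurd h3 (hwp _).ne'
                              · exact h3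
                            have hm_5 : 1 * T.m x4 + -2 * T.m x5 = 0 := by
                              have h := hrow_5
                              rw [hz_5_0, hz_5_1, hz_5_2, hz_5_3, ca_5_4, ca_5_5] at h
                              have h2 : T.w x0 * (1 * T.m x4 + -2 * T.m x5) = 0 := by linarith only [h]
                              rcases mul_eq_zero.mp h2 with h3 | h3
                              · exact absurd h3 (hwp _).ne'
                              · exact h3
                            exfalso
                            linarith only [hm_0, hm_1, hm_2, hm_3, hm_4, hm_5, hmp x0, hmp x1, hmp x2, hmp x3, hmp x4, hmp x5]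
                          · have cw_5 : T.w x5 = T.w x5 := rfl
                            have cw_4 : T.w x4 = 2 * T.w x5 := by linarith only [cw_5, hx_5_4, hx_4_5, hs_4_5]
                            have cw_3 : T.w x3 = 2 * T.w x5 := by linarith only [cw_4, hx_4_3, hx_3_4, hs_3_4]
                            have cw_0 : T.w x0 = 2 * T.w x5 := by linarith only [cw_3, hx_3_0, hx_0_3, hs_0_3]
                            have cw_1 : T.w x1 = 2 * T.w x5 := by linarith only [cw_0, hx_0_1, hx_1_0, hs_0_1]
                            have cw_2 : T.w x2 = 2 * T.w x5 := by linarith only [cw_0, hx_0_2, hx_2_0, hs_0_2]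
                            have ca_0_0 : T.a x0 x0 = -4 * T.w x5 := by linarith only [hd x0, cw_0]
                            have ca_0_1 : T.a x0 x1 = 2 * T.w x5 := by linarith only [hx_0_1, cw_0]
                            have ca_0_2 : T.a x0 x2 = 2 * T.w x5 := by linarith only [hx_0_2, cw_0]
                            have ca_0_3 : T.a x0 x3 = 2 * T.w x5 := by linarith only [hx_0_3, cw_0]
                            have ca_1_0 : T.a x1 x0 = 2 * T.w x5 := by linarith only [hx_1_0, cw_1]
                            have ca_1_1 : T.a x1 x1 = -4 * T.w x5 := by linarith only [hd x1, cw_1]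
                            have ca_2_0 : T.a x2 x0 = 2 * T.w x5 := by linarith only [hx_2_0, cw_2]
                            have ca_2_2 : T.a x2 x2 = -4 * T.w x5 := by linarith only [hd x2, cw_2]
                            have ca_3_0 : T.a x3 x0 = 2 * T.w x5 := by linarith only [hx_3_0, cw_3]
                            have ca_3_3 : T.a x3 x3 = -4 * T.w x5 := by linarith only [hd x3, cw_3]
                            have ca_3_4 : T.a x3 x4 = 2 * T.w x5 := by linarith only [hx_3_4, cw_3]
                            have ca_4_3 : T.a x4 x3 = 2 * T.w x5 := by linarith only [hx_4_3, cw_4]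
                            have ca_4_4 : T.a x4 x4 = -4 * T.w x5 := by linarith only [hd x4, cw_4]
                            have ca_4_5 : T.a x4 x5 = 2 * T.w x5 := by linarith only [hx_4_5, cw_4]
                            have ca_5_4 : T.a x5 x4 = 2 * T.w x5 := by linarith only [hx_5_4, cw_5]
                            have ca_5_5 : T.a x5 x5 = -2 * T.w x5 := by linarith only [hd x5, cw_5]
                            have hm_0 : -4 * T.m x0 + 2 * T.m x1 + 2 * T.m x2 + 2 * T.m x3 = 0 := by
                              have h := hrow_0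
                              rw [ca_0_0, ca_0_1, ca_0_2, ca_0_3, hz_0_4, hz_0_5] at h
                              have h2 : T.w x5 * (-4 * T.m x0 + 2 * T.m x1 + 2 * T.m x2 + 2 * T.m x3) = 0 := by linarith only [h]
                              rcases mul_eq_zero.mp h2 with h3 | h3
                              · exact absurd h3 (hwp _).ne'
                              · exact h3
                            have hm_1 : 2 * T.m x0 + -4 * T.m x1 = 0 := by
                              have h := hrow_1
                              rw [ca_1_0, ca_1_1, hz_1_2, hz_1_3, hz_1_4, hz_1_5] at h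
                              have h2 : T.w x5 * (2 * T.m x0 + -4 * T.m x1) = 0 := by linarith only [h]
                              rcases mul_eq_zero.mp h2 with h3 | h3
                              · exact absurd h3 (hwp _).ne'
                              · exact h3
                            have hm_2 : 2 * T.m x0 + -4 * T.m x2 = 0 := by
                              have h := hrow_2
                              rw [ca_2_0, hz_2_1, ca_2_2, hz_2_3, hz_2_4, hz_2_5] at h
                              have h2 : T.w x5 * (2 * T.m x0 + -4 * T.m x2) = 0 := by linarith only [h]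
                              rcases mul_eq_zero.mp h2 with h3 | h3
                              · exact absurd h3 (hwp _).ne'
                              · exact h3
                            have hm_3 : 2 * T.m x0 + -4 * T.m x3 + 2 * T.m x4 = 0 := by
                              have h := hrow_3
                              rw [ca_3_0, hz_3_1, hz_3_2, ca_3_3, ca_3_4, hz_3_5] at h
                              have h2 : T.w x5 * (2 * T.m x0 + -4 * T.m x3 + 2 * T.m x4) = 0 := by linarith only [h]
                              rcases mul_eq_zero.mp h2 with h3 | h3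
                              · exact absurd h3 (hwp _).ne'
                              · exact h3
                            have hm_4 : 2 * T.m x3 + -4 * T.m x4 + 2 * T.m x5 = 0 := by
                              have h := hrow_4
                              rw [hz_4_0, hz_4_1, hz_4_2, ca_4_3, ca_4_4, ca_4_5] at h
                              have h2 : T.w x5 * (2 * T.m x3 + -4 * T.m x4 + 2 * T.m x5) = 0 := by linarith only [h]
                              rcases mul_eq_zero.mp h2 with h3 | h3
                              · exact absurd h3 (hwp _).ne'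
                              · exact h3
                            have hm_5 : 2 * T.m x4 + -2 * T.m x5 = 0 := by
                              have h := hrow_5
                              rw [hz_5_0, hz_5_1, hz_5_2, hz_5_3, ca_5_4, ca_5_5] at h
                              have h2 : T.w x5 * (2 * T.m x4 + -2 * T.m x5) = 0 := by linarith only [h]
                              rcases mul_eq_zero.mp h2 with h3 | h3
                              · exact absurd h3 (hwp _).ne'
                              · exact h3
                            have cmu_0 : T.m x0 = 2 * T.m x1 := by linarith only [hm_0, hm_1, hm_2, hm_3, hm_4, hm_5]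
                            have cmu_1 : T.m x1 = T.m x1 := rfl
                            have cmu_2 : T.m x2 = T.m x1 := by linarith only [hm_0, hm_1, hm_2, hm_3, hm_4, hm_5]
                            have cmu_3 : T.m x3 = 2 * T.m x1 := by linarith only [hm_0, hm_1, hm_2, hm_3, hm_4, hm_5]
                            have cmu_4 : T.m x4 = 2 * T.m x1 := by linarith only [hm_0, hm_1, hm_2, hm_3, hm_4, hm_5]
                            have cmu_5 : T.m x5 = 2 * T.m x1 := by linarith only [hm_0, hm_1, hm_2, hm_3, hm_4, hm_5]
                            have hinjσ : Function.Injective ![x5, x4, x3, x0, x1, x2] := NT.inj6 _ _ _ _ _ _ hne_4_5.symm hne_3_5.symm hne_0_5.symm hne_1_5.symm hne_2_5.symm hne_3_4.symm hne_0_4.symm hne_1_4.symm hne_2_4.symm hne_0_3.symm hne_1_3.symm hne_2_3.symm hne_0_1 hne_0_2 hne_1_2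
                            exact ⟨Equiv.ofBijective ![x5, x4, x3, x0, x1, x2] ⟨hinjσ, Finite.surjective_of_injective hinjσ⟩, T.m x1, T.w x5, Or.inr (Or.inr (Or.inr (Or.inr (Or.inr (Or.inl ⟨cmu_5, cmu_4, cmu_3, cmu_0, cmu_1, cmu_2, cw_5, cw_4, cw_3, cw_0, cw_1, cw_2, ca_5_5, ca_5_4, hz_5_3, hz_5_0, hz_5_1, hz_5_2, ca_4_4, ca_4_3, hz_4_0, hz_4_1, hz_4_2, ca_3_3, ca_3_0, hz_3_1, hz_3_2, ca_0_0, ca_0_1, ca_0_2, ca_1_1, hz_1_2, ca_2_2⟩)))))⟩
                          · exfalso
                            refine NT.cert3 T x3 x4 x5 hne_3_4 hne_3_5 hne_4_5 (by norm_num) 1 2 3 (by norm_num) (by norm_num) (by norm_num) ?_ ?_ ?_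
                            · linarith only [hd x3, hwp x3, hx_3_4.ge, hnn x3 x5 hne_3_5]
                            · linarith only [hd x4, hwp x4, hx_4_3.ge, hx_4_5.ge]
                            · linarith only [hd x5, hwp x5, hnn x5 x3 hne_3_5.symm, hx_5_4]
                        · obtain ⟨heq_0, heq_1, heq_2, heq_3, heq_4, heq_5⟩ := NT.harm6 T x0 x1 x2 x3 x4 x5 hne_0_1 hne_0_2 hne_0_3 hne_0_4 hne_0_5 hne_1_2 hne_1_3 hne_1_4 hne_1_5 hne_2_3 hne_2_4 hne_2_5 hne_3_4 hne_3_5 hne_4_5 2 1 1 2 2 1
                            (by linarith only [hd x0, hx_0_1.ge, hx_0_2.ge, hx_0_3.ge, hz_0_4, hz_0_5])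
                            (by linarith only [hd x1, hx_1_0.ge, hz_1_2, hz_1_3, hz_1_4, hz_1_5])
                            (by linarith only [hd x2, hx_2_0.ge, hz_2_1, hz_2_3, hz_2_4, hz_2_5])
                            (by linarith only [hd x3, hx_3_0.ge, hz_3_1, hz_3_2, hx_3_4.ge, hz_3_5])
                            (by linarith only [hd x4, hz_4_0, hz_4_1, hz_4_2, hx_4_3.ge, hx_4_5.ge])
                            (by linarith only [hd x5, hz_5_0, hz_5_1, hz_5_2, hz_5_3, hl_5_4])
                          have hx_5_4 : T.a x5 x4 = T.w x5 := by linarith only [heq_5, hwp x5, hd x5, hz_5_0, hz_5_1, hz_5_2, hz_5_3, hl_5_4]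
                          have cw_4 : T.w x4 = T.w x4 := rfl
                          have cw_3 : T.w x3 = T.w x4 := by linarith only [cw_4, hx_4_3, hx_3_4, hs_3_4]
                          have cw_5 : T.w x5 = 2 * T.w x4 := by linarith only [cw_4, hx_4_5, hx_5_4, hs_4_5]
                          have cw_0 : T.w x0 = T.w x4 := by linarith only [cw_3, hx_3_0, hx_0_3, hs_0_3]
                          have cw_1 : T.w x1 = T.w x4 := by linarith only [cw_0, hx_0_1, hx_1_0, hs_0_1]
                          have cw_2 : T.w x2 = T.w x4 := by linarith only [cw_0, hx_0_2, hx_2_0, hs_0_2]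
                          have ca_0_0 : T.a x0 x0 = -2 * T.w x4 := by linarith only [hd x0, cw_0]
                          have ca_0_1 : T.a x0 x1 = T.w x4 := by linarith only [hx_0_1, cw_0]
                          have ca_0_2 : T.a x0 x2 = T.w x4 := by linarith only [hx_0_2, cw_0]
                          have ca_0_3 : T.a x0 x3 = T.w x4 := by linarith only [hx_0_3, cw_0]
                          have ca_1_0 : T.a x1 x0 = T.w x4 := by linarith only [hx_1_0, cw_1]
                          have ca_1_1 : T.a x1 x1 = -2 * T.w x4 := by linarith only [hd x1, cw_1]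
                          have ca_2_0 : T.a x2 x0 = T.w x4 := by linarith only [hx_2_0, cw_2]
                          have ca_2_2 : T.a x2 x2 = -2 * T.w x4 := by linarith only [hd x2, cw_2]
                          have ca_3_0 : T.a x3 x0 = T.w x4 := by linarith only [hx_3_0, cw_3]
                          have ca_3_3 : T.a x3 x3 = -2 * T.w x4 := by linarith only [hd x3, cw_3]
                          have ca_3_4 : T.a x3 x4 = T.w x4 := by linarith only [hx_3_4, cw_3]
                          have ca_4_3 : T.a x4 x3 = T.w x4 := by linarith only [hx_4_3, cw_4]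
                          have ca_4_4 : T.a x4 x4 = -2 * T.w x4 := by linarith only [hd x4, cw_4]
                          have ca_4_5 : T.a x4 x5 = 2 * T.w x4 := by linarith only [hx_4_5, cw_4]
                          have ca_5_4 : T.a x5 x4 = 2 * T.w x4 := by linarith only [hx_5_4, cw_5]
                          have ca_5_5 : T.a x5 x5 = -4 * T.w x4 := by linarith only [hd x5, cw_5]
                          have hm_0 : -2 * T.m x0 + 1 * T.m x1 + 1 * T.m x2 + 1 * T.m x3 = 0 := by
                            have h := hrow_0
                            rw [ca_0_0, ca_0_1, ca_0_2, ca_0_3, hz_0_4, hz_0_5] at h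
                            have h2 : T.w x4 * (-2 * T.m x0 + 1 * T.m x1 + 1 * T.m x2 + 1 * T.m x3) = 0 := by linarith only [h]
                            rcases mul_eq_zero.mp h2 with h3 | h3
                            · exact absurd h3 (hwp _).ne'
                            · exact h3
                          have hm_1 : 1 * T.m x0 + -2 * T.m x1 = 0 := by
                            have h := hrow_1
                            rw [ca_1_0, ca_1_1, hz_1_2, hz_1_3, hz_1_4, hz_1_5] at h
                            have h2 : T.w x4 * (1 * T.m x0 + -2 * T.m x1) = 0 := by linarith only [h]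
                            rcases mul_eq_zero.mp h2 with h3 | h3
                            · exact absurd h3 (hwp _).ne'
                            · exact h3
                          have hm_2 : 1 * T.m x0 + -2 * T.m x2 = 0 := by
                            have h := hrow_2
                            rw [ca_2_0, hz_2_1, ca_2_2, hz_2_3, hz_2_4, hz_2_5] at h
                            have h2 : T.w x4 * (1 * T.m x0 + -2 * T.m x2) = 0 := by linarith only [h]
                            rcases mul_eq_zero.mp h2 with h3 | h3
                            · exact absurd h3 (hwp _).ne'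
                            · exact h3
                          have hm_3 : 1 * T.m x0 + -2 * T.m x3 + 1 * T.m x4 = 0 := by
                            have h := hrow_3
                            rw [ca_3_0, hz_3_1, hz_3_2, ca_3_3, ca_3_4, hz_3_5] at h
                            have h2 : T.w x4 * (1 * T.m x0 + -2 * T.m x3 + 1 * T.m x4) = 0 := by linarith only [h]
                            rcases mul_eq_zero.mp h2 with h3 | h3
                            · exact absurd h3 (hwp _).ne'
                            · exact h3
                          have hm_4 : 1 * T.m x3 + -2 * T.m x4 + 2 * T.m x5 = 0 := by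
                            have h := hrow_4
                            rw [hz_4_0, hz_4_1, hz_4_2, ca_4_3, ca_4_4, ca_4_5] at h
                            have h2 : T.w x4 * (1 * T.m x3 + -2 * T.m x4 + 2 * T.m x5) = 0 := by linarith only [h]
                            rcases mul_eq_zero.mp h2 with h3 | h3
                            · exact absurd h3 (hwp _).ne'
                            · exact h3
                          have hm_5 : 2 * T.m x4 + -4 * T.m x5 = 0 := by
                            have h := hrow_5
                            rw [hz_5_0, hz_5_1, hz_5_2, hz_5_3, ca_5_4, ca_5_5] at h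
                            have h2 : T.w x4 * (2 * T.m x4 + -4 * T.m x5) = 0 := by linarith only [h]
                            rcases mul_eq_zero.mp h2 with h3 | h3
                            · exact absurd h3 (hwp _).ne'
                            · exact h3
                          have cmu_0 : T.m x0 = 2 * T.m x5 := by linarith only [hm_0, hm_1, hm_2, hm_3, hm_4, hm_5]
                          have cmu_1 : T.m x1 = T.m x5 := by linarith only [hm_0, hm_1, hm_2, hm_3, hm_4, hm_5]
                          have cmu_2 : T.m x2 = T.m x5 := by linarith only [hm_0, hm_1, hm_2, hm_3, hm_4, hm_5]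
                          have cmu_3 : T.m x3 = 2 * T.m x5 := by linarith only [hm_0, hm_1, hm_2, hm_3, hm_4, hm_5]
                          have cmu_4 : T.m x4 = 2 * T.m x5 := by linarith only [hm_0, hm_1, hm_2, hm_3, hm_4, hm_5]
                          have cmu_5 : T.m x5 = T.m x5 := rfl
                          have hinjσ : Function.Injective ![x5, x4, x3, x0, x1, x2] := NT.inj6 _ _ _ _ _ _ hne_4_5.symm hne_3_5.symm hne_0_5.symm hne_1_5.symm hne_2_5.symm hne_3_4.symm hne_0_4.symm hne_1_4.symm hne_2_4.symm hne_0_3.symm hne_1_3.symm hne_2_3.symm hne_0_1 hne_0_2 hne_1_2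
                          exact ⟨Equiv.ofBijective ![x5, x4, x3, x0, x1, x2] ⟨hinjσ, Finite.surjective_of_injective hinjσ⟩, T.m x5, T.w x4, Or.inr (Or.inr (Or.inr (Or.inr (Or.inl ⟨cmu_5, cmu_4, cmu_3, cmu_0, cmu_1, cmu_2, cw_5, cw_4, cw_3, cw_0, cw_1, cw_2, ca_5_5, ca_5_4, hz_5_3, hz_5_0, hz_5_1, hz_5_2, ca_4_4, ca_4_3, hz_4_0, hz_4_1, hz_4_2, ca_3_3, ca_3_0, hz_3_1, hz_3_2, ca_0_0, ca_0_1, ca_0_2, ca_1_1, hz_1_2, ca_2_2⟩))))⟩
                        · exfalso
                          refine NT.cert3 T x3 x4 x5 hne_3_4 hne_3_5 hne_4_5 (by norm_num) 1 2 1 (by norm_num) (by norm_num) (by norm_num) ?_ ?_ ?_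
                          · linarith only [hd x3, hwp x3, hx_3_4.ge, hnn x3 x5 hne_3_5]
                          · linarith only [hd x4, hwp x4, hx_4_3.ge, hx_4_5]
                          · linarith only [hd x5, hwp x5, hnn x5 x3 hne_3_5.symm, hl_5_4]
                      · exfalso
                        refine NT.cert5 T x0 x1 x2 x3 x4 hne_0_1 hne_0_2 hne_0_3 hne_0_4 hne_1_2 hne_1_3 hne_1_4 hne_2_3 hne_2_4 hne_3_4 (by norm_num) 2 1 1 2 2 (by norm_num) (by norm_num) (by norm_num) (by norm_num) (by norm_num) ?_ ?_ ?_ ?_ ?_
                        · linarith only [hd x0, hwp x0, hx_0_1.ge, hx_0_2.ge, hx_0_3.ge, hnn x0 x4 hne_0_4]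
                        · linarith only [hd x1, hwp x1, hx_1_0.ge, hnn x1 x2 hne_1_2, hnn x1 x3 hne_1_3, hnn x1 x4 hne_1_4]
                        · linarith only [hd x2, hwp x2, hx_2_0.ge, hnn x2 x1 hne_1_2.symm, hnn x2 x3 hne_2_3, hnn x2 x4 hne_2_4]
                        · linarith only [hd x3, hwp x3, hx_3_0.ge, hnn x3 x1 hne_1_3.symm, hnn x3 x2 hne_2_3.symm, hx_3_4.ge]
                        · linarith only [hd x4, hwp x4, hnn x4 x0 hne_0_4.symm, hnn x4 x1 hne_1_4.symm, hnn x4 x2 hne_2_4.symm, hx_4_3.ge]
                      · exfalso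
                        refine NT.cert3 T x0 x3 x4 hne_0_3 hne_0_4 hne_3_4 (by norm_num) 1 2 3 (by norm_num) (by norm_num) (by norm_num) ?_ ?_ ?_
                        · linarith only [hd x0, hwp x0, hx_0_3.ge, hnn x0 x4 hne_0_4]
                        · linarith only [hd x3, hwp x3, hx_3_0.ge, hx_3_4.ge]
                        · linarith only [hd x4, hwp x4, hnn x4 x0 hne_0_4.symm, hx_4_3]
                    · exfalso
                      refine NT.cert5 T x0 x1 x2 x3 x4 hne_0_1 hne_0_2 hne_0_3 hne_0_4 hne_1_2 hne_1_3 hne_1_4 hne_2_3 hne_2_4 hne_3_4 (by norm_num) 2 1 1 2 1 (by norm_num) (by norm_num) (by norm_num) (by norm_num) (by norm_num) ?_ ?_ ?_ ?_ ?_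
                      · linarith only [hd x0, hwp x0, hx_0_1.ge, hx_0_2.ge, hx_0_3.ge, hnn x0 x4 hne_0_4]
                      · linarith only [hd x1, hwp x1, hx_1_0.ge, hnn x1 x2 hne_1_2, hnn x1 x3 hne_1_3, hnn x1 x4 hne_1_4]
                      · linarith only [hd x2, hwp x2, hx_2_0.ge, hnn x2 x1 hne_1_2.symm, hnn x2 x3 hne_2_3, hnn x2 x4 hne_2_4]
                      · linarith only [hd x3, hwp x3, hx_3_0.ge, hnn x3 x1 hne_1_3.symm, hnn x3 x2 hne_2_3.symm, hx_3_4.ge]
                      · linarith only [hd x4, hwp x4, hnn x4 x0 hne_0_4.symm, hnn x4 x1 hne_1_4.symm, hnn x4 x2 hne_2_4.symm, hl_4_3]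
                    · exfalso
                      refine NT.cert3 T x0 x3 x4 hne_0_3 hne_0_4 hne_3_4 (by norm_num) 1 2 1 (by norm_num) (by norm_num) (by norm_num) ?_ ?_ ?_
                      · linarith only [hd x0, hwp x0, hx_0_3.ge, hnn x0 x4 hne_0_4]
                      · linarith only [hd x3, hwp x3, hx_3_0.ge, hx_3_4]
                      · linarith only [hd x4, hwp x4, hnn x4 x0 hne_0_4.symm, hl_4_3]
                  · exfalso
                    refine NT.cert4 T x0 x1 x2 x3 hne_0_1 hne_0_2 hne_0_3 hne_1_2 hne_1_3 hne_2_3 (by norm_num) 2 1 1 2 (by norm_num) (by norm_num) (by norm_num) (by norm_num) ?_ ?_ ?_ ?_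
                    · linarith only [hd x0, hwp x0, hx_0_1.ge, hx_0_2.ge, hx_0_3.ge]
                    · linarith only [hd x1, hwp x1, hx_1_0.ge, hnn x1 x2 hne_1_2, hnn x1 x3 hne_1_3]
                    · linarith only [hd x2, hwp x2, hx_2_0.ge, hnn x2 x1 hne_1_2.symm, hnn x2 x3 hne_2_3]
                    · linarith only [hd x3, hwp x3, hx_3_0.ge, hnn x3 x1 hne_1_3.symm, hnn x3 x2 hne_2_3.symm]
                  · exfalso
                    refine NT.cert3 T x0 x1 x3 hne_0_1 hne_0_3 hne_1_3 (by norm_num) 2 1 3 (by norm_num) (by norm_num) (by norm_num) ?_ ?_ ?_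
                    · linarith only [hd x0, hwp x0, hx_0_1.ge, hx_0_3.ge]
                    · linarith only [hd x1, hwp x1, hx_1_0.ge, hnn x1 x3 hne_1_3]
                    · linarith only [hd x3, hwp x3, hx_3_0, hnn x3 x1 hne_1_3.symm]
                · exfalso
                  refine NT.cert4 T x0 x1 x2 x3 hne_0_1 hne_0_2 hne_0_3 hne_1_2 hne_1_3 hne_2_3 (by norm_num) 2 1 1 1 (by norm_num) (by norm_num) (by norm_num) (by norm_num) ?_ ?_ ?_ ?_
                  · linarith only [hd x0, hwp x0, hx_0_1.ge, hx_0_2.ge, hx_0_3.ge]
                  · linarith only [hd x1, hwp x1, hx_1_0.ge, hnn x1 x2 hne_1_2, hnn x1 x3 hne_1_3]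
                  · linarith only [hd x2, hwp x2, hx_2_0.ge, hnn x2 x1 hne_1_2.symm, hnn x2 x3 hne_2_3]
                  · linarith only [hd x3, hwp x3, hl_3_0, hnn x3 x1 hne_1_3.symm, hnn x3 x2 hne_2_3.symm]
                · exfalso
                  refine NT.cert3 T x0 x1 x3 hne_0_1 hne_0_3 hne_1_3 (by norm_num) 2 1 1 (by norm_num) (by norm_num) (by norm_num) ?_ ?_ ?_
                  · linarith only [hd x0, hwp x0, hx_0_1.ge, hx_0_3]
                  · linarith only [hd x1, hwp x1, hx_1_0.ge, hnn x1 x3 hne_1_3]
                  · linarith only [hd x3, hwp x3, hl_3_0, hnn x3 x1 hne_1_3.symm]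
              · exfalso
                refine NT.cert4 T x0 x1 x2 x3 hne_0_1 hne_0_2 hne_0_3 hne_1_2 hne_1_3 hne_2_3 (by norm_num) 2 1 2 1 (by norm_num) (by norm_num) (by norm_num) (by norm_num) ?_ ?_ ?_ ?_
                · linarith only [hd x0, hwp x0, hx_0_1.ge, hx_0_2.ge, hl_0_3]
                · linarith only [hd x1, hwp x1, hx_1_0.ge, hnn x1 x2 hne_1_2, hnn x1 x3 hne_1_3]
                · linarith only [hd x2, hwp x2, hx_2_0.ge, hnn x2 x1 hne_1_2.symm, hnn x2 x3 hne_2_3]
                · linarith only [hd x3, hwp x3, hl_3_0, hnn x3 x1 hne_1_3.symm, hnn x3 x2 hne_2_3.symm]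
              · exfalso
                refine NT.cert3 T x0 x1 x2 hne_0_1 hne_0_2 hne_1_2 (by norm_num) 2 1 3 (by norm_num) (by norm_num) (by norm_num) ?_ ?_ ?_
                · linarith only [hd x0, hwp x0, hx_0_1.ge, hx_0_2.ge]
                · linarith only [hd x1, hwp x1, hx_1_0.ge, hnn x1 x2 hne_1_2]
                · linarith only [hd x2, hwp x2, hx_2_0, hnn x2 x1 hne_1_2.symm]
            · exfalso
              refine NT.cert4 T x0 x1 x2 x3 hne_0_1 hne_0_2 hne_0_3 hne_1_2 hne_1_3 hne_2_3 (by norm_num) 2 1 1 1 (by norm_num) (by norm_num) (by norm_num) (by norm_num) ?_ ?_ ?_ ?_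
              · linarith only [hd x0, hwp x0, hx_0_1.ge, hx_0_2.ge, hl_0_3]
              · linarith only [hd x1, hwp x1, hx_1_0.ge, hnn x1 x2 hne_1_2, hnn x1 x3 hne_1_3]
              · linarith only [hd x2, hwp x2, hl_2_0, hnn x2 x1 hne_1_2.symm, hnn x2 x3 hne_2_3]
              · linarith only [hd x3, hwp x3, hl_3_0, hnn x3 x1 hne_1_3.symm, hnn x3 x2 hne_2_3.symm]
            · exfalso
              refine NT.cert3 T x0 x1 x2 hne_0_1 hne_0_2 hne_1_2 (by norm_num) 2 1 1 (by norm_num) (by norm_num) (by norm_num) ?_ ?_ ?_
              · linarith only [hd x0, hwp x0, hx_0_1.ge, hx_0_2]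
              · linarith only [hd x1, hwp x1, hx_1_0.ge, hnn x1 x2 hne_1_2]
              · linarith only [hd x2, hwp x2, hl_2_0, hnn x2 x1 hne_1_2.symm]
          · exfalso
            refine NT.cert4 T x0 x1 x2 x3 hne_0_1 hne_0_2 hne_0_3 hne_1_2 hne_1_3 hne_2_3 (by norm_num) 2 2 1 1 (by norm_num) (by norm_num) (by norm_num) (by norm_num) ?_ ?_ ?_ ?_
            · linarith only [hd x0, hwp x0, hx_0_1.ge, hl_0_2, hl_0_3]
            · linarith only [hd x1, hwp x1, hx_1_0.ge, hnn x1 x2 hne_1_2, hnn x1 x3 hne_1_3]
            · linarith only [hd x2, hwp x2, hl_2_0, hnn x2 x1 hne_1_2.symm, hnn x2 x3 hne_2_3]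
            · linarith only [hd x3, hwp x3, hl_3_0, hnn x3 x1 hne_1_3.symm, hnn x3 x2 hne_2_3.symm]
          · exfalso
            refine NT.cert3 T x0 x1 x2 hne_0_1 hne_0_2 hne_1_2 (by norm_num) 2 3 1 (by norm_num) (by norm_num) (by norm_num) ?_ ?_ ?_
            · linarith only [hd x0, hwp x0, hx_0_1.ge, hl_0_2]
            · linarith only [hd x1, hwp x1, hx_1_0, hnn x1 x2 hne_1_2]
            · linarith only [hd x2, hwp x2, hl_2_0, hnn x2 x1 hne_1_2.symm]
        · exfalso
          refine NT.cert4 T x0 x1 x2 x3 hne_0_1 hne_0_2 hne_0_3 hne_1_2 hne_1_3 hne_2_3 (by norm_num) 2 1 1 1 (by norm_num) (by norm_num) (by norm_num) (by norm_num) ?_ ?_ ?_ ?_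
          · linarith only [hd x0, hwp x0, hx_0_1.ge, hl_0_2, hl_0_3]
          · linarith only [hd x1, hwp x1, hl_1_0, hnn x1 x2 hne_1_2, hnn x1 x3 hne_1_3]
          · linarith only [hd x2, hwp x2, hl_2_0, hnn x2 x1 hne_1_2.symm, hnn x2 x3 hne_2_3]
          · linarith only [hd x3, hwp x3, hl_3_0, hnn x3 x1 hne_1_3.symm, hnn x3 x2 hne_2_3.symm]
        · exfalso
          refine NT.cert3 T x0 x1 x2 hne_0_1 hne_0_2 hne_1_2 (by norm_num) 2 1 1 (by norm_num) (by norm_num) (by norm_num) ?_ ?_ ?_
          · linarith only [hd x0, hwp x0, hx_0_1, hl_0_2]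
          · linarith only [hd x1, hwp x1, hl_1_0, hnn x1 x2 hne_1_2]
          · linarith only [hd x2, hwp x2, hl_2_0, hnn x2 x1 hne_1_2.symm]
      · by_cases hq_3 : ∃ y, (y ≠ x0 ∧ y ≠ x1 ∧ y ≠ x2 ∧ y ≠ x3 ∧ y ≠ x4) ∧ T.a x3 y ≠ 0
        · obtain ⟨x5, ⟨hn0, hn1, hn2, hn3, hn4⟩, hadj_3_5⟩ := hq_3
          have hne_0_5 : x0 ≠ x5 := hn0.symm
          have hne_1_5 : x1 ≠ x5 := hn1.symm
          have hne_2_5 : x2 ≠ x5 := hn2.symm
          have hne_3_5 : x3 ≠ x5 := hn3.symm
          have hne_4_5 : x4 ≠ x5 := hn4.symm
          have hadj_5_3 : T.a x5 x3 ≠ 0 := by rw [hsym]; exact hadj_3_5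
          have hl_3_5 := NT.lb1 T _ _ hne_3_5 hadj_3_5
          have hl_5_3 := NT.lb1 T _ _ hne_3_5.symm hadj_5_3
          have hs_3_5 : T.a x3 x5 = T.a x5 x3 := hsym _ _
          have hz_0_5 : T.a x0 x5 = 0 := by
            by_contra hadj_0_5
            have hadj_5_0 : T.a x5 x0 ≠ 0 := by rw [hsym]; exact hadj_0_5
            have hl_0_5 := NT.lb1 T _ _ hne_0_5 hadj_0_5
            have hl_5_0 := NT.lb1 T _ _ hne_0_5.symm hadj_5_0
            have hs_0_5 : T.a x0 x5 = T.a x5 x0 := hsym _ _
            refine NT.cert3 T x0 x3 x5 hne_0_3 hne_0_5 hne_3_5 (by norm_num) 1 1 1 (by norm_num) (by norm_num) (by norm_num) ?_ ?_ ?_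
            · linarith only [hd x0, hwp x0, hl_0_3, hl_0_5]
            · linarith only [hd x3, hwp x3, hl_3_0, hl_3_5]
            · linarith only [hd x5, hwp x5, hl_5_0, hl_5_3]
          have hz_5_0 : T.a x5 x0 = 0 := by rw [hsym]; exact hz_0_5
          have hz_1_5 : T.a x1 x5 = 0 := by
            by_contra hadj_1_5
            have hadj_5_1 : T.a x5 x1 ≠ 0 := by rw [hsym]; exact hadj_1_5
            have hl_1_5 := NT.lb1 T _ _ hne_1_5 hadj_1_5
            have hl_5_1 := NT.lb1 T _ _ hne_1_5.symm hadj_5_1
            have hs_1_5 : T.a x1 x5 = T.a x5 x1 := hsym _ _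
            refine NT.cert4 T x0 x1 x3 x5 hne_0_1 hne_0_3 hne_0_5 hne_1_3 hne_1_5 hne_3_5 (by norm_num) 1 1 1 1 (by norm_num) (by norm_num) (by norm_num) (by norm_num) ?_ ?_ ?_ ?_
            · linarith only [hd x0, hwp x0, hl_0_1, hl_0_3, hnn x0 x5 hne_0_5]
            · linarith only [hd x1, hwp x1, hl_1_0, hnn x1 x3 hne_1_3, hl_1_5]
            · linarith only [hd x3, hwp x3, hl_3_0, hnn x3 x1 hne_1_3.symm, hl_3_5]
            · linarith only [hd x5, hwp x5, hnn x5 x0 hne_0_5.symm, hl_5_1, hl_5_3]
          have hz_5_1 : T.a x5 x1 = 0 := by rw [hsym]; exact hz_1_5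
          have hz_2_5 : T.a x2 x5 = 0 := by
            by_contra hadj_2_5
            have hadj_5_2 : T.a x5 x2 ≠ 0 := by rw [hsym]; exact hadj_2_5
            have hl_2_5 := NT.lb1 T _ _ hne_2_5 hadj_2_5
            have hl_5_2 := NT.lb1 T _ _ hne_2_5.symm hadj_5_2
            have hs_2_5 : T.a x2 x5 = T.a x5 x2 := hsym _ _
            refine NT.cert4 T x0 x2 x3 x5 hne_0_2 hne_0_3 hne_0_5 hne_2_3 hne_2_5 hne_3_5 (by norm_num) 1 1 1 1 (by norm_num) (by norm_num) (by norm_num) (by norm_num) ?_ ?_ ?_ ?_
            · linarith only [hd x0, hwp x0, hl_0_2, hl_0_3, hnn x0 x5 hne_0_5]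
            · linarith only [hd x2, hwp x2, hl_2_0, hnn x2 x3 hne_2_3, hl_2_5]
            · linarith only [hd x3, hwp x3, hl_3_0, hnn x3 x2 hne_2_3.symm, hl_3_5]
            · linarith only [hd x5, hwp x5, hnn x5 x0 hne_0_5.symm, hl_5_2, hl_5_3]
          have hz_5_2 : T.a x5 x2 = 0 := by rw [hsym]; exact hz_2_5
          have hz_4_5 : T.a x4 x5 = 0 := by
            by_contra h
            exact hq_4 ⟨x5, ⟨hne_0_5.symm, hne_1_5.symm, hne_2_5.symm, hne_3_5.symm, hne_4_5.symm⟩, h⟩
          have hz_5_4 : T.a x5 x4 = 0 := by rw [hsym]; exact hz_4_5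
          have hinj : Function.Injective ![x0, x1, x2, x3, x4, x5] := NT.inj6 _ _ _ _ _ _ hne_0_1 hne_0_2 hne_0_3 hne_0_4 hne_0_5 hne_1_2 hne_1_3 hne_1_4 hne_1_5 hne_2_3 hne_2_4 hne_2_5 hne_3_4 hne_3_5 hne_4_5
          have hrow_0 : T.a x0 x0 * T.m x0 + T.a x0 x1 * T.m x1 + T.a x0 x2 * T.m x2 + T.a x0 x3 * T.m x3 + T.a x0 x4 * T.m x4 + T.a x0 x5 * T.m x5 = 0 := by
            have h := NT.row_fun T _ hinj (0 : Fin 6)
            rw [Fin.sum_univ_six] at h
            exact h
          have hrow_1 : T.a x1 x0 * T.m x0 + T.a x1 x1 * T.m x1 + T.a x1 x2 * T.m x2 + T.a x1 x3 * T.m x3 + T.a x1 x4 * T.m x4 + T.a x1 x5 * T.m x5 = 0 := by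
            have h := NT.row_fun T _ hinj (1 : Fin 6)
            rw [Fin.sum_univ_six] at h
            exact h
          have hrow_2 : T.a x2 x0 * T.m x0 + T.a x2 x1 * T.m x1 + T.a x2 x2 * T.m x2 + T.a x2 x3 * T.m x3 + T.a x2 x4 * T.m x4 + T.a x2 x5 * T.m x5 = 0 := by
            have h := NT.row_fun T _ hinj (2 : Fin 6)
            rw [Fin.sum_univ_six] at h
            exact h
          have hrow_3 : T.a x3 x0 * T.m x0 + T.a x3 x1 * T.m x1 + T.a x3 x2 * T.m x2 + T.a x3 x3 * T.m x3 + T.a x3 x4 * T.m x4 + T.a x3 x5 * T.m x5 = 0 := by
            have h := NT.row_fun T _ hinj (3 : Fin 6)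
            rw [Fin.sum_univ_six] at h
            exact h
          have hrow_4 : T.a x4 x0 * T.m x0 + T.a x4 x1 * T.m x1 + T.a x4 x2 * T.m x2 + T.a x4 x3 * T.m x3 + T.a x4 x4 * T.m x4 + T.a x4 x5 * T.m x5 = 0 := by
            have h := NT.row_fun T _ hinj (4 : Fin 6)
            rw [Fin.sum_univ_six] at h
            exact h
          have hrow_5 : T.a x5 x0 * T.m x0 + T.a x5 x1 * T.m x1 + T.a x5 x2 * T.m x2 + T.a x5 x3 * T.m x3 + T.a x5 x4 * T.m x4 + T.a x5 x5 * T.m x5 = 0 := by
            have h := NT.row_fun T _ hinj (5 : Fin 6)
            rw [Fin.sum_univ_six] at h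
            exact h
          obtain ⟨heq_0, heq_1, heq_2, heq_3, heq_4, heq_5⟩ := NT.harm6 T x0 x1 x2 x3 x4 x5 hne_0_1 hne_0_2 hne_0_3 hne_0_4 hne_0_5 hne_1_2 hne_1_3 hne_1_4 hne_1_5 hne_2_3 hne_2_4 hne_2_5 hne_3_4 hne_3_5 hne_4_5 2 1 1 2 1 1
            (by linarith only [hd x0, hl_0_1, hl_0_2, hl_0_3, hz_0_4, hz_0_5])
            (by linarith only [hd x1, hl_1_0, hz_1_2, hz_1_3, hz_1_4, hz_1_5])
            (by linarith only [hd x2, hl_2_0, hz_2_1, hz_2_3, hz_2_4, hz_2_5])
            (by linarith only [hd x3, hl_3_0, hz_3_1, hz_3_2, hl_3_4, hl_3_5])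
            (by linarith only [hd x4, hz_4_0, hz_4_1, hz_4_2, hl_4_3, hz_4_5])
            (by linarith only [hd x5, hz_5_0, hz_5_1, hz_5_2, hl_5_3, hz_5_4])
          have hx_0_1 : T.a x0 x1 = T.w x0 := by linarith only [heq_0, hwp x0, hd x0, hl_0_1, hl_0_2, hl_0_3, hz_0_4, hz_0_5]
          have hx_1_0 : T.a x1 x0 = T.w x1 := by linarith only [heq_1, hwp x1, hd x1, hl_1_0, hz_1_2, hz_1_3, hz_1_4, hz_1_5]
          have hx_0_2 : T.a x0 x2 = T.w x0 := by linarith only [heq_0, hwp x0, hd x0, hl_0_1, hl_0_2, hl_0_3, hz_0_4, hz_0_5]
          have hx_2_0 : T.a x2 x0 = T.w x2 := by linarith only [heq_2, hwp x2, hd x2, hl_2_0, hz_2_1, hz_2_3, hz_2_4, hz_2_5]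
          have hx_0_3 : T.a x0 x3 = T.w x0 := by linarith only [heq_0, hwp x0, hd x0, hl_0_1, hl_0_2, hl_0_3, hz_0_4, hz_0_5]
          have hx_3_0 : T.a x3 x0 = T.w x3 := by linarith only [heq_3, hwp x3, hd x3, hl_3_0, hz_3_1, hz_3_2, hl_3_4, hl_3_5]
          have hx_3_4 : T.a x3 x4 = T.w x3 := by linarith only [heq_3, hwp x3, hd x3, hl_3_0, hz_3_1, hz_3_2, hl_3_4, hl_3_5]
          have hx_4_3 : T.a x4 x3 = T.w x4 := by linarith only [heq_4, hwp x4, hd x4, hz_4_0, hz_4_1, hz_4_2, hl_4_3, hz_4_5]
          have hx_3_5 : T.a x3 x5 = T.w x3 := by linarith only [heq_3, hwp x3, hd x3, hl_3_0, hz_3_1, hz_3_2, hl_3_4, hl_3_5]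
          have hx_5_3 : T.a x5 x3 = T.w x5 := by linarith only [heq_5, hwp x5, hd x5, hz_5_0, hz_5_1, hz_5_2, hl_5_3, hz_5_4]
          have cw_1 : T.w x1 = T.w x1 := rfl
          have cw_0 : T.w x0 = T.w x1 := by linarith only [cw_1, hx_1_0, hx_0_1, hs_0_1]
          have cw_2 : T.w x2 = T.w x1 := by linarith only [cw_0, hx_0_2, hx_2_0, hs_0_2]
          have cw_3 : T.w x3 = T.w x1 := by linarith only [cw_0, hx_0_3, hx_3_0, hs_0_3]
          have cw_4 : T.w x4 = T.w x1 := by linarith only [cw_3, hx_3_4, hx_4_3, hs_3_4]
          have cw_5 : T.w x5 = T.w x1 := by linarith only [cw_3, hx_3_5, hx_5_3, hs_3_5]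
          have ca_0_0 : T.a x0 x0 = -2 * T.w x1 := by linarith only [hd x0, cw_0]
          have ca_0_1 : T.a x0 x1 = T.w x1 := by linarith only [hx_0_1, cw_0]
          have ca_0_2 : T.a x0 x2 = T.w x1 := by linarith only [hx_0_2, cw_0]
          have ca_0_3 : T.a x0 x3 = T.w x1 := by linarith only [hx_0_3, cw_0]
          have ca_1_0 : T.a x1 x0 = T.w x1 := by linarith only [hx_1_0, cw_1]
          have ca_1_1 : T.a x1 x1 = -2 * T.w x1 := by linarith only [hd x1, cw_1]
          have ca_2_0 : T.a x2 x0 = T.w x1 := by linarith only [hx_2_0, cw_2]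
          have ca_2_2 : T.a x2 x2 = -2 * T.w x1 := by linarith only [hd x2, cw_2]
          have ca_3_0 : T.a x3 x0 = T.w x1 := by linarith only [hx_3_0, cw_3]
          have ca_3_3 : T.a x3 x3 = -2 * T.w x1 := by linarith only [hd x3, cw_3]
          have ca_3_4 : T.a x3 x4 = T.w x1 := by linarith only [hx_3_4, cw_3]
          have ca_3_5 : T.a x3 x5 = T.w x1 := by linarith only [hx_3_5, cw_3]
          have ca_4_3 : T.a x4 x3 = T.w x1 := by linarith only [hx_4_3, cw_4]
          have ca_4_4 : T.a x4 x4 = -2 * T.w x1 := by linarith only [hd x4, cw_4]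
          have ca_5_3 : T.a x5 x3 = T.w x1 := by linarith only [hx_5_3, cw_5]
          have ca_5_5 : T.a x5 x5 = -2 * T.w x1 := by linarith only [hd x5, cw_5]
          have hm_0 : -2 * T.m x0 + 1 * T.m x1 + 1 * T.m x2 + 1 * T.m x3 = 0 := by
            have h := hrow_0
            rw [ca_0_0, ca_0_1, ca_0_2, ca_0_3, hz_0_4, hz_0_5] at h
            have h2 : T.w x1 * (-2 * T.m x0 + 1 * T.m x1 + 1 * T.m x2 + 1 * T.m x3) = 0 := by linarith only [h]
            rcases mul_eq_zero.mp h2 with h3 | h3
            · exact absurd h3 (hwp _).ne'
            · exact h3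
          have hm_1 : 1 * T.m x0 + -2 * T.m x1 = 0 := by
            have h := hrow_1
            rw [ca_1_0, ca_1_1, hz_1_2, hz_1_3, hz_1_4, hz_1_5] at h
            have h2 : T.w x1 * (1 * T.m x0 + -2 * T.m x1) = 0 := by linarith only [h]
            rcases mul_eq_zero.mp h2 with h3 | h3
            · exact absurd h3 (hwp _).ne'
            · exact h3
          have hm_2 : 1 * T.m x0 + -2 * T.m x2 = 0 := by
            have h := hrow_2
            rw [ca_2_0, hz_2_1, ca_2_2, hz_2_3, hz_2_4, hz_2_5] at h
            have h2 : T.w x1 * (1 * T.m x0 + -2 * T.m x2) = 0 := by linarith only [h]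
            rcases mul_eq_zero.mp h2 with h3 | h3
            · exact absurd h3 (hwp _).ne'
            · exact h3
          have hm_3 : 1 * T.m x0 + -2 * T.m x3 + 1 * T.m x4 + 1 * T.m x5 = 0 := by
            have h := hrow_3
            rw [ca_3_0, hz_3_1, hz_3_2, ca_3_3, ca_3_4, ca_3_5] at h
            have h2 : T.w x1 * (1 * T.m x0 + -2 * T.m x3 + 1 * T.m x4 + 1 * T.m x5) = 0 := by linarith only [h]
            rcases mul_eq_zero.mp h2 with h3 | h3
            · exact absurd h3 (hwp _).ne'
            · exact h3
          have hm_4 : 1 * T.m x3 + -2 * T.m x4 = 0 := by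
            have h := hrow_4
            rw [hz_4_0, hz_4_1, hz_4_2, ca_4_3, ca_4_4, hz_4_5] at h
            have h2 : T.w x1 * (1 * T.m x3 + -2 * T.m x4) = 0 := by linarith only [h]
            rcases mul_eq_zero.mp h2 with h3 | h3
            · exact absurd h3 (hwp _).ne'
            · exact h3
          have hm_5 : 1 * T.m x3 + -2 * T.m x5 = 0 := by
            have h := hrow_5
            rw [hz_5_0, hz_5_1, hz_5_2, ca_5_3, hz_5_4, ca_5_5] at h
            have h2 : T.w x1 * (1 * T.m x3 + -2 * T.m x5) = 0 := by linarith only [h]
            rcases mul_eq_zero.mp h2 with h3 | h3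
            · exact absurd h3 (hwp _).ne'
            · exact h3
          have cmu_0 : T.m x0 = 2 * T.m x1 := by linarith only [hm_0, hm_1, hm_2, hm_3, hm_4, hm_5]
          have cmu_1 : T.m x1 = T.m x1 := rfl
          have cmu_2 : T.m x2 = T.m x1 := by linarith only [hm_0, hm_1, hm_2, hm_3, hm_4, hm_5]
          have cmu_3 : T.m x3 = 2 * T.m x1 := by linarith only [hm_0, hm_1, hm_2, hm_3, hm_4, hm_5]
          have cmu_4 : T.m x4 = T.m x1 := by linarith only [hm_0, hm_1, hm_2, hm_3, hm_4, hm_5]
          have cmu_5 : T.m x5 = T.m x1 := by linarith only [hm_0, hm_1, hm_2, hm_3, hm_4, hm_5]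
          have hinjσ : Function.Injective ![x1, x2, x0, x3, x4, x5] := NT.inj6 _ _ _ _ _ _ hne_1_2 hne_0_1.symm hne_1_3 hne_1_4 hne_1_5 hne_0_2.symm hne_2_3 hne_2_4 hne_2_5 hne_0_3 hne_0_4 hne_0_5 hne_3_4 hne_3_5 hne_4_5
          exact ⟨Equiv.ofBijective ![x1, x2, x0, x3, x4, x5] ⟨hinjσ, Finite.surjective_of_injective hinjσ⟩, T.m x1, T.w x1, Or.inr (Or.inr (Or.inr (Or.inr (Or.inr (Or.inr (⟨cmu_1, cmu_2, cmu_0, cmu_3, cmu_4, cmu_5, cw_1, cw_2, cw_0, cw_3, cw_4, cw_5, ca_1_1, hz_1_2, ca_1_0, hz_1_3, hz_1_4, hz_1_5, ca_2_2, ca_2_0, hz_2_3, hz_2_4, hz_2_5, ca_0_0, ca_0_3, hz_0_4, hz_0_5, ca_3_3, ca_3_4, ca_3_5, ca_4_4, hz_4_5, ca_5_5⟩))))))⟩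
        · by_cases hq_2 : ∃ y, (y ≠ x0 ∧ y ≠ x1 ∧ y ≠ x2 ∧ y ≠ x3 ∧ y ≠ x4) ∧ T.a x2 y ≠ 0
          · obtain ⟨x5, ⟨hn0, hn1, hn2, hn3, hn4⟩, hadj_2_5⟩ := hq_2
            have hne_0_5 : x0 ≠ x5 := hn0.symm
            have hne_1_5 : x1 ≠ x5 := hn1.symm
            have hne_2_5 : x2 ≠ x5 := hn2.symm
            have hne_3_5 : x3 ≠ x5 := hn3.symm
            have hne_4_5 : x4 ≠ x5 := hn4.symm
            have hadj_5_2 : T.a x5 x2 ≠ 0 := by rw [hsym]; exact hadj_2_5
            have hl_2_5 := NT.lb1 T _ _ hne_2_5 hadj_2_5
            have hl_5_2 := NT.lb1 T _ _ hne_2_5.symm hadj_5_2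
            have hs_2_5 : T.a x2 x5 = T.a x5 x2 := hsym _ _
            have hz_0_5 : T.a x0 x5 = 0 := by
              by_contra hadj_0_5
              have hadj_5_0 : T.a x5 x0 ≠ 0 := by rw [hsym]; exact hadj_0_5
              have hl_0_5 := NT.lb1 T _ _ hne_0_5 hadj_0_5
              have hl_5_0 := NT.lb1 T _ _ hne_0_5.symm hadj_5_0
              have hs_0_5 : T.a x0 x5 = T.a x5 x0 := hsym _ _
              refine NT.cert3 T x0 x2 x5 hne_0_2 hne_0_5 hne_2_5 (by norm_num) 1 1 1 (by norm_num) (by norm_num) (by norm_num) ?_ ?_ ?_
              · linarith only [hd x0, hwp x0, hl_0_2, hl_0_5]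
              · linarith only [hd x2, hwp x2, hl_2_0, hl_2_5]
              · linarith only [hd x5, hwp x5, hl_5_0, hl_5_2]
            have hz_5_0 : T.a x5 x0 = 0 := by rw [hsym]; exact hz_0_5
            have hz_1_5 : T.a x1 x5 = 0 := by
              by_contra hadj_1_5
              have hadj_5_1 : T.a x5 x1 ≠ 0 := by rw [hsym]; exact hadj_1_5
              have hl_1_5 := NT.lb1 T _ _ hne_1_5 hadj_1_5
              have hl_5_1 := NT.lb1 T _ _ hne_1_5.symm hadj_5_1
              have hs_1_5 : T.a x1 x5 = T.a x5 x1 := hsym _ _
              refine NT.cert4 T x0 x1 x2 x5 hne_0_1 hne_0_2 hne_0_5 hne_1_2 hne_1_5 hne_2_5 (by norm_num) 1 1 1 1 (by norm_num) (by norm_num) (by norm_num) (by norm_num) ?_ ?_ ?_ ?_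
              · linarith only [hd x0, hwp x0, hl_0_1, hl_0_2, hnn x0 x5 hne_0_5]
              · linarith only [hd x1, hwp x1, hl_1_0, hnn x1 x2 hne_1_2, hl_1_5]
              · linarith only [hd x2, hwp x2, hl_2_0, hnn x2 x1 hne_1_2.symm, hl_2_5]
              · linarith only [hd x5, hwp x5, hnn x5 x0 hne_0_5.symm, hl_5_1, hl_5_2]
            have hz_5_1 : T.a x5 x1 = 0 := by rw [hsym]; exact hz_1_5
            have hz_3_5 : T.a x3 x5 = 0 := by
              by_contra h
              exact hq_3 ⟨x5, ⟨hne_0_5.symm, hne_1_5.symm, hne_2_5.symm, hne_3_5.symm, hne_4_5.symm⟩, h⟩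
            have hz_5_3 : T.a x5 x3 = 0 := by rw [hsym]; exact hz_3_5
            have hz_4_5 : T.a x4 x5 = 0 := by
              by_contra h
              exact hq_4 ⟨x5, ⟨hne_0_5.symm, hne_1_5.symm, hne_2_5.symm, hne_3_5.symm, hne_4_5.symm⟩, h⟩
            have hz_5_4 : T.a x5 x4 = 0 := by rw [hsym]; exact hz_4_5
            have hinj : Function.Injective ![x0, x1, x2, x3, x4, x5] := NT.inj6 _ _ _ _ _ _ hne_0_1 hne_0_2 hne_0_3 hne_0_4 hne_0_5 hne_1_2 hne_1_3 hne_1_4 hne_1_5 hne_2_3 hne_2_4 hne_2_5 hne_3_4 hne_3_5 hne_4_5
            have hrow_0 : T.a x0 x0 * T.m x0 + T.a x0 x1 * T.m x1 + T.a x0 x2 * T.m x2 + T.a x0 x3 * T.m x3 + T.a x0 x4 * T.m x4 + T.a x0 x5 * T.m x5 = 0 := by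
              have h := NT.row_fun T _ hinj (0 : Fin 6)
              rw [Fin.sum_univ_six] at h
              exact h
            have hrow_1 : T.a x1 x0 * T.m x0 + T.a x1 x1 * T.m x1 + T.a x1 x2 * T.m x2 + T.a x1 x3 * T.m x3 + T.a x1 x4 * T.m x4 + T.a x1 x5 * T.m x5 = 0 := by
              have h := NT.row_fun T _ hinj (1 : Fin 6)
              rw [Fin.sum_univ_six] at h
              exact h
            have hrow_2 : T.a x2 x0 * T.m x0 + T.a x2 x1 * T.m x1 + T.a x2 x2 * T.m x2 + T.a x2 x3 * T.m x3 + T.a x2 x4 * T.m x4 + T.a x2 x5 * T.m x5 = 0 := by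
              have h := NT.row_fun T _ hinj (2 : Fin 6)
              rw [Fin.sum_univ_six] at h
              exact h
            have hrow_3 : T.a x3 x0 * T.m x0 + T.a x3 x1 * T.m x1 + T.a x3 x2 * T.m x2 + T.a x3 x3 * T.m x3 + T.a x3 x4 * T.m x4 + T.a x3 x5 * T.m x5 = 0 := by
              have h := NT.row_fun T _ hinj (3 : Fin 6)
              rw [Fin.sum_univ_six] at h
              exact h
            have hrow_4 : T.a x4 x0 * T.m x0 + T.a x4 x1 * T.m x1 + T.a x4 x2 * T.m x2 + T.a x4 x3 * T.m x3 + T.a x4 x4 * T.m x4 + T.a x4 x5 * T.m x5 = 0 := by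
              have h := NT.row_fun T _ hinj (4 : Fin 6)
              rw [Fin.sum_univ_six] at h
              exact h
            have hrow_5 : T.a x5 x0 * T.m x0 + T.a x5 x1 * T.m x1 + T.a x5 x2 * T.m x2 + T.a x5 x3 * T.m x3 + T.a x5 x4 * T.m x4 + T.a x5 x5 * T.m x5 = 0 := by
              have h := NT.row_fun T _ hinj (5 : Fin 6)
              rw [Fin.sum_univ_six] at h
              exact h
            rcases NT.edge3 T x0 x1 hne_0_1 hadj_0_1 with hx_0_1 | hx_0_1 | hx_0_1
            · rcases NT.edge3 T x1 x0 hne_0_1.symm hadj_1_0 with hx_1_0 | hx_1_0 | hx_1_0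
              · rcases NT.edge3 T x0 x2 hne_0_2 hadj_0_2 with hx_0_2 | hx_0_2 | hx_0_2
                · rcases NT.edge3 T x2 x0 hne_0_2.symm hadj_2_0 with hx_2_0 | hx_2_0 | hx_2_0
                  · rcases NT.edge3 T x0 x3 hne_0_3 hadj_0_3 with hx_0_3 | hx_0_3 | hx_0_3
                    · rcases NT.edge3 T x3 x0 hne_0_3.symm hadj_3_0 with hx_3_0 | hx_3_0 | hx_3_0
                      · rcases NT.edge3 T x3 x4 hne_3_4 hadj_3_4 with hx_3_4 | hx_3_4 | hx_3_4
                        · rcases NT.edge3 T x4 x3 hne_3_4.symm hadj_4_3 with hx_4_3 | hx_4_3 | hx_4_3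
                          · rcases NT.edge3 T x2 x5 hne_2_5 hadj_2_5 with hx_2_5 | hx_2_5 | hx_2_5
                            · rcases NT.edge3 T x5 x2 hne_2_5.symm hadj_5_2 with hx_5_2 | hx_5_2 | hx_5_2
                              · have cw_0 : T.w x0 = T.w x0 := rfl
                                have cw_1 : T.w x1 = T.w x0 := by linarith only [cw_0, hx_0_1, hx_1_0, hs_0_1]
                                have cw_2 : T.w x2 = T.w x0 := by linarith only [cw_0, hx_0_2, hx_2_0, hs_0_2]
                                have cw_3 : T.w x3 = T.w x0 := by linarith only [cw_0, hx_0_3, hx_3_0, hs_0_3]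
                                have cw_4 : T.w x4 = T.w x0 := by linarith only [cw_3, hx_3_4, hx_4_3, hs_3_4]
                                have cw_5 : T.w x5 = T.w x0 := by linarith only [cw_2, hx_2_5, hx_5_2, hs_2_5]
                                have ca_0_0 : T.a x0 x0 = -2 * T.w x0 := by linarith only [hd x0, cw_0]
                                have ca_0_1 : T.a x0 x1 = T.w x0 := by linarith only [hx_0_1, cw_0]
                                have ca_0_2 : T.a x0 x2 = T.w x0 := by linarith only [hx_0_2, cw_0]
                                have ca_0_3 : T.a x0 x3 = T.w x0 := by linarith only [hx_0_3, cw_0]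
                                have ca_1_0 : T.a x1 x0 = T.w x0 := by linarith only [hx_1_0, cw_1]
                                have ca_1_1 : T.a x1 x1 = -2 * T.w x0 := by linarith only [hd x1, cw_1]
                                have ca_2_0 : T.a x2 x0 = T.w x0 := by linarith only [hx_2_0, cw_2]
                                have ca_2_2 : T.a x2 x2 = -2 * T.w x0 := by linarith only [hd x2, cw_2]
                                have ca_2_5 : T.a x2 x5 = T.w x0 := by linarith only [hx_2_5, cw_2]
                                have ca_3_0 : T.a x3 x0 = T.w x0 := by linarith only [hx_3_0, cw_3]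
                                have ca_3_3 : T.a x3 x3 = -2 * T.w x0 := by linarith only [hd x3, cw_3]
                                have ca_3_4 : T.a x3 x4 = T.w x0 := by linarith only [hx_3_4, cw_3]
                                have ca_4_3 : T.a x4 x3 = T.w x0 := by linarith only [hx_4_3, cw_4]
                                have ca_4_4 : T.a x4 x4 = -2 * T.w x0 := by linarith only [hd x4, cw_4]
                                have ca_5_2 : T.a x5 x2 = T.w x0 := by linarith only [hx_5_2, cw_5]
                                have ca_5_5 : T.a x5 x5 = -2 * T.w x0 := by linarith only [hd x5, cw_5]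
                                have hm_0 : -2 * T.m x0 + 1 * T.m x1 + 1 * T.m x2 + 1 * T.m x3 = 0 := by
                                  have h := hrow_0
                                  rw [ca_0_0, ca_0_1, ca_0_2, ca_0_3, hz_0_4, hz_0_5] at h
                                  have h2 : T.w x0 * (-2 * T.m x0 + 1 * T.m x1 + 1 * T.m x2 + 1 * T.m x3) = 0 := by linarith only [h]
                                  rcases mul_eq_zero.mp h2 with h3 | h3
                                  · exact absurd h3 (hwp _).ne'
                                  · exact h3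
                                have hm_1 : 1 * T.m x0 + -2 * T.m x1 = 0 := by
                                  have h := hrow_1
                                  rw [ca_1_0, ca_1_1, hz_1_2, hz_1_3, hz_1_4, hz_1_5] at h
                                  have h2 : T.w x0 * (1 * T.m x0 + -2 * T.m x1) = 0 := by linarith only [h]
                                  rcases mul_eq_zero.mp h2 with h3 | h3
                                  · exact absurd h3 (hwp _).ne'
                                  · exact h3
                                have hm_2 : 1 * T.m x0 + -2 * T.m x2 + 1 * T.m x5 = 0 := by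
                                  have h := hrow_2
                                  rw [ca_2_0, hz_2_1, ca_2_2, hz_2_3, hz_2_4, ca_2_5] at h
                                  have h2 : T.w x0 * (1 * T.m x0 + -2 * T.m x2 + 1 * T.m x5) = 0 := by linarith only [h]
                                  rcases mul_eq_zero.mp h2 with h3 | h3
                                  · exact absurd h3 (hwp _).ne'
                                  · exact h3
                                have hm_3 : 1 * T.m x0 + -2 * T.m x3 + 1 * T.m x4 = 0 := by
                                  have h := hrow_3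
                                  rw [ca_3_0, hz_3_1, hz_3_2, ca_3_3, ca_3_4, hz_3_5] at h
                                  have h2 : T.w x0 * (1 * T.m x0 + -2 * T.m x3 + 1 * T.m x4) = 0 := by linarith only [h]
                                  rcases mul_eq_zero.mp h2 with h3 | h3
                                  · exact absurd h3 (hwp _).ne'
                                  · exact h3
                                have hm_4 : 1 * T.m x3 + -2 * T.m x4 = 0 := by
                                  have h := hrow_4
                                  rw [hz_4_0, hz_4_1, hz_4_2, ca_4_3, ca_4_4, hz_4_5] at h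
                                  have h2 : T.w x0 * (1 * T.m x3 + -2 * T.m x4) = 0 := by linarith only [h]
                                  rcases mul_eq_zero.mp h2 with h3 | h3
                                  · exact absurd h3 (hwp _).ne'
                                  · exact h3
                                have hm_5 : 1 * T.m x2 + -2 * T.m x5 = 0 := by
                                  have h := hrow_5
                                  rw [hz_5_0, hz_5_1, ca_5_2, hz_5_3, hz_5_4, ca_5_5] at h
                                  have h2 : T.w x0 * (1 * T.m x2 + -2 * T.m x5) = 0 := by linarith only [h]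
                                  rcases mul_eq_zero.mp h2 with h3 | h3
                                  · exact absurd h3 (hwp _).ne'
                                  · exact h3
                                exfalso
                                linarith only [hm_0, hm_1, hm_2, hm_3, hm_4, hm_5, hmp x0, hmp x1, hmp x2, hmp x3, hmp x4, hmp x5]
                              · exfalso
                                refine NT.cert5 T x0 x1 x2 x3 x5 hne_0_1 hne_0_2 hne_0_3 hne_0_5 hne_1_2 hne_1_3 hne_1_5 hne_2_3 hne_2_5 hne_3_5 (by norm_num) 2 1 2 1 2 (by norm_num) (by norm_num) (by norm_num) (by norm_num) (by norm_num) ?_ ?_ ?_ ?_ ?_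
                                · linarith only [hd x0, hwp x0, hx_0_1.ge, hx_0_2.ge, hx_0_3.ge, hnn x0 x5 hne_0_5]
                                · linarith only [hd x1, hwp x1, hx_1_0.ge, hnn x1 x2 hne_1_2, hnn x1 x3 hne_1_3, hnn x1 x5 hne_1_5]
                                · linarith only [hd x2, hwp x2, hx_2_0.ge, hnn x2 x1 hne_1_2.symm, hnn x2 x3 hne_2_3, hx_2_5.ge]
                                · linarith only [hd x3, hwp x3, hx_3_0.ge, hnn x3 x1 hne_1_3.symm, hnn x3 x2 hne_2_3.symm, hnn x3 x5 hne_3_5]
                                · linarith only [hd x5, hwp x5, hnn x5 x0 hne_0_5.symm, hnn x5 x1 hne_1_5.symm, hx_5_2.ge, hnn x5 x3 hne_3_5.symm]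
                              · exfalso
                                refine NT.cert3 T x0 x2 x5 hne_0_2 hne_0_5 hne_2_5 (by norm_num) 1 2 3 (by norm_num) (by norm_num) (by norm_num) ?_ ?_ ?_
                                · linarith only [hd x0, hwp x0, hx_0_2.ge, hnn x0 x5 hne_0_5]
                                · linarith only [hd x2, hwp x2, hx_2_0.ge, hx_2_5.ge]
                                · linarith only [hd x5, hwp x5, hnn x5 x0 hne_0_5.symm, hx_5_2]
                            · exfalso
                              refine NT.cert5 T x0 x1 x2 x3 x5 hne_0_1 hne_0_2 hne_0_3 hne_0_5 hne_1_2 hne_1_3 hne_1_5 hne_2_3 hne_2_5 hne_3_5 (by norm_num) 2 1 2 1 1 (by norm_num) (by norm_num) (by norm_num) (by norm_num) (by norm_num) ?_ ?_ ?_ ?_ ?_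
                              · linarith only [hd x0, hwp x0, hx_0_1.ge, hx_0_2.ge, hx_0_3.ge, hnn x0 x5 hne_0_5]
                              · linarith only [hd x1, hwp x1, hx_1_0.ge, hnn x1 x2 hne_1_2, hnn x1 x3 hne_1_3, hnn x1 x5 hne_1_5]
                              · linarith only [hd x2, hwp x2, hx_2_0.ge, hnn x2 x1 hne_1_2.symm, hnn x2 x3 hne_2_3, hx_2_5.ge]
                              · linarith only [hd x3, hwp x3, hx_3_0.ge, hnn x3 x1 hne_1_3.symm, hnn x3 x2 hne_2_3.symm, hnn x3 x5 hne_3_5]
                              · linarith only [hd x5, hwp x5, hnn x5 x0 hne_0_5.symm, hnn x5 x1 hne_1_5.symm, hl_5_2, hnn x5 x3 hne_3_5.symm]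
                            · exfalso
                              refine NT.cert3 T x0 x2 x5 hne_0_2 hne_0_5 hne_2_5 (by norm_num) 1 2 1 (by norm_num) (by norm_num) (by norm_num) ?_ ?_ ?_
                              · linarith only [hd x0, hwp x0, hx_0_2.ge, hnn x0 x5 hne_0_5]
                              · linarith only [hd x2, hwp x2, hx_2_0.ge, hx_2_5]
                              · linarith only [hd x5, hwp x5, hnn x5 x0 hne_0_5.symm, hl_5_2]
                          · exfalso
                            refine NT.cert5 T x0 x1 x2 x3 x4 hne_0_1 hne_0_2 hne_0_3 hne_0_4 hne_1_2 hne_1_3 hne_1_4 hne_2_3 hne_2_4 hne_3_4 (by norm_num) 2 1 1 2 2 (by norm_num) (by norm_num) (by norm_num) (by norm_num) (by norm_num) ?_ ?_ ?_ ?_ ?_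
                            · linarith only [hd x0, hwp x0, hx_0_1.ge, hx_0_2.ge, hx_0_3.ge, hnn x0 x4 hne_0_4]
                            · linarith only [hd x1, hwp x1, hx_1_0.ge, hnn x1 x2 hne_1_2, hnn x1 x3 hne_1_3, hnn x1 x4 hne_1_4]
                            · linarith only [hd x2, hwp x2, hx_2_0.ge, hnn x2 x1 hne_1_2.symm, hnn x2 x3 hne_2_3, hnn x2 x4 hne_2_4]
                            · linarith only [hd x3, hwp x3, hx_3_0.ge, hnn x3 x1 hne_1_3.symm, hnn x3 x2 hne_2_3.symm, hx_3_4.ge]
                            · linarith only [hd x4, hwp x4, hnn x4 x0 hne_0_4.symm, hnn x4 x1 hne_1_4.symm, hnn x4 x2 hne_2_4.symm, hx_4_3.ge]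
                          · exfalso
                            refine NT.cert3 T x0 x3 x4 hne_0_3 hne_0_4 hne_3_4 (by norm_num) 1 2 3 (by norm_num) (by norm_num) (by norm_num) ?_ ?_ ?_
                            · linarith only [hd x0, hwp x0, hx_0_3.ge, hnn x0 x4 hne_0_4]
                            · linarith only [hd x3, hwp x3, hx_3_0.ge, hx_3_4.ge]
                            · linarith only [hd x4, hwp x4, hnn x4 x0 hne_0_4.symm, hx_4_3]
                        · exfalso
                          refine NT.cert5 T x0 x1 x2 x3 x4 hne_0_1 hne_0_2 hne_0_3 hne_0_4 hne_1_2 hne_1_3 hne_1_4 hne_2_3 hne_2_4 hne_3_4 (by norm_num) 2 1 1 2 1 (by norm_num) (by norm_num) (by norm_num) (by norm_num) (by norm_num) ?_ ?_ ?_ ?_ ?_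
                          · linarith only [hd x0, hwp x0, hx_0_1.ge, hx_0_2.ge, hx_0_3.ge, hnn x0 x4 hne_0_4]
                          · linarith only [hd x1, hwp x1, hx_1_0.ge, hnn x1 x2 hne_1_2, hnn x1 x3 hne_1_3, hnn x1 x4 hne_1_4]
                          · linarith only [hd x2, hwp x2, hx_2_0.ge, hnn x2 x1 hne_1_2.symm, hnn x2 x3 hne_2_3, hnn x2 x4 hne_2_4]
                          · linarith only [hd x3, hwp x3, hx_3_0.ge, hnn x3 x1 hne_1_3.symm, hnn x3 x2 hne_2_3.symm, hx_3_4.ge]
                          · linarith only [hd x4, hwp x4, hnn x4 x0 hne_0_4.symm, hnn x4 x1 hne_1_4.symm, hnn x4 x2 hne_2_4.symm, hl_4_3]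
                        · exfalso
                          refine NT.cert3 T x0 x3 x4 hne_0_3 hne_0_4 hne_3_4 (by norm_num) 1 2 1 (by norm_num) (by norm_num) (by norm_num) ?_ ?_ ?_
                          · linarith only [hd x0, hwp x0, hx_0_3.ge, hnn x0 x4 hne_0_4]
                          · linarith only [hd x3, hwp x3, hx_3_0.ge, hx_3_4]
                          · linarith only [hd x4, hwp x4, hnn x4 x0 hne_0_4.symm, hl_4_3]
                      · exfalso
                        refine NT.cert4 T x0 x1 x2 x3 hne_0_1 hne_0_2 hne_0_3 hne_1_2 hne_1_3 hne_2_3 (by norm_num) 2 1 1 2 (by norm_num) (by norm_num) (by norm_num) (by norm_num) ?_ ?_ ?_ ?_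
                        · linarith only [hd x0, hwp x0, hx_0_1.ge, hx_0_2.ge, hx_0_3.ge]
                        · linarith only [hd x1, hwp x1, hx_1_0.ge, hnn x1 x2 hne_1_2, hnn x1 x3 hne_1_3]
                        · linarith only [hd x2, hwp x2, hx_2_0.ge, hnn x2 x1 hne_1_2.symm, hnn x2 x3 hne_2_3]
                        · linarith only [hd x3, hwp x3, hx_3_0.ge, hnn x3 x1 hne_1_3.symm, hnn x3 x2 hne_2_3.symm]
                      · exfalso
                        refine NT.cert3 T x0 x1 x3 hne_0_1 hne_0_3 hne_1_3 (by norm_num) 2 1 3 (by norm_num) (by norm_num) (by norm_num) ?_ ?_ ?_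
                        · linarith only [hd x0, hwp x0, hx_0_1.ge, hx_0_3.ge]
                        · linarith only [hd x1, hwp x1, hx_1_0.ge, hnn x1 x3 hne_1_3]
                        · linarith only [hd x3, hwp x3, hx_3_0, hnn x3 x1 hne_1_3.symm]
                    · exfalso
                      refine NT.cert4 T x0 x1 x2 x3 hne_0_1 hne_0_2 hne_0_3 hne_1_2 hne_1_3 hne_2_3 (by norm_num) 2 1 1 1 (by norm_num) (by norm_num) (by norm_num) (by norm_num) ?_ ?_ ?_ ?_
                      · linarith only [hd x0, hwp x0, hx_0_1.ge, hx_0_2.ge, hx_0_3.ge]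
                      · linarith only [hd x1, hwp x1, hx_1_0.ge, hnn x1 x2 hne_1_2, hnn x1 x3 hne_1_3]
                      · linarith only [hd x2, hwp x2, hx_2_0.ge, hnn x2 x1 hne_1_2.symm, hnn x2 x3 hne_2_3]
                      · linarith only [hd x3, hwp x3, hl_3_0, hnn x3 x1 hne_1_3.symm, hnn x3 x2 hne_2_3.symm]
                    · exfalso
                      refine NT.cert3 T x0 x1 x3 hne_0_1 hne_0_3 hne_1_3 (by norm_num) 2 1 1 (by norm_num) (by norm_num) (by norm_num) ?_ ?_ ?_
                      · linarith only [hd x0, hwp x0, hx_0_1.ge, hx_0_3]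
                      · linarith only [hd x1, hwp x1, hx_1_0.ge, hnn x1 x3 hne_1_3]
                      · linarith only [hd x3, hwp x3, hl_3_0, hnn x3 x1 hne_1_3.symm]
                  · exfalso
                    refine NT.cert4 T x0 x1 x2 x3 hne_0_1 hne_0_2 hne_0_3 hne_1_2 hne_1_3 hne_2_3 (by norm_num) 2 1 2 1 (by norm_num) (by norm_num) (by norm_num) (by norm_num) ?_ ?_ ?_ ?_
                    · linarith only [hd x0, hwp x0, hx_0_1.ge, hx_0_2.ge, hl_0_3]
                    · linarith only [hd x1, hwp x1, hx_1_0.ge, hnn x1 x2 hne_1_2, hnn x1 x3 hne_1_3]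
                    · linarith only [hd x2, hwp x2, hx_2_0.ge, hnn x2 x1 hne_1_2.symm, hnn x2 x3 hne_2_3]
                    · linarith only [hd x3, hwp x3, hl_3_0, hnn x3 x1 hne_1_3.symm, hnn x3 x2 hne_2_3.symm]
                  · exfalso
                    refine NT.cert3 T x0 x1 x2 hne_0_1 hne_0_2 hne_1_2 (by norm_num) 2 1 3 (by norm_num) (by norm_num) (by norm_num) ?_ ?_ ?_
                    · linarith only [hd x0, hwp x0, hx_0_1.ge, hx_0_2.ge]
                    · linarith only [hd x1, hwp x1, hx_1_0.ge, hnn x1 x2 hne_1_2]
                    · linarith only [hd x2, hwp x2, hx_2_0, hnn x2 x1 hne_1_2.symm]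
                · exfalso
                  refine NT.cert4 T x0 x1 x2 x3 hne_0_1 hne_0_2 hne_0_3 hne_1_2 hne_1_3 hne_2_3 (by norm_num) 2 1 1 1 (by norm_num) (by norm_num) (by norm_num) (by norm_num) ?_ ?_ ?_ ?_
                  · linarith only [hd x0, hwp x0, hx_0_1.ge, hx_0_2.ge, hl_0_3]
                  · linarith only [hd x1, hwp x1, hx_1_0.ge, hnn x1 x2 hne_1_2, hnn x1 x3 hne_1_3]
                  · linarith only [hd x2, hwp x2, hl_2_0, hnn x2 x1 hne_1_2.symm, hnn x2 x3 hne_2_3]
                  · linarith only [hd x3, hwp x3, hl_3_0, hnn x3 x1 hne_1_3.symm, hnn x3 x2 hne_2_3.symm]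
                · exfalso
                  refine NT.cert3 T x0 x1 x2 hne_0_1 hne_0_2 hne_1_2 (by norm_num) 2 1 1 (by norm_num) (by norm_num) (by norm_num) ?_ ?_ ?_
                  · linarith only [hd x0, hwp x0, hx_0_1.ge, hx_0_2]
                  · linarith only [hd x1, hwp x1, hx_1_0.ge, hnn x1 x2 hne_1_2]
                  · linarith only [hd x2, hwp x2, hl_2_0, hnn x2 x1 hne_1_2.symm]
              · exfalso
                refine NT.cert4 T x0 x1 x2 x3 hne_0_1 hne_0_2 hne_0_3 hne_1_2 hne_1_3 hne_2_3 (by norm_num) 2 2 1 1 (by norm_num) (by norm_num) (by norm_num) (by norm_num) ?_ ?_ ?_ ?_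
                · linarith only [hd x0, hwp x0, hx_0_1.ge, hl_0_2, hl_0_3]
                · linarith only [hd x1, hwp x1, hx_1_0.ge, hnn x1 x2 hne_1_2, hnn x1 x3 hne_1_3]
                · linarith only [hd x2, hwp x2, hl_2_0, hnn x2 x1 hne_1_2.symm, hnn x2 x3 hne_2_3]
                · linarith only [hd x3, hwp x3, hl_3_0, hnn x3 x1 hne_1_3.symm, hnn x3 x2 hne_2_3.symm]
              · exfalso
                refine NT.cert3 T x0 x1 x2 hne_0_1 hne_0_2 hne_1_2 (by norm_num) 2 3 1 (by norm_num) (by norm_num) (by norm_num) ?_ ?_ ?_
                · linarith only [hd x0, hwp x0, hx_0_1.ge, hl_0_2]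
                · linarith only [hd x1, hwp x1, hx_1_0, hnn x1 x2 hne_1_2]
                · linarith only [hd x2, hwp x2, hl_2_0, hnn x2 x1 hne_1_2.symm]
            · exfalso
              refine NT.cert4 T x0 x1 x2 x3 hne_0_1 hne_0_2 hne_0_3 hne_1_2 hne_1_3 hne_2_3 (by norm_num) 2 1 1 1 (by norm_num) (by norm_num) (by norm_num) (by norm_num) ?_ ?_ ?_ ?_
              · linarith only [hd x0, hwp x0, hx_0_1.ge, hl_0_2, hl_0_3]
              · linarith only [hd x1, hwp x1, hl_1_0, hnn x1 x2 hne_1_2, hnn x1 x3 hne_1_3]
              · linarith only [hd x2, hwp x2, hl_2_0, hnn x2 x1 hne_1_2.symm, hnn x2 x3 hne_2_3]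
              · linarith only [hd x3, hwp x3, hl_3_0, hnn x3 x1 hne_1_3.symm, hnn x3 x2 hne_2_3.symm]
            · exfalso
              refine NT.cert3 T x0 x1 x2 hne_0_1 hne_0_2 hne_1_2 (by norm_num) 2 1 1 (by norm_num) (by norm_num) (by norm_num) ?_ ?_ ?_
              · linarith only [hd x0, hwp x0, hx_0_1, hl_0_2]
              · linarith only [hd x1, hwp x1, hl_1_0, hnn x1 x2 hne_1_2]
              · linarith only [hd x2, hwp x2, hl_2_0, hnn x2 x1 hne_1_2.symm]
          · by_cases hq_1 : ∃ y, (y ≠ x0 ∧ y ≠ x1 ∧ y ≠ x2 ∧ y ≠ x3 ∧ y ≠ x4) ∧ T.a x1 y ≠ 0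
            · obtain ⟨x5, ⟨hn0, hn1, hn2, hn3, hn4⟩, hadj_1_5⟩ := hq_1
              have hne_0_5 : x0 ≠ x5 := hn0.symm
              have hne_1_5 : x1 ≠ x5 := hn1.symm
              have hne_2_5 : x2 ≠ x5 := hn2.symm
              have hne_3_5 : x3 ≠ x5 := hn3.symm
              have hne_4_5 : x4 ≠ x5 := hn4.symm
              have hadj_5_1 : T.a x5 x1 ≠ 0 := by rw [hsym]; exact hadj_1_5
              have hl_1_5 := NT.lb1 T _ _ hne_1_5 hadj_1_5
              have hl_5_1 := NT.lb1 T _ _ hne_1_5.symm hadj_5_1
              have hs_1_5 : T.a x1 x5 = T.a x5 x1 := hsym _ _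
              have hz_0_5 : T.a x0 x5 = 0 := by
                by_contra hadj_0_5
                have hadj_5_0 : T.a x5 x0 ≠ 0 := by rw [hsym]; exact hadj_0_5
                have hl_0_5 := NT.lb1 T _ _ hne_0_5 hadj_0_5
                have hl_5_0 := NT.lb1 T _ _ hne_0_5.symm hadj_5_0
                have hs_0_5 : T.a x0 x5 = T.a x5 x0 := hsym _ _
                refine NT.cert3 T x0 x1 x5 hne_0_1 hne_0_5 hne_1_5 (by norm_num) 1 1 1 (by norm_num) (by norm_num) (by norm_num) ?_ ?_ ?_
                · linarith only [hd x0, hwp x0, hl_0_1, hl_0_5]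
                · linarith only [hd x1, hwp x1, hl_1_0, hl_1_5]
                · linarith only [hd x5, hwp x5, hl_5_0, hl_5_1]
              have hz_5_0 : T.a x5 x0 = 0 := by rw [hsym]; exact hz_0_5
              have hz_2_5 : T.a x2 x5 = 0 := by
                by_contra h
                exact hq_2 ⟨x5, ⟨hne_0_5.symm, hne_1_5.symm, hne_2_5.symm, hne_3_5.symm, hne_4_5.symm⟩, h⟩
              have hz_5_2 : T.a x5 x2 = 0 := by rw [hsym]; exact hz_2_5
              have hz_3_5 : T.a x3 x5 = 0 := by
                by_contra h
                exact hq_3 ⟨x5, ⟨hne_0_5.symm, hne_1_5.symm, hne_2_5.symm, hne_3_5.symm, hne_4_5.symm⟩, h⟩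
              have hz_5_3 : T.a x5 x3 = 0 := by rw [hsym]; exact hz_3_5
              have hz_4_5 : T.a x4 x5 = 0 := by
                by_contra h
                exact hq_4 ⟨x5, ⟨hne_0_5.symm, hne_1_5.symm, hne_2_5.symm, hne_3_5.symm, hne_4_5.symm⟩, h⟩
              have hz_5_4 : T.a x5 x4 = 0 := by rw [hsym]; exact hz_4_5
              have hinj : Function.Injective ![x0, x1, x2, x3, x4, x5] := NT.inj6 _ _ _ _ _ _ hne_0_1 hne_0_2 hne_0_3 hne_0_4 hne_0_5 hne_1_2 hne_1_3 hne_1_4 hne_1_5 hne_2_3 hne_2_4 hne_2_5 hne_3_4 hne_3_5 hne_4_5
              have hrow_0 : T.a x0 x0 * T.m x0 + T.a x0 x1 * T.m x1 + T.a x0 x2 * T.m x2 + T.a x0 x3 * T.m x3 + T.a x0 x4 * T.m x4 + T.a x0 x5 * T.m x5 = 0 := by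
                have h := NT.row_fun T _ hinj (0 : Fin 6)
                rw [Fin.sum_univ_six] at h
                exact h
              have hrow_1 : T.a x1 x0 * T.m x0 + T.a x1 x1 * T.m x1 + T.a x1 x2 * T.m x2 + T.a x1 x3 * T.m x3 + T.a x1 x4 * T.m x4 + T.a x1 x5 * T.m x5 = 0 := by
                have h := NT.row_fun T _ hinj (1 : Fin 6)
                rw [Fin.sum_univ_six] at h
                exact h
              have hrow_2 : T.a x2 x0 * T.m x0 + T.a x2 x1 * T.m x1 + T.a x2 x2 * T.m x2 + T.a x2 x3 * T.m x3 + T.a x2 x4 * T.m x4 + T.a x2 x5 * T.m x5 = 0 := by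
                have h := NT.row_fun T _ hinj (2 : Fin 6)
                rw [Fin.sum_univ_six] at h
                exact h
              have hrow_3 : T.a x3 x0 * T.m x0 + T.a x3 x1 * T.m x1 + T.a x3 x2 * T.m x2 + T.a x3 x3 * T.m x3 + T.a x3 x4 * T.m x4 + T.a x3 x5 * T.m x5 = 0 := by
                have h := NT.row_fun T _ hinj (3 : Fin 6)
                rw [Fin.sum_univ_six] at h
                exact h
              have hrow_4 : T.a x4 x0 * T.m x0 + T.a x4 x1 * T.m x1 + T.a x4 x2 * T.m x2 + T.a x4 x3 * T.m x3 + T.a x4 x4 * T.m x4 + T.a x4 x5 * T.m x5 = 0 := by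
                have h := NT.row_fun T _ hinj (4 : Fin 6)
                rw [Fin.sum_univ_six] at h
                exact h
              have hrow_5 : T.a x5 x0 * T.m x0 + T.a x5 x1 * T.m x1 + T.a x5 x2 * T.m x2 + T.a x5 x3 * T.m x3 + T.a x5 x4 * T.m x4 + T.a x5 x5 * T.m x5 = 0 := by
                have h := NT.row_fun T _ hinj (5 : Fin 6)
                rw [Fin.sum_univ_six] at h
                exact h
              rcases NT.edge3 T x0 x1 hne_0_1 hadj_0_1 with hx_0_1 | hx_0_1 | hx_0_1
              · rcases NT.edge3 T x1 x0 hne_0_1.symm hadj_1_0 with hx_1_0 | hx_1_0 | hx_1_0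
                · rcases NT.edge3 T x0 x2 hne_0_2 hadj_0_2 with hx_0_2 | hx_0_2 | hx_0_2
                  · rcases NT.edge3 T x2 x0 hne_0_2.symm hadj_2_0 with hx_2_0 | hx_2_0 | hx_2_0
                    · rcases NT.edge3 T x0 x3 hne_0_3 hadj_0_3 with hx_0_3 | hx_0_3 | hx_0_3
                      · rcases NT.edge3 T x3 x0 hne_0_3.symm hadj_3_0 with hx_3_0 | hx_3_0 | hx_3_0
                        · rcases NT.edge3 T x3 x4 hne_3_4 hadj_3_4 with hx_3_4 | hx_3_4 | hx_3_4
                          · rcases NT.edge3 T x4 x3 hne_3_4.symm hadj_4_3 with hx_4_3 | hx_4_3 | hx_4_3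
                            · rcases NT.edge3 T x1 x5 hne_1_5 hadj_1_5 with hx_1_5 | hx_1_5 | hx_1_5
                              · rcases NT.edge3 T x5 x1 hne_1_5.symm hadj_5_1 with hx_5_1 | hx_5_1 | hx_5_1
                                · have cw_0 : T.w x0 = T.w x0 := rfl
                                  have cw_1 : T.w x1 = T.w x0 := by linarith only [cw_0, hx_0_1, hx_1_0, hs_0_1]
                                  have cw_2 : T.w x2 = T.w x0 := by linarith only [cw_0, hx_0_2, hx_2_0, hs_0_2]
                                  have cw_3 : T.w x3 = T.w x0 := by linarith only [cw_0, hx_0_3, hx_3_0, hs_0_3]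
                                  have cw_4 : T.w x4 = T.w x0 := by linarith only [cw_3, hx_3_4, hx_4_3, hs_3_4]
                                  have cw_5 : T.w x5 = T.w x0 := by linarith only [cw_1, hx_1_5, hx_5_1, hs_1_5]
                                  have ca_0_0 : T.a x0 x0 = -2 * T.w x0 := by linarith only [hd x0, cw_0]
                                  have ca_0_1 : T.a x0 x1 = T.w x0 := by linarith only [hx_0_1, cw_0]
                                  have ca_0_2 : T.a x0 x2 = T.w x0 := by linarith only [hx_0_2, cw_0]
                                  have ca_0_3 : T.a x0 x3 = T.w x0 := by linarith only [hx_0_3, cw_0]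
                                  have ca_1_0 : T.a x1 x0 = T.w x0 := by linarith only [hx_1_0, cw_1]
                                  have ca_1_1 : T.a x1 x1 = -2 * T.w x0 := by linarith only [hd x1, cw_1]
                                  have ca_1_5 : T.a x1 x5 = T.w x0 := by linarith only [hx_1_5, cw_1]
                                  have ca_2_0 : T.a x2 x0 = T.w x0 := by linarith only [hx_2_0, cw_2]
                                  have ca_2_2 : T.a x2 x2 = -2 * T.w x0 := by linarith only [hd x2, cw_2]
                                  have ca_3_0 : T.a x3 x0 = T.w x0 := by linarith only [hx_3_0, cw_3]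
                                  have ca_3_3 : T.a x3 x3 = -2 * T.w x0 := by linarith only [hd x3, cw_3]
                                  have ca_3_4 : T.a x3 x4 = T.w x0 := by linarith only [hx_3_4, cw_3]
                                  have ca_4_3 : T.a x4 x3 = T.w x0 := by linarith only [hx_4_3, cw_4]
                                  have ca_4_4 : T.a x4 x4 = -2 * T.w x0 := by linarith only [hd x4, cw_4]
                                  have ca_5_1 : T.a x5 x1 = T.w x0 := by linarith only [hx_5_1, cw_5]
                                  have ca_5_5 : T.a x5 x5 = -2 * T.w x0 := by linarith only [hd x5, cw_5]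
                                  have hm_0 : -2 * T.m x0 + 1 * T.m x1 + 1 * T.m x2 + 1 * T.m x3 = 0 := by
                                    have h := hrow_0
                                    rw [ca_0_0, ca_0_1, ca_0_2, ca_0_3, hz_0_4, hz_0_5] at h
                                    have h2 : T.w x0 * (-2 * T.m x0 + 1 * T.m x1 + 1 * T.m x2 + 1 * T.m x3) = 0 := by linarith only [h]
                                    rcases mul_eq_zero.mp h2 with h3 | h3
                                    · exact absurd h3 (hwp _).ne'
                                    · exact h3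
                                  have hm_1 : 1 * T.m x0 + -2 * T.m x1 + 1 * T.m x5 = 0 := by
                                    have h := hrow_1
                                    rw [ca_1_0, ca_1_1, hz_1_2, hz_1_3, hz_1_4, ca_1_5] at h
                                    have h2 : T.w x0 * (1 * T.m x0 + -2 * T.m x1 + 1 * T.m x5) = 0 := by linarith only [h]
                                    rcases mul_eq_zero.mp h2 with h3 | h3
                                    · exact absurd h3 (hwp _).ne'
                                    · exact h3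
                                  have hm_2 : 1 * T.m x0 + -2 * T.m x2 = 0 := by
                                    have h := hrow_2
                                    rw [ca_2_0, hz_2_1, ca_2_2, hz_2_3, hz_2_4, hz_2_5] at h
                                    have h2 : T.w x0 * (1 * T.m x0 + -2 * T.m x2) = 0 := by linarith only [h]
                                    rcases mul_eq_zero.mp h2 with h3 | h3
                                    · exact absurd h3 (hwp _).ne'
                                    · exact h3
                                  have hm_3 : 1 * T.m x0 + -2 * T.m x3 + 1 * T.m x4 = 0 := by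
                                    have h := hrow_3
                                    rw [ca_3_0, hz_3_1, hz_3_2, ca_3_3, ca_3_4, hz_3_5] at h
                                    have h2 : T.w x0 * (1 * T.m x0 + -2 * T.m x3 + 1 * T.m x4) = 0 := by linarith only [h]
                                    rcases mul_eq_zero.mp h2 with h3 | h3
                                    · exact absurd h3 (hwp _).ne'
                                    · exact h3
                                  have hm_4 : 1 * T.m x3 + -2 * T.m x4 = 0 := by
                                    have h := hrow_4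
                                    rw [hz_4_0, hz_4_1, hz_4_2, ca_4_3, ca_4_4, hz_4_5] at h
                                    have h2 : T.w x0 * (1 * T.m x3 + -2 * T.m x4) = 0 := by linarith only [h]
                                    rcases mul_eq_zero.mp h2 with h3 | h3
                                    · exact absurd h3 (hwp _).ne'
                                    · exact h3
                                  have hm_5 : 1 * T.m x1 + -2 * T.m x5 = 0 := by
                                    have h := hrow_5
                                    rw [hz_5_0, ca_5_1, hz_5_2, hz_5_3, hz_5_4, ca_5_5] at h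
                                    have h2 : T.w x0 * (1 * T.m x1 + -2 * T.m x5) = 0 := by linarith only [h]
                                    rcases mul_eq_zero.mp h2 with h3 | h3
                                    · exact absurd h3 (hwp _).ne'
                                    · exact h3
                                  exfalso
                                  linarith only [hm_0, hm_1, hm_2, hm_3, hm_4, hm_5, hmp x0, hmp x1, hmp x2, hmp x3, hmp x4, hmp x5]
                                · exfalso
                                  refine NT.cert5 T x0 x1 x2 x3 x5 hne_0_1 hne_0_2 hne_0_3 hne_0_5 hne_1_2 hne_1_3 hne_1_5 hne_2_3 hne_2_5 hne_3_5 (by norm_num) 2 2 1 1 2 (by norm_num) (by norm_num) (by norm_num) (by norm_num) (by norm_num) ?_ ?_ ?_ ?_ ?_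
                                  · linarith only [hd x0, hwp x0, hx_0_1.ge, hx_0_2.ge, hx_0_3.ge, hnn x0 x5 hne_0_5]
                                  · linarith only [hd x1, hwp x1, hx_1_0.ge, hnn x1 x2 hne_1_2, hnn x1 x3 hne_1_3, hx_1_5.ge]
                                  · linarith only [hd x2, hwp x2, hx_2_0.ge, hnn x2 x1 hne_1_2.symm, hnn x2 x3 hne_2_3, hnn x2 x5 hne_2_5]
                                  · linarith only [hd x3, hwp x3, hx_3_0.ge, hnn x3 x1 hne_1_3.symm, hnn x3 x2 hne_2_3.symm, hnn x3 x5 hne_3_5]
                                  · linarith only [hd x5, hwp x5, hnn x5 x0 hne_0_5.symm, hx_5_1.ge, hnn x5 x2 hne_2_5.symm, hnn x5 x3 hne_3_5.symm]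
                                · exfalso
                                  refine NT.cert3 T x0 x1 x5 hne_0_1 hne_0_5 hne_1_5 (by norm_num) 1 2 3 (by norm_num) (by norm_num) (by norm_num) ?_ ?_ ?_
                                  · linarith only [hd x0, hwp x0, hx_0_1.ge, hnn x0 x5 hne_0_5]
                                  · linarith only [hd x1, hwp x1, hx_1_0.ge, hx_1_5.ge]
                                  · linarith only [hd x5, hwp x5, hnn x5 x0 hne_0_5.symm, hx_5_1]
                              · exfalso
                                refine NT.cert5 T x0 x1 x2 x3 x5 hne_0_1 hne_0_2 hne_0_3 hne_0_5 hne_1_2 hne_1_3 hne_1_5 hne_2_3 hne_2_5 hne_3_5 (by norm_num) 2 2 1 1 1 (by norm_num) (by norm_num) (by norm_num) (by norm_num) (by norm_num) ?_ ?_ ?_ ?_ ?_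
                                · linarith only [hd x0, hwp x0, hx_0_1.ge, hx_0_2.ge, hx_0_3.ge, hnn x0 x5 hne_0_5]
                                · linarith only [hd x1, hwp x1, hx_1_0.ge, hnn x1 x2 hne_1_2, hnn x1 x3 hne_1_3, hx_1_5.ge]
                                · linarith only [hd x2, hwp x2, hx_2_0.ge, hnn x2 x1 hne_1_2.symm, hnn x2 x3 hne_2_3, hnn x2 x5 hne_2_5]
                                · linarith only [hd x3, hwp x3, hx_3_0.ge, hnn x3 x1 hne_1_3.symm, hnn x3 x2 hne_2_3.symm, hnn x3 x5 hne_3_5]
                                · linarith only [hd x5, hwp x5, hnn x5 x0 hne_0_5.symm, hl_5_1, hnn x5 x2 hne_2_5.symm, hnn x5 x3 hne_3_5.symm]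
                              · exfalso
                                refine NT.cert3 T x0 x1 x5 hne_0_1 hne_0_5 hne_1_5 (by norm_num) 1 2 1 (by norm_num) (by norm_num) (by norm_num) ?_ ?_ ?_
                                · linarith only [hd x0, hwp x0, hx_0_1.ge, hnn x0 x5 hne_0_5]
                                · linarith only [hd x1, hwp x1, hx_1_0.ge, hx_1_5]
                                · linarith only [hd x5, hwp x5, hnn x5 x0 hne_0_5.symm, hl_5_1]
                            · exfalso
                              refine NT.cert5 T x0 x1 x2 x3 x4 hne_0_1 hne_0_2 hne_0_3 hne_0_4 hne_1_2 hne_1_3 hne_1_4 hne_2_3 hne_2_4 hne_3_4 (by norm_num) 2 1 1 2 2 (by norm_num) (by norm_num) (by norm_num) (by norm_num) (by norm_num) ?_ ?_ ?_ ?_ ?_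
                              · linarith only [hd x0, hwp x0, hx_0_1.ge, hx_0_2.ge, hx_0_3.ge, hnn x0 x4 hne_0_4]
                              · linarith only [hd x1, hwp x1, hx_1_0.ge, hnn x1 x2 hne_1_2, hnn x1 x3 hne_1_3, hnn x1 x4 hne_1_4]
                              · linarith only [hd x2, hwp x2, hx_2_0.ge, hnn x2 x1 hne_1_2.symm, hnn x2 x3 hne_2_3, hnn x2 x4 hne_2_4]
                              · linarith only [hd x3, hwp x3, hx_3_0.ge, hnn x3 x1 hne_1_3.symm, hnn x3 x2 hne_2_3.symm, hx_3_4.ge]
                              · linarith only [hd x4, hwp x4, hnn x4 x0 hne_0_4.symm, hnn x4 x1 hne_1_4.symm, hnn x4 x2 hne_2_4.symm, hx_4_3.ge]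
                            · exfalso
                              refine NT.cert3 T x0 x3 x4 hne_0_3 hne_0_4 hne_3_4 (by norm_num) 1 2 3 (by norm_num) (by norm_num) (by norm_num) ?_ ?_ ?_
                              · linarith only [hd x0, hwp x0, hx_0_3.ge, hnn x0 x4 hne_0_4]
                              · linarith only [hd x3, hwp x3, hx_3_0.ge, hx_3_4.ge]
                              · linarith only [hd x4, hwp x4, hnn x4 x0 hne_0_4.symm, hx_4_3]
                          · exfalso
                            refine NT.cert5 T x0 x1 x2 x3 x4 hne_0_1 hne_0_2 hne_0_3 hne_0_4 hne_1_2 hne_1_3 hne_1_4 hne_2_3 hne_2_4 hne_3_4 (by norm_num) 2 1 1 2 1 (by norm_num) (by norm_num) (by norm_num) (by norm_num) (by norm_num) ?_ ?_ ?_ ?_ ?_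
                            · linarith only [hd x0, hwp x0, hx_0_1.ge, hx_0_2.ge, hx_0_3.ge, hnn x0 x4 hne_0_4]
                            · linarith only [hd x1, hwp x1, hx_1_0.ge, hnn x1 x2 hne_1_2, hnn x1 x3 hne_1_3, hnn x1 x4 hne_1_4]
                            · linarith only [hd x2, hwp x2, hx_2_0.ge, hnn x2 x1 hne_1_2.symm, hnn x2 x3 hne_2_3, hnn x2 x4 hne_2_4]
                            · linarith only [hd x3, hwp x3, hx_3_0.ge, hnn x3 x1 hne_1_3.symm, hnn x3 x2 hne_2_3.symm, hx_3_4.ge]
                            · linarith only [hd x4, hwp x4, hnn x4 x0 hne_0_4.symm, hnn x4 x1 hne_1_4.symm, hnn x4 x2 hne_2_4.symm, hl_4_3]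
                          · exfalso
                            refine NT.cert3 T x0 x3 x4 hne_0_3 hne_0_4 hne_3_4 (by norm_num) 1 2 1 (by norm_num) (by norm_num) (by norm_num) ?_ ?_ ?_
                            · linarith only [hd x0, hwp x0, hx_0_3.ge, hnn x0 x4 hne_0_4]
                            · linarith only [hd x3, hwp x3, hx_3_0.ge, hx_3_4]
                            · linarith only [hd x4, hwp x4, hnn x4 x0 hne_0_4.symm, hl_4_3]
                        · exfalso
                          refine NT.cert4 T x0 x1 x2 x3 hne_0_1 hne_0_2 hne_0_3 hne_1_2 hne_1_3 hne_2_3 (by norm_num) 2 1 1 2 (by norm_num) (by norm_num) (by norm_num) (by norm_num) ?_ ?_ ?_ ?_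
                          · linarith only [hd x0, hwp x0, hx_0_1.ge, hx_0_2.ge, hx_0_3.ge]
                          · linarith only [hd x1, hwp x1, hx_1_0.ge, hnn x1 x2 hne_1_2, hnn x1 x3 hne_1_3]
                          · linarith only [hd x2, hwp x2, hx_2_0.ge, hnn x2 x1 hne_1_2.symm, hnn x2 x3 hne_2_3]
                          · linarith only [hd x3, hwp x3, hx_3_0.ge, hnn x3 x1 hne_1_3.symm, hnn x3 x2 hne_2_3.symm]
                        · exfalso
                          refine NT.cert3 T x0 x1 x3 hne_0_1 hne_0_3 hne_1_3 (by norm_num) 2 1 3 (by norm_num) (by norm_num) (by norm_num) ?_ ?_ ?_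
                          · linarith only [hd x0, hwp x0, hx_0_1.ge, hx_0_3.ge]
                          · linarith only [hd x1, hwp x1, hx_1_0.ge, hnn x1 x3 hne_1_3]
                          · linarith only [hd x3, hwp x3, hx_3_0, hnn x3 x1 hne_1_3.symm]
                      · exfalso
                        refine NT.cert4 T x0 x1 x2 x3 hne_0_1 hne_0_2 hne_0_3 hne_1_2 hne_1_3 hne_2_3 (by norm_num) 2 1 1 1 (by norm_num) (by norm_num) (by norm_num) (by norm_num) ?_ ?_ ?_ ?_
                        · linarith only [hd x0, hwp x0, hx_0_1.ge, hx_0_2.ge, hx_0_3.ge]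
                        · linarith only [hd x1, hwp x1, hx_1_0.ge, hnn x1 x2 hne_1_2, hnn x1 x3 hne_1_3]
                        · linarith only [hd x2, hwp x2, hx_2_0.ge, hnn x2 x1 hne_1_2.symm, hnn x2 x3 hne_2_3]
                        · linarith only [hd x3, hwp x3, hl_3_0, hnn x3 x1 hne_1_3.symm, hnn x3 x2 hne_2_3.symm]
                      · exfalso
                        refine NT.cert3 T x0 x1 x3 hne_0_1 hne_0_3 hne_1_3 (by norm_num) 2 1 1 (by norm_num) (by norm_num) (by norm_num) ?_ ?_ ?_
                        · linarith only [hd x0, hwp x0, hx_0_1.ge, hx_0_3]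
                        · linarith only [hd x1, hwp x1, hx_1_0.ge, hnn x1 x3 hne_1_3]
                        · linarith only [hd x3, hwp x3, hl_3_0, hnn x3 x1 hne_1_3.symm]
                    · exfalso
                      refine NT.cert4 T x0 x1 x2 x3 hne_0_1 hne_0_2 hne_0_3 hne_1_2 hne_1_3 hne_2_3 (by norm_num) 2 1 2 1 (by norm_num) (by norm_num) (by norm_num) (by norm_num) ?_ ?_ ?_ ?_
                      · linarith only [hd x0, hwp x0, hx_0_1.ge, hx_0_2.ge, hl_0_3]
                      · linarith only [hd x1, hwp x1, hx_1_0.ge, hnn x1 x2 hne_1_2, hnn x1 x3 hne_1_3]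
                      · linarith only [hd x2, hwp x2, hx_2_0.ge, hnn x2 x1 hne_1_2.symm, hnn x2 x3 hne_2_3]
                      · linarith only [hd x3, hwp x3, hl_3_0, hnn x3 x1 hne_1_3.symm, hnn x3 x2 hne_2_3.symm]
                    · exfalso
                      refine NT.cert3 T x0 x1 x2 hne_0_1 hne_0_2 hne_1_2 (by norm_num) 2 1 3 (by norm_num) (by norm_num) (by norm_num) ?_ ?_ ?_
                      · linarith only [hd x0, hwp x0, hx_0_1.ge, hx_0_2.ge]
                      · linarith only [hd x1, hwp x1, hx_1_0.ge, hnn x1 x2 hne_1_2]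
                      · linarith only [hd x2, hwp x2, hx_2_0, hnn x2 x1 hne_1_2.symm]
                  · exfalso
                    refine NT.cert4 T x0 x1 x2 x3 hne_0_1 hne_0_2 hne_0_3 hne_1_2 hne_1_3 hne_2_3 (by norm_num) 2 1 1 1 (by norm_num) (by norm_num) (by norm_num) (by norm_num) ?_ ?_ ?_ ?_
                    · linarith only [hd x0, hwp x0, hx_0_1.ge, hx_0_2.ge, hl_0_3]
                    · linarith only [hd x1, hwp x1, hx_1_0.ge, hnn x1 x2 hne_1_2, hnn x1 x3 hne_1_3]
                    · linarith only [hd x2, hwp x2, hl_2_0, hnn x2 x1 hne_1_2.symm, hnn x2 x3 hne_2_3]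
                    · linarith only [hd x3, hwp x3, hl_3_0, hnn x3 x1 hne_1_3.symm, hnn x3 x2 hne_2_3.symm]
                  · exfalso
                    refine NT.cert3 T x0 x1 x2 hne_0_1 hne_0_2 hne_1_2 (by norm_num) 2 1 1 (by norm_num) (by norm_num) (by norm_num) ?_ ?_ ?_
                    · linarith only [hd x0, hwp x0, hx_0_1.ge, hx_0_2]
                    · linarith only [hd x1, hwp x1, hx_1_0.ge, hnn x1 x2 hne_1_2]
                    · linarith only [hd x2, hwp x2, hl_2_0, hnn x2 x1 hne_1_2.symm]
                · exfalso
                  refine NT.cert4 T x0 x1 x2 x3 hne_0_1 hne_0_2 hne_0_3 hne_1_2 hne_1_3 hne_2_3 (by norm_num) 2 2 1 1 (by norm_num) (by norm_num) (by norm_num) (by norm_num) ?_ ?_ ?_ ?_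
                  · linarith only [hd x0, hwp x0, hx_0_1.ge, hl_0_2, hl_0_3]
                  · linarith only [hd x1, hwp x1, hx_1_0.ge, hnn x1 x2 hne_1_2, hnn x1 x3 hne_1_3]
                  · linarith only [hd x2, hwp x2, hl_2_0, hnn x2 x1 hne_1_2.symm, hnn x2 x3 hne_2_3]
                  · linarith only [hd x3, hwp x3, hl_3_0, hnn x3 x1 hne_1_3.symm, hnn x3 x2 hne_2_3.symm]
                · exfalso
                  refine NT.cert3 T x0 x1 x2 hne_0_1 hne_0_2 hne_1_2 (by norm_num) 2 3 1 (by norm_num) (by norm_num) (by norm_num) ?_ ?_ ?_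
                  · linarith only [hd x0, hwp x0, hx_0_1.ge, hl_0_2]
                  · linarith only [hd x1, hwp x1, hx_1_0, hnn x1 x2 hne_1_2]
                  · linarith only [hd x2, hwp x2, hl_2_0, hnn x2 x1 hne_1_2.symm]
              · exfalso
                refine NT.cert4 T x0 x1 x2 x3 hne_0_1 hne_0_2 hne_0_3 hne_1_2 hne_1_3 hne_2_3 (by norm_num) 2 1 1 1 (by norm_num) (by norm_num) (by norm_num) (by norm_num) ?_ ?_ ?_ ?_
                · linarith only [hd x0, hwp x0, hx_0_1.ge, hl_0_2, hl_0_3]
                · linarith only [hd x1, hwp x1, hl_1_0, hnn x1 x2 hne_1_2, hnn x1 x3 hne_1_3]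
                · linarith only [hd x2, hwp x2, hl_2_0, hnn x2 x1 hne_1_2.symm, hnn x2 x3 hne_2_3]
                · linarith only [hd x3, hwp x3, hl_3_0, hnn x3 x1 hne_1_3.symm, hnn x3 x2 hne_2_3.symm]
              · exfalso
                refine NT.cert3 T x0 x1 x2 hne_0_1 hne_0_2 hne_1_2 (by norm_num) 2 1 1 (by norm_num) (by norm_num) (by norm_num) ?_ ?_ ?_
                · linarith only [hd x0, hwp x0, hx_0_1, hl_0_2]
                · linarith only [hd x1, hwp x1, hl_1_0, hnn x1 x2 hne_1_2]
                · linarith only [hd x2, hwp x2, hl_2_0, hnn x2 x1 hne_1_2.symm]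
            · by_cases hq_0 : ∃ y, (y ≠ x0 ∧ y ≠ x1 ∧ y ≠ x2 ∧ y ≠ x3 ∧ y ≠ x4) ∧ T.a x0 y ≠ 0
              · obtain ⟨x5, ⟨hn0, hn1, hn2, hn3, hn4⟩, hadj_0_5⟩ := hq_0
                have hne_0_5 : x0 ≠ x5 := hn0.symm
                have hne_1_5 : x1 ≠ x5 := hn1.symm
                have hne_2_5 : x2 ≠ x5 := hn2.symm
                have hne_3_5 : x3 ≠ x5 := hn3.symm
                have hne_4_5 : x4 ≠ x5 := hn4.symm
                have hadj_5_0 : T.a x5 x0 ≠ 0 := by rw [hsym]; exact hadj_0_5
                have hl_0_5 := NT.lb1 T _ _ hne_0_5 hadj_0_5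
                have hl_5_0 := NT.lb1 T _ _ hne_0_5.symm hadj_5_0
                have hs_0_5 : T.a x0 x5 = T.a x5 x0 := hsym _ _
                have hz_1_5 : T.a x1 x5 = 0 := by
                  by_contra h
                  exact hq_1 ⟨x5, ⟨hne_0_5.symm, hne_1_5.symm, hne_2_5.symm, hne_3_5.symm, hne_4_5.symm⟩, h⟩
                have hz_5_1 : T.a x5 x1 = 0 := by rw [hsym]; exact hz_1_5
                have hz_2_5 : T.a x2 x5 = 0 := by
                  by_contra h
                  exact hq_2 ⟨x5, ⟨hne_0_5.symm, hne_1_5.symm, hne_2_5.symm, hne_3_5.symm, hne_4_5.symm⟩, h⟩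
                have hz_5_2 : T.a x5 x2 = 0 := by rw [hsym]; exact hz_2_5
                have hz_3_5 : T.a x3 x5 = 0 := by
                  by_contra h
                  exact hq_3 ⟨x5, ⟨hne_0_5.symm, hne_1_5.symm, hne_2_5.symm, hne_3_5.symm, hne_4_5.symm⟩, h⟩
                have hz_5_3 : T.a x5 x3 = 0 := by rw [hsym]; exact hz_3_5
                have hz_4_5 : T.a x4 x5 = 0 := by
                  by_contra h
                  exact hq_4 ⟨x5, ⟨hne_0_5.symm, hne_1_5.symm, hne_2_5.symm, hne_3_5.symm, hne_4_5.symm⟩, h⟩
                have hz_5_4 : T.a x5 x4 = 0 := by rw [hsym]; exact hz_4_5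
                exfalso
                refine NT.cert5 T x0 x1 x2 x3 x5 hne_0_1 hne_0_2 hne_0_3 hne_0_5 hne_1_2 hne_1_3 hne_1_5 hne_2_3 hne_2_5 hne_3_5 (by norm_num) 2 1 1 1 1 (by norm_num) (by norm_num) (by norm_num) (by norm_num) (by norm_num) ?_ ?_ ?_ ?_ ?_
                · linarith only [hd x0, hwp x0, hl_0_1, hl_0_2, hl_0_3, hl_0_5]
                · linarith only [hd x1, hwp x1, hl_1_0, hnn x1 x2 hne_1_2, hnn x1 x3 hne_1_3, hnn x1 x5 hne_1_5]
                · linarith only [hd x2, hwp x2, hl_2_0, hnn x2 x1 hne_1_2.symm, hnn x2 x3 hne_2_3, hnn x2 x5 hne_2_5]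
                · linarith only [hd x3, hwp x3, hl_3_0, hnn x3 x1 hne_1_3.symm, hnn x3 x2 hne_2_3.symm, hnn x3 x5 hne_3_5]
                · linarith only [hd x5, hwp x5, hl_5_0, hnn x5 x1 hne_1_5.symm, hnn x5 x2 hne_2_5.symm, hnn x5 x3 hne_3_5.symm]
              · exfalso
                refine NT.not_closed T ![x0, x1, x2, x3, x4] (by norm_num) (by norm_num) ?_
                intro s y hy
                by_contra hcon
                fin_cases s
                · exact hq_0 ⟨y, ⟨fun h => hcon ⟨(0 : Fin 5), h⟩, fun h => hcon ⟨(1 : Fin 5), h⟩, fun h => hcon ⟨(2 : Fin 5), h⟩, fun h => hcon ⟨(3 : Fin 5), h⟩, fun h => hcon ⟨(4 : Fin 5), h⟩⟩, hy⟩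
                · exact hq_1 ⟨y, ⟨fun h => hcon ⟨(0 : Fin 5), h⟩, fun h => hcon ⟨(1 : Fin 5), h⟩, fun h => hcon ⟨(2 : Fin 5), h⟩, fun h => hcon ⟨(3 : Fin 5), h⟩, fun h => hcon ⟨(4 : Fin 5), h⟩⟩, hy⟩
                · exact hq_2 ⟨y, ⟨fun h => hcon ⟨(0 : Fin 5), h⟩, fun h => hcon ⟨(1 : Fin 5), h⟩, fun h => hcon ⟨(2 : Fin 5), h⟩, fun h => hcon ⟨(3 : Fin 5), h⟩, fun h => hcon ⟨(4 : Fin 5), h⟩⟩, hy⟩
                · exact hq_3 ⟨y, ⟨fun h => hcon ⟨(0 : Fin 5), h⟩, fun h => hcon ⟨(1 : Fin 5), h⟩, fun h => hcon ⟨(2 : Fin 5), h⟩, fun h => hcon ⟨(3 : Fin 5), h⟩, fun h => hcon ⟨(4 : Fin 5), h⟩⟩, hy⟩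
                · exact hq_4 ⟨y, ⟨fun h => hcon ⟨(0 : Fin 5), h⟩, fun h => hcon ⟨(1 : Fin 5), h⟩, fun h => hcon ⟨(2 : Fin 5), h⟩, fun h => hcon ⟨(3 : Fin 5), h⟩, fun h => hcon ⟨(4 : Fin 5), h⟩⟩, hy⟩
    · by_cases hq_2 : ∃ y, (y ≠ x0 ∧ y ≠ x1 ∧ y ≠ x2 ∧ y ≠ x3) ∧ T.a x2 y ≠ 0
      · obtain ⟨x4, ⟨hn0, hn1, hn2, hn3⟩, hadj_2_4⟩ := hq_2
        have hne_0_4 : x0 ≠ x4 := hn0.symm
        have hne_1_4 : x1 ≠ x4 := hn1.symm
        have hne_2_4 : x2 ≠ x4 := hn2.symm
        have hne_3_4 : x3 ≠ x4 := hn3.symm
        have hadj_4_2 : T.a x4 x2 ≠ 0 := by rw [hsym]; exact hadj_2_4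
        have hl_2_4 := NT.lb1 T _ _ hne_2_4 hadj_2_4
        have hl_4_2 := NT.lb1 T _ _ hne_2_4.symm hadj_4_2
        have hs_2_4 : T.a x2 x4 = T.a x4 x2 := hsym _ _
        have hz_0_4 : T.a x0 x4 = 0 := by
          by_contra hadj_0_4
          have hadj_4_0 : T.a x4 x0 ≠ 0 := by rw [hsym]; exact hadj_0_4
          have hl_0_4 := NT.lb1 T _ _ hne_0_4 hadj_0_4
          have hl_4_0 := NT.lb1 T _ _ hne_0_4.symm hadj_4_0
          have hs_0_4 : T.a x0 x4 = T.a x4 x0 := hsym _ _
          refine NT.cert3 T x0 x2 x4 hne_0_2 hne_0_4 hne_2_4 (by norm_num) 1 1 1 (by norm_num) (by norm_num) (by norm_num) ?_ ?_ ?_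
          · linarith only [hd x0, hwp x0, hl_0_2, hl_0_4]
          · linarith only [hd x2, hwp x2, hl_2_0, hl_2_4]
          · linarith only [hd x4, hwp x4, hl_4_0, hl_4_2]
        have hz_4_0 : T.a x4 x0 = 0 := by rw [hsym]; exact hz_0_4
        have hz_1_4 : T.a x1 x4 = 0 := by
          by_contra hadj_1_4
          have hadj_4_1 : T.a x4 x1 ≠ 0 := by rw [hsym]; exact hadj_1_4
          have hl_1_4 := NT.lb1 T _ _ hne_1_4 hadj_1_4
          have hl_4_1 := NT.lb1 T _ _ hne_1_4.symm hadj_4_1
          have hs_1_4 : T.a x1 x4 = T.a x4 x1 := hsym _ _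
          refine NT.cert4 T x0 x1 x2 x4 hne_0_1 hne_0_2 hne_0_4 hne_1_2 hne_1_4 hne_2_4 (by norm_num) 1 1 1 1 (by norm_num) (by norm_num) (by norm_num) (by norm_num) ?_ ?_ ?_ ?_
          · linarith only [hd x0, hwp x0, hl_0_1, hl_0_2, hnn x0 x4 hne_0_4]
          · linarith only [hd x1, hwp x1, hl_1_0, hnn x1 x2 hne_1_2, hl_1_4]
          · linarith only [hd x2, hwp x2, hl_2_0, hnn x2 x1 hne_1_2.symm, hl_2_4]
          · linarith only [hd x4, hwp x4, hnn x4 x0 hne_0_4.symm, hl_4_1, hl_4_2]
        have hz_4_1 : T.a x4 x1 = 0 := by rw [hsym]; exact hz_1_4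
        have hz_3_4 : T.a x3 x4 = 0 := by
          by_contra h
          exact hq_3 ⟨x4, ⟨hne_0_4.symm, hne_1_4.symm, hne_2_4.symm, hne_3_4.symm⟩, h⟩
        have hz_4_3 : T.a x4 x3 = 0 := by rw [hsym]; exact hz_3_4
        by_cases hq_4 : ∃ y, (y ≠ x0 ∧ y ≠ x1 ∧ y ≠ x2 ∧ y ≠ x3 ∧ y ≠ x4) ∧ T.a x4 y ≠ 0
        · obtain ⟨x5, ⟨hn0, hn1, hn2, hn3, hn4⟩, hadj_4_5⟩ := hq_4
          have hne_0_5 : x0 ≠ x5 := hn0.symm
          have hne_1_5 : x1 ≠ x5 := hn1.symm
          have hne_2_5 : x2 ≠ x5 := hn2.symm
          have hne_3_5 : x3 ≠ x5 := hn3.symm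
          have hne_4_5 : x4 ≠ x5 := hn4.symm
          have hadj_5_4 : T.a x5 x4 ≠ 0 := by rw [hsym]; exact hadj_4_5
          have hl_4_5 := NT.lb1 T _ _ hne_4_5 hadj_4_5
          have hl_5_4 := NT.lb1 T _ _ hne_4_5.symm hadj_5_4
          have hs_4_5 : T.a x4 x5 = T.a x5 x4 := hsym _ _
          have hz_0_5 : T.a x0 x5 = 0 := by
            by_contra hadj_0_5
            have hadj_5_0 : T.a x5 x0 ≠ 0 := by rw [hsym]; exact hadj_0_5
            have hl_0_5 := NT.lb1 T _ _ hne_0_5 hadj_0_5
            have hl_5_0 := NT.lb1 T _ _ hne_0_5.symm hadj_5_0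
            have hs_0_5 : T.a x0 x5 = T.a x5 x0 := hsym _ _
            refine NT.cert4 T x0 x2 x4 x5 hne_0_2 hne_0_4 hne_0_5 hne_2_4 hne_2_5 hne_4_5 (by norm_num) 1 1 1 1 (by norm_num) (by norm_num) (by norm_num) (by norm_num) ?_ ?_ ?_ ?_
            · linarith only [hd x0, hwp x0, hl_0_2, hnn x0 x4 hne_0_4, hl_0_5]
            · linarith only [hd x2, hwp x2, hl_2_0, hl_2_4, hnn x2 x5 hne_2_5]
            · linarith only [hd x4, hwp x4, hnn x4 x0 hne_0_4.symm, hl_4_2, hl_4_5]
            · linarith only [hd x5, hwp x5, hl_5_0, hnn x5 x2 hne_2_5.symm, hl_5_4]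
          have hz_5_0 : T.a x5 x0 = 0 := by rw [hsym]; exact hz_0_5
          have hz_1_5 : T.a x1 x5 = 0 := by
            by_contra hadj_1_5
            have hadj_5_1 : T.a x5 x1 ≠ 0 := by rw [hsym]; exact hadj_1_5
            have hl_1_5 := NT.lb1 T _ _ hne_1_5 hadj_1_5
            have hl_5_1 := NT.lb1 T _ _ hne_1_5.symm hadj_5_1
            have hs_1_5 : T.a x1 x5 = T.a x5 x1 := hsym _ _
            refine NT.cert5 T x0 x1 x2 x4 x5 hne_0_1 hne_0_2 hne_0_4 hne_0_5 hne_1_2 hne_1_4 hne_1_5 hne_2_4 hne_2_5 hne_4_5 (by norm_num) 1 1 1 1 1 (by norm_num) (by norm_num) (by norm_num) (by norm_num) (by norm_num) ?_ ?_ ?_ ?_ ?_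
            · linarith only [hd x0, hwp x0, hl_0_1, hl_0_2, hnn x0 x4 hne_0_4, hnn x0 x5 hne_0_5]
            · linarith only [hd x1, hwp x1, hl_1_0, hnn x1 x2 hne_1_2, hnn x1 x4 hne_1_4, hl_1_5]
            · linarith only [hd x2, hwp x2, hl_2_0, hnn x2 x1 hne_1_2.symm, hl_2_4, hnn x2 x5 hne_2_5]
            · linarith only [hd x4, hwp x4, hnn x4 x0 hne_0_4.symm, hnn x4 x1 hne_1_4.symm, hl_4_2, hl_4_5]
            · linarith only [hd x5, hwp x5, hnn x5 x0 hne_0_5.symm, hl_5_1, hnn x5 x2 hne_2_5.symm, hl_5_4]
          have hz_5_1 : T.a x5 x1 = 0 := by rw [hsym]; exact hz_1_5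
          have hz_2_5 : T.a x2 x5 = 0 := by
            by_contra hadj_2_5
            have hadj_5_2 : T.a x5 x2 ≠ 0 := by rw [hsym]; exact hadj_2_5
            have hl_2_5 := NT.lb1 T _ _ hne_2_5 hadj_2_5
            have hl_5_2 := NT.lb1 T _ _ hne_2_5.symm hadj_5_2
            have hs_2_5 : T.a x2 x5 = T.a x5 x2 := hsym _ _
            refine NT.cert3 T x2 x4 x5 hne_2_4 hne_2_5 hne_4_5 (by norm_num) 1 1 1 (by norm_num) (by norm_num) (by norm_num) ?_ ?_ ?_
            · linarith only [hd x2, hwp x2, hl_2_4, hl_2_5]
            · linarith only [hd x4, hwp x4, hl_4_2, hl_4_5]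
            · linarith only [hd x5, hwp x5, hl_5_2, hl_5_4]
          have hz_5_2 : T.a x5 x2 = 0 := by rw [hsym]; exact hz_2_5
          have hz_3_5 : T.a x3 x5 = 0 := by
            by_contra h
            exact hq_3 ⟨x5, ⟨hne_0_5.symm, hne_1_5.symm, hne_2_5.symm, hne_3_5.symm⟩, h⟩
          have hz_5_3 : T.a x5 x3 = 0 := by rw [hsym]; exact hz_3_5
          have hinj : Function.Injective ![x0, x1, x2, x3, x4, x5] := NT.inj6 _ _ _ _ _ _ hne_0_1 hne_0_2 hne_0_3 hne_0_4 hne_0_5 hne_1_2 hne_1_3 hne_1_4 hne_1_5 hne_2_3 hne_2_4 hne_2_5 hne_3_4 hne_3_5 hne_4_5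
          have hrow_0 : T.a x0 x0 * T.m x0 + T.a x0 x1 * T.m x1 + T.a x0 x2 * T.m x2 + T.a x0 x3 * T.m x3 + T.a x0 x4 * T.m x4 + T.a x0 x5 * T.m x5 = 0 := by
            have h := NT.row_fun T _ hinj (0 : Fin 6)
            rw [Fin.sum_univ_six] at h
            exact h
          have hrow_1 : T.a x1 x0 * T.m x0 + T.a x1 x1 * T.m x1 + T.a x1 x2 * T.m x2 + T.a x1 x3 * T.m x3 + T.a x1 x4 * T.m x4 + T.a x1 x5 * T.m x5 = 0 := by
            have h := NT.row_fun T _ hinj (1 : Fin 6)
            rw [Fin.sum_univ_six] at h
            exact h
          have hrow_2 : T.a x2 x0 * T.m x0 + T.a x2 x1 * T.m x1 + T.a x2 x2 * T.m x2 + T.a x2 x3 * T.m x3 + T.a x2 x4 * T.m x4 + T.a x2 x5 * T.m x5 = 0 := by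
            have h := NT.row_fun T _ hinj (2 : Fin 6)
            rw [Fin.sum_univ_six] at h
            exact h
          have hrow_3 : T.a x3 x0 * T.m x0 + T.a x3 x1 * T.m x1 + T.a x3 x2 * T.m x2 + T.a x3 x3 * T.m x3 + T.a x3 x4 * T.m x4 + T.a x3 x5 * T.m x5 = 0 := by
            have h := NT.row_fun T _ hinj (3 : Fin 6)
            rw [Fin.sum_univ_six] at h
            exact h
          have hrow_4 : T.a x4 x0 * T.m x0 + T.a x4 x1 * T.m x1 + T.a x4 x2 * T.m x2 + T.a x4 x3 * T.m x3 + T.a x4 x4 * T.m x4 + T.a x4 x5 * T.m x5 = 0 := by
            have h := NT.row_fun T _ hinj (4 : Fin 6)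
            rw [Fin.sum_univ_six] at h
            exact h
          have hrow_5 : T.a x5 x0 * T.m x0 + T.a x5 x1 * T.m x1 + T.a x5 x2 * T.m x2 + T.a x5 x3 * T.m x3 + T.a x5 x4 * T.m x4 + T.a x5 x5 * T.m x5 = 0 := by
            have h := NT.row_fun T _ hinj (5 : Fin 6)
            rw [Fin.sum_univ_six] at h
            exact h
          rcases NT.edge3 T x0 x1 hne_0_1 hadj_0_1 with hx_0_1 | hx_0_1 | hx_0_1
          · rcases NT.edge3 T x1 x0 hne_0_1.symm hadj_1_0 with hx_1_0 | hx_1_0 | hx_1_0
            · rcases NT.edge3 T x0 x2 hne_0_2 hadj_0_2 with hx_0_2 | hx_0_2 | hx_0_2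
              · rcases NT.edge3 T x2 x0 hne_0_2.symm hadj_2_0 with hx_2_0 | hx_2_0 | hx_2_0
                · rcases NT.edge3 T x0 x3 hne_0_3 hadj_0_3 with hx_0_3 | hx_0_3 | hx_0_3
                  · rcases NT.edge3 T x3 x0 hne_0_3.symm hadj_3_0 with hx_3_0 | hx_3_0 | hx_3_0
                    · rcases NT.edge3 T x2 x4 hne_2_4 hadj_2_4 with hx_2_4 | hx_2_4 | hx_2_4
                      · rcases NT.edge3 T x4 x2 hne_2_4.symm hadj_4_2 with hx_4_2 | hx_4_2 | hx_4_2
                        · rcases NT.edge3 T x4 x5 hne_4_5 hadj_4_5 with hx_4_5 | hx_4_5 | hx_4_5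
                          · rcases NT.edge3 T x5 x4 hne_4_5.symm hadj_5_4 with hx_5_4 | hx_5_4 | hx_5_4
                            · have cw_0 : T.w x0 = T.w x0 := rfl
                              have cw_1 : T.w x1 = T.w x0 := by linarith only [cw_0, hx_0_1, hx_1_0, hs_0_1]
                              have cw_2 : T.w x2 = T.w x0 := by linarith only [cw_0, hx_0_2, hx_2_0, hs_0_2]
                              have cw_3 : T.w x3 = T.w x0 := by linarith only [cw_0, hx_0_3, hx_3_0, hs_0_3]
                              have cw_4 : T.w x4 = T.w x0 := by linarith only [cw_2, hx_2_4, hx_4_2, hs_2_4]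
                              have cw_5 : T.w x5 = T.w x0 := by linarith only [cw_4, hx_4_5, hx_5_4, hs_4_5]
                              have ca_0_0 : T.a x0 x0 = -2 * T.w x0 := by linarith only [hd x0, cw_0]
                              have ca_0_1 : T.a x0 x1 = T.w x0 := by linarith only [hx_0_1, cw_0]
                              have ca_0_2 : T.a x0 x2 = T.w x0 := by linarith only [hx_0_2, cw_0]
                              have ca_0_3 : T.a x0 x3 = T.w x0 := by linarith only [hx_0_3, cw_0]
                              have ca_1_0 : T.a x1 x0 = T.w x0 := by linarith only [hx_1_0, cw_1]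
                              have ca_1_1 : T.a x1 x1 = -2 * T.w x0 := by linarith only [hd x1, cw_1]
                              have ca_2_0 : T.a x2 x0 = T.w x0 := by linarith only [hx_2_0, cw_2]
                              have ca_2_2 : T.a x2 x2 = -2 * T.w x0 := by linarith only [hd x2, cw_2]
                              have ca_2_4 : T.a x2 x4 = T.w x0 := by linarith only [hx_2_4, cw_2]
                              have ca_3_0 : T.a x3 x0 = T.w x0 := by linarith only [hx_3_0, cw_3]
                              have ca_3_3 : T.a x3 x3 = -2 * T.w x0 := by linarith only [hd x3, cw_3]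
                              have ca_4_2 : T.a x4 x2 = T.w x0 := by linarith only [hx_4_2, cw_4]
                              have ca_4_4 : T.a x4 x4 = -2 * T.w x0 := by linarith only [hd x4, cw_4]
                              have ca_4_5 : T.a x4 x5 = T.w x0 := by linarith only [hx_4_5, cw_4]
                              have ca_5_4 : T.a x5 x4 = T.w x0 := by linarith only [hx_5_4, cw_5]
                              have ca_5_5 : T.a x5 x5 = -2 * T.w x0 := by linarith only [hd x5, cw_5]
                              have hm_0 : -2 * T.m x0 + 1 * T.m x1 + 1 * T.m x2 + 1 * T.m x3 = 0 := by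
                                have h := hrow_0
                                rw [ca_0_0, ca_0_1, ca_0_2, ca_0_3, hz_0_4, hz_0_5] at h
                                have h2 : T.w x0 * (-2 * T.m x0 + 1 * T.m x1 + 1 * T.m x2 + 1 * T.m x3) = 0 := by linarith only [h]
                                rcases mul_eq_zero.mp h2 with h3 | h3
                                · exact absurd h3 (hwp _).ne'
                                · exact h3
                              have hm_1 : 1 * T.m x0 + -2 * T.m x1 = 0 := by
                                have h := hrow_1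
                                rw [ca_1_0, ca_1_1, hz_1_2, hz_1_3, hz_1_4, hz_1_5] at h
                                have h2 : T.w x0 * (1 * T.m x0 + -2 * T.m x1) = 0 := by linarith only [h]
                                rcases mul_eq_zero.mp h2 with h3 | h3
                                · exact absurd h3 (hwp _).ne'
                                · exact h3
                              have hm_2 : 1 * T.m x0 + -2 * T.m x2 + 1 * T.m x4 = 0 := by
                                have h := hrow_2
                                rw [ca_2_0, hz_2_1, ca_2_2, hz_2_3, ca_2_4, hz_2_5] at h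
                                have h2 : T.w x0 * (1 * T.m x0 + -2 * T.m x2 + 1 * T.m x4) = 0 := by linarith only [h]
                                rcases mul_eq_zero.mp h2 with h3 | h3
                                · exact absurd h3 (hwp _).ne'
                                · exact h3
                              have hm_3 : 1 * T.m x0 + -2 * T.m x3 = 0 := by
                                have h := hrow_3
                                rw [ca_3_0, hz_3_1, hz_3_2, ca_3_3, hz_3_4, hz_3_5] at h
                                have h2 : T.w x0 * (1 * T.m x0 + -2 * T.m x3) = 0 := by linarith only [h]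
                                rcases mul_eq_zero.mp h2 with h3 | h3
                                · exact absurd h3 (hwp _).ne'
                                · exact h3
                              have hm_4 : 1 * T.m x2 + -2 * T.m x4 + 1 * T.m x5 = 0 := by
                                have h := hrow_4
                                rw [hz_4_0, hz_4_1, ca_4_2, hz_4_3, ca_4_4, ca_4_5] at h
                                have h2 : T.w x0 * (1 * T.m x2 + -2 * T.m x4 + 1 * T.m x5) = 0 := by linarith only [h]
                                rcases mul_eq_zero.mp h2 with h3 | h3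
                                · exact absurd h3 (hwp _).ne'
                                · exact h3
                              have hm_5 : 1 * T.m x4 + -2 * T.m x5 = 0 := by
                                have h := hrow_5
                                rw [hz_5_0, hz_5_1, hz_5_2, hz_5_3, ca_5_4, ca_5_5] at h
                                have h2 : T.w x0 * (1 * T.m x4 + -2 * T.m x5) = 0 := by linarith only [h]
                                rcases mul_eq_zero.mp h2 with h3 | h3
                                · exact absurd h3 (hwp _).ne'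
                                · exact h3
                              exfalso
                              linarith only [hm_0, hm_1, hm_2, hm_3, hm_4, hm_5, hmp x0, hmp x1, hmp x2, hmp x3, hmp x4, hmp x5]
                            · have cw_5 : T.w x5 = T.w x5 := rfl
                              have cw_4 : T.w x4 = 2 * T.w x5 := by linarith only [cw_5, hx_5_4, hx_4_5, hs_4_5]
                              have cw_2 : T.w x2 = 2 * T.w x5 := by linarith only [cw_4, hx_4_2, hx_2_4, hs_2_4]
                              have cw_0 : T.w x0 = 2 * T.w x5 := by linarith only [cw_2, hx_2_0, hx_0_2, hs_0_2]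
                              have cw_1 : T.w x1 = 2 * T.w x5 := by linarith only [cw_0, hx_0_1, hx_1_0, hs_0_1]
                              have cw_3 : T.w x3 = 2 * T.w x5 := by linarith only [cw_0, hx_0_3, hx_3_0, hs_0_3]
                              have ca_0_0 : T.a x0 x0 = -4 * T.w x5 := by linarith only [hd x0, cw_0]
                              have ca_0_1 : T.a x0 x1 = 2 * T.w x5 := by linarith only [hx_0_1, cw_0]
                              have ca_0_2 : T.a x0 x2 = 2 * T.w x5 := by linarith only [hx_0_2, cw_0]
                              have ca_0_3 : T.a x0 x3 = 2 * T.w x5 := by linarith only [hx_0_3, cw_0]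
                              have ca_1_0 : T.a x1 x0 = 2 * T.w x5 := by linarith only [hx_1_0, cw_1]
                              have ca_1_1 : T.a x1 x1 = -4 * T.w x5 := by linarith only [hd x1, cw_1]
                              have ca_2_0 : T.a x2 x0 = 2 * T.w x5 := by linarith only [hx_2_0, cw_2]
                              have ca_2_2 : T.a x2 x2 = -4 * T.w x5 := by linarith only [hd x2, cw_2]
                              have ca_2_4 : T.a x2 x4 = 2 * T.w x5 := by linarith only [hx_2_4, cw_2]
                              have ca_3_0 : T.a x3 x0 = 2 * T.w x5 := by linarith only [hx_3_0, cw_3]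
                              have ca_3_3 : T.a x3 x3 = -4 * T.w x5 := by linarith only [hd x3, cw_3]
                              have ca_4_2 : T.a x4 x2 = 2 * T.w x5 := by linarith only [hx_4_2, cw_4]
                              have ca_4_4 : T.a x4 x4 = -4 * T.w x5 := by linarith only [hd x4, cw_4]
                              have ca_4_5 : T.a x4 x5 = 2 * T.w x5 := by linarith only [hx_4_5, cw_4]
                              have ca_5_4 : T.a x5 x4 = 2 * T.w x5 := by linarith only [hx_5_4, cw_5]
                              have ca_5_5 : T.a x5 x5 = -2 * T.w x5 := by linarith only [hd x5, cw_5]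
                              have hm_0 : -4 * T.m x0 + 2 * T.m x1 + 2 * T.m x2 + 2 * T.m x3 = 0 := by
                                have h := hrow_0
                                rw [ca_0_0, ca_0_1, ca_0_2, ca_0_3, hz_0_4, hz_0_5] at h
                                have h2 : T.w x5 * (-4 * T.m x0 + 2 * T.m x1 + 2 * T.m x2 + 2 * T.m x3) = 0 := by linarith only [h]
                                rcases mul_eq_zero.mp h2 with h3 | h3
                                · exact absurd h3 (hwp _).ne'
                                · exact h3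
                              have hm_1 : 2 * T.m x0 + -4 * T.m x1 = 0 := by
                                have h := hrow_1
                                rw [ca_1_0, ca_1_1, hz_1_2, hz_1_3, hz_1_4, hz_1_5] at h
                                have h2 : T.w x5 * (2 * T.m x0 + -4 * T.m x1) = 0 := by linarith only [h]
                                rcases mul_eq_zero.mp h2 with h3 | h3
                                · exact absurd h3 (hwp _).ne'
                                · exact h3
                              have hm_2 : 2 * T.m x0 + -4 * T.m x2 + 2 * T.m x4 = 0 := by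
                                have h := hrow_2
                                rw [ca_2_0, hz_2_1, ca_2_2, hz_2_3, ca_2_4, hz_2_5] at h
                                have h2 : T.w x5 * (2 * T.m x0 + -4 * T.m x2 + 2 * T.m x4) = 0 := by linarith only [h]
                                rcases mul_eq_zero.mp h2 with h3 | h3
                                · exact absurd h3 (hwp _).ne'
                                · exact h3
                              have hm_3 : 2 * T.m x0 + -4 * T.m x3 = 0 := by
                                have h := hrow_3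
                                rw [ca_3_0, hz_3_1, hz_3_2, ca_3_3, hz_3_4, hz_3_5] at h
                                have h2 : T.w x5 * (2 * T.m x0 + -4 * T.m x3) = 0 := by linarith only [h]
                                rcases mul_eq_zero.mp h2 with h3 | h3
                                · exact absurd h3 (hwp _).ne'
                                · exact h3
                              have hm_4 : 2 * T.m x2 + -4 * T.m x4 + 2 * T.m x5 = 0 := by
                                have h := hrow_4
                                rw [hz_4_0, hz_4_1, ca_4_2, hz_4_3, ca_4_4, ca_4_5] at h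
                                have h2 : T.w x5 * (2 * T.m x2 + -4 * T.m x4 + 2 * T.m x5) = 0 := by linarith only [h]
                                rcases mul_eq_zero.mp h2 with h3 | h3
                                · exact absurd h3 (hwp _).ne'
                                · exact h3
                              have hm_5 : 2 * T.m x4 + -2 * T.m x5 = 0 := by
                                have h := hrow_5
                                rw [hz_5_0, hz_5_1, hz_5_2, hz_5_3, ca_5_4, ca_5_5] at h
                                have h2 : T.w x5 * (2 * T.m x4 + -2 * T.m x5) = 0 := by linarith only [h]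
                                rcases mul_eq_zero.mp h2 with h3 | h3
                                · exact absurd h3 (hwp _).ne'
                                · exact h3
                              have cmu_0 : T.m x0 = 2 * T.m x1 := by linarith only [hm_0, hm_1, hm_2, hm_3, hm_4, hm_5]
                              have cmu_1 : T.m x1 = T.m x1 := rfl
                              have cmu_2 : T.m x2 = 2 * T.m x1 := by linarith only [hm_0, hm_1, hm_2, hm_3, hm_4, hm_5]
                              have cmu_3 : T.m x3 = T.m x1 := by linarith only [hm_0, hm_1, hm_2, hm_3, hm_4, hm_5]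
                              have cmu_4 : T.m x4 = 2 * T.m x1 := by linarith only [hm_0, hm_1, hm_2, hm_3, hm_4, hm_5]
                              have cmu_5 : T.m x5 = 2 * T.m x1 := by linarith only [hm_0, hm_1, hm_2, hm_3, hm_4, hm_5]
                              have hinjσ : Function.Injective ![x5, x4, x2, x0, x1, x3] := NT.inj6 _ _ _ _ _ _ hne_4_5.symm hne_2_5.symm hne_0_5.symm hne_1_5.symm hne_3_5.symm hne_2_4.symm hne_0_4.symm hne_1_4.symm hne_3_4.symm hne_0_2.symm hne_1_2.symm hne_2_3 hne_0_1 hne_0_3 hne_1_3
                              exact ⟨Equiv.ofBijective ![x5, x4, x2, x0, x1, x3] ⟨hinjσ, Finite.surjective_of_injective hinjσ⟩, T.m x1, T.w x5, Or.inr (Or.inr (Or.inr (Or.inr (Or.inr (Or.inl ⟨cmu_5, cmu_4, cmu_2, cmu_0, cmu_1, cmu_3, cw_5, cw_4, cw_2, cw_0, cw_1, cw_3, ca_5_5, ca_5_4, hz_5_2, hz_5_0, hz_5_1, hz_5_3, ca_4_4, ca_4_2, hz_4_0, hz_4_1, hz_4_3, ca_2_2, ca_2_0, hz_2_1, hz_2_3, ca_0_0, ca_0_1, ca_0_3, ca_1_1, hz_1_3, ca_3_3⟩)))))⟩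
                            · exfalso
                              refine NT.cert3 T x2 x4 x5 hne_2_4 hne_2_5 hne_4_5 (by norm_num) 1 2 3 (by norm_num) (by norm_num) (by norm_num) ?_ ?_ ?_
                              · linarith only [hd x2, hwp x2, hx_2_4.ge, hnn x2 x5 hne_2_5]
                              · linarith only [hd x4, hwp x4, hx_4_2.ge, hx_4_5.ge]
                              · linarith only [hd x5, hwp x5, hnn x5 x2 hne_2_5.symm, hx_5_4]
                          · obtain ⟨heq_0, heq_1, heq_2, heq_3, heq_4, heq_5⟩ := NT.harm6 T x0 x1 x2 x3 x4 x5 hne_0_1 hne_0_2 hne_0_3 hne_0_4 hne_0_5 hne_1_2 hne_1_3 hne_1_4 hne_1_5 hne_2_3 hne_2_4 hne_2_5 hne_3_4 hne_3_5 hne_4_5 2 1 2 1 2 1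
                              (by linarith only [hd x0, hx_0_1.ge, hx_0_2.ge, hx_0_3.ge, hz_0_4, hz_0_5])
                              (by linarith only [hd x1, hx_1_0.ge, hz_1_2, hz_1_3, hz_1_4, hz_1_5])
                              (by linarith only [hd x2, hx_2_0.ge, hz_2_1, hz_2_3, hx_2_4.ge, hz_2_5])
                              (by linarith only [hd x3, hx_3_0.ge, hz_3_1, hz_3_2, hz_3_4, hz_3_5])
                              (by linarith only [hd x4, hz_4_0, hz_4_1, hx_4_2.ge, hz_4_3, hx_4_5.ge])
                              (by linarith only [hd x5, hz_5_0, hz_5_1, hz_5_2, hz_5_3, hl_5_4])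
                            have hx_5_4 : T.a x5 x4 = T.w x5 := by linarith only [heq_5, hwp x5, hd x5, hz_5_0, hz_5_1, hz_5_2, hz_5_3, hl_5_4]
                            have cw_4 : T.w x4 = T.w x4 := rfl
                            have cw_2 : T.w x2 = T.w x4 := by linarith only [cw_4, hx_4_2, hx_2_4, hs_2_4]
                            have cw_5 : T.w x5 = 2 * T.w x4 := by linarith only [cw_4, hx_4_5, hx_5_4, hs_4_5]
                            have cw_0 : T.w x0 = T.w x4 := by linarith only [cw_2, hx_2_0, hx_0_2, hs_0_2]
                            have cw_1 : T.w x1 = T.w x4 := by linarith only [cw_0, hx_0_1, hx_1_0, hs_0_1]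
                            have cw_3 : T.w x3 = T.w x4 := by linarith only [cw_0, hx_0_3, hx_3_0, hs_0_3]
                            have ca_0_0 : T.a x0 x0 = -2 * T.w x4 := by linarith only [hd x0, cw_0]
                            have ca_0_1 : T.a x0 x1 = T.w x4 := by linarith only [hx_0_1, cw_0]
                            have ca_0_2 : T.a x0 x2 = T.w x4 := by linarith only [hx_0_2, cw_0]
                            have ca_0_3 : T.a x0 x3 = T.w x4 := by linarith only [hx_0_3, cw_0]
                            have ca_1_0 : T.a x1 x0 = T.w x4 := by linarith only [hx_1_0, cw_1]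
                            have ca_1_1 : T.a x1 x1 = -2 * T.w x4 := by linarith only [hd x1, cw_1]
                            have ca_2_0 : T.a x2 x0 = T.w x4 := by linarith only [hx_2_0, cw_2]
                            have ca_2_2 : T.a x2 x2 = -2 * T.w x4 := by linarith only [hd x2, cw_2]
                            have ca_2_4 : T.a x2 x4 = T.w x4 := by linarith only [hx_2_4, cw_2]
                            have ca_3_0 : T.a x3 x0 = T.w x4 := by linarith only [hx_3_0, cw_3]
                            have ca_3_3 : T.a x3 x3 = -2 * T.w x4 := by linarith only [hd x3, cw_3]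
                            have ca_4_2 : T.a x4 x2 = T.w x4 := by linarith only [hx_4_2, cw_4]
                            have ca_4_4 : T.a x4 x4 = -2 * T.w x4 := by linarith only [hd x4, cw_4]
                            have ca_4_5 : T.a x4 x5 = 2 * T.w x4 := by linarith only [hx_4_5, cw_4]
                            have ca_5_4 : T.a x5 x4 = 2 * T.w x4 := by linarith only [hx_5_4, cw_5]
                            have ca_5_5 : T.a x5 x5 = -4 * T.w x4 := by linarith only [hd x5, cw_5]
                            have hm_0 : -2 * T.m x0 + 1 * T.m x1 + 1 * T.m x2 + 1 * T.m x3 = 0 := by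
                              have h := hrow_0
                              rw [ca_0_0, ca_0_1, ca_0_2, ca_0_3, hz_0_4, hz_0_5] at h
                              have h2 : T.w x4 * (-2 * T.m x0 + 1 * T.m x1 + 1 * T.m x2 + 1 * T.m x3) = 0 := by linarith only [h]
                              rcases mul_eq_zero.mp h2 with h3 | h3
                              · exact absurd h3 (hwp _).ne'
                              · exact h3
                            have hm_1 : 1 * T.m x0 + -2 * T.m x1 = 0 := by
                              have h := hrow_1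
                              rw [ca_1_0, ca_1_1, hz_1_2, hz_1_3, hz_1_4, hz_1_5] at h
                              have h2 : T.w x4 * (1 * T.m x0 + -2 * T.m x1) = 0 := by linarith only [h]
                              rcases mul_eq_zero.mp h2 with h3 | h3
                              · exact absurd h3 (hwp _).ne'
                              · exact h3
                            have hm_2 : 1 * T.m x0 + -2 * T.m x2 + 1 * T.m x4 = 0 := by
                              have h := hrow_2
                              rw [ca_2_0, hz_2_1, ca_2_2, hz_2_3, ca_2_4, hz_2_5] at h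
                              have h2 : T.w x4 * (1 * T.m x0 + -2 * T.m x2 + 1 * T.m x4) = 0 := by linarith only [h]
                              rcases mul_eq_zero.mp h2 with h3 | h3
                              · exact absurd h3 (hwp _).ne'
                              · exact h3
                            have hm_3 : 1 * T.m x0 + -2 * T.m x3 = 0 := by
                              have h := hrow_3
                              rw [ca_3_0, hz_3_1, hz_3_2, ca_3_3, hz_3_4, hz_3_5] at h
                              have h2 : T.w x4 * (1 * T.m x0 + -2 * T.m x3) = 0 := by linarith only [h]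
                              rcases mul_eq_zero.mp h2 with h3 | h3
                              · exact absurd h3 (hwp _).ne'
                              · exact h3
                            have hm_4 : 1 * T.m x2 + -2 * T.m x4 + 2 * T.m x5 = 0 := by
                              have h := hrow_4
                              rw [hz_4_0, hz_4_1, ca_4_2, hz_4_3, ca_4_4, ca_4_5] at h
                              have h2 : T.w x4 * (1 * T.m x2 + -2 * T.m x4 + 2 * T.m x5) = 0 := by linarith only [h]
                              rcases mul_eq_zero.mp h2 with h3 | h3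
                              · exact absurd h3 (hwp _).ne'
                              · exact h3
                            have hm_5 : 2 * T.m x4 + -4 * T.m x5 = 0 := by
                              have h := hrow_5
                              rw [hz_5_0, hz_5_1, hz_5_2, hz_5_3, ca_5_4, ca_5_5] at h
                              have h2 : T.w x4 * (2 * T.m x4 + -4 * T.m x5) = 0 := by linarith only [h]
                              rcases mul_eq_zero.mp h2 with h3 | h3
                              · exact absurd h3 (hwp _).ne'
                              · exact h3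
                            have cmu_0 : T.m x0 = 2 * T.m x5 := by linarith only [hm_0, hm_1, hm_2, hm_3, hm_4, hm_5]
                            have cmu_1 : T.m x1 = T.m x5 := by linarith only [hm_0, hm_1, hm_2, hm_3, hm_4, hm_5]
                            have cmu_2 : T.m x2 = 2 * T.m x5 := by linarith only [hm_0, hm_1, hm_2, hm_3, hm_4, hm_5]
                            have cmu_3 : T.m x3 = T.m x5 := by linarith only [hm_0, hm_1, hm_2, hm_3, hm_4, hm_5]
                            have cmu_4 : T.m x4 = 2 * T.m x5 := by linarith only [hm_0, hm_1, hm_2, hm_3, hm_4, hm_5]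
                            have cmu_5 : T.m x5 = T.m x5 := rfl
                            have hinjσ : Function.Injective ![x5, x4, x2, x0, x1, x3] := NT.inj6 _ _ _ _ _ _ hne_4_5.symm hne_2_5.symm hne_0_5.symm hne_1_5.symm hne_3_5.symm hne_2_4.symm hne_0_4.symm hne_1_4.symm hne_3_4.symm hne_0_2.symm hne_1_2.symm hne_2_3 hne_0_1 hne_0_3 hne_1_3
                            exact ⟨Equiv.ofBijective ![x5, x4, x2, x0, x1, x3] ⟨hinjσ, Finite.surjective_of_injective hinjσ⟩, T.m x5, T.w x4, Or.inr (Or.inr (Or.inr (Or.inr (Or.inl ⟨cmu_5, cmu_4, cmu_2, cmu_0, cmu_1, cmu_3, cw_5, cw_4, cw_2, cw_0, cw_1, cw_3, ca_5_5, ca_5_4, hz_5_2, hz_5_0, hz_5_1, hz_5_3, ca_4_4, ca_4_2, hz_4_0, hz_4_1, hz_4_3, ca_2_2, ca_2_0, hz_2_1, hz_2_3, ca_0_0, ca_0_1, ca_0_3, ca_1_1, hz_1_3, ca_3_3⟩))))⟩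
                          · exfalso
                            refine NT.cert3 T x2 x4 x5 hne_2_4 hne_2_5 hne_4_5 (by norm_num) 1 2 1 (by norm_num) (by norm_num) (by norm_num) ?_ ?_ ?_
                            · linarith only [hd x2, hwp x2, hx_2_4.ge, hnn x2 x5 hne_2_5]
                            · linarith only [hd x4, hwp x4, hx_4_2.ge, hx_4_5]
                            · linarith only [hd x5, hwp x5, hnn x5 x2 hne_2_5.symm, hl_5_4]
                        · exfalso
                          refine NT.cert5 T x0 x1 x2 x3 x4 hne_0_1 hne_0_2 hne_0_3 hne_0_4 hne_1_2 hne_1_3 hne_1_4 hne_2_3 hne_2_4 hne_3_4 (by norm_num) 2 1 2 1 2 (by norm_num) (by norm_num) (by norm_num) (by norm_num) (by norm_num) ?_ ?_ ?_ ?_ ?_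
                          · linarith only [hd x0, hwp x0, hx_0_1.ge, hx_0_2.ge, hx_0_3.ge, hnn x0 x4 hne_0_4]
                          · linarith only [hd x1, hwp x1, hx_1_0.ge, hnn x1 x2 hne_1_2, hnn x1 x3 hne_1_3, hnn x1 x4 hne_1_4]
                          · linarith only [hd x2, hwp x2, hx_2_0.ge, hnn x2 x1 hne_1_2.symm, hnn x2 x3 hne_2_3, hx_2_4.ge]
                          · linarith only [hd x3, hwp x3, hx_3_0.ge, hnn x3 x1 hne_1_3.symm, hnn x3 x2 hne_2_3.symm, hnn x3 x4 hne_3_4]
                          · linarith only [hd x4, hwp x4, hnn x4 x0 hne_0_4.symm, hnn x4 x1 hne_1_4.symm, hx_4_2.ge, hnn x4 x3 hne_3_4.symm]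
                        · exfalso
                          refine NT.cert3 T x0 x2 x4 hne_0_2 hne_0_4 hne_2_4 (by norm_num) 1 2 3 (by norm_num) (by norm_num) (by norm_num) ?_ ?_ ?_
                          · linarith only [hd x0, hwp x0, hx_0_2.ge, hnn x0 x4 hne_0_4]
                          · linarith only [hd x2, hwp x2, hx_2_0.ge, hx_2_4.ge]
                          · linarith only [hd x4, hwp x4, hnn x4 x0 hne_0_4.symm, hx_4_2]
                      · exfalso
                        refine NT.cert5 T x0 x1 x2 x3 x4 hne_0_1 hne_0_2 hne_0_3 hne_0_4 hne_1_2 hne_1_3 hne_1_4 hne_2_3 hne_2_4 hne_3_4 (by norm_num) 2 1 2 1 1 (by norm_num) (by norm_num) (by norm_num) (by norm_num) (by norm_num) ?_ ?_ ?_ ?_ ?_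
                        · linarith only [hd x0, hwp x0, hx_0_1.ge, hx_0_2.ge, hx_0_3.ge, hnn x0 x4 hne_0_4]
                        · linarith only [hd x1, hwp x1, hx_1_0.ge, hnn x1 x2 hne_1_2, hnn x1 x3 hne_1_3, hnn x1 x4 hne_1_4]
                        · linarith only [hd x2, hwp x2, hx_2_0.ge, hnn x2 x1 hne_1_2.symm, hnn x2 x3 hne_2_3, hx_2_4.ge]
                        · linarith only [hd x3, hwp x3, hx_3_0.ge, hnn x3 x1 hne_1_3.symm, hnn x3 x2 hne_2_3.symm, hnn x3 x4 hne_3_4]
                        · linarith only [hd x4, hwp x4, hnn x4 x0 hne_0_4.symm, hnn x4 x1 hne_1_4.symm, hl_4_2, hnn x4 x3 hne_3_4.symm]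
                      · exfalso
                        refine NT.cert3 T x0 x2 x4 hne_0_2 hne_0_4 hne_2_4 (by norm_num) 1 2 1 (by norm_num) (by norm_num) (by norm_num) ?_ ?_ ?_
                        · linarith only [hd x0, hwp x0, hx_0_2.ge, hnn x0 x4 hne_0_4]
                        · linarith only [hd x2, hwp x2, hx_2_0.ge, hx_2_4]
                        · linarith only [hd x4, hwp x4, hnn x4 x0 hne_0_4.symm, hl_4_2]
                    · exfalso
                      refine NT.cert4 T x0 x1 x2 x3 hne_0_1 hne_0_2 hne_0_3 hne_1_2 hne_1_3 hne_2_3 (by norm_num) 2 1 1 2 (by norm_num) (by norm_num) (by norm_num) (by norm_num) ?_ ?_ ?_ ?_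
                      · linarith only [hd x0, hwp x0, hx_0_1.ge, hx_0_2.ge, hx_0_3.ge]
                      · linarith only [hd x1, hwp x1, hx_1_0.ge, hnn x1 x2 hne_1_2, hnn x1 x3 hne_1_3]
                      · linarith only [hd x2, hwp x2, hx_2_0.ge, hnn x2 x1 hne_1_2.symm, hnn x2 x3 hne_2_3]
                      · linarith only [hd x3, hwp x3, hx_3_0.ge, hnn x3 x1 hne_1_3.symm, hnn x3 x2 hne_2_3.symm]
                    · exfalso
                      refine NT.cert3 T x0 x1 x3 hne_0_1 hne_0_3 hne_1_3 (by norm_num) 2 1 3 (by norm_num) (by norm_num) (by norm_num) ?_ ?_ ?_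
                      · linarith only [hd x0, hwp x0, hx_0_1.ge, hx_0_3.ge]
                      · linarith only [hd x1, hwp x1, hx_1_0.ge, hnn x1 x3 hne_1_3]
                      · linarith only [hd x3, hwp x3, hx_3_0, hnn x3 x1 hne_1_3.symm]
                  · exfalso
                    refine NT.cert4 T x0 x1 x2 x3 hne_0_1 hne_0_2 hne_0_3 hne_1_2 hne_1_3 hne_2_3 (by norm_num) 2 1 1 1 (by norm_num) (by norm_num) (by norm_num) (by norm_num) ?_ ?_ ?_ ?_
                    · linarith only [hd x0, hwp x0, hx_0_1.ge, hx_0_2.ge, hx_0_3.ge]
                    · linarith only [hd x1, hwp x1, hx_1_0.ge, hnn x1 x2 hne_1_2, hnn x1 x3 hne_1_3]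
                    · linarith only [hd x2, hwp x2, hx_2_0.ge, hnn x2 x1 hne_1_2.symm, hnn x2 x3 hne_2_3]
                    · linarith only [hd x3, hwp x3, hl_3_0, hnn x3 x1 hne_1_3.symm, hnn x3 x2 hne_2_3.symm]
                  · exfalso
                    refine NT.cert3 T x0 x1 x3 hne_0_1 hne_0_3 hne_1_3 (by norm_num) 2 1 1 (by norm_num) (by norm_num) (by norm_num) ?_ ?_ ?_
                    · linarith only [hd x0, hwp x0, hx_0_1.ge, hx_0_3]
                    · linarith only [hd x1, hwp x1, hx_1_0.ge, hnn x1 x3 hne_1_3]
                    · linarith only [hd x3, hwp x3, hl_3_0, hnn x3 x1 hne_1_3.symm]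
                · exfalso
                  refine NT.cert4 T x0 x1 x2 x3 hne_0_1 hne_0_2 hne_0_3 hne_1_2 hne_1_3 hne_2_3 (by norm_num) 2 1 2 1 (by norm_num) (by norm_num) (by norm_num) (by norm_num) ?_ ?_ ?_ ?_
                  · linarith only [hd x0, hwp x0, hx_0_1.ge, hx_0_2.ge, hl_0_3]
                  · linarith only [hd x1, hwp x1, hx_1_0.ge, hnn x1 x2 hne_1_2, hnn x1 x3 hne_1_3]
                  · linarith only [hd x2, hwp x2, hx_2_0.ge, hnn x2 x1 hne_1_2.symm, hnn x2 x3 hne_2_3]
                  · linarith only [hd x3, hwp x3, hl_3_0, hnn x3 x1 hne_1_3.symm, hnn x3 x2 hne_2_3.symm]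
                · exfalso
                  refine NT.cert3 T x0 x1 x2 hne_0_1 hne_0_2 hne_1_2 (by norm_num) 2 1 3 (by norm_num) (by norm_num) (by norm_num) ?_ ?_ ?_
                  · linarith only [hd x0, hwp x0, hx_0_1.ge, hx_0_2.ge]
                  · linarith only [hd x1, hwp x1, hx_1_0.ge, hnn x1 x2 hne_1_2]
                  · linarith only [hd x2, hwp x2, hx_2_0, hnn x2 x1 hne_1_2.symm]
              · exfalso
                refine NT.cert4 T x0 x1 x2 x3 hne_0_1 hne_0_2 hne_0_3 hne_1_2 hne_1_3 hne_2_3 (by norm_num) 2 1 1 1 (by norm_num) (by norm_num) (by norm_num) (by norm_num) ?_ ?_ ?_ ?_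
                · linarith only [hd x0, hwp x0, hx_0_1.ge, hx_0_2.ge, hl_0_3]
                · linarith only [hd x1, hwp x1, hx_1_0.ge, hnn x1 x2 hne_1_2, hnn x1 x3 hne_1_3]
                · linarith only [hd x2, hwp x2, hl_2_0, hnn x2 x1 hne_1_2.symm, hnn x2 x3 hne_2_3]
                · linarith only [hd x3, hwp x3, hl_3_0, hnn x3 x1 hne_1_3.symm, hnn x3 x2 hne_2_3.symm]
              · exfalso
                refine NT.cert3 T x0 x1 x2 hne_0_1 hne_0_2 hne_1_2 (by norm_num) 2 1 1 (by norm_num) (by norm_num) (by norm_num) ?_ ?_ ?_
                · linarith only [hd x0, hwp x0, hx_0_1.ge, hx_0_2]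
                · linarith only [hd x1, hwp x1, hx_1_0.ge, hnn x1 x2 hne_1_2]
                · linarith only [hd x2, hwp x2, hl_2_0, hnn x2 x1 hne_1_2.symm]
            · exfalso
              refine NT.cert4 T x0 x1 x2 x3 hne_0_1 hne_0_2 hne_0_3 hne_1_2 hne_1_3 hne_2_3 (by norm_num) 2 2 1 1 (by norm_num) (by norm_num) (by norm_num) (by norm_num) ?_ ?_ ?_ ?_
              · linarith only [hd x0, hwp x0, hx_0_1.ge, hl_0_2, hl_0_3]
              · linarith only [hd x1, hwp x1, hx_1_0.ge, hnn x1 x2 hne_1_2, hnn x1 x3 hne_1_3]
              · linarith only [hd x2, hwp x2, hl_2_0, hnn x2 x1 hne_1_2.symm, hnn x2 x3 hne_2_3]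
              · linarith only [hd x3, hwp x3, hl_3_0, hnn x3 x1 hne_1_3.symm, hnn x3 x2 hne_2_3.symm]
            · exfalso
              refine NT.cert3 T x0 x1 x2 hne_0_1 hne_0_2 hne_1_2 (by norm_num) 2 3 1 (by norm_num) (by norm_num) (by norm_num) ?_ ?_ ?_
              · linarith only [hd x0, hwp x0, hx_0_1.ge, hl_0_2]
              · linarith only [hd x1, hwp x1, hx_1_0, hnn x1 x2 hne_1_2]
              · linarith only [hd x2, hwp x2, hl_2_0, hnn x2 x1 hne_1_2.symm]
          · exfalso
            refine NT.cert4 T x0 x1 x2 x3 hne_0_1 hne_0_2 hne_0_3 hne_1_2 hne_1_3 hne_2_3 (by norm_num) 2 1 1 1 (by norm_num) (by norm_num) (by norm_num) (by norm_num) ?_ ?_ ?_ ?_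
            · linarith only [hd x0, hwp x0, hx_0_1.ge, hl_0_2, hl_0_3]
            · linarith only [hd x1, hwp x1, hl_1_0, hnn x1 x2 hne_1_2, hnn x1 x3 hne_1_3]
            · linarith only [hd x2, hwp x2, hl_2_0, hnn x2 x1 hne_1_2.symm, hnn x2 x3 hne_2_3]
            · linarith only [hd x3, hwp x3, hl_3_0, hnn x3 x1 hne_1_3.symm, hnn x3 x2 hne_2_3.symm]
          · exfalso
            refine NT.cert3 T x0 x1 x2 hne_0_1 hne_0_2 hne_1_2 (by norm_num) 2 1 1 (by norm_num) (by norm_num) (by norm_num) ?_ ?_ ?_
            · linarith only [hd x0, hwp x0, hx_0_1, hl_0_2]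
            · linarith only [hd x1, hwp x1, hl_1_0, hnn x1 x2 hne_1_2]
            · linarith only [hd x2, hwp x2, hl_2_0, hnn x2 x1 hne_1_2.symm]
        · by_cases hq_2 : ∃ y, (y ≠ x0 ∧ y ≠ x1 ∧ y ≠ x2 ∧ y ≠ x3 ∧ y ≠ x4) ∧ T.a x2 y ≠ 0
          · obtain ⟨x5, ⟨hn0, hn1, hn2, hn3, hn4⟩, hadj_2_5⟩ := hq_2
            have hne_0_5 : x0 ≠ x5 := hn0.symm
            have hne_1_5 : x1 ≠ x5 := hn1.symm
            have hne_2_5 : x2 ≠ x5 := hn2.symm
            have hne_3_5 : x3 ≠ x5 := hn3.symm
            have hne_4_5 : x4 ≠ x5 := hn4.symm
            have hadj_5_2 : T.a x5 x2 ≠ 0 := by rw [hsym]; exact hadj_2_5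
            have hl_2_5 := NT.lb1 T _ _ hne_2_5 hadj_2_5
            have hl_5_2 := NT.lb1 T _ _ hne_2_5.symm hadj_5_2
            have hs_2_5 : T.a x2 x5 = T.a x5 x2 := hsym _ _
            have hz_0_5 : T.a x0 x5 = 0 := by
              by_contra hadj_0_5
              have hadj_5_0 : T.a x5 x0 ≠ 0 := by rw [hsym]; exact hadj_0_5
              have hl_0_5 := NT.lb1 T _ _ hne_0_5 hadj_0_5
              have hl_5_0 := NT.lb1 T _ _ hne_0_5.symm hadj_5_0
              have hs_0_5 : T.a x0 x5 = T.a x5 x0 := hsym _ _
              refine NT.cert3 T x0 x2 x5 hne_0_2 hne_0_5 hne_2_5 (by norm_num) 1 1 1 (by norm_num) (by norm_num) (by norm_num) ?_ ?_ ?_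
              · linarith only [hd x0, hwp x0, hl_0_2, hl_0_5]
              · linarith only [hd x2, hwp x2, hl_2_0, hl_2_5]
              · linarith only [hd x5, hwp x5, hl_5_0, hl_5_2]
            have hz_5_0 : T.a x5 x0 = 0 := by rw [hsym]; exact hz_0_5
            have hz_1_5 : T.a x1 x5 = 0 := by
              by_contra hadj_1_5
              have hadj_5_1 : T.a x5 x1 ≠ 0 := by rw [hsym]; exact hadj_1_5
              have hl_1_5 := NT.lb1 T _ _ hne_1_5 hadj_1_5
              have hl_5_1 := NT.lb1 T _ _ hne_1_5.symm hadj_5_1
              have hs_1_5 : T.a x1 x5 = T.a x5 x1 := hsym _ _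
              refine NT.cert4 T x0 x1 x2 x5 hne_0_1 hne_0_2 hne_0_5 hne_1_2 hne_1_5 hne_2_5 (by norm_num) 1 1 1 1 (by norm_num) (by norm_num) (by norm_num) (by norm_num) ?_ ?_ ?_ ?_
              · linarith only [hd x0, hwp x0, hl_0_1, hl_0_2, hnn x0 x5 hne_0_5]
              · linarith only [hd x1, hwp x1, hl_1_0, hnn x1 x2 hne_1_2, hl_1_5]
              · linarith only [hd x2, hwp x2, hl_2_0, hnn x2 x1 hne_1_2.symm, hl_2_5]
              · linarith only [hd x5, hwp x5, hnn x5 x0 hne_0_5.symm, hl_5_1, hl_5_2]
            have hz_5_1 : T.a x5 x1 = 0 := by rw [hsym]; exact hz_1_5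
            have hz_3_5 : T.a x3 x5 = 0 := by
              by_contra h
              exact hq_3 ⟨x5, ⟨hne_0_5.symm, hne_1_5.symm, hne_2_5.symm, hne_3_5.symm⟩, h⟩
            have hz_5_3 : T.a x5 x3 = 0 := by rw [hsym]; exact hz_3_5
            have hz_4_5 : T.a x4 x5 = 0 := by
              by_contra h
              exact hq_4 ⟨x5, ⟨hne_0_5.symm, hne_1_5.symm, hne_2_5.symm, hne_3_5.symm, hne_4_5.symm⟩, h⟩
            have hz_5_4 : T.a x5 x4 = 0 := by rw [hsym]; exact hz_4_5
            have hinj : Function.Injective ![x0, x1, x2, x3, x4, x5] := NT.inj6 _ _ _ _ _ _ hne_0_1 hne_0_2 hne_0_3 hne_0_4 hne_0_5 hne_1_2 hne_1_3 hne_1_4 hne_1_5 hne_2_3 hne_2_4 hne_2_5 hne_3_4 hne_3_5 hne_4_5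
            have hrow_0 : T.a x0 x0 * T.m x0 + T.a x0 x1 * T.m x1 + T.a x0 x2 * T.m x2 + T.a x0 x3 * T.m x3 + T.a x0 x4 * T.m x4 + T.a x0 x5 * T.m x5 = 0 := by
              have h := NT.row_fun T _ hinj (0 : Fin 6)
              rw [Fin.sum_univ_six] at h
              exact h
            have hrow_1 : T.a x1 x0 * T.m x0 + T.a x1 x1 * T.m x1 + T.a x1 x2 * T.m x2 + T.a x1 x3 * T.m x3 + T.a x1 x4 * T.m x4 + T.a x1 x5 * T.m x5 = 0 := by
              have h := NT.row_fun T _ hinj (1 : Fin 6)
              rw [Fin.sum_univ_six] at h
              exact h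
            have hrow_2 : T.a x2 x0 * T.m x0 + T.a x2 x1 * T.m x1 + T.a x2 x2 * T.m x2 + T.a x2 x3 * T.m x3 + T.a x2 x4 * T.m x4 + T.a x2 x5 * T.m x5 = 0 := by
              have h := NT.row_fun T _ hinj (2 : Fin 6)
              rw [Fin.sum_univ_six] at h
              exact h
            have hrow_3 : T.a x3 x0 * T.m x0 + T.a x3 x1 * T.m x1 + T.a x3 x2 * T.m x2 + T.a x3 x3 * T.m x3 + T.a x3 x4 * T.m x4 + T.a x3 x5 * T.m x5 = 0 := by
              have h := NT.row_fun T _ hinj (3 : Fin 6)
              rw [Fin.sum_univ_six] at h
              exact h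
            have hrow_4 : T.a x4 x0 * T.m x0 + T.a x4 x1 * T.m x1 + T.a x4 x2 * T.m x2 + T.a x4 x3 * T.m x3 + T.a x4 x4 * T.m x4 + T.a x4 x5 * T.m x5 = 0 := by
              have h := NT.row_fun T _ hinj (4 : Fin 6)
              rw [Fin.sum_univ_six] at h
              exact h
            have hrow_5 : T.a x5 x0 * T.m x0 + T.a x5 x1 * T.m x1 + T.a x5 x2 * T.m x2 + T.a x5 x3 * T.m x3 + T.a x5 x4 * T.m x4 + T.a x5 x5 * T.m x5 = 0 := by
              have h := NT.row_fun T _ hinj (5 : Fin 6)
              rw [Fin.sum_univ_six] at h
              exact h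
            obtain ⟨heq_0, heq_1, heq_2, heq_3, heq_4, heq_5⟩ := NT.harm6 T x0 x1 x2 x3 x4 x5 hne_0_1 hne_0_2 hne_0_3 hne_0_4 hne_0_5 hne_1_2 hne_1_3 hne_1_4 hne_1_5 hne_2_3 hne_2_4 hne_2_5 hne_3_4 hne_3_5 hne_4_5 2 1 2 1 1 1
              (by linarith only [hd x0, hl_0_1, hl_0_2, hl_0_3, hz_0_4, hz_0_5])
              (by linarith only [hd x1, hl_1_0, hz_1_2, hz_1_3, hz_1_4, hz_1_5])
              (by linarith only [hd x2, hl_2_0, hz_2_1, hz_2_3, hl_2_4, hl_2_5])
              (by linarith only [hd x3, hl_3_0, hz_3_1, hz_3_2, hz_3_4, hz_3_5])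
              (by linarith only [hd x4, hz_4_0, hz_4_1, hl_4_2, hz_4_3, hz_4_5])
              (by linarith only [hd x5, hz_5_0, hz_5_1, hl_5_2, hz_5_3, hz_5_4])
            have hx_0_1 : T.a x0 x1 = T.w x0 := by linarith only [heq_0, hwp x0, hd x0, hl_0_1, hl_0_2, hl_0_3, hz_0_4, hz_0_5]
            have hx_1_0 : T.a x1 x0 = T.w x1 := by linarith only [heq_1, hwp x1, hd x1, hl_1_0, hz_1_2, hz_1_3, hz_1_4, hz_1_5]
            have hx_0_2 : T.a x0 x2 = T.w x0 := by linarith only [heq_0, hwp x0, hd x0, hl_0_1, hl_0_2, hl_0_3, hz_0_4, hz_0_5]
            have hx_2_0 : T.a x2 x0 = T.w x2 := by linarith only [heq_2, hwp x2, hd x2, hl_2_0, hz_2_1, hz_2_3, hl_2_4, hl_2_5]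
            have hx_0_3 : T.a x0 x3 = T.w x0 := by linarith only [heq_0, hwp x0, hd x0, hl_0_1, hl_0_2, hl_0_3, hz_0_4, hz_0_5]
            have hx_3_0 : T.a x3 x0 = T.w x3 := by linarith only [heq_3, hwp x3, hd x3, hl_3_0, hz_3_1, hz_3_2, hz_3_4, hz_3_5]
            have hx_2_4 : T.a x2 x4 = T.w x2 := by linarith only [heq_2, hwp x2, hd x2, hl_2_0, hz_2_1, hz_2_3, hl_2_4, hl_2_5]
            have hx_4_2 : T.a x4 x2 = T.w x4 := by linarith only [heq_4, hwp x4, hd x4, hz_4_0, hz_4_1, hl_4_2, hz_4_3, hz_4_5]
            have hx_2_5 : T.a x2 x5 = T.w x2 := by linarith only [heq_2, hwp x2, hd x2, hl_2_0, hz_2_1, hz_2_3, hl_2_4, hl_2_5]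
            have hx_5_2 : T.a x5 x2 = T.w x5 := by linarith only [heq_5, hwp x5, hd x5, hz_5_0, hz_5_1, hl_5_2, hz_5_3, hz_5_4]
            have cw_1 : T.w x1 = T.w x1 := rfl
            have cw_0 : T.w x0 = T.w x1 := by linarith only [cw_1, hx_1_0, hx_0_1, hs_0_1]
            have cw_2 : T.w x2 = T.w x1 := by linarith only [cw_0, hx_0_2, hx_2_0, hs_0_2]
            have cw_3 : T.w x3 = T.w x1 := by linarith only [cw_0, hx_0_3, hx_3_0, hs_0_3]
            have cw_4 : T.w x4 = T.w x1 := by linarith only [cw_2, hx_2_4, hx_4_2, hs_2_4]
            have cw_5 : T.w x5 = T.w x1 := by linarith only [cw_2, hx_2_5, hx_5_2, hs_2_5]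
            have ca_0_0 : T.a x0 x0 = -2 * T.w x1 := by linarith only [hd x0, cw_0]
            have ca_0_1 : T.a x0 x1 = T.w x1 := by linarith only [hx_0_1, cw_0]
            have ca_0_2 : T.a x0 x2 = T.w x1 := by linarith only [hx_0_2, cw_0]
            have ca_0_3 : T.a x0 x3 = T.w x1 := by linarith only [hx_0_3, cw_0]
            have ca_1_0 : T.a x1 x0 = T.w x1 := by linarith only [hx_1_0, cw_1]
            have ca_1_1 : T.a x1 x1 = -2 * T.w x1 := by linarith only [hd x1, cw_1]
            have ca_2_0 : T.a x2 x0 = T.w x1 := by linarith only [hx_2_0, cw_2]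
            have ca_2_2 : T.a x2 x2 = -2 * T.w x1 := by linarith only [hd x2, cw_2]
            have ca_2_4 : T.a x2 x4 = T.w x1 := by linarith only [hx_2_4, cw_2]
            have ca_2_5 : T.a x2 x5 = T.w x1 := by linarith only [hx_2_5, cw_2]
            have ca_3_0 : T.a x3 x0 = T.w x1 := by linarith only [hx_3_0, cw_3]
            have ca_3_3 : T.a x3 x3 = -2 * T.w x1 := by linarith only [hd x3, cw_3]
            have ca_4_2 : T.a x4 x2 = T.w x1 := by linarith only [hx_4_2, cw_4]
            have ca_4_4 : T.a x4 x4 = -2 * T.w x1 := by linarith only [hd x4, cw_4]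
            have ca_5_2 : T.a x5 x2 = T.w x1 := by linarith only [hx_5_2, cw_5]
            have ca_5_5 : T.a x5 x5 = -2 * T.w x1 := by linarith only [hd x5, cw_5]
            have hm_0 : -2 * T.m x0 + 1 * T.m x1 + 1 * T.m x2 + 1 * T.m x3 = 0 := by
              have h := hrow_0
              rw [ca_0_0, ca_0_1, ca_0_2, ca_0_3, hz_0_4, hz_0_5] at h
              have h2 : T.w x1 * (-2 * T.m x0 + 1 * T.m x1 + 1 * T.m x2 + 1 * T.m x3) = 0 := by linarith only [h]
              rcases mul_eq_zero.mp h2 with h3 | h3
              · exact absurd h3 (hwp _).ne'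
              · exact h3
            have hm_1 : 1 * T.m x0 + -2 * T.m x1 = 0 := by
              have h := hrow_1
              rw [ca_1_0, ca_1_1, hz_1_2, hz_1_3, hz_1_4, hz_1_5] at h
              have h2 : T.w x1 * (1 * T.m x0 + -2 * T.m x1) = 0 := by linarith only [h]
              rcases mul_eq_zero.mp h2 with h3 | h3
              · exact absurd h3 (hwp _).ne'
              · exact h3
            have hm_2 : 1 * T.m x0 + -2 * T.m x2 + 1 * T.m x4 + 1 * T.m x5 = 0 := by
              have h := hrow_2
              rw [ca_2_0, hz_2_1, ca_2_2, hz_2_3, ca_2_4, ca_2_5] at h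
              have h2 : T.w x1 * (1 * T.m x0 + -2 * T.m x2 + 1 * T.m x4 + 1 * T.m x5) = 0 := by linarith only [h]
              rcases mul_eq_zero.mp h2 with h3 | h3
              · exact absurd h3 (hwp _).ne'
              · exact h3
            have hm_3 : 1 * T.m x0 + -2 * T.m x3 = 0 := by
              have h := hrow_3
              rw [ca_3_0, hz_3_1, hz_3_2, ca_3_3, hz_3_4, hz_3_5] at h
              have h2 : T.w x1 * (1 * T.m x0 + -2 * T.m x3) = 0 := by linarith only [h]
              rcases mul_eq_zero.mp h2 with h3 | h3
              · exact absurd h3 (hwp _).ne'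
              · exact h3
            have hm_4 : 1 * T.m x2 + -2 * T.m x4 = 0 := by
              have h := hrow_4
              rw [hz_4_0, hz_4_1, ca_4_2, hz_4_3, ca_4_4, hz_4_5] at h
              have h2 : T.w x1 * (1 * T.m x2 + -2 * T.m x4) = 0 := by linarith only [h]
              rcases mul_eq_zero.mp h2 with h3 | h3
              · exact absurd h3 (hwp _).ne'
              · exact h3
            have hm_5 : 1 * T.m x2 + -2 * T.m x5 = 0 := by
              have h := hrow_5
              rw [hz_5_0, hz_5_1, ca_5_2, hz_5_3, hz_5_4, ca_5_5] at h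
              have h2 : T.w x1 * (1 * T.m x2 + -2 * T.m x5) = 0 := by linarith only [h]
              rcases mul_eq_zero.mp h2 with h3 | h3
              · exact absurd h3 (hwp _).ne'
              · exact h3
            have cmu_0 : T.m x0 = 2 * T.m x1 := by linarith only [hm_0, hm_1, hm_2, hm_3, hm_4, hm_5]
            have cmu_1 : T.m x1 = T.m x1 := rfl
            have cmu_2 : T.m x2 = 2 * T.m x1 := by linarith only [hm_0, hm_1, hm_2, hm_3, hm_4, hm_5]
            have cmu_3 : T.m x3 = T.m x1 := by linarith only [hm_0, hm_1, hm_2, hm_3, hm_4, hm_5]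
            have cmu_4 : T.m x4 = T.m x1 := by linarith only [hm_0, hm_1, hm_2, hm_3, hm_4, hm_5]
            have cmu_5 : T.m x5 = T.m x1 := by linarith only [hm_0, hm_1, hm_2, hm_3, hm_4, hm_5]
            have hinjσ : Function.Injective ![x1, x3, x0, x2, x4, x5] := NT.inj6 _ _ _ _ _ _ hne_1_3 hne_0_1.symm hne_1_2 hne_1_4 hne_1_5 hne_0_3.symm hne_2_3.symm hne_3_4 hne_3_5 hne_0_2 hne_0_4 hne_0_5 hne_2_4 hne_2_5 hne_4_5
            exact ⟨Equiv.ofBijective ![x1, x3, x0, x2, x4, x5] ⟨hinjσ, Finite.surjective_of_injective hinjσ⟩, T.m x1, T.w x1, Or.inr (Or.inr (Or.inr (Or.inr (Or.inr (Or.inr (⟨cmu_1, cmu_3, cmu_0, cmu_2, cmu_4, cmu_5, cw_1, cw_3, cw_0, cw_2, cw_4, cw_5, ca_1_1, hz_1_3, ca_1_0, hz_1_2, hz_1_4, hz_1_5, ca_3_3, ca_3_0, hz_3_2, hz_3_4, hz_3_5, ca_0_0, ca_0_2, hz_0_4, hz_0_5, ca_2_2, ca_2_4, ca_2_5, ca_4_4, hz_4_5, ca_5_5⟩))))))⟩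
          · by_cases hq_1 : ∃ y, (y ≠ x0 ∧ y ≠ x1 ∧ y ≠ x2 ∧ y ≠ x3 ∧ y ≠ x4) ∧ T.a x1 y ≠ 0
            · obtain ⟨x5, ⟨hn0, hn1, hn2, hn3, hn4⟩, hadj_1_5⟩ := hq_1
              have hne_0_5 : x0 ≠ x5 := hn0.symm
              have hne_1_5 : x1 ≠ x5 := hn1.symm
              have hne_2_5 : x2 ≠ x5 := hn2.symm
              have hne_3_5 : x3 ≠ x5 := hn3.symm
              have hne_4_5 : x4 ≠ x5 := hn4.symm
              have hadj_5_1 : T.a x5 x1 ≠ 0 := by rw [hsym]; exact hadj_1_5
              have hl_1_5 := NT.lb1 T _ _ hne_1_5 hadj_1_5
              have hl_5_1 := NT.lb1 T _ _ hne_1_5.symm hadj_5_1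
              have hs_1_5 : T.a x1 x5 = T.a x5 x1 := hsym _ _
              have hz_0_5 : T.a x0 x5 = 0 := by
                by_contra hadj_0_5
                have hadj_5_0 : T.a x5 x0 ≠ 0 := by rw [hsym]; exact hadj_0_5
                have hl_0_5 := NT.lb1 T _ _ hne_0_5 hadj_0_5
                have hl_5_0 := NT.lb1 T _ _ hne_0_5.symm hadj_5_0
                have hs_0_5 : T.a x0 x5 = T.a x5 x0 := hsym _ _
                refine NT.cert3 T x0 x1 x5 hne_0_1 hne_0_5 hne_1_5 (by norm_num) 1 1 1 (by norm_num) (by norm_num) (by norm_num) ?_ ?_ ?_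
                · linarith only [hd x0, hwp x0, hl_0_1, hl_0_5]
                · linarith only [hd x1, hwp x1, hl_1_0, hl_1_5]
                · linarith only [hd x5, hwp x5, hl_5_0, hl_5_1]
              have hz_5_0 : T.a x5 x0 = 0 := by rw [hsym]; exact hz_0_5
              have hz_2_5 : T.a x2 x5 = 0 := by
                by_contra h
                exact hq_2 ⟨x5, ⟨hne_0_5.symm, hne_1_5.symm, hne_2_5.symm, hne_3_5.symm, hne_4_5.symm⟩, h⟩
              have hz_5_2 : T.a x5 x2 = 0 := by rw [hsym]; exact hz_2_5
              have hz_3_5 : T.a x3 x5 = 0 := by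
                by_contra h
                exact hq_3 ⟨x5, ⟨hne_0_5.symm, hne_1_5.symm, hne_2_5.symm, hne_3_5.symm⟩, h⟩
              have hz_5_3 : T.a x5 x3 = 0 := by rw [hsym]; exact hz_3_5
              have hz_4_5 : T.a x4 x5 = 0 := by
                by_contra h
                exact hq_4 ⟨x5, ⟨hne_0_5.symm, hne_1_5.symm, hne_2_5.symm, hne_3_5.symm, hne_4_5.symm⟩, h⟩
              have hz_5_4 : T.a x5 x4 = 0 := by rw [hsym]; exact hz_4_5
              have hinj : Function.Injective ![x0, x1, x2, x3, x4, x5] := NT.inj6 _ _ _ _ _ _ hne_0_1 hne_0_2 hne_0_3 hne_0_4 hne_0_5 hne_1_2 hne_1_3 hne_1_4 hne_1_5 hne_2_3 hne_2_4 hne_2_5 hne_3_4 hne_3_5 hne_4_5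
              have hrow_0 : T.a x0 x0 * T.m x0 + T.a x0 x1 * T.m x1 + T.a x0 x2 * T.m x2 + T.a x0 x3 * T.m x3 + T.a x0 x4 * T.m x4 + T.a x0 x5 * T.m x5 = 0 := by
                have h := NT.row_fun T _ hinj (0 : Fin 6)
                rw [Fin.sum_univ_six] at h
                exact h
              have hrow_1 : T.a x1 x0 * T.m x0 + T.a x1 x1 * T.m x1 + T.a x1 x2 * T.m x2 + T.a x1 x3 * T.m x3 + T.a x1 x4 * T.m x4 + T.a x1 x5 * T.m x5 = 0 := by
                have h := NT.row_fun T _ hinj (1 : Fin 6)
                rw [Fin.sum_univ_six] at h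
                exact h
              have hrow_2 : T.a x2 x0 * T.m x0 + T.a x2 x1 * T.m x1 + T.a x2 x2 * T.m x2 + T.a x2 x3 * T.m x3 + T.a x2 x4 * T.m x4 + T.a x2 x5 * T.m x5 = 0 := by
                have h := NT.row_fun T _ hinj (2 : Fin 6)
                rw [Fin.sum_univ_six] at h
                exact h
              have hrow_3 : T.a x3 x0 * T.m x0 + T.a x3 x1 * T.m x1 + T.a x3 x2 * T.m x2 + T.a x3 x3 * T.m x3 + T.a x3 x4 * T.m x4 + T.a x3 x5 * T.m x5 = 0 := by
                have h := NT.row_fun T _ hinj (3 : Fin 6)
                rw [Fin.sum_univ_six] at h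
                exact h
              have hrow_4 : T.a x4 x0 * T.m x0 + T.a x4 x1 * T.m x1 + T.a x4 x2 * T.m x2 + T.a x4 x3 * T.m x3 + T.a x4 x4 * T.m x4 + T.a x4 x5 * T.m x5 = 0 := by
                have h := NT.row_fun T _ hinj (4 : Fin 6)
                rw [Fin.sum_univ_six] at h
                exact h
              have hrow_5 : T.a x5 x0 * T.m x0 + T.a x5 x1 * T.m x1 + T.a x5 x2 * T.m x2 + T.a x5 x3 * T.m x3 + T.a x5 x4 * T.m x4 + T.a x5 x5 * T.m x5 = 0 := by
                have h := NT.row_fun T _ hinj (5 : Fin 6)
                rw [Fin.sum_univ_six] at h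
                exact h
              rcases NT.edge3 T x0 x1 hne_0_1 hadj_0_1 with hx_0_1 | hx_0_1 | hx_0_1
              · rcases NT.edge3 T x1 x0 hne_0_1.symm hadj_1_0 with hx_1_0 | hx_1_0 | hx_1_0
                · rcases NT.edge3 T x0 x2 hne_0_2 hadj_0_2 with hx_0_2 | hx_0_2 | hx_0_2
                  · rcases NT.edge3 T x2 x0 hne_0_2.symm hadj_2_0 with hx_2_0 | hx_2_0 | hx_2_0
                    · rcases NT.edge3 T x0 x3 hne_0_3 hadj_0_3 with hx_0_3 | hx_0_3 | hx_0_3
                      · rcases NT.edge3 T x3 x0 hne_0_3.symm hadj_3_0 with hx_3_0 | hx_3_0 | hx_3_0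
                        · rcases NT.edge3 T x2 x4 hne_2_4 hadj_2_4 with hx_2_4 | hx_2_4 | hx_2_4
                          · rcases NT.edge3 T x4 x2 hne_2_4.symm hadj_4_2 with hx_4_2 | hx_4_2 | hx_4_2
                            · rcases NT.edge3 T x1 x5 hne_1_5 hadj_1_5 with hx_1_5 | hx_1_5 | hx_1_5
                              · rcases NT.edge3 T x5 x1 hne_1_5.symm hadj_5_1 with hx_5_1 | hx_5_1 | hx_5_1
                                · have cw_0 : T.w x0 = T.w x0 := rfl
                                  have cw_1 : T.w x1 = T.w x0 := by linarith only [cw_0, hx_0_1, hx_1_0, hs_0_1]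
                                  have cw_2 : T.w x2 = T.w x0 := by linarith only [cw_0, hx_0_2, hx_2_0, hs_0_2]
                                  have cw_3 : T.w x3 = T.w x0 := by linarith only [cw_0, hx_0_3, hx_3_0, hs_0_3]
                                  have cw_4 : T.w x4 = T.w x0 := by linarith only [cw_2, hx_2_4, hx_4_2, hs_2_4]
                                  have cw_5 : T.w x5 = T.w x0 := by linarith only [cw_1, hx_1_5, hx_5_1, hs_1_5]
                                  have ca_0_0 : T.a x0 x0 = -2 * T.w x0 := by linarith only [hd x0, cw_0]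
                                  have ca_0_1 : T.a x0 x1 = T.w x0 := by linarith only [hx_0_1, cw_0]
                                  have ca_0_2 : T.a x0 x2 = T.w x0 := by linarith only [hx_0_2, cw_0]
                                  have ca_0_3 : T.a x0 x3 = T.w x0 := by linarith only [hx_0_3, cw_0]
                                  have ca_1_0 : T.a x1 x0 = T.w x0 := by linarith only [hx_1_0, cw_1]
                                  have ca_1_1 : T.a x1 x1 = -2 * T.w x0 := by linarith only [hd x1, cw_1]
                                  have ca_1_5 : T.a x1 x5 = T.w x0 := by linarith only [hx_1_5, cw_1]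
                                  have ca_2_0 : T.a x2 x0 = T.w x0 := by linarith only [hx_2_0, cw_2]
                                  have ca_2_2 : T.a x2 x2 = -2 * T.w x0 := by linarith only [hd x2, cw_2]
                                  have ca_2_4 : T.a x2 x4 = T.w x0 := by linarith only [hx_2_4, cw_2]
                                  have ca_3_0 : T.a x3 x0 = T.w x0 := by linarith only [hx_3_0, cw_3]
                                  have ca_3_3 : T.a x3 x3 = -2 * T.w x0 := by linarith only [hd x3, cw_3]
                                  have ca_4_2 : T.a x4 x2 = T.w x0 := by linarith only [hx_4_2, cw_4]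
                                  have ca_4_4 : T.a x4 x4 = -2 * T.w x0 := by linarith only [hd x4, cw_4]
                                  have ca_5_1 : T.a x5 x1 = T.w x0 := by linarith only [hx_5_1, cw_5]
                                  have ca_5_5 : T.a x5 x5 = -2 * T.w x0 := by linarith only [hd x5, cw_5]
                                  have hm_0 : -2 * T.m x0 + 1 * T.m x1 + 1 * T.m x2 + 1 * T.m x3 = 0 := by
                                    have h := hrow_0
                                    rw [ca_0_0, ca_0_1, ca_0_2, ca_0_3, hz_0_4, hz_0_5] at h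
                                    have h2 : T.w x0 * (-2 * T.m x0 + 1 * T.m x1 + 1 * T.m x2 + 1 * T.m x3) = 0 := by linarith only [h]
                                    rcases mul_eq_zero.mp h2 with h3 | h3
                                    · exact absurd h3 (hwp _).ne'
                                    · exact h3
                                  have hm_1 : 1 * T.m x0 + -2 * T.m x1 + 1 * T.m x5 = 0 := by
                                    have h := hrow_1
                                    rw [ca_1_0, ca_1_1, hz_1_2, hz_1_3, hz_1_4, ca_1_5] at h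
                                    have h2 : T.w x0 * (1 * T.m x0 + -2 * T.m x1 + 1 * T.m x5) = 0 := by linarith only [h]
                                    rcases mul_eq_zero.mp h2 with h3 | h3
                                    · exact absurd h3 (hwp _).ne'
                                    · exact h3
                                  have hm_2 : 1 * T.m x0 + -2 * T.m x2 + 1 * T.m x4 = 0 := by
                                    have h := hrow_2
                                    rw [ca_2_0, hz_2_1, ca_2_2, hz_2_3, ca_2_4, hz_2_5] at h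
                                    have h2 : T.w x0 * (1 * T.m x0 + -2 * T.m x2 + 1 * T.m x4) = 0 := by linarith only [h]
                                    rcases mul_eq_zero.mp h2 with h3 | h3
                                    · exact absurd h3 (hwp _).ne'
                                    · exact h3
                                  have hm_3 : 1 * T.m x0 + -2 * T.m x3 = 0 := by
                                    have h := hrow_3
                                    rw [ca_3_0, hz_3_1, hz_3_2, ca_3_3, hz_3_4, hz_3_5] at h
                                    have h2 : T.w x0 * (1 * T.m x0 + -2 * T.m x3) = 0 := by linarith only [h]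
                                    rcases mul_eq_zero.mp h2 with h3 | h3
                                    · exact absurd h3 (hwp _).ne'
                                    · exact h3
                                  have hm_4 : 1 * T.m x2 + -2 * T.m x4 = 0 := by
                                    have h := hrow_4
                                    rw [hz_4_0, hz_4_1, ca_4_2, hz_4_3, ca_4_4, hz_4_5] at h
                                    have h2 : T.w x0 * (1 * T.m x2 + -2 * T.m x4) = 0 := by linarith only [h]
                                    rcases mul_eq_zero.mp h2 with h3 | h3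
                                    · exact absurd h3 (hwp _).ne'
                                    · exact h3
                                  have hm_5 : 1 * T.m x1 + -2 * T.m x5 = 0 := by
                                    have h := hrow_5
                                    rw [hz_5_0, ca_5_1, hz_5_2, hz_5_3, hz_5_4, ca_5_5] at h
                                    have h2 : T.w x0 * (1 * T.m x1 + -2 * T.m x5) = 0 := by linarith only [h]
                                    rcases mul_eq_zero.mp h2 with h3 | h3
                                    · exact absurd h3 (hwp _).ne'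
                                    · exact h3
                                  exfalso
                                  linarith only [hm_0, hm_1, hm_2, hm_3, hm_4, hm_5, hmp x0, hmp x1, hmp x2, hmp x3, hmp x4, hmp x5]
                                · exfalso
                                  refine NT.cert5 T x0 x1 x2 x3 x5 hne_0_1 hne_0_2 hne_0_3 hne_0_5 hne_1_2 hne_1_3 hne_1_5 hne_2_3 hne_2_5 hne_3_5 (by norm_num) 2 2 1 1 2 (by norm_num) (by norm_num) (by norm_num) (by norm_num) (by norm_num) ?_ ?_ ?_ ?_ ?_
                                  · linarith only [hd x0, hwp x0, hx_0_1.ge, hx_0_2.ge, hx_0_3.ge, hnn x0 x5 hne_0_5]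
                                  · linarith only [hd x1, hwp x1, hx_1_0.ge, hnn x1 x2 hne_1_2, hnn x1 x3 hne_1_3, hx_1_5.ge]
                                  · linarith only [hd x2, hwp x2, hx_2_0.ge, hnn x2 x1 hne_1_2.symm, hnn x2 x3 hne_2_3, hnn x2 x5 hne_2_5]
                                  · linarith only [hd x3, hwp x3, hx_3_0.ge, hnn x3 x1 hne_1_3.symm, hnn x3 x2 hne_2_3.symm, hnn x3 x5 hne_3_5]
                                  · linarith only [hd x5, hwp x5, hnn x5 x0 hne_0_5.symm, hx_5_1.ge, hnn x5 x2 hne_2_5.symm, hnn x5 x3 hne_3_5.symm]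
                                · exfalso
                                  refine NT.cert3 T x0 x1 x5 hne_0_1 hne_0_5 hne_1_5 (by norm_num) 1 2 3 (by norm_num) (by norm_num) (by norm_num) ?_ ?_ ?_
                                  · linarith only [hd x0, hwp x0, hx_0_1.ge, hnn x0 x5 hne_0_5]
                                  · linarith only [hd x1, hwp x1, hx_1_0.ge, hx_1_5.ge]
                                  · linarith only [hd x5, hwp x5, hnn x5 x0 hne_0_5.symm, hx_5_1]
                              · exfalso
                                refine NT.cert5 T x0 x1 x2 x3 x5 hne_0_1 hne_0_2 hne_0_3 hne_0_5 hne_1_2 hne_1_3 hne_1_5 hne_2_3 hne_2_5 hne_3_5 (by norm_num) 2 2 1 1 1 (by norm_num) (by norm_num) (by norm_num) (by norm_num) (by norm_num) ?_ ?_ ?_ ?_ ?_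
                                · linarith only [hd x0, hwp x0, hx_0_1.ge, hx_0_2.ge, hx_0_3.ge, hnn x0 x5 hne_0_5]
                                · linarith only [hd x1, hwp x1, hx_1_0.ge, hnn x1 x2 hne_1_2, hnn x1 x3 hne_1_3, hx_1_5.ge]
                                · linarith only [hd x2, hwp x2, hx_2_0.ge, hnn x2 x1 hne_1_2.symm, hnn x2 x3 hne_2_3, hnn x2 x5 hne_2_5]
                                · linarith only [hd x3, hwp x3, hx_3_0.ge, hnn x3 x1 hne_1_3.symm, hnn x3 x2 hne_2_3.symm, hnn x3 x5 hne_3_5]
                                · linarith only [hd x5, hwp x5, hnn x5 x0 hne_0_5.symm, hl_5_1, hnn x5 x2 hne_2_5.symm, hnn x5 x3 hne_3_5.symm]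
                              · exfalso
                                refine NT.cert3 T x0 x1 x5 hne_0_1 hne_0_5 hne_1_5 (by norm_num) 1 2 1 (by norm_num) (by norm_num) (by norm_num) ?_ ?_ ?_
                                · linarith only [hd x0, hwp x0, hx_0_1.ge, hnn x0 x5 hne_0_5]
                                · linarith only [hd x1, hwp x1, hx_1_0.ge, hx_1_5]
                                · linarith only [hd x5, hwp x5, hnn x5 x0 hne_0_5.symm, hl_5_1]
                            · exfalso
                              refine NT.cert5 T x0 x1 x2 x3 x4 hne_0_1 hne_0_2 hne_0_3 hne_0_4 hne_1_2 hne_1_3 hne_1_4 hne_2_3 hne_2_4 hne_3_4 (by norm_num) 2 1 2 1 2 (by norm_num) (by norm_num) (by norm_num) (by norm_num) (by norm_num) ?_ ?_ ?_ ?_ ?_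
                              · linarith only [hd x0, hwp x0, hx_0_1.ge, hx_0_2.ge, hx_0_3.ge, hnn x0 x4 hne_0_4]
                              · linarith only [hd x1, hwp x1, hx_1_0.ge, hnn x1 x2 hne_1_2, hnn x1 x3 hne_1_3, hnn x1 x4 hne_1_4]
                              · linarith only [hd x2, hwp x2, hx_2_0.ge, hnn x2 x1 hne_1_2.symm, hnn x2 x3 hne_2_3, hx_2_4.ge]
                              · linarith only [hd x3, hwp x3, hx_3_0.ge, hnn x3 x1 hne_1_3.symm, hnn x3 x2 hne_2_3.symm, hnn x3 x4 hne_3_4]
                              · linarith only [hd x4, hwp x4, hnn x4 x0 hne_0_4.symm, hnn x4 x1 hne_1_4.symm, hx_4_2.ge, hnn x4 x3 hne_3_4.symm]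
                            · exfalso
                              refine NT.cert3 T x0 x2 x4 hne_0_2 hne_0_4 hne_2_4 (by norm_num) 1 2 3 (by norm_num) (by norm_num) (by norm_num) ?_ ?_ ?_
                              · linarith only [hd x0, hwp x0, hx_0_2.ge, hnn x0 x4 hne_0_4]
                              · linarith only [hd x2, hwp x2, hx_2_0.ge, hx_2_4.ge]
                              · linarith only [hd x4, hwp x4, hnn x4 x0 hne_0_4.symm, hx_4_2]
                          · exfalso
                            refine NT.cert5 T x0 x1 x2 x3 x4 hne_0_1 hne_0_2 hne_0_3 hne_0_4 hne_1_2 hne_1_3 hne_1_4 hne_2_3 hne_2_4 hne_3_4 (by norm_num) 2 1 2 1 1 (by norm_num) (by norm_num) (by norm_num) (by norm_num) (by norm_num) ?_ ?_ ?_ ?_ ?_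
                            · linarith only [hd x0, hwp x0, hx_0_1.ge, hx_0_2.ge, hx_0_3.ge, hnn x0 x4 hne_0_4]
                            · linarith only [hd x1, hwp x1, hx_1_0.ge, hnn x1 x2 hne_1_2, hnn x1 x3 hne_1_3, hnn x1 x4 hne_1_4]
                            · linarith only [hd x2, hwp x2, hx_2_0.ge, hnn x2 x1 hne_1_2.symm, hnn x2 x3 hne_2_3, hx_2_4.ge]
                            · linarith only [hd x3, hwp x3, hx_3_0.ge, hnn x3 x1 hne_1_3.symm, hnn x3 x2 hne_2_3.symm, hnn x3 x4 hne_3_4]
                            · linarith only [hd x4, hwp x4, hnn x4 x0 hne_0_4.symm, hnn x4 x1 hne_1_4.symm, hl_4_2, hnn x4 x3 hne_3_4.symm]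
                          · exfalso
                            refine NT.cert3 T x0 x2 x4 hne_0_2 hne_0_4 hne_2_4 (by norm_num) 1 2 1 (by norm_num) (by norm_num) (by norm_num) ?_ ?_ ?_
                            · linarith only [hd x0, hwp x0, hx_0_2.ge, hnn x0 x4 hne_0_4]
                            · linarith only [hd x2, hwp x2, hx_2_0.ge, hx_2_4]
                            · linarith only [hd x4, hwp x4, hnn x4 x0 hne_0_4.symm, hl_4_2]
                        · exfalso
                          refine NT.cert4 T x0 x1 x2 x3 hne_0_1 hne_0_2 hne_0_3 hne_1_2 hne_1_3 hne_2_3 (by norm_num) 2 1 1 2 (by norm_num) (by norm_num) (by norm_num) (by norm_num) ?_ ?_ ?_ ?_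
                          · linarith only [hd x0, hwp x0, hx_0_1.ge, hx_0_2.ge, hx_0_3.ge]
                          · linarith only [hd x1, hwp x1, hx_1_0.ge, hnn x1 x2 hne_1_2, hnn x1 x3 hne_1_3]
                          · linarith only [hd x2, hwp x2, hx_2_0.ge, hnn x2 x1 hne_1_2.symm, hnn x2 x3 hne_2_3]
                          · linarith only [hd x3, hwp x3, hx_3_0.ge, hnn x3 x1 hne_1_3.symm, hnn x3 x2 hne_2_3.symm]
                        · exfalso
                          refine NT.cert3 T x0 x1 x3 hne_0_1 hne_0_3 hne_1_3 (by norm_num) 2 1 3 (by norm_num) (by norm_num) (by norm_num) ?_ ?_ ?_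
                          · linarith only [hd x0, hwp x0, hx_0_1.ge, hx_0_3.ge]
                          · linarith only [hd x1, hwp x1, hx_1_0.ge, hnn x1 x3 hne_1_3]
                          · linarith only [hd x3, hwp x3, hx_3_0, hnn x3 x1 hne_1_3.symm]
                      · exfalso
                        refine NT.cert4 T x0 x1 x2 x3 hne_0_1 hne_0_2 hne_0_3 hne_1_2 hne_1_3 hne_2_3 (by norm_num) 2 1 1 1 (by norm_num) (by norm_num) (by norm_num) (by norm_num) ?_ ?_ ?_ ?_
                        · linarith only [hd x0, hwp x0, hx_0_1.ge, hx_0_2.ge, hx_0_3.ge]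
                        · linarith only [hd x1, hwp x1, hx_1_0.ge, hnn x1 x2 hne_1_2, hnn x1 x3 hne_1_3]
                        · linarith only [hd x2, hwp x2, hx_2_0.ge, hnn x2 x1 hne_1_2.symm, hnn x2 x3 hne_2_3]
                        · linarith only [hd x3, hwp x3, hl_3_0, hnn x3 x1 hne_1_3.symm, hnn x3 x2 hne_2_3.symm]
                      · exfalso
                        refine NT.cert3 T x0 x1 x3 hne_0_1 hne_0_3 hne_1_3 (by norm_num) 2 1 1 (by norm_num) (by norm_num) (by norm_num) ?_ ?_ ?_
                        · linarith only [hd x0, hwp x0, hx_0_1.ge, hx_0_3]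
                        · linarith only [hd x1, hwp x1, hx_1_0.ge, hnn x1 x3 hne_1_3]
                        · linarith only [hd x3, hwp x3, hl_3_0, hnn x3 x1 hne_1_3.symm]
                    · exfalso
                      refine NT.cert4 T x0 x1 x2 x3 hne_0_1 hne_0_2 hne_0_3 hne_1_2 hne_1_3 hne_2_3 (by norm_num) 2 1 2 1 (by norm_num) (by norm_num) (by norm_num) (by norm_num) ?_ ?_ ?_ ?_
                      · linarith only [hd x0, hwp x0, hx_0_1.ge, hx_0_2.ge, hl_0_3]
                      · linarith only [hd x1, hwp x1, hx_1_0.ge, hnn x1 x2 hne_1_2, hnn x1 x3 hne_1_3]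
                      · linarith only [hd x2, hwp x2, hx_2_0.ge, hnn x2 x1 hne_1_2.symm, hnn x2 x3 hne_2_3]
                      · linarith only [hd x3, hwp x3, hl_3_0, hnn x3 x1 hne_1_3.symm, hnn x3 x2 hne_2_3.symm]
                    · exfalso
                      refine NT.cert3 T x0 x1 x2 hne_0_1 hne_0_2 hne_1_2 (by norm_num) 2 1 3 (by norm_num) (by norm_num) (by norm_num) ?_ ?_ ?_
                      · linarith only [hd x0, hwp x0, hx_0_1.ge, hx_0_2.ge]
                      · linarith only [hd x1, hwp x1, hx_1_0.ge, hnn x1 x2 hne_1_2]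
                      · linarith only [hd x2, hwp x2, hx_2_0, hnn x2 x1 hne_1_2.symm]
                  · exfalso
                    refine NT.cert4 T x0 x1 x2 x3 hne_0_1 hne_0_2 hne_0_3 hne_1_2 hne_1_3 hne_2_3 (by norm_num) 2 1 1 1 (by norm_num) (by norm_num) (by norm_num) (by norm_num) ?_ ?_ ?_ ?_
                    · linarith only [hd x0, hwp x0, hx_0_1.ge, hx_0_2.ge, hl_0_3]
                    · linarith only [hd x1, hwp x1, hx_1_0.ge, hnn x1 x2 hne_1_2, hnn x1 x3 hne_1_3]
                    · linarith only [hd x2, hwp x2, hl_2_0, hnn x2 x1 hne_1_2.symm, hnn x2 x3 hne_2_3]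
                    · linarith only [hd x3, hwp x3, hl_3_0, hnn x3 x1 hne_1_3.symm, hnn x3 x2 hne_2_3.symm]
                  · exfalso
                    refine NT.cert3 T x0 x1 x2 hne_0_1 hne_0_2 hne_1_2 (by norm_num) 2 1 1 (by norm_num) (by norm_num) (by norm_num) ?_ ?_ ?_
                    · linarith only [hd x0, hwp x0, hx_0_1.ge, hx_0_2]
                    · linarith only [hd x1, hwp x1, hx_1_0.ge, hnn x1 x2 hne_1_2]
                    · linarith only [hd x2, hwp x2, hl_2_0, hnn x2 x1 hne_1_2.symm]
                · exfalso
                  refine NT.cert4 T x0 x1 x2 x3 hne_0_1 hne_0_2 hne_0_3 hne_1_2 hne_1_3 hne_2_3 (by norm_num) 2 2 1 1 (by norm_num) (by norm_num) (by norm_num) (by norm_num) ?_ ?_ ?_ ?_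
                  · linarith only [hd x0, hwp x0, hx_0_1.ge, hl_0_2, hl_0_3]
                  · linarith only [hd x1, hwp x1, hx_1_0.ge, hnn x1 x2 hne_1_2, hnn x1 x3 hne_1_3]
                  · linarith only [hd x2, hwp x2, hl_2_0, hnn x2 x1 hne_1_2.symm, hnn x2 x3 hne_2_3]
                  · linarith only [hd x3, hwp x3, hl_3_0, hnn x3 x1 hne_1_3.symm, hnn x3 x2 hne_2_3.symm]
                · exfalso
                  refine NT.cert3 T x0 x1 x2 hne_0_1 hne_0_2 hne_1_2 (by norm_num) 2 3 1 (by norm_num) (by norm_num) (by norm_num) ?_ ?_ ?_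
                  · linarith only [hd x0, hwp x0, hx_0_1.ge, hl_0_2]
                  · linarith only [hd x1, hwp x1, hx_1_0, hnn x1 x2 hne_1_2]
                  · linarith only [hd x2, hwp x2, hl_2_0, hnn x2 x1 hne_1_2.symm]
              · exfalso
                refine NT.cert4 T x0 x1 x2 x3 hne_0_1 hne_0_2 hne_0_3 hne_1_2 hne_1_3 hne_2_3 (by norm_num) 2 1 1 1 (by norm_num) (by norm_num) (by norm_num) (by norm_num) ?_ ?_ ?_ ?_
                · linarith only [hd x0, hwp x0, hx_0_1.ge, hl_0_2, hl_0_3]
                · linarith only [hd x1, hwp x1, hl_1_0, hnn x1 x2 hne_1_2, hnn x1 x3 hne_1_3]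
                · linarith only [hd x2, hwp x2, hl_2_0, hnn x2 x1 hne_1_2.symm, hnn x2 x3 hne_2_3]
                · linarith only [hd x3, hwp x3, hl_3_0, hnn x3 x1 hne_1_3.symm, hnn x3 x2 hne_2_3.symm]
              · exfalso
                refine NT.cert3 T x0 x1 x2 hne_0_1 hne_0_2 hne_1_2 (by norm_num) 2 1 1 (by norm_num) (by norm_num) (by norm_num) ?_ ?_ ?_
                · linarith only [hd x0, hwp x0, hx_0_1, hl_0_2]
                · linarith only [hd x1, hwp x1, hl_1_0, hnn x1 x2 hne_1_2]
                · linarith only [hd x2, hwp x2, hl_2_0, hnn x2 x1 hne_1_2.symm]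
            · by_cases hq_0 : ∃ y, (y ≠ x0 ∧ y ≠ x1 ∧ y ≠ x2 ∧ y ≠ x3 ∧ y ≠ x4) ∧ T.a x0 y ≠ 0
              · obtain ⟨x5, ⟨hn0, hn1, hn2, hn3, hn4⟩, hadj_0_5⟩ := hq_0
                have hne_0_5 : x0 ≠ x5 := hn0.symm
                have hne_1_5 : x1 ≠ x5 := hn1.symm
                have hne_2_5 : x2 ≠ x5 := hn2.symm
                have hne_3_5 : x3 ≠ x5 := hn3.symm
                have hne_4_5 : x4 ≠ x5 := hn4.symm
                have hadj_5_0 : T.a x5 x0 ≠ 0 := by rw [hsym]; exact hadj_0_5
                have hl_0_5 := NT.lb1 T _ _ hne_0_5 hadj_0_5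
                have hl_5_0 := NT.lb1 T _ _ hne_0_5.symm hadj_5_0
                have hs_0_5 : T.a x0 x5 = T.a x5 x0 := hsym _ _
                have hz_1_5 : T.a x1 x5 = 0 := by
                  by_contra h
                  exact hq_1 ⟨x5, ⟨hne_0_5.symm, hne_1_5.symm, hne_2_5.symm, hne_3_5.symm, hne_4_5.symm⟩, h⟩
                have hz_5_1 : T.a x5 x1 = 0 := by rw [hsym]; exact hz_1_5
                have hz_2_5 : T.a x2 x5 = 0 := by
                  by_contra h
                  exact hq_2 ⟨x5, ⟨hne_0_5.symm, hne_1_5.symm, hne_2_5.symm, hne_3_5.symm, hne_4_5.symm⟩, h⟩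
                have hz_5_2 : T.a x5 x2 = 0 := by rw [hsym]; exact hz_2_5
                have hz_3_5 : T.a x3 x5 = 0 := by
                  by_contra h
                  exact hq_3 ⟨x5, ⟨hne_0_5.symm, hne_1_5.symm, hne_2_5.symm, hne_3_5.symm⟩, h⟩
                have hz_5_3 : T.a x5 x3 = 0 := by rw [hsym]; exact hz_3_5
                have hz_4_5 : T.a x4 x5 = 0 := by
                  by_contra h
                  exact hq_4 ⟨x5, ⟨hne_0_5.symm, hne_1_5.symm, hne_2_5.symm, hne_3_5.symm, hne_4_5.symm⟩, h⟩
                have hz_5_4 : T.a x5 x4 = 0 := by rw [hsym]; exact hz_4_5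
                exfalso
                refine NT.cert5 T x0 x1 x2 x3 x5 hne_0_1 hne_0_2 hne_0_3 hne_0_5 hne_1_2 hne_1_3 hne_1_5 hne_2_3 hne_2_5 hne_3_5 (by norm_num) 2 1 1 1 1 (by norm_num) (by norm_num) (by norm_num) (by norm_num) (by norm_num) ?_ ?_ ?_ ?_ ?_
                · linarith only [hd x0, hwp x0, hl_0_1, hl_0_2, hl_0_3, hl_0_5]
                · linarith only [hd x1, hwp x1, hl_1_0, hnn x1 x2 hne_1_2, hnn x1 x3 hne_1_3, hnn x1 x5 hne_1_5]
                · linarith only [hd x2, hwp x2, hl_2_0, hnn x2 x1 hne_1_2.symm, hnn x2 x3 hne_2_3, hnn x2 x5 hne_2_5]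
                · linarith only [hd x3, hwp x3, hl_3_0, hnn x3 x1 hne_1_3.symm, hnn x3 x2 hne_2_3.symm, hnn x3 x5 hne_3_5]
                · linarith only [hd x5, hwp x5, hl_5_0, hnn x5 x1 hne_1_5.symm, hnn x5 x2 hne_2_5.symm, hnn x5 x3 hne_3_5.symm]
              · exfalso
                refine NT.not_closed T ![x0, x1, x2, x3, x4] (by norm_num) (by norm_num) ?_
                intro s y hy
                by_contra hcon
                fin_cases s
                · exact hq_0 ⟨y, ⟨fun h => hcon ⟨(0 : Fin 5), h⟩, fun h => hcon ⟨(1 : Fin 5), h⟩, fun h => hcon ⟨(2 : Fin 5), h⟩, fun h => hcon ⟨(3 : Fin 5), h⟩, fun h => hcon ⟨(4 : Fin 5), h⟩⟩, hy⟩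
                · exact hq_1 ⟨y, ⟨fun h => hcon ⟨(0 : Fin 5), h⟩, fun h => hcon ⟨(1 : Fin 5), h⟩, fun h => hcon ⟨(2 : Fin 5), h⟩, fun h => hcon ⟨(3 : Fin 5), h⟩, fun h => hcon ⟨(4 : Fin 5), h⟩⟩, hy⟩
                · exact hq_2 ⟨y, ⟨fun h => hcon ⟨(0 : Fin 5), h⟩, fun h => hcon ⟨(1 : Fin 5), h⟩, fun h => hcon ⟨(2 : Fin 5), h⟩, fun h => hcon ⟨(3 : Fin 5), h⟩, fun h => hcon ⟨(4 : Fin 5), h⟩⟩, hy⟩
                · exact hq_3 ⟨y, ⟨fun h => hcon ⟨(0 : Fin 5), h⟩, fun h => hcon ⟨(1 : Fin 5), h⟩, fun h => hcon ⟨(2 : Fin 5), h⟩, fun h => hcon ⟨(3 : Fin 5), h⟩⟩, hy⟩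
                · exact hq_4 ⟨y, ⟨fun h => hcon ⟨(0 : Fin 5), h⟩, fun h => hcon ⟨(1 : Fin 5), h⟩, fun h => hcon ⟨(2 : Fin 5), h⟩, fun h => hcon ⟨(3 : Fin 5), h⟩, fun h => hcon ⟨(4 : Fin 5), h⟩⟩, hy⟩
      · by_cases hq_1 : ∃ y, (y ≠ x0 ∧ y ≠ x1 ∧ y ≠ x2 ∧ y ≠ x3) ∧ T.a x1 y ≠ 0
        · obtain ⟨x4, ⟨hn0, hn1, hn2, hn3⟩, hadj_1_4⟩ := hq_1
          have hne_0_4 : x0 ≠ x4 := hn0.symm
          have hne_1_4 : x1 ≠ x4 := hn1.symm
          have hne_2_4 : x2 ≠ x4 := hn2.symm
          have hne_3_4 : x3 ≠ x4 := hn3.symm
          have hadj_4_1 : T.a x4 x1 ≠ 0 := by rw [hsym]; exact hadj_1_4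
          have hl_1_4 := NT.lb1 T _ _ hne_1_4 hadj_1_4
          have hl_4_1 := NT.lb1 T _ _ hne_1_4.symm hadj_4_1
          have hs_1_4 : T.a x1 x4 = T.a x4 x1 := hsym _ _
          have hz_0_4 : T.a x0 x4 = 0 := by
            by_contra hadj_0_4
            have hadj_4_0 : T.a x4 x0 ≠ 0 := by rw [hsym]; exact hadj_0_4
            have hl_0_4 := NT.lb1 T _ _ hne_0_4 hadj_0_4
            have hl_4_0 := NT.lb1 T _ _ hne_0_4.symm hadj_4_0
            have hs_0_4 : T.a x0 x4 = T.a x4 x0 := hsym _ _
            refine NT.cert3 T x0 x1 x4 hne_0_1 hne_0_4 hne_1_4 (by norm_num) 1 1 1 (by norm_num) (by norm_num) (by norm_num) ?_ ?_ ?_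
            · linarith only [hd x0, hwp x0, hl_0_1, hl_0_4]
            · linarith only [hd x1, hwp x1, hl_1_0, hl_1_4]
            · linarith only [hd x4, hwp x4, hl_4_0, hl_4_1]
          have hz_4_0 : T.a x4 x0 = 0 := by rw [hsym]; exact hz_0_4
          have hz_2_4 : T.a x2 x4 = 0 := by
            by_contra h
            exact hq_2 ⟨x4, ⟨hne_0_4.symm, hne_1_4.symm, hne_2_4.symm, hne_3_4.symm⟩, h⟩
          have hz_4_2 : T.a x4 x2 = 0 := by rw [hsym]; exact hz_2_4
          have hz_3_4 : T.a x3 x4 = 0 := by
            by_contra h
            exact hq_3 ⟨x4, ⟨hne_0_4.symm, hne_1_4.symm, hne_2_4.symm, hne_3_4.symm⟩, h⟩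
          have hz_4_3 : T.a x4 x3 = 0 := by rw [hsym]; exact hz_3_4
          by_cases hq_4 : ∃ y, (y ≠ x0 ∧ y ≠ x1 ∧ y ≠ x2 ∧ y ≠ x3 ∧ y ≠ x4) ∧ T.a x4 y ≠ 0
          · obtain ⟨x5, ⟨hn0, hn1, hn2, hn3, hn4⟩, hadj_4_5⟩ := hq_4
            have hne_0_5 : x0 ≠ x5 := hn0.symm
            have hne_1_5 : x1 ≠ x5 := hn1.symm
            have hne_2_5 : x2 ≠ x5 := hn2.symm
            have hne_3_5 : x3 ≠ x5 := hn3.symm
            have hne_4_5 : x4 ≠ x5 := hn4.symm
            have hadj_5_4 : T.a x5 x4 ≠ 0 := by rw [hsym]; exact hadj_4_5
            have hl_4_5 := NT.lb1 T _ _ hne_4_5 hadj_4_5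
            have hl_5_4 := NT.lb1 T _ _ hne_4_5.symm hadj_5_4
            have hs_4_5 : T.a x4 x5 = T.a x5 x4 := hsym _ _
            have hz_0_5 : T.a x0 x5 = 0 := by
              by_contra hadj_0_5
              have hadj_5_0 : T.a x5 x0 ≠ 0 := by rw [hsym]; exact hadj_0_5
              have hl_0_5 := NT.lb1 T _ _ hne_0_5 hadj_0_5
              have hl_5_0 := NT.lb1 T _ _ hne_0_5.symm hadj_5_0
              have hs_0_5 : T.a x0 x5 = T.a x5 x0 := hsym _ _
              refine NT.cert4 T x0 x1 x4 x5 hne_0_1 hne_0_4 hne_0_5 hne_1_4 hne_1_5 hne_4_5 (by norm_num) 1 1 1 1 (by norm_num) (by norm_num) (by norm_num) (by norm_num) ?_ ?_ ?_ ?_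
              · linarith only [hd x0, hwp x0, hl_0_1, hnn x0 x4 hne_0_4, hl_0_5]
              · linarith only [hd x1, hwp x1, hl_1_0, hl_1_4, hnn x1 x5 hne_1_5]
              · linarith only [hd x4, hwp x4, hnn x4 x0 hne_0_4.symm, hl_4_1, hl_4_5]
              · linarith only [hd x5, hwp x5, hl_5_0, hnn x5 x1 hne_1_5.symm, hl_5_4]
            have hz_5_0 : T.a x5 x0 = 0 := by rw [hsym]; exact hz_0_5
            have hz_1_5 : T.a x1 x5 = 0 := by
              by_contra hadj_1_5
              have hadj_5_1 : T.a x5 x1 ≠ 0 := by rw [hsym]; exact hadj_1_5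
              have hl_1_5 := NT.lb1 T _ _ hne_1_5 hadj_1_5
              have hl_5_1 := NT.lb1 T _ _ hne_1_5.symm hadj_5_1
              have hs_1_5 : T.a x1 x5 = T.a x5 x1 := hsym _ _
              refine NT.cert3 T x1 x4 x5 hne_1_4 hne_1_5 hne_4_5 (by norm_num) 1 1 1 (by norm_num) (by norm_num) (by norm_num) ?_ ?_ ?_
              · linarith only [hd x1, hwp x1, hl_1_4, hl_1_5]
              · linarith only [hd x4, hwp x4, hl_4_1, hl_4_5]
              · linarith only [hd x5, hwp x5, hl_5_1, hl_5_4]
            have hz_5_1 : T.a x5 x1 = 0 := by rw [hsym]; exact hz_1_5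
            have hz_2_5 : T.a x2 x5 = 0 := by
              by_contra h
              exact hq_2 ⟨x5, ⟨hne_0_5.symm, hne_1_5.symm, hne_2_5.symm, hne_3_5.symm⟩, h⟩
            have hz_5_2 : T.a x5 x2 = 0 := by rw [hsym]; exact hz_2_5
            have hz_3_5 : T.a x3 x5 = 0 := by
              by_contra h
              exact hq_3 ⟨x5, ⟨hne_0_5.symm, hne_1_5.symm, hne_2_5.symm, hne_3_5.symm⟩, h⟩
            have hz_5_3 : T.a x5 x3 = 0 := by rw [hsym]; exact hz_3_5
            have hinj : Function.Injective ![x0, x1, x2, x3, x4, x5] := NT.inj6 _ _ _ _ _ _ hne_0_1 hne_0_2 hne_0_3 hne_0_4 hne_0_5 hne_1_2 hne_1_3 hne_1_4 hne_1_5 hne_2_3 hne_2_4 hne_2_5 hne_3_4 hne_3_5 hne_4_5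
            have hrow_0 : T.a x0 x0 * T.m x0 + T.a x0 x1 * T.m x1 + T.a x0 x2 * T.m x2 + T.a x0 x3 * T.m x3 + T.a x0 x4 * T.m x4 + T.a x0 x5 * T.m x5 = 0 := by
              have h := NT.row_fun T _ hinj (0 : Fin 6)
              rw [Fin.sum_univ_six] at h
              exact h
            have hrow_1 : T.a x1 x0 * T.m x0 + T.a x1 x1 * T.m x1 + T.a x1 x2 * T.m x2 + T.a x1 x3 * T.m x3 + T.a x1 x4 * T.m x4 + T.a x1 x5 * T.m x5 = 0 := by
              have h := NT.row_fun T _ hinj (1 : Fin 6)
              rw [Fin.sum_univ_six] at h
              exact h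
            have hrow_2 : T.a x2 x0 * T.m x0 + T.a x2 x1 * T.m x1 + T.a x2 x2 * T.m x2 + T.a x2 x3 * T.m x3 + T.a x2 x4 * T.m x4 + T.a x2 x5 * T.m x5 = 0 := by
              have h := NT.row_fun T _ hinj (2 : Fin 6)
              rw [Fin.sum_univ_six] at h
              exact h
            have hrow_3 : T.a x3 x0 * T.m x0 + T.a x3 x1 * T.m x1 + T.a x3 x2 * T.m x2 + T.a x3 x3 * T.m x3 + T.a x3 x4 * T.m x4 + T.a x3 x5 * T.m x5 = 0 := by
              have h := NT.row_fun T _ hinj (3 : Fin 6)
              rw [Fin.sum_univ_six] at h
              exact h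
            have hrow_4 : T.a x4 x0 * T.m x0 + T.a x4 x1 * T.m x1 + T.a x4 x2 * T.m x2 + T.a x4 x3 * T.m x3 + T.a x4 x4 * T.m x4 + T.a x4 x5 * T.m x5 = 0 := by
              have h := NT.row_fun T _ hinj (4 : Fin 6)
              rw [Fin.sum_univ_six] at h
              exact h
            have hrow_5 : T.a x5 x0 * T.m x0 + T.a x5 x1 * T.m x1 + T.a x5 x2 * T.m x2 + T.a x5 x3 * T.m x3 + T.a x5 x4 * T.m x4 + T.a x5 x5 * T.m x5 = 0 := by
              have h := NT.row_fun T _ hinj (5 : Fin 6)
              rw [Fin.sum_univ_six] at h
              exact h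
            rcases NT.edge3 T x0 x1 hne_0_1 hadj_0_1 with hx_0_1 | hx_0_1 | hx_0_1
            · rcases NT.edge3 T x1 x0 hne_0_1.symm hadj_1_0 with hx_1_0 | hx_1_0 | hx_1_0
              · rcases NT.edge3 T x0 x2 hne_0_2 hadj_0_2 with hx_0_2 | hx_0_2 | hx_0_2
                · rcases NT.edge3 T x2 x0 hne_0_2.symm hadj_2_0 with hx_2_0 | hx_2_0 | hx_2_0
                  · rcases NT.edge3 T x0 x3 hne_0_3 hadj_0_3 with hx_0_3 | hx_0_3 | hx_0_3
                    · rcases NT.edge3 T x3 x0 hne_0_3.symm hadj_3_0 with hx_3_0 | hx_3_0 | hx_3_0
                      · rcases NT.edge3 T x1 x4 hne_1_4 hadj_1_4 with hx_1_4 | hx_1_4 | hx_1_4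
                        · rcases NT.edge3 T x4 x1 hne_1_4.symm hadj_4_1 with hx_4_1 | hx_4_1 | hx_4_1
                          · rcases NT.edge3 T x4 x5 hne_4_5 hadj_4_5 with hx_4_5 | hx_4_5 | hx_4_5
                            · rcases NT.edge3 T x5 x4 hne_4_5.symm hadj_5_4 with hx_5_4 | hx_5_4 | hx_5_4
                              · have cw_0 : T.w x0 = T.w x0 := rfl
                                have cw_1 : T.w x1 = T.w x0 := by linarith only [cw_0, hx_0_1, hx_1_0, hs_0_1]
                                have cw_2 : T.w x2 = T.w x0 := by linarith only [cw_0, hx_0_2, hx_2_0, hs_0_2]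
                                have cw_3 : T.w x3 = T.w x0 := by linarith only [cw_0, hx_0_3, hx_3_0, hs_0_3]
                                have cw_4 : T.w x4 = T.w x0 := by linarith only [cw_1, hx_1_4, hx_4_1, hs_1_4]
                                have cw_5 : T.w x5 = T.w x0 := by linarith only [cw_4, hx_4_5, hx_5_4, hs_4_5]
                                have ca_0_0 : T.a x0 x0 = -2 * T.w x0 := by linarith only [hd x0, cw_0]
                                have ca_0_1 : T.a x0 x1 = T.w x0 := by linarith only [hx_0_1, cw_0]
                                have ca_0_2 : T.a x0 x2 = T.w x0 := by linarith only [hx_0_2, cw_0]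
                                have ca_0_3 : T.a x0 x3 = T.w x0 := by linarith only [hx_0_3, cw_0]
                                have ca_1_0 : T.a x1 x0 = T.w x0 := by linarith only [hx_1_0, cw_1]
                                have ca_1_1 : T.a x1 x1 = -2 * T.w x0 := by linarith only [hd x1, cw_1]
                                have ca_1_4 : T.a x1 x4 = T.w x0 := by linarith only [hx_1_4, cw_1]
                                have ca_2_0 : T.a x2 x0 = T.w x0 := by linarith only [hx_2_0, cw_2]
                                have ca_2_2 : T.a x2 x2 = -2 * T.w x0 := by linarith only [hd x2, cw_2]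
                                have ca_3_0 : T.a x3 x0 = T.w x0 := by linarith only [hx_3_0, cw_3]
                                have ca_3_3 : T.a x3 x3 = -2 * T.w x0 := by linarith only [hd x3, cw_3]
                                have ca_4_1 : T.a x4 x1 = T.w x0 := by linarith only [hx_4_1, cw_4]
                                have ca_4_4 : T.a x4 x4 = -2 * T.w x0 := by linarith only [hd x4, cw_4]
                                have ca_4_5 : T.a x4 x5 = T.w x0 := by linarith only [hx_4_5, cw_4]
                                have ca_5_4 : T.a x5 x4 = T.w x0 := by linarith only [hx_5_4, cw_5]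
                                have ca_5_5 : T.a x5 x5 = -2 * T.w x0 := by linarith only [hd x5, cw_5]
                                have hm_0 : -2 * T.m x0 + 1 * T.m x1 + 1 * T.m x2 + 1 * T.m x3 = 0 := by
                                  have h := hrow_0
                                  rw [ca_0_0, ca_0_1, ca_0_2, ca_0_3, hz_0_4, hz_0_5] at h
                                  have h2 : T.w x0 * (-2 * T.m x0 + 1 * T.m x1 + 1 * T.m x2 + 1 * T.m x3) = 0 := by linarith only [h]
                                  rcases mul_eq_zero.mp h2 with h3 | h3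
                                  · exact absurd h3 (hwp _).ne'
                                  · exact h3
                                have hm_1 : 1 * T.m x0 + -2 * T.m x1 + 1 * T.m x4 = 0 := by
                                  have h := hrow_1
                                  rw [ca_1_0, ca_1_1, hz_1_2, hz_1_3, ca_1_4, hz_1_5] at h
                                  have h2 : T.w x0 * (1 * T.m x0 + -2 * T.m x1 + 1 * T.m x4) = 0 := by linarith only [h]
                                  rcases mul_eq_zero.mp h2 with h3 | h3
                                  · exact absurd h3 (hwp _).ne'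
                                  · exact h3
                                have hm_2 : 1 * T.m x0 + -2 * T.m x2 = 0 := by
                                  have h := hrow_2
                                  rw [ca_2_0, hz_2_1, ca_2_2, hz_2_3, hz_2_4, hz_2_5] at h
                                  have h2 : T.w x0 * (1 * T.m x0 + -2 * T.m x2) = 0 := by linarith only [h]
                                  rcases mul_eq_zero.mp h2 with h3 | h3
                                  · exact absurd h3 (hwp _).ne'
                                  · exact h3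
                                have hm_3 : 1 * T.m x0 + -2 * T.m x3 = 0 := by
                                  have h := hrow_3
                                  rw [ca_3_0, hz_3_1, hz_3_2, ca_3_3, hz_3_4, hz_3_5] at h
                                  have h2 : T.w x0 * (1 * T.m x0 + -2 * T.m x3) = 0 := by linarith only [h]
                                  rcases mul_eq_zero.mp h2 with h3 | h3
                                  · exact absurd h3 (hwp _).ne'
                                  · exact h3
                                have hm_4 : 1 * T.m x1 + -2 * T.m x4 + 1 * T.m x5 = 0 := by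
                                  have h := hrow_4
                                  rw [hz_4_0, ca_4_1, hz_4_2, hz_4_3, ca_4_4, ca_4_5] at h
                                  have h2 : T.w x0 * (1 * T.m x1 + -2 * T.m x4 + 1 * T.m x5) = 0 := by linarith only [h]
                                  rcases mul_eq_zero.mp h2 with h3 | h3
                                  · exact absurd h3 (hwp _).ne'
                                  · exact h3
                                have hm_5 : 1 * T.m x4 + -2 * T.m x5 = 0 := by
                                  have h := hrow_5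
                                  rw [hz_5_0, hz_5_1, hz_5_2, hz_5_3, ca_5_4, ca_5_5] at h
                                  have h2 : T.w x0 * (1 * T.m x4 + -2 * T.m x5) = 0 := by linarith only [h]
                                  rcases mul_eq_zero.mp h2 with h3 | h3
                                  · exact absurd h3 (hwp _).ne'
                                  · exact h3
                                exfalso
                                linarith only [hm_0, hm_1, hm_2, hm_3, hm_4, hm_5, hmp x0, hmp x1, hmp x2, hmp x3, hmp x4, hmp x5]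
                              · have cw_5 : T.w x5 = T.w x5 := rfl
                                have cw_4 : T.w x4 = 2 * T.w x5 := by linarith only [cw_5, hx_5_4, hx_4_5, hs_4_5]
                                have cw_1 : T.w x1 = 2 * T.w x5 := by linarith only [cw_4, hx_4_1, hx_1_4, hs_1_4]
                                have cw_0 : T.w x0 = 2 * T.w x5 := by linarith only [cw_1, hx_1_0, hx_0_1, hs_0_1]
                                have cw_2 : T.w x2 = 2 * T.w x5 := by linarith only [cw_0, hx_0_2, hx_2_0, hs_0_2]
                                have cw_3 : T.w x3 = 2 * T.w x5 := by linarith only [cw_0, hx_0_3, hx_3_0, hs_0_3]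
                                have ca_0_0 : T.a x0 x0 = -4 * T.w x5 := by linarith only [hd x0, cw_0]
                                have ca_0_1 : T.a x0 x1 = 2 * T.w x5 := by linarith only [hx_0_1, cw_0]
                                have ca_0_2 : T.a x0 x2 = 2 * T.w x5 := by linarith only [hx_0_2, cw_0]
                                have ca_0_3 : T.a x0 x3 = 2 * T.w x5 := by linarith only [hx_0_3, cw_0]
                                have ca_1_0 : T.a x1 x0 = 2 * T.w x5 := by linarith only [hx_1_0, cw_1]
                                have ca_1_1 : T.a x1 x1 = -4 * T.w x5 := by linarith only [hd x1, cw_1]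
                                have ca_1_4 : T.a x1 x4 = 2 * T.w x5 := by linarith only [hx_1_4, cw_1]
                                have ca_2_0 : T.a x2 x0 = 2 * T.w x5 := by linarith only [hx_2_0, cw_2]
                                have ca_2_2 : T.a x2 x2 = -4 * T.w x5 := by linarith only [hd x2, cw_2]
                                have ca_3_0 : T.a x3 x0 = 2 * T.w x5 := by linarith only [hx_3_0, cw_3]
                                have ca_3_3 : T.a x3 x3 = -4 * T.w x5 := by linarith only [hd x3, cw_3]
                                have ca_4_1 : T.a x4 x1 = 2 * T.w x5 := by linarith only [hx_4_1, cw_4]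
                                have ca_4_4 : T.a x4 x4 = -4 * T.w x5 := by linarith only [hd x4, cw_4]
                                have ca_4_5 : T.a x4 x5 = 2 * T.w x5 := by linarith only [hx_4_5, cw_4]
                                have ca_5_4 : T.a x5 x4 = 2 * T.w x5 := by linarith only [hx_5_4, cw_5]
                                have ca_5_5 : T.a x5 x5 = -2 * T.w x5 := by linarith only [hd x5, cw_5]
                                have hm_0 : -4 * T.m x0 + 2 * T.m x1 + 2 * T.m x2 + 2 * T.m x3 = 0 := by
                                  have h := hrow_0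
                                  rw [ca_0_0, ca_0_1, ca_0_2, ca_0_3, hz_0_4, hz_0_5] at h
                                  have h2 : T.w x5 * (-4 * T.m x0 + 2 * T.m x1 + 2 * T.m x2 + 2 * T.m x3) = 0 := by linarith only [h]
                                  rcases mul_eq_zero.mp h2 with h3 | h3
                                  · exact absurd h3 (hwp _).ne'
                                  · exact h3
                                have hm_1 : 2 * T.m x0 + -4 * T.m x1 + 2 * T.m x4 = 0 := by
                                  have h := hrow_1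
                                  rw [ca_1_0, ca_1_1, hz_1_2, hz_1_3, ca_1_4, hz_1_5] at h
                                  have h2 : T.w x5 * (2 * T.m x0 + -4 * T.m x1 + 2 * T.m x4) = 0 := by linarith only [h]
                                  rcases mul_eq_zero.mp h2 with h3 | h3
                                  · exact absurd h3 (hwp _).ne'
                                  · exact h3
                                have hm_2 : 2 * T.m x0 + -4 * T.m x2 = 0 := by
                                  have h := hrow_2
                                  rw [ca_2_0, hz_2_1, ca_2_2, hz_2_3, hz_2_4, hz_2_5] at h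
                                  have h2 : T.w x5 * (2 * T.m x0 + -4 * T.m x2) = 0 := by linarith only [h]
                                  rcases mul_eq_zero.mp h2 with h3 | h3
                                  · exact absurd h3 (hwp _).ne'
                                  · exact h3
                                have hm_3 : 2 * T.m x0 + -4 * T.m x3 = 0 := by
                                  have h := hrow_3
                                  rw [ca_3_0, hz_3_1, hz_3_2, ca_3_3, hz_3_4, hz_3_5] at h
                                  have h2 : T.w x5 * (2 * T.m x0 + -4 * T.m x3) = 0 := by linarith only [h]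
                                  rcases mul_eq_zero.mp h2 with h3 | h3
                                  · exact absurd h3 (hwp _).ne'
                                  · exact h3
                                have hm_4 : 2 * T.m x1 + -4 * T.m x4 + 2 * T.m x5 = 0 := by
                                  have h := hrow_4
                                  rw [hz_4_0, ca_4_1, hz_4_2, hz_4_3, ca_4_4, ca_4_5] at h
                                  have h2 : T.w x5 * (2 * T.m x1 + -4 * T.m x4 + 2 * T.m x5) = 0 := by linarith only [h]
                                  rcases mul_eq_zero.mp h2 with h3 | h3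
                                  · exact absurd h3 (hwp _).ne'
                                  · exact h3
                                have hm_5 : 2 * T.m x4 + -2 * T.m x5 = 0 := by
                                  have h := hrow_5
                                  rw [hz_5_0, hz_5_1, hz_5_2, hz_5_3, ca_5_4, ca_5_5] at h
                                  have h2 : T.w x5 * (2 * T.m x4 + -2 * T.m x5) = 0 := by linarith only [h]
                                  rcases mul_eq_zero.mp h2 with h3 | h3
                                  · exact absurd h3 (hwp _).ne'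
                                  · exact h3
                                have cmu_0 : T.m x0 = 2 * T.m x2 := by linarith only [hm_0, hm_1, hm_2, hm_3, hm_4, hm_5]
                                have cmu_1 : T.m x1 = 2 * T.m x2 := by linarith only [hm_0, hm_1, hm_2, hm_3, hm_4, hm_5]
                                have cmu_2 : T.m x2 = T.m x2 := rfl
                                have cmu_3 : T.m x3 = T.m x2 := by linarith only [hm_0, hm_1, hm_2, hm_3, hm_4, hm_5]
                                have cmu_4 : T.m x4 = 2 * T.m x2 := by linarith only [hm_0, hm_1, hm_2, hm_3, hm_4, hm_5]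
                                have cmu_5 : T.m x5 = 2 * T.m x2 := by linarith only [hm_0, hm_1, hm_2, hm_3, hm_4, hm_5]
                                have hinjσ : Function.Injective ![x5, x4, x1, x0, x2, x3] := NT.inj6 _ _ _ _ _ _ hne_4_5.symm hne_1_5.symm hne_0_5.symm hne_2_5.symm hne_3_5.symm hne_1_4.symm hne_0_4.symm hne_2_4.symm hne_3_4.symm hne_0_1.symm hne_1_2 hne_1_3 hne_0_2 hne_0_3 hne_2_3
                                exact ⟨Equiv.ofBijective ![x5, x4, x1, x0, x2, x3] ⟨hinjσ, Finite.surjective_of_injective hinjσ⟩, T.m x2, T.w x5, Or.inr (Or.inr (Or.inr (Or.inr (Or.inr (Or.inl ⟨cmu_5, cmu_4, cmu_1, cmu_0, cmu_2, cmu_3, cw_5, cw_4, cw_1, cw_0, cw_2, cw_3, ca_5_5, ca_5_4, hz_5_1, hz_5_0, hz_5_2, hz_5_3, ca_4_4, ca_4_1, hz_4_0, hz_4_2, hz_4_3, ca_1_1, ca_1_0, hz_1_2, hz_1_3, ca_0_0, ca_0_2, ca_0_3, ca_2_2, hz_2_3, ca_3_3⟩)))))⟩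
                              · exfalso
                                refine NT.cert3 T x1 x4 x5 hne_1_4 hne_1_5 hne_4_5 (by norm_num) 1 2 3 (by norm_num) (by norm_num) (by norm_num) ?_ ?_ ?_
                                · linarith only [hd x1, hwp x1, hx_1_4.ge, hnn x1 x5 hne_1_5]
                                · linarith only [hd x4, hwp x4, hx_4_1.ge, hx_4_5.ge]
                                · linarith only [hd x5, hwp x5, hnn x5 x1 hne_1_5.symm, hx_5_4]
                            · obtain ⟨heq_0, heq_1, heq_2, heq_3, heq_4, heq_5⟩ := NT.harm6 T x0 x1 x2 x3 x4 x5 hne_0_1 hne_0_2 hne_0_3 hne_0_4 hne_0_5 hne_1_2 hne_1_3 hne_1_4 hne_1_5 hne_2_3 hne_2_4 hne_2_5 hne_3_4 hne_3_5 hne_4_5 2 2 1 1 2 1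
                                (by linarith only [hd x0, hx_0_1.ge, hx_0_2.ge, hx_0_3.ge, hz_0_4, hz_0_5])
                                (by linarith only [hd x1, hx_1_0.ge, hz_1_2, hz_1_3, hx_1_4.ge, hz_1_5])
                                (by linarith only [hd x2, hx_2_0.ge, hz_2_1, hz_2_3, hz_2_4, hz_2_5])
                                (by linarith only [hd x3, hx_3_0.ge, hz_3_1, hz_3_2, hz_3_4, hz_3_5])
                                (by linarith only [hd x4, hz_4_0, hx_4_1.ge, hz_4_2, hz_4_3, hx_4_5.ge])
                                (by linarith only [hd x5, hz_5_0, hz_5_1, hz_5_2, hz_5_3, hl_5_4])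
                              have hx_5_4 : T.a x5 x4 = T.w x5 := by linarith only [heq_5, hwp x5, hd x5, hz_5_0, hz_5_1, hz_5_2, hz_5_3, hl_5_4]
                              have cw_4 : T.w x4 = T.w x4 := rfl
                              have cw_1 : T.w x1 = T.w x4 := by linarith only [cw_4, hx_4_1, hx_1_4, hs_1_4]
                              have cw_5 : T.w x5 = 2 * T.w x4 := by linarith only [cw_4, hx_4_5, hx_5_4, hs_4_5]
                              have cw_0 : T.w x0 = T.w x4 := by linarith only [cw_1, hx_1_0, hx_0_1, hs_0_1]
                              have cw_2 : T.w x2 = T.w x4 := by linarith only [cw_0, hx_0_2, hx_2_0, hs_0_2]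
                              have cw_3 : T.w x3 = T.w x4 := by linarith only [cw_0, hx_0_3, hx_3_0, hs_0_3]
                              have ca_0_0 : T.a x0 x0 = -2 * T.w x4 := by linarith only [hd x0, cw_0]
                              have ca_0_1 : T.a x0 x1 = T.w x4 := by linarith only [hx_0_1, cw_0]
                              have ca_0_2 : T.a x0 x2 = T.w x4 := by linarith only [hx_0_2, cw_0]
                              have ca_0_3 : T.a x0 x3 = T.w x4 := by linarith only [hx_0_3, cw_0]
                              have ca_1_0 : T.a x1 x0 = T.w x4 := by linarith only [hx_1_0, cw_1]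
                              have ca_1_1 : T.a x1 x1 = -2 * T.w x4 := by linarith only [hd x1, cw_1]
                              have ca_1_4 : T.a x1 x4 = T.w x4 := by linarith only [hx_1_4, cw_1]
                              have ca_2_0 : T.a x2 x0 = T.w x4 := by linarith only [hx_2_0, cw_2]
                              have ca_2_2 : T.a x2 x2 = -2 * T.w x4 := by linarith only [hd x2, cw_2]
                              have ca_3_0 : T.a x3 x0 = T.w x4 := by linarith only [hx_3_0, cw_3]
                              have ca_3_3 : T.a x3 x3 = -2 * T.w x4 := by linarith only [hd x3, cw_3]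
                              have ca_4_1 : T.a x4 x1 = T.w x4 := by linarith only [hx_4_1, cw_4]
                              have ca_4_4 : T.a x4 x4 = -2 * T.w x4 := by linarith only [hd x4, cw_4]
                              have ca_4_5 : T.a x4 x5 = 2 * T.w x4 := by linarith only [hx_4_5, cw_4]
                              have ca_5_4 : T.a x5 x4 = 2 * T.w x4 := by linarith only [hx_5_4, cw_5]
                              have ca_5_5 : T.a x5 x5 = -4 * T.w x4 := by linarith only [hd x5, cw_5]
                              have hm_0 : -2 * T.m x0 + 1 * T.m x1 + 1 * T.m x2 + 1 * T.m x3 = 0 := by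
                                have h := hrow_0
                                rw [ca_0_0, ca_0_1, ca_0_2, ca_0_3, hz_0_4, hz_0_5] at h
                                have h2 : T.w x4 * (-2 * T.m x0 + 1 * T.m x1 + 1 * T.m x2 + 1 * T.m x3) = 0 := by linarith only [h]
                                rcases mul_eq_zero.mp h2 with h3 | h3
                                · exact absurd h3 (hwp _).ne'
                                · exact h3
                              have hm_1 : 1 * T.m x0 + -2 * T.m x1 + 1 * T.m x4 = 0 := by
                                have h := hrow_1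
                                rw [ca_1_0, ca_1_1, hz_1_2, hz_1_3, ca_1_4, hz_1_5] at h
                                have h2 : T.w x4 * (1 * T.m x0 + -2 * T.m x1 + 1 * T.m x4) = 0 := by linarith only [h]
                                rcases mul_eq_zero.mp h2 with h3 | h3
                                · exact absurd h3 (hwp _).ne'
                                · exact h3
                              have hm_2 : 1 * T.m x0 + -2 * T.m x2 = 0 := by
                                have h := hrow_2
                                rw [ca_2_0, hz_2_1, ca_2_2, hz_2_3, hz_2_4, hz_2_5] at h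
                                have h2 : T.w x4 * (1 * T.m x0 + -2 * T.m x2) = 0 := by linarith only [h]
                                rcases mul_eq_zero.mp h2 with h3 | h3
                                · exact absurd h3 (hwp _).ne'
                                · exact h3
                              have hm_3 : 1 * T.m x0 + -2 * T.m x3 = 0 := by
                                have h := hrow_3
                                rw [ca_3_0, hz_3_1, hz_3_2, ca_3_3, hz_3_4, hz_3_5] at h
                                have h2 : T.w x4 * (1 * T.m x0 + -2 * T.m x3) = 0 := by linarith only [h]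
                                rcases mul_eq_zero.mp h2 with h3 | h3
                                · exact absurd h3 (hwp _).ne'
                                · exact h3
                              have hm_4 : 1 * T.m x1 + -2 * T.m x4 + 2 * T.m x5 = 0 := by
                                have h := hrow_4
                                rw [hz_4_0, ca_4_1, hz_4_2, hz_4_3, ca_4_4, ca_4_5] at h
                                have h2 : T.w x4 * (1 * T.m x1 + -2 * T.m x4 + 2 * T.m x5) = 0 := by linarith only [h]
                                rcases mul_eq_zero.mp h2 with h3 | h3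
                                · exact absurd h3 (hwp _).ne'
                                · exact h3
                              have hm_5 : 2 * T.m x4 + -4 * T.m x5 = 0 := by
                                have h := hrow_5
                                rw [hz_5_0, hz_5_1, hz_5_2, hz_5_3, ca_5_4, ca_5_5] at h
                                have h2 : T.w x4 * (2 * T.m x4 + -4 * T.m x5) = 0 := by linarith only [h]
                                rcases mul_eq_zero.mp h2 with h3 | h3
                                · exact absurd h3 (hwp _).ne'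
                                · exact h3
                              have cmu_0 : T.m x0 = 2 * T.m x5 := by linarith only [hm_0, hm_1, hm_2, hm_3, hm_4, hm_5]
                              have cmu_1 : T.m x1 = 2 * T.m x5 := by linarith only [hm_0, hm_1, hm_2, hm_3, hm_4, hm_5]
                              have cmu_2 : T.m x2 = T.m x5 := by linarith only [hm_0, hm_1, hm_2, hm_3, hm_4, hm_5]
                              have cmu_3 : T.m x3 = T.m x5 := by linarith only [hm_0, hm_1, hm_2, hm_3, hm_4, hm_5]
                              have cmu_4 : T.m x4 = 2 * T.m x5 := by linarith only [hm_0, hm_1, hm_2, hm_3, hm_4, hm_5]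
                              have cmu_5 : T.m x5 = T.m x5 := rfl
                              have hinjσ : Function.Injective ![x5, x4, x1, x0, x2, x3] := NT.inj6 _ _ _ _ _ _ hne_4_5.symm hne_1_5.symm hne_0_5.symm hne_2_5.symm hne_3_5.symm hne_1_4.symm hne_0_4.symm hne_2_4.symm hne_3_4.symm hne_0_1.symm hne_1_2 hne_1_3 hne_0_2 hne_0_3 hne_2_3
                              exact ⟨Equiv.ofBijective ![x5, x4, x1, x0, x2, x3] ⟨hinjσ, Finite.surjective_of_injective hinjσ⟩, T.m x5, T.w x4, Or.inr (Or.inr (Or.inr (Or.inr (Or.inl ⟨cmu_5, cmu_4, cmu_1, cmu_0, cmu_2, cmu_3, cw_5, cw_4, cw_1, cw_0, cw_2, cw_3, ca_5_5, ca_5_4, hz_5_1, hz_5_0, hz_5_2, hz_5_3, ca_4_4, ca_4_1, hz_4_0, hz_4_2, hz_4_3, ca_1_1, ca_1_0, hz_1_2, hz_1_3, ca_0_0, ca_0_2, ca_0_3, ca_2_2, hz_2_3, ca_3_3⟩))))⟩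
                            · exfalso
                              refine NT.cert3 T x1 x4 x5 hne_1_4 hne_1_5 hne_4_5 (by norm_num) 1 2 1 (by norm_num) (by norm_num) (by norm_num) ?_ ?_ ?_
                              · linarith only [hd x1, hwp x1, hx_1_4.ge, hnn x1 x5 hne_1_5]
                              · linarith only [hd x4, hwp x4, hx_4_1.ge, hx_4_5]
                              · linarith only [hd x5, hwp x5, hnn x5 x1 hne_1_5.symm, hl_5_4]
                          · exfalso
                            refine NT.cert5 T x0 x1 x2 x3 x4 hne_0_1 hne_0_2 hne_0_3 hne_0_4 hne_1_2 hne_1_3 hne_1_4 hne_2_3 hne_2_4 hne_3_4 (by norm_num) 2 2 1 1 2 (by norm_num) (by norm_num) (by norm_num) (by norm_num) (by norm_num) ?_ ?_ ?_ ?_ ?_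
                            · linarith only [hd x0, hwp x0, hx_0_1.ge, hx_0_2.ge, hx_0_3.ge, hnn x0 x4 hne_0_4]
                            · linarith only [hd x1, hwp x1, hx_1_0.ge, hnn x1 x2 hne_1_2, hnn x1 x3 hne_1_3, hx_1_4.ge]
                            · linarith only [hd x2, hwp x2, hx_2_0.ge, hnn x2 x1 hne_1_2.symm, hnn x2 x3 hne_2_3, hnn x2 x4 hne_2_4]
                            · linarith only [hd x3, hwp x3, hx_3_0.ge, hnn x3 x1 hne_1_3.symm, hnn x3 x2 hne_2_3.symm, hnn x3 x4 hne_3_4]
                            · linarith only [hd x4, hwp x4, hnn x4 x0 hne_0_4.symm, hx_4_1.ge, hnn x4 x2 hne_2_4.symm, hnn x4 x3 hne_3_4.symm]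
                          · exfalso
                            refine NT.cert3 T x0 x1 x4 hne_0_1 hne_0_4 hne_1_4 (by norm_num) 1 2 3 (by norm_num) (by norm_num) (by norm_num) ?_ ?_ ?_
                            · linarith only [hd x0, hwp x0, hx_0_1.ge, hnn x0 x4 hne_0_4]
                            · linarith only [hd x1, hwp x1, hx_1_0.ge, hx_1_4.ge]
                            · linarith only [hd x4, hwp x4, hnn x4 x0 hne_0_4.symm, hx_4_1]
                        · exfalso
                          refine NT.cert5 T x0 x1 x2 x3 x4 hne_0_1 hne_0_2 hne_0_3 hne_0_4 hne_1_2 hne_1_3 hne_1_4 hne_2_3 hne_2_4 hne_3_4 (by norm_num) 2 2 1 1 1 (by norm_num) (by norm_num) (by norm_num) (by norm_num) (by norm_num) ?_ ?_ ?_ ?_ ?_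
                          · linarith only [hd x0, hwp x0, hx_0_1.ge, hx_0_2.ge, hx_0_3.ge, hnn x0 x4 hne_0_4]
                          · linarith only [hd x1, hwp x1, hx_1_0.ge, hnn x1 x2 hne_1_2, hnn x1 x3 hne_1_3, hx_1_4.ge]
                          · linarith only [hd x2, hwp x2, hx_2_0.ge, hnn x2 x1 hne_1_2.symm, hnn x2 x3 hne_2_3, hnn x2 x4 hne_2_4]
                          · linarith only [hd x3, hwp x3, hx_3_0.ge, hnn x3 x1 hne_1_3.symm, hnn x3 x2 hne_2_3.symm, hnn x3 x4 hne_3_4]
                          · linarith only [hd x4, hwp x4, hnn x4 x0 hne_0_4.symm, hl_4_1, hnn x4 x2 hne_2_4.symm, hnn x4 x3 hne_3_4.symm]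
                        · exfalso
                          refine NT.cert3 T x0 x1 x4 hne_0_1 hne_0_4 hne_1_4 (by norm_num) 1 2 1 (by norm_num) (by norm_num) (by norm_num) ?_ ?_ ?_
                          · linarith only [hd x0, hwp x0, hx_0_1.ge, hnn x0 x4 hne_0_4]
                          · linarith only [hd x1, hwp x1, hx_1_0.ge, hx_1_4]
                          · linarith only [hd x4, hwp x4, hnn x4 x0 hne_0_4.symm, hl_4_1]
                      · exfalso
                        refine NT.cert4 T x0 x1 x2 x3 hne_0_1 hne_0_2 hne_0_3 hne_1_2 hne_1_3 hne_2_3 (by norm_num) 2 1 1 2 (by norm_num) (by norm_num) (by norm_num) (by norm_num) ?_ ?_ ?_ ?_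
                        · linarith only [hd x0, hwp x0, hx_0_1.ge, hx_0_2.ge, hx_0_3.ge]
                        · linarith only [hd x1, hwp x1, hx_1_0.ge, hnn x1 x2 hne_1_2, hnn x1 x3 hne_1_3]
                        · linarith only [hd x2, hwp x2, hx_2_0.ge, hnn x2 x1 hne_1_2.symm, hnn x2 x3 hne_2_3]
                        · linarith only [hd x3, hwp x3, hx_3_0.ge, hnn x3 x1 hne_1_3.symm, hnn x3 x2 hne_2_3.symm]
                      · exfalso
                        refine NT.cert3 T x0 x1 x3 hne_0_1 hne_0_3 hne_1_3 (by norm_num) 2 1 3 (by norm_num) (by norm_num) (by norm_num) ?_ ?_ ?_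
                        · linarith only [hd x0, hwp x0, hx_0_1.ge, hx_0_3.ge]
                        · linarith only [hd x1, hwp x1, hx_1_0.ge, hnn x1 x3 hne_1_3]
                        · linarith only [hd x3, hwp x3, hx_3_0, hnn x3 x1 hne_1_3.symm]
                    · exfalso
                      refine NT.cert4 T x0 x1 x2 x3 hne_0_1 hne_0_2 hne_0_3 hne_1_2 hne_1_3 hne_2_3 (by norm_num) 2 1 1 1 (by norm_num) (by norm_num) (by norm_num) (by norm_num) ?_ ?_ ?_ ?_
                      · linarith only [hd x0, hwp x0, hx_0_1.ge, hx_0_2.ge, hx_0_3.ge]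
                      · linarith only [hd x1, hwp x1, hx_1_0.ge, hnn x1 x2 hne_1_2, hnn x1 x3 hne_1_3]
                      · linarith only [hd x2, hwp x2, hx_2_0.ge, hnn x2 x1 hne_1_2.symm, hnn x2 x3 hne_2_3]
                      · linarith only [hd x3, hwp x3, hl_3_0, hnn x3 x1 hne_1_3.symm, hnn x3 x2 hne_2_3.symm]
                    · exfalso
                      refine NT.cert3 T x0 x1 x3 hne_0_1 hne_0_3 hne_1_3 (by norm_num) 2 1 1 (by norm_num) (by norm_num) (by norm_num) ?_ ?_ ?_
                      · linarith only [hd x0, hwp x0, hx_0_1.ge, hx_0_3]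
                      · linarith only [hd x1, hwp x1, hx_1_0.ge, hnn x1 x3 hne_1_3]
                      · linarith only [hd x3, hwp x3, hl_3_0, hnn x3 x1 hne_1_3.symm]
                  · exfalso
                    refine NT.cert4 T x0 x1 x2 x3 hne_0_1 hne_0_2 hne_0_3 hne_1_2 hne_1_3 hne_2_3 (by norm_num) 2 1 2 1 (by norm_num) (by norm_num) (by norm_num) (by norm_num) ?_ ?_ ?_ ?_
                    · linarith only [hd x0, hwp x0, hx_0_1.ge, hx_0_2.ge, hl_0_3]
                    · linarith only [hd x1, hwp x1, hx_1_0.ge, hnn x1 x2 hne_1_2, hnn x1 x3 hne_1_3]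
                    · linarith only [hd x2, hwp x2, hx_2_0.ge, hnn x2 x1 hne_1_2.symm, hnn x2 x3 hne_2_3]
                    · linarith only [hd x3, hwp x3, hl_3_0, hnn x3 x1 hne_1_3.symm, hnn x3 x2 hne_2_3.symm]
                  · exfalso
                    refine NT.cert3 T x0 x1 x2 hne_0_1 hne_0_2 hne_1_2 (by norm_num) 2 1 3 (by norm_num) (by norm_num) (by norm_num) ?_ ?_ ?_
                    · linarith only [hd x0, hwp x0, hx_0_1.ge, hx_0_2.ge]
                    · linarith only [hd x1, hwp x1, hx_1_0.ge, hnn x1 x2 hne_1_2]
                    · linarith only [hd x2, hwp x2, hx_2_0, hnn x2 x1 hne_1_2.symm]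
                · exfalso
                  refine NT.cert4 T x0 x1 x2 x3 hne_0_1 hne_0_2 hne_0_3 hne_1_2 hne_1_3 hne_2_3 (by norm_num) 2 1 1 1 (by norm_num) (by norm_num) (by norm_num) (by norm_num) ?_ ?_ ?_ ?_
                  · linarith only [hd x0, hwp x0, hx_0_1.ge, hx_0_2.ge, hl_0_3]
                  · linarith only [hd x1, hwp x1, hx_1_0.ge, hnn x1 x2 hne_1_2, hnn x1 x3 hne_1_3]
                  · linarith only [hd x2, hwp x2, hl_2_0, hnn x2 x1 hne_1_2.symm, hnn x2 x3 hne_2_3]
                  · linarith only [hd x3, hwp x3, hl_3_0, hnn x3 x1 hne_1_3.symm, hnn x3 x2 hne_2_3.symm]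
                · exfalso
                  refine NT.cert3 T x0 x1 x2 hne_0_1 hne_0_2 hne_1_2 (by norm_num) 2 1 1 (by norm_num) (by norm_num) (by norm_num) ?_ ?_ ?_
                  · linarith only [hd x0, hwp x0, hx_0_1.ge, hx_0_2]
                  · linarith only [hd x1, hwp x1, hx_1_0.ge, hnn x1 x2 hne_1_2]
                  · linarith only [hd x2, hwp x2, hl_2_0, hnn x2 x1 hne_1_2.symm]
              · exfalso
                refine NT.cert4 T x0 x1 x2 x3 hne_0_1 hne_0_2 hne_0_3 hne_1_2 hne_1_3 hne_2_3 (by norm_num) 2 2 1 1 (by norm_num) (by norm_num) (by norm_num) (by norm_num) ?_ ?_ ?_ ?_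
                · linarith only [hd x0, hwp x0, hx_0_1.ge, hl_0_2, hl_0_3]
                · linarith only [hd x1, hwp x1, hx_1_0.ge, hnn x1 x2 hne_1_2, hnn x1 x3 hne_1_3]
                · linarith only [hd x2, hwp x2, hl_2_0, hnn x2 x1 hne_1_2.symm, hnn x2 x3 hne_2_3]
                · linarith only [hd x3, hwp x3, hl_3_0, hnn x3 x1 hne_1_3.symm, hnn x3 x2 hne_2_3.symm]
              · exfalso
                refine NT.cert3 T x0 x1 x2 hne_0_1 hne_0_2 hne_1_2 (by norm_num) 2 3 1 (by norm_num) (by norm_num) (by norm_num) ?_ ?_ ?_
                · linarith only [hd x0, hwp x0, hx_0_1.ge, hl_0_2]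
                · linarith only [hd x1, hwp x1, hx_1_0, hnn x1 x2 hne_1_2]
                · linarith only [hd x2, hwp x2, hl_2_0, hnn x2 x1 hne_1_2.symm]
            · exfalso
              refine NT.cert4 T x0 x1 x2 x3 hne_0_1 hne_0_2 hne_0_3 hne_1_2 hne_1_3 hne_2_3 (by norm_num) 2 1 1 1 (by norm_num) (by norm_num) (by norm_num) (by norm_num) ?_ ?_ ?_ ?_
              · linarith only [hd x0, hwp x0, hx_0_1.ge, hl_0_2, hl_0_3]
              · linarith only [hd x1, hwp x1, hl_1_0, hnn x1 x2 hne_1_2, hnn x1 x3 hne_1_3]
              · linarith only [hd x2, hwp x2, hl_2_0, hnn x2 x1 hne_1_2.symm, hnn x2 x3 hne_2_3]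
              · linarith only [hd x3, hwp x3, hl_3_0, hnn x3 x1 hne_1_3.symm, hnn x3 x2 hne_2_3.symm]
            · exfalso
              refine NT.cert3 T x0 x1 x2 hne_0_1 hne_0_2 hne_1_2 (by norm_num) 2 1 1 (by norm_num) (by norm_num) (by norm_num) ?_ ?_ ?_
              · linarith only [hd x0, hwp x0, hx_0_1, hl_0_2]
              · linarith only [hd x1, hwp x1, hl_1_0, hnn x1 x2 hne_1_2]
              · linarith only [hd x2, hwp x2, hl_2_0, hnn x2 x1 hne_1_2.symm]
          · by_cases hq_1 : ∃ y, (y ≠ x0 ∧ y ≠ x1 ∧ y ≠ x2 ∧ y ≠ x3 ∧ y ≠ x4) ∧ T.a x1 y ≠ 0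
            · obtain ⟨x5, ⟨hn0, hn1, hn2, hn3, hn4⟩, hadj_1_5⟩ := hq_1
              have hne_0_5 : x0 ≠ x5 := hn0.symm
              have hne_1_5 : x1 ≠ x5 := hn1.symm
              have hne_2_5 : x2 ≠ x5 := hn2.symm
              have hne_3_5 : x3 ≠ x5 := hn3.symm
              have hne_4_5 : x4 ≠ x5 := hn4.symm
              have hadj_5_1 : T.a x5 x1 ≠ 0 := by rw [hsym]; exact hadj_1_5
              have hl_1_5 := NT.lb1 T _ _ hne_1_5 hadj_1_5
              have hl_5_1 := NT.lb1 T _ _ hne_1_5.symm hadj_5_1
              have hs_1_5 : T.a x1 x5 = T.a x5 x1 := hsym _ _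
              have hz_0_5 : T.a x0 x5 = 0 := by
                by_contra hadj_0_5
                have hadj_5_0 : T.a x5 x0 ≠ 0 := by rw [hsym]; exact hadj_0_5
                have hl_0_5 := NT.lb1 T _ _ hne_0_5 hadj_0_5
                have hl_5_0 := NT.lb1 T _ _ hne_0_5.symm hadj_5_0
                have hs_0_5 : T.a x0 x5 = T.a x5 x0 := hsym _ _
                refine NT.cert3 T x0 x1 x5 hne_0_1 hne_0_5 hne_1_5 (by norm_num) 1 1 1 (by norm_num) (by norm_num) (by norm_num) ?_ ?_ ?_
                · linarith only [hd x0, hwp x0, hl_0_1, hl_0_5]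
                · linarith only [hd x1, hwp x1, hl_1_0, hl_1_5]
                · linarith only [hd x5, hwp x5, hl_5_0, hl_5_1]
              have hz_5_0 : T.a x5 x0 = 0 := by rw [hsym]; exact hz_0_5
              have hz_2_5 : T.a x2 x5 = 0 := by
                by_contra h
                exact hq_2 ⟨x5, ⟨hne_0_5.symm, hne_1_5.symm, hne_2_5.symm, hne_3_5.symm⟩, h⟩
              have hz_5_2 : T.a x5 x2 = 0 := by rw [hsym]; exact hz_2_5
              have hz_3_5 : T.a x3 x5 = 0 := by
                by_contra h
                exact hq_3 ⟨x5, ⟨hne_0_5.symm, hne_1_5.symm, hne_2_5.symm, hne_3_5.symm⟩, h⟩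
              have hz_5_3 : T.a x5 x3 = 0 := by rw [hsym]; exact hz_3_5
              have hz_4_5 : T.a x4 x5 = 0 := by
                by_contra h
                exact hq_4 ⟨x5, ⟨hne_0_5.symm, hne_1_5.symm, hne_2_5.symm, hne_3_5.symm, hne_4_5.symm⟩, h⟩
              have hz_5_4 : T.a x5 x4 = 0 := by rw [hsym]; exact hz_4_5
              have hinj : Function.Injective ![x0, x1, x2, x3, x4, x5] := NT.inj6 _ _ _ _ _ _ hne_0_1 hne_0_2 hne_0_3 hne_0_4 hne_0_5 hne_1_2 hne_1_3 hne_1_4 hne_1_5 hne_2_3 hne_2_4 hne_2_5 hne_3_4 hne_3_5 hne_4_5
              have hrow_0 : T.a x0 x0 * T.m x0 + T.a x0 x1 * T.m x1 + T.a x0 x2 * T.m x2 + T.a x0 x3 * T.m x3 + T.a x0 x4 * T.m x4 + T.a x0 x5 * T.m x5 = 0 := by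
                have h := NT.row_fun T _ hinj (0 : Fin 6)
                rw [Fin.sum_univ_six] at h
                exact h
              have hrow_1 : T.a x1 x0 * T.m x0 + T.a x1 x1 * T.m x1 + T.a x1 x2 * T.m x2 + T.a x1 x3 * T.m x3 + T.a x1 x4 * T.m x4 + T.a x1 x5 * T.m x5 = 0 := by
                have h := NT.row_fun T _ hinj (1 : Fin 6)
                rw [Fin.sum_univ_six] at h
                exact h
              have hrow_2 : T.a x2 x0 * T.m x0 + T.a x2 x1 * T.m x1 + T.a x2 x2 * T.m x2 + T.a x2 x3 * T.m x3 + T.a x2 x4 * T.m x4 + T.a x2 x5 * T.m x5 = 0 := by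
                have h := NT.row_fun T _ hinj (2 : Fin 6)
                rw [Fin.sum_univ_six] at h
                exact h
              have hrow_3 : T.a x3 x0 * T.m x0 + T.a x3 x1 * T.m x1 + T.a x3 x2 * T.m x2 + T.a x3 x3 * T.m x3 + T.a x3 x4 * T.m x4 + T.a x3 x5 * T.m x5 = 0 := by
                have h := NT.row_fun T _ hinj (3 : Fin 6)
                rw [Fin.sum_univ_six] at h
                exact h
              have hrow_4 : T.a x4 x0 * T.m x0 + T.a x4 x1 * T.m x1 + T.a x4 x2 * T.m x2 + T.a x4 x3 * T.m x3 + T.a x4 x4 * T.m x4 + T.a x4 x5 * T.m x5 = 0 := by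
                have h := NT.row_fun T _ hinj (4 : Fin 6)
                rw [Fin.sum_univ_six] at h
                exact h
              have hrow_5 : T.a x5 x0 * T.m x0 + T.a x5 x1 * T.m x1 + T.a x5 x2 * T.m x2 + T.a x5 x3 * T.m x3 + T.a x5 x4 * T.m x4 + T.a x5 x5 * T.m x5 = 0 := by
                have h := NT.row_fun T _ hinj (5 : Fin 6)
                rw [Fin.sum_univ_six] at h
                exact h
              obtain ⟨heq_0, heq_1, heq_2, heq_3, heq_4, heq_5⟩ := NT.harm6 T x0 x1 x2 x3 x4 x5 hne_0_1 hne_0_2 hne_0_3 hne_0_4 hne_0_5 hne_1_2 hne_1_3 hne_1_4 hne_1_5 hne_2_3 hne_2_4 hne_2_5 hne_3_4 hne_3_5 hne_4_5 2 2 1 1 1 1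
                (by linarith only [hd x0, hl_0_1, hl_0_2, hl_0_3, hz_0_4, hz_0_5])
                (by linarith only [hd x1, hl_1_0, hz_1_2, hz_1_3, hl_1_4, hl_1_5])
                (by linarith only [hd x2, hl_2_0, hz_2_1, hz_2_3, hz_2_4, hz_2_5])
                (by linarith only [hd x3, hl_3_0, hz_3_1, hz_3_2, hz_3_4, hz_3_5])
                (by linarith only [hd x4, hz_4_0, hl_4_1, hz_4_2, hz_4_3, hz_4_5])
                (by linarith only [hd x5, hz_5_0, hl_5_1, hz_5_2, hz_5_3, hz_5_4])
              have hx_0_1 : T.a x0 x1 = T.w x0 := by linarith only [heq_0, hwp x0, hd x0, hl_0_1, hl_0_2, hl_0_3, hz_0_4, hz_0_5]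
              have hx_1_0 : T.a x1 x0 = T.w x1 := by linarith only [heq_1, hwp x1, hd x1, hl_1_0, hz_1_2, hz_1_3, hl_1_4, hl_1_5]
              have hx_0_2 : T.a x0 x2 = T.w x0 := by linarith only [heq_0, hwp x0, hd x0, hl_0_1, hl_0_2, hl_0_3, hz_0_4, hz_0_5]
              have hx_2_0 : T.a x2 x0 = T.w x2 := by linarith only [heq_2, hwp x2, hd x2, hl_2_0, hz_2_1, hz_2_3, hz_2_4, hz_2_5]
              have hx_0_3 : T.a x0 x3 = T.w x0 := by linarith only [heq_0, hwp x0, hd x0, hl_0_1, hl_0_2, hl_0_3, hz_0_4, hz_0_5]
              have hx_3_0 : T.a x3 x0 = T.w x3 := by linarith only [heq_3, hwp x3, hd x3, hl_3_0, hz_3_1, hz_3_2, hz_3_4, hz_3_5]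
              have hx_1_4 : T.a x1 x4 = T.w x1 := by linarith only [heq_1, hwp x1, hd x1, hl_1_0, hz_1_2, hz_1_3, hl_1_4, hl_1_5]
              have hx_4_1 : T.a x4 x1 = T.w x4 := by linarith only [heq_4, hwp x4, hd x4, hz_4_0, hl_4_1, hz_4_2, hz_4_3, hz_4_5]
              have hx_1_5 : T.a x1 x5 = T.w x1 := by linarith only [heq_1, hwp x1, hd x1, hl_1_0, hz_1_2, hz_1_3, hl_1_4, hl_1_5]
              have hx_5_1 : T.a x5 x1 = T.w x5 := by linarith only [heq_5, hwp x5, hd x5, hz_5_0, hl_5_1, hz_5_2, hz_5_3, hz_5_4]
              have cw_2 : T.w x2 = T.w x2 := rfl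
              have cw_0 : T.w x0 = T.w x2 := by linarith only [cw_2, hx_2_0, hx_0_2, hs_0_2]
              have cw_1 : T.w x1 = T.w x2 := by linarith only [cw_0, hx_0_1, hx_1_0, hs_0_1]
              have cw_3 : T.w x3 = T.w x2 := by linarith only [cw_0, hx_0_3, hx_3_0, hs_0_3]
              have cw_4 : T.w x4 = T.w x2 := by linarith only [cw_1, hx_1_4, hx_4_1, hs_1_4]
              have cw_5 : T.w x5 = T.w x2 := by linarith only [cw_1, hx_1_5, hx_5_1, hs_1_5]
              have ca_0_0 : T.a x0 x0 = -2 * T.w x2 := by linarith only [hd x0, cw_0]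
              have ca_0_1 : T.a x0 x1 = T.w x2 := by linarith only [hx_0_1, cw_0]
              have ca_0_2 : T.a x0 x2 = T.w x2 := by linarith only [hx_0_2, cw_0]
              have ca_0_3 : T.a x0 x3 = T.w x2 := by linarith only [hx_0_3, cw_0]
              have ca_1_0 : T.a x1 x0 = T.w x2 := by linarith only [hx_1_0, cw_1]
              have ca_1_1 : T.a x1 x1 = -2 * T.w x2 := by linarith only [hd x1, cw_1]
              have ca_1_4 : T.a x1 x4 = T.w x2 := by linarith only [hx_1_4, cw_1]
              have ca_1_5 : T.a x1 x5 = T.w x2 := by linarith only [hx_1_5, cw_1]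
              have ca_2_0 : T.a x2 x0 = T.w x2 := by linarith only [hx_2_0, cw_2]
              have ca_2_2 : T.a x2 x2 = -2 * T.w x2 := by linarith only [hd x2, cw_2]
              have ca_3_0 : T.a x3 x0 = T.w x2 := by linarith only [hx_3_0, cw_3]
              have ca_3_3 : T.a x3 x3 = -2 * T.w x2 := by linarith only [hd x3, cw_3]
              have ca_4_1 : T.a x4 x1 = T.w x2 := by linarith only [hx_4_1, cw_4]
              have ca_4_4 : T.a x4 x4 = -2 * T.w x2 := by linarith only [hd x4, cw_4]
              have ca_5_1 : T.a x5 x1 = T.w x2 := by linarith only [hx_5_1, cw_5]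
              have ca_5_5 : T.a x5 x5 = -2 * T.w x2 := by linarith only [hd x5, cw_5]
              have hm_0 : -2 * T.m x0 + 1 * T.m x1 + 1 * T.m x2 + 1 * T.m x3 = 0 := by
                have h := hrow_0
                rw [ca_0_0, ca_0_1, ca_0_2, ca_0_3, hz_0_4, hz_0_5] at h
                have h2 : T.w x2 * (-2 * T.m x0 + 1 * T.m x1 + 1 * T.m x2 + 1 * T.m x3) = 0 := by linarith only [h]
                rcases mul_eq_zero.mp h2 with h3 | h3
                · exact absurd h3 (hwp _).ne'
                · exact h3
              have hm_1 : 1 * T.m x0 + -2 * T.m x1 + 1 * T.m x4 + 1 * T.m x5 = 0 := by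
                have h := hrow_1
                rw [ca_1_0, ca_1_1, hz_1_2, hz_1_3, ca_1_4, ca_1_5] at h
                have h2 : T.w x2 * (1 * T.m x0 + -2 * T.m x1 + 1 * T.m x4 + 1 * T.m x5) = 0 := by linarith only [h]
                rcases mul_eq_zero.mp h2 with h3 | h3
                · exact absurd h3 (hwp _).ne'
                · exact h3
              have hm_2 : 1 * T.m x0 + -2 * T.m x2 = 0 := by
                have h := hrow_2
                rw [ca_2_0, hz_2_1, ca_2_2, hz_2_3, hz_2_4, hz_2_5] at h
                have h2 : T.w x2 * (1 * T.m x0 + -2 * T.m x2) = 0 := by linarith only [h]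
                rcases mul_eq_zero.mp h2 with h3 | h3
                · exact absurd h3 (hwp _).ne'
                · exact h3
              have hm_3 : 1 * T.m x0 + -2 * T.m x3 = 0 := by
                have h := hrow_3
                rw [ca_3_0, hz_3_1, hz_3_2, ca_3_3, hz_3_4, hz_3_5] at h
                have h2 : T.w x2 * (1 * T.m x0 + -2 * T.m x3) = 0 := by linarith only [h]
                rcases mul_eq_zero.mp h2 with h3 | h3
                · exact absurd h3 (hwp _).ne'
                · exact h3
              have hm_4 : 1 * T.m x1 + -2 * T.m x4 = 0 := by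
                have h := hrow_4
                rw [hz_4_0, ca_4_1, hz_4_2, hz_4_3, ca_4_4, hz_4_5] at h
                have h2 : T.w x2 * (1 * T.m x1 + -2 * T.m x4) = 0 := by linarith only [h]
                rcases mul_eq_zero.mp h2 with h3 | h3
                · exact absurd h3 (hwp _).ne'
                · exact h3
              have hm_5 : 1 * T.m x1 + -2 * T.m x5 = 0 := by
                have h := hrow_5
                rw [hz_5_0, ca_5_1, hz_5_2, hz_5_3, hz_5_4, ca_5_5] at h
                have h2 : T.w x2 * (1 * T.m x1 + -2 * T.m x5) = 0 := by linarith only [h]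
                rcases mul_eq_zero.mp h2 with h3 | h3
                · exact absurd h3 (hwp _).ne'
                · exact h3
              have cmu_0 : T.m x0 = 2 * T.m x2 := by linarith only [hm_0, hm_1, hm_2, hm_3, hm_4, hm_5]
              have cmu_1 : T.m x1 = 2 * T.m x2 := by linarith only [hm_0, hm_1, hm_2, hm_3, hm_4, hm_5]
              have cmu_2 : T.m x2 = T.m x2 := rfl
              have cmu_3 : T.m x3 = T.m x2 := by linarith only [hm_0, hm_1, hm_2, hm_3, hm_4, hm_5]
              have cmu_4 : T.m x4 = T.m x2 := by linarith only [hm_0, hm_1, hm_2, hm_3, hm_4, hm_5]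
              have cmu_5 : T.m x5 = T.m x2 := by linarith only [hm_0, hm_1, hm_2, hm_3, hm_4, hm_5]
              have hinjσ : Function.Injective ![x2, x3, x0, x1, x4, x5] := NT.inj6 _ _ _ _ _ _ hne_2_3 hne_0_2.symm hne_1_2.symm hne_2_4 hne_2_5 hne_0_3.symm hne_1_3.symm hne_3_4 hne_3_5 hne_0_1 hne_0_4 hne_0_5 hne_1_4 hne_1_5 hne_4_5
              exact ⟨Equiv.ofBijective ![x2, x3, x0, x1, x4, x5] ⟨hinjσ, Finite.surjective_of_injective hinjσ⟩, T.m x2, T.w x2, Or.inr (Or.inr (Or.inr (Or.inr (Or.inr (Or.inr (⟨cmu_2, cmu_3, cmu_0, cmu_1, cmu_4, cmu_5, cw_2, cw_3, cw_0, cw_1, cw_4, cw_5, ca_2_2, hz_2_3, ca_2_0, hz_2_1, hz_2_4, hz_2_5, ca_3_3, ca_3_0, hz_3_1, hz_3_4, hz_3_5, ca_0_0, ca_0_1, hz_0_4, hz_0_5, ca_1_1, ca_1_4, ca_1_5, ca_4_4, hz_4_5, ca_5_5⟩))))))⟩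
            · by_cases hq_0 : ∃ y, (y ≠ x0 ∧ y ≠ x1 ∧ y ≠ x2 ∧ y ≠ x3 ∧ y ≠ x4) ∧ T.a x0 y ≠ 0
              · obtain ⟨x5, ⟨hn0, hn1, hn2, hn3, hn4⟩, hadj_0_5⟩ := hq_0
                have hne_0_5 : x0 ≠ x5 := hn0.symm
                have hne_1_5 : x1 ≠ x5 := hn1.symm
                have hne_2_5 : x2 ≠ x5 := hn2.symm
                have hne_3_5 : x3 ≠ x5 := hn3.symm
                have hne_4_5 : x4 ≠ x5 := hn4.symm
                have hadj_5_0 : T.a x5 x0 ≠ 0 := by rw [hsym]; exact hadj_0_5
                have hl_0_5 := NT.lb1 T _ _ hne_0_5 hadj_0_5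
                have hl_5_0 := NT.lb1 T _ _ hne_0_5.symm hadj_5_0
                have hs_0_5 : T.a x0 x5 = T.a x5 x0 := hsym _ _
                have hz_1_5 : T.a x1 x5 = 0 := by
                  by_contra h
                  exact hq_1 ⟨x5, ⟨hne_0_5.symm, hne_1_5.symm, hne_2_5.symm, hne_3_5.symm, hne_4_5.symm⟩, h⟩
                have hz_5_1 : T.a x5 x1 = 0 := by rw [hsym]; exact hz_1_5
                have hz_2_5 : T.a x2 x5 = 0 := by
                  by_contra h
                  exact hq_2 ⟨x5, ⟨hne_0_5.symm, hne_1_5.symm, hne_2_5.symm, hne_3_5.symm⟩, h⟩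
                have hz_5_2 : T.a x5 x2 = 0 := by rw [hsym]; exact hz_2_5
                have hz_3_5 : T.a x3 x5 = 0 := by
                  by_contra h
                  exact hq_3 ⟨x5, ⟨hne_0_5.symm, hne_1_5.symm, hne_2_5.symm, hne_3_5.symm⟩, h⟩
                have hz_5_3 : T.a x5 x3 = 0 := by rw [hsym]; exact hz_3_5
                have hz_4_5 : T.a x4 x5 = 0 := by
                  by_contra h
                  exact hq_4 ⟨x5, ⟨hne_0_5.symm, hne_1_5.symm, hne_2_5.symm, hne_3_5.symm, hne_4_5.symm⟩, h⟩
                have hz_5_4 : T.a x5 x4 = 0 := by rw [hsym]; exact hz_4_5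
                exfalso
                refine NT.cert5 T x0 x1 x2 x3 x5 hne_0_1 hne_0_2 hne_0_3 hne_0_5 hne_1_2 hne_1_3 hne_1_5 hne_2_3 hne_2_5 hne_3_5 (by norm_num) 2 1 1 1 1 (by norm_num) (by norm_num) (by norm_num) (by norm_num) (by norm_num) ?_ ?_ ?_ ?_ ?_
                · linarith only [hd x0, hwp x0, hl_0_1, hl_0_2, hl_0_3, hl_0_5]
                · linarith only [hd x1, hwp x1, hl_1_0, hnn x1 x2 hne_1_2, hnn x1 x3 hne_1_3, hnn x1 x5 hne_1_5]
                · linarith only [hd x2, hwp x2, hl_2_0, hnn x2 x1 hne_1_2.symm, hnn x2 x3 hne_2_3, hnn x2 x5 hne_2_5]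
                · linarith only [hd x3, hwp x3, hl_3_0, hnn x3 x1 hne_1_3.symm, hnn x3 x2 hne_2_3.symm, hnn x3 x5 hne_3_5]
                · linarith only [hd x5, hwp x5, hl_5_0, hnn x5 x1 hne_1_5.symm, hnn x5 x2 hne_2_5.symm, hnn x5 x3 hne_3_5.symm]
              · exfalso
                refine NT.not_closed T ![x0, x1, x2, x3, x4] (by norm_num) (by norm_num) ?_
                intro s y hy
                by_contra hcon
                fin_cases s
                · exact hq_0 ⟨y, ⟨fun h => hcon ⟨(0 : Fin 5), h⟩, fun h => hcon ⟨(1 : Fin 5), h⟩, fun h => hcon ⟨(2 : Fin 5), h⟩, fun h => hcon ⟨(3 : Fin 5), h⟩, fun h => hcon ⟨(4 : Fin 5), h⟩⟩, hy⟩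
                · exact hq_1 ⟨y, ⟨fun h => hcon ⟨(0 : Fin 5), h⟩, fun h => hcon ⟨(1 : Fin 5), h⟩, fun h => hcon ⟨(2 : Fin 5), h⟩, fun h => hcon ⟨(3 : Fin 5), h⟩, fun h => hcon ⟨(4 : Fin 5), h⟩⟩, hy⟩
                · exact hq_2 ⟨y, ⟨fun h => hcon ⟨(0 : Fin 5), h⟩, fun h => hcon ⟨(1 : Fin 5), h⟩, fun h => hcon ⟨(2 : Fin 5), h⟩, fun h => hcon ⟨(3 : Fin 5), h⟩⟩, hy⟩
                · exact hq_3 ⟨y, ⟨fun h => hcon ⟨(0 : Fin 5), h⟩, fun h => hcon ⟨(1 : Fin 5), h⟩, fun h => hcon ⟨(2 : Fin 5), h⟩, fun h => hcon ⟨(3 : Fin 5), h⟩⟩, hy⟩
                · exact hq_4 ⟨y, ⟨fun h => hcon ⟨(0 : Fin 5), h⟩, fun h => hcon ⟨(1 : Fin 5), h⟩, fun h => hcon ⟨(2 : Fin 5), h⟩, fun h => hcon ⟨(3 : Fin 5), h⟩, fun h => hcon ⟨(4 : Fin 5), h⟩⟩, hy⟩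
        · by_cases hq_0 : ∃ y, (y ≠ x0 ∧ y ≠ x1 ∧ y ≠ x2 ∧ y ≠ x3) ∧ T.a x0 y ≠ 0
          · obtain ⟨x4, ⟨hn0, hn1, hn2, hn3⟩, hadj_0_4⟩ := hq_0
            have hne_0_4 : x0 ≠ x4 := hn0.symm
            have hne_1_4 : x1 ≠ x4 := hn1.symm
            have hne_2_4 : x2 ≠ x4 := hn2.symm
            have hne_3_4 : x3 ≠ x4 := hn3.symm
            have hadj_4_0 : T.a x4 x0 ≠ 0 := by rw [hsym]; exact hadj_0_4
            have hl_0_4 := NT.lb1 T _ _ hne_0_4 hadj_0_4
            have hl_4_0 := NT.lb1 T _ _ hne_0_4.symm hadj_4_0
            have hs_0_4 : T.a x0 x4 = T.a x4 x0 := hsym _ _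
            have hz_1_4 : T.a x1 x4 = 0 := by
              by_contra h
              exact hq_1 ⟨x4, ⟨hne_0_4.symm, hne_1_4.symm, hne_2_4.symm, hne_3_4.symm⟩, h⟩
            have hz_4_1 : T.a x4 x1 = 0 := by rw [hsym]; exact hz_1_4
            have hz_2_4 : T.a x2 x4 = 0 := by
              by_contra h
              exact hq_2 ⟨x4, ⟨hne_0_4.symm, hne_1_4.symm, hne_2_4.symm, hne_3_4.symm⟩, h⟩
            have hz_4_2 : T.a x4 x2 = 0 := by rw [hsym]; exact hz_2_4
            have hz_3_4 : T.a x3 x4 = 0 := by
              by_contra h
              exact hq_3 ⟨x4, ⟨hne_0_4.symm, hne_1_4.symm, hne_2_4.symm, hne_3_4.symm⟩, h⟩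
            have hz_4_3 : T.a x4 x3 = 0 := by rw [hsym]; exact hz_3_4
            exfalso
            refine NT.cert5 T x0 x1 x2 x3 x4 hne_0_1 hne_0_2 hne_0_3 hne_0_4 hne_1_2 hne_1_3 hne_1_4 hne_2_3 hne_2_4 hne_3_4 (by norm_num) 2 1 1 1 1 (by norm_num) (by norm_num) (by norm_num) (by norm_num) (by norm_num) ?_ ?_ ?_ ?_ ?_
            · linarith only [hd x0, hwp x0, hl_0_1, hl_0_2, hl_0_3, hl_0_4]
            · linarith only [hd x1, hwp x1, hl_1_0, hnn x1 x2 hne_1_2, hnn x1 x3 hne_1_3, hnn x1 x4 hne_1_4]
            · linarith only [hd x2, hwp x2, hl_2_0, hnn x2 x1 hne_1_2.symm, hnn x2 x3 hne_2_3, hnn x2 x4 hne_2_4]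
            · linarith only [hd x3, hwp x3, hl_3_0, hnn x3 x1 hne_1_3.symm, hnn x3 x2 hne_2_3.symm, hnn x3 x4 hne_3_4]
            · linarith only [hd x4, hwp x4, hl_4_0, hnn x4 x1 hne_1_4.symm, hnn x4 x2 hne_2_4.symm, hnn x4 x3 hne_3_4.symm]
          · exfalso
            refine NT.not_closed T ![x0, x1, x2, x3] (by norm_num) (by norm_num) ?_
            intro s y hy
            by_contra hcon
            fin_cases s
            · exact hq_0 ⟨y, ⟨fun h => hcon ⟨(0 : Fin 4), h⟩, fun h => hcon ⟨(1 : Fin 4), h⟩, fun h => hcon ⟨(2 : Fin 4), h⟩, fun h => hcon ⟨(3 : Fin 4), h⟩⟩, hy⟩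
            · exact hq_1 ⟨y, ⟨fun h => hcon ⟨(0 : Fin 4), h⟩, fun h => hcon ⟨(1 : Fin 4), h⟩, fun h => hcon ⟨(2 : Fin 4), h⟩, fun h => hcon ⟨(3 : Fin 4), h⟩⟩, hy⟩
            · exact hq_2 ⟨y, ⟨fun h => hcon ⟨(0 : Fin 4), h⟩, fun h => hcon ⟨(1 : Fin 4), h⟩, fun h => hcon ⟨(2 : Fin 4), h⟩, fun h => hcon ⟨(3 : Fin 4), h⟩⟩, hy⟩
            · exact hq_3 ⟨y, ⟨fun h => hcon ⟨(0 : Fin 4), h⟩, fun h => hcon ⟨(1 : Fin 4), h⟩, fun h => hcon ⟨(2 : Fin 4), h⟩, fun h => hcon ⟨(3 : Fin 4), h⟩⟩, hy⟩
  · by_cases hleaf : ∃ x y : Fin 6, x ≠ y ∧ T.a x y ≠ 0 ∧ ∀ z, T.a x z ≠ 0 → z = x ∨ z = y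
    · obtain ⟨x0, x1, hne_0_1, hadj_0_1, hlf⟩ := hleaf
      have hadj_1_0 : T.a x1 x0 ≠ 0 := by rw [hsym]; exact hadj_0_1
      have hl_0_1 := NT.lb1 T _ _ hne_0_1 hadj_0_1
      have hl_1_0 := NT.lb1 T _ _ hne_0_1.symm hadj_1_0
      have hs_0_1 : T.a x0 x1 = T.a x1 x0 := hsym _ _
      have hq_0 : ¬ ∃ y, (y ≠ x0 ∧ y ≠ x1) ∧ T.a x0 y ≠ 0 := by
        rintro ⟨y, ⟨h0, h1⟩, h⟩
        rcases hlf y h with e | e
        · exact h0 e
        · exact h1 e
      by_cases hq_1 : ∃ y, (y ≠ x0 ∧ y ≠ x1) ∧ T.a x1 y ≠ 0
      · obtain ⟨x2, ⟨hn0, hn1⟩, hadj_1_2⟩ := hq_1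
        have hne_0_2 : x0 ≠ x2 := hn0.symm
        have hne_1_2 : x1 ≠ x2 := hn1.symm
        have hadj_2_1 : T.a x2 x1 ≠ 0 := by rw [hsym]; exact hadj_1_2
        have hl_1_2 := NT.lb1 T _ _ hne_1_2 hadj_1_2
        have hl_2_1 := NT.lb1 T _ _ hne_1_2.symm hadj_2_1
        have hs_1_2 : T.a x1 x2 = T.a x2 x1 := hsym _ _
        have hz_0_2 : T.a x0 x2 = 0 := by
          by_contra h
          exact hq_0 ⟨x2, ⟨hne_0_2.symm, hne_1_2.symm⟩, h⟩
        have hz_2_0 : T.a x2 x0 = 0 := by rw [hsym]; exact hz_0_2
        by_cases hq_2 : ∃ y, (y ≠ x0 ∧ y ≠ x1 ∧ y ≠ x2) ∧ T.a x2 y ≠ 0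
        · obtain ⟨x3, ⟨hn0, hn1, hn2⟩, hadj_2_3⟩ := hq_2
          have hne_0_3 : x0 ≠ x3 := hn0.symm
          have hne_1_3 : x1 ≠ x3 := hn1.symm
          have hne_2_3 : x2 ≠ x3 := hn2.symm
          have hadj_3_2 : T.a x3 x2 ≠ 0 := by rw [hsym]; exact hadj_2_3
          have hl_2_3 := NT.lb1 T _ _ hne_2_3 hadj_2_3
          have hl_3_2 := NT.lb1 T _ _ hne_2_3.symm hadj_3_2
          have hs_2_3 : T.a x2 x3 = T.a x3 x2 := hsym _ _
          have hz_0_3 : T.a x0 x3 = 0 := by
            by_contra h
            exact hq_0 ⟨x3, ⟨hne_0_3.symm, hne_1_3.symm⟩, h⟩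
          have hz_3_0 : T.a x3 x0 = 0 := by rw [hsym]; exact hz_0_3
          have hz_1_3 : T.a x1 x3 = 0 := by
            by_contra hadj_1_3
            have hadj_3_1 : T.a x3 x1 ≠ 0 := by rw [hsym]; exact hadj_1_3
            have hl_1_3 := NT.lb1 T _ _ hne_1_3 hadj_1_3
            have hl_3_1 := NT.lb1 T _ _ hne_1_3.symm hadj_3_1
            have hs_1_3 : T.a x1 x3 = T.a x3 x1 := hsym _ _
            exact h3 ⟨x1, x0, x2, x3, hne_0_1.symm, hne_1_2, hne_1_3, hne_0_2, hne_0_3, hne_2_3, hadj_1_0, hadj_1_2, hadj_1_3⟩
          have hz_3_1 : T.a x3 x1 = 0 := by rw [hsym]; exact hz_1_3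
          by_cases hq_3 : ∃ y, (y ≠ x0 ∧ y ≠ x1 ∧ y ≠ x2 ∧ y ≠ x3) ∧ T.a x3 y ≠ 0
          · obtain ⟨x4, ⟨hn0, hn1, hn2, hn3⟩, hadj_3_4⟩ := hq_3
            have hne_0_4 : x0 ≠ x4 := hn0.symm
            have hne_1_4 : x1 ≠ x4 := hn1.symm
            have hne_2_4 : x2 ≠ x4 := hn2.symm
            have hne_3_4 : x3 ≠ x4 := hn3.symm
            have hadj_4_3 : T.a x4 x3 ≠ 0 := by rw [hsym]; exact hadj_3_4
            have hl_3_4 := NT.lb1 T _ _ hne_3_4 hadj_3_4
            have hl_4_3 := NT.lb1 T _ _ hne_3_4.symm hadj_4_3
            have hs_3_4 : T.a x3 x4 = T.a x4 x3 := hsym _ _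
            have hz_0_4 : T.a x0 x4 = 0 := by
              by_contra h
              exact hq_0 ⟨x4, ⟨hne_0_4.symm, hne_1_4.symm⟩, h⟩
            have hz_4_0 : T.a x4 x0 = 0 := by rw [hsym]; exact hz_0_4
            have hz_1_4 : T.a x1 x4 = 0 := by
              by_contra hadj_1_4
              have hadj_4_1 : T.a x4 x1 ≠ 0 := by rw [hsym]; exact hadj_1_4
              have hl_1_4 := NT.lb1 T _ _ hne_1_4 hadj_1_4
              have hl_4_1 := NT.lb1 T _ _ hne_1_4.symm hadj_4_1
              have hs_1_4 : T.a x1 x4 = T.a x4 x1 := hsym _ _
              exact h3 ⟨x1, x0, x2, x4, hne_0_1.symm, hne_1_2, hne_1_4, hne_0_2, hne_0_4, hne_2_4, hadj_1_0, hadj_1_2, hadj_1_4⟩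
            have hz_4_1 : T.a x4 x1 = 0 := by rw [hsym]; exact hz_1_4
            have hz_2_4 : T.a x2 x4 = 0 := by
              by_contra hadj_2_4
              have hadj_4_2 : T.a x4 x2 ≠ 0 := by rw [hsym]; exact hadj_2_4
              have hl_2_4 := NT.lb1 T _ _ hne_2_4 hadj_2_4
              have hl_4_2 := NT.lb1 T _ _ hne_2_4.symm hadj_4_2
              have hs_2_4 : T.a x2 x4 = T.a x4 x2 := hsym _ _
              exact h3 ⟨x2, x1, x3, x4, hne_1_2.symm, hne_2_3, hne_2_4, hne_1_3, hne_1_4, hne_3_4, hadj_2_1, hadj_2_3, hadj_2_4⟩
            have hz_4_2 : T.a x4 x2 = 0 := by rw [hsym]; exact hz_2_4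
            by_cases hq_4 : ∃ y, (y ≠ x0 ∧ y ≠ x1 ∧ y ≠ x2 ∧ y ≠ x3 ∧ y ≠ x4) ∧ T.a x4 y ≠ 0
            · obtain ⟨x5, ⟨hn0, hn1, hn2, hn3, hn4⟩, hadj_4_5⟩ := hq_4
              have hne_0_5 : x0 ≠ x5 := hn0.symm
              have hne_1_5 : x1 ≠ x5 := hn1.symm
              have hne_2_5 : x2 ≠ x5 := hn2.symm
              have hne_3_5 : x3 ≠ x5 := hn3.symm
              have hne_4_5 : x4 ≠ x5 := hn4.symm
              have hadj_5_4 : T.a x5 x4 ≠ 0 := by rw [hsym]; exact hadj_4_5
              have hl_4_5 := NT.lb1 T _ _ hne_4_5 hadj_4_5
              have hl_5_4 := NT.lb1 T _ _ hne_4_5.symm hadj_5_4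
              have hs_4_5 : T.a x4 x5 = T.a x5 x4 := hsym _ _
              have hz_0_5 : T.a x0 x5 = 0 := by
                by_contra h
                exact hq_0 ⟨x5, ⟨hne_0_5.symm, hne_1_5.symm⟩, h⟩
              have hz_5_0 : T.a x5 x0 = 0 := by rw [hsym]; exact hz_0_5
              have hz_1_5 : T.a x1 x5 = 0 := by
                by_contra hadj_1_5
                have hadj_5_1 : T.a x5 x1 ≠ 0 := by rw [hsym]; exact hadj_1_5
                have hl_1_5 := NT.lb1 T _ _ hne_1_5 hadj_1_5
                have hl_5_1 := NT.lb1 T _ _ hne_1_5.symm hadj_5_1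
                have hs_1_5 : T.a x1 x5 = T.a x5 x1 := hsym _ _
                exact h3 ⟨x1, x0, x2, x5, hne_0_1.symm, hne_1_2, hne_1_5, hne_0_2, hne_0_5, hne_2_5, hadj_1_0, hadj_1_2, hadj_1_5⟩
              have hz_5_1 : T.a x5 x1 = 0 := by rw [hsym]; exact hz_1_5
              have hz_2_5 : T.a x2 x5 = 0 := by
                by_contra hadj_2_5
                have hadj_5_2 : T.a x5 x2 ≠ 0 := by rw [hsym]; exact hadj_2_5
                have hl_2_5 := NT.lb1 T _ _ hne_2_5 hadj_2_5
                have hl_5_2 := NT.lb1 T _ _ hne_2_5.symm hadj_5_2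
                have hs_2_5 : T.a x2 x5 = T.a x5 x2 := hsym _ _
                exact h3 ⟨x2, x1, x3, x5, hne_1_2.symm, hne_2_3, hne_2_5, hne_1_3, hne_1_5, hne_3_5, hadj_2_1, hadj_2_3, hadj_2_5⟩
              have hz_5_2 : T.a x5 x2 = 0 := by rw [hsym]; exact hz_2_5
              have hz_3_5 : T.a x3 x5 = 0 := by
                by_contra hadj_3_5
                have hadj_5_3 : T.a x5 x3 ≠ 0 := by rw [hsym]; exact hadj_3_5
                have hl_3_5 := NT.lb1 T _ _ hne_3_5 hadj_3_5
                have hl_5_3 := NT.lb1 T _ _ hne_3_5.symm hadj_5_3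
                have hs_3_5 : T.a x3 x5 = T.a x5 x3 := hsym _ _
                exact h3 ⟨x3, x2, x4, x5, hne_2_3.symm, hne_3_4, hne_3_5, hne_2_4, hne_2_5, hne_4_5, hadj_3_2, hadj_3_4, hadj_3_5⟩
              have hz_5_3 : T.a x5 x3 = 0 := by rw [hsym]; exact hz_3_5
              have hinj : Function.Injective ![x0, x1, x2, x3, x4, x5] := NT.inj6 _ _ _ _ _ _ hne_0_1 hne_0_2 hne_0_3 hne_0_4 hne_0_5 hne_1_2 hne_1_3 hne_1_4 hne_1_5 hne_2_3 hne_2_4 hne_2_5 hne_3_4 hne_3_5 hne_4_5
              have hrow_0 : T.a x0 x0 * T.m x0 + T.a x0 x1 * T.m x1 + T.a x0 x2 * T.m x2 + T.a x0 x3 * T.m x3 + T.a x0 x4 * T.m x4 + T.a x0 x5 * T.m x5 = 0 := by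
                have h := NT.row_fun T _ hinj (0 : Fin 6)
                rw [Fin.sum_univ_six] at h
                exact h
              have hrow_1 : T.a x1 x0 * T.m x0 + T.a x1 x1 * T.m x1 + T.a x1 x2 * T.m x2 + T.a x1 x3 * T.m x3 + T.a x1 x4 * T.m x4 + T.a x1 x5 * T.m x5 = 0 := by
                have h := NT.row_fun T _ hinj (1 : Fin 6)
                rw [Fin.sum_univ_six] at h
                exact h
              have hrow_2 : T.a x2 x0 * T.m x0 + T.a x2 x1 * T.m x1 + T.a x2 x2 * T.m x2 + T.a x2 x3 * T.m x3 + T.a x2 x4 * T.m x4 + T.a x2 x5 * T.m x5 = 0 := by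
                have h := NT.row_fun T _ hinj (2 : Fin 6)
                rw [Fin.sum_univ_six] at h
                exact h
              have hrow_3 : T.a x3 x0 * T.m x0 + T.a x3 x1 * T.m x1 + T.a x3 x2 * T.m x2 + T.a x3 x3 * T.m x3 + T.a x3 x4 * T.m x4 + T.a x3 x5 * T.m x5 = 0 := by
                have h := NT.row_fun T _ hinj (3 : Fin 6)
                rw [Fin.sum_univ_six] at h
                exact h
              have hrow_4 : T.a x4 x0 * T.m x0 + T.a x4 x1 * T.m x1 + T.a x4 x2 * T.m x2 + T.a x4 x3 * T.m x3 + T.a x4 x4 * T.m x4 + T.a x4 x5 * T.m x5 = 0 := by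
                have h := NT.row_fun T _ hinj (4 : Fin 6)
                rw [Fin.sum_univ_six] at h
                exact h
              have hrow_5 : T.a x5 x0 * T.m x0 + T.a x5 x1 * T.m x1 + T.a x5 x2 * T.m x2 + T.a x5 x3 * T.m x3 + T.a x5 x4 * T.m x4 + T.a x5 x5 * T.m x5 = 0 := by
                have h := NT.row_fun T _ hinj (5 : Fin 6)
                rw [Fin.sum_univ_six] at h
                exact h
              rcases NT.edge3 T x1 x2 hne_1_2 hadj_1_2 with hx_1_2 | hx_1_2 | hx_1_2
              · rcases NT.edge3 T x2 x1 hne_1_2.symm hadj_2_1 with hx_2_1 | hx_2_1 | hx_2_1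
                · rcases NT.edge3 T x2 x3 hne_2_3 hadj_2_3 with hx_2_3 | hx_2_3 | hx_2_3
                  · rcases NT.edge3 T x3 x2 hne_2_3.symm hadj_3_2 with hx_3_2 | hx_3_2 | hx_3_2
                    · rcases NT.edge3 T x3 x4 hne_3_4 hadj_3_4 with hx_3_4 | hx_3_4 | hx_3_4
                      · rcases NT.edge3 T x4 x3 hne_3_4.symm hadj_4_3 with hx_4_3 | hx_4_3 | hx_4_3
                        · rcases NT.edge3 T x0 x1 hne_0_1 hadj_0_1 with hx_0_1 | hx_0_1 | hx_0_1
                          · rcases NT.edge3 T x1 x0 hne_0_1.symm hadj_1_0 with hx_1_0 | hx_1_0 | hx_1_0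
                            · rcases NT.edge3 T x4 x5 hne_4_5 hadj_4_5 with hx_4_5 | hx_4_5 | hx_4_5
                              · rcases NT.edge3 T x5 x4 hne_4_5.symm hadj_5_4 with hx_5_4 | hx_5_4 | hx_5_4
                                · have cw_0 : T.w x0 = T.w x0 := rfl
                                  have cw_1 : T.w x1 = T.w x0 := by linarith only [cw_0, hx_0_1, hx_1_0, hs_0_1]
                                  have cw_2 : T.w x2 = T.w x0 := by linarith only [cw_1, hx_1_2, hx_2_1, hs_1_2]
                                  have cw_3 : T.w x3 = T.w x0 := by linarith only [cw_2, hx_2_3, hx_3_2, hs_2_3]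
                                  have cw_4 : T.w x4 = T.w x0 := by linarith only [cw_3, hx_3_4, hx_4_3, hs_3_4]
                                  have cw_5 : T.w x5 = T.w x0 := by linarith only [cw_4, hx_4_5, hx_5_4, hs_4_5]
                                  have ca_0_0 : T.a x0 x0 = -2 * T.w x0 := by linarith only [hd x0, cw_0]
                                  have ca_0_1 : T.a x0 x1 = T.w x0 := by linarith only [hx_0_1, cw_0]
                                  have ca_1_0 : T.a x1 x0 = T.w x0 := by linarith only [hx_1_0, cw_1]
                                  have ca_1_1 : T.a x1 x1 = -2 * T.w x0 := by linarith only [hd x1, cw_1]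
                                  have ca_1_2 : T.a x1 x2 = T.w x0 := by linarith only [hx_1_2, cw_1]
                                  have ca_2_1 : T.a x2 x1 = T.w x0 := by linarith only [hx_2_1, cw_2]
                                  have ca_2_2 : T.a x2 x2 = -2 * T.w x0 := by linarith only [hd x2, cw_2]
                                  have ca_2_3 : T.a x2 x3 = T.w x0 := by linarith only [hx_2_3, cw_2]
                                  have ca_3_2 : T.a x3 x2 = T.w x0 := by linarith only [hx_3_2, cw_3]
                                  have ca_3_3 : T.a x3 x3 = -2 * T.w x0 := by linarith only [hd x3, cw_3]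
                                  have ca_3_4 : T.a x3 x4 = T.w x0 := by linarith only [hx_3_4, cw_3]
                                  have ca_4_3 : T.a x4 x3 = T.w x0 := by linarith only [hx_4_3, cw_4]
                                  have ca_4_4 : T.a x4 x4 = -2 * T.w x0 := by linarith only [hd x4, cw_4]
                                  have ca_4_5 : T.a x4 x5 = T.w x0 := by linarith only [hx_4_5, cw_4]
                                  have ca_5_4 : T.a x5 x4 = T.w x0 := by linarith only [hx_5_4, cw_5]
                                  have ca_5_5 : T.a x5 x5 = -2 * T.w x0 := by linarith only [hd x5, cw_5]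
                                  have hm_0 : -2 * T.m x0 + 1 * T.m x1 = 0 := by
                                    have h := hrow_0
                                    rw [ca_0_0, ca_0_1, hz_0_2, hz_0_3, hz_0_4, hz_0_5] at h
                                    have h2 : T.w x0 * (-2 * T.m x0 + 1 * T.m x1) = 0 := by linarith only [h]
                                    rcases mul_eq_zero.mp h2 with h3 | h3
                                    · exact absurd h3 (hwp _).ne'
                                    · exact h3
                                  have hm_1 : 1 * T.m x0 + -2 * T.m x1 + 1 * T.m x2 = 0 := by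
                                    have h := hrow_1
                                    rw [ca_1_0, ca_1_1, ca_1_2, hz_1_3, hz_1_4, hz_1_5] at h
                                    have h2 : T.w x0 * (1 * T.m x0 + -2 * T.m x1 + 1 * T.m x2) = 0 := by linarith only [h]
                                    rcases mul_eq_zero.mp h2 with h3 | h3
                                    · exact absurd h3 (hwp _).ne'
                                    · exact h3
                                  have hm_2 : 1 * T.m x1 + -2 * T.m x2 + 1 * T.m x3 = 0 := by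
                                    have h := hrow_2
                                    rw [hz_2_0, ca_2_1, ca_2_2, ca_2_3, hz_2_4, hz_2_5] at h
                                    have h2 : T.w x0 * (1 * T.m x1 + -2 * T.m x2 + 1 * T.m x3) = 0 := by linarith only [h]
                                    rcases mul_eq_zero.mp h2 with h3 | h3
                                    · exact absurd h3 (hwp _).ne'
                                    · exact h3
                                  have hm_3 : 1 * T.m x2 + -2 * T.m x3 + 1 * T.m x4 = 0 := by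
                                    have h := hrow_3
                                    rw [hz_3_0, hz_3_1, ca_3_2, ca_3_3, ca_3_4, hz_3_5] at h
                                    have h2 : T.w x0 * (1 * T.m x2 + -2 * T.m x3 + 1 * T.m x4) = 0 := by linarith only [h]
                                    rcases mul_eq_zero.mp h2 with h3 | h3
                                    · exact absurd h3 (hwp _).ne'
                                    · exact h3
                                  have hm_4 : 1 * T.m x3 + -2 * T.m x4 + 1 * T.m x5 = 0 := by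
                                    have h := hrow_4
                                    rw [hz_4_0, hz_4_1, hz_4_2, ca_4_3, ca_4_4, ca_4_5] at h
                                    have h2 : T.w x0 * (1 * T.m x3 + -2 * T.m x4 + 1 * T.m x5) = 0 := by linarith only [h]
                                    rcases mul_eq_zero.mp h2 with h3 | h3
                                    · exact absurd h3 (hwp _).ne'
                                    · exact h3
                                  have hm_5 : 1 * T.m x4 + -2 * T.m x5 = 0 := by
                                    have h := hrow_5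
                                    rw [hz_5_0, hz_5_1, hz_5_2, hz_5_3, ca_5_4, ca_5_5] at h
                                    have h2 : T.w x0 * (1 * T.m x4 + -2 * T.m x5) = 0 := by linarith only [h]
                                    rcases mul_eq_zero.mp h2 with h3 | h3
                                    · exact absurd h3 (hwp _).ne'
                                    · exact h3
                                  exfalso
                                  linarith only [hm_0, hm_1, hm_2, hm_3, hm_4, hm_5, hmp x0, hmp x1, hmp x2, hmp x3, hmp x4, hmp x5]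
                                · have cw_5 : T.w x5 = T.w x5 := rfl
                                  have cw_4 : T.w x4 = 2 * T.w x5 := by linarith only [cw_5, hx_5_4, hx_4_5, hs_4_5]
                                  have cw_3 : T.w x3 = 2 * T.w x5 := by linarith only [cw_4, hx_4_3, hx_3_4, hs_3_4]
                                  have cw_2 : T.w x2 = 2 * T.w x5 := by linarith only [cw_3, hx_3_2, hx_2_3, hs_2_3]
                                  have cw_1 : T.w x1 = 2 * T.w x5 := by linarith only [cw_2, hx_2_1, hx_1_2, hs_1_2]
                                  have cw_0 : T.w x0 = 2 * T.w x5 := by linarith only [cw_1, hx_1_0, hx_0_1, hs_0_1]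
                                  have ca_0_0 : T.a x0 x0 = -4 * T.w x5 := by linarith only [hd x0, cw_0]
                                  have ca_0_1 : T.a x0 x1 = 2 * T.w x5 := by linarith only [hx_0_1, cw_0]
                                  have ca_1_0 : T.a x1 x0 = 2 * T.w x5 := by linarith only [hx_1_0, cw_1]
                                  have ca_1_1 : T.a x1 x1 = -4 * T.w x5 := by linarith only [hd x1, cw_1]
                                  have ca_1_2 : T.a x1 x2 = 2 * T.w x5 := by linarith only [hx_1_2, cw_1]
                                  have ca_2_1 : T.a x2 x1 = 2 * T.w x5 := by linarith only [hx_2_1, cw_2]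
                                  have ca_2_2 : T.a x2 x2 = -4 * T.w x5 := by linarith only [hd x2, cw_2]
                                  have ca_2_3 : T.a x2 x3 = 2 * T.w x5 := by linarith only [hx_2_3, cw_2]
                                  have ca_3_2 : T.a x3 x2 = 2 * T.w x5 := by linarith only [hx_3_2, cw_3]
                                  have ca_3_3 : T.a x3 x3 = -4 * T.w x5 := by linarith only [hd x3, cw_3]
                                  have ca_3_4 : T.a x3 x4 = 2 * T.w x5 := by linarith only [hx_3_4, cw_3]
                                  have ca_4_3 : T.a x4 x3 = 2 * T.w x5 := by linarith only [hx_4_3, cw_4]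
                                  have ca_4_4 : T.a x4 x4 = -4 * T.w x5 := by linarith only [hd x4, cw_4]
                                  have ca_4_5 : T.a x4 x5 = 2 * T.w x5 := by linarith only [hx_4_5, cw_4]
                                  have ca_5_4 : T.a x5 x4 = 2 * T.w x5 := by linarith only [hx_5_4, cw_5]
                                  have ca_5_5 : T.a x5 x5 = -2 * T.w x5 := by linarith only [hd x5, cw_5]
                                  have hm_0 : -4 * T.m x0 + 2 * T.m x1 = 0 := by
                                    have h := hrow_0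
                                    rw [ca_0_0, ca_0_1, hz_0_2, hz_0_3, hz_0_4, hz_0_5] at h
                                    have h2 : T.w x5 * (-4 * T.m x0 + 2 * T.m x1) = 0 := by linarith only [h]
                                    rcases mul_eq_zero.mp h2 with h3 | h3
                                    · exact absurd h3 (hwp _).ne'
                                    · exact h3
                                  have hm_1 : 2 * T.m x0 + -4 * T.m x1 + 2 * T.m x2 = 0 := by
                                    have h := hrow_1
                                    rw [ca_1_0, ca_1_1, ca_1_2, hz_1_3, hz_1_4, hz_1_5] at h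
                                    have h2 : T.w x5 * (2 * T.m x0 + -4 * T.m x1 + 2 * T.m x2) = 0 := by linarith only [h]
                                    rcases mul_eq_zero.mp h2 with h3 | h3
                                    · exact absurd h3 (hwp _).ne'
                                    · exact h3
                                  have hm_2 : 2 * T.m x1 + -4 * T.m x2 + 2 * T.m x3 = 0 := by
                                    have h := hrow_2
                                    rw [hz_2_0, ca_2_1, ca_2_2, ca_2_3, hz_2_4, hz_2_5] at h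
                                    have h2 : T.w x5 * (2 * T.m x1 + -4 * T.m x2 + 2 * T.m x3) = 0 := by linarith only [h]
                                    rcases mul_eq_zero.mp h2 with h3 | h3
                                    · exact absurd h3 (hwp _).ne'
                                    · exact h3
                                  have hm_3 : 2 * T.m x2 + -4 * T.m x3 + 2 * T.m x4 = 0 := by
                                    have h := hrow_3
                                    rw [hz_3_0, hz_3_1, ca_3_2, ca_3_3, ca_3_4, hz_3_5] at h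
                                    have h2 : T.w x5 * (2 * T.m x2 + -4 * T.m x3 + 2 * T.m x4) = 0 := by linarith only [h]
                                    rcases mul_eq_zero.mp h2 with h3 | h3
                                    · exact absurd h3 (hwp _).ne'
                                    · exact h3
                                  have hm_4 : 2 * T.m x3 + -4 * T.m x4 + 2 * T.m x5 = 0 := by
                                    have h := hrow_4
                                    rw [hz_4_0, hz_4_1, hz_4_2, ca_4_3, ca_4_4, ca_4_5] at h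
                                    have h2 : T.w x5 * (2 * T.m x3 + -4 * T.m x4 + 2 * T.m x5) = 0 := by linarith only [h]
                                    rcases mul_eq_zero.mp h2 with h3 | h3
                                    · exact absurd h3 (hwp _).ne'
                                    · exact h3
                                  have hm_5 : 2 * T.m x4 + -2 * T.m x5 = 0 := by
                                    have h := hrow_5
                                    rw [hz_5_0, hz_5_1, hz_5_2, hz_5_3, ca_5_4, ca_5_5] at h
                                    have h2 : T.w x5 * (2 * T.m x4 + -2 * T.m x5) = 0 := by linarith only [h]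
                                    rcases mul_eq_zero.mp h2 with h3 | h3
                                    · exact absurd h3 (hwp _).ne'
                                    · exact h3
                                  exfalso
                                  linarith only [hm_0, hm_1, hm_2, hm_3, hm_4, hm_5, hmp x0, hmp x1, hmp x2, hmp x3, hmp x4, hmp x5]
                                · exfalso
                                  refine NT.cert3 T x3 x4 x5 hne_3_4 hne_3_5 hne_4_5 (by norm_num) 1 2 3 (by norm_num) (by norm_num) (by norm_num) ?_ ?_ ?_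
                                  · linarith only [hd x3, hwp x3, hx_3_4.ge, hnn x3 x5 hne_3_5]
                                  · linarith only [hd x4, hwp x4, hx_4_3.ge, hx_4_5.ge]
                                  · linarith only [hd x5, hwp x5, hnn x5 x3 hne_3_5.symm, hx_5_4]
                              · rcases NT.edge3 T x5 x4 hne_4_5.symm hadj_5_4 with hx_5_4 | hx_5_4 | hx_5_4
                                · have cw_0 : T.w x0 = T.w x0 := rfl
                                  have cw_1 : T.w x1 = T.w x0 := by linarith only [cw_0, hx_0_1, hx_1_0, hs_0_1]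
                                  have cw_2 : T.w x2 = T.w x0 := by linarith only [cw_1, hx_1_2, hx_2_1, hs_1_2]
                                  have cw_3 : T.w x3 = T.w x0 := by linarith only [cw_2, hx_2_3, hx_3_2, hs_2_3]
                                  have cw_4 : T.w x4 = T.w x0 := by linarith only [cw_3, hx_3_4, hx_4_3, hs_3_4]
                                  have cw_5 : T.w x5 = 2 * T.w x0 := by linarith only [cw_4, hx_4_5, hx_5_4, hs_4_5]
                                  have ca_0_0 : T.a x0 x0 = -2 * T.w x0 := by linarith only [hd x0, cw_0]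
                                  have ca_0_1 : T.a x0 x1 = T.w x0 := by linarith only [hx_0_1, cw_0]
                                  have ca_1_0 : T.a x1 x0 = T.w x0 := by linarith only [hx_1_0, cw_1]
                                  have ca_1_1 : T.a x1 x1 = -2 * T.w x0 := by linarith only [hd x1, cw_1]
                                  have ca_1_2 : T.a x1 x2 = T.w x0 := by linarith only [hx_1_2, cw_1]
                                  have ca_2_1 : T.a x2 x1 = T.w x0 := by linarith only [hx_2_1, cw_2]
                                  have ca_2_2 : T.a x2 x2 = -2 * T.w x0 := by linarith only [hd x2, cw_2]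
                                  have ca_2_3 : T.a x2 x3 = T.w x0 := by linarith only [hx_2_3, cw_2]
                                  have ca_3_2 : T.a x3 x2 = T.w x0 := by linarith only [hx_3_2, cw_3]
                                  have ca_3_3 : T.a x3 x3 = -2 * T.w x0 := by linarith only [hd x3, cw_3]
                                  have ca_3_4 : T.a x3 x4 = T.w x0 := by linarith only [hx_3_4, cw_3]
                                  have ca_4_3 : T.a x4 x3 = T.w x0 := by linarith only [hx_4_3, cw_4]
                                  have ca_4_4 : T.a x4 x4 = -2 * T.w x0 := by linarith only [hd x4, cw_4]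
                                  have ca_4_5 : T.a x4 x5 = 2 * T.w x0 := by linarith only [hx_4_5, cw_4]
                                  have ca_5_4 : T.a x5 x4 = 2 * T.w x0 := by linarith only [hx_5_4, cw_5]
                                  have ca_5_5 : T.a x5 x5 = -4 * T.w x0 := by linarith only [hd x5, cw_5]
                                  have hm_0 : -2 * T.m x0 + 1 * T.m x1 = 0 := by
                                    have h := hrow_0
                                    rw [ca_0_0, ca_0_1, hz_0_2, hz_0_3, hz_0_4, hz_0_5] at h
                                    have h2 : T.w x0 * (-2 * T.m x0 + 1 * T.m x1) = 0 := by linarith only [h]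
                                    rcases mul_eq_zero.mp h2 with h3 | h3
                                    · exact absurd h3 (hwp _).ne'
                                    · exact h3
                                  have hm_1 : 1 * T.m x0 + -2 * T.m x1 + 1 * T.m x2 = 0 := by
                                    have h := hrow_1
                                    rw [ca_1_0, ca_1_1, ca_1_2, hz_1_3, hz_1_4, hz_1_5] at h
                                    have h2 : T.w x0 * (1 * T.m x0 + -2 * T.m x1 + 1 * T.m x2) = 0 := by linarith only [h]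
                                    rcases mul_eq_zero.mp h2 with h3 | h3
                                    · exact absurd h3 (hwp _).ne'
                                    · exact h3
                                  have hm_2 : 1 * T.m x1 + -2 * T.m x2 + 1 * T.m x3 = 0 := by
                                    have h := hrow_2
                                    rw [hz_2_0, ca_2_1, ca_2_2, ca_2_3, hz_2_4, hz_2_5] at h
                                    have h2 : T.w x0 * (1 * T.m x1 + -2 * T.m x2 + 1 * T.m x3) = 0 := by linarith only [h]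
                                    rcases mul_eq_zero.mp h2 with h3 | h3
                                    · exact absurd h3 (hwp _).ne'
                                    · exact h3
                                  have hm_3 : 1 * T.m x2 + -2 * T.m x3 + 1 * T.m x4 = 0 := by
                                    have h := hrow_3
                                    rw [hz_3_0, hz_3_1, ca_3_2, ca_3_3, ca_3_4, hz_3_5] at h
                                    have h2 : T.w x0 * (1 * T.m x2 + -2 * T.m x3 + 1 * T.m x4) = 0 := by linarith only [h]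
                                    rcases mul_eq_zero.mp h2 with h3 | h3
                                    · exact absurd h3 (hwp _).ne'
                                    · exact h3
                                  have hm_4 : 1 * T.m x3 + -2 * T.m x4 + 2 * T.m x5 = 0 := by
                                    have h := hrow_4
                                    rw [hz_4_0, hz_4_1, hz_4_2, ca_4_3, ca_4_4, ca_4_5] at h
                                    have h2 : T.w x0 * (1 * T.m x3 + -2 * T.m x4 + 2 * T.m x5) = 0 := by linarith only [h]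
                                    rcases mul_eq_zero.mp h2 with h3 | h3
                                    · exact absurd h3 (hwp _).ne'
                                    · exact h3
                                  have hm_5 : 2 * T.m x4 + -4 * T.m x5 = 0 := by
                                    have h := hrow_5
                                    rw [hz_5_0, hz_5_1, hz_5_2, hz_5_3, ca_5_4, ca_5_5] at h
                                    have h2 : T.w x0 * (2 * T.m x4 + -4 * T.m x5) = 0 := by linarith only [h]
                                    rcases mul_eq_zero.mp h2 with h3 | h3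
                                    · exact absurd h3 (hwp _).ne'
                                    · exact h3
                                  exfalso
                                  linarith only [hm_0, hm_1, hm_2, hm_3, hm_4, hm_5, hmp x0, hmp x1, hmp x2, hmp x3, hmp x4, hmp x5]
                                · exfalso
                                  refine NT.cert2 T x4 x5 hne_4_5 (by norm_num) 1 1 (by norm_num) (by norm_num) ?_ ?_
                                  · linarith only [hd x4, hwp x4, hx_4_5.ge]
                                  · linarith only [hd x5, hwp x5, hx_5_4.ge]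
                                · exfalso
                                  refine NT.cert2 T x4 x5 hne_4_5 (by norm_num) 1 1 (by norm_num) (by norm_num) ?_ ?_
                                  · linarith only [hd x4, hwp x4, hx_4_5.ge]
                                  · linarith only [hd x5, hwp x5, hx_5_4]
                              · exfalso
                                refine NT.cert3 T x3 x4 x5 hne_3_4 hne_3_5 hne_4_5 (by norm_num) 1 2 1 (by norm_num) (by norm_num) (by norm_num) ?_ ?_ ?_
                                · linarith only [hd x3, hwp x3, hx_3_4.ge, hnn x3 x5 hne_3_5]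
                                · linarith only [hd x4, hwp x4, hx_4_3.ge, hx_4_5]
                                · linarith only [hd x5, hwp x5, hnn x5 x3 hne_3_5.symm, hl_5_4]
                            · rcases NT.edge3 T x4 x5 hne_4_5 hadj_4_5 with hx_4_5 | hx_4_5 | hx_4_5
                              · rcases NT.edge3 T x5 x4 hne_4_5.symm hadj_5_4 with hx_5_4 | hx_5_4 | hx_5_4
                                · have cw_1 : T.w x1 = T.w x1 := rfl
                                  have cw_0 : T.w x0 = 2 * T.w x1 := by linarith only [cw_1, hx_1_0, hx_0_1, hs_0_1]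
                                  have cw_2 : T.w x2 = T.w x1 := by linarith only [cw_1, hx_1_2, hx_2_1, hs_1_2]
                                  have cw_3 : T.w x3 = T.w x1 := by linarith only [cw_2, hx_2_3, hx_3_2, hs_2_3]
                                  have cw_4 : T.w x4 = T.w x1 := by linarith only [cw_3, hx_3_4, hx_4_3, hs_3_4]
                                  have cw_5 : T.w x5 = T.w x1 := by linarith only [cw_4, hx_4_5, hx_5_4, hs_4_5]
                                  have ca_0_0 : T.a x0 x0 = -4 * T.w x1 := by linarith only [hd x0, cw_0]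
                                  have ca_0_1 : T.a x0 x1 = 2 * T.w x1 := by linarith only [hx_0_1, cw_0]
                                  have ca_1_0 : T.a x1 x0 = 2 * T.w x1 := by linarith only [hx_1_0, cw_1]
                                  have ca_1_1 : T.a x1 x1 = -2 * T.w x1 := by linarith only [hd x1, cw_1]
                                  have ca_1_2 : T.a x1 x2 = T.w x1 := by linarith only [hx_1_2, cw_1]
                                  have ca_2_1 : T.a x2 x1 = T.w x1 := by linarith only [hx_2_1, cw_2]
                                  have ca_2_2 : T.a x2 x2 = -2 * T.w x1 := by linarith only [hd x2, cw_2]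
                                  have ca_2_3 : T.a x2 x3 = T.w x1 := by linarith only [hx_2_3, cw_2]
                                  have ca_3_2 : T.a x3 x2 = T.w x1 := by linarith only [hx_3_2, cw_3]
                                  have ca_3_3 : T.a x3 x3 = -2 * T.w x1 := by linarith only [hd x3, cw_3]
                                  have ca_3_4 : T.a x3 x4 = T.w x1 := by linarith only [hx_3_4, cw_3]
                                  have ca_4_3 : T.a x4 x3 = T.w x1 := by linarith only [hx_4_3, cw_4]
                                  have ca_4_4 : T.a x4 x4 = -2 * T.w x1 := by linarith only [hd x4, cw_4]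
                                  have ca_4_5 : T.a x4 x5 = T.w x1 := by linarith only [hx_4_5, cw_4]
                                  have ca_5_4 : T.a x5 x4 = T.w x1 := by linarith only [hx_5_4, cw_5]
                                  have ca_5_5 : T.a x5 x5 = -2 * T.w x1 := by linarith only [hd x5, cw_5]
                                  have hm_0 : -4 * T.m x0 + 2 * T.m x1 = 0 := by
                                    have h := hrow_0
                                    rw [ca_0_0, ca_0_1, hz_0_2, hz_0_3, hz_0_4, hz_0_5] at h
                                    have h2 : T.w x1 * (-4 * T.m x0 + 2 * T.m x1) = 0 := by linarith only [h]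
                                    rcases mul_eq_zero.mp h2 with h3 | h3
                                    · exact absurd h3 (hwp _).ne'
                                    · exact h3
                                  have hm_1 : 2 * T.m x0 + -2 * T.m x1 + 1 * T.m x2 = 0 := by
                                    have h := hrow_1
                                    rw [ca_1_0, ca_1_1, ca_1_2, hz_1_3, hz_1_4, hz_1_5] at h
                                    have h2 : T.w x1 * (2 * T.m x0 + -2 * T.m x1 + 1 * T.m x2) = 0 := by linarith only [h]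
                                    rcases mul_eq_zero.mp h2 with h3 | h3
                                    · exact absurd h3 (hwp _).ne'
                                    · exact h3
                                  have hm_2 : 1 * T.m x1 + -2 * T.m x2 + 1 * T.m x3 = 0 := by
                                    have h := hrow_2
                                    rw [hz_2_0, ca_2_1, ca_2_2, ca_2_3, hz_2_4, hz_2_5] at h
                                    have h2 : T.w x1 * (1 * T.m x1 + -2 * T.m x2 + 1 * T.m x3) = 0 := by linarith only [h]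
                                    rcases mul_eq_zero.mp h2 with h3 | h3
                                    · exact absurd h3 (hwp _).ne'
                                    · exact h3
                                  have hm_3 : 1 * T.m x2 + -2 * T.m x3 + 1 * T.m x4 = 0 := by
                                    have h := hrow_3
                                    rw [hz_3_0, hz_3_1, ca_3_2, ca_3_3, ca_3_4, hz_3_5] at h
                                    have h2 : T.w x1 * (1 * T.m x2 + -2 * T.m x3 + 1 * T.m x4) = 0 := by linarith only [h]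
                                    rcases mul_eq_zero.mp h2 with h3 | h3
                                    · exact absurd h3 (hwp _).ne'
                                    · exact h3
                                  have hm_4 : 1 * T.m x3 + -2 * T.m x4 + 1 * T.m x5 = 0 := by
                                    have h := hrow_4
                                    rw [hz_4_0, hz_4_1, hz_4_2, ca_4_3, ca_4_4, ca_4_5] at h
                                    have h2 : T.w x1 * (1 * T.m x3 + -2 * T.m x4 + 1 * T.m x5) = 0 := by linarith only [h]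
                                    rcases mul_eq_zero.mp h2 with h3 | h3
                                    · exact absurd h3 (hwp _).ne'
                                    · exact h3
                                  have hm_5 : 1 * T.m x4 + -2 * T.m x5 = 0 := by
                                    have h := hrow_5
                                    rw [hz_5_0, hz_5_1, hz_5_2, hz_5_3, ca_5_4, ca_5_5] at h
                                    have h2 : T.w x1 * (1 * T.m x4 + -2 * T.m x5) = 0 := by linarith only [h]
                                    rcases mul_eq_zero.mp h2 with h3 | h3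
                                    · exact absurd h3 (hwp _).ne'
                                    · exact h3
                                  exfalso
                                  linarith only [hm_0, hm_1, hm_2, hm_3, hm_4, hm_5, hmp x0, hmp x1, hmp x2, hmp x3, hmp x4, hmp x5]
                                · have cw_5 : T.w x5 = T.w x5 := rfl
                                  have cw_4 : T.w x4 = 2 * T.w x5 := by linarith only [cw_5, hx_5_4, hx_4_5, hs_4_5]
                                  have cw_3 : T.w x3 = 2 * T.w x5 := by linarith only [cw_4, hx_4_3, hx_3_4, hs_3_4]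
                                  have cw_2 : T.w x2 = 2 * T.w x5 := by linarith only [cw_3, hx_3_2, hx_2_3, hs_2_3]
                                  have cw_1 : T.w x1 = 2 * T.w x5 := by linarith only [cw_2, hx_2_1, hx_1_2, hs_1_2]
                                  have cw_0 : T.w x0 = 4 * T.w x5 := by linarith only [cw_1, hx_1_0, hx_0_1, hs_0_1]
                                  have ca_0_0 : T.a x0 x0 = -8 * T.w x5 := by linarith only [hd x0, cw_0]
                                  have ca_0_1 : T.a x0 x1 = 4 * T.w x5 := by linarith only [hx_0_1, cw_0]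
                                  have ca_1_0 : T.a x1 x0 = 4 * T.w x5 := by linarith only [hx_1_0, cw_1]
                                  have ca_1_1 : T.a x1 x1 = -4 * T.w x5 := by linarith only [hd x1, cw_1]
                                  have ca_1_2 : T.a x1 x2 = 2 * T.w x5 := by linarith only [hx_1_2, cw_1]
                                  have ca_2_1 : T.a x2 x1 = 2 * T.w x5 := by linarith only [hx_2_1, cw_2]
                                  have ca_2_2 : T.a x2 x2 = -4 * T.w x5 := by linarith only [hd x2, cw_2]
                                  have ca_2_3 : T.a x2 x3 = 2 * T.w x5 := by linarith only [hx_2_3, cw_2]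
                                  have ca_3_2 : T.a x3 x2 = 2 * T.w x5 := by linarith only [hx_3_2, cw_3]
                                  have ca_3_3 : T.a x3 x3 = -4 * T.w x5 := by linarith only [hd x3, cw_3]
                                  have ca_3_4 : T.a x3 x4 = 2 * T.w x5 := by linarith only [hx_3_4, cw_3]
                                  have ca_4_3 : T.a x4 x3 = 2 * T.w x5 := by linarith only [hx_4_3, cw_4]
                                  have ca_4_4 : T.a x4 x4 = -4 * T.w x5 := by linarith only [hd x4, cw_4]
                                  have ca_4_5 : T.a x4 x5 = 2 * T.w x5 := by linarith only [hx_4_5, cw_4]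
                                  have ca_5_4 : T.a x5 x4 = 2 * T.w x5 := by linarith only [hx_5_4, cw_5]
                                  have ca_5_5 : T.a x5 x5 = -2 * T.w x5 := by linarith only [hd x5, cw_5]
                                  have hm_0 : -8 * T.m x0 + 4 * T.m x1 = 0 := by
                                    have h := hrow_0
                                    rw [ca_0_0, ca_0_1, hz_0_2, hz_0_3, hz_0_4, hz_0_5] at h
                                    have h2 : T.w x5 * (-8 * T.m x0 + 4 * T.m x1) = 0 := by linarith only [h]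
                                    rcases mul_eq_zero.mp h2 with h3 | h3
                                    · exact absurd h3 (hwp _).ne'
                                    · exact h3
                                  have hm_1 : 4 * T.m x0 + -4 * T.m x1 + 2 * T.m x2 = 0 := by
                                    have h := hrow_1
                                    rw [ca_1_0, ca_1_1, ca_1_2, hz_1_3, hz_1_4, hz_1_5] at h
                                    have h2 : T.w x5 * (4 * T.m x0 + -4 * T.m x1 + 2 * T.m x2) = 0 := by linarith only [h]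
                                    rcases mul_eq_zero.mp h2 with h3 | h3
                                    · exact absurd h3 (hwp _).ne'
                                    · exact h3
                                  have hm_2 : 2 * T.m x1 + -4 * T.m x2 + 2 * T.m x3 = 0 := by
                                    have h := hrow_2
                                    rw [hz_2_0, ca_2_1, ca_2_2, ca_2_3, hz_2_4, hz_2_5] at h
                                    have h2 : T.w x5 * (2 * T.m x1 + -4 * T.m x2 + 2 * T.m x3) = 0 := by linarith only [h]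
                                    rcases mul_eq_zero.mp h2 with h3 | h3
                                    · exact absurd h3 (hwp _).ne'
                                    · exact h3
                                  have hm_3 : 2 * T.m x2 + -4 * T.m x3 + 2 * T.m x4 = 0 := by
                                    have h := hrow_3
                                    rw [hz_3_0, hz_3_1, ca_3_2, ca_3_3, ca_3_4, hz_3_5] at h
                                    have h2 : T.w x5 * (2 * T.m x2 + -4 * T.m x3 + 2 * T.m x4) = 0 := by linarith only [h]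
                                    rcases mul_eq_zero.mp h2 with h3 | h3
                                    · exact absurd h3 (hwp _).ne'
                                    · exact h3
                                  have hm_4 : 2 * T.m x3 + -4 * T.m x4 + 2 * T.m x5 = 0 := by
                                    have h := hrow_4
                                    rw [hz_4_0, hz_4_1, hz_4_2, ca_4_3, ca_4_4, ca_4_5] at h
                                    have h2 : T.w x5 * (2 * T.m x3 + -4 * T.m x4 + 2 * T.m x5) = 0 := by linarith only [h]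
                                    rcases mul_eq_zero.mp h2 with h3 | h3
                                    · exact absurd h3 (hwp _).ne'
                                    · exact h3
                                  have hm_5 : 2 * T.m x4 + -2 * T.m x5 = 0 := by
                                    have h := hrow_5
                                    rw [hz_5_0, hz_5_1, hz_5_2, hz_5_3, ca_5_4, ca_5_5] at h
                                    have h2 : T.w x5 * (2 * T.m x4 + -2 * T.m x5) = 0 := by linarith only [h]
                                    rcases mul_eq_zero.mp h2 with h3 | h3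
                                    · exact absurd h3 (hwp _).ne'
                                    · exact h3
                                  have cmu_0 : T.m x0 = T.m x0 := rfl
                                  have cmu_1 : T.m x1 = 2 * T.m x0 := by linarith only [hm_0, hm_1, hm_2, hm_3, hm_4, hm_5]
                                  have cmu_2 : T.m x2 = 2 * T.m x0 := by linarith only [hm_0, hm_1, hm_2, hm_3, hm_4, hm_5]
                                  have cmu_3 : T.m x3 = 2 * T.m x0 := by linarith only [hm_0, hm_1, hm_2, hm_3, hm_4, hm_5]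
                                  have cmu_4 : T.m x4 = 2 * T.m x0 := by linarith only [hm_0, hm_1, hm_2, hm_3, hm_4, hm_5]
                                  have cmu_5 : T.m x5 = 2 * T.m x0 := by linarith only [hm_0, hm_1, hm_2, hm_3, hm_4, hm_5]
                                  have hinjσ : Function.Injective ![x5, x4, x3, x2, x1, x0] := NT.inj6 _ _ _ _ _ _ hne_4_5.symm hne_3_5.symm hne_2_5.symm hne_1_5.symm hne_0_5.symm hne_3_4.symm hne_2_4.symm hne_1_4.symm hne_0_4.symm hne_2_3.symm hne_1_3.symm hne_0_3.symm hne_1_2.symm hne_0_2.symm hne_0_1.symm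
                                  exact ⟨Equiv.ofBijective ![x5, x4, x3, x2, x1, x0] ⟨hinjσ, Finite.surjective_of_injective hinjσ⟩, T.m x0, T.w x5, Or.inr (Or.inl ⟨cmu_5, cmu_4, cmu_3, cmu_2, cmu_1, cmu_0, cw_5, cw_4, cw_3, cw_2, cw_1, cw_0, ca_5_5, ca_5_4, hz_5_3, hz_5_2, hz_5_1, hz_5_0, ca_4_4, ca_4_3, hz_4_2, hz_4_1, hz_4_0, ca_3_3, ca_3_2, hz_3_1, hz_3_0, ca_2_2, ca_2_1, hz_2_0, ca_1_1, ca_1_0, ca_0_0⟩)⟩
                                · exfalso
                                  refine NT.cert3 T x3 x4 x5 hne_3_4 hne_3_5 hne_4_5 (by norm_num) 1 2 3 (by norm_num) (by norm_num) (by norm_num) ?_ ?_ ?_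
                                  · linarith only [hd x3, hwp x3, hx_3_4.ge, hnn x3 x5 hne_3_5]
                                  · linarith only [hd x4, hwp x4, hx_4_3.ge, hx_4_5.ge]
                                  · linarith only [hd x5, hwp x5, hnn x5 x3 hne_3_5.symm, hx_5_4]
                              · obtain ⟨heq_0, heq_1, heq_2, heq_3, heq_4, heq_5⟩ := NT.harm6 T x0 x1 x2 x3 x4 x5 hne_0_1 hne_0_2 hne_0_3 hne_0_4 hne_0_5 hne_1_2 hne_1_3 hne_1_4 hne_1_5 hne_2_3 hne_2_4 hne_2_5 hne_3_4 hne_3_5 hne_4_5 1 2 2 2 2 1
                                  (by linarith only [hd x0, hx_0_1.ge, hz_0_2, hz_0_3, hz_0_4, hz_0_5])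
                                  (by linarith only [hd x1, hx_1_0.ge, hx_1_2.ge, hz_1_3, hz_1_4, hz_1_5])
                                  (by linarith only [hd x2, hz_2_0, hx_2_1.ge, hx_2_3.ge, hz_2_4, hz_2_5])
                                  (by linarith only [hd x3, hz_3_0, hz_3_1, hx_3_2.ge, hx_3_4.ge, hz_3_5])
                                  (by linarith only [hd x4, hz_4_0, hz_4_1, hz_4_2, hx_4_3.ge, hx_4_5.ge])
                                  (by linarith only [hd x5, hz_5_0, hz_5_1, hz_5_2, hz_5_3, hl_5_4])
                                have hx_5_4 : T.a x5 x4 = T.w x5 := by linarith only [heq_5, hwp x5, hd x5, hz_5_0, hz_5_1, hz_5_2, hz_5_3, hl_5_4]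
                                have cw_1 : T.w x1 = T.w x1 := rfl
                                have cw_0 : T.w x0 = 2 * T.w x1 := by linarith only [cw_1, hx_1_0, hx_0_1, hs_0_1]
                                have cw_2 : T.w x2 = T.w x1 := by linarith only [cw_1, hx_1_2, hx_2_1, hs_1_2]
                                have cw_3 : T.w x3 = T.w x1 := by linarith only [cw_2, hx_2_3, hx_3_2, hs_2_3]
                                have cw_4 : T.w x4 = T.w x1 := by linarith only [cw_3, hx_3_4, hx_4_3, hs_3_4]
                                have cw_5 : T.w x5 = 2 * T.w x1 := by linarith only [cw_4, hx_4_5, hx_5_4, hs_4_5]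
                                have ca_0_0 : T.a x0 x0 = -4 * T.w x1 := by linarith only [hd x0, cw_0]
                                have ca_0_1 : T.a x0 x1 = 2 * T.w x1 := by linarith only [hx_0_1, cw_0]
                                have ca_1_0 : T.a x1 x0 = 2 * T.w x1 := by linarith only [hx_1_0, cw_1]
                                have ca_1_1 : T.a x1 x1 = -2 * T.w x1 := by linarith only [hd x1, cw_1]
                                have ca_1_2 : T.a x1 x2 = T.w x1 := by linarith only [hx_1_2, cw_1]
                                have ca_2_1 : T.a x2 x1 = T.w x1 := by linarith only [hx_2_1, cw_2]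
                                have ca_2_2 : T.a x2 x2 = -2 * T.w x1 := by linarith only [hd x2, cw_2]
                                have ca_2_3 : T.a x2 x3 = T.w x1 := by linarith only [hx_2_3, cw_2]
                                have ca_3_2 : T.a x3 x2 = T.w x1 := by linarith only [hx_3_2, cw_3]
                                have ca_3_3 : T.a x3 x3 = -2 * T.w x1 := by linarith only [hd x3, cw_3]
                                have ca_3_4 : T.a x3 x4 = T.w x1 := by linarith only [hx_3_4, cw_3]
                                have ca_4_3 : T.a x4 x3 = T.w x1 := by linarith only [hx_4_3, cw_4]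
                                have ca_4_4 : T.a x4 x4 = -2 * T.w x1 := by linarith only [hd x4, cw_4]
                                have ca_4_5 : T.a x4 x5 = 2 * T.w x1 := by linarith only [hx_4_5, cw_4]
                                have ca_5_4 : T.a x5 x4 = 2 * T.w x1 := by linarith only [hx_5_4, cw_5]
                                have ca_5_5 : T.a x5 x5 = -4 * T.w x1 := by linarith only [hd x5, cw_5]
                                have hm_0 : -4 * T.m x0 + 2 * T.m x1 = 0 := by
                                  have h := hrow_0
                                  rw [ca_0_0, ca_0_1, hz_0_2, hz_0_3, hz_0_4, hz_0_5] at h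
                                  have h2 : T.w x1 * (-4 * T.m x0 + 2 * T.m x1) = 0 := by linarith only [h]
                                  rcases mul_eq_zero.mp h2 with h3 | h3
                                  · exact absurd h3 (hwp _).ne'
                                  · exact h3
                                have hm_1 : 2 * T.m x0 + -2 * T.m x1 + 1 * T.m x2 = 0 := by
                                  have h := hrow_1
                                  rw [ca_1_0, ca_1_1, ca_1_2, hz_1_3, hz_1_4, hz_1_5] at h
                                  have h2 : T.w x1 * (2 * T.m x0 + -2 * T.m x1 + 1 * T.m x2) = 0 := by linarith only [h]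
                                  rcases mul_eq_zero.mp h2 with h3 | h3
                                  · exact absurd h3 (hwp _).ne'
                                  · exact h3
                                have hm_2 : 1 * T.m x1 + -2 * T.m x2 + 1 * T.m x3 = 0 := by
                                  have h := hrow_2
                                  rw [hz_2_0, ca_2_1, ca_2_2, ca_2_3, hz_2_4, hz_2_5] at h
                                  have h2 : T.w x1 * (1 * T.m x1 + -2 * T.m x2 + 1 * T.m x3) = 0 := by linarith only [h]
                                  rcases mul_eq_zero.mp h2 with h3 | h3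
                                  · exact absurd h3 (hwp _).ne'
                                  · exact h3
                                have hm_3 : 1 * T.m x2 + -2 * T.m x3 + 1 * T.m x4 = 0 := by
                                  have h := hrow_3
                                  rw [hz_3_0, hz_3_1, ca_3_2, ca_3_3, ca_3_4, hz_3_5] at h
                                  have h2 : T.w x1 * (1 * T.m x2 + -2 * T.m x3 + 1 * T.m x4) = 0 := by linarith only [h]
                                  rcases mul_eq_zero.mp h2 with h3 | h3
                                  · exact absurd h3 (hwp _).ne'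
                                  · exact h3
                                have hm_4 : 1 * T.m x3 + -2 * T.m x4 + 2 * T.m x5 = 0 := by
                                  have h := hrow_4
                                  rw [hz_4_0, hz_4_1, hz_4_2, ca_4_3, ca_4_4, ca_4_5] at h
                                  have h2 : T.w x1 * (1 * T.m x3 + -2 * T.m x4 + 2 * T.m x5) = 0 := by linarith only [h]
                                  rcases mul_eq_zero.mp h2 with h3 | h3
                                  · exact absurd h3 (hwp _).ne'
                                  · exact h3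
                                have hm_5 : 2 * T.m x4 + -4 * T.m x5 = 0 := by
                                  have h := hrow_5
                                  rw [hz_5_0, hz_5_1, hz_5_2, hz_5_3, ca_5_4, ca_5_5] at h
                                  have h2 : T.w x1 * (2 * T.m x4 + -4 * T.m x5) = 0 := by linarith only [h]
                                  rcases mul_eq_zero.mp h2 with h3 | h3
                                  · exact absurd h3 (hwp _).ne'
                                  · exact h3
                                have cmu_0 : T.m x0 = T.m x0 := rfl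
                                have cmu_1 : T.m x1 = 2 * T.m x0 := by linarith only [hm_0, hm_1, hm_2, hm_3, hm_4, hm_5]
                                have cmu_2 : T.m x2 = 2 * T.m x0 := by linarith only [hm_0, hm_1, hm_2, hm_3, hm_4, hm_5]
                                have cmu_3 : T.m x3 = 2 * T.m x0 := by linarith only [hm_0, hm_1, hm_2, hm_3, hm_4, hm_5]
                                have cmu_4 : T.m x4 = 2 * T.m x0 := by linarith only [hm_0, hm_1, hm_2, hm_3, hm_4, hm_5]
                                have cmu_5 : T.m x5 = T.m x0 := by linarith only [hm_0, hm_1, hm_2, hm_3, hm_4, hm_5]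
                                have hinjσ : Function.Injective ![x0, x1, x2, x3, x4, x5] := NT.inj6 _ _ _ _ _ _ hne_0_1 hne_0_2 hne_0_3 hne_0_4 hne_0_5 hne_1_2 hne_1_3 hne_1_4 hne_1_5 hne_2_3 hne_2_4 hne_2_5 hne_3_4 hne_3_5 hne_4_5
                                exact ⟨Equiv.ofBijective ![x0, x1, x2, x3, x4, x5] ⟨hinjσ, Finite.surjective_of_injective hinjσ⟩, T.m x0, T.w x1, Or.inr (Or.inr (Or.inr (Or.inl ⟨cmu_0, cmu_1, cmu_2, cmu_3, cmu_4, cmu_5, cw_0, cw_1, cw_2, cw_3, cw_4, cw_5, ca_0_0, ca_0_1, hz_0_2, hz_0_3, hz_0_4, hz_0_5, ca_1_1, ca_1_2, hz_1_3, hz_1_4, hz_1_5, ca_2_2, ca_2_3, hz_2_4, hz_2_5, ca_3_3, ca_3_4, hz_3_5, ca_4_4, ca_4_5, ca_5_5⟩)))⟩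
                              · exfalso
                                refine NT.cert3 T x3 x4 x5 hne_3_4 hne_3_5 hne_4_5 (by norm_num) 1 2 1 (by norm_num) (by norm_num) (by norm_num) ?_ ?_ ?_
                                · linarith only [hd x3, hwp x3, hx_3_4.ge, hnn x3 x5 hne_3_5]
                                · linarith only [hd x4, hwp x4, hx_4_3.ge, hx_4_5]
                                · linarith only [hd x5, hwp x5, hnn x5 x3 hne_3_5.symm, hl_5_4]
                            · exfalso
                              refine NT.cert3 T x0 x1 x2 hne_0_1 hne_0_2 hne_1_2 (by norm_num) 1 2 1 (by norm_num) (by norm_num) (by norm_num) ?_ ?_ ?_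
                              · linarith only [hd x0, hwp x0, hx_0_1.ge, hnn x0 x2 hne_0_2]
                              · linarith only [hd x1, hwp x1, hx_1_0, hx_1_2.ge]
                              · linarith only [hd x2, hwp x2, hnn x2 x0 hne_0_2.symm, hx_2_1.ge]
                          · rcases NT.edge3 T x1 x0 hne_0_1.symm hadj_1_0 with hx_1_0 | hx_1_0 | hx_1_0
                            · rcases NT.edge3 T x4 x5 hne_4_5 hadj_4_5 with hx_4_5 | hx_4_5 | hx_4_5
                              · rcases NT.edge3 T x5 x4 hne_4_5.symm hadj_5_4 with hx_5_4 | hx_5_4 | hx_5_4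
                                · have cw_0 : T.w x0 = T.w x0 := rfl
                                  have cw_1 : T.w x1 = 2 * T.w x0 := by linarith only [cw_0, hx_0_1, hx_1_0, hs_0_1]
                                  have cw_2 : T.w x2 = 2 * T.w x0 := by linarith only [cw_1, hx_1_2, hx_2_1, hs_1_2]
                                  have cw_3 : T.w x3 = 2 * T.w x0 := by linarith only [cw_2, hx_2_3, hx_3_2, hs_2_3]
                                  have cw_4 : T.w x4 = 2 * T.w x0 := by linarith only [cw_3, hx_3_4, hx_4_3, hs_3_4]
                                  have cw_5 : T.w x5 = 2 * T.w x0 := by linarith only [cw_4, hx_4_5, hx_5_4, hs_4_5]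
                                  have ca_0_0 : T.a x0 x0 = -2 * T.w x0 := by linarith only [hd x0, cw_0]
                                  have ca_0_1 : T.a x0 x1 = 2 * T.w x0 := by linarith only [hx_0_1, cw_0]
                                  have ca_1_0 : T.a x1 x0 = 2 * T.w x0 := by linarith only [hx_1_0, cw_1]
                                  have ca_1_1 : T.a x1 x1 = -4 * T.w x0 := by linarith only [hd x1, cw_1]
                                  have ca_1_2 : T.a x1 x2 = 2 * T.w x0 := by linarith only [hx_1_2, cw_1]
                                  have ca_2_1 : T.a x2 x1 = 2 * T.w x0 := by linarith only [hx_2_1, cw_2]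
                                  have ca_2_2 : T.a x2 x2 = -4 * T.w x0 := by linarith only [hd x2, cw_2]
                                  have ca_2_3 : T.a x2 x3 = 2 * T.w x0 := by linarith only [hx_2_3, cw_2]
                                  have ca_3_2 : T.a x3 x2 = 2 * T.w x0 := by linarith only [hx_3_2, cw_3]
                                  have ca_3_3 : T.a x3 x3 = -4 * T.w x0 := by linarith only [hd x3, cw_3]
                                  have ca_3_4 : T.a x3 x4 = 2 * T.w x0 := by linarith only [hx_3_4, cw_3]
                                  have ca_4_3 : T.a x4 x3 = 2 * T.w x0 := by linarith only [hx_4_3, cw_4]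
                                  have ca_4_4 : T.a x4 x4 = -4 * T.w x0 := by linarith only [hd x4, cw_4]
                                  have ca_4_5 : T.a x4 x5 = 2 * T.w x0 := by linarith only [hx_4_5, cw_4]
                                  have ca_5_4 : T.a x5 x4 = 2 * T.w x0 := by linarith only [hx_5_4, cw_5]
                                  have ca_5_5 : T.a x5 x5 = -4 * T.w x0 := by linarith only [hd x5, cw_5]
                                  have hm_0 : -2 * T.m x0 + 2 * T.m x1 = 0 := by
                                    have h := hrow_0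
                                    rw [ca_0_0, ca_0_1, hz_0_2, hz_0_3, hz_0_4, hz_0_5] at h
                                    have h2 : T.w x0 * (-2 * T.m x0 + 2 * T.m x1) = 0 := by linarith only [h]
                                    rcases mul_eq_zero.mp h2 with h3 | h3
                                    · exact absurd h3 (hwp _).ne'
                                    · exact h3
                                  have hm_1 : 2 * T.m x0 + -4 * T.m x1 + 2 * T.m x2 = 0 := by
                                    have h := hrow_1
                                    rw [ca_1_0, ca_1_1, ca_1_2, hz_1_3, hz_1_4, hz_1_5] at h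
                                    have h2 : T.w x0 * (2 * T.m x0 + -4 * T.m x1 + 2 * T.m x2) = 0 := by linarith only [h]
                                    rcases mul_eq_zero.mp h2 with h3 | h3
                                    · exact absurd h3 (hwp _).ne'
                                    · exact h3
                                  have hm_2 : 2 * T.m x1 + -4 * T.m x2 + 2 * T.m x3 = 0 := by
                                    have h := hrow_2
                                    rw [hz_2_0, ca_2_1, ca_2_2, ca_2_3, hz_2_4, hz_2_5] at h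
                                    have h2 : T.w x0 * (2 * T.m x1 + -4 * T.m x2 + 2 * T.m x3) = 0 := by linarith only [h]
                                    rcases mul_eq_zero.mp h2 with h3 | h3
                                    · exact absurd h3 (hwp _).ne'
                                    · exact h3
                                  have hm_3 : 2 * T.m x2 + -4 * T.m x3 + 2 * T.m x4 = 0 := by
                                    have h := hrow_3
                                    rw [hz_3_0, hz_3_1, ca_3_2, ca_3_3, ca_3_4, hz_3_5] at h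
                                    have h2 : T.w x0 * (2 * T.m x2 + -4 * T.m x3 + 2 * T.m x4) = 0 := by linarith only [h]
                                    rcases mul_eq_zero.mp h2 with h3 | h3
                                    · exact absurd h3 (hwp _).ne'
                                    · exact h3
                                  have hm_4 : 2 * T.m x3 + -4 * T.m x4 + 2 * T.m x5 = 0 := by
                                    have h := hrow_4
                                    rw [hz_4_0, hz_4_1, hz_4_2, ca_4_3, ca_4_4, ca_4_5] at h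
                                    have h2 : T.w x0 * (2 * T.m x3 + -4 * T.m x4 + 2 * T.m x5) = 0 := by linarith only [h]
                                    rcases mul_eq_zero.mp h2 with h3 | h3
                                    · exact absurd h3 (hwp _).ne'
                                    · exact h3
                                  have hm_5 : 2 * T.m x4 + -4 * T.m x5 = 0 := by
                                    have h := hrow_5
                                    rw [hz_5_0, hz_5_1, hz_5_2, hz_5_3, ca_5_4, ca_5_5] at h
                                    have h2 : T.w x0 * (2 * T.m x4 + -4 * T.m x5) = 0 := by linarith only [h]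
                                    rcases mul_eq_zero.mp h2 with h3 | h3
                                    · exact absurd h3 (hwp _).ne'
                                    · exact h3
                                  exfalso
                                  linarith only [hm_0, hm_1, hm_2, hm_3, hm_4, hm_5, hmp x0, hmp x1, hmp x2, hmp x3, hmp x4, hmp x5]
                                · have cw_0 : T.w x0 = T.w x0 := rfl
                                  have cw_1 : T.w x1 = 2 * T.w x0 := by linarith only [cw_0, hx_0_1, hx_1_0, hs_0_1]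
                                  have cw_2 : T.w x2 = 2 * T.w x0 := by linarith only [cw_1, hx_1_2, hx_2_1, hs_1_2]
                                  have cw_3 : T.w x3 = 2 * T.w x0 := by linarith only [cw_2, hx_2_3, hx_3_2, hs_2_3]
                                  have cw_4 : T.w x4 = 2 * T.w x0 := by linarith only [cw_3, hx_3_4, hx_4_3, hs_3_4]
                                  have cw_5 : T.w x5 = T.w x0 := by linarith only [cw_4, hx_4_5, hx_5_4, hs_4_5]
                                  have ca_0_0 : T.a x0 x0 = -2 * T.w x0 := by linarith only [hd x0, cw_0]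
                                  have ca_0_1 : T.a x0 x1 = 2 * T.w x0 := by linarith only [hx_0_1, cw_0]
                                  have ca_1_0 : T.a x1 x0 = 2 * T.w x0 := by linarith only [hx_1_0, cw_1]
                                  have ca_1_1 : T.a x1 x1 = -4 * T.w x0 := by linarith only [hd x1, cw_1]
                                  have ca_1_2 : T.a x1 x2 = 2 * T.w x0 := by linarith only [hx_1_2, cw_1]
                                  have ca_2_1 : T.a x2 x1 = 2 * T.w x0 := by linarith only [hx_2_1, cw_2]
                                  have ca_2_2 : T.a x2 x2 = -4 * T.w x0 := by linarith only [hd x2, cw_2]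
                                  have ca_2_3 : T.a x2 x3 = 2 * T.w x0 := by linarith only [hx_2_3, cw_2]
                                  have ca_3_2 : T.a x3 x2 = 2 * T.w x0 := by linarith only [hx_3_2, cw_3]
                                  have ca_3_3 : T.a x3 x3 = -4 * T.w x0 := by linarith only [hd x3, cw_3]
                                  have ca_3_4 : T.a x3 x4 = 2 * T.w x0 := by linarith only [hx_3_4, cw_3]
                                  have ca_4_3 : T.a x4 x3 = 2 * T.w x0 := by linarith only [hx_4_3, cw_4]
                                  have ca_4_4 : T.a x4 x4 = -4 * T.w x0 := by linarith only [hd x4, cw_4]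
                                  have ca_4_5 : T.a x4 x5 = 2 * T.w x0 := by linarith only [hx_4_5, cw_4]
                                  have ca_5_4 : T.a x5 x4 = 2 * T.w x0 := by linarith only [hx_5_4, cw_5]
                                  have ca_5_5 : T.a x5 x5 = -2 * T.w x0 := by linarith only [hd x5, cw_5]
                                  have hm_0 : -2 * T.m x0 + 2 * T.m x1 = 0 := by
                                    have h := hrow_0
                                    rw [ca_0_0, ca_0_1, hz_0_2, hz_0_3, hz_0_4, hz_0_5] at h
                                    have h2 : T.w x0 * (-2 * T.m x0 + 2 * T.m x1) = 0 := by linarith only [h]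
                                    rcases mul_eq_zero.mp h2 with h3 | h3
                                    · exact absurd h3 (hwp _).ne'
                                    · exact h3
                                  have hm_1 : 2 * T.m x0 + -4 * T.m x1 + 2 * T.m x2 = 0 := by
                                    have h := hrow_1
                                    rw [ca_1_0, ca_1_1, ca_1_2, hz_1_3, hz_1_4, hz_1_5] at h
                                    have h2 : T.w x0 * (2 * T.m x0 + -4 * T.m x1 + 2 * T.m x2) = 0 := by linarith only [h]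
                                    rcases mul_eq_zero.mp h2 with h3 | h3
                                    · exact absurd h3 (hwp _).ne'
                                    · exact h3
                                  have hm_2 : 2 * T.m x1 + -4 * T.m x2 + 2 * T.m x3 = 0 := by
                                    have h := hrow_2
                                    rw [hz_2_0, ca_2_1, ca_2_2, ca_2_3, hz_2_4, hz_2_5] at h
                                    have h2 : T.w x0 * (2 * T.m x1 + -4 * T.m x2 + 2 * T.m x3) = 0 := by linarith only [h]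
                                    rcases mul_eq_zero.mp h2 with h3 | h3
                                    · exact absurd h3 (hwp _).ne'
                                    · exact h3
                                  have hm_3 : 2 * T.m x2 + -4 * T.m x3 + 2 * T.m x4 = 0 := by
                                    have h := hrow_3
                                    rw [hz_3_0, hz_3_1, ca_3_2, ca_3_3, ca_3_4, hz_3_5] at h
                                    have h2 : T.w x0 * (2 * T.m x2 + -4 * T.m x3 + 2 * T.m x4) = 0 := by linarith only [h]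
                                    rcases mul_eq_zero.mp h2 with h3 | h3
                                    · exact absurd h3 (hwp _).ne'
                                    · exact h3
                                  have hm_4 : 2 * T.m x3 + -4 * T.m x4 + 2 * T.m x5 = 0 := by
                                    have h := hrow_4
                                    rw [hz_4_0, hz_4_1, hz_4_2, ca_4_3, ca_4_4, ca_4_5] at h
                                    have h2 : T.w x0 * (2 * T.m x3 + -4 * T.m x4 + 2 * T.m x5) = 0 := by linarith only [h]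
                                    rcases mul_eq_zero.mp h2 with h3 | h3
                                    · exact absurd h3 (hwp _).ne'
                                    · exact h3
                                  have hm_5 : 2 * T.m x4 + -2 * T.m x5 = 0 := by
                                    have h := hrow_5
                                    rw [hz_5_0, hz_5_1, hz_5_2, hz_5_3, ca_5_4, ca_5_5] at h
                                    have h2 : T.w x0 * (2 * T.m x4 + -2 * T.m x5) = 0 := by linarith only [h]
                                    rcases mul_eq_zero.mp h2 with h3 | h3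
                                    · exact absurd h3 (hwp _).ne'
                                    · exact h3
                                  have cmu_0 : T.m x0 = T.m x0 := rfl
                                  have cmu_1 : T.m x1 = T.m x0 := by linarith only [hm_0, hm_1, hm_2, hm_3, hm_4, hm_5]
                                  have cmu_2 : T.m x2 = T.m x0 := by linarith only [hm_0, hm_1, hm_2, hm_3, hm_4, hm_5]
                                  have cmu_3 : T.m x3 = T.m x0 := by linarith only [hm_0, hm_1, hm_2, hm_3, hm_4, hm_5]
                                  have cmu_4 : T.m x4 = T.m x0 := by linarith only [hm_0, hm_1, hm_2, hm_3, hm_4, hm_5]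
                                  have cmu_5 : T.m x5 = T.m x0 := by linarith only [hm_0, hm_1, hm_2, hm_3, hm_4, hm_5]
                                  have hinjσ : Function.Injective ![x0, x1, x2, x3, x4, x5] := NT.inj6 _ _ _ _ _ _ hne_0_1 hne_0_2 hne_0_3 hne_0_4 hne_0_5 hne_1_2 hne_1_3 hne_1_4 hne_1_5 hne_2_3 hne_2_4 hne_2_5 hne_3_4 hne_3_5 hne_4_5
                                  exact ⟨Equiv.ofBijective ![x0, x1, x2, x3, x4, x5] ⟨hinjσ, Finite.surjective_of_injective hinjσ⟩, T.m x0, T.w x0, Or.inr (Or.inr (Or.inl ⟨cmu_0, cmu_1, cmu_2, cmu_3, cmu_4, cmu_5, cw_0, cw_1, cw_2, cw_3, cw_4, cw_5, ca_0_0, ca_0_1, hz_0_2, hz_0_3, hz_0_4, hz_0_5, ca_1_1, ca_1_2, hz_1_3, hz_1_4, hz_1_5, ca_2_2, ca_2_3, hz_2_4, hz_2_5, ca_3_3, ca_3_4, hz_3_5, ca_4_4, ca_4_5, ca_5_5⟩))⟩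
                                · exfalso
                                  refine NT.cert3 T x3 x4 x5 hne_3_4 hne_3_5 hne_4_5 (by norm_num) 1 2 3 (by norm_num) (by norm_num) (by norm_num) ?_ ?_ ?_
                                  · linarith only [hd x3, hwp x3, hx_3_4.ge, hnn x3 x5 hne_3_5]
                                  · linarith only [hd x4, hwp x4, hx_4_3.ge, hx_4_5.ge]
                                  · linarith only [hd x5, hwp x5, hnn x5 x3 hne_3_5.symm, hx_5_4]
                              · obtain ⟨heq_0, heq_1, heq_2, heq_3, heq_4, heq_5⟩ := NT.harm6 T x0 x1 x2 x3 x4 x5 hne_0_1 hne_0_2 hne_0_3 hne_0_4 hne_0_5 hne_1_2 hne_1_3 hne_1_4 hne_1_5 hne_2_3 hne_2_4 hne_2_5 hne_3_4 hne_3_5 hne_4_5 2 2 2 2 2 1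
                                  (by linarith only [hd x0, hx_0_1.ge, hz_0_2, hz_0_3, hz_0_4, hz_0_5])
                                  (by linarith only [hd x1, hx_1_0.ge, hx_1_2.ge, hz_1_3, hz_1_4, hz_1_5])
                                  (by linarith only [hd x2, hz_2_0, hx_2_1.ge, hx_2_3.ge, hz_2_4, hz_2_5])
                                  (by linarith only [hd x3, hz_3_0, hz_3_1, hx_3_2.ge, hx_3_4.ge, hz_3_5])
                                  (by linarith only [hd x4, hz_4_0, hz_4_1, hz_4_2, hx_4_3.ge, hx_4_5.ge])
                                  (by linarith only [hd x5, hz_5_0, hz_5_1, hz_5_2, hz_5_3, hl_5_4])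
                                have hx_5_4 : T.a x5 x4 = T.w x5 := by linarith only [heq_5, hwp x5, hd x5, hz_5_0, hz_5_1, hz_5_2, hz_5_3, hl_5_4]
                                have cw_0 : T.w x0 = T.w x0 := rfl
                                have cw_1 : T.w x1 = 2 * T.w x0 := by linarith only [cw_0, hx_0_1, hx_1_0, hs_0_1]
                                have cw_2 : T.w x2 = 2 * T.w x0 := by linarith only [cw_1, hx_1_2, hx_2_1, hs_1_2]
                                have cw_3 : T.w x3 = 2 * T.w x0 := by linarith only [cw_2, hx_2_3, hx_3_2, hs_2_3]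
                                have cw_4 : T.w x4 = 2 * T.w x0 := by linarith only [cw_3, hx_3_4, hx_4_3, hs_3_4]
                                have cw_5 : T.w x5 = 4 * T.w x0 := by linarith only [cw_4, hx_4_5, hx_5_4, hs_4_5]
                                have ca_0_0 : T.a x0 x0 = -2 * T.w x0 := by linarith only [hd x0, cw_0]
                                have ca_0_1 : T.a x0 x1 = 2 * T.w x0 := by linarith only [hx_0_1, cw_0]
                                have ca_1_0 : T.a x1 x0 = 2 * T.w x0 := by linarith only [hx_1_0, cw_1]
                                have ca_1_1 : T.a x1 x1 = -4 * T.w x0 := by linarith only [hd x1, cw_1]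
                                have ca_1_2 : T.a x1 x2 = 2 * T.w x0 := by linarith only [hx_1_2, cw_1]
                                have ca_2_1 : T.a x2 x1 = 2 * T.w x0 := by linarith only [hx_2_1, cw_2]
                                have ca_2_2 : T.a x2 x2 = -4 * T.w x0 := by linarith only [hd x2, cw_2]
                                have ca_2_3 : T.a x2 x3 = 2 * T.w x0 := by linarith only [hx_2_3, cw_2]
                                have ca_3_2 : T.a x3 x2 = 2 * T.w x0 := by linarith only [hx_3_2, cw_3]
                                have ca_3_3 : T.a x3 x3 = -4 * T.w x0 := by linarith only [hd x3, cw_3]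
                                have ca_3_4 : T.a x3 x4 = 2 * T.w x0 := by linarith only [hx_3_4, cw_3]
                                have ca_4_3 : T.a x4 x3 = 2 * T.w x0 := by linarith only [hx_4_3, cw_4]
                                have ca_4_4 : T.a x4 x4 = -4 * T.w x0 := by linarith only [hd x4, cw_4]
                                have ca_4_5 : T.a x4 x5 = 4 * T.w x0 := by linarith only [hx_4_5, cw_4]
                                have ca_5_4 : T.a x5 x4 = 4 * T.w x0 := by linarith only [hx_5_4, cw_5]
                                have ca_5_5 : T.a x5 x5 = -8 * T.w x0 := by linarith only [hd x5, cw_5]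
                                have hm_0 : -2 * T.m x0 + 2 * T.m x1 = 0 := by
                                  have h := hrow_0
                                  rw [ca_0_0, ca_0_1, hz_0_2, hz_0_3, hz_0_4, hz_0_5] at h
                                  have h2 : T.w x0 * (-2 * T.m x0 + 2 * T.m x1) = 0 := by linarith only [h]
                                  rcases mul_eq_zero.mp h2 with h3 | h3
                                  · exact absurd h3 (hwp _).ne'
                                  · exact h3
                                have hm_1 : 2 * T.m x0 + -4 * T.m x1 + 2 * T.m x2 = 0 := by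
                                  have h := hrow_1
                                  rw [ca_1_0, ca_1_1, ca_1_2, hz_1_3, hz_1_4, hz_1_5] at h
                                  have h2 : T.w x0 * (2 * T.m x0 + -4 * T.m x1 + 2 * T.m x2) = 0 := by linarith only [h]
                                  rcases mul_eq_zero.mp h2 with h3 | h3
                                  · exact absurd h3 (hwp _).ne'
                                  · exact h3
                                have hm_2 : 2 * T.m x1 + -4 * T.m x2 + 2 * T.m x3 = 0 := by
                                  have h := hrow_2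
                                  rw [hz_2_0, ca_2_1, ca_2_2, ca_2_3, hz_2_4, hz_2_5] at h
                                  have h2 : T.w x0 * (2 * T.m x1 + -4 * T.m x2 + 2 * T.m x3) = 0 := by linarith only [h]
                                  rcases mul_eq_zero.mp h2 with h3 | h3
                                  · exact absurd h3 (hwp _).ne'
                                  · exact h3
                                have hm_3 : 2 * T.m x2 + -4 * T.m x3 + 2 * T.m x4 = 0 := by
                                  have h := hrow_3
                                  rw [hz_3_0, hz_3_1, ca_3_2, ca_3_3, ca_3_4, hz_3_5] at h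
                                  have h2 : T.w x0 * (2 * T.m x2 + -4 * T.m x3 + 2 * T.m x4) = 0 := by linarith only [h]
                                  rcases mul_eq_zero.mp h2 with h3 | h3
                                  · exact absurd h3 (hwp _).ne'
                                  · exact h3
                                have hm_4 : 2 * T.m x3 + -4 * T.m x4 + 4 * T.m x5 = 0 := by
                                  have h := hrow_4
                                  rw [hz_4_0, hz_4_1, hz_4_2, ca_4_3, ca_4_4, ca_4_5] at h
                                  have h2 : T.w x0 * (2 * T.m x3 + -4 * T.m x4 + 4 * T.m x5) = 0 := by linarith only [h]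
                                  rcases mul_eq_zero.mp h2 with h3 | h3
                                  · exact absurd h3 (hwp _).ne'
                                  · exact h3
                                have hm_5 : 4 * T.m x4 + -8 * T.m x5 = 0 := by
                                  have h := hrow_5
                                  rw [hz_5_0, hz_5_1, hz_5_2, hz_5_3, ca_5_4, ca_5_5] at h
                                  have h2 : T.w x0 * (4 * T.m x4 + -8 * T.m x5) = 0 := by linarith only [h]
                                  rcases mul_eq_zero.mp h2 with h3 | h3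
                                  · exact absurd h3 (hwp _).ne'
                                  · exact h3
                                have cmu_0 : T.m x0 = 2 * T.m x5 := by linarith only [hm_0, hm_1, hm_2, hm_3, hm_4, hm_5]
                                have cmu_1 : T.m x1 = 2 * T.m x5 := by linarith only [hm_0, hm_1, hm_2, hm_3, hm_4, hm_5]
                                have cmu_2 : T.m x2 = 2 * T.m x5 := by linarith only [hm_0, hm_1, hm_2, hm_3, hm_4, hm_5]
                                have cmu_3 : T.m x3 = 2 * T.m x5 := by linarith only [hm_0, hm_1, hm_2, hm_3, hm_4, hm_5]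
                                have cmu_4 : T.m x4 = 2 * T.m x5 := by linarith only [hm_0, hm_1, hm_2, hm_3, hm_4, hm_5]
                                have cmu_5 : T.m x5 = T.m x5 := rfl
                                have hinjσ : Function.Injective ![x0, x1, x2, x3, x4, x5] := NT.inj6 _ _ _ _ _ _ hne_0_1 hne_0_2 hne_0_3 hne_0_4 hne_0_5 hne_1_2 hne_1_3 hne_1_4 hne_1_5 hne_2_3 hne_2_4 hne_2_5 hne_3_4 hne_3_5 hne_4_5
                                exact ⟨Equiv.ofBijective ![x0, x1, x2, x3, x4, x5] ⟨hinjσ, Finite.surjective_of_injective hinjσ⟩, T.m x5, T.w x0, Or.inr (Or.inl ⟨cmu_0, cmu_1, cmu_2, cmu_3, cmu_4, cmu_5, cw_0, cw_1, cw_2, cw_3, cw_4, cw_5, ca_0_0, ca_0_1, hz_0_2, hz_0_3, hz_0_4, hz_0_5, ca_1_1, ca_1_2, hz_1_3, hz_1_4, hz_1_5, ca_2_2, ca_2_3, hz_2_4, hz_2_5, ca_3_3, ca_3_4, hz_3_5, ca_4_4, ca_4_5, ca_5_5⟩)⟩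
                              · exfalso
                                refine NT.cert3 T x3 x4 x5 hne_3_4 hne_3_5 hne_4_5 (by norm_num) 1 2 1 (by norm_num) (by norm_num) (by norm_num) ?_ ?_ ?_
                                · linarith only [hd x3, hwp x3, hx_3_4.ge, hnn x3 x5 hne_3_5]
                                · linarith only [hd x4, hwp x4, hx_4_3.ge, hx_4_5]
                                · linarith only [hd x5, hwp x5, hnn x5 x3 hne_3_5.symm, hl_5_4]
                            · exfalso
                              refine NT.cert2 T x0 x1 hne_0_1 (by norm_num) 1 1 (by norm_num) (by norm_num) ?_ ?_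
                              · linarith only [hd x0, hwp x0, hx_0_1.ge]
                              · linarith only [hd x1, hwp x1, hx_1_0.ge]
                            · exfalso
                              refine NT.cert2 T x0 x1 hne_0_1 (by norm_num) 1 1 (by norm_num) (by norm_num) ?_ ?_
                              · linarith only [hd x0, hwp x0, hx_0_1.ge]
                              · linarith only [hd x1, hwp x1, hx_1_0]
                          · exfalso
                            refine NT.cert3 T x0 x1 x2 hne_0_1 hne_0_2 hne_1_2 (by norm_num) 3 2 1 (by norm_num) (by norm_num) (by norm_num) ?_ ?_ ?_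
                            · linarith only [hd x0, hwp x0, hx_0_1, hnn x0 x2 hne_0_2]
                            · linarith only [hd x1, hwp x1, hl_1_0, hx_1_2.ge]
                            · linarith only [hd x2, hwp x2, hnn x2 x0 hne_0_2.symm, hx_2_1.ge]
                        · exfalso
                          refine NT.cert5 T x1 x2 x3 x4 x5 hne_1_2 hne_1_3 hne_1_4 hne_1_5 hne_2_3 hne_2_4 hne_2_5 hne_3_4 hne_3_5 hne_4_5 (by norm_num) 1 2 3 4 2 (by norm_num) (by norm_num) (by norm_num) (by norm_num) (by norm_num) ?_ ?_ ?_ ?_ ?_
                          · linarith only [hd x1, hwp x1, hx_1_2.ge, hnn x1 x3 hne_1_3, hnn x1 x4 hne_1_4, hnn x1 x5 hne_1_5]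
                          · linarith only [hd x2, hwp x2, hx_2_1.ge, hx_2_3.ge, hnn x2 x4 hne_2_4, hnn x2 x5 hne_2_5]
                          · linarith only [hd x3, hwp x3, hnn x3 x1 hne_1_3.symm, hx_3_2.ge, hx_3_4.ge, hnn x3 x5 hne_3_5]
                          · linarith only [hd x4, hwp x4, hnn x4 x1 hne_1_4.symm, hnn x4 x2 hne_2_4.symm, hx_4_3.ge, hl_4_5]
                          · linarith only [hd x5, hwp x5, hnn x5 x1 hne_1_5.symm, hnn x5 x2 hne_2_5.symm, hnn x5 x3 hne_3_5.symm, hl_5_4]
                        · exfalso
                          refine NT.cert3 T x2 x3 x4 hne_2_3 hne_2_4 hne_3_4 (by norm_num) 1 2 3 (by norm_num) (by norm_num) (by norm_num) ?_ ?_ ?_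
                          · linarith only [hd x2, hwp x2, hx_2_3.ge, hnn x2 x4 hne_2_4]
                          · linarith only [hd x3, hwp x3, hx_3_2.ge, hx_3_4.ge]
                          · linarith only [hd x4, hwp x4, hnn x4 x2 hne_2_4.symm, hx_4_3]
                      · exfalso
                        refine NT.cert5 T x1 x2 x3 x4 x5 hne_1_2 hne_1_3 hne_1_4 hne_1_5 hne_2_3 hne_2_4 hne_2_5 hne_3_4 hne_3_5 hne_4_5 (by norm_num) 1 2 3 2 1 (by norm_num) (by norm_num) (by norm_num) (by norm_num) (by norm_num) ?_ ?_ ?_ ?_ ?_
                        · linarith only [hd x1, hwp x1, hx_1_2.ge, hnn x1 x3 hne_1_3, hnn x1 x4 hne_1_4, hnn x1 x5 hne_1_5]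
                        · linarith only [hd x2, hwp x2, hx_2_1.ge, hx_2_3.ge, hnn x2 x4 hne_2_4, hnn x2 x5 hne_2_5]
                        · linarith only [hd x3, hwp x3, hnn x3 x1 hne_1_3.symm, hx_3_2.ge, hx_3_4.ge, hnn x3 x5 hne_3_5]
                        · linarith only [hd x4, hwp x4, hnn x4 x1 hne_1_4.symm, hnn x4 x2 hne_2_4.symm, hl_4_3, hl_4_5]
                        · linarith only [hd x5, hwp x5, hnn x5 x1 hne_1_5.symm, hnn x5 x2 hne_2_5.symm, hnn x5 x3 hne_3_5.symm, hl_5_4]
                      · exfalso
                        refine NT.cert3 T x2 x3 x4 hne_2_3 hne_2_4 hne_3_4 (by norm_num) 1 2 1 (by norm_num) (by norm_num) (by norm_num) ?_ ?_ ?_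
                        · linarith only [hd x2, hwp x2, hx_2_3.ge, hnn x2 x4 hne_2_4]
                        · linarith only [hd x3, hwp x3, hx_3_2.ge, hx_3_4]
                        · linarith only [hd x4, hwp x4, hnn x4 x2 hne_2_4.symm, hl_4_3]
                    · exfalso
                      refine NT.cert5 T x0 x1 x2 x3 x4 hne_0_1 hne_0_2 hne_0_3 hne_0_4 hne_1_2 hne_1_3 hne_1_4 hne_2_3 hne_2_4 hne_3_4 (by norm_num) 1 2 3 4 2 (by norm_num) (by norm_num) (by norm_num) (by norm_num) (by norm_num) ?_ ?_ ?_ ?_ ?_
                      · linarith only [hd x0, hwp x0, hl_0_1, hnn x0 x2 hne_0_2, hnn x0 x3 hne_0_3, hnn x0 x4 hne_0_4]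
                      · linarith only [hd x1, hwp x1, hl_1_0, hx_1_2.ge, hnn x1 x3 hne_1_3, hnn x1 x4 hne_1_4]
                      · linarith only [hd x2, hwp x2, hnn x2 x0 hne_0_2.symm, hx_2_1.ge, hx_2_3.ge, hnn x2 x4 hne_2_4]
                      · linarith only [hd x3, hwp x3, hnn x3 x0 hne_0_3.symm, hnn x3 x1 hne_1_3.symm, hx_3_2.ge, hl_3_4]
                      · linarith only [hd x4, hwp x4, hnn x4 x0 hne_0_4.symm, hnn x4 x1 hne_1_4.symm, hnn x4 x2 hne_2_4.symm, hl_4_3]
                    · exfalso
                      refine NT.cert3 T x1 x2 x3 hne_1_2 hne_1_3 hne_2_3 (by norm_num) 1 2 3 (by norm_num) (by norm_num) (by norm_num) ?_ ?_ ?_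
                      · linarith only [hd x1, hwp x1, hx_1_2.ge, hnn x1 x3 hne_1_3]
                      · linarith only [hd x2, hwp x2, hx_2_1.ge, hx_2_3.ge]
                      · linarith only [hd x3, hwp x3, hnn x3 x1 hne_1_3.symm, hx_3_2]
                  · exfalso
                    refine NT.cert5 T x0 x1 x2 x3 x4 hne_0_1 hne_0_2 hne_0_3 hne_0_4 hne_1_2 hne_1_3 hne_1_4 hne_2_3 hne_2_4 hne_3_4 (by norm_num) 1 2 3 2 1 (by norm_num) (by norm_num) (by norm_num) (by norm_num) (by norm_num) ?_ ?_ ?_ ?_ ?_
                    · linarith only [hd x0, hwp x0, hl_0_1, hnn x0 x2 hne_0_2, hnn x0 x3 hne_0_3, hnn x0 x4 hne_0_4]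
                    · linarith only [hd x1, hwp x1, hl_1_0, hx_1_2.ge, hnn x1 x3 hne_1_3, hnn x1 x4 hne_1_4]
                    · linarith only [hd x2, hwp x2, hnn x2 x0 hne_0_2.symm, hx_2_1.ge, hx_2_3.ge, hnn x2 x4 hne_2_4]
                    · linarith only [hd x3, hwp x3, hnn x3 x0 hne_0_3.symm, hnn x3 x1 hne_1_3.symm, hl_3_2, hl_3_4]
                    · linarith only [hd x4, hwp x4, hnn x4 x0 hne_0_4.symm, hnn x4 x1 hne_1_4.symm, hnn x4 x2 hne_2_4.symm, hl_4_3]
                  · exfalso
                    refine NT.cert3 T x1 x2 x3 hne_1_2 hne_1_3 hne_2_3 (by norm_num) 1 2 1 (by norm_num) (by norm_num) (by norm_num) ?_ ?_ ?_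
                    · linarith only [hd x1, hwp x1, hx_1_2.ge, hnn x1 x3 hne_1_3]
                    · linarith only [hd x2, hwp x2, hx_2_1.ge, hx_2_3]
                    · linarith only [hd x3, hwp x3, hnn x3 x1 hne_1_3.symm, hl_3_2]
                · exfalso
                  refine NT.cert5 T x0 x1 x2 x3 x4 hne_0_1 hne_0_2 hne_0_3 hne_0_4 hne_1_2 hne_1_3 hne_1_4 hne_2_3 hne_2_4 hne_3_4 (by norm_num) 1 2 3 2 1 (by norm_num) (by norm_num) (by norm_num) (by norm_num) (by norm_num) ?_ ?_ ?_ ?_ ?_
                  · linarith only [hd x0, hwp x0, hl_0_1, hnn x0 x2 hne_0_2, hnn x0 x3 hne_0_3, hnn x0 x4 hne_0_4]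
                  · linarith only [hd x1, hwp x1, hl_1_0, hx_1_2.ge, hnn x1 x3 hne_1_3, hnn x1 x4 hne_1_4]
                  · linarith only [hd x2, hwp x2, hnn x2 x0 hne_0_2.symm, hx_2_1.ge, hl_2_3, hnn x2 x4 hne_2_4]
                  · linarith only [hd x3, hwp x3, hnn x3 x0 hne_0_3.symm, hnn x3 x1 hne_1_3.symm, hl_3_2, hl_3_4]
                  · linarith only [hd x4, hwp x4, hnn x4 x0 hne_0_4.symm, hnn x4 x1 hne_1_4.symm, hnn x4 x2 hne_2_4.symm, hl_4_3]
                · exfalso
                  refine NT.cert3 T x0 x1 x2 hne_0_1 hne_0_2 hne_1_2 (by norm_num) 1 2 3 (by norm_num) (by norm_num) (by norm_num) ?_ ?_ ?_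
                  · linarith only [hd x0, hwp x0, hl_0_1, hnn x0 x2 hne_0_2]
                  · linarith only [hd x1, hwp x1, hl_1_0, hx_1_2.ge]
                  · linarith only [hd x2, hwp x2, hnn x2 x0 hne_0_2.symm, hx_2_1]
              · exfalso
                refine NT.cert5 T x0 x1 x2 x3 x4 hne_0_1 hne_0_2 hne_0_3 hne_0_4 hne_1_2 hne_1_3 hne_1_4 hne_2_3 hne_2_4 hne_3_4 (by norm_num) 2 4 3 2 1 (by norm_num) (by norm_num) (by norm_num) (by norm_num) (by norm_num) ?_ ?_ ?_ ?_ ?_
                · linarith only [hd x0, hwp x0, hl_0_1, hnn x0 x2 hne_0_2, hnn x0 x3 hne_0_3, hnn x0 x4 hne_0_4]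
                · linarith only [hd x1, hwp x1, hl_1_0, hx_1_2.ge, hnn x1 x3 hne_1_3, hnn x1 x4 hne_1_4]
                · linarith only [hd x2, hwp x2, hnn x2 x0 hne_0_2.symm, hl_2_1, hl_2_3, hnn x2 x4 hne_2_4]
                · linarith only [hd x3, hwp x3, hnn x3 x0 hne_0_3.symm, hnn x3 x1 hne_1_3.symm, hl_3_2, hl_3_4]
                · linarith only [hd x4, hwp x4, hnn x4 x0 hne_0_4.symm, hnn x4 x1 hne_1_4.symm, hnn x4 x2 hne_2_4.symm, hl_4_3]
              · exfalso
                refine NT.cert3 T x0 x1 x2 hne_0_1 hne_0_2 hne_1_2 (by norm_num) 1 2 1 (by norm_num) (by norm_num) (by norm_num) ?_ ?_ ?_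
                · linarith only [hd x0, hwp x0, hl_0_1, hnn x0 x2 hne_0_2]
                · linarith only [hd x1, hwp x1, hl_1_0, hx_1_2]
                · linarith only [hd x2, hwp x2, hnn x2 x0 hne_0_2.symm, hl_2_1]
            · by_cases hq_3 : ∃ y, (y ≠ x0 ∧ y ≠ x1 ∧ y ≠ x2 ∧ y ≠ x3 ∧ y ≠ x4) ∧ T.a x3 y ≠ 0
              · obtain ⟨x5, ⟨hn0, hn1, hn2, hn3, hn4⟩, hadj_3_5⟩ := hq_3
                have hne_0_5 : x0 ≠ x5 := hn0.symm
                have hne_1_5 : x1 ≠ x5 := hn1.symm
                have hne_2_5 : x2 ≠ x5 := hn2.symm
                have hne_3_5 : x3 ≠ x5 := hn3.symm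
                have hne_4_5 : x4 ≠ x5 := hn4.symm
                have hadj_5_3 : T.a x5 x3 ≠ 0 := by rw [hsym]; exact hadj_3_5
                have hl_3_5 := NT.lb1 T _ _ hne_3_5 hadj_3_5
                have hl_5_3 := NT.lb1 T _ _ hne_3_5.symm hadj_5_3
                have hs_3_5 : T.a x3 x5 = T.a x5 x3 := hsym _ _
                have hz_0_5 : T.a x0 x5 = 0 := by
                  by_contra h
                  exact hq_0 ⟨x5, ⟨hne_0_5.symm, hne_1_5.symm⟩, h⟩
                have hz_5_0 : T.a x5 x0 = 0 := by rw [hsym]; exact hz_0_5
                have hz_1_5 : T.a x1 x5 = 0 := by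
                  by_contra hadj_1_5
                  have hadj_5_1 : T.a x5 x1 ≠ 0 := by rw [hsym]; exact hadj_1_5
                  have hl_1_5 := NT.lb1 T _ _ hne_1_5 hadj_1_5
                  have hl_5_1 := NT.lb1 T _ _ hne_1_5.symm hadj_5_1
                  have hs_1_5 : T.a x1 x5 = T.a x5 x1 := hsym _ _
                  exact h3 ⟨x1, x0, x2, x5, hne_0_1.symm, hne_1_2, hne_1_5, hne_0_2, hne_0_5, hne_2_5, hadj_1_0, hadj_1_2, hadj_1_5⟩
                have hz_5_1 : T.a x5 x1 = 0 := by rw [hsym]; exact hz_1_5
                have hz_2_5 : T.a x2 x5 = 0 := by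
                  by_contra hadj_2_5
                  have hadj_5_2 : T.a x5 x2 ≠ 0 := by rw [hsym]; exact hadj_2_5
                  have hl_2_5 := NT.lb1 T _ _ hne_2_5 hadj_2_5
                  have hl_5_2 := NT.lb1 T _ _ hne_2_5.symm hadj_5_2
                  have hs_2_5 : T.a x2 x5 = T.a x5 x2 := hsym _ _
                  exact h3 ⟨x2, x1, x3, x5, hne_1_2.symm, hne_2_3, hne_2_5, hne_1_3, hne_1_5, hne_3_5, hadj_2_1, hadj_2_3, hadj_2_5⟩
                have hz_5_2 : T.a x5 x2 = 0 := by rw [hsym]; exact hz_2_5
                have hz_4_5 : T.a x4 x5 = 0 := by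
                  by_contra h
                  exact hq_4 ⟨x5, ⟨hne_0_5.symm, hne_1_5.symm, hne_2_5.symm, hne_3_5.symm, hne_4_5.symm⟩, h⟩
                have hz_5_4 : T.a x5 x4 = 0 := by rw [hsym]; exact hz_4_5
                exact (h3 ⟨x3, x2, x4, x5, hne_2_3.symm, hne_3_4, hne_3_5, hne_2_4, hne_2_5, hne_4_5, hadj_3_2, hadj_3_4, hadj_3_5⟩).elim
              · by_cases hq_2 : ∃ y, (y ≠ x0 ∧ y ≠ x1 ∧ y ≠ x2 ∧ y ≠ x3 ∧ y ≠ x4) ∧ T.a x2 y ≠ 0
                · obtain ⟨x5, ⟨hn0, hn1, hn2, hn3, hn4⟩, hadj_2_5⟩ := hq_2
                  have hne_0_5 : x0 ≠ x5 := hn0.symm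
                  have hne_1_5 : x1 ≠ x5 := hn1.symm
                  have hne_2_5 : x2 ≠ x5 := hn2.symm
                  have hne_3_5 : x3 ≠ x5 := hn3.symm
                  have hne_4_5 : x4 ≠ x5 := hn4.symm
                  have hadj_5_2 : T.a x5 x2 ≠ 0 := by rw [hsym]; exact hadj_2_5
                  have hl_2_5 := NT.lb1 T _ _ hne_2_5 hadj_2_5
                  have hl_5_2 := NT.lb1 T _ _ hne_2_5.symm hadj_5_2
                  have hs_2_5 : T.a x2 x5 = T.a x5 x2 := hsym _ _
                  have hz_0_5 : T.a x0 x5 = 0 := by
                    by_contra h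
                    exact hq_0 ⟨x5, ⟨hne_0_5.symm, hne_1_5.symm⟩, h⟩
                  have hz_5_0 : T.a x5 x0 = 0 := by rw [hsym]; exact hz_0_5
                  have hz_1_5 : T.a x1 x5 = 0 := by
                    by_contra hadj_1_5
                    have hadj_5_1 : T.a x5 x1 ≠ 0 := by rw [hsym]; exact hadj_1_5
                    have hl_1_5 := NT.lb1 T _ _ hne_1_5 hadj_1_5
                    have hl_5_1 := NT.lb1 T _ _ hne_1_5.symm hadj_5_1
                    have hs_1_5 : T.a x1 x5 = T.a x5 x1 := hsym _ _
                    exact h3 ⟨x1, x0, x2, x5, hne_0_1.symm, hne_1_2, hne_1_5, hne_0_2, hne_0_5, hne_2_5, hadj_1_0, hadj_1_2, hadj_1_5⟩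
                  have hz_5_1 : T.a x5 x1 = 0 := by rw [hsym]; exact hz_1_5
                  have hz_3_5 : T.a x3 x5 = 0 := by
                    by_contra h
                    exact hq_3 ⟨x5, ⟨hne_0_5.symm, hne_1_5.symm, hne_2_5.symm, hne_3_5.symm, hne_4_5.symm⟩, h⟩
                  have hz_5_3 : T.a x5 x3 = 0 := by rw [hsym]; exact hz_3_5
                  have hz_4_5 : T.a x4 x5 = 0 := by
                    by_contra h
                    exact hq_4 ⟨x5, ⟨hne_0_5.symm, hne_1_5.symm, hne_2_5.symm, hne_3_5.symm, hne_4_5.symm⟩, h⟩
                  have hz_5_4 : T.a x5 x4 = 0 := by rw [hsym]; exact hz_4_5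
                  exact (h3 ⟨x2, x1, x3, x5, hne_1_2.symm, hne_2_3, hne_2_5, hne_1_3, hne_1_5, hne_3_5, hadj_2_1, hadj_2_3, hadj_2_5⟩).elim
                · by_cases hq_1 : ∃ y, (y ≠ x0 ∧ y ≠ x1 ∧ y ≠ x2 ∧ y ≠ x3 ∧ y ≠ x4) ∧ T.a x1 y ≠ 0
                  · obtain ⟨x5, ⟨hn0, hn1, hn2, hn3, hn4⟩, hadj_1_5⟩ := hq_1
                    have hne_0_5 : x0 ≠ x5 := hn0.symm
                    have hne_1_5 : x1 ≠ x5 := hn1.symm
                    have hne_2_5 : x2 ≠ x5 := hn2.symm
                    have hne_3_5 : x3 ≠ x5 := hn3.symm
                    have hne_4_5 : x4 ≠ x5 := hn4.symm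
                    have hadj_5_1 : T.a x5 x1 ≠ 0 := by rw [hsym]; exact hadj_1_5
                    have hl_1_5 := NT.lb1 T _ _ hne_1_5 hadj_1_5
                    have hl_5_1 := NT.lb1 T _ _ hne_1_5.symm hadj_5_1
                    have hs_1_5 : T.a x1 x5 = T.a x5 x1 := hsym _ _
                    have hz_0_5 : T.a x0 x5 = 0 := by
                      by_contra h
                      exact hq_0 ⟨x5, ⟨hne_0_5.symm, hne_1_5.symm⟩, h⟩
                    have hz_5_0 : T.a x5 x0 = 0 := by rw [hsym]; exact hz_0_5
                    have hz_2_5 : T.a x2 x5 = 0 := by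
                      by_contra h
                      exact hq_2 ⟨x5, ⟨hne_0_5.symm, hne_1_5.symm, hne_2_5.symm, hne_3_5.symm, hne_4_5.symm⟩, h⟩
                    have hz_5_2 : T.a x5 x2 = 0 := by rw [hsym]; exact hz_2_5
                    have hz_3_5 : T.a x3 x5 = 0 := by
                      by_contra h
                      exact hq_3 ⟨x5, ⟨hne_0_5.symm, hne_1_5.symm, hne_2_5.symm, hne_3_5.symm, hne_4_5.symm⟩, h⟩
                    have hz_5_3 : T.a x5 x3 = 0 := by rw [hsym]; exact hz_3_5
                    have hz_4_5 : T.a x4 x5 = 0 := by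
                      by_contra h
                      exact hq_4 ⟨x5, ⟨hne_0_5.symm, hne_1_5.symm, hne_2_5.symm, hne_3_5.symm, hne_4_5.symm⟩, h⟩
                    have hz_5_4 : T.a x5 x4 = 0 := by rw [hsym]; exact hz_4_5
                    exact (h3 ⟨x1, x0, x2, x5, hne_0_1.symm, hne_1_2, hne_1_5, hne_0_2, hne_0_5, hne_2_5, hadj_1_0, hadj_1_2, hadj_1_5⟩).elim
                  · exfalso
                    refine NT.not_closed T ![x0, x1, x2, x3, x4] (by norm_num) (by norm_num) ?_
                    intro s y hy
                    by_contra hcon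
                    fin_cases s
                    · exact hq_0 ⟨y, ⟨fun h => hcon ⟨(0 : Fin 5), h⟩, fun h => hcon ⟨(1 : Fin 5), h⟩⟩, hy⟩
                    · exact hq_1 ⟨y, ⟨fun h => hcon ⟨(0 : Fin 5), h⟩, fun h => hcon ⟨(1 : Fin 5), h⟩, fun h => hcon ⟨(2 : Fin 5), h⟩, fun h => hcon ⟨(3 : Fin 5), h⟩, fun h => hcon ⟨(4 : Fin 5), h⟩⟩, hy⟩
                    · exact hq_2 ⟨y, ⟨fun h => hcon ⟨(0 : Fin 5), h⟩, fun h => hcon ⟨(1 : Fin 5), h⟩, fun h => hcon ⟨(2 : Fin 5), h⟩, fun h => hcon ⟨(3 : Fin 5), h⟩, fun h => hcon ⟨(4 : Fin 5), h⟩⟩, hy⟩
                    · exact hq_3 ⟨y, ⟨fun h => hcon ⟨(0 : Fin 5), h⟩, fun h => hcon ⟨(1 : Fin 5), h⟩, fun h => hcon ⟨(2 : Fin 5), h⟩, fun h => hcon ⟨(3 : Fin 5), h⟩, fun h => hcon ⟨(4 : Fin 5), h⟩⟩, hy⟩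
                    · exact hq_4 ⟨y, ⟨fun h => hcon ⟨(0 : Fin 5), h⟩, fun h => hcon ⟨(1 : Fin 5), h⟩, fun h => hcon ⟨(2 : Fin 5), h⟩, fun h => hcon ⟨(3 : Fin 5), h⟩, fun h => hcon ⟨(4 : Fin 5), h⟩⟩, hy⟩
          · by_cases hq_2 : ∃ y, (y ≠ x0 ∧ y ≠ x1 ∧ y ≠ x2 ∧ y ≠ x3) ∧ T.a x2 y ≠ 0
            · obtain ⟨x4, ⟨hn0, hn1, hn2, hn3⟩, hadj_2_4⟩ := hq_2
              have hne_0_4 : x0 ≠ x4 := hn0.symm
              have hne_1_4 : x1 ≠ x4 := hn1.symm
              have hne_2_4 : x2 ≠ x4 := hn2.symm
              have hne_3_4 : x3 ≠ x4 := hn3.symm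
              have hadj_4_2 : T.a x4 x2 ≠ 0 := by rw [hsym]; exact hadj_2_4
              have hl_2_4 := NT.lb1 T _ _ hne_2_4 hadj_2_4
              have hl_4_2 := NT.lb1 T _ _ hne_2_4.symm hadj_4_2
              have hs_2_4 : T.a x2 x4 = T.a x4 x2 := hsym _ _
              have hz_0_4 : T.a x0 x4 = 0 := by
                by_contra h
                exact hq_0 ⟨x4, ⟨hne_0_4.symm, hne_1_4.symm⟩, h⟩
              have hz_4_0 : T.a x4 x0 = 0 := by rw [hsym]; exact hz_0_4
              have hz_1_4 : T.a x1 x4 = 0 := by
                by_contra hadj_1_4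
                have hadj_4_1 : T.a x4 x1 ≠ 0 := by rw [hsym]; exact hadj_1_4
                have hl_1_4 := NT.lb1 T _ _ hne_1_4 hadj_1_4
                have hl_4_1 := NT.lb1 T _ _ hne_1_4.symm hadj_4_1
                have hs_1_4 : T.a x1 x4 = T.a x4 x1 := hsym _ _
                exact h3 ⟨x1, x0, x2, x4, hne_0_1.symm, hne_1_2, hne_1_4, hne_0_2, hne_0_4, hne_2_4, hadj_1_0, hadj_1_2, hadj_1_4⟩
              have hz_4_1 : T.a x4 x1 = 0 := by rw [hsym]; exact hz_1_4
              have hz_3_4 : T.a x3 x4 = 0 := by
                by_contra h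
                exact hq_3 ⟨x4, ⟨hne_0_4.symm, hne_1_4.symm, hne_2_4.symm, hne_3_4.symm⟩, h⟩
              have hz_4_3 : T.a x4 x3 = 0 := by rw [hsym]; exact hz_3_4
              exact (h3 ⟨x2, x1, x3, x4, hne_1_2.symm, hne_2_3, hne_2_4, hne_1_3, hne_1_4, hne_3_4, hadj_2_1, hadj_2_3, hadj_2_4⟩).elim
            · by_cases hq_1 : ∃ y, (y ≠ x0 ∧ y ≠ x1 ∧ y ≠ x2 ∧ y ≠ x3) ∧ T.a x1 y ≠ 0
              · obtain ⟨x4, ⟨hn0, hn1, hn2, hn3⟩, hadj_1_4⟩ := hq_1
                have hne_0_4 : x0 ≠ x4 := hn0.symm
                have hne_1_4 : x1 ≠ x4 := hn1.symm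
                have hne_2_4 : x2 ≠ x4 := hn2.symm
                have hne_3_4 : x3 ≠ x4 := hn3.symm
                have hadj_4_1 : T.a x4 x1 ≠ 0 := by rw [hsym]; exact hadj_1_4
                have hl_1_4 := NT.lb1 T _ _ hne_1_4 hadj_1_4
                have hl_4_1 := NT.lb1 T _ _ hne_1_4.symm hadj_4_1
                have hs_1_4 : T.a x1 x4 = T.a x4 x1 := hsym _ _
                have hz_0_4 : T.a x0 x4 = 0 := by
                  by_contra h
                  exact hq_0 ⟨x4, ⟨hne_0_4.symm, hne_1_4.symm⟩, h⟩
                have hz_4_0 : T.a x4 x0 = 0 := by rw [hsym]; exact hz_0_4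
                have hz_2_4 : T.a x2 x4 = 0 := by
                  by_contra h
                  exact hq_2 ⟨x4, ⟨hne_0_4.symm, hne_1_4.symm, hne_2_4.symm, hne_3_4.symm⟩, h⟩
                have hz_4_2 : T.a x4 x2 = 0 := by rw [hsym]; exact hz_2_4
                have hz_3_4 : T.a x3 x4 = 0 := by
                  by_contra h
                  exact hq_3 ⟨x4, ⟨hne_0_4.symm, hne_1_4.symm, hne_2_4.symm, hne_3_4.symm⟩, h⟩
                have hz_4_3 : T.a x4 x3 = 0 := by rw [hsym]; exact hz_3_4
                exact (h3 ⟨x1, x0, x2, x4, hne_0_1.symm, hne_1_2, hne_1_4, hne_0_2, hne_0_4, hne_2_4, hadj_1_0, hadj_1_2, hadj_1_4⟩).elim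
              · exfalso
                refine NT.not_closed T ![x0, x1, x2, x3] (by norm_num) (by norm_num) ?_
                intro s y hy
                by_contra hcon
                fin_cases s
                · exact hq_0 ⟨y, ⟨fun h => hcon ⟨(0 : Fin 4), h⟩, fun h => hcon ⟨(1 : Fin 4), h⟩⟩, hy⟩
                · exact hq_1 ⟨y, ⟨fun h => hcon ⟨(0 : Fin 4), h⟩, fun h => hcon ⟨(1 : Fin 4), h⟩, fun h => hcon ⟨(2 : Fin 4), h⟩, fun h => hcon ⟨(3 : Fin 4), h⟩⟩, hy⟩
                · exact hq_2 ⟨y, ⟨fun h => hcon ⟨(0 : Fin 4), h⟩, fun h => hcon ⟨(1 : Fin 4), h⟩, fun h => hcon ⟨(2 : Fin 4), h⟩, fun h => hcon ⟨(3 : Fin 4), h⟩⟩, hy⟩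
                · exact hq_3 ⟨y, ⟨fun h => hcon ⟨(0 : Fin 4), h⟩, fun h => hcon ⟨(1 : Fin 4), h⟩, fun h => hcon ⟨(2 : Fin 4), h⟩, fun h => hcon ⟨(3 : Fin 4), h⟩⟩, hy⟩
        · by_cases hq_1 : ∃ y, (y ≠ x0 ∧ y ≠ x1 ∧ y ≠ x2) ∧ T.a x1 y ≠ 0
          · obtain ⟨x3, ⟨hn0, hn1, hn2⟩, hadj_1_3⟩ := hq_1
            have hne_0_3 : x0 ≠ x3 := hn0.symm
            have hne_1_3 : x1 ≠ x3 := hn1.symm
            have hne_2_3 : x2 ≠ x3 := hn2.symm
            have hadj_3_1 : T.a x3 x1 ≠ 0 := by rw [hsym]; exact hadj_1_3
            have hl_1_3 := NT.lb1 T _ _ hne_1_3 hadj_1_3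
            have hl_3_1 := NT.lb1 T _ _ hne_1_3.symm hadj_3_1
            have hs_1_3 : T.a x1 x3 = T.a x3 x1 := hsym _ _
            have hz_0_3 : T.a x0 x3 = 0 := by
              by_contra h
              exact hq_0 ⟨x3, ⟨hne_0_3.symm, hne_1_3.symm⟩, h⟩
            have hz_3_0 : T.a x3 x0 = 0 := by rw [hsym]; exact hz_0_3
            have hz_2_3 : T.a x2 x3 = 0 := by
              by_contra h
              exact hq_2 ⟨x3, ⟨hne_0_3.symm, hne_1_3.symm, hne_2_3.symm⟩, h⟩
            have hz_3_2 : T.a x3 x2 = 0 := by rw [hsym]; exact hz_2_3
            exact (h3 ⟨x1, x0, x2, x3, hne_0_1.symm, hne_1_2, hne_1_3, hne_0_2, hne_0_3, hne_2_3, hadj_1_0, hadj_1_2, hadj_1_3⟩).elim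
          · exfalso
            refine NT.not_closed T ![x0, x1, x2] (by norm_num) (by norm_num) ?_
            intro s y hy
            by_contra hcon
            fin_cases s
            · exact hq_0 ⟨y, ⟨fun h => hcon ⟨(0 : Fin 3), h⟩, fun h => hcon ⟨(1 : Fin 3), h⟩⟩, hy⟩
            · exact hq_1 ⟨y, ⟨fun h => hcon ⟨(0 : Fin 3), h⟩, fun h => hcon ⟨(1 : Fin 3), h⟩, fun h => hcon ⟨(2 : Fin 3), h⟩⟩, hy⟩
            · exact hq_2 ⟨y, ⟨fun h => hcon ⟨(0 : Fin 3), h⟩, fun h => hcon ⟨(1 : Fin 3), h⟩, fun h => hcon ⟨(2 : Fin 3), h⟩⟩, hy⟩
      · exfalso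
        refine NT.not_closed T ![x0, x1] (by norm_num) (by norm_num) ?_
        intro s y hy
        by_contra hcon
        fin_cases s
        · exact hq_0 ⟨y, ⟨fun h => hcon ⟨(0 : Fin 2), h⟩, fun h => hcon ⟨(1 : Fin 2), h⟩⟩, hy⟩
        · exact hq_1 ⟨y, ⟨fun h => hcon ⟨(0 : Fin 2), h⟩, fun h => hcon ⟨(1 : Fin 2), h⟩⟩, hy⟩
    · obtain ⟨x0⟩ : Nonempty (Fin 6) := ⟨⟨0, by norm_num⟩⟩
      by_cases hq_0 : ∃ y, y ≠ x0 ∧ T.a x0 y ≠ 0
      · obtain ⟨x1, hn0, hadj_0_1⟩ := hq_0
        have hne_0_1 : x0 ≠ x1 := hn0.symm
        have hadj_1_0 : T.a x1 x0 ≠ 0 := by rw [hsym]; exact hadj_0_1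
        have hl_0_1 := NT.lb1 T _ _ hne_0_1 hadj_0_1
        have hl_1_0 := NT.lb1 T _ _ hne_0_1.symm hadj_1_0
        have hs_0_1 : T.a x0 x1 = T.a x1 x0 := hsym _ _
        by_cases hq_1 : ∃ y, (y ≠ x0 ∧ y ≠ x1) ∧ T.a x1 y ≠ 0
        · obtain ⟨x2, ⟨hn0, hn1⟩, hadj_1_2⟩ := hq_1
          have hne_0_2 : x0 ≠ x2 := hn0.symm
          have hne_1_2 : x1 ≠ x2 := hn1.symm
          have hadj_2_1 : T.a x2 x1 ≠ 0 := by rw [hsym]; exact hadj_1_2
          have hl_1_2 := NT.lb1 T _ _ hne_1_2 hadj_1_2
          have hl_2_1 := NT.lb1 T _ _ hne_1_2.symm hadj_2_1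
          have hs_1_2 : T.a x1 x2 = T.a x2 x1 := hsym _ _
          have hz_0_2 : T.a x0 x2 = 0 := by
            by_contra hadj_0_2
            have hadj_2_0 : T.a x2 x0 ≠ 0 := by rw [hsym]; exact hadj_0_2
            have hl_0_2 := NT.lb1 T _ _ hne_0_2 hadj_0_2
            have hl_2_0 := NT.lb1 T _ _ hne_0_2.symm hadj_2_0
            have hs_0_2 : T.a x0 x2 = T.a x2 x0 := hsym _ _
            refine NT.cert3 T x0 x1 x2 hne_0_1 hne_0_2 hne_1_2 (by norm_num) 1 1 1 (by norm_num) (by norm_num) (by norm_num) ?_ ?_ ?_
            · linarith only [hd x0, hwp x0, hl_0_1, hl_0_2]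
            · linarith only [hd x1, hwp x1, hl_1_0, hl_1_2]
            · linarith only [hd x2, hwp x2, hl_2_0, hl_2_1]
          have hz_2_0 : T.a x2 x0 = 0 := by rw [hsym]; exact hz_0_2
          by_cases hq_2 : ∃ y, (y ≠ x0 ∧ y ≠ x1 ∧ y ≠ x2) ∧ T.a x2 y ≠ 0
          · obtain ⟨x3, ⟨hn0, hn1, hn2⟩, hadj_2_3⟩ := hq_2
            have hne_0_3 : x0 ≠ x3 := hn0.symm
            have hne_1_3 : x1 ≠ x3 := hn1.symm
            have hne_2_3 : x2 ≠ x3 := hn2.symm
            have hadj_3_2 : T.a x3 x2 ≠ 0 := by rw [hsym]; exact hadj_2_3
            have hl_2_3 := NT.lb1 T _ _ hne_2_3 hadj_2_3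
            have hl_3_2 := NT.lb1 T _ _ hne_2_3.symm hadj_3_2
            have hs_2_3 : T.a x2 x3 = T.a x3 x2 := hsym _ _
            have hz_0_3 : T.a x0 x3 = 0 := by
              by_contra hadj_0_3
              have hadj_3_0 : T.a x3 x0 ≠ 0 := by rw [hsym]; exact hadj_0_3
              have hl_0_3 := NT.lb1 T _ _ hne_0_3 hadj_0_3
              have hl_3_0 := NT.lb1 T _ _ hne_0_3.symm hadj_3_0
              have hs_0_3 : T.a x0 x3 = T.a x3 x0 := hsym _ _
              refine NT.cert4 T x0 x1 x2 x3 hne_0_1 hne_0_2 hne_0_3 hne_1_2 hne_1_3 hne_2_3 (by norm_num) 1 1 1 1 (by norm_num) (by norm_num) (by norm_num) (by norm_num) ?_ ?_ ?_ ?_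
              · linarith only [hd x0, hwp x0, hl_0_1, hnn x0 x2 hne_0_2, hl_0_3]
              · linarith only [hd x1, hwp x1, hl_1_0, hl_1_2, hnn x1 x3 hne_1_3]
              · linarith only [hd x2, hwp x2, hnn x2 x0 hne_0_2.symm, hl_2_1, hl_2_3]
              · linarith only [hd x3, hwp x3, hl_3_0, hnn x3 x1 hne_1_3.symm, hl_3_2]
            have hz_3_0 : T.a x3 x0 = 0 := by rw [hsym]; exact hz_0_3
            have hz_1_3 : T.a x1 x3 = 0 := by
              by_contra hadj_1_3
              have hadj_3_1 : T.a x3 x1 ≠ 0 := by rw [hsym]; exact hadj_1_3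
              have hl_1_3 := NT.lb1 T _ _ hne_1_3 hadj_1_3
              have hl_3_1 := NT.lb1 T _ _ hne_1_3.symm hadj_3_1
              have hs_1_3 : T.a x1 x3 = T.a x3 x1 := hsym _ _
              exact h3 ⟨x1, x0, x2, x3, hne_0_1.symm, hne_1_2, hne_1_3, hne_0_2, hne_0_3, hne_2_3, hadj_1_0, hadj_1_2, hadj_1_3⟩
            have hz_3_1 : T.a x3 x1 = 0 := by rw [hsym]; exact hz_1_3
            by_cases hq_3 : ∃ y, (y ≠ x0 ∧ y ≠ x1 ∧ y ≠ x2 ∧ y ≠ x3) ∧ T.a x3 y ≠ 0
            · obtain ⟨x4, ⟨hn0, hn1, hn2, hn3⟩, hadj_3_4⟩ := hq_3
              have hne_0_4 : x0 ≠ x4 := hn0.symm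
              have hne_1_4 : x1 ≠ x4 := hn1.symm
              have hne_2_4 : x2 ≠ x4 := hn2.symm
              have hne_3_4 : x3 ≠ x4 := hn3.symm
              have hadj_4_3 : T.a x4 x3 ≠ 0 := by rw [hsym]; exact hadj_3_4
              have hl_3_4 := NT.lb1 T _ _ hne_3_4 hadj_3_4
              have hl_4_3 := NT.lb1 T _ _ hne_3_4.symm hadj_4_3
              have hs_3_4 : T.a x3 x4 = T.a x4 x3 := hsym _ _
              have hz_0_4 : T.a x0 x4 = 0 := by
                by_contra hadj_0_4
                have hadj_4_0 : T.a x4 x0 ≠ 0 := by rw [hsym]; exact hadj_0_4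
                have hl_0_4 := NT.lb1 T _ _ hne_0_4 hadj_0_4
                have hl_4_0 := NT.lb1 T _ _ hne_0_4.symm hadj_4_0
                have hs_0_4 : T.a x0 x4 = T.a x4 x0 := hsym _ _
                refine NT.cert5 T x0 x1 x2 x3 x4 hne_0_1 hne_0_2 hne_0_3 hne_0_4 hne_1_2 hne_1_3 hne_1_4 hne_2_3 hne_2_4 hne_3_4 (by norm_num) 1 1 1 1 1 (by norm_num) (by norm_num) (by norm_num) (by norm_num) (by norm_num) ?_ ?_ ?_ ?_ ?_
                · linarith only [hd x0, hwp x0, hl_0_1, hnn x0 x2 hne_0_2, hnn x0 x3 hne_0_3, hl_0_4]
                · linarith only [hd x1, hwp x1, hl_1_0, hl_1_2, hnn x1 x3 hne_1_3, hnn x1 x4 hne_1_4]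
                · linarith only [hd x2, hwp x2, hnn x2 x0 hne_0_2.symm, hl_2_1, hl_2_3, hnn x2 x4 hne_2_4]
                · linarith only [hd x3, hwp x3, hnn x3 x0 hne_0_3.symm, hnn x3 x1 hne_1_3.symm, hl_3_2, hl_3_4]
                · linarith only [hd x4, hwp x4, hl_4_0, hnn x4 x1 hne_1_4.symm, hnn x4 x2 hne_2_4.symm, hl_4_3]
              have hz_4_0 : T.a x4 x0 = 0 := by rw [hsym]; exact hz_0_4
              have hz_1_4 : T.a x1 x4 = 0 := by
                by_contra hadj_1_4
                have hadj_4_1 : T.a x4 x1 ≠ 0 := by rw [hsym]; exact hadj_1_4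
                have hl_1_4 := NT.lb1 T _ _ hne_1_4 hadj_1_4
                have hl_4_1 := NT.lb1 T _ _ hne_1_4.symm hadj_4_1
                have hs_1_4 : T.a x1 x4 = T.a x4 x1 := hsym _ _
                exact h3 ⟨x1, x0, x2, x4, hne_0_1.symm, hne_1_2, hne_1_4, hne_0_2, hne_0_4, hne_2_4, hadj_1_0, hadj_1_2, hadj_1_4⟩
              have hz_4_1 : T.a x4 x1 = 0 := by rw [hsym]; exact hz_1_4
              have hz_2_4 : T.a x2 x4 = 0 := by
                by_contra hadj_2_4
                have hadj_4_2 : T.a x4 x2 ≠ 0 := by rw [hsym]; exact hadj_2_4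
                have hl_2_4 := NT.lb1 T _ _ hne_2_4 hadj_2_4
                have hl_4_2 := NT.lb1 T _ _ hne_2_4.symm hadj_4_2
                have hs_2_4 : T.a x2 x4 = T.a x4 x2 := hsym _ _
                exact h3 ⟨x2, x1, x3, x4, hne_1_2.symm, hne_2_3, hne_2_4, hne_1_3, hne_1_4, hne_3_4, hadj_2_1, hadj_2_3, hadj_2_4⟩
              have hz_4_2 : T.a x4 x2 = 0 := by rw [hsym]; exact hz_2_4
              by_cases hq_4 : ∃ y, (y ≠ x0 ∧ y ≠ x1 ∧ y ≠ x2 ∧ y ≠ x3 ∧ y ≠ x4) ∧ T.a x4 y ≠ 0
              · obtain ⟨x5, ⟨hn0, hn1, hn2, hn3, hn4⟩, hadj_4_5⟩ := hq_4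
                have hne_0_5 : x0 ≠ x5 := hn0.symm
                have hne_1_5 : x1 ≠ x5 := hn1.symm
                have hne_2_5 : x2 ≠ x5 := hn2.symm
                have hne_3_5 : x3 ≠ x5 := hn3.symm
                have hne_4_5 : x4 ≠ x5 := hn4.symm
                have hadj_5_4 : T.a x5 x4 ≠ 0 := by rw [hsym]; exact hadj_4_5
                have hl_4_5 := NT.lb1 T _ _ hne_4_5 hadj_4_5
                have hl_5_4 := NT.lb1 T _ _ hne_4_5.symm hadj_5_4
                have hs_4_5 : T.a x4 x5 = T.a x5 x4 := hsym _ _
                by_cases hadj_0_5 : T.a x0 x5 ≠ 0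
                · have hadj_5_0 : T.a x5 x0 ≠ 0 := by rw [hsym]; exact hadj_0_5
                  have hl_0_5 := NT.lb1 T _ _ hne_0_5 hadj_0_5
                  have hl_5_0 := NT.lb1 T _ _ hne_0_5.symm hadj_5_0
                  have hs_0_5 : T.a x0 x5 = T.a x5 x0 := hsym _ _
                  have hz_1_5 : T.a x1 x5 = 0 := by
                    by_contra hadj_1_5
                    have hadj_5_1 : T.a x5 x1 ≠ 0 := by rw [hsym]; exact hadj_1_5
                    have hl_1_5 := NT.lb1 T _ _ hne_1_5 hadj_1_5
                    have hl_5_1 := NT.lb1 T _ _ hne_1_5.symm hadj_5_1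
                    have hs_1_5 : T.a x1 x5 = T.a x5 x1 := hsym _ _
                    exact h3 ⟨x1, x0, x2, x5, hne_0_1.symm, hne_1_2, hne_1_5, hne_0_2, hne_0_5, hne_2_5, hadj_1_0, hadj_1_2, hadj_1_5⟩
                  have hz_5_1 : T.a x5 x1 = 0 := by rw [hsym]; exact hz_1_5
                  have hz_2_5 : T.a x2 x5 = 0 := by
                    by_contra hadj_2_5
                    have hadj_5_2 : T.a x5 x2 ≠ 0 := by rw [hsym]; exact hadj_2_5
                    have hl_2_5 := NT.lb1 T _ _ hne_2_5 hadj_2_5
                    have hl_5_2 := NT.lb1 T _ _ hne_2_5.symm hadj_5_2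
                    have hs_2_5 : T.a x2 x5 = T.a x5 x2 := hsym _ _
                    exact h3 ⟨x2, x1, x3, x5, hne_1_2.symm, hne_2_3, hne_2_5, hne_1_3, hne_1_5, hne_3_5, hadj_2_1, hadj_2_3, hadj_2_5⟩
                  have hz_5_2 : T.a x5 x2 = 0 := by rw [hsym]; exact hz_2_5
                  have hz_3_5 : T.a x3 x5 = 0 := by
                    by_contra hadj_3_5
                    have hadj_5_3 : T.a x5 x3 ≠ 0 := by rw [hsym]; exact hadj_3_5
                    have hl_3_5 := NT.lb1 T _ _ hne_3_5 hadj_3_5
                    have hl_5_3 := NT.lb1 T _ _ hne_3_5.symm hadj_5_3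
                    have hs_3_5 : T.a x3 x5 = T.a x5 x3 := hsym _ _
                    exact h3 ⟨x3, x2, x4, x5, hne_2_3.symm, hne_3_4, hne_3_5, hne_2_4, hne_2_5, hne_4_5, hadj_3_2, hadj_3_4, hadj_3_5⟩
                  have hz_5_3 : T.a x5 x3 = 0 := by rw [hsym]; exact hz_3_5
                  have hinj : Function.Injective ![x0, x1, x2, x3, x4, x5] := NT.inj6 _ _ _ _ _ _ hne_0_1 hne_0_2 hne_0_3 hne_0_4 hne_0_5 hne_1_2 hne_1_3 hne_1_4 hne_1_5 hne_2_3 hne_2_4 hne_2_5 hne_3_4 hne_3_5 hne_4_5
                  have hrow_0 : T.a x0 x0 * T.m x0 + T.a x0 x1 * T.m x1 + T.a x0 x2 * T.m x2 + T.a x0 x3 * T.m x3 + T.a x0 x4 * T.m x4 + T.a x0 x5 * T.m x5 = 0 := by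
                    have h := NT.row_fun T _ hinj (0 : Fin 6)
                    rw [Fin.sum_univ_six] at h
                    exact h
                  have hrow_1 : T.a x1 x0 * T.m x0 + T.a x1 x1 * T.m x1 + T.a x1 x2 * T.m x2 + T.a x1 x3 * T.m x3 + T.a x1 x4 * T.m x4 + T.a x1 x5 * T.m x5 = 0 := by
                    have h := NT.row_fun T _ hinj (1 : Fin 6)
                    rw [Fin.sum_univ_six] at h
                    exact h
                  have hrow_2 : T.a x2 x0 * T.m x0 + T.a x2 x1 * T.m x1 + T.a x2 x2 * T.m x2 + T.a x2 x3 * T.m x3 + T.a x2 x4 * T.m x4 + T.a x2 x5 * T.m x5 = 0 := by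
                    have h := NT.row_fun T _ hinj (2 : Fin 6)
                    rw [Fin.sum_univ_six] at h
                    exact h
                  have hrow_3 : T.a x3 x0 * T.m x0 + T.a x3 x1 * T.m x1 + T.a x3 x2 * T.m x2 + T.a x3 x3 * T.m x3 + T.a x3 x4 * T.m x4 + T.a x3 x5 * T.m x5 = 0 := by
                    have h := NT.row_fun T _ hinj (3 : Fin 6)
                    rw [Fin.sum_univ_six] at h
                    exact h
                  have hrow_4 : T.a x4 x0 * T.m x0 + T.a x4 x1 * T.m x1 + T.a x4 x2 * T.m x2 + T.a x4 x3 * T.m x3 + T.a x4 x4 * T.m x4 + T.a x4 x5 * T.m x5 = 0 := by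
                    have h := NT.row_fun T _ hinj (4 : Fin 6)
                    rw [Fin.sum_univ_six] at h
                    exact h
                  have hrow_5 : T.a x5 x0 * T.m x0 + T.a x5 x1 * T.m x1 + T.a x5 x2 * T.m x2 + T.a x5 x3 * T.m x3 + T.a x5 x4 * T.m x4 + T.a x5 x5 * T.m x5 = 0 := by
                    have h := NT.row_fun T _ hinj (5 : Fin 6)
                    rw [Fin.sum_univ_six] at h
                    exact h
                  obtain ⟨heq_0, heq_1, heq_2, heq_3, heq_4, heq_5⟩ := NT.harm6 T x0 x1 x2 x3 x4 x5 hne_0_1 hne_0_2 hne_0_3 hne_0_4 hne_0_5 hne_1_2 hne_1_3 hne_1_4 hne_1_5 hne_2_3 hne_2_4 hne_2_5 hne_3_4 hne_3_5 hne_4_5 1 1 1 1 1 1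
                    (by linarith only [hd x0, hl_0_1, hz_0_2, hz_0_3, hz_0_4, hl_0_5])
                    (by linarith only [hd x1, hl_1_0, hl_1_2, hz_1_3, hz_1_4, hz_1_5])
                    (by linarith only [hd x2, hz_2_0, hl_2_1, hl_2_3, hz_2_4, hz_2_5])
                    (by linarith only [hd x3, hz_3_0, hz_3_1, hl_3_2, hl_3_4, hz_3_5])
                    (by linarith only [hd x4, hz_4_0, hz_4_1, hz_4_2, hl_4_3, hl_4_5])
                    (by linarith only [hd x5, hl_5_0, hz_5_1, hz_5_2, hz_5_3, hl_5_4])
                  have hx_0_1 : T.a x0 x1 = T.w x0 := by linarith only [heq_0, hwp x0, hd x0, hl_0_1, hz_0_2, hz_0_3, hz_0_4, hl_0_5]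
                  have hx_1_0 : T.a x1 x0 = T.w x1 := by linarith only [heq_1, hwp x1, hd x1, hl_1_0, hl_1_2, hz_1_3, hz_1_4, hz_1_5]
                  have hx_1_2 : T.a x1 x2 = T.w x1 := by linarith only [heq_1, hwp x1, hd x1, hl_1_0, hl_1_2, hz_1_3, hz_1_4, hz_1_5]
                  have hx_2_1 : T.a x2 x1 = T.w x2 := by linarith only [heq_2, hwp x2, hd x2, hz_2_0, hl_2_1, hl_2_3, hz_2_4, hz_2_5]
                  have hx_2_3 : T.a x2 x3 = T.w x2 := by linarith only [heq_2, hwp x2, hd x2, hz_2_0, hl_2_1, hl_2_3, hz_2_4, hz_2_5]
                  have hx_3_2 : T.a x3 x2 = T.w x3 := by linarith only [heq_3, hwp x3, hd x3, hz_3_0, hz_3_1, hl_3_2, hl_3_4, hz_3_5]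
                  have hx_3_4 : T.a x3 x4 = T.w x3 := by linarith only [heq_3, hwp x3, hd x3, hz_3_0, hz_3_1, hl_3_2, hl_3_4, hz_3_5]
                  have hx_4_3 : T.a x4 x3 = T.w x4 := by linarith only [heq_4, hwp x4, hd x4, hz_4_0, hz_4_1, hz_4_2, hl_4_3, hl_4_5]
                  have hx_4_5 : T.a x4 x5 = T.w x4 := by linarith only [heq_4, hwp x4, hd x4, hz_4_0, hz_4_1, hz_4_2, hl_4_3, hl_4_5]
                  have hx_5_4 : T.a x5 x4 = T.w x5 := by linarith only [heq_5, hwp x5, hd x5, hl_5_0, hz_5_1, hz_5_2, hz_5_3, hl_5_4]
                  have hx_0_5 : T.a x0 x5 = T.w x0 := by linarith only [heq_0, hwp x0, hd x0, hl_0_1, hz_0_2, hz_0_3, hz_0_4, hl_0_5]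
                  have hx_5_0 : T.a x5 x0 = T.w x5 := by linarith only [heq_5, hwp x5, hd x5, hl_5_0, hz_5_1, hz_5_2, hz_5_3, hl_5_4]
                  have cw_0 : T.w x0 = T.w x0 := rfl
                  have cw_1 : T.w x1 = T.w x0 := by linarith only [cw_0, hx_0_1, hx_1_0, hs_0_1]
                  have cw_5 : T.w x5 = T.w x0 := by linarith only [cw_0, hx_0_5, hx_5_0, hs_0_5]
                  have cw_4 : T.w x4 = T.w x0 := by linarith only [cw_5, hx_5_4, hx_4_5, hs_4_5]
                  have cw_3 : T.w x3 = T.w x0 := by linarith only [cw_4, hx_4_3, hx_3_4, hs_3_4]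
                  have cw_2 : T.w x2 = T.w x0 := by linarith only [cw_3, hx_3_2, hx_2_3, hs_2_3]
                  have ca_0_0 : T.a x0 x0 = -2 * T.w x0 := by linarith only [hd x0, cw_0]
                  have ca_0_1 : T.a x0 x1 = T.w x0 := by linarith only [hx_0_1, cw_0]
                  have ca_0_5 : T.a x0 x5 = T.w x0 := by linarith only [hx_0_5, cw_0]
                  have ca_1_0 : T.a x1 x0 = T.w x0 := by linarith only [hx_1_0, cw_1]
                  have ca_1_1 : T.a x1 x1 = -2 * T.w x0 := by linarith only [hd x1, cw_1]
                  have ca_1_2 : T.a x1 x2 = T.w x0 := by linarith only [hx_1_2, cw_1]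
                  have ca_2_1 : T.a x2 x1 = T.w x0 := by linarith only [hx_2_1, cw_2]
                  have ca_2_2 : T.a x2 x2 = -2 * T.w x0 := by linarith only [hd x2, cw_2]
                  have ca_2_3 : T.a x2 x3 = T.w x0 := by linarith only [hx_2_3, cw_2]
                  have ca_3_2 : T.a x3 x2 = T.w x0 := by linarith only [hx_3_2, cw_3]
                  have ca_3_3 : T.a x3 x3 = -2 * T.w x0 := by linarith only [hd x3, cw_3]
                  have ca_3_4 : T.a x3 x4 = T.w x0 := by linarith only [hx_3_4, cw_3]
                  have ca_4_3 : T.a x4 x3 = T.w x0 := by linarith only [hx_4_3, cw_4]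
                  have ca_4_4 : T.a x4 x4 = -2 * T.w x0 := by linarith only [hd x4, cw_4]
                  have ca_4_5 : T.a x4 x5 = T.w x0 := by linarith only [hx_4_5, cw_4]
                  have ca_5_0 : T.a x5 x0 = T.w x0 := by linarith only [hx_5_0, cw_5]
                  have ca_5_4 : T.a x5 x4 = T.w x0 := by linarith only [hx_5_4, cw_5]
                  have ca_5_5 : T.a x5 x5 = -2 * T.w x0 := by linarith only [hd x5, cw_5]
                  have hm_0 : -2 * T.m x0 + 1 * T.m x1 + 1 * T.m x5 = 0 := by
                    have h := hrow_0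
                    rw [ca_0_0, ca_0_1, hz_0_2, hz_0_3, hz_0_4, ca_0_5] at h
                    have h2 : T.w x0 * (-2 * T.m x0 + 1 * T.m x1 + 1 * T.m x5) = 0 := by linarith only [h]
                    rcases mul_eq_zero.mp h2 with h3 | h3
                    · exact absurd h3 (hwp _).ne'
                    · exact h3
                  have hm_1 : 1 * T.m x0 + -2 * T.m x1 + 1 * T.m x2 = 0 := by
                    have h := hrow_1
                    rw [ca_1_0, ca_1_1, ca_1_2, hz_1_3, hz_1_4, hz_1_5] at h
                    have h2 : T.w x0 * (1 * T.m x0 + -2 * T.m x1 + 1 * T.m x2) = 0 := by linarith only [h]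
                    rcases mul_eq_zero.mp h2 with h3 | h3
                    · exact absurd h3 (hwp _).ne'
                    · exact h3
                  have hm_2 : 1 * T.m x1 + -2 * T.m x2 + 1 * T.m x3 = 0 := by
                    have h := hrow_2
                    rw [hz_2_0, ca_2_1, ca_2_2, ca_2_3, hz_2_4, hz_2_5] at h
                    have h2 : T.w x0 * (1 * T.m x1 + -2 * T.m x2 + 1 * T.m x3) = 0 := by linarith only [h]
                    rcases mul_eq_zero.mp h2 with h3 | h3
                    · exact absurd h3 (hwp _).ne'
                    · exact h3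
                  have hm_3 : 1 * T.m x2 + -2 * T.m x3 + 1 * T.m x4 = 0 := by
                    have h := hrow_3
                    rw [hz_3_0, hz_3_1, ca_3_2, ca_3_3, ca_3_4, hz_3_5] at h
                    have h2 : T.w x0 * (1 * T.m x2 + -2 * T.m x3 + 1 * T.m x4) = 0 := by linarith only [h]
                    rcases mul_eq_zero.mp h2 with h3 | h3
                    · exact absurd h3 (hwp _).ne'
                    · exact h3
                  have hm_4 : 1 * T.m x3 + -2 * T.m x4 + 1 * T.m x5 = 0 := by
                    have h := hrow_4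
                    rw [hz_4_0, hz_4_1, hz_4_2, ca_4_3, ca_4_4, ca_4_5] at h
                    have h2 : T.w x0 * (1 * T.m x3 + -2 * T.m x4 + 1 * T.m x5) = 0 := by linarith only [h]
                    rcases mul_eq_zero.mp h2 with h3 | h3
                    · exact absurd h3 (hwp _).ne'
                    · exact h3
                  have hm_5 : 1 * T.m x0 + 1 * T.m x4 + -2 * T.m x5 = 0 := by
                    have h := hrow_5
                    rw [ca_5_0, hz_5_1, hz_5_2, hz_5_3, ca_5_4, ca_5_5] at h
                    have h2 : T.w x0 * (1 * T.m x0 + 1 * T.m x4 + -2 * T.m x5) = 0 := by linarith only [h]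
                    rcases mul_eq_zero.mp h2 with h3 | h3
                    · exact absurd h3 (hwp _).ne'
                    · exact h3
                  have cmu_0 : T.m x0 = T.m x0 := rfl
                  have cmu_1 : T.m x1 = T.m x0 := by linarith only [hm_0, hm_1, hm_2, hm_3, hm_4, hm_5]
                  have cmu_2 : T.m x2 = T.m x0 := by linarith only [hm_0, hm_1, hm_2, hm_3, hm_4, hm_5]
                  have cmu_3 : T.m x3 = T.m x0 := by linarith only [hm_0, hm_1, hm_2, hm_3, hm_4, hm_5]
                  have cmu_4 : T.m x4 = T.m x0 := by linarith only [hm_0, hm_1, hm_2, hm_3, hm_4, hm_5]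
                  have cmu_5 : T.m x5 = T.m x0 := by linarith only [hm_0, hm_1, hm_2, hm_3, hm_4, hm_5]
                  have hinjσ : Function.Injective ![x0, x1, x2, x3, x4, x5] := NT.inj6 _ _ _ _ _ _ hne_0_1 hne_0_2 hne_0_3 hne_0_4 hne_0_5 hne_1_2 hne_1_3 hne_1_4 hne_1_5 hne_2_3 hne_2_4 hne_2_5 hne_3_4 hne_3_5 hne_4_5
                  exact ⟨Equiv.ofBijective ![x0, x1, x2, x3, x4, x5] ⟨hinjσ, Finite.surjective_of_injective hinjσ⟩, T.m x0, T.w x0, Or.inl ⟨cmu_0, cmu_1, cmu_2, cmu_3, cmu_4, cmu_5, cw_0, cw_1, cw_2, cw_3, cw_4, cw_5, ca_0_0, ca_0_1, hz_0_2, hz_0_3, hz_0_4, ca_0_5, ca_1_1, ca_1_2, hz_1_3, hz_1_4, hz_1_5, ca_2_2, ca_2_3, hz_2_4, hz_2_5, ca_3_3, ca_3_4, hz_3_5, ca_4_4, ca_4_5, ca_5_5⟩⟩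
                · have hz_0_5 : T.a x0 x5 = 0 := not_not.mp hadj_0_5
                  have hz_5_0 : T.a x5 x0 = 0 := by rw [hsym]; exact hz_0_5
                  have hz_1_5 : T.a x1 x5 = 0 := by
                    by_contra hadj_1_5
                    have hadj_5_1 : T.a x5 x1 ≠ 0 := by rw [hsym]; exact hadj_1_5
                    have hl_1_5 := NT.lb1 T _ _ hne_1_5 hadj_1_5
                    have hl_5_1 := NT.lb1 T _ _ hne_1_5.symm hadj_5_1
                    have hs_1_5 : T.a x1 x5 = T.a x5 x1 := hsym _ _
                    exact h3 ⟨x1, x0, x2, x5, hne_0_1.symm, hne_1_2, hne_1_5, hne_0_2, hne_0_5, hne_2_5, hadj_1_0, hadj_1_2, hadj_1_5⟩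
                  have hz_5_1 : T.a x5 x1 = 0 := by rw [hsym]; exact hz_1_5
                  have hz_2_5 : T.a x2 x5 = 0 := by
                    by_contra hadj_2_5
                    have hadj_5_2 : T.a x5 x2 ≠ 0 := by rw [hsym]; exact hadj_2_5
                    have hl_2_5 := NT.lb1 T _ _ hne_2_5 hadj_2_5
                    have hl_5_2 := NT.lb1 T _ _ hne_2_5.symm hadj_5_2
                    have hs_2_5 : T.a x2 x5 = T.a x5 x2 := hsym _ _
                    exact h3 ⟨x2, x1, x3, x5, hne_1_2.symm, hne_2_3, hne_2_5, hne_1_3, hne_1_5, hne_3_5, hadj_2_1, hadj_2_3, hadj_2_5⟩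
                  have hz_5_2 : T.a x5 x2 = 0 := by rw [hsym]; exact hz_2_5
                  have hz_3_5 : T.a x3 x5 = 0 := by
                    by_contra hadj_3_5
                    have hadj_5_3 : T.a x5 x3 ≠ 0 := by rw [hsym]; exact hadj_3_5
                    have hl_3_5 := NT.lb1 T _ _ hne_3_5 hadj_3_5
                    have hl_5_3 := NT.lb1 T _ _ hne_3_5.symm hadj_5_3
                    have hs_3_5 : T.a x3 x5 = T.a x5 x3 := hsym _ _
                    exact h3 ⟨x3, x2, x4, x5, hne_2_3.symm, hne_3_4, hne_3_5, hne_2_4, hne_2_5, hne_4_5, hadj_3_2, hadj_3_4, hadj_3_5⟩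
                  have hz_5_3 : T.a x5 x3 = 0 := by rw [hsym]; exact hz_3_5
                  have hinj : Function.Injective ![x0, x1, x2, x3, x4, x5] := NT.inj6 _ _ _ _ _ _ hne_0_1 hne_0_2 hne_0_3 hne_0_4 hne_0_5 hne_1_2 hne_1_3 hne_1_4 hne_1_5 hne_2_3 hne_2_4 hne_2_5 hne_3_4 hne_3_5 hne_4_5
                  have hrow_0 : T.a x0 x0 * T.m x0 + T.a x0 x1 * T.m x1 + T.a x0 x2 * T.m x2 + T.a x0 x3 * T.m x3 + T.a x0 x4 * T.m x4 + T.a x0 x5 * T.m x5 = 0 := by
                    have h := NT.row_fun T _ hinj (0 : Fin 6)
                    rw [Fin.sum_univ_six] at h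
                    exact h
                  have hrow_1 : T.a x1 x0 * T.m x0 + T.a x1 x1 * T.m x1 + T.a x1 x2 * T.m x2 + T.a x1 x3 * T.m x3 + T.a x1 x4 * T.m x4 + T.a x1 x5 * T.m x5 = 0 := by
                    have h := NT.row_fun T _ hinj (1 : Fin 6)
                    rw [Fin.sum_univ_six] at h
                    exact h
                  have hrow_2 : T.a x2 x0 * T.m x0 + T.a x2 x1 * T.m x1 + T.a x2 x2 * T.m x2 + T.a x2 x3 * T.m x3 + T.a x2 x4 * T.m x4 + T.a x2 x5 * T.m x5 = 0 := by
                    have h := NT.row_fun T _ hinj (2 : Fin 6)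
                    rw [Fin.sum_univ_six] at h
                    exact h
                  have hrow_3 : T.a x3 x0 * T.m x0 + T.a x3 x1 * T.m x1 + T.a x3 x2 * T.m x2 + T.a x3 x3 * T.m x3 + T.a x3 x4 * T.m x4 + T.a x3 x5 * T.m x5 = 0 := by
                    have h := NT.row_fun T _ hinj (3 : Fin 6)
                    rw [Fin.sum_univ_six] at h
                    exact h
                  have hrow_4 : T.a x4 x0 * T.m x0 + T.a x4 x1 * T.m x1 + T.a x4 x2 * T.m x2 + T.a x4 x3 * T.m x3 + T.a x4 x4 * T.m x4 + T.a x4 x5 * T.m x5 = 0 := by
                    have h := NT.row_fun T _ hinj (4 : Fin 6)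
                    rw [Fin.sum_univ_six] at h
                    exact h
                  have hrow_5 : T.a x5 x0 * T.m x0 + T.a x5 x1 * T.m x1 + T.a x5 x2 * T.m x2 + T.a x5 x3 * T.m x3 + T.a x5 x4 * T.m x4 + T.a x5 x5 * T.m x5 = 0 := by
                    have h := NT.row_fun T _ hinj (5 : Fin 6)
                    rw [Fin.sum_univ_six] at h
                    exact h
                  rcases NT.edge3 T x1 x2 hne_1_2 hadj_1_2 with hx_1_2 | hx_1_2 | hx_1_2
                  · rcases NT.edge3 T x2 x1 hne_1_2.symm hadj_2_1 with hx_2_1 | hx_2_1 | hx_2_1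
                    · rcases NT.edge3 T x2 x3 hne_2_3 hadj_2_3 with hx_2_3 | hx_2_3 | hx_2_3
                      · rcases NT.edge3 T x3 x2 hne_2_3.symm hadj_3_2 with hx_3_2 | hx_3_2 | hx_3_2
                        · rcases NT.edge3 T x3 x4 hne_3_4 hadj_3_4 with hx_3_4 | hx_3_4 | hx_3_4
                          · rcases NT.edge3 T x4 x3 hne_3_4.symm hadj_4_3 with hx_4_3 | hx_4_3 | hx_4_3
                            · rcases NT.edge3 T x0 x1 hne_0_1 hadj_0_1 with hx_0_1 | hx_0_1 | hx_0_1
                              · rcases NT.edge3 T x1 x0 hne_0_1.symm hadj_1_0 with hx_1_0 | hx_1_0 | hx_1_0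
                                · rcases NT.edge3 T x4 x5 hne_4_5 hadj_4_5 with hx_4_5 | hx_4_5 | hx_4_5
                                  · rcases NT.edge3 T x5 x4 hne_4_5.symm hadj_5_4 with hx_5_4 | hx_5_4 | hx_5_4
                                    · have cw_0 : T.w x0 = T.w x0 := rfl
                                      have cw_1 : T.w x1 = T.w x0 := by linarith only [cw_0, hx_0_1, hx_1_0, hs_0_1]
                                      have cw_2 : T.w x2 = T.w x0 := by linarith only [cw_1, hx_1_2, hx_2_1, hs_1_2]
                                      have cw_3 : T.w x3 = T.w x0 := by linarith only [cw_2, hx_2_3, hx_3_2, hs_2_3]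
                                      have cw_4 : T.w x4 = T.w x0 := by linarith only [cw_3, hx_3_4, hx_4_3, hs_3_4]
                                      have cw_5 : T.w x5 = T.w x0 := by linarith only [cw_4, hx_4_5, hx_5_4, hs_4_5]
                                      have ca_0_0 : T.a x0 x0 = -2 * T.w x0 := by linarith only [hd x0, cw_0]
                                      have ca_0_1 : T.a x0 x1 = T.w x0 := by linarith only [hx_0_1, cw_0]
                                      have ca_1_0 : T.a x1 x0 = T.w x0 := by linarith only [hx_1_0, cw_1]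
                                      have ca_1_1 : T.a x1 x1 = -2 * T.w x0 := by linarith only [hd x1, cw_1]
                                      have ca_1_2 : T.a x1 x2 = T.w x0 := by linarith only [hx_1_2, cw_1]
                                      have ca_2_1 : T.a x2 x1 = T.w x0 := by linarith only [hx_2_1, cw_2]
                                      have ca_2_2 : T.a x2 x2 = -2 * T.w x0 := by linarith only [hd x2, cw_2]
                                      have ca_2_3 : T.a x2 x3 = T.w x0 := by linarith only [hx_2_3, cw_2]
                                      have ca_3_2 : T.a x3 x2 = T.w x0 := by linarith only [hx_3_2, cw_3]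
                                      have ca_3_3 : T.a x3 x3 = -2 * T.w x0 := by linarith only [hd x3, cw_3]
                                      have ca_3_4 : T.a x3 x4 = T.w x0 := by linarith only [hx_3_4, cw_3]
                                      have ca_4_3 : T.a x4 x3 = T.w x0 := by linarith only [hx_4_3, cw_4]
                                      have ca_4_4 : T.a x4 x4 = -2 * T.w x0 := by linarith only [hd x4, cw_4]
                                      have ca_4_5 : T.a x4 x5 = T.w x0 := by linarith only [hx_4_5, cw_4]
                                      have ca_5_4 : T.a x5 x4 = T.w x0 := by linarith only [hx_5_4, cw_5]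
                                      have ca_5_5 : T.a x5 x5 = -2 * T.w x0 := by linarith only [hd x5, cw_5]
                                      have hm_0 : -2 * T.m x0 + 1 * T.m x1 = 0 := by
                                        have h := hrow_0
                                        rw [ca_0_0, ca_0_1, hz_0_2, hz_0_3, hz_0_4, hz_0_5] at h
                                        have h2 : T.w x0 * (-2 * T.m x0 + 1 * T.m x1) = 0 := by linarith only [h]
                                        rcases mul_eq_zero.mp h2 with h3 | h3
                                        · exact absurd h3 (hwp _).ne'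
                                        · exact h3
                                      have hm_1 : 1 * T.m x0 + -2 * T.m x1 + 1 * T.m x2 = 0 := by
                                        have h := hrow_1
                                        rw [ca_1_0, ca_1_1, ca_1_2, hz_1_3, hz_1_4, hz_1_5] at h
                                        have h2 : T.w x0 * (1 * T.m x0 + -2 * T.m x1 + 1 * T.m x2) = 0 := by linarith only [h]
                                        rcases mul_eq_zero.mp h2 with h3 | h3
                                        · exact absurd h3 (hwp _).ne'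
                                        · exact h3
                                      have hm_2 : 1 * T.m x1 + -2 * T.m x2 + 1 * T.m x3 = 0 := by
                                        have h := hrow_2
                                        rw [hz_2_0, ca_2_1, ca_2_2, ca_2_3, hz_2_4, hz_2_5] at h
                                        have h2 : T.w x0 * (1 * T.m x1 + -2 * T.m x2 + 1 * T.m x3) = 0 := by linarith only [h]
                                        rcases mul_eq_zero.mp h2 with h3 | h3
                                        · exact absurd h3 (hwp _).ne'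
                                        · exact h3
                                      have hm_3 : 1 * T.m x2 + -2 * T.m x3 + 1 * T.m x4 = 0 := by
                                        have h := hrow_3
                                        rw [hz_3_0, hz_3_1, ca_3_2, ca_3_3, ca_3_4, hz_3_5] at h
                                        have h2 : T.w x0 * (1 * T.m x2 + -2 * T.m x3 + 1 * T.m x4) = 0 := by linarith only [h]
                                        rcases mul_eq_zero.mp h2 with h3 | h3
                                        · exact absurd h3 (hwp _).ne'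
                                        · exact h3
                                      have hm_4 : 1 * T.m x3 + -2 * T.m x4 + 1 * T.m x5 = 0 := by
                                        have h := hrow_4
                                        rw [hz_4_0, hz_4_1, hz_4_2, ca_4_3, ca_4_4, ca_4_5] at h
                                        have h2 : T.w x0 * (1 * T.m x3 + -2 * T.m x4 + 1 * T.m x5) = 0 := by linarith only [h]
                                        rcases mul_eq_zero.mp h2 with h3 | h3
                                        · exact absurd h3 (hwp _).ne'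
                                        · exact h3
                                      have hm_5 : 1 * T.m x4 + -2 * T.m x5 = 0 := by
                                        have h := hrow_5
                                        rw [hz_5_0, hz_5_1, hz_5_2, hz_5_3, ca_5_4, ca_5_5] at h
                                        have h2 : T.w x0 * (1 * T.m x4 + -2 * T.m x5) = 0 := by linarith only [h]
                                        rcases mul_eq_zero.mp h2 with h3 | h3
                                        · exact absurd h3 (hwp _).ne'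
                                        · exact h3
                                      exfalso
                                      linarith only [hm_0, hm_1, hm_2, hm_3, hm_4, hm_5, hmp x0, hmp x1, hmp x2, hmp x3, hmp x4, hmp x5]
                                    · have cw_5 : T.w x5 = T.w x5 := rfl
                                      have cw_4 : T.w x4 = 2 * T.w x5 := by linarith only [cw_5, hx_5_4, hx_4_5, hs_4_5]
                                      have cw_3 : T.w x3 = 2 * T.w x5 := by linarith only [cw_4, hx_4_3, hx_3_4, hs_3_4]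
                                      have cw_2 : T.w x2 = 2 * T.w x5 := by linarith only [cw_3, hx_3_2, hx_2_3, hs_2_3]
                                      have cw_1 : T.w x1 = 2 * T.w x5 := by linarith only [cw_2, hx_2_1, hx_1_2, hs_1_2]
                                      have cw_0 : T.w x0 = 2 * T.w x5 := by linarith only [cw_1, hx_1_0, hx_0_1, hs_0_1]
                                      have ca_0_0 : T.a x0 x0 = -4 * T.w x5 := by linarith only [hd x0, cw_0]
                                      have ca_0_1 : T.a x0 x1 = 2 * T.w x5 := by linarith only [hx_0_1, cw_0]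
                                      have ca_1_0 : T.a x1 x0 = 2 * T.w x5 := by linarith only [hx_1_0, cw_1]
                                      have ca_1_1 : T.a x1 x1 = -4 * T.w x5 := by linarith only [hd x1, cw_1]
                                      have ca_1_2 : T.a x1 x2 = 2 * T.w x5 := by linarith only [hx_1_2, cw_1]
                                      have ca_2_1 : T.a x2 x1 = 2 * T.w x5 := by linarith only [hx_2_1, cw_2]
                                      have ca_2_2 : T.a x2 x2 = -4 * T.w x5 := by linarith only [hd x2, cw_2]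
                                      have ca_2_3 : T.a x2 x3 = 2 * T.w x5 := by linarith only [hx_2_3, cw_2]
                                      have ca_3_2 : T.a x3 x2 = 2 * T.w x5 := by linarith only [hx_3_2, cw_3]
                                      have ca_3_3 : T.a x3 x3 = -4 * T.w x5 := by linarith only [hd x3, cw_3]
                                      have ca_3_4 : T.a x3 x4 = 2 * T.w x5 := by linarith only [hx_3_4, cw_3]
                                      have ca_4_3 : T.a x4 x3 = 2 * T.w x5 := by linarith only [hx_4_3, cw_4]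
                                      have ca_4_4 : T.a x4 x4 = -4 * T.w x5 := by linarith only [hd x4, cw_4]
                                      have ca_4_5 : T.a x4 x5 = 2 * T.w x5 := by linarith only [hx_4_5, cw_4]
                                      have ca_5_4 : T.a x5 x4 = 2 * T.w x5 := by linarith only [hx_5_4, cw_5]
                                      have ca_5_5 : T.a x5 x5 = -2 * T.w x5 := by linarith only [hd x5, cw_5]
                                      have hm_0 : -4 * T.m x0 + 2 * T.m x1 = 0 := by
                                        have h := hrow_0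
                                        rw [ca_0_0, ca_0_1, hz_0_2, hz_0_3, hz_0_4, hz_0_5] at h
                                        have h2 : T.w x5 * (-4 * T.m x0 + 2 * T.m x1) = 0 := by linarith only [h]
                                        rcases mul_eq_zero.mp h2 with h3 | h3
                                        · exact absurd h3 (hwp _).ne'
                                        · exact h3
                                      have hm_1 : 2 * T.m x0 + -4 * T.m x1 + 2 * T.m x2 = 0 := by
                                        have h := hrow_1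
                                        rw [ca_1_0, ca_1_1, ca_1_2, hz_1_3, hz_1_4, hz_1_5] at h
                                        have h2 : T.w x5 * (2 * T.m x0 + -4 * T.m x1 + 2 * T.m x2) = 0 := by linarith only [h]
                                        rcases mul_eq_zero.mp h2 with h3 | h3
                                        · exact absurd h3 (hwp _).ne'
                                        · exact h3
                                      have hm_2 : 2 * T.m x1 + -4 * T.m x2 + 2 * T.m x3 = 0 := by
                                        have h := hrow_2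
                                        rw [hz_2_0, ca_2_1, ca_2_2, ca_2_3, hz_2_4, hz_2_5] at h
                                        have h2 : T.w x5 * (2 * T.m x1 + -4 * T.m x2 + 2 * T.m x3) = 0 := by linarith only [h]
                                        rcases mul_eq_zero.mp h2 with h3 | h3
                                        · exact absurd h3 (hwp _).ne'
                                        · exact h3
                                      have hm_3 : 2 * T.m x2 + -4 * T.m x3 + 2 * T.m x4 = 0 := by
                                        have h := hrow_3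
                                        rw [hz_3_0, hz_3_1, ca_3_2, ca_3_3, ca_3_4, hz_3_5] at h
                                        have h2 : T.w x5 * (2 * T.m x2 + -4 * T.m x3 + 2 * T.m x4) = 0 := by linarith only [h]
                                        rcases mul_eq_zero.mp h2 with h3 | h3
                                        · exact absurd h3 (hwp _).ne'
                                        · exact h3
                                      have hm_4 : 2 * T.m x3 + -4 * T.m x4 + 2 * T.m x5 = 0 := by
                                        have h := hrow_4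
                                        rw [hz_4_0, hz_4_1, hz_4_2, ca_4_3, ca_4_4, ca_4_5] at h
                                        have h2 : T.w x5 * (2 * T.m x3 + -4 * T.m x4 + 2 * T.m x5) = 0 := by linarith only [h]
                                        rcases mul_eq_zero.mp h2 with h3 | h3
                                        · exact absurd h3 (hwp _).ne'
                                        · exact h3
                                      have hm_5 : 2 * T.m x4 + -2 * T.m x5 = 0 := by
                                        have h := hrow_5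
                                        rw [hz_5_0, hz_5_1, hz_5_2, hz_5_3, ca_5_4, ca_5_5] at h
                                        have h2 : T.w x5 * (2 * T.m x4 + -2 * T.m x5) = 0 := by linarith only [h]
                                        rcases mul_eq_zero.mp h2 with h3 | h3
                                        · exact absurd h3 (hwp _).ne'
                                        · exact h3
                                      exfalso
                                      linarith only [hm_0, hm_1, hm_2, hm_3, hm_4, hm_5, hmp x0, hmp x1, hmp x2, hmp x3, hmp x4, hmp x5]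
                                    · exfalso
                                      refine NT.cert3 T x3 x4 x5 hne_3_4 hne_3_5 hne_4_5 (by norm_num) 1 2 3 (by norm_num) (by norm_num) (by norm_num) ?_ ?_ ?_
                                      · linarith only [hd x3, hwp x3, hx_3_4.ge, hnn x3 x5 hne_3_5]
                                      · linarith only [hd x4, hwp x4, hx_4_3.ge, hx_4_5.ge]
                                      · linarith only [hd x5, hwp x5, hnn x5 x3 hne_3_5.symm, hx_5_4]
                                  · rcases NT.edge3 T x5 x4 hne_4_5.symm hadj_5_4 with hx_5_4 | hx_5_4 | hx_5_4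
                                    · have cw_0 : T.w x0 = T.w x0 := rfl
                                      have cw_1 : T.w x1 = T.w x0 := by linarith only [cw_0, hx_0_1, hx_1_0, hs_0_1]
                                      have cw_2 : T.w x2 = T.w x0 := by linarith only [cw_1, hx_1_2, hx_2_1, hs_1_2]
                                      have cw_3 : T.w x3 = T.w x0 := by linarith only [cw_2, hx_2_3, hx_3_2, hs_2_3]
                                      have cw_4 : T.w x4 = T.w x0 := by linarith only [cw_3, hx_3_4, hx_4_3, hs_3_4]
                                      have cw_5 : T.w x5 = 2 * T.w x0 := by linarith only [cw_4, hx_4_5, hx_5_4, hs_4_5]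
                                      have ca_0_0 : T.a x0 x0 = -2 * T.w x0 := by linarith only [hd x0, cw_0]
                                      have ca_0_1 : T.a x0 x1 = T.w x0 := by linarith only [hx_0_1, cw_0]
                                      have ca_1_0 : T.a x1 x0 = T.w x0 := by linarith only [hx_1_0, cw_1]
                                      have ca_1_1 : T.a x1 x1 = -2 * T.w x0 := by linarith only [hd x1, cw_1]
                                      have ca_1_2 : T.a x1 x2 = T.w x0 := by linarith only [hx_1_2, cw_1]
                                      have ca_2_1 : T.a x2 x1 = T.w x0 := by linarith only [hx_2_1, cw_2]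
                                      have ca_2_2 : T.a x2 x2 = -2 * T.w x0 := by linarith only [hd x2, cw_2]
                                      have ca_2_3 : T.a x2 x3 = T.w x0 := by linarith only [hx_2_3, cw_2]
                                      have ca_3_2 : T.a x3 x2 = T.w x0 := by linarith only [hx_3_2, cw_3]
                                      have ca_3_3 : T.a x3 x3 = -2 * T.w x0 := by linarith only [hd x3, cw_3]
                                      have ca_3_4 : T.a x3 x4 = T.w x0 := by linarith only [hx_3_4, cw_3]
                                      have ca_4_3 : T.a x4 x3 = T.w x0 := by linarith only [hx_4_3, cw_4]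
                                      have ca_4_4 : T.a x4 x4 = -2 * T.w x0 := by linarith only [hd x4, cw_4]
                                      have ca_4_5 : T.a x4 x5 = 2 * T.w x0 := by linarith only [hx_4_5, cw_4]
                                      have ca_5_4 : T.a x5 x4 = 2 * T.w x0 := by linarith only [hx_5_4, cw_5]
                                      have ca_5_5 : T.a x5 x5 = -4 * T.w x0 := by linarith only [hd x5, cw_5]
                                      have hm_0 : -2 * T.m x0 + 1 * T.m x1 = 0 := by
                                        have h := hrow_0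
                                        rw [ca_0_0, ca_0_1, hz_0_2, hz_0_3, hz_0_4, hz_0_5] at h
                                        have h2 : T.w x0 * (-2 * T.m x0 + 1 * T.m x1) = 0 := by linarith only [h]
                                        rcases mul_eq_zero.mp h2 with h3 | h3
                                        · exact absurd h3 (hwp _).ne'
                                        · exact h3
                                      have hm_1 : 1 * T.m x0 + -2 * T.m x1 + 1 * T.m x2 = 0 := by
                                        have h := hrow_1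
                                        rw [ca_1_0, ca_1_1, ca_1_2, hz_1_3, hz_1_4, hz_1_5] at h
                                        have h2 : T.w x0 * (1 * T.m x0 + -2 * T.m x1 + 1 * T.m x2) = 0 := by linarith only [h]
                                        rcases mul_eq_zero.mp h2 with h3 | h3
                                        · exact absurd h3 (hwp _).ne'
                                        · exact h3
                                      have hm_2 : 1 * T.m x1 + -2 * T.m x2 + 1 * T.m x3 = 0 := by
                                        have h := hrow_2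
                                        rw [hz_2_0, ca_2_1, ca_2_2, ca_2_3, hz_2_4, hz_2_5] at h
                                        have h2 : T.w x0 * (1 * T.m x1 + -2 * T.m x2 + 1 * T.m x3) = 0 := by linarith only [h]
                                        rcases mul_eq_zero.mp h2 with h3 | h3
                                        · exact absurd h3 (hwp _).ne'
                                        · exact h3
                                      have hm_3 : 1 * T.m x2 + -2 * T.m x3 + 1 * T.m x4 = 0 := by
                                        have h := hrow_3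
                                        rw [hz_3_0, hz_3_1, ca_3_2, ca_3_3, ca_3_4, hz_3_5] at h
                                        have h2 : T.w x0 * (1 * T.m x2 + -2 * T.m x3 + 1 * T.m x4) = 0 := by linarith only [h]
                                        rcases mul_eq_zero.mp h2 with h3 | h3
                                        · exact absurd h3 (hwp _).ne'
                                        · exact h3
                                      have hm_4 : 1 * T.m x3 + -2 * T.m x4 + 2 * T.m x5 = 0 := by
                                        have h := hrow_4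
                                        rw [hz_4_0, hz_4_1, hz_4_2, ca_4_3, ca_4_4, ca_4_5] at h
                                        have h2 : T.w x0 * (1 * T.m x3 + -2 * T.m x4 + 2 * T.m x5) = 0 := by linarith only [h]
                                        rcases mul_eq_zero.mp h2 with h3 | h3
                                        · exact absurd h3 (hwp _).ne'
                                        · exact h3
                                      have hm_5 : 2 * T.m x4 + -4 * T.m x5 = 0 := by
                                        have h := hrow_5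
                                        rw [hz_5_0, hz_5_1, hz_5_2, hz_5_3, ca_5_4, ca_5_5] at h
                                        have h2 : T.w x0 * (2 * T.m x4 + -4 * T.m x5) = 0 := by linarith only [h]
                                        rcases mul_eq_zero.mp h2 with h3 | h3
                                        · exact absurd h3 (hwp _).ne'
                                        · exact h3
                                      exfalso
                                      linarith only [hm_0, hm_1, hm_2, hm_3, hm_4, hm_5, hmp x0, hmp x1, hmp x2, hmp x3, hmp x4, hmp x5]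
                                    · exfalso
                                      refine NT.cert2 T x4 x5 hne_4_5 (by norm_num) 1 1 (by norm_num) (by norm_num) ?_ ?_
                                      · linarith only [hd x4, hwp x4, hx_4_5.ge]
                                      · linarith only [hd x5, hwp x5, hx_5_4.ge]
                                    · exfalso
                                      refine NT.cert2 T x4 x5 hne_4_5 (by norm_num) 1 1 (by norm_num) (by norm_num) ?_ ?_
                                      · linarith only [hd x4, hwp x4, hx_4_5.ge]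
                                      · linarith only [hd x5, hwp x5, hx_5_4]
                                  · exfalso
                                    refine NT.cert3 T x3 x4 x5 hne_3_4 hne_3_5 hne_4_5 (by norm_num) 1 2 1 (by norm_num) (by norm_num) (by norm_num) ?_ ?_ ?_
                                    · linarith only [hd x3, hwp x3, hx_3_4.ge, hnn x3 x5 hne_3_5]
                                    · linarith only [hd x4, hwp x4, hx_4_3.ge, hx_4_5]
                                    · linarith only [hd x5, hwp x5, hnn x5 x3 hne_3_5.symm, hl_5_4]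
                                · rcases NT.edge3 T x4 x5 hne_4_5 hadj_4_5 with hx_4_5 | hx_4_5 | hx_4_5
                                  · rcases NT.edge3 T x5 x4 hne_4_5.symm hadj_5_4 with hx_5_4 | hx_5_4 | hx_5_4
                                    · have cw_1 : T.w x1 = T.w x1 := rfl
                                      have cw_0 : T.w x0 = 2 * T.w x1 := by linarith only [cw_1, hx_1_0, hx_0_1, hs_0_1]
                                      have cw_2 : T.w x2 = T.w x1 := by linarith only [cw_1, hx_1_2, hx_2_1, hs_1_2]
                                      have cw_3 : T.w x3 = T.w x1 := by linarith only [cw_2, hx_2_3, hx_3_2, hs_2_3]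
                                      have cw_4 : T.w x4 = T.w x1 := by linarith only [cw_3, hx_3_4, hx_4_3, hs_3_4]
                                      have cw_5 : T.w x5 = T.w x1 := by linarith only [cw_4, hx_4_5, hx_5_4, hs_4_5]
                                      have ca_0_0 : T.a x0 x0 = -4 * T.w x1 := by linarith only [hd x0, cw_0]
                                      have ca_0_1 : T.a x0 x1 = 2 * T.w x1 := by linarith only [hx_0_1, cw_0]
                                      have ca_1_0 : T.a x1 x0 = 2 * T.w x1 := by linarith only [hx_1_0, cw_1]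
                                      have ca_1_1 : T.a x1 x1 = -2 * T.w x1 := by linarith only [hd x1, cw_1]
                                      have ca_1_2 : T.a x1 x2 = T.w x1 := by linarith only [hx_1_2, cw_1]
                                      have ca_2_1 : T.a x2 x1 = T.w x1 := by linarith only [hx_2_1, cw_2]
                                      have ca_2_2 : T.a x2 x2 = -2 * T.w x1 := by linarith only [hd x2, cw_2]
                                      have ca_2_3 : T.a x2 x3 = T.w x1 := by linarith only [hx_2_3, cw_2]
                                      have ca_3_2 : T.a x3 x2 = T.w x1 := by linarith only [hx_3_2, cw_3]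
                                      have ca_3_3 : T.a x3 x3 = -2 * T.w x1 := by linarith only [hd x3, cw_3]
                                      have ca_3_4 : T.a x3 x4 = T.w x1 := by linarith only [hx_3_4, cw_3]
                                      have ca_4_3 : T.a x4 x3 = T.w x1 := by linarith only [hx_4_3, cw_4]
                                      have ca_4_4 : T.a x4 x4 = -2 * T.w x1 := by linarith only [hd x4, cw_4]
                                      have ca_4_5 : T.a x4 x5 = T.w x1 := by linarith only [hx_4_5, cw_4]
                                      have ca_5_4 : T.a x5 x4 = T.w x1 := by linarith only [hx_5_4, cw_5]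
                                      have ca_5_5 : T.a x5 x5 = -2 * T.w x1 := by linarith only [hd x5, cw_5]
                                      have hm_0 : -4 * T.m x0 + 2 * T.m x1 = 0 := by
                                        have h := hrow_0
                                        rw [ca_0_0, ca_0_1, hz_0_2, hz_0_3, hz_0_4, hz_0_5] at h
                                        have h2 : T.w x1 * (-4 * T.m x0 + 2 * T.m x1) = 0 := by linarith only [h]
                                        rcases mul_eq_zero.mp h2 with h3 | h3
                                        · exact absurd h3 (hwp _).ne'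
                                        · exact h3
                                      have hm_1 : 2 * T.m x0 + -2 * T.m x1 + 1 * T.m x2 = 0 := by
                                        have h := hrow_1
                                        rw [ca_1_0, ca_1_1, ca_1_2, hz_1_3, hz_1_4, hz_1_5] at h
                                        have h2 : T.w x1 * (2 * T.m x0 + -2 * T.m x1 + 1 * T.m x2) = 0 := by linarith only [h]
                                        rcases mul_eq_zero.mp h2 with h3 | h3
                                        · exact absurd h3 (hwp _).ne'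
                                        · exact h3
                                      have hm_2 : 1 * T.m x1 + -2 * T.m x2 + 1 * T.m x3 = 0 := by
                                        have h := hrow_2
                                        rw [hz_2_0, ca_2_1, ca_2_2, ca_2_3, hz_2_4, hz_2_5] at h
                                        have h2 : T.w x1 * (1 * T.m x1 + -2 * T.m x2 + 1 * T.m x3) = 0 := by linarith only [h]
                                        rcases mul_eq_zero.mp h2 with h3 | h3
                                        · exact absurd h3 (hwp _).ne'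
                                        · exact h3
                                      have hm_3 : 1 * T.m x2 + -2 * T.m x3 + 1 * T.m x4 = 0 := by
                                        have h := hrow_3
                                        rw [hz_3_0, hz_3_1, ca_3_2, ca_3_3, ca_3_4, hz_3_5] at h
                                        have h2 : T.w x1 * (1 * T.m x2 + -2 * T.m x3 + 1 * T.m x4) = 0 := by linarith only [h]
                                        rcases mul_eq_zero.mp h2 with h3 | h3
                                        · exact absurd h3 (hwp _).ne'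
                                        · exact h3
                                      have hm_4 : 1 * T.m x3 + -2 * T.m x4 + 1 * T.m x5 = 0 := by
                                        have h := hrow_4
                                        rw [hz_4_0, hz_4_1, hz_4_2, ca_4_3, ca_4_4, ca_4_5] at h
                                        have h2 : T.w x1 * (1 * T.m x3 + -2 * T.m x4 + 1 * T.m x5) = 0 := by linarith only [h]
                                        rcases mul_eq_zero.mp h2 with h3 | h3
                                        · exact absurd h3 (hwp _).ne'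
                                        · exact h3
                                      have hm_5 : 1 * T.m x4 + -2 * T.m x5 = 0 := by
                                        have h := hrow_5
                                        rw [hz_5_0, hz_5_1, hz_5_2, hz_5_3, ca_5_4, ca_5_5] at h
                                        have h2 : T.w x1 * (1 * T.m x4 + -2 * T.m x5) = 0 := by linarith only [h]
                                        rcases mul_eq_zero.mp h2 with h3 | h3
                                        · exact absurd h3 (hwp _).ne'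
                                        · exact h3
                                      exfalso
                                      linarith only [hm_0, hm_1, hm_2, hm_3, hm_4, hm_5, hmp x0, hmp x1, hmp x2, hmp x3, hmp x4, hmp x5]
                                    · have cw_5 : T.w x5 = T.w x5 := rfl
                                      have cw_4 : T.w x4 = 2 * T.w x5 := by linarith only [cw_5, hx_5_4, hx_4_5, hs_4_5]
                                      have cw_3 : T.w x3 = 2 * T.w x5 := by linarith only [cw_4, hx_4_3, hx_3_4, hs_3_4]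
                                      have cw_2 : T.w x2 = 2 * T.w x5 := by linarith only [cw_3, hx_3_2, hx_2_3, hs_2_3]
                                      have cw_1 : T.w x1 = 2 * T.w x5 := by linarith only [cw_2, hx_2_1, hx_1_2, hs_1_2]
                                      have cw_0 : T.w x0 = 4 * T.w x5 := by linarith only [cw_1, hx_1_0, hx_0_1, hs_0_1]
                                      have ca_0_0 : T.a x0 x0 = -8 * T.w x5 := by linarith only [hd x0, cw_0]
                                      have ca_0_1 : T.a x0 x1 = 4 * T.w x5 := by linarith only [hx_0_1, cw_0]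
                                      have ca_1_0 : T.a x1 x0 = 4 * T.w x5 := by linarith only [hx_1_0, cw_1]
                                      have ca_1_1 : T.a x1 x1 = -4 * T.w x5 := by linarith only [hd x1, cw_1]
                                      have ca_1_2 : T.a x1 x2 = 2 * T.w x5 := by linarith only [hx_1_2, cw_1]
                                      have ca_2_1 : T.a x2 x1 = 2 * T.w x5 := by linarith only [hx_2_1, cw_2]
                                      have ca_2_2 : T.a x2 x2 = -4 * T.w x5 := by linarith only [hd x2, cw_2]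
                                      have ca_2_3 : T.a x2 x3 = 2 * T.w x5 := by linarith only [hx_2_3, cw_2]
                                      have ca_3_2 : T.a x3 x2 = 2 * T.w x5 := by linarith only [hx_3_2, cw_3]
                                      have ca_3_3 : T.a x3 x3 = -4 * T.w x5 := by linarith only [hd x3, cw_3]
                                      have ca_3_4 : T.a x3 x4 = 2 * T.w x5 := by linarith only [hx_3_4, cw_3]
                                      have ca_4_3 : T.a x4 x3 = 2 * T.w x5 := by linarith only [hx_4_3, cw_4]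
                                      have ca_4_4 : T.a x4 x4 = -4 * T.w x5 := by linarith only [hd x4, cw_4]
                                      have ca_4_5 : T.a x4 x5 = 2 * T.w x5 := by linarith only [hx_4_5, cw_4]
                                      have ca_5_4 : T.a x5 x4 = 2 * T.w x5 := by linarith only [hx_5_4, cw_5]
                                      have ca_5_5 : T.a x5 x5 = -2 * T.w x5 := by linarith only [hd x5, cw_5]
                                      have hm_0 : -8 * T.m x0 + 4 * T.m x1 = 0 := by
                                        have h := hrow_0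
                                        rw [ca_0_0, ca_0_1, hz_0_2, hz_0_3, hz_0_4, hz_0_5] at h
                                        have h2 : T.w x5 * (-8 * T.m x0 + 4 * T.m x1) = 0 := by linarith only [h]
                                        rcases mul_eq_zero.mp h2 with h3 | h3
                                        · exact absurd h3 (hwp _).ne'
                                        · exact h3
                                      have hm_1 : 4 * T.m x0 + -4 * T.m x1 + 2 * T.m x2 = 0 := by
                                        have h := hrow_1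
                                        rw [ca_1_0, ca_1_1, ca_1_2, hz_1_3, hz_1_4, hz_1_5] at h
                                        have h2 : T.w x5 * (4 * T.m x0 + -4 * T.m x1 + 2 * T.m x2) = 0 := by linarith only [h]
                                        rcases mul_eq_zero.mp h2 with h3 | h3
                                        · exact absurd h3 (hwp _).ne'
                                        · exact h3
                                      have hm_2 : 2 * T.m x1 + -4 * T.m x2 + 2 * T.m x3 = 0 := by
                                        have h := hrow_2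
                                        rw [hz_2_0, ca_2_1, ca_2_2, ca_2_3, hz_2_4, hz_2_5] at h
                                        have h2 : T.w x5 * (2 * T.m x1 + -4 * T.m x2 + 2 * T.m x3) = 0 := by linarith only [h]
                                        rcases mul_eq_zero.mp h2 with h3 | h3
                                        · exact absurd h3 (hwp _).ne'
                                        · exact h3
                                      have hm_3 : 2 * T.m x2 + -4 * T.m x3 + 2 * T.m x4 = 0 := by
                                        have h := hrow_3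
                                        rw [hz_3_0, hz_3_1, ca_3_2, ca_3_3, ca_3_4, hz_3_5] at h
                                        have h2 : T.w x5 * (2 * T.m x2 + -4 * T.m x3 + 2 * T.m x4) = 0 := by linarith only [h]
                                        rcases mul_eq_zero.mp h2 with h3 | h3
                                        · exact absurd h3 (hwp _).ne'
                                        · exact h3
                                      have hm_4 : 2 * T.m x3 + -4 * T.m x4 + 2 * T.m x5 = 0 := by
                                        have h := hrow_4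
                                        rw [hz_4_0, hz_4_1, hz_4_2, ca_4_3, ca_4_4, ca_4_5] at h
                                        have h2 : T.w x5 * (2 * T.m x3 + -4 * T.m x4 + 2 * T.m x5) = 0 := by linarith only [h]
                                        rcases mul_eq_zero.mp h2 with h3 | h3
                                        · exact absurd h3 (hwp _).ne'
                                        · exact h3
                                      have hm_5 : 2 * T.m x4 + -2 * T.m x5 = 0 := by
                                        have h := hrow_5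
                                        rw [hz_5_0, hz_5_1, hz_5_2, hz_5_3, ca_5_4, ca_5_5] at h
                                        have h2 : T.w x5 * (2 * T.m x4 + -2 * T.m x5) = 0 := by linarith only [h]
                                        rcases mul_eq_zero.mp h2 with h3 | h3
                                        · exact absurd h3 (hwp _).ne'
                                        · exact h3
                                      have cmu_0 : T.m x0 = T.m x0 := rfl
                                      have cmu_1 : T.m x1 = 2 * T.m x0 := by linarith only [hm_0, hm_1, hm_2, hm_3, hm_4, hm_5]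
                                      have cmu_2 : T.m x2 = 2 * T.m x0 := by linarith only [hm_0, hm_1, hm_2, hm_3, hm_4, hm_5]
                                      have cmu_3 : T.m x3 = 2 * T.m x0 := by linarith only [hm_0, hm_1, hm_2, hm_3, hm_4, hm_5]
                                      have cmu_4 : T.m x4 = 2 * T.m x0 := by linarith only [hm_0, hm_1, hm_2, hm_3, hm_4, hm_5]
                                      have cmu_5 : T.m x5 = 2 * T.m x0 := by linarith only [hm_0, hm_1, hm_2, hm_3, hm_4, hm_5]
                                      have hinjσ : Function.Injective ![x5, x4, x3, x2, x1, x0] := NT.inj6 _ _ _ _ _ _ hne_4_5.symm hne_3_5.symm hne_2_5.symm hne_1_5.symm hne_0_5.symm hne_3_4.symm hne_2_4.symm hne_1_4.symm hne_0_4.symm hne_2_3.symm hne_1_3.symm hne_0_3.symm hne_1_2.symm hne_0_2.symm hne_0_1.symm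
                                      exact ⟨Equiv.ofBijective ![x5, x4, x3, x2, x1, x0] ⟨hinjσ, Finite.surjective_of_injective hinjσ⟩, T.m x0, T.w x5, Or.inr (Or.inl ⟨cmu_5, cmu_4, cmu_3, cmu_2, cmu_1, cmu_0, cw_5, cw_4, cw_3, cw_2, cw_1, cw_0, ca_5_5, ca_5_4, hz_5_3, hz_5_2, hz_5_1, hz_5_0, ca_4_4, ca_4_3, hz_4_2, hz_4_1, hz_4_0, ca_3_3, ca_3_2, hz_3_1, hz_3_0, ca_2_2, ca_2_1, hz_2_0, ca_1_1, ca_1_0, ca_0_0⟩)⟩
                                    · exfalso
                                      refine NT.cert3 T x3 x4 x5 hne_3_4 hne_3_5 hne_4_5 (by norm_num) 1 2 3 (by norm_num) (by norm_num) (by norm_num) ?_ ?_ ?_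
                                      · linarith only [hd x3, hwp x3, hx_3_4.ge, hnn x3 x5 hne_3_5]
                                      · linarith only [hd x4, hwp x4, hx_4_3.ge, hx_4_5.ge]
                                      · linarith only [hd x5, hwp x5, hnn x5 x3 hne_3_5.symm, hx_5_4]
                                  · obtain ⟨heq_0, heq_1, heq_2, heq_3, heq_4, heq_5⟩ := NT.harm6 T x0 x1 x2 x3 x4 x5 hne_0_1 hne_0_2 hne_0_3 hne_0_4 hne_0_5 hne_1_2 hne_1_3 hne_1_4 hne_1_5 hne_2_3 hne_2_4 hne_2_5 hne_3_4 hne_3_5 hne_4_5 1 2 2 2 2 1
                                      (by linarith only [hd x0, hx_0_1.ge, hz_0_2, hz_0_3, hz_0_4, hz_0_5])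
                                      (by linarith only [hd x1, hx_1_0.ge, hx_1_2.ge, hz_1_3, hz_1_4, hz_1_5])
                                      (by linarith only [hd x2, hz_2_0, hx_2_1.ge, hx_2_3.ge, hz_2_4, hz_2_5])
                                      (by linarith only [hd x3, hz_3_0, hz_3_1, hx_3_2.ge, hx_3_4.ge, hz_3_5])
                                      (by linarith only [hd x4, hz_4_0, hz_4_1, hz_4_2, hx_4_3.ge, hx_4_5.ge])
                                      (by linarith only [hd x5, hz_5_0, hz_5_1, hz_5_2, hz_5_3, hl_5_4])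
                                    have hx_5_4 : T.a x5 x4 = T.w x5 := by linarith only [heq_5, hwp x5, hd x5, hz_5_0, hz_5_1, hz_5_2, hz_5_3, hl_5_4]
                                    have cw_1 : T.w x1 = T.w x1 := rfl
                                    have cw_0 : T.w x0 = 2 * T.w x1 := by linarith only [cw_1, hx_1_0, hx_0_1, hs_0_1]
                                    have cw_2 : T.w x2 = T.w x1 := by linarith only [cw_1, hx_1_2, hx_2_1, hs_1_2]
                                    have cw_3 : T.w x3 = T.w x1 := by linarith only [cw_2, hx_2_3, hx_3_2, hs_2_3]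
                                    have cw_4 : T.w x4 = T.w x1 := by linarith only [cw_3, hx_3_4, hx_4_3, hs_3_4]
                                    have cw_5 : T.w x5 = 2 * T.w x1 := by linarith only [cw_4, hx_4_5, hx_5_4, hs_4_5]
                                    have ca_0_0 : T.a x0 x0 = -4 * T.w x1 := by linarith only [hd x0, cw_0]
                                    have ca_0_1 : T.a x0 x1 = 2 * T.w x1 := by linarith only [hx_0_1, cw_0]
                                    have ca_1_0 : T.a x1 x0 = 2 * T.w x1 := by linarith only [hx_1_0, cw_1]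
                                    have ca_1_1 : T.a x1 x1 = -2 * T.w x1 := by linarith only [hd x1, cw_1]
                                    have ca_1_2 : T.a x1 x2 = T.w x1 := by linarith only [hx_1_2, cw_1]
                                    have ca_2_1 : T.a x2 x1 = T.w x1 := by linarith only [hx_2_1, cw_2]
                                    have ca_2_2 : T.a x2 x2 = -2 * T.w x1 := by linarith only [hd x2, cw_2]
                                    have ca_2_3 : T.a x2 x3 = T.w x1 := by linarith only [hx_2_3, cw_2]
                                    have ca_3_2 : T.a x3 x2 = T.w x1 := by linarith only [hx_3_2, cw_3]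
                                    have ca_3_3 : T.a x3 x3 = -2 * T.w x1 := by linarith only [hd x3, cw_3]
                                    have ca_3_4 : T.a x3 x4 = T.w x1 := by linarith only [hx_3_4, cw_3]
                                    have ca_4_3 : T.a x4 x3 = T.w x1 := by linarith only [hx_4_3, cw_4]
                                    have ca_4_4 : T.a x4 x4 = -2 * T.w x1 := by linarith only [hd x4, cw_4]
                                    have ca_4_5 : T.a x4 x5 = 2 * T.w x1 := by linarith only [hx_4_5, cw_4]
                                    have ca_5_4 : T.a x5 x4 = 2 * T.w x1 := by linarith only [hx_5_4, cw_5]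
                                    have ca_5_5 : T.a x5 x5 = -4 * T.w x1 := by linarith only [hd x5, cw_5]
                                    have hm_0 : -4 * T.m x0 + 2 * T.m x1 = 0 := by
                                      have h := hrow_0
                                      rw [ca_0_0, ca_0_1, hz_0_2, hz_0_3, hz_0_4, hz_0_5] at h
                                      have h2 : T.w x1 * (-4 * T.m x0 + 2 * T.m x1) = 0 := by linarith only [h]
                                      rcases mul_eq_zero.mp h2 with h3 | h3
                                      · exact absurd h3 (hwp _).ne'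
                                      · exact h3
                                    have hm_1 : 2 * T.m x0 + -2 * T.m x1 + 1 * T.m x2 = 0 := by
                                      have h := hrow_1
                                      rw [ca_1_0, ca_1_1, ca_1_2, hz_1_3, hz_1_4, hz_1_5] at h
                                      have h2 : T.w x1 * (2 * T.m x0 + -2 * T.m x1 + 1 * T.m x2) = 0 := by linarith only [h]
                                      rcases mul_eq_zero.mp h2 with h3 | h3
                                      · exact absurd h3 (hwp _).ne'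
                                      · exact h3
                                    have hm_2 : 1 * T.m x1 + -2 * T.m x2 + 1 * T.m x3 = 0 := by
                                      have h := hrow_2
                                      rw [hz_2_0, ca_2_1, ca_2_2, ca_2_3, hz_2_4, hz_2_5] at h
                                      have h2 : T.w x1 * (1 * T.m x1 + -2 * T.m x2 + 1 * T.m x3) = 0 := by linarith only [h]
                                      rcases mul_eq_zero.mp h2 with h3 | h3
                                      · exact absurd h3 (hwp _).ne'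
                                      · exact h3
                                    have hm_3 : 1 * T.m x2 + -2 * T.m x3 + 1 * T.m x4 = 0 := by
                                      have h := hrow_3
                                      rw [hz_3_0, hz_3_1, ca_3_2, ca_3_3, ca_3_4, hz_3_5] at h
                                      have h2 : T.w x1 * (1 * T.m x2 + -2 * T.m x3 + 1 * T.m x4) = 0 := by linarith only [h]
                                      rcases mul_eq_zero.mp h2 with h3 | h3
                                      · exact absurd h3 (hwp _).ne'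
                                      · exact h3
                                    have hm_4 : 1 * T.m x3 + -2 * T.m x4 + 2 * T.m x5 = 0 := by
                                      have h := hrow_4
                                      rw [hz_4_0, hz_4_1, hz_4_2, ca_4_3, ca_4_4, ca_4_5] at h
                                      have h2 : T.w x1 * (1 * T.m x3 + -2 * T.m x4 + 2 * T.m x5) = 0 := by linarith only [h]
                                      rcases mul_eq_zero.mp h2 with h3 | h3
                                      · exact absurd h3 (hwp _).ne'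
                                      · exact h3
                                    have hm_5 : 2 * T.m x4 + -4 * T.m x5 = 0 := by
                                      have h := hrow_5
                                      rw [hz_5_0, hz_5_1, hz_5_2, hz_5_3, ca_5_4, ca_5_5] at h
                                      have h2 : T.w x1 * (2 * T.m x4 + -4 * T.m x5) = 0 := by linarith only [h]
                                      rcases mul_eq_zero.mp h2 with h3 | h3
                                      · exact absurd h3 (hwp _).ne'
                                      · exact h3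
                                    have cmu_0 : T.m x0 = T.m x0 := rfl
                                    have cmu_1 : T.m x1 = 2 * T.m x0 := by linarith only [hm_0, hm_1, hm_2, hm_3, hm_4, hm_5]
                                    have cmu_2 : T.m x2 = 2 * T.m x0 := by linarith only [hm_0, hm_1, hm_2, hm_3, hm_4, hm_5]
                                    have cmu_3 : T.m x3 = 2 * T.m x0 := by linarith only [hm_0, hm_1, hm_2, hm_3, hm_4, hm_5]
                                    have cmu_4 : T.m x4 = 2 * T.m x0 := by linarith only [hm_0, hm_1, hm_2, hm_3, hm_4, hm_5]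
                                    have cmu_5 : T.m x5 = T.m x0 := by linarith only [hm_0, hm_1, hm_2, hm_3, hm_4, hm_5]
                                    have hinjσ : Function.Injective ![x0, x1, x2, x3, x4, x5] := NT.inj6 _ _ _ _ _ _ hne_0_1 hne_0_2 hne_0_3 hne_0_4 hne_0_5 hne_1_2 hne_1_3 hne_1_4 hne_1_5 hne_2_3 hne_2_4 hne_2_5 hne_3_4 hne_3_5 hne_4_5
                                    exact ⟨Equiv.ofBijective ![x0, x1, x2, x3, x4, x5] ⟨hinjσ, Finite.surjective_of_injective hinjσ⟩, T.m x0, T.w x1, Or.inr (Or.inr (Or.inr (Or.inl ⟨cmu_0, cmu_1, cmu_2, cmu_3, cmu_4, cmu_5, cw_0, cw_1, cw_2, cw_3, cw_4, cw_5, ca_0_0, ca_0_1, hz_0_2, hz_0_3, hz_0_4, hz_0_5, ca_1_1, ca_1_2, hz_1_3, hz_1_4, hz_1_5, ca_2_2, ca_2_3, hz_2_4, hz_2_5, ca_3_3, ca_3_4, hz_3_5, ca_4_4, ca_4_5, ca_5_5⟩)))⟩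
                                  · exfalso
                                    refine NT.cert3 T x3 x4 x5 hne_3_4 hne_3_5 hne_4_5 (by norm_num) 1 2 1 (by norm_num) (by norm_num) (by norm_num) ?_ ?_ ?_
                                    · linarith only [hd x3, hwp x3, hx_3_4.ge, hnn x3 x5 hne_3_5]
                                    · linarith only [hd x4, hwp x4, hx_4_3.ge, hx_4_5]
                                    · linarith only [hd x5, hwp x5, hnn x5 x3 hne_3_5.symm, hl_5_4]
                                · exfalso
                                  refine NT.cert3 T x0 x1 x2 hne_0_1 hne_0_2 hne_1_2 (by norm_num) 1 2 1 (by norm_num) (by norm_num) (by norm_num) ?_ ?_ ?_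
                                  · linarith only [hd x0, hwp x0, hx_0_1.ge, hnn x0 x2 hne_0_2]
                                  · linarith only [hd x1, hwp x1, hx_1_0, hx_1_2.ge]
                                  · linarith only [hd x2, hwp x2, hnn x2 x0 hne_0_2.symm, hx_2_1.ge]
                              · rcases NT.edge3 T x1 x0 hne_0_1.symm hadj_1_0 with hx_1_0 | hx_1_0 | hx_1_0
                                · rcases NT.edge3 T x4 x5 hne_4_5 hadj_4_5 with hx_4_5 | hx_4_5 | hx_4_5
                                  · rcases NT.edge3 T x5 x4 hne_4_5.symm hadj_5_4 with hx_5_4 | hx_5_4 | hx_5_4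
                                    · have cw_0 : T.w x0 = T.w x0 := rfl
                                      have cw_1 : T.w x1 = 2 * T.w x0 := by linarith only [cw_0, hx_0_1, hx_1_0, hs_0_1]
                                      have cw_2 : T.w x2 = 2 * T.w x0 := by linarith only [cw_1, hx_1_2, hx_2_1, hs_1_2]
                                      have cw_3 : T.w x3 = 2 * T.w x0 := by linarith only [cw_2, hx_2_3, hx_3_2, hs_2_3]
                                      have cw_4 : T.w x4 = 2 * T.w x0 := by linarith only [cw_3, hx_3_4, hx_4_3, hs_3_4]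
                                      have cw_5 : T.w x5 = 2 * T.w x0 := by linarith only [cw_4, hx_4_5, hx_5_4, hs_4_5]
                                      have ca_0_0 : T.a x0 x0 = -2 * T.w x0 := by linarith only [hd x0, cw_0]
                                      have ca_0_1 : T.a x0 x1 = 2 * T.w x0 := by linarith only [hx_0_1, cw_0]
                                      have ca_1_0 : T.a x1 x0 = 2 * T.w x0 := by linarith only [hx_1_0, cw_1]
                                      have ca_1_1 : T.a x1 x1 = -4 * T.w x0 := by linarith only [hd x1, cw_1]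
                                      have ca_1_2 : T.a x1 x2 = 2 * T.w x0 := by linarith only [hx_1_2, cw_1]
                                      have ca_2_1 : T.a x2 x1 = 2 * T.w x0 := by linarith only [hx_2_1, cw_2]
                                      have ca_2_2 : T.a x2 x2 = -4 * T.w x0 := by linarith only [hd x2, cw_2]
                                      have ca_2_3 : T.a x2 x3 = 2 * T.w x0 := by linarith only [hx_2_3, cw_2]
                                      have ca_3_2 : T.a x3 x2 = 2 * T.w x0 := by linarith only [hx_3_2, cw_3]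
                                      have ca_3_3 : T.a x3 x3 = -4 * T.w x0 := by linarith only [hd x3, cw_3]
                                      have ca_3_4 : T.a x3 x4 = 2 * T.w x0 := by linarith only [hx_3_4, cw_3]
                                      have ca_4_3 : T.a x4 x3 = 2 * T.w x0 := by linarith only [hx_4_3, cw_4]
                                      have ca_4_4 : T.a x4 x4 = -4 * T.w x0 := by linarith only [hd x4, cw_4]
                                      have ca_4_5 : T.a x4 x5 = 2 * T.w x0 := by linarith only [hx_4_5, cw_4]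
                                      have ca_5_4 : T.a x5 x4 = 2 * T.w x0 := by linarith only [hx_5_4, cw_5]
                                      have ca_5_5 : T.a x5 x5 = -4 * T.w x0 := by linarith only [hd x5, cw_5]
                                      have hm_0 : -2 * T.m x0 + 2 * T.m x1 = 0 := by
                                        have h := hrow_0
                                        rw [ca_0_0, ca_0_1, hz_0_2, hz_0_3, hz_0_4, hz_0_5] at h
                                        have h2 : T.w x0 * (-2 * T.m x0 + 2 * T.m x1) = 0 := by linarith only [h]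
                                        rcases mul_eq_zero.mp h2 with h3 | h3
                                        · exact absurd h3 (hwp _).ne'
                                        · exact h3
                                      have hm_1 : 2 * T.m x0 + -4 * T.m x1 + 2 * T.m x2 = 0 := by
                                        have h := hrow_1
                                        rw [ca_1_0, ca_1_1, ca_1_2, hz_1_3, hz_1_4, hz_1_5] at h
                                        have h2 : T.w x0 * (2 * T.m x0 + -4 * T.m x1 + 2 * T.m x2) = 0 := by linarith only [h]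
                                        rcases mul_eq_zero.mp h2 with h3 | h3
                                        · exact absurd h3 (hwp _).ne'
                                        · exact h3
                                      have hm_2 : 2 * T.m x1 + -4 * T.m x2 + 2 * T.m x3 = 0 := by
                                        have h := hrow_2
                                        rw [hz_2_0, ca_2_1, ca_2_2, ca_2_3, hz_2_4, hz_2_5] at h
                                        have h2 : T.w x0 * (2 * T.m x1 + -4 * T.m x2 + 2 * T.m x3) = 0 := by linarith only [h]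
                                        rcases mul_eq_zero.mp h2 with h3 | h3
                                        · exact absurd h3 (hwp _).ne'
                                        · exact h3
                                      have hm_3 : 2 * T.m x2 + -4 * T.m x3 + 2 * T.m x4 = 0 := by
                                        have h := hrow_3
                                        rw [hz_3_0, hz_3_1, ca_3_2, ca_3_3, ca_3_4, hz_3_5] at h
                                        have h2 : T.w x0 * (2 * T.m x2 + -4 * T.m x3 + 2 * T.m x4) = 0 := by linarith only [h]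
                                        rcases mul_eq_zero.mp h2 with h3 | h3
                                        · exact absurd h3 (hwp _).ne'
                                        · exact h3
                                      have hm_4 : 2 * T.m x3 + -4 * T.m x4 + 2 * T.m x5 = 0 := by
                                        have h := hrow_4
                                        rw [hz_4_0, hz_4_1, hz_4_2, ca_4_3, ca_4_4, ca_4_5] at h
                                        have h2 : T.w x0 * (2 * T.m x3 + -4 * T.m x4 + 2 * T.m x5) = 0 := by linarith only [h]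
                                        rcases mul_eq_zero.mp h2 with h3 | h3
                                        · exact absurd h3 (hwp _).ne'
                                        · exact h3
                                      have hm_5 : 2 * T.m x4 + -4 * T.m x5 = 0 := by
                                        have h := hrow_5
                                        rw [hz_5_0, hz_5_1, hz_5_2, hz_5_3, ca_5_4, ca_5_5] at h
                                        have h2 : T.w x0 * (2 * T.m x4 + -4 * T.m x5) = 0 := by linarith only [h]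
                                        rcases mul_eq_zero.mp h2 with h3 | h3
                                        · exact absurd h3 (hwp _).ne'
                                        · exact h3
                                      exfalso
                                      linarith only [hm_0, hm_1, hm_2, hm_3, hm_4, hm_5, hmp x0, hmp x1, hmp x2, hmp x3, hmp x4, hmp x5]
                                    · have cw_0 : T.w x0 = T.w x0 := rfl
                                      have cw_1 : T.w x1 = 2 * T.w x0 := by linarith only [cw_0, hx_0_1, hx_1_0, hs_0_1]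
                                      have cw_2 : T.w x2 = 2 * T.w x0 := by linarith only [cw_1, hx_1_2, hx_2_1, hs_1_2]
                                      have cw_3 : T.w x3 = 2 * T.w x0 := by linarith only [cw_2, hx_2_3, hx_3_2, hs_2_3]
                                      have cw_4 : T.w x4 = 2 * T.w x0 := by linarith only [cw_3, hx_3_4, hx_4_3, hs_3_4]
                                      have cw_5 : T.w x5 = T.w x0 := by linarith only [cw_4, hx_4_5, hx_5_4, hs_4_5]
                                      have ca_0_0 : T.a x0 x0 = -2 * T.w x0 := by linarith only [hd x0, cw_0]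
                                      have ca_0_1 : T.a x0 x1 = 2 * T.w x0 := by linarith only [hx_0_1, cw_0]
                                      have ca_1_0 : T.a x1 x0 = 2 * T.w x0 := by linarith only [hx_1_0, cw_1]
                                      have ca_1_1 : T.a x1 x1 = -4 * T.w x0 := by linarith only [hd x1, cw_1]
                                      have ca_1_2 : T.a x1 x2 = 2 * T.w x0 := by linarith only [hx_1_2, cw_1]
                                      have ca_2_1 : T.a x2 x1 = 2 * T.w x0 := by linarith only [hx_2_1, cw_2]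
                                      have ca_2_2 : T.a x2 x2 = -4 * T.w x0 := by linarith only [hd x2, cw_2]
                                      have ca_2_3 : T.a x2 x3 = 2 * T.w x0 := by linarith only [hx_2_3, cw_2]
                                      have ca_3_2 : T.a x3 x2 = 2 * T.w x0 := by linarith only [hx_3_2, cw_3]
                                      have ca_3_3 : T.a x3 x3 = -4 * T.w x0 := by linarith only [hd x3, cw_3]
                                      have ca_3_4 : T.a x3 x4 = 2 * T.w x0 := by linarith only [hx_3_4, cw_3]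
                                      have ca_4_3 : T.a x4 x3 = 2 * T.w x0 := by linarith only [hx_4_3, cw_4]
                                      have ca_4_4 : T.a x4 x4 = -4 * T.w x0 := by linarith only [hd x4, cw_4]
                                      have ca_4_5 : T.a x4 x5 = 2 * T.w x0 := by linarith only [hx_4_5, cw_4]
                                      have ca_5_4 : T.a x5 x4 = 2 * T.w x0 := by linarith only [hx_5_4, cw_5]
                                      have ca_5_5 : T.a x5 x5 = -2 * T.w x0 := by linarith only [hd x5, cw_5]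
                                      have hm_0 : -2 * T.m x0 + 2 * T.m x1 = 0 := by
                                        have h := hrow_0
                                        rw [ca_0_0, ca_0_1, hz_0_2, hz_0_3, hz_0_4, hz_0_5] at h
                                        have h2 : T.w x0 * (-2 * T.m x0 + 2 * T.m x1) = 0 := by linarith only [h]
                                        rcases mul_eq_zero.mp h2 with h3 | h3
                                        · exact absurd h3 (hwp _).ne'
                                        · exact h3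
                                      have hm_1 : 2 * T.m x0 + -4 * T.m x1 + 2 * T.m x2 = 0 := by
                                        have h := hrow_1
                                        rw [ca_1_0, ca_1_1, ca_1_2, hz_1_3, hz_1_4, hz_1_5] at h
                                        have h2 : T.w x0 * (2 * T.m x0 + -4 * T.m x1 + 2 * T.m x2) = 0 := by linarith only [h]
                                        rcases mul_eq_zero.mp h2 with h3 | h3
                                        · exact absurd h3 (hwp _).ne'
                                        · exact h3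
                                      have hm_2 : 2 * T.m x1 + -4 * T.m x2 + 2 * T.m x3 = 0 := by
                                        have h := hrow_2
                                        rw [hz_2_0, ca_2_1, ca_2_2, ca_2_3, hz_2_4, hz_2_5] at h
                                        have h2 : T.w x0 * (2 * T.m x1 + -4 * T.m x2 + 2 * T.m x3) = 0 := by linarith only [h]
                                        rcases mul_eq_zero.mp h2 with h3 | h3
                                        · exact absurd h3 (hwp _).ne'
                                        · exact h3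
                                      have hm_3 : 2 * T.m x2 + -4 * T.m x3 + 2 * T.m x4 = 0 := by
                                        have h := hrow_3
                                        rw [hz_3_0, hz_3_1, ca_3_2, ca_3_3, ca_3_4, hz_3_5] at h
                                        have h2 : T.w x0 * (2 * T.m x2 + -4 * T.m x3 + 2 * T.m x4) = 0 := by linarith only [h]
                                        rcases mul_eq_zero.mp h2 with h3 | h3
                                        · exact absurd h3 (hwp _).ne'
                                        · exact h3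
                                      have hm_4 : 2 * T.m x3 + -4 * T.m x4 + 2 * T.m x5 = 0 := by
                                        have h := hrow_4
                                        rw [hz_4_0, hz_4_1, hz_4_2, ca_4_3, ca_4_4, ca_4_5] at h
                                        have h2 : T.w x0 * (2 * T.m x3 + -4 * T.m x4 + 2 * T.m x5) = 0 := by linarith only [h]
                                        rcases mul_eq_zero.mp h2 with h3 | h3
                                        · exact absurd h3 (hwp _).ne'
                                        · exact h3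
                                      have hm_5 : 2 * T.m x4 + -2 * T.m x5 = 0 := by
                                        have h := hrow_5
                                        rw [hz_5_0, hz_5_1, hz_5_2, hz_5_3, ca_5_4, ca_5_5] at h
                                        have h2 : T.w x0 * (2 * T.m x4 + -2 * T.m x5) = 0 := by linarith only [h]
                                        rcases mul_eq_zero.mp h2 with h3 | h3
                                        · exact absurd h3 (hwp _).ne'
                                        · exact h3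
                                      have cmu_0 : T.m x0 = T.m x0 := rfl
                                      have cmu_1 : T.m x1 = T.m x0 := by linarith only [hm_0, hm_1, hm_2, hm_3, hm_4, hm_5]
                                      have cmu_2 : T.m x2 = T.m x0 := by linarith only [hm_0, hm_1, hm_2, hm_3, hm_4, hm_5]
                                      have cmu_3 : T.m x3 = T.m x0 := by linarith only [hm_0, hm_1, hm_2, hm_3, hm_4, hm_5]
                                      have cmu_4 : T.m x4 = T.m x0 := by linarith only [hm_0, hm_1, hm_2, hm_3, hm_4, hm_5]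
                                      have cmu_5 : T.m x5 = T.m x0 := by linarith only [hm_0, hm_1, hm_2, hm_3, hm_4, hm_5]
                                      have hinjσ : Function.Injective ![x0, x1, x2, x3, x4, x5] := NT.inj6 _ _ _ _ _ _ hne_0_1 hne_0_2 hne_0_3 hne_0_4 hne_0_5 hne_1_2 hne_1_3 hne_1_4 hne_1_5 hne_2_3 hne_2_4 hne_2_5 hne_3_4 hne_3_5 hne_4_5
                                      exact ⟨Equiv.ofBijective ![x0, x1, x2, x3, x4, x5] ⟨hinjσ, Finite.surjective_of_injective hinjσ⟩, T.m x0, T.w x0, Or.inr (Or.inr (Or.inl ⟨cmu_0, cmu_1, cmu_2, cmu_3, cmu_4, cmu_5, cw_0, cw_1, cw_2, cw_3, cw_4, cw_5, ca_0_0, ca_0_1, hz_0_2, hz_0_3, hz_0_4, hz_0_5, ca_1_1, ca_1_2, hz_1_3, hz_1_4, hz_1_5, ca_2_2, ca_2_3, hz_2_4, hz_2_5, ca_3_3, ca_3_4, hz_3_5, ca_4_4, ca_4_5, ca_5_5⟩))⟩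
                                    · exfalso
                                      refine NT.cert3 T x3 x4 x5 hne_3_4 hne_3_5 hne_4_5 (by norm_num) 1 2 3 (by norm_num) (by norm_num) (by norm_num) ?_ ?_ ?_
                                      · linarith only [hd x3, hwp x3, hx_3_4.ge, hnn x3 x5 hne_3_5]
                                      · linarith only [hd x4, hwp x4, hx_4_3.ge, hx_4_5.ge]
                                      · linarith only [hd x5, hwp x5, hnn x5 x3 hne_3_5.symm, hx_5_4]
                                  · obtain ⟨heq_0, heq_1, heq_2, heq_3, heq_4, heq_5⟩ := NT.harm6 T x0 x1 x2 x3 x4 x5 hne_0_1 hne_0_2 hne_0_3 hne_0_4 hne_0_5 hne_1_2 hne_1_3 hne_1_4 hne_1_5 hne_2_3 hne_2_4 hne_2_5 hne_3_4 hne_3_5 hne_4_5 2 2 2 2 2 1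
                                      (by linarith only [hd x0, hx_0_1.ge, hz_0_2, hz_0_3, hz_0_4, hz_0_5])
                                      (by linarith only [hd x1, hx_1_0.ge, hx_1_2.ge, hz_1_3, hz_1_4, hz_1_5])
                                      (by linarith only [hd x2, hz_2_0, hx_2_1.ge, hx_2_3.ge, hz_2_4, hz_2_5])
                                      (by linarith only [hd x3, hz_3_0, hz_3_1, hx_3_2.ge, hx_3_4.ge, hz_3_5])
                                      (by linarith only [hd x4, hz_4_0, hz_4_1, hz_4_2, hx_4_3.ge, hx_4_5.ge])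
                                      (by linarith only [hd x5, hz_5_0, hz_5_1, hz_5_2, hz_5_3, hl_5_4])
                                    have hx_5_4 : T.a x5 x4 = T.w x5 := by linarith only [heq_5, hwp x5, hd x5, hz_5_0, hz_5_1, hz_5_2, hz_5_3, hl_5_4]
                                    have cw_0 : T.w x0 = T.w x0 := rfl
                                    have cw_1 : T.w x1 = 2 * T.w x0 := by linarith only [cw_0, hx_0_1, hx_1_0, hs_0_1]
                                    have cw_2 : T.w x2 = 2 * T.w x0 := by linarith only [cw_1, hx_1_2, hx_2_1, hs_1_2]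
                                    have cw_3 : T.w x3 = 2 * T.w x0 := by linarith only [cw_2, hx_2_3, hx_3_2, hs_2_3]
                                    have cw_4 : T.w x4 = 2 * T.w x0 := by linarith only [cw_3, hx_3_4, hx_4_3, hs_3_4]
                                    have cw_5 : T.w x5 = 4 * T.w x0 := by linarith only [cw_4, hx_4_5, hx_5_4, hs_4_5]
                                    have ca_0_0 : T.a x0 x0 = -2 * T.w x0 := by linarith only [hd x0, cw_0]
                                    have ca_0_1 : T.a x0 x1 = 2 * T.w x0 := by linarith only [hx_0_1, cw_0]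
                                    have ca_1_0 : T.a x1 x0 = 2 * T.w x0 := by linarith only [hx_1_0, cw_1]
                                    have ca_1_1 : T.a x1 x1 = -4 * T.w x0 := by linarith only [hd x1, cw_1]
                                    have ca_1_2 : T.a x1 x2 = 2 * T.w x0 := by linarith only [hx_1_2, cw_1]
                                    have ca_2_1 : T.a x2 x1 = 2 * T.w x0 := by linarith only [hx_2_1, cw_2]
                                    have ca_2_2 : T.a x2 x2 = -4 * T.w x0 := by linarith only [hd x2, cw_2]
                                    have ca_2_3 : T.a x2 x3 = 2 * T.w x0 := by linarith only [hx_2_3, cw_2]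
                                    have ca_3_2 : T.a x3 x2 = 2 * T.w x0 := by linarith only [hx_3_2, cw_3]
                                    have ca_3_3 : T.a x3 x3 = -4 * T.w x0 := by linarith only [hd x3, cw_3]
                                    have ca_3_4 : T.a x3 x4 = 2 * T.w x0 := by linarith only [hx_3_4, cw_3]
                                    have ca_4_3 : T.a x4 x3 = 2 * T.w x0 := by linarith only [hx_4_3, cw_4]
                                    have ca_4_4 : T.a x4 x4 = -4 * T.w x0 := by linarith only [hd x4, cw_4]
                                    have ca_4_5 : T.a x4 x5 = 4 * T.w x0 := by linarith only [hx_4_5, cw_4]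
                                    have ca_5_4 : T.a x5 x4 = 4 * T.w x0 := by linarith only [hx_5_4, cw_5]
                                    have ca_5_5 : T.a x5 x5 = -8 * T.w x0 := by linarith only [hd x5, cw_5]
                                    have hm_0 : -2 * T.m x0 + 2 * T.m x1 = 0 := by
                                      have h := hrow_0
                                      rw [ca_0_0, ca_0_1, hz_0_2, hz_0_3, hz_0_4, hz_0_5] at h
                                      have h2 : T.w x0 * (-2 * T.m x0 + 2 * T.m x1) = 0 := by linarith only [h]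
                                      rcases mul_eq_zero.mp h2 with h3 | h3
                                      · exact absurd h3 (hwp _).ne'
                                      · exact h3
                                    have hm_1 : 2 * T.m x0 + -4 * T.m x1 + 2 * T.m x2 = 0 := by
                                      have h := hrow_1
                                      rw [ca_1_0, ca_1_1, ca_1_2, hz_1_3, hz_1_4, hz_1_5] at h
                                      have h2 : T.w x0 * (2 * T.m x0 + -4 * T.m x1 + 2 * T.m x2) = 0 := by linarith only [h]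
                                      rcases mul_eq_zero.mp h2 with h3 | h3
                                      · exact absurd h3 (hwp _).ne'
                                      · exact h3
                                    have hm_2 : 2 * T.m x1 + -4 * T.m x2 + 2 * T.m x3 = 0 := by
                                      have h := hrow_2
                                      rw [hz_2_0, ca_2_1, ca_2_2, ca_2_3, hz_2_4, hz_2_5] at h
                                      have h2 : T.w x0 * (2 * T.m x1 + -4 * T.m x2 + 2 * T.m x3) = 0 := by linarith only [h]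
                                      rcases mul_eq_zero.mp h2 with h3 | h3
                                      · exact absurd h3 (hwp _).ne'
                                      · exact h3
                                    have hm_3 : 2 * T.m x2 + -4 * T.m x3 + 2 * T.m x4 = 0 := by
                                      have h := hrow_3
                                      rw [hz_3_0, hz_3_1, ca_3_2, ca_3_3, ca_3_4, hz_3_5] at h
                                      have h2 : T.w x0 * (2 * T.m x2 + -4 * T.m x3 + 2 * T.m x4) = 0 := by linarith only [h]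
                                      rcases mul_eq_zero.mp h2 with h3 | h3
                                      · exact absurd h3 (hwp _).ne'
                                      · exact h3
                                    have hm_4 : 2 * T.m x3 + -4 * T.m x4 + 4 * T.m x5 = 0 := by
                                      have h := hrow_4
                                      rw [hz_4_0, hz_4_1, hz_4_2, ca_4_3, ca_4_4, ca_4_5] at h
                                      have h2 : T.w x0 * (2 * T.m x3 + -4 * T.m x4 + 4 * T.m x5) = 0 := by linarith only [h]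
                                      rcases mul_eq_zero.mp h2 with h3 | h3
                                      · exact absurd h3 (hwp _).ne'
                                      · exact h3
                                    have hm_5 : 4 * T.m x4 + -8 * T.m x5 = 0 := by
                                      have h := hrow_5
                                      rw [hz_5_0, hz_5_1, hz_5_2, hz_5_3, ca_5_4, ca_5_5] at h
                                      have h2 : T.w x0 * (4 * T.m x4 + -8 * T.m x5) = 0 := by linarith only [h]
                                      rcases mul_eq_zero.mp h2 with h3 | h3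
                                      · exact absurd h3 (hwp _).ne'
                                      · exact h3
                                    have cmu_0 : T.m x0 = 2 * T.m x5 := by linarith only [hm_0, hm_1, hm_2, hm_3, hm_4, hm_5]
                                    have cmu_1 : T.m x1 = 2 * T.m x5 := by linarith only [hm_0, hm_1, hm_2, hm_3, hm_4, hm_5]
                                    have cmu_2 : T.m x2 = 2 * T.m x5 := by linarith only [hm_0, hm_1, hm_2, hm_3, hm_4, hm_5]
                                    have cmu_3 : T.m x3 = 2 * T.m x5 := by linarith only [hm_0, hm_1, hm_2, hm_3, hm_4, hm_5]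
                                    have cmu_4 : T.m x4 = 2 * T.m x5 := by linarith only [hm_0, hm_1, hm_2, hm_3, hm_4, hm_5]
                                    have cmu_5 : T.m x5 = T.m x5 := rfl
                                    have hinjσ : Function.Injective ![x0, x1, x2, x3, x4, x5] := NT.inj6 _ _ _ _ _ _ hne_0_1 hne_0_2 hne_0_3 hne_0_4 hne_0_5 hne_1_2 hne_1_3 hne_1_4 hne_1_5 hne_2_3 hne_2_4 hne_2_5 hne_3_4 hne_3_5 hne_4_5
                                    exact ⟨Equiv.ofBijective ![x0, x1, x2, x3, x4, x5] ⟨hinjσ, Finite.surjective_of_injective hinjσ⟩, T.m x5, T.w x0, Or.inr (Or.inl ⟨cmu_0, cmu_1, cmu_2, cmu_3, cmu_4, cmu_5, cw_0, cw_1, cw_2, cw_3, cw_4, cw_5, ca_0_0, ca_0_1, hz_0_2, hz_0_3, hz_0_4, hz_0_5, ca_1_1, ca_1_2, hz_1_3, hz_1_4, hz_1_5, ca_2_2, ca_2_3, hz_2_4, hz_2_5, ca_3_3, ca_3_4, hz_3_5, ca_4_4, ca_4_5, ca_5_5⟩)⟩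
                                  · exfalso
                                    refine NT.cert3 T x3 x4 x5 hne_3_4 hne_3_5 hne_4_5 (by norm_num) 1 2 1 (by norm_num) (by norm_num) (by norm_num) ?_ ?_ ?_
                                    · linarith only [hd x3, hwp x3, hx_3_4.ge, hnn x3 x5 hne_3_5]
                                    · linarith only [hd x4, hwp x4, hx_4_3.ge, hx_4_5]
                                    · linarith only [hd x5, hwp x5, hnn x5 x3 hne_3_5.symm, hl_5_4]
                                · exfalso
                                  refine NT.cert2 T x0 x1 hne_0_1 (by norm_num) 1 1 (by norm_num) (by norm_num) ?_ ?_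
                                  · linarith only [hd x0, hwp x0, hx_0_1.ge]
                                  · linarith only [hd x1, hwp x1, hx_1_0.ge]
                                · exfalso
                                  refine NT.cert2 T x0 x1 hne_0_1 (by norm_num) 1 1 (by norm_num) (by norm_num) ?_ ?_
                                  · linarith only [hd x0, hwp x0, hx_0_1.ge]
                                  · linarith only [hd x1, hwp x1, hx_1_0]
                              · exfalso
                                refine NT.cert3 T x0 x1 x2 hne_0_1 hne_0_2 hne_1_2 (by norm_num) 3 2 1 (by norm_num) (by norm_num) (by norm_num) ?_ ?_ ?_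
                                · linarith only [hd x0, hwp x0, hx_0_1, hnn x0 x2 hne_0_2]
                                · linarith only [hd x1, hwp x1, hl_1_0, hx_1_2.ge]
                                · linarith only [hd x2, hwp x2, hnn x2 x0 hne_0_2.symm, hx_2_1.ge]
                            · exfalso
                              refine NT.cert5 T x1 x2 x3 x4 x5 hne_1_2 hne_1_3 hne_1_4 hne_1_5 hne_2_3 hne_2_4 hne_2_5 hne_3_4 hne_3_5 hne_4_5 (by norm_num) 1 2 3 4 2 (by norm_num) (by norm_num) (by norm_num) (by norm_num) (by norm_num) ?_ ?_ ?_ ?_ ?_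
                              · linarith only [hd x1, hwp x1, hx_1_2.ge, hnn x1 x3 hne_1_3, hnn x1 x4 hne_1_4, hnn x1 x5 hne_1_5]
                              · linarith only [hd x2, hwp x2, hx_2_1.ge, hx_2_3.ge, hnn x2 x4 hne_2_4, hnn x2 x5 hne_2_5]
                              · linarith only [hd x3, hwp x3, hnn x3 x1 hne_1_3.symm, hx_3_2.ge, hx_3_4.ge, hnn x3 x5 hne_3_5]
                              · linarith only [hd x4, hwp x4, hnn x4 x1 hne_1_4.symm, hnn x4 x2 hne_2_4.symm, hx_4_3.ge, hl_4_5]
                              · linarith only [hd x5, hwp x5, hnn x5 x1 hne_1_5.symm, hnn x5 x2 hne_2_5.symm, hnn x5 x3 hne_3_5.symm, hl_5_4]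
                            · exfalso
                              refine NT.cert3 T x2 x3 x4 hne_2_3 hne_2_4 hne_3_4 (by norm_num) 1 2 3 (by norm_num) (by norm_num) (by norm_num) ?_ ?_ ?_
                              · linarith only [hd x2, hwp x2, hx_2_3.ge, hnn x2 x4 hne_2_4]
                              · linarith only [hd x3, hwp x3, hx_3_2.ge, hx_3_4.ge]
                              · linarith only [hd x4, hwp x4, hnn x4 x2 hne_2_4.symm, hx_4_3]
                          · exfalso
                            refine NT.cert5 T x1 x2 x3 x4 x5 hne_1_2 hne_1_3 hne_1_4 hne_1_5 hne_2_3 hne_2_4 hne_2_5 hne_3_4 hne_3_5 hne_4_5 (by norm_num) 1 2 3 2 1 (by norm_num) (by norm_num) (by norm_num) (by norm_num) (by norm_num) ?_ ?_ ?_ ?_ ?_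
                            · linarith only [hd x1, hwp x1, hx_1_2.ge, hnn x1 x3 hne_1_3, hnn x1 x4 hne_1_4, hnn x1 x5 hne_1_5]
                            · linarith only [hd x2, hwp x2, hx_2_1.ge, hx_2_3.ge, hnn x2 x4 hne_2_4, hnn x2 x5 hne_2_5]
                            · linarith only [hd x3, hwp x3, hnn x3 x1 hne_1_3.symm, hx_3_2.ge, hx_3_4.ge, hnn x3 x5 hne_3_5]
                            · linarith only [hd x4, hwp x4, hnn x4 x1 hne_1_4.symm, hnn x4 x2 hne_2_4.symm, hl_4_3, hl_4_5]
                            · linarith only [hd x5, hwp x5, hnn x5 x1 hne_1_5.symm, hnn x5 x2 hne_2_5.symm, hnn x5 x3 hne_3_5.symm, hl_5_4]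
                          · exfalso
                            refine NT.cert3 T x2 x3 x4 hne_2_3 hne_2_4 hne_3_4 (by norm_num) 1 2 1 (by norm_num) (by norm_num) (by norm_num) ?_ ?_ ?_
                            · linarith only [hd x2, hwp x2, hx_2_3.ge, hnn x2 x4 hne_2_4]
                            · linarith only [hd x3, hwp x3, hx_3_2.ge, hx_3_4]
                            · linarith only [hd x4, hwp x4, hnn x4 x2 hne_2_4.symm, hl_4_3]
                        · exfalso
                          refine NT.cert5 T x0 x1 x2 x3 x4 hne_0_1 hne_0_2 hne_0_3 hne_0_4 hne_1_2 hne_1_3 hne_1_4 hne_2_3 hne_2_4 hne_3_4 (by norm_num) 1 2 3 4 2 (by norm_num) (by norm_num) (by norm_num) (by norm_num) (by norm_num) ?_ ?_ ?_ ?_ ?_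
                          · linarith only [hd x0, hwp x0, hl_0_1, hnn x0 x2 hne_0_2, hnn x0 x3 hne_0_3, hnn x0 x4 hne_0_4]
                          · linarith only [hd x1, hwp x1, hl_1_0, hx_1_2.ge, hnn x1 x3 hne_1_3, hnn x1 x4 hne_1_4]
                          · linarith only [hd x2, hwp x2, hnn x2 x0 hne_0_2.symm, hx_2_1.ge, hx_2_3.ge, hnn x2 x4 hne_2_4]
                          · linarith only [hd x3, hwp x3, hnn x3 x0 hne_0_3.symm, hnn x3 x1 hne_1_3.symm, hx_3_2.ge, hl_3_4]
                          · linarith only [hd x4, hwp x4, hnn x4 x0 hne_0_4.symm, hnn x4 x1 hne_1_4.symm, hnn x4 x2 hne_2_4.symm, hl_4_3]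
                        · exfalso
                          refine NT.cert3 T x1 x2 x3 hne_1_2 hne_1_3 hne_2_3 (by norm_num) 1 2 3 (by norm_num) (by norm_num) (by norm_num) ?_ ?_ ?_
                          · linarith only [hd x1, hwp x1, hx_1_2.ge, hnn x1 x3 hne_1_3]
                          · linarith only [hd x2, hwp x2, hx_2_1.ge, hx_2_3.ge]
                          · linarith only [hd x3, hwp x3, hnn x3 x1 hne_1_3.symm, hx_3_2]
                      · exfalso
                        refine NT.cert5 T x0 x1 x2 x3 x4 hne_0_1 hne_0_2 hne_0_3 hne_0_4 hne_1_2 hne_1_3 hne_1_4 hne_2_3 hne_2_4 hne_3_4 (by norm_num) 1 2 3 2 1 (by norm_num) (by norm_num) (by norm_num) (by norm_num) (by norm_num) ?_ ?_ ?_ ?_ ?_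
                        · linarith only [hd x0, hwp x0, hl_0_1, hnn x0 x2 hne_0_2, hnn x0 x3 hne_0_3, hnn x0 x4 hne_0_4]
                        · linarith only [hd x1, hwp x1, hl_1_0, hx_1_2.ge, hnn x1 x3 hne_1_3, hnn x1 x4 hne_1_4]
                        · linarith only [hd x2, hwp x2, hnn x2 x0 hne_0_2.symm, hx_2_1.ge, hx_2_3.ge, hnn x2 x4 hne_2_4]
                        · linarith only [hd x3, hwp x3, hnn x3 x0 hne_0_3.symm, hnn x3 x1 hne_1_3.symm, hl_3_2, hl_3_4]
                        · linarith only [hd x4, hwp x4, hnn x4 x0 hne_0_4.symm, hnn x4 x1 hne_1_4.symm, hnn x4 x2 hne_2_4.symm, hl_4_3]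
                      · exfalso
                        refine NT.cert3 T x1 x2 x3 hne_1_2 hne_1_3 hne_2_3 (by norm_num) 1 2 1 (by norm_num) (by norm_num) (by norm_num) ?_ ?_ ?_
                        · linarith only [hd x1, hwp x1, hx_1_2.ge, hnn x1 x3 hne_1_3]
                        · linarith only [hd x2, hwp x2, hx_2_1.ge, hx_2_3]
                        · linarith only [hd x3, hwp x3, hnn x3 x1 hne_1_3.symm, hl_3_2]
                    · exfalso
                      refine NT.cert5 T x0 x1 x2 x3 x4 hne_0_1 hne_0_2 hne_0_3 hne_0_4 hne_1_2 hne_1_3 hne_1_4 hne_2_3 hne_2_4 hne_3_4 (by norm_num) 1 2 3 2 1 (by norm_num) (by norm_num) (by norm_num) (by norm_num) (by norm_num) ?_ ?_ ?_ ?_ ?_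
                      · linarith only [hd x0, hwp x0, hl_0_1, hnn x0 x2 hne_0_2, hnn x0 x3 hne_0_3, hnn x0 x4 hne_0_4]
                      · linarith only [hd x1, hwp x1, hl_1_0, hx_1_2.ge, hnn x1 x3 hne_1_3, hnn x1 x4 hne_1_4]
                      · linarith only [hd x2, hwp x2, hnn x2 x0 hne_0_2.symm, hx_2_1.ge, hl_2_3, hnn x2 x4 hne_2_4]
                      · linarith only [hd x3, hwp x3, hnn x3 x0 hne_0_3.symm, hnn x3 x1 hne_1_3.symm, hl_3_2, hl_3_4]
                      · linarith only [hd x4, hwp x4, hnn x4 x0 hne_0_4.symm, hnn x4 x1 hne_1_4.symm, hnn x4 x2 hne_2_4.symm, hl_4_3]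
                    · exfalso
                      refine NT.cert3 T x0 x1 x2 hne_0_1 hne_0_2 hne_1_2 (by norm_num) 1 2 3 (by norm_num) (by norm_num) (by norm_num) ?_ ?_ ?_
                      · linarith only [hd x0, hwp x0, hl_0_1, hnn x0 x2 hne_0_2]
                      · linarith only [hd x1, hwp x1, hl_1_0, hx_1_2.ge]
                      · linarith only [hd x2, hwp x2, hnn x2 x0 hne_0_2.symm, hx_2_1]
                  · exfalso
                    refine NT.cert5 T x0 x1 x2 x3 x4 hne_0_1 hne_0_2 hne_0_3 hne_0_4 hne_1_2 hne_1_3 hne_1_4 hne_2_3 hne_2_4 hne_3_4 (by norm_num) 2 4 3 2 1 (by norm_num) (by norm_num) (by norm_num) (by norm_num) (by norm_num) ?_ ?_ ?_ ?_ ?_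
                    · linarith only [hd x0, hwp x0, hl_0_1, hnn x0 x2 hne_0_2, hnn x0 x3 hne_0_3, hnn x0 x4 hne_0_4]
                    · linarith only [hd x1, hwp x1, hl_1_0, hx_1_2.ge, hnn x1 x3 hne_1_3, hnn x1 x4 hne_1_4]
                    · linarith only [hd x2, hwp x2, hnn x2 x0 hne_0_2.symm, hl_2_1, hl_2_3, hnn x2 x4 hne_2_4]
                    · linarith only [hd x3, hwp x3, hnn x3 x0 hne_0_3.symm, hnn x3 x1 hne_1_3.symm, hl_3_2, hl_3_4]
                    · linarith only [hd x4, hwp x4, hnn x4 x0 hne_0_4.symm, hnn x4 x1 hne_1_4.symm, hnn x4 x2 hne_2_4.symm, hl_4_3]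
                  · exfalso
                    refine NT.cert3 T x0 x1 x2 hne_0_1 hne_0_2 hne_1_2 (by norm_num) 1 2 1 (by norm_num) (by norm_num) (by norm_num) ?_ ?_ ?_
                    · linarith only [hd x0, hwp x0, hl_0_1, hnn x0 x2 hne_0_2]
                    · linarith only [hd x1, hwp x1, hl_1_0, hx_1_2]
                    · linarith only [hd x2, hwp x2, hnn x2 x0 hne_0_2.symm, hl_2_1]
              · exfalso
                refine hleaf ⟨x4, x3, hne_3_4.symm, hadj_4_3, fun z hz => ?_⟩
                by_contra hcon
                rw [not_or] at hcon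
                exact hq_4 ⟨z, ⟨fun h => hz (h ▸ hz_4_0), fun h => hz (h ▸ hz_4_1), fun h => hz (h ▸ hz_4_2), hcon.2, hcon.1⟩, hz⟩
            · exfalso
              refine hleaf ⟨x3, x2, hne_2_3.symm, hadj_3_2, fun z hz => ?_⟩
              by_contra hcon
              rw [not_or] at hcon
              exact hq_3 ⟨z, ⟨fun h => hz (h ▸ hz_3_0), fun h => hz (h ▸ hz_3_1), hcon.2, hcon.1⟩, hz⟩
          · exfalso
            refine hleaf ⟨x2, x1, hne_1_2.symm, hadj_2_1, fun z hz => ?_⟩
            by_contra hcon
            rw [not_or] at hcon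
            exact hq_2 ⟨z, ⟨fun h => hz (h ▸ hz_2_0), hcon.2, hcon.1⟩, hz⟩
        · exfalso
          refine hleaf ⟨x1, x0, hne_0_1.symm, hadj_1_0, fun z hz => ?_⟩
          by_contra hcon
          rw [not_or] at hcon
          exact hq_1 ⟨z, ⟨hcon.2, hcon.1⟩, hz⟩
      · exfalso
        refine NT.not_closed T ![x0] (by norm_num) (by norm_num) ?_
        intro s y hy
        by_contra hcon
        fin_cases s
        · exact hq_0 ⟨y, fun h => hcon ⟨(0 : Fin 1), h⟩, hy⟩

end Groth.Agent.S7367
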