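import Groth.Statements.S7369
import Groth.Agent.Lib.Helper39.G8.Shape0
import Groth.Agent.Lib.Helper39.G8.Shape1
import Groth.Agent.Lib.Helper39.G8.Shape2
import Groth.Agent.Lib.Helper39.G8.Shape3
import Groth.Agent.Lib.Helper39.G8.Shape4
import Groth.Agent.Lib.Helper39.G8.Shape5
import Groth.Agent.Lib.Helper39.G8.Shape6
import Groth.Agent.Lib.Helper39.G8.Shape7
import Groth.Agent.Lib.Helper39.G8.Shape8
import Groth.Agent.Lib.Helper39.G8.Shape9
import Groth.Agent.Lib.Helper39.G8.Shape10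
import Groth.Agent.Lib.Helper39.G8.Shape11
import Groth.Agent.Lib.Helper39.G8.Shape12
import Groth.Agent.Lib.Helper39.G8.Shape13
import Groth.Agent.Lib.Helper39.G8.Shape14
import Groth.Agent.Lib.Helper39.G8.Shape15
import Groth.Agent.Lib.Helper39.G8.Shape16
import Groth.Agent.Lib.Helper39.G8.Shape17
-- import your own Groth.Agent.* helpers here

set_option autoImplicit false
open Finset
open Models Models.NumericalType

namespace Groth.Agent.S7369

open Groth.Agent.Lib.Helper39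

/-- Genus one classification: case n = 8: let T be a minimal numerical type of genus 1 on 8 indices.
Then all g_i = 0 and, for some permutation σ of the indices and some integers m, w, the
multiplicities, weights and intersection matrix (m_{σ(i)}, w_{σ(i)}, a_{σ(i)σ(j)}) are those of one
of the following 8 types: [cycle] m = (m, m, m, m, m, m, m, m), w = (w, w, w, w, w, w, w, w), a =
(-2 * w w 0 0 0 0 0 w / w -2 * w w 0 0 0 0 0 / 0 w -2 * w w 0 0 0 0 / 0 0 w -2 * w w 0 0 0 / 0 0 0 w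
-2 * w w 0 0 / 0 0 0 0 w -2 * w w 0 / 0 0 0 0 0 w -2 * w w / w 0 0 0 0 0 w -2 * w); [up chain equal
up] m = (2 * m, 2 * m, 2 * m, 2 * m, 2 * m, 2 * m, 2 * m, m), w = (w, 2 * w, 2 * w, 2 * w, 2 * w, 2
* w, 2 * w, 4 * w), a = (-2 * w 2 * w 0 0 0 0 0 0 / 2 * w -4 * w 2 * w 0 0 0 0 0 / 0 2 * w -4 * w 2
* w 0 0 0 0 / 0 0 2 * w -4 * w 2 * w 0 0 0 / 0 0 0 2 * w -4 * w 2 * w 0 0 / 0 0 0 0 2 * w -4 * w 2 *
w 0 / 0 0 0 0 0 2 * w -4 * w 4 * w / 0 0 0 0 0 0 4 * w -8 * w); [up chain equal down] m = (m, m, m,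
m, m, m, m, m), w = (w, 2 * w, 2 * w, 2 * w, 2 * w, 2 * w, 2 * w, w), a = (-2 * w 2 * w 0 0 0 0 0 0
/ 2 * w -4 * w 2 * w 0 0 0 0 0 / 0 2 * w -4 * w 2 * w 0 0 0 0 / 0 0 2 * w -4 * w 2 * w 0 0 0 / 0 0 0
2 * w -4 * w 2 * w 0 0 / 0 0 0 0 2 * w -4 * w 2 * w 0 / 0 0 0 0 0 2 * w -4 * w 2 * w / 0 0 0 0 0 0 2
* w -2 * w); [down chain equal up] m = (m, 2 * m, 2 * m, 2 * m, 2 * m, 2 * m, 2 * m, m), w = (2 * w,
w, w, w, w, w, w, 2 * w), a = (-4 * w 2 * w 0 0 0 0 0 0 / 2 * w -2 * w w 0 0 0 0 0 / 0 w -2 * w w 0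
0 0 0 / 0 0 w -2 * w w 0 0 0 / 0 0 0 w -2 * w w 0 0 / 0 0 0 0 w -2 * w w 0 / 0 0 0 0 0 w -2 * w 2 *
w / 0 0 0 0 0 0 2 * w -4 * w); [D extended up] m = (m, 2 * m, 2 * m, 2 * m, 2 * m, 2 * m, m, m), w =
(2 * w, w, w, w, w, w, w, w), a = (-4 * w 2 * w 0 0 0 0 0 0 / 2 * w -2 * w w 0 0 0 0 0 / 0 w -2 * w
w 0 0 0 0 / 0 0 w -2 * w w 0 0 0 / 0 0 0 w -2 * w w 0 0 / 0 0 0 0 w -2 * w w w / 0 0 0 0 0 w -2 * w
0 / 0 0 0 0 0 w 0 -2 * w); [D extended down] m = (2 * m, 2 * m, 2 * m, 2 * m, 2 * m, 2 * m, m, m), w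
= (w, 2 * w, 2 * w, 2 * w, 2 * w, 2 * w, 2 * w, 2 * w), a = (-2 * w 2 * w 0 0 0 0 0 0 / 2 * w -4 * w
2 * w 0 0 0 0 0 / 0 2 * w -4 * w 2 * w 0 0 0 0 / 0 0 2 * w -4 * w 2 * w 0 0 0 / 0 0 0 2 * w -4 * w 2
* w 0 0 / 0 0 0 0 2 * w -4 * w 2 * w 2 * w / 0 0 0 0 0 2 * w -4 * w 0 / 0 0 0 0 0 2 * w 0 -4 * w);
[double triple] m = (m, m, 2 * m, 2 * m, 2 * m, 2 * m, m, m), w = (w, w, w, w, w, w, w, w), a = (-2
* w 0 w 0 0 0 0 0 / 0 -2 * w w 0 0 0 0 0 / w w -2 * w w 0 0 0 0 / 0 0 w -2 * w w 0 0 0 / 0 0 0 w -2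
* w w 0 0 / 0 0 0 0 w -2 * w w w / 0 0 0 0 0 w -2 * w 0 / 0 0 0 0 0 w 0 -2 * w); [E7 completed] m =
(m, 2 * m, 3 * m, 4 * m, 3 * m, 2 * m, m, 2 * m), w = (w, w, w, w, w, w, w, w), a = (-2 * w w 0 0 0
0 0 0 / w -2 * w w 0 0 0 0 0 / 0 w -2 * w w 0 0 0 0 / 0 0 w -2 * w w 0 0 w / 0 0 0 w -2 * w w 0 0 /
0 0 0 0 w -2 * w w 0 / 0 0 0 0 0 w -2 * w 0 / 0 0 0 w 0 0 0 -2 * w). Only the classification
direction is stated. (In the family with weights (w, 2w, …, 2w, w) the consecutive intersection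
numbers are 2w, as divisibility by the weights forces; the published list prints w there, and omits
m_{n-2} = 2m in the two D-type families.) -/
theorem result (T : Models.NumericalType 8) (hmin : T.IsMinimal) (hg : T.genus = 1) :
    (∀ i, T.g i = 0) ∧ ∃ (σ : Equiv.Perm (Fin 8)) (m w : ℤ),
      ((T.m (σ 0) = m ∧ T.m (σ 1) = m ∧ T.m (σ 2) = m ∧ T.m (σ 3) = m ∧ T.m (σ 4) = m ∧ T.m (σ 5) = m ∧ T.m (σ 6) = m ∧ T.m (σ 7) = m ∧ T.w (σ 0) = w ∧ T.w (σ 1) = w ∧ T.w (σ 2) = w ∧ T.w (σ 3) = w ∧ T.w (σ 4) = w ∧ T.w (σ 5) = w ∧ T.w (σ 6) = w ∧ T.w (σ 7) = w ∧ T.a (σ 0) (σ 0) = -2 * w ∧ T.a (σ 0) (σ 1) = w ∧ T.a (σ 0) (σ 2) = 0 ∧ T.a (σ 0) (σ 3) = 0 ∧ T.a (σ 0) (σ 4) = 0 ∧ T.a (σ 0) (σ 5) = 0 ∧ T.a (σ 0) (σ 6) = 0 ∧ T.a (σ 0) (σ 7) = w ∧ T.a (σ 1) (σ 1) = -2 * w ∧ T.a (σ 1) (σ 2) = w ∧ T.a (σ 1) (σ 3) = 0 ∧ T.a (σ 1) (σ 4) = 0 ∧ T.a (σ 1) (σ 5) = 0 ∧ T.a (σ 1) (σ 6) = 0 ∧ T.a (σ 1) (σ 7) = 0 ∧ T.a (σ 2) (σ 2) = -2 * w ∧ T.a (σ 2) (σ 3) = w ∧ T.a (σ 2)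 (σ 4) = 0 ∧ T.a (σ 2) (σ 5) = 0 ∧ T.a (σ 2) (σ 6) = 0 ∧ T.a (σ 2) (σ 7) = 0 ∧ T.a (σ 3) (σ 3) = -2 * w ∧ T.a (σ 3) (σ 4) = w ∧ T.a (σ 3) (σ 5) = 0 ∧ T.a (σ 3) (σ 6) = 0 ∧ T.a (σ 3) (σ 7) = 0 ∧ T.a (σ 4) (σ 4) = -2 * w ∧ T.a (σ 4) (σ 5) = w ∧ T.a (σ 4) (σ 6) = 0 ∧ T.a (σ 4) (σ 7) = 0 ∧ T.a (σ 5) (σ 5) = -2 * w ∧ T.a (σ 5) (σ 6) = w ∧ T.a (σ 5) (σ 7) = 0 ∧ T.a (σ 6) (σ 6) = -2 * w ∧ T.a (σ 6) (σ 7) = w ∧ T.a (σ 7) (σ 7) = -2 * w) ∨
      (T.m (σ 0) = 2 * m ∧ T.m (σ 1) = 2 * m ∧ T.m (σ 2) = 2 * m ∧ T.m (σ 3) = 2 * m ∧ T.m (σ 4) = 2 * m ∧ T.m (σ 5) = 2 * m ∧ T.m (σ 6) = 2 * m ∧ T.m (σ 7) = m ∧ T.w (σ 0) = w ∧ T.w (σ 1) = 2 * w ∧ T.w (σ 2) = 2 * w ∧ T.w (σ 3) = 2 * w ∧ T.w (σ 4) = 2 * w ∧ T.w (σ 5) = 2 * w ∧ T.w (σ 6) = 2 * w ∧ T.w (σ 7) = 4 * w ∧ T.a (σ 0) (σ 0) = -2 * w ∧ T.a (σ 0) (σ 1) = 2 * w ∧ T.a (σ 0) (σ 2) = 0 ∧ T.a (σ 0) (σ 3) = 0 ∧ T.a (σ 0) (σ 4) = 0 ∧ T.a (σ 0) (σ 5) = 0 ∧ T.a (σ 0) (σ 6) = 0 ∧ T.a (σ 0) (σ 7) = 0 ∧ T.a (σ 1) (σ 1)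 = -4 * w ∧ T.a (σ 1) (σ 2) = 2 * w ∧ T.a (σ 1) (σ 3) = 0 ∧ T.a (σ 1) (σ 4) = 0 ∧ T.a (σ 1) (σ 5) = 0 ∧ T.a (σ 1) (σ 6) = 0 ∧ T.a (σ 1) (σ 7) = 0 ∧ T.a (σ 2) (σ 2) = -4 * w ∧ T.a (σ 2) (σ 3) = 2 * w ∧ T.a (σ 2) (σ 4) = 0 ∧ T.a (σ 2) (σ 5) = 0 ∧ T.a (σ 2) (σ 6) = 0 ∧ T.a (σ 2) (σ 7) = 0 ∧ T.a (σ 3) (σ 3) = -4 * w ∧ T.a (σ 3) (σ 4) = 2 * w ∧ T.a (σ 3) (σ 5) = 0 ∧ T.a (σ 3) (σ 6) = 0 ∧ T.a (σ 3) (σ 7) = 0 ∧ T.a (σ 4) (σ 4) = -4 * w ∧ T.a (σ 4) (σ 5) = 2 * w ∧ T.a (σ 4) (σ 6) = 0 ∧ T.a (σ 4) (σ 7) = 0 ∧ T.a (σ 5) (σ 5) = -4 * w ∧ T.a (σ 5) (σ 6) = 2 * w ∧ T.a (σ 5) (σ 7) = 0 ∧ T.a (σ 6) (σ 6) = -4 * w ∧ T.a (σ 6) (σ 7) = 4 * w ∧ T.a (σ 7) (σ 7) = -8 * w) ∨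
      (T.m (σ 0) = m ∧ T.m (σ 1) = m ∧ T.m (σ 2) = m ∧ T.m (σ 3) = m ∧ T.m (σ 4) = m ∧ T.m (σ 5) = m ∧ T.m (σ 6) = m ∧ T.m (σ 7) = m ∧ T.w (σ 0) = w ∧ T.w (σ 1) = 2 * w ∧ T.w (σ 2) = 2 * w ∧ T.w (σ 3) = 2 * w ∧ T.w (σ 4) = 2 * w ∧ T.w (σ 5) = 2 * w ∧ T.w (σ 6) = 2 * w ∧ T.w (σ 7) = w ∧ T.a (σ 0) (σ 0) = -2 * w ∧ T.a (σ 0) (σ 1) = 2 * w ∧ T.a (σ 0) (σ 2) = 0 ∧ T.a (σ 0) (σ 3) = 0 ∧ T.a (σ 0) (σ 4) = 0 ∧ T.a (σ 0) (σ 5) = 0 ∧ T.a (σ 0) (σ 6) = 0 ∧ T.a (σ 0) (σ 7) = 0 ∧ T.a (σ 1) (σ 1) = -4 * w ∧ T.a (σ 1) (σ 2) = 2 * w ∧ T.a (σ 1) (σ 3) = 0 ∧ T.a (σ 1) (σ 4) = 0 ∧ T.a (σ 1) (σ 5) = 0 ∧ T.a (σ 1) (σ 6) = 0 ∧ T.a (σ 1) (σ 7) = 0 ∧ T.a (σ 2) (σ 2) = -4 * w ∧ T.a (σ 2) (σ 3) = 2 * w ∧ T.a (σ 2) (σ 4) = 0 ∧ T.a (σ 2) (σ 5) = 0 ∧ T.a (σ 2) (σ 6) = 0 ∧ T.a (σ 2) (σ 7) = 0 ∧ T.a (σ 3) (σ 3) = -4 * w ∧ T.a (σ 3) (σ 4) = 2 * w ∧ T.a (σ 3) (σ 5) = 0 ∧ T.a (σ 3) (σ 6) = 0 ∧ T.a (σ 3) (σ 7) = 0 ∧ T.a (σ 4) (σ 4) = -4 * w ∧ T.a (σ 4) (σ 5) = 2 * w ∧ T.a (σ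 4) (σ 6) = 0 ∧ T.a (σ 4) (σ 7) = 0 ∧ T.a (σ 5) (σ 5) = -4 * w ∧ T.a (σ 5) (σ 6) = 2 * w ∧ T.a (σ 5) (σ 7) = 0 ∧ T.a (σ 6) (σ 6) = -4 * w ∧ T.a (σ 6) (σ 7) = 2 * w ∧ T.a (σ 7) (σ 7) = -2 * w) ∨
      (T.m (σ 0) = m ∧ T.m (σ 1) = 2 * m ∧ T.m (σ 2) = 2 * m ∧ T.m (σ 3) = 2 * m ∧ T.m (σ 4) = 2 * m ∧ T.m (σ 5) = 2 * m ∧ T.m (σ 6) = 2 * m ∧ T.m (σ 7) = m ∧ T.w (σ 0) = 2 * w ∧ T.w (σ 1) = w ∧ T.w (σ 2) = w ∧ T.w (σ 3) = w ∧ T.w (σ 4) = w ∧ T.w (σ 5) = w ∧ T.w (σ 6) = w ∧ T.w (σ 7) = 2 * w ∧ T.a (σ 0) (σ 0) = -4 * w ∧ T.a (σ 0) (σ 1) = 2 * w ∧ T.a (σ 0) (σ 2) = 0 ∧ T.a (σ 0) (σ 3) = 0 ∧ T.a (σ 0) (σ 4) = 0 ∧ T.a (σ 0) (σ 5) = 0 ∧ T.a (σ 0) (σ 6) = 0 ∧ T.a (σ 0) (σ 7) = 0 ∧ T.a (σ 1) (σ 1) = -2 * w ∧ T.a (σ 1) (σ 2) = w ∧ T.a (σ 1) (σ 3) = 0 ∧ T.a (σ 1) (σ 4) = 0 ∧ T.a (σ 1) (σ 5) = 0 ∧ T.a (σ 1) (σ 6) = 0 ∧ T.a (σ 1) (σ 7) = 0 ∧ T.a (σ 2) (σ 2) = -2 * w ∧ T.a (σ 2) (σ 3) = w ∧ T.a (σ 2) (σ 4) = 0 ∧ T.a (σ 2) (σ 5) = 0 ∧ T.a (σ 2) (σ 6) = 0 ∧ T.a (σ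 2) (σ 7) = 0 ∧ T.a (σ 3) (σ 3) = -2 * w ∧ T.a (σ 3) (σ 4) = w ∧ T.a (σ 3) (σ 5) = 0 ∧ T.a (σ 3) (σ 6) = 0 ∧ T.a (σ 3) (σ 7) = 0 ∧ T.a (σ 4) (σ 4) = -2 * w ∧ T.a (σ 4) (σ 5) = w ∧ T.a (σ 4) (σ 6) = 0 ∧ T.a (σ 4) (σ 7) = 0 ∧ T.a (σ 5) (σ 5) = -2 * w ∧ T.a (σ 5) (σ 6) = w ∧ T.a (σ 5) (σ 7) = 0 ∧ T.a (σ 6) (σ 6) = -2 * w ∧ T.a (σ 6) (σ 7) = 2 * w ∧ T.a (σ 7) (σ 7) = -4 * w) ∨
      (T.m (σ 0) = m ∧ T.m (σ 1) = 2 * m ∧ T.m (σ 2) = 2 * m ∧ T.m (σ 3) = 2 * m ∧ T.m (σ 4) = 2 * m ∧ T.m (σ 5) = 2 * m ∧ T.m (σ 6) = m ∧ T.m (σ 7) = m ∧ T.w (σ 0) = 2 * w ∧ T.w (σ 1) = w ∧ T.w (σ 2) = w ∧ T.w (σ 3) = w ∧ T.w (σ 4) = w ∧ T.w (σ 5) = w ∧ T.w (σ 6) = w ∧ T.w (σ 7) = w ∧ T.a (σ 0) (σ 0) = -4 * w ∧ T.a (σ 0) (σ 1) = 2 * w ∧ T.a (σ 0) (σ 2) = 0 ∧ T.a (σ 0) (σ 3) = 0 ∧ T.a (σ 0) (σ 4) = 0 ∧ T.a (σ 0) (σ 5) = 0 ∧ T.a (σ 0) (σ 6) = 0 ∧ T.a (σ 0) (σ 7) = 0 ∧ T.a (σ 1) (σ 1) = -2 * w ∧ T.a (σ 1) (σ 2) = w ∧ T.a (σ 1) (σ 3) = 0 ∧ T.a (σ 1) (σ 4) = 0 ∧ T.a (σ 1) (σ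 5) = 0 ∧ T.a (σ 1) (σ 6) = 0 ∧ T.a (σ 1) (σ 7) = 0 ∧ T.a (σ 2) (σ 2) = -2 * w ∧ T.a (σ 2) (σ 3) = w ∧ T.a (σ 2) (σ 4) = 0 ∧ T.a (σ 2) (σ 5) = 0 ∧ T.a (σ 2) (σ 6) = 0 ∧ T.a (σ 2) (σ 7) = 0 ∧ T.a (σ 3) (σ 3) = -2 * w ∧ T.a (σ 3) (σ 4) = w ∧ T.a (σ 3) (σ 5) = 0 ∧ T.a (σ 3) (σ 6) = 0 ∧ T.a (σ 3) (σ 7) = 0 ∧ T.a (σ 4) (σ 4) = -2 * w ∧ T.a (σ 4) (σ 5) = w ∧ T.a (σ 4) (σ 6) = 0 ∧ T.a (σ 4) (σ 7) = 0 ∧ T.a (σ 5) (σ 5) = -2 * w ∧ T.a (σ 5) (σ 6) = w ∧ T.a (σ 5) (σ 7) = w ∧ T.a (σ 6) (σ 6) = -2 * w ∧ T.a (σ 6) (σ 7) = 0 ∧ T.a (σ 7) (σ 7) = -2 * w) ∨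
      (T.m (σ 0) = 2 * m ∧ T.m (σ 1) = 2 * m ∧ T.m (σ 2) = 2 * m ∧ T.m (σ 3) = 2 * m ∧ T.m (σ 4) = 2 * m ∧ T.m (σ 5) = 2 * m ∧ T.m (σ 6) = m ∧ T.m (σ 7) = m ∧ T.w (σ 0) = w ∧ T.w (σ 1) = 2 * w ∧ T.w (σ 2) = 2 * w ∧ T.w (σ 3) = 2 * w ∧ T.w (σ 4) = 2 * w ∧ T.w (σ 5) = 2 * w ∧ T.w (σ 6) = 2 * w ∧ T.w (σ 7) = 2 * w ∧ T.a (σ 0) (σ 0) = -2 * w ∧ T.a (σ 0) (σ 1) = 2 * w ∧ T.a (σ 0) (σ 2) = 0 ∧ T.a (σ 0) (σ 3) = 0 ∧ T.a (σ 0) (σ 4) = 0 ∧ T.a (σ 0) (σ 5) = 0 ∧ T.a (σ 0) (σ 6) = 0 ∧ T.a (σ 0) (σ 7) = 0 ∧ T.a (σ 1) (σ 1) = -4 * w ∧ T.a (σ 1) (σ 2) = 2 * w ∧ T.a (σ 1) (σ 3) = 0 ∧ T.a (σ 1) (σ 4) = 0 ∧ T.a (σ 1) (σ 5) = 0 ∧ T.a (σ 1) (σ 6) = 0 ∧ T.a (σ 1) (σ 7) = 0 ∧ T.a (σ 2) (σ 2) = -4 * w ∧ T.a (σ 2) (σ 3) = 2 * w ∧ T.a (σ 2) (σ 4) = 0 ∧ T.a (σ 2) (σ 5) = 0 ∧ T.a (σ 2) (σ 6) = 0 ∧ T.a (σ 2) (σ 7) = 0 ∧ T.a (σ 3) (σ 3) = -4 * w ∧ T.a (σ 3) (σ 4) = 2 * w ∧ T.a (σ 3) (σ 5) = 0 ∧ T.a (σ 3) (σ 6) = 0 ∧ T.a (σ 3) (σ 7) = 0 ∧ T.a (σ 4) (σ 4) = -4 * w ∧ T.a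 (σ 4) (σ 5) = 2 * w ∧ T.a (σ 4) (σ 6) = 0 ∧ T.a (σ 4) (σ 7) = 0 ∧ T.a (σ 5) (σ 5) = -4 * w ∧ T.a (σ 5) (σ 6) = 2 * w ∧ T.a (σ 5) (σ 7) = 2 * w ∧ T.a (σ 6) (σ 6) = -4 * w ∧ T.a (σ 6) (σ 7) = 0 ∧ T.a (σ 7) (σ 7) = -4 * w) ∨
      (T.m (σ 0) = m ∧ T.m (σ 1) = m ∧ T.m (σ 2) = 2 * m ∧ T.m (σ 3) = 2 * m ∧ T.m (σ 4) = 2 * m ∧ T.m (σ 5) = 2 * m ∧ T.m (σ 6) = m ∧ T.m (σ 7) = m ∧ T.w (σ 0) = w ∧ T.w (σ 1) = w ∧ T.w (σ 2) = w ∧ T.w (σ 3) = w ∧ T.w (σ 4) = w ∧ T.w (σ 5) = w ∧ T.w (σ 6) = w ∧ T.w (σ 7) = w ∧ T.a (σ 0) (σ 0) = -2 * w ∧ T.a (σ 0) (σ 1) = 0 ∧ T.a (σ 0) (σ 2) = w ∧ T.a (σ 0) (σ 3) = 0 ∧ T.a (σ 0) (σ 4) = 0 ∧ T.a (σ 0) (σ 5) = 0 ∧ T.a (σ 0) (σ 6) = 0 ∧ T.a (σ 0) (σ 7) = 0 ∧ T.a (σ 1) (σ 1) = -2 * w ∧ T.a (σ 1) (σ 2) = w ∧ T.a (σ 1) (σ 3) = 0 ∧ T.a (σ 1) (σ 4) = 0 ∧ T.a (σ 1) (σ 5) = 0 ∧ T.a (σ 1) (σ 6) = 0 ∧ T.a (σ 1) (σ 7) = 0 ∧ T.a (σ 2) (σ 2) = -2 * w ∧ T.a (σ 2) (σ 3) = w ∧ T.a (σ 2) (σ 4) = 0 ∧ T.a (σ 2) (σ 5) = 0 ∧ T.a (σ 2) (σ 6) = 0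 ∧ T.a (σ 2) (σ 7) = 0 ∧ T.a (σ 3) (σ 3) = -2 * w ∧ T.a (σ 3) (σ 4) = w ∧ T.a (σ 3) (σ 5) = 0 ∧ T.a (σ 3) (σ 6) = 0 ∧ T.a (σ 3) (σ 7) = 0 ∧ T.a (σ 4) (σ 4) = -2 * w ∧ T.a (σ 4) (σ 5) = w ∧ T.a (σ 4) (σ 6) = 0 ∧ T.a (σ 4) (σ 7) = 0 ∧ T.a (σ 5) (σ 5) = -2 * w ∧ T.a (σ 5) (σ 6) = w ∧ T.a (σ 5) (σ 7) = w ∧ T.a (σ 6) (σ 6) = -2 * w ∧ T.a (σ 6) (σ 7) = 0 ∧ T.a (σ 7) (σ 7) = -2 * w) ∨
      (T.m (σ 0) = m ∧ T.m (σ 1) = 2 * m ∧ T.m (σ 2) = 3 * m ∧ T.m (σ 3) = 4 * m ∧ T.m (σ 4) = 3 * m ∧ T.m (σ 5) = 2 * m ∧ T.m (σ 6) = m ∧ T.m (σ 7) = 2 * m ∧ T.w (σ 0) = w ∧ T.w (σ 1) = w ∧ T.w (σ 2) = w ∧ T.w (σ 3) = w ∧ T.w (σ 4) = w ∧ T.w (σ 5) = w ∧ T.w (σ 6) = w ∧ T.w (σ 7) = w ∧ T.a (σ 0) (σ 0) = -2 * w ∧ T.a (σ 0) (σ 1) = w ∧ T.a (σ 0) (σ 2) = 0 ∧ T.a (σ 0) (σ 3) = 0 ∧ T.a (σ 0) (σ 4) = 0 ∧ T.a (σ 0) (σ 5) = 0 ∧ T.a (σ 0) (σ 6) = 0 ∧ T.a (σ 0) (σ 7) = 0 ∧ T.a (σ 1) (σ 1) = -2 * w ∧ T.a (σ 1) (σ 2) = w ∧ T.a (σ 1) (σ 3) = 0 ∧ T.a (σ 1) (σ 4) = 0 ∧ T.a (σ 1) (σ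 5) = 0 ∧ T.a (σ 1) (σ 6) = 0 ∧ T.a (σ 1) (σ 7) = 0 ∧ T.a (σ 2) (σ 2) = -2 * w ∧ T.a (σ 2) (σ 3) = w ∧ T.a (σ 2) (σ 4) = 0 ∧ T.a (σ 2) (σ 5) = 0 ∧ T.a (σ 2) (σ 6) = 0 ∧ T.a (σ 2) (σ 7) = 0 ∧ T.a (σ 3) (σ 3) = -2 * w ∧ T.a (σ 3) (σ 4) = w ∧ T.a (σ 3) (σ 5) = 0 ∧ T.a (σ 3) (σ 6) = 0 ∧ T.a (σ 3) (σ 7) = w ∧ T.a (σ 4) (σ 4) = -2 * w ∧ T.a (σ 4) (σ 5) = w ∧ T.a (σ 4) (σ 6) = 0 ∧ T.a (σ 4) (σ 7) = 0 ∧ T.a (σ 5) (σ 5) = -2 * w ∧ T.a (σ 5) (σ 6) = w ∧ T.a (σ 5) (σ 7) = 0 ∧ T.a (σ 6) (σ 6) = -2 * w ∧ T.a (σ 6) (σ 7) = 0 ∧ T.a (σ 7) (σ 7) = -2 * w)) := by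
  have hall := NT.all_minusTwo T (by norm_num) hmin hg
  have hd : ∀ i, T.a i i = -2 * T.w i := fun i => (hall i).2
  have hwp := T.w_pos
  have hmp := T.m_pos
  have hsym : ∀ i j, T.a i j = T.a j i := NT.symm' T
  have hnn : ∀ i j, i ≠ j → 0 ≤ T.a i j := T.offDiag_nonneg
  refine ⟨fun i => (hall i).1, ?_⟩
  by_cases h3 : ∃ x y1 y2 y3 : Fin 8, x ≠ y1 ∧ x ≠ y2 ∧ x ≠ y3 ∧ y1 ≠ y2 ∧ y1 ≠ y3 ∧ y2 ≠ y3 ∧ T.a x y1 ≠ 0 ∧ T.a x y2 ≠ 0 ∧ T.a x y3 ≠ 0
  · obtain ⟨x0, x1, x2, x3, hne_0_1, hne_0_2, hne_0_3, hne_1_2, hne_1_3, hne_2_3, hadj_0_1, hadj_0_2, hadj_0_3⟩ := h3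
    have hadj_1_0 : T.a x1 x0 ≠ 0 := by rw [hsym]; exact hadj_0_1
    have hl_0_1 := NT.lb1 T _ _ hne_0_1 hadj_0_1
    have hl_1_0 := NT.lb1 T _ _ hne_0_1.symm hadj_1_0
    have hs_0_1 : T.a x0 x1 = T.a x1 x0 := hsym _ _
    have hadj_2_0 : T.a x2 x0 ≠ 0 := by rw [hsym]; exact hadj_0_2
    have hl_0_2 := NT.lb1 T _ _ hne_0_2 hadj_0_2
    have hl_2_0 := NT.lb1 T _ _ hne_0_2.symm hadj_2_0
    have hs_0_2 : T.a x0 x2 = T.a x2 x0 := hsym _ _
    have hadj_3_0 : T.a x3 x0 ≠ 0 := by rw [hsym]; exact hadj_0_3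
    have hl_0_3 := NT.lb1 T _ _ hne_0_3 hadj_0_3
    have hl_3_0 := NT.lb1 T _ _ hne_0_3.symm hadj_3_0
    have hs_0_3 : T.a x0 x3 = T.a x3 x0 := hsym _ _
    have hz_1_2 : T.a x1 x2 = 0 := by
      by_contra hadj_1_2
      have hadj_2_1 : T.a x2 x1 ≠ 0 := by rw [hsym]; exact hadj_1_2
      have hl_1_2 := NT.lb1 T _ _ hne_1_2 hadj_1_2
      have hl_2_1 := NT.lb1 T _ _ hne_1_2.symm hadj_2_1
      have hs_1_2 : T.a x1 x2 = T.a x2 x1 := hsym _ _
      refine NT.cert3 T x0 x1 x2 hne_0_1 hne_0_2 hne_1_2 (by norm_num) 1 1 1 (by norm_num) (by norm_num) (by norm_num) ?_ ?_ ?_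
      · linarith only [hd x0, hwp x0, hl_0_1, hl_0_2]
      · linarith only [hd x1, hwp x1, hl_1_0, hl_1_2]
      · linarith only [hd x2, hwp x2, hl_2_0, hl_2_1]
    have hz_2_1 : T.a x2 x1 = 0 := by rw [hsym]; exact hz_1_2
    have hz_1_3 : T.a x1 x3 = 0 := by
      by_contra hadj_1_3
      have hadj_3_1 : T.a x3 x1 ≠ 0 := by rw [hsym]; exact hadj_1_3
      have hl_1_3 := NT.lb1 T _ _ hne_1_3 hadj_1_3
      have hl_3_1 := NT.lb1 T _ _ hne_1_3.symm hadj_3_1
      have hs_1_3 : T.a x1 x3 = T.a x3 x1 := hsym _ _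
      refine NT.cert3 T x0 x1 x3 hne_0_1 hne_0_3 hne_1_3 (by norm_num) 1 1 1 (by norm_num) (by norm_num) (by norm_num) ?_ ?_ ?_
      · linarith only [hd x0, hwp x0, hl_0_1, hl_0_3]
      · linarith only [hd x1, hwp x1, hl_1_0, hl_1_3]
      · linarith only [hd x3, hwp x3, hl_3_0, hl_3_1]
    have hz_3_1 : T.a x3 x1 = 0 := by rw [hsym]; exact hz_1_3
    have hz_2_3 : T.a x2 x3 = 0 := by
      by_contra hadj_2_3
      have hadj_3_2 : T.a x3 x2 ≠ 0 := by rw [hsym]; exact hadj_2_3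
      have hl_2_3 := NT.lb1 T _ _ hne_2_3 hadj_2_3
      have hl_3_2 := NT.lb1 T _ _ hne_2_3.symm hadj_3_2
      have hs_2_3 : T.a x2 x3 = T.a x3 x2 := hsym _ _
      refine NT.cert3 T x0 x2 x3 hne_0_2 hne_0_3 hne_2_3 (by norm_num) 1 1 1 (by norm_num) (by norm_num) (by norm_num) ?_ ?_ ?_
      · linarith only [hd x0, hwp x0, hl_0_2, hl_0_3]
      · linarith only [hd x2, hwp x2, hl_2_0, hl_2_3]
      · linarith only [hd x3, hwp x3, hl_3_0, hl_3_2]
    have hz_3_2 : T.a x3 x2 = 0 := by rw [hsym]; exact hz_2_3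
    by_cases hq_3 : ∃ y, (y ≠ x0 ∧ y ≠ x1 ∧ y ≠ x2 ∧ y ≠ x3) ∧ T.a x3 y ≠ 0
    · obtain ⟨x4, ⟨hn0, hn1, hn2, hn3⟩, hadj_3_4⟩ := hq_3
      have hne_0_4 : x0 ≠ x4 := hn0.symm
      have hne_1_4 : x1 ≠ x4 := hn1.symm
      have hne_2_4 : x2 ≠ x4 := hn2.symm
      have hne_3_4 : x3 ≠ x4 := hn3.symm
      have hadj_4_3 : T.a x4 x3 ≠ 0 := by rw [hsym]; exact hadj_3_4
      have hl_3_4 := NT.lb1 T _ _ hne_3_4 hadj_3_4
      have hl_4_3 := NT.lb1 T _ _ hne_3_4.symm hadj_4_3
      have hs_3_4 : T.a x3 x4 = T.a x4 x3 := hsym _ _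
      have hz_0_4 : T.a x0 x4 = 0 := by
        by_contra hadj_0_4
        have hadj_4_0 : T.a x4 x0 ≠ 0 := by rw [hsym]; exact hadj_0_4
        have hl_0_4 := NT.lb1 T _ _ hne_0_4 hadj_0_4
        have hl_4_0 := NT.lb1 T _ _ hne_0_4.symm hadj_4_0
        have hs_0_4 : T.a x0 x4 = T.a x4 x0 := hsym _ _
        refine NT.cert3 T x0 x3 x4 hne_0_3 hne_0_4 hne_3_4 (by norm_num) 1 1 1 (by norm_num) (by norm_num) (by norm_num) ?_ ?_ ?_
        · linarith only [hd x0, hwp x0, hl_0_3, hl_0_4]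
        · linarith only [hd x3, hwp x3, hl_3_0, hl_3_4]
        · linarith only [hd x4, hwp x4, hl_4_0, hl_4_3]
      have hz_4_0 : T.a x4 x0 = 0 := by rw [hsym]; exact hz_0_4
      have hz_1_4 : T.a x1 x4 = 0 := by
        by_contra hadj_1_4
        have hadj_4_1 : T.a x4 x1 ≠ 0 := by rw [hsym]; exact hadj_1_4
        have hl_1_4 := NT.lb1 T _ _ hne_1_4 hadj_1_4
        have hl_4_1 := NT.lb1 T _ _ hne_1_4.symm hadj_4_1
        have hs_1_4 : T.a x1 x4 = T.a x4 x1 := hsym _ _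
        refine NT.cert4 T x0 x1 x3 x4 hne_0_1 hne_0_3 hne_0_4 hne_1_3 hne_1_4 hne_3_4 (by norm_num) 1 1 1 1 (by norm_num) (by norm_num) (by norm_num) (by norm_num) ?_ ?_ ?_ ?_
        · linarith only [hd x0, hwp x0, hl_0_1, hl_0_3, hnn x0 x4 hne_0_4]
        · linarith only [hd x1, hwp x1, hl_1_0, hnn x1 x3 hne_1_3, hl_1_4]
        · linarith only [hd x3, hwp x3, hl_3_0, hnn x3 x1 hne_1_3.symm, hl_3_4]
        · linarith only [hd x4, hwp x4, hnn x4 x0 hne_0_4.symm, hl_4_1, hl_4_3]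
      have hz_4_1 : T.a x4 x1 = 0 := by rw [hsym]; exact hz_1_4
      have hz_2_4 : T.a x2 x4 = 0 := by
        by_contra hadj_2_4
        have hadj_4_2 : T.a x4 x2 ≠ 0 := by rw [hsym]; exact hadj_2_4
        have hl_2_4 := NT.lb1 T _ _ hne_2_4 hadj_2_4
        have hl_4_2 := NT.lb1 T _ _ hne_2_4.symm hadj_4_2
        have hs_2_4 : T.a x2 x4 = T.a x4 x2 := hsym _ _
        refine NT.cert4 T x0 x2 x3 x4 hne_0_2 hne_0_3 hne_0_4 hne_2_3 hne_2_4 hne_3_4 (by norm_num) 1 1 1 1 (by norm_num) (by norm_num) (by norm_num) (by norm_num) ?_ ?_ ?_ ?_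
        · linarith only [hd x0, hwp x0, hl_0_2, hl_0_3, hnn x0 x4 hne_0_4]
        · linarith only [hd x2, hwp x2, hl_2_0, hnn x2 x3 hne_2_3, hl_2_4]
        · linarith only [hd x3, hwp x3, hl_3_0, hnn x3 x2 hne_2_3.symm, hl_3_4]
        · linarith only [hd x4, hwp x4, hnn x4 x0 hne_0_4.symm, hl_4_2, hl_4_3]
      have hz_4_2 : T.a x4 x2 = 0 := by rw [hsym]; exact hz_2_4
      by_cases hq_4 : ∃ y, (y ≠ x0 ∧ y ≠ x1 ∧ y ≠ x2 ∧ y ≠ x3 ∧ y ≠ x4) ∧ T.a x4 y ≠ 0
      · obtain ⟨x5, ⟨hn0, hn1, hn2, hn3, hn4⟩, hadj_4_5⟩ := hq_4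
        have hne_0_5 : x0 ≠ x5 := hn0.symm
        have hne_1_5 : x1 ≠ x5 := hn1.symm
        have hne_2_5 : x2 ≠ x5 := hn2.symm
        have hne_3_5 : x3 ≠ x5 := hn3.symm
        have hne_4_5 : x4 ≠ x5 := hn4.symm
        have hadj_5_4 : T.a x5 x4 ≠ 0 := by rw [hsym]; exact hadj_4_5
        have hl_4_5 := NT.lb1 T _ _ hne_4_5 hadj_4_5
        have hl_5_4 := NT.lb1 T _ _ hne_4_5.symm hadj_5_4
        have hs_4_5 : T.a x4 x5 = T.a x5 x4 := hsym _ _
        have hz_0_5 : T.a x0 x5 = 0 := by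
          by_contra hadj_0_5
          have hadj_5_0 : T.a x5 x0 ≠ 0 := by rw [hsym]; exact hadj_0_5
          have hl_0_5 := NT.lb1 T _ _ hne_0_5 hadj_0_5
          have hl_5_0 := NT.lb1 T _ _ hne_0_5.symm hadj_5_0
          have hs_0_5 : T.a x0 x5 = T.a x5 x0 := hsym _ _
          refine NT.cert4 T x0 x3 x4 x5 hne_0_3 hne_0_4 hne_0_5 hne_3_4 hne_3_5 hne_4_5 (by norm_num) 1 1 1 1 (by norm_num) (by norm_num) (by norm_num) (by norm_num) ?_ ?_ ?_ ?_
          · linarith only [hd x0, hwp x0, hl_0_3, hnn x0 x4 hne_0_4, hl_0_5]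
          · linarith only [hd x3, hwp x3, hl_3_0, hl_3_4, hnn x3 x5 hne_3_5]
          · linarith only [hd x4, hwp x4, hnn x4 x0 hne_0_4.symm, hl_4_3, hl_4_5]
          · linarith only [hd x5, hwp x5, hl_5_0, hnn x5 x3 hne_3_5.symm, hl_5_4]
        have hz_5_0 : T.a x5 x0 = 0 := by rw [hsym]; exact hz_0_5
        have hz_1_5 : T.a x1 x5 = 0 := by
          by_contra hadj_1_5
          have hadj_5_1 : T.a x5 x1 ≠ 0 := by rw [hsym]; exact hadj_1_5
          have hl_1_5 := NT.lb1 T _ _ hne_1_5 hadj_1_5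
          have hl_5_1 := NT.lb1 T _ _ hne_1_5.symm hadj_5_1
          have hs_1_5 : T.a x1 x5 = T.a x5 x1 := hsym _ _
          refine NT.cert5 T x0 x1 x3 x4 x5 hne_0_1 hne_0_3 hne_0_4 hne_0_5 hne_1_3 hne_1_4 hne_1_5 hne_3_4 hne_3_5 hne_4_5 (by norm_num) 1 1 1 1 1 (by norm_num) (by norm_num) (by norm_num) (by norm_num) (by norm_num) ?_ ?_ ?_ ?_ ?_
          · linarith only [hd x0, hwp x0, hl_0_1, hl_0_3, hnn x0 x4 hne_0_4, hnn x0 x5 hne_0_5]
          · linarith only [hd x1, hwp x1, hl_1_0, hnn x1 x3 hne_1_3, hnn x1 x4 hne_1_4, hl_1_5]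
          · linarith only [hd x3, hwp x3, hl_3_0, hnn x3 x1 hne_1_3.symm, hl_3_4, hnn x3 x5 hne_3_5]
          · linarith only [hd x4, hwp x4, hnn x4 x0 hne_0_4.symm, hnn x4 x1 hne_1_4.symm, hl_4_3, hl_4_5]
          · linarith only [hd x5, hwp x5, hnn x5 x0 hne_0_5.symm, hl_5_1, hnn x5 x3 hne_3_5.symm, hl_5_4]
        have hz_5_1 : T.a x5 x1 = 0 := by rw [hsym]; exact hz_1_5
        have hz_2_5 : T.a x2 x5 = 0 := by
          by_contra hadj_2_5
          have hadj_5_2 : T.a x5 x2 ≠ 0 := by rw [hsym]; exact hadj_2_5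
          have hl_2_5 := NT.lb1 T _ _ hne_2_5 hadj_2_5
          have hl_5_2 := NT.lb1 T _ _ hne_2_5.symm hadj_5_2
          have hs_2_5 : T.a x2 x5 = T.a x5 x2 := hsym _ _
          refine NT.cert5 T x0 x2 x3 x4 x5 hne_0_2 hne_0_3 hne_0_4 hne_0_5 hne_2_3 hne_2_4 hne_2_5 hne_3_4 hne_3_5 hne_4_5 (by norm_num) 1 1 1 1 1 (by norm_num) (by norm_num) (by norm_num) (by norm_num) (by norm_num) ?_ ?_ ?_ ?_ ?_
          · linarith only [hd x0, hwp x0, hl_0_2, hl_0_3, hnn x0 x4 hne_0_4, hnn x0 x5 hne_0_5]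
          · linarith only [hd x2, hwp x2, hl_2_0, hnn x2 x3 hne_2_3, hnn x2 x4 hne_2_4, hl_2_5]
          · linarith only [hd x3, hwp x3, hl_3_0, hnn x3 x2 hne_2_3.symm, hl_3_4, hnn x3 x5 hne_3_5]
          · linarith only [hd x4, hwp x4, hnn x4 x0 hne_0_4.symm, hnn x4 x2 hne_2_4.symm, hl_4_3, hl_4_5]
          · linarith only [hd x5, hwp x5, hnn x5 x0 hne_0_5.symm, hl_5_2, hnn x5 x3 hne_3_5.symm, hl_5_4]
        have hz_5_2 : T.a x5 x2 = 0 := by rw [hsym]; exact hz_2_5
        have hz_3_5 : T.a x3 x5 = 0 := by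
          by_contra hadj_3_5
          have hadj_5_3 : T.a x5 x3 ≠ 0 := by rw [hsym]; exact hadj_3_5
          have hl_3_5 := NT.lb1 T _ _ hne_3_5 hadj_3_5
          have hl_5_3 := NT.lb1 T _ _ hne_3_5.symm hadj_5_3
          have hs_3_5 : T.a x3 x5 = T.a x5 x3 := hsym _ _
          refine NT.cert3 T x3 x4 x5 hne_3_4 hne_3_5 hne_4_5 (by norm_num) 1 1 1 (by norm_num) (by norm_num) (by norm_num) ?_ ?_ ?_
          · linarith only [hd x3, hwp x3, hl_3_4, hl_3_5]
          · linarith only [hd x4, hwp x4, hl_4_3, hl_4_5]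
          · linarith only [hd x5, hwp x5, hl_5_3, hl_5_4]
        have hz_5_3 : T.a x5 x3 = 0 := by rw [hsym]; exact hz_3_5
        by_cases hq_5 : ∃ y, (y ≠ x0 ∧ y ≠ x1 ∧ y ≠ x2 ∧ y ≠ x3 ∧ y ≠ x4 ∧ y ≠ x5) ∧ T.a x5 y ≠ 0
        · obtain ⟨x6, ⟨hn0, hn1, hn2, hn3, hn4, hn5⟩, hadj_5_6⟩ := hq_5
          have hne_0_6 : x0 ≠ x6 := hn0.symm
          have hne_1_6 : x1 ≠ x6 := hn1.symm
          have hne_2_6 : x2 ≠ x6 := hn2.symm
          have hne_3_6 : x3 ≠ x6 := hn3.symm
          have hne_4_6 : x4 ≠ x6 := hn4.symm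
          have hne_5_6 : x5 ≠ x6 := hn5.symm
          have hadj_6_5 : T.a x6 x5 ≠ 0 := by rw [hsym]; exact hadj_5_6
          have hl_5_6 := NT.lb1 T _ _ hne_5_6 hadj_5_6
          have hl_6_5 := NT.lb1 T _ _ hne_5_6.symm hadj_6_5
          have hs_5_6 : T.a x5 x6 = T.a x6 x5 := hsym _ _
          have hz_0_6 : T.a x0 x6 = 0 := by
            by_contra hadj_0_6
            have hadj_6_0 : T.a x6 x0 ≠ 0 := by rw [hsym]; exact hadj_0_6
            have hl_0_6 := NT.lb1 T _ _ hne_0_6 hadj_0_6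
            have hl_6_0 := NT.lb1 T _ _ hne_0_6.symm hadj_6_0
            have hs_0_6 : T.a x0 x6 = T.a x6 x0 := hsym _ _
            refine NT.cert5 T x0 x1 x2 x3 x6 hne_0_1 hne_0_2 hne_0_3 hne_0_6 hne_1_2 hne_1_3 hne_1_6 hne_2_3 hne_2_6 hne_3_6 (by norm_num) 2 1 1 1 1 (by norm_num) (by norm_num) (by norm_num) (by norm_num) (by norm_num) ?_ ?_ ?_ ?_ ?_
            · linarith only [hd x0, hwp x0, hl_0_1, hl_0_2, hl_0_3, hl_0_6]
            · linarith only [hd x1, hwp x1, hl_1_0, hnn x1 x2 hne_1_2, hnn x1 x3 hne_1_3, hnn x1 x6 hne_1_6]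
            · linarith only [hd x2, hwp x2, hl_2_0, hnn x2 x1 hne_1_2.symm, hnn x2 x3 hne_2_3, hnn x2 x6 hne_2_6]
            · linarith only [hd x3, hwp x3, hl_3_0, hnn x3 x1 hne_1_3.symm, hnn x3 x2 hne_2_3.symm, hnn x3 x6 hne_3_6]
            · linarith only [hd x6, hwp x6, hl_6_0, hnn x6 x1 hne_1_6.symm, hnn x6 x2 hne_2_6.symm, hnn x6 x3 hne_3_6.symm]
          have hz_6_0 : T.a x6 x0 = 0 := by rw [hsym]; exact hz_0_6
          have hz_1_6 : T.a x1 x6 = 0 := by
            by_contra hadj_1_6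
            have hadj_6_1 : T.a x6 x1 ≠ 0 := by rw [hsym]; exact hadj_1_6
            have hl_1_6 := NT.lb1 T _ _ hne_1_6 hadj_1_6
            have hl_6_1 := NT.lb1 T _ _ hne_1_6.symm hadj_6_1
            have hs_1_6 : T.a x1 x6 = T.a x6 x1 := hsym _ _
            refine NT.cert6 T x0 x1 x3 x4 x5 x6 hne_0_1 hne_0_3 hne_0_4 hne_0_5 hne_0_6 hne_1_3 hne_1_4 hne_1_5 hne_1_6 hne_3_4 hne_3_5 hne_3_6 hne_4_5 hne_4_6 hne_5_6 (by norm_num) 1 1 1 1 1 1 (by norm_num) (by norm_num) (by norm_num) (by norm_num) (by norm_num) (by norm_num) ?_ ?_ ?_ ?_ ?_ ?_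
            · linarith only [hd x0, hwp x0, hl_0_1, hl_0_3, hnn x0 x4 hne_0_4, hnn x0 x5 hne_0_5, hnn x0 x6 hne_0_6]
            · linarith only [hd x1, hwp x1, hl_1_0, hnn x1 x3 hne_1_3, hnn x1 x4 hne_1_4, hnn x1 x5 hne_1_5, hl_1_6]
            · linarith only [hd x3, hwp x3, hl_3_0, hnn x3 x1 hne_1_3.symm, hl_3_4, hnn x3 x5 hne_3_5, hnn x3 x6 hne_3_6]
            · linarith only [hd x4, hwp x4, hnn x4 x0 hne_0_4.symm, hnn x4 x1 hne_1_4.symm, hl_4_3, hl_4_5, hnn x4 x6 hne_4_6]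
            · linarith only [hd x5, hwp x5, hnn x5 x0 hne_0_5.symm, hnn x5 x1 hne_1_5.symm, hnn x5 x3 hne_3_5.symm, hl_5_4, hl_5_6]
            · linarith only [hd x6, hwp x6, hnn x6 x0 hne_0_6.symm, hl_6_1, hnn x6 x3 hne_3_6.symm, hnn x6 x4 hne_4_6.symm, hl_6_5]
          have hz_6_1 : T.a x6 x1 = 0 := by rw [hsym]; exact hz_1_6
          have hz_2_6 : T.a x2 x6 = 0 := by
            by_contra hadj_2_6
            have hadj_6_2 : T.a x6 x2 ≠ 0 := by rw [hsym]; exact hadj_2_6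
            have hl_2_6 := NT.lb1 T _ _ hne_2_6 hadj_2_6
            have hl_6_2 := NT.lb1 T _ _ hne_2_6.symm hadj_6_2
            have hs_2_6 : T.a x2 x6 = T.a x6 x2 := hsym _ _
            refine NT.cert6 T x0 x2 x3 x4 x5 x6 hne_0_2 hne_0_3 hne_0_4 hne_0_5 hne_0_6 hne_2_3 hne_2_4 hne_2_5 hne_2_6 hne_3_4 hne_3_5 hne_3_6 hne_4_5 hne_4_6 hne_5_6 (by norm_num) 1 1 1 1 1 1 (by norm_num) (by norm_num) (by norm_num) (by norm_num) (by norm_num) (by norm_num) ?_ ?_ ?_ ?_ ?_ ?_
            · linarith only [hd x0, hwp x0, hl_0_2, hl_0_3, hnn x0 x4 hne_0_4, hnn x0 x5 hne_0_5, hnn x0 x6 hne_0_6]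
            · linarith only [hd x2, hwp x2, hl_2_0, hnn x2 x3 hne_2_3, hnn x2 x4 hne_2_4, hnn x2 x5 hne_2_5, hl_2_6]
            · linarith only [hd x3, hwp x3, hl_3_0, hnn x3 x2 hne_2_3.symm, hl_3_4, hnn x3 x5 hne_3_5, hnn x3 x6 hne_3_6]
            · linarith only [hd x4, hwp x4, hnn x4 x0 hne_0_4.symm, hnn x4 x2 hne_2_4.symm, hl_4_3, hl_4_5, hnn x4 x6 hne_4_6]
            · linarith only [hd x5, hwp x5, hnn x5 x0 hne_0_5.symm, hnn x5 x2 hne_2_5.symm, hnn x5 x3 hne_3_5.symm, hl_5_4, hl_5_6]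
            · linarith only [hd x6, hwp x6, hnn x6 x0 hne_0_6.symm, hl_6_2, hnn x6 x3 hne_3_6.symm, hnn x6 x4 hne_4_6.symm, hl_6_5]
          have hz_6_2 : T.a x6 x2 = 0 := by rw [hsym]; exact hz_2_6
          have hz_3_6 : T.a x3 x6 = 0 := by
            by_contra hadj_3_6
            have hadj_6_3 : T.a x6 x3 ≠ 0 := by rw [hsym]; exact hadj_3_6
            have hl_3_6 := NT.lb1 T _ _ hne_3_6 hadj_3_6
            have hl_6_3 := NT.lb1 T _ _ hne_3_6.symm hadj_6_3
            have hs_3_6 : T.a x3 x6 = T.a x6 x3 := hsym _ _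
            refine NT.cert4 T x3 x4 x5 x6 hne_3_4 hne_3_5 hne_3_6 hne_4_5 hne_4_6 hne_5_6 (by norm_num) 1 1 1 1 (by norm_num) (by norm_num) (by norm_num) (by norm_num) ?_ ?_ ?_ ?_
            · linarith only [hd x3, hwp x3, hl_3_4, hnn x3 x5 hne_3_5, hl_3_6]
            · linarith only [hd x4, hwp x4, hl_4_3, hl_4_5, hnn x4 x6 hne_4_6]
            · linarith only [hd x5, hwp x5, hnn x5 x3 hne_3_5.symm, hl_5_4, hl_5_6]
            · linarith only [hd x6, hwp x6, hl_6_3, hnn x6 x4 hne_4_6.symm, hl_6_5]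
          have hz_6_3 : T.a x6 x3 = 0 := by rw [hsym]; exact hz_3_6
          have hz_4_6 : T.a x4 x6 = 0 := by
            by_contra hadj_4_6
            have hadj_6_4 : T.a x6 x4 ≠ 0 := by rw [hsym]; exact hadj_4_6
            have hl_4_6 := NT.lb1 T _ _ hne_4_6 hadj_4_6
            have hl_6_4 := NT.lb1 T _ _ hne_4_6.symm hadj_6_4
            have hs_4_6 : T.a x4 x6 = T.a x6 x4 := hsym _ _
            refine NT.cert3 T x4 x5 x6 hne_4_5 hne_4_6 hne_5_6 (by norm_num) 1 1 1 (by norm_num) (by norm_num) (by norm_num) ?_ ?_ ?_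
            · linarith only [hd x4, hwp x4, hl_4_5, hl_4_6]
            · linarith only [hd x5, hwp x5, hl_5_4, hl_5_6]
            · linarith only [hd x6, hwp x6, hl_6_4, hl_6_5]
          have hz_6_4 : T.a x6 x4 = 0 := by rw [hsym]; exact hz_4_6
          by_cases hq_6 : ∃ y, (y ≠ x0 ∧ y ≠ x1 ∧ y ≠ x2 ∧ y ≠ x3 ∧ y ≠ x4 ∧ y ≠ x5 ∧ y ≠ x6) ∧ T.a x6 y ≠ 0
          · obtain ⟨x7, ⟨hn0, hn1, hn2, hn3, hn4, hn5, hn6⟩, hadj_6_7⟩ := hq_6
            have hne_0_7 : x0 ≠ x7 := hn0.symm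
            have hne_1_7 : x1 ≠ x7 := hn1.symm
            have hne_2_7 : x2 ≠ x7 := hn2.symm
            have hne_3_7 : x3 ≠ x7 := hn3.symm
            have hne_4_7 : x4 ≠ x7 := hn4.symm
            have hne_5_7 : x5 ≠ x7 := hn5.symm
            have hne_6_7 : x6 ≠ x7 := hn6.symm
            have hadj_7_6 : T.a x7 x6 ≠ 0 := by rw [hsym]; exact hadj_6_7
            have hl_6_7 := NT.lb1 T _ _ hne_6_7 hadj_6_7
            have hl_7_6 := NT.lb1 T _ _ hne_6_7.symm hadj_7_6
            have hs_6_7 : T.a x6 x7 = T.a x7 x6 := hsym _ _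
            have hz_0_7 : T.a x0 x7 = 0 := by
              by_contra hadj_0_7
              have hadj_7_0 : T.a x7 x0 ≠ 0 := by rw [hsym]; exact hadj_0_7
              have hl_0_7 := NT.lb1 T _ _ hne_0_7 hadj_0_7
              have hl_7_0 := NT.lb1 T _ _ hne_0_7.symm hadj_7_0
              have hs_0_7 : T.a x0 x7 = T.a x7 x0 := hsym _ _
              refine NT.cert5 T x0 x1 x2 x3 x7 hne_0_1 hne_0_2 hne_0_3 hne_0_7 hne_1_2 hne_1_3 hne_1_7 hne_2_3 hne_2_7 hne_3_7 (by norm_num) 2 1 1 1 1 (by norm_num) (by norm_num) (by norm_num) (by norm_num) (by norm_num) ?_ ?_ ?_ ?_ ?_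
              · linarith only [hd x0, hwp x0, hl_0_1, hl_0_2, hl_0_3, hl_0_7]
              · linarith only [hd x1, hwp x1, hl_1_0, hnn x1 x2 hne_1_2, hnn x1 x3 hne_1_3, hnn x1 x7 hne_1_7]
              · linarith only [hd x2, hwp x2, hl_2_0, hnn x2 x1 hne_1_2.symm, hnn x2 x3 hne_2_3, hnn x2 x7 hne_2_7]
              · linarith only [hd x3, hwp x3, hl_3_0, hnn x3 x1 hne_1_3.symm, hnn x3 x2 hne_2_3.symm, hnn x3 x7 hne_3_7]
              · linarith only [hd x7, hwp x7, hl_7_0, hnn x7 x1 hne_1_7.symm, hnn x7 x2 hne_2_7.symm, hnn x7 x3 hne_3_7.symm]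
            have hz_7_0 : T.a x7 x0 = 0 := by rw [hsym]; exact hz_0_7
            have hz_1_7 : T.a x1 x7 = 0 := by
              by_contra hadj_1_7
              have hadj_7_1 : T.a x7 x1 ≠ 0 := by rw [hsym]; exact hadj_1_7
              have hl_1_7 := NT.lb1 T _ _ hne_1_7 hadj_1_7
              have hl_7_1 := NT.lb1 T _ _ hne_1_7.symm hadj_7_1
              have hs_1_7 : T.a x1 x7 = T.a x7 x1 := hsym _ _
              refine NT.cert7 T x0 x1 x3 x4 x5 x6 x7 hne_0_1 hne_0_3 hne_0_4 hne_0_5 hne_0_6 hne_0_7 hne_1_3 hne_1_4 hne_1_5 hne_1_6 hne_1_7 hne_3_4 hne_3_5 hne_3_6 hne_3_7 hne_4_5 hne_4_6 hne_4_7 hne_5_6 hne_5_7 hne_6_7 (by norm_num) 1 1 1 1 1 1 1 (by norm_num) (by norm_num) (by norm_num) (by norm_num) (by norm_num) (by norm_num) (by norm_num) ?_ ?_ ?_ ?_ ?_ ?_ ?_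
              · linarith only [hd x0, hwp x0, hl_0_1, hl_0_3, hnn x0 x4 hne_0_4, hnn x0 x5 hne_0_5, hnn x0 x6 hne_0_6, hnn x0 x7 hne_0_7]
              · linarith only [hd x1, hwp x1, hl_1_0, hnn x1 x3 hne_1_3, hnn x1 x4 hne_1_4, hnn x1 x5 hne_1_5, hnn x1 x6 hne_1_6, hl_1_7]
              · linarith only [hd x3, hwp x3, hl_3_0, hnn x3 x1 hne_1_3.symm, hl_3_4, hnn x3 x5 hne_3_5, hnn x3 x6 hne_3_6, hnn x3 x7 hne_3_7]
              · linarith only [hd x4, hwp x4, hnn x4 x0 hne_0_4.symm, hnn x4 x1 hne_1_4.symm, hl_4_3, hl_4_5, hnn x4 x6 hne_4_6, hnn x4 x7 hne_4_7]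
              · linarith only [hd x5, hwp x5, hnn x5 x0 hne_0_5.symm, hnn x5 x1 hne_1_5.symm, hnn x5 x3 hne_3_5.symm, hl_5_4, hl_5_6, hnn x5 x7 hne_5_7]
              · linarith only [hd x6, hwp x6, hnn x6 x0 hne_0_6.symm, hnn x6 x1 hne_1_6.symm, hnn x6 x3 hne_3_6.symm, hnn x6 x4 hne_4_6.symm, hl_6_5, hl_6_7]
              · linarith only [hd x7, hwp x7, hnn x7 x0 hne_0_7.symm, hl_7_1, hnn x7 x3 hne_3_7.symm, hnn x7 x4 hne_4_7.symm, hnn x7 x5 hne_5_7.symm, hl_7_6]
            have hz_7_1 : T.a x7 x1 = 0 := by rw [hsym]; exact hz_1_7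
            have hz_2_7 : T.a x2 x7 = 0 := by
              by_contra hadj_2_7
              have hadj_7_2 : T.a x7 x2 ≠ 0 := by rw [hsym]; exact hadj_2_7
              have hl_2_7 := NT.lb1 T _ _ hne_2_7 hadj_2_7
              have hl_7_2 := NT.lb1 T _ _ hne_2_7.symm hadj_7_2
              have hs_2_7 : T.a x2 x7 = T.a x7 x2 := hsym _ _
              refine NT.cert7 T x0 x2 x3 x4 x5 x6 x7 hne_0_2 hne_0_3 hne_0_4 hne_0_5 hne_0_6 hne_0_7 hne_2_3 hne_2_4 hne_2_5 hne_2_6 hne_2_7 hne_3_4 hne_3_5 hne_3_6 hne_3_7 hne_4_5 hne_4_6 hne_4_7 hne_5_6 hne_5_7 hne_6_7 (by norm_num) 1 1 1 1 1 1 1 (by norm_num) (by norm_num) (by norm_num) (by norm_num) (by norm_num) (by norm_num) (by norm_num) ?_ ?_ ?_ ?_ ?_ ?_ ?_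
              · linarith only [hd x0, hwp x0, hl_0_2, hl_0_3, hnn x0 x4 hne_0_4, hnn x0 x5 hne_0_5, hnn x0 x6 hne_0_6, hnn x0 x7 hne_0_7]
              · linarith only [hd x2, hwp x2, hl_2_0, hnn x2 x3 hne_2_3, hnn x2 x4 hne_2_4, hnn x2 x5 hne_2_5, hnn x2 x6 hne_2_6, hl_2_7]
              · linarith only [hd x3, hwp x3, hl_3_0, hnn x3 x2 hne_2_3.symm, hl_3_4, hnn x3 x5 hne_3_5, hnn x3 x6 hne_3_6, hnn x3 x7 hne_3_7]
              · linarith only [hd x4, hwp x4, hnn x4 x0 hne_0_4.symm, hnn x4 x2 hne_2_4.symm, hl_4_3, hl_4_5, hnn x4 x6 hne_4_6, hnn x4 x7 hne_4_7]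
              · linarith only [hd x5, hwp x5, hnn x5 x0 hne_0_5.symm, hnn x5 x2 hne_2_5.symm, hnn x5 x3 hne_3_5.symm, hl_5_4, hl_5_6, hnn x5 x7 hne_5_7]
              · linarith only [hd x6, hwp x6, hnn x6 x0 hne_0_6.symm, hnn x6 x2 hne_2_6.symm, hnn x6 x3 hne_3_6.symm, hnn x6 x4 hne_4_6.symm, hl_6_5, hl_6_7]
              · linarith only [hd x7, hwp x7, hnn x7 x0 hne_0_7.symm, hl_7_2, hnn x7 x3 hne_3_7.symm, hnn x7 x4 hne_4_7.symm, hnn x7 x5 hne_5_7.symm, hl_7_6]
            have hz_7_2 : T.a x7 x2 = 0 := by rw [hsym]; exact hz_2_7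
            have hz_3_7 : T.a x3 x7 = 0 := by
              by_contra hadj_3_7
              have hadj_7_3 : T.a x7 x3 ≠ 0 := by rw [hsym]; exact hadj_3_7
              have hl_3_7 := NT.lb1 T _ _ hne_3_7 hadj_3_7
              have hl_7_3 := NT.lb1 T _ _ hne_3_7.symm hadj_7_3
              have hs_3_7 : T.a x3 x7 = T.a x7 x3 := hsym _ _
              refine NT.cert5 T x3 x4 x5 x6 x7 hne_3_4 hne_3_5 hne_3_6 hne_3_7 hne_4_5 hne_4_6 hne_4_7 hne_5_6 hne_5_7 hne_6_7 (by norm_num) 1 1 1 1 1 (by norm_num) (by norm_num) (by norm_num) (by norm_num) (by norm_num) ?_ ?_ ?_ ?_ ?_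
              · linarith only [hd x3, hwp x3, hl_3_4, hnn x3 x5 hne_3_5, hnn x3 x6 hne_3_6, hl_3_7]
              · linarith only [hd x4, hwp x4, hl_4_3, hl_4_5, hnn x4 x6 hne_4_6, hnn x4 x7 hne_4_7]
              · linarith only [hd x5, hwp x5, hnn x5 x3 hne_3_5.symm, hl_5_4, hl_5_6, hnn x5 x7 hne_5_7]
              · linarith only [hd x6, hwp x6, hnn x6 x3 hne_3_6.symm, hnn x6 x4 hne_4_6.symm, hl_6_5, hl_6_7]
              · linarith only [hd x7, hwp x7, hl_7_3, hnn x7 x4 hne_4_7.symm, hnn x7 x5 hne_5_7.symm, hl_7_6]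
            have hz_7_3 : T.a x7 x3 = 0 := by rw [hsym]; exact hz_3_7
            have hz_4_7 : T.a x4 x7 = 0 := by
              by_contra hadj_4_7
              have hadj_7_4 : T.a x7 x4 ≠ 0 := by rw [hsym]; exact hadj_4_7
              have hl_4_7 := NT.lb1 T _ _ hne_4_7 hadj_4_7
              have hl_7_4 := NT.lb1 T _ _ hne_4_7.symm hadj_7_4
              have hs_4_7 : T.a x4 x7 = T.a x7 x4 := hsym _ _
              refine NT.cert4 T x4 x5 x6 x7 hne_4_5 hne_4_6 hne_4_7 hne_5_6 hne_5_7 hne_6_7 (by norm_num) 1 1 1 1 (by norm_num) (by norm_num) (by norm_num) (by norm_num) ?_ ?_ ?_ ?_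
              · linarith only [hd x4, hwp x4, hl_4_5, hnn x4 x6 hne_4_6, hl_4_7]
              · linarith only [hd x5, hwp x5, hl_5_4, hl_5_6, hnn x5 x7 hne_5_7]
              · linarith only [hd x6, hwp x6, hnn x6 x4 hne_4_6.symm, hl_6_5, hl_6_7]
              · linarith only [hd x7, hwp x7, hl_7_4, hnn x7 x5 hne_5_7.symm, hl_7_6]
            have hz_7_4 : T.a x7 x4 = 0 := by rw [hsym]; exact hz_4_7
            have hz_5_7 : T.a x5 x7 = 0 := by
              by_contra hadj_5_7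
              have hadj_7_5 : T.a x7 x5 ≠ 0 := by rw [hsym]; exact hadj_5_7
              have hl_5_7 := NT.lb1 T _ _ hne_5_7 hadj_5_7
              have hl_7_5 := NT.lb1 T _ _ hne_5_7.symm hadj_7_5
              have hs_5_7 : T.a x5 x7 = T.a x7 x5 := hsym _ _
              refine NT.cert3 T x5 x6 x7 hne_5_6 hne_5_7 hne_6_7 (by norm_num) 1 1 1 (by norm_num) (by norm_num) (by norm_num) ?_ ?_ ?_
              · linarith only [hd x5, hwp x5, hl_5_6, hl_5_7]
              · linarith only [hd x6, hwp x6, hl_6_5, hl_6_7]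
              · linarith only [hd x7, hwp x7, hl_7_5, hl_7_6]
            have hz_7_5 : T.a x7 x5 = 0 := by rw [hsym]; exact hz_5_7
            exact G8.shape0 T hall x0 x1 x2 x3 x4 x5 x6 x7 hne_0_1 hne_0_2 hne_0_3 hne_0_4 hne_0_5 hne_0_6 hne_0_7 hne_1_2 hne_1_3 hne_1_4 hne_1_5 hne_1_6 hne_1_7 hne_2_3 hne_2_4 hne_2_5 hne_2_6 hne_2_7 hne_3_4 hne_3_5 hne_3_6 hne_3_7 hne_4_5 hne_4_6 hne_4_7 hne_5_6 hne_5_7 hne_6_7 hadj_0_1 hadj_0_2 hadj_0_3 hz_0_4 hz_0_5 hz_0_6 hz_0_7 hz_1_2 hz_1_3 hz_1_4 hz_1_5 hz_1_6 hz_1_7 hz_2_3 hz_2_4 hz_2_5 hz_2_6 hz_2_7 hadj_3_4 hz_3_5 hz_3_6 hz_3_7 hadj_4_5 hz_4_6 hz_4_7 hadj_5_6 hz_5_7 hadj_6_7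
          · by_cases hq_5 : ∃ y, (y ≠ x0 ∧ y ≠ x1 ∧ y ≠ x2 ∧ y ≠ x3 ∧ y ≠ x4 ∧ y ≠ x5 ∧ y ≠ x6) ∧ T.a x5 y ≠ 0
            · obtain ⟨x7, ⟨hn0, hn1, hn2, hn3, hn4, hn5, hn6⟩, hadj_5_7⟩ := hq_5
              have hne_0_7 : x0 ≠ x7 := hn0.symm
              have hne_1_7 : x1 ≠ x7 := hn1.symm
              have hne_2_7 : x2 ≠ x7 := hn2.symm
              have hne_3_7 : x3 ≠ x7 := hn3.symm
              have hne_4_7 : x4 ≠ x7 := hn4.symm
              have hne_5_7 : x5 ≠ x7 := hn5.symm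
              have hne_6_7 : x6 ≠ x7 := hn6.symm
              have hadj_7_5 : T.a x7 x5 ≠ 0 := by rw [hsym]; exact hadj_5_7
              have hl_5_7 := NT.lb1 T _ _ hne_5_7 hadj_5_7
              have hl_7_5 := NT.lb1 T _ _ hne_5_7.symm hadj_7_5
              have hs_5_7 : T.a x5 x7 = T.a x7 x5 := hsym _ _
              have hz_0_7 : T.a x0 x7 = 0 := by
                by_contra hadj_0_7
                have hadj_7_0 : T.a x7 x0 ≠ 0 := by rw [hsym]; exact hadj_0_7
                have hl_0_7 := NT.lb1 T _ _ hne_0_7 hadj_0_7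
                have hl_7_0 := NT.lb1 T _ _ hne_0_7.symm hadj_7_0
                have hs_0_7 : T.a x0 x7 = T.a x7 x0 := hsym _ _
                refine NT.cert5 T x0 x1 x2 x3 x7 hne_0_1 hne_0_2 hne_0_3 hne_0_7 hne_1_2 hne_1_3 hne_1_7 hne_2_3 hne_2_7 hne_3_7 (by norm_num) 2 1 1 1 1 (by norm_num) (by norm_num) (by norm_num) (by norm_num) (by norm_num) ?_ ?_ ?_ ?_ ?_
                · linarith only [hd x0, hwp x0, hl_0_1, hl_0_2, hl_0_3, hl_0_7]
                · linarith only [hd x1, hwp x1, hl_1_0, hnn x1 x2 hne_1_2, hnn x1 x3 hne_1_3, hnn x1 x7 hne_1_7]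
                · linarith only [hd x2, hwp x2, hl_2_0, hnn x2 x1 hne_1_2.symm, hnn x2 x3 hne_2_3, hnn x2 x7 hne_2_7]
                · linarith only [hd x3, hwp x3, hl_3_0, hnn x3 x1 hne_1_3.symm, hnn x3 x2 hne_2_3.symm, hnn x3 x7 hne_3_7]
                · linarith only [hd x7, hwp x7, hl_7_0, hnn x7 x1 hne_1_7.symm, hnn x7 x2 hne_2_7.symm, hnn x7 x3 hne_3_7.symm]
              have hz_7_0 : T.a x7 x0 = 0 := by rw [hsym]; exact hz_0_7
              have hz_1_7 : T.a x1 x7 = 0 := by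
                by_contra hadj_1_7
                have hadj_7_1 : T.a x7 x1 ≠ 0 := by rw [hsym]; exact hadj_1_7
                have hl_1_7 := NT.lb1 T _ _ hne_1_7 hadj_1_7
                have hl_7_1 := NT.lb1 T _ _ hne_1_7.symm hadj_7_1
                have hs_1_7 : T.a x1 x7 = T.a x7 x1 := hsym _ _
                refine NT.cert6 T x0 x1 x3 x4 x5 x7 hne_0_1 hne_0_3 hne_0_4 hne_0_5 hne_0_7 hne_1_3 hne_1_4 hne_1_5 hne_1_7 hne_3_4 hne_3_5 hne_3_7 hne_4_5 hne_4_7 hne_5_7 (by norm_num) 1 1 1 1 1 1 (by norm_num) (by norm_num) (by norm_num) (by norm_num) (by norm_num) (by norm_num) ?_ ?_ ?_ ?_ ?_ ?_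
                · linarith only [hd x0, hwp x0, hl_0_1, hl_0_3, hnn x0 x4 hne_0_4, hnn x0 x5 hne_0_5, hnn x0 x7 hne_0_7]
                · linarith only [hd x1, hwp x1, hl_1_0, hnn x1 x3 hne_1_3, hnn x1 x4 hne_1_4, hnn x1 x5 hne_1_5, hl_1_7]
                · linarith only [hd x3, hwp x3, hl_3_0, hnn x3 x1 hne_1_3.symm, hl_3_4, hnn x3 x5 hne_3_5, hnn x3 x7 hne_3_7]
                · linarith only [hd x4, hwp x4, hnn x4 x0 hne_0_4.symm, hnn x4 x1 hne_1_4.symm, hl_4_3, hl_4_5, hnn x4 x7 hne_4_7]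
                · linarith only [hd x5, hwp x5, hnn x5 x0 hne_0_5.symm, hnn x5 x1 hne_1_5.symm, hnn x5 x3 hne_3_5.symm, hl_5_4, hl_5_7]
                · linarith only [hd x7, hwp x7, hnn x7 x0 hne_0_7.symm, hl_7_1, hnn x7 x3 hne_3_7.symm, hnn x7 x4 hne_4_7.symm, hl_7_5]
              have hz_7_1 : T.a x7 x1 = 0 := by rw [hsym]; exact hz_1_7
              have hz_2_7 : T.a x2 x7 = 0 := by
                by_contra hadj_2_7
                have hadj_7_2 : T.a x7 x2 ≠ 0 := by rw [hsym]; exact hadj_2_7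
                have hl_2_7 := NT.lb1 T _ _ hne_2_7 hadj_2_7
                have hl_7_2 := NT.lb1 T _ _ hne_2_7.symm hadj_7_2
                have hs_2_7 : T.a x2 x7 = T.a x7 x2 := hsym _ _
                refine NT.cert6 T x0 x2 x3 x4 x5 x7 hne_0_2 hne_0_3 hne_0_4 hne_0_5 hne_0_7 hne_2_3 hne_2_4 hne_2_5 hne_2_7 hne_3_4 hne_3_5 hne_3_7 hne_4_5 hne_4_7 hne_5_7 (by norm_num) 1 1 1 1 1 1 (by norm_num) (by norm_num) (by norm_num) (by norm_num) (by norm_num) (by norm_num) ?_ ?_ ?_ ?_ ?_ ?_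
                · linarith only [hd x0, hwp x0, hl_0_2, hl_0_3, hnn x0 x4 hne_0_4, hnn x0 x5 hne_0_5, hnn x0 x7 hne_0_7]
                · linarith only [hd x2, hwp x2, hl_2_0, hnn x2 x3 hne_2_3, hnn x2 x4 hne_2_4, hnn x2 x5 hne_2_5, hl_2_7]
                · linarith only [hd x3, hwp x3, hl_3_0, hnn x3 x2 hne_2_3.symm, hl_3_4, hnn x3 x5 hne_3_5, hnn x3 x7 hne_3_7]
                · linarith only [hd x4, hwp x4, hnn x4 x0 hne_0_4.symm, hnn x4 x2 hne_2_4.symm, hl_4_3, hl_4_5, hnn x4 x7 hne_4_7]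
                · linarith only [hd x5, hwp x5, hnn x5 x0 hne_0_5.symm, hnn x5 x2 hne_2_5.symm, hnn x5 x3 hne_3_5.symm, hl_5_4, hl_5_7]
                · linarith only [hd x7, hwp x7, hnn x7 x0 hne_0_7.symm, hl_7_2, hnn x7 x3 hne_3_7.symm, hnn x7 x4 hne_4_7.symm, hl_7_5]
              have hz_7_2 : T.a x7 x2 = 0 := by rw [hsym]; exact hz_2_7
              have hz_3_7 : T.a x3 x7 = 0 := by
                by_contra hadj_3_7
                have hadj_7_3 : T.a x7 x3 ≠ 0 := by rw [hsym]; exact hadj_3_7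
                have hl_3_7 := NT.lb1 T _ _ hne_3_7 hadj_3_7
                have hl_7_3 := NT.lb1 T _ _ hne_3_7.symm hadj_7_3
                have hs_3_7 : T.a x3 x7 = T.a x7 x3 := hsym _ _
                refine NT.cert4 T x3 x4 x5 x7 hne_3_4 hne_3_5 hne_3_7 hne_4_5 hne_4_7 hne_5_7 (by norm_num) 1 1 1 1 (by norm_num) (by norm_num) (by norm_num) (by norm_num) ?_ ?_ ?_ ?_
                · linarith only [hd x3, hwp x3, hl_3_4, hnn x3 x5 hne_3_5, hl_3_7]
                · linarith only [hd x4, hwp x4, hl_4_3, hl_4_5, hnn x4 x7 hne_4_7]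
                · linarith only [hd x5, hwp x5, hnn x5 x3 hne_3_5.symm, hl_5_4, hl_5_7]
                · linarith only [hd x7, hwp x7, hl_7_3, hnn x7 x4 hne_4_7.symm, hl_7_5]
              have hz_7_3 : T.a x7 x3 = 0 := by rw [hsym]; exact hz_3_7
              have hz_4_7 : T.a x4 x7 = 0 := by
                by_contra hadj_4_7
                have hadj_7_4 : T.a x7 x4 ≠ 0 := by rw [hsym]; exact hadj_4_7
                have hl_4_7 := NT.lb1 T _ _ hne_4_7 hadj_4_7
                have hl_7_4 := NT.lb1 T _ _ hne_4_7.symm hadj_7_4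
                have hs_4_7 : T.a x4 x7 = T.a x7 x4 := hsym _ _
                refine NT.cert3 T x4 x5 x7 hne_4_5 hne_4_7 hne_5_7 (by norm_num) 1 1 1 (by norm_num) (by norm_num) (by norm_num) ?_ ?_ ?_
                · linarith only [hd x4, hwp x4, hl_4_5, hl_4_7]
                · linarith only [hd x5, hwp x5, hl_5_4, hl_5_7]
                · linarith only [hd x7, hwp x7, hl_7_4, hl_7_5]
              have hz_7_4 : T.a x7 x4 = 0 := by rw [hsym]; exact hz_4_7
              have hz_6_7 : T.a x6 x7 = 0 := by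
                by_contra h
                exact hq_6 ⟨x7, ⟨hne_0_7.symm, hne_1_7.symm, hne_2_7.symm, hne_3_7.symm, hne_4_7.symm, hne_5_7.symm, hne_6_7.symm⟩, h⟩
              have hz_7_6 : T.a x7 x6 = 0 := by rw [hsym]; exact hz_6_7
              exact G8.shape1 T hall x0 x1 x2 x3 x4 x5 x6 x7 hne_0_1 hne_0_2 hne_0_3 hne_0_4 hne_0_5 hne_0_6 hne_0_7 hne_1_2 hne_1_3 hne_1_4 hne_1_5 hne_1_6 hne_1_7 hne_2_3 hne_2_4 hne_2_5 hne_2_6 hne_2_7 hne_3_4 hne_3_5 hne_3_6 hne_3_7 hne_4_5 hne_4_6 hne_4_7 hne_5_6 hne_5_7 hne_6_7 hadj_0_1 hadj_0_2 hadj_0_3 hz_0_4 hz_0_5 hz_0_6 hz_0_7 hz_1_2 hz_1_3 hz_1_4 hz_1_5 hz_1_6 hz_1_7 hz_2_3 hz_2_4 hz_2_5 hz_2_6 hz_2_7 hadj_3_4 hz_3_5 hz_3_6 hz_3_7 hadj_4_5 hz_4_6 hz_4_7 hadj_5_6 hadj_5_7 hz_6_7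
            · by_cases hq_4 : ∃ y, (y ≠ x0 ∧ y ≠ x1 ∧ y ≠ x2 ∧ y ≠ x3 ∧ y ≠ x4 ∧ y ≠ x5 ∧ y ≠ x6) ∧ T.a x4 y ≠ 0
              · obtain ⟨x7, ⟨hn0, hn1, hn2, hn3, hn4, hn5, hn6⟩, hadj_4_7⟩ := hq_4
                have hne_0_7 : x0 ≠ x7 := hn0.symm
                have hne_1_7 : x1 ≠ x7 := hn1.symm
                have hne_2_7 : x2 ≠ x7 := hn2.symm
                have hne_3_7 : x3 ≠ x7 := hn3.symm
                have hne_4_7 : x4 ≠ x7 := hn4.symm
                have hne_5_7 : x5 ≠ x7 := hn5.symm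
                have hne_6_7 : x6 ≠ x7 := hn6.symm
                have hadj_7_4 : T.a x7 x4 ≠ 0 := by rw [hsym]; exact hadj_4_7
                have hl_4_7 := NT.lb1 T _ _ hne_4_7 hadj_4_7
                have hl_7_4 := NT.lb1 T _ _ hne_4_7.symm hadj_7_4
                have hs_4_7 : T.a x4 x7 = T.a x7 x4 := hsym _ _
                have hz_0_7 : T.a x0 x7 = 0 := by
                  by_contra hadj_0_7
                  have hadj_7_0 : T.a x7 x0 ≠ 0 := by rw [hsym]; exact hadj_0_7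
                  have hl_0_7 := NT.lb1 T _ _ hne_0_7 hadj_0_7
                  have hl_7_0 := NT.lb1 T _ _ hne_0_7.symm hadj_7_0
                  have hs_0_7 : T.a x0 x7 = T.a x7 x0 := hsym _ _
                  refine NT.cert4 T x0 x3 x4 x7 hne_0_3 hne_0_4 hne_0_7 hne_3_4 hne_3_7 hne_4_7 (by norm_num) 1 1 1 1 (by norm_num) (by norm_num) (by norm_num) (by norm_num) ?_ ?_ ?_ ?_
                  · linarith only [hd x0, hwp x0, hl_0_3, hnn x0 x4 hne_0_4, hl_0_7]
                  · linarith only [hd x3, hwp x3, hl_3_0, hl_3_4, hnn x3 x7 hne_3_7]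
                  · linarith only [hd x4, hwp x4, hnn x4 x0 hne_0_4.symm, hl_4_3, hl_4_7]
                  · linarith only [hd x7, hwp x7, hl_7_0, hnn x7 x3 hne_3_7.symm, hl_7_4]
                have hz_7_0 : T.a x7 x0 = 0 := by rw [hsym]; exact hz_0_7
                have hz_1_7 : T.a x1 x7 = 0 := by
                  by_contra hadj_1_7
                  have hadj_7_1 : T.a x7 x1 ≠ 0 := by rw [hsym]; exact hadj_1_7
                  have hl_1_7 := NT.lb1 T _ _ hne_1_7 hadj_1_7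
                  have hl_7_1 := NT.lb1 T _ _ hne_1_7.symm hadj_7_1
                  have hs_1_7 : T.a x1 x7 = T.a x7 x1 := hsym _ _
                  refine NT.cert5 T x0 x1 x3 x4 x7 hne_0_1 hne_0_3 hne_0_4 hne_0_7 hne_1_3 hne_1_4 hne_1_7 hne_3_4 hne_3_7 hne_4_7 (by norm_num) 1 1 1 1 1 (by norm_num) (by norm_num) (by norm_num) (by norm_num) (by norm_num) ?_ ?_ ?_ ?_ ?_
                  · linarith only [hd x0, hwp x0, hl_0_1, hl_0_3, hnn x0 x4 hne_0_4, hnn x0 x7 hne_0_7]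
                  · linarith only [hd x1, hwp x1, hl_1_0, hnn x1 x3 hne_1_3, hnn x1 x4 hne_1_4, hl_1_7]
                  · linarith only [hd x3, hwp x3, hl_3_0, hnn x3 x1 hne_1_3.symm, hl_3_4, hnn x3 x7 hne_3_7]
                  · linarith only [hd x4, hwp x4, hnn x4 x0 hne_0_4.symm, hnn x4 x1 hne_1_4.symm, hl_4_3, hl_4_7]
                  · linarith only [hd x7, hwp x7, hnn x7 x0 hne_0_7.symm, hl_7_1, hnn x7 x3 hne_3_7.symm, hl_7_4]
                have hz_7_1 : T.a x7 x1 = 0 := by rw [hsym]; exact hz_1_7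
                have hz_2_7 : T.a x2 x7 = 0 := by
                  by_contra hadj_2_7
                  have hadj_7_2 : T.a x7 x2 ≠ 0 := by rw [hsym]; exact hadj_2_7
                  have hl_2_7 := NT.lb1 T _ _ hne_2_7 hadj_2_7
                  have hl_7_2 := NT.lb1 T _ _ hne_2_7.symm hadj_7_2
                  have hs_2_7 : T.a x2 x7 = T.a x7 x2 := hsym _ _
                  refine NT.cert5 T x0 x2 x3 x4 x7 hne_0_2 hne_0_3 hne_0_4 hne_0_7 hne_2_3 hne_2_4 hne_2_7 hne_3_4 hne_3_7 hne_4_7 (by norm_num) 1 1 1 1 1 (by norm_num) (by norm_num) (by norm_num) (by norm_num) (by norm_num) ?_ ?_ ?_ ?_ ?_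
                  · linarith only [hd x0, hwp x0, hl_0_2, hl_0_3, hnn x0 x4 hne_0_4, hnn x0 x7 hne_0_7]
                  · linarith only [hd x2, hwp x2, hl_2_0, hnn x2 x3 hne_2_3, hnn x2 x4 hne_2_4, hl_2_7]
                  · linarith only [hd x3, hwp x3, hl_3_0, hnn x3 x2 hne_2_3.symm, hl_3_4, hnn x3 x7 hne_3_7]
                  · linarith only [hd x4, hwp x4, hnn x4 x0 hne_0_4.symm, hnn x4 x2 hne_2_4.symm, hl_4_3, hl_4_7]
                  · linarith only [hd x7, hwp x7, hnn x7 x0 hne_0_7.symm, hl_7_2, hnn x7 x3 hne_3_7.symm, hl_7_4]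
                have hz_7_2 : T.a x7 x2 = 0 := by rw [hsym]; exact hz_2_7
                have hz_3_7 : T.a x3 x7 = 0 := by
                  by_contra hadj_3_7
                  have hadj_7_3 : T.a x7 x3 ≠ 0 := by rw [hsym]; exact hadj_3_7
                  have hl_3_7 := NT.lb1 T _ _ hne_3_7 hadj_3_7
                  have hl_7_3 := NT.lb1 T _ _ hne_3_7.symm hadj_7_3
                  have hs_3_7 : T.a x3 x7 = T.a x7 x3 := hsym _ _
                  refine NT.cert3 T x3 x4 x7 hne_3_4 hne_3_7 hne_4_7 (by norm_num) 1 1 1 (by norm_num) (by norm_num) (by norm_num) ?_ ?_ ?_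
                  · linarith only [hd x3, hwp x3, hl_3_4, hl_3_7]
                  · linarith only [hd x4, hwp x4, hl_4_3, hl_4_7]
                  · linarith only [hd x7, hwp x7, hl_7_3, hl_7_4]
                have hz_7_3 : T.a x7 x3 = 0 := by rw [hsym]; exact hz_3_7
                have hz_5_7 : T.a x5 x7 = 0 := by
                  by_contra h
                  exact hq_5 ⟨x7, ⟨hne_0_7.symm, hne_1_7.symm, hne_2_7.symm, hne_3_7.symm, hne_4_7.symm, hne_5_7.symm, hne_6_7.symm⟩, h⟩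
                have hz_7_5 : T.a x7 x5 = 0 := by rw [hsym]; exact hz_5_7
                have hz_6_7 : T.a x6 x7 = 0 := by
                  by_contra h
                  exact hq_6 ⟨x7, ⟨hne_0_7.symm, hne_1_7.symm, hne_2_7.symm, hne_3_7.symm, hne_4_7.symm, hne_5_7.symm, hne_6_7.symm⟩, h⟩
                have hz_7_6 : T.a x7 x6 = 0 := by rw [hsym]; exact hz_6_7
                exfalso
                refine NT.cert7 T x0 x1 x2 x3 x4 x5 x7 hne_0_1 hne_0_2 hne_0_3 hne_0_4 hne_0_5 hne_0_7 hne_1_2 hne_1_3 hne_1_4 hne_1_5 hne_1_7 hne_2_3 hne_2_4 hne_2_5 hne_2_7 hne_3_4 hne_3_5 hne_3_7 hne_4_5 hne_4_7 hne_5_7 (by norm_num) 2 1 1 2 2 1 1 (by norm_num) (by norm_num) (by norm_num) (by norm_num) (by norm_num) (by norm_num) (by norm_num) ?_ ?_ ?_ ?_ ?_ ?_ ?_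
                · linarith only [hd x0, hwp x0, hl_0_1, hl_0_2, hl_0_3, hnn x0 x4 hne_0_4, hnn x0 x5 hne_0_5, hnn x0 x7 hne_0_7]
                · linarith only [hd x1, hwp x1, hl_1_0, hnn x1 x2 hne_1_2, hnn x1 x3 hne_1_3, hnn x1 x4 hne_1_4, hnn x1 x5 hne_1_5, hnn x1 x7 hne_1_7]
                · linarith only [hd x2, hwp x2, hl_2_0, hnn x2 x1 hne_1_2.symm, hnn x2 x3 hne_2_3, hnn x2 x4 hne_2_4, hnn x2 x5 hne_2_5, hnn x2 x7 hne_2_7]
                · linarith only [hd x3, hwp x3, hl_3_0, hnn x3 x1 hne_1_3.symm, hnn x3 x2 hne_2_3.symm, hl_3_4, hnn x3 x5 hne_3_5, hnn x3 x7 hne_3_7]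
                · linarith only [hd x4, hwp x4, hnn x4 x0 hne_0_4.symm, hnn x4 x1 hne_1_4.symm, hnn x4 x2 hne_2_4.symm, hl_4_3, hl_4_5, hl_4_7]
                · linarith only [hd x5, hwp x5, hnn x5 x0 hne_0_5.symm, hnn x5 x1 hne_1_5.symm, hnn x5 x2 hne_2_5.symm, hnn x5 x3 hne_3_5.symm, hl_5_4, hnn x5 x7 hne_5_7]
                · linarith only [hd x7, hwp x7, hnn x7 x0 hne_0_7.symm, hnn x7 x1 hne_1_7.symm, hnn x7 x2 hne_2_7.symm, hnn x7 x3 hne_3_7.symm, hl_7_4, hnn x7 x5 hne_5_7.symm]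
              · by_cases hq_3 : ∃ y, (y ≠ x0 ∧ y ≠ x1 ∧ y ≠ x2 ∧ y ≠ x3 ∧ y ≠ x4 ∧ y ≠ x5 ∧ y ≠ x6) ∧ T.a x3 y ≠ 0
                · obtain ⟨x7, ⟨hn0, hn1, hn2, hn3, hn4, hn5, hn6⟩, hadj_3_7⟩ := hq_3
                  have hne_0_7 : x0 ≠ x7 := hn0.symm
                  have hne_1_7 : x1 ≠ x7 := hn1.symm
                  have hne_2_7 : x2 ≠ x7 := hn2.symm
                  have hne_3_7 : x3 ≠ x7 := hn3.symm
                  have hne_4_7 : x4 ≠ x7 := hn4.symm
                  have hne_5_7 : x5 ≠ x7 := hn5.symm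
                  have hne_6_7 : x6 ≠ x7 := hn6.symm
                  have hadj_7_3 : T.a x7 x3 ≠ 0 := by rw [hsym]; exact hadj_3_7
                  have hl_3_7 := NT.lb1 T _ _ hne_3_7 hadj_3_7
                  have hl_7_3 := NT.lb1 T _ _ hne_3_7.symm hadj_7_3
                  have hs_3_7 : T.a x3 x7 = T.a x7 x3 := hsym _ _
                  have hz_0_7 : T.a x0 x7 = 0 := by
                    by_contra hadj_0_7
                    have hadj_7_0 : T.a x7 x0 ≠ 0 := by rw [hsym]; exact hadj_0_7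
                    have hl_0_7 := NT.lb1 T _ _ hne_0_7 hadj_0_7
                    have hl_7_0 := NT.lb1 T _ _ hne_0_7.symm hadj_7_0
                    have hs_0_7 : T.a x0 x7 = T.a x7 x0 := hsym _ _
                    refine NT.cert3 T x0 x3 x7 hne_0_3 hne_0_7 hne_3_7 (by norm_num) 1 1 1 (by norm_num) (by norm_num) (by norm_num) ?_ ?_ ?_
                    · linarith only [hd x0, hwp x0, hl_0_3, hl_0_7]
                    · linarith only [hd x3, hwp x3, hl_3_0, hl_3_7]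
                    · linarith only [hd x7, hwp x7, hl_7_0, hl_7_3]
                  have hz_7_0 : T.a x7 x0 = 0 := by rw [hsym]; exact hz_0_7
                  have hz_1_7 : T.a x1 x7 = 0 := by
                    by_contra hadj_1_7
                    have hadj_7_1 : T.a x7 x1 ≠ 0 := by rw [hsym]; exact hadj_1_7
                    have hl_1_7 := NT.lb1 T _ _ hne_1_7 hadj_1_7
                    have hl_7_1 := NT.lb1 T _ _ hne_1_7.symm hadj_7_1
                    have hs_1_7 : T.a x1 x7 = T.a x7 x1 := hsym _ _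
                    refine NT.cert4 T x0 x1 x3 x7 hne_0_1 hne_0_3 hne_0_7 hne_1_3 hne_1_7 hne_3_7 (by norm_num) 1 1 1 1 (by norm_num) (by norm_num) (by norm_num) (by norm_num) ?_ ?_ ?_ ?_
                    · linarith only [hd x0, hwp x0, hl_0_1, hl_0_3, hnn x0 x7 hne_0_7]
                    · linarith only [hd x1, hwp x1, hl_1_0, hnn x1 x3 hne_1_3, hl_1_7]
                    · linarith only [hd x3, hwp x3, hl_3_0, hnn x3 x1 hne_1_3.symm, hl_3_7]
                    · linarith only [hd x7, hwp x7, hnn x7 x0 hne_0_7.symm, hl_7_1, hl_7_3]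
                  have hz_7_1 : T.a x7 x1 = 0 := by rw [hsym]; exact hz_1_7
                  have hz_2_7 : T.a x2 x7 = 0 := by
                    by_contra hadj_2_7
                    have hadj_7_2 : T.a x7 x2 ≠ 0 := by rw [hsym]; exact hadj_2_7
                    have hl_2_7 := NT.lb1 T _ _ hne_2_7 hadj_2_7
                    have hl_7_2 := NT.lb1 T _ _ hne_2_7.symm hadj_7_2
                    have hs_2_7 : T.a x2 x7 = T.a x7 x2 := hsym _ _
                    refine NT.cert4 T x0 x2 x3 x7 hne_0_2 hne_0_3 hne_0_7 hne_2_3 hne_2_7 hne_3_7 (by norm_num) 1 1 1 1 (by norm_num) (by norm_num) (by norm_num) (by norm_num) ?_ ?_ ?_ ?_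
                    · linarith only [hd x0, hwp x0, hl_0_2, hl_0_3, hnn x0 x7 hne_0_7]
                    · linarith only [hd x2, hwp x2, hl_2_0, hnn x2 x3 hne_2_3, hl_2_7]
                    · linarith only [hd x3, hwp x3, hl_3_0, hnn x3 x2 hne_2_3.symm, hl_3_7]
                    · linarith only [hd x7, hwp x7, hnn x7 x0 hne_0_7.symm, hl_7_2, hl_7_3]
                  have hz_7_2 : T.a x7 x2 = 0 := by rw [hsym]; exact hz_2_7
                  have hz_4_7 : T.a x4 x7 = 0 := by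
                    by_contra h
                    exact hq_4 ⟨x7, ⟨hne_0_7.symm, hne_1_7.symm, hne_2_7.symm, hne_3_7.symm, hne_4_7.symm, hne_5_7.symm, hne_6_7.symm⟩, h⟩
                  have hz_7_4 : T.a x7 x4 = 0 := by rw [hsym]; exact hz_4_7
                  have hz_5_7 : T.a x5 x7 = 0 := by
                    by_contra h
                    exact hq_5 ⟨x7, ⟨hne_0_7.symm, hne_1_7.symm, hne_2_7.symm, hne_3_7.symm, hne_4_7.symm, hne_5_7.symm, hne_6_7.symm⟩, h⟩
                  have hz_7_5 : T.a x7 x5 = 0 := by rw [hsym]; exact hz_5_7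
                  have hz_6_7 : T.a x6 x7 = 0 := by
                    by_contra h
                    exact hq_6 ⟨x7, ⟨hne_0_7.symm, hne_1_7.symm, hne_2_7.symm, hne_3_7.symm, hne_4_7.symm, hne_5_7.symm, hne_6_7.symm⟩, h⟩
                  have hz_7_6 : T.a x7 x6 = 0 := by rw [hsym]; exact hz_6_7
                  exfalso
                  refine NT.cert6 T x0 x1 x2 x3 x4 x7 hne_0_1 hne_0_2 hne_0_3 hne_0_4 hne_0_7 hne_1_2 hne_1_3 hne_1_4 hne_1_7 hne_2_3 hne_2_4 hne_2_7 hne_3_4 hne_3_7 hne_4_7 (by norm_num) 2 1 1 2 1 1 (by norm_num) (by norm_num) (by norm_num) (by norm_num) (by norm_num) (by norm_num) ?_ ?_ ?_ ?_ ?_ ?_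
                  · linarith only [hd x0, hwp x0, hl_0_1, hl_0_2, hl_0_3, hnn x0 x4 hne_0_4, hnn x0 x7 hne_0_7]
                  · linarith only [hd x1, hwp x1, hl_1_0, hnn x1 x2 hne_1_2, hnn x1 x3 hne_1_3, hnn x1 x4 hne_1_4, hnn x1 x7 hne_1_7]
                  · linarith only [hd x2, hwp x2, hl_2_0, hnn x2 x1 hne_1_2.symm, hnn x2 x3 hne_2_3, hnn x2 x4 hne_2_4, hnn x2 x7 hne_2_7]
                  · linarith only [hd x3, hwp x3, hl_3_0, hnn x3 x1 hne_1_3.symm, hnn x3 x2 hne_2_3.symm, hl_3_4, hl_3_7]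
                  · linarith only [hd x4, hwp x4, hnn x4 x0 hne_0_4.symm, hnn x4 x1 hne_1_4.symm, hnn x4 x2 hne_2_4.symm, hl_4_3, hnn x4 x7 hne_4_7]
                  · linarith only [hd x7, hwp x7, hnn x7 x0 hne_0_7.symm, hnn x7 x1 hne_1_7.symm, hnn x7 x2 hne_2_7.symm, hl_7_3, hnn x7 x4 hne_4_7.symm]
                · by_cases hq_2 : ∃ y, (y ≠ x0 ∧ y ≠ x1 ∧ y ≠ x2 ∧ y ≠ x3 ∧ y ≠ x4 ∧ y ≠ x5 ∧ y ≠ x6) ∧ T.a x2 y ≠ 0
                  · obtain ⟨x7, ⟨hn0, hn1, hn2, hn3, hn4, hn5, hn6⟩, hadj_2_7⟩ := hq_2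
                    have hne_0_7 : x0 ≠ x7 := hn0.symm
                    have hne_1_7 : x1 ≠ x7 := hn1.symm
                    have hne_2_7 : x2 ≠ x7 := hn2.symm
                    have hne_3_7 : x3 ≠ x7 := hn3.symm
                    have hne_4_7 : x4 ≠ x7 := hn4.symm
                    have hne_5_7 : x5 ≠ x7 := hn5.symm
                    have hne_6_7 : x6 ≠ x7 := hn6.symm
                    have hadj_7_2 : T.a x7 x2 ≠ 0 := by rw [hsym]; exact hadj_2_7
                    have hl_2_7 := NT.lb1 T _ _ hne_2_7 hadj_2_7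
                    have hl_7_2 := NT.lb1 T _ _ hne_2_7.symm hadj_7_2
                    have hs_2_7 : T.a x2 x7 = T.a x7 x2 := hsym _ _
                    have hz_0_7 : T.a x0 x7 = 0 := by
                      by_contra hadj_0_7
                      have hadj_7_0 : T.a x7 x0 ≠ 0 := by rw [hsym]; exact hadj_0_7
                      have hl_0_7 := NT.lb1 T _ _ hne_0_7 hadj_0_7
                      have hl_7_0 := NT.lb1 T _ _ hne_0_7.symm hadj_7_0
                      have hs_0_7 : T.a x0 x7 = T.a x7 x0 := hsym _ _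
                      refine NT.cert3 T x0 x2 x7 hne_0_2 hne_0_7 hne_2_7 (by norm_num) 1 1 1 (by norm_num) (by norm_num) (by norm_num) ?_ ?_ ?_
                      · linarith only [hd x0, hwp x0, hl_0_2, hl_0_7]
                      · linarith only [hd x2, hwp x2, hl_2_0, hl_2_7]
                      · linarith only [hd x7, hwp x7, hl_7_0, hl_7_2]
                    have hz_7_0 : T.a x7 x0 = 0 := by rw [hsym]; exact hz_0_7
                    have hz_1_7 : T.a x1 x7 = 0 := by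
                      by_contra hadj_1_7
                      have hadj_7_1 : T.a x7 x1 ≠ 0 := by rw [hsym]; exact hadj_1_7
                      have hl_1_7 := NT.lb1 T _ _ hne_1_7 hadj_1_7
                      have hl_7_1 := NT.lb1 T _ _ hne_1_7.symm hadj_7_1
                      have hs_1_7 : T.a x1 x7 = T.a x7 x1 := hsym _ _
                      refine NT.cert4 T x0 x1 x2 x7 hne_0_1 hne_0_2 hne_0_7 hne_1_2 hne_1_7 hne_2_7 (by norm_num) 1 1 1 1 (by norm_num) (by norm_num) (by norm_num) (by norm_num) ?_ ?_ ?_ ?_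
                      · linarith only [hd x0, hwp x0, hl_0_1, hl_0_2, hnn x0 x7 hne_0_7]
                      · linarith only [hd x1, hwp x1, hl_1_0, hnn x1 x2 hne_1_2, hl_1_7]
                      · linarith only [hd x2, hwp x2, hl_2_0, hnn x2 x1 hne_1_2.symm, hl_2_7]
                      · linarith only [hd x7, hwp x7, hnn x7 x0 hne_0_7.symm, hl_7_1, hl_7_2]
                    have hz_7_1 : T.a x7 x1 = 0 := by rw [hsym]; exact hz_1_7
                    have hz_3_7 : T.a x3 x7 = 0 := by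
                      by_contra h
                      exact hq_3 ⟨x7, ⟨hne_0_7.symm, hne_1_7.symm, hne_2_7.symm, hne_3_7.symm, hne_4_7.symm, hne_5_7.symm, hne_6_7.symm⟩, h⟩
                    have hz_7_3 : T.a x7 x3 = 0 := by rw [hsym]; exact hz_3_7
                    have hz_4_7 : T.a x4 x7 = 0 := by
                      by_contra h
                      exact hq_4 ⟨x7, ⟨hne_0_7.symm, hne_1_7.symm, hne_2_7.symm, hne_3_7.symm, hne_4_7.symm, hne_5_7.symm, hne_6_7.symm⟩, h⟩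
                    have hz_7_4 : T.a x7 x4 = 0 := by rw [hsym]; exact hz_4_7
                    have hz_5_7 : T.a x5 x7 = 0 := by
                      by_contra h
                      exact hq_5 ⟨x7, ⟨hne_0_7.symm, hne_1_7.symm, hne_2_7.symm, hne_3_7.symm, hne_4_7.symm, hne_5_7.symm, hne_6_7.symm⟩, h⟩
                    have hz_7_5 : T.a x7 x5 = 0 := by rw [hsym]; exact hz_5_7
                    have hz_6_7 : T.a x6 x7 = 0 := by
                      by_contra h
                      exact hq_6 ⟨x7, ⟨hne_0_7.symm, hne_1_7.symm, hne_2_7.symm, hne_3_7.symm, hne_4_7.symm, hne_5_7.symm, hne_6_7.symm⟩, h⟩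
                    have hz_7_6 : T.a x7 x6 = 0 := by rw [hsym]; exact hz_6_7
                    exact G8.shape2 T hall x0 x1 x2 x3 x4 x5 x6 x7 hne_0_1 hne_0_2 hne_0_3 hne_0_4 hne_0_5 hne_0_6 hne_0_7 hne_1_2 hne_1_3 hne_1_4 hne_1_5 hne_1_6 hne_1_7 hne_2_3 hne_2_4 hne_2_5 hne_2_6 hne_2_7 hne_3_4 hne_3_5 hne_3_6 hne_3_7 hne_4_5 hne_4_6 hne_4_7 hne_5_6 hne_5_7 hne_6_7 hadj_0_1 hadj_0_2 hadj_0_3 hz_0_4 hz_0_5 hz_0_6 hz_0_7 hz_1_2 hz_1_3 hz_1_4 hz_1_5 hz_1_6 hz_1_7 hz_2_3 hz_2_4 hz_2_5 hz_2_6 hadj_2_7 hadj_3_4 hz_3_5 hz_3_6 hz_3_7 hadj_4_5 hz_4_6 hz_4_7 hadj_5_6 hz_5_7 hz_6_7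
                  · by_cases hq_1 : ∃ y, (y ≠ x0 ∧ y ≠ x1 ∧ y ≠ x2 ∧ y ≠ x3 ∧ y ≠ x4 ∧ y ≠ x5 ∧ y ≠ x6) ∧ T.a x1 y ≠ 0
                    · obtain ⟨x7, ⟨hn0, hn1, hn2, hn3, hn4, hn5, hn6⟩, hadj_1_7⟩ := hq_1
                      have hne_0_7 : x0 ≠ x7 := hn0.symm
                      have hne_1_7 : x1 ≠ x7 := hn1.symm
                      have hne_2_7 : x2 ≠ x7 := hn2.symm
                      have hne_3_7 : x3 ≠ x7 := hn3.symm
                      have hne_4_7 : x4 ≠ x7 := hn4.symm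
                      have hne_5_7 : x5 ≠ x7 := hn5.symm
                      have hne_6_7 : x6 ≠ x7 := hn6.symm
                      have hadj_7_1 : T.a x7 x1 ≠ 0 := by rw [hsym]; exact hadj_1_7
                      have hl_1_7 := NT.lb1 T _ _ hne_1_7 hadj_1_7
                      have hl_7_1 := NT.lb1 T _ _ hne_1_7.symm hadj_7_1
                      have hs_1_7 : T.a x1 x7 = T.a x7 x1 := hsym _ _
                      have hz_0_7 : T.a x0 x7 = 0 := by
                        by_contra hadj_0_7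
                        have hadj_7_0 : T.a x7 x0 ≠ 0 := by rw [hsym]; exact hadj_0_7
                        have hl_0_7 := NT.lb1 T _ _ hne_0_7 hadj_0_7
                        have hl_7_0 := NT.lb1 T _ _ hne_0_7.symm hadj_7_0
                        have hs_0_7 : T.a x0 x7 = T.a x7 x0 := hsym _ _
                        refine NT.cert3 T x0 x1 x7 hne_0_1 hne_0_7 hne_1_7 (by norm_num) 1 1 1 (by norm_num) (by norm_num) (by norm_num) ?_ ?_ ?_
                        · linarith only [hd x0, hwp x0, hl_0_1, hl_0_7]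
                        · linarith only [hd x1, hwp x1, hl_1_0, hl_1_7]
                        · linarith only [hd x7, hwp x7, hl_7_0, hl_7_1]
                      have hz_7_0 : T.a x7 x0 = 0 := by rw [hsym]; exact hz_0_7
                      have hz_2_7 : T.a x2 x7 = 0 := by
                        by_contra h
                        exact hq_2 ⟨x7, ⟨hne_0_7.symm, hne_1_7.symm, hne_2_7.symm, hne_3_7.symm, hne_4_7.symm, hne_5_7.symm, hne_6_7.symm⟩, h⟩
                      have hz_7_2 : T.a x7 x2 = 0 := by rw [hsym]; exact hz_2_7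
                      have hz_3_7 : T.a x3 x7 = 0 := by
                        by_contra h
                        exact hq_3 ⟨x7, ⟨hne_0_7.symm, hne_1_7.symm, hne_2_7.symm, hne_3_7.symm, hne_4_7.symm, hne_5_7.symm, hne_6_7.symm⟩, h⟩
                      have hz_7_3 : T.a x7 x3 = 0 := by rw [hsym]; exact hz_3_7
                      have hz_4_7 : T.a x4 x7 = 0 := by
                        by_contra h
                        exact hq_4 ⟨x7, ⟨hne_0_7.symm, hne_1_7.symm, hne_2_7.symm, hne_3_7.symm, hne_4_7.symm, hne_5_7.symm, hne_6_7.symm⟩, h⟩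
                      have hz_7_4 : T.a x7 x4 = 0 := by rw [hsym]; exact hz_4_7
                      have hz_5_7 : T.a x5 x7 = 0 := by
                        by_contra h
                        exact hq_5 ⟨x7, ⟨hne_0_7.symm, hne_1_7.symm, hne_2_7.symm, hne_3_7.symm, hne_4_7.symm, hne_5_7.symm, hne_6_7.symm⟩, h⟩
                      have hz_7_5 : T.a x7 x5 = 0 := by rw [hsym]; exact hz_5_7
                      have hz_6_7 : T.a x6 x7 = 0 := by
                        by_contra h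
                        exact hq_6 ⟨x7, ⟨hne_0_7.symm, hne_1_7.symm, hne_2_7.symm, hne_3_7.symm, hne_4_7.symm, hne_5_7.symm, hne_6_7.symm⟩, h⟩
                      have hz_7_6 : T.a x7 x6 = 0 := by rw [hsym]; exact hz_6_7
                      exact G8.shape3 T hall x0 x1 x2 x3 x4 x5 x6 x7 hne_0_1 hne_0_2 hne_0_3 hne_0_4 hne_0_5 hne_0_6 hne_0_7 hne_1_2 hne_1_3 hne_1_4 hne_1_5 hne_1_6 hne_1_7 hne_2_3 hne_2_4 hne_2_5 hne_2_6 hne_2_7 hne_3_4 hne_3_5 hne_3_6 hne_3_7 hne_4_5 hne_4_6 hne_4_7 hne_5_6 hne_5_7 hne_6_7 hadj_0_1 hadj_0_2 hadj_0_3 hz_0_4 hz_0_5 hz_0_6 hz_0_7 hz_1_2 hz_1_3 hz_1_4 hz_1_5 hz_1_6 hadj_1_7 hz_2_3 hz_2_4 hz_2_5 hz_2_6 hz_2_7 hadj_3_4 hz_3_5 hz_3_6 hz_3_7 hadj_4_5 hz_4_6 hz_4_7 hadj_5_6 hz_5_7 hz_6_7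
                    · by_cases hq_0 : ∃ y, (y ≠ x0 ∧ y ≠ x1 ∧ y ≠ x2 ∧ y ≠ x3 ∧ y ≠ x4 ∧ y ≠ x5 ∧ y ≠ x6) ∧ T.a x0 y ≠ 0
                      · obtain ⟨x7, ⟨hn0, hn1, hn2, hn3, hn4, hn5, hn6⟩, hadj_0_7⟩ := hq_0
                        have hne_0_7 : x0 ≠ x7 := hn0.symm
                        have hne_1_7 : x1 ≠ x7 := hn1.symm
                        have hne_2_7 : x2 ≠ x7 := hn2.symm
                        have hne_3_7 : x3 ≠ x7 := hn3.symm
                        have hne_4_7 : x4 ≠ x7 := hn4.symm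
                        have hne_5_7 : x5 ≠ x7 := hn5.symm
                        have hne_6_7 : x6 ≠ x7 := hn6.symm
                        have hadj_7_0 : T.a x7 x0 ≠ 0 := by rw [hsym]; exact hadj_0_7
                        have hl_0_7 := NT.lb1 T _ _ hne_0_7 hadj_0_7
                        have hl_7_0 := NT.lb1 T _ _ hne_0_7.symm hadj_7_0
                        have hs_0_7 : T.a x0 x7 = T.a x7 x0 := hsym _ _
                        have hz_1_7 : T.a x1 x7 = 0 := by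
                          by_contra h
                          exact hq_1 ⟨x7, ⟨hne_0_7.symm, hne_1_7.symm, hne_2_7.symm, hne_3_7.symm, hne_4_7.symm, hne_5_7.symm, hne_6_7.symm⟩, h⟩
                        have hz_7_1 : T.a x7 x1 = 0 := by rw [hsym]; exact hz_1_7
                        have hz_2_7 : T.a x2 x7 = 0 := by
                          by_contra h
                          exact hq_2 ⟨x7, ⟨hne_0_7.symm, hne_1_7.symm, hne_2_7.symm, hne_3_7.symm, hne_4_7.symm, hne_5_7.symm, hne_6_7.symm⟩, h⟩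
                        have hz_7_2 : T.a x7 x2 = 0 := by rw [hsym]; exact hz_2_7
                        have hz_3_7 : T.a x3 x7 = 0 := by
                          by_contra h
                          exact hq_3 ⟨x7, ⟨hne_0_7.symm, hne_1_7.symm, hne_2_7.symm, hne_3_7.symm, hne_4_7.symm, hne_5_7.symm, hne_6_7.symm⟩, h⟩
                        have hz_7_3 : T.a x7 x3 = 0 := by rw [hsym]; exact hz_3_7
                        have hz_4_7 : T.a x4 x7 = 0 := by
                          by_contra h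
                          exact hq_4 ⟨x7, ⟨hne_0_7.symm, hne_1_7.symm, hne_2_7.symm, hne_3_7.symm, hne_4_7.symm, hne_5_7.symm, hne_6_7.symm⟩, h⟩
                        have hz_7_4 : T.a x7 x4 = 0 := by rw [hsym]; exact hz_4_7
                        have hz_5_7 : T.a x5 x7 = 0 := by
                          by_contra h
                          exact hq_5 ⟨x7, ⟨hne_0_7.symm, hne_1_7.symm, hne_2_7.symm, hne_3_7.symm, hne_4_7.symm, hne_5_7.symm, hne_6_7.symm⟩, h⟩
                        have hz_7_5 : T.a x7 x5 = 0 := by rw [hsym]; exact hz_5_7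
                        have hz_6_7 : T.a x6 x7 = 0 := by
                          by_contra h
                          exact hq_6 ⟨x7, ⟨hne_0_7.symm, hne_1_7.symm, hne_2_7.symm, hne_3_7.symm, hne_4_7.symm, hne_5_7.symm, hne_6_7.symm⟩, h⟩
                        have hz_7_6 : T.a x7 x6 = 0 := by rw [hsym]; exact hz_6_7
                        exfalso
                        refine NT.cert5 T x0 x1 x2 x3 x7 hne_0_1 hne_0_2 hne_0_3 hne_0_7 hne_1_2 hne_1_3 hne_1_7 hne_2_3 hne_2_7 hne_3_7 (by norm_num) 2 1 1 1 1 (by norm_num) (by norm_num) (by norm_num) (by norm_num) (by norm_num) ?_ ?_ ?_ ?_ ?_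
                        · linarith only [hd x0, hwp x0, hl_0_1, hl_0_2, hl_0_3, hl_0_7]
                        · linarith only [hd x1, hwp x1, hl_1_0, hnn x1 x2 hne_1_2, hnn x1 x3 hne_1_3, hnn x1 x7 hne_1_7]
                        · linarith only [hd x2, hwp x2, hl_2_0, hnn x2 x1 hne_1_2.symm, hnn x2 x3 hne_2_3, hnn x2 x7 hne_2_7]
                        · linarith only [hd x3, hwp x3, hl_3_0, hnn x3 x1 hne_1_3.symm, hnn x3 x2 hne_2_3.symm, hnn x3 x7 hne_3_7]
                        · linarith only [hd x7, hwp x7, hl_7_0, hnn x7 x1 hne_1_7.symm, hnn x7 x2 hne_2_7.symm, hnn x7 x3 hne_3_7.symm]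
                      · exfalso
                        refine NT.not_closed T ![x0, x1, x2, x3, x4, x5, x6] (by norm_num) (by norm_num) ?_
                        intro s y hy
                        by_contra hcon
                        fin_cases s
                        · exact hq_0 ⟨y, ⟨fun h => hcon ⟨(0 : Fin 7), h⟩, fun h => hcon ⟨(1 : Fin 7), h⟩, fun h => hcon ⟨(2 : Fin 7), h⟩, fun h => hcon ⟨(3 : Fin 7), h⟩, fun h => hcon ⟨(4 : Fin 7), h⟩, fun h => hcon ⟨(5 : Fin 7), h⟩, fun h => hcon ⟨(6 : Fin 7), h⟩⟩, hy⟩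
                        · exact hq_1 ⟨y, ⟨fun h => hcon ⟨(0 : Fin 7), h⟩, fun h => hcon ⟨(1 : Fin 7), h⟩, fun h => hcon ⟨(2 : Fin 7), h⟩, fun h => hcon ⟨(3 : Fin 7), h⟩, fun h => hcon ⟨(4 : Fin 7), h⟩, fun h => hcon ⟨(5 : Fin 7), h⟩, fun h => hcon ⟨(6 : Fin 7), h⟩⟩, hy⟩
                        · exact hq_2 ⟨y, ⟨fun h => hcon ⟨(0 : Fin 7), h⟩, fun h => hcon ⟨(1 : Fin 7), h⟩, fun h => hcon ⟨(2 : Fin 7), h⟩, fun h => hcon ⟨(3 : Fin 7), h⟩, fun h => hcon ⟨(4 : Fin 7), h⟩, fun h => hcon ⟨(5 : Fin 7), h⟩, fun h => hcon ⟨(6 : Fin 7), h⟩⟩, hy⟩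
                        · exact hq_3 ⟨y, ⟨fun h => hcon ⟨(0 : Fin 7), h⟩, fun h => hcon ⟨(1 : Fin 7), h⟩, fun h => hcon ⟨(2 : Fin 7), h⟩, fun h => hcon ⟨(3 : Fin 7), h⟩, fun h => hcon ⟨(4 : Fin 7), h⟩, fun h => hcon ⟨(5 : Fin 7), h⟩, fun h => hcon ⟨(6 : Fin 7), h⟩⟩, hy⟩
                        · exact hq_4 ⟨y, ⟨fun h => hcon ⟨(0 : Fin 7), h⟩, fun h => hcon ⟨(1 : Fin 7), h⟩, fun h => hcon ⟨(2 : Fin 7), h⟩, fun h => hcon ⟨(3 : Fin 7), h⟩, fun h => hcon ⟨(4 : Fin 7), h⟩, fun h => hcon ⟨(5 : Fin 7), h⟩, fun h => hcon ⟨(6 : Fin 7), h⟩⟩, hy⟩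
                        · exact hq_5 ⟨y, ⟨fun h => hcon ⟨(0 : Fin 7), h⟩, fun h => hcon ⟨(1 : Fin 7), h⟩, fun h => hcon ⟨(2 : Fin 7), h⟩, fun h => hcon ⟨(3 : Fin 7), h⟩, fun h => hcon ⟨(4 : Fin 7), h⟩, fun h => hcon ⟨(5 : Fin 7), h⟩, fun h => hcon ⟨(6 : Fin 7), h⟩⟩, hy⟩
                        · exact hq_6 ⟨y, ⟨fun h => hcon ⟨(0 : Fin 7), h⟩, fun h => hcon ⟨(1 : Fin 7), h⟩, fun h => hcon ⟨(2 : Fin 7), h⟩, fun h => hcon ⟨(3 : Fin 7), h⟩, fun h => hcon ⟨(4 : Fin 7), h⟩, fun h => hcon ⟨(5 : Fin 7), h⟩, fun h => hcon ⟨(6 : Fin 7), h⟩⟩, hy⟩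
        · by_cases hq_4 : ∃ y, (y ≠ x0 ∧ y ≠ x1 ∧ y ≠ x2 ∧ y ≠ x3 ∧ y ≠ x4 ∧ y ≠ x5) ∧ T.a x4 y ≠ 0
          · obtain ⟨x6, ⟨hn0, hn1, hn2, hn3, hn4, hn5⟩, hadj_4_6⟩ := hq_4
            have hne_0_6 : x0 ≠ x6 := hn0.symm
            have hne_1_6 : x1 ≠ x6 := hn1.symm
            have hne_2_6 : x2 ≠ x6 := hn2.symm
            have hne_3_6 : x3 ≠ x6 := hn3.symm
            have hne_4_6 : x4 ≠ x6 := hn4.symm
            have hne_5_6 : x5 ≠ x6 := hn5.symm
            have hadj_6_4 : T.a x6 x4 ≠ 0 := by rw [hsym]; exact hadj_4_6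
            have hl_4_6 := NT.lb1 T _ _ hne_4_6 hadj_4_6
            have hl_6_4 := NT.lb1 T _ _ hne_4_6.symm hadj_6_4
            have hs_4_6 : T.a x4 x6 = T.a x6 x4 := hsym _ _
            have hz_0_6 : T.a x0 x6 = 0 := by
              by_contra hadj_0_6
              have hadj_6_0 : T.a x6 x0 ≠ 0 := by rw [hsym]; exact hadj_0_6
              have hl_0_6 := NT.lb1 T _ _ hne_0_6 hadj_0_6
              have hl_6_0 := NT.lb1 T _ _ hne_0_6.symm hadj_6_0
              have hs_0_6 : T.a x0 x6 = T.a x6 x0 := hsym _ _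
              refine NT.cert4 T x0 x3 x4 x6 hne_0_3 hne_0_4 hne_0_6 hne_3_4 hne_3_6 hne_4_6 (by norm_num) 1 1 1 1 (by norm_num) (by norm_num) (by norm_num) (by norm_num) ?_ ?_ ?_ ?_
              · linarith only [hd x0, hwp x0, hl_0_3, hnn x0 x4 hne_0_4, hl_0_6]
              · linarith only [hd x3, hwp x3, hl_3_0, hl_3_4, hnn x3 x6 hne_3_6]
              · linarith only [hd x4, hwp x4, hnn x4 x0 hne_0_4.symm, hl_4_3, hl_4_6]
              · linarith only [hd x6, hwp x6, hl_6_0, hnn x6 x3 hne_3_6.symm, hl_6_4]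
            have hz_6_0 : T.a x6 x0 = 0 := by rw [hsym]; exact hz_0_6
            have hz_1_6 : T.a x1 x6 = 0 := by
              by_contra hadj_1_6
              have hadj_6_1 : T.a x6 x1 ≠ 0 := by rw [hsym]; exact hadj_1_6
              have hl_1_6 := NT.lb1 T _ _ hne_1_6 hadj_1_6
              have hl_6_1 := NT.lb1 T _ _ hne_1_6.symm hadj_6_1
              have hs_1_6 : T.a x1 x6 = T.a x6 x1 := hsym _ _
              refine NT.cert5 T x0 x1 x3 x4 x6 hne_0_1 hne_0_3 hne_0_4 hne_0_6 hne_1_3 hne_1_4 hne_1_6 hne_3_4 hne_3_6 hne_4_6 (by norm_num) 1 1 1 1 1 (by norm_num) (by norm_num) (by norm_num) (by norm_num) (by norm_num) ?_ ?_ ?_ ?_ ?_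
              · linarith only [hd x0, hwp x0, hl_0_1, hl_0_3, hnn x0 x4 hne_0_4, hnn x0 x6 hne_0_6]
              · linarith only [hd x1, hwp x1, hl_1_0, hnn x1 x3 hne_1_3, hnn x1 x4 hne_1_4, hl_1_6]
              · linarith only [hd x3, hwp x3, hl_3_0, hnn x3 x1 hne_1_3.symm, hl_3_4, hnn x3 x6 hne_3_6]
              · linarith only [hd x4, hwp x4, hnn x4 x0 hne_0_4.symm, hnn x4 x1 hne_1_4.symm, hl_4_3, hl_4_6]
              · linarith only [hd x6, hwp x6, hnn x6 x0 hne_0_6.symm, hl_6_1, hnn x6 x3 hne_3_6.symm, hl_6_4]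
            have hz_6_1 : T.a x6 x1 = 0 := by rw [hsym]; exact hz_1_6
            have hz_2_6 : T.a x2 x6 = 0 := by
              by_contra hadj_2_6
              have hadj_6_2 : T.a x6 x2 ≠ 0 := by rw [hsym]; exact hadj_2_6
              have hl_2_6 := NT.lb1 T _ _ hne_2_6 hadj_2_6
              have hl_6_2 := NT.lb1 T _ _ hne_2_6.symm hadj_6_2
              have hs_2_6 : T.a x2 x6 = T.a x6 x2 := hsym _ _
              refine NT.cert5 T x0 x2 x3 x4 x6 hne_0_2 hne_0_3 hne_0_4 hne_0_6 hne_2_3 hne_2_4 hne_2_6 hne_3_4 hne_3_6 hne_4_6 (by norm_num) 1 1 1 1 1 (by norm_num) (by norm_num) (by norm_num) (by norm_num) (by norm_num) ?_ ?_ ?_ ?_ ?_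
              · linarith only [hd x0, hwp x0, hl_0_2, hl_0_3, hnn x0 x4 hne_0_4, hnn x0 x6 hne_0_6]
              · linarith only [hd x2, hwp x2, hl_2_0, hnn x2 x3 hne_2_3, hnn x2 x4 hne_2_4, hl_2_6]
              · linarith only [hd x3, hwp x3, hl_3_0, hnn x3 x2 hne_2_3.symm, hl_3_4, hnn x3 x6 hne_3_6]
              · linarith only [hd x4, hwp x4, hnn x4 x0 hne_0_4.symm, hnn x4 x2 hne_2_4.symm, hl_4_3, hl_4_6]
              · linarith only [hd x6, hwp x6, hnn x6 x0 hne_0_6.symm, hl_6_2, hnn x6 x3 hne_3_6.symm, hl_6_4]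
            have hz_6_2 : T.a x6 x2 = 0 := by rw [hsym]; exact hz_2_6
            have hz_3_6 : T.a x3 x6 = 0 := by
              by_contra hadj_3_6
              have hadj_6_3 : T.a x6 x3 ≠ 0 := by rw [hsym]; exact hadj_3_6
              have hl_3_6 := NT.lb1 T _ _ hne_3_6 hadj_3_6
              have hl_6_3 := NT.lb1 T _ _ hne_3_6.symm hadj_6_3
              have hs_3_6 : T.a x3 x6 = T.a x6 x3 := hsym _ _
              refine NT.cert3 T x3 x4 x6 hne_3_4 hne_3_6 hne_4_6 (by norm_num) 1 1 1 (by norm_num) (by norm_num) (by norm_num) ?_ ?_ ?_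
              · linarith only [hd x3, hwp x3, hl_3_4, hl_3_6]
              · linarith only [hd x4, hwp x4, hl_4_3, hl_4_6]
              · linarith only [hd x6, hwp x6, hl_6_3, hl_6_4]
            have hz_6_3 : T.a x6 x3 = 0 := by rw [hsym]; exact hz_3_6
            have hz_5_6 : T.a x5 x6 = 0 := by
              by_contra h
              exact hq_5 ⟨x6, ⟨hne_0_6.symm, hne_1_6.symm, hne_2_6.symm, hne_3_6.symm, hne_4_6.symm, hne_5_6.symm⟩, h⟩
            have hz_6_5 : T.a x6 x5 = 0 := by rw [hsym]; exact hz_5_6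
            exfalso
            refine NT.cert7 T x0 x1 x2 x3 x4 x5 x6 hne_0_1 hne_0_2 hne_0_3 hne_0_4 hne_0_5 hne_0_6 hne_1_2 hne_1_3 hne_1_4 hne_1_5 hne_1_6 hne_2_3 hne_2_4 hne_2_5 hne_2_6 hne_3_4 hne_3_5 hne_3_6 hne_4_5 hne_4_6 hne_5_6 (by norm_num) 2 1 1 2 2 1 1 (by norm_num) (by norm_num) (by norm_num) (by norm_num) (by norm_num) (by norm_num) (by norm_num) ?_ ?_ ?_ ?_ ?_ ?_ ?_
            · linarith only [hd x0, hwp x0, hl_0_1, hl_0_2, hl_0_3, hnn x0 x4 hne_0_4, hnn x0 x5 hne_0_5, hnn x0 x6 hne_0_6]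
            · linarith only [hd x1, hwp x1, hl_1_0, hnn x1 x2 hne_1_2, hnn x1 x3 hne_1_3, hnn x1 x4 hne_1_4, hnn x1 x5 hne_1_5, hnn x1 x6 hne_1_6]
            · linarith only [hd x2, hwp x2, hl_2_0, hnn x2 x1 hne_1_2.symm, hnn x2 x3 hne_2_3, hnn x2 x4 hne_2_4, hnn x2 x5 hne_2_5, hnn x2 x6 hne_2_6]
            · linarith only [hd x3, hwp x3, hl_3_0, hnn x3 x1 hne_1_3.symm, hnn x3 x2 hne_2_3.symm, hl_3_4, hnn x3 x5 hne_3_5, hnn x3 x6 hne_3_6]
            · linarith only [hd x4, hwp x4, hnn x4 x0 hne_0_4.symm, hnn x4 x1 hne_1_4.symm, hnn x4 x2 hne_2_4.symm, hl_4_3, hl_4_5, hl_4_6]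
            · linarith only [hd x5, hwp x5, hnn x5 x0 hne_0_5.symm, hnn x5 x1 hne_1_5.symm, hnn x5 x2 hne_2_5.symm, hnn x5 x3 hne_3_5.symm, hl_5_4, hnn x5 x6 hne_5_6]
            · linarith only [hd x6, hwp x6, hnn x6 x0 hne_0_6.symm, hnn x6 x1 hne_1_6.symm, hnn x6 x2 hne_2_6.symm, hnn x6 x3 hne_3_6.symm, hl_6_4, hnn x6 x5 hne_5_6.symm]
          · by_cases hq_3 : ∃ y, (y ≠ x0 ∧ y ≠ x1 ∧ y ≠ x2 ∧ y ≠ x3 ∧ y ≠ x4 ∧ y ≠ x5) ∧ T.a x3 y ≠ 0
            · obtain ⟨x6, ⟨hn0, hn1, hn2, hn3, hn4, hn5⟩, hadj_3_6⟩ := hq_3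
              have hne_0_6 : x0 ≠ x6 := hn0.symm
              have hne_1_6 : x1 ≠ x6 := hn1.symm
              have hne_2_6 : x2 ≠ x6 := hn2.symm
              have hne_3_6 : x3 ≠ x6 := hn3.symm
              have hne_4_6 : x4 ≠ x6 := hn4.symm
              have hne_5_6 : x5 ≠ x6 := hn5.symm
              have hadj_6_3 : T.a x6 x3 ≠ 0 := by rw [hsym]; exact hadj_3_6
              have hl_3_6 := NT.lb1 T _ _ hne_3_6 hadj_3_6
              have hl_6_3 := NT.lb1 T _ _ hne_3_6.symm hadj_6_3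
              have hs_3_6 : T.a x3 x6 = T.a x6 x3 := hsym _ _
              have hz_0_6 : T.a x0 x6 = 0 := by
                by_contra hadj_0_6
                have hadj_6_0 : T.a x6 x0 ≠ 0 := by rw [hsym]; exact hadj_0_6
                have hl_0_6 := NT.lb1 T _ _ hne_0_6 hadj_0_6
                have hl_6_0 := NT.lb1 T _ _ hne_0_6.symm hadj_6_0
                have hs_0_6 : T.a x0 x6 = T.a x6 x0 := hsym _ _
                refine NT.cert3 T x0 x3 x6 hne_0_3 hne_0_6 hne_3_6 (by norm_num) 1 1 1 (by norm_num) (by norm_num) (by norm_num) ?_ ?_ ?_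
                · linarith only [hd x0, hwp x0, hl_0_3, hl_0_6]
                · linarith only [hd x3, hwp x3, hl_3_0, hl_3_6]
                · linarith only [hd x6, hwp x6, hl_6_0, hl_6_3]
              have hz_6_0 : T.a x6 x0 = 0 := by rw [hsym]; exact hz_0_6
              have hz_1_6 : T.a x1 x6 = 0 := by
                by_contra hadj_1_6
                have hadj_6_1 : T.a x6 x1 ≠ 0 := by rw [hsym]; exact hadj_1_6
                have hl_1_6 := NT.lb1 T _ _ hne_1_6 hadj_1_6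
                have hl_6_1 := NT.lb1 T _ _ hne_1_6.symm hadj_6_1
                have hs_1_6 : T.a x1 x6 = T.a x6 x1 := hsym _ _
                refine NT.cert4 T x0 x1 x3 x6 hne_0_1 hne_0_3 hne_0_6 hne_1_3 hne_1_6 hne_3_6 (by norm_num) 1 1 1 1 (by norm_num) (by norm_num) (by norm_num) (by norm_num) ?_ ?_ ?_ ?_
                · linarith only [hd x0, hwp x0, hl_0_1, hl_0_3, hnn x0 x6 hne_0_6]
                · linarith only [hd x1, hwp x1, hl_1_0, hnn x1 x3 hne_1_3, hl_1_6]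
                · linarith only [hd x3, hwp x3, hl_3_0, hnn x3 x1 hne_1_3.symm, hl_3_6]
                · linarith only [hd x6, hwp x6, hnn x6 x0 hne_0_6.symm, hl_6_1, hl_6_3]
              have hz_6_1 : T.a x6 x1 = 0 := by rw [hsym]; exact hz_1_6
              have hz_2_6 : T.a x2 x6 = 0 := by
                by_contra hadj_2_6
                have hadj_6_2 : T.a x6 x2 ≠ 0 := by rw [hsym]; exact hadj_2_6
                have hl_2_6 := NT.lb1 T _ _ hne_2_6 hadj_2_6
                have hl_6_2 := NT.lb1 T _ _ hne_2_6.symm hadj_6_2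
                have hs_2_6 : T.a x2 x6 = T.a x6 x2 := hsym _ _
                refine NT.cert4 T x0 x2 x3 x6 hne_0_2 hne_0_3 hne_0_6 hne_2_3 hne_2_6 hne_3_6 (by norm_num) 1 1 1 1 (by norm_num) (by norm_num) (by norm_num) (by norm_num) ?_ ?_ ?_ ?_
                · linarith only [hd x0, hwp x0, hl_0_2, hl_0_3, hnn x0 x6 hne_0_6]
                · linarith only [hd x2, hwp x2, hl_2_0, hnn x2 x3 hne_2_3, hl_2_6]
                · linarith only [hd x3, hwp x3, hl_3_0, hnn x3 x2 hne_2_3.symm, hl_3_6]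
                · linarith only [hd x6, hwp x6, hnn x6 x0 hne_0_6.symm, hl_6_2, hl_6_3]
              have hz_6_2 : T.a x6 x2 = 0 := by rw [hsym]; exact hz_2_6
              have hz_4_6 : T.a x4 x6 = 0 := by
                by_contra h
                exact hq_4 ⟨x6, ⟨hne_0_6.symm, hne_1_6.symm, hne_2_6.symm, hne_3_6.symm, hne_4_6.symm, hne_5_6.symm⟩, h⟩
              have hz_6_4 : T.a x6 x4 = 0 := by rw [hsym]; exact hz_4_6
              have hz_5_6 : T.a x5 x6 = 0 := by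
                by_contra h
                exact hq_5 ⟨x6, ⟨hne_0_6.symm, hne_1_6.symm, hne_2_6.symm, hne_3_6.symm, hne_4_6.symm, hne_5_6.symm⟩, h⟩
              have hz_6_5 : T.a x6 x5 = 0 := by rw [hsym]; exact hz_5_6
              exfalso
              refine NT.cert6 T x0 x1 x2 x3 x4 x6 hne_0_1 hne_0_2 hne_0_3 hne_0_4 hne_0_6 hne_1_2 hne_1_3 hne_1_4 hne_1_6 hne_2_3 hne_2_4 hne_2_6 hne_3_4 hne_3_6 hne_4_6 (by norm_num) 2 1 1 2 1 1 (by norm_num) (by norm_num) (by norm_num) (by norm_num) (by norm_num) (by norm_num) ?_ ?_ ?_ ?_ ?_ ?_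
              · linarith only [hd x0, hwp x0, hl_0_1, hl_0_2, hl_0_3, hnn x0 x4 hne_0_4, hnn x0 x6 hne_0_6]
              · linarith only [hd x1, hwp x1, hl_1_0, hnn x1 x2 hne_1_2, hnn x1 x3 hne_1_3, hnn x1 x4 hne_1_4, hnn x1 x6 hne_1_6]
              · linarith only [hd x2, hwp x2, hl_2_0, hnn x2 x1 hne_1_2.symm, hnn x2 x3 hne_2_3, hnn x2 x4 hne_2_4, hnn x2 x6 hne_2_6]
              · linarith only [hd x3, hwp x3, hl_3_0, hnn x3 x1 hne_1_3.symm, hnn x3 x2 hne_2_3.symm, hl_3_4, hl_3_6]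
              · linarith only [hd x4, hwp x4, hnn x4 x0 hne_0_4.symm, hnn x4 x1 hne_1_4.symm, hnn x4 x2 hne_2_4.symm, hl_4_3, hnn x4 x6 hne_4_6]
              · linarith only [hd x6, hwp x6, hnn x6 x0 hne_0_6.symm, hnn x6 x1 hne_1_6.symm, hnn x6 x2 hne_2_6.symm, hl_6_3, hnn x6 x4 hne_4_6.symm]
            · by_cases hq_2 : ∃ y, (y ≠ x0 ∧ y ≠ x1 ∧ y ≠ x2 ∧ y ≠ x3 ∧ y ≠ x4 ∧ y ≠ x5) ∧ T.a x2 y ≠ 0
              · obtain ⟨x6, ⟨hn0, hn1, hn2, hn3, hn4, hn5⟩, hadj_2_6⟩ := hq_2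
                have hne_0_6 : x0 ≠ x6 := hn0.symm
                have hne_1_6 : x1 ≠ x6 := hn1.symm
                have hne_2_6 : x2 ≠ x6 := hn2.symm
                have hne_3_6 : x3 ≠ x6 := hn3.symm
                have hne_4_6 : x4 ≠ x6 := hn4.symm
                have hne_5_6 : x5 ≠ x6 := hn5.symm
                have hadj_6_2 : T.a x6 x2 ≠ 0 := by rw [hsym]; exact hadj_2_6
                have hl_2_6 := NT.lb1 T _ _ hne_2_6 hadj_2_6
                have hl_6_2 := NT.lb1 T _ _ hne_2_6.symm hadj_6_2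
                have hs_2_6 : T.a x2 x6 = T.a x6 x2 := hsym _ _
                have hz_0_6 : T.a x0 x6 = 0 := by
                  by_contra hadj_0_6
                  have hadj_6_0 : T.a x6 x0 ≠ 0 := by rw [hsym]; exact hadj_0_6
                  have hl_0_6 := NT.lb1 T _ _ hne_0_6 hadj_0_6
                  have hl_6_0 := NT.lb1 T _ _ hne_0_6.symm hadj_6_0
                  have hs_0_6 : T.a x0 x6 = T.a x6 x0 := hsym _ _
                  refine NT.cert3 T x0 x2 x6 hne_0_2 hne_0_6 hne_2_6 (by norm_num) 1 1 1 (by norm_num) (by norm_num) (by norm_num) ?_ ?_ ?_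
                  · linarith only [hd x0, hwp x0, hl_0_2, hl_0_6]
                  · linarith only [hd x2, hwp x2, hl_2_0, hl_2_6]
                  · linarith only [hd x6, hwp x6, hl_6_0, hl_6_2]
                have hz_6_0 : T.a x6 x0 = 0 := by rw [hsym]; exact hz_0_6
                have hz_1_6 : T.a x1 x6 = 0 := by
                  by_contra hadj_1_6
                  have hadj_6_1 : T.a x6 x1 ≠ 0 := by rw [hsym]; exact hadj_1_6
                  have hl_1_6 := NT.lb1 T _ _ hne_1_6 hadj_1_6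
                  have hl_6_1 := NT.lb1 T _ _ hne_1_6.symm hadj_6_1
                  have hs_1_6 : T.a x1 x6 = T.a x6 x1 := hsym _ _
                  refine NT.cert4 T x0 x1 x2 x6 hne_0_1 hne_0_2 hne_0_6 hne_1_2 hne_1_6 hne_2_6 (by norm_num) 1 1 1 1 (by norm_num) (by norm_num) (by norm_num) (by norm_num) ?_ ?_ ?_ ?_
                  · linarith only [hd x0, hwp x0, hl_0_1, hl_0_2, hnn x0 x6 hne_0_6]
                  · linarith only [hd x1, hwp x1, hl_1_0, hnn x1 x2 hne_1_2, hl_1_6]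
                  · linarith only [hd x2, hwp x2, hl_2_0, hnn x2 x1 hne_1_2.symm, hl_2_6]
                  · linarith only [hd x6, hwp x6, hnn x6 x0 hne_0_6.symm, hl_6_1, hl_6_2]
                have hz_6_1 : T.a x6 x1 = 0 := by rw [hsym]; exact hz_1_6
                have hz_3_6 : T.a x3 x6 = 0 := by
                  by_contra h
                  exact hq_3 ⟨x6, ⟨hne_0_6.symm, hne_1_6.symm, hne_2_6.symm, hne_3_6.symm, hne_4_6.symm, hne_5_6.symm⟩, h⟩
                have hz_6_3 : T.a x6 x3 = 0 := by rw [hsym]; exact hz_3_6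
                have hz_4_6 : T.a x4 x6 = 0 := by
                  by_contra h
                  exact hq_4 ⟨x6, ⟨hne_0_6.symm, hne_1_6.symm, hne_2_6.symm, hne_3_6.symm, hne_4_6.symm, hne_5_6.symm⟩, h⟩
                have hz_6_4 : T.a x6 x4 = 0 := by rw [hsym]; exact hz_4_6
                have hz_5_6 : T.a x5 x6 = 0 := by
                  by_contra h
                  exact hq_5 ⟨x6, ⟨hne_0_6.symm, hne_1_6.symm, hne_2_6.symm, hne_3_6.symm, hne_4_6.symm, hne_5_6.symm⟩, h⟩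
                have hz_6_5 : T.a x6 x5 = 0 := by rw [hsym]; exact hz_5_6
                by_cases hq_6 : ∃ y, (y ≠ x0 ∧ y ≠ x1 ∧ y ≠ x2 ∧ y ≠ x3 ∧ y ≠ x4 ∧ y ≠ x5 ∧ y ≠ x6) ∧ T.a x6 y ≠ 0
                · obtain ⟨x7, ⟨hn0, hn1, hn2, hn3, hn4, hn5, hn6⟩, hadj_6_7⟩ := hq_6
                  have hne_0_7 : x0 ≠ x7 := hn0.symm
                  have hne_1_7 : x1 ≠ x7 := hn1.symm
                  have hne_2_7 : x2 ≠ x7 := hn2.symm
                  have hne_3_7 : x3 ≠ x7 := hn3.symm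
                  have hne_4_7 : x4 ≠ x7 := hn4.symm
                  have hne_5_7 : x5 ≠ x7 := hn5.symm
                  have hne_6_7 : x6 ≠ x7 := hn6.symm
                  have hadj_7_6 : T.a x7 x6 ≠ 0 := by rw [hsym]; exact hadj_6_7
                  have hl_6_7 := NT.lb1 T _ _ hne_6_7 hadj_6_7
                  have hl_7_6 := NT.lb1 T _ _ hne_6_7.symm hadj_7_6
                  have hs_6_7 : T.a x6 x7 = T.a x7 x6 := hsym _ _
                  have hz_0_7 : T.a x0 x7 = 0 := by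
                    by_contra hadj_0_7
                    have hadj_7_0 : T.a x7 x0 ≠ 0 := by rw [hsym]; exact hadj_0_7
                    have hl_0_7 := NT.lb1 T _ _ hne_0_7 hadj_0_7
                    have hl_7_0 := NT.lb1 T _ _ hne_0_7.symm hadj_7_0
                    have hs_0_7 : T.a x0 x7 = T.a x7 x0 := hsym _ _
                    refine NT.cert4 T x0 x2 x6 x7 hne_0_2 hne_0_6 hne_0_7 hne_2_6 hne_2_7 hne_6_7 (by norm_num) 1 1 1 1 (by norm_num) (by norm_num) (by norm_num) (by norm_num) ?_ ?_ ?_ ?_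
                    · linarith only [hd x0, hwp x0, hl_0_2, hnn x0 x6 hne_0_6, hl_0_7]
                    · linarith only [hd x2, hwp x2, hl_2_0, hl_2_6, hnn x2 x7 hne_2_7]
                    · linarith only [hd x6, hwp x6, hnn x6 x0 hne_0_6.symm, hl_6_2, hl_6_7]
                    · linarith only [hd x7, hwp x7, hl_7_0, hnn x7 x2 hne_2_7.symm, hl_7_6]
                  have hz_7_0 : T.a x7 x0 = 0 := by rw [hsym]; exact hz_0_7
                  have hz_1_7 : T.a x1 x7 = 0 := by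
                    by_contra hadj_1_7
                    have hadj_7_1 : T.a x7 x1 ≠ 0 := by rw [hsym]; exact hadj_1_7
                    have hl_1_7 := NT.lb1 T _ _ hne_1_7 hadj_1_7
                    have hl_7_1 := NT.lb1 T _ _ hne_1_7.symm hadj_7_1
                    have hs_1_7 : T.a x1 x7 = T.a x7 x1 := hsym _ _
                    refine NT.cert5 T x0 x1 x2 x6 x7 hne_0_1 hne_0_2 hne_0_6 hne_0_7 hne_1_2 hne_1_6 hne_1_7 hne_2_6 hne_2_7 hne_6_7 (by norm_num) 1 1 1 1 1 (by norm_num) (by norm_num) (by norm_num) (by norm_num) (by norm_num) ?_ ?_ ?_ ?_ ?_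
                    · linarith only [hd x0, hwp x0, hl_0_1, hl_0_2, hnn x0 x6 hne_0_6, hnn x0 x7 hne_0_7]
                    · linarith only [hd x1, hwp x1, hl_1_0, hnn x1 x2 hne_1_2, hnn x1 x6 hne_1_6, hl_1_7]
                    · linarith only [hd x2, hwp x2, hl_2_0, hnn x2 x1 hne_1_2.symm, hl_2_6, hnn x2 x7 hne_2_7]
                    · linarith only [hd x6, hwp x6, hnn x6 x0 hne_0_6.symm, hnn x6 x1 hne_1_6.symm, hl_6_2, hl_6_7]
                    · linarith only [hd x7, hwp x7, hnn x7 x0 hne_0_7.symm, hl_7_1, hnn x7 x2 hne_2_7.symm, hl_7_6]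
                  have hz_7_1 : T.a x7 x1 = 0 := by rw [hsym]; exact hz_1_7
                  have hz_2_7 : T.a x2 x7 = 0 := by
                    by_contra hadj_2_7
                    have hadj_7_2 : T.a x7 x2 ≠ 0 := by rw [hsym]; exact hadj_2_7
                    have hl_2_7 := NT.lb1 T _ _ hne_2_7 hadj_2_7
                    have hl_7_2 := NT.lb1 T _ _ hne_2_7.symm hadj_7_2
                    have hs_2_7 : T.a x2 x7 = T.a x7 x2 := hsym _ _
                    refine NT.cert3 T x2 x6 x7 hne_2_6 hne_2_7 hne_6_7 (by norm_num) 1 1 1 (by norm_num) (by norm_num) (by norm_num) ?_ ?_ ?_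
                    · linarith only [hd x2, hwp x2, hl_2_6, hl_2_7]
                    · linarith only [hd x6, hwp x6, hl_6_2, hl_6_7]
                    · linarith only [hd x7, hwp x7, hl_7_2, hl_7_6]
                  have hz_7_2 : T.a x7 x2 = 0 := by rw [hsym]; exact hz_2_7
                  have hz_3_7 : T.a x3 x7 = 0 := by
                    by_contra h
                    exact hq_3 ⟨x7, ⟨hne_0_7.symm, hne_1_7.symm, hne_2_7.symm, hne_3_7.symm, hne_4_7.symm, hne_5_7.symm⟩, h⟩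
                  have hz_7_3 : T.a x7 x3 = 0 := by rw [hsym]; exact hz_3_7
                  have hz_4_7 : T.a x4 x7 = 0 := by
                    by_contra h
                    exact hq_4 ⟨x7, ⟨hne_0_7.symm, hne_1_7.symm, hne_2_7.symm, hne_3_7.symm, hne_4_7.symm, hne_5_7.symm⟩, h⟩
                  have hz_7_4 : T.a x7 x4 = 0 := by rw [hsym]; exact hz_4_7
                  have hz_5_7 : T.a x5 x7 = 0 := by
                    by_contra h
                    exact hq_5 ⟨x7, ⟨hne_0_7.symm, hne_1_7.symm, hne_2_7.symm, hne_3_7.symm, hne_4_7.symm, hne_5_7.symm⟩, h⟩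
                  have hz_7_5 : T.a x7 x5 = 0 := by rw [hsym]; exact hz_5_7
                  exact G8.shape4 T hall x0 x1 x2 x3 x4 x5 x6 x7 hne_0_1 hne_0_2 hne_0_3 hne_0_4 hne_0_5 hne_0_6 hne_0_7 hne_1_2 hne_1_3 hne_1_4 hne_1_5 hne_1_6 hne_1_7 hne_2_3 hne_2_4 hne_2_5 hne_2_6 hne_2_7 hne_3_4 hne_3_5 hne_3_6 hne_3_7 hne_4_5 hne_4_6 hne_4_7 hne_5_6 hne_5_7 hne_6_7 hadj_0_1 hadj_0_2 hadj_0_3 hz_0_4 hz_0_5 hz_0_6 hz_0_7 hz_1_2 hz_1_3 hz_1_4 hz_1_5 hz_1_6 hz_1_7 hz_2_3 hz_2_4 hz_2_5 hadj_2_6 hz_2_7 hadj_3_4 hz_3_5 hz_3_6 hz_3_7 hadj_4_5 hz_4_6 hz_4_7 hz_5_6 hz_5_7 hadj_6_7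
                · by_cases hq_2 : ∃ y, (y ≠ x0 ∧ y ≠ x1 ∧ y ≠ x2 ∧ y ≠ x3 ∧ y ≠ x4 ∧ y ≠ x5 ∧ y ≠ x6) ∧ T.a x2 y ≠ 0
                  · obtain ⟨x7, ⟨hn0, hn1, hn2, hn3, hn4, hn5, hn6⟩, hadj_2_7⟩ := hq_2
                    have hne_0_7 : x0 ≠ x7 := hn0.symm
                    have hne_1_7 : x1 ≠ x7 := hn1.symm
                    have hne_2_7 : x2 ≠ x7 := hn2.symm
                    have hne_3_7 : x3 ≠ x7 := hn3.symm
                    have hne_4_7 : x4 ≠ x7 := hn4.symm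
                    have hne_5_7 : x5 ≠ x7 := hn5.symm
                    have hne_6_7 : x6 ≠ x7 := hn6.symm
                    have hadj_7_2 : T.a x7 x2 ≠ 0 := by rw [hsym]; exact hadj_2_7
                    have hl_2_7 := NT.lb1 T _ _ hne_2_7 hadj_2_7
                    have hl_7_2 := NT.lb1 T _ _ hne_2_7.symm hadj_7_2
                    have hs_2_7 : T.a x2 x7 = T.a x7 x2 := hsym _ _
                    have hz_0_7 : T.a x0 x7 = 0 := by
                      by_contra hadj_0_7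
                      have hadj_7_0 : T.a x7 x0 ≠ 0 := by rw [hsym]; exact hadj_0_7
                      have hl_0_7 := NT.lb1 T _ _ hne_0_7 hadj_0_7
                      have hl_7_0 := NT.lb1 T _ _ hne_0_7.symm hadj_7_0
                      have hs_0_7 : T.a x0 x7 = T.a x7 x0 := hsym _ _
                      refine NT.cert3 T x0 x2 x7 hne_0_2 hne_0_7 hne_2_7 (by norm_num) 1 1 1 (by norm_num) (by norm_num) (by norm_num) ?_ ?_ ?_
                      · linarith only [hd x0, hwp x0, hl_0_2, hl_0_7]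
                      · linarith only [hd x2, hwp x2, hl_2_0, hl_2_7]
                      · linarith only [hd x7, hwp x7, hl_7_0, hl_7_2]
                    have hz_7_0 : T.a x7 x0 = 0 := by rw [hsym]; exact hz_0_7
                    have hz_1_7 : T.a x1 x7 = 0 := by
                      by_contra hadj_1_7
                      have hadj_7_1 : T.a x7 x1 ≠ 0 := by rw [hsym]; exact hadj_1_7
                      have hl_1_7 := NT.lb1 T _ _ hne_1_7 hadj_1_7
                      have hl_7_1 := NT.lb1 T _ _ hne_1_7.symm hadj_7_1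
                      have hs_1_7 : T.a x1 x7 = T.a x7 x1 := hsym _ _
                      refine NT.cert4 T x0 x1 x2 x7 hne_0_1 hne_0_2 hne_0_7 hne_1_2 hne_1_7 hne_2_7 (by norm_num) 1 1 1 1 (by norm_num) (by norm_num) (by norm_num) (by norm_num) ?_ ?_ ?_ ?_
                      · linarith only [hd x0, hwp x0, hl_0_1, hl_0_2, hnn x0 x7 hne_0_7]
                      · linarith only [hd x1, hwp x1, hl_1_0, hnn x1 x2 hne_1_2, hl_1_7]
                      · linarith only [hd x2, hwp x2, hl_2_0, hnn x2 x1 hne_1_2.symm, hl_2_7]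
                      · linarith only [hd x7, hwp x7, hnn x7 x0 hne_0_7.symm, hl_7_1, hl_7_2]
                    have hz_7_1 : T.a x7 x1 = 0 := by rw [hsym]; exact hz_1_7
                    have hz_3_7 : T.a x3 x7 = 0 := by
                      by_contra h
                      exact hq_3 ⟨x7, ⟨hne_0_7.symm, hne_1_7.symm, hne_2_7.symm, hne_3_7.symm, hne_4_7.symm, hne_5_7.symm⟩, h⟩
                    have hz_7_3 : T.a x7 x3 = 0 := by rw [hsym]; exact hz_3_7
                    have hz_4_7 : T.a x4 x7 = 0 := by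
                      by_contra h
                      exact hq_4 ⟨x7, ⟨hne_0_7.symm, hne_1_7.symm, hne_2_7.symm, hne_3_7.symm, hne_4_7.symm, hne_5_7.symm⟩, h⟩
                    have hz_7_4 : T.a x7 x4 = 0 := by rw [hsym]; exact hz_4_7
                    have hz_5_7 : T.a x5 x7 = 0 := by
                      by_contra h
                      exact hq_5 ⟨x7, ⟨hne_0_7.symm, hne_1_7.symm, hne_2_7.symm, hne_3_7.symm, hne_4_7.symm, hne_5_7.symm⟩, h⟩
                    have hz_7_5 : T.a x7 x5 = 0 := by rw [hsym]; exact hz_5_7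
                    have hz_6_7 : T.a x6 x7 = 0 := by
                      by_contra h
                      exact hq_6 ⟨x7, ⟨hne_0_7.symm, hne_1_7.symm, hne_2_7.symm, hne_3_7.symm, hne_4_7.symm, hne_5_7.symm, hne_6_7.symm⟩, h⟩
                    have hz_7_6 : T.a x7 x6 = 0 := by rw [hsym]; exact hz_6_7
                    exfalso
                    refine NT.cert6 T x0 x1 x2 x3 x6 x7 hne_0_1 hne_0_2 hne_0_3 hne_0_6 hne_0_7 hne_1_2 hne_1_3 hne_1_6 hne_1_7 hne_2_3 hne_2_6 hne_2_7 hne_3_6 hne_3_7 hne_6_7 (by norm_num) 2 1 2 1 1 1 (by norm_num) (by norm_num) (by norm_num) (by norm_num) (by norm_num) (by norm_num) ?_ ?_ ?_ ?_ ?_ ?_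
                    · linarith only [hd x0, hwp x0, hl_0_1, hl_0_2, hl_0_3, hnn x0 x6 hne_0_6, hnn x0 x7 hne_0_7]
                    · linarith only [hd x1, hwp x1, hl_1_0, hnn x1 x2 hne_1_2, hnn x1 x3 hne_1_3, hnn x1 x6 hne_1_6, hnn x1 x7 hne_1_7]
                    · linarith only [hd x2, hwp x2, hl_2_0, hnn x2 x1 hne_1_2.symm, hnn x2 x3 hne_2_3, hl_2_6, hl_2_7]
                    · linarith only [hd x3, hwp x3, hl_3_0, hnn x3 x1 hne_1_3.symm, hnn x3 x2 hne_2_3.symm, hnn x3 x6 hne_3_6, hnn x3 x7 hne_3_7]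
                    · linarith only [hd x6, hwp x6, hnn x6 x0 hne_0_6.symm, hnn x6 x1 hne_1_6.symm, hl_6_2, hnn x6 x3 hne_3_6.symm, hnn x6 x7 hne_6_7]
                    · linarith only [hd x7, hwp x7, hnn x7 x0 hne_0_7.symm, hnn x7 x1 hne_1_7.symm, hl_7_2, hnn x7 x3 hne_3_7.symm, hnn x7 x6 hne_6_7.symm]
                  · by_cases hq_1 : ∃ y, (y ≠ x0 ∧ y ≠ x1 ∧ y ≠ x2 ∧ y ≠ x3 ∧ y ≠ x4 ∧ y ≠ x5 ∧ y ≠ x6) ∧ T.a x1 y ≠ 0
                    · obtain ⟨x7, ⟨hn0, hn1, hn2, hn3, hn4, hn5, hn6⟩, hadj_1_7⟩ := hq_1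
                      have hne_0_7 : x0 ≠ x7 := hn0.symm
                      have hne_1_7 : x1 ≠ x7 := hn1.symm
                      have hne_2_7 : x2 ≠ x7 := hn2.symm
                      have hne_3_7 : x3 ≠ x7 := hn3.symm
                      have hne_4_7 : x4 ≠ x7 := hn4.symm
                      have hne_5_7 : x5 ≠ x7 := hn5.symm
                      have hne_6_7 : x6 ≠ x7 := hn6.symm
                      have hadj_7_1 : T.a x7 x1 ≠ 0 := by rw [hsym]; exact hadj_1_7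
                      have hl_1_7 := NT.lb1 T _ _ hne_1_7 hadj_1_7
                      have hl_7_1 := NT.lb1 T _ _ hne_1_7.symm hadj_7_1
                      have hs_1_7 : T.a x1 x7 = T.a x7 x1 := hsym _ _
                      have hz_0_7 : T.a x0 x7 = 0 := by
                        by_contra hadj_0_7
                        have hadj_7_0 : T.a x7 x0 ≠ 0 := by rw [hsym]; exact hadj_0_7
                        have hl_0_7 := NT.lb1 T _ _ hne_0_7 hadj_0_7
                        have hl_7_0 := NT.lb1 T _ _ hne_0_7.symm hadj_7_0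
                        have hs_0_7 : T.a x0 x7 = T.a x7 x0 := hsym _ _
                        refine NT.cert3 T x0 x1 x7 hne_0_1 hne_0_7 hne_1_7 (by norm_num) 1 1 1 (by norm_num) (by norm_num) (by norm_num) ?_ ?_ ?_
                        · linarith only [hd x0, hwp x0, hl_0_1, hl_0_7]
                        · linarith only [hd x1, hwp x1, hl_1_0, hl_1_7]
                        · linarith only [hd x7, hwp x7, hl_7_0, hl_7_1]
                      have hz_7_0 : T.a x7 x0 = 0 := by rw [hsym]; exact hz_0_7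
                      have hz_2_7 : T.a x2 x7 = 0 := by
                        by_contra h
                        exact hq_2 ⟨x7, ⟨hne_0_7.symm, hne_1_7.symm, hne_2_7.symm, hne_3_7.symm, hne_4_7.symm, hne_5_7.symm, hne_6_7.symm⟩, h⟩
                      have hz_7_2 : T.a x7 x2 = 0 := by rw [hsym]; exact hz_2_7
                      have hz_3_7 : T.a x3 x7 = 0 := by
                        by_contra h
                        exact hq_3 ⟨x7, ⟨hne_0_7.symm, hne_1_7.symm, hne_2_7.symm, hne_3_7.symm, hne_4_7.symm, hne_5_7.symm⟩, h⟩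
                      have hz_7_3 : T.a x7 x3 = 0 := by rw [hsym]; exact hz_3_7
                      have hz_4_7 : T.a x4 x7 = 0 := by
                        by_contra h
                        exact hq_4 ⟨x7, ⟨hne_0_7.symm, hne_1_7.symm, hne_2_7.symm, hne_3_7.symm, hne_4_7.symm, hne_5_7.symm⟩, h⟩
                      have hz_7_4 : T.a x7 x4 = 0 := by rw [hsym]; exact hz_4_7
                      have hz_5_7 : T.a x5 x7 = 0 := by
                        by_contra h
                        exact hq_5 ⟨x7, ⟨hne_0_7.symm, hne_1_7.symm, hne_2_7.symm, hne_3_7.symm, hne_4_7.symm, hne_5_7.symm⟩, h⟩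
                      have hz_7_5 : T.a x7 x5 = 0 := by rw [hsym]; exact hz_5_7
                      have hz_6_7 : T.a x6 x7 = 0 := by
                        by_contra h
                        exact hq_6 ⟨x7, ⟨hne_0_7.symm, hne_1_7.symm, hne_2_7.symm, hne_3_7.symm, hne_4_7.symm, hne_5_7.symm, hne_6_7.symm⟩, h⟩
                      have hz_7_6 : T.a x7 x6 = 0 := by rw [hsym]; exact hz_6_7
                      exfalso
                      refine NT.cert7 T x0 x1 x2 x3 x4 x6 x7 hne_0_1 hne_0_2 hne_0_3 hne_0_4 hne_0_6 hne_0_7 hne_1_2 hne_1_3 hne_1_4 hne_1_6 hne_1_7 hne_2_3 hne_2_4 hne_2_6 hne_2_7 hne_3_4 hne_3_6 hne_3_7 hne_4_6 hne_4_7 hne_6_7 (by norm_num) 3 2 2 2 1 1 1 (by norm_num) (by norm_num) (by norm_num) (by norm_num) (by norm_num) (by norm_num) (by norm_num) ?_ ?_ ?_ ?_ ?_ ?_ ?_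
                      · linarith only [hd x0, hwp x0, hl_0_1, hl_0_2, hl_0_3, hnn x0 x4 hne_0_4, hnn x0 x6 hne_0_6, hnn x0 x7 hne_0_7]
                      · linarith only [hd x1, hwp x1, hl_1_0, hnn x1 x2 hne_1_2, hnn x1 x3 hne_1_3, hnn x1 x4 hne_1_4, hnn x1 x6 hne_1_6, hl_1_7]
                      · linarith only [hd x2, hwp x2, hl_2_0, hnn x2 x1 hne_1_2.symm, hnn x2 x3 hne_2_3, hnn x2 x4 hne_2_4, hl_2_6, hnn x2 x7 hne_2_7]
                      · linarith only [hd x3, hwp x3, hl_3_0, hnn x3 x1 hne_1_3.symm, hnn x3 x2 hne_2_3.symm, hl_3_4, hnn x3 x6 hne_3_6, hnn x3 x7 hne_3_7]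
                      · linarith only [hd x4, hwp x4, hnn x4 x0 hne_0_4.symm, hnn x4 x1 hne_1_4.symm, hnn x4 x2 hne_2_4.symm, hl_4_3, hnn x4 x6 hne_4_6, hnn x4 x7 hne_4_7]
                      · linarith only [hd x6, hwp x6, hnn x6 x0 hne_0_6.symm, hnn x6 x1 hne_1_6.symm, hl_6_2, hnn x6 x3 hne_3_6.symm, hnn x6 x4 hne_4_6.symm, hnn x6 x7 hne_6_7]
                      · linarith only [hd x7, hwp x7, hnn x7 x0 hne_0_7.symm, hl_7_1, hnn x7 x2 hne_2_7.symm, hnn x7 x3 hne_3_7.symm, hnn x7 x4 hne_4_7.symm, hnn x7 x6 hne_6_7.symm]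
                    · by_cases hq_0 : ∃ y, (y ≠ x0 ∧ y ≠ x1 ∧ y ≠ x2 ∧ y ≠ x3 ∧ y ≠ x4 ∧ y ≠ x5 ∧ y ≠ x6) ∧ T.a x0 y ≠ 0
                      · obtain ⟨x7, ⟨hn0, hn1, hn2, hn3, hn4, hn5, hn6⟩, hadj_0_7⟩ := hq_0
                        have hne_0_7 : x0 ≠ x7 := hn0.symm
                        have hne_1_7 : x1 ≠ x7 := hn1.symm
                        have hne_2_7 : x2 ≠ x7 := hn2.symm
                        have hne_3_7 : x3 ≠ x7 := hn3.symm
                        have hne_4_7 : x4 ≠ x7 := hn4.symm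
                        have hne_5_7 : x5 ≠ x7 := hn5.symm
                        have hne_6_7 : x6 ≠ x7 := hn6.symm
                        have hadj_7_0 : T.a x7 x0 ≠ 0 := by rw [hsym]; exact hadj_0_7
                        have hl_0_7 := NT.lb1 T _ _ hne_0_7 hadj_0_7
                        have hl_7_0 := NT.lb1 T _ _ hne_0_7.symm hadj_7_0
                        have hs_0_7 : T.a x0 x7 = T.a x7 x0 := hsym _ _
                        have hz_1_7 : T.a x1 x7 = 0 := by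
                          by_contra h
                          exact hq_1 ⟨x7, ⟨hne_0_7.symm, hne_1_7.symm, hne_2_7.symm, hne_3_7.symm, hne_4_7.symm, hne_5_7.symm, hne_6_7.symm⟩, h⟩
                        have hz_7_1 : T.a x7 x1 = 0 := by rw [hsym]; exact hz_1_7
                        have hz_2_7 : T.a x2 x7 = 0 := by
                          by_contra h
                          exact hq_2 ⟨x7, ⟨hne_0_7.symm, hne_1_7.symm, hne_2_7.symm, hne_3_7.symm, hne_4_7.symm, hne_5_7.symm, hne_6_7.symm⟩, h⟩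
                        have hz_7_2 : T.a x7 x2 = 0 := by rw [hsym]; exact hz_2_7
                        have hz_3_7 : T.a x3 x7 = 0 := by
                          by_contra h
                          exact hq_3 ⟨x7, ⟨hne_0_7.symm, hne_1_7.symm, hne_2_7.symm, hne_3_7.symm, hne_4_7.symm, hne_5_7.symm⟩, h⟩
                        have hz_7_3 : T.a x7 x3 = 0 := by rw [hsym]; exact hz_3_7
                        have hz_4_7 : T.a x4 x7 = 0 := by
                          by_contra h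
                          exact hq_4 ⟨x7, ⟨hne_0_7.symm, hne_1_7.symm, hne_2_7.symm, hne_3_7.symm, hne_4_7.symm, hne_5_7.symm⟩, h⟩
                        have hz_7_4 : T.a x7 x4 = 0 := by rw [hsym]; exact hz_4_7
                        have hz_5_7 : T.a x5 x7 = 0 := by
                          by_contra h
                          exact hq_5 ⟨x7, ⟨hne_0_7.symm, hne_1_7.symm, hne_2_7.symm, hne_3_7.symm, hne_4_7.symm, hne_5_7.symm⟩, h⟩
                        have hz_7_5 : T.a x7 x5 = 0 := by rw [hsym]; exact hz_5_7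
                        have hz_6_7 : T.a x6 x7 = 0 := by
                          by_contra h
                          exact hq_6 ⟨x7, ⟨hne_0_7.symm, hne_1_7.symm, hne_2_7.symm, hne_3_7.symm, hne_4_7.symm, hne_5_7.symm, hne_6_7.symm⟩, h⟩
                        have hz_7_6 : T.a x7 x6 = 0 := by rw [hsym]; exact hz_6_7
                        exfalso
                        refine NT.cert5 T x0 x1 x2 x3 x7 hne_0_1 hne_0_2 hne_0_3 hne_0_7 hne_1_2 hne_1_3 hne_1_7 hne_2_3 hne_2_7 hne_3_7 (by norm_num) 2 1 1 1 1 (by norm_num) (by norm_num) (by norm_num) (by norm_num) (by norm_num) ?_ ?_ ?_ ?_ ?_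
                        · linarith only [hd x0, hwp x0, hl_0_1, hl_0_2, hl_0_3, hl_0_7]
                        · linarith only [hd x1, hwp x1, hl_1_0, hnn x1 x2 hne_1_2, hnn x1 x3 hne_1_3, hnn x1 x7 hne_1_7]
                        · linarith only [hd x2, hwp x2, hl_2_0, hnn x2 x1 hne_1_2.symm, hnn x2 x3 hne_2_3, hnn x2 x7 hne_2_7]
                        · linarith only [hd x3, hwp x3, hl_3_0, hnn x3 x1 hne_1_3.symm, hnn x3 x2 hne_2_3.symm, hnn x3 x7 hne_3_7]
                        · linarith only [hd x7, hwp x7, hl_7_0, hnn x7 x1 hne_1_7.symm, hnn x7 x2 hne_2_7.symm, hnn x7 x3 hne_3_7.symm]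
                      · exfalso
                        refine NT.not_closed T ![x0, x1, x2, x3, x4, x5, x6] (by norm_num) (by norm_num) ?_
                        intro s y hy
                        by_contra hcon
                        fin_cases s
                        · exact hq_0 ⟨y, ⟨fun h => hcon ⟨(0 : Fin 7), h⟩, fun h => hcon ⟨(1 : Fin 7), h⟩, fun h => hcon ⟨(2 : Fin 7), h⟩, fun h => hcon ⟨(3 : Fin 7), h⟩, fun h => hcon ⟨(4 : Fin 7), h⟩, fun h => hcon ⟨(5 : Fin 7), h⟩, fun h => hcon ⟨(6 : Fin 7), h⟩⟩, hy⟩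
                        · exact hq_1 ⟨y, ⟨fun h => hcon ⟨(0 : Fin 7), h⟩, fun h => hcon ⟨(1 : Fin 7), h⟩, fun h => hcon ⟨(2 : Fin 7), h⟩, fun h => hcon ⟨(3 : Fin 7), h⟩, fun h => hcon ⟨(4 : Fin 7), h⟩, fun h => hcon ⟨(5 : Fin 7), h⟩, fun h => hcon ⟨(6 : Fin 7), h⟩⟩, hy⟩
                        · exact hq_2 ⟨y, ⟨fun h => hcon ⟨(0 : Fin 7), h⟩, fun h => hcon ⟨(1 : Fin 7), h⟩, fun h => hcon ⟨(2 : Fin 7), h⟩, fun h => hcon ⟨(3 : Fin 7), h⟩, fun h => hcon ⟨(4 : Fin 7), h⟩, fun h => hcon ⟨(5 : Fin 7), h⟩, fun h => hcon ⟨(6 : Fin 7), h⟩⟩, hy⟩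
                        · exact hq_3 ⟨y, ⟨fun h => hcon ⟨(0 : Fin 7), h⟩, fun h => hcon ⟨(1 : Fin 7), h⟩, fun h => hcon ⟨(2 : Fin 7), h⟩, fun h => hcon ⟨(3 : Fin 7), h⟩, fun h => hcon ⟨(4 : Fin 7), h⟩, fun h => hcon ⟨(5 : Fin 7), h⟩⟩, hy⟩
                        · exact hq_4 ⟨y, ⟨fun h => hcon ⟨(0 : Fin 7), h⟩, fun h => hcon ⟨(1 : Fin 7), h⟩, fun h => hcon ⟨(2 : Fin 7), h⟩, fun h => hcon ⟨(3 : Fin 7), h⟩, fun h => hcon ⟨(4 : Fin 7), h⟩, fun h => hcon ⟨(5 : Fin 7), h⟩⟩, hy⟩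
                        · exact hq_5 ⟨y, ⟨fun h => hcon ⟨(0 : Fin 7), h⟩, fun h => hcon ⟨(1 : Fin 7), h⟩, fun h => hcon ⟨(2 : Fin 7), h⟩, fun h => hcon ⟨(3 : Fin 7), h⟩, fun h => hcon ⟨(4 : Fin 7), h⟩, fun h => hcon ⟨(5 : Fin 7), h⟩⟩, hy⟩
                        · exact hq_6 ⟨y, ⟨fun h => hcon ⟨(0 : Fin 7), h⟩, fun h => hcon ⟨(1 : Fin 7), h⟩, fun h => hcon ⟨(2 : Fin 7), h⟩, fun h => hcon ⟨(3 : Fin 7), h⟩, fun h => hcon ⟨(4 : Fin 7), h⟩, fun h => hcon ⟨(5 : Fin 7), h⟩, fun h => hcon ⟨(6 : Fin 7), h⟩⟩, hy⟩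
              · by_cases hq_1 : ∃ y, (y ≠ x0 ∧ y ≠ x1 ∧ y ≠ x2 ∧ y ≠ x3 ∧ y ≠ x4 ∧ y ≠ x5) ∧ T.a x1 y ≠ 0
                · obtain ⟨x6, ⟨hn0, hn1, hn2, hn3, hn4, hn5⟩, hadj_1_6⟩ := hq_1
                  have hne_0_6 : x0 ≠ x6 := hn0.symm
                  have hne_1_6 : x1 ≠ x6 := hn1.symm
                  have hne_2_6 : x2 ≠ x6 := hn2.symm
                  have hne_3_6 : x3 ≠ x6 := hn3.symm
                  have hne_4_6 : x4 ≠ x6 := hn4.symm
                  have hne_5_6 : x5 ≠ x6 := hn5.symm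
                  have hadj_6_1 : T.a x6 x1 ≠ 0 := by rw [hsym]; exact hadj_1_6
                  have hl_1_6 := NT.lb1 T _ _ hne_1_6 hadj_1_6
                  have hl_6_1 := NT.lb1 T _ _ hne_1_6.symm hadj_6_1
                  have hs_1_6 : T.a x1 x6 = T.a x6 x1 := hsym _ _
                  have hz_0_6 : T.a x0 x6 = 0 := by
                    by_contra hadj_0_6
                    have hadj_6_0 : T.a x6 x0 ≠ 0 := by rw [hsym]; exact hadj_0_6
                    have hl_0_6 := NT.lb1 T _ _ hne_0_6 hadj_0_6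
                    have hl_6_0 := NT.lb1 T _ _ hne_0_6.symm hadj_6_0
                    have hs_0_6 : T.a x0 x6 = T.a x6 x0 := hsym _ _
                    refine NT.cert3 T x0 x1 x6 hne_0_1 hne_0_6 hne_1_6 (by norm_num) 1 1 1 (by norm_num) (by norm_num) (by norm_num) ?_ ?_ ?_
                    · linarith only [hd x0, hwp x0, hl_0_1, hl_0_6]
                    · linarith only [hd x1, hwp x1, hl_1_0, hl_1_6]
                    · linarith only [hd x6, hwp x6, hl_6_0, hl_6_1]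
                  have hz_6_0 : T.a x6 x0 = 0 := by rw [hsym]; exact hz_0_6
                  have hz_2_6 : T.a x2 x6 = 0 := by
                    by_contra h
                    exact hq_2 ⟨x6, ⟨hne_0_6.symm, hne_1_6.symm, hne_2_6.symm, hne_3_6.symm, hne_4_6.symm, hne_5_6.symm⟩, h⟩
                  have hz_6_2 : T.a x6 x2 = 0 := by rw [hsym]; exact hz_2_6
                  have hz_3_6 : T.a x3 x6 = 0 := by
                    by_contra h
                    exact hq_3 ⟨x6, ⟨hne_0_6.symm, hne_1_6.symm, hne_2_6.symm, hne_3_6.symm, hne_4_6.symm, hne_5_6.symm⟩, h⟩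
                  have hz_6_3 : T.a x6 x3 = 0 := by rw [hsym]; exact hz_3_6
                  have hz_4_6 : T.a x4 x6 = 0 := by
                    by_contra h
                    exact hq_4 ⟨x6, ⟨hne_0_6.symm, hne_1_6.symm, hne_2_6.symm, hne_3_6.symm, hne_4_6.symm, hne_5_6.symm⟩, h⟩
                  have hz_6_4 : T.a x6 x4 = 0 := by rw [hsym]; exact hz_4_6
                  have hz_5_6 : T.a x5 x6 = 0 := by
                    by_contra h
                    exact hq_5 ⟨x6, ⟨hne_0_6.symm, hne_1_6.symm, hne_2_6.symm, hne_3_6.symm, hne_4_6.symm, hne_5_6.symm⟩, h⟩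
                  have hz_6_5 : T.a x6 x5 = 0 := by rw [hsym]; exact hz_5_6
                  by_cases hq_6 : ∃ y, (y ≠ x0 ∧ y ≠ x1 ∧ y ≠ x2 ∧ y ≠ x3 ∧ y ≠ x4 ∧ y ≠ x5 ∧ y ≠ x6) ∧ T.a x6 y ≠ 0
                  · obtain ⟨x7, ⟨hn0, hn1, hn2, hn3, hn4, hn5, hn6⟩, hadj_6_7⟩ := hq_6
                    have hne_0_7 : x0 ≠ x7 := hn0.symm
                    have hne_1_7 : x1 ≠ x7 := hn1.symm
                    have hne_2_7 : x2 ≠ x7 := hn2.symm
                    have hne_3_7 : x3 ≠ x7 := hn3.symm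
                    have hne_4_7 : x4 ≠ x7 := hn4.symm
                    have hne_5_7 : x5 ≠ x7 := hn5.symm
                    have hne_6_7 : x6 ≠ x7 := hn6.symm
                    have hadj_7_6 : T.a x7 x6 ≠ 0 := by rw [hsym]; exact hadj_6_7
                    have hl_6_7 := NT.lb1 T _ _ hne_6_7 hadj_6_7
                    have hl_7_6 := NT.lb1 T _ _ hne_6_7.symm hadj_7_6
                    have hs_6_7 : T.a x6 x7 = T.a x7 x6 := hsym _ _
                    have hz_0_7 : T.a x0 x7 = 0 := by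
                      by_contra hadj_0_7
                      have hadj_7_0 : T.a x7 x0 ≠ 0 := by rw [hsym]; exact hadj_0_7
                      have hl_0_7 := NT.lb1 T _ _ hne_0_7 hadj_0_7
                      have hl_7_0 := NT.lb1 T _ _ hne_0_7.symm hadj_7_0
                      have hs_0_7 : T.a x0 x7 = T.a x7 x0 := hsym _ _
                      refine NT.cert4 T x0 x1 x6 x7 hne_0_1 hne_0_6 hne_0_7 hne_1_6 hne_1_7 hne_6_7 (by norm_num) 1 1 1 1 (by norm_num) (by norm_num) (by norm_num) (by norm_num) ?_ ?_ ?_ ?_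
                      · linarith only [hd x0, hwp x0, hl_0_1, hnn x0 x6 hne_0_6, hl_0_7]
                      · linarith only [hd x1, hwp x1, hl_1_0, hl_1_6, hnn x1 x7 hne_1_7]
                      · linarith only [hd x6, hwp x6, hnn x6 x0 hne_0_6.symm, hl_6_1, hl_6_7]
                      · linarith only [hd x7, hwp x7, hl_7_0, hnn x7 x1 hne_1_7.symm, hl_7_6]
                    have hz_7_0 : T.a x7 x0 = 0 := by rw [hsym]; exact hz_0_7
                    have hz_1_7 : T.a x1 x7 = 0 := by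
                      by_contra hadj_1_7
                      have hadj_7_1 : T.a x7 x1 ≠ 0 := by rw [hsym]; exact hadj_1_7
                      have hl_1_7 := NT.lb1 T _ _ hne_1_7 hadj_1_7
                      have hl_7_1 := NT.lb1 T _ _ hne_1_7.symm hadj_7_1
                      have hs_1_7 : T.a x1 x7 = T.a x7 x1 := hsym _ _
                      refine NT.cert3 T x1 x6 x7 hne_1_6 hne_1_7 hne_6_7 (by norm_num) 1 1 1 (by norm_num) (by norm_num) (by norm_num) ?_ ?_ ?_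
                      · linarith only [hd x1, hwp x1, hl_1_6, hl_1_7]
                      · linarith only [hd x6, hwp x6, hl_6_1, hl_6_7]
                      · linarith only [hd x7, hwp x7, hl_7_1, hl_7_6]
                    have hz_7_1 : T.a x7 x1 = 0 := by rw [hsym]; exact hz_1_7
                    have hz_2_7 : T.a x2 x7 = 0 := by
                      by_contra h
                      exact hq_2 ⟨x7, ⟨hne_0_7.symm, hne_1_7.symm, hne_2_7.symm, hne_3_7.symm, hne_4_7.symm, hne_5_7.symm⟩, h⟩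
                    have hz_7_2 : T.a x7 x2 = 0 := by rw [hsym]; exact hz_2_7
                    have hz_3_7 : T.a x3 x7 = 0 := by
                      by_contra h
                      exact hq_3 ⟨x7, ⟨hne_0_7.symm, hne_1_7.symm, hne_2_7.symm, hne_3_7.symm, hne_4_7.symm, hne_5_7.symm⟩, h⟩
                    have hz_7_3 : T.a x7 x3 = 0 := by rw [hsym]; exact hz_3_7
                    have hz_4_7 : T.a x4 x7 = 0 := by
                      by_contra h
                      exact hq_4 ⟨x7, ⟨hne_0_7.symm, hne_1_7.symm, hne_2_7.symm, hne_3_7.symm, hne_4_7.symm, hne_5_7.symm⟩, h⟩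
                    have hz_7_4 : T.a x7 x4 = 0 := by rw [hsym]; exact hz_4_7
                    have hz_5_7 : T.a x5 x7 = 0 := by
                      by_contra h
                      exact hq_5 ⟨x7, ⟨hne_0_7.symm, hne_1_7.symm, hne_2_7.symm, hne_3_7.symm, hne_4_7.symm, hne_5_7.symm⟩, h⟩
                    have hz_7_5 : T.a x7 x5 = 0 := by rw [hsym]; exact hz_5_7
                    exact G8.shape5 T hall x0 x1 x2 x3 x4 x5 x6 x7 hne_0_1 hne_0_2 hne_0_3 hne_0_4 hne_0_5 hne_0_6 hne_0_7 hne_1_2 hne_1_3 hne_1_4 hne_1_5 hne_1_6 hne_1_7 hne_2_3 hne_2_4 hne_2_5 hne_2_6 hne_2_7 hne_3_4 hne_3_5 hne_3_6 hne_3_7 hne_4_5 hne_4_6 hne_4_7 hne_5_6 hne_5_7 hne_6_7 hadj_0_1 hadj_0_2 hadj_0_3 hz_0_4 hz_0_5 hz_0_6 hz_0_7 hz_1_2 hz_1_3 hz_1_4 hz_1_5 hadj_1_6 hz_1_7 hz_2_3 hz_2_4 hz_2_5 hz_2_6 hz_2_7 hadj_3_4 hz_3_5 hz_3_6 hz_3_7 hadj_4_5 hz_4_6 hz_4_7 hz_5_6 hz_5_7 hadj_6_7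
                  · by_cases hq_1 : ∃ y, (y ≠ x0 ∧ y ≠ x1 ∧ y ≠ x2 ∧ y ≠ x3 ∧ y ≠ x4 ∧ y ≠ x5 ∧ y ≠ x6) ∧ T.a x1 y ≠ 0
                    · obtain ⟨x7, ⟨hn0, hn1, hn2, hn3, hn4, hn5, hn6⟩, hadj_1_7⟩ := hq_1
                      have hne_0_7 : x0 ≠ x7 := hn0.symm
                      have hne_1_7 : x1 ≠ x7 := hn1.symm
                      have hne_2_7 : x2 ≠ x7 := hn2.symm
                      have hne_3_7 : x3 ≠ x7 := hn3.symm
                      have hne_4_7 : x4 ≠ x7 := hn4.symm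
                      have hne_5_7 : x5 ≠ x7 := hn5.symm
                      have hne_6_7 : x6 ≠ x7 := hn6.symm
                      have hadj_7_1 : T.a x7 x1 ≠ 0 := by rw [hsym]; exact hadj_1_7
                      have hl_1_7 := NT.lb1 T _ _ hne_1_7 hadj_1_7
                      have hl_7_1 := NT.lb1 T _ _ hne_1_7.symm hadj_7_1
                      have hs_1_7 : T.a x1 x7 = T.a x7 x1 := hsym _ _
                      have hz_0_7 : T.a x0 x7 = 0 := by
                        by_contra hadj_0_7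
                        have hadj_7_0 : T.a x7 x0 ≠ 0 := by rw [hsym]; exact hadj_0_7
                        have hl_0_7 := NT.lb1 T _ _ hne_0_7 hadj_0_7
                        have hl_7_0 := NT.lb1 T _ _ hne_0_7.symm hadj_7_0
                        have hs_0_7 : T.a x0 x7 = T.a x7 x0 := hsym _ _
                        refine NT.cert3 T x0 x1 x7 hne_0_1 hne_0_7 hne_1_7 (by norm_num) 1 1 1 (by norm_num) (by norm_num) (by norm_num) ?_ ?_ ?_
                        · linarith only [hd x0, hwp x0, hl_0_1, hl_0_7]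
                        · linarith only [hd x1, hwp x1, hl_1_0, hl_1_7]
                        · linarith only [hd x7, hwp x7, hl_7_0, hl_7_1]
                      have hz_7_0 : T.a x7 x0 = 0 := by rw [hsym]; exact hz_0_7
                      have hz_2_7 : T.a x2 x7 = 0 := by
                        by_contra h
                        exact hq_2 ⟨x7, ⟨hne_0_7.symm, hne_1_7.symm, hne_2_7.symm, hne_3_7.symm, hne_4_7.symm, hne_5_7.symm⟩, h⟩
                      have hz_7_2 : T.a x7 x2 = 0 := by rw [hsym]; exact hz_2_7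
                      have hz_3_7 : T.a x3 x7 = 0 := by
                        by_contra h
                        exact hq_3 ⟨x7, ⟨hne_0_7.symm, hne_1_7.symm, hne_2_7.symm, hne_3_7.symm, hne_4_7.symm, hne_5_7.symm⟩, h⟩
                      have hz_7_3 : T.a x7 x3 = 0 := by rw [hsym]; exact hz_3_7
                      have hz_4_7 : T.a x4 x7 = 0 := by
                        by_contra h
                        exact hq_4 ⟨x7, ⟨hne_0_7.symm, hne_1_7.symm, hne_2_7.symm, hne_3_7.symm, hne_4_7.symm, hne_5_7.symm⟩, h⟩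
                      have hz_7_4 : T.a x7 x4 = 0 := by rw [hsym]; exact hz_4_7
                      have hz_5_7 : T.a x5 x7 = 0 := by
                        by_contra h
                        exact hq_5 ⟨x7, ⟨hne_0_7.symm, hne_1_7.symm, hne_2_7.symm, hne_3_7.symm, hne_4_7.symm, hne_5_7.symm⟩, h⟩
                      have hz_7_5 : T.a x7 x5 = 0 := by rw [hsym]; exact hz_5_7
                      have hz_6_7 : T.a x6 x7 = 0 := by
                        by_contra h
                        exact hq_6 ⟨x7, ⟨hne_0_7.symm, hne_1_7.symm, hne_2_7.symm, hne_3_7.symm, hne_4_7.symm, hne_5_7.symm, hne_6_7.symm⟩, h⟩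
                      have hz_7_6 : T.a x7 x6 = 0 := by rw [hsym]; exact hz_6_7
                      exfalso
                      refine NT.cert6 T x0 x1 x2 x3 x6 x7 hne_0_1 hne_0_2 hne_0_3 hne_0_6 hne_0_7 hne_1_2 hne_1_3 hne_1_6 hne_1_7 hne_2_3 hne_2_6 hne_2_7 hne_3_6 hne_3_7 hne_6_7 (by norm_num) 2 2 1 1 1 1 (by norm_num) (by norm_num) (by norm_num) (by norm_num) (by norm_num) (by norm_num) ?_ ?_ ?_ ?_ ?_ ?_
                      · linarith only [hd x0, hwp x0, hl_0_1, hl_0_2, hl_0_3, hnn x0 x6 hne_0_6, hnn x0 x7 hne_0_7]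
                      · linarith only [hd x1, hwp x1, hl_1_0, hnn x1 x2 hne_1_2, hnn x1 x3 hne_1_3, hl_1_6, hl_1_7]
                      · linarith only [hd x2, hwp x2, hl_2_0, hnn x2 x1 hne_1_2.symm, hnn x2 x3 hne_2_3, hnn x2 x6 hne_2_6, hnn x2 x7 hne_2_7]
                      · linarith only [hd x3, hwp x3, hl_3_0, hnn x3 x1 hne_1_3.symm, hnn x3 x2 hne_2_3.symm, hnn x3 x6 hne_3_6, hnn x3 x7 hne_3_7]
                      · linarith only [hd x6, hwp x6, hnn x6 x0 hne_0_6.symm, hl_6_1, hnn x6 x2 hne_2_6.symm, hnn x6 x3 hne_3_6.symm, hnn x6 x7 hne_6_7]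
                      · linarith only [hd x7, hwp x7, hnn x7 x0 hne_0_7.symm, hl_7_1, hnn x7 x2 hne_2_7.symm, hnn x7 x3 hne_3_7.symm, hnn x7 x6 hne_6_7.symm]
                    · by_cases hq_0 : ∃ y, (y ≠ x0 ∧ y ≠ x1 ∧ y ≠ x2 ∧ y ≠ x3 ∧ y ≠ x4 ∧ y ≠ x5 ∧ y ≠ x6) ∧ T.a x0 y ≠ 0
                      · obtain ⟨x7, ⟨hn0, hn1, hn2, hn3, hn4, hn5, hn6⟩, hadj_0_7⟩ := hq_0
                        have hne_0_7 : x0 ≠ x7 := hn0.symm
                        have hne_1_7 : x1 ≠ x7 := hn1.symm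
                        have hne_2_7 : x2 ≠ x7 := hn2.symm
                        have hne_3_7 : x3 ≠ x7 := hn3.symm
                        have hne_4_7 : x4 ≠ x7 := hn4.symm
                        have hne_5_7 : x5 ≠ x7 := hn5.symm
                        have hne_6_7 : x6 ≠ x7 := hn6.symm
                        have hadj_7_0 : T.a x7 x0 ≠ 0 := by rw [hsym]; exact hadj_0_7
                        have hl_0_7 := NT.lb1 T _ _ hne_0_7 hadj_0_7
                        have hl_7_0 := NT.lb1 T _ _ hne_0_7.symm hadj_7_0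
                        have hs_0_7 : T.a x0 x7 = T.a x7 x0 := hsym _ _
                        have hz_1_7 : T.a x1 x7 = 0 := by
                          by_contra h
                          exact hq_1 ⟨x7, ⟨hne_0_7.symm, hne_1_7.symm, hne_2_7.symm, hne_3_7.symm, hne_4_7.symm, hne_5_7.symm, hne_6_7.symm⟩, h⟩
                        have hz_7_1 : T.a x7 x1 = 0 := by rw [hsym]; exact hz_1_7
                        have hz_2_7 : T.a x2 x7 = 0 := by
                          by_contra h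
                          exact hq_2 ⟨x7, ⟨hne_0_7.symm, hne_1_7.symm, hne_2_7.symm, hne_3_7.symm, hne_4_7.symm, hne_5_7.symm⟩, h⟩
                        have hz_7_2 : T.a x7 x2 = 0 := by rw [hsym]; exact hz_2_7
                        have hz_3_7 : T.a x3 x7 = 0 := by
                          by_contra h
                          exact hq_3 ⟨x7, ⟨hne_0_7.symm, hne_1_7.symm, hne_2_7.symm, hne_3_7.symm, hne_4_7.symm, hne_5_7.symm⟩, h⟩
                        have hz_7_3 : T.a x7 x3 = 0 := by rw [hsym]; exact hz_3_7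
                        have hz_4_7 : T.a x4 x7 = 0 := by
                          by_contra h
                          exact hq_4 ⟨x7, ⟨hne_0_7.symm, hne_1_7.symm, hne_2_7.symm, hne_3_7.symm, hne_4_7.symm, hne_5_7.symm⟩, h⟩
                        have hz_7_4 : T.a x7 x4 = 0 := by rw [hsym]; exact hz_4_7
                        have hz_5_7 : T.a x5 x7 = 0 := by
                          by_contra h
                          exact hq_5 ⟨x7, ⟨hne_0_7.symm, hne_1_7.symm, hne_2_7.symm, hne_3_7.symm, hne_4_7.symm, hne_5_7.symm⟩, h⟩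
                        have hz_7_5 : T.a x7 x5 = 0 := by rw [hsym]; exact hz_5_7
                        have hz_6_7 : T.a x6 x7 = 0 := by
                          by_contra h
                          exact hq_6 ⟨x7, ⟨hne_0_7.symm, hne_1_7.symm, hne_2_7.symm, hne_3_7.symm, hne_4_7.symm, hne_5_7.symm, hne_6_7.symm⟩, h⟩
                        have hz_7_6 : T.a x7 x6 = 0 := by rw [hsym]; exact hz_6_7
                        exfalso
                        refine NT.cert5 T x0 x1 x2 x3 x7 hne_0_1 hne_0_2 hne_0_3 hne_0_7 hne_1_2 hne_1_3 hne_1_7 hne_2_3 hne_2_7 hne_3_7 (by norm_num) 2 1 1 1 1 (by norm_num) (by norm_num) (by norm_num) (by norm_num) (by norm_num) ?_ ?_ ?_ ?_ ?_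
                        · linarith only [hd x0, hwp x0, hl_0_1, hl_0_2, hl_0_3, hl_0_7]
                        · linarith only [hd x1, hwp x1, hl_1_0, hnn x1 x2 hne_1_2, hnn x1 x3 hne_1_3, hnn x1 x7 hne_1_7]
                        · linarith only [hd x2, hwp x2, hl_2_0, hnn x2 x1 hne_1_2.symm, hnn x2 x3 hne_2_3, hnn x2 x7 hne_2_7]
                        · linarith only [hd x3, hwp x3, hl_3_0, hnn x3 x1 hne_1_3.symm, hnn x3 x2 hne_2_3.symm, hnn x3 x7 hne_3_7]
                        · linarith only [hd x7, hwp x7, hl_7_0, hnn x7 x1 hne_1_7.symm, hnn x7 x2 hne_2_7.symm, hnn x7 x3 hne_3_7.symm]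
                      · exfalso
                        refine NT.not_closed T ![x0, x1, x2, x3, x4, x5, x6] (by norm_num) (by norm_num) ?_
                        intro s y hy
                        by_contra hcon
                        fin_cases s
                        · exact hq_0 ⟨y, ⟨fun h => hcon ⟨(0 : Fin 7), h⟩, fun h => hcon ⟨(1 : Fin 7), h⟩, fun h => hcon ⟨(2 : Fin 7), h⟩, fun h => hcon ⟨(3 : Fin 7), h⟩, fun h => hcon ⟨(4 : Fin 7), h⟩, fun h => hcon ⟨(5 : Fin 7), h⟩, fun h => hcon ⟨(6 : Fin 7), h⟩⟩, hy⟩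
                        · exact hq_1 ⟨y, ⟨fun h => hcon ⟨(0 : Fin 7), h⟩, fun h => hcon ⟨(1 : Fin 7), h⟩, fun h => hcon ⟨(2 : Fin 7), h⟩, fun h => hcon ⟨(3 : Fin 7), h⟩, fun h => hcon ⟨(4 : Fin 7), h⟩, fun h => hcon ⟨(5 : Fin 7), h⟩, fun h => hcon ⟨(6 : Fin 7), h⟩⟩, hy⟩
                        · exact hq_2 ⟨y, ⟨fun h => hcon ⟨(0 : Fin 7), h⟩, fun h => hcon ⟨(1 : Fin 7), h⟩, fun h => hcon ⟨(2 : Fin 7), h⟩, fun h => hcon ⟨(3 : Fin 7), h⟩, fun h => hcon ⟨(4 : Fin 7), h⟩, fun h => hcon ⟨(5 : Fin 7), h⟩⟩, hy⟩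
                        · exact hq_3 ⟨y, ⟨fun h => hcon ⟨(0 : Fin 7), h⟩, fun h => hcon ⟨(1 : Fin 7), h⟩, fun h => hcon ⟨(2 : Fin 7), h⟩, fun h => hcon ⟨(3 : Fin 7), h⟩, fun h => hcon ⟨(4 : Fin 7), h⟩, fun h => hcon ⟨(5 : Fin 7), h⟩⟩, hy⟩
                        · exact hq_4 ⟨y, ⟨fun h => hcon ⟨(0 : Fin 7), h⟩, fun h => hcon ⟨(1 : Fin 7), h⟩, fun h => hcon ⟨(2 : Fin 7), h⟩, fun h => hcon ⟨(3 : Fin 7), h⟩, fun h => hcon ⟨(4 : Fin 7), h⟩, fun h => hcon ⟨(5 : Fin 7), h⟩⟩, hy⟩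
                        · exact hq_5 ⟨y, ⟨fun h => hcon ⟨(0 : Fin 7), h⟩, fun h => hcon ⟨(1 : Fin 7), h⟩, fun h => hcon ⟨(2 : Fin 7), h⟩, fun h => hcon ⟨(3 : Fin 7), h⟩, fun h => hcon ⟨(4 : Fin 7), h⟩, fun h => hcon ⟨(5 : Fin 7), h⟩⟩, hy⟩
                        · exact hq_6 ⟨y, ⟨fun h => hcon ⟨(0 : Fin 7), h⟩, fun h => hcon ⟨(1 : Fin 7), h⟩, fun h => hcon ⟨(2 : Fin 7), h⟩, fun h => hcon ⟨(3 : Fin 7), h⟩, fun h => hcon ⟨(4 : Fin 7), h⟩, fun h => hcon ⟨(5 : Fin 7), h⟩, fun h => hcon ⟨(6 : Fin 7), h⟩⟩, hy⟩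
                · by_cases hq_0 : ∃ y, (y ≠ x0 ∧ y ≠ x1 ∧ y ≠ x2 ∧ y ≠ x3 ∧ y ≠ x4 ∧ y ≠ x5) ∧ T.a x0 y ≠ 0
                  · obtain ⟨x6, ⟨hn0, hn1, hn2, hn3, hn4, hn5⟩, hadj_0_6⟩ := hq_0
                    have hne_0_6 : x0 ≠ x6 := hn0.symm
                    have hne_1_6 : x1 ≠ x6 := hn1.symm
                    have hne_2_6 : x2 ≠ x6 := hn2.symm
                    have hne_3_6 : x3 ≠ x6 := hn3.symm
                    have hne_4_6 : x4 ≠ x6 := hn4.symm
                    have hne_5_6 : x5 ≠ x6 := hn5.symm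
                    have hadj_6_0 : T.a x6 x0 ≠ 0 := by rw [hsym]; exact hadj_0_6
                    have hl_0_6 := NT.lb1 T _ _ hne_0_6 hadj_0_6
                    have hl_6_0 := NT.lb1 T _ _ hne_0_6.symm hadj_6_0
                    have hs_0_6 : T.a x0 x6 = T.a x6 x0 := hsym _ _
                    have hz_1_6 : T.a x1 x6 = 0 := by
                      by_contra h
                      exact hq_1 ⟨x6, ⟨hne_0_6.symm, hne_1_6.symm, hne_2_6.symm, hne_3_6.symm, hne_4_6.symm, hne_5_6.symm⟩, h⟩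
                    have hz_6_1 : T.a x6 x1 = 0 := by rw [hsym]; exact hz_1_6
                    have hz_2_6 : T.a x2 x6 = 0 := by
                      by_contra h
                      exact hq_2 ⟨x6, ⟨hne_0_6.symm, hne_1_6.symm, hne_2_6.symm, hne_3_6.symm, hne_4_6.symm, hne_5_6.symm⟩, h⟩
                    have hz_6_2 : T.a x6 x2 = 0 := by rw [hsym]; exact hz_2_6
                    have hz_3_6 : T.a x3 x6 = 0 := by
                      by_contra h
                      exact hq_3 ⟨x6, ⟨hne_0_6.symm, hne_1_6.symm, hne_2_6.symm, hne_3_6.symm, hne_4_6.symm, hne_5_6.symm⟩, h⟩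
                    have hz_6_3 : T.a x6 x3 = 0 := by rw [hsym]; exact hz_3_6
                    have hz_4_6 : T.a x4 x6 = 0 := by
                      by_contra h
                      exact hq_4 ⟨x6, ⟨hne_0_6.symm, hne_1_6.symm, hne_2_6.symm, hne_3_6.symm, hne_4_6.symm, hne_5_6.symm⟩, h⟩
                    have hz_6_4 : T.a x6 x4 = 0 := by rw [hsym]; exact hz_4_6
                    have hz_5_6 : T.a x5 x6 = 0 := by
                      by_contra h
                      exact hq_5 ⟨x6, ⟨hne_0_6.symm, hne_1_6.symm, hne_2_6.symm, hne_3_6.symm, hne_4_6.symm, hne_5_6.symm⟩, h⟩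
                    have hz_6_5 : T.a x6 x5 = 0 := by rw [hsym]; exact hz_5_6
                    exfalso
                    refine NT.cert5 T x0 x1 x2 x3 x6 hne_0_1 hne_0_2 hne_0_3 hne_0_6 hne_1_2 hne_1_3 hne_1_6 hne_2_3 hne_2_6 hne_3_6 (by norm_num) 2 1 1 1 1 (by norm_num) (by norm_num) (by norm_num) (by norm_num) (by norm_num) ?_ ?_ ?_ ?_ ?_
                    · linarith only [hd x0, hwp x0, hl_0_1, hl_0_2, hl_0_3, hl_0_6]
                    · linarith only [hd x1, hwp x1, hl_1_0, hnn x1 x2 hne_1_2, hnn x1 x3 hne_1_3, hnn x1 x6 hne_1_6]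
                    · linarith only [hd x2, hwp x2, hl_2_0, hnn x2 x1 hne_1_2.symm, hnn x2 x3 hne_2_3, hnn x2 x6 hne_2_6]
                    · linarith only [hd x3, hwp x3, hl_3_0, hnn x3 x1 hne_1_3.symm, hnn x3 x2 hne_2_3.symm, hnn x3 x6 hne_3_6]
                    · linarith only [hd x6, hwp x6, hl_6_0, hnn x6 x1 hne_1_6.symm, hnn x6 x2 hne_2_6.symm, hnn x6 x3 hne_3_6.symm]
                  · exfalso
                    refine NT.not_closed T ![x0, x1, x2, x3, x4, x5] (by norm_num) (by norm_num) ?_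
                    intro s y hy
                    by_contra hcon
                    fin_cases s
                    · exact hq_0 ⟨y, ⟨fun h => hcon ⟨(0 : Fin 6), h⟩, fun h => hcon ⟨(1 : Fin 6), h⟩, fun h => hcon ⟨(2 : Fin 6), h⟩, fun h => hcon ⟨(3 : Fin 6), h⟩, fun h => hcon ⟨(4 : Fin 6), h⟩, fun h => hcon ⟨(5 : Fin 6), h⟩⟩, hy⟩
                    · exact hq_1 ⟨y, ⟨fun h => hcon ⟨(0 : Fin 6), h⟩, fun h => hcon ⟨(1 : Fin 6), h⟩, fun h => hcon ⟨(2 : Fin 6), h⟩, fun h => hcon ⟨(3 : Fin 6), h⟩, fun h => hcon ⟨(4 : Fin 6), h⟩, fun h => hcon ⟨(5 : Fin 6), h⟩⟩, hy⟩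
                    · exact hq_2 ⟨y, ⟨fun h => hcon ⟨(0 : Fin 6), h⟩, fun h => hcon ⟨(1 : Fin 6), h⟩, fun h => hcon ⟨(2 : Fin 6), h⟩, fun h => hcon ⟨(3 : Fin 6), h⟩, fun h => hcon ⟨(4 : Fin 6), h⟩, fun h => hcon ⟨(5 : Fin 6), h⟩⟩, hy⟩
                    · exact hq_3 ⟨y, ⟨fun h => hcon ⟨(0 : Fin 6), h⟩, fun h => hcon ⟨(1 : Fin 6), h⟩, fun h => hcon ⟨(2 : Fin 6), h⟩, fun h => hcon ⟨(3 : Fin 6), h⟩, fun h => hcon ⟨(4 : Fin 6), h⟩, fun h => hcon ⟨(5 : Fin 6), h⟩⟩, hy⟩
                    · exact hq_4 ⟨y, ⟨fun h => hcon ⟨(0 : Fin 6), h⟩, fun h => hcon ⟨(1 : Fin 6), h⟩, fun h => hcon ⟨(2 : Fin 6), h⟩, fun h => hcon ⟨(3 : Fin 6), h⟩, fun h => hcon ⟨(4 : Fin 6), h⟩, fun h => hcon ⟨(5 : Fin 6), h⟩⟩, hy⟩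
                    · exact hq_5 ⟨y, ⟨fun h => hcon ⟨(0 : Fin 6), h⟩, fun h => hcon ⟨(1 : Fin 6), h⟩, fun h => hcon ⟨(2 : Fin 6), h⟩, fun h => hcon ⟨(3 : Fin 6), h⟩, fun h => hcon ⟨(4 : Fin 6), h⟩, fun h => hcon ⟨(5 : Fin 6), h⟩⟩, hy⟩
      · by_cases hq_3 : ∃ y, (y ≠ x0 ∧ y ≠ x1 ∧ y ≠ x2 ∧ y ≠ x3 ∧ y ≠ x4) ∧ T.a x3 y ≠ 0
        · obtain ⟨x5, ⟨hn0, hn1, hn2, hn3, hn4⟩, hadj_3_5⟩ := hq_3
          have hne_0_5 : x0 ≠ x5 := hn0.symm
          have hne_1_5 : x1 ≠ x5 := hn1.symm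
          have hne_2_5 : x2 ≠ x5 := hn2.symm
          have hne_3_5 : x3 ≠ x5 := hn3.symm
          have hne_4_5 : x4 ≠ x5 := hn4.symm
          have hadj_5_3 : T.a x5 x3 ≠ 0 := by rw [hsym]; exact hadj_3_5
          have hl_3_5 := NT.lb1 T _ _ hne_3_5 hadj_3_5
          have hl_5_3 := NT.lb1 T _ _ hne_3_5.symm hadj_5_3
          have hs_3_5 : T.a x3 x5 = T.a x5 x3 := hsym _ _
          have hz_0_5 : T.a x0 x5 = 0 := by
            by_contra hadj_0_5
            have hadj_5_0 : T.a x5 x0 ≠ 0 := by rw [hsym]; exact hadj_0_5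
            have hl_0_5 := NT.lb1 T _ _ hne_0_5 hadj_0_5
            have hl_5_0 := NT.lb1 T _ _ hne_0_5.symm hadj_5_0
            have hs_0_5 : T.a x0 x5 = T.a x5 x0 := hsym _ _
            refine NT.cert3 T x0 x3 x5 hne_0_3 hne_0_5 hne_3_5 (by norm_num) 1 1 1 (by norm_num) (by norm_num) (by norm_num) ?_ ?_ ?_
            · linarith only [hd x0, hwp x0, hl_0_3, hl_0_5]
            · linarith only [hd x3, hwp x3, hl_3_0, hl_3_5]
            · linarith only [hd x5, hwp x5, hl_5_0, hl_5_3]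
          have hz_5_0 : T.a x5 x0 = 0 := by rw [hsym]; exact hz_0_5
          have hz_1_5 : T.a x1 x5 = 0 := by
            by_contra hadj_1_5
            have hadj_5_1 : T.a x5 x1 ≠ 0 := by rw [hsym]; exact hadj_1_5
            have hl_1_5 := NT.lb1 T _ _ hne_1_5 hadj_1_5
            have hl_5_1 := NT.lb1 T _ _ hne_1_5.symm hadj_5_1
            have hs_1_5 : T.a x1 x5 = T.a x5 x1 := hsym _ _
            refine NT.cert4 T x0 x1 x3 x5 hne_0_1 hne_0_3 hne_0_5 hne_1_3 hne_1_5 hne_3_5 (by norm_num) 1 1 1 1 (by norm_num) (by norm_num) (by norm_num) (by norm_num) ?_ ?_ ?_ ?_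
            · linarith only [hd x0, hwp x0, hl_0_1, hl_0_3, hnn x0 x5 hne_0_5]
            · linarith only [hd x1, hwp x1, hl_1_0, hnn x1 x3 hne_1_3, hl_1_5]
            · linarith only [hd x3, hwp x3, hl_3_0, hnn x3 x1 hne_1_3.symm, hl_3_5]
            · linarith only [hd x5, hwp x5, hnn x5 x0 hne_0_5.symm, hl_5_1, hl_5_3]
          have hz_5_1 : T.a x5 x1 = 0 := by rw [hsym]; exact hz_1_5
          have hz_2_5 : T.a x2 x5 = 0 := by
            by_contra hadj_2_5
            have hadj_5_2 : T.a x5 x2 ≠ 0 := by rw [hsym]; exact hadj_2_5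
            have hl_2_5 := NT.lb1 T _ _ hne_2_5 hadj_2_5
            have hl_5_2 := NT.lb1 T _ _ hne_2_5.symm hadj_5_2
            have hs_2_5 : T.a x2 x5 = T.a x5 x2 := hsym _ _
            refine NT.cert4 T x0 x2 x3 x5 hne_0_2 hne_0_3 hne_0_5 hne_2_3 hne_2_5 hne_3_5 (by norm_num) 1 1 1 1 (by norm_num) (by norm_num) (by norm_num) (by norm_num) ?_ ?_ ?_ ?_
            · linarith only [hd x0, hwp x0, hl_0_2, hl_0_3, hnn x0 x5 hne_0_5]
            · linarith only [hd x2, hwp x2, hl_2_0, hnn x2 x3 hne_2_3, hl_2_5]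
            · linarith only [hd x3, hwp x3, hl_3_0, hnn x3 x2 hne_2_3.symm, hl_3_5]
            · linarith only [hd x5, hwp x5, hnn x5 x0 hne_0_5.symm, hl_5_2, hl_5_3]
          have hz_5_2 : T.a x5 x2 = 0 := by rw [hsym]; exact hz_2_5
          have hz_4_5 : T.a x4 x5 = 0 := by
            by_contra h
            exact hq_4 ⟨x5, ⟨hne_0_5.symm, hne_1_5.symm, hne_2_5.symm, hne_3_5.symm, hne_4_5.symm⟩, h⟩
          have hz_5_4 : T.a x5 x4 = 0 := by rw [hsym]; exact hz_4_5
          exfalso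
          refine NT.cert6 T x0 x1 x2 x3 x4 x5 hne_0_1 hne_0_2 hne_0_3 hne_0_4 hne_0_5 hne_1_2 hne_1_3 hne_1_4 hne_1_5 hne_2_3 hne_2_4 hne_2_5 hne_3_4 hne_3_5 hne_4_5 (by norm_num) 2 1 1 2 1 1 (by norm_num) (by norm_num) (by norm_num) (by norm_num) (by norm_num) (by norm_num) ?_ ?_ ?_ ?_ ?_ ?_
          · linarith only [hd x0, hwp x0, hl_0_1, hl_0_2, hl_0_3, hnn x0 x4 hne_0_4, hnn x0 x5 hne_0_5]
          · linarith only [hd x1, hwp x1, hl_1_0, hnn x1 x2 hne_1_2, hnn x1 x3 hne_1_3, hnn x1 x4 hne_1_4, hnn x1 x5 hne_1_5]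
          · linarith only [hd x2, hwp x2, hl_2_0, hnn x2 x1 hne_1_2.symm, hnn x2 x3 hne_2_3, hnn x2 x4 hne_2_4, hnn x2 x5 hne_2_5]
          · linarith only [hd x3, hwp x3, hl_3_0, hnn x3 x1 hne_1_3.symm, hnn x3 x2 hne_2_3.symm, hl_3_4, hl_3_5]
          · linarith only [hd x4, hwp x4, hnn x4 x0 hne_0_4.symm, hnn x4 x1 hne_1_4.symm, hnn x4 x2 hne_2_4.symm, hl_4_3, hnn x4 x5 hne_4_5]
          · linarith only [hd x5, hwp x5, hnn x5 x0 hne_0_5.symm, hnn x5 x1 hne_1_5.symm, hnn x5 x2 hne_2_5.symm, hl_5_3, hnn x5 x4 hne_4_5.symm]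
        · by_cases hq_2 : ∃ y, (y ≠ x0 ∧ y ≠ x1 ∧ y ≠ x2 ∧ y ≠ x3 ∧ y ≠ x4) ∧ T.a x2 y ≠ 0
          · obtain ⟨x5, ⟨hn0, hn1, hn2, hn3, hn4⟩, hadj_2_5⟩ := hq_2
            have hne_0_5 : x0 ≠ x5 := hn0.symm
            have hne_1_5 : x1 ≠ x5 := hn1.symm
            have hne_2_5 : x2 ≠ x5 := hn2.symm
            have hne_3_5 : x3 ≠ x5 := hn3.symm
            have hne_4_5 : x4 ≠ x5 := hn4.symm
            have hadj_5_2 : T.a x5 x2 ≠ 0 := by rw [hsym]; exact hadj_2_5
            have hl_2_5 := NT.lb1 T _ _ hne_2_5 hadj_2_5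
            have hl_5_2 := NT.lb1 T _ _ hne_2_5.symm hadj_5_2
            have hs_2_5 : T.a x2 x5 = T.a x5 x2 := hsym _ _
            have hz_0_5 : T.a x0 x5 = 0 := by
              by_contra hadj_0_5
              have hadj_5_0 : T.a x5 x0 ≠ 0 := by rw [hsym]; exact hadj_0_5
              have hl_0_5 := NT.lb1 T _ _ hne_0_5 hadj_0_5
              have hl_5_0 := NT.lb1 T _ _ hne_0_5.symm hadj_5_0
              have hs_0_5 : T.a x0 x5 = T.a x5 x0 := hsym _ _
              refine NT.cert3 T x0 x2 x5 hne_0_2 hne_0_5 hne_2_5 (by norm_num) 1 1 1 (by norm_num) (by norm_num) (by norm_num) ?_ ?_ ?_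
              · linarith only [hd x0, hwp x0, hl_0_2, hl_0_5]
              · linarith only [hd x2, hwp x2, hl_2_0, hl_2_5]
              · linarith only [hd x5, hwp x5, hl_5_0, hl_5_2]
            have hz_5_0 : T.a x5 x0 = 0 := by rw [hsym]; exact hz_0_5
            have hz_1_5 : T.a x1 x5 = 0 := by
              by_contra hadj_1_5
              have hadj_5_1 : T.a x5 x1 ≠ 0 := by rw [hsym]; exact hadj_1_5
              have hl_1_5 := NT.lb1 T _ _ hne_1_5 hadj_1_5
              have hl_5_1 := NT.lb1 T _ _ hne_1_5.symm hadj_5_1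
              have hs_1_5 : T.a x1 x5 = T.a x5 x1 := hsym _ _
              refine NT.cert4 T x0 x1 x2 x5 hne_0_1 hne_0_2 hne_0_5 hne_1_2 hne_1_5 hne_2_5 (by norm_num) 1 1 1 1 (by norm_num) (by norm_num) (by norm_num) (by norm_num) ?_ ?_ ?_ ?_
              · linarith only [hd x0, hwp x0, hl_0_1, hl_0_2, hnn x0 x5 hne_0_5]
              · linarith only [hd x1, hwp x1, hl_1_0, hnn x1 x2 hne_1_2, hl_1_5]
              · linarith only [hd x2, hwp x2, hl_2_0, hnn x2 x1 hne_1_2.symm, hl_2_5]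
              · linarith only [hd x5, hwp x5, hnn x5 x0 hne_0_5.symm, hl_5_1, hl_5_2]
            have hz_5_1 : T.a x5 x1 = 0 := by rw [hsym]; exact hz_1_5
            have hz_3_5 : T.a x3 x5 = 0 := by
              by_contra h
              exact hq_3 ⟨x5, ⟨hne_0_5.symm, hne_1_5.symm, hne_2_5.symm, hne_3_5.symm, hne_4_5.symm⟩, h⟩
            have hz_5_3 : T.a x5 x3 = 0 := by rw [hsym]; exact hz_3_5
            have hz_4_5 : T.a x4 x5 = 0 := by
              by_contra h
              exact hq_4 ⟨x5, ⟨hne_0_5.symm, hne_1_5.symm, hne_2_5.symm, hne_3_5.symm, hne_4_5.symm⟩, h⟩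
            have hz_5_4 : T.a x5 x4 = 0 := by rw [hsym]; exact hz_4_5
            by_cases hq_5 : ∃ y, (y ≠ x0 ∧ y ≠ x1 ∧ y ≠ x2 ∧ y ≠ x3 ∧ y ≠ x4 ∧ y ≠ x5) ∧ T.a x5 y ≠ 0
            · obtain ⟨x6, ⟨hn0, hn1, hn2, hn3, hn4, hn5⟩, hadj_5_6⟩ := hq_5
              have hne_0_6 : x0 ≠ x6 := hn0.symm
              have hne_1_6 : x1 ≠ x6 := hn1.symm
              have hne_2_6 : x2 ≠ x6 := hn2.symm
              have hne_3_6 : x3 ≠ x6 := hn3.symm
              have hne_4_6 : x4 ≠ x6 := hn4.symm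
              have hne_5_6 : x5 ≠ x6 := hn5.symm
              have hadj_6_5 : T.a x6 x5 ≠ 0 := by rw [hsym]; exact hadj_5_6
              have hl_5_6 := NT.lb1 T _ _ hne_5_6 hadj_5_6
              have hl_6_5 := NT.lb1 T _ _ hne_5_6.symm hadj_6_5
              have hs_5_6 : T.a x5 x6 = T.a x6 x5 := hsym _ _
              have hz_0_6 : T.a x0 x6 = 0 := by
                by_contra hadj_0_6
                have hadj_6_0 : T.a x6 x0 ≠ 0 := by rw [hsym]; exact hadj_0_6
                have hl_0_6 := NT.lb1 T _ _ hne_0_6 hadj_0_6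
                have hl_6_0 := NT.lb1 T _ _ hne_0_6.symm hadj_6_0
                have hs_0_6 : T.a x0 x6 = T.a x6 x0 := hsym _ _
                refine NT.cert4 T x0 x2 x5 x6 hne_0_2 hne_0_5 hne_0_6 hne_2_5 hne_2_6 hne_5_6 (by norm_num) 1 1 1 1 (by norm_num) (by norm_num) (by norm_num) (by norm_num) ?_ ?_ ?_ ?_
                · linarith only [hd x0, hwp x0, hl_0_2, hnn x0 x5 hne_0_5, hl_0_6]
                · linarith only [hd x2, hwp x2, hl_2_0, hl_2_5, hnn x2 x6 hne_2_6]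
                · linarith only [hd x5, hwp x5, hnn x5 x0 hne_0_5.symm, hl_5_2, hl_5_6]
                · linarith only [hd x6, hwp x6, hl_6_0, hnn x6 x2 hne_2_6.symm, hl_6_5]
              have hz_6_0 : T.a x6 x0 = 0 := by rw [hsym]; exact hz_0_6
              have hz_1_6 : T.a x1 x6 = 0 := by
                by_contra hadj_1_6
                have hadj_6_1 : T.a x6 x1 ≠ 0 := by rw [hsym]; exact hadj_1_6
                have hl_1_6 := NT.lb1 T _ _ hne_1_6 hadj_1_6
                have hl_6_1 := NT.lb1 T _ _ hne_1_6.symm hadj_6_1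
                have hs_1_6 : T.a x1 x6 = T.a x6 x1 := hsym _ _
                refine NT.cert5 T x0 x1 x2 x5 x6 hne_0_1 hne_0_2 hne_0_5 hne_0_6 hne_1_2 hne_1_5 hne_1_6 hne_2_5 hne_2_6 hne_5_6 (by norm_num) 1 1 1 1 1 (by norm_num) (by norm_num) (by norm_num) (by norm_num) (by norm_num) ?_ ?_ ?_ ?_ ?_
                · linarith only [hd x0, hwp x0, hl_0_1, hl_0_2, hnn x0 x5 hne_0_5, hnn x0 x6 hne_0_6]
                · linarith only [hd x1, hwp x1, hl_1_0, hnn x1 x2 hne_1_2, hnn x1 x5 hne_1_5, hl_1_6]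
                · linarith only [hd x2, hwp x2, hl_2_0, hnn x2 x1 hne_1_2.symm, hl_2_5, hnn x2 x6 hne_2_6]
                · linarith only [hd x5, hwp x5, hnn x5 x0 hne_0_5.symm, hnn x5 x1 hne_1_5.symm, hl_5_2, hl_5_6]
                · linarith only [hd x6, hwp x6, hnn x6 x0 hne_0_6.symm, hl_6_1, hnn x6 x2 hne_2_6.symm, hl_6_5]
              have hz_6_1 : T.a x6 x1 = 0 := by rw [hsym]; exact hz_1_6
              have hz_2_6 : T.a x2 x6 = 0 := by
                by_contra hadj_2_6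
                have hadj_6_2 : T.a x6 x2 ≠ 0 := by rw [hsym]; exact hadj_2_6
                have hl_2_6 := NT.lb1 T _ _ hne_2_6 hadj_2_6
                have hl_6_2 := NT.lb1 T _ _ hne_2_6.symm hadj_6_2
                have hs_2_6 : T.a x2 x6 = T.a x6 x2 := hsym _ _
                refine NT.cert3 T x2 x5 x6 hne_2_5 hne_2_6 hne_5_6 (by norm_num) 1 1 1 (by norm_num) (by norm_num) (by norm_num) ?_ ?_ ?_
                · linarith only [hd x2, hwp x2, hl_2_5, hl_2_6]
                · linarith only [hd x5, hwp x5, hl_5_2, hl_5_6]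
                · linarith only [hd x6, hwp x6, hl_6_2, hl_6_5]
              have hz_6_2 : T.a x6 x2 = 0 := by rw [hsym]; exact hz_2_6
              have hz_3_6 : T.a x3 x6 = 0 := by
                by_contra h
                exact hq_3 ⟨x6, ⟨hne_0_6.symm, hne_1_6.symm, hne_2_6.symm, hne_3_6.symm, hne_4_6.symm⟩, h⟩
              have hz_6_3 : T.a x6 x3 = 0 := by rw [hsym]; exact hz_3_6
              have hz_4_6 : T.a x4 x6 = 0 := by
                by_contra h
                exact hq_4 ⟨x6, ⟨hne_0_6.symm, hne_1_6.symm, hne_2_6.symm, hne_3_6.symm, hne_4_6.symm⟩, h⟩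
              have hz_6_4 : T.a x6 x4 = 0 := by rw [hsym]; exact hz_4_6
              by_cases hq_6 : ∃ y, (y ≠ x0 ∧ y ≠ x1 ∧ y ≠ x2 ∧ y ≠ x3 ∧ y ≠ x4 ∧ y ≠ x5 ∧ y ≠ x6) ∧ T.a x6 y ≠ 0
              · obtain ⟨x7, ⟨hn0, hn1, hn2, hn3, hn4, hn5, hn6⟩, hadj_6_7⟩ := hq_6
                have hne_0_7 : x0 ≠ x7 := hn0.symm
                have hne_1_7 : x1 ≠ x7 := hn1.symm
                have hne_2_7 : x2 ≠ x7 := hn2.symm
                have hne_3_7 : x3 ≠ x7 := hn3.symm
                have hne_4_7 : x4 ≠ x7 := hn4.symm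
                have hne_5_7 : x5 ≠ x7 := hn5.symm
                have hne_6_7 : x6 ≠ x7 := hn6.symm
                have hadj_7_6 : T.a x7 x6 ≠ 0 := by rw [hsym]; exact hadj_6_7
                have hl_6_7 := NT.lb1 T _ _ hne_6_7 hadj_6_7
                have hl_7_6 := NT.lb1 T _ _ hne_6_7.symm hadj_7_6
                have hs_6_7 : T.a x6 x7 = T.a x7 x6 := hsym _ _
                have hz_0_7 : T.a x0 x7 = 0 := by
                  by_contra hadj_0_7
                  have hadj_7_0 : T.a x7 x0 ≠ 0 := by rw [hsym]; exact hadj_0_7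
                  have hl_0_7 := NT.lb1 T _ _ hne_0_7 hadj_0_7
                  have hl_7_0 := NT.lb1 T _ _ hne_0_7.symm hadj_7_0
                  have hs_0_7 : T.a x0 x7 = T.a x7 x0 := hsym _ _
                  refine NT.cert5 T x0 x1 x2 x3 x7 hne_0_1 hne_0_2 hne_0_3 hne_0_7 hne_1_2 hne_1_3 hne_1_7 hne_2_3 hne_2_7 hne_3_7 (by norm_num) 2 1 1 1 1 (by norm_num) (by norm_num) (by norm_num) (by norm_num) (by norm_num) ?_ ?_ ?_ ?_ ?_
                  · linarith only [hd x0, hwp x0, hl_0_1, hl_0_2, hl_0_3, hl_0_7]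
                  · linarith only [hd x1, hwp x1, hl_1_0, hnn x1 x2 hne_1_2, hnn x1 x3 hne_1_3, hnn x1 x7 hne_1_7]
                  · linarith only [hd x2, hwp x2, hl_2_0, hnn x2 x1 hne_1_2.symm, hnn x2 x3 hne_2_3, hnn x2 x7 hne_2_7]
                  · linarith only [hd x3, hwp x3, hl_3_0, hnn x3 x1 hne_1_3.symm, hnn x3 x2 hne_2_3.symm, hnn x3 x7 hne_3_7]
                  · linarith only [hd x7, hwp x7, hl_7_0, hnn x7 x1 hne_1_7.symm, hnn x7 x2 hne_2_7.symm, hnn x7 x3 hne_3_7.symm]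
                have hz_7_0 : T.a x7 x0 = 0 := by rw [hsym]; exact hz_0_7
                have hz_1_7 : T.a x1 x7 = 0 := by
                  by_contra hadj_1_7
                  have hadj_7_1 : T.a x7 x1 ≠ 0 := by rw [hsym]; exact hadj_1_7
                  have hl_1_7 := NT.lb1 T _ _ hne_1_7 hadj_1_7
                  have hl_7_1 := NT.lb1 T _ _ hne_1_7.symm hadj_7_1
                  have hs_1_7 : T.a x1 x7 = T.a x7 x1 := hsym _ _
                  refine NT.cert6 T x0 x1 x2 x5 x6 x7 hne_0_1 hne_0_2 hne_0_5 hne_0_6 hne_0_7 hne_1_2 hne_1_5 hne_1_6 hne_1_7 hne_2_5 hne_2_6 hne_2_7 hne_5_6 hne_5_7 hne_6_7 (by norm_num) 1 1 1 1 1 1 (by norm_num) (by norm_num) (by norm_num) (by norm_num) (by norm_num) (by norm_num) ?_ ?_ ?_ ?_ ?_ ?_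
                  · linarith only [hd x0, hwp x0, hl_0_1, hl_0_2, hnn x0 x5 hne_0_5, hnn x0 x6 hne_0_6, hnn x0 x7 hne_0_7]
                  · linarith only [hd x1, hwp x1, hl_1_0, hnn x1 x2 hne_1_2, hnn x1 x5 hne_1_5, hnn x1 x6 hne_1_6, hl_1_7]
                  · linarith only [hd x2, hwp x2, hl_2_0, hnn x2 x1 hne_1_2.symm, hl_2_5, hnn x2 x6 hne_2_6, hnn x2 x7 hne_2_7]
                  · linarith only [hd x5, hwp x5, hnn x5 x0 hne_0_5.symm, hnn x5 x1 hne_1_5.symm, hl_5_2, hl_5_6, hnn x5 x7 hne_5_7]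
                  · linarith only [hd x6, hwp x6, hnn x6 x0 hne_0_6.symm, hnn x6 x1 hne_1_6.symm, hnn x6 x2 hne_2_6.symm, hl_6_5, hl_6_7]
                  · linarith only [hd x7, hwp x7, hnn x7 x0 hne_0_7.symm, hl_7_1, hnn x7 x2 hne_2_7.symm, hnn x7 x5 hne_5_7.symm, hl_7_6]
                have hz_7_1 : T.a x7 x1 = 0 := by rw [hsym]; exact hz_1_7
                have hz_2_7 : T.a x2 x7 = 0 := by
                  by_contra hadj_2_7
                  have hadj_7_2 : T.a x7 x2 ≠ 0 := by rw [hsym]; exact hadj_2_7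
                  have hl_2_7 := NT.lb1 T _ _ hne_2_7 hadj_2_7
                  have hl_7_2 := NT.lb1 T _ _ hne_2_7.symm hadj_7_2
                  have hs_2_7 : T.a x2 x7 = T.a x7 x2 := hsym _ _
                  refine NT.cert4 T x2 x5 x6 x7 hne_2_5 hne_2_6 hne_2_7 hne_5_6 hne_5_7 hne_6_7 (by norm_num) 1 1 1 1 (by norm_num) (by norm_num) (by norm_num) (by norm_num) ?_ ?_ ?_ ?_
                  · linarith only [hd x2, hwp x2, hl_2_5, hnn x2 x6 hne_2_6, hl_2_7]
                  · linarith only [hd x5, hwp x5, hl_5_2, hl_5_6, hnn x5 x7 hne_5_7]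
                  · linarith only [hd x6, hwp x6, hnn x6 x2 hne_2_6.symm, hl_6_5, hl_6_7]
                  · linarith only [hd x7, hwp x7, hl_7_2, hnn x7 x5 hne_5_7.symm, hl_7_6]
                have hz_7_2 : T.a x7 x2 = 0 := by rw [hsym]; exact hz_2_7
                have hz_3_7 : T.a x3 x7 = 0 := by
                  by_contra h
                  exact hq_3 ⟨x7, ⟨hne_0_7.symm, hne_1_7.symm, hne_2_7.symm, hne_3_7.symm, hne_4_7.symm⟩, h⟩
                have hz_7_3 : T.a x7 x3 = 0 := by rw [hsym]; exact hz_3_7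
                have hz_4_7 : T.a x4 x7 = 0 := by
                  by_contra h
                  exact hq_4 ⟨x7, ⟨hne_0_7.symm, hne_1_7.symm, hne_2_7.symm, hne_3_7.symm, hne_4_7.symm⟩, h⟩
                have hz_7_4 : T.a x7 x4 = 0 := by rw [hsym]; exact hz_4_7
                have hz_5_7 : T.a x5 x7 = 0 := by
                  by_contra hadj_5_7
                  have hadj_7_5 : T.a x7 x5 ≠ 0 := by rw [hsym]; exact hadj_5_7
                  have hl_5_7 := NT.lb1 T _ _ hne_5_7 hadj_5_7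
                  have hl_7_5 := NT.lb1 T _ _ hne_5_7.symm hadj_7_5
                  have hs_5_7 : T.a x5 x7 = T.a x7 x5 := hsym _ _
                  refine NT.cert3 T x5 x6 x7 hne_5_6 hne_5_7 hne_6_7 (by norm_num) 1 1 1 (by norm_num) (by norm_num) (by norm_num) ?_ ?_ ?_
                  · linarith only [hd x5, hwp x5, hl_5_6, hl_5_7]
                  · linarith only [hd x6, hwp x6, hl_6_5, hl_6_7]
                  · linarith only [hd x7, hwp x7, hl_7_5, hl_7_6]
                have hz_7_5 : T.a x7 x5 = 0 := by rw [hsym]; exact hz_5_7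
                exact G8.shape6 T hall x0 x1 x2 x3 x4 x5 x6 x7 hne_0_1 hne_0_2 hne_0_3 hne_0_4 hne_0_5 hne_0_6 hne_0_7 hne_1_2 hne_1_3 hne_1_4 hne_1_5 hne_1_6 hne_1_7 hne_2_3 hne_2_4 hne_2_5 hne_2_6 hne_2_7 hne_3_4 hne_3_5 hne_3_6 hne_3_7 hne_4_5 hne_4_6 hne_4_7 hne_5_6 hne_5_7 hne_6_7 hadj_0_1 hadj_0_2 hadj_0_3 hz_0_4 hz_0_5 hz_0_6 hz_0_7 hz_1_2 hz_1_3 hz_1_4 hz_1_5 hz_1_6 hz_1_7 hz_2_3 hz_2_4 hadj_2_5 hz_2_6 hz_2_7 hadj_3_4 hz_3_5 hz_3_6 hz_3_7 hz_4_5 hz_4_6 hz_4_7 hadj_5_6 hz_5_7 hadj_6_7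
              · by_cases hq_5 : ∃ y, (y ≠ x0 ∧ y ≠ x1 ∧ y ≠ x2 ∧ y ≠ x3 ∧ y ≠ x4 ∧ y ≠ x5 ∧ y ≠ x6) ∧ T.a x5 y ≠ 0
                · obtain ⟨x7, ⟨hn0, hn1, hn2, hn3, hn4, hn5, hn6⟩, hadj_5_7⟩ := hq_5
                  have hne_0_7 : x0 ≠ x7 := hn0.symm
                  have hne_1_7 : x1 ≠ x7 := hn1.symm
                  have hne_2_7 : x2 ≠ x7 := hn2.symm
                  have hne_3_7 : x3 ≠ x7 := hn3.symm
                  have hne_4_7 : x4 ≠ x7 := hn4.symm
                  have hne_5_7 : x5 ≠ x7 := hn5.symm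
                  have hne_6_7 : x6 ≠ x7 := hn6.symm
                  have hadj_7_5 : T.a x7 x5 ≠ 0 := by rw [hsym]; exact hadj_5_7
                  have hl_5_7 := NT.lb1 T _ _ hne_5_7 hadj_5_7
                  have hl_7_5 := NT.lb1 T _ _ hne_5_7.symm hadj_7_5
                  have hs_5_7 : T.a x5 x7 = T.a x7 x5 := hsym _ _
                  have hz_0_7 : T.a x0 x7 = 0 := by
                    by_contra hadj_0_7
                    have hadj_7_0 : T.a x7 x0 ≠ 0 := by rw [hsym]; exact hadj_0_7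
                    have hl_0_7 := NT.lb1 T _ _ hne_0_7 hadj_0_7
                    have hl_7_0 := NT.lb1 T _ _ hne_0_7.symm hadj_7_0
                    have hs_0_7 : T.a x0 x7 = T.a x7 x0 := hsym _ _
                    refine NT.cert4 T x0 x2 x5 x7 hne_0_2 hne_0_5 hne_0_7 hne_2_5 hne_2_7 hne_5_7 (by norm_num) 1 1 1 1 (by norm_num) (by norm_num) (by norm_num) (by norm_num) ?_ ?_ ?_ ?_
                    · linarith only [hd x0, hwp x0, hl_0_2, hnn x0 x5 hne_0_5, hl_0_7]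
                    · linarith only [hd x2, hwp x2, hl_2_0, hl_2_5, hnn x2 x7 hne_2_7]
                    · linarith only [hd x5, hwp x5, hnn x5 x0 hne_0_5.symm, hl_5_2, hl_5_7]
                    · linarith only [hd x7, hwp x7, hl_7_0, hnn x7 x2 hne_2_7.symm, hl_7_5]
                  have hz_7_0 : T.a x7 x0 = 0 := by rw [hsym]; exact hz_0_7
                  have hz_1_7 : T.a x1 x7 = 0 := by
                    by_contra hadj_1_7
                    have hadj_7_1 : T.a x7 x1 ≠ 0 := by rw [hsym]; exact hadj_1_7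
                    have hl_1_7 := NT.lb1 T _ _ hne_1_7 hadj_1_7
                    have hl_7_1 := NT.lb1 T _ _ hne_1_7.symm hadj_7_1
                    have hs_1_7 : T.a x1 x7 = T.a x7 x1 := hsym _ _
                    refine NT.cert5 T x0 x1 x2 x5 x7 hne_0_1 hne_0_2 hne_0_5 hne_0_7 hne_1_2 hne_1_5 hne_1_7 hne_2_5 hne_2_7 hne_5_7 (by norm_num) 1 1 1 1 1 (by norm_num) (by norm_num) (by norm_num) (by norm_num) (by norm_num) ?_ ?_ ?_ ?_ ?_
                    · linarith only [hd x0, hwp x0, hl_0_1, hl_0_2, hnn x0 x5 hne_0_5, hnn x0 x7 hne_0_7]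
                    · linarith only [hd x1, hwp x1, hl_1_0, hnn x1 x2 hne_1_2, hnn x1 x5 hne_1_5, hl_1_7]
                    · linarith only [hd x2, hwp x2, hl_2_0, hnn x2 x1 hne_1_2.symm, hl_2_5, hnn x2 x7 hne_2_7]
                    · linarith only [hd x5, hwp x5, hnn x5 x0 hne_0_5.symm, hnn x5 x1 hne_1_5.symm, hl_5_2, hl_5_7]
                    · linarith only [hd x7, hwp x7, hnn x7 x0 hne_0_7.symm, hl_7_1, hnn x7 x2 hne_2_7.symm, hl_7_5]
                  have hz_7_1 : T.a x7 x1 = 0 := by rw [hsym]; exact hz_1_7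
                  have hz_2_7 : T.a x2 x7 = 0 := by
                    by_contra hadj_2_7
                    have hadj_7_2 : T.a x7 x2 ≠ 0 := by rw [hsym]; exact hadj_2_7
                    have hl_2_7 := NT.lb1 T _ _ hne_2_7 hadj_2_7
                    have hl_7_2 := NT.lb1 T _ _ hne_2_7.symm hadj_7_2
                    have hs_2_7 : T.a x2 x7 = T.a x7 x2 := hsym _ _
                    refine NT.cert3 T x2 x5 x7 hne_2_5 hne_2_7 hne_5_7 (by norm_num) 1 1 1 (by norm_num) (by norm_num) (by norm_num) ?_ ?_ ?_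
                    · linarith only [hd x2, hwp x2, hl_2_5, hl_2_7]
                    · linarith only [hd x5, hwp x5, hl_5_2, hl_5_7]
                    · linarith only [hd x7, hwp x7, hl_7_2, hl_7_5]
                  have hz_7_2 : T.a x7 x2 = 0 := by rw [hsym]; exact hz_2_7
                  have hz_3_7 : T.a x3 x7 = 0 := by
                    by_contra h
                    exact hq_3 ⟨x7, ⟨hne_0_7.symm, hne_1_7.symm, hne_2_7.symm, hne_3_7.symm, hne_4_7.symm⟩, h⟩
                  have hz_7_3 : T.a x7 x3 = 0 := by rw [hsym]; exact hz_3_7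
                  have hz_4_7 : T.a x4 x7 = 0 := by
                    by_contra h
                    exact hq_4 ⟨x7, ⟨hne_0_7.symm, hne_1_7.symm, hne_2_7.symm, hne_3_7.symm, hne_4_7.symm⟩, h⟩
                  have hz_7_4 : T.a x7 x4 = 0 := by rw [hsym]; exact hz_4_7
                  have hz_6_7 : T.a x6 x7 = 0 := by
                    by_contra h
                    exact hq_6 ⟨x7, ⟨hne_0_7.symm, hne_1_7.symm, hne_2_7.symm, hne_3_7.symm, hne_4_7.symm, hne_5_7.symm, hne_6_7.symm⟩, h⟩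
                  have hz_7_6 : T.a x7 x6 = 0 := by rw [hsym]; exact hz_6_7
                  exfalso
                  refine NT.cert7 T x0 x1 x2 x3 x5 x6 x7 hne_0_1 hne_0_2 hne_0_3 hne_0_5 hne_0_6 hne_0_7 hne_1_2 hne_1_3 hne_1_5 hne_1_6 hne_1_7 hne_2_3 hne_2_5 hne_2_6 hne_2_7 hne_3_5 hne_3_6 hne_3_7 hne_5_6 hne_5_7 hne_6_7 (by norm_num) 2 1 2 1 2 1 1 (by norm_num) (by norm_num) (by norm_num) (by norm_num) (by norm_num) (by norm_num) (by norm_num) ?_ ?_ ?_ ?_ ?_ ?_ ?_
                  · linarith only [hd x0, hwp x0, hl_0_1, hl_0_2, hl_0_3, hnn x0 x5 hne_0_5, hnn x0 x6 hne_0_6, hnn x0 x7 hne_0_7]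
                  · linarith only [hd x1, hwp x1, hl_1_0, hnn x1 x2 hne_1_2, hnn x1 x3 hne_1_3, hnn x1 x5 hne_1_5, hnn x1 x6 hne_1_6, hnn x1 x7 hne_1_7]
                  · linarith only [hd x2, hwp x2, hl_2_0, hnn x2 x1 hne_1_2.symm, hnn x2 x3 hne_2_3, hl_2_5, hnn x2 x6 hne_2_6, hnn x2 x7 hne_2_7]
                  · linarith only [hd x3, hwp x3, hl_3_0, hnn x3 x1 hne_1_3.symm, hnn x3 x2 hne_2_3.symm, hnn x3 x5 hne_3_5, hnn x3 x6 hne_3_6, hnn x3 x7 hne_3_7]
                  · linarith only [hd x5, hwp x5, hnn x5 x0 hne_0_5.symm, hnn x5 x1 hne_1_5.symm, hl_5_2, hnn x5 x3 hne_3_5.symm, hl_5_6, hl_5_7]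
                  · linarith only [hd x6, hwp x6, hnn x6 x0 hne_0_6.symm, hnn x6 x1 hne_1_6.symm, hnn x6 x2 hne_2_6.symm, hnn x6 x3 hne_3_6.symm, hl_6_5, hnn x6 x7 hne_6_7]
                  · linarith only [hd x7, hwp x7, hnn x7 x0 hne_0_7.symm, hnn x7 x1 hne_1_7.symm, hnn x7 x2 hne_2_7.symm, hnn x7 x3 hne_3_7.symm, hl_7_5, hnn x7 x6 hne_6_7.symm]
                · by_cases hq_2 : ∃ y, (y ≠ x0 ∧ y ≠ x1 ∧ y ≠ x2 ∧ y ≠ x3 ∧ y ≠ x4 ∧ y ≠ x5 ∧ y ≠ x6) ∧ T.a x2 y ≠ 0
                  · obtain ⟨x7, ⟨hn0, hn1, hn2, hn3, hn4, hn5, hn6⟩, hadj_2_7⟩ := hq_2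
                    have hne_0_7 : x0 ≠ x7 := hn0.symm
                    have hne_1_7 : x1 ≠ x7 := hn1.symm
                    have hne_2_7 : x2 ≠ x7 := hn2.symm
                    have hne_3_7 : x3 ≠ x7 := hn3.symm
                    have hne_4_7 : x4 ≠ x7 := hn4.symm
                    have hne_5_7 : x5 ≠ x7 := hn5.symm
                    have hne_6_7 : x6 ≠ x7 := hn6.symm
                    have hadj_7_2 : T.a x7 x2 ≠ 0 := by rw [hsym]; exact hadj_2_7
                    have hl_2_7 := NT.lb1 T _ _ hne_2_7 hadj_2_7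
                    have hl_7_2 := NT.lb1 T _ _ hne_2_7.symm hadj_7_2
                    have hs_2_7 : T.a x2 x7 = T.a x7 x2 := hsym _ _
                    have hz_0_7 : T.a x0 x7 = 0 := by
                      by_contra hadj_0_7
                      have hadj_7_0 : T.a x7 x0 ≠ 0 := by rw [hsym]; exact hadj_0_7
                      have hl_0_7 := NT.lb1 T _ _ hne_0_7 hadj_0_7
                      have hl_7_0 := NT.lb1 T _ _ hne_0_7.symm hadj_7_0
                      have hs_0_7 : T.a x0 x7 = T.a x7 x0 := hsym _ _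
                      refine NT.cert3 T x0 x2 x7 hne_0_2 hne_0_7 hne_2_7 (by norm_num) 1 1 1 (by norm_num) (by norm_num) (by norm_num) ?_ ?_ ?_
                      · linarith only [hd x0, hwp x0, hl_0_2, hl_0_7]
                      · linarith only [hd x2, hwp x2, hl_2_0, hl_2_7]
                      · linarith only [hd x7, hwp x7, hl_7_0, hl_7_2]
                    have hz_7_0 : T.a x7 x0 = 0 := by rw [hsym]; exact hz_0_7
                    have hz_1_7 : T.a x1 x7 = 0 := by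
                      by_contra hadj_1_7
                      have hadj_7_1 : T.a x7 x1 ≠ 0 := by rw [hsym]; exact hadj_1_7
                      have hl_1_7 := NT.lb1 T _ _ hne_1_7 hadj_1_7
                      have hl_7_1 := NT.lb1 T _ _ hne_1_7.symm hadj_7_1
                      have hs_1_7 : T.a x1 x7 = T.a x7 x1 := hsym _ _
                      refine NT.cert4 T x0 x1 x2 x7 hne_0_1 hne_0_2 hne_0_7 hne_1_2 hne_1_7 hne_2_7 (by norm_num) 1 1 1 1 (by norm_num) (by norm_num) (by norm_num) (by norm_num) ?_ ?_ ?_ ?_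
                      · linarith only [hd x0, hwp x0, hl_0_1, hl_0_2, hnn x0 x7 hne_0_7]
                      · linarith only [hd x1, hwp x1, hl_1_0, hnn x1 x2 hne_1_2, hl_1_7]
                      · linarith only [hd x2, hwp x2, hl_2_0, hnn x2 x1 hne_1_2.symm, hl_2_7]
                      · linarith only [hd x7, hwp x7, hnn x7 x0 hne_0_7.symm, hl_7_1, hl_7_2]
                    have hz_7_1 : T.a x7 x1 = 0 := by rw [hsym]; exact hz_1_7
                    have hz_3_7 : T.a x3 x7 = 0 := by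
                      by_contra h
                      exact hq_3 ⟨x7, ⟨hne_0_7.symm, hne_1_7.symm, hne_2_7.symm, hne_3_7.symm, hne_4_7.symm⟩, h⟩
                    have hz_7_3 : T.a x7 x3 = 0 := by rw [hsym]; exact hz_3_7
                    have hz_4_7 : T.a x4 x7 = 0 := by
                      by_contra h
                      exact hq_4 ⟨x7, ⟨hne_0_7.symm, hne_1_7.symm, hne_2_7.symm, hne_3_7.symm, hne_4_7.symm⟩, h⟩
                    have hz_7_4 : T.a x7 x4 = 0 := by rw [hsym]; exact hz_4_7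
                    have hz_5_7 : T.a x5 x7 = 0 := by
                      by_contra h
                      exact hq_5 ⟨x7, ⟨hne_0_7.symm, hne_1_7.symm, hne_2_7.symm, hne_3_7.symm, hne_4_7.symm, hne_5_7.symm, hne_6_7.symm⟩, h⟩
                    have hz_7_5 : T.a x7 x5 = 0 := by rw [hsym]; exact hz_5_7
                    have hz_6_7 : T.a x6 x7 = 0 := by
                      by_contra h
                      exact hq_6 ⟨x7, ⟨hne_0_7.symm, hne_1_7.symm, hne_2_7.symm, hne_3_7.symm, hne_4_7.symm, hne_5_7.symm, hne_6_7.symm⟩, h⟩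
                    have hz_7_6 : T.a x7 x6 = 0 := by rw [hsym]; exact hz_6_7
                    exfalso
                    refine NT.cert6 T x0 x1 x2 x3 x5 x7 hne_0_1 hne_0_2 hne_0_3 hne_0_5 hne_0_7 hne_1_2 hne_1_3 hne_1_5 hne_1_7 hne_2_3 hne_2_5 hne_2_7 hne_3_5 hne_3_7 hne_5_7 (by norm_num) 2 1 2 1 1 1 (by norm_num) (by norm_num) (by norm_num) (by norm_num) (by norm_num) (by norm_num) ?_ ?_ ?_ ?_ ?_ ?_
                    · linarith only [hd x0, hwp x0, hl_0_1, hl_0_2, hl_0_3, hnn x0 x5 hne_0_5, hnn x0 x7 hne_0_7]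
                    · linarith only [hd x1, hwp x1, hl_1_0, hnn x1 x2 hne_1_2, hnn x1 x3 hne_1_3, hnn x1 x5 hne_1_5, hnn x1 x7 hne_1_7]
                    · linarith only [hd x2, hwp x2, hl_2_0, hnn x2 x1 hne_1_2.symm, hnn x2 x3 hne_2_3, hl_2_5, hl_2_7]
                    · linarith only [hd x3, hwp x3, hl_3_0, hnn x3 x1 hne_1_3.symm, hnn x3 x2 hne_2_3.symm, hnn x3 x5 hne_3_5, hnn x3 x7 hne_3_7]
                    · linarith only [hd x5, hwp x5, hnn x5 x0 hne_0_5.symm, hnn x5 x1 hne_1_5.symm, hl_5_2, hnn x5 x3 hne_3_5.symm, hnn x5 x7 hne_5_7]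
                    · linarith only [hd x7, hwp x7, hnn x7 x0 hne_0_7.symm, hnn x7 x1 hne_1_7.symm, hl_7_2, hnn x7 x3 hne_3_7.symm, hnn x7 x5 hne_5_7.symm]
                  · by_cases hq_1 : ∃ y, (y ≠ x0 ∧ y ≠ x1 ∧ y ≠ x2 ∧ y ≠ x3 ∧ y ≠ x4 ∧ y ≠ x5 ∧ y ≠ x6) ∧ T.a x1 y ≠ 0
                    · obtain ⟨x7, ⟨hn0, hn1, hn2, hn3, hn4, hn5, hn6⟩, hadj_1_7⟩ := hq_1
                      have hne_0_7 : x0 ≠ x7 := hn0.symm
                      have hne_1_7 : x1 ≠ x7 := hn1.symm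
                      have hne_2_7 : x2 ≠ x7 := hn2.symm
                      have hne_3_7 : x3 ≠ x7 := hn3.symm
                      have hne_4_7 : x4 ≠ x7 := hn4.symm
                      have hne_5_7 : x5 ≠ x7 := hn5.symm
                      have hne_6_7 : x6 ≠ x7 := hn6.symm
                      have hadj_7_1 : T.a x7 x1 ≠ 0 := by rw [hsym]; exact hadj_1_7
                      have hl_1_7 := NT.lb1 T _ _ hne_1_7 hadj_1_7
                      have hl_7_1 := NT.lb1 T _ _ hne_1_7.symm hadj_7_1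
                      have hs_1_7 : T.a x1 x7 = T.a x7 x1 := hsym _ _
                      have hz_0_7 : T.a x0 x7 = 0 := by
                        by_contra hadj_0_7
                        have hadj_7_0 : T.a x7 x0 ≠ 0 := by rw [hsym]; exact hadj_0_7
                        have hl_0_7 := NT.lb1 T _ _ hne_0_7 hadj_0_7
                        have hl_7_0 := NT.lb1 T _ _ hne_0_7.symm hadj_7_0
                        have hs_0_7 : T.a x0 x7 = T.a x7 x0 := hsym _ _
                        refine NT.cert3 T x0 x1 x7 hne_0_1 hne_0_7 hne_1_7 (by norm_num) 1 1 1 (by norm_num) (by norm_num) (by norm_num) ?_ ?_ ?_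
                        · linarith only [hd x0, hwp x0, hl_0_1, hl_0_7]
                        · linarith only [hd x1, hwp x1, hl_1_0, hl_1_7]
                        · linarith only [hd x7, hwp x7, hl_7_0, hl_7_1]
                      have hz_7_0 : T.a x7 x0 = 0 := by rw [hsym]; exact hz_0_7
                      have hz_2_7 : T.a x2 x7 = 0 := by
                        by_contra h
                        exact hq_2 ⟨x7, ⟨hne_0_7.symm, hne_1_7.symm, hne_2_7.symm, hne_3_7.symm, hne_4_7.symm, hne_5_7.symm, hne_6_7.symm⟩, h⟩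
                      have hz_7_2 : T.a x7 x2 = 0 := by rw [hsym]; exact hz_2_7
                      have hz_3_7 : T.a x3 x7 = 0 := by
                        by_contra h
                        exact hq_3 ⟨x7, ⟨hne_0_7.symm, hne_1_7.symm, hne_2_7.symm, hne_3_7.symm, hne_4_7.symm⟩, h⟩
                      have hz_7_3 : T.a x7 x3 = 0 := by rw [hsym]; exact hz_3_7
                      have hz_4_7 : T.a x4 x7 = 0 := by
                        by_contra h
                        exact hq_4 ⟨x7, ⟨hne_0_7.symm, hne_1_7.symm, hne_2_7.symm, hne_3_7.symm, hne_4_7.symm⟩, h⟩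
                      have hz_7_4 : T.a x7 x4 = 0 := by rw [hsym]; exact hz_4_7
                      have hz_5_7 : T.a x5 x7 = 0 := by
                        by_contra h
                        exact hq_5 ⟨x7, ⟨hne_0_7.symm, hne_1_7.symm, hne_2_7.symm, hne_3_7.symm, hne_4_7.symm, hne_5_7.symm, hne_6_7.symm⟩, h⟩
                      have hz_7_5 : T.a x7 x5 = 0 := by rw [hsym]; exact hz_5_7
                      have hz_6_7 : T.a x6 x7 = 0 := by
                        by_contra h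
                        exact hq_6 ⟨x7, ⟨hne_0_7.symm, hne_1_7.symm, hne_2_7.symm, hne_3_7.symm, hne_4_7.symm, hne_5_7.symm, hne_6_7.symm⟩, h⟩
                      have hz_7_6 : T.a x7 x6 = 0 := by rw [hsym]; exact hz_6_7
                      exfalso
                      refine NT.cert7 T x0 x1 x2 x3 x4 x5 x7 hne_0_1 hne_0_2 hne_0_3 hne_0_4 hne_0_5 hne_0_7 hne_1_2 hne_1_3 hne_1_4 hne_1_5 hne_1_7 hne_2_3 hne_2_4 hne_2_5 hne_2_7 hne_3_4 hne_3_5 hne_3_7 hne_4_5 hne_4_7 hne_5_7 (by norm_num) 3 2 2 2 1 1 1 (by norm_num) (by norm_num) (by norm_num) (by norm_num) (by norm_num) (by norm_num) (by norm_num) ?_ ?_ ?_ ?_ ?_ ?_ ?_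
                      · linarith only [hd x0, hwp x0, hl_0_1, hl_0_2, hl_0_3, hnn x0 x4 hne_0_4, hnn x0 x5 hne_0_5, hnn x0 x7 hne_0_7]
                      · linarith only [hd x1, hwp x1, hl_1_0, hnn x1 x2 hne_1_2, hnn x1 x3 hne_1_3, hnn x1 x4 hne_1_4, hnn x1 x5 hne_1_5, hl_1_7]
                      · linarith only [hd x2, hwp x2, hl_2_0, hnn x2 x1 hne_1_2.symm, hnn x2 x3 hne_2_3, hnn x2 x4 hne_2_4, hl_2_5, hnn x2 x7 hne_2_7]
                      · linarith only [hd x3, hwp x3, hl_3_0, hnn x3 x1 hne_1_3.symm, hnn x3 x2 hne_2_3.symm, hl_3_4, hnn x3 x5 hne_3_5, hnn x3 x7 hne_3_7]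
                      · linarith only [hd x4, hwp x4, hnn x4 x0 hne_0_4.symm, hnn x4 x1 hne_1_4.symm, hnn x4 x2 hne_2_4.symm, hl_4_3, hnn x4 x5 hne_4_5, hnn x4 x7 hne_4_7]
                      · linarith only [hd x5, hwp x5, hnn x5 x0 hne_0_5.symm, hnn x5 x1 hne_1_5.symm, hl_5_2, hnn x5 x3 hne_3_5.symm, hnn x5 x4 hne_4_5.symm, hnn x5 x7 hne_5_7]
                      · linarith only [hd x7, hwp x7, hnn x7 x0 hne_0_7.symm, hl_7_1, hnn x7 x2 hne_2_7.symm, hnn x7 x3 hne_3_7.symm, hnn x7 x4 hne_4_7.symm, hnn x7 x5 hne_5_7.symm]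
                    · by_cases hq_0 : ∃ y, (y ≠ x0 ∧ y ≠ x1 ∧ y ≠ x2 ∧ y ≠ x3 ∧ y ≠ x4 ∧ y ≠ x5 ∧ y ≠ x6) ∧ T.a x0 y ≠ 0
                      · obtain ⟨x7, ⟨hn0, hn1, hn2, hn3, hn4, hn5, hn6⟩, hadj_0_7⟩ := hq_0
                        have hne_0_7 : x0 ≠ x7 := hn0.symm
                        have hne_1_7 : x1 ≠ x7 := hn1.symm
                        have hne_2_7 : x2 ≠ x7 := hn2.symm
                        have hne_3_7 : x3 ≠ x7 := hn3.symm
                        have hne_4_7 : x4 ≠ x7 := hn4.symm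
                        have hne_5_7 : x5 ≠ x7 := hn5.symm
                        have hne_6_7 : x6 ≠ x7 := hn6.symm
                        have hadj_7_0 : T.a x7 x0 ≠ 0 := by rw [hsym]; exact hadj_0_7
                        have hl_0_7 := NT.lb1 T _ _ hne_0_7 hadj_0_7
                        have hl_7_0 := NT.lb1 T _ _ hne_0_7.symm hadj_7_0
                        have hs_0_7 : T.a x0 x7 = T.a x7 x0 := hsym _ _
                        have hz_1_7 : T.a x1 x7 = 0 := by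
                          by_contra h
                          exact hq_1 ⟨x7, ⟨hne_0_7.symm, hne_1_7.symm, hne_2_7.symm, hne_3_7.symm, hne_4_7.symm, hne_5_7.symm, hne_6_7.symm⟩, h⟩
                        have hz_7_1 : T.a x7 x1 = 0 := by rw [hsym]; exact hz_1_7
                        have hz_2_7 : T.a x2 x7 = 0 := by
                          by_contra h
                          exact hq_2 ⟨x7, ⟨hne_0_7.symm, hne_1_7.symm, hne_2_7.symm, hne_3_7.symm, hne_4_7.symm, hne_5_7.symm, hne_6_7.symm⟩, h⟩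
                        have hz_7_2 : T.a x7 x2 = 0 := by rw [hsym]; exact hz_2_7
                        have hz_3_7 : T.a x3 x7 = 0 := by
                          by_contra h
                          exact hq_3 ⟨x7, ⟨hne_0_7.symm, hne_1_7.symm, hne_2_7.symm, hne_3_7.symm, hne_4_7.symm⟩, h⟩
                        have hz_7_3 : T.a x7 x3 = 0 := by rw [hsym]; exact hz_3_7
                        have hz_4_7 : T.a x4 x7 = 0 := by
                          by_contra h
                          exact hq_4 ⟨x7, ⟨hne_0_7.symm, hne_1_7.symm, hne_2_7.symm, hne_3_7.symm, hne_4_7.symm⟩, h⟩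
                        have hz_7_4 : T.a x7 x4 = 0 := by rw [hsym]; exact hz_4_7
                        have hz_5_7 : T.a x5 x7 = 0 := by
                          by_contra h
                          exact hq_5 ⟨x7, ⟨hne_0_7.symm, hne_1_7.symm, hne_2_7.symm, hne_3_7.symm, hne_4_7.symm, hne_5_7.symm, hne_6_7.symm⟩, h⟩
                        have hz_7_5 : T.a x7 x5 = 0 := by rw [hsym]; exact hz_5_7
                        have hz_6_7 : T.a x6 x7 = 0 := by
                          by_contra h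
                          exact hq_6 ⟨x7, ⟨hne_0_7.symm, hne_1_7.symm, hne_2_7.symm, hne_3_7.symm, hne_4_7.symm, hne_5_7.symm, hne_6_7.symm⟩, h⟩
                        have hz_7_6 : T.a x7 x6 = 0 := by rw [hsym]; exact hz_6_7
                        exfalso
                        refine NT.cert5 T x0 x1 x2 x3 x7 hne_0_1 hne_0_2 hne_0_3 hne_0_7 hne_1_2 hne_1_3 hne_1_7 hne_2_3 hne_2_7 hne_3_7 (by norm_num) 2 1 1 1 1 (by norm_num) (by norm_num) (by norm_num) (by norm_num) (by norm_num) ?_ ?_ ?_ ?_ ?_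
                        · linarith only [hd x0, hwp x0, hl_0_1, hl_0_2, hl_0_3, hl_0_7]
                        · linarith only [hd x1, hwp x1, hl_1_0, hnn x1 x2 hne_1_2, hnn x1 x3 hne_1_3, hnn x1 x7 hne_1_7]
                        · linarith only [hd x2, hwp x2, hl_2_0, hnn x2 x1 hne_1_2.symm, hnn x2 x3 hne_2_3, hnn x2 x7 hne_2_7]
                        · linarith only [hd x3, hwp x3, hl_3_0, hnn x3 x1 hne_1_3.symm, hnn x3 x2 hne_2_3.symm, hnn x3 x7 hne_3_7]
                        · linarith only [hd x7, hwp x7, hl_7_0, hnn x7 x1 hne_1_7.symm, hnn x7 x2 hne_2_7.symm, hnn x7 x3 hne_3_7.symm]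
                      · exfalso
                        refine NT.not_closed T ![x0, x1, x2, x3, x4, x5, x6] (by norm_num) (by norm_num) ?_
                        intro s y hy
                        by_contra hcon
                        fin_cases s
                        · exact hq_0 ⟨y, ⟨fun h => hcon ⟨(0 : Fin 7), h⟩, fun h => hcon ⟨(1 : Fin 7), h⟩, fun h => hcon ⟨(2 : Fin 7), h⟩, fun h => hcon ⟨(3 : Fin 7), h⟩, fun h => hcon ⟨(4 : Fin 7), h⟩, fun h => hcon ⟨(5 : Fin 7), h⟩, fun h => hcon ⟨(6 : Fin 7), h⟩⟩, hy⟩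
                        · exact hq_1 ⟨y, ⟨fun h => hcon ⟨(0 : Fin 7), h⟩, fun h => hcon ⟨(1 : Fin 7), h⟩, fun h => hcon ⟨(2 : Fin 7), h⟩, fun h => hcon ⟨(3 : Fin 7), h⟩, fun h => hcon ⟨(4 : Fin 7), h⟩, fun h => hcon ⟨(5 : Fin 7), h⟩, fun h => hcon ⟨(6 : Fin 7), h⟩⟩, hy⟩
                        · exact hq_2 ⟨y, ⟨fun h => hcon ⟨(0 : Fin 7), h⟩, fun h => hcon ⟨(1 : Fin 7), h⟩, fun h => hcon ⟨(2 : Fin 7), h⟩, fun h => hcon ⟨(3 : Fin 7), h⟩, fun h => hcon ⟨(4 : Fin 7), h⟩, fun h => hcon ⟨(5 : Fin 7), h⟩, fun h => hcon ⟨(6 : Fin 7), h⟩⟩, hy⟩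
                        · exact hq_3 ⟨y, ⟨fun h => hcon ⟨(0 : Fin 7), h⟩, fun h => hcon ⟨(1 : Fin 7), h⟩, fun h => hcon ⟨(2 : Fin 7), h⟩, fun h => hcon ⟨(3 : Fin 7), h⟩, fun h => hcon ⟨(4 : Fin 7), h⟩⟩, hy⟩
                        · exact hq_4 ⟨y, ⟨fun h => hcon ⟨(0 : Fin 7), h⟩, fun h => hcon ⟨(1 : Fin 7), h⟩, fun h => hcon ⟨(2 : Fin 7), h⟩, fun h => hcon ⟨(3 : Fin 7), h⟩, fun h => hcon ⟨(4 : Fin 7), h⟩⟩, hy⟩
                        · exact hq_5 ⟨y, ⟨fun h => hcon ⟨(0 : Fin 7), h⟩, fun h => hcon ⟨(1 : Fin 7), h⟩, fun h => hcon ⟨(2 : Fin 7), h⟩, fun h => hcon ⟨(3 : Fin 7), h⟩, fun h => hcon ⟨(4 : Fin 7), h⟩, fun h => hcon ⟨(5 : Fin 7), h⟩, fun h => hcon ⟨(6 : Fin 7), h⟩⟩, hy⟩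
                        · exact hq_6 ⟨y, ⟨fun h => hcon ⟨(0 : Fin 7), h⟩, fun h => hcon ⟨(1 : Fin 7), h⟩, fun h => hcon ⟨(2 : Fin 7), h⟩, fun h => hcon ⟨(3 : Fin 7), h⟩, fun h => hcon ⟨(4 : Fin 7), h⟩, fun h => hcon ⟨(5 : Fin 7), h⟩, fun h => hcon ⟨(6 : Fin 7), h⟩⟩, hy⟩
            · by_cases hq_2 : ∃ y, (y ≠ x0 ∧ y ≠ x1 ∧ y ≠ x2 ∧ y ≠ x3 ∧ y ≠ x4 ∧ y ≠ x5) ∧ T.a x2 y ≠ 0
              · obtain ⟨x6, ⟨hn0, hn1, hn2, hn3, hn4, hn5⟩, hadj_2_6⟩ := hq_2
                have hne_0_6 : x0 ≠ x6 := hn0.symm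
                have hne_1_6 : x1 ≠ x6 := hn1.symm
                have hne_2_6 : x2 ≠ x6 := hn2.symm
                have hne_3_6 : x3 ≠ x6 := hn3.symm
                have hne_4_6 : x4 ≠ x6 := hn4.symm
                have hne_5_6 : x5 ≠ x6 := hn5.symm
                have hadj_6_2 : T.a x6 x2 ≠ 0 := by rw [hsym]; exact hadj_2_6
                have hl_2_6 := NT.lb1 T _ _ hne_2_6 hadj_2_6
                have hl_6_2 := NT.lb1 T _ _ hne_2_6.symm hadj_6_2
                have hs_2_6 : T.a x2 x6 = T.a x6 x2 := hsym _ _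
                have hz_0_6 : T.a x0 x6 = 0 := by
                  by_contra hadj_0_6
                  have hadj_6_0 : T.a x6 x0 ≠ 0 := by rw [hsym]; exact hadj_0_6
                  have hl_0_6 := NT.lb1 T _ _ hne_0_6 hadj_0_6
                  have hl_6_0 := NT.lb1 T _ _ hne_0_6.symm hadj_6_0
                  have hs_0_6 : T.a x0 x6 = T.a x6 x0 := hsym _ _
                  refine NT.cert3 T x0 x2 x6 hne_0_2 hne_0_6 hne_2_6 (by norm_num) 1 1 1 (by norm_num) (by norm_num) (by norm_num) ?_ ?_ ?_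
                  · linarith only [hd x0, hwp x0, hl_0_2, hl_0_6]
                  · linarith only [hd x2, hwp x2, hl_2_0, hl_2_6]
                  · linarith only [hd x6, hwp x6, hl_6_0, hl_6_2]
                have hz_6_0 : T.a x6 x0 = 0 := by rw [hsym]; exact hz_0_6
                have hz_1_6 : T.a x1 x6 = 0 := by
                  by_contra hadj_1_6
                  have hadj_6_1 : T.a x6 x1 ≠ 0 := by rw [hsym]; exact hadj_1_6
                  have hl_1_6 := NT.lb1 T _ _ hne_1_6 hadj_1_6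
                  have hl_6_1 := NT.lb1 T _ _ hne_1_6.symm hadj_6_1
                  have hs_1_6 : T.a x1 x6 = T.a x6 x1 := hsym _ _
                  refine NT.cert4 T x0 x1 x2 x6 hne_0_1 hne_0_2 hne_0_6 hne_1_2 hne_1_6 hne_2_6 (by norm_num) 1 1 1 1 (by norm_num) (by norm_num) (by norm_num) (by norm_num) ?_ ?_ ?_ ?_
                  · linarith only [hd x0, hwp x0, hl_0_1, hl_0_2, hnn x0 x6 hne_0_6]
                  · linarith only [hd x1, hwp x1, hl_1_0, hnn x1 x2 hne_1_2, hl_1_6]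
                  · linarith only [hd x2, hwp x2, hl_2_0, hnn x2 x1 hne_1_2.symm, hl_2_6]
                  · linarith only [hd x6, hwp x6, hnn x6 x0 hne_0_6.symm, hl_6_1, hl_6_2]
                have hz_6_1 : T.a x6 x1 = 0 := by rw [hsym]; exact hz_1_6
                have hz_3_6 : T.a x3 x6 = 0 := by
                  by_contra h
                  exact hq_3 ⟨x6, ⟨hne_0_6.symm, hne_1_6.symm, hne_2_6.symm, hne_3_6.symm, hne_4_6.symm⟩, h⟩
                have hz_6_3 : T.a x6 x3 = 0 := by rw [hsym]; exact hz_3_6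
                have hz_4_6 : T.a x4 x6 = 0 := by
                  by_contra h
                  exact hq_4 ⟨x6, ⟨hne_0_6.symm, hne_1_6.symm, hne_2_6.symm, hne_3_6.symm, hne_4_6.symm⟩, h⟩
                have hz_6_4 : T.a x6 x4 = 0 := by rw [hsym]; exact hz_4_6
                have hz_5_6 : T.a x5 x6 = 0 := by
                  by_contra h
                  exact hq_5 ⟨x6, ⟨hne_0_6.symm, hne_1_6.symm, hne_2_6.symm, hne_3_6.symm, hne_4_6.symm, hne_5_6.symm⟩, h⟩
                have hz_6_5 : T.a x6 x5 = 0 := by rw [hsym]; exact hz_5_6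
                exfalso
                refine NT.cert6 T x0 x1 x2 x3 x5 x6 hne_0_1 hne_0_2 hne_0_3 hne_0_5 hne_0_6 hne_1_2 hne_1_3 hne_1_5 hne_1_6 hne_2_3 hne_2_5 hne_2_6 hne_3_5 hne_3_6 hne_5_6 (by norm_num) 2 1 2 1 1 1 (by norm_num) (by norm_num) (by norm_num) (by norm_num) (by norm_num) (by norm_num) ?_ ?_ ?_ ?_ ?_ ?_
                · linarith only [hd x0, hwp x0, hl_0_1, hl_0_2, hl_0_3, hnn x0 x5 hne_0_5, hnn x0 x6 hne_0_6]
                · linarith only [hd x1, hwp x1, hl_1_0, hnn x1 x2 hne_1_2, hnn x1 x3 hne_1_3, hnn x1 x5 hne_1_5, hnn x1 x6 hne_1_6]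
                · linarith only [hd x2, hwp x2, hl_2_0, hnn x2 x1 hne_1_2.symm, hnn x2 x3 hne_2_3, hl_2_5, hl_2_6]
                · linarith only [hd x3, hwp x3, hl_3_0, hnn x3 x1 hne_1_3.symm, hnn x3 x2 hne_2_3.symm, hnn x3 x5 hne_3_5, hnn x3 x6 hne_3_6]
                · linarith only [hd x5, hwp x5, hnn x5 x0 hne_0_5.symm, hnn x5 x1 hne_1_5.symm, hl_5_2, hnn x5 x3 hne_3_5.symm, hnn x5 x6 hne_5_6]
                · linarith only [hd x6, hwp x6, hnn x6 x0 hne_0_6.symm, hnn x6 x1 hne_1_6.symm, hl_6_2, hnn x6 x3 hne_3_6.symm, hnn x6 x5 hne_5_6.symm]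
              · by_cases hq_1 : ∃ y, (y ≠ x0 ∧ y ≠ x1 ∧ y ≠ x2 ∧ y ≠ x3 ∧ y ≠ x4 ∧ y ≠ x5) ∧ T.a x1 y ≠ 0
                · obtain ⟨x6, ⟨hn0, hn1, hn2, hn3, hn4, hn5⟩, hadj_1_6⟩ := hq_1
                  have hne_0_6 : x0 ≠ x6 := hn0.symm
                  have hne_1_6 : x1 ≠ x6 := hn1.symm
                  have hne_2_6 : x2 ≠ x6 := hn2.symm
                  have hne_3_6 : x3 ≠ x6 := hn3.symm
                  have hne_4_6 : x4 ≠ x6 := hn4.symm
                  have hne_5_6 : x5 ≠ x6 := hn5.symm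
                  have hadj_6_1 : T.a x6 x1 ≠ 0 := by rw [hsym]; exact hadj_1_6
                  have hl_1_6 := NT.lb1 T _ _ hne_1_6 hadj_1_6
                  have hl_6_1 := NT.lb1 T _ _ hne_1_6.symm hadj_6_1
                  have hs_1_6 : T.a x1 x6 = T.a x6 x1 := hsym _ _
                  have hz_0_6 : T.a x0 x6 = 0 := by
                    by_contra hadj_0_6
                    have hadj_6_0 : T.a x6 x0 ≠ 0 := by rw [hsym]; exact hadj_0_6
                    have hl_0_6 := NT.lb1 T _ _ hne_0_6 hadj_0_6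
                    have hl_6_0 := NT.lb1 T _ _ hne_0_6.symm hadj_6_0
                    have hs_0_6 : T.a x0 x6 = T.a x6 x0 := hsym _ _
                    refine NT.cert3 T x0 x1 x6 hne_0_1 hne_0_6 hne_1_6 (by norm_num) 1 1 1 (by norm_num) (by norm_num) (by norm_num) ?_ ?_ ?_
                    · linarith only [hd x0, hwp x0, hl_0_1, hl_0_6]
                    · linarith only [hd x1, hwp x1, hl_1_0, hl_1_6]
                    · linarith only [hd x6, hwp x6, hl_6_0, hl_6_1]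
                  have hz_6_0 : T.a x6 x0 = 0 := by rw [hsym]; exact hz_0_6
                  have hz_2_6 : T.a x2 x6 = 0 := by
                    by_contra h
                    exact hq_2 ⟨x6, ⟨hne_0_6.symm, hne_1_6.symm, hne_2_6.symm, hne_3_6.symm, hne_4_6.symm, hne_5_6.symm⟩, h⟩
                  have hz_6_2 : T.a x6 x2 = 0 := by rw [hsym]; exact hz_2_6
                  have hz_3_6 : T.a x3 x6 = 0 := by
                    by_contra h
                    exact hq_3 ⟨x6, ⟨hne_0_6.symm, hne_1_6.symm, hne_2_6.symm, hne_3_6.symm, hne_4_6.symm⟩, h⟩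
                  have hz_6_3 : T.a x6 x3 = 0 := by rw [hsym]; exact hz_3_6
                  have hz_4_6 : T.a x4 x6 = 0 := by
                    by_contra h
                    exact hq_4 ⟨x6, ⟨hne_0_6.symm, hne_1_6.symm, hne_2_6.symm, hne_3_6.symm, hne_4_6.symm⟩, h⟩
                  have hz_6_4 : T.a x6 x4 = 0 := by rw [hsym]; exact hz_4_6
                  have hz_5_6 : T.a x5 x6 = 0 := by
                    by_contra h
                    exact hq_5 ⟨x6, ⟨hne_0_6.symm, hne_1_6.symm, hne_2_6.symm, hne_3_6.symm, hne_4_6.symm, hne_5_6.symm⟩, h⟩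
                  have hz_6_5 : T.a x6 x5 = 0 := by rw [hsym]; exact hz_5_6
                  exfalso
                  refine NT.cert7 T x0 x1 x2 x3 x4 x5 x6 hne_0_1 hne_0_2 hne_0_3 hne_0_4 hne_0_5 hne_0_6 hne_1_2 hne_1_3 hne_1_4 hne_1_5 hne_1_6 hne_2_3 hne_2_4 hne_2_5 hne_2_6 hne_3_4 hne_3_5 hne_3_6 hne_4_5 hne_4_6 hne_5_6 (by norm_num) 3 2 2 2 1 1 1 (by norm_num) (by norm_num) (by norm_num) (by norm_num) (by norm_num) (by norm_num) (by norm_num) ?_ ?_ ?_ ?_ ?_ ?_ ?_
                  · linarith only [hd x0, hwp x0, hl_0_1, hl_0_2, hl_0_3, hnn x0 x4 hne_0_4, hnn x0 x5 hne_0_5, hnn x0 x6 hne_0_6]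
                  · linarith only [hd x1, hwp x1, hl_1_0, hnn x1 x2 hne_1_2, hnn x1 x3 hne_1_3, hnn x1 x4 hne_1_4, hnn x1 x5 hne_1_5, hl_1_6]
                  · linarith only [hd x2, hwp x2, hl_2_0, hnn x2 x1 hne_1_2.symm, hnn x2 x3 hne_2_3, hnn x2 x4 hne_2_4, hl_2_5, hnn x2 x6 hne_2_6]
                  · linarith only [hd x3, hwp x3, hl_3_0, hnn x3 x1 hne_1_3.symm, hnn x3 x2 hne_2_3.symm, hl_3_4, hnn x3 x5 hne_3_5, hnn x3 x6 hne_3_6]
                  · linarith only [hd x4, hwp x4, hnn x4 x0 hne_0_4.symm, hnn x4 x1 hne_1_4.symm, hnn x4 x2 hne_2_4.symm, hl_4_3, hnn x4 x5 hne_4_5, hnn x4 x6 hne_4_6]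
                  · linarith only [hd x5, hwp x5, hnn x5 x0 hne_0_5.symm, hnn x5 x1 hne_1_5.symm, hl_5_2, hnn x5 x3 hne_3_5.symm, hnn x5 x4 hne_4_5.symm, hnn x5 x6 hne_5_6]
                  · linarith only [hd x6, hwp x6, hnn x6 x0 hne_0_6.symm, hl_6_1, hnn x6 x2 hne_2_6.symm, hnn x6 x3 hne_3_6.symm, hnn x6 x4 hne_4_6.symm, hnn x6 x5 hne_5_6.symm]
                · by_cases hq_0 : ∃ y, (y ≠ x0 ∧ y ≠ x1 ∧ y ≠ x2 ∧ y ≠ x3 ∧ y ≠ x4 ∧ y ≠ x5) ∧ T.a x0 y ≠ 0
                  · obtain ⟨x6, ⟨hn0, hn1, hn2, hn3, hn4, hn5⟩, hadj_0_6⟩ := hq_0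
                    have hne_0_6 : x0 ≠ x6 := hn0.symm
                    have hne_1_6 : x1 ≠ x6 := hn1.symm
                    have hne_2_6 : x2 ≠ x6 := hn2.symm
                    have hne_3_6 : x3 ≠ x6 := hn3.symm
                    have hne_4_6 : x4 ≠ x6 := hn4.symm
                    have hne_5_6 : x5 ≠ x6 := hn5.symm
                    have hadj_6_0 : T.a x6 x0 ≠ 0 := by rw [hsym]; exact hadj_0_6
                    have hl_0_6 := NT.lb1 T _ _ hne_0_6 hadj_0_6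
                    have hl_6_0 := NT.lb1 T _ _ hne_0_6.symm hadj_6_0
                    have hs_0_6 : T.a x0 x6 = T.a x6 x0 := hsym _ _
                    have hz_1_6 : T.a x1 x6 = 0 := by
                      by_contra h
                      exact hq_1 ⟨x6, ⟨hne_0_6.symm, hne_1_6.symm, hne_2_6.symm, hne_3_6.symm, hne_4_6.symm, hne_5_6.symm⟩, h⟩
                    have hz_6_1 : T.a x6 x1 = 0 := by rw [hsym]; exact hz_1_6
                    have hz_2_6 : T.a x2 x6 = 0 := by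
                      by_contra h
                      exact hq_2 ⟨x6, ⟨hne_0_6.symm, hne_1_6.symm, hne_2_6.symm, hne_3_6.symm, hne_4_6.symm, hne_5_6.symm⟩, h⟩
                    have hz_6_2 : T.a x6 x2 = 0 := by rw [hsym]; exact hz_2_6
                    have hz_3_6 : T.a x3 x6 = 0 := by
                      by_contra h
                      exact hq_3 ⟨x6, ⟨hne_0_6.symm, hne_1_6.symm, hne_2_6.symm, hne_3_6.symm, hne_4_6.symm⟩, h⟩
                    have hz_6_3 : T.a x6 x3 = 0 := by rw [hsym]; exact hz_3_6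
                    have hz_4_6 : T.a x4 x6 = 0 := by
                      by_contra h
                      exact hq_4 ⟨x6, ⟨hne_0_6.symm, hne_1_6.symm, hne_2_6.symm, hne_3_6.symm, hne_4_6.symm⟩, h⟩
                    have hz_6_4 : T.a x6 x4 = 0 := by rw [hsym]; exact hz_4_6
                    have hz_5_6 : T.a x5 x6 = 0 := by
                      by_contra h
                      exact hq_5 ⟨x6, ⟨hne_0_6.symm, hne_1_6.symm, hne_2_6.symm, hne_3_6.symm, hne_4_6.symm, hne_5_6.symm⟩, h⟩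
                    have hz_6_5 : T.a x6 x5 = 0 := by rw [hsym]; exact hz_5_6
                    exfalso
                    refine NT.cert5 T x0 x1 x2 x3 x6 hne_0_1 hne_0_2 hne_0_3 hne_0_6 hne_1_2 hne_1_3 hne_1_6 hne_2_3 hne_2_6 hne_3_6 (by norm_num) 2 1 1 1 1 (by norm_num) (by norm_num) (by norm_num) (by norm_num) (by norm_num) ?_ ?_ ?_ ?_ ?_
                    · linarith only [hd x0, hwp x0, hl_0_1, hl_0_2, hl_0_3, hl_0_6]
                    · linarith only [hd x1, hwp x1, hl_1_0, hnn x1 x2 hne_1_2, hnn x1 x3 hne_1_3, hnn x1 x6 hne_1_6]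
                    · linarith only [hd x2, hwp x2, hl_2_0, hnn x2 x1 hne_1_2.symm, hnn x2 x3 hne_2_3, hnn x2 x6 hne_2_6]
                    · linarith only [hd x3, hwp x3, hl_3_0, hnn x3 x1 hne_1_3.symm, hnn x3 x2 hne_2_3.symm, hnn x3 x6 hne_3_6]
                    · linarith only [hd x6, hwp x6, hl_6_0, hnn x6 x1 hne_1_6.symm, hnn x6 x2 hne_2_6.symm, hnn x6 x3 hne_3_6.symm]
                  · exfalso
                    refine NT.not_closed T ![x0, x1, x2, x3, x4, x5] (by norm_num) (by norm_num) ?_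
                    intro s y hy
                    by_contra hcon
                    fin_cases s
                    · exact hq_0 ⟨y, ⟨fun h => hcon ⟨(0 : Fin 6), h⟩, fun h => hcon ⟨(1 : Fin 6), h⟩, fun h => hcon ⟨(2 : Fin 6), h⟩, fun h => hcon ⟨(3 : Fin 6), h⟩, fun h => hcon ⟨(4 : Fin 6), h⟩, fun h => hcon ⟨(5 : Fin 6), h⟩⟩, hy⟩
                    · exact hq_1 ⟨y, ⟨fun h => hcon ⟨(0 : Fin 6), h⟩, fun h => hcon ⟨(1 : Fin 6), h⟩, fun h => hcon ⟨(2 : Fin 6), h⟩, fun h => hcon ⟨(3 : Fin 6), h⟩, fun h => hcon ⟨(4 : Fin 6), h⟩, fun h => hcon ⟨(5 : Fin 6), h⟩⟩, hy⟩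
                    · exact hq_2 ⟨y, ⟨fun h => hcon ⟨(0 : Fin 6), h⟩, fun h => hcon ⟨(1 : Fin 6), h⟩, fun h => hcon ⟨(2 : Fin 6), h⟩, fun h => hcon ⟨(3 : Fin 6), h⟩, fun h => hcon ⟨(4 : Fin 6), h⟩, fun h => hcon ⟨(5 : Fin 6), h⟩⟩, hy⟩
                    · exact hq_3 ⟨y, ⟨fun h => hcon ⟨(0 : Fin 6), h⟩, fun h => hcon ⟨(1 : Fin 6), h⟩, fun h => hcon ⟨(2 : Fin 6), h⟩, fun h => hcon ⟨(3 : Fin 6), h⟩, fun h => hcon ⟨(4 : Fin 6), h⟩⟩, hy⟩
                    · exact hq_4 ⟨y, ⟨fun h => hcon ⟨(0 : Fin 6), h⟩, fun h => hcon ⟨(1 : Fin 6), h⟩, fun h => hcon ⟨(2 : Fin 6), h⟩, fun h => hcon ⟨(3 : Fin 6), h⟩, fun h => hcon ⟨(4 : Fin 6), h⟩⟩, hy⟩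
                    · exact hq_5 ⟨y, ⟨fun h => hcon ⟨(0 : Fin 6), h⟩, fun h => hcon ⟨(1 : Fin 6), h⟩, fun h => hcon ⟨(2 : Fin 6), h⟩, fun h => hcon ⟨(3 : Fin 6), h⟩, fun h => hcon ⟨(4 : Fin 6), h⟩, fun h => hcon ⟨(5 : Fin 6), h⟩⟩, hy⟩
          · by_cases hq_1 : ∃ y, (y ≠ x0 ∧ y ≠ x1 ∧ y ≠ x2 ∧ y ≠ x3 ∧ y ≠ x4) ∧ T.a x1 y ≠ 0
            · obtain ⟨x5, ⟨hn0, hn1, hn2, hn3, hn4⟩, hadj_1_5⟩ := hq_1
              have hne_0_5 : x0 ≠ x5 := hn0.symm
              have hne_1_5 : x1 ≠ x5 := hn1.symm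
              have hne_2_5 : x2 ≠ x5 := hn2.symm
              have hne_3_5 : x3 ≠ x5 := hn3.symm
              have hne_4_5 : x4 ≠ x5 := hn4.symm
              have hadj_5_1 : T.a x5 x1 ≠ 0 := by rw [hsym]; exact hadj_1_5
              have hl_1_5 := NT.lb1 T _ _ hne_1_5 hadj_1_5
              have hl_5_1 := NT.lb1 T _ _ hne_1_5.symm hadj_5_1
              have hs_1_5 : T.a x1 x5 = T.a x5 x1 := hsym _ _
              have hz_0_5 : T.a x0 x5 = 0 := by
                by_contra hadj_0_5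
                have hadj_5_0 : T.a x5 x0 ≠ 0 := by rw [hsym]; exact hadj_0_5
                have hl_0_5 := NT.lb1 T _ _ hne_0_5 hadj_0_5
                have hl_5_0 := NT.lb1 T _ _ hne_0_5.symm hadj_5_0
                have hs_0_5 : T.a x0 x5 = T.a x5 x0 := hsym _ _
                refine NT.cert3 T x0 x1 x5 hne_0_1 hne_0_5 hne_1_5 (by norm_num) 1 1 1 (by norm_num) (by norm_num) (by norm_num) ?_ ?_ ?_
                · linarith only [hd x0, hwp x0, hl_0_1, hl_0_5]
                · linarith only [hd x1, hwp x1, hl_1_0, hl_1_5]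
                · linarith only [hd x5, hwp x5, hl_5_0, hl_5_1]
              have hz_5_0 : T.a x5 x0 = 0 := by rw [hsym]; exact hz_0_5
              have hz_2_5 : T.a x2 x5 = 0 := by
                by_contra h
                exact hq_2 ⟨x5, ⟨hne_0_5.symm, hne_1_5.symm, hne_2_5.symm, hne_3_5.symm, hne_4_5.symm⟩, h⟩
              have hz_5_2 : T.a x5 x2 = 0 := by rw [hsym]; exact hz_2_5
              have hz_3_5 : T.a x3 x5 = 0 := by
                by_contra h
                exact hq_3 ⟨x5, ⟨hne_0_5.symm, hne_1_5.symm, hne_2_5.symm, hne_3_5.symm, hne_4_5.symm⟩, h⟩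
              have hz_5_3 : T.a x5 x3 = 0 := by rw [hsym]; exact hz_3_5
              have hz_4_5 : T.a x4 x5 = 0 := by
                by_contra h
                exact hq_4 ⟨x5, ⟨hne_0_5.symm, hne_1_5.symm, hne_2_5.symm, hne_3_5.symm, hne_4_5.symm⟩, h⟩
              have hz_5_4 : T.a x5 x4 = 0 := by rw [hsym]; exact hz_4_5
              by_cases hq_5 : ∃ y, (y ≠ x0 ∧ y ≠ x1 ∧ y ≠ x2 ∧ y ≠ x3 ∧ y ≠ x4 ∧ y ≠ x5) ∧ T.a x5 y ≠ 0
              · obtain ⟨x6, ⟨hn0, hn1, hn2, hn3, hn4, hn5⟩, hadj_5_6⟩ := hq_5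
                have hne_0_6 : x0 ≠ x6 := hn0.symm
                have hne_1_6 : x1 ≠ x6 := hn1.symm
                have hne_2_6 : x2 ≠ x6 := hn2.symm
                have hne_3_6 : x3 ≠ x6 := hn3.symm
                have hne_4_6 : x4 ≠ x6 := hn4.symm
                have hne_5_6 : x5 ≠ x6 := hn5.symm
                have hadj_6_5 : T.a x6 x5 ≠ 0 := by rw [hsym]; exact hadj_5_6
                have hl_5_6 := NT.lb1 T _ _ hne_5_6 hadj_5_6
                have hl_6_5 := NT.lb1 T _ _ hne_5_6.symm hadj_6_5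
                have hs_5_6 : T.a x5 x6 = T.a x6 x5 := hsym _ _
                have hz_0_6 : T.a x0 x6 = 0 := by
                  by_contra hadj_0_6
                  have hadj_6_0 : T.a x6 x0 ≠ 0 := by rw [hsym]; exact hadj_0_6
                  have hl_0_6 := NT.lb1 T _ _ hne_0_6 hadj_0_6
                  have hl_6_0 := NT.lb1 T _ _ hne_0_6.symm hadj_6_0
                  have hs_0_6 : T.a x0 x6 = T.a x6 x0 := hsym _ _
                  refine NT.cert4 T x0 x1 x5 x6 hne_0_1 hne_0_5 hne_0_6 hne_1_5 hne_1_6 hne_5_6 (by norm_num) 1 1 1 1 (by norm_num) (by norm_num) (by norm_num) (by norm_num) ?_ ?_ ?_ ?_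
                  · linarith only [hd x0, hwp x0, hl_0_1, hnn x0 x5 hne_0_5, hl_0_6]
                  · linarith only [hd x1, hwp x1, hl_1_0, hl_1_5, hnn x1 x6 hne_1_6]
                  · linarith only [hd x5, hwp x5, hnn x5 x0 hne_0_5.symm, hl_5_1, hl_5_6]
                  · linarith only [hd x6, hwp x6, hl_6_0, hnn x6 x1 hne_1_6.symm, hl_6_5]
                have hz_6_0 : T.a x6 x0 = 0 := by rw [hsym]; exact hz_0_6
                have hz_1_6 : T.a x1 x6 = 0 := by
                  by_contra hadj_1_6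
                  have hadj_6_1 : T.a x6 x1 ≠ 0 := by rw [hsym]; exact hadj_1_6
                  have hl_1_6 := NT.lb1 T _ _ hne_1_6 hadj_1_6
                  have hl_6_1 := NT.lb1 T _ _ hne_1_6.symm hadj_6_1
                  have hs_1_6 : T.a x1 x6 = T.a x6 x1 := hsym _ _
                  refine NT.cert3 T x1 x5 x6 hne_1_5 hne_1_6 hne_5_6 (by norm_num) 1 1 1 (by norm_num) (by norm_num) (by norm_num) ?_ ?_ ?_
                  · linarith only [hd x1, hwp x1, hl_1_5, hl_1_6]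
                  · linarith only [hd x5, hwp x5, hl_5_1, hl_5_6]
                  · linarith only [hd x6, hwp x6, hl_6_1, hl_6_5]
                have hz_6_1 : T.a x6 x1 = 0 := by rw [hsym]; exact hz_1_6
                have hz_2_6 : T.a x2 x6 = 0 := by
                  by_contra h
                  exact hq_2 ⟨x6, ⟨hne_0_6.symm, hne_1_6.symm, hne_2_6.symm, hne_3_6.symm, hne_4_6.symm⟩, h⟩
                have hz_6_2 : T.a x6 x2 = 0 := by rw [hsym]; exact hz_2_6
                have hz_3_6 : T.a x3 x6 = 0 := by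
                  by_contra h
                  exact hq_3 ⟨x6, ⟨hne_0_6.symm, hne_1_6.symm, hne_2_6.symm, hne_3_6.symm, hne_4_6.symm⟩, h⟩
                have hz_6_3 : T.a x6 x3 = 0 := by rw [hsym]; exact hz_3_6
                have hz_4_6 : T.a x4 x6 = 0 := by
                  by_contra h
                  exact hq_4 ⟨x6, ⟨hne_0_6.symm, hne_1_6.symm, hne_2_6.symm, hne_3_6.symm, hne_4_6.symm⟩, h⟩
                have hz_6_4 : T.a x6 x4 = 0 := by rw [hsym]; exact hz_4_6
                by_cases hq_6 : ∃ y, (y ≠ x0 ∧ y ≠ x1 ∧ y ≠ x2 ∧ y ≠ x3 ∧ y ≠ x4 ∧ y ≠ x5 ∧ y ≠ x6) ∧ T.a x6 y ≠ 0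
                · obtain ⟨x7, ⟨hn0, hn1, hn2, hn3, hn4, hn5, hn6⟩, hadj_6_7⟩ := hq_6
                  have hne_0_7 : x0 ≠ x7 := hn0.symm
                  have hne_1_7 : x1 ≠ x7 := hn1.symm
                  have hne_2_7 : x2 ≠ x7 := hn2.symm
                  have hne_3_7 : x3 ≠ x7 := hn3.symm
                  have hne_4_7 : x4 ≠ x7 := hn4.symm
                  have hne_5_7 : x5 ≠ x7 := hn5.symm
                  have hne_6_7 : x6 ≠ x7 := hn6.symm
                  have hadj_7_6 : T.a x7 x6 ≠ 0 := by rw [hsym]; exact hadj_6_7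
                  have hl_6_7 := NT.lb1 T _ _ hne_6_7 hadj_6_7
                  have hl_7_6 := NT.lb1 T _ _ hne_6_7.symm hadj_7_6
                  have hs_6_7 : T.a x6 x7 = T.a x7 x6 := hsym _ _
                  have hz_0_7 : T.a x0 x7 = 0 := by
                    by_contra hadj_0_7
                    have hadj_7_0 : T.a x7 x0 ≠ 0 := by rw [hsym]; exact hadj_0_7
                    have hl_0_7 := NT.lb1 T _ _ hne_0_7 hadj_0_7
                    have hl_7_0 := NT.lb1 T _ _ hne_0_7.symm hadj_7_0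
                    have hs_0_7 : T.a x0 x7 = T.a x7 x0 := hsym _ _
                    refine NT.cert5 T x0 x1 x2 x3 x7 hne_0_1 hne_0_2 hne_0_3 hne_0_7 hne_1_2 hne_1_3 hne_1_7 hne_2_3 hne_2_7 hne_3_7 (by norm_num) 2 1 1 1 1 (by norm_num) (by norm_num) (by norm_num) (by norm_num) (by norm_num) ?_ ?_ ?_ ?_ ?_
                    · linarith only [hd x0, hwp x0, hl_0_1, hl_0_2, hl_0_3, hl_0_7]
                    · linarith only [hd x1, hwp x1, hl_1_0, hnn x1 x2 hne_1_2, hnn x1 x3 hne_1_3, hnn x1 x7 hne_1_7]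
                    · linarith only [hd x2, hwp x2, hl_2_0, hnn x2 x1 hne_1_2.symm, hnn x2 x3 hne_2_3, hnn x2 x7 hne_2_7]
                    · linarith only [hd x3, hwp x3, hl_3_0, hnn x3 x1 hne_1_3.symm, hnn x3 x2 hne_2_3.symm, hnn x3 x7 hne_3_7]
                    · linarith only [hd x7, hwp x7, hl_7_0, hnn x7 x1 hne_1_7.symm, hnn x7 x2 hne_2_7.symm, hnn x7 x3 hne_3_7.symm]
                  have hz_7_0 : T.a x7 x0 = 0 := by rw [hsym]; exact hz_0_7
                  have hz_1_7 : T.a x1 x7 = 0 := by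
                    by_contra hadj_1_7
                    have hadj_7_1 : T.a x7 x1 ≠ 0 := by rw [hsym]; exact hadj_1_7
                    have hl_1_7 := NT.lb1 T _ _ hne_1_7 hadj_1_7
                    have hl_7_1 := NT.lb1 T _ _ hne_1_7.symm hadj_7_1
                    have hs_1_7 : T.a x1 x7 = T.a x7 x1 := hsym _ _
                    refine NT.cert4 T x1 x5 x6 x7 hne_1_5 hne_1_6 hne_1_7 hne_5_6 hne_5_7 hne_6_7 (by norm_num) 1 1 1 1 (by norm_num) (by norm_num) (by norm_num) (by norm_num) ?_ ?_ ?_ ?_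
                    · linarith only [hd x1, hwp x1, hl_1_5, hnn x1 x6 hne_1_6, hl_1_7]
                    · linarith only [hd x5, hwp x5, hl_5_1, hl_5_6, hnn x5 x7 hne_5_7]
                    · linarith only [hd x6, hwp x6, hnn x6 x1 hne_1_6.symm, hl_6_5, hl_6_7]
                    · linarith only [hd x7, hwp x7, hl_7_1, hnn x7 x5 hne_5_7.symm, hl_7_6]
                  have hz_7_1 : T.a x7 x1 = 0 := by rw [hsym]; exact hz_1_7
                  have hz_2_7 : T.a x2 x7 = 0 := by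
                    by_contra h
                    exact hq_2 ⟨x7, ⟨hne_0_7.symm, hne_1_7.symm, hne_2_7.symm, hne_3_7.symm, hne_4_7.symm⟩, h⟩
                  have hz_7_2 : T.a x7 x2 = 0 := by rw [hsym]; exact hz_2_7
                  have hz_3_7 : T.a x3 x7 = 0 := by
                    by_contra h
                    exact hq_3 ⟨x7, ⟨hne_0_7.symm, hne_1_7.symm, hne_2_7.symm, hne_3_7.symm, hne_4_7.symm⟩, h⟩
                  have hz_7_3 : T.a x7 x3 = 0 := by rw [hsym]; exact hz_3_7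
                  have hz_4_7 : T.a x4 x7 = 0 := by
                    by_contra h
                    exact hq_4 ⟨x7, ⟨hne_0_7.symm, hne_1_7.symm, hne_2_7.symm, hne_3_7.symm, hne_4_7.symm⟩, h⟩
                  have hz_7_4 : T.a x7 x4 = 0 := by rw [hsym]; exact hz_4_7
                  have hz_5_7 : T.a x5 x7 = 0 := by
                    by_contra hadj_5_7
                    have hadj_7_5 : T.a x7 x5 ≠ 0 := by rw [hsym]; exact hadj_5_7
                    have hl_5_7 := NT.lb1 T _ _ hne_5_7 hadj_5_7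
                    have hl_7_5 := NT.lb1 T _ _ hne_5_7.symm hadj_7_5
                    have hs_5_7 : T.a x5 x7 = T.a x7 x5 := hsym _ _
                    refine NT.cert3 T x5 x6 x7 hne_5_6 hne_5_7 hne_6_7 (by norm_num) 1 1 1 (by norm_num) (by norm_num) (by norm_num) ?_ ?_ ?_
                    · linarith only [hd x5, hwp x5, hl_5_6, hl_5_7]
                    · linarith only [hd x6, hwp x6, hl_6_5, hl_6_7]
                    · linarith only [hd x7, hwp x7, hl_7_5, hl_7_6]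
                  have hz_7_5 : T.a x7 x5 = 0 := by rw [hsym]; exact hz_5_7
                  exact G8.shape7 T hall x0 x1 x2 x3 x4 x5 x6 x7 hne_0_1 hne_0_2 hne_0_3 hne_0_4 hne_0_5 hne_0_6 hne_0_7 hne_1_2 hne_1_3 hne_1_4 hne_1_5 hne_1_6 hne_1_7 hne_2_3 hne_2_4 hne_2_5 hne_2_6 hne_2_7 hne_3_4 hne_3_5 hne_3_6 hne_3_7 hne_4_5 hne_4_6 hne_4_7 hne_5_6 hne_5_7 hne_6_7 hadj_0_1 hadj_0_2 hadj_0_3 hz_0_4 hz_0_5 hz_0_6 hz_0_7 hz_1_2 hz_1_3 hz_1_4 hadj_1_5 hz_1_6 hz_1_7 hz_2_3 hz_2_4 hz_2_5 hz_2_6 hz_2_7 hadj_3_4 hz_3_5 hz_3_6 hz_3_7 hz_4_5 hz_4_6 hz_4_7 hadj_5_6 hz_5_7 hadj_6_7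
                · by_cases hq_5 : ∃ y, (y ≠ x0 ∧ y ≠ x1 ∧ y ≠ x2 ∧ y ≠ x3 ∧ y ≠ x4 ∧ y ≠ x5 ∧ y ≠ x6) ∧ T.a x5 y ≠ 0
                  · obtain ⟨x7, ⟨hn0, hn1, hn2, hn3, hn4, hn5, hn6⟩, hadj_5_7⟩ := hq_5
                    have hne_0_7 : x0 ≠ x7 := hn0.symm
                    have hne_1_7 : x1 ≠ x7 := hn1.symm
                    have hne_2_7 : x2 ≠ x7 := hn2.symm
                    have hne_3_7 : x3 ≠ x7 := hn3.symm
                    have hne_4_7 : x4 ≠ x7 := hn4.symm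
                    have hne_5_7 : x5 ≠ x7 := hn5.symm
                    have hne_6_7 : x6 ≠ x7 := hn6.symm
                    have hadj_7_5 : T.a x7 x5 ≠ 0 := by rw [hsym]; exact hadj_5_7
                    have hl_5_7 := NT.lb1 T _ _ hne_5_7 hadj_5_7
                    have hl_7_5 := NT.lb1 T _ _ hne_5_7.symm hadj_7_5
                    have hs_5_7 : T.a x5 x7 = T.a x7 x5 := hsym _ _
                    have hz_0_7 : T.a x0 x7 = 0 := by
                      by_contra hadj_0_7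
                      have hadj_7_0 : T.a x7 x0 ≠ 0 := by rw [hsym]; exact hadj_0_7
                      have hl_0_7 := NT.lb1 T _ _ hne_0_7 hadj_0_7
                      have hl_7_0 := NT.lb1 T _ _ hne_0_7.symm hadj_7_0
                      have hs_0_7 : T.a x0 x7 = T.a x7 x0 := hsym _ _
                      refine NT.cert4 T x0 x1 x5 x7 hne_0_1 hne_0_5 hne_0_7 hne_1_5 hne_1_7 hne_5_7 (by norm_num) 1 1 1 1 (by norm_num) (by norm_num) (by norm_num) (by norm_num) ?_ ?_ ?_ ?_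
                      · linarith only [hd x0, hwp x0, hl_0_1, hnn x0 x5 hne_0_5, hl_0_7]
                      · linarith only [hd x1, hwp x1, hl_1_0, hl_1_5, hnn x1 x7 hne_1_7]
                      · linarith only [hd x5, hwp x5, hnn x5 x0 hne_0_5.symm, hl_5_1, hl_5_7]
                      · linarith only [hd x7, hwp x7, hl_7_0, hnn x7 x1 hne_1_7.symm, hl_7_5]
                    have hz_7_0 : T.a x7 x0 = 0 := by rw [hsym]; exact hz_0_7
                    have hz_1_7 : T.a x1 x7 = 0 := by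
                      by_contra hadj_1_7
                      have hadj_7_1 : T.a x7 x1 ≠ 0 := by rw [hsym]; exact hadj_1_7
                      have hl_1_7 := NT.lb1 T _ _ hne_1_7 hadj_1_7
                      have hl_7_1 := NT.lb1 T _ _ hne_1_7.symm hadj_7_1
                      have hs_1_7 : T.a x1 x7 = T.a x7 x1 := hsym _ _
                      refine NT.cert3 T x1 x5 x7 hne_1_5 hne_1_7 hne_5_7 (by norm_num) 1 1 1 (by norm_num) (by norm_num) (by norm_num) ?_ ?_ ?_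
                      · linarith only [hd x1, hwp x1, hl_1_5, hl_1_7]
                      · linarith only [hd x5, hwp x5, hl_5_1, hl_5_7]
                      · linarith only [hd x7, hwp x7, hl_7_1, hl_7_5]
                    have hz_7_1 : T.a x7 x1 = 0 := by rw [hsym]; exact hz_1_7
                    have hz_2_7 : T.a x2 x7 = 0 := by
                      by_contra h
                      exact hq_2 ⟨x7, ⟨hne_0_7.symm, hne_1_7.symm, hne_2_7.symm, hne_3_7.symm, hne_4_7.symm⟩, h⟩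
                    have hz_7_2 : T.a x7 x2 = 0 := by rw [hsym]; exact hz_2_7
                    have hz_3_7 : T.a x3 x7 = 0 := by
                      by_contra h
                      exact hq_3 ⟨x7, ⟨hne_0_7.symm, hne_1_7.symm, hne_2_7.symm, hne_3_7.symm, hne_4_7.symm⟩, h⟩
                    have hz_7_3 : T.a x7 x3 = 0 := by rw [hsym]; exact hz_3_7
                    have hz_4_7 : T.a x4 x7 = 0 := by
                      by_contra h
                      exact hq_4 ⟨x7, ⟨hne_0_7.symm, hne_1_7.symm, hne_2_7.symm, hne_3_7.symm, hne_4_7.symm⟩, h⟩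
                    have hz_7_4 : T.a x7 x4 = 0 := by rw [hsym]; exact hz_4_7
                    have hz_6_7 : T.a x6 x7 = 0 := by
                      by_contra h
                      exact hq_6 ⟨x7, ⟨hne_0_7.symm, hne_1_7.symm, hne_2_7.symm, hne_3_7.symm, hne_4_7.symm, hne_5_7.symm, hne_6_7.symm⟩, h⟩
                    have hz_7_6 : T.a x7 x6 = 0 := by rw [hsym]; exact hz_6_7
                    exfalso
                    refine NT.cert7 T x0 x1 x2 x3 x5 x6 x7 hne_0_1 hne_0_2 hne_0_3 hne_0_5 hne_0_6 hne_0_7 hne_1_2 hne_1_3 hne_1_5 hne_1_6 hne_1_7 hne_2_3 hne_2_5 hne_2_6 hne_2_7 hne_3_5 hne_3_6 hne_3_7 hne_5_6 hne_5_7 hne_6_7 (by norm_num) 2 2 1 1 2 1 1 (by norm_num) (by norm_num) (by norm_num) (by norm_num) (by norm_num) (by norm_num) (by norm_num) ?_ ?_ ?_ ?_ ?_ ?_ ?_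
                    · linarith only [hd x0, hwp x0, hl_0_1, hl_0_2, hl_0_3, hnn x0 x5 hne_0_5, hnn x0 x6 hne_0_6, hnn x0 x7 hne_0_7]
                    · linarith only [hd x1, hwp x1, hl_1_0, hnn x1 x2 hne_1_2, hnn x1 x3 hne_1_3, hl_1_5, hnn x1 x6 hne_1_6, hnn x1 x7 hne_1_7]
                    · linarith only [hd x2, hwp x2, hl_2_0, hnn x2 x1 hne_1_2.symm, hnn x2 x3 hne_2_3, hnn x2 x5 hne_2_5, hnn x2 x6 hne_2_6, hnn x2 x7 hne_2_7]
                    · linarith only [hd x3, hwp x3, hl_3_0, hnn x3 x1 hne_1_3.symm, hnn x3 x2 hne_2_3.symm, hnn x3 x5 hne_3_5, hnn x3 x6 hne_3_6, hnn x3 x7 hne_3_7]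
                    · linarith only [hd x5, hwp x5, hnn x5 x0 hne_0_5.symm, hl_5_1, hnn x5 x2 hne_2_5.symm, hnn x5 x3 hne_3_5.symm, hl_5_6, hl_5_7]
                    · linarith only [hd x6, hwp x6, hnn x6 x0 hne_0_6.symm, hnn x6 x1 hne_1_6.symm, hnn x6 x2 hne_2_6.symm, hnn x6 x3 hne_3_6.symm, hl_6_5, hnn x6 x7 hne_6_7]
                    · linarith only [hd x7, hwp x7, hnn x7 x0 hne_0_7.symm, hnn x7 x1 hne_1_7.symm, hnn x7 x2 hne_2_7.symm, hnn x7 x3 hne_3_7.symm, hl_7_5, hnn x7 x6 hne_6_7.symm]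
                  · by_cases hq_1 : ∃ y, (y ≠ x0 ∧ y ≠ x1 ∧ y ≠ x2 ∧ y ≠ x3 ∧ y ≠ x4 ∧ y ≠ x5 ∧ y ≠ x6) ∧ T.a x1 y ≠ 0
                    · obtain ⟨x7, ⟨hn0, hn1, hn2, hn3, hn4, hn5, hn6⟩, hadj_1_7⟩ := hq_1
                      have hne_0_7 : x0 ≠ x7 := hn0.symm
                      have hne_1_7 : x1 ≠ x7 := hn1.symm
                      have hne_2_7 : x2 ≠ x7 := hn2.symm
                      have hne_3_7 : x3 ≠ x7 := hn3.symm
                      have hne_4_7 : x4 ≠ x7 := hn4.symm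
                      have hne_5_7 : x5 ≠ x7 := hn5.symm
                      have hne_6_7 : x6 ≠ x7 := hn6.symm
                      have hadj_7_1 : T.a x7 x1 ≠ 0 := by rw [hsym]; exact hadj_1_7
                      have hl_1_7 := NT.lb1 T _ _ hne_1_7 hadj_1_7
                      have hl_7_1 := NT.lb1 T _ _ hne_1_7.symm hadj_7_1
                      have hs_1_7 : T.a x1 x7 = T.a x7 x1 := hsym _ _
                      have hz_0_7 : T.a x0 x7 = 0 := by
                        by_contra hadj_0_7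
                        have hadj_7_0 : T.a x7 x0 ≠ 0 := by rw [hsym]; exact hadj_0_7
                        have hl_0_7 := NT.lb1 T _ _ hne_0_7 hadj_0_7
                        have hl_7_0 := NT.lb1 T _ _ hne_0_7.symm hadj_7_0
                        have hs_0_7 : T.a x0 x7 = T.a x7 x0 := hsym _ _
                        refine NT.cert3 T x0 x1 x7 hne_0_1 hne_0_7 hne_1_7 (by norm_num) 1 1 1 (by norm_num) (by norm_num) (by norm_num) ?_ ?_ ?_
                        · linarith only [hd x0, hwp x0, hl_0_1, hl_0_7]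
                        · linarith only [hd x1, hwp x1, hl_1_0, hl_1_7]
                        · linarith only [hd x7, hwp x7, hl_7_0, hl_7_1]
                      have hz_7_0 : T.a x7 x0 = 0 := by rw [hsym]; exact hz_0_7
                      have hz_2_7 : T.a x2 x7 = 0 := by
                        by_contra h
                        exact hq_2 ⟨x7, ⟨hne_0_7.symm, hne_1_7.symm, hne_2_7.symm, hne_3_7.symm, hne_4_7.symm⟩, h⟩
                      have hz_7_2 : T.a x7 x2 = 0 := by rw [hsym]; exact hz_2_7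
                      have hz_3_7 : T.a x3 x7 = 0 := by
                        by_contra h
                        exact hq_3 ⟨x7, ⟨hne_0_7.symm, hne_1_7.symm, hne_2_7.symm, hne_3_7.symm, hne_4_7.symm⟩, h⟩
                      have hz_7_3 : T.a x7 x3 = 0 := by rw [hsym]; exact hz_3_7
                      have hz_4_7 : T.a x4 x7 = 0 := by
                        by_contra h
                        exact hq_4 ⟨x7, ⟨hne_0_7.symm, hne_1_7.symm, hne_2_7.symm, hne_3_7.symm, hne_4_7.symm⟩, h⟩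
                      have hz_7_4 : T.a x7 x4 = 0 := by rw [hsym]; exact hz_4_7
                      have hz_5_7 : T.a x5 x7 = 0 := by
                        by_contra h
                        exact hq_5 ⟨x7, ⟨hne_0_7.symm, hne_1_7.symm, hne_2_7.symm, hne_3_7.symm, hne_4_7.symm, hne_5_7.symm, hne_6_7.symm⟩, h⟩
                      have hz_7_5 : T.a x7 x5 = 0 := by rw [hsym]; exact hz_5_7
                      have hz_6_7 : T.a x6 x7 = 0 := by
                        by_contra h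
                        exact hq_6 ⟨x7, ⟨hne_0_7.symm, hne_1_7.symm, hne_2_7.symm, hne_3_7.symm, hne_4_7.symm, hne_5_7.symm, hne_6_7.symm⟩, h⟩
                      have hz_7_6 : T.a x7 x6 = 0 := by rw [hsym]; exact hz_6_7
                      exfalso
                      refine NT.cert6 T x0 x1 x2 x3 x5 x7 hne_0_1 hne_0_2 hne_0_3 hne_0_5 hne_0_7 hne_1_2 hne_1_3 hne_1_5 hne_1_7 hne_2_3 hne_2_5 hne_2_7 hne_3_5 hne_3_7 hne_5_7 (by norm_num) 2 2 1 1 1 1 (by norm_num) (by norm_num) (by norm_num) (by norm_num) (by norm_num) (by norm_num) ?_ ?_ ?_ ?_ ?_ ?_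
                      · linarith only [hd x0, hwp x0, hl_0_1, hl_0_2, hl_0_3, hnn x0 x5 hne_0_5, hnn x0 x7 hne_0_7]
                      · linarith only [hd x1, hwp x1, hl_1_0, hnn x1 x2 hne_1_2, hnn x1 x3 hne_1_3, hl_1_5, hl_1_7]
                      · linarith only [hd x2, hwp x2, hl_2_0, hnn x2 x1 hne_1_2.symm, hnn x2 x3 hne_2_3, hnn x2 x5 hne_2_5, hnn x2 x7 hne_2_7]
                      · linarith only [hd x3, hwp x3, hl_3_0, hnn x3 x1 hne_1_3.symm, hnn x3 x2 hne_2_3.symm, hnn x3 x5 hne_3_5, hnn x3 x7 hne_3_7]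
                      · linarith only [hd x5, hwp x5, hnn x5 x0 hne_0_5.symm, hl_5_1, hnn x5 x2 hne_2_5.symm, hnn x5 x3 hne_3_5.symm, hnn x5 x7 hne_5_7]
                      · linarith only [hd x7, hwp x7, hnn x7 x0 hne_0_7.symm, hl_7_1, hnn x7 x2 hne_2_7.symm, hnn x7 x3 hne_3_7.symm, hnn x7 x5 hne_5_7.symm]
                    · by_cases hq_0 : ∃ y, (y ≠ x0 ∧ y ≠ x1 ∧ y ≠ x2 ∧ y ≠ x3 ∧ y ≠ x4 ∧ y ≠ x5 ∧ y ≠ x6) ∧ T.a x0 y ≠ 0
                      · obtain ⟨x7, ⟨hn0, hn1, hn2, hn3, hn4, hn5, hn6⟩, hadj_0_7⟩ := hq_0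
                        have hne_0_7 : x0 ≠ x7 := hn0.symm
                        have hne_1_7 : x1 ≠ x7 := hn1.symm
                        have hne_2_7 : x2 ≠ x7 := hn2.symm
                        have hne_3_7 : x3 ≠ x7 := hn3.symm
                        have hne_4_7 : x4 ≠ x7 := hn4.symm
                        have hne_5_7 : x5 ≠ x7 := hn5.symm
                        have hne_6_7 : x6 ≠ x7 := hn6.symm
                        have hadj_7_0 : T.a x7 x0 ≠ 0 := by rw [hsym]; exact hadj_0_7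
                        have hl_0_7 := NT.lb1 T _ _ hne_0_7 hadj_0_7
                        have hl_7_0 := NT.lb1 T _ _ hne_0_7.symm hadj_7_0
                        have hs_0_7 : T.a x0 x7 = T.a x7 x0 := hsym _ _
                        have hz_1_7 : T.a x1 x7 = 0 := by
                          by_contra h
                          exact hq_1 ⟨x7, ⟨hne_0_7.symm, hne_1_7.symm, hne_2_7.symm, hne_3_7.symm, hne_4_7.symm, hne_5_7.symm, hne_6_7.symm⟩, h⟩
                        have hz_7_1 : T.a x7 x1 = 0 := by rw [hsym]; exact hz_1_7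
                        have hz_2_7 : T.a x2 x7 = 0 := by
                          by_contra h
                          exact hq_2 ⟨x7, ⟨hne_0_7.symm, hne_1_7.symm, hne_2_7.symm, hne_3_7.symm, hne_4_7.symm⟩, h⟩
                        have hz_7_2 : T.a x7 x2 = 0 := by rw [hsym]; exact hz_2_7
                        have hz_3_7 : T.a x3 x7 = 0 := by
                          by_contra h
                          exact hq_3 ⟨x7, ⟨hne_0_7.symm, hne_1_7.symm, hne_2_7.symm, hne_3_7.symm, hne_4_7.symm⟩, h⟩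
                        have hz_7_3 : T.a x7 x3 = 0 := by rw [hsym]; exact hz_3_7
                        have hz_4_7 : T.a x4 x7 = 0 := by
                          by_contra h
                          exact hq_4 ⟨x7, ⟨hne_0_7.symm, hne_1_7.symm, hne_2_7.symm, hne_3_7.symm, hne_4_7.symm⟩, h⟩
                        have hz_7_4 : T.a x7 x4 = 0 := by rw [hsym]; exact hz_4_7
                        have hz_5_7 : T.a x5 x7 = 0 := by
                          by_contra h
                          exact hq_5 ⟨x7, ⟨hne_0_7.symm, hne_1_7.symm, hne_2_7.symm, hne_3_7.symm, hne_4_7.symm, hne_5_7.symm, hne_6_7.symm⟩, h⟩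
                        have hz_7_5 : T.a x7 x5 = 0 := by rw [hsym]; exact hz_5_7
                        have hz_6_7 : T.a x6 x7 = 0 := by
                          by_contra h
                          exact hq_6 ⟨x7, ⟨hne_0_7.symm, hne_1_7.symm, hne_2_7.symm, hne_3_7.symm, hne_4_7.symm, hne_5_7.symm, hne_6_7.symm⟩, h⟩
                        have hz_7_6 : T.a x7 x6 = 0 := by rw [hsym]; exact hz_6_7
                        exfalso
                        refine NT.cert5 T x0 x1 x2 x3 x7 hne_0_1 hne_0_2 hne_0_3 hne_0_7 hne_1_2 hne_1_3 hne_1_7 hne_2_3 hne_2_7 hne_3_7 (by norm_num) 2 1 1 1 1 (by norm_num) (by norm_num) (by norm_num) (by norm_num) (by norm_num) ?_ ?_ ?_ ?_ ?_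
                        · linarith only [hd x0, hwp x0, hl_0_1, hl_0_2, hl_0_3, hl_0_7]
                        · linarith only [hd x1, hwp x1, hl_1_0, hnn x1 x2 hne_1_2, hnn x1 x3 hne_1_3, hnn x1 x7 hne_1_7]
                        · linarith only [hd x2, hwp x2, hl_2_0, hnn x2 x1 hne_1_2.symm, hnn x2 x3 hne_2_3, hnn x2 x7 hne_2_7]
                        · linarith only [hd x3, hwp x3, hl_3_0, hnn x3 x1 hne_1_3.symm, hnn x3 x2 hne_2_3.symm, hnn x3 x7 hne_3_7]
                        · linarith only [hd x7, hwp x7, hl_7_0, hnn x7 x1 hne_1_7.symm, hnn x7 x2 hne_2_7.symm, hnn x7 x3 hne_3_7.symm]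
                      · exfalso
                        refine NT.not_closed T ![x0, x1, x2, x3, x4, x5, x6] (by norm_num) (by norm_num) ?_
                        intro s y hy
                        by_contra hcon
                        fin_cases s
                        · exact hq_0 ⟨y, ⟨fun h => hcon ⟨(0 : Fin 7), h⟩, fun h => hcon ⟨(1 : Fin 7), h⟩, fun h => hcon ⟨(2 : Fin 7), h⟩, fun h => hcon ⟨(3 : Fin 7), h⟩, fun h => hcon ⟨(4 : Fin 7), h⟩, fun h => hcon ⟨(5 : Fin 7), h⟩, fun h => hcon ⟨(6 : Fin 7), h⟩⟩, hy⟩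
                        · exact hq_1 ⟨y, ⟨fun h => hcon ⟨(0 : Fin 7), h⟩, fun h => hcon ⟨(1 : Fin 7), h⟩, fun h => hcon ⟨(2 : Fin 7), h⟩, fun h => hcon ⟨(3 : Fin 7), h⟩, fun h => hcon ⟨(4 : Fin 7), h⟩, fun h => hcon ⟨(5 : Fin 7), h⟩, fun h => hcon ⟨(6 : Fin 7), h⟩⟩, hy⟩
                        · exact hq_2 ⟨y, ⟨fun h => hcon ⟨(0 : Fin 7), h⟩, fun h => hcon ⟨(1 : Fin 7), h⟩, fun h => hcon ⟨(2 : Fin 7), h⟩, fun h => hcon ⟨(3 : Fin 7), h⟩, fun h => hcon ⟨(4 : Fin 7), h⟩⟩, hy⟩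
                        · exact hq_3 ⟨y, ⟨fun h => hcon ⟨(0 : Fin 7), h⟩, fun h => hcon ⟨(1 : Fin 7), h⟩, fun h => hcon ⟨(2 : Fin 7), h⟩, fun h => hcon ⟨(3 : Fin 7), h⟩, fun h => hcon ⟨(4 : Fin 7), h⟩⟩, hy⟩
                        · exact hq_4 ⟨y, ⟨fun h => hcon ⟨(0 : Fin 7), h⟩, fun h => hcon ⟨(1 : Fin 7), h⟩, fun h => hcon ⟨(2 : Fin 7), h⟩, fun h => hcon ⟨(3 : Fin 7), h⟩, fun h => hcon ⟨(4 : Fin 7), h⟩⟩, hy⟩
                        · exact hq_5 ⟨y, ⟨fun h => hcon ⟨(0 : Fin 7), h⟩, fun h => hcon ⟨(1 : Fin 7), h⟩, fun h => hcon ⟨(2 : Fin 7), h⟩, fun h => hcon ⟨(3 : Fin 7), h⟩, fun h => hcon ⟨(4 : Fin 7), h⟩, fun h => hcon ⟨(5 : Fin 7), h⟩, fun h => hcon ⟨(6 : Fin 7), h⟩⟩, hy⟩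
                        · exact hq_6 ⟨y, ⟨fun h => hcon ⟨(0 : Fin 7), h⟩, fun h => hcon ⟨(1 : Fin 7), h⟩, fun h => hcon ⟨(2 : Fin 7), h⟩, fun h => hcon ⟨(3 : Fin 7), h⟩, fun h => hcon ⟨(4 : Fin 7), h⟩, fun h => hcon ⟨(5 : Fin 7), h⟩, fun h => hcon ⟨(6 : Fin 7), h⟩⟩, hy⟩
              · by_cases hq_1 : ∃ y, (y ≠ x0 ∧ y ≠ x1 ∧ y ≠ x2 ∧ y ≠ x3 ∧ y ≠ x4 ∧ y ≠ x5) ∧ T.a x1 y ≠ 0
                · obtain ⟨x6, ⟨hn0, hn1, hn2, hn3, hn4, hn5⟩, hadj_1_6⟩ := hq_1
                  have hne_0_6 : x0 ≠ x6 := hn0.symm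
                  have hne_1_6 : x1 ≠ x6 := hn1.symm
                  have hne_2_6 : x2 ≠ x6 := hn2.symm
                  have hne_3_6 : x3 ≠ x6 := hn3.symm
                  have hne_4_6 : x4 ≠ x6 := hn4.symm
                  have hne_5_6 : x5 ≠ x6 := hn5.symm
                  have hadj_6_1 : T.a x6 x1 ≠ 0 := by rw [hsym]; exact hadj_1_6
                  have hl_1_6 := NT.lb1 T _ _ hne_1_6 hadj_1_6
                  have hl_6_1 := NT.lb1 T _ _ hne_1_6.symm hadj_6_1
                  have hs_1_6 : T.a x1 x6 = T.a x6 x1 := hsym _ _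
                  have hz_0_6 : T.a x0 x6 = 0 := by
                    by_contra hadj_0_6
                    have hadj_6_0 : T.a x6 x0 ≠ 0 := by rw [hsym]; exact hadj_0_6
                    have hl_0_6 := NT.lb1 T _ _ hne_0_6 hadj_0_6
                    have hl_6_0 := NT.lb1 T _ _ hne_0_6.symm hadj_6_0
                    have hs_0_6 : T.a x0 x6 = T.a x6 x0 := hsym _ _
                    refine NT.cert3 T x0 x1 x6 hne_0_1 hne_0_6 hne_1_6 (by norm_num) 1 1 1 (by norm_num) (by norm_num) (by norm_num) ?_ ?_ ?_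
                    · linarith only [hd x0, hwp x0, hl_0_1, hl_0_6]
                    · linarith only [hd x1, hwp x1, hl_1_0, hl_1_6]
                    · linarith only [hd x6, hwp x6, hl_6_0, hl_6_1]
                  have hz_6_0 : T.a x6 x0 = 0 := by rw [hsym]; exact hz_0_6
                  have hz_2_6 : T.a x2 x6 = 0 := by
                    by_contra h
                    exact hq_2 ⟨x6, ⟨hne_0_6.symm, hne_1_6.symm, hne_2_6.symm, hne_3_6.symm, hne_4_6.symm⟩, h⟩
                  have hz_6_2 : T.a x6 x2 = 0 := by rw [hsym]; exact hz_2_6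
                  have hz_3_6 : T.a x3 x6 = 0 := by
                    by_contra h
                    exact hq_3 ⟨x6, ⟨hne_0_6.symm, hne_1_6.symm, hne_2_6.symm, hne_3_6.symm, hne_4_6.symm⟩, h⟩
                  have hz_6_3 : T.a x6 x3 = 0 := by rw [hsym]; exact hz_3_6
                  have hz_4_6 : T.a x4 x6 = 0 := by
                    by_contra h
                    exact hq_4 ⟨x6, ⟨hne_0_6.symm, hne_1_6.symm, hne_2_6.symm, hne_3_6.symm, hne_4_6.symm⟩, h⟩
                  have hz_6_4 : T.a x6 x4 = 0 := by rw [hsym]; exact hz_4_6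
                  have hz_5_6 : T.a x5 x6 = 0 := by
                    by_contra h
                    exact hq_5 ⟨x6, ⟨hne_0_6.symm, hne_1_6.symm, hne_2_6.symm, hne_3_6.symm, hne_4_6.symm, hne_5_6.symm⟩, h⟩
                  have hz_6_5 : T.a x6 x5 = 0 := by rw [hsym]; exact hz_5_6
                  exfalso
                  refine NT.cert6 T x0 x1 x2 x3 x5 x6 hne_0_1 hne_0_2 hne_0_3 hne_0_5 hne_0_6 hne_1_2 hne_1_3 hne_1_5 hne_1_6 hne_2_3 hne_2_5 hne_2_6 hne_3_5 hne_3_6 hne_5_6 (by norm_num) 2 2 1 1 1 1 (by norm_num) (by norm_num) (by norm_num) (by norm_num) (by norm_num) (by norm_num) ?_ ?_ ?_ ?_ ?_ ?_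
                  · linarith only [hd x0, hwp x0, hl_0_1, hl_0_2, hl_0_3, hnn x0 x5 hne_0_5, hnn x0 x6 hne_0_6]
                  · linarith only [hd x1, hwp x1, hl_1_0, hnn x1 x2 hne_1_2, hnn x1 x3 hne_1_3, hl_1_5, hl_1_6]
                  · linarith only [hd x2, hwp x2, hl_2_0, hnn x2 x1 hne_1_2.symm, hnn x2 x3 hne_2_3, hnn x2 x5 hne_2_5, hnn x2 x6 hne_2_6]
                  · linarith only [hd x3, hwp x3, hl_3_0, hnn x3 x1 hne_1_3.symm, hnn x3 x2 hne_2_3.symm, hnn x3 x5 hne_3_5, hnn x3 x6 hne_3_6]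
                  · linarith only [hd x5, hwp x5, hnn x5 x0 hne_0_5.symm, hl_5_1, hnn x5 x2 hne_2_5.symm, hnn x5 x3 hne_3_5.symm, hnn x5 x6 hne_5_6]
                  · linarith only [hd x6, hwp x6, hnn x6 x0 hne_0_6.symm, hl_6_1, hnn x6 x2 hne_2_6.symm, hnn x6 x3 hne_3_6.symm, hnn x6 x5 hne_5_6.symm]
                · by_cases hq_0 : ∃ y, (y ≠ x0 ∧ y ≠ x1 ∧ y ≠ x2 ∧ y ≠ x3 ∧ y ≠ x4 ∧ y ≠ x5) ∧ T.a x0 y ≠ 0
                  · obtain ⟨x6, ⟨hn0, hn1, hn2, hn3, hn4, hn5⟩, hadj_0_6⟩ := hq_0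
                    have hne_0_6 : x0 ≠ x6 := hn0.symm
                    have hne_1_6 : x1 ≠ x6 := hn1.symm
                    have hne_2_6 : x2 ≠ x6 := hn2.symm
                    have hne_3_6 : x3 ≠ x6 := hn3.symm
                    have hne_4_6 : x4 ≠ x6 := hn4.symm
                    have hne_5_6 : x5 ≠ x6 := hn5.symm
                    have hadj_6_0 : T.a x6 x0 ≠ 0 := by rw [hsym]; exact hadj_0_6
                    have hl_0_6 := NT.lb1 T _ _ hne_0_6 hadj_0_6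
                    have hl_6_0 := NT.lb1 T _ _ hne_0_6.symm hadj_6_0
                    have hs_0_6 : T.a x0 x6 = T.a x6 x0 := hsym _ _
                    have hz_1_6 : T.a x1 x6 = 0 := by
                      by_contra h
                      exact hq_1 ⟨x6, ⟨hne_0_6.symm, hne_1_6.symm, hne_2_6.symm, hne_3_6.symm, hne_4_6.symm, hne_5_6.symm⟩, h⟩
                    have hz_6_1 : T.a x6 x1 = 0 := by rw [hsym]; exact hz_1_6
                    have hz_2_6 : T.a x2 x6 = 0 := by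
                      by_contra h
                      exact hq_2 ⟨x6, ⟨hne_0_6.symm, hne_1_6.symm, hne_2_6.symm, hne_3_6.symm, hne_4_6.symm⟩, h⟩
                    have hz_6_2 : T.a x6 x2 = 0 := by rw [hsym]; exact hz_2_6
                    have hz_3_6 : T.a x3 x6 = 0 := by
                      by_contra h
                      exact hq_3 ⟨x6, ⟨hne_0_6.symm, hne_1_6.symm, hne_2_6.symm, hne_3_6.symm, hne_4_6.symm⟩, h⟩
                    have hz_6_3 : T.a x6 x3 = 0 := by rw [hsym]; exact hz_3_6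
                    have hz_4_6 : T.a x4 x6 = 0 := by
                      by_contra h
                      exact hq_4 ⟨x6, ⟨hne_0_6.symm, hne_1_6.symm, hne_2_6.symm, hne_3_6.symm, hne_4_6.symm⟩, h⟩
                    have hz_6_4 : T.a x6 x4 = 0 := by rw [hsym]; exact hz_4_6
                    have hz_5_6 : T.a x5 x6 = 0 := by
                      by_contra h
                      exact hq_5 ⟨x6, ⟨hne_0_6.symm, hne_1_6.symm, hne_2_6.symm, hne_3_6.symm, hne_4_6.symm, hne_5_6.symm⟩, h⟩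
                    have hz_6_5 : T.a x6 x5 = 0 := by rw [hsym]; exact hz_5_6
                    exfalso
                    refine NT.cert5 T x0 x1 x2 x3 x6 hne_0_1 hne_0_2 hne_0_3 hne_0_6 hne_1_2 hne_1_3 hne_1_6 hne_2_3 hne_2_6 hne_3_6 (by norm_num) 2 1 1 1 1 (by norm_num) (by norm_num) (by norm_num) (by norm_num) (by norm_num) ?_ ?_ ?_ ?_ ?_
                    · linarith only [hd x0, hwp x0, hl_0_1, hl_0_2, hl_0_3, hl_0_6]
                    · linarith only [hd x1, hwp x1, hl_1_0, hnn x1 x2 hne_1_2, hnn x1 x3 hne_1_3, hnn x1 x6 hne_1_6]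
                    · linarith only [hd x2, hwp x2, hl_2_0, hnn x2 x1 hne_1_2.symm, hnn x2 x3 hne_2_3, hnn x2 x6 hne_2_6]
                    · linarith only [hd x3, hwp x3, hl_3_0, hnn x3 x1 hne_1_3.symm, hnn x3 x2 hne_2_3.symm, hnn x3 x6 hne_3_6]
                    · linarith only [hd x6, hwp x6, hl_6_0, hnn x6 x1 hne_1_6.symm, hnn x6 x2 hne_2_6.symm, hnn x6 x3 hne_3_6.symm]
                  · exfalso
                    refine NT.not_closed T ![x0, x1, x2, x3, x4, x5] (by norm_num) (by norm_num) ?_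
                    intro s y hy
                    by_contra hcon
                    fin_cases s
                    · exact hq_0 ⟨y, ⟨fun h => hcon ⟨(0 : Fin 6), h⟩, fun h => hcon ⟨(1 : Fin 6), h⟩, fun h => hcon ⟨(2 : Fin 6), h⟩, fun h => hcon ⟨(3 : Fin 6), h⟩, fun h => hcon ⟨(4 : Fin 6), h⟩, fun h => hcon ⟨(5 : Fin 6), h⟩⟩, hy⟩
                    · exact hq_1 ⟨y, ⟨fun h => hcon ⟨(0 : Fin 6), h⟩, fun h => hcon ⟨(1 : Fin 6), h⟩, fun h => hcon ⟨(2 : Fin 6), h⟩, fun h => hcon ⟨(3 : Fin 6), h⟩, fun h => hcon ⟨(4 : Fin 6), h⟩, fun h => hcon ⟨(5 : Fin 6), h⟩⟩, hy⟩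
                    · exact hq_2 ⟨y, ⟨fun h => hcon ⟨(0 : Fin 6), h⟩, fun h => hcon ⟨(1 : Fin 6), h⟩, fun h => hcon ⟨(2 : Fin 6), h⟩, fun h => hcon ⟨(3 : Fin 6), h⟩, fun h => hcon ⟨(4 : Fin 6), h⟩⟩, hy⟩
                    · exact hq_3 ⟨y, ⟨fun h => hcon ⟨(0 : Fin 6), h⟩, fun h => hcon ⟨(1 : Fin 6), h⟩, fun h => hcon ⟨(2 : Fin 6), h⟩, fun h => hcon ⟨(3 : Fin 6), h⟩, fun h => hcon ⟨(4 : Fin 6), h⟩⟩, hy⟩
                    · exact hq_4 ⟨y, ⟨fun h => hcon ⟨(0 : Fin 6), h⟩, fun h => hcon ⟨(1 : Fin 6), h⟩, fun h => hcon ⟨(2 : Fin 6), h⟩, fun h => hcon ⟨(3 : Fin 6), h⟩, fun h => hcon ⟨(4 : Fin 6), h⟩⟩, hy⟩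
                    · exact hq_5 ⟨y, ⟨fun h => hcon ⟨(0 : Fin 6), h⟩, fun h => hcon ⟨(1 : Fin 6), h⟩, fun h => hcon ⟨(2 : Fin 6), h⟩, fun h => hcon ⟨(3 : Fin 6), h⟩, fun h => hcon ⟨(4 : Fin 6), h⟩, fun h => hcon ⟨(5 : Fin 6), h⟩⟩, hy⟩
            · by_cases hq_0 : ∃ y, (y ≠ x0 ∧ y ≠ x1 ∧ y ≠ x2 ∧ y ≠ x3 ∧ y ≠ x4) ∧ T.a x0 y ≠ 0
              · obtain ⟨x5, ⟨hn0, hn1, hn2, hn3, hn4⟩, hadj_0_5⟩ := hq_0
                have hne_0_5 : x0 ≠ x5 := hn0.symm
                have hne_1_5 : x1 ≠ x5 := hn1.symm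
                have hne_2_5 : x2 ≠ x5 := hn2.symm
                have hne_3_5 : x3 ≠ x5 := hn3.symm
                have hne_4_5 : x4 ≠ x5 := hn4.symm
                have hadj_5_0 : T.a x5 x0 ≠ 0 := by rw [hsym]; exact hadj_0_5
                have hl_0_5 := NT.lb1 T _ _ hne_0_5 hadj_0_5
                have hl_5_0 := NT.lb1 T _ _ hne_0_5.symm hadj_5_0
                have hs_0_5 : T.a x0 x5 = T.a x5 x0 := hsym _ _
                have hz_1_5 : T.a x1 x5 = 0 := by
                  by_contra h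
                  exact hq_1 ⟨x5, ⟨hne_0_5.symm, hne_1_5.symm, hne_2_5.symm, hne_3_5.symm, hne_4_5.symm⟩, h⟩
                have hz_5_1 : T.a x5 x1 = 0 := by rw [hsym]; exact hz_1_5
                have hz_2_5 : T.a x2 x5 = 0 := by
                  by_contra h
                  exact hq_2 ⟨x5, ⟨hne_0_5.symm, hne_1_5.symm, hne_2_5.symm, hne_3_5.symm, hne_4_5.symm⟩, h⟩
                have hz_5_2 : T.a x5 x2 = 0 := by rw [hsym]; exact hz_2_5
                have hz_3_5 : T.a x3 x5 = 0 := by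
                  by_contra h
                  exact hq_3 ⟨x5, ⟨hne_0_5.symm, hne_1_5.symm, hne_2_5.symm, hne_3_5.symm, hne_4_5.symm⟩, h⟩
                have hz_5_3 : T.a x5 x3 = 0 := by rw [hsym]; exact hz_3_5
                have hz_4_5 : T.a x4 x5 = 0 := by
                  by_contra h
                  exact hq_4 ⟨x5, ⟨hne_0_5.symm, hne_1_5.symm, hne_2_5.symm, hne_3_5.symm, hne_4_5.symm⟩, h⟩
                have hz_5_4 : T.a x5 x4 = 0 := by rw [hsym]; exact hz_4_5
                exfalso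
                refine NT.cert5 T x0 x1 x2 x3 x5 hne_0_1 hne_0_2 hne_0_3 hne_0_5 hne_1_2 hne_1_3 hne_1_5 hne_2_3 hne_2_5 hne_3_5 (by norm_num) 2 1 1 1 1 (by norm_num) (by norm_num) (by norm_num) (by norm_num) (by norm_num) ?_ ?_ ?_ ?_ ?_
                · linarith only [hd x0, hwp x0, hl_0_1, hl_0_2, hl_0_3, hl_0_5]
                · linarith only [hd x1, hwp x1, hl_1_0, hnn x1 x2 hne_1_2, hnn x1 x3 hne_1_3, hnn x1 x5 hne_1_5]
                · linarith only [hd x2, hwp x2, hl_2_0, hnn x2 x1 hne_1_2.symm, hnn x2 x3 hne_2_3, hnn x2 x5 hne_2_5]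
                · linarith only [hd x3, hwp x3, hl_3_0, hnn x3 x1 hne_1_3.symm, hnn x3 x2 hne_2_3.symm, hnn x3 x5 hne_3_5]
                · linarith only [hd x5, hwp x5, hl_5_0, hnn x5 x1 hne_1_5.symm, hnn x5 x2 hne_2_5.symm, hnn x5 x3 hne_3_5.symm]
              · exfalso
                refine NT.not_closed T ![x0, x1, x2, x3, x4] (by norm_num) (by norm_num) ?_
                intro s y hy
                by_contra hcon
                fin_cases s
                · exact hq_0 ⟨y, ⟨fun h => hcon ⟨(0 : Fin 5), h⟩, fun h => hcon ⟨(1 : Fin 5), h⟩, fun h => hcon ⟨(2 : Fin 5), h⟩, fun h => hcon ⟨(3 : Fin 5), h⟩, fun h => hcon ⟨(4 : Fin 5), h⟩⟩, hy⟩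
                · exact hq_1 ⟨y, ⟨fun h => hcon ⟨(0 : Fin 5), h⟩, fun h => hcon ⟨(1 : Fin 5), h⟩, fun h => hcon ⟨(2 : Fin 5), h⟩, fun h => hcon ⟨(3 : Fin 5), h⟩, fun h => hcon ⟨(4 : Fin 5), h⟩⟩, hy⟩
                · exact hq_2 ⟨y, ⟨fun h => hcon ⟨(0 : Fin 5), h⟩, fun h => hcon ⟨(1 : Fin 5), h⟩, fun h => hcon ⟨(2 : Fin 5), h⟩, fun h => hcon ⟨(3 : Fin 5), h⟩, fun h => hcon ⟨(4 : Fin 5), h⟩⟩, hy⟩
                · exact hq_3 ⟨y, ⟨fun h => hcon ⟨(0 : Fin 5), h⟩, fun h => hcon ⟨(1 : Fin 5), h⟩, fun h => hcon ⟨(2 : Fin 5), h⟩, fun h => hcon ⟨(3 : Fin 5), h⟩, fun h => hcon ⟨(4 : Fin 5), h⟩⟩, hy⟩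
                · exact hq_4 ⟨y, ⟨fun h => hcon ⟨(0 : Fin 5), h⟩, fun h => hcon ⟨(1 : Fin 5), h⟩, fun h => hcon ⟨(2 : Fin 5), h⟩, fun h => hcon ⟨(3 : Fin 5), h⟩, fun h => hcon ⟨(4 : Fin 5), h⟩⟩, hy⟩
    · by_cases hq_2 : ∃ y, (y ≠ x0 ∧ y ≠ x1 ∧ y ≠ x2 ∧ y ≠ x3) ∧ T.a x2 y ≠ 0
      · obtain ⟨x4, ⟨hn0, hn1, hn2, hn3⟩, hadj_2_4⟩ := hq_2
        have hne_0_4 : x0 ≠ x4 := hn0.symm
        have hne_1_4 : x1 ≠ x4 := hn1.symm
        have hne_2_4 : x2 ≠ x4 := hn2.symm
        have hne_3_4 : x3 ≠ x4 := hn3.symm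
        have hadj_4_2 : T.a x4 x2 ≠ 0 := by rw [hsym]; exact hadj_2_4
        have hl_2_4 := NT.lb1 T _ _ hne_2_4 hadj_2_4
        have hl_4_2 := NT.lb1 T _ _ hne_2_4.symm hadj_4_2
        have hs_2_4 : T.a x2 x4 = T.a x4 x2 := hsym _ _
        have hz_0_4 : T.a x0 x4 = 0 := by
          by_contra hadj_0_4
          have hadj_4_0 : T.a x4 x0 ≠ 0 := by rw [hsym]; exact hadj_0_4
          have hl_0_4 := NT.lb1 T _ _ hne_0_4 hadj_0_4
          have hl_4_0 := NT.lb1 T _ _ hne_0_4.symm hadj_4_0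
          have hs_0_4 : T.a x0 x4 = T.a x4 x0 := hsym _ _
          refine NT.cert3 T x0 x2 x4 hne_0_2 hne_0_4 hne_2_4 (by norm_num) 1 1 1 (by norm_num) (by norm_num) (by norm_num) ?_ ?_ ?_
          · linarith only [hd x0, hwp x0, hl_0_2, hl_0_4]
          · linarith only [hd x2, hwp x2, hl_2_0, hl_2_4]
          · linarith only [hd x4, hwp x4, hl_4_0, hl_4_2]
        have hz_4_0 : T.a x4 x0 = 0 := by rw [hsym]; exact hz_0_4
        have hz_1_4 : T.a x1 x4 = 0 := by
          by_contra hadj_1_4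
          have hadj_4_1 : T.a x4 x1 ≠ 0 := by rw [hsym]; exact hadj_1_4
          have hl_1_4 := NT.lb1 T _ _ hne_1_4 hadj_1_4
          have hl_4_1 := NT.lb1 T _ _ hne_1_4.symm hadj_4_1
          have hs_1_4 : T.a x1 x4 = T.a x4 x1 := hsym _ _
          refine NT.cert4 T x0 x1 x2 x4 hne_0_1 hne_0_2 hne_0_4 hne_1_2 hne_1_4 hne_2_4 (by norm_num) 1 1 1 1 (by norm_num) (by norm_num) (by norm_num) (by norm_num) ?_ ?_ ?_ ?_
          · linarith only [hd x0, hwp x0, hl_0_1, hl_0_2, hnn x0 x4 hne_0_4]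
          · linarith only [hd x1, hwp x1, hl_1_0, hnn x1 x2 hne_1_2, hl_1_4]
          · linarith only [hd x2, hwp x2, hl_2_0, hnn x2 x1 hne_1_2.symm, hl_2_4]
          · linarith only [hd x4, hwp x4, hnn x4 x0 hne_0_4.symm, hl_4_1, hl_4_2]
        have hz_4_1 : T.a x4 x1 = 0 := by rw [hsym]; exact hz_1_4
        have hz_3_4 : T.a x3 x4 = 0 := by
          by_contra h
          exact hq_3 ⟨x4, ⟨hne_0_4.symm, hne_1_4.symm, hne_2_4.symm, hne_3_4.symm⟩, h⟩
        have hz_4_3 : T.a x4 x3 = 0 := by rw [hsym]; exact hz_3_4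
        by_cases hq_4 : ∃ y, (y ≠ x0 ∧ y ≠ x1 ∧ y ≠ x2 ∧ y ≠ x3 ∧ y ≠ x4) ∧ T.a x4 y ≠ 0
        · obtain ⟨x5, ⟨hn0, hn1, hn2, hn3, hn4⟩, hadj_4_5⟩ := hq_4
          have hne_0_5 : x0 ≠ x5 := hn0.symm
          have hne_1_5 : x1 ≠ x5 := hn1.symm
          have hne_2_5 : x2 ≠ x5 := hn2.symm
          have hne_3_5 : x3 ≠ x5 := hn3.symm
          have hne_4_5 : x4 ≠ x5 := hn4.symm
          have hadj_5_4 : T.a x5 x4 ≠ 0 := by rw [hsym]; exact hadj_4_5
          have hl_4_5 := NT.lb1 T _ _ hne_4_5 hadj_4_5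
          have hl_5_4 := NT.lb1 T _ _ hne_4_5.symm hadj_5_4
          have hs_4_5 : T.a x4 x5 = T.a x5 x4 := hsym _ _
          have hz_0_5 : T.a x0 x5 = 0 := by
            by_contra hadj_0_5
            have hadj_5_0 : T.a x5 x0 ≠ 0 := by rw [hsym]; exact hadj_0_5
            have hl_0_5 := NT.lb1 T _ _ hne_0_5 hadj_0_5
            have hl_5_0 := NT.lb1 T _ _ hne_0_5.symm hadj_5_0
            have hs_0_5 : T.a x0 x5 = T.a x5 x0 := hsym _ _
            refine NT.cert4 T x0 x2 x4 x5 hne_0_2 hne_0_4 hne_0_5 hne_2_4 hne_2_5 hne_4_5 (by norm_num) 1 1 1 1 (by norm_num) (by norm_num) (by norm_num) (by norm_num) ?_ ?_ ?_ ?_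
            · linarith only [hd x0, hwp x0, hl_0_2, hnn x0 x4 hne_0_4, hl_0_5]
            · linarith only [hd x2, hwp x2, hl_2_0, hl_2_4, hnn x2 x5 hne_2_5]
            · linarith only [hd x4, hwp x4, hnn x4 x0 hne_0_4.symm, hl_4_2, hl_4_5]
            · linarith only [hd x5, hwp x5, hl_5_0, hnn x5 x2 hne_2_5.symm, hl_5_4]
          have hz_5_0 : T.a x5 x0 = 0 := by rw [hsym]; exact hz_0_5
          have hz_1_5 : T.a x1 x5 = 0 := by
            by_contra hadj_1_5
            have hadj_5_1 : T.a x5 x1 ≠ 0 := by rw [hsym]; exact hadj_1_5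
            have hl_1_5 := NT.lb1 T _ _ hne_1_5 hadj_1_5
            have hl_5_1 := NT.lb1 T _ _ hne_1_5.symm hadj_5_1
            have hs_1_5 : T.a x1 x5 = T.a x5 x1 := hsym _ _
            refine NT.cert5 T x0 x1 x2 x4 x5 hne_0_1 hne_0_2 hne_0_4 hne_0_5 hne_1_2 hne_1_4 hne_1_5 hne_2_4 hne_2_5 hne_4_5 (by norm_num) 1 1 1 1 1 (by norm_num) (by norm_num) (by norm_num) (by norm_num) (by norm_num) ?_ ?_ ?_ ?_ ?_
            · linarith only [hd x0, hwp x0, hl_0_1, hl_0_2, hnn x0 x4 hne_0_4, hnn x0 x5 hne_0_5]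
            · linarith only [hd x1, hwp x1, hl_1_0, hnn x1 x2 hne_1_2, hnn x1 x4 hne_1_4, hl_1_5]
            · linarith only [hd x2, hwp x2, hl_2_0, hnn x2 x1 hne_1_2.symm, hl_2_4, hnn x2 x5 hne_2_5]
            · linarith only [hd x4, hwp x4, hnn x4 x0 hne_0_4.symm, hnn x4 x1 hne_1_4.symm, hl_4_2, hl_4_5]
            · linarith only [hd x5, hwp x5, hnn x5 x0 hne_0_5.symm, hl_5_1, hnn x5 x2 hne_2_5.symm, hl_5_4]
          have hz_5_1 : T.a x5 x1 = 0 := by rw [hsym]; exact hz_1_5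
          have hz_2_5 : T.a x2 x5 = 0 := by
            by_contra hadj_2_5
            have hadj_5_2 : T.a x5 x2 ≠ 0 := by rw [hsym]; exact hadj_2_5
            have hl_2_5 := NT.lb1 T _ _ hne_2_5 hadj_2_5
            have hl_5_2 := NT.lb1 T _ _ hne_2_5.symm hadj_5_2
            have hs_2_5 : T.a x2 x5 = T.a x5 x2 := hsym _ _
            refine NT.cert3 T x2 x4 x5 hne_2_4 hne_2_5 hne_4_5 (by norm_num) 1 1 1 (by norm_num) (by norm_num) (by norm_num) ?_ ?_ ?_
            · linarith only [hd x2, hwp x2, hl_2_4, hl_2_5]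
            · linarith only [hd x4, hwp x4, hl_4_2, hl_4_5]
            · linarith only [hd x5, hwp x5, hl_5_2, hl_5_4]
          have hz_5_2 : T.a x5 x2 = 0 := by rw [hsym]; exact hz_2_5
          have hz_3_5 : T.a x3 x5 = 0 := by
            by_contra h
            exact hq_3 ⟨x5, ⟨hne_0_5.symm, hne_1_5.symm, hne_2_5.symm, hne_3_5.symm⟩, h⟩
          have hz_5_3 : T.a x5 x3 = 0 := by rw [hsym]; exact hz_3_5
          by_cases hq_5 : ∃ y, (y ≠ x0 ∧ y ≠ x1 ∧ y ≠ x2 ∧ y ≠ x3 ∧ y ≠ x4 ∧ y ≠ x5) ∧ T.a x5 y ≠ 0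
          · obtain ⟨x6, ⟨hn0, hn1, hn2, hn3, hn4, hn5⟩, hadj_5_6⟩ := hq_5
            have hne_0_6 : x0 ≠ x6 := hn0.symm
            have hne_1_6 : x1 ≠ x6 := hn1.symm
            have hne_2_6 : x2 ≠ x6 := hn2.symm
            have hne_3_6 : x3 ≠ x6 := hn3.symm
            have hne_4_6 : x4 ≠ x6 := hn4.symm
            have hne_5_6 : x5 ≠ x6 := hn5.symm
            have hadj_6_5 : T.a x6 x5 ≠ 0 := by rw [hsym]; exact hadj_5_6
            have hl_5_6 := NT.lb1 T _ _ hne_5_6 hadj_5_6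
            have hl_6_5 := NT.lb1 T _ _ hne_5_6.symm hadj_6_5
            have hs_5_6 : T.a x5 x6 = T.a x6 x5 := hsym _ _
            have hz_0_6 : T.a x0 x6 = 0 := by
              by_contra hadj_0_6
              have hadj_6_0 : T.a x6 x0 ≠ 0 := by rw [hsym]; exact hadj_0_6
              have hl_0_6 := NT.lb1 T _ _ hne_0_6 hadj_0_6
              have hl_6_0 := NT.lb1 T _ _ hne_0_6.symm hadj_6_0
              have hs_0_6 : T.a x0 x6 = T.a x6 x0 := hsym _ _
              refine NT.cert5 T x0 x1 x2 x3 x6 hne_0_1 hne_0_2 hne_0_3 hne_0_6 hne_1_2 hne_1_3 hne_1_6 hne_2_3 hne_2_6 hne_3_6 (by norm_num) 2 1 1 1 1 (by norm_num) (by norm_num) (by norm_num) (by norm_num) (by norm_num) ?_ ?_ ?_ ?_ ?_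
              · linarith only [hd x0, hwp x0, hl_0_1, hl_0_2, hl_0_3, hl_0_6]
              · linarith only [hd x1, hwp x1, hl_1_0, hnn x1 x2 hne_1_2, hnn x1 x3 hne_1_3, hnn x1 x6 hne_1_6]
              · linarith only [hd x2, hwp x2, hl_2_0, hnn x2 x1 hne_1_2.symm, hnn x2 x3 hne_2_3, hnn x2 x6 hne_2_6]
              · linarith only [hd x3, hwp x3, hl_3_0, hnn x3 x1 hne_1_3.symm, hnn x3 x2 hne_2_3.symm, hnn x3 x6 hne_3_6]
              · linarith only [hd x6, hwp x6, hl_6_0, hnn x6 x1 hne_1_6.symm, hnn x6 x2 hne_2_6.symm, hnn x6 x3 hne_3_6.symm]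
            have hz_6_0 : T.a x6 x0 = 0 := by rw [hsym]; exact hz_0_6
            have hz_1_6 : T.a x1 x6 = 0 := by
              by_contra hadj_1_6
              have hadj_6_1 : T.a x6 x1 ≠ 0 := by rw [hsym]; exact hadj_1_6
              have hl_1_6 := NT.lb1 T _ _ hne_1_6 hadj_1_6
              have hl_6_1 := NT.lb1 T _ _ hne_1_6.symm hadj_6_1
              have hs_1_6 : T.a x1 x6 = T.a x6 x1 := hsym _ _
              refine NT.cert6 T x0 x1 x2 x4 x5 x6 hne_0_1 hne_0_2 hne_0_4 hne_0_5 hne_0_6 hne_1_2 hne_1_4 hne_1_5 hne_1_6 hne_2_4 hne_2_5 hne_2_6 hne_4_5 hne_4_6 hne_5_6 (by norm_num) 1 1 1 1 1 1 (by norm_num) (by norm_num) (by norm_num) (by norm_num) (by norm_num) (by norm_num) ?_ ?_ ?_ ?_ ?_ ?_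
              · linarith only [hd x0, hwp x0, hl_0_1, hl_0_2, hnn x0 x4 hne_0_4, hnn x0 x5 hne_0_5, hnn x0 x6 hne_0_6]
              · linarith only [hd x1, hwp x1, hl_1_0, hnn x1 x2 hne_1_2, hnn x1 x4 hne_1_4, hnn x1 x5 hne_1_5, hl_1_6]
              · linarith only [hd x2, hwp x2, hl_2_0, hnn x2 x1 hne_1_2.symm, hl_2_4, hnn x2 x5 hne_2_5, hnn x2 x6 hne_2_6]
              · linarith only [hd x4, hwp x4, hnn x4 x0 hne_0_4.symm, hnn x4 x1 hne_1_4.symm, hl_4_2, hl_4_5, hnn x4 x6 hne_4_6]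
              · linarith only [hd x5, hwp x5, hnn x5 x0 hne_0_5.symm, hnn x5 x1 hne_1_5.symm, hnn x5 x2 hne_2_5.symm, hl_5_4, hl_5_6]
              · linarith only [hd x6, hwp x6, hnn x6 x0 hne_0_6.symm, hl_6_1, hnn x6 x2 hne_2_6.symm, hnn x6 x4 hne_4_6.symm, hl_6_5]
            have hz_6_1 : T.a x6 x1 = 0 := by rw [hsym]; exact hz_1_6
            have hz_2_6 : T.a x2 x6 = 0 := by
              by_contra hadj_2_6
              have hadj_6_2 : T.a x6 x2 ≠ 0 := by rw [hsym]; exact hadj_2_6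
              have hl_2_6 := NT.lb1 T _ _ hne_2_6 hadj_2_6
              have hl_6_2 := NT.lb1 T _ _ hne_2_6.symm hadj_6_2
              have hs_2_6 : T.a x2 x6 = T.a x6 x2 := hsym _ _
              refine NT.cert4 T x2 x4 x5 x6 hne_2_4 hne_2_5 hne_2_6 hne_4_5 hne_4_6 hne_5_6 (by norm_num) 1 1 1 1 (by norm_num) (by norm_num) (by norm_num) (by norm_num) ?_ ?_ ?_ ?_
              · linarith only [hd x2, hwp x2, hl_2_4, hnn x2 x5 hne_2_5, hl_2_6]
              · linarith only [hd x4, hwp x4, hl_4_2, hl_4_5, hnn x4 x6 hne_4_6]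
              · linarith only [hd x5, hwp x5, hnn x5 x2 hne_2_5.symm, hl_5_4, hl_5_6]
              · linarith only [hd x6, hwp x6, hl_6_2, hnn x6 x4 hne_4_6.symm, hl_6_5]
            have hz_6_2 : T.a x6 x2 = 0 := by rw [hsym]; exact hz_2_6
            have hz_3_6 : T.a x3 x6 = 0 := by
              by_contra h
              exact hq_3 ⟨x6, ⟨hne_0_6.symm, hne_1_6.symm, hne_2_6.symm, hne_3_6.symm⟩, h⟩
            have hz_6_3 : T.a x6 x3 = 0 := by rw [hsym]; exact hz_3_6
            have hz_4_6 : T.a x4 x6 = 0 := by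
              by_contra hadj_4_6
              have hadj_6_4 : T.a x6 x4 ≠ 0 := by rw [hsym]; exact hadj_4_6
              have hl_4_6 := NT.lb1 T _ _ hne_4_6 hadj_4_6
              have hl_6_4 := NT.lb1 T _ _ hne_4_6.symm hadj_6_4
              have hs_4_6 : T.a x4 x6 = T.a x6 x4 := hsym _ _
              refine NT.cert3 T x4 x5 x6 hne_4_5 hne_4_6 hne_5_6 (by norm_num) 1 1 1 (by norm_num) (by norm_num) (by norm_num) ?_ ?_ ?_
              · linarith only [hd x4, hwp x4, hl_4_5, hl_4_6]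
              · linarith only [hd x5, hwp x5, hl_5_4, hl_5_6]
              · linarith only [hd x6, hwp x6, hl_6_4, hl_6_5]
            have hz_6_4 : T.a x6 x4 = 0 := by rw [hsym]; exact hz_4_6
            by_cases hq_6 : ∃ y, (y ≠ x0 ∧ y ≠ x1 ∧ y ≠ x2 ∧ y ≠ x3 ∧ y ≠ x4 ∧ y ≠ x5 ∧ y ≠ x6) ∧ T.a x6 y ≠ 0
            · obtain ⟨x7, ⟨hn0, hn1, hn2, hn3, hn4, hn5, hn6⟩, hadj_6_7⟩ := hq_6
              have hne_0_7 : x0 ≠ x7 := hn0.symm
              have hne_1_7 : x1 ≠ x7 := hn1.symm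
              have hne_2_7 : x2 ≠ x7 := hn2.symm
              have hne_3_7 : x3 ≠ x7 := hn3.symm
              have hne_4_7 : x4 ≠ x7 := hn4.symm
              have hne_5_7 : x5 ≠ x7 := hn5.symm
              have hne_6_7 : x6 ≠ x7 := hn6.symm
              have hadj_7_6 : T.a x7 x6 ≠ 0 := by rw [hsym]; exact hadj_6_7
              have hl_6_7 := NT.lb1 T _ _ hne_6_7 hadj_6_7
              have hl_7_6 := NT.lb1 T _ _ hne_6_7.symm hadj_7_6
              have hs_6_7 : T.a x6 x7 = T.a x7 x6 := hsym _ _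
              have hz_0_7 : T.a x0 x7 = 0 := by
                by_contra hadj_0_7
                have hadj_7_0 : T.a x7 x0 ≠ 0 := by rw [hsym]; exact hadj_0_7
                have hl_0_7 := NT.lb1 T _ _ hne_0_7 hadj_0_7
                have hl_7_0 := NT.lb1 T _ _ hne_0_7.symm hadj_7_0
                have hs_0_7 : T.a x0 x7 = T.a x7 x0 := hsym _ _
                refine NT.cert5 T x0 x1 x2 x3 x7 hne_0_1 hne_0_2 hne_0_3 hne_0_7 hne_1_2 hne_1_3 hne_1_7 hne_2_3 hne_2_7 hne_3_7 (by norm_num) 2 1 1 1 1 (by norm_num) (by norm_num) (by norm_num) (by norm_num) (by norm_num) ?_ ?_ ?_ ?_ ?_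
                · linarith only [hd x0, hwp x0, hl_0_1, hl_0_2, hl_0_3, hl_0_7]
                · linarith only [hd x1, hwp x1, hl_1_0, hnn x1 x2 hne_1_2, hnn x1 x3 hne_1_3, hnn x1 x7 hne_1_7]
                · linarith only [hd x2, hwp x2, hl_2_0, hnn x2 x1 hne_1_2.symm, hnn x2 x3 hne_2_3, hnn x2 x7 hne_2_7]
                · linarith only [hd x3, hwp x3, hl_3_0, hnn x3 x1 hne_1_3.symm, hnn x3 x2 hne_2_3.symm, hnn x3 x7 hne_3_7]
                · linarith only [hd x7, hwp x7, hl_7_0, hnn x7 x1 hne_1_7.symm, hnn x7 x2 hne_2_7.symm, hnn x7 x3 hne_3_7.symm]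
              have hz_7_0 : T.a x7 x0 = 0 := by rw [hsym]; exact hz_0_7
              have hz_1_7 : T.a x1 x7 = 0 := by
                by_contra hadj_1_7
                have hadj_7_1 : T.a x7 x1 ≠ 0 := by rw [hsym]; exact hadj_1_7
                have hl_1_7 := NT.lb1 T _ _ hne_1_7 hadj_1_7
                have hl_7_1 := NT.lb1 T _ _ hne_1_7.symm hadj_7_1
                have hs_1_7 : T.a x1 x7 = T.a x7 x1 := hsym _ _
                refine NT.cert7 T x0 x1 x2 x4 x5 x6 x7 hne_0_1 hne_0_2 hne_0_4 hne_0_5 hne_0_6 hne_0_7 hne_1_2 hne_1_4 hne_1_5 hne_1_6 hne_1_7 hne_2_4 hne_2_5 hne_2_6 hne_2_7 hne_4_5 hne_4_6 hne_4_7 hne_5_6 hne_5_7 hne_6_7 (by norm_num) 1 1 1 1 1 1 1 (by norm_num) (by norm_num) (by norm_num) (by norm_num) (by norm_num) (by norm_num) (by norm_num) ?_ ?_ ?_ ?_ ?_ ?_ ?_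
                · linarith only [hd x0, hwp x0, hl_0_1, hl_0_2, hnn x0 x4 hne_0_4, hnn x0 x5 hne_0_5, hnn x0 x6 hne_0_6, hnn x0 x7 hne_0_7]
                · linarith only [hd x1, hwp x1, hl_1_0, hnn x1 x2 hne_1_2, hnn x1 x4 hne_1_4, hnn x1 x5 hne_1_5, hnn x1 x6 hne_1_6, hl_1_7]
                · linarith only [hd x2, hwp x2, hl_2_0, hnn x2 x1 hne_1_2.symm, hl_2_4, hnn x2 x5 hne_2_5, hnn x2 x6 hne_2_6, hnn x2 x7 hne_2_7]
                · linarith only [hd x4, hwp x4, hnn x4 x0 hne_0_4.symm, hnn x4 x1 hne_1_4.symm, hl_4_2, hl_4_5, hnn x4 x6 hne_4_6, hnn x4 x7 hne_4_7]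
                · linarith only [hd x5, hwp x5, hnn x5 x0 hne_0_5.symm, hnn x5 x1 hne_1_5.symm, hnn x5 x2 hne_2_5.symm, hl_5_4, hl_5_6, hnn x5 x7 hne_5_7]
                · linarith only [hd x6, hwp x6, hnn x6 x0 hne_0_6.symm, hnn x6 x1 hne_1_6.symm, hnn x6 x2 hne_2_6.symm, hnn x6 x4 hne_4_6.symm, hl_6_5, hl_6_7]
                · linarith only [hd x7, hwp x7, hnn x7 x0 hne_0_7.symm, hl_7_1, hnn x7 x2 hne_2_7.symm, hnn x7 x4 hne_4_7.symm, hnn x7 x5 hne_5_7.symm, hl_7_6]
              have hz_7_1 : T.a x7 x1 = 0 := by rw [hsym]; exact hz_1_7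
              have hz_2_7 : T.a x2 x7 = 0 := by
                by_contra hadj_2_7
                have hadj_7_2 : T.a x7 x2 ≠ 0 := by rw [hsym]; exact hadj_2_7
                have hl_2_7 := NT.lb1 T _ _ hne_2_7 hadj_2_7
                have hl_7_2 := NT.lb1 T _ _ hne_2_7.symm hadj_7_2
                have hs_2_7 : T.a x2 x7 = T.a x7 x2 := hsym _ _
                refine NT.cert5 T x2 x4 x5 x6 x7 hne_2_4 hne_2_5 hne_2_6 hne_2_7 hne_4_5 hne_4_6 hne_4_7 hne_5_6 hne_5_7 hne_6_7 (by norm_num) 1 1 1 1 1 (by norm_num) (by norm_num) (by norm_num) (by norm_num) (by norm_num) ?_ ?_ ?_ ?_ ?_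
                · linarith only [hd x2, hwp x2, hl_2_4, hnn x2 x5 hne_2_5, hnn x2 x6 hne_2_6, hl_2_7]
                · linarith only [hd x4, hwp x4, hl_4_2, hl_4_5, hnn x4 x6 hne_4_6, hnn x4 x7 hne_4_7]
                · linarith only [hd x5, hwp x5, hnn x5 x2 hne_2_5.symm, hl_5_4, hl_5_6, hnn x5 x7 hne_5_7]
                · linarith only [hd x6, hwp x6, hnn x6 x2 hne_2_6.symm, hnn x6 x4 hne_4_6.symm, hl_6_5, hl_6_7]
                · linarith only [hd x7, hwp x7, hl_7_2, hnn x7 x4 hne_4_7.symm, hnn x7 x5 hne_5_7.symm, hl_7_6]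
              have hz_7_2 : T.a x7 x2 = 0 := by rw [hsym]; exact hz_2_7
              have hz_3_7 : T.a x3 x7 = 0 := by
                by_contra h
                exact hq_3 ⟨x7, ⟨hne_0_7.symm, hne_1_7.symm, hne_2_7.symm, hne_3_7.symm⟩, h⟩
              have hz_7_3 : T.a x7 x3 = 0 := by rw [hsym]; exact hz_3_7
              have hz_4_7 : T.a x4 x7 = 0 := by
                by_contra hadj_4_7
                have hadj_7_4 : T.a x7 x4 ≠ 0 := by rw [hsym]; exact hadj_4_7
                have hl_4_7 := NT.lb1 T _ _ hne_4_7 hadj_4_7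
                have hl_7_4 := NT.lb1 T _ _ hne_4_7.symm hadj_7_4
                have hs_4_7 : T.a x4 x7 = T.a x7 x4 := hsym _ _
                refine NT.cert4 T x4 x5 x6 x7 hne_4_5 hne_4_6 hne_4_7 hne_5_6 hne_5_7 hne_6_7 (by norm_num) 1 1 1 1 (by norm_num) (by norm_num) (by norm_num) (by norm_num) ?_ ?_ ?_ ?_
                · linarith only [hd x4, hwp x4, hl_4_5, hnn x4 x6 hne_4_6, hl_4_7]
                · linarith only [hd x5, hwp x5, hl_5_4, hl_5_6, hnn x5 x7 hne_5_7]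
                · linarith only [hd x6, hwp x6, hnn x6 x4 hne_4_6.symm, hl_6_5, hl_6_7]
                · linarith only [hd x7, hwp x7, hl_7_4, hnn x7 x5 hne_5_7.symm, hl_7_6]
              have hz_7_4 : T.a x7 x4 = 0 := by rw [hsym]; exact hz_4_7
              have hz_5_7 : T.a x5 x7 = 0 := by
                by_contra hadj_5_7
                have hadj_7_5 : T.a x7 x5 ≠ 0 := by rw [hsym]; exact hadj_5_7
                have hl_5_7 := NT.lb1 T _ _ hne_5_7 hadj_5_7
                have hl_7_5 := NT.lb1 T _ _ hne_5_7.symm hadj_7_5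
                have hs_5_7 : T.a x5 x7 = T.a x7 x5 := hsym _ _
                refine NT.cert3 T x5 x6 x7 hne_5_6 hne_5_7 hne_6_7 (by norm_num) 1 1 1 (by norm_num) (by norm_num) (by norm_num) ?_ ?_ ?_
                · linarith only [hd x5, hwp x5, hl_5_6, hl_5_7]
                · linarith only [hd x6, hwp x6, hl_6_5, hl_6_7]
                · linarith only [hd x7, hwp x7, hl_7_5, hl_7_6]
              have hz_7_5 : T.a x7 x5 = 0 := by rw [hsym]; exact hz_5_7
              exact G8.shape8 T hall x0 x1 x2 x3 x4 x5 x6 x7 hne_0_1 hne_0_2 hne_0_3 hne_0_4 hne_0_5 hne_0_6 hne_0_7 hne_1_2 hne_1_3 hne_1_4 hne_1_5 hne_1_6 hne_1_7 hne_2_3 hne_2_4 hne_2_5 hne_2_6 hne_2_7 hne_3_4 hne_3_5 hne_3_6 hne_3_7 hne_4_5 hne_4_6 hne_4_7 hne_5_6 hne_5_7 hne_6_7 hadj_0_1 hadj_0_2 hadj_0_3 hz_0_4 hz_0_5 hz_0_6 hz_0_7 hz_1_2 hz_1_3 hz_1_4 hz_1_5 hz_1_6 hz_1_7 hz_2_3 hadj_2_4 hz_2_5 hz_2_6 hz_2_7 hz_3_4 hz_3_5 hz_3_6 hz_3_7 hadj_4_5 hz_4_6 hz_4_7 hadj_5_6 hz_5_7 hadj_6_7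
            · by_cases hq_5 : ∃ y, (y ≠ x0 ∧ y ≠ x1 ∧ y ≠ x2 ∧ y ≠ x3 ∧ y ≠ x4 ∧ y ≠ x5 ∧ y ≠ x6) ∧ T.a x5 y ≠ 0
              · obtain ⟨x7, ⟨hn0, hn1, hn2, hn3, hn4, hn5, hn6⟩, hadj_5_7⟩ := hq_5
                have hne_0_7 : x0 ≠ x7 := hn0.symm
                have hne_1_7 : x1 ≠ x7 := hn1.symm
                have hne_2_7 : x2 ≠ x7 := hn2.symm
                have hne_3_7 : x3 ≠ x7 := hn3.symm
                have hne_4_7 : x4 ≠ x7 := hn4.symm
                have hne_5_7 : x5 ≠ x7 := hn5.symm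
                have hne_6_7 : x6 ≠ x7 := hn6.symm
                have hadj_7_5 : T.a x7 x5 ≠ 0 := by rw [hsym]; exact hadj_5_7
                have hl_5_7 := NT.lb1 T _ _ hne_5_7 hadj_5_7
                have hl_7_5 := NT.lb1 T _ _ hne_5_7.symm hadj_7_5
                have hs_5_7 : T.a x5 x7 = T.a x7 x5 := hsym _ _
                have hz_0_7 : T.a x0 x7 = 0 := by
                  by_contra hadj_0_7
                  have hadj_7_0 : T.a x7 x0 ≠ 0 := by rw [hsym]; exact hadj_0_7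
                  have hl_0_7 := NT.lb1 T _ _ hne_0_7 hadj_0_7
                  have hl_7_0 := NT.lb1 T _ _ hne_0_7.symm hadj_7_0
                  have hs_0_7 : T.a x0 x7 = T.a x7 x0 := hsym _ _
                  refine NT.cert5 T x0 x1 x2 x3 x7 hne_0_1 hne_0_2 hne_0_3 hne_0_7 hne_1_2 hne_1_3 hne_1_7 hne_2_3 hne_2_7 hne_3_7 (by norm_num) 2 1 1 1 1 (by norm_num) (by norm_num) (by norm_num) (by norm_num) (by norm_num) ?_ ?_ ?_ ?_ ?_
                  · linarith only [hd x0, hwp x0, hl_0_1, hl_0_2, hl_0_3, hl_0_7]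
                  · linarith only [hd x1, hwp x1, hl_1_0, hnn x1 x2 hne_1_2, hnn x1 x3 hne_1_3, hnn x1 x7 hne_1_7]
                  · linarith only [hd x2, hwp x2, hl_2_0, hnn x2 x1 hne_1_2.symm, hnn x2 x3 hne_2_3, hnn x2 x7 hne_2_7]
                  · linarith only [hd x3, hwp x3, hl_3_0, hnn x3 x1 hne_1_3.symm, hnn x3 x2 hne_2_3.symm, hnn x3 x7 hne_3_7]
                  · linarith only [hd x7, hwp x7, hl_7_0, hnn x7 x1 hne_1_7.symm, hnn x7 x2 hne_2_7.symm, hnn x7 x3 hne_3_7.symm]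
                have hz_7_0 : T.a x7 x0 = 0 := by rw [hsym]; exact hz_0_7
                have hz_1_7 : T.a x1 x7 = 0 := by
                  by_contra hadj_1_7
                  have hadj_7_1 : T.a x7 x1 ≠ 0 := by rw [hsym]; exact hadj_1_7
                  have hl_1_7 := NT.lb1 T _ _ hne_1_7 hadj_1_7
                  have hl_7_1 := NT.lb1 T _ _ hne_1_7.symm hadj_7_1
                  have hs_1_7 : T.a x1 x7 = T.a x7 x1 := hsym _ _
                  refine NT.cert6 T x0 x1 x2 x4 x5 x7 hne_0_1 hne_0_2 hne_0_4 hne_0_5 hne_0_7 hne_1_2 hne_1_4 hne_1_5 hne_1_7 hne_2_4 hne_2_5 hne_2_7 hne_4_5 hne_4_7 hne_5_7 (by norm_num) 1 1 1 1 1 1 (by norm_num) (by norm_num) (by norm_num) (by norm_num) (by norm_num) (by norm_num) ?_ ?_ ?_ ?_ ?_ ?_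
                  · linarith only [hd x0, hwp x0, hl_0_1, hl_0_2, hnn x0 x4 hne_0_4, hnn x0 x5 hne_0_5, hnn x0 x7 hne_0_7]
                  · linarith only [hd x1, hwp x1, hl_1_0, hnn x1 x2 hne_1_2, hnn x1 x4 hne_1_4, hnn x1 x5 hne_1_5, hl_1_7]
                  · linarith only [hd x2, hwp x2, hl_2_0, hnn x2 x1 hne_1_2.symm, hl_2_4, hnn x2 x5 hne_2_5, hnn x2 x7 hne_2_7]
                  · linarith only [hd x4, hwp x4, hnn x4 x0 hne_0_4.symm, hnn x4 x1 hne_1_4.symm, hl_4_2, hl_4_5, hnn x4 x7 hne_4_7]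
                  · linarith only [hd x5, hwp x5, hnn x5 x0 hne_0_5.symm, hnn x5 x1 hne_1_5.symm, hnn x5 x2 hne_2_5.symm, hl_5_4, hl_5_7]
                  · linarith only [hd x7, hwp x7, hnn x7 x0 hne_0_7.symm, hl_7_1, hnn x7 x2 hne_2_7.symm, hnn x7 x4 hne_4_7.symm, hl_7_5]
                have hz_7_1 : T.a x7 x1 = 0 := by rw [hsym]; exact hz_1_7
                have hz_2_7 : T.a x2 x7 = 0 := by
                  by_contra hadj_2_7
                  have hadj_7_2 : T.a x7 x2 ≠ 0 := by rw [hsym]; exact hadj_2_7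
                  have hl_2_7 := NT.lb1 T _ _ hne_2_7 hadj_2_7
                  have hl_7_2 := NT.lb1 T _ _ hne_2_7.symm hadj_7_2
                  have hs_2_7 : T.a x2 x7 = T.a x7 x2 := hsym _ _
                  refine NT.cert4 T x2 x4 x5 x7 hne_2_4 hne_2_5 hne_2_7 hne_4_5 hne_4_7 hne_5_7 (by norm_num) 1 1 1 1 (by norm_num) (by norm_num) (by norm_num) (by norm_num) ?_ ?_ ?_ ?_
                  · linarith only [hd x2, hwp x2, hl_2_4, hnn x2 x5 hne_2_5, hl_2_7]
                  · linarith only [hd x4, hwp x4, hl_4_2, hl_4_5, hnn x4 x7 hne_4_7]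
                  · linarith only [hd x5, hwp x5, hnn x5 x2 hne_2_5.symm, hl_5_4, hl_5_7]
                  · linarith only [hd x7, hwp x7, hl_7_2, hnn x7 x4 hne_4_7.symm, hl_7_5]
                have hz_7_2 : T.a x7 x2 = 0 := by rw [hsym]; exact hz_2_7
                have hz_3_7 : T.a x3 x7 = 0 := by
                  by_contra h
                  exact hq_3 ⟨x7, ⟨hne_0_7.symm, hne_1_7.symm, hne_2_7.symm, hne_3_7.symm⟩, h⟩
                have hz_7_3 : T.a x7 x3 = 0 := by rw [hsym]; exact hz_3_7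
                have hz_4_7 : T.a x4 x7 = 0 := by
                  by_contra hadj_4_7
                  have hadj_7_4 : T.a x7 x4 ≠ 0 := by rw [hsym]; exact hadj_4_7
                  have hl_4_7 := NT.lb1 T _ _ hne_4_7 hadj_4_7
                  have hl_7_4 := NT.lb1 T _ _ hne_4_7.symm hadj_7_4
                  have hs_4_7 : T.a x4 x7 = T.a x7 x4 := hsym _ _
                  refine NT.cert3 T x4 x5 x7 hne_4_5 hne_4_7 hne_5_7 (by norm_num) 1 1 1 (by norm_num) (by norm_num) (by norm_num) ?_ ?_ ?_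
                  · linarith only [hd x4, hwp x4, hl_4_5, hl_4_7]
                  · linarith only [hd x5, hwp x5, hl_5_4, hl_5_7]
                  · linarith only [hd x7, hwp x7, hl_7_4, hl_7_5]
                have hz_7_4 : T.a x7 x4 = 0 := by rw [hsym]; exact hz_4_7
                have hz_6_7 : T.a x6 x7 = 0 := by
                  by_contra h
                  exact hq_6 ⟨x7, ⟨hne_0_7.symm, hne_1_7.symm, hne_2_7.symm, hne_3_7.symm, hne_4_7.symm, hne_5_7.symm, hne_6_7.symm⟩, h⟩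
                have hz_7_6 : T.a x7 x6 = 0 := by rw [hsym]; exact hz_6_7
                exact G8.shape9 T hall x0 x1 x2 x3 x4 x5 x6 x7 hne_0_1 hne_0_2 hne_0_3 hne_0_4 hne_0_5 hne_0_6 hne_0_7 hne_1_2 hne_1_3 hne_1_4 hne_1_5 hne_1_6 hne_1_7 hne_2_3 hne_2_4 hne_2_5 hne_2_6 hne_2_7 hne_3_4 hne_3_5 hne_3_6 hne_3_7 hne_4_5 hne_4_6 hne_4_7 hne_5_6 hne_5_7 hne_6_7 hadj_0_1 hadj_0_2 hadj_0_3 hz_0_4 hz_0_5 hz_0_6 hz_0_7 hz_1_2 hz_1_3 hz_1_4 hz_1_5 hz_1_6 hz_1_7 hz_2_3 hadj_2_4 hz_2_5 hz_2_6 hz_2_7 hz_3_4 hz_3_5 hz_3_6 hz_3_7 hadj_4_5 hz_4_6 hz_4_7 hadj_5_6 hadj_5_7 hz_6_7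
              · by_cases hq_4 : ∃ y, (y ≠ x0 ∧ y ≠ x1 ∧ y ≠ x2 ∧ y ≠ x3 ∧ y ≠ x4 ∧ y ≠ x5 ∧ y ≠ x6) ∧ T.a x4 y ≠ 0
                · obtain ⟨x7, ⟨hn0, hn1, hn2, hn3, hn4, hn5, hn6⟩, hadj_4_7⟩ := hq_4
                  have hne_0_7 : x0 ≠ x7 := hn0.symm
                  have hne_1_7 : x1 ≠ x7 := hn1.symm
                  have hne_2_7 : x2 ≠ x7 := hn2.symm
                  have hne_3_7 : x3 ≠ x7 := hn3.symm
                  have hne_4_7 : x4 ≠ x7 := hn4.symm
                  have hne_5_7 : x5 ≠ x7 := hn5.symm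
                  have hne_6_7 : x6 ≠ x7 := hn6.symm
                  have hadj_7_4 : T.a x7 x4 ≠ 0 := by rw [hsym]; exact hadj_4_7
                  have hl_4_7 := NT.lb1 T _ _ hne_4_7 hadj_4_7
                  have hl_7_4 := NT.lb1 T _ _ hne_4_7.symm hadj_7_4
                  have hs_4_7 : T.a x4 x7 = T.a x7 x4 := hsym _ _
                  have hz_0_7 : T.a x0 x7 = 0 := by
                    by_contra hadj_0_7
                    have hadj_7_0 : T.a x7 x0 ≠ 0 := by rw [hsym]; exact hadj_0_7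
                    have hl_0_7 := NT.lb1 T _ _ hne_0_7 hadj_0_7
                    have hl_7_0 := NT.lb1 T _ _ hne_0_7.symm hadj_7_0
                    have hs_0_7 : T.a x0 x7 = T.a x7 x0 := hsym _ _
                    refine NT.cert4 T x0 x2 x4 x7 hne_0_2 hne_0_4 hne_0_7 hne_2_4 hne_2_7 hne_4_7 (by norm_num) 1 1 1 1 (by norm_num) (by norm_num) (by norm_num) (by norm_num) ?_ ?_ ?_ ?_
                    · linarith only [hd x0, hwp x0, hl_0_2, hnn x0 x4 hne_0_4, hl_0_7]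
                    · linarith only [hd x2, hwp x2, hl_2_0, hl_2_4, hnn x2 x7 hne_2_7]
                    · linarith only [hd x4, hwp x4, hnn x4 x0 hne_0_4.symm, hl_4_2, hl_4_7]
                    · linarith only [hd x7, hwp x7, hl_7_0, hnn x7 x2 hne_2_7.symm, hl_7_4]
                  have hz_7_0 : T.a x7 x0 = 0 := by rw [hsym]; exact hz_0_7
                  have hz_1_7 : T.a x1 x7 = 0 := by
                    by_contra hadj_1_7
                    have hadj_7_1 : T.a x7 x1 ≠ 0 := by rw [hsym]; exact hadj_1_7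
                    have hl_1_7 := NT.lb1 T _ _ hne_1_7 hadj_1_7
                    have hl_7_1 := NT.lb1 T _ _ hne_1_7.symm hadj_7_1
                    have hs_1_7 : T.a x1 x7 = T.a x7 x1 := hsym _ _
                    refine NT.cert5 T x0 x1 x2 x4 x7 hne_0_1 hne_0_2 hne_0_4 hne_0_7 hne_1_2 hne_1_4 hne_1_7 hne_2_4 hne_2_7 hne_4_7 (by norm_num) 1 1 1 1 1 (by norm_num) (by norm_num) (by norm_num) (by norm_num) (by norm_num) ?_ ?_ ?_ ?_ ?_
                    · linarith only [hd x0, hwp x0, hl_0_1, hl_0_2, hnn x0 x4 hne_0_4, hnn x0 x7 hne_0_7]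
                    · linarith only [hd x1, hwp x1, hl_1_0, hnn x1 x2 hne_1_2, hnn x1 x4 hne_1_4, hl_1_7]
                    · linarith only [hd x2, hwp x2, hl_2_0, hnn x2 x1 hne_1_2.symm, hl_2_4, hnn x2 x7 hne_2_7]
                    · linarith only [hd x4, hwp x4, hnn x4 x0 hne_0_4.symm, hnn x4 x1 hne_1_4.symm, hl_4_2, hl_4_7]
                    · linarith only [hd x7, hwp x7, hnn x7 x0 hne_0_7.symm, hl_7_1, hnn x7 x2 hne_2_7.symm, hl_7_4]
                  have hz_7_1 : T.a x7 x1 = 0 := by rw [hsym]; exact hz_1_7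
                  have hz_2_7 : T.a x2 x7 = 0 := by
                    by_contra hadj_2_7
                    have hadj_7_2 : T.a x7 x2 ≠ 0 := by rw [hsym]; exact hadj_2_7
                    have hl_2_7 := NT.lb1 T _ _ hne_2_7 hadj_2_7
                    have hl_7_2 := NT.lb1 T _ _ hne_2_7.symm hadj_7_2
                    have hs_2_7 : T.a x2 x7 = T.a x7 x2 := hsym _ _
                    refine NT.cert3 T x2 x4 x7 hne_2_4 hne_2_7 hne_4_7 (by norm_num) 1 1 1 (by norm_num) (by norm_num) (by norm_num) ?_ ?_ ?_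
                    · linarith only [hd x2, hwp x2, hl_2_4, hl_2_7]
                    · linarith only [hd x4, hwp x4, hl_4_2, hl_4_7]
                    · linarith only [hd x7, hwp x7, hl_7_2, hl_7_4]
                  have hz_7_2 : T.a x7 x2 = 0 := by rw [hsym]; exact hz_2_7
                  have hz_3_7 : T.a x3 x7 = 0 := by
                    by_contra h
                    exact hq_3 ⟨x7, ⟨hne_0_7.symm, hne_1_7.symm, hne_2_7.symm, hne_3_7.symm⟩, h⟩
                  have hz_7_3 : T.a x7 x3 = 0 := by rw [hsym]; exact hz_3_7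
                  have hz_5_7 : T.a x5 x7 = 0 := by
                    by_contra h
                    exact hq_5 ⟨x7, ⟨hne_0_7.symm, hne_1_7.symm, hne_2_7.symm, hne_3_7.symm, hne_4_7.symm, hne_5_7.symm, hne_6_7.symm⟩, h⟩
                  have hz_7_5 : T.a x7 x5 = 0 := by rw [hsym]; exact hz_5_7
                  have hz_6_7 : T.a x6 x7 = 0 := by
                    by_contra h
                    exact hq_6 ⟨x7, ⟨hne_0_7.symm, hne_1_7.symm, hne_2_7.symm, hne_3_7.symm, hne_4_7.symm, hne_5_7.symm, hne_6_7.symm⟩, h⟩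
                  have hz_7_6 : T.a x7 x6 = 0 := by rw [hsym]; exact hz_6_7
                  exfalso
                  refine NT.cert7 T x0 x1 x2 x3 x4 x5 x7 hne_0_1 hne_0_2 hne_0_3 hne_0_4 hne_0_5 hne_0_7 hne_1_2 hne_1_3 hne_1_4 hne_1_5 hne_1_7 hne_2_3 hne_2_4 hne_2_5 hne_2_7 hne_3_4 hne_3_5 hne_3_7 hne_4_5 hne_4_7 hne_5_7 (by norm_num) 2 1 2 1 2 1 1 (by norm_num) (by norm_num) (by norm_num) (by norm_num) (by norm_num) (by norm_num) (by norm_num) ?_ ?_ ?_ ?_ ?_ ?_ ?_
                  · linarith only [hd x0, hwp x0, hl_0_1, hl_0_2, hl_0_3, hnn x0 x4 hne_0_4, hnn x0 x5 hne_0_5, hnn x0 x7 hne_0_7]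
                  · linarith only [hd x1, hwp x1, hl_1_0, hnn x1 x2 hne_1_2, hnn x1 x3 hne_1_3, hnn x1 x4 hne_1_4, hnn x1 x5 hne_1_5, hnn x1 x7 hne_1_7]
                  · linarith only [hd x2, hwp x2, hl_2_0, hnn x2 x1 hne_1_2.symm, hnn x2 x3 hne_2_3, hl_2_4, hnn x2 x5 hne_2_5, hnn x2 x7 hne_2_7]
                  · linarith only [hd x3, hwp x3, hl_3_0, hnn x3 x1 hne_1_3.symm, hnn x3 x2 hne_2_3.symm, hnn x3 x4 hne_3_4, hnn x3 x5 hne_3_5, hnn x3 x7 hne_3_7]
                  · linarith only [hd x4, hwp x4, hnn x4 x0 hne_0_4.symm, hnn x4 x1 hne_1_4.symm, hl_4_2, hnn x4 x3 hne_3_4.symm, hl_4_5, hl_4_7]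
                  · linarith only [hd x5, hwp x5, hnn x5 x0 hne_0_5.symm, hnn x5 x1 hne_1_5.symm, hnn x5 x2 hne_2_5.symm, hnn x5 x3 hne_3_5.symm, hl_5_4, hnn x5 x7 hne_5_7]
                  · linarith only [hd x7, hwp x7, hnn x7 x0 hne_0_7.symm, hnn x7 x1 hne_1_7.symm, hnn x7 x2 hne_2_7.symm, hnn x7 x3 hne_3_7.symm, hl_7_4, hnn x7 x5 hne_5_7.symm]
                · by_cases hq_2 : ∃ y, (y ≠ x0 ∧ y ≠ x1 ∧ y ≠ x2 ∧ y ≠ x3 ∧ y ≠ x4 ∧ y ≠ x5 ∧ y ≠ x6) ∧ T.a x2 y ≠ 0
                  · obtain ⟨x7, ⟨hn0, hn1, hn2, hn3, hn4, hn5, hn6⟩, hadj_2_7⟩ := hq_2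
                    have hne_0_7 : x0 ≠ x7 := hn0.symm
                    have hne_1_7 : x1 ≠ x7 := hn1.symm
                    have hne_2_7 : x2 ≠ x7 := hn2.symm
                    have hne_3_7 : x3 ≠ x7 := hn3.symm
                    have hne_4_7 : x4 ≠ x7 := hn4.symm
                    have hne_5_7 : x5 ≠ x7 := hn5.symm
                    have hne_6_7 : x6 ≠ x7 := hn6.symm
                    have hadj_7_2 : T.a x7 x2 ≠ 0 := by rw [hsym]; exact hadj_2_7
                    have hl_2_7 := NT.lb1 T _ _ hne_2_7 hadj_2_7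
                    have hl_7_2 := NT.lb1 T _ _ hne_2_7.symm hadj_7_2
                    have hs_2_7 : T.a x2 x7 = T.a x7 x2 := hsym _ _
                    have hz_0_7 : T.a x0 x7 = 0 := by
                      by_contra hadj_0_7
                      have hadj_7_0 : T.a x7 x0 ≠ 0 := by rw [hsym]; exact hadj_0_7
                      have hl_0_7 := NT.lb1 T _ _ hne_0_7 hadj_0_7
                      have hl_7_0 := NT.lb1 T _ _ hne_0_7.symm hadj_7_0
                      have hs_0_7 : T.a x0 x7 = T.a x7 x0 := hsym _ _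
                      refine NT.cert3 T x0 x2 x7 hne_0_2 hne_0_7 hne_2_7 (by norm_num) 1 1 1 (by norm_num) (by norm_num) (by norm_num) ?_ ?_ ?_
                      · linarith only [hd x0, hwp x0, hl_0_2, hl_0_7]
                      · linarith only [hd x2, hwp x2, hl_2_0, hl_2_7]
                      · linarith only [hd x7, hwp x7, hl_7_0, hl_7_2]
                    have hz_7_0 : T.a x7 x0 = 0 := by rw [hsym]; exact hz_0_7
                    have hz_1_7 : T.a x1 x7 = 0 := by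
                      by_contra hadj_1_7
                      have hadj_7_1 : T.a x7 x1 ≠ 0 := by rw [hsym]; exact hadj_1_7
                      have hl_1_7 := NT.lb1 T _ _ hne_1_7 hadj_1_7
                      have hl_7_1 := NT.lb1 T _ _ hne_1_7.symm hadj_7_1
                      have hs_1_7 : T.a x1 x7 = T.a x7 x1 := hsym _ _
                      refine NT.cert4 T x0 x1 x2 x7 hne_0_1 hne_0_2 hne_0_7 hne_1_2 hne_1_7 hne_2_7 (by norm_num) 1 1 1 1 (by norm_num) (by norm_num) (by norm_num) (by norm_num) ?_ ?_ ?_ ?_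
                      · linarith only [hd x0, hwp x0, hl_0_1, hl_0_2, hnn x0 x7 hne_0_7]
                      · linarith only [hd x1, hwp x1, hl_1_0, hnn x1 x2 hne_1_2, hl_1_7]
                      · linarith only [hd x2, hwp x2, hl_2_0, hnn x2 x1 hne_1_2.symm, hl_2_7]
                      · linarith only [hd x7, hwp x7, hnn x7 x0 hne_0_7.symm, hl_7_1, hl_7_2]
                    have hz_7_1 : T.a x7 x1 = 0 := by rw [hsym]; exact hz_1_7
                    have hz_3_7 : T.a x3 x7 = 0 := by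
                      by_contra h
                      exact hq_3 ⟨x7, ⟨hne_0_7.symm, hne_1_7.symm, hne_2_7.symm, hne_3_7.symm⟩, h⟩
                    have hz_7_3 : T.a x7 x3 = 0 := by rw [hsym]; exact hz_3_7
                    have hz_4_7 : T.a x4 x7 = 0 := by
                      by_contra h
                      exact hq_4 ⟨x7, ⟨hne_0_7.symm, hne_1_7.symm, hne_2_7.symm, hne_3_7.symm, hne_4_7.symm, hne_5_7.symm, hne_6_7.symm⟩, h⟩
                    have hz_7_4 : T.a x7 x4 = 0 := by rw [hsym]; exact hz_4_7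
                    have hz_5_7 : T.a x5 x7 = 0 := by
                      by_contra h
                      exact hq_5 ⟨x7, ⟨hne_0_7.symm, hne_1_7.symm, hne_2_7.symm, hne_3_7.symm, hne_4_7.symm, hne_5_7.symm, hne_6_7.symm⟩, h⟩
                    have hz_7_5 : T.a x7 x5 = 0 := by rw [hsym]; exact hz_5_7
                    have hz_6_7 : T.a x6 x7 = 0 := by
                      by_contra h
                      exact hq_6 ⟨x7, ⟨hne_0_7.symm, hne_1_7.symm, hne_2_7.symm, hne_3_7.symm, hne_4_7.symm, hne_5_7.symm, hne_6_7.symm⟩, h⟩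
                    have hz_7_6 : T.a x7 x6 = 0 := by rw [hsym]; exact hz_6_7
                    exfalso
                    refine NT.cert6 T x0 x1 x2 x3 x4 x7 hne_0_1 hne_0_2 hne_0_3 hne_0_4 hne_0_7 hne_1_2 hne_1_3 hne_1_4 hne_1_7 hne_2_3 hne_2_4 hne_2_7 hne_3_4 hne_3_7 hne_4_7 (by norm_num) 2 1 2 1 1 1 (by norm_num) (by norm_num) (by norm_num) (by norm_num) (by norm_num) (by norm_num) ?_ ?_ ?_ ?_ ?_ ?_
                    · linarith only [hd x0, hwp x0, hl_0_1, hl_0_2, hl_0_3, hnn x0 x4 hne_0_4, hnn x0 x7 hne_0_7]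
                    · linarith only [hd x1, hwp x1, hl_1_0, hnn x1 x2 hne_1_2, hnn x1 x3 hne_1_3, hnn x1 x4 hne_1_4, hnn x1 x7 hne_1_7]
                    · linarith only [hd x2, hwp x2, hl_2_0, hnn x2 x1 hne_1_2.symm, hnn x2 x3 hne_2_3, hl_2_4, hl_2_7]
                    · linarith only [hd x3, hwp x3, hl_3_0, hnn x3 x1 hne_1_3.symm, hnn x3 x2 hne_2_3.symm, hnn x3 x4 hne_3_4, hnn x3 x7 hne_3_7]
                    · linarith only [hd x4, hwp x4, hnn x4 x0 hne_0_4.symm, hnn x4 x1 hne_1_4.symm, hl_4_2, hnn x4 x3 hne_3_4.symm, hnn x4 x7 hne_4_7]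
                    · linarith only [hd x7, hwp x7, hnn x7 x0 hne_0_7.symm, hnn x7 x1 hne_1_7.symm, hl_7_2, hnn x7 x3 hne_3_7.symm, hnn x7 x4 hne_4_7.symm]
                  · by_cases hq_1 : ∃ y, (y ≠ x0 ∧ y ≠ x1 ∧ y ≠ x2 ∧ y ≠ x3 ∧ y ≠ x4 ∧ y ≠ x5 ∧ y ≠ x6) ∧ T.a x1 y ≠ 0
                    · obtain ⟨x7, ⟨hn0, hn1, hn2, hn3, hn4, hn5, hn6⟩, hadj_1_7⟩ := hq_1
                      have hne_0_7 : x0 ≠ x7 := hn0.symm
                      have hne_1_7 : x1 ≠ x7 := hn1.symm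
                      have hne_2_7 : x2 ≠ x7 := hn2.symm
                      have hne_3_7 : x3 ≠ x7 := hn3.symm
                      have hne_4_7 : x4 ≠ x7 := hn4.symm
                      have hne_5_7 : x5 ≠ x7 := hn5.symm
                      have hne_6_7 : x6 ≠ x7 := hn6.symm
                      have hadj_7_1 : T.a x7 x1 ≠ 0 := by rw [hsym]; exact hadj_1_7
                      have hl_1_7 := NT.lb1 T _ _ hne_1_7 hadj_1_7
                      have hl_7_1 := NT.lb1 T _ _ hne_1_7.symm hadj_7_1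
                      have hs_1_7 : T.a x1 x7 = T.a x7 x1 := hsym _ _
                      have hz_0_7 : T.a x0 x7 = 0 := by
                        by_contra hadj_0_7
                        have hadj_7_0 : T.a x7 x0 ≠ 0 := by rw [hsym]; exact hadj_0_7
                        have hl_0_7 := NT.lb1 T _ _ hne_0_7 hadj_0_7
                        have hl_7_0 := NT.lb1 T _ _ hne_0_7.symm hadj_7_0
                        have hs_0_7 : T.a x0 x7 = T.a x7 x0 := hsym _ _
                        refine NT.cert3 T x0 x1 x7 hne_0_1 hne_0_7 hne_1_7 (by norm_num) 1 1 1 (by norm_num) (by norm_num) (by norm_num) ?_ ?_ ?_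
                        · linarith only [hd x0, hwp x0, hl_0_1, hl_0_7]
                        · linarith only [hd x1, hwp x1, hl_1_0, hl_1_7]
                        · linarith only [hd x7, hwp x7, hl_7_0, hl_7_1]
                      have hz_7_0 : T.a x7 x0 = 0 := by rw [hsym]; exact hz_0_7
                      have hz_2_7 : T.a x2 x7 = 0 := by
                        by_contra h
                        exact hq_2 ⟨x7, ⟨hne_0_7.symm, hne_1_7.symm, hne_2_7.symm, hne_3_7.symm, hne_4_7.symm, hne_5_7.symm, hne_6_7.symm⟩, h⟩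
                      have hz_7_2 : T.a x7 x2 = 0 := by rw [hsym]; exact hz_2_7
                      have hz_3_7 : T.a x3 x7 = 0 := by
                        by_contra h
                        exact hq_3 ⟨x7, ⟨hne_0_7.symm, hne_1_7.symm, hne_2_7.symm, hne_3_7.symm⟩, h⟩
                      have hz_7_3 : T.a x7 x3 = 0 := by rw [hsym]; exact hz_3_7
                      have hz_4_7 : T.a x4 x7 = 0 := by
                        by_contra h
                        exact hq_4 ⟨x7, ⟨hne_0_7.symm, hne_1_7.symm, hne_2_7.symm, hne_3_7.symm, hne_4_7.symm, hne_5_7.symm, hne_6_7.symm⟩, h⟩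
                      have hz_7_4 : T.a x7 x4 = 0 := by rw [hsym]; exact hz_4_7
                      have hz_5_7 : T.a x5 x7 = 0 := by
                        by_contra h
                        exact hq_5 ⟨x7, ⟨hne_0_7.symm, hne_1_7.symm, hne_2_7.symm, hne_3_7.symm, hne_4_7.symm, hne_5_7.symm, hne_6_7.symm⟩, h⟩
                      have hz_7_5 : T.a x7 x5 = 0 := by rw [hsym]; exact hz_5_7
                      have hz_6_7 : T.a x6 x7 = 0 := by
                        by_contra h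
                        exact hq_6 ⟨x7, ⟨hne_0_7.symm, hne_1_7.symm, hne_2_7.symm, hne_3_7.symm, hne_4_7.symm, hne_5_7.symm, hne_6_7.symm⟩, h⟩
                      have hz_7_6 : T.a x7 x6 = 0 := by rw [hsym]; exact hz_6_7
                      exact G8.shape10 T hall x0 x1 x2 x3 x4 x5 x6 x7 hne_0_1 hne_0_2 hne_0_3 hne_0_4 hne_0_5 hne_0_6 hne_0_7 hne_1_2 hne_1_3 hne_1_4 hne_1_5 hne_1_6 hne_1_7 hne_2_3 hne_2_4 hne_2_5 hne_2_6 hne_2_7 hne_3_4 hne_3_5 hne_3_6 hne_3_7 hne_4_5 hne_4_6 hne_4_7 hne_5_6 hne_5_7 hne_6_7 hadj_0_1 hadj_0_2 hadj_0_3 hz_0_4 hz_0_5 hz_0_6 hz_0_7 hz_1_2 hz_1_3 hz_1_4 hz_1_5 hz_1_6 hadj_1_7 hz_2_3 hadj_2_4 hz_2_5 hz_2_6 hz_2_7 hz_3_4 hz_3_5 hz_3_6 hz_3_7 hadj_4_5 hz_4_6 hz_4_7 hadj_5_6 hz_5_7 hz_6_7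
                    · by_cases hq_0 : ∃ y, (y ≠ x0 ∧ y ≠ x1 ∧ y ≠ x2 ∧ y ≠ x3 ∧ y ≠ x4 ∧ y ≠ x5 ∧ y ≠ x6) ∧ T.a x0 y ≠ 0
                      · obtain ⟨x7, ⟨hn0, hn1, hn2, hn3, hn4, hn5, hn6⟩, hadj_0_7⟩ := hq_0
                        have hne_0_7 : x0 ≠ x7 := hn0.symm
                        have hne_1_7 : x1 ≠ x7 := hn1.symm
                        have hne_2_7 : x2 ≠ x7 := hn2.symm
                        have hne_3_7 : x3 ≠ x7 := hn3.symm
                        have hne_4_7 : x4 ≠ x7 := hn4.symm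
                        have hne_5_7 : x5 ≠ x7 := hn5.symm
                        have hne_6_7 : x6 ≠ x7 := hn6.symm
                        have hadj_7_0 : T.a x7 x0 ≠ 0 := by rw [hsym]; exact hadj_0_7
                        have hl_0_7 := NT.lb1 T _ _ hne_0_7 hadj_0_7
                        have hl_7_0 := NT.lb1 T _ _ hne_0_7.symm hadj_7_0
                        have hs_0_7 : T.a x0 x7 = T.a x7 x0 := hsym _ _
                        have hz_1_7 : T.a x1 x7 = 0 := by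
                          by_contra h
                          exact hq_1 ⟨x7, ⟨hne_0_7.symm, hne_1_7.symm, hne_2_7.symm, hne_3_7.symm, hne_4_7.symm, hne_5_7.symm, hne_6_7.symm⟩, h⟩
                        have hz_7_1 : T.a x7 x1 = 0 := by rw [hsym]; exact hz_1_7
                        have hz_2_7 : T.a x2 x7 = 0 := by
                          by_contra h
                          exact hq_2 ⟨x7, ⟨hne_0_7.symm, hne_1_7.symm, hne_2_7.symm, hne_3_7.symm, hne_4_7.symm, hne_5_7.symm, hne_6_7.symm⟩, h⟩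
                        have hz_7_2 : T.a x7 x2 = 0 := by rw [hsym]; exact hz_2_7
                        have hz_3_7 : T.a x3 x7 = 0 := by
                          by_contra h
                          exact hq_3 ⟨x7, ⟨hne_0_7.symm, hne_1_7.symm, hne_2_7.symm, hne_3_7.symm⟩, h⟩
                        have hz_7_3 : T.a x7 x3 = 0 := by rw [hsym]; exact hz_3_7
                        have hz_4_7 : T.a x4 x7 = 0 := by
                          by_contra h
                          exact hq_4 ⟨x7, ⟨hne_0_7.symm, hne_1_7.symm, hne_2_7.symm, hne_3_7.symm, hne_4_7.symm, hne_5_7.symm, hne_6_7.symm⟩, h⟩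
                        have hz_7_4 : T.a x7 x4 = 0 := by rw [hsym]; exact hz_4_7
                        have hz_5_7 : T.a x5 x7 = 0 := by
                          by_contra h
                          exact hq_5 ⟨x7, ⟨hne_0_7.symm, hne_1_7.symm, hne_2_7.symm, hne_3_7.symm, hne_4_7.symm, hne_5_7.symm, hne_6_7.symm⟩, h⟩
                        have hz_7_5 : T.a x7 x5 = 0 := by rw [hsym]; exact hz_5_7
                        have hz_6_7 : T.a x6 x7 = 0 := by
                          by_contra h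
                          exact hq_6 ⟨x7, ⟨hne_0_7.symm, hne_1_7.symm, hne_2_7.symm, hne_3_7.symm, hne_4_7.symm, hne_5_7.symm, hne_6_7.symm⟩, h⟩
                        have hz_7_6 : T.a x7 x6 = 0 := by rw [hsym]; exact hz_6_7
                        exfalso
                        refine NT.cert5 T x0 x1 x2 x3 x7 hne_0_1 hne_0_2 hne_0_3 hne_0_7 hne_1_2 hne_1_3 hne_1_7 hne_2_3 hne_2_7 hne_3_7 (by norm_num) 2 1 1 1 1 (by norm_num) (by norm_num) (by norm_num) (by norm_num) (by norm_num) ?_ ?_ ?_ ?_ ?_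
                        · linarith only [hd x0, hwp x0, hl_0_1, hl_0_2, hl_0_3, hl_0_7]
                        · linarith only [hd x1, hwp x1, hl_1_0, hnn x1 x2 hne_1_2, hnn x1 x3 hne_1_3, hnn x1 x7 hne_1_7]
                        · linarith only [hd x2, hwp x2, hl_2_0, hnn x2 x1 hne_1_2.symm, hnn x2 x3 hne_2_3, hnn x2 x7 hne_2_7]
                        · linarith only [hd x3, hwp x3, hl_3_0, hnn x3 x1 hne_1_3.symm, hnn x3 x2 hne_2_3.symm, hnn x3 x7 hne_3_7]
                        · linarith only [hd x7, hwp x7, hl_7_0, hnn x7 x1 hne_1_7.symm, hnn x7 x2 hne_2_7.symm, hnn x7 x3 hne_3_7.symm]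
                      · exfalso
                        refine NT.not_closed T ![x0, x1, x2, x3, x4, x5, x6] (by norm_num) (by norm_num) ?_
                        intro s y hy
                        by_contra hcon
                        fin_cases s
                        · exact hq_0 ⟨y, ⟨fun h => hcon ⟨(0 : Fin 7), h⟩, fun h => hcon ⟨(1 : Fin 7), h⟩, fun h => hcon ⟨(2 : Fin 7), h⟩, fun h => hcon ⟨(3 : Fin 7), h⟩, fun h => hcon ⟨(4 : Fin 7), h⟩, fun h => hcon ⟨(5 : Fin 7), h⟩, fun h => hcon ⟨(6 : Fin 7), h⟩⟩, hy⟩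
                        · exact hq_1 ⟨y, ⟨fun h => hcon ⟨(0 : Fin 7), h⟩, fun h => hcon ⟨(1 : Fin 7), h⟩, fun h => hcon ⟨(2 : Fin 7), h⟩, fun h => hcon ⟨(3 : Fin 7), h⟩, fun h => hcon ⟨(4 : Fin 7), h⟩, fun h => hcon ⟨(5 : Fin 7), h⟩, fun h => hcon ⟨(6 : Fin 7), h⟩⟩, hy⟩
                        · exact hq_2 ⟨y, ⟨fun h => hcon ⟨(0 : Fin 7), h⟩, fun h => hcon ⟨(1 : Fin 7), h⟩, fun h => hcon ⟨(2 : Fin 7), h⟩, fun h => hcon ⟨(3 : Fin 7), h⟩, fun h => hcon ⟨(4 : Fin 7), h⟩, fun h => hcon ⟨(5 : Fin 7), h⟩, fun h => hcon ⟨(6 : Fin 7), h⟩⟩, hy⟩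
                        · exact hq_3 ⟨y, ⟨fun h => hcon ⟨(0 : Fin 7), h⟩, fun h => hcon ⟨(1 : Fin 7), h⟩, fun h => hcon ⟨(2 : Fin 7), h⟩, fun h => hcon ⟨(3 : Fin 7), h⟩⟩, hy⟩
                        · exact hq_4 ⟨y, ⟨fun h => hcon ⟨(0 : Fin 7), h⟩, fun h => hcon ⟨(1 : Fin 7), h⟩, fun h => hcon ⟨(2 : Fin 7), h⟩, fun h => hcon ⟨(3 : Fin 7), h⟩, fun h => hcon ⟨(4 : Fin 7), h⟩, fun h => hcon ⟨(5 : Fin 7), h⟩, fun h => hcon ⟨(6 : Fin 7), h⟩⟩, hy⟩
                        · exact hq_5 ⟨y, ⟨fun h => hcon ⟨(0 : Fin 7), h⟩, fun h => hcon ⟨(1 : Fin 7), h⟩, fun h => hcon ⟨(2 : Fin 7), h⟩, fun h => hcon ⟨(3 : Fin 7), h⟩, fun h => hcon ⟨(4 : Fin 7), h⟩, fun h => hcon ⟨(5 : Fin 7), h⟩, fun h => hcon ⟨(6 : Fin 7), h⟩⟩, hy⟩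
                        · exact hq_6 ⟨y, ⟨fun h => hcon ⟨(0 : Fin 7), h⟩, fun h => hcon ⟨(1 : Fin 7), h⟩, fun h => hcon ⟨(2 : Fin 7), h⟩, fun h => hcon ⟨(3 : Fin 7), h⟩, fun h => hcon ⟨(4 : Fin 7), h⟩, fun h => hcon ⟨(5 : Fin 7), h⟩, fun h => hcon ⟨(6 : Fin 7), h⟩⟩, hy⟩
          · by_cases hq_4 : ∃ y, (y ≠ x0 ∧ y ≠ x1 ∧ y ≠ x2 ∧ y ≠ x3 ∧ y ≠ x4 ∧ y ≠ x5) ∧ T.a x4 y ≠ 0
            · obtain ⟨x6, ⟨hn0, hn1, hn2, hn3, hn4, hn5⟩, hadj_4_6⟩ := hq_4
              have hne_0_6 : x0 ≠ x6 := hn0.symm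
              have hne_1_6 : x1 ≠ x6 := hn1.symm
              have hne_2_6 : x2 ≠ x6 := hn2.symm
              have hne_3_6 : x3 ≠ x6 := hn3.symm
              have hne_4_6 : x4 ≠ x6 := hn4.symm
              have hne_5_6 : x5 ≠ x6 := hn5.symm
              have hadj_6_4 : T.a x6 x4 ≠ 0 := by rw [hsym]; exact hadj_4_6
              have hl_4_6 := NT.lb1 T _ _ hne_4_6 hadj_4_6
              have hl_6_4 := NT.lb1 T _ _ hne_4_6.symm hadj_6_4
              have hs_4_6 : T.a x4 x6 = T.a x6 x4 := hsym _ _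
              have hz_0_6 : T.a x0 x6 = 0 := by
                by_contra hadj_0_6
                have hadj_6_0 : T.a x6 x0 ≠ 0 := by rw [hsym]; exact hadj_0_6
                have hl_0_6 := NT.lb1 T _ _ hne_0_6 hadj_0_6
                have hl_6_0 := NT.lb1 T _ _ hne_0_6.symm hadj_6_0
                have hs_0_6 : T.a x0 x6 = T.a x6 x0 := hsym _ _
                refine NT.cert4 T x0 x2 x4 x6 hne_0_2 hne_0_4 hne_0_6 hne_2_4 hne_2_6 hne_4_6 (by norm_num) 1 1 1 1 (by norm_num) (by norm_num) (by norm_num) (by norm_num) ?_ ?_ ?_ ?_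
                · linarith only [hd x0, hwp x0, hl_0_2, hnn x0 x4 hne_0_4, hl_0_6]
                · linarith only [hd x2, hwp x2, hl_2_0, hl_2_4, hnn x2 x6 hne_2_6]
                · linarith only [hd x4, hwp x4, hnn x4 x0 hne_0_4.symm, hl_4_2, hl_4_6]
                · linarith only [hd x6, hwp x6, hl_6_0, hnn x6 x2 hne_2_6.symm, hl_6_4]
              have hz_6_0 : T.a x6 x0 = 0 := by rw [hsym]; exact hz_0_6
              have hz_1_6 : T.a x1 x6 = 0 := by
                by_contra hadj_1_6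
                have hadj_6_1 : T.a x6 x1 ≠ 0 := by rw [hsym]; exact hadj_1_6
                have hl_1_6 := NT.lb1 T _ _ hne_1_6 hadj_1_6
                have hl_6_1 := NT.lb1 T _ _ hne_1_6.symm hadj_6_1
                have hs_1_6 : T.a x1 x6 = T.a x6 x1 := hsym _ _
                refine NT.cert5 T x0 x1 x2 x4 x6 hne_0_1 hne_0_2 hne_0_4 hne_0_6 hne_1_2 hne_1_4 hne_1_6 hne_2_4 hne_2_6 hne_4_6 (by norm_num) 1 1 1 1 1 (by norm_num) (by norm_num) (by norm_num) (by norm_num) (by norm_num) ?_ ?_ ?_ ?_ ?_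
                · linarith only [hd x0, hwp x0, hl_0_1, hl_0_2, hnn x0 x4 hne_0_4, hnn x0 x6 hne_0_6]
                · linarith only [hd x1, hwp x1, hl_1_0, hnn x1 x2 hne_1_2, hnn x1 x4 hne_1_4, hl_1_6]
                · linarith only [hd x2, hwp x2, hl_2_0, hnn x2 x1 hne_1_2.symm, hl_2_4, hnn x2 x6 hne_2_6]
                · linarith only [hd x4, hwp x4, hnn x4 x0 hne_0_4.symm, hnn x4 x1 hne_1_4.symm, hl_4_2, hl_4_6]
                · linarith only [hd x6, hwp x6, hnn x6 x0 hne_0_6.symm, hl_6_1, hnn x6 x2 hne_2_6.symm, hl_6_4]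
              have hz_6_1 : T.a x6 x1 = 0 := by rw [hsym]; exact hz_1_6
              have hz_2_6 : T.a x2 x6 = 0 := by
                by_contra hadj_2_6
                have hadj_6_2 : T.a x6 x2 ≠ 0 := by rw [hsym]; exact hadj_2_6
                have hl_2_6 := NT.lb1 T _ _ hne_2_6 hadj_2_6
                have hl_6_2 := NT.lb1 T _ _ hne_2_6.symm hadj_6_2
                have hs_2_6 : T.a x2 x6 = T.a x6 x2 := hsym _ _
                refine NT.cert3 T x2 x4 x6 hne_2_4 hne_2_6 hne_4_6 (by norm_num) 1 1 1 (by norm_num) (by norm_num) (by norm_num) ?_ ?_ ?_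
                · linarith only [hd x2, hwp x2, hl_2_4, hl_2_6]
                · linarith only [hd x4, hwp x4, hl_4_2, hl_4_6]
                · linarith only [hd x6, hwp x6, hl_6_2, hl_6_4]
              have hz_6_2 : T.a x6 x2 = 0 := by rw [hsym]; exact hz_2_6
              have hz_3_6 : T.a x3 x6 = 0 := by
                by_contra h
                exact hq_3 ⟨x6, ⟨hne_0_6.symm, hne_1_6.symm, hne_2_6.symm, hne_3_6.symm⟩, h⟩
              have hz_6_3 : T.a x6 x3 = 0 := by rw [hsym]; exact hz_3_6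
              have hz_5_6 : T.a x5 x6 = 0 := by
                by_contra h
                exact hq_5 ⟨x6, ⟨hne_0_6.symm, hne_1_6.symm, hne_2_6.symm, hne_3_6.symm, hne_4_6.symm, hne_5_6.symm⟩, h⟩
              have hz_6_5 : T.a x6 x5 = 0 := by rw [hsym]; exact hz_5_6
              exfalso
              refine NT.cert7 T x0 x1 x2 x3 x4 x5 x6 hne_0_1 hne_0_2 hne_0_3 hne_0_4 hne_0_5 hne_0_6 hne_1_2 hne_1_3 hne_1_4 hne_1_5 hne_1_6 hne_2_3 hne_2_4 hne_2_5 hne_2_6 hne_3_4 hne_3_5 hne_3_6 hne_4_5 hne_4_6 hne_5_6 (by norm_num) 2 1 2 1 2 1 1 (by norm_num) (by norm_num) (by norm_num) (by norm_num) (by norm_num) (by norm_num) (by norm_num) ?_ ?_ ?_ ?_ ?_ ?_ ?_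
              · linarith only [hd x0, hwp x0, hl_0_1, hl_0_2, hl_0_3, hnn x0 x4 hne_0_4, hnn x0 x5 hne_0_5, hnn x0 x6 hne_0_6]
              · linarith only [hd x1, hwp x1, hl_1_0, hnn x1 x2 hne_1_2, hnn x1 x3 hne_1_3, hnn x1 x4 hne_1_4, hnn x1 x5 hne_1_5, hnn x1 x6 hne_1_6]
              · linarith only [hd x2, hwp x2, hl_2_0, hnn x2 x1 hne_1_2.symm, hnn x2 x3 hne_2_3, hl_2_4, hnn x2 x5 hne_2_5, hnn x2 x6 hne_2_6]
              · linarith only [hd x3, hwp x3, hl_3_0, hnn x3 x1 hne_1_3.symm, hnn x3 x2 hne_2_3.symm, hnn x3 x4 hne_3_4, hnn x3 x5 hne_3_5, hnn x3 x6 hne_3_6]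
              · linarith only [hd x4, hwp x4, hnn x4 x0 hne_0_4.symm, hnn x4 x1 hne_1_4.symm, hl_4_2, hnn x4 x3 hne_3_4.symm, hl_4_5, hl_4_6]
              · linarith only [hd x5, hwp x5, hnn x5 x0 hne_0_5.symm, hnn x5 x1 hne_1_5.symm, hnn x5 x2 hne_2_5.symm, hnn x5 x3 hne_3_5.symm, hl_5_4, hnn x5 x6 hne_5_6]
              · linarith only [hd x6, hwp x6, hnn x6 x0 hne_0_6.symm, hnn x6 x1 hne_1_6.symm, hnn x6 x2 hne_2_6.symm, hnn x6 x3 hne_3_6.symm, hl_6_4, hnn x6 x5 hne_5_6.symm]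
            · by_cases hq_2 : ∃ y, (y ≠ x0 ∧ y ≠ x1 ∧ y ≠ x2 ∧ y ≠ x3 ∧ y ≠ x4 ∧ y ≠ x5) ∧ T.a x2 y ≠ 0
              · obtain ⟨x6, ⟨hn0, hn1, hn2, hn3, hn4, hn5⟩, hadj_2_6⟩ := hq_2
                have hne_0_6 : x0 ≠ x6 := hn0.symm
                have hne_1_6 : x1 ≠ x6 := hn1.symm
                have hne_2_6 : x2 ≠ x6 := hn2.symm
                have hne_3_6 : x3 ≠ x6 := hn3.symm
                have hne_4_6 : x4 ≠ x6 := hn4.symm
                have hne_5_6 : x5 ≠ x6 := hn5.symm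
                have hadj_6_2 : T.a x6 x2 ≠ 0 := by rw [hsym]; exact hadj_2_6
                have hl_2_6 := NT.lb1 T _ _ hne_2_6 hadj_2_6
                have hl_6_2 := NT.lb1 T _ _ hne_2_6.symm hadj_6_2
                have hs_2_6 : T.a x2 x6 = T.a x6 x2 := hsym _ _
                have hz_0_6 : T.a x0 x6 = 0 := by
                  by_contra hadj_0_6
                  have hadj_6_0 : T.a x6 x0 ≠ 0 := by rw [hsym]; exact hadj_0_6
                  have hl_0_6 := NT.lb1 T _ _ hne_0_6 hadj_0_6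
                  have hl_6_0 := NT.lb1 T _ _ hne_0_6.symm hadj_6_0
                  have hs_0_6 : T.a x0 x6 = T.a x6 x0 := hsym _ _
                  refine NT.cert3 T x0 x2 x6 hne_0_2 hne_0_6 hne_2_6 (by norm_num) 1 1 1 (by norm_num) (by norm_num) (by norm_num) ?_ ?_ ?_
                  · linarith only [hd x0, hwp x0, hl_0_2, hl_0_6]
                  · linarith only [hd x2, hwp x2, hl_2_0, hl_2_6]
                  · linarith only [hd x6, hwp x6, hl_6_0, hl_6_2]
                have hz_6_0 : T.a x6 x0 = 0 := by rw [hsym]; exact hz_0_6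
                have hz_1_6 : T.a x1 x6 = 0 := by
                  by_contra hadj_1_6
                  have hadj_6_1 : T.a x6 x1 ≠ 0 := by rw [hsym]; exact hadj_1_6
                  have hl_1_6 := NT.lb1 T _ _ hne_1_6 hadj_1_6
                  have hl_6_1 := NT.lb1 T _ _ hne_1_6.symm hadj_6_1
                  have hs_1_6 : T.a x1 x6 = T.a x6 x1 := hsym _ _
                  refine NT.cert4 T x0 x1 x2 x6 hne_0_1 hne_0_2 hne_0_6 hne_1_2 hne_1_6 hne_2_6 (by norm_num) 1 1 1 1 (by norm_num) (by norm_num) (by norm_num) (by norm_num) ?_ ?_ ?_ ?_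
                  · linarith only [hd x0, hwp x0, hl_0_1, hl_0_2, hnn x0 x6 hne_0_6]
                  · linarith only [hd x1, hwp x1, hl_1_0, hnn x1 x2 hne_1_2, hl_1_6]
                  · linarith only [hd x2, hwp x2, hl_2_0, hnn x2 x1 hne_1_2.symm, hl_2_6]
                  · linarith only [hd x6, hwp x6, hnn x6 x0 hne_0_6.symm, hl_6_1, hl_6_2]
                have hz_6_1 : T.a x6 x1 = 0 := by rw [hsym]; exact hz_1_6
                have hz_3_6 : T.a x3 x6 = 0 := by
                  by_contra h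
                  exact hq_3 ⟨x6, ⟨hne_0_6.symm, hne_1_6.symm, hne_2_6.symm, hne_3_6.symm⟩, h⟩
                have hz_6_3 : T.a x6 x3 = 0 := by rw [hsym]; exact hz_3_6
                have hz_4_6 : T.a x4 x6 = 0 := by
                  by_contra h
                  exact hq_4 ⟨x6, ⟨hne_0_6.symm, hne_1_6.symm, hne_2_6.symm, hne_3_6.symm, hne_4_6.symm, hne_5_6.symm⟩, h⟩
                have hz_6_4 : T.a x6 x4 = 0 := by rw [hsym]; exact hz_4_6
                have hz_5_6 : T.a x5 x6 = 0 := by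
                  by_contra h
                  exact hq_5 ⟨x6, ⟨hne_0_6.symm, hne_1_6.symm, hne_2_6.symm, hne_3_6.symm, hne_4_6.symm, hne_5_6.symm⟩, h⟩
                have hz_6_5 : T.a x6 x5 = 0 := by rw [hsym]; exact hz_5_6
                exfalso
                refine NT.cert6 T x0 x1 x2 x3 x4 x6 hne_0_1 hne_0_2 hne_0_3 hne_0_4 hne_0_6 hne_1_2 hne_1_3 hne_1_4 hne_1_6 hne_2_3 hne_2_4 hne_2_6 hne_3_4 hne_3_6 hne_4_6 (by norm_num) 2 1 2 1 1 1 (by norm_num) (by norm_num) (by norm_num) (by norm_num) (by norm_num) (by norm_num) ?_ ?_ ?_ ?_ ?_ ?_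
                · linarith only [hd x0, hwp x0, hl_0_1, hl_0_2, hl_0_3, hnn x0 x4 hne_0_4, hnn x0 x6 hne_0_6]
                · linarith only [hd x1, hwp x1, hl_1_0, hnn x1 x2 hne_1_2, hnn x1 x3 hne_1_3, hnn x1 x4 hne_1_4, hnn x1 x6 hne_1_6]
                · linarith only [hd x2, hwp x2, hl_2_0, hnn x2 x1 hne_1_2.symm, hnn x2 x3 hne_2_3, hl_2_4, hl_2_6]
                · linarith only [hd x3, hwp x3, hl_3_0, hnn x3 x1 hne_1_3.symm, hnn x3 x2 hne_2_3.symm, hnn x3 x4 hne_3_4, hnn x3 x6 hne_3_6]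
                · linarith only [hd x4, hwp x4, hnn x4 x0 hne_0_4.symm, hnn x4 x1 hne_1_4.symm, hl_4_2, hnn x4 x3 hne_3_4.symm, hnn x4 x6 hne_4_6]
                · linarith only [hd x6, hwp x6, hnn x6 x0 hne_0_6.symm, hnn x6 x1 hne_1_6.symm, hl_6_2, hnn x6 x3 hne_3_6.symm, hnn x6 x4 hne_4_6.symm]
              · by_cases hq_1 : ∃ y, (y ≠ x0 ∧ y ≠ x1 ∧ y ≠ x2 ∧ y ≠ x3 ∧ y ≠ x4 ∧ y ≠ x5) ∧ T.a x1 y ≠ 0
                · obtain ⟨x6, ⟨hn0, hn1, hn2, hn3, hn4, hn5⟩, hadj_1_6⟩ := hq_1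
                  have hne_0_6 : x0 ≠ x6 := hn0.symm
                  have hne_1_6 : x1 ≠ x6 := hn1.symm
                  have hne_2_6 : x2 ≠ x6 := hn2.symm
                  have hne_3_6 : x3 ≠ x6 := hn3.symm
                  have hne_4_6 : x4 ≠ x6 := hn4.symm
                  have hne_5_6 : x5 ≠ x6 := hn5.symm
                  have hadj_6_1 : T.a x6 x1 ≠ 0 := by rw [hsym]; exact hadj_1_6
                  have hl_1_6 := NT.lb1 T _ _ hne_1_6 hadj_1_6
                  have hl_6_1 := NT.lb1 T _ _ hne_1_6.symm hadj_6_1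
                  have hs_1_6 : T.a x1 x6 = T.a x6 x1 := hsym _ _
                  have hz_0_6 : T.a x0 x6 = 0 := by
                    by_contra hadj_0_6
                    have hadj_6_0 : T.a x6 x0 ≠ 0 := by rw [hsym]; exact hadj_0_6
                    have hl_0_6 := NT.lb1 T _ _ hne_0_6 hadj_0_6
                    have hl_6_0 := NT.lb1 T _ _ hne_0_6.symm hadj_6_0
                    have hs_0_6 : T.a x0 x6 = T.a x6 x0 := hsym _ _
                    refine NT.cert3 T x0 x1 x6 hne_0_1 hne_0_6 hne_1_6 (by norm_num) 1 1 1 (by norm_num) (by norm_num) (by norm_num) ?_ ?_ ?_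
                    · linarith only [hd x0, hwp x0, hl_0_1, hl_0_6]
                    · linarith only [hd x1, hwp x1, hl_1_0, hl_1_6]
                    · linarith only [hd x6, hwp x6, hl_6_0, hl_6_1]
                  have hz_6_0 : T.a x6 x0 = 0 := by rw [hsym]; exact hz_0_6
                  have hz_2_6 : T.a x2 x6 = 0 := by
                    by_contra h
                    exact hq_2 ⟨x6, ⟨hne_0_6.symm, hne_1_6.symm, hne_2_6.symm, hne_3_6.symm, hne_4_6.symm, hne_5_6.symm⟩, h⟩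
                  have hz_6_2 : T.a x6 x2 = 0 := by rw [hsym]; exact hz_2_6
                  have hz_3_6 : T.a x3 x6 = 0 := by
                    by_contra h
                    exact hq_3 ⟨x6, ⟨hne_0_6.symm, hne_1_6.symm, hne_2_6.symm, hne_3_6.symm⟩, h⟩
                  have hz_6_3 : T.a x6 x3 = 0 := by rw [hsym]; exact hz_3_6
                  have hz_4_6 : T.a x4 x6 = 0 := by
                    by_contra h
                    exact hq_4 ⟨x6, ⟨hne_0_6.symm, hne_1_6.symm, hne_2_6.symm, hne_3_6.symm, hne_4_6.symm, hne_5_6.symm⟩, h⟩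
                  have hz_6_4 : T.a x6 x4 = 0 := by rw [hsym]; exact hz_4_6
                  have hz_5_6 : T.a x5 x6 = 0 := by
                    by_contra h
                    exact hq_5 ⟨x6, ⟨hne_0_6.symm, hne_1_6.symm, hne_2_6.symm, hne_3_6.symm, hne_4_6.symm, hne_5_6.symm⟩, h⟩
                  have hz_6_5 : T.a x6 x5 = 0 := by rw [hsym]; exact hz_5_6
                  by_cases hq_6 : ∃ y, (y ≠ x0 ∧ y ≠ x1 ∧ y ≠ x2 ∧ y ≠ x3 ∧ y ≠ x4 ∧ y ≠ x5 ∧ y ≠ x6) ∧ T.a x6 y ≠ 0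
                  · obtain ⟨x7, ⟨hn0, hn1, hn2, hn3, hn4, hn5, hn6⟩, hadj_6_7⟩ := hq_6
                    have hne_0_7 : x0 ≠ x7 := hn0.symm
                    have hne_1_7 : x1 ≠ x7 := hn1.symm
                    have hne_2_7 : x2 ≠ x7 := hn2.symm
                    have hne_3_7 : x3 ≠ x7 := hn3.symm
                    have hne_4_7 : x4 ≠ x7 := hn4.symm
                    have hne_5_7 : x5 ≠ x7 := hn5.symm
                    have hne_6_7 : x6 ≠ x7 := hn6.symm
                    have hadj_7_6 : T.a x7 x6 ≠ 0 := by rw [hsym]; exact hadj_6_7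
                    have hl_6_7 := NT.lb1 T _ _ hne_6_7 hadj_6_7
                    have hl_7_6 := NT.lb1 T _ _ hne_6_7.symm hadj_7_6
                    have hs_6_7 : T.a x6 x7 = T.a x7 x6 := hsym _ _
                    have hz_0_7 : T.a x0 x7 = 0 := by
                      by_contra hadj_0_7
                      have hadj_7_0 : T.a x7 x0 ≠ 0 := by rw [hsym]; exact hadj_0_7
                      have hl_0_7 := NT.lb1 T _ _ hne_0_7 hadj_0_7
                      have hl_7_0 := NT.lb1 T _ _ hne_0_7.symm hadj_7_0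
                      have hs_0_7 : T.a x0 x7 = T.a x7 x0 := hsym _ _
                      refine NT.cert4 T x0 x1 x6 x7 hne_0_1 hne_0_6 hne_0_7 hne_1_6 hne_1_7 hne_6_7 (by norm_num) 1 1 1 1 (by norm_num) (by norm_num) (by norm_num) (by norm_num) ?_ ?_ ?_ ?_
                      · linarith only [hd x0, hwp x0, hl_0_1, hnn x0 x6 hne_0_6, hl_0_7]
                      · linarith only [hd x1, hwp x1, hl_1_0, hl_1_6, hnn x1 x7 hne_1_7]
                      · linarith only [hd x6, hwp x6, hnn x6 x0 hne_0_6.symm, hl_6_1, hl_6_7]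
                      · linarith only [hd x7, hwp x7, hl_7_0, hnn x7 x1 hne_1_7.symm, hl_7_6]
                    have hz_7_0 : T.a x7 x0 = 0 := by rw [hsym]; exact hz_0_7
                    have hz_1_7 : T.a x1 x7 = 0 := by
                      by_contra hadj_1_7
                      have hadj_7_1 : T.a x7 x1 ≠ 0 := by rw [hsym]; exact hadj_1_7
                      have hl_1_7 := NT.lb1 T _ _ hne_1_7 hadj_1_7
                      have hl_7_1 := NT.lb1 T _ _ hne_1_7.symm hadj_7_1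
                      have hs_1_7 : T.a x1 x7 = T.a x7 x1 := hsym _ _
                      refine NT.cert3 T x1 x6 x7 hne_1_6 hne_1_7 hne_6_7 (by norm_num) 1 1 1 (by norm_num) (by norm_num) (by norm_num) ?_ ?_ ?_
                      · linarith only [hd x1, hwp x1, hl_1_6, hl_1_7]
                      · linarith only [hd x6, hwp x6, hl_6_1, hl_6_7]
                      · linarith only [hd x7, hwp x7, hl_7_1, hl_7_6]
                    have hz_7_1 : T.a x7 x1 = 0 := by rw [hsym]; exact hz_1_7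
                    have hz_2_7 : T.a x2 x7 = 0 := by
                      by_contra h
                      exact hq_2 ⟨x7, ⟨hne_0_7.symm, hne_1_7.symm, hne_2_7.symm, hne_3_7.symm, hne_4_7.symm, hne_5_7.symm⟩, h⟩
                    have hz_7_2 : T.a x7 x2 = 0 := by rw [hsym]; exact hz_2_7
                    have hz_3_7 : T.a x3 x7 = 0 := by
                      by_contra h
                      exact hq_3 ⟨x7, ⟨hne_0_7.symm, hne_1_7.symm, hne_2_7.symm, hne_3_7.symm⟩, h⟩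
                    have hz_7_3 : T.a x7 x3 = 0 := by rw [hsym]; exact hz_3_7
                    have hz_4_7 : T.a x4 x7 = 0 := by
                      by_contra h
                      exact hq_4 ⟨x7, ⟨hne_0_7.symm, hne_1_7.symm, hne_2_7.symm, hne_3_7.symm, hne_4_7.symm, hne_5_7.symm⟩, h⟩
                    have hz_7_4 : T.a x7 x4 = 0 := by rw [hsym]; exact hz_4_7
                    have hz_5_7 : T.a x5 x7 = 0 := by
                      by_contra h
                      exact hq_5 ⟨x7, ⟨hne_0_7.symm, hne_1_7.symm, hne_2_7.symm, hne_3_7.symm, hne_4_7.symm, hne_5_7.symm⟩, h⟩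
                    have hz_7_5 : T.a x7 x5 = 0 := by rw [hsym]; exact hz_5_7
                    exact G8.shape11 T hall x0 x1 x2 x3 x4 x5 x6 x7 hne_0_1 hne_0_2 hne_0_3 hne_0_4 hne_0_5 hne_0_6 hne_0_7 hne_1_2 hne_1_3 hne_1_4 hne_1_5 hne_1_6 hne_1_7 hne_2_3 hne_2_4 hne_2_5 hne_2_6 hne_2_7 hne_3_4 hne_3_5 hne_3_6 hne_3_7 hne_4_5 hne_4_6 hne_4_7 hne_5_6 hne_5_7 hne_6_7 hadj_0_1 hadj_0_2 hadj_0_3 hz_0_4 hz_0_5 hz_0_6 hz_0_7 hz_1_2 hz_1_3 hz_1_4 hz_1_5 hadj_1_6 hz_1_7 hz_2_3 hadj_2_4 hz_2_5 hz_2_6 hz_2_7 hz_3_4 hz_3_5 hz_3_6 hz_3_7 hadj_4_5 hz_4_6 hz_4_7 hz_5_6 hz_5_7 hadj_6_7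
                  · by_cases hq_1 : ∃ y, (y ≠ x0 ∧ y ≠ x1 ∧ y ≠ x2 ∧ y ≠ x3 ∧ y ≠ x4 ∧ y ≠ x5 ∧ y ≠ x6) ∧ T.a x1 y ≠ 0
                    · obtain ⟨x7, ⟨hn0, hn1, hn2, hn3, hn4, hn5, hn6⟩, hadj_1_7⟩ := hq_1
                      have hne_0_7 : x0 ≠ x7 := hn0.symm
                      have hne_1_7 : x1 ≠ x7 := hn1.symm
                      have hne_2_7 : x2 ≠ x7 := hn2.symm
                      have hne_3_7 : x3 ≠ x7 := hn3.symm
                      have hne_4_7 : x4 ≠ x7 := hn4.symm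
                      have hne_5_7 : x5 ≠ x7 := hn5.symm
                      have hne_6_7 : x6 ≠ x7 := hn6.symm
                      have hadj_7_1 : T.a x7 x1 ≠ 0 := by rw [hsym]; exact hadj_1_7
                      have hl_1_7 := NT.lb1 T _ _ hne_1_7 hadj_1_7
                      have hl_7_1 := NT.lb1 T _ _ hne_1_7.symm hadj_7_1
                      have hs_1_7 : T.a x1 x7 = T.a x7 x1 := hsym _ _
                      have hz_0_7 : T.a x0 x7 = 0 := by
                        by_contra hadj_0_7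
                        have hadj_7_0 : T.a x7 x0 ≠ 0 := by rw [hsym]; exact hadj_0_7
                        have hl_0_7 := NT.lb1 T _ _ hne_0_7 hadj_0_7
                        have hl_7_0 := NT.lb1 T _ _ hne_0_7.symm hadj_7_0
                        have hs_0_7 : T.a x0 x7 = T.a x7 x0 := hsym _ _
                        refine NT.cert3 T x0 x1 x7 hne_0_1 hne_0_7 hne_1_7 (by norm_num) 1 1 1 (by norm_num) (by norm_num) (by norm_num) ?_ ?_ ?_
                        · linarith only [hd x0, hwp x0, hl_0_1, hl_0_7]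
                        · linarith only [hd x1, hwp x1, hl_1_0, hl_1_7]
                        · linarith only [hd x7, hwp x7, hl_7_0, hl_7_1]
                      have hz_7_0 : T.a x7 x0 = 0 := by rw [hsym]; exact hz_0_7
                      have hz_2_7 : T.a x2 x7 = 0 := by
                        by_contra h
                        exact hq_2 ⟨x7, ⟨hne_0_7.symm, hne_1_7.symm, hne_2_7.symm, hne_3_7.symm, hne_4_7.symm, hne_5_7.symm⟩, h⟩
                      have hz_7_2 : T.a x7 x2 = 0 := by rw [hsym]; exact hz_2_7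
                      have hz_3_7 : T.a x3 x7 = 0 := by
                        by_contra h
                        exact hq_3 ⟨x7, ⟨hne_0_7.symm, hne_1_7.symm, hne_2_7.symm, hne_3_7.symm⟩, h⟩
                      have hz_7_3 : T.a x7 x3 = 0 := by rw [hsym]; exact hz_3_7
                      have hz_4_7 : T.a x4 x7 = 0 := by
                        by_contra h
                        exact hq_4 ⟨x7, ⟨hne_0_7.symm, hne_1_7.symm, hne_2_7.symm, hne_3_7.symm, hne_4_7.symm, hne_5_7.symm⟩, h⟩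
                      have hz_7_4 : T.a x7 x4 = 0 := by rw [hsym]; exact hz_4_7
                      have hz_5_7 : T.a x5 x7 = 0 := by
                        by_contra h
                        exact hq_5 ⟨x7, ⟨hne_0_7.symm, hne_1_7.symm, hne_2_7.symm, hne_3_7.symm, hne_4_7.symm, hne_5_7.symm⟩, h⟩
                      have hz_7_5 : T.a x7 x5 = 0 := by rw [hsym]; exact hz_5_7
                      have hz_6_7 : T.a x6 x7 = 0 := by
                        by_contra h
                        exact hq_6 ⟨x7, ⟨hne_0_7.symm, hne_1_7.symm, hne_2_7.symm, hne_3_7.symm, hne_4_7.symm, hne_5_7.symm, hne_6_7.symm⟩, h⟩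
                      have hz_7_6 : T.a x7 x6 = 0 := by rw [hsym]; exact hz_6_7
                      exfalso
                      refine NT.cert6 T x0 x1 x2 x3 x6 x7 hne_0_1 hne_0_2 hne_0_3 hne_0_6 hne_0_7 hne_1_2 hne_1_3 hne_1_6 hne_1_7 hne_2_3 hne_2_6 hne_2_7 hne_3_6 hne_3_7 hne_6_7 (by norm_num) 2 2 1 1 1 1 (by norm_num) (by norm_num) (by norm_num) (by norm_num) (by norm_num) (by norm_num) ?_ ?_ ?_ ?_ ?_ ?_
                      · linarith only [hd x0, hwp x0, hl_0_1, hl_0_2, hl_0_3, hnn x0 x6 hne_0_6, hnn x0 x7 hne_0_7]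
                      · linarith only [hd x1, hwp x1, hl_1_0, hnn x1 x2 hne_1_2, hnn x1 x3 hne_1_3, hl_1_6, hl_1_7]
                      · linarith only [hd x2, hwp x2, hl_2_0, hnn x2 x1 hne_1_2.symm, hnn x2 x3 hne_2_3, hnn x2 x6 hne_2_6, hnn x2 x7 hne_2_7]
                      · linarith only [hd x3, hwp x3, hl_3_0, hnn x3 x1 hne_1_3.symm, hnn x3 x2 hne_2_3.symm, hnn x3 x6 hne_3_6, hnn x3 x7 hne_3_7]
                      · linarith only [hd x6, hwp x6, hnn x6 x0 hne_0_6.symm, hl_6_1, hnn x6 x2 hne_2_6.symm, hnn x6 x3 hne_3_6.symm, hnn x6 x7 hne_6_7]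
                      · linarith only [hd x7, hwp x7, hnn x7 x0 hne_0_7.symm, hl_7_1, hnn x7 x2 hne_2_7.symm, hnn x7 x3 hne_3_7.symm, hnn x7 x6 hne_6_7.symm]
                    · by_cases hq_0 : ∃ y, (y ≠ x0 ∧ y ≠ x1 ∧ y ≠ x2 ∧ y ≠ x3 ∧ y ≠ x4 ∧ y ≠ x5 ∧ y ≠ x6) ∧ T.a x0 y ≠ 0
                      · obtain ⟨x7, ⟨hn0, hn1, hn2, hn3, hn4, hn5, hn6⟩, hadj_0_7⟩ := hq_0
                        have hne_0_7 : x0 ≠ x7 := hn0.symm
                        have hne_1_7 : x1 ≠ x7 := hn1.symm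
                        have hne_2_7 : x2 ≠ x7 := hn2.symm
                        have hne_3_7 : x3 ≠ x7 := hn3.symm
                        have hne_4_7 : x4 ≠ x7 := hn4.symm
                        have hne_5_7 : x5 ≠ x7 := hn5.symm
                        have hne_6_7 : x6 ≠ x7 := hn6.symm
                        have hadj_7_0 : T.a x7 x0 ≠ 0 := by rw [hsym]; exact hadj_0_7
                        have hl_0_7 := NT.lb1 T _ _ hne_0_7 hadj_0_7
                        have hl_7_0 := NT.lb1 T _ _ hne_0_7.symm hadj_7_0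
                        have hs_0_7 : T.a x0 x7 = T.a x7 x0 := hsym _ _
                        have hz_1_7 : T.a x1 x7 = 0 := by
                          by_contra h
                          exact hq_1 ⟨x7, ⟨hne_0_7.symm, hne_1_7.symm, hne_2_7.symm, hne_3_7.symm, hne_4_7.symm, hne_5_7.symm, hne_6_7.symm⟩, h⟩
                        have hz_7_1 : T.a x7 x1 = 0 := by rw [hsym]; exact hz_1_7
                        have hz_2_7 : T.a x2 x7 = 0 := by
                          by_contra h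
                          exact hq_2 ⟨x7, ⟨hne_0_7.symm, hne_1_7.symm, hne_2_7.symm, hne_3_7.symm, hne_4_7.symm, hne_5_7.symm⟩, h⟩
                        have hz_7_2 : T.a x7 x2 = 0 := by rw [hsym]; exact hz_2_7
                        have hz_3_7 : T.a x3 x7 = 0 := by
                          by_contra h
                          exact hq_3 ⟨x7, ⟨hne_0_7.symm, hne_1_7.symm, hne_2_7.symm, hne_3_7.symm⟩, h⟩
                        have hz_7_3 : T.a x7 x3 = 0 := by rw [hsym]; exact hz_3_7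
                        have hz_4_7 : T.a x4 x7 = 0 := by
                          by_contra h
                          exact hq_4 ⟨x7, ⟨hne_0_7.symm, hne_1_7.symm, hne_2_7.symm, hne_3_7.symm, hne_4_7.symm, hne_5_7.symm⟩, h⟩
                        have hz_7_4 : T.a x7 x4 = 0 := by rw [hsym]; exact hz_4_7
                        have hz_5_7 : T.a x5 x7 = 0 := by
                          by_contra h
                          exact hq_5 ⟨x7, ⟨hne_0_7.symm, hne_1_7.symm, hne_2_7.symm, hne_3_7.symm, hne_4_7.symm, hne_5_7.symm⟩, h⟩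
                        have hz_7_5 : T.a x7 x5 = 0 := by rw [hsym]; exact hz_5_7
                        have hz_6_7 : T.a x6 x7 = 0 := by
                          by_contra h
                          exact hq_6 ⟨x7, ⟨hne_0_7.symm, hne_1_7.symm, hne_2_7.symm, hne_3_7.symm, hne_4_7.symm, hne_5_7.symm, hne_6_7.symm⟩, h⟩
                        have hz_7_6 : T.a x7 x6 = 0 := by rw [hsym]; exact hz_6_7
                        exfalso
                        refine NT.cert5 T x0 x1 x2 x3 x7 hne_0_1 hne_0_2 hne_0_3 hne_0_7 hne_1_2 hne_1_3 hne_1_7 hne_2_3 hne_2_7 hne_3_7 (by norm_num) 2 1 1 1 1 (by norm_num) (by norm_num) (by norm_num) (by norm_num) (by norm_num) ?_ ?_ ?_ ?_ ?_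
                        · linarith only [hd x0, hwp x0, hl_0_1, hl_0_2, hl_0_3, hl_0_7]
                        · linarith only [hd x1, hwp x1, hl_1_0, hnn x1 x2 hne_1_2, hnn x1 x3 hne_1_3, hnn x1 x7 hne_1_7]
                        · linarith only [hd x2, hwp x2, hl_2_0, hnn x2 x1 hne_1_2.symm, hnn x2 x3 hne_2_3, hnn x2 x7 hne_2_7]
                        · linarith only [hd x3, hwp x3, hl_3_0, hnn x3 x1 hne_1_3.symm, hnn x3 x2 hne_2_3.symm, hnn x3 x7 hne_3_7]
                        · linarith only [hd x7, hwp x7, hl_7_0, hnn x7 x1 hne_1_7.symm, hnn x7 x2 hne_2_7.symm, hnn x7 x3 hne_3_7.symm]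
                      · exfalso
                        refine NT.not_closed T ![x0, x1, x2, x3, x4, x5, x6] (by norm_num) (by norm_num) ?_
                        intro s y hy
                        by_contra hcon
                        fin_cases s
                        · exact hq_0 ⟨y, ⟨fun h => hcon ⟨(0 : Fin 7), h⟩, fun h => hcon ⟨(1 : Fin 7), h⟩, fun h => hcon ⟨(2 : Fin 7), h⟩, fun h => hcon ⟨(3 : Fin 7), h⟩, fun h => hcon ⟨(4 : Fin 7), h⟩, fun h => hcon ⟨(5 : Fin 7), h⟩, fun h => hcon ⟨(6 : Fin 7), h⟩⟩, hy⟩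
                        · exact hq_1 ⟨y, ⟨fun h => hcon ⟨(0 : Fin 7), h⟩, fun h => hcon ⟨(1 : Fin 7), h⟩, fun h => hcon ⟨(2 : Fin 7), h⟩, fun h => hcon ⟨(3 : Fin 7), h⟩, fun h => hcon ⟨(4 : Fin 7), h⟩, fun h => hcon ⟨(5 : Fin 7), h⟩, fun h => hcon ⟨(6 : Fin 7), h⟩⟩, hy⟩
                        · exact hq_2 ⟨y, ⟨fun h => hcon ⟨(0 : Fin 7), h⟩, fun h => hcon ⟨(1 : Fin 7), h⟩, fun h => hcon ⟨(2 : Fin 7), h⟩, fun h => hcon ⟨(3 : Fin 7), h⟩, fun h => hcon ⟨(4 : Fin 7), h⟩, fun h => hcon ⟨(5 : Fin 7), h⟩⟩, hy⟩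
                        · exact hq_3 ⟨y, ⟨fun h => hcon ⟨(0 : Fin 7), h⟩, fun h => hcon ⟨(1 : Fin 7), h⟩, fun h => hcon ⟨(2 : Fin 7), h⟩, fun h => hcon ⟨(3 : Fin 7), h⟩⟩, hy⟩
                        · exact hq_4 ⟨y, ⟨fun h => hcon ⟨(0 : Fin 7), h⟩, fun h => hcon ⟨(1 : Fin 7), h⟩, fun h => hcon ⟨(2 : Fin 7), h⟩, fun h => hcon ⟨(3 : Fin 7), h⟩, fun h => hcon ⟨(4 : Fin 7), h⟩, fun h => hcon ⟨(5 : Fin 7), h⟩⟩, hy⟩
                        · exact hq_5 ⟨y, ⟨fun h => hcon ⟨(0 : Fin 7), h⟩, fun h => hcon ⟨(1 : Fin 7), h⟩, fun h => hcon ⟨(2 : Fin 7), h⟩, fun h => hcon ⟨(3 : Fin 7), h⟩, fun h => hcon ⟨(4 : Fin 7), h⟩, fun h => hcon ⟨(5 : Fin 7), h⟩⟩, hy⟩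
                        · exact hq_6 ⟨y, ⟨fun h => hcon ⟨(0 : Fin 7), h⟩, fun h => hcon ⟨(1 : Fin 7), h⟩, fun h => hcon ⟨(2 : Fin 7), h⟩, fun h => hcon ⟨(3 : Fin 7), h⟩, fun h => hcon ⟨(4 : Fin 7), h⟩, fun h => hcon ⟨(5 : Fin 7), h⟩, fun h => hcon ⟨(6 : Fin 7), h⟩⟩, hy⟩
                · by_cases hq_0 : ∃ y, (y ≠ x0 ∧ y ≠ x1 ∧ y ≠ x2 ∧ y ≠ x3 ∧ y ≠ x4 ∧ y ≠ x5) ∧ T.a x0 y ≠ 0
                  · obtain ⟨x6, ⟨hn0, hn1, hn2, hn3, hn4, hn5⟩, hadj_0_6⟩ := hq_0
                    have hne_0_6 : x0 ≠ x6 := hn0.symm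
                    have hne_1_6 : x1 ≠ x6 := hn1.symm
                    have hne_2_6 : x2 ≠ x6 := hn2.symm
                    have hne_3_6 : x3 ≠ x6 := hn3.symm
                    have hne_4_6 : x4 ≠ x6 := hn4.symm
                    have hne_5_6 : x5 ≠ x6 := hn5.symm
                    have hadj_6_0 : T.a x6 x0 ≠ 0 := by rw [hsym]; exact hadj_0_6
                    have hl_0_6 := NT.lb1 T _ _ hne_0_6 hadj_0_6
                    have hl_6_0 := NT.lb1 T _ _ hne_0_6.symm hadj_6_0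
                    have hs_0_6 : T.a x0 x6 = T.a x6 x0 := hsym _ _
                    have hz_1_6 : T.a x1 x6 = 0 := by
                      by_contra h
                      exact hq_1 ⟨x6, ⟨hne_0_6.symm, hne_1_6.symm, hne_2_6.symm, hne_3_6.symm, hne_4_6.symm, hne_5_6.symm⟩, h⟩
                    have hz_6_1 : T.a x6 x1 = 0 := by rw [hsym]; exact hz_1_6
                    have hz_2_6 : T.a x2 x6 = 0 := by
                      by_contra h
                      exact hq_2 ⟨x6, ⟨hne_0_6.symm, hne_1_6.symm, hne_2_6.symm, hne_3_6.symm, hne_4_6.symm, hne_5_6.symm⟩, h⟩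
                    have hz_6_2 : T.a x6 x2 = 0 := by rw [hsym]; exact hz_2_6
                    have hz_3_6 : T.a x3 x6 = 0 := by
                      by_contra h
                      exact hq_3 ⟨x6, ⟨hne_0_6.symm, hne_1_6.symm, hne_2_6.symm, hne_3_6.symm⟩, h⟩
                    have hz_6_3 : T.a x6 x3 = 0 := by rw [hsym]; exact hz_3_6
                    have hz_4_6 : T.a x4 x6 = 0 := by
                      by_contra h
                      exact hq_4 ⟨x6, ⟨hne_0_6.symm, hne_1_6.symm, hne_2_6.symm, hne_3_6.symm, hne_4_6.symm, hne_5_6.symm⟩, h⟩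
                    have hz_6_4 : T.a x6 x4 = 0 := by rw [hsym]; exact hz_4_6
                    have hz_5_6 : T.a x5 x6 = 0 := by
                      by_contra h
                      exact hq_5 ⟨x6, ⟨hne_0_6.symm, hne_1_6.symm, hne_2_6.symm, hne_3_6.symm, hne_4_6.symm, hne_5_6.symm⟩, h⟩
                    have hz_6_5 : T.a x6 x5 = 0 := by rw [hsym]; exact hz_5_6
                    exfalso
                    refine NT.cert5 T x0 x1 x2 x3 x6 hne_0_1 hne_0_2 hne_0_3 hne_0_6 hne_1_2 hne_1_3 hne_1_6 hne_2_3 hne_2_6 hne_3_6 (by norm_num) 2 1 1 1 1 (by norm_num) (by norm_num) (by norm_num) (by norm_num) (by norm_num) ?_ ?_ ?_ ?_ ?_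
                    · linarith only [hd x0, hwp x0, hl_0_1, hl_0_2, hl_0_3, hl_0_6]
                    · linarith only [hd x1, hwp x1, hl_1_0, hnn x1 x2 hne_1_2, hnn x1 x3 hne_1_3, hnn x1 x6 hne_1_6]
                    · linarith only [hd x2, hwp x2, hl_2_0, hnn x2 x1 hne_1_2.symm, hnn x2 x3 hne_2_3, hnn x2 x6 hne_2_6]
                    · linarith only [hd x3, hwp x3, hl_3_0, hnn x3 x1 hne_1_3.symm, hnn x3 x2 hne_2_3.symm, hnn x3 x6 hne_3_6]
                    · linarith only [hd x6, hwp x6, hl_6_0, hnn x6 x1 hne_1_6.symm, hnn x6 x2 hne_2_6.symm, hnn x6 x3 hne_3_6.symm]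
                  · exfalso
                    refine NT.not_closed T ![x0, x1, x2, x3, x4, x5] (by norm_num) (by norm_num) ?_
                    intro s y hy
                    by_contra hcon
                    fin_cases s
                    · exact hq_0 ⟨y, ⟨fun h => hcon ⟨(0 : Fin 6), h⟩, fun h => hcon ⟨(1 : Fin 6), h⟩, fun h => hcon ⟨(2 : Fin 6), h⟩, fun h => hcon ⟨(3 : Fin 6), h⟩, fun h => hcon ⟨(4 : Fin 6), h⟩, fun h => hcon ⟨(5 : Fin 6), h⟩⟩, hy⟩
                    · exact hq_1 ⟨y, ⟨fun h => hcon ⟨(0 : Fin 6), h⟩, fun h => hcon ⟨(1 : Fin 6), h⟩, fun h => hcon ⟨(2 : Fin 6), h⟩, fun h => hcon ⟨(3 : Fin 6), h⟩, fun h => hcon ⟨(4 : Fin 6), h⟩, fun h => hcon ⟨(5 : Fin 6), h⟩⟩, hy⟩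
                    · exact hq_2 ⟨y, ⟨fun h => hcon ⟨(0 : Fin 6), h⟩, fun h => hcon ⟨(1 : Fin 6), h⟩, fun h => hcon ⟨(2 : Fin 6), h⟩, fun h => hcon ⟨(3 : Fin 6), h⟩, fun h => hcon ⟨(4 : Fin 6), h⟩, fun h => hcon ⟨(5 : Fin 6), h⟩⟩, hy⟩
                    · exact hq_3 ⟨y, ⟨fun h => hcon ⟨(0 : Fin 6), h⟩, fun h => hcon ⟨(1 : Fin 6), h⟩, fun h => hcon ⟨(2 : Fin 6), h⟩, fun h => hcon ⟨(3 : Fin 6), h⟩⟩, hy⟩
                    · exact hq_4 ⟨y, ⟨fun h => hcon ⟨(0 : Fin 6), h⟩, fun h => hcon ⟨(1 : Fin 6), h⟩, fun h => hcon ⟨(2 : Fin 6), h⟩, fun h => hcon ⟨(3 : Fin 6), h⟩, fun h => hcon ⟨(4 : Fin 6), h⟩, fun h => hcon ⟨(5 : Fin 6), h⟩⟩, hy⟩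
                    · exact hq_5 ⟨y, ⟨fun h => hcon ⟨(0 : Fin 6), h⟩, fun h => hcon ⟨(1 : Fin 6), h⟩, fun h => hcon ⟨(2 : Fin 6), h⟩, fun h => hcon ⟨(3 : Fin 6), h⟩, fun h => hcon ⟨(4 : Fin 6), h⟩, fun h => hcon ⟨(5 : Fin 6), h⟩⟩, hy⟩
        · by_cases hq_2 : ∃ y, (y ≠ x0 ∧ y ≠ x1 ∧ y ≠ x2 ∧ y ≠ x3 ∧ y ≠ x4) ∧ T.a x2 y ≠ 0
          · obtain ⟨x5, ⟨hn0, hn1, hn2, hn3, hn4⟩, hadj_2_5⟩ := hq_2
            have hne_0_5 : x0 ≠ x5 := hn0.symm
            have hne_1_5 : x1 ≠ x5 := hn1.symm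
            have hne_2_5 : x2 ≠ x5 := hn2.symm
            have hne_3_5 : x3 ≠ x5 := hn3.symm
            have hne_4_5 : x4 ≠ x5 := hn4.symm
            have hadj_5_2 : T.a x5 x2 ≠ 0 := by rw [hsym]; exact hadj_2_5
            have hl_2_5 := NT.lb1 T _ _ hne_2_5 hadj_2_5
            have hl_5_2 := NT.lb1 T _ _ hne_2_5.symm hadj_5_2
            have hs_2_5 : T.a x2 x5 = T.a x5 x2 := hsym _ _
            have hz_0_5 : T.a x0 x5 = 0 := by
              by_contra hadj_0_5
              have hadj_5_0 : T.a x5 x0 ≠ 0 := by rw [hsym]; exact hadj_0_5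
              have hl_0_5 := NT.lb1 T _ _ hne_0_5 hadj_0_5
              have hl_5_0 := NT.lb1 T _ _ hne_0_5.symm hadj_5_0
              have hs_0_5 : T.a x0 x5 = T.a x5 x0 := hsym _ _
              refine NT.cert3 T x0 x2 x5 hne_0_2 hne_0_5 hne_2_5 (by norm_num) 1 1 1 (by norm_num) (by norm_num) (by norm_num) ?_ ?_ ?_
              · linarith only [hd x0, hwp x0, hl_0_2, hl_0_5]
              · linarith only [hd x2, hwp x2, hl_2_0, hl_2_5]
              · linarith only [hd x5, hwp x5, hl_5_0, hl_5_2]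
            have hz_5_0 : T.a x5 x0 = 0 := by rw [hsym]; exact hz_0_5
            have hz_1_5 : T.a x1 x5 = 0 := by
              by_contra hadj_1_5
              have hadj_5_1 : T.a x5 x1 ≠ 0 := by rw [hsym]; exact hadj_1_5
              have hl_1_5 := NT.lb1 T _ _ hne_1_5 hadj_1_5
              have hl_5_1 := NT.lb1 T _ _ hne_1_5.symm hadj_5_1
              have hs_1_5 : T.a x1 x5 = T.a x5 x1 := hsym _ _
              refine NT.cert4 T x0 x1 x2 x5 hne_0_1 hne_0_2 hne_0_5 hne_1_2 hne_1_5 hne_2_5 (by norm_num) 1 1 1 1 (by norm_num) (by norm_num) (by norm_num) (by norm_num) ?_ ?_ ?_ ?_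
              · linarith only [hd x0, hwp x0, hl_0_1, hl_0_2, hnn x0 x5 hne_0_5]
              · linarith only [hd x1, hwp x1, hl_1_0, hnn x1 x2 hne_1_2, hl_1_5]
              · linarith only [hd x2, hwp x2, hl_2_0, hnn x2 x1 hne_1_2.symm, hl_2_5]
              · linarith only [hd x5, hwp x5, hnn x5 x0 hne_0_5.symm, hl_5_1, hl_5_2]
            have hz_5_1 : T.a x5 x1 = 0 := by rw [hsym]; exact hz_1_5
            have hz_3_5 : T.a x3 x5 = 0 := by
              by_contra h
              exact hq_3 ⟨x5, ⟨hne_0_5.symm, hne_1_5.symm, hne_2_5.symm, hne_3_5.symm⟩, h⟩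
            have hz_5_3 : T.a x5 x3 = 0 := by rw [hsym]; exact hz_3_5
            have hz_4_5 : T.a x4 x5 = 0 := by
              by_contra h
              exact hq_4 ⟨x5, ⟨hne_0_5.symm, hne_1_5.symm, hne_2_5.symm, hne_3_5.symm, hne_4_5.symm⟩, h⟩
            have hz_5_4 : T.a x5 x4 = 0 := by rw [hsym]; exact hz_4_5
            exfalso
            refine NT.cert6 T x0 x1 x2 x3 x4 x5 hne_0_1 hne_0_2 hne_0_3 hne_0_4 hne_0_5 hne_1_2 hne_1_3 hne_1_4 hne_1_5 hne_2_3 hne_2_4 hne_2_5 hne_3_4 hne_3_5 hne_4_5 (by norm_num) 2 1 2 1 1 1 (by norm_num) (by norm_num) (by norm_num) (by norm_num) (by norm_num) (by norm_num) ?_ ?_ ?_ ?_ ?_ ?_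
            · linarith only [hd x0, hwp x0, hl_0_1, hl_0_2, hl_0_3, hnn x0 x4 hne_0_4, hnn x0 x5 hne_0_5]
            · linarith only [hd x1, hwp x1, hl_1_0, hnn x1 x2 hne_1_2, hnn x1 x3 hne_1_3, hnn x1 x4 hne_1_4, hnn x1 x5 hne_1_5]
            · linarith only [hd x2, hwp x2, hl_2_0, hnn x2 x1 hne_1_2.symm, hnn x2 x3 hne_2_3, hl_2_4, hl_2_5]
            · linarith only [hd x3, hwp x3, hl_3_0, hnn x3 x1 hne_1_3.symm, hnn x3 x2 hne_2_3.symm, hnn x3 x4 hne_3_4, hnn x3 x5 hne_3_5]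
            · linarith only [hd x4, hwp x4, hnn x4 x0 hne_0_4.symm, hnn x4 x1 hne_1_4.symm, hl_4_2, hnn x4 x3 hne_3_4.symm, hnn x4 x5 hne_4_5]
            · linarith only [hd x5, hwp x5, hnn x5 x0 hne_0_5.symm, hnn x5 x1 hne_1_5.symm, hl_5_2, hnn x5 x3 hne_3_5.symm, hnn x5 x4 hne_4_5.symm]
          · by_cases hq_1 : ∃ y, (y ≠ x0 ∧ y ≠ x1 ∧ y ≠ x2 ∧ y ≠ x3 ∧ y ≠ x4) ∧ T.a x1 y ≠ 0
            · obtain ⟨x5, ⟨hn0, hn1, hn2, hn3, hn4⟩, hadj_1_5⟩ := hq_1
              have hne_0_5 : x0 ≠ x5 := hn0.symm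
              have hne_1_5 : x1 ≠ x5 := hn1.symm
              have hne_2_5 : x2 ≠ x5 := hn2.symm
              have hne_3_5 : x3 ≠ x5 := hn3.symm
              have hne_4_5 : x4 ≠ x5 := hn4.symm
              have hadj_5_1 : T.a x5 x1 ≠ 0 := by rw [hsym]; exact hadj_1_5
              have hl_1_5 := NT.lb1 T _ _ hne_1_5 hadj_1_5
              have hl_5_1 := NT.lb1 T _ _ hne_1_5.symm hadj_5_1
              have hs_1_5 : T.a x1 x5 = T.a x5 x1 := hsym _ _
              have hz_0_5 : T.a x0 x5 = 0 := by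
                by_contra hadj_0_5
                have hadj_5_0 : T.a x5 x0 ≠ 0 := by rw [hsym]; exact hadj_0_5
                have hl_0_5 := NT.lb1 T _ _ hne_0_5 hadj_0_5
                have hl_5_0 := NT.lb1 T _ _ hne_0_5.symm hadj_5_0
                have hs_0_5 : T.a x0 x5 = T.a x5 x0 := hsym _ _
                refine NT.cert3 T x0 x1 x5 hne_0_1 hne_0_5 hne_1_5 (by norm_num) 1 1 1 (by norm_num) (by norm_num) (by norm_num) ?_ ?_ ?_
                · linarith only [hd x0, hwp x0, hl_0_1, hl_0_5]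
                · linarith only [hd x1, hwp x1, hl_1_0, hl_1_5]
                · linarith only [hd x5, hwp x5, hl_5_0, hl_5_1]
              have hz_5_0 : T.a x5 x0 = 0 := by rw [hsym]; exact hz_0_5
              have hz_2_5 : T.a x2 x5 = 0 := by
                by_contra h
                exact hq_2 ⟨x5, ⟨hne_0_5.symm, hne_1_5.symm, hne_2_5.symm, hne_3_5.symm, hne_4_5.symm⟩, h⟩
              have hz_5_2 : T.a x5 x2 = 0 := by rw [hsym]; exact hz_2_5
              have hz_3_5 : T.a x3 x5 = 0 := by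
                by_contra h
                exact hq_3 ⟨x5, ⟨hne_0_5.symm, hne_1_5.symm, hne_2_5.symm, hne_3_5.symm⟩, h⟩
              have hz_5_3 : T.a x5 x3 = 0 := by rw [hsym]; exact hz_3_5
              have hz_4_5 : T.a x4 x5 = 0 := by
                by_contra h
                exact hq_4 ⟨x5, ⟨hne_0_5.symm, hne_1_5.symm, hne_2_5.symm, hne_3_5.symm, hne_4_5.symm⟩, h⟩
              have hz_5_4 : T.a x5 x4 = 0 := by rw [hsym]; exact hz_4_5
              by_cases hq_5 : ∃ y, (y ≠ x0 ∧ y ≠ x1 ∧ y ≠ x2 ∧ y ≠ x3 ∧ y ≠ x4 ∧ y ≠ x5) ∧ T.a x5 y ≠ 0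
              · obtain ⟨x6, ⟨hn0, hn1, hn2, hn3, hn4, hn5⟩, hadj_5_6⟩ := hq_5
                have hne_0_6 : x0 ≠ x6 := hn0.symm
                have hne_1_6 : x1 ≠ x6 := hn1.symm
                have hne_2_6 : x2 ≠ x6 := hn2.symm
                have hne_3_6 : x3 ≠ x6 := hn3.symm
                have hne_4_6 : x4 ≠ x6 := hn4.symm
                have hne_5_6 : x5 ≠ x6 := hn5.symm
                have hadj_6_5 : T.a x6 x5 ≠ 0 := by rw [hsym]; exact hadj_5_6
                have hl_5_6 := NT.lb1 T _ _ hne_5_6 hadj_5_6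
                have hl_6_5 := NT.lb1 T _ _ hne_5_6.symm hadj_6_5
                have hs_5_6 : T.a x5 x6 = T.a x6 x5 := hsym _ _
                have hz_0_6 : T.a x0 x6 = 0 := by
                  by_contra hadj_0_6
                  have hadj_6_0 : T.a x6 x0 ≠ 0 := by rw [hsym]; exact hadj_0_6
                  have hl_0_6 := NT.lb1 T _ _ hne_0_6 hadj_0_6
                  have hl_6_0 := NT.lb1 T _ _ hne_0_6.symm hadj_6_0
                  have hs_0_6 : T.a x0 x6 = T.a x6 x0 := hsym _ _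
                  refine NT.cert4 T x0 x1 x5 x6 hne_0_1 hne_0_5 hne_0_6 hne_1_5 hne_1_6 hne_5_6 (by norm_num) 1 1 1 1 (by norm_num) (by norm_num) (by norm_num) (by norm_num) ?_ ?_ ?_ ?_
                  · linarith only [hd x0, hwp x0, hl_0_1, hnn x0 x5 hne_0_5, hl_0_6]
                  · linarith only [hd x1, hwp x1, hl_1_0, hl_1_5, hnn x1 x6 hne_1_6]
                  · linarith only [hd x5, hwp x5, hnn x5 x0 hne_0_5.symm, hl_5_1, hl_5_6]
                  · linarith only [hd x6, hwp x6, hl_6_0, hnn x6 x1 hne_1_6.symm, hl_6_5]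
                have hz_6_0 : T.a x6 x0 = 0 := by rw [hsym]; exact hz_0_6
                have hz_1_6 : T.a x1 x6 = 0 := by
                  by_contra hadj_1_6
                  have hadj_6_1 : T.a x6 x1 ≠ 0 := by rw [hsym]; exact hadj_1_6
                  have hl_1_6 := NT.lb1 T _ _ hne_1_6 hadj_1_6
                  have hl_6_1 := NT.lb1 T _ _ hne_1_6.symm hadj_6_1
                  have hs_1_6 : T.a x1 x6 = T.a x6 x1 := hsym _ _
                  refine NT.cert3 T x1 x5 x6 hne_1_5 hne_1_6 hne_5_6 (by norm_num) 1 1 1 (by norm_num) (by norm_num) (by norm_num) ?_ ?_ ?_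
                  · linarith only [hd x1, hwp x1, hl_1_5, hl_1_6]
                  · linarith only [hd x5, hwp x5, hl_5_1, hl_5_6]
                  · linarith only [hd x6, hwp x6, hl_6_1, hl_6_5]
                have hz_6_1 : T.a x6 x1 = 0 := by rw [hsym]; exact hz_1_6
                have hz_2_6 : T.a x2 x6 = 0 := by
                  by_contra h
                  exact hq_2 ⟨x6, ⟨hne_0_6.symm, hne_1_6.symm, hne_2_6.symm, hne_3_6.symm, hne_4_6.symm⟩, h⟩
                have hz_6_2 : T.a x6 x2 = 0 := by rw [hsym]; exact hz_2_6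
                have hz_3_6 : T.a x3 x6 = 0 := by
                  by_contra h
                  exact hq_3 ⟨x6, ⟨hne_0_6.symm, hne_1_6.symm, hne_2_6.symm, hne_3_6.symm⟩, h⟩
                have hz_6_3 : T.a x6 x3 = 0 := by rw [hsym]; exact hz_3_6
                have hz_4_6 : T.a x4 x6 = 0 := by
                  by_contra h
                  exact hq_4 ⟨x6, ⟨hne_0_6.symm, hne_1_6.symm, hne_2_6.symm, hne_3_6.symm, hne_4_6.symm⟩, h⟩
                have hz_6_4 : T.a x6 x4 = 0 := by rw [hsym]; exact hz_4_6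
                by_cases hq_6 : ∃ y, (y ≠ x0 ∧ y ≠ x1 ∧ y ≠ x2 ∧ y ≠ x3 ∧ y ≠ x4 ∧ y ≠ x5 ∧ y ≠ x6) ∧ T.a x6 y ≠ 0
                · obtain ⟨x7, ⟨hn0, hn1, hn2, hn3, hn4, hn5, hn6⟩, hadj_6_7⟩ := hq_6
                  have hne_0_7 : x0 ≠ x7 := hn0.symm
                  have hne_1_7 : x1 ≠ x7 := hn1.symm
                  have hne_2_7 : x2 ≠ x7 := hn2.symm
                  have hne_3_7 : x3 ≠ x7 := hn3.symm
                  have hne_4_7 : x4 ≠ x7 := hn4.symm
                  have hne_5_7 : x5 ≠ x7 := hn5.symm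
                  have hne_6_7 : x6 ≠ x7 := hn6.symm
                  have hadj_7_6 : T.a x7 x6 ≠ 0 := by rw [hsym]; exact hadj_6_7
                  have hl_6_7 := NT.lb1 T _ _ hne_6_7 hadj_6_7
                  have hl_7_6 := NT.lb1 T _ _ hne_6_7.symm hadj_7_6
                  have hs_6_7 : T.a x6 x7 = T.a x7 x6 := hsym _ _
                  have hz_0_7 : T.a x0 x7 = 0 := by
                    by_contra hadj_0_7
                    have hadj_7_0 : T.a x7 x0 ≠ 0 := by rw [hsym]; exact hadj_0_7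
                    have hl_0_7 := NT.lb1 T _ _ hne_0_7 hadj_0_7
                    have hl_7_0 := NT.lb1 T _ _ hne_0_7.symm hadj_7_0
                    have hs_0_7 : T.a x0 x7 = T.a x7 x0 := hsym _ _
                    refine NT.cert5 T x0 x1 x2 x3 x7 hne_0_1 hne_0_2 hne_0_3 hne_0_7 hne_1_2 hne_1_3 hne_1_7 hne_2_3 hne_2_7 hne_3_7 (by norm_num) 2 1 1 1 1 (by norm_num) (by norm_num) (by norm_num) (by norm_num) (by norm_num) ?_ ?_ ?_ ?_ ?_
                    · linarith only [hd x0, hwp x0, hl_0_1, hl_0_2, hl_0_3, hl_0_7]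
                    · linarith only [hd x1, hwp x1, hl_1_0, hnn x1 x2 hne_1_2, hnn x1 x3 hne_1_3, hnn x1 x7 hne_1_7]
                    · linarith only [hd x2, hwp x2, hl_2_0, hnn x2 x1 hne_1_2.symm, hnn x2 x3 hne_2_3, hnn x2 x7 hne_2_7]
                    · linarith only [hd x3, hwp x3, hl_3_0, hnn x3 x1 hne_1_3.symm, hnn x3 x2 hne_2_3.symm, hnn x3 x7 hne_3_7]
                    · linarith only [hd x7, hwp x7, hl_7_0, hnn x7 x1 hne_1_7.symm, hnn x7 x2 hne_2_7.symm, hnn x7 x3 hne_3_7.symm]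
                  have hz_7_0 : T.a x7 x0 = 0 := by rw [hsym]; exact hz_0_7
                  have hz_1_7 : T.a x1 x7 = 0 := by
                    by_contra hadj_1_7
                    have hadj_7_1 : T.a x7 x1 ≠ 0 := by rw [hsym]; exact hadj_1_7
                    have hl_1_7 := NT.lb1 T _ _ hne_1_7 hadj_1_7
                    have hl_7_1 := NT.lb1 T _ _ hne_1_7.symm hadj_7_1
                    have hs_1_7 : T.a x1 x7 = T.a x7 x1 := hsym _ _
                    refine NT.cert4 T x1 x5 x6 x7 hne_1_5 hne_1_6 hne_1_7 hne_5_6 hne_5_7 hne_6_7 (by norm_num) 1 1 1 1 (by norm_num) (by norm_num) (by norm_num) (by norm_num) ?_ ?_ ?_ ?_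
                    · linarith only [hd x1, hwp x1, hl_1_5, hnn x1 x6 hne_1_6, hl_1_7]
                    · linarith only [hd x5, hwp x5, hl_5_1, hl_5_6, hnn x5 x7 hne_5_7]
                    · linarith only [hd x6, hwp x6, hnn x6 x1 hne_1_6.symm, hl_6_5, hl_6_7]
                    · linarith only [hd x7, hwp x7, hl_7_1, hnn x7 x5 hne_5_7.symm, hl_7_6]
                  have hz_7_1 : T.a x7 x1 = 0 := by rw [hsym]; exact hz_1_7
                  have hz_2_7 : T.a x2 x7 = 0 := by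
                    by_contra h
                    exact hq_2 ⟨x7, ⟨hne_0_7.symm, hne_1_7.symm, hne_2_7.symm, hne_3_7.symm, hne_4_7.symm⟩, h⟩
                  have hz_7_2 : T.a x7 x2 = 0 := by rw [hsym]; exact hz_2_7
                  have hz_3_7 : T.a x3 x7 = 0 := by
                    by_contra h
                    exact hq_3 ⟨x7, ⟨hne_0_7.symm, hne_1_7.symm, hne_2_7.symm, hne_3_7.symm⟩, h⟩
                  have hz_7_3 : T.a x7 x3 = 0 := by rw [hsym]; exact hz_3_7
                  have hz_4_7 : T.a x4 x7 = 0 := by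
                    by_contra h
                    exact hq_4 ⟨x7, ⟨hne_0_7.symm, hne_1_7.symm, hne_2_7.symm, hne_3_7.symm, hne_4_7.symm⟩, h⟩
                  have hz_7_4 : T.a x7 x4 = 0 := by rw [hsym]; exact hz_4_7
                  have hz_5_7 : T.a x5 x7 = 0 := by
                    by_contra hadj_5_7
                    have hadj_7_5 : T.a x7 x5 ≠ 0 := by rw [hsym]; exact hadj_5_7
                    have hl_5_7 := NT.lb1 T _ _ hne_5_7 hadj_5_7
                    have hl_7_5 := NT.lb1 T _ _ hne_5_7.symm hadj_7_5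
                    have hs_5_7 : T.a x5 x7 = T.a x7 x5 := hsym _ _
                    refine NT.cert3 T x5 x6 x7 hne_5_6 hne_5_7 hne_6_7 (by norm_num) 1 1 1 (by norm_num) (by norm_num) (by norm_num) ?_ ?_ ?_
                    · linarith only [hd x5, hwp x5, hl_5_6, hl_5_7]
                    · linarith only [hd x6, hwp x6, hl_6_5, hl_6_7]
                    · linarith only [hd x7, hwp x7, hl_7_5, hl_7_6]
                  have hz_7_5 : T.a x7 x5 = 0 := by rw [hsym]; exact hz_5_7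
                  exact G8.shape12 T hall x0 x1 x2 x3 x4 x5 x6 x7 hne_0_1 hne_0_2 hne_0_3 hne_0_4 hne_0_5 hne_0_6 hne_0_7 hne_1_2 hne_1_3 hne_1_4 hne_1_5 hne_1_6 hne_1_7 hne_2_3 hne_2_4 hne_2_5 hne_2_6 hne_2_7 hne_3_4 hne_3_5 hne_3_6 hne_3_7 hne_4_5 hne_4_6 hne_4_7 hne_5_6 hne_5_7 hne_6_7 hadj_0_1 hadj_0_2 hadj_0_3 hz_0_4 hz_0_5 hz_0_6 hz_0_7 hz_1_2 hz_1_3 hz_1_4 hadj_1_5 hz_1_6 hz_1_7 hz_2_3 hadj_2_4 hz_2_5 hz_2_6 hz_2_7 hz_3_4 hz_3_5 hz_3_6 hz_3_7 hz_4_5 hz_4_6 hz_4_7 hadj_5_6 hz_5_7 hadj_6_7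
                · by_cases hq_5 : ∃ y, (y ≠ x0 ∧ y ≠ x1 ∧ y ≠ x2 ∧ y ≠ x3 ∧ y ≠ x4 ∧ y ≠ x5 ∧ y ≠ x6) ∧ T.a x5 y ≠ 0
                  · obtain ⟨x7, ⟨hn0, hn1, hn2, hn3, hn4, hn5, hn6⟩, hadj_5_7⟩ := hq_5
                    have hne_0_7 : x0 ≠ x7 := hn0.symm
                    have hne_1_7 : x1 ≠ x7 := hn1.symm
                    have hne_2_7 : x2 ≠ x7 := hn2.symm
                    have hne_3_7 : x3 ≠ x7 := hn3.symm
                    have hne_4_7 : x4 ≠ x7 := hn4.symm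
                    have hne_5_7 : x5 ≠ x7 := hn5.symm
                    have hne_6_7 : x6 ≠ x7 := hn6.symm
                    have hadj_7_5 : T.a x7 x5 ≠ 0 := by rw [hsym]; exact hadj_5_7
                    have hl_5_7 := NT.lb1 T _ _ hne_5_7 hadj_5_7
                    have hl_7_5 := NT.lb1 T _ _ hne_5_7.symm hadj_7_5
                    have hs_5_7 : T.a x5 x7 = T.a x7 x5 := hsym _ _
                    have hz_0_7 : T.a x0 x7 = 0 := by
                      by_contra hadj_0_7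
                      have hadj_7_0 : T.a x7 x0 ≠ 0 := by rw [hsym]; exact hadj_0_7
                      have hl_0_7 := NT.lb1 T _ _ hne_0_7 hadj_0_7
                      have hl_7_0 := NT.lb1 T _ _ hne_0_7.symm hadj_7_0
                      have hs_0_7 : T.a x0 x7 = T.a x7 x0 := hsym _ _
                      refine NT.cert4 T x0 x1 x5 x7 hne_0_1 hne_0_5 hne_0_7 hne_1_5 hne_1_7 hne_5_7 (by norm_num) 1 1 1 1 (by norm_num) (by norm_num) (by norm_num) (by norm_num) ?_ ?_ ?_ ?_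
                      · linarith only [hd x0, hwp x0, hl_0_1, hnn x0 x5 hne_0_5, hl_0_7]
                      · linarith only [hd x1, hwp x1, hl_1_0, hl_1_5, hnn x1 x7 hne_1_7]
                      · linarith only [hd x5, hwp x5, hnn x5 x0 hne_0_5.symm, hl_5_1, hl_5_7]
                      · linarith only [hd x7, hwp x7, hl_7_0, hnn x7 x1 hne_1_7.symm, hl_7_5]
                    have hz_7_0 : T.a x7 x0 = 0 := by rw [hsym]; exact hz_0_7
                    have hz_1_7 : T.a x1 x7 = 0 := by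
                      by_contra hadj_1_7
                      have hadj_7_1 : T.a x7 x1 ≠ 0 := by rw [hsym]; exact hadj_1_7
                      have hl_1_7 := NT.lb1 T _ _ hne_1_7 hadj_1_7
                      have hl_7_1 := NT.lb1 T _ _ hne_1_7.symm hadj_7_1
                      have hs_1_7 : T.a x1 x7 = T.a x7 x1 := hsym _ _
                      refine NT.cert3 T x1 x5 x7 hne_1_5 hne_1_7 hne_5_7 (by norm_num) 1 1 1 (by norm_num) (by norm_num) (by norm_num) ?_ ?_ ?_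
                      · linarith only [hd x1, hwp x1, hl_1_5, hl_1_7]
                      · linarith only [hd x5, hwp x5, hl_5_1, hl_5_7]
                      · linarith only [hd x7, hwp x7, hl_7_1, hl_7_5]
                    have hz_7_1 : T.a x7 x1 = 0 := by rw [hsym]; exact hz_1_7
                    have hz_2_7 : T.a x2 x7 = 0 := by
                      by_contra h
                      exact hq_2 ⟨x7, ⟨hne_0_7.symm, hne_1_7.symm, hne_2_7.symm, hne_3_7.symm, hne_4_7.symm⟩, h⟩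
                    have hz_7_2 : T.a x7 x2 = 0 := by rw [hsym]; exact hz_2_7
                    have hz_3_7 : T.a x3 x7 = 0 := by
                      by_contra h
                      exact hq_3 ⟨x7, ⟨hne_0_7.symm, hne_1_7.symm, hne_2_7.symm, hne_3_7.symm⟩, h⟩
                    have hz_7_3 : T.a x7 x3 = 0 := by rw [hsym]; exact hz_3_7
                    have hz_4_7 : T.a x4 x7 = 0 := by
                      by_contra h
                      exact hq_4 ⟨x7, ⟨hne_0_7.symm, hne_1_7.symm, hne_2_7.symm, hne_3_7.symm, hne_4_7.symm⟩, h⟩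
                    have hz_7_4 : T.a x7 x4 = 0 := by rw [hsym]; exact hz_4_7
                    have hz_6_7 : T.a x6 x7 = 0 := by
                      by_contra h
                      exact hq_6 ⟨x7, ⟨hne_0_7.symm, hne_1_7.symm, hne_2_7.symm, hne_3_7.symm, hne_4_7.symm, hne_5_7.symm, hne_6_7.symm⟩, h⟩
                    have hz_7_6 : T.a x7 x6 = 0 := by rw [hsym]; exact hz_6_7
                    exfalso
                    refine NT.cert7 T x0 x1 x2 x3 x5 x6 x7 hne_0_1 hne_0_2 hne_0_3 hne_0_5 hne_0_6 hne_0_7 hne_1_2 hne_1_3 hne_1_5 hne_1_6 hne_1_7 hne_2_3 hne_2_5 hne_2_6 hne_2_7 hne_3_5 hne_3_6 hne_3_7 hne_5_6 hne_5_7 hne_6_7 (by norm_num) 2 2 1 1 2 1 1 (by norm_num) (by norm_num) (by norm_num) (by norm_num) (by norm_num) (by norm_num) (by norm_num) ?_ ?_ ?_ ?_ ?_ ?_ ?_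
                    · linarith only [hd x0, hwp x0, hl_0_1, hl_0_2, hl_0_3, hnn x0 x5 hne_0_5, hnn x0 x6 hne_0_6, hnn x0 x7 hne_0_7]
                    · linarith only [hd x1, hwp x1, hl_1_0, hnn x1 x2 hne_1_2, hnn x1 x3 hne_1_3, hl_1_5, hnn x1 x6 hne_1_6, hnn x1 x7 hne_1_7]
                    · linarith only [hd x2, hwp x2, hl_2_0, hnn x2 x1 hne_1_2.symm, hnn x2 x3 hne_2_3, hnn x2 x5 hne_2_5, hnn x2 x6 hne_2_6, hnn x2 x7 hne_2_7]
                    · linarith only [hd x3, hwp x3, hl_3_0, hnn x3 x1 hne_1_3.symm, hnn x3 x2 hne_2_3.symm, hnn x3 x5 hne_3_5, hnn x3 x6 hne_3_6, hnn x3 x7 hne_3_7]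
                    · linarith only [hd x5, hwp x5, hnn x5 x0 hne_0_5.symm, hl_5_1, hnn x5 x2 hne_2_5.symm, hnn x5 x3 hne_3_5.symm, hl_5_6, hl_5_7]
                    · linarith only [hd x6, hwp x6, hnn x6 x0 hne_0_6.symm, hnn x6 x1 hne_1_6.symm, hnn x6 x2 hne_2_6.symm, hnn x6 x3 hne_3_6.symm, hl_6_5, hnn x6 x7 hne_6_7]
                    · linarith only [hd x7, hwp x7, hnn x7 x0 hne_0_7.symm, hnn x7 x1 hne_1_7.symm, hnn x7 x2 hne_2_7.symm, hnn x7 x3 hne_3_7.symm, hl_7_5, hnn x7 x6 hne_6_7.symm]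
                  · by_cases hq_1 : ∃ y, (y ≠ x0 ∧ y ≠ x1 ∧ y ≠ x2 ∧ y ≠ x3 ∧ y ≠ x4 ∧ y ≠ x5 ∧ y ≠ x6) ∧ T.a x1 y ≠ 0
                    · obtain ⟨x7, ⟨hn0, hn1, hn2, hn3, hn4, hn5, hn6⟩, hadj_1_7⟩ := hq_1
                      have hne_0_7 : x0 ≠ x7 := hn0.symm
                      have hne_1_7 : x1 ≠ x7 := hn1.symm
                      have hne_2_7 : x2 ≠ x7 := hn2.symm
                      have hne_3_7 : x3 ≠ x7 := hn3.symm
                      have hne_4_7 : x4 ≠ x7 := hn4.symm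
                      have hne_5_7 : x5 ≠ x7 := hn5.symm
                      have hne_6_7 : x6 ≠ x7 := hn6.symm
                      have hadj_7_1 : T.a x7 x1 ≠ 0 := by rw [hsym]; exact hadj_1_7
                      have hl_1_7 := NT.lb1 T _ _ hne_1_7 hadj_1_7
                      have hl_7_1 := NT.lb1 T _ _ hne_1_7.symm hadj_7_1
                      have hs_1_7 : T.a x1 x7 = T.a x7 x1 := hsym _ _
                      have hz_0_7 : T.a x0 x7 = 0 := by
                        by_contra hadj_0_7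
                        have hadj_7_0 : T.a x7 x0 ≠ 0 := by rw [hsym]; exact hadj_0_7
                        have hl_0_7 := NT.lb1 T _ _ hne_0_7 hadj_0_7
                        have hl_7_0 := NT.lb1 T _ _ hne_0_7.symm hadj_7_0
                        have hs_0_7 : T.a x0 x7 = T.a x7 x0 := hsym _ _
                        refine NT.cert3 T x0 x1 x7 hne_0_1 hne_0_7 hne_1_7 (by norm_num) 1 1 1 (by norm_num) (by norm_num) (by norm_num) ?_ ?_ ?_
                        · linarith only [hd x0, hwp x0, hl_0_1, hl_0_7]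
                        · linarith only [hd x1, hwp x1, hl_1_0, hl_1_7]
                        · linarith only [hd x7, hwp x7, hl_7_0, hl_7_1]
                      have hz_7_0 : T.a x7 x0 = 0 := by rw [hsym]; exact hz_0_7
                      have hz_2_7 : T.a x2 x7 = 0 := by
                        by_contra h
                        exact hq_2 ⟨x7, ⟨hne_0_7.symm, hne_1_7.symm, hne_2_7.symm, hne_3_7.symm, hne_4_7.symm⟩, h⟩
                      have hz_7_2 : T.a x7 x2 = 0 := by rw [hsym]; exact hz_2_7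
                      have hz_3_7 : T.a x3 x7 = 0 := by
                        by_contra h
                        exact hq_3 ⟨x7, ⟨hne_0_7.symm, hne_1_7.symm, hne_2_7.symm, hne_3_7.symm⟩, h⟩
                      have hz_7_3 : T.a x7 x3 = 0 := by rw [hsym]; exact hz_3_7
                      have hz_4_7 : T.a x4 x7 = 0 := by
                        by_contra h
                        exact hq_4 ⟨x7, ⟨hne_0_7.symm, hne_1_7.symm, hne_2_7.symm, hne_3_7.symm, hne_4_7.symm⟩, h⟩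
                      have hz_7_4 : T.a x7 x4 = 0 := by rw [hsym]; exact hz_4_7
                      have hz_5_7 : T.a x5 x7 = 0 := by
                        by_contra h
                        exact hq_5 ⟨x7, ⟨hne_0_7.symm, hne_1_7.symm, hne_2_7.symm, hne_3_7.symm, hne_4_7.symm, hne_5_7.symm, hne_6_7.symm⟩, h⟩
                      have hz_7_5 : T.a x7 x5 = 0 := by rw [hsym]; exact hz_5_7
                      have hz_6_7 : T.a x6 x7 = 0 := by
                        by_contra h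
                        exact hq_6 ⟨x7, ⟨hne_0_7.symm, hne_1_7.symm, hne_2_7.symm, hne_3_7.symm, hne_4_7.symm, hne_5_7.symm, hne_6_7.symm⟩, h⟩
                      have hz_7_6 : T.a x7 x6 = 0 := by rw [hsym]; exact hz_6_7
                      exfalso
                      refine NT.cert6 T x0 x1 x2 x3 x5 x7 hne_0_1 hne_0_2 hne_0_3 hne_0_5 hne_0_7 hne_1_2 hne_1_3 hne_1_5 hne_1_7 hne_2_3 hne_2_5 hne_2_7 hne_3_5 hne_3_7 hne_5_7 (by norm_num) 2 2 1 1 1 1 (by norm_num) (by norm_num) (by norm_num) (by norm_num) (by norm_num) (by norm_num) ?_ ?_ ?_ ?_ ?_ ?_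
                      · linarith only [hd x0, hwp x0, hl_0_1, hl_0_2, hl_0_3, hnn x0 x5 hne_0_5, hnn x0 x7 hne_0_7]
                      · linarith only [hd x1, hwp x1, hl_1_0, hnn x1 x2 hne_1_2, hnn x1 x3 hne_1_3, hl_1_5, hl_1_7]
                      · linarith only [hd x2, hwp x2, hl_2_0, hnn x2 x1 hne_1_2.symm, hnn x2 x3 hne_2_3, hnn x2 x5 hne_2_5, hnn x2 x7 hne_2_7]
                      · linarith only [hd x3, hwp x3, hl_3_0, hnn x3 x1 hne_1_3.symm, hnn x3 x2 hne_2_3.symm, hnn x3 x5 hne_3_5, hnn x3 x7 hne_3_7]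
                      · linarith only [hd x5, hwp x5, hnn x5 x0 hne_0_5.symm, hl_5_1, hnn x5 x2 hne_2_5.symm, hnn x5 x3 hne_3_5.symm, hnn x5 x7 hne_5_7]
                      · linarith only [hd x7, hwp x7, hnn x7 x0 hne_0_7.symm, hl_7_1, hnn x7 x2 hne_2_7.symm, hnn x7 x3 hne_3_7.symm, hnn x7 x5 hne_5_7.symm]
                    · by_cases hq_0 : ∃ y, (y ≠ x0 ∧ y ≠ x1 ∧ y ≠ x2 ∧ y ≠ x3 ∧ y ≠ x4 ∧ y ≠ x5 ∧ y ≠ x6) ∧ T.a x0 y ≠ 0
                      · obtain ⟨x7, ⟨hn0, hn1, hn2, hn3, hn4, hn5, hn6⟩, hadj_0_7⟩ := hq_0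
                        have hne_0_7 : x0 ≠ x7 := hn0.symm
                        have hne_1_7 : x1 ≠ x7 := hn1.symm
                        have hne_2_7 : x2 ≠ x7 := hn2.symm
                        have hne_3_7 : x3 ≠ x7 := hn3.symm
                        have hne_4_7 : x4 ≠ x7 := hn4.symm
                        have hne_5_7 : x5 ≠ x7 := hn5.symm
                        have hne_6_7 : x6 ≠ x7 := hn6.symm
                        have hadj_7_0 : T.a x7 x0 ≠ 0 := by rw [hsym]; exact hadj_0_7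
                        have hl_0_7 := NT.lb1 T _ _ hne_0_7 hadj_0_7
                        have hl_7_0 := NT.lb1 T _ _ hne_0_7.symm hadj_7_0
                        have hs_0_7 : T.a x0 x7 = T.a x7 x0 := hsym _ _
                        have hz_1_7 : T.a x1 x7 = 0 := by
                          by_contra h
                          exact hq_1 ⟨x7, ⟨hne_0_7.symm, hne_1_7.symm, hne_2_7.symm, hne_3_7.symm, hne_4_7.symm, hne_5_7.symm, hne_6_7.symm⟩, h⟩
                        have hz_7_1 : T.a x7 x1 = 0 := by rw [hsym]; exact hz_1_7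
                        have hz_2_7 : T.a x2 x7 = 0 := by
                          by_contra h
                          exact hq_2 ⟨x7, ⟨hne_0_7.symm, hne_1_7.symm, hne_2_7.symm, hne_3_7.symm, hne_4_7.symm⟩, h⟩
                        have hz_7_2 : T.a x7 x2 = 0 := by rw [hsym]; exact hz_2_7
                        have hz_3_7 : T.a x3 x7 = 0 := by
                          by_contra h
                          exact hq_3 ⟨x7, ⟨hne_0_7.symm, hne_1_7.symm, hne_2_7.symm, hne_3_7.symm⟩, h⟩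
                        have hz_7_3 : T.a x7 x3 = 0 := by rw [hsym]; exact hz_3_7
                        have hz_4_7 : T.a x4 x7 = 0 := by
                          by_contra h
                          exact hq_4 ⟨x7, ⟨hne_0_7.symm, hne_1_7.symm, hne_2_7.symm, hne_3_7.symm, hne_4_7.symm⟩, h⟩
                        have hz_7_4 : T.a x7 x4 = 0 := by rw [hsym]; exact hz_4_7
                        have hz_5_7 : T.a x5 x7 = 0 := by
                          by_contra h
                          exact hq_5 ⟨x7, ⟨hne_0_7.symm, hne_1_7.symm, hne_2_7.symm, hne_3_7.symm, hne_4_7.symm, hne_5_7.symm, hne_6_7.symm⟩, h⟩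
                        have hz_7_5 : T.a x7 x5 = 0 := by rw [hsym]; exact hz_5_7
                        have hz_6_7 : T.a x6 x7 = 0 := by
                          by_contra h
                          exact hq_6 ⟨x7, ⟨hne_0_7.symm, hne_1_7.symm, hne_2_7.symm, hne_3_7.symm, hne_4_7.symm, hne_5_7.symm, hne_6_7.symm⟩, h⟩
                        have hz_7_6 : T.a x7 x6 = 0 := by rw [hsym]; exact hz_6_7
                        exfalso
                        refine NT.cert5 T x0 x1 x2 x3 x7 hne_0_1 hne_0_2 hne_0_3 hne_0_7 hne_1_2 hne_1_3 hne_1_7 hne_2_3 hne_2_7 hne_3_7 (by norm_num) 2 1 1 1 1 (by norm_num) (by norm_num) (by norm_num) (by norm_num) (by norm_num) ?_ ?_ ?_ ?_ ?_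
                        · linarith only [hd x0, hwp x0, hl_0_1, hl_0_2, hl_0_3, hl_0_7]
                        · linarith only [hd x1, hwp x1, hl_1_0, hnn x1 x2 hne_1_2, hnn x1 x3 hne_1_3, hnn x1 x7 hne_1_7]
                        · linarith only [hd x2, hwp x2, hl_2_0, hnn x2 x1 hne_1_2.symm, hnn x2 x3 hne_2_3, hnn x2 x7 hne_2_7]
                        · linarith only [hd x3, hwp x3, hl_3_0, hnn x3 x1 hne_1_3.symm, hnn x3 x2 hne_2_3.symm, hnn x3 x7 hne_3_7]
                        · linarith only [hd x7, hwp x7, hl_7_0, hnn x7 x1 hne_1_7.symm, hnn x7 x2 hne_2_7.symm, hnn x7 x3 hne_3_7.symm]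
                      · exfalso
                        refine NT.not_closed T ![x0, x1, x2, x3, x4, x5, x6] (by norm_num) (by norm_num) ?_
                        intro s y hy
                        by_contra hcon
                        fin_cases s
                        · exact hq_0 ⟨y, ⟨fun h => hcon ⟨(0 : Fin 7), h⟩, fun h => hcon ⟨(1 : Fin 7), h⟩, fun h => hcon ⟨(2 : Fin 7), h⟩, fun h => hcon ⟨(3 : Fin 7), h⟩, fun h => hcon ⟨(4 : Fin 7), h⟩, fun h => hcon ⟨(5 : Fin 7), h⟩, fun h => hcon ⟨(6 : Fin 7), h⟩⟩, hy⟩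
                        · exact hq_1 ⟨y, ⟨fun h => hcon ⟨(0 : Fin 7), h⟩, fun h => hcon ⟨(1 : Fin 7), h⟩, fun h => hcon ⟨(2 : Fin 7), h⟩, fun h => hcon ⟨(3 : Fin 7), h⟩, fun h => hcon ⟨(4 : Fin 7), h⟩, fun h => hcon ⟨(5 : Fin 7), h⟩, fun h => hcon ⟨(6 : Fin 7), h⟩⟩, hy⟩
                        · exact hq_2 ⟨y, ⟨fun h => hcon ⟨(0 : Fin 7), h⟩, fun h => hcon ⟨(1 : Fin 7), h⟩, fun h => hcon ⟨(2 : Fin 7), h⟩, fun h => hcon ⟨(3 : Fin 7), h⟩, fun h => hcon ⟨(4 : Fin 7), h⟩⟩, hy⟩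
                        · exact hq_3 ⟨y, ⟨fun h => hcon ⟨(0 : Fin 7), h⟩, fun h => hcon ⟨(1 : Fin 7), h⟩, fun h => hcon ⟨(2 : Fin 7), h⟩, fun h => hcon ⟨(3 : Fin 7), h⟩⟩, hy⟩
                        · exact hq_4 ⟨y, ⟨fun h => hcon ⟨(0 : Fin 7), h⟩, fun h => hcon ⟨(1 : Fin 7), h⟩, fun h => hcon ⟨(2 : Fin 7), h⟩, fun h => hcon ⟨(3 : Fin 7), h⟩, fun h => hcon ⟨(4 : Fin 7), h⟩⟩, hy⟩
                        · exact hq_5 ⟨y, ⟨fun h => hcon ⟨(0 : Fin 7), h⟩, fun h => hcon ⟨(1 : Fin 7), h⟩, fun h => hcon ⟨(2 : Fin 7), h⟩, fun h => hcon ⟨(3 : Fin 7), h⟩, fun h => hcon ⟨(4 : Fin 7), h⟩, fun h => hcon ⟨(5 : Fin 7), h⟩, fun h => hcon ⟨(6 : Fin 7), h⟩⟩, hy⟩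
                        · exact hq_6 ⟨y, ⟨fun h => hcon ⟨(0 : Fin 7), h⟩, fun h => hcon ⟨(1 : Fin 7), h⟩, fun h => hcon ⟨(2 : Fin 7), h⟩, fun h => hcon ⟨(3 : Fin 7), h⟩, fun h => hcon ⟨(4 : Fin 7), h⟩, fun h => hcon ⟨(5 : Fin 7), h⟩, fun h => hcon ⟨(6 : Fin 7), h⟩⟩, hy⟩
              · by_cases hq_1 : ∃ y, (y ≠ x0 ∧ y ≠ x1 ∧ y ≠ x2 ∧ y ≠ x3 ∧ y ≠ x4 ∧ y ≠ x5) ∧ T.a x1 y ≠ 0
                · obtain ⟨x6, ⟨hn0, hn1, hn2, hn3, hn4, hn5⟩, hadj_1_6⟩ := hq_1
                  have hne_0_6 : x0 ≠ x6 := hn0.symm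
                  have hne_1_6 : x1 ≠ x6 := hn1.symm
                  have hne_2_6 : x2 ≠ x6 := hn2.symm
                  have hne_3_6 : x3 ≠ x6 := hn3.symm
                  have hne_4_6 : x4 ≠ x6 := hn4.symm
                  have hne_5_6 : x5 ≠ x6 := hn5.symm
                  have hadj_6_1 : T.a x6 x1 ≠ 0 := by rw [hsym]; exact hadj_1_6
                  have hl_1_6 := NT.lb1 T _ _ hne_1_6 hadj_1_6
                  have hl_6_1 := NT.lb1 T _ _ hne_1_6.symm hadj_6_1
                  have hs_1_6 : T.a x1 x6 = T.a x6 x1 := hsym _ _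
                  have hz_0_6 : T.a x0 x6 = 0 := by
                    by_contra hadj_0_6
                    have hadj_6_0 : T.a x6 x0 ≠ 0 := by rw [hsym]; exact hadj_0_6
                    have hl_0_6 := NT.lb1 T _ _ hne_0_6 hadj_0_6
                    have hl_6_0 := NT.lb1 T _ _ hne_0_6.symm hadj_6_0
                    have hs_0_6 : T.a x0 x6 = T.a x6 x0 := hsym _ _
                    refine NT.cert3 T x0 x1 x6 hne_0_1 hne_0_6 hne_1_6 (by norm_num) 1 1 1 (by norm_num) (by norm_num) (by norm_num) ?_ ?_ ?_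
                    · linarith only [hd x0, hwp x0, hl_0_1, hl_0_6]
                    · linarith only [hd x1, hwp x1, hl_1_0, hl_1_6]
                    · linarith only [hd x6, hwp x6, hl_6_0, hl_6_1]
                  have hz_6_0 : T.a x6 x0 = 0 := by rw [hsym]; exact hz_0_6
                  have hz_2_6 : T.a x2 x6 = 0 := by
                    by_contra h
                    exact hq_2 ⟨x6, ⟨hne_0_6.symm, hne_1_6.symm, hne_2_6.symm, hne_3_6.symm, hne_4_6.symm⟩, h⟩
                  have hz_6_2 : T.a x6 x2 = 0 := by rw [hsym]; exact hz_2_6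
                  have hz_3_6 : T.a x3 x6 = 0 := by
                    by_contra h
                    exact hq_3 ⟨x6, ⟨hne_0_6.symm, hne_1_6.symm, hne_2_6.symm, hne_3_6.symm⟩, h⟩
                  have hz_6_3 : T.a x6 x3 = 0 := by rw [hsym]; exact hz_3_6
                  have hz_4_6 : T.a x4 x6 = 0 := by
                    by_contra h
                    exact hq_4 ⟨x6, ⟨hne_0_6.symm, hne_1_6.symm, hne_2_6.symm, hne_3_6.symm, hne_4_6.symm⟩, h⟩
                  have hz_6_4 : T.a x6 x4 = 0 := by rw [hsym]; exact hz_4_6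
                  have hz_5_6 : T.a x5 x6 = 0 := by
                    by_contra h
                    exact hq_5 ⟨x6, ⟨hne_0_6.symm, hne_1_6.symm, hne_2_6.symm, hne_3_6.symm, hne_4_6.symm, hne_5_6.symm⟩, h⟩
                  have hz_6_5 : T.a x6 x5 = 0 := by rw [hsym]; exact hz_5_6
                  exfalso
                  refine NT.cert6 T x0 x1 x2 x3 x5 x6 hne_0_1 hne_0_2 hne_0_3 hne_0_5 hne_0_6 hne_1_2 hne_1_3 hne_1_5 hne_1_6 hne_2_3 hne_2_5 hne_2_6 hne_3_5 hne_3_6 hne_5_6 (by norm_num) 2 2 1 1 1 1 (by norm_num) (by norm_num) (by norm_num) (by norm_num) (by norm_num) (by norm_num) ?_ ?_ ?_ ?_ ?_ ?_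
                  · linarith only [hd x0, hwp x0, hl_0_1, hl_0_2, hl_0_3, hnn x0 x5 hne_0_5, hnn x0 x6 hne_0_6]
                  · linarith only [hd x1, hwp x1, hl_1_0, hnn x1 x2 hne_1_2, hnn x1 x3 hne_1_3, hl_1_5, hl_1_6]
                  · linarith only [hd x2, hwp x2, hl_2_0, hnn x2 x1 hne_1_2.symm, hnn x2 x3 hne_2_3, hnn x2 x5 hne_2_5, hnn x2 x6 hne_2_6]
                  · linarith only [hd x3, hwp x3, hl_3_0, hnn x3 x1 hne_1_3.symm, hnn x3 x2 hne_2_3.symm, hnn x3 x5 hne_3_5, hnn x3 x6 hne_3_6]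
                  · linarith only [hd x5, hwp x5, hnn x5 x0 hne_0_5.symm, hl_5_1, hnn x5 x2 hne_2_5.symm, hnn x5 x3 hne_3_5.symm, hnn x5 x6 hne_5_6]
                  · linarith only [hd x6, hwp x6, hnn x6 x0 hne_0_6.symm, hl_6_1, hnn x6 x2 hne_2_6.symm, hnn x6 x3 hne_3_6.symm, hnn x6 x5 hne_5_6.symm]
                · by_cases hq_0 : ∃ y, (y ≠ x0 ∧ y ≠ x1 ∧ y ≠ x2 ∧ y ≠ x3 ∧ y ≠ x4 ∧ y ≠ x5) ∧ T.a x0 y ≠ 0
                  · obtain ⟨x6, ⟨hn0, hn1, hn2, hn3, hn4, hn5⟩, hadj_0_6⟩ := hq_0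
                    have hne_0_6 : x0 ≠ x6 := hn0.symm
                    have hne_1_6 : x1 ≠ x6 := hn1.symm
                    have hne_2_6 : x2 ≠ x6 := hn2.symm
                    have hne_3_6 : x3 ≠ x6 := hn3.symm
                    have hne_4_6 : x4 ≠ x6 := hn4.symm
                    have hne_5_6 : x5 ≠ x6 := hn5.symm
                    have hadj_6_0 : T.a x6 x0 ≠ 0 := by rw [hsym]; exact hadj_0_6
                    have hl_0_6 := NT.lb1 T _ _ hne_0_6 hadj_0_6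
                    have hl_6_0 := NT.lb1 T _ _ hne_0_6.symm hadj_6_0
                    have hs_0_6 : T.a x0 x6 = T.a x6 x0 := hsym _ _
                    have hz_1_6 : T.a x1 x6 = 0 := by
                      by_contra h
                      exact hq_1 ⟨x6, ⟨hne_0_6.symm, hne_1_6.symm, hne_2_6.symm, hne_3_6.symm, hne_4_6.symm, hne_5_6.symm⟩, h⟩
                    have hz_6_1 : T.a x6 x1 = 0 := by rw [hsym]; exact hz_1_6
                    have hz_2_6 : T.a x2 x6 = 0 := by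
                      by_contra h
                      exact hq_2 ⟨x6, ⟨hne_0_6.symm, hne_1_6.symm, hne_2_6.symm, hne_3_6.symm, hne_4_6.symm⟩, h⟩
                    have hz_6_2 : T.a x6 x2 = 0 := by rw [hsym]; exact hz_2_6
                    have hz_3_6 : T.a x3 x6 = 0 := by
                      by_contra h
                      exact hq_3 ⟨x6, ⟨hne_0_6.symm, hne_1_6.symm, hne_2_6.symm, hne_3_6.symm⟩, h⟩
                    have hz_6_3 : T.a x6 x3 = 0 := by rw [hsym]; exact hz_3_6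
                    have hz_4_6 : T.a x4 x6 = 0 := by
                      by_contra h
                      exact hq_4 ⟨x6, ⟨hne_0_6.symm, hne_1_6.symm, hne_2_6.symm, hne_3_6.symm, hne_4_6.symm⟩, h⟩
                    have hz_6_4 : T.a x6 x4 = 0 := by rw [hsym]; exact hz_4_6
                    have hz_5_6 : T.a x5 x6 = 0 := by
                      by_contra h
                      exact hq_5 ⟨x6, ⟨hne_0_6.symm, hne_1_6.symm, hne_2_6.symm, hne_3_6.symm, hne_4_6.symm, hne_5_6.symm⟩, h⟩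
                    have hz_6_5 : T.a x6 x5 = 0 := by rw [hsym]; exact hz_5_6
                    exfalso
                    refine NT.cert5 T x0 x1 x2 x3 x6 hne_0_1 hne_0_2 hne_0_3 hne_0_6 hne_1_2 hne_1_3 hne_1_6 hne_2_3 hne_2_6 hne_3_6 (by norm_num) 2 1 1 1 1 (by norm_num) (by norm_num) (by norm_num) (by norm_num) (by norm_num) ?_ ?_ ?_ ?_ ?_
                    · linarith only [hd x0, hwp x0, hl_0_1, hl_0_2, hl_0_3, hl_0_6]
                    · linarith only [hd x1, hwp x1, hl_1_0, hnn x1 x2 hne_1_2, hnn x1 x3 hne_1_3, hnn x1 x6 hne_1_6]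
                    · linarith only [hd x2, hwp x2, hl_2_0, hnn x2 x1 hne_1_2.symm, hnn x2 x3 hne_2_3, hnn x2 x6 hne_2_6]
                    · linarith only [hd x3, hwp x3, hl_3_0, hnn x3 x1 hne_1_3.symm, hnn x3 x2 hne_2_3.symm, hnn x3 x6 hne_3_6]
                    · linarith only [hd x6, hwp x6, hl_6_0, hnn x6 x1 hne_1_6.symm, hnn x6 x2 hne_2_6.symm, hnn x6 x3 hne_3_6.symm]
                  · exfalso
                    refine NT.not_closed T ![x0, x1, x2, x3, x4, x5] (by norm_num) (by norm_num) ?_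
                    intro s y hy
                    by_contra hcon
                    fin_cases s
                    · exact hq_0 ⟨y, ⟨fun h => hcon ⟨(0 : Fin 6), h⟩, fun h => hcon ⟨(1 : Fin 6), h⟩, fun h => hcon ⟨(2 : Fin 6), h⟩, fun h => hcon ⟨(3 : Fin 6), h⟩, fun h => hcon ⟨(4 : Fin 6), h⟩, fun h => hcon ⟨(5 : Fin 6), h⟩⟩, hy⟩
                    · exact hq_1 ⟨y, ⟨fun h => hcon ⟨(0 : Fin 6), h⟩, fun h => hcon ⟨(1 : Fin 6), h⟩, fun h => hcon ⟨(2 : Fin 6), h⟩, fun h => hcon ⟨(3 : Fin 6), h⟩, fun h => hcon ⟨(4 : Fin 6), h⟩, fun h => hcon ⟨(5 : Fin 6), h⟩⟩, hy⟩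
                    · exact hq_2 ⟨y, ⟨fun h => hcon ⟨(0 : Fin 6), h⟩, fun h => hcon ⟨(1 : Fin 6), h⟩, fun h => hcon ⟨(2 : Fin 6), h⟩, fun h => hcon ⟨(3 : Fin 6), h⟩, fun h => hcon ⟨(4 : Fin 6), h⟩⟩, hy⟩
                    · exact hq_3 ⟨y, ⟨fun h => hcon ⟨(0 : Fin 6), h⟩, fun h => hcon ⟨(1 : Fin 6), h⟩, fun h => hcon ⟨(2 : Fin 6), h⟩, fun h => hcon ⟨(3 : Fin 6), h⟩⟩, hy⟩
                    · exact hq_4 ⟨y, ⟨fun h => hcon ⟨(0 : Fin 6), h⟩, fun h => hcon ⟨(1 : Fin 6), h⟩, fun h => hcon ⟨(2 : Fin 6), h⟩, fun h => hcon ⟨(3 : Fin 6), h⟩, fun h => hcon ⟨(4 : Fin 6), h⟩⟩, hy⟩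
                    · exact hq_5 ⟨y, ⟨fun h => hcon ⟨(0 : Fin 6), h⟩, fun h => hcon ⟨(1 : Fin 6), h⟩, fun h => hcon ⟨(2 : Fin 6), h⟩, fun h => hcon ⟨(3 : Fin 6), h⟩, fun h => hcon ⟨(4 : Fin 6), h⟩, fun h => hcon ⟨(5 : Fin 6), h⟩⟩, hy⟩
            · by_cases hq_0 : ∃ y, (y ≠ x0 ∧ y ≠ x1 ∧ y ≠ x2 ∧ y ≠ x3 ∧ y ≠ x4) ∧ T.a x0 y ≠ 0
              · obtain ⟨x5, ⟨hn0, hn1, hn2, hn3, hn4⟩, hadj_0_5⟩ := hq_0
                have hne_0_5 : x0 ≠ x5 := hn0.symm
                have hne_1_5 : x1 ≠ x5 := hn1.symm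
                have hne_2_5 : x2 ≠ x5 := hn2.symm
                have hne_3_5 : x3 ≠ x5 := hn3.symm
                have hne_4_5 : x4 ≠ x5 := hn4.symm
                have hadj_5_0 : T.a x5 x0 ≠ 0 := by rw [hsym]; exact hadj_0_5
                have hl_0_5 := NT.lb1 T _ _ hne_0_5 hadj_0_5
                have hl_5_0 := NT.lb1 T _ _ hne_0_5.symm hadj_5_0
                have hs_0_5 : T.a x0 x5 = T.a x5 x0 := hsym _ _
                have hz_1_5 : T.a x1 x5 = 0 := by
                  by_contra h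
                  exact hq_1 ⟨x5, ⟨hne_0_5.symm, hne_1_5.symm, hne_2_5.symm, hne_3_5.symm, hne_4_5.symm⟩, h⟩
                have hz_5_1 : T.a x5 x1 = 0 := by rw [hsym]; exact hz_1_5
                have hz_2_5 : T.a x2 x5 = 0 := by
                  by_contra h
                  exact hq_2 ⟨x5, ⟨hne_0_5.symm, hne_1_5.symm, hne_2_5.symm, hne_3_5.symm, hne_4_5.symm⟩, h⟩
                have hz_5_2 : T.a x5 x2 = 0 := by rw [hsym]; exact hz_2_5
                have hz_3_5 : T.a x3 x5 = 0 := by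
                  by_contra h
                  exact hq_3 ⟨x5, ⟨hne_0_5.symm, hne_1_5.symm, hne_2_5.symm, hne_3_5.symm⟩, h⟩
                have hz_5_3 : T.a x5 x3 = 0 := by rw [hsym]; exact hz_3_5
                have hz_4_5 : T.a x4 x5 = 0 := by
                  by_contra h
                  exact hq_4 ⟨x5, ⟨hne_0_5.symm, hne_1_5.symm, hne_2_5.symm, hne_3_5.symm, hne_4_5.symm⟩, h⟩
                have hz_5_4 : T.a x5 x4 = 0 := by rw [hsym]; exact hz_4_5
                exfalso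
                refine NT.cert5 T x0 x1 x2 x3 x5 hne_0_1 hne_0_2 hne_0_3 hne_0_5 hne_1_2 hne_1_3 hne_1_5 hne_2_3 hne_2_5 hne_3_5 (by norm_num) 2 1 1 1 1 (by norm_num) (by norm_num) (by norm_num) (by norm_num) (by norm_num) ?_ ?_ ?_ ?_ ?_
                · linarith only [hd x0, hwp x0, hl_0_1, hl_0_2, hl_0_3, hl_0_5]
                · linarith only [hd x1, hwp x1, hl_1_0, hnn x1 x2 hne_1_2, hnn x1 x3 hne_1_3, hnn x1 x5 hne_1_5]
                · linarith only [hd x2, hwp x2, hl_2_0, hnn x2 x1 hne_1_2.symm, hnn x2 x3 hne_2_3, hnn x2 x5 hne_2_5]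
                · linarith only [hd x3, hwp x3, hl_3_0, hnn x3 x1 hne_1_3.symm, hnn x3 x2 hne_2_3.symm, hnn x3 x5 hne_3_5]
                · linarith only [hd x5, hwp x5, hl_5_0, hnn x5 x1 hne_1_5.symm, hnn x5 x2 hne_2_5.symm, hnn x5 x3 hne_3_5.symm]
              · exfalso
                refine NT.not_closed T ![x0, x1, x2, x3, x4] (by norm_num) (by norm_num) ?_
                intro s y hy
                by_contra hcon
                fin_cases s
                · exact hq_0 ⟨y, ⟨fun h => hcon ⟨(0 : Fin 5), h⟩, fun h => hcon ⟨(1 : Fin 5), h⟩, fun h => hcon ⟨(2 : Fin 5), h⟩, fun h => hcon ⟨(3 : Fin 5), h⟩, fun h => hcon ⟨(4 : Fin 5), h⟩⟩, hy⟩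
                · exact hq_1 ⟨y, ⟨fun h => hcon ⟨(0 : Fin 5), h⟩, fun h => hcon ⟨(1 : Fin 5), h⟩, fun h => hcon ⟨(2 : Fin 5), h⟩, fun h => hcon ⟨(3 : Fin 5), h⟩, fun h => hcon ⟨(4 : Fin 5), h⟩⟩, hy⟩
                · exact hq_2 ⟨y, ⟨fun h => hcon ⟨(0 : Fin 5), h⟩, fun h => hcon ⟨(1 : Fin 5), h⟩, fun h => hcon ⟨(2 : Fin 5), h⟩, fun h => hcon ⟨(3 : Fin 5), h⟩, fun h => hcon ⟨(4 : Fin 5), h⟩⟩, hy⟩
                · exact hq_3 ⟨y, ⟨fun h => hcon ⟨(0 : Fin 5), h⟩, fun h => hcon ⟨(1 : Fin 5), h⟩, fun h => hcon ⟨(2 : Fin 5), h⟩, fun h => hcon ⟨(3 : Fin 5), h⟩⟩, hy⟩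
                · exact hq_4 ⟨y, ⟨fun h => hcon ⟨(0 : Fin 5), h⟩, fun h => hcon ⟨(1 : Fin 5), h⟩, fun h => hcon ⟨(2 : Fin 5), h⟩, fun h => hcon ⟨(3 : Fin 5), h⟩, fun h => hcon ⟨(4 : Fin 5), h⟩⟩, hy⟩
      · by_cases hq_1 : ∃ y, (y ≠ x0 ∧ y ≠ x1 ∧ y ≠ x2 ∧ y ≠ x3) ∧ T.a x1 y ≠ 0
        · obtain ⟨x4, ⟨hn0, hn1, hn2, hn3⟩, hadj_1_4⟩ := hq_1
          have hne_0_4 : x0 ≠ x4 := hn0.symm
          have hne_1_4 : x1 ≠ x4 := hn1.symm
          have hne_2_4 : x2 ≠ x4 := hn2.symm
          have hne_3_4 : x3 ≠ x4 := hn3.symm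
          have hadj_4_1 : T.a x4 x1 ≠ 0 := by rw [hsym]; exact hadj_1_4
          have hl_1_4 := NT.lb1 T _ _ hne_1_4 hadj_1_4
          have hl_4_1 := NT.lb1 T _ _ hne_1_4.symm hadj_4_1
          have hs_1_4 : T.a x1 x4 = T.a x4 x1 := hsym _ _
          have hz_0_4 : T.a x0 x4 = 0 := by
            by_contra hadj_0_4
            have hadj_4_0 : T.a x4 x0 ≠ 0 := by rw [hsym]; exact hadj_0_4
            have hl_0_4 := NT.lb1 T _ _ hne_0_4 hadj_0_4
            have hl_4_0 := NT.lb1 T _ _ hne_0_4.symm hadj_4_0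
            have hs_0_4 : T.a x0 x4 = T.a x4 x0 := hsym _ _
            refine NT.cert3 T x0 x1 x4 hne_0_1 hne_0_4 hne_1_4 (by norm_num) 1 1 1 (by norm_num) (by norm_num) (by norm_num) ?_ ?_ ?_
            · linarith only [hd x0, hwp x0, hl_0_1, hl_0_4]
            · linarith only [hd x1, hwp x1, hl_1_0, hl_1_4]
            · linarith only [hd x4, hwp x4, hl_4_0, hl_4_1]
          have hz_4_0 : T.a x4 x0 = 0 := by rw [hsym]; exact hz_0_4
          have hz_2_4 : T.a x2 x4 = 0 := by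
            by_contra h
            exact hq_2 ⟨x4, ⟨hne_0_4.symm, hne_1_4.symm, hne_2_4.symm, hne_3_4.symm⟩, h⟩
          have hz_4_2 : T.a x4 x2 = 0 := by rw [hsym]; exact hz_2_4
          have hz_3_4 : T.a x3 x4 = 0 := by
            by_contra h
            exact hq_3 ⟨x4, ⟨hne_0_4.symm, hne_1_4.symm, hne_2_4.symm, hne_3_4.symm⟩, h⟩
          have hz_4_3 : T.a x4 x3 = 0 := by rw [hsym]; exact hz_3_4
          by_cases hq_4 : ∃ y, (y ≠ x0 ∧ y ≠ x1 ∧ y ≠ x2 ∧ y ≠ x3 ∧ y ≠ x4) ∧ T.a x4 y ≠ 0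
          · obtain ⟨x5, ⟨hn0, hn1, hn2, hn3, hn4⟩, hadj_4_5⟩ := hq_4
            have hne_0_5 : x0 ≠ x5 := hn0.symm
            have hne_1_5 : x1 ≠ x5 := hn1.symm
            have hne_2_5 : x2 ≠ x5 := hn2.symm
            have hne_3_5 : x3 ≠ x5 := hn3.symm
            have hne_4_5 : x4 ≠ x5 := hn4.symm
            have hadj_5_4 : T.a x5 x4 ≠ 0 := by rw [hsym]; exact hadj_4_5
            have hl_4_5 := NT.lb1 T _ _ hne_4_5 hadj_4_5
            have hl_5_4 := NT.lb1 T _ _ hne_4_5.symm hadj_5_4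
            have hs_4_5 : T.a x4 x5 = T.a x5 x4 := hsym _ _
            have hz_0_5 : T.a x0 x5 = 0 := by
              by_contra hadj_0_5
              have hadj_5_0 : T.a x5 x0 ≠ 0 := by rw [hsym]; exact hadj_0_5
              have hl_0_5 := NT.lb1 T _ _ hne_0_5 hadj_0_5
              have hl_5_0 := NT.lb1 T _ _ hne_0_5.symm hadj_5_0
              have hs_0_5 : T.a x0 x5 = T.a x5 x0 := hsym _ _
              refine NT.cert4 T x0 x1 x4 x5 hne_0_1 hne_0_4 hne_0_5 hne_1_4 hne_1_5 hne_4_5 (by norm_num) 1 1 1 1 (by norm_num) (by norm_num) (by norm_num) (by norm_num) ?_ ?_ ?_ ?_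
              · linarith only [hd x0, hwp x0, hl_0_1, hnn x0 x4 hne_0_4, hl_0_5]
              · linarith only [hd x1, hwp x1, hl_1_0, hl_1_4, hnn x1 x5 hne_1_5]
              · linarith only [hd x4, hwp x4, hnn x4 x0 hne_0_4.symm, hl_4_1, hl_4_5]
              · linarith only [hd x5, hwp x5, hl_5_0, hnn x5 x1 hne_1_5.symm, hl_5_4]
            have hz_5_0 : T.a x5 x0 = 0 := by rw [hsym]; exact hz_0_5
            have hz_1_5 : T.a x1 x5 = 0 := by
              by_contra hadj_1_5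
              have hadj_5_1 : T.a x5 x1 ≠ 0 := by rw [hsym]; exact hadj_1_5
              have hl_1_5 := NT.lb1 T _ _ hne_1_5 hadj_1_5
              have hl_5_1 := NT.lb1 T _ _ hne_1_5.symm hadj_5_1
              have hs_1_5 : T.a x1 x5 = T.a x5 x1 := hsym _ _
              refine NT.cert3 T x1 x4 x5 hne_1_4 hne_1_5 hne_4_5 (by norm_num) 1 1 1 (by norm_num) (by norm_num) (by norm_num) ?_ ?_ ?_
              · linarith only [hd x1, hwp x1, hl_1_4, hl_1_5]
              · linarith only [hd x4, hwp x4, hl_4_1, hl_4_5]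
              · linarith only [hd x5, hwp x5, hl_5_1, hl_5_4]
            have hz_5_1 : T.a x5 x1 = 0 := by rw [hsym]; exact hz_1_5
            have hz_2_5 : T.a x2 x5 = 0 := by
              by_contra h
              exact hq_2 ⟨x5, ⟨hne_0_5.symm, hne_1_5.symm, hne_2_5.symm, hne_3_5.symm⟩, h⟩
            have hz_5_2 : T.a x5 x2 = 0 := by rw [hsym]; exact hz_2_5
            have hz_3_5 : T.a x3 x5 = 0 := by
              by_contra h
              exact hq_3 ⟨x5, ⟨hne_0_5.symm, hne_1_5.symm, hne_2_5.symm, hne_3_5.symm⟩, h⟩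
            have hz_5_3 : T.a x5 x3 = 0 := by rw [hsym]; exact hz_3_5
            by_cases hq_5 : ∃ y, (y ≠ x0 ∧ y ≠ x1 ∧ y ≠ x2 ∧ y ≠ x3 ∧ y ≠ x4 ∧ y ≠ x5) ∧ T.a x5 y ≠ 0
            · obtain ⟨x6, ⟨hn0, hn1, hn2, hn3, hn4, hn5⟩, hadj_5_6⟩ := hq_5
              have hne_0_6 : x0 ≠ x6 := hn0.symm
              have hne_1_6 : x1 ≠ x6 := hn1.symm
              have hne_2_6 : x2 ≠ x6 := hn2.symm
              have hne_3_6 : x3 ≠ x6 := hn3.symm
              have hne_4_6 : x4 ≠ x6 := hn4.symm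
              have hne_5_6 : x5 ≠ x6 := hn5.symm
              have hadj_6_5 : T.a x6 x5 ≠ 0 := by rw [hsym]; exact hadj_5_6
              have hl_5_6 := NT.lb1 T _ _ hne_5_6 hadj_5_6
              have hl_6_5 := NT.lb1 T _ _ hne_5_6.symm hadj_6_5
              have hs_5_6 : T.a x5 x6 = T.a x6 x5 := hsym _ _
              have hz_0_6 : T.a x0 x6 = 0 := by
                by_contra hadj_0_6
                have hadj_6_0 : T.a x6 x0 ≠ 0 := by rw [hsym]; exact hadj_0_6
                have hl_0_6 := NT.lb1 T _ _ hne_0_6 hadj_0_6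
                have hl_6_0 := NT.lb1 T _ _ hne_0_6.symm hadj_6_0
                have hs_0_6 : T.a x0 x6 = T.a x6 x0 := hsym _ _
                refine NT.cert5 T x0 x1 x2 x3 x6 hne_0_1 hne_0_2 hne_0_3 hne_0_6 hne_1_2 hne_1_3 hne_1_6 hne_2_3 hne_2_6 hne_3_6 (by norm_num) 2 1 1 1 1 (by norm_num) (by norm_num) (by norm_num) (by norm_num) (by norm_num) ?_ ?_ ?_ ?_ ?_
                · linarith only [hd x0, hwp x0, hl_0_1, hl_0_2, hl_0_3, hl_0_6]
                · linarith only [hd x1, hwp x1, hl_1_0, hnn x1 x2 hne_1_2, hnn x1 x3 hne_1_3, hnn x1 x6 hne_1_6]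
                · linarith only [hd x2, hwp x2, hl_2_0, hnn x2 x1 hne_1_2.symm, hnn x2 x3 hne_2_3, hnn x2 x6 hne_2_6]
                · linarith only [hd x3, hwp x3, hl_3_0, hnn x3 x1 hne_1_3.symm, hnn x3 x2 hne_2_3.symm, hnn x3 x6 hne_3_6]
                · linarith only [hd x6, hwp x6, hl_6_0, hnn x6 x1 hne_1_6.symm, hnn x6 x2 hne_2_6.symm, hnn x6 x3 hne_3_6.symm]
              have hz_6_0 : T.a x6 x0 = 0 := by rw [hsym]; exact hz_0_6
              have hz_1_6 : T.a x1 x6 = 0 := by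
                by_contra hadj_1_6
                have hadj_6_1 : T.a x6 x1 ≠ 0 := by rw [hsym]; exact hadj_1_6
                have hl_1_6 := NT.lb1 T _ _ hne_1_6 hadj_1_6
                have hl_6_1 := NT.lb1 T _ _ hne_1_6.symm hadj_6_1
                have hs_1_6 : T.a x1 x6 = T.a x6 x1 := hsym _ _
                refine NT.cert4 T x1 x4 x5 x6 hne_1_4 hne_1_5 hne_1_6 hne_4_5 hne_4_6 hne_5_6 (by norm_num) 1 1 1 1 (by norm_num) (by norm_num) (by norm_num) (by norm_num) ?_ ?_ ?_ ?_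
                · linarith only [hd x1, hwp x1, hl_1_4, hnn x1 x5 hne_1_5, hl_1_6]
                · linarith only [hd x4, hwp x4, hl_4_1, hl_4_5, hnn x4 x6 hne_4_6]
                · linarith only [hd x5, hwp x5, hnn x5 x1 hne_1_5.symm, hl_5_4, hl_5_6]
                · linarith only [hd x6, hwp x6, hl_6_1, hnn x6 x4 hne_4_6.symm, hl_6_5]
              have hz_6_1 : T.a x6 x1 = 0 := by rw [hsym]; exact hz_1_6
              have hz_2_6 : T.a x2 x6 = 0 := by
                by_contra h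
                exact hq_2 ⟨x6, ⟨hne_0_6.symm, hne_1_6.symm, hne_2_6.symm, hne_3_6.symm⟩, h⟩
              have hz_6_2 : T.a x6 x2 = 0 := by rw [hsym]; exact hz_2_6
              have hz_3_6 : T.a x3 x6 = 0 := by
                by_contra h
                exact hq_3 ⟨x6, ⟨hne_0_6.symm, hne_1_6.symm, hne_2_6.symm, hne_3_6.symm⟩, h⟩
              have hz_6_3 : T.a x6 x3 = 0 := by rw [hsym]; exact hz_3_6
              have hz_4_6 : T.a x4 x6 = 0 := by
                by_contra hadj_4_6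
                have hadj_6_4 : T.a x6 x4 ≠ 0 := by rw [hsym]; exact hadj_4_6
                have hl_4_6 := NT.lb1 T _ _ hne_4_6 hadj_4_6
                have hl_6_4 := NT.lb1 T _ _ hne_4_6.symm hadj_6_4
                have hs_4_6 : T.a x4 x6 = T.a x6 x4 := hsym _ _
                refine NT.cert3 T x4 x5 x6 hne_4_5 hne_4_6 hne_5_6 (by norm_num) 1 1 1 (by norm_num) (by norm_num) (by norm_num) ?_ ?_ ?_
                · linarith only [hd x4, hwp x4, hl_4_5, hl_4_6]
                · linarith only [hd x5, hwp x5, hl_5_4, hl_5_6]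
                · linarith only [hd x6, hwp x6, hl_6_4, hl_6_5]
              have hz_6_4 : T.a x6 x4 = 0 := by rw [hsym]; exact hz_4_6
              by_cases hq_6 : ∃ y, (y ≠ x0 ∧ y ≠ x1 ∧ y ≠ x2 ∧ y ≠ x3 ∧ y ≠ x4 ∧ y ≠ x5 ∧ y ≠ x6) ∧ T.a x6 y ≠ 0
              · obtain ⟨x7, ⟨hn0, hn1, hn2, hn3, hn4, hn5, hn6⟩, hadj_6_7⟩ := hq_6
                have hne_0_7 : x0 ≠ x7 := hn0.symm
                have hne_1_7 : x1 ≠ x7 := hn1.symm
                have hne_2_7 : x2 ≠ x7 := hn2.symm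
                have hne_3_7 : x3 ≠ x7 := hn3.symm
                have hne_4_7 : x4 ≠ x7 := hn4.symm
                have hne_5_7 : x5 ≠ x7 := hn5.symm
                have hne_6_7 : x6 ≠ x7 := hn6.symm
                have hadj_7_6 : T.a x7 x6 ≠ 0 := by rw [hsym]; exact hadj_6_7
                have hl_6_7 := NT.lb1 T _ _ hne_6_7 hadj_6_7
                have hl_7_6 := NT.lb1 T _ _ hne_6_7.symm hadj_7_6
                have hs_6_7 : T.a x6 x7 = T.a x7 x6 := hsym _ _
                have hz_0_7 : T.a x0 x7 = 0 := by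
                  by_contra hadj_0_7
                  have hadj_7_0 : T.a x7 x0 ≠ 0 := by rw [hsym]; exact hadj_0_7
                  have hl_0_7 := NT.lb1 T _ _ hne_0_7 hadj_0_7
                  have hl_7_0 := NT.lb1 T _ _ hne_0_7.symm hadj_7_0
                  have hs_0_7 : T.a x0 x7 = T.a x7 x0 := hsym _ _
                  refine NT.cert5 T x0 x1 x2 x3 x7 hne_0_1 hne_0_2 hne_0_3 hne_0_7 hne_1_2 hne_1_3 hne_1_7 hne_2_3 hne_2_7 hne_3_7 (by norm_num) 2 1 1 1 1 (by norm_num) (by norm_num) (by norm_num) (by norm_num) (by norm_num) ?_ ?_ ?_ ?_ ?_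
                  · linarith only [hd x0, hwp x0, hl_0_1, hl_0_2, hl_0_3, hl_0_7]
                  · linarith only [hd x1, hwp x1, hl_1_0, hnn x1 x2 hne_1_2, hnn x1 x3 hne_1_3, hnn x1 x7 hne_1_7]
                  · linarith only [hd x2, hwp x2, hl_2_0, hnn x2 x1 hne_1_2.symm, hnn x2 x3 hne_2_3, hnn x2 x7 hne_2_7]
                  · linarith only [hd x3, hwp x3, hl_3_0, hnn x3 x1 hne_1_3.symm, hnn x3 x2 hne_2_3.symm, hnn x3 x7 hne_3_7]
                  · linarith only [hd x7, hwp x7, hl_7_0, hnn x7 x1 hne_1_7.symm, hnn x7 x2 hne_2_7.symm, hnn x7 x3 hne_3_7.symm]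
                have hz_7_0 : T.a x7 x0 = 0 := by rw [hsym]; exact hz_0_7
                have hz_1_7 : T.a x1 x7 = 0 := by
                  by_contra hadj_1_7
                  have hadj_7_1 : T.a x7 x1 ≠ 0 := by rw [hsym]; exact hadj_1_7
                  have hl_1_7 := NT.lb1 T _ _ hne_1_7 hadj_1_7
                  have hl_7_1 := NT.lb1 T _ _ hne_1_7.symm hadj_7_1
                  have hs_1_7 : T.a x1 x7 = T.a x7 x1 := hsym _ _
                  refine NT.cert5 T x1 x4 x5 x6 x7 hne_1_4 hne_1_5 hne_1_6 hne_1_7 hne_4_5 hne_4_6 hne_4_7 hne_5_6 hne_5_7 hne_6_7 (by norm_num) 1 1 1 1 1 (by norm_num) (by norm_num) (by norm_num) (by norm_num) (by norm_num) ?_ ?_ ?_ ?_ ?_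
                  · linarith only [hd x1, hwp x1, hl_1_4, hnn x1 x5 hne_1_5, hnn x1 x6 hne_1_6, hl_1_7]
                  · linarith only [hd x4, hwp x4, hl_4_1, hl_4_5, hnn x4 x6 hne_4_6, hnn x4 x7 hne_4_7]
                  · linarith only [hd x5, hwp x5, hnn x5 x1 hne_1_5.symm, hl_5_4, hl_5_6, hnn x5 x7 hne_5_7]
                  · linarith only [hd x6, hwp x6, hnn x6 x1 hne_1_6.symm, hnn x6 x4 hne_4_6.symm, hl_6_5, hl_6_7]
                  · linarith only [hd x7, hwp x7, hl_7_1, hnn x7 x4 hne_4_7.symm, hnn x7 x5 hne_5_7.symm, hl_7_6]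
                have hz_7_1 : T.a x7 x1 = 0 := by rw [hsym]; exact hz_1_7
                have hz_2_7 : T.a x2 x7 = 0 := by
                  by_contra h
                  exact hq_2 ⟨x7, ⟨hne_0_7.symm, hne_1_7.symm, hne_2_7.symm, hne_3_7.symm⟩, h⟩
                have hz_7_2 : T.a x7 x2 = 0 := by rw [hsym]; exact hz_2_7
                have hz_3_7 : T.a x3 x7 = 0 := by
                  by_contra h
                  exact hq_3 ⟨x7, ⟨hne_0_7.symm, hne_1_7.symm, hne_2_7.symm, hne_3_7.symm⟩, h⟩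
                have hz_7_3 : T.a x7 x3 = 0 := by rw [hsym]; exact hz_3_7
                have hz_4_7 : T.a x4 x7 = 0 := by
                  by_contra hadj_4_7
                  have hadj_7_4 : T.a x7 x4 ≠ 0 := by rw [hsym]; exact hadj_4_7
                  have hl_4_7 := NT.lb1 T _ _ hne_4_7 hadj_4_7
                  have hl_7_4 := NT.lb1 T _ _ hne_4_7.symm hadj_7_4
                  have hs_4_7 : T.a x4 x7 = T.a x7 x4 := hsym _ _
                  refine NT.cert4 T x4 x5 x6 x7 hne_4_5 hne_4_6 hne_4_7 hne_5_6 hne_5_7 hne_6_7 (by norm_num) 1 1 1 1 (by norm_num) (by norm_num) (by norm_num) (by norm_num) ?_ ?_ ?_ ?_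
                  · linarith only [hd x4, hwp x4, hl_4_5, hnn x4 x6 hne_4_6, hl_4_7]
                  · linarith only [hd x5, hwp x5, hl_5_4, hl_5_6, hnn x5 x7 hne_5_7]
                  · linarith only [hd x6, hwp x6, hnn x6 x4 hne_4_6.symm, hl_6_5, hl_6_7]
                  · linarith only [hd x7, hwp x7, hl_7_4, hnn x7 x5 hne_5_7.symm, hl_7_6]
                have hz_7_4 : T.a x7 x4 = 0 := by rw [hsym]; exact hz_4_7
                have hz_5_7 : T.a x5 x7 = 0 := by
                  by_contra hadj_5_7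
                  have hadj_7_5 : T.a x7 x5 ≠ 0 := by rw [hsym]; exact hadj_5_7
                  have hl_5_7 := NT.lb1 T _ _ hne_5_7 hadj_5_7
                  have hl_7_5 := NT.lb1 T _ _ hne_5_7.symm hadj_7_5
                  have hs_5_7 : T.a x5 x7 = T.a x7 x5 := hsym _ _
                  refine NT.cert3 T x5 x6 x7 hne_5_6 hne_5_7 hne_6_7 (by norm_num) 1 1 1 (by norm_num) (by norm_num) (by norm_num) ?_ ?_ ?_
                  · linarith only [hd x5, hwp x5, hl_5_6, hl_5_7]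
                  · linarith only [hd x6, hwp x6, hl_6_5, hl_6_7]
                  · linarith only [hd x7, hwp x7, hl_7_5, hl_7_6]
                have hz_7_5 : T.a x7 x5 = 0 := by rw [hsym]; exact hz_5_7
                exact G8.shape13 T hall x0 x1 x2 x3 x4 x5 x6 x7 hne_0_1 hne_0_2 hne_0_3 hne_0_4 hne_0_5 hne_0_6 hne_0_7 hne_1_2 hne_1_3 hne_1_4 hne_1_5 hne_1_6 hne_1_7 hne_2_3 hne_2_4 hne_2_5 hne_2_6 hne_2_7 hne_3_4 hne_3_5 hne_3_6 hne_3_7 hne_4_5 hne_4_6 hne_4_7 hne_5_6 hne_5_7 hne_6_7 hadj_0_1 hadj_0_2 hadj_0_3 hz_0_4 hz_0_5 hz_0_6 hz_0_7 hz_1_2 hz_1_3 hadj_1_4 hz_1_5 hz_1_6 hz_1_7 hz_2_3 hz_2_4 hz_2_5 hz_2_6 hz_2_7 hz_3_4 hz_3_5 hz_3_6 hz_3_7 hadj_4_5 hz_4_6 hz_4_7 hadj_5_6 hz_5_7 hadj_6_7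
              · by_cases hq_5 : ∃ y, (y ≠ x0 ∧ y ≠ x1 ∧ y ≠ x2 ∧ y ≠ x3 ∧ y ≠ x4 ∧ y ≠ x5 ∧ y ≠ x6) ∧ T.a x5 y ≠ 0
                · obtain ⟨x7, ⟨hn0, hn1, hn2, hn3, hn4, hn5, hn6⟩, hadj_5_7⟩ := hq_5
                  have hne_0_7 : x0 ≠ x7 := hn0.symm
                  have hne_1_7 : x1 ≠ x7 := hn1.symm
                  have hne_2_7 : x2 ≠ x7 := hn2.symm
                  have hne_3_7 : x3 ≠ x7 := hn3.symm
                  have hne_4_7 : x4 ≠ x7 := hn4.symm
                  have hne_5_7 : x5 ≠ x7 := hn5.symm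
                  have hne_6_7 : x6 ≠ x7 := hn6.symm
                  have hadj_7_5 : T.a x7 x5 ≠ 0 := by rw [hsym]; exact hadj_5_7
                  have hl_5_7 := NT.lb1 T _ _ hne_5_7 hadj_5_7
                  have hl_7_5 := NT.lb1 T _ _ hne_5_7.symm hadj_7_5
                  have hs_5_7 : T.a x5 x7 = T.a x7 x5 := hsym _ _
                  have hz_0_7 : T.a x0 x7 = 0 := by
                    by_contra hadj_0_7
                    have hadj_7_0 : T.a x7 x0 ≠ 0 := by rw [hsym]; exact hadj_0_7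
                    have hl_0_7 := NT.lb1 T _ _ hne_0_7 hadj_0_7
                    have hl_7_0 := NT.lb1 T _ _ hne_0_7.symm hadj_7_0
                    have hs_0_7 : T.a x0 x7 = T.a x7 x0 := hsym _ _
                    refine NT.cert5 T x0 x1 x2 x3 x7 hne_0_1 hne_0_2 hne_0_3 hne_0_7 hne_1_2 hne_1_3 hne_1_7 hne_2_3 hne_2_7 hne_3_7 (by norm_num) 2 1 1 1 1 (by norm_num) (by norm_num) (by norm_num) (by norm_num) (by norm_num) ?_ ?_ ?_ ?_ ?_
                    · linarith only [hd x0, hwp x0, hl_0_1, hl_0_2, hl_0_3, hl_0_7]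
                    · linarith only [hd x1, hwp x1, hl_1_0, hnn x1 x2 hne_1_2, hnn x1 x3 hne_1_3, hnn x1 x7 hne_1_7]
                    · linarith only [hd x2, hwp x2, hl_2_0, hnn x2 x1 hne_1_2.symm, hnn x2 x3 hne_2_3, hnn x2 x7 hne_2_7]
                    · linarith only [hd x3, hwp x3, hl_3_0, hnn x3 x1 hne_1_3.symm, hnn x3 x2 hne_2_3.symm, hnn x3 x7 hne_3_7]
                    · linarith only [hd x7, hwp x7, hl_7_0, hnn x7 x1 hne_1_7.symm, hnn x7 x2 hne_2_7.symm, hnn x7 x3 hne_3_7.symm]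
                  have hz_7_0 : T.a x7 x0 = 0 := by rw [hsym]; exact hz_0_7
                  have hz_1_7 : T.a x1 x7 = 0 := by
                    by_contra hadj_1_7
                    have hadj_7_1 : T.a x7 x1 ≠ 0 := by rw [hsym]; exact hadj_1_7
                    have hl_1_7 := NT.lb1 T _ _ hne_1_7 hadj_1_7
                    have hl_7_1 := NT.lb1 T _ _ hne_1_7.symm hadj_7_1
                    have hs_1_7 : T.a x1 x7 = T.a x7 x1 := hsym _ _
                    refine NT.cert4 T x1 x4 x5 x7 hne_1_4 hne_1_5 hne_1_7 hne_4_5 hne_4_7 hne_5_7 (by norm_num) 1 1 1 1 (by norm_num) (by norm_num) (by norm_num) (by norm_num) ?_ ?_ ?_ ?_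
                    · linarith only [hd x1, hwp x1, hl_1_4, hnn x1 x5 hne_1_5, hl_1_7]
                    · linarith only [hd x4, hwp x4, hl_4_1, hl_4_5, hnn x4 x7 hne_4_7]
                    · linarith only [hd x5, hwp x5, hnn x5 x1 hne_1_5.symm, hl_5_4, hl_5_7]
                    · linarith only [hd x7, hwp x7, hl_7_1, hnn x7 x4 hne_4_7.symm, hl_7_5]
                  have hz_7_1 : T.a x7 x1 = 0 := by rw [hsym]; exact hz_1_7
                  have hz_2_7 : T.a x2 x7 = 0 := by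
                    by_contra h
                    exact hq_2 ⟨x7, ⟨hne_0_7.symm, hne_1_7.symm, hne_2_7.symm, hne_3_7.symm⟩, h⟩
                  have hz_7_2 : T.a x7 x2 = 0 := by rw [hsym]; exact hz_2_7
                  have hz_3_7 : T.a x3 x7 = 0 := by
                    by_contra h
                    exact hq_3 ⟨x7, ⟨hne_0_7.symm, hne_1_7.symm, hne_2_7.symm, hne_3_7.symm⟩, h⟩
                  have hz_7_3 : T.a x7 x3 = 0 := by rw [hsym]; exact hz_3_7
                  have hz_4_7 : T.a x4 x7 = 0 := by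
                    by_contra hadj_4_7
                    have hadj_7_4 : T.a x7 x4 ≠ 0 := by rw [hsym]; exact hadj_4_7
                    have hl_4_7 := NT.lb1 T _ _ hne_4_7 hadj_4_7
                    have hl_7_4 := NT.lb1 T _ _ hne_4_7.symm hadj_7_4
                    have hs_4_7 : T.a x4 x7 = T.a x7 x4 := hsym _ _
                    refine NT.cert3 T x4 x5 x7 hne_4_5 hne_4_7 hne_5_7 (by norm_num) 1 1 1 (by norm_num) (by norm_num) (by norm_num) ?_ ?_ ?_
                    · linarith only [hd x4, hwp x4, hl_4_5, hl_4_7]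
                    · linarith only [hd x5, hwp x5, hl_5_4, hl_5_7]
                    · linarith only [hd x7, hwp x7, hl_7_4, hl_7_5]
                  have hz_7_4 : T.a x7 x4 = 0 := by rw [hsym]; exact hz_4_7
                  have hz_6_7 : T.a x6 x7 = 0 := by
                    by_contra h
                    exact hq_6 ⟨x7, ⟨hne_0_7.symm, hne_1_7.symm, hne_2_7.symm, hne_3_7.symm, hne_4_7.symm, hne_5_7.symm, hne_6_7.symm⟩, h⟩
                  have hz_7_6 : T.a x7 x6 = 0 := by rw [hsym]; exact hz_6_7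
                  exact G8.shape14 T hall x0 x1 x2 x3 x4 x5 x6 x7 hne_0_1 hne_0_2 hne_0_3 hne_0_4 hne_0_5 hne_0_6 hne_0_7 hne_1_2 hne_1_3 hne_1_4 hne_1_5 hne_1_6 hne_1_7 hne_2_3 hne_2_4 hne_2_5 hne_2_6 hne_2_7 hne_3_4 hne_3_5 hne_3_6 hne_3_7 hne_4_5 hne_4_6 hne_4_7 hne_5_6 hne_5_7 hne_6_7 hadj_0_1 hadj_0_2 hadj_0_3 hz_0_4 hz_0_5 hz_0_6 hz_0_7 hz_1_2 hz_1_3 hadj_1_4 hz_1_5 hz_1_6 hz_1_7 hz_2_3 hz_2_4 hz_2_5 hz_2_6 hz_2_7 hz_3_4 hz_3_5 hz_3_6 hz_3_7 hadj_4_5 hz_4_6 hz_4_7 hadj_5_6 hadj_5_7 hz_6_7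
                · by_cases hq_4 : ∃ y, (y ≠ x0 ∧ y ≠ x1 ∧ y ≠ x2 ∧ y ≠ x3 ∧ y ≠ x4 ∧ y ≠ x5 ∧ y ≠ x6) ∧ T.a x4 y ≠ 0
                  · obtain ⟨x7, ⟨hn0, hn1, hn2, hn3, hn4, hn5, hn6⟩, hadj_4_7⟩ := hq_4
                    have hne_0_7 : x0 ≠ x7 := hn0.symm
                    have hne_1_7 : x1 ≠ x7 := hn1.symm
                    have hne_2_7 : x2 ≠ x7 := hn2.symm
                    have hne_3_7 : x3 ≠ x7 := hn3.symm
                    have hne_4_7 : x4 ≠ x7 := hn4.symm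
                    have hne_5_7 : x5 ≠ x7 := hn5.symm
                    have hne_6_7 : x6 ≠ x7 := hn6.symm
                    have hadj_7_4 : T.a x7 x4 ≠ 0 := by rw [hsym]; exact hadj_4_7
                    have hl_4_7 := NT.lb1 T _ _ hne_4_7 hadj_4_7
                    have hl_7_4 := NT.lb1 T _ _ hne_4_7.symm hadj_7_4
                    have hs_4_7 : T.a x4 x7 = T.a x7 x4 := hsym _ _
                    have hz_0_7 : T.a x0 x7 = 0 := by
                      by_contra hadj_0_7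
                      have hadj_7_0 : T.a x7 x0 ≠ 0 := by rw [hsym]; exact hadj_0_7
                      have hl_0_7 := NT.lb1 T _ _ hne_0_7 hadj_0_7
                      have hl_7_0 := NT.lb1 T _ _ hne_0_7.symm hadj_7_0
                      have hs_0_7 : T.a x0 x7 = T.a x7 x0 := hsym _ _
                      refine NT.cert4 T x0 x1 x4 x7 hne_0_1 hne_0_4 hne_0_7 hne_1_4 hne_1_7 hne_4_7 (by norm_num) 1 1 1 1 (by norm_num) (by norm_num) (by norm_num) (by norm_num) ?_ ?_ ?_ ?_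
                      · linarith only [hd x0, hwp x0, hl_0_1, hnn x0 x4 hne_0_4, hl_0_7]
                      · linarith only [hd x1, hwp x1, hl_1_0, hl_1_4, hnn x1 x7 hne_1_7]
                      · linarith only [hd x4, hwp x4, hnn x4 x0 hne_0_4.symm, hl_4_1, hl_4_7]
                      · linarith only [hd x7, hwp x7, hl_7_0, hnn x7 x1 hne_1_7.symm, hl_7_4]
                    have hz_7_0 : T.a x7 x0 = 0 := by rw [hsym]; exact hz_0_7
                    have hz_1_7 : T.a x1 x7 = 0 := by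
                      by_contra hadj_1_7
                      have hadj_7_1 : T.a x7 x1 ≠ 0 := by rw [hsym]; exact hadj_1_7
                      have hl_1_7 := NT.lb1 T _ _ hne_1_7 hadj_1_7
                      have hl_7_1 := NT.lb1 T _ _ hne_1_7.symm hadj_7_1
                      have hs_1_7 : T.a x1 x7 = T.a x7 x1 := hsym _ _
                      refine NT.cert3 T x1 x4 x7 hne_1_4 hne_1_7 hne_4_7 (by norm_num) 1 1 1 (by norm_num) (by norm_num) (by norm_num) ?_ ?_ ?_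
                      · linarith only [hd x1, hwp x1, hl_1_4, hl_1_7]
                      · linarith only [hd x4, hwp x4, hl_4_1, hl_4_7]
                      · linarith only [hd x7, hwp x7, hl_7_1, hl_7_4]
                    have hz_7_1 : T.a x7 x1 = 0 := by rw [hsym]; exact hz_1_7
                    have hz_2_7 : T.a x2 x7 = 0 := by
                      by_contra h
                      exact hq_2 ⟨x7, ⟨hne_0_7.symm, hne_1_7.symm, hne_2_7.symm, hne_3_7.symm⟩, h⟩
                    have hz_7_2 : T.a x7 x2 = 0 := by rw [hsym]; exact hz_2_7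
                    have hz_3_7 : T.a x3 x7 = 0 := by
                      by_contra h
                      exact hq_3 ⟨x7, ⟨hne_0_7.symm, hne_1_7.symm, hne_2_7.symm, hne_3_7.symm⟩, h⟩
                    have hz_7_3 : T.a x7 x3 = 0 := by rw [hsym]; exact hz_3_7
                    have hz_5_7 : T.a x5 x7 = 0 := by
                      by_contra h
                      exact hq_5 ⟨x7, ⟨hne_0_7.symm, hne_1_7.symm, hne_2_7.symm, hne_3_7.symm, hne_4_7.symm, hne_5_7.symm, hne_6_7.symm⟩, h⟩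
                    have hz_7_5 : T.a x7 x5 = 0 := by rw [hsym]; exact hz_5_7
                    have hz_6_7 : T.a x6 x7 = 0 := by
                      by_contra h
                      exact hq_6 ⟨x7, ⟨hne_0_7.symm, hne_1_7.symm, hne_2_7.symm, hne_3_7.symm, hne_4_7.symm, hne_5_7.symm, hne_6_7.symm⟩, h⟩
                    have hz_7_6 : T.a x7 x6 = 0 := by rw [hsym]; exact hz_6_7
                    exfalso
                    refine NT.cert7 T x0 x1 x2 x3 x4 x5 x7 hne_0_1 hne_0_2 hne_0_3 hne_0_4 hne_0_5 hne_0_7 hne_1_2 hne_1_3 hne_1_4 hne_1_5 hne_1_7 hne_2_3 hne_2_4 hne_2_5 hne_2_7 hne_3_4 hne_3_5 hne_3_7 hne_4_5 hne_4_7 hne_5_7 (by norm_num) 2 2 1 1 2 1 1 (by norm_num) (by norm_num) (by norm_num) (by norm_num) (by norm_num) (by norm_num) (by norm_num) ?_ ?_ ?_ ?_ ?_ ?_ ?_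
                    · linarith only [hd x0, hwp x0, hl_0_1, hl_0_2, hl_0_3, hnn x0 x4 hne_0_4, hnn x0 x5 hne_0_5, hnn x0 x7 hne_0_7]
                    · linarith only [hd x1, hwp x1, hl_1_0, hnn x1 x2 hne_1_2, hnn x1 x3 hne_1_3, hl_1_4, hnn x1 x5 hne_1_5, hnn x1 x7 hne_1_7]
                    · linarith only [hd x2, hwp x2, hl_2_0, hnn x2 x1 hne_1_2.symm, hnn x2 x3 hne_2_3, hnn x2 x4 hne_2_4, hnn x2 x5 hne_2_5, hnn x2 x7 hne_2_7]
                    · linarith only [hd x3, hwp x3, hl_3_0, hnn x3 x1 hne_1_3.symm, hnn x3 x2 hne_2_3.symm, hnn x3 x4 hne_3_4, hnn x3 x5 hne_3_5, hnn x3 x7 hne_3_7]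
                    · linarith only [hd x4, hwp x4, hnn x4 x0 hne_0_4.symm, hl_4_1, hnn x4 x2 hne_2_4.symm, hnn x4 x3 hne_3_4.symm, hl_4_5, hl_4_7]
                    · linarith only [hd x5, hwp x5, hnn x5 x0 hne_0_5.symm, hnn x5 x1 hne_1_5.symm, hnn x5 x2 hne_2_5.symm, hnn x5 x3 hne_3_5.symm, hl_5_4, hnn x5 x7 hne_5_7]
                    · linarith only [hd x7, hwp x7, hnn x7 x0 hne_0_7.symm, hnn x7 x1 hne_1_7.symm, hnn x7 x2 hne_2_7.symm, hnn x7 x3 hne_3_7.symm, hl_7_4, hnn x7 x5 hne_5_7.symm]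
                  · by_cases hq_1 : ∃ y, (y ≠ x0 ∧ y ≠ x1 ∧ y ≠ x2 ∧ y ≠ x3 ∧ y ≠ x4 ∧ y ≠ x5 ∧ y ≠ x6) ∧ T.a x1 y ≠ 0
                    · obtain ⟨x7, ⟨hn0, hn1, hn2, hn3, hn4, hn5, hn6⟩, hadj_1_7⟩ := hq_1
                      have hne_0_7 : x0 ≠ x7 := hn0.symm
                      have hne_1_7 : x1 ≠ x7 := hn1.symm
                      have hne_2_7 : x2 ≠ x7 := hn2.symm
                      have hne_3_7 : x3 ≠ x7 := hn3.symm
                      have hne_4_7 : x4 ≠ x7 := hn4.symm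
                      have hne_5_7 : x5 ≠ x7 := hn5.symm
                      have hne_6_7 : x6 ≠ x7 := hn6.symm
                      have hadj_7_1 : T.a x7 x1 ≠ 0 := by rw [hsym]; exact hadj_1_7
                      have hl_1_7 := NT.lb1 T _ _ hne_1_7 hadj_1_7
                      have hl_7_1 := NT.lb1 T _ _ hne_1_7.symm hadj_7_1
                      have hs_1_7 : T.a x1 x7 = T.a x7 x1 := hsym _ _
                      have hz_0_7 : T.a x0 x7 = 0 := by
                        by_contra hadj_0_7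
                        have hadj_7_0 : T.a x7 x0 ≠ 0 := by rw [hsym]; exact hadj_0_7
                        have hl_0_7 := NT.lb1 T _ _ hne_0_7 hadj_0_7
                        have hl_7_0 := NT.lb1 T _ _ hne_0_7.symm hadj_7_0
                        have hs_0_7 : T.a x0 x7 = T.a x7 x0 := hsym _ _
                        refine NT.cert3 T x0 x1 x7 hne_0_1 hne_0_7 hne_1_7 (by norm_num) 1 1 1 (by norm_num) (by norm_num) (by norm_num) ?_ ?_ ?_
                        · linarith only [hd x0, hwp x0, hl_0_1, hl_0_7]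
                        · linarith only [hd x1, hwp x1, hl_1_0, hl_1_7]
                        · linarith only [hd x7, hwp x7, hl_7_0, hl_7_1]
                      have hz_7_0 : T.a x7 x0 = 0 := by rw [hsym]; exact hz_0_7
                      have hz_2_7 : T.a x2 x7 = 0 := by
                        by_contra h
                        exact hq_2 ⟨x7, ⟨hne_0_7.symm, hne_1_7.symm, hne_2_7.symm, hne_3_7.symm⟩, h⟩
                      have hz_7_2 : T.a x7 x2 = 0 := by rw [hsym]; exact hz_2_7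
                      have hz_3_7 : T.a x3 x7 = 0 := by
                        by_contra h
                        exact hq_3 ⟨x7, ⟨hne_0_7.symm, hne_1_7.symm, hne_2_7.symm, hne_3_7.symm⟩, h⟩
                      have hz_7_3 : T.a x7 x3 = 0 := by rw [hsym]; exact hz_3_7
                      have hz_4_7 : T.a x4 x7 = 0 := by
                        by_contra h
                        exact hq_4 ⟨x7, ⟨hne_0_7.symm, hne_1_7.symm, hne_2_7.symm, hne_3_7.symm, hne_4_7.symm, hne_5_7.symm, hne_6_7.symm⟩, h⟩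
                      have hz_7_4 : T.a x7 x4 = 0 := by rw [hsym]; exact hz_4_7
                      have hz_5_7 : T.a x5 x7 = 0 := by
                        by_contra h
                        exact hq_5 ⟨x7, ⟨hne_0_7.symm, hne_1_7.symm, hne_2_7.symm, hne_3_7.symm, hne_4_7.symm, hne_5_7.symm, hne_6_7.symm⟩, h⟩
                      have hz_7_5 : T.a x7 x5 = 0 := by rw [hsym]; exact hz_5_7
                      have hz_6_7 : T.a x6 x7 = 0 := by
                        by_contra h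
                        exact hq_6 ⟨x7, ⟨hne_0_7.symm, hne_1_7.symm, hne_2_7.symm, hne_3_7.symm, hne_4_7.symm, hne_5_7.symm, hne_6_7.symm⟩, h⟩
                      have hz_7_6 : T.a x7 x6 = 0 := by rw [hsym]; exact hz_6_7
                      exfalso
                      refine NT.cert6 T x0 x1 x2 x3 x4 x7 hne_0_1 hne_0_2 hne_0_3 hne_0_4 hne_0_7 hne_1_2 hne_1_3 hne_1_4 hne_1_7 hne_2_3 hne_2_4 hne_2_7 hne_3_4 hne_3_7 hne_4_7 (by norm_num) 2 2 1 1 1 1 (by norm_num) (by norm_num) (by norm_num) (by norm_num) (by norm_num) (by norm_num) ?_ ?_ ?_ ?_ ?_ ?_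
                      · linarith only [hd x0, hwp x0, hl_0_1, hl_0_2, hl_0_3, hnn x0 x4 hne_0_4, hnn x0 x7 hne_0_7]
                      · linarith only [hd x1, hwp x1, hl_1_0, hnn x1 x2 hne_1_2, hnn x1 x3 hne_1_3, hl_1_4, hl_1_7]
                      · linarith only [hd x2, hwp x2, hl_2_0, hnn x2 x1 hne_1_2.symm, hnn x2 x3 hne_2_3, hnn x2 x4 hne_2_4, hnn x2 x7 hne_2_7]
                      · linarith only [hd x3, hwp x3, hl_3_0, hnn x3 x1 hne_1_3.symm, hnn x3 x2 hne_2_3.symm, hnn x3 x4 hne_3_4, hnn x3 x7 hne_3_7]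
                      · linarith only [hd x4, hwp x4, hnn x4 x0 hne_0_4.symm, hl_4_1, hnn x4 x2 hne_2_4.symm, hnn x4 x3 hne_3_4.symm, hnn x4 x7 hne_4_7]
                      · linarith only [hd x7, hwp x7, hnn x7 x0 hne_0_7.symm, hl_7_1, hnn x7 x2 hne_2_7.symm, hnn x7 x3 hne_3_7.symm, hnn x7 x4 hne_4_7.symm]
                    · by_cases hq_0 : ∃ y, (y ≠ x0 ∧ y ≠ x1 ∧ y ≠ x2 ∧ y ≠ x3 ∧ y ≠ x4 ∧ y ≠ x5 ∧ y ≠ x6) ∧ T.a x0 y ≠ 0
                      · obtain ⟨x7, ⟨hn0, hn1, hn2, hn3, hn4, hn5, hn6⟩, hadj_0_7⟩ := hq_0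
                        have hne_0_7 : x0 ≠ x7 := hn0.symm
                        have hne_1_7 : x1 ≠ x7 := hn1.symm
                        have hne_2_7 : x2 ≠ x7 := hn2.symm
                        have hne_3_7 : x3 ≠ x7 := hn3.symm
                        have hne_4_7 : x4 ≠ x7 := hn4.symm
                        have hne_5_7 : x5 ≠ x7 := hn5.symm
                        have hne_6_7 : x6 ≠ x7 := hn6.symm
                        have hadj_7_0 : T.a x7 x0 ≠ 0 := by rw [hsym]; exact hadj_0_7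
                        have hl_0_7 := NT.lb1 T _ _ hne_0_7 hadj_0_7
                        have hl_7_0 := NT.lb1 T _ _ hne_0_7.symm hadj_7_0
                        have hs_0_7 : T.a x0 x7 = T.a x7 x0 := hsym _ _
                        have hz_1_7 : T.a x1 x7 = 0 := by
                          by_contra h
                          exact hq_1 ⟨x7, ⟨hne_0_7.symm, hne_1_7.symm, hne_2_7.symm, hne_3_7.symm, hne_4_7.symm, hne_5_7.symm, hne_6_7.symm⟩, h⟩
                        have hz_7_1 : T.a x7 x1 = 0 := by rw [hsym]; exact hz_1_7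
                        have hz_2_7 : T.a x2 x7 = 0 := by
                          by_contra h
                          exact hq_2 ⟨x7, ⟨hne_0_7.symm, hne_1_7.symm, hne_2_7.symm, hne_3_7.symm⟩, h⟩
                        have hz_7_2 : T.a x7 x2 = 0 := by rw [hsym]; exact hz_2_7
                        have hz_3_7 : T.a x3 x7 = 0 := by
                          by_contra h
                          exact hq_3 ⟨x7, ⟨hne_0_7.symm, hne_1_7.symm, hne_2_7.symm, hne_3_7.symm⟩, h⟩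
                        have hz_7_3 : T.a x7 x3 = 0 := by rw [hsym]; exact hz_3_7
                        have hz_4_7 : T.a x4 x7 = 0 := by
                          by_contra h
                          exact hq_4 ⟨x7, ⟨hne_0_7.symm, hne_1_7.symm, hne_2_7.symm, hne_3_7.symm, hne_4_7.symm, hne_5_7.symm, hne_6_7.symm⟩, h⟩
                        have hz_7_4 : T.a x7 x4 = 0 := by rw [hsym]; exact hz_4_7
                        have hz_5_7 : T.a x5 x7 = 0 := by
                          by_contra h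
                          exact hq_5 ⟨x7, ⟨hne_0_7.symm, hne_1_7.symm, hne_2_7.symm, hne_3_7.symm, hne_4_7.symm, hne_5_7.symm, hne_6_7.symm⟩, h⟩
                        have hz_7_5 : T.a x7 x5 = 0 := by rw [hsym]; exact hz_5_7
                        have hz_6_7 : T.a x6 x7 = 0 := by
                          by_contra h
                          exact hq_6 ⟨x7, ⟨hne_0_7.symm, hne_1_7.symm, hne_2_7.symm, hne_3_7.symm, hne_4_7.symm, hne_5_7.symm, hne_6_7.symm⟩, h⟩
                        have hz_7_6 : T.a x7 x6 = 0 := by rw [hsym]; exact hz_6_7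
                        exfalso
                        refine NT.cert5 T x0 x1 x2 x3 x7 hne_0_1 hne_0_2 hne_0_3 hne_0_7 hne_1_2 hne_1_3 hne_1_7 hne_2_3 hne_2_7 hne_3_7 (by norm_num) 2 1 1 1 1 (by norm_num) (by norm_num) (by norm_num) (by norm_num) (by norm_num) ?_ ?_ ?_ ?_ ?_
                        · linarith only [hd x0, hwp x0, hl_0_1, hl_0_2, hl_0_3, hl_0_7]
                        · linarith only [hd x1, hwp x1, hl_1_0, hnn x1 x2 hne_1_2, hnn x1 x3 hne_1_3, hnn x1 x7 hne_1_7]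
                        · linarith only [hd x2, hwp x2, hl_2_0, hnn x2 x1 hne_1_2.symm, hnn x2 x3 hne_2_3, hnn x2 x7 hne_2_7]
                        · linarith only [hd x3, hwp x3, hl_3_0, hnn x3 x1 hne_1_3.symm, hnn x3 x2 hne_2_3.symm, hnn x3 x7 hne_3_7]
                        · linarith only [hd x7, hwp x7, hl_7_0, hnn x7 x1 hne_1_7.symm, hnn x7 x2 hne_2_7.symm, hnn x7 x3 hne_3_7.symm]
                      · exfalso
                        refine NT.not_closed T ![x0, x1, x2, x3, x4, x5, x6] (by norm_num) (by norm_num) ?_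
                        intro s y hy
                        by_contra hcon
                        fin_cases s
                        · exact hq_0 ⟨y, ⟨fun h => hcon ⟨(0 : Fin 7), h⟩, fun h => hcon ⟨(1 : Fin 7), h⟩, fun h => hcon ⟨(2 : Fin 7), h⟩, fun h => hcon ⟨(3 : Fin 7), h⟩, fun h => hcon ⟨(4 : Fin 7), h⟩, fun h => hcon ⟨(5 : Fin 7), h⟩, fun h => hcon ⟨(6 : Fin 7), h⟩⟩, hy⟩
                        · exact hq_1 ⟨y, ⟨fun h => hcon ⟨(0 : Fin 7), h⟩, fun h => hcon ⟨(1 : Fin 7), h⟩, fun h => hcon ⟨(2 : Fin 7), h⟩, fun h => hcon ⟨(3 : Fin 7), h⟩, fun h => hcon ⟨(4 : Fin 7), h⟩, fun h => hcon ⟨(5 : Fin 7), h⟩, fun h => hcon ⟨(6 : Fin 7), h⟩⟩, hy⟩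
                        · exact hq_2 ⟨y, ⟨fun h => hcon ⟨(0 : Fin 7), h⟩, fun h => hcon ⟨(1 : Fin 7), h⟩, fun h => hcon ⟨(2 : Fin 7), h⟩, fun h => hcon ⟨(3 : Fin 7), h⟩⟩, hy⟩
                        · exact hq_3 ⟨y, ⟨fun h => hcon ⟨(0 : Fin 7), h⟩, fun h => hcon ⟨(1 : Fin 7), h⟩, fun h => hcon ⟨(2 : Fin 7), h⟩, fun h => hcon ⟨(3 : Fin 7), h⟩⟩, hy⟩
                        · exact hq_4 ⟨y, ⟨fun h => hcon ⟨(0 : Fin 7), h⟩, fun h => hcon ⟨(1 : Fin 7), h⟩, fun h => hcon ⟨(2 : Fin 7), h⟩, fun h => hcon ⟨(3 : Fin 7), h⟩, fun h => hcon ⟨(4 : Fin 7), h⟩, fun h => hcon ⟨(5 : Fin 7), h⟩, fun h => hcon ⟨(6 : Fin 7), h⟩⟩, hy⟩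
                        · exact hq_5 ⟨y, ⟨fun h => hcon ⟨(0 : Fin 7), h⟩, fun h => hcon ⟨(1 : Fin 7), h⟩, fun h => hcon ⟨(2 : Fin 7), h⟩, fun h => hcon ⟨(3 : Fin 7), h⟩, fun h => hcon ⟨(4 : Fin 7), h⟩, fun h => hcon ⟨(5 : Fin 7), h⟩, fun h => hcon ⟨(6 : Fin 7), h⟩⟩, hy⟩
                        · exact hq_6 ⟨y, ⟨fun h => hcon ⟨(0 : Fin 7), h⟩, fun h => hcon ⟨(1 : Fin 7), h⟩, fun h => hcon ⟨(2 : Fin 7), h⟩, fun h => hcon ⟨(3 : Fin 7), h⟩, fun h => hcon ⟨(4 : Fin 7), h⟩, fun h => hcon ⟨(5 : Fin 7), h⟩, fun h => hcon ⟨(6 : Fin 7), h⟩⟩, hy⟩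
            · by_cases hq_4 : ∃ y, (y ≠ x0 ∧ y ≠ x1 ∧ y ≠ x2 ∧ y ≠ x3 ∧ y ≠ x4 ∧ y ≠ x5) ∧ T.a x4 y ≠ 0
              · obtain ⟨x6, ⟨hn0, hn1, hn2, hn3, hn4, hn5⟩, hadj_4_6⟩ := hq_4
                have hne_0_6 : x0 ≠ x6 := hn0.symm
                have hne_1_6 : x1 ≠ x6 := hn1.symm
                have hne_2_6 : x2 ≠ x6 := hn2.symm
                have hne_3_6 : x3 ≠ x6 := hn3.symm
                have hne_4_6 : x4 ≠ x6 := hn4.symm
                have hne_5_6 : x5 ≠ x6 := hn5.symm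
                have hadj_6_4 : T.a x6 x4 ≠ 0 := by rw [hsym]; exact hadj_4_6
                have hl_4_6 := NT.lb1 T _ _ hne_4_6 hadj_4_6
                have hl_6_4 := NT.lb1 T _ _ hne_4_6.symm hadj_6_4
                have hs_4_6 : T.a x4 x6 = T.a x6 x4 := hsym _ _
                have hz_0_6 : T.a x0 x6 = 0 := by
                  by_contra hadj_0_6
                  have hadj_6_0 : T.a x6 x0 ≠ 0 := by rw [hsym]; exact hadj_0_6
                  have hl_0_6 := NT.lb1 T _ _ hne_0_6 hadj_0_6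
                  have hl_6_0 := NT.lb1 T _ _ hne_0_6.symm hadj_6_0
                  have hs_0_6 : T.a x0 x6 = T.a x6 x0 := hsym _ _
                  refine NT.cert4 T x0 x1 x4 x6 hne_0_1 hne_0_4 hne_0_6 hne_1_4 hne_1_6 hne_4_6 (by norm_num) 1 1 1 1 (by norm_num) (by norm_num) (by norm_num) (by norm_num) ?_ ?_ ?_ ?_
                  · linarith only [hd x0, hwp x0, hl_0_1, hnn x0 x4 hne_0_4, hl_0_6]
                  · linarith only [hd x1, hwp x1, hl_1_0, hl_1_4, hnn x1 x6 hne_1_6]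
                  · linarith only [hd x4, hwp x4, hnn x4 x0 hne_0_4.symm, hl_4_1, hl_4_6]
                  · linarith only [hd x6, hwp x6, hl_6_0, hnn x6 x1 hne_1_6.symm, hl_6_4]
                have hz_6_0 : T.a x6 x0 = 0 := by rw [hsym]; exact hz_0_6
                have hz_1_6 : T.a x1 x6 = 0 := by
                  by_contra hadj_1_6
                  have hadj_6_1 : T.a x6 x1 ≠ 0 := by rw [hsym]; exact hadj_1_6
                  have hl_1_6 := NT.lb1 T _ _ hne_1_6 hadj_1_6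
                  have hl_6_1 := NT.lb1 T _ _ hne_1_6.symm hadj_6_1
                  have hs_1_6 : T.a x1 x6 = T.a x6 x1 := hsym _ _
                  refine NT.cert3 T x1 x4 x6 hne_1_4 hne_1_6 hne_4_6 (by norm_num) 1 1 1 (by norm_num) (by norm_num) (by norm_num) ?_ ?_ ?_
                  · linarith only [hd x1, hwp x1, hl_1_4, hl_1_6]
                  · linarith only [hd x4, hwp x4, hl_4_1, hl_4_6]
                  · linarith only [hd x6, hwp x6, hl_6_1, hl_6_4]
                have hz_6_1 : T.a x6 x1 = 0 := by rw [hsym]; exact hz_1_6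
                have hz_2_6 : T.a x2 x6 = 0 := by
                  by_contra h
                  exact hq_2 ⟨x6, ⟨hne_0_6.symm, hne_1_6.symm, hne_2_6.symm, hne_3_6.symm⟩, h⟩
                have hz_6_2 : T.a x6 x2 = 0 := by rw [hsym]; exact hz_2_6
                have hz_3_6 : T.a x3 x6 = 0 := by
                  by_contra h
                  exact hq_3 ⟨x6, ⟨hne_0_6.symm, hne_1_6.symm, hne_2_6.symm, hne_3_6.symm⟩, h⟩
                have hz_6_3 : T.a x6 x3 = 0 := by rw [hsym]; exact hz_3_6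
                have hz_5_6 : T.a x5 x6 = 0 := by
                  by_contra h
                  exact hq_5 ⟨x6, ⟨hne_0_6.symm, hne_1_6.symm, hne_2_6.symm, hne_3_6.symm, hne_4_6.symm, hne_5_6.symm⟩, h⟩
                have hz_6_5 : T.a x6 x5 = 0 := by rw [hsym]; exact hz_5_6
                exfalso
                refine NT.cert7 T x0 x1 x2 x3 x4 x5 x6 hne_0_1 hne_0_2 hne_0_3 hne_0_4 hne_0_5 hne_0_6 hne_1_2 hne_1_3 hne_1_4 hne_1_5 hne_1_6 hne_2_3 hne_2_4 hne_2_5 hne_2_6 hne_3_4 hne_3_5 hne_3_6 hne_4_5 hne_4_6 hne_5_6 (by norm_num) 2 2 1 1 2 1 1 (by norm_num) (by norm_num) (by norm_num) (by norm_num) (by norm_num) (by norm_num) (by norm_num) ?_ ?_ ?_ ?_ ?_ ?_ ?_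
                · linarith only [hd x0, hwp x0, hl_0_1, hl_0_2, hl_0_3, hnn x0 x4 hne_0_4, hnn x0 x5 hne_0_5, hnn x0 x6 hne_0_6]
                · linarith only [hd x1, hwp x1, hl_1_0, hnn x1 x2 hne_1_2, hnn x1 x3 hne_1_3, hl_1_4, hnn x1 x5 hne_1_5, hnn x1 x6 hne_1_6]
                · linarith only [hd x2, hwp x2, hl_2_0, hnn x2 x1 hne_1_2.symm, hnn x2 x3 hne_2_3, hnn x2 x4 hne_2_4, hnn x2 x5 hne_2_5, hnn x2 x6 hne_2_6]
                · linarith only [hd x3, hwp x3, hl_3_0, hnn x3 x1 hne_1_3.symm, hnn x3 x2 hne_2_3.symm, hnn x3 x4 hne_3_4, hnn x3 x5 hne_3_5, hnn x3 x6 hne_3_6]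
                · linarith only [hd x4, hwp x4, hnn x4 x0 hne_0_4.symm, hl_4_1, hnn x4 x2 hne_2_4.symm, hnn x4 x3 hne_3_4.symm, hl_4_5, hl_4_6]
                · linarith only [hd x5, hwp x5, hnn x5 x0 hne_0_5.symm, hnn x5 x1 hne_1_5.symm, hnn x5 x2 hne_2_5.symm, hnn x5 x3 hne_3_5.symm, hl_5_4, hnn x5 x6 hne_5_6]
                · linarith only [hd x6, hwp x6, hnn x6 x0 hne_0_6.symm, hnn x6 x1 hne_1_6.symm, hnn x6 x2 hne_2_6.symm, hnn x6 x3 hne_3_6.symm, hl_6_4, hnn x6 x5 hne_5_6.symm]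
              · by_cases hq_1 : ∃ y, (y ≠ x0 ∧ y ≠ x1 ∧ y ≠ x2 ∧ y ≠ x3 ∧ y ≠ x4 ∧ y ≠ x5) ∧ T.a x1 y ≠ 0
                · obtain ⟨x6, ⟨hn0, hn1, hn2, hn3, hn4, hn5⟩, hadj_1_6⟩ := hq_1
                  have hne_0_6 : x0 ≠ x6 := hn0.symm
                  have hne_1_6 : x1 ≠ x6 := hn1.symm
                  have hne_2_6 : x2 ≠ x6 := hn2.symm
                  have hne_3_6 : x3 ≠ x6 := hn3.symm
                  have hne_4_6 : x4 ≠ x6 := hn4.symm
                  have hne_5_6 : x5 ≠ x6 := hn5.symm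
                  have hadj_6_1 : T.a x6 x1 ≠ 0 := by rw [hsym]; exact hadj_1_6
                  have hl_1_6 := NT.lb1 T _ _ hne_1_6 hadj_1_6
                  have hl_6_1 := NT.lb1 T _ _ hne_1_6.symm hadj_6_1
                  have hs_1_6 : T.a x1 x6 = T.a x6 x1 := hsym _ _
                  have hz_0_6 : T.a x0 x6 = 0 := by
                    by_contra hadj_0_6
                    have hadj_6_0 : T.a x6 x0 ≠ 0 := by rw [hsym]; exact hadj_0_6
                    have hl_0_6 := NT.lb1 T _ _ hne_0_6 hadj_0_6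
                    have hl_6_0 := NT.lb1 T _ _ hne_0_6.symm hadj_6_0
                    have hs_0_6 : T.a x0 x6 = T.a x6 x0 := hsym _ _
                    refine NT.cert3 T x0 x1 x6 hne_0_1 hne_0_6 hne_1_6 (by norm_num) 1 1 1 (by norm_num) (by norm_num) (by norm_num) ?_ ?_ ?_
                    · linarith only [hd x0, hwp x0, hl_0_1, hl_0_6]
                    · linarith only [hd x1, hwp x1, hl_1_0, hl_1_6]
                    · linarith only [hd x6, hwp x6, hl_6_0, hl_6_1]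
                  have hz_6_0 : T.a x6 x0 = 0 := by rw [hsym]; exact hz_0_6
                  have hz_2_6 : T.a x2 x6 = 0 := by
                    by_contra h
                    exact hq_2 ⟨x6, ⟨hne_0_6.symm, hne_1_6.symm, hne_2_6.symm, hne_3_6.symm⟩, h⟩
                  have hz_6_2 : T.a x6 x2 = 0 := by rw [hsym]; exact hz_2_6
                  have hz_3_6 : T.a x3 x6 = 0 := by
                    by_contra h
                    exact hq_3 ⟨x6, ⟨hne_0_6.symm, hne_1_6.symm, hne_2_6.symm, hne_3_6.symm⟩, h⟩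
                  have hz_6_3 : T.a x6 x3 = 0 := by rw [hsym]; exact hz_3_6
                  have hz_4_6 : T.a x4 x6 = 0 := by
                    by_contra h
                    exact hq_4 ⟨x6, ⟨hne_0_6.symm, hne_1_6.symm, hne_2_6.symm, hne_3_6.symm, hne_4_6.symm, hne_5_6.symm⟩, h⟩
                  have hz_6_4 : T.a x6 x4 = 0 := by rw [hsym]; exact hz_4_6
                  have hz_5_6 : T.a x5 x6 = 0 := by
                    by_contra h
                    exact hq_5 ⟨x6, ⟨hne_0_6.symm, hne_1_6.symm, hne_2_6.symm, hne_3_6.symm, hne_4_6.symm, hne_5_6.symm⟩, h⟩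
                  have hz_6_5 : T.a x6 x5 = 0 := by rw [hsym]; exact hz_5_6
                  exfalso
                  refine NT.cert6 T x0 x1 x2 x3 x4 x6 hne_0_1 hne_0_2 hne_0_3 hne_0_4 hne_0_6 hne_1_2 hne_1_3 hne_1_4 hne_1_6 hne_2_3 hne_2_4 hne_2_6 hne_3_4 hne_3_6 hne_4_6 (by norm_num) 2 2 1 1 1 1 (by norm_num) (by norm_num) (by norm_num) (by norm_num) (by norm_num) (by norm_num) ?_ ?_ ?_ ?_ ?_ ?_
                  · linarith only [hd x0, hwp x0, hl_0_1, hl_0_2, hl_0_3, hnn x0 x4 hne_0_4, hnn x0 x6 hne_0_6]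
                  · linarith only [hd x1, hwp x1, hl_1_0, hnn x1 x2 hne_1_2, hnn x1 x3 hne_1_3, hl_1_4, hl_1_6]
                  · linarith only [hd x2, hwp x2, hl_2_0, hnn x2 x1 hne_1_2.symm, hnn x2 x3 hne_2_3, hnn x2 x4 hne_2_4, hnn x2 x6 hne_2_6]
                  · linarith only [hd x3, hwp x3, hl_3_0, hnn x3 x1 hne_1_3.symm, hnn x3 x2 hne_2_3.symm, hnn x3 x4 hne_3_4, hnn x3 x6 hne_3_6]
                  · linarith only [hd x4, hwp x4, hnn x4 x0 hne_0_4.symm, hl_4_1, hnn x4 x2 hne_2_4.symm, hnn x4 x3 hne_3_4.symm, hnn x4 x6 hne_4_6]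
                  · linarith only [hd x6, hwp x6, hnn x6 x0 hne_0_6.symm, hl_6_1, hnn x6 x2 hne_2_6.symm, hnn x6 x3 hne_3_6.symm, hnn x6 x4 hne_4_6.symm]
                · by_cases hq_0 : ∃ y, (y ≠ x0 ∧ y ≠ x1 ∧ y ≠ x2 ∧ y ≠ x3 ∧ y ≠ x4 ∧ y ≠ x5) ∧ T.a x0 y ≠ 0
                  · obtain ⟨x6, ⟨hn0, hn1, hn2, hn3, hn4, hn5⟩, hadj_0_6⟩ := hq_0
                    have hne_0_6 : x0 ≠ x6 := hn0.symm
                    have hne_1_6 : x1 ≠ x6 := hn1.symm
                    have hne_2_6 : x2 ≠ x6 := hn2.symm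
                    have hne_3_6 : x3 ≠ x6 := hn3.symm
                    have hne_4_6 : x4 ≠ x6 := hn4.symm
                    have hne_5_6 : x5 ≠ x6 := hn5.symm
                    have hadj_6_0 : T.a x6 x0 ≠ 0 := by rw [hsym]; exact hadj_0_6
                    have hl_0_6 := NT.lb1 T _ _ hne_0_6 hadj_0_6
                    have hl_6_0 := NT.lb1 T _ _ hne_0_6.symm hadj_6_0
                    have hs_0_6 : T.a x0 x6 = T.a x6 x0 := hsym _ _
                    have hz_1_6 : T.a x1 x6 = 0 := by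
                      by_contra h
                      exact hq_1 ⟨x6, ⟨hne_0_6.symm, hne_1_6.symm, hne_2_6.symm, hne_3_6.symm, hne_4_6.symm, hne_5_6.symm⟩, h⟩
                    have hz_6_1 : T.a x6 x1 = 0 := by rw [hsym]; exact hz_1_6
                    have hz_2_6 : T.a x2 x6 = 0 := by
                      by_contra h
                      exact hq_2 ⟨x6, ⟨hne_0_6.symm, hne_1_6.symm, hne_2_6.symm, hne_3_6.symm⟩, h⟩
                    have hz_6_2 : T.a x6 x2 = 0 := by rw [hsym]; exact hz_2_6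
                    have hz_3_6 : T.a x3 x6 = 0 := by
                      by_contra h
                      exact hq_3 ⟨x6, ⟨hne_0_6.symm, hne_1_6.symm, hne_2_6.symm, hne_3_6.symm⟩, h⟩
                    have hz_6_3 : T.a x6 x3 = 0 := by rw [hsym]; exact hz_3_6
                    have hz_4_6 : T.a x4 x6 = 0 := by
                      by_contra h
                      exact hq_4 ⟨x6, ⟨hne_0_6.symm, hne_1_6.symm, hne_2_6.symm, hne_3_6.symm, hne_4_6.symm, hne_5_6.symm⟩, h⟩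
                    have hz_6_4 : T.a x6 x4 = 0 := by rw [hsym]; exact hz_4_6
                    have hz_5_6 : T.a x5 x6 = 0 := by
                      by_contra h
                      exact hq_5 ⟨x6, ⟨hne_0_6.symm, hne_1_6.symm, hne_2_6.symm, hne_3_6.symm, hne_4_6.symm, hne_5_6.symm⟩, h⟩
                    have hz_6_5 : T.a x6 x5 = 0 := by rw [hsym]; exact hz_5_6
                    exfalso
                    refine NT.cert5 T x0 x1 x2 x3 x6 hne_0_1 hne_0_2 hne_0_3 hne_0_6 hne_1_2 hne_1_3 hne_1_6 hne_2_3 hne_2_6 hne_3_6 (by norm_num) 2 1 1 1 1 (by norm_num) (by norm_num) (by norm_num) (by norm_num) (by norm_num) ?_ ?_ ?_ ?_ ?_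
                    · linarith only [hd x0, hwp x0, hl_0_1, hl_0_2, hl_0_3, hl_0_6]
                    · linarith only [hd x1, hwp x1, hl_1_0, hnn x1 x2 hne_1_2, hnn x1 x3 hne_1_3, hnn x1 x6 hne_1_6]
                    · linarith only [hd x2, hwp x2, hl_2_0, hnn x2 x1 hne_1_2.symm, hnn x2 x3 hne_2_3, hnn x2 x6 hne_2_6]
                    · linarith only [hd x3, hwp x3, hl_3_0, hnn x3 x1 hne_1_3.symm, hnn x3 x2 hne_2_3.symm, hnn x3 x6 hne_3_6]
                    · linarith only [hd x6, hwp x6, hl_6_0, hnn x6 x1 hne_1_6.symm, hnn x6 x2 hne_2_6.symm, hnn x6 x3 hne_3_6.symm]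
                  · exfalso
                    refine NT.not_closed T ![x0, x1, x2, x3, x4, x5] (by norm_num) (by norm_num) ?_
                    intro s y hy
                    by_contra hcon
                    fin_cases s
                    · exact hq_0 ⟨y, ⟨fun h => hcon ⟨(0 : Fin 6), h⟩, fun h => hcon ⟨(1 : Fin 6), h⟩, fun h => hcon ⟨(2 : Fin 6), h⟩, fun h => hcon ⟨(3 : Fin 6), h⟩, fun h => hcon ⟨(4 : Fin 6), h⟩, fun h => hcon ⟨(5 : Fin 6), h⟩⟩, hy⟩
                    · exact hq_1 ⟨y, ⟨fun h => hcon ⟨(0 : Fin 6), h⟩, fun h => hcon ⟨(1 : Fin 6), h⟩, fun h => hcon ⟨(2 : Fin 6), h⟩, fun h => hcon ⟨(3 : Fin 6), h⟩, fun h => hcon ⟨(4 : Fin 6), h⟩, fun h => hcon ⟨(5 : Fin 6), h⟩⟩, hy⟩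
                    · exact hq_2 ⟨y, ⟨fun h => hcon ⟨(0 : Fin 6), h⟩, fun h => hcon ⟨(1 : Fin 6), h⟩, fun h => hcon ⟨(2 : Fin 6), h⟩, fun h => hcon ⟨(3 : Fin 6), h⟩⟩, hy⟩
                    · exact hq_3 ⟨y, ⟨fun h => hcon ⟨(0 : Fin 6), h⟩, fun h => hcon ⟨(1 : Fin 6), h⟩, fun h => hcon ⟨(2 : Fin 6), h⟩, fun h => hcon ⟨(3 : Fin 6), h⟩⟩, hy⟩
                    · exact hq_4 ⟨y, ⟨fun h => hcon ⟨(0 : Fin 6), h⟩, fun h => hcon ⟨(1 : Fin 6), h⟩, fun h => hcon ⟨(2 : Fin 6), h⟩, fun h => hcon ⟨(3 : Fin 6), h⟩, fun h => hcon ⟨(4 : Fin 6), h⟩, fun h => hcon ⟨(5 : Fin 6), h⟩⟩, hy⟩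
                    · exact hq_5 ⟨y, ⟨fun h => hcon ⟨(0 : Fin 6), h⟩, fun h => hcon ⟨(1 : Fin 6), h⟩, fun h => hcon ⟨(2 : Fin 6), h⟩, fun h => hcon ⟨(3 : Fin 6), h⟩, fun h => hcon ⟨(4 : Fin 6), h⟩, fun h => hcon ⟨(5 : Fin 6), h⟩⟩, hy⟩
          · by_cases hq_1 : ∃ y, (y ≠ x0 ∧ y ≠ x1 ∧ y ≠ x2 ∧ y ≠ x3 ∧ y ≠ x4) ∧ T.a x1 y ≠ 0
            · obtain ⟨x5, ⟨hn0, hn1, hn2, hn3, hn4⟩, hadj_1_5⟩ := hq_1
              have hne_0_5 : x0 ≠ x5 := hn0.symm
              have hne_1_5 : x1 ≠ x5 := hn1.symm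
              have hne_2_5 : x2 ≠ x5 := hn2.symm
              have hne_3_5 : x3 ≠ x5 := hn3.symm
              have hne_4_5 : x4 ≠ x5 := hn4.symm
              have hadj_5_1 : T.a x5 x1 ≠ 0 := by rw [hsym]; exact hadj_1_5
              have hl_1_5 := NT.lb1 T _ _ hne_1_5 hadj_1_5
              have hl_5_1 := NT.lb1 T _ _ hne_1_5.symm hadj_5_1
              have hs_1_5 : T.a x1 x5 = T.a x5 x1 := hsym _ _
              have hz_0_5 : T.a x0 x5 = 0 := by
                by_contra hadj_0_5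
                have hadj_5_0 : T.a x5 x0 ≠ 0 := by rw [hsym]; exact hadj_0_5
                have hl_0_5 := NT.lb1 T _ _ hne_0_5 hadj_0_5
                have hl_5_0 := NT.lb1 T _ _ hne_0_5.symm hadj_5_0
                have hs_0_5 : T.a x0 x5 = T.a x5 x0 := hsym _ _
                refine NT.cert3 T x0 x1 x5 hne_0_1 hne_0_5 hne_1_5 (by norm_num) 1 1 1 (by norm_num) (by norm_num) (by norm_num) ?_ ?_ ?_
                · linarith only [hd x0, hwp x0, hl_0_1, hl_0_5]
                · linarith only [hd x1, hwp x1, hl_1_0, hl_1_5]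
                · linarith only [hd x5, hwp x5, hl_5_0, hl_5_1]
              have hz_5_0 : T.a x5 x0 = 0 := by rw [hsym]; exact hz_0_5
              have hz_2_5 : T.a x2 x5 = 0 := by
                by_contra h
                exact hq_2 ⟨x5, ⟨hne_0_5.symm, hne_1_5.symm, hne_2_5.symm, hne_3_5.symm⟩, h⟩
              have hz_5_2 : T.a x5 x2 = 0 := by rw [hsym]; exact hz_2_5
              have hz_3_5 : T.a x3 x5 = 0 := by
                by_contra h
                exact hq_3 ⟨x5, ⟨hne_0_5.symm, hne_1_5.symm, hne_2_5.symm, hne_3_5.symm⟩, h⟩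
              have hz_5_3 : T.a x5 x3 = 0 := by rw [hsym]; exact hz_3_5
              have hz_4_5 : T.a x4 x5 = 0 := by
                by_contra h
                exact hq_4 ⟨x5, ⟨hne_0_5.symm, hne_1_5.symm, hne_2_5.symm, hne_3_5.symm, hne_4_5.symm⟩, h⟩
              have hz_5_4 : T.a x5 x4 = 0 := by rw [hsym]; exact hz_4_5
              exfalso
              refine NT.cert6 T x0 x1 x2 x3 x4 x5 hne_0_1 hne_0_2 hne_0_3 hne_0_4 hne_0_5 hne_1_2 hne_1_3 hne_1_4 hne_1_5 hne_2_3 hne_2_4 hne_2_5 hne_3_4 hne_3_5 hne_4_5 (by norm_num) 2 2 1 1 1 1 (by norm_num) (by norm_num) (by norm_num) (by norm_num) (by norm_num) (by norm_num) ?_ ?_ ?_ ?_ ?_ ?_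
              · linarith only [hd x0, hwp x0, hl_0_1, hl_0_2, hl_0_3, hnn x0 x4 hne_0_4, hnn x0 x5 hne_0_5]
              · linarith only [hd x1, hwp x1, hl_1_0, hnn x1 x2 hne_1_2, hnn x1 x3 hne_1_3, hl_1_4, hl_1_5]
              · linarith only [hd x2, hwp x2, hl_2_0, hnn x2 x1 hne_1_2.symm, hnn x2 x3 hne_2_3, hnn x2 x4 hne_2_4, hnn x2 x5 hne_2_5]
              · linarith only [hd x3, hwp x3, hl_3_0, hnn x3 x1 hne_1_3.symm, hnn x3 x2 hne_2_3.symm, hnn x3 x4 hne_3_4, hnn x3 x5 hne_3_5]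
              · linarith only [hd x4, hwp x4, hnn x4 x0 hne_0_4.symm, hl_4_1, hnn x4 x2 hne_2_4.symm, hnn x4 x3 hne_3_4.symm, hnn x4 x5 hne_4_5]
              · linarith only [hd x5, hwp x5, hnn x5 x0 hne_0_5.symm, hl_5_1, hnn x5 x2 hne_2_5.symm, hnn x5 x3 hne_3_5.symm, hnn x5 x4 hne_4_5.symm]
            · by_cases hq_0 : ∃ y, (y ≠ x0 ∧ y ≠ x1 ∧ y ≠ x2 ∧ y ≠ x3 ∧ y ≠ x4) ∧ T.a x0 y ≠ 0
              · obtain ⟨x5, ⟨hn0, hn1, hn2, hn3, hn4⟩, hadj_0_5⟩ := hq_0
                have hne_0_5 : x0 ≠ x5 := hn0.symm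
                have hne_1_5 : x1 ≠ x5 := hn1.symm
                have hne_2_5 : x2 ≠ x5 := hn2.symm
                have hne_3_5 : x3 ≠ x5 := hn3.symm
                have hne_4_5 : x4 ≠ x5 := hn4.symm
                have hadj_5_0 : T.a x5 x0 ≠ 0 := by rw [hsym]; exact hadj_0_5
                have hl_0_5 := NT.lb1 T _ _ hne_0_5 hadj_0_5
                have hl_5_0 := NT.lb1 T _ _ hne_0_5.symm hadj_5_0
                have hs_0_5 : T.a x0 x5 = T.a x5 x0 := hsym _ _
                have hz_1_5 : T.a x1 x5 = 0 := by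
                  by_contra h
                  exact hq_1 ⟨x5, ⟨hne_0_5.symm, hne_1_5.symm, hne_2_5.symm, hne_3_5.symm, hne_4_5.symm⟩, h⟩
                have hz_5_1 : T.a x5 x1 = 0 := by rw [hsym]; exact hz_1_5
                have hz_2_5 : T.a x2 x5 = 0 := by
                  by_contra h
                  exact hq_2 ⟨x5, ⟨hne_0_5.symm, hne_1_5.symm, hne_2_5.symm, hne_3_5.symm⟩, h⟩
                have hz_5_2 : T.a x5 x2 = 0 := by rw [hsym]; exact hz_2_5
                have hz_3_5 : T.a x3 x5 = 0 := by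
                  by_contra h
                  exact hq_3 ⟨x5, ⟨hne_0_5.symm, hne_1_5.symm, hne_2_5.symm, hne_3_5.symm⟩, h⟩
                have hz_5_3 : T.a x5 x3 = 0 := by rw [hsym]; exact hz_3_5
                have hz_4_5 : T.a x4 x5 = 0 := by
                  by_contra h
                  exact hq_4 ⟨x5, ⟨hne_0_5.symm, hne_1_5.symm, hne_2_5.symm, hne_3_5.symm, hne_4_5.symm⟩, h⟩
                have hz_5_4 : T.a x5 x4 = 0 := by rw [hsym]; exact hz_4_5
                exfalso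
                refine NT.cert5 T x0 x1 x2 x3 x5 hne_0_1 hne_0_2 hne_0_3 hne_0_5 hne_1_2 hne_1_3 hne_1_5 hne_2_3 hne_2_5 hne_3_5 (by norm_num) 2 1 1 1 1 (by norm_num) (by norm_num) (by norm_num) (by norm_num) (by norm_num) ?_ ?_ ?_ ?_ ?_
                · linarith only [hd x0, hwp x0, hl_0_1, hl_0_2, hl_0_3, hl_0_5]
                · linarith only [hd x1, hwp x1, hl_1_0, hnn x1 x2 hne_1_2, hnn x1 x3 hne_1_3, hnn x1 x5 hne_1_5]
                · linarith only [hd x2, hwp x2, hl_2_0, hnn x2 x1 hne_1_2.symm, hnn x2 x3 hne_2_3, hnn x2 x5 hne_2_5]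
                · linarith only [hd x3, hwp x3, hl_3_0, hnn x3 x1 hne_1_3.symm, hnn x3 x2 hne_2_3.symm, hnn x3 x5 hne_3_5]
                · linarith only [hd x5, hwp x5, hl_5_0, hnn x5 x1 hne_1_5.symm, hnn x5 x2 hne_2_5.symm, hnn x5 x3 hne_3_5.symm]
              · exfalso
                refine NT.not_closed T ![x0, x1, x2, x3, x4] (by norm_num) (by norm_num) ?_
                intro s y hy
                by_contra hcon
                fin_cases s
                · exact hq_0 ⟨y, ⟨fun h => hcon ⟨(0 : Fin 5), h⟩, fun h => hcon ⟨(1 : Fin 5), h⟩, fun h => hcon ⟨(2 : Fin 5), h⟩, fun h => hcon ⟨(3 : Fin 5), h⟩, fun h => hcon ⟨(4 : Fin 5), h⟩⟩, hy⟩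
                · exact hq_1 ⟨y, ⟨fun h => hcon ⟨(0 : Fin 5), h⟩, fun h => hcon ⟨(1 : Fin 5), h⟩, fun h => hcon ⟨(2 : Fin 5), h⟩, fun h => hcon ⟨(3 : Fin 5), h⟩, fun h => hcon ⟨(4 : Fin 5), h⟩⟩, hy⟩
                · exact hq_2 ⟨y, ⟨fun h => hcon ⟨(0 : Fin 5), h⟩, fun h => hcon ⟨(1 : Fin 5), h⟩, fun h => hcon ⟨(2 : Fin 5), h⟩, fun h => hcon ⟨(3 : Fin 5), h⟩⟩, hy⟩
                · exact hq_3 ⟨y, ⟨fun h => hcon ⟨(0 : Fin 5), h⟩, fun h => hcon ⟨(1 : Fin 5), h⟩, fun h => hcon ⟨(2 : Fin 5), h⟩, fun h => hcon ⟨(3 : Fin 5), h⟩⟩, hy⟩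
                · exact hq_4 ⟨y, ⟨fun h => hcon ⟨(0 : Fin 5), h⟩, fun h => hcon ⟨(1 : Fin 5), h⟩, fun h => hcon ⟨(2 : Fin 5), h⟩, fun h => hcon ⟨(3 : Fin 5), h⟩, fun h => hcon ⟨(4 : Fin 5), h⟩⟩, hy⟩
        · by_cases hq_0 : ∃ y, (y ≠ x0 ∧ y ≠ x1 ∧ y ≠ x2 ∧ y ≠ x3) ∧ T.a x0 y ≠ 0
          · obtain ⟨x4, ⟨hn0, hn1, hn2, hn3⟩, hadj_0_4⟩ := hq_0
            have hne_0_4 : x0 ≠ x4 := hn0.symm
            have hne_1_4 : x1 ≠ x4 := hn1.symm
            have hne_2_4 : x2 ≠ x4 := hn2.symm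
            have hne_3_4 : x3 ≠ x4 := hn3.symm
            have hadj_4_0 : T.a x4 x0 ≠ 0 := by rw [hsym]; exact hadj_0_4
            have hl_0_4 := NT.lb1 T _ _ hne_0_4 hadj_0_4
            have hl_4_0 := NT.lb1 T _ _ hne_0_4.symm hadj_4_0
            have hs_0_4 : T.a x0 x4 = T.a x4 x0 := hsym _ _
            have hz_1_4 : T.a x1 x4 = 0 := by
              by_contra h
              exact hq_1 ⟨x4, ⟨hne_0_4.symm, hne_1_4.symm, hne_2_4.symm, hne_3_4.symm⟩, h⟩
            have hz_4_1 : T.a x4 x1 = 0 := by rw [hsym]; exact hz_1_4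
            have hz_2_4 : T.a x2 x4 = 0 := by
              by_contra h
              exact hq_2 ⟨x4, ⟨hne_0_4.symm, hne_1_4.symm, hne_2_4.symm, hne_3_4.symm⟩, h⟩
            have hz_4_2 : T.a x4 x2 = 0 := by rw [hsym]; exact hz_2_4
            have hz_3_4 : T.a x3 x4 = 0 := by
              by_contra h
              exact hq_3 ⟨x4, ⟨hne_0_4.symm, hne_1_4.symm, hne_2_4.symm, hne_3_4.symm⟩, h⟩
            have hz_4_3 : T.a x4 x3 = 0 := by rw [hsym]; exact hz_3_4
            exfalso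
            refine NT.cert5 T x0 x1 x2 x3 x4 hne_0_1 hne_0_2 hne_0_3 hne_0_4 hne_1_2 hne_1_3 hne_1_4 hne_2_3 hne_2_4 hne_3_4 (by norm_num) 2 1 1 1 1 (by norm_num) (by norm_num) (by norm_num) (by norm_num) (by norm_num) ?_ ?_ ?_ ?_ ?_
            · linarith only [hd x0, hwp x0, hl_0_1, hl_0_2, hl_0_3, hl_0_4]
            · linarith only [hd x1, hwp x1, hl_1_0, hnn x1 x2 hne_1_2, hnn x1 x3 hne_1_3, hnn x1 x4 hne_1_4]
            · linarith only [hd x2, hwp x2, hl_2_0, hnn x2 x1 hne_1_2.symm, hnn x2 x3 hne_2_3, hnn x2 x4 hne_2_4]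
            · linarith only [hd x3, hwp x3, hl_3_0, hnn x3 x1 hne_1_3.symm, hnn x3 x2 hne_2_3.symm, hnn x3 x4 hne_3_4]
            · linarith only [hd x4, hwp x4, hl_4_0, hnn x4 x1 hne_1_4.symm, hnn x4 x2 hne_2_4.symm, hnn x4 x3 hne_3_4.symm]
          · exfalso
            refine NT.not_closed T ![x0, x1, x2, x3] (by norm_num) (by norm_num) ?_
            intro s y hy
            by_contra hcon
            fin_cases s
            · exact hq_0 ⟨y, ⟨fun h => hcon ⟨(0 : Fin 4), h⟩, fun h => hcon ⟨(1 : Fin 4), h⟩, fun h => hcon ⟨(2 : Fin 4), h⟩, fun h => hcon ⟨(3 : Fin 4), h⟩⟩, hy⟩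
            · exact hq_1 ⟨y, ⟨fun h => hcon ⟨(0 : Fin 4), h⟩, fun h => hcon ⟨(1 : Fin 4), h⟩, fun h => hcon ⟨(2 : Fin 4), h⟩, fun h => hcon ⟨(3 : Fin 4), h⟩⟩, hy⟩
            · exact hq_2 ⟨y, ⟨fun h => hcon ⟨(0 : Fin 4), h⟩, fun h => hcon ⟨(1 : Fin 4), h⟩, fun h => hcon ⟨(2 : Fin 4), h⟩, fun h => hcon ⟨(3 : Fin 4), h⟩⟩, hy⟩
            · exact hq_3 ⟨y, ⟨fun h => hcon ⟨(0 : Fin 4), h⟩, fun h => hcon ⟨(1 : Fin 4), h⟩, fun h => hcon ⟨(2 : Fin 4), h⟩, fun h => hcon ⟨(3 : Fin 4), h⟩⟩, hy⟩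
  · by_cases hleaf : ∃ x y : Fin 8, x ≠ y ∧ T.a x y ≠ 0 ∧ ∀ z, T.a x z ≠ 0 → z = x ∨ z = y
    · obtain ⟨x0, x1, hne_0_1, hadj_0_1, hlf⟩ := hleaf
      have hadj_1_0 : T.a x1 x0 ≠ 0 := by rw [hsym]; exact hadj_0_1
      have hl_0_1 := NT.lb1 T _ _ hne_0_1 hadj_0_1
      have hl_1_0 := NT.lb1 T _ _ hne_0_1.symm hadj_1_0
      have hs_0_1 : T.a x0 x1 = T.a x1 x0 := hsym _ _
      have hq_0 : ¬ ∃ y, (y ≠ x0 ∧ y ≠ x1) ∧ T.a x0 y ≠ 0 := by
        rintro ⟨y, ⟨h0, h1⟩, h⟩
        rcases hlf y h with e | e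
        · exact h0 e
        · exact h1 e
      by_cases hq_1 : ∃ y, (y ≠ x0 ∧ y ≠ x1) ∧ T.a x1 y ≠ 0
      · obtain ⟨x2, ⟨hn0, hn1⟩, hadj_1_2⟩ := hq_1
        have hne_0_2 : x0 ≠ x2 := hn0.symm
        have hne_1_2 : x1 ≠ x2 := hn1.symm
        have hadj_2_1 : T.a x2 x1 ≠ 0 := by rw [hsym]; exact hadj_1_2
        have hl_1_2 := NT.lb1 T _ _ hne_1_2 hadj_1_2
        have hl_2_1 := NT.lb1 T _ _ hne_1_2.symm hadj_2_1
        have hs_1_2 : T.a x1 x2 = T.a x2 x1 := hsym _ _
        have hz_0_2 : T.a x0 x2 = 0 := by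
          by_contra h
          exact hq_0 ⟨x2, ⟨hne_0_2.symm, hne_1_2.symm⟩, h⟩
        have hz_2_0 : T.a x2 x0 = 0 := by rw [hsym]; exact hz_0_2
        by_cases hq_2 : ∃ y, (y ≠ x0 ∧ y ≠ x1 ∧ y ≠ x2) ∧ T.a x2 y ≠ 0
        · obtain ⟨x3, ⟨hn0, hn1, hn2⟩, hadj_2_3⟩ := hq_2
          have hne_0_3 : x0 ≠ x3 := hn0.symm
          have hne_1_3 : x1 ≠ x3 := hn1.symm
          have hne_2_3 : x2 ≠ x3 := hn2.symm
          have hadj_3_2 : T.a x3 x2 ≠ 0 := by rw [hsym]; exact hadj_2_3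
          have hl_2_3 := NT.lb1 T _ _ hne_2_3 hadj_2_3
          have hl_3_2 := NT.lb1 T _ _ hne_2_3.symm hadj_3_2
          have hs_2_3 : T.a x2 x3 = T.a x3 x2 := hsym _ _
          have hz_0_3 : T.a x0 x3 = 0 := by
            by_contra h
            exact hq_0 ⟨x3, ⟨hne_0_3.symm, hne_1_3.symm⟩, h⟩
          have hz_3_0 : T.a x3 x0 = 0 := by rw [hsym]; exact hz_0_3
          have hz_1_3 : T.a x1 x3 = 0 := by
            by_contra hadj_1_3
            have hadj_3_1 : T.a x3 x1 ≠ 0 := by rw [hsym]; exact hadj_1_3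
            have hl_1_3 := NT.lb1 T _ _ hne_1_3 hadj_1_3
            have hl_3_1 := NT.lb1 T _ _ hne_1_3.symm hadj_3_1
            have hs_1_3 : T.a x1 x3 = T.a x3 x1 := hsym _ _
            exact h3 ⟨x1, x0, x2, x3, hne_0_1.symm, hne_1_2, hne_1_3, hne_0_2, hne_0_3, hne_2_3, hadj_1_0, hadj_1_2, hadj_1_3⟩
          have hz_3_1 : T.a x3 x1 = 0 := by rw [hsym]; exact hz_1_3
          by_cases hq_3 : ∃ y, (y ≠ x0 ∧ y ≠ x1 ∧ y ≠ x2 ∧ y ≠ x3) ∧ T.a x3 y ≠ 0
          · obtain ⟨x4, ⟨hn0, hn1, hn2, hn3⟩, hadj_3_4⟩ := hq_3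
            have hne_0_4 : x0 ≠ x4 := hn0.symm
            have hne_1_4 : x1 ≠ x4 := hn1.symm
            have hne_2_4 : x2 ≠ x4 := hn2.symm
            have hne_3_4 : x3 ≠ x4 := hn3.symm
            have hadj_4_3 : T.a x4 x3 ≠ 0 := by rw [hsym]; exact hadj_3_4
            have hl_3_4 := NT.lb1 T _ _ hne_3_4 hadj_3_4
            have hl_4_3 := NT.lb1 T _ _ hne_3_4.symm hadj_4_3
            have hs_3_4 : T.a x3 x4 = T.a x4 x3 := hsym _ _
            have hz_0_4 : T.a x0 x4 = 0 := by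
              by_contra h
              exact hq_0 ⟨x4, ⟨hne_0_4.symm, hne_1_4.symm⟩, h⟩
            have hz_4_0 : T.a x4 x0 = 0 := by rw [hsym]; exact hz_0_4
            have hz_1_4 : T.a x1 x4 = 0 := by
              by_contra hadj_1_4
              have hadj_4_1 : T.a x4 x1 ≠ 0 := by rw [hsym]; exact hadj_1_4
              have hl_1_4 := NT.lb1 T _ _ hne_1_4 hadj_1_4
              have hl_4_1 := NT.lb1 T _ _ hne_1_4.symm hadj_4_1
              have hs_1_4 : T.a x1 x4 = T.a x4 x1 := hsym _ _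
              exact h3 ⟨x1, x0, x2, x4, hne_0_1.symm, hne_1_2, hne_1_4, hne_0_2, hne_0_4, hne_2_4, hadj_1_0, hadj_1_2, hadj_1_4⟩
            have hz_4_1 : T.a x4 x1 = 0 := by rw [hsym]; exact hz_1_4
            have hz_2_4 : T.a x2 x4 = 0 := by
              by_contra hadj_2_4
              have hadj_4_2 : T.a x4 x2 ≠ 0 := by rw [hsym]; exact hadj_2_4
              have hl_2_4 := NT.lb1 T _ _ hne_2_4 hadj_2_4
              have hl_4_2 := NT.lb1 T _ _ hne_2_4.symm hadj_4_2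
              have hs_2_4 : T.a x2 x4 = T.a x4 x2 := hsym _ _
              exact h3 ⟨x2, x1, x3, x4, hne_1_2.symm, hne_2_3, hne_2_4, hne_1_3, hne_1_4, hne_3_4, hadj_2_1, hadj_2_3, hadj_2_4⟩
            have hz_4_2 : T.a x4 x2 = 0 := by rw [hsym]; exact hz_2_4
            by_cases hq_4 : ∃ y, (y ≠ x0 ∧ y ≠ x1 ∧ y ≠ x2 ∧ y ≠ x3 ∧ y ≠ x4) ∧ T.a x4 y ≠ 0
            · obtain ⟨x5, ⟨hn0, hn1, hn2, hn3, hn4⟩, hadj_4_5⟩ := hq_4
              have hne_0_5 : x0 ≠ x5 := hn0.symm
              have hne_1_5 : x1 ≠ x5 := hn1.symm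
              have hne_2_5 : x2 ≠ x5 := hn2.symm
              have hne_3_5 : x3 ≠ x5 := hn3.symm
              have hne_4_5 : x4 ≠ x5 := hn4.symm
              have hadj_5_4 : T.a x5 x4 ≠ 0 := by rw [hsym]; exact hadj_4_5
              have hl_4_5 := NT.lb1 T _ _ hne_4_5 hadj_4_5
              have hl_5_4 := NT.lb1 T _ _ hne_4_5.symm hadj_5_4
              have hs_4_5 : T.a x4 x5 = T.a x5 x4 := hsym _ _
              have hz_0_5 : T.a x0 x5 = 0 := by
                by_contra h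
                exact hq_0 ⟨x5, ⟨hne_0_5.symm, hne_1_5.symm⟩, h⟩
              have hz_5_0 : T.a x5 x0 = 0 := by rw [hsym]; exact hz_0_5
              have hz_1_5 : T.a x1 x5 = 0 := by
                by_contra hadj_1_5
                have hadj_5_1 : T.a x5 x1 ≠ 0 := by rw [hsym]; exact hadj_1_5
                have hl_1_5 := NT.lb1 T _ _ hne_1_5 hadj_1_5
                have hl_5_1 := NT.lb1 T _ _ hne_1_5.symm hadj_5_1
                have hs_1_5 : T.a x1 x5 = T.a x5 x1 := hsym _ _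
                exact h3 ⟨x1, x0, x2, x5, hne_0_1.symm, hne_1_2, hne_1_5, hne_0_2, hne_0_5, hne_2_5, hadj_1_0, hadj_1_2, hadj_1_5⟩
              have hz_5_1 : T.a x5 x1 = 0 := by rw [hsym]; exact hz_1_5
              have hz_2_5 : T.a x2 x5 = 0 := by
                by_contra hadj_2_5
                have hadj_5_2 : T.a x5 x2 ≠ 0 := by rw [hsym]; exact hadj_2_5
                have hl_2_5 := NT.lb1 T _ _ hne_2_5 hadj_2_5
                have hl_5_2 := NT.lb1 T _ _ hne_2_5.symm hadj_5_2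
                have hs_2_5 : T.a x2 x5 = T.a x5 x2 := hsym _ _
                exact h3 ⟨x2, x1, x3, x5, hne_1_2.symm, hne_2_3, hne_2_5, hne_1_3, hne_1_5, hne_3_5, hadj_2_1, hadj_2_3, hadj_2_5⟩
              have hz_5_2 : T.a x5 x2 = 0 := by rw [hsym]; exact hz_2_5
              have hz_3_5 : T.a x3 x5 = 0 := by
                by_contra hadj_3_5
                have hadj_5_3 : T.a x5 x3 ≠ 0 := by rw [hsym]; exact hadj_3_5
                have hl_3_5 := NT.lb1 T _ _ hne_3_5 hadj_3_5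
                have hl_5_3 := NT.lb1 T _ _ hne_3_5.symm hadj_5_3
                have hs_3_5 : T.a x3 x5 = T.a x5 x3 := hsym _ _
                exact h3 ⟨x3, x2, x4, x5, hne_2_3.symm, hne_3_4, hne_3_5, hne_2_4, hne_2_5, hne_4_5, hadj_3_2, hadj_3_4, hadj_3_5⟩
              have hz_5_3 : T.a x5 x3 = 0 := by rw [hsym]; exact hz_3_5
              by_cases hq_5 : ∃ y, (y ≠ x0 ∧ y ≠ x1 ∧ y ≠ x2 ∧ y ≠ x3 ∧ y ≠ x4 ∧ y ≠ x5) ∧ T.a x5 y ≠ 0
              · obtain ⟨x6, ⟨hn0, hn1, hn2, hn3, hn4, hn5⟩, hadj_5_6⟩ := hq_5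
                have hne_0_6 : x0 ≠ x6 := hn0.symm
                have hne_1_6 : x1 ≠ x6 := hn1.symm
                have hne_2_6 : x2 ≠ x6 := hn2.symm
                have hne_3_6 : x3 ≠ x6 := hn3.symm
                have hne_4_6 : x4 ≠ x6 := hn4.symm
                have hne_5_6 : x5 ≠ x6 := hn5.symm
                have hadj_6_5 : T.a x6 x5 ≠ 0 := by rw [hsym]; exact hadj_5_6
                have hl_5_6 := NT.lb1 T _ _ hne_5_6 hadj_5_6
                have hl_6_5 := NT.lb1 T _ _ hne_5_6.symm hadj_6_5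
                have hs_5_6 : T.a x5 x6 = T.a x6 x5 := hsym _ _
                have hz_0_6 : T.a x0 x6 = 0 := by
                  by_contra h
                  exact hq_0 ⟨x6, ⟨hne_0_6.symm, hne_1_6.symm⟩, h⟩
                have hz_6_0 : T.a x6 x0 = 0 := by rw [hsym]; exact hz_0_6
                have hz_1_6 : T.a x1 x6 = 0 := by
                  by_contra hadj_1_6
                  have hadj_6_1 : T.a x6 x1 ≠ 0 := by rw [hsym]; exact hadj_1_6
                  have hl_1_6 := NT.lb1 T _ _ hne_1_6 hadj_1_6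
                  have hl_6_1 := NT.lb1 T _ _ hne_1_6.symm hadj_6_1
                  have hs_1_6 : T.a x1 x6 = T.a x6 x1 := hsym _ _
                  exact h3 ⟨x1, x0, x2, x6, hne_0_1.symm, hne_1_2, hne_1_6, hne_0_2, hne_0_6, hne_2_6, hadj_1_0, hadj_1_2, hadj_1_6⟩
                have hz_6_1 : T.a x6 x1 = 0 := by rw [hsym]; exact hz_1_6
                have hz_2_6 : T.a x2 x6 = 0 := by
                  by_contra hadj_2_6
                  have hadj_6_2 : T.a x6 x2 ≠ 0 := by rw [hsym]; exact hadj_2_6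
                  have hl_2_6 := NT.lb1 T _ _ hne_2_6 hadj_2_6
                  have hl_6_2 := NT.lb1 T _ _ hne_2_6.symm hadj_6_2
                  have hs_2_6 : T.a x2 x6 = T.a x6 x2 := hsym _ _
                  exact h3 ⟨x2, x1, x3, x6, hne_1_2.symm, hne_2_3, hne_2_6, hne_1_3, hne_1_6, hne_3_6, hadj_2_1, hadj_2_3, hadj_2_6⟩
                have hz_6_2 : T.a x6 x2 = 0 := by rw [hsym]; exact hz_2_6
                have hz_3_6 : T.a x3 x6 = 0 := by
                  by_contra hadj_3_6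
                  have hadj_6_3 : T.a x6 x3 ≠ 0 := by rw [hsym]; exact hadj_3_6
                  have hl_3_6 := NT.lb1 T _ _ hne_3_6 hadj_3_6
                  have hl_6_3 := NT.lb1 T _ _ hne_3_6.symm hadj_6_3
                  have hs_3_6 : T.a x3 x6 = T.a x6 x3 := hsym _ _
                  exact h3 ⟨x3, x2, x4, x6, hne_2_3.symm, hne_3_4, hne_3_6, hne_2_4, hne_2_6, hne_4_6, hadj_3_2, hadj_3_4, hadj_3_6⟩
                have hz_6_3 : T.a x6 x3 = 0 := by rw [hsym]; exact hz_3_6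
                have hz_4_6 : T.a x4 x6 = 0 := by
                  by_contra hadj_4_6
                  have hadj_6_4 : T.a x6 x4 ≠ 0 := by rw [hsym]; exact hadj_4_6
                  have hl_4_6 := NT.lb1 T _ _ hne_4_6 hadj_4_6
                  have hl_6_4 := NT.lb1 T _ _ hne_4_6.symm hadj_6_4
                  have hs_4_6 : T.a x4 x6 = T.a x6 x4 := hsym _ _
                  exact h3 ⟨x4, x3, x5, x6, hne_3_4.symm, hne_4_5, hne_4_6, hne_3_5, hne_3_6, hne_5_6, hadj_4_3, hadj_4_5, hadj_4_6⟩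
                have hz_6_4 : T.a x6 x4 = 0 := by rw [hsym]; exact hz_4_6
                by_cases hq_6 : ∃ y, (y ≠ x0 ∧ y ≠ x1 ∧ y ≠ x2 ∧ y ≠ x3 ∧ y ≠ x4 ∧ y ≠ x5 ∧ y ≠ x6) ∧ T.a x6 y ≠ 0
                · obtain ⟨x7, ⟨hn0, hn1, hn2, hn3, hn4, hn5, hn6⟩, hadj_6_7⟩ := hq_6
                  have hne_0_7 : x0 ≠ x7 := hn0.symm
                  have hne_1_7 : x1 ≠ x7 := hn1.symm
                  have hne_2_7 : x2 ≠ x7 := hn2.symm
                  have hne_3_7 : x3 ≠ x7 := hn3.symm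
                  have hne_4_7 : x4 ≠ x7 := hn4.symm
                  have hne_5_7 : x5 ≠ x7 := hn5.symm
                  have hne_6_7 : x6 ≠ x7 := hn6.symm
                  have hadj_7_6 : T.a x7 x6 ≠ 0 := by rw [hsym]; exact hadj_6_7
                  have hl_6_7 := NT.lb1 T _ _ hne_6_7 hadj_6_7
                  have hl_7_6 := NT.lb1 T _ _ hne_6_7.symm hadj_7_6
                  have hs_6_7 : T.a x6 x7 = T.a x7 x6 := hsym _ _
                  have hz_0_7 : T.a x0 x7 = 0 := by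
                    by_contra h
                    exact hq_0 ⟨x7, ⟨hne_0_7.symm, hne_1_7.symm⟩, h⟩
                  have hz_7_0 : T.a x7 x0 = 0 := by rw [hsym]; exact hz_0_7
                  have hz_1_7 : T.a x1 x7 = 0 := by
                    by_contra hadj_1_7
                    have hadj_7_1 : T.a x7 x1 ≠ 0 := by rw [hsym]; exact hadj_1_7
                    have hl_1_7 := NT.lb1 T _ _ hne_1_7 hadj_1_7
                    have hl_7_1 := NT.lb1 T _ _ hne_1_7.symm hadj_7_1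
                    have hs_1_7 : T.a x1 x7 = T.a x7 x1 := hsym _ _
                    exact h3 ⟨x1, x0, x2, x7, hne_0_1.symm, hne_1_2, hne_1_7, hne_0_2, hne_0_7, hne_2_7, hadj_1_0, hadj_1_2, hadj_1_7⟩
                  have hz_7_1 : T.a x7 x1 = 0 := by rw [hsym]; exact hz_1_7
                  have hz_2_7 : T.a x2 x7 = 0 := by
                    by_contra hadj_2_7
                    have hadj_7_2 : T.a x7 x2 ≠ 0 := by rw [hsym]; exact hadj_2_7
                    have hl_2_7 := NT.lb1 T _ _ hne_2_7 hadj_2_7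
                    have hl_7_2 := NT.lb1 T _ _ hne_2_7.symm hadj_7_2
                    have hs_2_7 : T.a x2 x7 = T.a x7 x2 := hsym _ _
                    exact h3 ⟨x2, x1, x3, x7, hne_1_2.symm, hne_2_3, hne_2_7, hne_1_3, hne_1_7, hne_3_7, hadj_2_1, hadj_2_3, hadj_2_7⟩
                  have hz_7_2 : T.a x7 x2 = 0 := by rw [hsym]; exact hz_2_7
                  have hz_3_7 : T.a x3 x7 = 0 := by
                    by_contra hadj_3_7
                    have hadj_7_3 : T.a x7 x3 ≠ 0 := by rw [hsym]; exact hadj_3_7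
                    have hl_3_7 := NT.lb1 T _ _ hne_3_7 hadj_3_7
                    have hl_7_3 := NT.lb1 T _ _ hne_3_7.symm hadj_7_3
                    have hs_3_7 : T.a x3 x7 = T.a x7 x3 := hsym _ _
                    exact h3 ⟨x3, x2, x4, x7, hne_2_3.symm, hne_3_4, hne_3_7, hne_2_4, hne_2_7, hne_4_7, hadj_3_2, hadj_3_4, hadj_3_7⟩
                  have hz_7_3 : T.a x7 x3 = 0 := by rw [hsym]; exact hz_3_7
                  have hz_4_7 : T.a x4 x7 = 0 := by
                    by_contra hadj_4_7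
                    have hadj_7_4 : T.a x7 x4 ≠ 0 := by rw [hsym]; exact hadj_4_7
                    have hl_4_7 := NT.lb1 T _ _ hne_4_7 hadj_4_7
                    have hl_7_4 := NT.lb1 T _ _ hne_4_7.symm hadj_7_4
                    have hs_4_7 : T.a x4 x7 = T.a x7 x4 := hsym _ _
                    exact h3 ⟨x4, x3, x5, x7, hne_3_4.symm, hne_4_5, hne_4_7, hne_3_5, hne_3_7, hne_5_7, hadj_4_3, hadj_4_5, hadj_4_7⟩
                  have hz_7_4 : T.a x7 x4 = 0 := by rw [hsym]; exact hz_4_7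
                  have hz_5_7 : T.a x5 x7 = 0 := by
                    by_contra hadj_5_7
                    have hadj_7_5 : T.a x7 x5 ≠ 0 := by rw [hsym]; exact hadj_5_7
                    have hl_5_7 := NT.lb1 T _ _ hne_5_7 hadj_5_7
                    have hl_7_5 := NT.lb1 T _ _ hne_5_7.symm hadj_7_5
                    have hs_5_7 : T.a x5 x7 = T.a x7 x5 := hsym _ _
                    exact h3 ⟨x5, x4, x6, x7, hne_4_5.symm, hne_5_6, hne_5_7, hne_4_6, hne_4_7, hne_6_7, hadj_5_4, hadj_5_6, hadj_5_7⟩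
                  have hz_7_5 : T.a x7 x5 = 0 := by rw [hsym]; exact hz_5_7
                  exact G8.shape15 T hall x0 x1 x2 x3 x4 x5 x6 x7 hne_0_1 hne_0_2 hne_0_3 hne_0_4 hne_0_5 hne_0_6 hne_0_7 hne_1_2 hne_1_3 hne_1_4 hne_1_5 hne_1_6 hne_1_7 hne_2_3 hne_2_4 hne_2_5 hne_2_6 hne_2_7 hne_3_4 hne_3_5 hne_3_6 hne_3_7 hne_4_5 hne_4_6 hne_4_7 hne_5_6 hne_5_7 hne_6_7 hadj_0_1 hz_0_2 hz_0_3 hz_0_4 hz_0_5 hz_0_6 hz_0_7 hadj_1_2 hz_1_3 hz_1_4 hz_1_5 hz_1_6 hz_1_7 hadj_2_3 hz_2_4 hz_2_5 hz_2_6 hz_2_7 hadj_3_4 hz_3_5 hz_3_6 hz_3_7 hadj_4_5 hz_4_6 hz_4_7 hadj_5_6 hz_5_7 hadj_6_7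
                · by_cases hq_5 : ∃ y, (y ≠ x0 ∧ y ≠ x1 ∧ y ≠ x2 ∧ y ≠ x3 ∧ y ≠ x4 ∧ y ≠ x5 ∧ y ≠ x6) ∧ T.a x5 y ≠ 0
                  · obtain ⟨x7, ⟨hn0, hn1, hn2, hn3, hn4, hn5, hn6⟩, hadj_5_7⟩ := hq_5
                    have hne_0_7 : x0 ≠ x7 := hn0.symm
                    have hne_1_7 : x1 ≠ x7 := hn1.symm
                    have hne_2_7 : x2 ≠ x7 := hn2.symm
                    have hne_3_7 : x3 ≠ x7 := hn3.symm
                    have hne_4_7 : x4 ≠ x7 := hn4.symm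
                    have hne_5_7 : x5 ≠ x7 := hn5.symm
                    have hne_6_7 : x6 ≠ x7 := hn6.symm
                    have hadj_7_5 : T.a x7 x5 ≠ 0 := by rw [hsym]; exact hadj_5_7
                    have hl_5_7 := NT.lb1 T _ _ hne_5_7 hadj_5_7
                    have hl_7_5 := NT.lb1 T _ _ hne_5_7.symm hadj_7_5
                    have hs_5_7 : T.a x5 x7 = T.a x7 x5 := hsym _ _
                    have hz_0_7 : T.a x0 x7 = 0 := by
                      by_contra h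
                      exact hq_0 ⟨x7, ⟨hne_0_7.symm, hne_1_7.symm⟩, h⟩
                    have hz_7_0 : T.a x7 x0 = 0 := by rw [hsym]; exact hz_0_7
                    have hz_1_7 : T.a x1 x7 = 0 := by
                      by_contra hadj_1_7
                      have hadj_7_1 : T.a x7 x1 ≠ 0 := by rw [hsym]; exact hadj_1_7
                      have hl_1_7 := NT.lb1 T _ _ hne_1_7 hadj_1_7
                      have hl_7_1 := NT.lb1 T _ _ hne_1_7.symm hadj_7_1
                      have hs_1_7 : T.a x1 x7 = T.a x7 x1 := hsym _ _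
                      exact h3 ⟨x1, x0, x2, x7, hne_0_1.symm, hne_1_2, hne_1_7, hne_0_2, hne_0_7, hne_2_7, hadj_1_0, hadj_1_2, hadj_1_7⟩
                    have hz_7_1 : T.a x7 x1 = 0 := by rw [hsym]; exact hz_1_7
                    have hz_2_7 : T.a x2 x7 = 0 := by
                      by_contra hadj_2_7
                      have hadj_7_2 : T.a x7 x2 ≠ 0 := by rw [hsym]; exact hadj_2_7
                      have hl_2_7 := NT.lb1 T _ _ hne_2_7 hadj_2_7
                      have hl_7_2 := NT.lb1 T _ _ hne_2_7.symm hadj_7_2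
                      have hs_2_7 : T.a x2 x7 = T.a x7 x2 := hsym _ _
                      exact h3 ⟨x2, x1, x3, x7, hne_1_2.symm, hne_2_3, hne_2_7, hne_1_3, hne_1_7, hne_3_7, hadj_2_1, hadj_2_3, hadj_2_7⟩
                    have hz_7_2 : T.a x7 x2 = 0 := by rw [hsym]; exact hz_2_7
                    have hz_3_7 : T.a x3 x7 = 0 := by
                      by_contra hadj_3_7
                      have hadj_7_3 : T.a x7 x3 ≠ 0 := by rw [hsym]; exact hadj_3_7
                      have hl_3_7 := NT.lb1 T _ _ hne_3_7 hadj_3_7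
                      have hl_7_3 := NT.lb1 T _ _ hne_3_7.symm hadj_7_3
                      have hs_3_7 : T.a x3 x7 = T.a x7 x3 := hsym _ _
                      exact h3 ⟨x3, x2, x4, x7, hne_2_3.symm, hne_3_4, hne_3_7, hne_2_4, hne_2_7, hne_4_7, hadj_3_2, hadj_3_4, hadj_3_7⟩
                    have hz_7_3 : T.a x7 x3 = 0 := by rw [hsym]; exact hz_3_7
                    have hz_4_7 : T.a x4 x7 = 0 := by
                      by_contra hadj_4_7
                      have hadj_7_4 : T.a x7 x4 ≠ 0 := by rw [hsym]; exact hadj_4_7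
                      have hl_4_7 := NT.lb1 T _ _ hne_4_7 hadj_4_7
                      have hl_7_4 := NT.lb1 T _ _ hne_4_7.symm hadj_7_4
                      have hs_4_7 : T.a x4 x7 = T.a x7 x4 := hsym _ _
                      exact h3 ⟨x4, x3, x5, x7, hne_3_4.symm, hne_4_5, hne_4_7, hne_3_5, hne_3_7, hne_5_7, hadj_4_3, hadj_4_5, hadj_4_7⟩
                    have hz_7_4 : T.a x7 x4 = 0 := by rw [hsym]; exact hz_4_7
                    have hz_6_7 : T.a x6 x7 = 0 := by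
                      by_contra h
                      exact hq_6 ⟨x7, ⟨hne_0_7.symm, hne_1_7.symm, hne_2_7.symm, hne_3_7.symm, hne_4_7.symm, hne_5_7.symm, hne_6_7.symm⟩, h⟩
                    have hz_7_6 : T.a x7 x6 = 0 := by rw [hsym]; exact hz_6_7
                    exact (h3 ⟨x5, x4, x6, x7, hne_4_5.symm, hne_5_6, hne_5_7, hne_4_6, hne_4_7, hne_6_7, hadj_5_4, hadj_5_6, hadj_5_7⟩).elim
                  · by_cases hq_4 : ∃ y, (y ≠ x0 ∧ y ≠ x1 ∧ y ≠ x2 ∧ y ≠ x3 ∧ y ≠ x4 ∧ y ≠ x5 ∧ y ≠ x6) ∧ T.a x4 y ≠ 0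
                    · obtain ⟨x7, ⟨hn0, hn1, hn2, hn3, hn4, hn5, hn6⟩, hadj_4_7⟩ := hq_4
                      have hne_0_7 : x0 ≠ x7 := hn0.symm
                      have hne_1_7 : x1 ≠ x7 := hn1.symm
                      have hne_2_7 : x2 ≠ x7 := hn2.symm
                      have hne_3_7 : x3 ≠ x7 := hn3.symm
                      have hne_4_7 : x4 ≠ x7 := hn4.symm
                      have hne_5_7 : x5 ≠ x7 := hn5.symm
                      have hne_6_7 : x6 ≠ x7 := hn6.symm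
                      have hadj_7_4 : T.a x7 x4 ≠ 0 := by rw [hsym]; exact hadj_4_7
                      have hl_4_7 := NT.lb1 T _ _ hne_4_7 hadj_4_7
                      have hl_7_4 := NT.lb1 T _ _ hne_4_7.symm hadj_7_4
                      have hs_4_7 : T.a x4 x7 = T.a x7 x4 := hsym _ _
                      have hz_0_7 : T.a x0 x7 = 0 := by
                        by_contra h
                        exact hq_0 ⟨x7, ⟨hne_0_7.symm, hne_1_7.symm⟩, h⟩
                      have hz_7_0 : T.a x7 x0 = 0 := by rw [hsym]; exact hz_0_7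
                      have hz_1_7 : T.a x1 x7 = 0 := by
                        by_contra hadj_1_7
                        have hadj_7_1 : T.a x7 x1 ≠ 0 := by rw [hsym]; exact hadj_1_7
                        have hl_1_7 := NT.lb1 T _ _ hne_1_7 hadj_1_7
                        have hl_7_1 := NT.lb1 T _ _ hne_1_7.symm hadj_7_1
                        have hs_1_7 : T.a x1 x7 = T.a x7 x1 := hsym _ _
                        exact h3 ⟨x1, x0, x2, x7, hne_0_1.symm, hne_1_2, hne_1_7, hne_0_2, hne_0_7, hne_2_7, hadj_1_0, hadj_1_2, hadj_1_7⟩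
                      have hz_7_1 : T.a x7 x1 = 0 := by rw [hsym]; exact hz_1_7
                      have hz_2_7 : T.a x2 x7 = 0 := by
                        by_contra hadj_2_7
                        have hadj_7_2 : T.a x7 x2 ≠ 0 := by rw [hsym]; exact hadj_2_7
                        have hl_2_7 := NT.lb1 T _ _ hne_2_7 hadj_2_7
                        have hl_7_2 := NT.lb1 T _ _ hne_2_7.symm hadj_7_2
                        have hs_2_7 : T.a x2 x7 = T.a x7 x2 := hsym _ _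
                        exact h3 ⟨x2, x1, x3, x7, hne_1_2.symm, hne_2_3, hne_2_7, hne_1_3, hne_1_7, hne_3_7, hadj_2_1, hadj_2_3, hadj_2_7⟩
                      have hz_7_2 : T.a x7 x2 = 0 := by rw [hsym]; exact hz_2_7
                      have hz_3_7 : T.a x3 x7 = 0 := by
                        by_contra hadj_3_7
                        have hadj_7_3 : T.a x7 x3 ≠ 0 := by rw [hsym]; exact hadj_3_7
                        have hl_3_7 := NT.lb1 T _ _ hne_3_7 hadj_3_7
                        have hl_7_3 := NT.lb1 T _ _ hne_3_7.symm hadj_7_3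
                        have hs_3_7 : T.a x3 x7 = T.a x7 x3 := hsym _ _
                        exact h3 ⟨x3, x2, x4, x7, hne_2_3.symm, hne_3_4, hne_3_7, hne_2_4, hne_2_7, hne_4_7, hadj_3_2, hadj_3_4, hadj_3_7⟩
                      have hz_7_3 : T.a x7 x3 = 0 := by rw [hsym]; exact hz_3_7
                      have hz_5_7 : T.a x5 x7 = 0 := by
                        by_contra h
                        exact hq_5 ⟨x7, ⟨hne_0_7.symm, hne_1_7.symm, hne_2_7.symm, hne_3_7.symm, hne_4_7.symm, hne_5_7.symm, hne_6_7.symm⟩, h⟩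
                      have hz_7_5 : T.a x7 x5 = 0 := by rw [hsym]; exact hz_5_7
                      have hz_6_7 : T.a x6 x7 = 0 := by
                        by_contra h
                        exact hq_6 ⟨x7, ⟨hne_0_7.symm, hne_1_7.symm, hne_2_7.symm, hne_3_7.symm, hne_4_7.symm, hne_5_7.symm, hne_6_7.symm⟩, h⟩
                      have hz_7_6 : T.a x7 x6 = 0 := by rw [hsym]; exact hz_6_7
                      exact (h3 ⟨x4, x3, x5, x7, hne_3_4.symm, hne_4_5, hne_4_7, hne_3_5, hne_3_7, hne_5_7, hadj_4_3, hadj_4_5, hadj_4_7⟩).elim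
                    · by_cases hq_3 : ∃ y, (y ≠ x0 ∧ y ≠ x1 ∧ y ≠ x2 ∧ y ≠ x3 ∧ y ≠ x4 ∧ y ≠ x5 ∧ y ≠ x6) ∧ T.a x3 y ≠ 0
                      · obtain ⟨x7, ⟨hn0, hn1, hn2, hn3, hn4, hn5, hn6⟩, hadj_3_7⟩ := hq_3
                        have hne_0_7 : x0 ≠ x7 := hn0.symm
                        have hne_1_7 : x1 ≠ x7 := hn1.symm
                        have hne_2_7 : x2 ≠ x7 := hn2.symm
                        have hne_3_7 : x3 ≠ x7 := hn3.symm
                        have hne_4_7 : x4 ≠ x7 := hn4.symm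
                        have hne_5_7 : x5 ≠ x7 := hn5.symm
                        have hne_6_7 : x6 ≠ x7 := hn6.symm
                        have hadj_7_3 : T.a x7 x3 ≠ 0 := by rw [hsym]; exact hadj_3_7
                        have hl_3_7 := NT.lb1 T _ _ hne_3_7 hadj_3_7
                        have hl_7_3 := NT.lb1 T _ _ hne_3_7.symm hadj_7_3
                        have hs_3_7 : T.a x3 x7 = T.a x7 x3 := hsym _ _
                        have hz_0_7 : T.a x0 x7 = 0 := by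
                          by_contra h
                          exact hq_0 ⟨x7, ⟨hne_0_7.symm, hne_1_7.symm⟩, h⟩
                        have hz_7_0 : T.a x7 x0 = 0 := by rw [hsym]; exact hz_0_7
                        have hz_1_7 : T.a x1 x7 = 0 := by
                          by_contra hadj_1_7
                          have hadj_7_1 : T.a x7 x1 ≠ 0 := by rw [hsym]; exact hadj_1_7
                          have hl_1_7 := NT.lb1 T _ _ hne_1_7 hadj_1_7
                          have hl_7_1 := NT.lb1 T _ _ hne_1_7.symm hadj_7_1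
                          have hs_1_7 : T.a x1 x7 = T.a x7 x1 := hsym _ _
                          exact h3 ⟨x1, x0, x2, x7, hne_0_1.symm, hne_1_2, hne_1_7, hne_0_2, hne_0_7, hne_2_7, hadj_1_0, hadj_1_2, hadj_1_7⟩
                        have hz_7_1 : T.a x7 x1 = 0 := by rw [hsym]; exact hz_1_7
                        have hz_2_7 : T.a x2 x7 = 0 := by
                          by_contra hadj_2_7
                          have hadj_7_2 : T.a x7 x2 ≠ 0 := by rw [hsym]; exact hadj_2_7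
                          have hl_2_7 := NT.lb1 T _ _ hne_2_7 hadj_2_7
                          have hl_7_2 := NT.lb1 T _ _ hne_2_7.symm hadj_7_2
                          have hs_2_7 : T.a x2 x7 = T.a x7 x2 := hsym _ _
                          exact h3 ⟨x2, x1, x3, x7, hne_1_2.symm, hne_2_3, hne_2_7, hne_1_3, hne_1_7, hne_3_7, hadj_2_1, hadj_2_3, hadj_2_7⟩
                        have hz_7_2 : T.a x7 x2 = 0 := by rw [hsym]; exact hz_2_7
                        have hz_4_7 : T.a x4 x7 = 0 := by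
                          by_contra h
                          exact hq_4 ⟨x7, ⟨hne_0_7.symm, hne_1_7.symm, hne_2_7.symm, hne_3_7.symm, hne_4_7.symm, hne_5_7.symm, hne_6_7.symm⟩, h⟩
                        have hz_7_4 : T.a x7 x4 = 0 := by rw [hsym]; exact hz_4_7
                        have hz_5_7 : T.a x5 x7 = 0 := by
                          by_contra h
                          exact hq_5 ⟨x7, ⟨hne_0_7.symm, hne_1_7.symm, hne_2_7.symm, hne_3_7.symm, hne_4_7.symm, hne_5_7.symm, hne_6_7.symm⟩, h⟩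
                        have hz_7_5 : T.a x7 x5 = 0 := by rw [hsym]; exact hz_5_7
                        have hz_6_7 : T.a x6 x7 = 0 := by
                          by_contra h
                          exact hq_6 ⟨x7, ⟨hne_0_7.symm, hne_1_7.symm, hne_2_7.symm, hne_3_7.symm, hne_4_7.symm, hne_5_7.symm, hne_6_7.symm⟩, h⟩
                        have hz_7_6 : T.a x7 x6 = 0 := by rw [hsym]; exact hz_6_7
                        exact (h3 ⟨x3, x2, x4, x7, hne_2_3.symm, hne_3_4, hne_3_7, hne_2_4, hne_2_7, hne_4_7, hadj_3_2, hadj_3_4, hadj_3_7⟩).elim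
                      · by_cases hq_2 : ∃ y, (y ≠ x0 ∧ y ≠ x1 ∧ y ≠ x2 ∧ y ≠ x3 ∧ y ≠ x4 ∧ y ≠ x5 ∧ y ≠ x6) ∧ T.a x2 y ≠ 0
                        · obtain ⟨x7, ⟨hn0, hn1, hn2, hn3, hn4, hn5, hn6⟩, hadj_2_7⟩ := hq_2
                          have hne_0_7 : x0 ≠ x7 := hn0.symm
                          have hne_1_7 : x1 ≠ x7 := hn1.symm
                          have hne_2_7 : x2 ≠ x7 := hn2.symm
                          have hne_3_7 : x3 ≠ x7 := hn3.symm
                          have hne_4_7 : x4 ≠ x7 := hn4.symm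
                          have hne_5_7 : x5 ≠ x7 := hn5.symm
                          have hne_6_7 : x6 ≠ x7 := hn6.symm
                          have hadj_7_2 : T.a x7 x2 ≠ 0 := by rw [hsym]; exact hadj_2_7
                          have hl_2_7 := NT.lb1 T _ _ hne_2_7 hadj_2_7
                          have hl_7_2 := NT.lb1 T _ _ hne_2_7.symm hadj_7_2
                          have hs_2_7 : T.a x2 x7 = T.a x7 x2 := hsym _ _
                          have hz_0_7 : T.a x0 x7 = 0 := by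
                            by_contra h
                            exact hq_0 ⟨x7, ⟨hne_0_7.symm, hne_1_7.symm⟩, h⟩
                          have hz_7_0 : T.a x7 x0 = 0 := by rw [hsym]; exact hz_0_7
                          have hz_1_7 : T.a x1 x7 = 0 := by
                            by_contra hadj_1_7
                            have hadj_7_1 : T.a x7 x1 ≠ 0 := by rw [hsym]; exact hadj_1_7
                            have hl_1_7 := NT.lb1 T _ _ hne_1_7 hadj_1_7
                            have hl_7_1 := NT.lb1 T _ _ hne_1_7.symm hadj_7_1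
                            have hs_1_7 : T.a x1 x7 = T.a x7 x1 := hsym _ _
                            exact h3 ⟨x1, x0, x2, x7, hne_0_1.symm, hne_1_2, hne_1_7, hne_0_2, hne_0_7, hne_2_7, hadj_1_0, hadj_1_2, hadj_1_7⟩
                          have hz_7_1 : T.a x7 x1 = 0 := by rw [hsym]; exact hz_1_7
                          have hz_3_7 : T.a x3 x7 = 0 := by
                            by_contra h
                            exact hq_3 ⟨x7, ⟨hne_0_7.symm, hne_1_7.symm, hne_2_7.symm, hne_3_7.symm, hne_4_7.symm, hne_5_7.symm, hne_6_7.symm⟩, h⟩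
                          have hz_7_3 : T.a x7 x3 = 0 := by rw [hsym]; exact hz_3_7
                          have hz_4_7 : T.a x4 x7 = 0 := by
                            by_contra h
                            exact hq_4 ⟨x7, ⟨hne_0_7.symm, hne_1_7.symm, hne_2_7.symm, hne_3_7.symm, hne_4_7.symm, hne_5_7.symm, hne_6_7.symm⟩, h⟩
                          have hz_7_4 : T.a x7 x4 = 0 := by rw [hsym]; exact hz_4_7
                          have hz_5_7 : T.a x5 x7 = 0 := by
                            by_contra h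
                            exact hq_5 ⟨x7, ⟨hne_0_7.symm, hne_1_7.symm, hne_2_7.symm, hne_3_7.symm, hne_4_7.symm, hne_5_7.symm, hne_6_7.symm⟩, h⟩
                          have hz_7_5 : T.a x7 x5 = 0 := by rw [hsym]; exact hz_5_7
                          have hz_6_7 : T.a x6 x7 = 0 := by
                            by_contra h
                            exact hq_6 ⟨x7, ⟨hne_0_7.symm, hne_1_7.symm, hne_2_7.symm, hne_3_7.symm, hne_4_7.symm, hne_5_7.symm, hne_6_7.symm⟩, h⟩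
                          have hz_7_6 : T.a x7 x6 = 0 := by rw [hsym]; exact hz_6_7
                          exact (h3 ⟨x2, x1, x3, x7, hne_1_2.symm, hne_2_3, hne_2_7, hne_1_3, hne_1_7, hne_3_7, hadj_2_1, hadj_2_3, hadj_2_7⟩).elim
                        · by_cases hq_1 : ∃ y, (y ≠ x0 ∧ y ≠ x1 ∧ y ≠ x2 ∧ y ≠ x3 ∧ y ≠ x4 ∧ y ≠ x5 ∧ y ≠ x6) ∧ T.a x1 y ≠ 0
                          · obtain ⟨x7, ⟨hn0, hn1, hn2, hn3, hn4, hn5, hn6⟩, hadj_1_7⟩ := hq_1
                            have hne_0_7 : x0 ≠ x7 := hn0.symm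
                            have hne_1_7 : x1 ≠ x7 := hn1.symm
                            have hne_2_7 : x2 ≠ x7 := hn2.symm
                            have hne_3_7 : x3 ≠ x7 := hn3.symm
                            have hne_4_7 : x4 ≠ x7 := hn4.symm
                            have hne_5_7 : x5 ≠ x7 := hn5.symm
                            have hne_6_7 : x6 ≠ x7 := hn6.symm
                            have hadj_7_1 : T.a x7 x1 ≠ 0 := by rw [hsym]; exact hadj_1_7
                            have hl_1_7 := NT.lb1 T _ _ hne_1_7 hadj_1_7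
                            have hl_7_1 := NT.lb1 T _ _ hne_1_7.symm hadj_7_1
                            have hs_1_7 : T.a x1 x7 = T.a x7 x1 := hsym _ _
                            have hz_0_7 : T.a x0 x7 = 0 := by
                              by_contra h
                              exact hq_0 ⟨x7, ⟨hne_0_7.symm, hne_1_7.symm⟩, h⟩
                            have hz_7_0 : T.a x7 x0 = 0 := by rw [hsym]; exact hz_0_7
                            have hz_2_7 : T.a x2 x7 = 0 := by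
                              by_contra h
                              exact hq_2 ⟨x7, ⟨hne_0_7.symm, hne_1_7.symm, hne_2_7.symm, hne_3_7.symm, hne_4_7.symm, hne_5_7.symm, hne_6_7.symm⟩, h⟩
                            have hz_7_2 : T.a x7 x2 = 0 := by rw [hsym]; exact hz_2_7
                            have hz_3_7 : T.a x3 x7 = 0 := by
                              by_contra h
                              exact hq_3 ⟨x7, ⟨hne_0_7.symm, hne_1_7.symm, hne_2_7.symm, hne_3_7.symm, hne_4_7.symm, hne_5_7.symm, hne_6_7.symm⟩, h⟩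
                            have hz_7_3 : T.a x7 x3 = 0 := by rw [hsym]; exact hz_3_7
                            have hz_4_7 : T.a x4 x7 = 0 := by
                              by_contra h
                              exact hq_4 ⟨x7, ⟨hne_0_7.symm, hne_1_7.symm, hne_2_7.symm, hne_3_7.symm, hne_4_7.symm, hne_5_7.symm, hne_6_7.symm⟩, h⟩
                            have hz_7_4 : T.a x7 x4 = 0 := by rw [hsym]; exact hz_4_7
                            have hz_5_7 : T.a x5 x7 = 0 := by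
                              by_contra h
                              exact hq_5 ⟨x7, ⟨hne_0_7.symm, hne_1_7.symm, hne_2_7.symm, hne_3_7.symm, hne_4_7.symm, hne_5_7.symm, hne_6_7.symm⟩, h⟩
                            have hz_7_5 : T.a x7 x5 = 0 := by rw [hsym]; exact hz_5_7
                            have hz_6_7 : T.a x6 x7 = 0 := by
                              by_contra h
                              exact hq_6 ⟨x7, ⟨hne_0_7.symm, hne_1_7.symm, hne_2_7.symm, hne_3_7.symm, hne_4_7.symm, hne_5_7.symm, hne_6_7.symm⟩, h⟩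
                            have hz_7_6 : T.a x7 x6 = 0 := by rw [hsym]; exact hz_6_7
                            exact (h3 ⟨x1, x0, x2, x7, hne_0_1.symm, hne_1_2, hne_1_7, hne_0_2, hne_0_7, hne_2_7, hadj_1_0, hadj_1_2, hadj_1_7⟩).elim
                          · exfalso
                            refine NT.not_closed T ![x0, x1, x2, x3, x4, x5, x6] (by norm_num) (by norm_num) ?_
                            intro s y hy
                            by_contra hcon
                            fin_cases s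
                            · exact hq_0 ⟨y, ⟨fun h => hcon ⟨(0 : Fin 7), h⟩, fun h => hcon ⟨(1 : Fin 7), h⟩⟩, hy⟩
                            · exact hq_1 ⟨y, ⟨fun h => hcon ⟨(0 : Fin 7), h⟩, fun h => hcon ⟨(1 : Fin 7), h⟩, fun h => hcon ⟨(2 : Fin 7), h⟩, fun h => hcon ⟨(3 : Fin 7), h⟩, fun h => hcon ⟨(4 : Fin 7), h⟩, fun h => hcon ⟨(5 : Fin 7), h⟩, fun h => hcon ⟨(6 : Fin 7), h⟩⟩, hy⟩
                            · exact hq_2 ⟨y, ⟨fun h => hcon ⟨(0 : Fin 7), h⟩, fun h => hcon ⟨(1 : Fin 7), h⟩, fun h => hcon ⟨(2 : Fin 7), h⟩, fun h => hcon ⟨(3 : Fin 7), h⟩, fun h => hcon ⟨(4 : Fin 7), h⟩, fun h => hcon ⟨(5 : Fin 7), h⟩, fun h => hcon ⟨(6 : Fin 7), h⟩⟩, hy⟩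
                            · exact hq_3 ⟨y, ⟨fun h => hcon ⟨(0 : Fin 7), h⟩, fun h => hcon ⟨(1 : Fin 7), h⟩, fun h => hcon ⟨(2 : Fin 7), h⟩, fun h => hcon ⟨(3 : Fin 7), h⟩, fun h => hcon ⟨(4 : Fin 7), h⟩, fun h => hcon ⟨(5 : Fin 7), h⟩, fun h => hcon ⟨(6 : Fin 7), h⟩⟩, hy⟩
                            · exact hq_4 ⟨y, ⟨fun h => hcon ⟨(0 : Fin 7), h⟩, fun h => hcon ⟨(1 : Fin 7), h⟩, fun h => hcon ⟨(2 : Fin 7), h⟩, fun h => hcon ⟨(3 : Fin 7), h⟩, fun h => hcon ⟨(4 : Fin 7), h⟩, fun h => hcon ⟨(5 : Fin 7), h⟩, fun h => hcon ⟨(6 : Fin 7), h⟩⟩, hy⟩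
                            · exact hq_5 ⟨y, ⟨fun h => hcon ⟨(0 : Fin 7), h⟩, fun h => hcon ⟨(1 : Fin 7), h⟩, fun h => hcon ⟨(2 : Fin 7), h⟩, fun h => hcon ⟨(3 : Fin 7), h⟩, fun h => hcon ⟨(4 : Fin 7), h⟩, fun h => hcon ⟨(5 : Fin 7), h⟩, fun h => hcon ⟨(6 : Fin 7), h⟩⟩, hy⟩
                            · exact hq_6 ⟨y, ⟨fun h => hcon ⟨(0 : Fin 7), h⟩, fun h => hcon ⟨(1 : Fin 7), h⟩, fun h => hcon ⟨(2 : Fin 7), h⟩, fun h => hcon ⟨(3 : Fin 7), h⟩, fun h => hcon ⟨(4 : Fin 7), h⟩, fun h => hcon ⟨(5 : Fin 7), h⟩, fun h => hcon ⟨(6 : Fin 7), h⟩⟩, hy⟩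
              · by_cases hq_4 : ∃ y, (y ≠ x0 ∧ y ≠ x1 ∧ y ≠ x2 ∧ y ≠ x3 ∧ y ≠ x4 ∧ y ≠ x5) ∧ T.a x4 y ≠ 0
                · obtain ⟨x6, ⟨hn0, hn1, hn2, hn3, hn4, hn5⟩, hadj_4_6⟩ := hq_4
                  have hne_0_6 : x0 ≠ x6 := hn0.symm
                  have hne_1_6 : x1 ≠ x6 := hn1.symm
                  have hne_2_6 : x2 ≠ x6 := hn2.symm
                  have hne_3_6 : x3 ≠ x6 := hn3.symm
                  have hne_4_6 : x4 ≠ x6 := hn4.symm
                  have hne_5_6 : x5 ≠ x6 := hn5.symm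
                  have hadj_6_4 : T.a x6 x4 ≠ 0 := by rw [hsym]; exact hadj_4_6
                  have hl_4_6 := NT.lb1 T _ _ hne_4_6 hadj_4_6
                  have hl_6_4 := NT.lb1 T _ _ hne_4_6.symm hadj_6_4
                  have hs_4_6 : T.a x4 x6 = T.a x6 x4 := hsym _ _
                  have hz_0_6 : T.a x0 x6 = 0 := by
                    by_contra h
                    exact hq_0 ⟨x6, ⟨hne_0_6.symm, hne_1_6.symm⟩, h⟩
                  have hz_6_0 : T.a x6 x0 = 0 := by rw [hsym]; exact hz_0_6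
                  have hz_1_6 : T.a x1 x6 = 0 := by
                    by_contra hadj_1_6
                    have hadj_6_1 : T.a x6 x1 ≠ 0 := by rw [hsym]; exact hadj_1_6
                    have hl_1_6 := NT.lb1 T _ _ hne_1_6 hadj_1_6
                    have hl_6_1 := NT.lb1 T _ _ hne_1_6.symm hadj_6_1
                    have hs_1_6 : T.a x1 x6 = T.a x6 x1 := hsym _ _
                    exact h3 ⟨x1, x0, x2, x6, hne_0_1.symm, hne_1_2, hne_1_6, hne_0_2, hne_0_6, hne_2_6, hadj_1_0, hadj_1_2, hadj_1_6⟩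
                  have hz_6_1 : T.a x6 x1 = 0 := by rw [hsym]; exact hz_1_6
                  have hz_2_6 : T.a x2 x6 = 0 := by
                    by_contra hadj_2_6
                    have hadj_6_2 : T.a x6 x2 ≠ 0 := by rw [hsym]; exact hadj_2_6
                    have hl_2_6 := NT.lb1 T _ _ hne_2_6 hadj_2_6
                    have hl_6_2 := NT.lb1 T _ _ hne_2_6.symm hadj_6_2
                    have hs_2_6 : T.a x2 x6 = T.a x6 x2 := hsym _ _
                    exact h3 ⟨x2, x1, x3, x6, hne_1_2.symm, hne_2_3, hne_2_6, hne_1_3, hne_1_6, hne_3_6, hadj_2_1, hadj_2_3, hadj_2_6⟩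
                  have hz_6_2 : T.a x6 x2 = 0 := by rw [hsym]; exact hz_2_6
                  have hz_3_6 : T.a x3 x6 = 0 := by
                    by_contra hadj_3_6
                    have hadj_6_3 : T.a x6 x3 ≠ 0 := by rw [hsym]; exact hadj_3_6
                    have hl_3_6 := NT.lb1 T _ _ hne_3_6 hadj_3_6
                    have hl_6_3 := NT.lb1 T _ _ hne_3_6.symm hadj_6_3
                    have hs_3_6 : T.a x3 x6 = T.a x6 x3 := hsym _ _
                    exact h3 ⟨x3, x2, x4, x6, hne_2_3.symm, hne_3_4, hne_3_6, hne_2_4, hne_2_6, hne_4_6, hadj_3_2, hadj_3_4, hadj_3_6⟩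
                  have hz_6_3 : T.a x6 x3 = 0 := by rw [hsym]; exact hz_3_6
                  have hz_5_6 : T.a x5 x6 = 0 := by
                    by_contra h
                    exact hq_5 ⟨x6, ⟨hne_0_6.symm, hne_1_6.symm, hne_2_6.symm, hne_3_6.symm, hne_4_6.symm, hne_5_6.symm⟩, h⟩
                  have hz_6_5 : T.a x6 x5 = 0 := by rw [hsym]; exact hz_5_6
                  exact (h3 ⟨x4, x3, x5, x6, hne_3_4.symm, hne_4_5, hne_4_6, hne_3_5, hne_3_6, hne_5_6, hadj_4_3, hadj_4_5, hadj_4_6⟩).elim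
                · by_cases hq_3 : ∃ y, (y ≠ x0 ∧ y ≠ x1 ∧ y ≠ x2 ∧ y ≠ x3 ∧ y ≠ x4 ∧ y ≠ x5) ∧ T.a x3 y ≠ 0
                  · obtain ⟨x6, ⟨hn0, hn1, hn2, hn3, hn4, hn5⟩, hadj_3_6⟩ := hq_3
                    have hne_0_6 : x0 ≠ x6 := hn0.symm
                    have hne_1_6 : x1 ≠ x6 := hn1.symm
                    have hne_2_6 : x2 ≠ x6 := hn2.symm
                    have hne_3_6 : x3 ≠ x6 := hn3.symm
                    have hne_4_6 : x4 ≠ x6 := hn4.symm
                    have hne_5_6 : x5 ≠ x6 := hn5.symm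
                    have hadj_6_3 : T.a x6 x3 ≠ 0 := by rw [hsym]; exact hadj_3_6
                    have hl_3_6 := NT.lb1 T _ _ hne_3_6 hadj_3_6
                    have hl_6_3 := NT.lb1 T _ _ hne_3_6.symm hadj_6_3
                    have hs_3_6 : T.a x3 x6 = T.a x6 x3 := hsym _ _
                    have hz_0_6 : T.a x0 x6 = 0 := by
                      by_contra h
                      exact hq_0 ⟨x6, ⟨hne_0_6.symm, hne_1_6.symm⟩, h⟩
                    have hz_6_0 : T.a x6 x0 = 0 := by rw [hsym]; exact hz_0_6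
                    have hz_1_6 : T.a x1 x6 = 0 := by
                      by_contra hadj_1_6
                      have hadj_6_1 : T.a x6 x1 ≠ 0 := by rw [hsym]; exact hadj_1_6
                      have hl_1_6 := NT.lb1 T _ _ hne_1_6 hadj_1_6
                      have hl_6_1 := NT.lb1 T _ _ hne_1_6.symm hadj_6_1
                      have hs_1_6 : T.a x1 x6 = T.a x6 x1 := hsym _ _
                      exact h3 ⟨x1, x0, x2, x6, hne_0_1.symm, hne_1_2, hne_1_6, hne_0_2, hne_0_6, hne_2_6, hadj_1_0, hadj_1_2, hadj_1_6⟩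
                    have hz_6_1 : T.a x6 x1 = 0 := by rw [hsym]; exact hz_1_6
                    have hz_2_6 : T.a x2 x6 = 0 := by
                      by_contra hadj_2_6
                      have hadj_6_2 : T.a x6 x2 ≠ 0 := by rw [hsym]; exact hadj_2_6
                      have hl_2_6 := NT.lb1 T _ _ hne_2_6 hadj_2_6
                      have hl_6_2 := NT.lb1 T _ _ hne_2_6.symm hadj_6_2
                      have hs_2_6 : T.a x2 x6 = T.a x6 x2 := hsym _ _
                      exact h3 ⟨x2, x1, x3, x6, hne_1_2.symm, hne_2_3, hne_2_6, hne_1_3, hne_1_6, hne_3_6, hadj_2_1, hadj_2_3, hadj_2_6⟩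
                    have hz_6_2 : T.a x6 x2 = 0 := by rw [hsym]; exact hz_2_6
                    have hz_4_6 : T.a x4 x6 = 0 := by
                      by_contra h
                      exact hq_4 ⟨x6, ⟨hne_0_6.symm, hne_1_6.symm, hne_2_6.symm, hne_3_6.symm, hne_4_6.symm, hne_5_6.symm⟩, h⟩
                    have hz_6_4 : T.a x6 x4 = 0 := by rw [hsym]; exact hz_4_6
                    have hz_5_6 : T.a x5 x6 = 0 := by
                      by_contra h
                      exact hq_5 ⟨x6, ⟨hne_0_6.symm, hne_1_6.symm, hne_2_6.symm, hne_3_6.symm, hne_4_6.symm, hne_5_6.symm⟩, h⟩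
                    have hz_6_5 : T.a x6 x5 = 0 := by rw [hsym]; exact hz_5_6
                    exact (h3 ⟨x3, x2, x4, x6, hne_2_3.symm, hne_3_4, hne_3_6, hne_2_4, hne_2_6, hne_4_6, hadj_3_2, hadj_3_4, hadj_3_6⟩).elim
                  · by_cases hq_2 : ∃ y, (y ≠ x0 ∧ y ≠ x1 ∧ y ≠ x2 ∧ y ≠ x3 ∧ y ≠ x4 ∧ y ≠ x5) ∧ T.a x2 y ≠ 0
                    · obtain ⟨x6, ⟨hn0, hn1, hn2, hn3, hn4, hn5⟩, hadj_2_6⟩ := hq_2
                      have hne_0_6 : x0 ≠ x6 := hn0.symm
                      have hne_1_6 : x1 ≠ x6 := hn1.symm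
                      have hne_2_6 : x2 ≠ x6 := hn2.symm
                      have hne_3_6 : x3 ≠ x6 := hn3.symm
                      have hne_4_6 : x4 ≠ x6 := hn4.symm
                      have hne_5_6 : x5 ≠ x6 := hn5.symm
                      have hadj_6_2 : T.a x6 x2 ≠ 0 := by rw [hsym]; exact hadj_2_6
                      have hl_2_6 := NT.lb1 T _ _ hne_2_6 hadj_2_6
                      have hl_6_2 := NT.lb1 T _ _ hne_2_6.symm hadj_6_2
                      have hs_2_6 : T.a x2 x6 = T.a x6 x2 := hsym _ _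
                      have hz_0_6 : T.a x0 x6 = 0 := by
                        by_contra h
                        exact hq_0 ⟨x6, ⟨hne_0_6.symm, hne_1_6.symm⟩, h⟩
                      have hz_6_0 : T.a x6 x0 = 0 := by rw [hsym]; exact hz_0_6
                      have hz_1_6 : T.a x1 x6 = 0 := by
                        by_contra hadj_1_6
                        have hadj_6_1 : T.a x6 x1 ≠ 0 := by rw [hsym]; exact hadj_1_6
                        have hl_1_6 := NT.lb1 T _ _ hne_1_6 hadj_1_6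
                        have hl_6_1 := NT.lb1 T _ _ hne_1_6.symm hadj_6_1
                        have hs_1_6 : T.a x1 x6 = T.a x6 x1 := hsym _ _
                        exact h3 ⟨x1, x0, x2, x6, hne_0_1.symm, hne_1_2, hne_1_6, hne_0_2, hne_0_6, hne_2_6, hadj_1_0, hadj_1_2, hadj_1_6⟩
                      have hz_6_1 : T.a x6 x1 = 0 := by rw [hsym]; exact hz_1_6
                      have hz_3_6 : T.a x3 x6 = 0 := by
                        by_contra h
                        exact hq_3 ⟨x6, ⟨hne_0_6.symm, hne_1_6.symm, hne_2_6.symm, hne_3_6.symm, hne_4_6.symm, hne_5_6.symm⟩, h⟩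
                      have hz_6_3 : T.a x6 x3 = 0 := by rw [hsym]; exact hz_3_6
                      have hz_4_6 : T.a x4 x6 = 0 := by
                        by_contra h
                        exact hq_4 ⟨x6, ⟨hne_0_6.symm, hne_1_6.symm, hne_2_6.symm, hne_3_6.symm, hne_4_6.symm, hne_5_6.symm⟩, h⟩
                      have hz_6_4 : T.a x6 x4 = 0 := by rw [hsym]; exact hz_4_6
                      have hz_5_6 : T.a x5 x6 = 0 := by
                        by_contra h
                        exact hq_5 ⟨x6, ⟨hne_0_6.symm, hne_1_6.symm, hne_2_6.symm, hne_3_6.symm, hne_4_6.symm, hne_5_6.symm⟩, h⟩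
                      have hz_6_5 : T.a x6 x5 = 0 := by rw [hsym]; exact hz_5_6
                      exact (h3 ⟨x2, x1, x3, x6, hne_1_2.symm, hne_2_3, hne_2_6, hne_1_3, hne_1_6, hne_3_6, hadj_2_1, hadj_2_3, hadj_2_6⟩).elim
                    · by_cases hq_1 : ∃ y, (y ≠ x0 ∧ y ≠ x1 ∧ y ≠ x2 ∧ y ≠ x3 ∧ y ≠ x4 ∧ y ≠ x5) ∧ T.a x1 y ≠ 0
                      · obtain ⟨x6, ⟨hn0, hn1, hn2, hn3, hn4, hn5⟩, hadj_1_6⟩ := hq_1
                        have hne_0_6 : x0 ≠ x6 := hn0.symm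
                        have hne_1_6 : x1 ≠ x6 := hn1.symm
                        have hne_2_6 : x2 ≠ x6 := hn2.symm
                        have hne_3_6 : x3 ≠ x6 := hn3.symm
                        have hne_4_6 : x4 ≠ x6 := hn4.symm
                        have hne_5_6 : x5 ≠ x6 := hn5.symm
                        have hadj_6_1 : T.a x6 x1 ≠ 0 := by rw [hsym]; exact hadj_1_6
                        have hl_1_6 := NT.lb1 T _ _ hne_1_6 hadj_1_6
                        have hl_6_1 := NT.lb1 T _ _ hne_1_6.symm hadj_6_1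
                        have hs_1_6 : T.a x1 x6 = T.a x6 x1 := hsym _ _
                        have hz_0_6 : T.a x0 x6 = 0 := by
                          by_contra h
                          exact hq_0 ⟨x6, ⟨hne_0_6.symm, hne_1_6.symm⟩, h⟩
                        have hz_6_0 : T.a x6 x0 = 0 := by rw [hsym]; exact hz_0_6
                        have hz_2_6 : T.a x2 x6 = 0 := by
                          by_contra h
                          exact hq_2 ⟨x6, ⟨hne_0_6.symm, hne_1_6.symm, hne_2_6.symm, hne_3_6.symm, hne_4_6.symm, hne_5_6.symm⟩, h⟩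
                        have hz_6_2 : T.a x6 x2 = 0 := by rw [hsym]; exact hz_2_6
                        have hz_3_6 : T.a x3 x6 = 0 := by
                          by_contra h
                          exact hq_3 ⟨x6, ⟨hne_0_6.symm, hne_1_6.symm, hne_2_6.symm, hne_3_6.symm, hne_4_6.symm, hne_5_6.symm⟩, h⟩
                        have hz_6_3 : T.a x6 x3 = 0 := by rw [hsym]; exact hz_3_6
                        have hz_4_6 : T.a x4 x6 = 0 := by
                          by_contra h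
                          exact hq_4 ⟨x6, ⟨hne_0_6.symm, hne_1_6.symm, hne_2_6.symm, hne_3_6.symm, hne_4_6.symm, hne_5_6.symm⟩, h⟩
                        have hz_6_4 : T.a x6 x4 = 0 := by rw [hsym]; exact hz_4_6
                        have hz_5_6 : T.a x5 x6 = 0 := by
                          by_contra h
                          exact hq_5 ⟨x6, ⟨hne_0_6.symm, hne_1_6.symm, hne_2_6.symm, hne_3_6.symm, hne_4_6.symm, hne_5_6.symm⟩, h⟩
                        have hz_6_5 : T.a x6 x5 = 0 := by rw [hsym]; exact hz_5_6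
                        exact (h3 ⟨x1, x0, x2, x6, hne_0_1.symm, hne_1_2, hne_1_6, hne_0_2, hne_0_6, hne_2_6, hadj_1_0, hadj_1_2, hadj_1_6⟩).elim
                      · exfalso
                        refine NT.not_closed T ![x0, x1, x2, x3, x4, x5] (by norm_num) (by norm_num) ?_
                        intro s y hy
                        by_contra hcon
                        fin_cases s
                        · exact hq_0 ⟨y, ⟨fun h => hcon ⟨(0 : Fin 6), h⟩, fun h => hcon ⟨(1 : Fin 6), h⟩⟩, hy⟩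
                        · exact hq_1 ⟨y, ⟨fun h => hcon ⟨(0 : Fin 6), h⟩, fun h => hcon ⟨(1 : Fin 6), h⟩, fun h => hcon ⟨(2 : Fin 6), h⟩, fun h => hcon ⟨(3 : Fin 6), h⟩, fun h => hcon ⟨(4 : Fin 6), h⟩, fun h => hcon ⟨(5 : Fin 6), h⟩⟩, hy⟩
                        · exact hq_2 ⟨y, ⟨fun h => hcon ⟨(0 : Fin 6), h⟩, fun h => hcon ⟨(1 : Fin 6), h⟩, fun h => hcon ⟨(2 : Fin 6), h⟩, fun h => hcon ⟨(3 : Fin 6), h⟩, fun h => hcon ⟨(4 : Fin 6), h⟩, fun h => hcon ⟨(5 : Fin 6), h⟩⟩, hy⟩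
                        · exact hq_3 ⟨y, ⟨fun h => hcon ⟨(0 : Fin 6), h⟩, fun h => hcon ⟨(1 : Fin 6), h⟩, fun h => hcon ⟨(2 : Fin 6), h⟩, fun h => hcon ⟨(3 : Fin 6), h⟩, fun h => hcon ⟨(4 : Fin 6), h⟩, fun h => hcon ⟨(5 : Fin 6), h⟩⟩, hy⟩
                        · exact hq_4 ⟨y, ⟨fun h => hcon ⟨(0 : Fin 6), h⟩, fun h => hcon ⟨(1 : Fin 6), h⟩, fun h => hcon ⟨(2 : Fin 6), h⟩, fun h => hcon ⟨(3 : Fin 6), h⟩, fun h => hcon ⟨(4 : Fin 6), h⟩, fun h => hcon ⟨(5 : Fin 6), h⟩⟩, hy⟩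
                        · exact hq_5 ⟨y, ⟨fun h => hcon ⟨(0 : Fin 6), h⟩, fun h => hcon ⟨(1 : Fin 6), h⟩, fun h => hcon ⟨(2 : Fin 6), h⟩, fun h => hcon ⟨(3 : Fin 6), h⟩, fun h => hcon ⟨(4 : Fin 6), h⟩, fun h => hcon ⟨(5 : Fin 6), h⟩⟩, hy⟩
            · by_cases hq_3 : ∃ y, (y ≠ x0 ∧ y ≠ x1 ∧ y ≠ x2 ∧ y ≠ x3 ∧ y ≠ x4) ∧ T.a x3 y ≠ 0
              · obtain ⟨x5, ⟨hn0, hn1, hn2, hn3, hn4⟩, hadj_3_5⟩ := hq_3
                have hne_0_5 : x0 ≠ x5 := hn0.symm
                have hne_1_5 : x1 ≠ x5 := hn1.symm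
                have hne_2_5 : x2 ≠ x5 := hn2.symm
                have hne_3_5 : x3 ≠ x5 := hn3.symm
                have hne_4_5 : x4 ≠ x5 := hn4.symm
                have hadj_5_3 : T.a x5 x3 ≠ 0 := by rw [hsym]; exact hadj_3_5
                have hl_3_5 := NT.lb1 T _ _ hne_3_5 hadj_3_5
                have hl_5_3 := NT.lb1 T _ _ hne_3_5.symm hadj_5_3
                have hs_3_5 : T.a x3 x5 = T.a x5 x3 := hsym _ _
                have hz_0_5 : T.a x0 x5 = 0 := by
                  by_contra h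
                  exact hq_0 ⟨x5, ⟨hne_0_5.symm, hne_1_5.symm⟩, h⟩
                have hz_5_0 : T.a x5 x0 = 0 := by rw [hsym]; exact hz_0_5
                have hz_1_5 : T.a x1 x5 = 0 := by
                  by_contra hadj_1_5
                  have hadj_5_1 : T.a x5 x1 ≠ 0 := by rw [hsym]; exact hadj_1_5
                  have hl_1_5 := NT.lb1 T _ _ hne_1_5 hadj_1_5
                  have hl_5_1 := NT.lb1 T _ _ hne_1_5.symm hadj_5_1
                  have hs_1_5 : T.a x1 x5 = T.a x5 x1 := hsym _ _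
                  exact h3 ⟨x1, x0, x2, x5, hne_0_1.symm, hne_1_2, hne_1_5, hne_0_2, hne_0_5, hne_2_5, hadj_1_0, hadj_1_2, hadj_1_5⟩
                have hz_5_1 : T.a x5 x1 = 0 := by rw [hsym]; exact hz_1_5
                have hz_2_5 : T.a x2 x5 = 0 := by
                  by_contra hadj_2_5
                  have hadj_5_2 : T.a x5 x2 ≠ 0 := by rw [hsym]; exact hadj_2_5
                  have hl_2_5 := NT.lb1 T _ _ hne_2_5 hadj_2_5
                  have hl_5_2 := NT.lb1 T _ _ hne_2_5.symm hadj_5_2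
                  have hs_2_5 : T.a x2 x5 = T.a x5 x2 := hsym _ _
                  exact h3 ⟨x2, x1, x3, x5, hne_1_2.symm, hne_2_3, hne_2_5, hne_1_3, hne_1_5, hne_3_5, hadj_2_1, hadj_2_3, hadj_2_5⟩
                have hz_5_2 : T.a x5 x2 = 0 := by rw [hsym]; exact hz_2_5
                have hz_4_5 : T.a x4 x5 = 0 := by
                  by_contra h
                  exact hq_4 ⟨x5, ⟨hne_0_5.symm, hne_1_5.symm, hne_2_5.symm, hne_3_5.symm, hne_4_5.symm⟩, h⟩
                have hz_5_4 : T.a x5 x4 = 0 := by rw [hsym]; exact hz_4_5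
                exact (h3 ⟨x3, x2, x4, x5, hne_2_3.symm, hne_3_4, hne_3_5, hne_2_4, hne_2_5, hne_4_5, hadj_3_2, hadj_3_4, hadj_3_5⟩).elim
              · by_cases hq_2 : ∃ y, (y ≠ x0 ∧ y ≠ x1 ∧ y ≠ x2 ∧ y ≠ x3 ∧ y ≠ x4) ∧ T.a x2 y ≠ 0
                · obtain ⟨x5, ⟨hn0, hn1, hn2, hn3, hn4⟩, hadj_2_5⟩ := hq_2
                  have hne_0_5 : x0 ≠ x5 := hn0.symm
                  have hne_1_5 : x1 ≠ x5 := hn1.symm
                  have hne_2_5 : x2 ≠ x5 := hn2.symm
                  have hne_3_5 : x3 ≠ x5 := hn3.symm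
                  have hne_4_5 : x4 ≠ x5 := hn4.symm
                  have hadj_5_2 : T.a x5 x2 ≠ 0 := by rw [hsym]; exact hadj_2_5
                  have hl_2_5 := NT.lb1 T _ _ hne_2_5 hadj_2_5
                  have hl_5_2 := NT.lb1 T _ _ hne_2_5.symm hadj_5_2
                  have hs_2_5 : T.a x2 x5 = T.a x5 x2 := hsym _ _
                  have hz_0_5 : T.a x0 x5 = 0 := by
                    by_contra h
                    exact hq_0 ⟨x5, ⟨hne_0_5.symm, hne_1_5.symm⟩, h⟩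
                  have hz_5_0 : T.a x5 x0 = 0 := by rw [hsym]; exact hz_0_5
                  have hz_1_5 : T.a x1 x5 = 0 := by
                    by_contra hadj_1_5
                    have hadj_5_1 : T.a x5 x1 ≠ 0 := by rw [hsym]; exact hadj_1_5
                    have hl_1_5 := NT.lb1 T _ _ hne_1_5 hadj_1_5
                    have hl_5_1 := NT.lb1 T _ _ hne_1_5.symm hadj_5_1
                    have hs_1_5 : T.a x1 x5 = T.a x5 x1 := hsym _ _
                    exact h3 ⟨x1, x0, x2, x5, hne_0_1.symm, hne_1_2, hne_1_5, hne_0_2, hne_0_5, hne_2_5, hadj_1_0, hadj_1_2, hadj_1_5⟩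
                  have hz_5_1 : T.a x5 x1 = 0 := by rw [hsym]; exact hz_1_5
                  have hz_3_5 : T.a x3 x5 = 0 := by
                    by_contra h
                    exact hq_3 ⟨x5, ⟨hne_0_5.symm, hne_1_5.symm, hne_2_5.symm, hne_3_5.symm, hne_4_5.symm⟩, h⟩
                  have hz_5_3 : T.a x5 x3 = 0 := by rw [hsym]; exact hz_3_5
                  have hz_4_5 : T.a x4 x5 = 0 := by
                    by_contra h
                    exact hq_4 ⟨x5, ⟨hne_0_5.symm, hne_1_5.symm, hne_2_5.symm, hne_3_5.symm, hne_4_5.symm⟩, h⟩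
                  have hz_5_4 : T.a x5 x4 = 0 := by rw [hsym]; exact hz_4_5
                  exact (h3 ⟨x2, x1, x3, x5, hne_1_2.symm, hne_2_3, hne_2_5, hne_1_3, hne_1_5, hne_3_5, hadj_2_1, hadj_2_3, hadj_2_5⟩).elim
                · by_cases hq_1 : ∃ y, (y ≠ x0 ∧ y ≠ x1 ∧ y ≠ x2 ∧ y ≠ x3 ∧ y ≠ x4) ∧ T.a x1 y ≠ 0
                  · obtain ⟨x5, ⟨hn0, hn1, hn2, hn3, hn4⟩, hadj_1_5⟩ := hq_1
                    have hne_0_5 : x0 ≠ x5 := hn0.symm
                    have hne_1_5 : x1 ≠ x5 := hn1.symm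
                    have hne_2_5 : x2 ≠ x5 := hn2.symm
                    have hne_3_5 : x3 ≠ x5 := hn3.symm
                    have hne_4_5 : x4 ≠ x5 := hn4.symm
                    have hadj_5_1 : T.a x5 x1 ≠ 0 := by rw [hsym]; exact hadj_1_5
                    have hl_1_5 := NT.lb1 T _ _ hne_1_5 hadj_1_5
                    have hl_5_1 := NT.lb1 T _ _ hne_1_5.symm hadj_5_1
                    have hs_1_5 : T.a x1 x5 = T.a x5 x1 := hsym _ _
                    have hz_0_5 : T.a x0 x5 = 0 := by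
                      by_contra h
                      exact hq_0 ⟨x5, ⟨hne_0_5.symm, hne_1_5.symm⟩, h⟩
                    have hz_5_0 : T.a x5 x0 = 0 := by rw [hsym]; exact hz_0_5
                    have hz_2_5 : T.a x2 x5 = 0 := by
                      by_contra h
                      exact hq_2 ⟨x5, ⟨hne_0_5.symm, hne_1_5.symm, hne_2_5.symm, hne_3_5.symm, hne_4_5.symm⟩, h⟩
                    have hz_5_2 : T.a x5 x2 = 0 := by rw [hsym]; exact hz_2_5
                    have hz_3_5 : T.a x3 x5 = 0 := by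
                      by_contra h
                      exact hq_3 ⟨x5, ⟨hne_0_5.symm, hne_1_5.symm, hne_2_5.symm, hne_3_5.symm, hne_4_5.symm⟩, h⟩
                    have hz_5_3 : T.a x5 x3 = 0 := by rw [hsym]; exact hz_3_5
                    have hz_4_5 : T.a x4 x5 = 0 := by
                      by_contra h
                      exact hq_4 ⟨x5, ⟨hne_0_5.symm, hne_1_5.symm, hne_2_5.symm, hne_3_5.symm, hne_4_5.symm⟩, h⟩
                    have hz_5_4 : T.a x5 x4 = 0 := by rw [hsym]; exact hz_4_5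
                    exact (h3 ⟨x1, x0, x2, x5, hne_0_1.symm, hne_1_2, hne_1_5, hne_0_2, hne_0_5, hne_2_5, hadj_1_0, hadj_1_2, hadj_1_5⟩).elim
                  · exfalso
                    refine NT.not_closed T ![x0, x1, x2, x3, x4] (by norm_num) (by norm_num) ?_
                    intro s y hy
                    by_contra hcon
                    fin_cases s
                    · exact hq_0 ⟨y, ⟨fun h => hcon ⟨(0 : Fin 5), h⟩, fun h => hcon ⟨(1 : Fin 5), h⟩⟩, hy⟩
                    · exact hq_1 ⟨y, ⟨fun h => hcon ⟨(0 : Fin 5), h⟩, fun h => hcon ⟨(1 : Fin 5), h⟩, fun h => hcon ⟨(2 : Fin 5), h⟩, fun h => hcon ⟨(3 : Fin 5), h⟩, fun h => hcon ⟨(4 : Fin 5), h⟩⟩, hy⟩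
                    · exact hq_2 ⟨y, ⟨fun h => hcon ⟨(0 : Fin 5), h⟩, fun h => hcon ⟨(1 : Fin 5), h⟩, fun h => hcon ⟨(2 : Fin 5), h⟩, fun h => hcon ⟨(3 : Fin 5), h⟩, fun h => hcon ⟨(4 : Fin 5), h⟩⟩, hy⟩
                    · exact hq_3 ⟨y, ⟨fun h => hcon ⟨(0 : Fin 5), h⟩, fun h => hcon ⟨(1 : Fin 5), h⟩, fun h => hcon ⟨(2 : Fin 5), h⟩, fun h => hcon ⟨(3 : Fin 5), h⟩, fun h => hcon ⟨(4 : Fin 5), h⟩⟩, hy⟩
                    · exact hq_4 ⟨y, ⟨fun h => hcon ⟨(0 : Fin 5), h⟩, fun h => hcon ⟨(1 : Fin 5), h⟩, fun h => hcon ⟨(2 : Fin 5), h⟩, fun h => hcon ⟨(3 : Fin 5), h⟩, fun h => hcon ⟨(4 : Fin 5), h⟩⟩, hy⟩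
          · by_cases hq_2 : ∃ y, (y ≠ x0 ∧ y ≠ x1 ∧ y ≠ x2 ∧ y ≠ x3) ∧ T.a x2 y ≠ 0
            · obtain ⟨x4, ⟨hn0, hn1, hn2, hn3⟩, hadj_2_4⟩ := hq_2
              have hne_0_4 : x0 ≠ x4 := hn0.symm
              have hne_1_4 : x1 ≠ x4 := hn1.symm
              have hne_2_4 : x2 ≠ x4 := hn2.symm
              have hne_3_4 : x3 ≠ x4 := hn3.symm
              have hadj_4_2 : T.a x4 x2 ≠ 0 := by rw [hsym]; exact hadj_2_4
              have hl_2_4 := NT.lb1 T _ _ hne_2_4 hadj_2_4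
              have hl_4_2 := NT.lb1 T _ _ hne_2_4.symm hadj_4_2
              have hs_2_4 : T.a x2 x4 = T.a x4 x2 := hsym _ _
              have hz_0_4 : T.a x0 x4 = 0 := by
                by_contra h
                exact hq_0 ⟨x4, ⟨hne_0_4.symm, hne_1_4.symm⟩, h⟩
              have hz_4_0 : T.a x4 x0 = 0 := by rw [hsym]; exact hz_0_4
              have hz_1_4 : T.a x1 x4 = 0 := by
                by_contra hadj_1_4
                have hadj_4_1 : T.a x4 x1 ≠ 0 := by rw [hsym]; exact hadj_1_4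
                have hl_1_4 := NT.lb1 T _ _ hne_1_4 hadj_1_4
                have hl_4_1 := NT.lb1 T _ _ hne_1_4.symm hadj_4_1
                have hs_1_4 : T.a x1 x4 = T.a x4 x1 := hsym _ _
                exact h3 ⟨x1, x0, x2, x4, hne_0_1.symm, hne_1_2, hne_1_4, hne_0_2, hne_0_4, hne_2_4, hadj_1_0, hadj_1_2, hadj_1_4⟩
              have hz_4_1 : T.a x4 x1 = 0 := by rw [hsym]; exact hz_1_4
              have hz_3_4 : T.a x3 x4 = 0 := by
                by_contra h
                exact hq_3 ⟨x4, ⟨hne_0_4.symm, hne_1_4.symm, hne_2_4.symm, hne_3_4.symm⟩, h⟩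
              have hz_4_3 : T.a x4 x3 = 0 := by rw [hsym]; exact hz_3_4
              exact (h3 ⟨x2, x1, x3, x4, hne_1_2.symm, hne_2_3, hne_2_4, hne_1_3, hne_1_4, hne_3_4, hadj_2_1, hadj_2_3, hadj_2_4⟩).elim
            · by_cases hq_1 : ∃ y, (y ≠ x0 ∧ y ≠ x1 ∧ y ≠ x2 ∧ y ≠ x3) ∧ T.a x1 y ≠ 0
              · obtain ⟨x4, ⟨hn0, hn1, hn2, hn3⟩, hadj_1_4⟩ := hq_1
                have hne_0_4 : x0 ≠ x4 := hn0.symm
                have hne_1_4 : x1 ≠ x4 := hn1.symm
                have hne_2_4 : x2 ≠ x4 := hn2.symm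
                have hne_3_4 : x3 ≠ x4 := hn3.symm
                have hadj_4_1 : T.a x4 x1 ≠ 0 := by rw [hsym]; exact hadj_1_4
                have hl_1_4 := NT.lb1 T _ _ hne_1_4 hadj_1_4
                have hl_4_1 := NT.lb1 T _ _ hne_1_4.symm hadj_4_1
                have hs_1_4 : T.a x1 x4 = T.a x4 x1 := hsym _ _
                have hz_0_4 : T.a x0 x4 = 0 := by
                  by_contra h
                  exact hq_0 ⟨x4, ⟨hne_0_4.symm, hne_1_4.symm⟩, h⟩
                have hz_4_0 : T.a x4 x0 = 0 := by rw [hsym]; exact hz_0_4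
                have hz_2_4 : T.a x2 x4 = 0 := by
                  by_contra h
                  exact hq_2 ⟨x4, ⟨hne_0_4.symm, hne_1_4.symm, hne_2_4.symm, hne_3_4.symm⟩, h⟩
                have hz_4_2 : T.a x4 x2 = 0 := by rw [hsym]; exact hz_2_4
                have hz_3_4 : T.a x3 x4 = 0 := by
                  by_contra h
                  exact hq_3 ⟨x4, ⟨hne_0_4.symm, hne_1_4.symm, hne_2_4.symm, hne_3_4.symm⟩, h⟩
                have hz_4_3 : T.a x4 x3 = 0 := by rw [hsym]; exact hz_3_4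
                exact (h3 ⟨x1, x0, x2, x4, hne_0_1.symm, hne_1_2, hne_1_4, hne_0_2, hne_0_4, hne_2_4, hadj_1_0, hadj_1_2, hadj_1_4⟩).elim
              · exfalso
                refine NT.not_closed T ![x0, x1, x2, x3] (by norm_num) (by norm_num) ?_
                intro s y hy
                by_contra hcon
                fin_cases s
                · exact hq_0 ⟨y, ⟨fun h => hcon ⟨(0 : Fin 4), h⟩, fun h => hcon ⟨(1 : Fin 4), h⟩⟩, hy⟩
                · exact hq_1 ⟨y, ⟨fun h => hcon ⟨(0 : Fin 4), h⟩, fun h => hcon ⟨(1 : Fin 4), h⟩, fun h => hcon ⟨(2 : Fin 4), h⟩, fun h => hcon ⟨(3 : Fin 4), h⟩⟩, hy⟩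
                · exact hq_2 ⟨y, ⟨fun h => hcon ⟨(0 : Fin 4), h⟩, fun h => hcon ⟨(1 : Fin 4), h⟩, fun h => hcon ⟨(2 : Fin 4), h⟩, fun h => hcon ⟨(3 : Fin 4), h⟩⟩, hy⟩
                · exact hq_3 ⟨y, ⟨fun h => hcon ⟨(0 : Fin 4), h⟩, fun h => hcon ⟨(1 : Fin 4), h⟩, fun h => hcon ⟨(2 : Fin 4), h⟩, fun h => hcon ⟨(3 : Fin 4), h⟩⟩, hy⟩
        · by_cases hq_1 : ∃ y, (y ≠ x0 ∧ y ≠ x1 ∧ y ≠ x2) ∧ T.a x1 y ≠ 0
          · obtain ⟨x3, ⟨hn0, hn1, hn2⟩, hadj_1_3⟩ := hq_1
            have hne_0_3 : x0 ≠ x3 := hn0.symm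
            have hne_1_3 : x1 ≠ x3 := hn1.symm
            have hne_2_3 : x2 ≠ x3 := hn2.symm
            have hadj_3_1 : T.a x3 x1 ≠ 0 := by rw [hsym]; exact hadj_1_3
            have hl_1_3 := NT.lb1 T _ _ hne_1_3 hadj_1_3
            have hl_3_1 := NT.lb1 T _ _ hne_1_3.symm hadj_3_1
            have hs_1_3 : T.a x1 x3 = T.a x3 x1 := hsym _ _
            have hz_0_3 : T.a x0 x3 = 0 := by
              by_contra h
              exact hq_0 ⟨x3, ⟨hne_0_3.symm, hne_1_3.symm⟩, h⟩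
            have hz_3_0 : T.a x3 x0 = 0 := by rw [hsym]; exact hz_0_3
            have hz_2_3 : T.a x2 x3 = 0 := by
              by_contra h
              exact hq_2 ⟨x3, ⟨hne_0_3.symm, hne_1_3.symm, hne_2_3.symm⟩, h⟩
            have hz_3_2 : T.a x3 x2 = 0 := by rw [hsym]; exact hz_2_3
            exact (h3 ⟨x1, x0, x2, x3, hne_0_1.symm, hne_1_2, hne_1_3, hne_0_2, hne_0_3, hne_2_3, hadj_1_0, hadj_1_2, hadj_1_3⟩).elim
          · exfalso
            refine NT.not_closed T ![x0, x1, x2] (by norm_num) (by norm_num) ?_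
            intro s y hy
            by_contra hcon
            fin_cases s
            · exact hq_0 ⟨y, ⟨fun h => hcon ⟨(0 : Fin 3), h⟩, fun h => hcon ⟨(1 : Fin 3), h⟩⟩, hy⟩
            · exact hq_1 ⟨y, ⟨fun h => hcon ⟨(0 : Fin 3), h⟩, fun h => hcon ⟨(1 : Fin 3), h⟩, fun h => hcon ⟨(2 : Fin 3), h⟩⟩, hy⟩
            · exact hq_2 ⟨y, ⟨fun h => hcon ⟨(0 : Fin 3), h⟩, fun h => hcon ⟨(1 : Fin 3), h⟩, fun h => hcon ⟨(2 : Fin 3), h⟩⟩, hy⟩
      · exfalso
        refine NT.not_closed T ![x0, x1] (by norm_num) (by norm_num) ?_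
        intro s y hy
        by_contra hcon
        fin_cases s
        · exact hq_0 ⟨y, ⟨fun h => hcon ⟨(0 : Fin 2), h⟩, fun h => hcon ⟨(1 : Fin 2), h⟩⟩, hy⟩
        · exact hq_1 ⟨y, ⟨fun h => hcon ⟨(0 : Fin 2), h⟩, fun h => hcon ⟨(1 : Fin 2), h⟩⟩, hy⟩
    · obtain ⟨x0⟩ : Nonempty (Fin 8) := ⟨⟨0, by norm_num⟩⟩
      by_cases hq_0 : ∃ y, y ≠ x0 ∧ T.a x0 y ≠ 0
      · obtain ⟨x1, hn0, hadj_0_1⟩ := hq_0
        have hne_0_1 : x0 ≠ x1 := hn0.symm
        have hadj_1_0 : T.a x1 x0 ≠ 0 := by rw [hsym]; exact hadj_0_1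
        have hl_0_1 := NT.lb1 T _ _ hne_0_1 hadj_0_1
        have hl_1_0 := NT.lb1 T _ _ hne_0_1.symm hadj_1_0
        have hs_0_1 : T.a x0 x1 = T.a x1 x0 := hsym _ _
        by_cases hq_1 : ∃ y, (y ≠ x0 ∧ y ≠ x1) ∧ T.a x1 y ≠ 0
        · obtain ⟨x2, ⟨hn0, hn1⟩, hadj_1_2⟩ := hq_1
          have hne_0_2 : x0 ≠ x2 := hn0.symm
          have hne_1_2 : x1 ≠ x2 := hn1.symm
          have hadj_2_1 : T.a x2 x1 ≠ 0 := by rw [hsym]; exact hadj_1_2
          have hl_1_2 := NT.lb1 T _ _ hne_1_2 hadj_1_2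
          have hl_2_1 := NT.lb1 T _ _ hne_1_2.symm hadj_2_1
          have hs_1_2 : T.a x1 x2 = T.a x2 x1 := hsym _ _
          have hz_0_2 : T.a x0 x2 = 0 := by
            by_contra hadj_0_2
            have hadj_2_0 : T.a x2 x0 ≠ 0 := by rw [hsym]; exact hadj_0_2
            have hl_0_2 := NT.lb1 T _ _ hne_0_2 hadj_0_2
            have hl_2_0 := NT.lb1 T _ _ hne_0_2.symm hadj_2_0
            have hs_0_2 : T.a x0 x2 = T.a x2 x0 := hsym _ _
            refine NT.cert3 T x0 x1 x2 hne_0_1 hne_0_2 hne_1_2 (by norm_num) 1 1 1 (by norm_num) (by norm_num) (by norm_num) ?_ ?_ ?_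
            · linarith only [hd x0, hwp x0, hl_0_1, hl_0_2]
            · linarith only [hd x1, hwp x1, hl_1_0, hl_1_2]
            · linarith only [hd x2, hwp x2, hl_2_0, hl_2_1]
          have hz_2_0 : T.a x2 x0 = 0 := by rw [hsym]; exact hz_0_2
          by_cases hq_2 : ∃ y, (y ≠ x0 ∧ y ≠ x1 ∧ y ≠ x2) ∧ T.a x2 y ≠ 0
          · obtain ⟨x3, ⟨hn0, hn1, hn2⟩, hadj_2_3⟩ := hq_2
            have hne_0_3 : x0 ≠ x3 := hn0.symm
            have hne_1_3 : x1 ≠ x3 := hn1.symm
            have hne_2_3 : x2 ≠ x3 := hn2.symm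
            have hadj_3_2 : T.a x3 x2 ≠ 0 := by rw [hsym]; exact hadj_2_3
            have hl_2_3 := NT.lb1 T _ _ hne_2_3 hadj_2_3
            have hl_3_2 := NT.lb1 T _ _ hne_2_3.symm hadj_3_2
            have hs_2_3 : T.a x2 x3 = T.a x3 x2 := hsym _ _
            have hz_0_3 : T.a x0 x3 = 0 := by
              by_contra hadj_0_3
              have hadj_3_0 : T.a x3 x0 ≠ 0 := by rw [hsym]; exact hadj_0_3
              have hl_0_3 := NT.lb1 T _ _ hne_0_3 hadj_0_3
              have hl_3_0 := NT.lb1 T _ _ hne_0_3.symm hadj_3_0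
              have hs_0_3 : T.a x0 x3 = T.a x3 x0 := hsym _ _
              refine NT.cert4 T x0 x1 x2 x3 hne_0_1 hne_0_2 hne_0_3 hne_1_2 hne_1_3 hne_2_3 (by norm_num) 1 1 1 1 (by norm_num) (by norm_num) (by norm_num) (by norm_num) ?_ ?_ ?_ ?_
              · linarith only [hd x0, hwp x0, hl_0_1, hnn x0 x2 hne_0_2, hl_0_3]
              · linarith only [hd x1, hwp x1, hl_1_0, hl_1_2, hnn x1 x3 hne_1_3]
              · linarith only [hd x2, hwp x2, hnn x2 x0 hne_0_2.symm, hl_2_1, hl_2_3]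
              · linarith only [hd x3, hwp x3, hl_3_0, hnn x3 x1 hne_1_3.symm, hl_3_2]
            have hz_3_0 : T.a x3 x0 = 0 := by rw [hsym]; exact hz_0_3
            have hz_1_3 : T.a x1 x3 = 0 := by
              by_contra hadj_1_3
              have hadj_3_1 : T.a x3 x1 ≠ 0 := by rw [hsym]; exact hadj_1_3
              have hl_1_3 := NT.lb1 T _ _ hne_1_3 hadj_1_3
              have hl_3_1 := NT.lb1 T _ _ hne_1_3.symm hadj_3_1
              have hs_1_3 : T.a x1 x3 = T.a x3 x1 := hsym _ _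
              exact h3 ⟨x1, x0, x2, x3, hne_0_1.symm, hne_1_2, hne_1_3, hne_0_2, hne_0_3, hne_2_3, hadj_1_0, hadj_1_2, hadj_1_3⟩
            have hz_3_1 : T.a x3 x1 = 0 := by rw [hsym]; exact hz_1_3
            by_cases hq_3 : ∃ y, (y ≠ x0 ∧ y ≠ x1 ∧ y ≠ x2 ∧ y ≠ x3) ∧ T.a x3 y ≠ 0
            · obtain ⟨x4, ⟨hn0, hn1, hn2, hn3⟩, hadj_3_4⟩ := hq_3
              have hne_0_4 : x0 ≠ x4 := hn0.symm
              have hne_1_4 : x1 ≠ x4 := hn1.symm
              have hne_2_4 : x2 ≠ x4 := hn2.symm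
              have hne_3_4 : x3 ≠ x4 := hn3.symm
              have hadj_4_3 : T.a x4 x3 ≠ 0 := by rw [hsym]; exact hadj_3_4
              have hl_3_4 := NT.lb1 T _ _ hne_3_4 hadj_3_4
              have hl_4_3 := NT.lb1 T _ _ hne_3_4.symm hadj_4_3
              have hs_3_4 : T.a x3 x4 = T.a x4 x3 := hsym _ _
              have hz_0_4 : T.a x0 x4 = 0 := by
                by_contra hadj_0_4
                have hadj_4_0 : T.a x4 x0 ≠ 0 := by rw [hsym]; exact hadj_0_4
                have hl_0_4 := NT.lb1 T _ _ hne_0_4 hadj_0_4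
                have hl_4_0 := NT.lb1 T _ _ hne_0_4.symm hadj_4_0
                have hs_0_4 : T.a x0 x4 = T.a x4 x0 := hsym _ _
                refine NT.cert5 T x0 x1 x2 x3 x4 hne_0_1 hne_0_2 hne_0_3 hne_0_4 hne_1_2 hne_1_3 hne_1_4 hne_2_3 hne_2_4 hne_3_4 (by norm_num) 1 1 1 1 1 (by norm_num) (by norm_num) (by norm_num) (by norm_num) (by norm_num) ?_ ?_ ?_ ?_ ?_
                · linarith only [hd x0, hwp x0, hl_0_1, hnn x0 x2 hne_0_2, hnn x0 x3 hne_0_3, hl_0_4]
                · linarith only [hd x1, hwp x1, hl_1_0, hl_1_2, hnn x1 x3 hne_1_3, hnn x1 x4 hne_1_4]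
                · linarith only [hd x2, hwp x2, hnn x2 x0 hne_0_2.symm, hl_2_1, hl_2_3, hnn x2 x4 hne_2_4]
                · linarith only [hd x3, hwp x3, hnn x3 x0 hne_0_3.symm, hnn x3 x1 hne_1_3.symm, hl_3_2, hl_3_4]
                · linarith only [hd x4, hwp x4, hl_4_0, hnn x4 x1 hne_1_4.symm, hnn x4 x2 hne_2_4.symm, hl_4_3]
              have hz_4_0 : T.a x4 x0 = 0 := by rw [hsym]; exact hz_0_4
              have hz_1_4 : T.a x1 x4 = 0 := by
                by_contra hadj_1_4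
                have hadj_4_1 : T.a x4 x1 ≠ 0 := by rw [hsym]; exact hadj_1_4
                have hl_1_4 := NT.lb1 T _ _ hne_1_4 hadj_1_4
                have hl_4_1 := NT.lb1 T _ _ hne_1_4.symm hadj_4_1
                have hs_1_4 : T.a x1 x4 = T.a x4 x1 := hsym _ _
                exact h3 ⟨x1, x0, x2, x4, hne_0_1.symm, hne_1_2, hne_1_4, hne_0_2, hne_0_4, hne_2_4, hadj_1_0, hadj_1_2, hadj_1_4⟩
              have hz_4_1 : T.a x4 x1 = 0 := by rw [hsym]; exact hz_1_4
              have hz_2_4 : T.a x2 x4 = 0 := by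
                by_contra hadj_2_4
                have hadj_4_2 : T.a x4 x2 ≠ 0 := by rw [hsym]; exact hadj_2_4
                have hl_2_4 := NT.lb1 T _ _ hne_2_4 hadj_2_4
                have hl_4_2 := NT.lb1 T _ _ hne_2_4.symm hadj_4_2
                have hs_2_4 : T.a x2 x4 = T.a x4 x2 := hsym _ _
                exact h3 ⟨x2, x1, x3, x4, hne_1_2.symm, hne_2_3, hne_2_4, hne_1_3, hne_1_4, hne_3_4, hadj_2_1, hadj_2_3, hadj_2_4⟩
              have hz_4_2 : T.a x4 x2 = 0 := by rw [hsym]; exact hz_2_4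
              by_cases hq_4 : ∃ y, (y ≠ x0 ∧ y ≠ x1 ∧ y ≠ x2 ∧ y ≠ x3 ∧ y ≠ x4) ∧ T.a x4 y ≠ 0
              · obtain ⟨x5, ⟨hn0, hn1, hn2, hn3, hn4⟩, hadj_4_5⟩ := hq_4
                have hne_0_5 : x0 ≠ x5 := hn0.symm
                have hne_1_5 : x1 ≠ x5 := hn1.symm
                have hne_2_5 : x2 ≠ x5 := hn2.symm
                have hne_3_5 : x3 ≠ x5 := hn3.symm
                have hne_4_5 : x4 ≠ x5 := hn4.symm
                have hadj_5_4 : T.a x5 x4 ≠ 0 := by rw [hsym]; exact hadj_4_5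
                have hl_4_5 := NT.lb1 T _ _ hne_4_5 hadj_4_5
                have hl_5_4 := NT.lb1 T _ _ hne_4_5.symm hadj_5_4
                have hs_4_5 : T.a x4 x5 = T.a x5 x4 := hsym _ _
                have hz_0_5 : T.a x0 x5 = 0 := by
                  by_contra hadj_0_5
                  have hadj_5_0 : T.a x5 x0 ≠ 0 := by rw [hsym]; exact hadj_0_5
                  have hl_0_5 := NT.lb1 T _ _ hne_0_5 hadj_0_5
                  have hl_5_0 := NT.lb1 T _ _ hne_0_5.symm hadj_5_0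
                  have hs_0_5 : T.a x0 x5 = T.a x5 x0 := hsym _ _
                  refine NT.cert6 T x0 x1 x2 x3 x4 x5 hne_0_1 hne_0_2 hne_0_3 hne_0_4 hne_0_5 hne_1_2 hne_1_3 hne_1_4 hne_1_5 hne_2_3 hne_2_4 hne_2_5 hne_3_4 hne_3_5 hne_4_5 (by norm_num) 1 1 1 1 1 1 (by norm_num) (by norm_num) (by norm_num) (by norm_num) (by norm_num) (by norm_num) ?_ ?_ ?_ ?_ ?_ ?_
                  · linarith only [hd x0, hwp x0, hl_0_1, hnn x0 x2 hne_0_2, hnn x0 x3 hne_0_3, hnn x0 x4 hne_0_4, hl_0_5]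
                  · linarith only [hd x1, hwp x1, hl_1_0, hl_1_2, hnn x1 x3 hne_1_3, hnn x1 x4 hne_1_4, hnn x1 x5 hne_1_5]
                  · linarith only [hd x2, hwp x2, hnn x2 x0 hne_0_2.symm, hl_2_1, hl_2_3, hnn x2 x4 hne_2_4, hnn x2 x5 hne_2_5]
                  · linarith only [hd x3, hwp x3, hnn x3 x0 hne_0_3.symm, hnn x3 x1 hne_1_3.symm, hl_3_2, hl_3_4, hnn x3 x5 hne_3_5]
                  · linarith only [hd x4, hwp x4, hnn x4 x0 hne_0_4.symm, hnn x4 x1 hne_1_4.symm, hnn x4 x2 hne_2_4.symm, hl_4_3, hl_4_5]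
                  · linarith only [hd x5, hwp x5, hl_5_0, hnn x5 x1 hne_1_5.symm, hnn x5 x2 hne_2_5.symm, hnn x5 x3 hne_3_5.symm, hl_5_4]
                have hz_5_0 : T.a x5 x0 = 0 := by rw [hsym]; exact hz_0_5
                have hz_1_5 : T.a x1 x5 = 0 := by
                  by_contra hadj_1_5
                  have hadj_5_1 : T.a x5 x1 ≠ 0 := by rw [hsym]; exact hadj_1_5
                  have hl_1_5 := NT.lb1 T _ _ hne_1_5 hadj_1_5
                  have hl_5_1 := NT.lb1 T _ _ hne_1_5.symm hadj_5_1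
                  have hs_1_5 : T.a x1 x5 = T.a x5 x1 := hsym _ _
                  exact h3 ⟨x1, x0, x2, x5, hne_0_1.symm, hne_1_2, hne_1_5, hne_0_2, hne_0_5, hne_2_5, hadj_1_0, hadj_1_2, hadj_1_5⟩
                have hz_5_1 : T.a x5 x1 = 0 := by rw [hsym]; exact hz_1_5
                have hz_2_5 : T.a x2 x5 = 0 := by
                  by_contra hadj_2_5
                  have hadj_5_2 : T.a x5 x2 ≠ 0 := by rw [hsym]; exact hadj_2_5
                  have hl_2_5 := NT.lb1 T _ _ hne_2_5 hadj_2_5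
                  have hl_5_2 := NT.lb1 T _ _ hne_2_5.symm hadj_5_2
                  have hs_2_5 : T.a x2 x5 = T.a x5 x2 := hsym _ _
                  exact h3 ⟨x2, x1, x3, x5, hne_1_2.symm, hne_2_3, hne_2_5, hne_1_3, hne_1_5, hne_3_5, hadj_2_1, hadj_2_3, hadj_2_5⟩
                have hz_5_2 : T.a x5 x2 = 0 := by rw [hsym]; exact hz_2_5
                have hz_3_5 : T.a x3 x5 = 0 := by
                  by_contra hadj_3_5
                  have hadj_5_3 : T.a x5 x3 ≠ 0 := by rw [hsym]; exact hadj_3_5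
                  have hl_3_5 := NT.lb1 T _ _ hne_3_5 hadj_3_5
                  have hl_5_3 := NT.lb1 T _ _ hne_3_5.symm hadj_5_3
                  have hs_3_5 : T.a x3 x5 = T.a x5 x3 := hsym _ _
                  exact h3 ⟨x3, x2, x4, x5, hne_2_3.symm, hne_3_4, hne_3_5, hne_2_4, hne_2_5, hne_4_5, hadj_3_2, hadj_3_4, hadj_3_5⟩
                have hz_5_3 : T.a x5 x3 = 0 := by rw [hsym]; exact hz_3_5
                by_cases hq_5 : ∃ y, (y ≠ x0 ∧ y ≠ x1 ∧ y ≠ x2 ∧ y ≠ x3 ∧ y ≠ x4 ∧ y ≠ x5) ∧ T.a x5 y ≠ 0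
                · obtain ⟨x6, ⟨hn0, hn1, hn2, hn3, hn4, hn5⟩, hadj_5_6⟩ := hq_5
                  have hne_0_6 : x0 ≠ x6 := hn0.symm
                  have hne_1_6 : x1 ≠ x6 := hn1.symm
                  have hne_2_6 : x2 ≠ x6 := hn2.symm
                  have hne_3_6 : x3 ≠ x6 := hn3.symm
                  have hne_4_6 : x4 ≠ x6 := hn4.symm
                  have hne_5_6 : x5 ≠ x6 := hn5.symm
                  have hadj_6_5 : T.a x6 x5 ≠ 0 := by rw [hsym]; exact hadj_5_6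
                  have hl_5_6 := NT.lb1 T _ _ hne_5_6 hadj_5_6
                  have hl_6_5 := NT.lb1 T _ _ hne_5_6.symm hadj_6_5
                  have hs_5_6 : T.a x5 x6 = T.a x6 x5 := hsym _ _
                  have hz_0_6 : T.a x0 x6 = 0 := by
                    by_contra hadj_0_6
                    have hadj_6_0 : T.a x6 x0 ≠ 0 := by rw [hsym]; exact hadj_0_6
                    have hl_0_6 := NT.lb1 T _ _ hne_0_6 hadj_0_6
                    have hl_6_0 := NT.lb1 T _ _ hne_0_6.symm hadj_6_0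
                    have hs_0_6 : T.a x0 x6 = T.a x6 x0 := hsym _ _
                    refine NT.cert7 T x0 x1 x2 x3 x4 x5 x6 hne_0_1 hne_0_2 hne_0_3 hne_0_4 hne_0_5 hne_0_6 hne_1_2 hne_1_3 hne_1_4 hne_1_5 hne_1_6 hne_2_3 hne_2_4 hne_2_5 hne_2_6 hne_3_4 hne_3_5 hne_3_6 hne_4_5 hne_4_6 hne_5_6 (by norm_num) 1 1 1 1 1 1 1 (by norm_num) (by norm_num) (by norm_num) (by norm_num) (by norm_num) (by norm_num) (by norm_num) ?_ ?_ ?_ ?_ ?_ ?_ ?_
                    · linarith only [hd x0, hwp x0, hl_0_1, hnn x0 x2 hne_0_2, hnn x0 x3 hne_0_3, hnn x0 x4 hne_0_4, hnn x0 x5 hne_0_5, hl_0_6]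
                    · linarith only [hd x1, hwp x1, hl_1_0, hl_1_2, hnn x1 x3 hne_1_3, hnn x1 x4 hne_1_4, hnn x1 x5 hne_1_5, hnn x1 x6 hne_1_6]
                    · linarith only [hd x2, hwp x2, hnn x2 x0 hne_0_2.symm, hl_2_1, hl_2_3, hnn x2 x4 hne_2_4, hnn x2 x5 hne_2_5, hnn x2 x6 hne_2_6]
                    · linarith only [hd x3, hwp x3, hnn x3 x0 hne_0_3.symm, hnn x3 x1 hne_1_3.symm, hl_3_2, hl_3_4, hnn x3 x5 hne_3_5, hnn x3 x6 hne_3_6]
                    · linarith only [hd x4, hwp x4, hnn x4 x0 hne_0_4.symm, hnn x4 x1 hne_1_4.symm, hnn x4 x2 hne_2_4.symm, hl_4_3, hl_4_5, hnn x4 x6 hne_4_6]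
                    · linarith only [hd x5, hwp x5, hnn x5 x0 hne_0_5.symm, hnn x5 x1 hne_1_5.symm, hnn x5 x2 hne_2_5.symm, hnn x5 x3 hne_3_5.symm, hl_5_4, hl_5_6]
                    · linarith only [hd x6, hwp x6, hl_6_0, hnn x6 x1 hne_1_6.symm, hnn x6 x2 hne_2_6.symm, hnn x6 x3 hne_3_6.symm, hnn x6 x4 hne_4_6.symm, hl_6_5]
                  have hz_6_0 : T.a x6 x0 = 0 := by rw [hsym]; exact hz_0_6
                  have hz_1_6 : T.a x1 x6 = 0 := by
                    by_contra hadj_1_6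
                    have hadj_6_1 : T.a x6 x1 ≠ 0 := by rw [hsym]; exact hadj_1_6
                    have hl_1_6 := NT.lb1 T _ _ hne_1_6 hadj_1_6
                    have hl_6_1 := NT.lb1 T _ _ hne_1_6.symm hadj_6_1
                    have hs_1_6 : T.a x1 x6 = T.a x6 x1 := hsym _ _
                    exact h3 ⟨x1, x0, x2, x6, hne_0_1.symm, hne_1_2, hne_1_6, hne_0_2, hne_0_6, hne_2_6, hadj_1_0, hadj_1_2, hadj_1_6⟩
                  have hz_6_1 : T.a x6 x1 = 0 := by rw [hsym]; exact hz_1_6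
                  have hz_2_6 : T.a x2 x6 = 0 := by
                    by_contra hadj_2_6
                    have hadj_6_2 : T.a x6 x2 ≠ 0 := by rw [hsym]; exact hadj_2_6
                    have hl_2_6 := NT.lb1 T _ _ hne_2_6 hadj_2_6
                    have hl_6_2 := NT.lb1 T _ _ hne_2_6.symm hadj_6_2
                    have hs_2_6 : T.a x2 x6 = T.a x6 x2 := hsym _ _
                    exact h3 ⟨x2, x1, x3, x6, hne_1_2.symm, hne_2_3, hne_2_6, hne_1_3, hne_1_6, hne_3_6, hadj_2_1, hadj_2_3, hadj_2_6⟩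
                  have hz_6_2 : T.a x6 x2 = 0 := by rw [hsym]; exact hz_2_6
                  have hz_3_6 : T.a x3 x6 = 0 := by
                    by_contra hadj_3_6
                    have hadj_6_3 : T.a x6 x3 ≠ 0 := by rw [hsym]; exact hadj_3_6
                    have hl_3_6 := NT.lb1 T _ _ hne_3_6 hadj_3_6
                    have hl_6_3 := NT.lb1 T _ _ hne_3_6.symm hadj_6_3
                    have hs_3_6 : T.a x3 x6 = T.a x6 x3 := hsym _ _
                    exact h3 ⟨x3, x2, x4, x6, hne_2_3.symm, hne_3_4, hne_3_6, hne_2_4, hne_2_6, hne_4_6, hadj_3_2, hadj_3_4, hadj_3_6⟩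
                  have hz_6_3 : T.a x6 x3 = 0 := by rw [hsym]; exact hz_3_6
                  have hz_4_6 : T.a x4 x6 = 0 := by
                    by_contra hadj_4_6
                    have hadj_6_4 : T.a x6 x4 ≠ 0 := by rw [hsym]; exact hadj_4_6
                    have hl_4_6 := NT.lb1 T _ _ hne_4_6 hadj_4_6
                    have hl_6_4 := NT.lb1 T _ _ hne_4_6.symm hadj_6_4
                    have hs_4_6 : T.a x4 x6 = T.a x6 x4 := hsym _ _
                    exact h3 ⟨x4, x3, x5, x6, hne_3_4.symm, hne_4_5, hne_4_6, hne_3_5, hne_3_6, hne_5_6, hadj_4_3, hadj_4_5, hadj_4_6⟩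
                  have hz_6_4 : T.a x6 x4 = 0 := by rw [hsym]; exact hz_4_6
                  by_cases hq_6 : ∃ y, (y ≠ x0 ∧ y ≠ x1 ∧ y ≠ x2 ∧ y ≠ x3 ∧ y ≠ x4 ∧ y ≠ x5 ∧ y ≠ x6) ∧ T.a x6 y ≠ 0
                  · obtain ⟨x7, ⟨hn0, hn1, hn2, hn3, hn4, hn5, hn6⟩, hadj_6_7⟩ := hq_6
                    have hne_0_7 : x0 ≠ x7 := hn0.symm
                    have hne_1_7 : x1 ≠ x7 := hn1.symm
                    have hne_2_7 : x2 ≠ x7 := hn2.symm
                    have hne_3_7 : x3 ≠ x7 := hn3.symm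
                    have hne_4_7 : x4 ≠ x7 := hn4.symm
                    have hne_5_7 : x5 ≠ x7 := hn5.symm
                    have hne_6_7 : x6 ≠ x7 := hn6.symm
                    have hadj_7_6 : T.a x7 x6 ≠ 0 := by rw [hsym]; exact hadj_6_7
                    have hl_6_7 := NT.lb1 T _ _ hne_6_7 hadj_6_7
                    have hl_7_6 := NT.lb1 T _ _ hne_6_7.symm hadj_7_6
                    have hs_6_7 : T.a x6 x7 = T.a x7 x6 := hsym _ _
                    by_cases hadj_0_7 : T.a x0 x7 ≠ 0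
                    · have hadj_7_0 : T.a x7 x0 ≠ 0 := by rw [hsym]; exact hadj_0_7
                      have hl_0_7 := NT.lb1 T _ _ hne_0_7 hadj_0_7
                      have hl_7_0 := NT.lb1 T _ _ hne_0_7.symm hadj_7_0
                      have hs_0_7 : T.a x0 x7 = T.a x7 x0 := hsym _ _
                      have hz_1_7 : T.a x1 x7 = 0 := by
                        by_contra hadj_1_7
                        have hadj_7_1 : T.a x7 x1 ≠ 0 := by rw [hsym]; exact hadj_1_7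
                        have hl_1_7 := NT.lb1 T _ _ hne_1_7 hadj_1_7
                        have hl_7_1 := NT.lb1 T _ _ hne_1_7.symm hadj_7_1
                        have hs_1_7 : T.a x1 x7 = T.a x7 x1 := hsym _ _
                        exact h3 ⟨x1, x0, x2, x7, hne_0_1.symm, hne_1_2, hne_1_7, hne_0_2, hne_0_7, hne_2_7, hadj_1_0, hadj_1_2, hadj_1_7⟩
                      have hz_7_1 : T.a x7 x1 = 0 := by rw [hsym]; exact hz_1_7
                      have hz_2_7 : T.a x2 x7 = 0 := by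
                        by_contra hadj_2_7
                        have hadj_7_2 : T.a x7 x2 ≠ 0 := by rw [hsym]; exact hadj_2_7
                        have hl_2_7 := NT.lb1 T _ _ hne_2_7 hadj_2_7
                        have hl_7_2 := NT.lb1 T _ _ hne_2_7.symm hadj_7_2
                        have hs_2_7 : T.a x2 x7 = T.a x7 x2 := hsym _ _
                        exact h3 ⟨x2, x1, x3, x7, hne_1_2.symm, hne_2_3, hne_2_7, hne_1_3, hne_1_7, hne_3_7, hadj_2_1, hadj_2_3, hadj_2_7⟩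
                      have hz_7_2 : T.a x7 x2 = 0 := by rw [hsym]; exact hz_2_7
                      have hz_3_7 : T.a x3 x7 = 0 := by
                        by_contra hadj_3_7
                        have hadj_7_3 : T.a x7 x3 ≠ 0 := by rw [hsym]; exact hadj_3_7
                        have hl_3_7 := NT.lb1 T _ _ hne_3_7 hadj_3_7
                        have hl_7_3 := NT.lb1 T _ _ hne_3_7.symm hadj_7_3
                        have hs_3_7 : T.a x3 x7 = T.a x7 x3 := hsym _ _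
                        exact h3 ⟨x3, x2, x4, x7, hne_2_3.symm, hne_3_4, hne_3_7, hne_2_4, hne_2_7, hne_4_7, hadj_3_2, hadj_3_4, hadj_3_7⟩
                      have hz_7_3 : T.a x7 x3 = 0 := by rw [hsym]; exact hz_3_7
                      have hz_4_7 : T.a x4 x7 = 0 := by
                        by_contra hadj_4_7
                        have hadj_7_4 : T.a x7 x4 ≠ 0 := by rw [hsym]; exact hadj_4_7
                        have hl_4_7 := NT.lb1 T _ _ hne_4_7 hadj_4_7
                        have hl_7_4 := NT.lb1 T _ _ hne_4_7.symm hadj_7_4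
                        have hs_4_7 : T.a x4 x7 = T.a x7 x4 := hsym _ _
                        exact h3 ⟨x4, x3, x5, x7, hne_3_4.symm, hne_4_5, hne_4_7, hne_3_5, hne_3_7, hne_5_7, hadj_4_3, hadj_4_5, hadj_4_7⟩
                      have hz_7_4 : T.a x7 x4 = 0 := by rw [hsym]; exact hz_4_7
                      have hz_5_7 : T.a x5 x7 = 0 := by
                        by_contra hadj_5_7
                        have hadj_7_5 : T.a x7 x5 ≠ 0 := by rw [hsym]; exact hadj_5_7
                        have hl_5_7 := NT.lb1 T _ _ hne_5_7 hadj_5_7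
                        have hl_7_5 := NT.lb1 T _ _ hne_5_7.symm hadj_7_5
                        have hs_5_7 : T.a x5 x7 = T.a x7 x5 := hsym _ _
                        exact h3 ⟨x5, x4, x6, x7, hne_4_5.symm, hne_5_6, hne_5_7, hne_4_6, hne_4_7, hne_6_7, hadj_5_4, hadj_5_6, hadj_5_7⟩
                      have hz_7_5 : T.a x7 x5 = 0 := by rw [hsym]; exact hz_5_7
                      exact G8.shape16 T hall x0 x1 x2 x3 x4 x5 x6 x7 hne_0_1 hne_0_2 hne_0_3 hne_0_4 hne_0_5 hne_0_6 hne_0_7 hne_1_2 hne_1_3 hne_1_4 hne_1_5 hne_1_6 hne_1_7 hne_2_3 hne_2_4 hne_2_5 hne_2_6 hne_2_7 hne_3_4 hne_3_5 hne_3_6 hne_3_7 hne_4_5 hne_4_6 hne_4_7 hne_5_6 hne_5_7 hne_6_7 hadj_0_1 hz_0_2 hz_0_3 hz_0_4 hz_0_5 hz_0_6 hadj_0_7 hadj_1_2 hz_1_3 hz_1_4 hz_1_5 hz_1_6 hz_1_7 hadj_2_3 hz_2_4 hz_2_5 hz_2_6 hz_2_7 hadj_3_4 hz_3_5 hz_3_6 hz_3_7 hadj_4_5 hz_4_6 hz_4_7 hadj_5_6 hz_5_7 hadj_6_7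
                    · have hz_0_7 : T.a x0 x7 = 0 := not_not.mp hadj_0_7
                      have hz_7_0 : T.a x7 x0 = 0 := by rw [hsym]; exact hz_0_7
                      have hz_1_7 : T.a x1 x7 = 0 := by
                        by_contra hadj_1_7
                        have hadj_7_1 : T.a x7 x1 ≠ 0 := by rw [hsym]; exact hadj_1_7
                        have hl_1_7 := NT.lb1 T _ _ hne_1_7 hadj_1_7
                        have hl_7_1 := NT.lb1 T _ _ hne_1_7.symm hadj_7_1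
                        have hs_1_7 : T.a x1 x7 = T.a x7 x1 := hsym _ _
                        exact h3 ⟨x1, x0, x2, x7, hne_0_1.symm, hne_1_2, hne_1_7, hne_0_2, hne_0_7, hne_2_7, hadj_1_0, hadj_1_2, hadj_1_7⟩
                      have hz_7_1 : T.a x7 x1 = 0 := by rw [hsym]; exact hz_1_7
                      have hz_2_7 : T.a x2 x7 = 0 := by
                        by_contra hadj_2_7
                        have hadj_7_2 : T.a x7 x2 ≠ 0 := by rw [hsym]; exact hadj_2_7
                        have hl_2_7 := NT.lb1 T _ _ hne_2_7 hadj_2_7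
                        have hl_7_2 := NT.lb1 T _ _ hne_2_7.symm hadj_7_2
                        have hs_2_7 : T.a x2 x7 = T.a x7 x2 := hsym _ _
                        exact h3 ⟨x2, x1, x3, x7, hne_1_2.symm, hne_2_3, hne_2_7, hne_1_3, hne_1_7, hne_3_7, hadj_2_1, hadj_2_3, hadj_2_7⟩
                      have hz_7_2 : T.a x7 x2 = 0 := by rw [hsym]; exact hz_2_7
                      have hz_3_7 : T.a x3 x7 = 0 := by
                        by_contra hadj_3_7
                        have hadj_7_3 : T.a x7 x3 ≠ 0 := by rw [hsym]; exact hadj_3_7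
                        have hl_3_7 := NT.lb1 T _ _ hne_3_7 hadj_3_7
                        have hl_7_3 := NT.lb1 T _ _ hne_3_7.symm hadj_7_3
                        have hs_3_7 : T.a x3 x7 = T.a x7 x3 := hsym _ _
                        exact h3 ⟨x3, x2, x4, x7, hne_2_3.symm, hne_3_4, hne_3_7, hne_2_4, hne_2_7, hne_4_7, hadj_3_2, hadj_3_4, hadj_3_7⟩
                      have hz_7_3 : T.a x7 x3 = 0 := by rw [hsym]; exact hz_3_7
                      have hz_4_7 : T.a x4 x7 = 0 := by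
                        by_contra hadj_4_7
                        have hadj_7_4 : T.a x7 x4 ≠ 0 := by rw [hsym]; exact hadj_4_7
                        have hl_4_7 := NT.lb1 T _ _ hne_4_7 hadj_4_7
                        have hl_7_4 := NT.lb1 T _ _ hne_4_7.symm hadj_7_4
                        have hs_4_7 : T.a x4 x7 = T.a x7 x4 := hsym _ _
                        exact h3 ⟨x4, x3, x5, x7, hne_3_4.symm, hne_4_5, hne_4_7, hne_3_5, hne_3_7, hne_5_7, hadj_4_3, hadj_4_5, hadj_4_7⟩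
                      have hz_7_4 : T.a x7 x4 = 0 := by rw [hsym]; exact hz_4_7
                      have hz_5_7 : T.a x5 x7 = 0 := by
                        by_contra hadj_5_7
                        have hadj_7_5 : T.a x7 x5 ≠ 0 := by rw [hsym]; exact hadj_5_7
                        have hl_5_7 := NT.lb1 T _ _ hne_5_7 hadj_5_7
                        have hl_7_5 := NT.lb1 T _ _ hne_5_7.symm hadj_7_5
                        have hs_5_7 : T.a x5 x7 = T.a x7 x5 := hsym _ _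
                        exact h3 ⟨x5, x4, x6, x7, hne_4_5.symm, hne_5_6, hne_5_7, hne_4_6, hne_4_7, hne_6_7, hadj_5_4, hadj_5_6, hadj_5_7⟩
                      have hz_7_5 : T.a x7 x5 = 0 := by rw [hsym]; exact hz_5_7
                      exact G8.shape17 T hall x0 x1 x2 x3 x4 x5 x6 x7 hne_0_1 hne_0_2 hne_0_3 hne_0_4 hne_0_5 hne_0_6 hne_0_7 hne_1_2 hne_1_3 hne_1_4 hne_1_5 hne_1_6 hne_1_7 hne_2_3 hne_2_4 hne_2_5 hne_2_6 hne_2_7 hne_3_4 hne_3_5 hne_3_6 hne_3_7 hne_4_5 hne_4_6 hne_4_7 hne_5_6 hne_5_7 hne_6_7 hadj_0_1 hz_0_2 hz_0_3 hz_0_4 hz_0_5 hz_0_6 hz_0_7 hadj_1_2 hz_1_3 hz_1_4 hz_1_5 hz_1_6 hz_1_7 hadj_2_3 hz_2_4 hz_2_5 hz_2_6 hz_2_7 hadj_3_4 hz_3_5 hz_3_6 hz_3_7 hadj_4_5 hz_4_6 hz_4_7 hadj_5_6 hz_5_7 hadj_6_7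
                  · exfalso
                    refine hleaf ⟨x6, x5, hne_5_6.symm, hadj_6_5, fun z hz => ?_⟩
                    by_contra hcon
                    rw [not_or] at hcon
                    exact hq_6 ⟨z, ⟨fun h => hz (h ▸ hz_6_0), fun h => hz (h ▸ hz_6_1), fun h => hz (h ▸ hz_6_2), fun h => hz (h ▸ hz_6_3), fun h => hz (h ▸ hz_6_4), hcon.2, hcon.1⟩, hz⟩
                · exfalso
                  refine hleaf ⟨x5, x4, hne_4_5.symm, hadj_5_4, fun z hz => ?_⟩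
                  by_contra hcon
                  rw [not_or] at hcon
                  exact hq_5 ⟨z, ⟨fun h => hz (h ▸ hz_5_0), fun h => hz (h ▸ hz_5_1), fun h => hz (h ▸ hz_5_2), fun h => hz (h ▸ hz_5_3), hcon.2, hcon.1⟩, hz⟩
              · exfalso
                refine hleaf ⟨x4, x3, hne_3_4.symm, hadj_4_3, fun z hz => ?_⟩
                by_contra hcon
                rw [not_or] at hcon
                exact hq_4 ⟨z, ⟨fun h => hz (h ▸ hz_4_0), fun h => hz (h ▸ hz_4_1), fun h => hz (h ▸ hz_4_2), hcon.2, hcon.1⟩, hz⟩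
            · exfalso
              refine hleaf ⟨x3, x2, hne_2_3.symm, hadj_3_2, fun z hz => ?_⟩
              by_contra hcon
              rw [not_or] at hcon
              exact hq_3 ⟨z, ⟨fun h => hz (h ▸ hz_3_0), fun h => hz (h ▸ hz_3_1), hcon.2, hcon.1⟩, hz⟩
          · exfalso
            refine hleaf ⟨x2, x1, hne_1_2.symm, hadj_2_1, fun z hz => ?_⟩
            by_contra hcon
            rw [not_or] at hcon
            exact hq_2 ⟨z, ⟨fun h => hz (h ▸ hz_2_0), hcon.2, hcon.1⟩, hz⟩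
        · exfalso
          refine hleaf ⟨x1, x0, hne_0_1.symm, hadj_1_0, fun z hz => ?_⟩
          by_contra hcon
          rw [not_or] at hcon
          exact hq_1 ⟨z, ⟨hcon.2, hcon.1⟩, hz⟩
      · exfalso
        refine NT.not_closed T ![x0] (by norm_num) (by norm_num) ?_
        intro s y hy
        by_contra hcon
        fin_cases s
        · exact hq_0 ⟨y, fun h => hcon ⟨(0 : Fin 1), h⟩, hy⟩

end Groth.Agent.S7369
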