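import Groth.Statements.S7385
import Groth.Agent.Lib.Helper39.GenericPts

set_option autoImplicit false
universe u
open CategoryTheory AlgebraicGeometry
open Mor

namespace Groth.Agent.S7385

/-- Let `X` be a quasi-separated scheme and `η_1, …, η_n` pairwise distinct points, each the generic
point of an irreducible component of `X`. Then there are affine open neighbourhoods `U_i ∋ η_i`
which are pairwise disjoint, and their union is an affine open containing all the `η_i`. -/
theorem result (X : Scheme.{u}) [QuasiSeparatedSpace X] {n : ℕ}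
    (η : Fin n → X) (hη : ∀ i, closure ({η i} : Set X) ∈ irreducibleComponents (X : Type u))
    (hinj : Function.Injective η) :
    ∃ U : Fin n → X.Opens, (∀ i, IsAffineOpen (U i) ∧ η i ∈ U i) ∧
      (∀ i j, i ≠ j → Disjoint (U i) (U j)) ∧ IsAffineOpen (⨆ i, U i) := by
  classical
  have h1 : ∀ i j, i ≠ j → η i ∉ closure ({η j} : Set X) := by
    intro i j hij hmem
    have hsub : closure ({η i} : Set X) ⊆ closure {η j} :=
      closure_minimal (Set.singleton_subset_iff.mpr hmem) isClosed_closure
    have hsup : closure ({η j} : Set X) ⊆ closure {η i} := (hη i).2 (hη j).1 hsub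
    have heq : closure ({η i} : Set X) = closure {η j} := subset_antisymm hsub hsup
    exact hij (hinj (inseparable_iff_closure_eq.mpr heq).eq)
  have h2 : ∀ i, ∃ A : X.Opens, IsAffineOpen A ∧ η i ∈ A ∧ ∀ j, j ≠ i → η j ∉ A := by
    intro i
    have hcl : IsClosed (⋃ j : {j : Fin n // j ≠ i}, closure ({η j.1} : Set X)) :=
      isClosed_iUnion_of_finite fun _ => isClosed_closure
    have hmem : η i ∈ (⋃ j : {j : Fin n // j ≠ i}, closure ({η j.1} : Set X))ᶜ := by
      simp only [Set.mem_compl_iff, Set.mem_iUnion, not_exists]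
      intro j
      exact h1 i j.1 (Ne.symm j.2)
    obtain ⟨_, ⟨A, hA : IsAffineOpen A, rfl⟩, hηA, hAsub⟩ :=
      X.isBasis_affineOpens.exists_subset_of_mem_open hmem hcl.isOpen_compl
    refine ⟨A, hA, hηA, fun j hj hjA => ?_⟩
    have := hAsub hjA
    simp only [Set.mem_compl_iff, Set.mem_iUnion, not_exists] at this
    exact this ⟨j, hj⟩ (subset_closure rfl)
  choose A hA hηA hηA' using h2
  have h3 : ∀ i j, i ≠ j → η i ∉ closure (A j : Set X) := fun i j hij =>
    Groth.Agent.Lib.Helper39.notMem_closure_of_isCompact (η i) (hη i) (A j) (hA j).isCompact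
      (A j).isOpen (hηA' j i hij)
  have h4 : ∀ i, ∃ U : X.Opens, IsAffineOpen U ∧ η i ∈ U ∧ U ≤ A i ∧
      ∀ j, j ≠ i → Disjoint (U : Set X) (A j) := by
    intro i
    have hcl : IsClosed (⋃ j : {j : Fin n // j ≠ i}, closure (A j.1 : Set X)) :=
      isClosed_iUnion_of_finite fun _ => isClosed_closure
    have hmem : η i ∈ (A i : Set X) ∩ (⋃ j : {j : Fin n // j ≠ i}, closure (A j.1 : Set X))ᶜ := by
      refine ⟨hηA i, ?_⟩
      simp only [Set.mem_compl_iff, Set.mem_iUnion, not_exists]
      intro j
      exact h3 i j.1 (Ne.symm j.2)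
    obtain ⟨_, ⟨U, hU : IsAffineOpen U, rfl⟩, hηU, hUsub⟩ :=
      X.isBasis_affineOpens.exists_subset_of_mem_open hmem ((A i).isOpen.inter hcl.isOpen_compl)
    refine ⟨U, hU, hηU, fun x hx => (hUsub hx).1, fun j hj => ?_⟩
    rw [Set.disjoint_left]
    intro x hxU hxA
    have := (hUsub hxU).2
    simp only [Set.mem_compl_iff, Set.mem_iUnion, not_exists] at this
    exact this ⟨j, hj⟩ (subset_closure hxA)
  choose U hU hηU hUA hUdisj using h4
  have hdisj : ∀ i j, i ≠ j → Disjoint (U i) (U j) := by
    intro i j hij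
    rw [← TopologicalSpace.Opens.coe_disjoint]
    exact (hUdisj i j (Ne.symm hij)).mono_right (hUA j)
  exact ⟨U, fun i => ⟨hU i, hηU i⟩, hdisj,
    IsAffineOpen.iSup_of_disjoint hU fun i j hij => hdisj i j hij⟩

end Groth.Agent.S7385
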