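import Groth.Statements.S7386
import Groth.Agent.Lib.Helper39.GenericPts
import Groth.Agent.S7385

set_option autoImplicit false
universe u
open CategoryTheory AlgebraicGeometry
open Mor

namespace Groth.Agent.S7386

/-- Let `X` be a quasi-separated scheme, `η_1, …, η_n` generic points of irreducible components of `X`
and `x` any point of `X`. Then some affine open of `X` contains `x` and all the `η_i`. -/
theorem result (X : Scheme.{u}) [QuasiSeparatedSpace X] {n : ℕ}
    (η : Fin n → X) (hη : ∀ i, closure ({η i} : Set X) ∈ irreducibleComponents (X : Type u)) (x : X) :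
    ∃ U : X.Opens, IsAffineOpen U ∧ x ∈ U ∧ ∀ i, η i ∈ U := by
  classical
  obtain ⟨_, ⟨A0, hA0 : IsAffineOpen A0, rfl⟩, hxA0, -⟩ :=
    X.isBasis_affineOpens.exists_subset_of_mem_open (Set.mem_univ x) isOpen_univ
  let T : Finset X := (Finset.univ.image η).filter (fun y => y ∉ A0)
  let ζ : Fin T.card → X := fun k => (T.equivFin.symm k).1
  have hζinj : Function.Injective ζ := fun a b h => T.equivFin.symm.injective (Subtype.ext h)
  have hζT : ∀ k, ζ k ∈ T := fun k => (T.equivFin.symm k).2
  have hζ : ∀ k, closure ({ζ k} : Set X) ∈ irreducibleComponents (X : Type u) := by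
    intro k
    have := hζT k
    simp only [T, Finset.mem_filter, Finset.mem_image, Finset.mem_univ, true_and] at this
    obtain ⟨⟨i, hi⟩, -⟩ := this
    rw [← hi]
    exact hη i
  have hζA0 : ∀ k, ζ k ∉ A0 := by
    intro k
    have := hζT k
    simp only [T, Finset.mem_filter] at this
    exact this.2
  obtain ⟨V, hV, hVdisj, -⟩ := Groth.Agent.S7385.result X ζ hζ hζinj
  have h4 : ∀ k, ∃ U : X.Opens, IsAffineOpen U ∧ ζ k ∈ U ∧ U ≤ V k ∧
      Disjoint (U : Set X) A0 := by
    intro k
    have hncl := Groth.Agent.Lib.Helper39.notMem_closure_of_isCompact (ζ k) (hζ k) A0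
      hA0.isCompact A0.isOpen (hζA0 k)
    have hmem : ζ k ∈ (V k : Set X) ∩ (closure (A0 : Set X))ᶜ := ⟨(hV k).2, hncl⟩
    obtain ⟨_, ⟨U, hU : IsAffineOpen U, rfl⟩, hζU, hUsub⟩ :=
      X.isBasis_affineOpens.exists_subset_of_mem_open hmem
        ((V k).isOpen.inter isClosed_closure.isOpen_compl)
    refine ⟨U, hU, hζU, fun y hy => (hUsub hy).1, ?_⟩
    rw [Set.disjoint_left]
    intro y hyU hyA
    exact (hUsub hyU).2 (subset_closure hyA)
  choose U hU hζU hUV hUA0 using h4
  let W : Option (Fin T.card) → X.Opens := fun o => o.elim A0 U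
  have hWaff : ∀ o, IsAffineOpen (W o) := by
    rintro (_ | k)
    · exact hA0
    · exact hU k
  have hWdisj : Pairwise (Function.onFun Disjoint W) := by
    rintro (_ | a) (_ | b) hab
    · exact absurd rfl hab
    · rw [Function.onFun, ← TopologicalSpace.Opens.coe_disjoint]
      exact (hUA0 b).symm
    · rw [Function.onFun, ← TopologicalSpace.Opens.coe_disjoint]
      exact hUA0 a
    · have hab' : a ≠ b := fun h => hab (by rw [h])
      exact (hVdisj a b hab').mono (hUV a) (hUV b)
  refine ⟨⨆ o, W o, IsAffineOpen.iSup_of_disjoint hWaff hWdisj, ?_, ?_⟩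
  · exact TopologicalSpace.Opens.mem_iSup.mpr ⟨none, hxA0⟩
  · intro i
    by_cases hi : η i ∈ A0
    · exact TopologicalSpace.Opens.mem_iSup.mpr ⟨none, hi⟩
    · have hT : η i ∈ T := by simp [T, hi]
      have hζeq : ζ (T.equivFin ⟨η i, hT⟩) = η i := by simp [ζ]
      have h5 := hζU (T.equivFin ⟨η i, hT⟩)
      rw [hζeq] at h5
      exact TopologicalSpace.Opens.mem_iSup.mpr ⟨some (T.equivFin ⟨η i, hT⟩), h5⟩

end Groth.Agent.S7386
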