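import Groth.Statements.S7387
-- import your own Groth.Agent.* helpers here

set_option autoImplicit false
universe u
open CategoryTheory AlgebraicGeometry
open Mor

namespace Groth.Agent.S7387

/-- A quasi-compact scheme has a dense open subscheme which is separated. -/
theorem result (X : Scheme.{u}) [CompactSpace X] :
    ∃ V : X.Opens, Dense (V : Set X) ∧ (V : Scheme.{u}).IsSeparated := by
  classical
  obtain ⟨s, hs, hsU⟩ := (isCompact_and_isOpen_iff_finite_and_eq_biUnion_affineOpens (X := X)).mp
    ⟨isCompact_univ, isOpen_univ⟩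
  haveI := hs.to_subtype
  obtain ⟨n, ⟨e⟩⟩ := Finite.exists_equiv_fin s
  let U : Fin n → X.Opens := fun k => (e.symm k).1.1
  have hUaff : ∀ k, IsAffineOpen (U k) := fun k => (e.symm k).1.2
  have hUcov : ∀ x : X, ∃ k, x ∈ U k := by
    intro x
    have : x ∈ ⋃ i ∈ s, (i : Set X) := hsU ▸ Set.mem_univ x
    simp only [Set.mem_iUnion] at this
    obtain ⟨i, hi, hx⟩ := this
    exact ⟨e ⟨i, hi⟩, by simpa [U] using hx⟩
  let C : Fin n → Set X := fun k => closure (⋃ j : {j : Fin n // j < k}, (U j.1 : Set X))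
  let V : Fin n → X.Opens := fun k =>
    ⟨(U k : Set X) ∩ (C k)ᶜ, (U k).isOpen.inter isClosed_closure.isOpen_compl⟩
  have hVU : ∀ k, V k ≤ U k := fun k x hx => hx.1
  have hdisj : ∀ j k, j < k → Disjoint (V j : Set X) (V k) := by
    intro j k hjk
    rw [Set.disjoint_left]
    intro x hxj hxk
    exact hxk.2 (subset_closure (Set.mem_iUnion.mpr ⟨⟨j, hjk⟩, hxj.1⟩))
  have hdisj' : Pairwise (Function.onFun Disjoint fun k => (V k : Set X)) := by
    intro j k hjk
    rcases lt_or_gt_of_ne hjk with h | h
    · exact hdisj j k h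
    · exact (hdisj k j h).symm
  have hdense : ∀ m (hm : m < n), (U ⟨m, hm⟩ : Set X) ⊆ closure (⋃ j, (V j : Set X)) := by
    intro m
    induction m using Nat.strong_induction_on with
    | _ m ih =>
      intro hm x hx
      by_cases hxC : x ∈ C ⟨m, hm⟩
      · have : C ⟨m, hm⟩ ⊆ closure (⋃ j, (V j : Set X)) := by
          apply closure_minimal _ isClosed_closure
          apply Set.iUnion_subset
          rintro ⟨j, hj⟩
          exact ih j.1 hj j.2
        exact this hxC
      · exact subset_closure (Set.mem_iUnion.mpr ⟨⟨m, hm⟩, hx, hxC⟩)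
  let g : Fin n → Scheme.{u} := fun k => (V k).toScheme
  let g' : Fin n → Scheme.{u} := fun k => (U k).toScheme
  haveI hσ : IsOpenImmersion (Limits.Sigma.desc fun k => (V k).ι) :=
    isOpenImmersion_sigmaDesc g (fun k => (V k).ι) (by
      intro j k hjk
      have := hdisj' hjk
      simp only [Function.onFun] at this ⊢
      rw [Scheme.Opens.range_ι, Scheme.Opens.range_ι]
      exact this)
  have hσι : ∀ k (y : (V k).toScheme),
      (Limits.Sigma.desc fun k => (V k).ι) (Limits.Sigma.ι g k y) = (V k).ι y := by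
    intro k y
    rw [← Scheme.Hom.comp_apply, Limits.Sigma.ι_desc]
  have hpts : ∀ a : ↥(∐ g), ∃ k y, Limits.Sigma.ι g k y = a := fun a =>
    (sigmaOpenCover g).exists_eq a
  refine ⟨(Limits.Sigma.desc fun k => (V k).ι).opensRange, ?_, ?_⟩
  · have hr : ((Limits.Sigma.desc fun k => (V k).ι).opensRange : Set X) = ⋃ j, (V j : Set X) := by
      ext x
      simp only [Scheme.Hom.coe_opensRange, Set.mem_range, Set.mem_iUnion]
      constructor
      · rintro ⟨a, rfl⟩
        obtain ⟨k, y, rfl⟩ := hpts a
        exact ⟨k, by rw [hσι]; exact y.2⟩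
      · rintro ⟨k, hx⟩
        exact ⟨Limits.Sigma.ι g k ⟨x, hx⟩, by rw [hσι]; rfl⟩
    rw [hr, dense_iff_closure_eq, Set.eq_univ_iff_forall]
    intro x
    obtain ⟨k, hk⟩ := hUcov x
    exact hdense k.1 k.2 hk
  · let φ : ∐ g ⟶ ∐ g' := Limits.Sigma.map fun k => X.homOfLE (hVU k)
    have hφι : ∀ k (y : (V k).toScheme),
        φ (Limits.Sigma.ι g k y) = Limits.Sigma.ι g' k (X.homOfLE (hVU k) y) := by
      intro k y
      rw [← Scheme.Hom.comp_apply, ← Scheme.Hom.comp_apply, Limits.Sigma.ι_map]
    have hφinj : Function.Injective φ := by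
      intro a b hab
      obtain ⟨k, y, rfl⟩ := hpts a
      obtain ⟨l, z, rfl⟩ := hpts b
      rw [hφι, hφι, sigmaι_eq_iff] at hab
      obtain ⟨rfl, h2⟩ := Sigma.mk.inj_iff.mp hab
      rw [heq_eq_eq] at h2
      rw [(X.homOfLE (hVU k)).isOpenEmbedding.injective h2]
    haveI : IsSeparated φ := isSeparated_of_injective φ hφinj
    haveI : ∀ k, IsAffine (g' k) := fun k => hUaff k
    haveI : IsAffine (∐ g') := inferInstance
    have h1 : (∐ g).IsSeparated := by
      constructor
      have : Limits.terminal.from (∐ g) = φ ≫ Limits.terminal.from (∐ g') :=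
        Limits.terminal.hom_ext _ _
      rw [this]
      infer_instance
    constructor
    have : Limits.terminal.from ((Limits.Sigma.desc fun k => (V k).ι).opensRange : Scheme.{u}) =
        (Limits.Sigma.desc fun k => (V k).ι).isoOpensRange.inv ≫ Limits.terminal.from (∐ g) :=
      Limits.terminal.hom_ext _ _
    rw [this]
    infer_instance

end Groth.Agent.S7387
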