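import Groth.Statements.S7389
-- import your own Groth.Agent.* helpers here

set_option autoImplicit false
universe u
open CategoryTheory AlgebraicGeometry
open Mor

namespace Groth.Agent.S7389

/-- Let `X` be a scheme admitting an immersion into an affine scheme. Then any finite set of points of
`X` is contained in an affine open of `X`. -/
theorem result {X Y : Scheme.{u}} [IsAffine Y] (ι : X ⟶ Y)
    [IsImmersion ι] (E : Set X) (hE : E.Finite) :
    ∃ U : X.Opens, IsAffineOpen U ∧ E ⊆ U := by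
  classical
  rcases E.eq_empty_or_nonempty with rfl | ⟨x0, hx0⟩
  · exact ⟨⊥, isAffineOpen_bot X, by simp⟩
  set V : Y.Opens := ι.coborderRange with hV
  obtain ⟨I, hI⟩ := (Scheme.eq_zeroLocus_of_isClosed_of_isAffine Y ((V : Set Y)ᶜ)).mp
    V.isOpen.isClosed_compl
  let p : Y → Ideal Γ(Y, ⊤) := fun y => (Y.toSpecΓ y).asIdeal
  have hp : ∀ (y : Y) (f : Γ(Y, ⊤)), y ∈ Y.basicOpen f ↔ f ∉ p y := by
    intro y f
    rw [← Scheme.toSpecΓ_preimage_basicOpen]
    rfl
  have hEV : ι '' E ⊆ V := by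
    rintro _ ⟨x, -, rfl⟩
    exact subset_coborder ⟨x, rfl⟩
  have hfin : (ι '' E).Finite := hE.image _
  have hnot : ¬ ((I : Set Γ(Y, ⊤)) ⊆ ⋃ y ∈ ι '' E, p y) := by
    rw [Ideal.subset_union_prime_finite hfin (ι x0) (ι x0)
      (fun y _ _ _ => (Y.toSpecΓ y).isPrime)]
    rintro ⟨y, hy, hle⟩
    have h1 : y ∉ Y.zeroLocus (U := ⊤) (I : Set Γ(Y, ⊤)) := by
      rw [← hI]
      simpa using hEV hy
    apply h1
    rw [Scheme.mem_zeroLocus_iff]
    intro f hf
    rw [hp]
    simpa using hle hf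
  obtain ⟨f, hfI, hf⟩ := Set.not_subset.mp hnot
  simp only [Set.mem_iUnion, not_exists] at hf
  have hfV : Y.basicOpen f ≤ V := by
    intro y hy
    by_contra hyV
    have h2 : y ∈ Y.zeroLocus (U := ⊤) (I : Set Γ(Y, ⊤)) := by
      rw [← hI]
      exact hyV
    exact (Scheme.mem_zeroLocus_iff _ _ _).mp h2 f hfI hy
  refine ⟨ι ⁻¹ᵁ Y.basicOpen f, ?_, ?_⟩
  · have h1 : IsAffineOpen (Y.basicOpen f) := (isAffineOpen_top Y).basicOpen f
    have h2 : IsAffineOpen (V.ι ⁻¹ᵁ Y.basicOpen f) :=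
      h1.preimage_of_isOpenImmersion V.ι (by simpa using hfV)
    have h3 := h2.preimage ι.liftCoborder
    rwa [← Scheme.Hom.comp_preimage, ι.liftCoborder_ι] at h3
  · intro x hx
    exact (hp _ _).mpr (hf (ι x) ⟨x, hx, rfl⟩)

end Groth.Agent.S7389
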