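import Groth.Statements.S7388
import Groth.Agent.Lib.Helper39.GradedAvoid
import Groth.Agent.S7389

set_option autoImplicit false
universe u
open CategoryTheory AlgebraicGeometry
open Mor

namespace Groth.Agent.S7388

/-- Let `X` be a scheme admitting an immersion into `Proj S` for some graded ring `S`. Then any finite
set of points of `X` is contained in an affine open of `X`. -/
theorem result {R A : Type u} [CommRing R] [CommRing A] [Algebra R A]
    (𝒜 : ℕ → Submodule R A) [GradedAlgebra 𝒜] {X : Scheme.{u}} (ι : X ⟶ Proj 𝒜) [IsImmersion ι]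
    (E : Set X) (hE : E.Finite) :
    ∃ U : X.Opens, IsAffineOpen U ∧ E ⊆ U := by
  classical
  let φ : X → ProjectiveSpectrum 𝒜 := fun x => ι x
  obtain ⟨m, hm, f, hf, hfS⟩ :=
    Groth.Agent.Lib.Helper39.exists_homogeneous_avoid 𝒜 (hE.image φ).toFinset
  have hW : IsAffineOpen (Proj.basicOpen 𝒜 f) := Proj.isAffineOpen_basicOpen 𝒜 f hf hm
  have hEW : ∀ x ∈ E, ι x ∈ Proj.basicOpen 𝒜 f := fun x hx =>
    (Proj.mem_basicOpen 𝒜 f _).mpr (hfS (φ x) ((Set.Finite.mem_toFinset _).mpr ⟨x, hx, rfl⟩))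
  haveI : IsAffine (Proj.basicOpen 𝒜 f).toScheme := hW
  haveI : IsImmersion (ι ∣_ Proj.basicOpen 𝒜 f) :=
    IsZariskiLocalAtTarget.restrict ‹IsImmersion ι› _
  have hE' : ((ι ⁻¹ᵁ Proj.basicOpen 𝒜 f).ι ⁻¹' E).Finite :=
    hE.preimage ((ι ⁻¹ᵁ Proj.basicOpen 𝒜 f).ι.isOpenEmbedding.injective.injOn)
  obtain ⟨U', hU', hEU'⟩ := Groth.Agent.S7389.result (ι ∣_ Proj.basicOpen 𝒜 f) _ hE'
  refine ⟨(ι ⁻¹ᵁ Proj.basicOpen 𝒜 f).ι ''ᵁ U', hU'.image_of_isOpenImmersion _, ?_⟩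
  intro x hx
  exact ⟨⟨x, hEW x hx⟩, hEU' (show _ from hx), rfl⟩

end Groth.Agent.S7388
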