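import Groth.Statements.S7393
import Groth.Agent.S7414
import Groth.Agent.Lib.Helper49.GRingLocal
import Groth.Agent.Lib.Helper58.ExcellentLoc
import Groth.Agent.Lib.Helper11.ClosedPoint

set_option autoImplicit false
set_option linter.style.haveILetI false
universe u
open CategoryTheory AlgebraicGeometry
open Mor

namespace Groth.Agent.S7393

theorem isGRing_stalk_of_affine (X : Scheme.{u}) {U : X.Opens} (hU : IsAffineOpen U)
    (hG : CAlg.IsGRing Γ(X, U)) (x : X) (hx : x ∈ U) : CAlg.IsGRing (X.presheaf.stalk x) := by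
  letI := X.presheaf.algebra_section_stalk (⟨x, hx⟩ : U)
  haveI := hU.isLocalization_stalk ⟨x, hx⟩
  exact Groth.Agent.Lib.Helper58.ExcellentLoc.isGRing_localization Γ(X, U) hG
    (hU.primeIdealOf ⟨x, hx⟩).asIdeal.primeCompl (X.presheaf.stalk x)

theorem isGRing_stalk_of_specializes (X : Scheme.{u}) {z y : X} (h : z ⤳ y)
    (hy : CAlg.IsGRing (X.presheaf.stalk y)) : CAlg.IsGRing (X.presheaf.stalk z) := by
  obtain ⟨_, ⟨V₀, hV, rfl⟩, hyV, -⟩ := X.isBasis_affineOpens.exists_subset_of_mem_open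
    (Set.mem_univ y) isOpen_univ
  obtain ⟨V, rfl⟩ : ∃ V : X.Opens, V = V₀ := ⟨V₀, rfl⟩
  have hzV : z ∈ V := h.mem_open V.isOpen hyV
  letI := X.presheaf.algebra_section_stalk (⟨y, hyV⟩ : V)
  letI := X.presheaf.algebra_section_stalk (⟨z, hzV⟩ : V)
  haveI hly := hV.isLocalization_stalk ⟨y, hyV⟩
  haveI hlz := hV.isLocalization_stalk ⟨z, hzV⟩
  have hle : (hV.primeIdealOf ⟨z, hzV⟩).asIdeal ≤ (hV.primeIdealOf ⟨y, hyV⟩).asIdeal := by
    have h1 : (⟨z, hzV⟩ : V) ⤳ ⟨y, hyV⟩ := (subtype_specializes_iff _ _).mpr h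
    have h2 : hV.primeIdealOf ⟨z, hzV⟩ ⤳ hV.primeIdealOf ⟨y, hyV⟩ :=
      h1.map hV.isoSpec.hom.continuous
    exact (PrimeSpectrum.le_iff_specializes _ _).mpr h2
  have hM : (hV.primeIdealOf ⟨y, hyV⟩).asIdeal.primeCompl ≤
      (hV.primeIdealOf ⟨z, hzV⟩).asIdeal.primeCompl := fun a ha hz => ha (hle hz)
  letI := IsLocalization.localizationAlgebraOfSubmonoidLe (X.presheaf.stalk y)
    (X.presheaf.stalk z) _ _ hM
  haveI := IsLocalization.localization_isScalarTower_of_submonoid_le (X.presheaf.stalk y)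
    (X.presheaf.stalk z) _ _ hM
  haveI := IsLocalization.isLocalization_of_submonoid_le (X.presheaf.stalk y)
    (X.presheaf.stalk z) (hV.primeIdealOf ⟨y, hyV⟩).asIdeal.primeCompl
    (hV.primeIdealOf ⟨z, hzV⟩).asIdeal.primeCompl hM
  exact Groth.Agent.Lib.Helper58.ExcellentLoc.isGRing_localization (X.presheaf.stalk y) hy
    ((hV.primeIdealOf ⟨z, hzV⟩).asIdeal.primeCompl.map (algebraMap Γ(X, V) (X.presheaf.stalk y)))
    (X.presheaf.stalk z)

/-- A scheme `X` is a G-scheme (every point has an affine open neighbourhood whose coordinate ring is a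
G-ring) if and only if `X` is locally Noetherian and, for every closed point `x`, the completion map
of the local ring `O_{X,x} → O_{X,x}^∧` is a regular ring map. -/
theorem result (X : Scheme.{u}) :
    (∀ x : X, ∃ U : X.Opens, x ∈ U ∧ IsAffineOpen U ∧ CAlg.IsGRing Γ(X, U)) ↔
      IsLocallyNoetherian X ∧ ∀ x : X, IsClosed ({x} : Set X) →
        CAlg.IsRegularHom (X.presheaf.stalk x)
          (AdicCompletion (IsLocalRing.maximalIdeal (X.presheaf.stalk x)) (X.presheaf.stalk x)) := by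
  constructor
  · intro h
    choose V hxV hV hG using h
    have hnoeth : IsLocallyNoetherian X := by
      refine (isLocallyNoetherian_iff_of_iSup_eq_top (S := fun x : X => ⟨V x, hV x⟩) ?_).mpr
        (fun x => (hG x).1)
      exact top_le_iff.mp fun x _ => TopologicalSpace.Opens.mem_iSup.mpr ⟨x, hxV x⟩
    refine ⟨hnoeth, fun x _ => ?_⟩
    exact Groth.Agent.Lib.Helper49.GRingLocal.isRegularHom_cpl_of_isGRing _
      (isGRing_stalk_of_affine X (hV x) (hG x) x (hxV x))
  · rintro ⟨hN, hcl⟩ x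
    obtain ⟨_, ⟨U₀, hU, rfl⟩, hxU, -⟩ := X.isBasis_affineOpens.exists_subset_of_mem_open
      (Set.mem_univ x) isOpen_univ
    obtain ⟨U, rfl⟩ : ∃ U : X.Opens, U = U₀ := ⟨U₀, rfl⟩
    refine ⟨U, hxU, hU, ?_⟩
    haveI : IsNoetherianRing Γ(X, U) := IsLocallyNoetherian.component_noetherian ⟨U, hU⟩
    refine ⟨inferInstance, fun p _ => ?_⟩
    have hzU : hU.fromSpec ⟨p, inferInstance⟩ ∈ U := by
      have : hU.fromSpec ⟨p, inferInstance⟩ ∈ Set.range hU.fromSpec := ⟨_, rfl⟩
      rw [hU.range_fromSpec] at this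
      exact this
    set z : X := hU.fromSpec ⟨p, inferInstance⟩ with hz
    obtain ⟨y, hzy, hyc⟩ := Groth.Agent.Lib.Helper11.ClosedPoint.exists_specializes_isClosed X z
    haveI : IsNoetherianRing (X.presheaf.stalk y) := inferInstance
    have hGy : CAlg.IsGRing (X.presheaf.stalk y) :=
      Groth.Agent.Lib.Helper49.GRingLocal.isGRing_of_isRegularHom_cpl _ (hcl y hyc)
    have hGz := isGRing_stalk_of_specializes X hzy hGy
    have hRz := Groth.Agent.Lib.Helper49.GRingLocal.isRegularHom_cpl_of_isGRing _ hGz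
    letI := X.presheaf.algebra_section_stalk (⟨z, hzU⟩ : U)
    haveI : IsLocalization p.primeCompl (X.presheaf.stalk z) :=
      hU.isLocalization_stalk' ⟨p, inferInstance⟩ hzU
    let e : X.presheaf.stalk z ≃+* Localization.AtPrime p :=
      (IsLocalization.algEquiv p.primeCompl (X.presheaf.stalk z)
        (Localization.AtPrime p)).toRingEquiv
    exact Groth.Agent.S7414.isRegularHom_completion_of_ringEquiv e hRz

end Groth.Agent.S7393
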