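import Groth.Statements.S7394
import Mathlib

set_option autoImplicit false
universe u
open CategoryTheory AlgebraicGeometry
open Lim

set_option linter.unusedSectionVars false

namespace Groth.Agent.S7394Aux
open MvPolynomial

/-- a field with a transcendence basis embeds into any algebraically closed field with enough
algebraically independent elements. -/
lemma exists_algHom_to_algClosed (κ : Type u) [Field κ] (L : Type u) [Field L] [Algebra κ L]
    {ι : Type u} (x : ι → L) (hx : IsTranscendenceBasis κ x)
    (Ω : Type u) [Field Ω] [IsAlgClosed Ω] [Algebra κ Ω] (y : ι → Ω)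
    (hy : AlgebraicIndependent κ y) :
    Nonempty (L →ₐ[κ] Ω) := by
  let _ : Algebra (MvPolynomial ι κ) L := (aeval x).toRingHom.toAlgebra
  let _ : Algebra (MvPolynomial ι κ) Ω := (aeval y).toRingHom.toAlgebra
  have hL : ∀ p : MvPolynomial ι κ, algebraMap (MvPolynomial ι κ) L p = aeval x p := fun _ => rfl
  have hΩ : ∀ p : MvPolynomial ι κ, algebraMap (MvPolynomial ι κ) Ω p = aeval y p := fun _ => rfl
  have t1 : IsScalarTower κ (MvPolynomial ι κ) L :=
    IsScalarTower.of_algebraMap_eq (fun c => by rw [hL, MvPolynomial.algebraMap_eq, aeval_C])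
  have t2 : IsScalarTower κ (MvPolynomial ι κ) Ω :=
    IsScalarTower.of_algebraMap_eq (fun c => by rw [hΩ, MvPolynomial.algebraMap_eq, aeval_C])
  have i1 : Function.Injective (algebraMap (MvPolynomial ι κ) L) := hx.1
  have i2 : Function.Injective (algebraMap (MvPolynomial ι κ) Ω) := hy
  have f1 : Module.IsTorsionFree (MvPolynomial ι κ) L :=
    Module.isTorsionFree_iff_algebraMap_injective.mpr i1
  have f2 : Module.IsTorsionFree (MvPolynomial ι κ) Ω :=
    Module.isTorsionFree_iff_algebraMap_injective.mpr i2
  have halg0 := hx.isAlgebraic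
  have halg : Algebra.IsAlgebraic (MvPolynomial ι κ) L := by
    refine Algebra.IsAlgebraic.of_ringHom_of_comp_eq
      (S := Algebra.adjoin κ (Set.range x)) (B := L)
      (hx.1.aevalEquiv.toRingEquiv.toRingHom) (RingHom.id L)
      hx.1.aevalEquiv.surjective Function.injective_id ?_
    ext p
    · simp [hL]
    · simp [hL]
  exact ⟨(IsAlgClosed.lift : L →ₐ[MvPolynomial ι κ] Ω).restrictScalars κ⟩


/-- a common overfield of a family of field extensions. -/
theorem exists_common_overfield (κ : Type u) [Field κ] {I : Type u} (L : I → Type u)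
    [∀ i, Field (L i)] [∀ i, Algebra κ (L i)] :
    ∃ (Ω : Type u) (_ : Field Ω) (_ : Algebra κ Ω), ∀ i, Nonempty (L i →ₐ[κ] Ω) := by
  classical
  choose ι x hx using fun i => exists_isTranscendenceBasis' κ (L i)
  refine ⟨AlgebraicClosure (FractionRing (MvPolynomial (Σ i, ι i) κ)), inferInstance,
    inferInstance, fun i => ?_⟩
  let y : ι i → AlgebraicClosure (FractionRing (MvPolynomial (Σ i, ι i) κ)) := fun b =>
    algebraMap _ _ (algebraMap (MvPolynomial (Σ i, ι i) κ)
      (FractionRing (MvPolynomial (Σ i, ι i) κ)) (X ⟨i, b⟩))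
  refine exists_algHom_to_algClosed κ (L i) (x i) (hx i) _ y ?_
  -- algebraic independence of `y`
  let φ : MvPolynomial (ι i) κ →ₐ[κ] AlgebraicClosure (FractionRing (MvPolynomial (Σ i, ι i) κ)) :=
    ((IsScalarTower.toAlgHom κ (FractionRing (MvPolynomial (Σ i, ι i) κ))
        (AlgebraicClosure (FractionRing (MvPolynomial (Σ i, ι i) κ)))).comp
      (IsScalarTower.toAlgHom κ (MvPolynomial (Σ i, ι i) κ)
        (FractionRing (MvPolynomial (Σ i, ι i) κ)))).comp
      (rename (fun b : ι i => (⟨i, b⟩ : Σ i, ι i)))
  have hφ : φ = aeval y := by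
    apply MvPolynomial.algHom_ext
    intro b
    simp [φ, y]
  show Function.Injective (aeval y)
  rw [← hφ]
  have h1 : Function.Injective (rename (R := κ) (fun b : ι i => (⟨i, b⟩ : Σ i, ι i))) :=
    rename_injective _ sigma_mk_injective
  have h2 : Function.Injective (algebraMap (MvPolynomial (Σ i, ι i) κ)
      (FractionRing (MvPolynomial (Σ i, ι i) κ))) := IsFractionRing.injective _ _
  have h3 : Function.Injective (algebraMap (FractionRing (MvPolynomial (Σ i, ι i) κ))
      (AlgebraicClosure (FractionRing (MvPolynomial (Σ i, ι i) κ)))) := RingHom.injective _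
  exact (h3.comp h2).comp h1


theorem main {S : Scheme.{u}} {I : Type u} (T : I → Over S)
    (hT : ∀ i, IsAffineHom (T i).hom ∧ Surjective (T i).hom) (c : Limits.Fan T)
    (hc : Limits.IsLimit c) :
    Surjective c.pt.hom := by
  refine ⟨fun s => ?_⟩
  have hsurj : ∀ i, ∃ t : (T i).left, (T i).hom t = s := fun i => (hT i).2.surj s
  choose t ht using hsurj
  -- residue field maps
  let ρ : ∀ i, S.residueField s ⟶ (T i).left.residueField (t i) := fun i =>
    (S.residueFieldCongr (ht i).symm).hom ≫ (T i).hom.residueFieldMap (t i)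
  have hρ : ∀ i, Spec.map (ρ i) ≫ S.fromSpecResidueField s =
      (T i).left.fromSpecResidueField (t i) ≫ (T i).hom := by
    intro i
    simp only [ρ, Spec.map_comp, Category.assoc]
    rw [Scheme.residueFieldCongr_fromSpecResidueField,
      Scheme.Hom.SpecMap_residueFieldMap_fromSpecResidueField]
  let _ : ∀ i, Algebra (S.residueField s) ((T i).left.residueField (t i)) :=
    fun i => (ρ i).hom.toAlgebra
  obtain ⟨Ω, _, _, hφ⟩ := exists_common_overfield (S.residueField s)
    (fun i => (T i).left.residueField (t i))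
  choose φ _ using fun i => (⟨(hφ i).some, trivial⟩ : ∃ _ : _ →ₐ[S.residueField s] Ω, True)
  let a0 : S.residueField s ⟶ CommRingCat.of Ω := CommRingCat.ofHom
    { toFun := fun c => algebraMap (S.residueField s) Ω c
      map_one' := map_one _
      map_mul' := map_mul _
      map_zero' := map_zero _
      map_add' := map_add _ }
  let a : ∀ i, (T i).left.residueField (t i) ⟶ CommRingCat.of Ω := fun i => CommRingCat.ofHom
    { toFun := fun c => φ i c
      map_one' := map_one _
      map_mul' := map_mul _
      map_zero' := map_zero _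
      map_add' := map_add _ }
  have ha : ∀ i, ρ i ≫ a i = a0 := by
    intro i
    ext c
    exact (φ i).commutes c
  let zS : Spec (CommRingCat.of Ω) ⟶ S := Spec.map a0 ≫ S.fromSpecResidueField s
  let z : ∀ i, Spec (CommRingCat.of Ω) ⟶ (T i).left := fun i =>
    Spec.map (a i) ≫ (T i).left.fromSpecResidueField (t i)
  have hz : ∀ i, z i ≫ (T i).hom = zS := by
    intro i
    simp only [z, zS, Category.assoc]
    rw [← hρ i, ← Spec.map_comp_assoc, ha i]
  let fan : Limits.Fan T := Limits.Fan.mk (Over.mk zS) (fun i => Over.homMk (z i) (hz i))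
  have hw : (hc.lift fan).left ≫ c.pt.hom = zS := Over.w (hc.lift fan)
  obtain ⟨z₀⟩ : Nonempty ↥(Spec (CommRingCat.of Ω)) := inferInstance
  refine ⟨(hc.lift fan).left z₀, ?_⟩
  rw [← Scheme.Hom.comp_apply, hw]
  simp only [zS, Scheme.Hom.comp_apply, Scheme.fromSpecResidueField_apply]

end Groth.Agent.S7394Aux

namespace Groth.Agent.S7394

/-- Let `S` be a scheme and `T_i → S`, `i ∈ I`, surjective affine morphisms. Then any product of the
`T_i` in the category of schemes over `S` maps surjectively onto `S`. -/
theorem result {S : Scheme.{u}} {I : Type u} (T : I → Over S)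
    (hT : ∀ i, IsAffineHom (T i).hom ∧ Surjective (T i).hom) (c : Limits.Fan T) (hc : Limits.IsLimit c) :
    Surjective c.pt.hom := by
  exact Groth.Agent.S7394Aux.main T hT c hc

end Groth.Agent.S7394
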