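import Groth.Statements.S7397
import Mathlib.Tactic
-- import your own Groth.Agent.* helpers here

set_option autoImplicit false
universe u
open Mor

namespace Groth.Agent.S7397

/-- Let `A ⊆ B` be a ring extension and `b ∈ B`, `b ∉ A`, with `b^n, b^(n+1) ∈ A` for some `n ≥ 2`. Then
some `b' ∈ B` with `b' ∉ A` has `b'^2 ∈ A` and `b'^3 ∈ A`. -/
theorem result {B : Type u} [CommRing B] (A : Subring B) (b : B) (hb : b ∉ A)
    (n : ℕ) (hn : 2 ≤ n) (h1 : b ^ n ∈ A) (h2 : b ^ (n + 1) ∈ A) :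
    ∃ b' : B, b' ∉ A ∧ b' ^ 2 ∈ A ∧ b' ^ 3 ∈ A := by
  have hbig : ∀ m, n * n ≤ m → b ^ m ∈ A := by
    intro m hm
    obtain ⟨q, r, hr, rfl⟩ : ∃ q r, r < n ∧ m = q * n + r :=
      ⟨m / n, m % n, Nat.mod_lt _ (by omega), by rw [Nat.div_add_mod']⟩
    have hq : n ≤ q := by
      by_contra h
      have h' : q + 1 ≤ n := by omega
      have : (q + 1) * n ≤ n * n := Nat.mul_le_mul_right n h'
      nlinarith
    obtain ⟨d, rfl⟩ : ∃ d, q = d + r := ⟨q - r, by omega⟩
    have : (d + r) * n + r = d * n + r * (n + 1) := by ring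
    rw [this, pow_add, mul_comm d n, mul_comm r (n + 1), pow_mul, pow_mul]
    exact A.mul_mem (A.pow_mem h1 _) (A.pow_mem h2 _)
  classical
  let P : ℕ → Prop := fun k => b ^ k ∉ A
  have hP1 : P 1 := by simpa [P] using hb
  have h1n : 1 ≤ n * n := by nlinarith
  have hk : P (Nat.findGreatest P (n * n)) := Nat.findGreatest_spec (m := 1) h1n hP1
  have hk1 : 1 ≤ Nat.findGreatest P (n * n) := Nat.le_findGreatest h1n hP1
  have hmax : ∀ m, Nat.findGreatest P (n * n) < m → b ^ m ∈ A := by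
    intro m hm
    by_cases hmn : m ≤ n * n
    · by_contra h
      have := Nat.le_findGreatest (P := P) hmn h
      omega
    · exact hbig m (by omega)
  refine ⟨b ^ Nat.findGreatest P (n * n), hk, ?_, ?_⟩
  · rw [← pow_mul]; exact hmax _ (by omega)
  · rw [← pow_mul]; exact hmax _ (by omega)

end Groth.Agent.S7397
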