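import Groth.Statements.S7400
import Mathlib
import Groth.Agent.Lib.Helper20.UnivHomeoLocal

set_option autoImplicit false
universe u
open CategoryTheory AlgebraicGeometry
open Mor

namespace Groth.Agent.S7400

open AlgebraicGeometry CategoryTheory Limits TopologicalSpace
open Groth.Agent.Lib.Helper20.UnivHomeo

/-- the step predicate for S7400 -/
def step1 {A B : Type u} [CommRing A] [CommRing B] [Algebra A B] (C : Subalgebra A B) (b : B) : Prop :=
  b ^ 2 ∈ C ∧ b ^ 3 ∈ C

theorem step1_mono {A B : Type u} [CommRing A] [CommRing B] [Algebra A B] :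
    ∀ (C D : Subalgebra A B), C ≤ D → ∀ b, step1 C b → step1 D b :=
  fun _ _ h _ hb => ⟨h hb.1, h hb.2⟩

/-- Let `A ⊆ B` be a ring extension. The morphism `Spec B → Spec A` is a universal homeomorphism with
all residue field extensions trivial exactly when each finite subset of `B` is contained in some
`A[b_1, …, b_n] ⊆ B` such that `b_i^2` and `b_i^3` lie in `A[b_1, …, b_{i-1}]` for every `i`. (Here
`A → B` is an injective ring map and `A[b_1, …, b_{i-1}]` is the `A`-subalgebra generated by the
earlier entries.) -/
theorem result {A B : Type u} [CommRing A] [CommRing B] [Algebra A B]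
    (hinj : Function.Injective (algebraMap A B)) :
    (FlatMor.IsUnivHomeo (Spec.map (CommRingCat.ofHom (algebraMap A B))) ∧
      ∀ x : Spec (CommRingCat.of B),
        Function.Surjective ((Spec.map (CommRingCat.ofHom (algebraMap A B))).residueFieldMap x)) ↔
    ∀ E : Finset B, ∃ l : List B, (↑E : Set B) ⊆ Algebra.adjoin A {b : B | b ∈ l} ∧
      ∀ i : Fin l.length, l.get i ^ 2 ∈ Algebra.adjoin A {b : B | ∃ j : Fin l.length, j < i ∧ b = l.get j} ∧
        l.get i ^ 3 ∈ Algebra.adjoin A {b : B | ∃ j : Fin l.length, j < i ∧ b = l.get j} := by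
  rw [isUnivHomeo_iff, forall_surjective_residueFieldMap_iff]
  constructor
  · rintro ⟨hUH, hRT⟩
    have htop : chainClosure (A := A) (B := B) step1 step1_mono = ⊤ := by
      by_contra hne
      set W := chainClosure (A := A) (B := B) step1 step1_mono with hW
      have hUHW : UH W B := hUH.tower_top W
      have hRTW : ResTriv W B := hRT.tower_top W
      have hns : ¬ Function.Surjective (algebraMap W B) := by
        intro hs
        apply hne
        rw [eq_top_iff]
        intro b _
        obtain ⟨w, rfl⟩ := hs b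
        exact w.2
      obtain ⟨b, hb1, ⟨w₂, hw₂⟩, ⟨w₃, hw₃⟩⟩ := global_resTriv hUHW hRTW hns
      apply hb1
      obtain ⟨l₂, hl₂, h₂⟩ := w₂.2
      obtain ⟨l₃, hl₃, h₃⟩ := w₃.2
      have hb : b ∈ W := by
        refine mem_chainClosure_of_chain_step step1_mono (hl₂.append step1_mono hl₃) ⟨?_, ?_⟩
        · rw [← hw₂]
          exact adjoinList_mono (fun x hx => List.mem_append_left _ hx) h₂
        · rw [← hw₃]
          exact adjoinList_mono (fun x hx => List.mem_append_right _ hx) h₃
      exact ⟨⟨b, hb⟩, rfl⟩
    intro E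
    obtain ⟨l, hl, hE⟩ := exists_chain_of_finset step1_mono htop E
    exact ⟨l, hE, hl.finForm step1_mono⟩
  · intro H
    have hle : ∀ (C : Subalgebra A B), (∀ b : B, b ^ 2 ∈ C → b ^ 3 ∈ C → b ∈ C) → C = ⊤ := by
      intro C hC
      rw [eq_top_iff]
      intro b _
      obtain ⟨l, hE, hl⟩ := H {b}
      have := finForm_le (step := step1) C (fun D x hD hx => hC x (hD hx.1) (hD hx.2)) l hl
      exact this (hE (by simp))
    refine ⟨⟨?_, ?_, ?_⟩, ?_⟩
    · have := hle (integralClosure A B) (fun b h2 _ => IsIntegral.of_pow (n := 2) (by norm_num) h2)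
      exact ⟨fun b => by
        have hb : b ∈ integralClosure A B := this ▸ Algebra.mem_top
        exact hb⟩
    · intro a ha
      have : a = 0 := hinj (by rw [ha, map_zero])
      rw [this]
      exact IsNilpotent.zero
    · rw [isRadicial_iff_radicialClosure]
      exact hle _ (fun b h2 h3 => mem_radicialClosure_of_sq_cube h2 h3)
    · intro 𝔮 _ b
      have := hle (resTrivClosure A 𝔮) (fun b h2 h3 => ResTrivAt.of_sq_cube h2 h3)
      have hb : b ∈ resTrivClosure A 𝔮 := this ▸ Algebra.mem_top
      exact hb

end Groth.Agent.S7400
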