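import Groth.Statements.S7401
import Mathlib
import Groth.Agent.Lib.Helper20.UnivHomeoLocal

set_option autoImplicit false
universe u
open CategoryTheory AlgebraicGeometry
open Mor

namespace Groth.Agent.S7401

open AlgebraicGeometry CategoryTheory Limits TopologicalSpace
open Groth.Agent.Lib.Helper20.UnivHomeo

/-- the step predicate for S7401 -/
def step2 {A B : Type u} [CommRing A] [CommRing B] [Algebra A B] (C : Subalgebra A B) (b : B) : Prop :=
  (b ^ 2 ∈ C ∧ b ^ 3 ∈ C) ∨ ∃ p : ℕ, p.Prime ∧ (p : B) * b ∈ C ∧ b ^ p ∈ C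

theorem step2_mono {A B : Type u} [CommRing A] [CommRing B] [Algebra A B] :
    ∀ (C D : Subalgebra A B), C ≤ D → ∀ b, step2 C b → step2 D b := by
  rintro C D h b (hb | ⟨p, hp, h1, h2⟩)
  · exact Or.inl ⟨h hb.1, h hb.2⟩
  · exact Or.inr ⟨p, hp, h h1, h h2⟩

/-- Let `A ⊆ B` be a ring extension. Then `Spec B → Spec A` is a universal homeomorphism if and only if
every finite subset of `B` lies in a subextension `A[b_1, …, b_n]` such that for each `i` either
`b_i^2, b_i^3 ∈ A[b_1, …, b_{i-1}]` or there is a prime number `p` with `p b_i, b_i^p ∈ A[b_1, …,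
b_{i-1}]`. -/
theorem result {A B : Type u} [CommRing A] [CommRing B] [Algebra A B]
    (hinj : Function.Injective (algebraMap A B)) :
    FlatMor.IsUnivHomeo (Spec.map (CommRingCat.ofHom (algebraMap A B))) ↔
    ∀ E : Finset B, ∃ l : List B, (↑E : Set B) ⊆ Algebra.adjoin A {b : B | b ∈ l} ∧
      ∀ i : Fin l.length,
        (l.get i ^ 2 ∈ Algebra.adjoin A {b : B | ∃ j : Fin l.length, j < i ∧ b = l.get j} ∧
          l.get i ^ 3 ∈ Algebra.adjoin A {b : B | ∃ j : Fin l.length, j < i ∧ b = l.get j}) ∨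
        ∃ p : ℕ, p.Prime ∧ (p : B) * l.get i ∈ Algebra.adjoin A {b : B | ∃ j : Fin l.length, j < i ∧ b = l.get j} ∧
          l.get i ^ p ∈ Algebra.adjoin A {b : B | ∃ j : Fin l.length, j < i ∧ b = l.get j} := by
  rw [isUnivHomeo_iff]
  constructor
  · intro hUH
    have htop : chainClosure (A := A) (B := B) step2 step2_mono = ⊤ := by
      by_contra hne
      set W := chainClosure (A := A) (B := B) step2 step2_mono with hW
      have hUHW : UH W B := hUH.tower_top W
      have hns : ¬ Function.Surjective (algebraMap W B) := by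
        intro hs
        apply hne
        rw [eq_top_iff]
        intro b _
        obtain ⟨w, rfl⟩ := hs b
        exact w.2
      have hcomb : ∀ (b : B) (x y : B), x ∈ W → y ∈ W →
          (∀ C : Subalgebra A B, x ∈ C → y ∈ C → step2 C b) → b ∈ W := by
        intro b x y hx hy hstep
        obtain ⟨l₂, hl₂, h₂⟩ := hx
        obtain ⟨l₃, hl₃, h₃⟩ := hy
        refine mem_chainClosure_of_chain_step step2_mono (hl₂.append step2_mono hl₃) (hstep _ ?_ ?_)
        · exact adjoinList_mono (fun x hx => List.mem_append_left _ hx) h₂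
        · exact adjoinList_mono (fun x hx => List.mem_append_right _ hx) h₃
      rcases global_general hUHW hns with ⟨b, hb1, ⟨w₂, hw₂⟩, ⟨w₃, hw₃⟩⟩ |
        ⟨p, b, hp, hb1, ⟨w₂, hw₂⟩, ⟨w₃, hw₃⟩⟩
      · apply hb1
        have hb : b ∈ W := hcomb b (b ^ 2) (b ^ 3) (hw₂ ▸ w₂.2) (hw₃ ▸ w₃.2)
          (fun C h2 h3 => Or.inl ⟨h2, h3⟩)
        exact ⟨⟨b, hb⟩, rfl⟩
      · apply hb1
        have hb : b ∈ W := hcomb b ((p : B) * b) (b ^ p) (hw₂ ▸ w₂.2) (hw₃ ▸ w₃.2)
          (fun C h2 h3 => Or.inr ⟨p, hp, h2, h3⟩)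
        exact ⟨⟨b, hb⟩, rfl⟩
    intro E
    obtain ⟨l, hl, hE⟩ := exists_chain_of_finset step2_mono htop E
    exact ⟨l, hE, hl.finForm step2_mono⟩
  · intro H
    have hle : ∀ (C : Subalgebra A B), (∀ b : B, b ^ 2 ∈ C → b ^ 3 ∈ C → b ∈ C) →
        (∀ (p : ℕ) (b : B), p.Prime → (p : B) * b ∈ C → b ^ p ∈ C → b ∈ C) → C = ⊤ := by
      intro C hC hC'
      rw [eq_top_iff]
      intro b _
      obtain ⟨l, hE, hl⟩ := H {b}
      have := finForm_le (step := step2) C (fun D x hD hx => by
        rcases hx with hx | ⟨p, hp, h1, h2⟩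
        · exact hC x (hD hx.1) (hD hx.2)
        · exact hC' p x hp (hD h1) (hD h2)) l hl
      exact this (hE (by simp))
    refine ⟨?_, ?_, ?_⟩
    · have := hle (integralClosure A B) (fun b h2 _ => IsIntegral.of_pow (n := 2) (by norm_num) h2)
        (fun p b hp _ h2 => IsIntegral.of_pow hp.pos h2)
      exact ⟨fun b => by
        have hb : b ∈ integralClosure A B := this ▸ Algebra.mem_top
        exact hb⟩
    · intro a ha
      have : a = 0 := hinj (by rw [ha, map_zero])
      rw [this]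
      exact IsNilpotent.zero
    · rw [isRadicial_iff_radicialClosure]
      exact hle _ (fun b h2 h3 => mem_radicialClosure_of_sq_cube h2 h3)
        (fun p b hp h1 h2 => mem_radicialClosure_of_prime p hp h1 h2)

end Groth.Agent.S7401
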