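import Groth.Statements.S7404
import Mathlib
import Groth.Agent.Lib.Helper20.UnivHomeo

set_option autoImplicit false
universe u
open CategoryTheory AlgebraicGeometry
open Mor

namespace Groth.Agent.S7404

open AlgebraicGeometry CategoryTheory Limits TopologicalSpace
open Groth.Agent.Lib.Helper20.UnivHomeo

theorem integral_sub {A B : Type u} [CommRing A] [CommRing B] [Algebra A B]
    (B' : Subalgebra A B) (h : Algebra.IsIntegral A B) : Algebra.IsIntegral A B' :=
  Algebra.IsIntegral.of_injective B'.val Subtype.val_injective

theorem univHomeo_sub {A B : Type u} [CommRing A] [CommRing B] [Algebra A B]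
    (B' : Subalgebra A B)
    (h : FlatMor.IsUnivHomeo (Spec.map (CommRingCat.ofHom (algebraMap A B)))) :
    FlatMor.IsUnivHomeo (Spec.map (CommRingCat.ofHom (algebraMap A B'))) ∧
      Algebra.IsIntegral A B := by
  rw [isUnivHomeo_iff_scheme] at h ⊢
  obtain ⟨h1, h2, h3⟩ := h
  have hI : Algebra.IsIntegral A B := Algebra.isIntegral_def.mpr (IsIntegralHom.SpecMap_iff.mp h1)
  have hI' : Algebra.IsIntegral A B' := integral_sub B' hI
  refine ⟨⟨IsIntegralHom.SpecMap_iff.mpr (Algebra.isIntegral_def.mp hI'),
    universallyInjective_subalgebra B' h2, ?_⟩, hI⟩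
  rw [surjective_SpecMap_iff_of_isIntegral] at h3 ⊢
  intro a ha
  apply h3
  have : algebraMap A B a = ((algebraMap A B' a : B') : B) := rfl
  rw [this, ha]
  rfl

/-- Let `A → B` be a ring map and `B' ⊆ B` an `A`-subalgebra, with `f : Spec B → Spec A` and `f' : Spec
B' → Spec A` the induced morphisms. Each of the following properties passes from `f` to `f'`: being
a universal homeomorphism; being a universal homeomorphism with trivial residue field extensions;
being universally closed; being both universally closed and universally injective. -/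
theorem result {A B : Type u} [CommRing A] [CommRing B] [Algebra A B]
    (B' : Subalgebra A B) :
    (FlatMor.IsUnivHomeo (Spec.map (CommRingCat.ofHom (algebraMap A B))) →
      FlatMor.IsUnivHomeo (Spec.map (CommRingCat.ofHom (algebraMap A B')))) ∧
    ((FlatMor.IsUnivHomeo (Spec.map (CommRingCat.ofHom (algebraMap A B))) ∧
      ∀ x : Spec (CommRingCat.of B),
        Function.Surjective ((Spec.map (CommRingCat.ofHom (algebraMap A B))).residueFieldMap x)) →
      FlatMor.IsUnivHomeo (Spec.map (CommRingCat.ofHom (algebraMap A B'))) ∧
      ∀ x : Spec (CommRingCat.of B'),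
        Function.Surjective ((Spec.map (CommRingCat.ofHom (algebraMap A B'))).residueFieldMap x)) ∧
    (UniversallyClosed (Spec.map (CommRingCat.ofHom (algebraMap A B))) →
      UniversallyClosed (Spec.map (CommRingCat.ofHom (algebraMap A B')))) ∧
    (UniversallyClosed (Spec.map (CommRingCat.ofHom (algebraMap A B))) →
      UniversallyInjective (Spec.map (CommRingCat.ofHom (algebraMap A B))) →
      UniversallyClosed (Spec.map (CommRingCat.ofHom (algebraMap A B'))) ∧
      UniversallyInjective (Spec.map (CommRingCat.ofHom (algebraMap A B')))) := by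
  refine ⟨fun h => (univHomeo_sub B' h).1, ?_, ?_, ?_⟩
  · rintro ⟨h, hres⟩
    obtain ⟨h', hI⟩ := univHomeo_sub B' h
    refine ⟨h', ?_⟩
    rw [forall_surjective_residueFieldMap_iff] at hres ⊢
    exact resTriv_subalgebra B' hres
  · intro h
    rw [universallyClosed_SpecMap_iff] at h ⊢
    exact integral_sub B' h
  · intro h hinj
    rw [universallyClosed_SpecMap_iff] at h ⊢
    exact ⟨integral_sub B' h, universallyInjective_subalgebra B' hinj⟩

end Groth.Agent.S7404
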