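import Groth.Statements.S7405
import Mathlib
import Groth.Agent.Lib.Helper20.UnivHomeo

set_option autoImplicit false
universe u
open CategoryTheory AlgebraicGeometry
open Mor

namespace Groth.Agent.S7405

open AlgebraicGeometry CategoryTheory Limits TopologicalSpace
open Groth.Agent.Lib.Helper20.UnivHomeo

theorem key (A : CommRingCat.{u}) {J : Type u} [SmallCategory J]
    [IsFiltered J] (F : J ⥤ Under A) (c : Limits.Cocone F) (hc : Limits.IsColimit c) :
    ∃ (_ : Algebra A c.pt.right) (_ : ∀ j, Algebra A (F.obj j).right)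
      (g : ∀ j, (F.obj j).right →ₐ[A] c.pt.right),
      (algebraMap A c.pt.right = c.pt.hom.hom) ∧ (∀ j, algebraMap A (F.obj j).right = (F.obj j).hom.hom) ∧
      (∀ b : c.pt.right, ∃ j b', g j b' = b) ∧
      (∀ a : A, algebraMap A c.pt.right a = 0 → ∃ j, algebraMap A (F.obj j).right a = 0) := by
  letI : Algebra A c.pt.right := c.pt.hom.hom.toAlgebra
  letI : ∀ j, Algebra A (F.obj j).right := fun j => (F.obj j).hom.hom.toAlgebra
  have hw : ∀ j, (F.obj j).hom ≫ (c.ι.app j).right = c.pt.hom := fun j => Under.w (c.ι.app j)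
  let g : ∀ j, (F.obj j).right →ₐ[A] c.pt.right := fun j =>
    { (c.ι.app j).right.hom with
      commutes' := fun a => by
        have := congrArg (fun ψ => ψ.hom a) (hw j)
        exact this }
  refine ⟨inferInstance, inferInstance, g, rfl, fun j => rfl, ?_, ?_⟩
  · intro b
    let D := (Under.forget A).mapCocone c
    have hD : IsColimit D := isColimitOfPreserves (Under.forget A) hc
    obtain ⟨j, y, hy⟩ := Concrete.isColimit_exists_rep (F ⋙ Under.forget A) hD b
    exact ⟨j, y, hy⟩
  · intro a ha
    let D := (Under.forget A).mapCocone c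
    have hD : IsColimit D := isColimitOfPreserves (Under.forget A) hc
    obtain ⟨j₀⟩ := IsFiltered.nonempty (C := J)
    have h1 : D.ι.app j₀ ((F.obj j₀).hom.hom a) = D.ι.app j₀ (0 : (F.obj j₀).right) := by
      have h0 : D.ι.app j₀ (0 : (F.obj j₀).right) = 0 := map_zero (c.ι.app j₀).right.hom
      rw [h0]
      have := congrArg (fun ψ => ψ.hom a) (hw j₀)
      exact this.trans ha
    obtain ⟨k, f, g', hfg⟩ := Concrete.isColimit_exists_of_rep_eq (F ⋙ Under.forget A) hD _ _ h1
    refine ⟨k, ?_⟩
    have h2 : (F.obj j₀).hom ≫ (F.map f).right = (F.obj k).hom := Under.w (F.map f)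
    have h3 := congrArg (fun ψ => ψ.hom a) h2
    have h4 : ((F ⋙ Under.forget A).map g') (0 : (F.obj j₀).right) = 0 :=
      map_zero (F.map g').right.hom
    rw [h4] at hfg
    exact h3.symm.trans hfg


theorem hom_eq {A R : CommRingCat.{u}} [Algebra A R] (φ : A ⟶ R) (h : algebraMap A R = φ.hom) :
    φ = CommRingCat.ofHom (algebraMap A R) := by
  ext x
  rw [h]
  rfl

theorem w1 {A R : CommRingCat.{u}} [Algebra A R] (φ : A ⟶ R) (h : algebraMap A R = φ.hom) :
    FlatMor.IsUnivHomeo (Spec.map φ) ↔ UH A R := by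
  obtain rfl := hom_eq φ h
  exact isUnivHomeo_iff A R

theorem w2 {A R : CommRingCat.{u}} [Algebra A R] (φ : A ⟶ R) (h : algebraMap A R = φ.hom) :
    UniversallyClosed (Spec.map φ) ↔ Algebra.IsIntegral A R := by
  obtain rfl := hom_eq φ h
  exact universallyClosed_SpecMap_iff

theorem w3 {A R : CommRingCat.{u}} [Algebra A R] (φ : A ⟶ R) (h : algebraMap A R = φ.hom) :
    UniversallyInjective (Spec.map φ) ↔ IsRadicial A R := by
  obtain rfl := hom_eq φ h
  exact universallyInjective_SpecMap_iff A R

theorem w4 {A R : CommRingCat.{u}} [Algebra A R] (φ : A ⟶ R) (h : algebraMap A R = φ.hom) :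
    (∀ x : Spec R, Function.Surjective ((Spec.map φ).residueFieldMap x)) ↔ ResTriv A R := by
  obtain rfl := hom_eq φ h
  exact forall_surjective_residueFieldMap_iff

/-- Let `A` be a ring and `B` the colimit of a filtered diagram `j ↦ B_j` of `A`-algebras. Each of the
following properties, when it holds for every `Spec B_j → Spec A`, holds for `Spec B → Spec A`:
being a universal homeomorphism; being a universal homeomorphism with trivial residue field
extensions; being universally closed; being both universally closed and universally injective. -/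
theorem result (A : CommRingCat.{u}) {J : Type u} [SmallCategory J]
    [IsFiltered J] (F : J ⥤ Under A) (c : Limits.Cocone F) (hc : Limits.IsColimit c) :
    ((∀ j, FlatMor.IsUnivHomeo (Spec.map (F.obj j).hom)) → FlatMor.IsUnivHomeo (Spec.map c.pt.hom)) ∧
    ((∀ j, FlatMor.IsUnivHomeo (Spec.map (F.obj j).hom) ∧
        ∀ x : Spec (F.obj j).right, Function.Surjective ((Spec.map (F.obj j).hom).residueFieldMap x)) →
      FlatMor.IsUnivHomeo (Spec.map c.pt.hom) ∧
        ∀ x : Spec c.pt.right, Function.Surjective ((Spec.map c.pt.hom).residueFieldMap x)) ∧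
    ((∀ j, UniversallyClosed (Spec.map (F.obj j).hom)) → UniversallyClosed (Spec.map c.pt.hom)) ∧
    ((∀ j, UniversallyClosed (Spec.map (F.obj j).hom) ∧ UniversallyInjective (Spec.map (F.obj j).hom)) →
      UniversallyClosed (Spec.map c.pt.hom) ∧ UniversallyInjective (Spec.map c.pt.hom)) := by
  obtain ⟨instB, instBj, g, hB, hBj, hsurj, hker⟩ := key A F c hc
  refine ⟨?_, ?_, ?_, ?_⟩
  · intro h
    rw [w1 _ hB]
    exact uh_of_family _ g hsurj hker fun j => (w1 _ (hBj j)).mp (h j)
  · intro h
    rw [w1 _ hB, w4 _ hB]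
    exact ⟨uh_of_family _ g hsurj hker fun j => (w1 _ (hBj j)).mp (h j).1,
      resTriv_of_family _ g hsurj fun j => (w4 _ (hBj j)).mp (h j).2⟩
  · intro h
    rw [w2 _ hB]
    exact isIntegral_of_family _ g hsurj fun j => (w2 _ (hBj j)).mp (h j)
  · intro h
    rw [w2 _ hB, w3 _ hB]
    exact ⟨isIntegral_of_family _ g hsurj fun j => (w2 _ (hBj j)).mp (h j).1,
      isRadicial_of_family _ g hsurj fun j => (w3 _ (hBj j)).mp (h j).2⟩

end Groth.Agent.S7405
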