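import Groth.Statements.S7406
-- import your own Groth.Agent.* helpers here
import Mathlib.AlgebraicGeometry.Morphisms.Etale
import Mathlib.AlgebraicGeometry.Morphisms.FormallyUnramified
import Mathlib.AlgebraicGeometry.Fiber
import Mathlib.CategoryTheory.Limits.Shapes.Diagonal
import Mathlib.RingTheory.Etale.Field
import Mathlib.RingTheory.Unramified.LocalRing

set_option autoImplicit false
universe u
open CategoryTheory AlgebraicGeometry
open Desc

namespace Groth.Agent.S7406

open CategoryTheory.Limits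

theorem finite_residueField {X Y : Scheme.{u}} (f : X ⟶ Y) [FormallyUnramified f]
    [LocallyOfFiniteType f] (x : X) :
    letI : Algebra (Y.residueField (f x)) (X.residueField x) :=
      (f.residueFieldMap x).hom.toAlgebra
    Module.Finite (Y.residueField (f x)) (X.residueField x) := by
  algebraize [(f.stalkMap x).hom]
  have : IsLocalHom (algebraMap (Y.presheaf.stalk (f x)) (X.presheaf.stalk x)) :=
    inferInstanceAs <| IsLocalHom (f.stalkMap x).hom
  have halg : (f.residueFieldMap x).hom.toAlgebra =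
      (inferInstance : Algebra (IsLocalRing.ResidueField <| Y.presheaf.stalk (f x))
        (IsLocalRing.ResidueField <| X.presheaf.stalk x)) := by
    refine Algebra.algebra_ext _ _ fun x ↦ ?_
    obtain ⟨x, rfl⟩ := IsLocalRing.residue_surjective x
    rfl
  suffices h : Module.Finite
      (IsLocalRing.ResidueField <| Y.presheaf.stalk (f x))
      (IsLocalRing.ResidueField <| X.presheaf.stalk x) by
    show @Module.Finite _ _ _ _ (@Algebra.toModule _ _ _ _ (f.residueFieldMap x).hom.toAlgebra)
    rw [halg]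
    exact h
  have : Algebra.EssFiniteType (Y.presheaf.stalk (f x)) (X.presheaf.stalk x) := by
    rw [← RingHom.essFiniteType_algebraMap, RingHom.algebraMap_toAlgebra]
    exact LocallyOfFiniteType.stalkMap f x
  have : Algebra.FormallyUnramified (Y.presheaf.stalk (f x)) (X.presheaf.stalk x) := by
    rw [← RingHom.formallyUnramified_algebraMap, RingHom.algebraMap_toAlgebra]
    exact FormallyUnramified.stalkMap f x
  infer_instance

theorem etale_SpecMap_residueFieldMap {X Y : Scheme.{u}} (f : X ⟶ Y) [Etale f] (x : X) :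
    Etale (Spec.map (f.residueFieldMap x)) := by
  rw [HasRingHomProperty.Spec_iff (P := @Etale)]
  let _ : Algebra (Y.residueField (f x)) (X.residueField x) :=
      (f.residueFieldMap x).hom.toAlgebra
  have h1 : Algebra.IsSeparable (Y.residueField (f x)) (X.residueField x) := inferInstance
  have h2 : Module.Finite (Y.residueField (f x)) (X.residueField x) := finite_residueField f x
  have h3 : Algebra.FormallyEtale (Y.residueField (f x)) (X.residueField x) :=
    Algebra.FormallyEtale.of_isSeparable _ _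
  have h4 : Algebra.FinitePresentation (Y.residueField (f x)) (X.residueField x) :=
    Algebra.FinitePresentation.of_finiteType.mp inferInstance
  exact (⟨h3, h4⟩ : Algebra.Etale (Y.residueField (f x)) (X.residueField x))

set_option backward.isDefEq.respectTransparency false in
/-- pullback.map of étale maps is étale. -/
theorem etale_pullback_map {X Y S X' Y' S' : Scheme.{u}} (f₁ : X ⟶ S) (f₂ : Y ⟶ S)
    (g₁ : X' ⟶ S') (g₂ : Y' ⟶ S') (i₁ : X ⟶ X') (i₂ : Y ⟶ Y') (i₃ : S ⟶ S')
    [Etale i₁] [Etale i₂] [Etale i₃]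
    (e₁ : f₁ ≫ i₃ = i₁ ≫ g₁) (e₂ : f₂ ≫ i₃ = i₂ ≫ g₂) :
    Etale (pullback.map f₁ f₂ g₁ g₂ i₁ i₂ i₃ e₁ e₂) := by
  have hfac : pullback.map f₁ f₂ g₁ g₂ i₁ i₂ i₃ e₁ e₂ =
      pullback.map f₁ f₂ (f₁ ≫ i₃) (f₂ ≫ i₃) (𝟙 _) (𝟙 _) i₃ (Category.id_comp _).symm
        (Category.id_comp _).symm ≫
      pullback.map (f₁ ≫ i₃) (f₂ ≫ i₃) g₁ g₂ i₁ i₂ (𝟙 _) ((Category.comp_id _).trans e₁)
        ((Category.comp_id _).trans e₂) := by
    ext <;> simp
  rw [hfac]
  have h1 : Etale (pullback.map f₁ f₂ (f₁ ≫ i₃) (f₂ ≫ i₃) (𝟙 _) (𝟙 _) i₃ (Category.id_comp _).symm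
        (Category.id_comp _).symm) := by
    have hd : Etale (pullback.diagonal i₃) := inferInstance
    exact MorphismProperty.of_isPullback (pullback_map_diagonal_isPullback f₁ f₂ i₃) hd
  have h2 : Etale (pullback.map (f₁ ≫ i₃) (f₂ ≫ i₃) g₁ g₂ i₁ i₂ (𝟙 _) ((Category.comp_id _).trans e₁)
        ((Category.comp_id _).trans e₂)) :=
    MorphismProperty.pullbackMap (P := @Etale) inferInstance inferInstance e₁ e₂
  infer_instance

set_option backward.isDefEq.respectTransparency false in
theorem result_aux {U U' V V' : Scheme.{u}} (h : U ⟶ V) (h' : U' ⟶ V') (a : U' ⟶ U)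
    (b : V' ⟶ V) [Etale a] [Etale b] (comm : h' ≫ b = a ≫ h) (v' : V')
    (φ : h'.fiber v' ⟶ h.fiber (b v')) (hφ1 : φ ≫ h.fiberι (b v') = h'.fiberι v' ≫ a)
    (hφ2 : φ ≫ h.fiberToSpecResidueField (b v') = h'.fiberToSpecResidueField v' ≫ Spec.map (b.residueFieldMap v')) :
    Etale φ := by
  have := etale_SpecMap_residueFieldMap b v'
  have e₂ : V'.fromSpecResidueField v' ≫ b =
      Spec.map (b.residueFieldMap v') ≫ V.fromSpecResidueField (b v') := by
    simp
  have hφ : φ = pullback.map h' (V'.fromSpecResidueField v') h (V.fromSpecResidueField (b v'))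
      a (Spec.map (b.residueFieldMap v')) b comm e₂ := by
    apply pullback.hom_ext
    · simpa [Scheme.Hom.fiberι] using hφ1
    · simpa [Scheme.Hom.fiberToSpecResidueField] using hφ2
  rw [hφ]
  exact etale_pullback_map _ _ _ _ _ _ _ _ _

/-- Consider a commutative square of schemes with horizontal maps `h' : U' → V'`, `h : U → V` and étale
vertical maps `a : U' → U`, `b : V' → V`, and let `v' ∈ V'` with image `v = b(v')`. Then the induced
morphism of fibres `U'_{v'} → U_v` is étale. (The morphism of fibres is characterised by its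
compatibility with `a` and with `Spec κ(v') → Spec κ(v)`.) -/
theorem result {U U' V V' : Scheme.{u}} (h : U ⟶ V) (h' : U' ⟶ V') (a : U' ⟶ U)
    (b : V' ⟶ V) [Etale a] [Etale b] (comm : h' ≫ b = a ≫ h) (v' : V')
    (φ : h'.fiber v' ⟶ h.fiber (b v')) (hφ1 : φ ≫ h.fiberι (b v') = h'.fiberι v' ≫ a)
    (hφ2 : φ ≫ h.fiberToSpecResidueField (b v') = h'.fiberToSpecResidueField v' ≫ Spec.map (b.residueFieldMap v')) :
    Etale φ := by
  exact result_aux h h' a b comm v' φ hφ1 hφ2

end Groth.Agent.S7406
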