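import Groth.Statements.S7407
-- import your own Groth.Agent.* helpers here
import Mathlib.AlgebraicGeometry.Morphisms.FormallyUnramified
import Mathlib.AlgebraicGeometry.Morphisms.Etale
import Mathlib.RingTheory.AlgebraicIndependent.TranscendenceBasis

set_option autoImplicit false
universe u
open CategoryTheory AlgebraicGeometry
open Desc

namespace Groth.Agent.S7407

theorem trdeg_comp_of_isAlgebraic_top {K0 K1 K3 : Type u} [Field K0] [Field K1] [Field K3]
    (f : K0 →+* K1) (g : K1 →+* K3) (hg : @Algebra.IsAlgebraic K1 K3 _ _ g.toAlgebra) :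
    @Algebra.trdeg K0 K1 _ _ f.toAlgebra = @Algebra.trdeg K0 K3 _ _ (g.comp f).toAlgebra := by
  let _ : Algebra K0 K1 := f.toAlgebra
  let _ : Algebra K1 K3 := g.toAlgebra
  let _ : Algebra K0 K3 := (g.comp f).toAlgebra
  have : IsScalarTower K0 K1 K3 := IsScalarTower.of_algebraMap_eq (fun x => rfl)
  have := trdeg_add_eq K0 K1 (A := K3)
  rw [_root_.trdeg_eq_zero (R := K1) (A := K3), add_zero] at this
  exact this

theorem trdeg_comp_of_isAlgebraic_bot {K0 K2 K3 : Type u} [Field K0] [Field K2] [Field K3]
    (f : K0 →+* K2) (g : K2 →+* K3) (hf : @Algebra.IsAlgebraic K0 K2 _ _ f.toAlgebra) :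
    @Algebra.trdeg K2 K3 _ _ g.toAlgebra = @Algebra.trdeg K0 K3 _ _ (g.comp f).toAlgebra := by
  let _ : Algebra K0 K2 := f.toAlgebra
  let _ : Algebra K2 K3 := g.toAlgebra
  let _ : Algebra K0 K3 := (g.comp f).toAlgebra
  have : IsScalarTower K0 K2 K3 := IsScalarTower.of_algebraMap_eq (fun x => rfl)
  have := trdeg_add_eq K0 K2 (A := K3)
  rw [_root_.trdeg_eq_zero (R := K0) (A := K2), zero_add] at this
  exact this

theorem trdeg_congr {X Y : Scheme.{u}} {f g : X ⟶ Y} (e : f = g) (x : X) :
    @Algebra.trdeg (Y.residueField (f x)) (X.residueField x) _ _ (f.residueFieldMap x).hom.toAlgebra =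
      @Algebra.trdeg (Y.residueField (g x)) (X.residueField x) _ _ (g.residueFieldMap x).hom.toAlgebra := by
  subst e
  rfl

/-- The transcendence degree of the residue field extension `κ(x)/κ(s)` of a morphism of germs `(X, x) →
(S, s)` is étale local on the source-and-target: for a commutative square with horizontal maps `h' :
U' → V'`, `h : U → V`, étale vertical maps `a : U' → U`, `b : V' → V` and `u' ∈ U'` with `u =
a(u')`, the transcendence degree of `κ(u)` over `κ(h(u))` equals that of `κ(u')` over `κ(h'(u'))`. -/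
theorem result {U U' V V' : Scheme.{u}} (h : U ⟶ V) (h' : U' ⟶ V') (a : U' ⟶ U)
    (b : V' ⟶ V) [Etale a] [Etale b] (comm : h' ≫ b = a ≫ h) (u' : U') :
    @Algebra.trdeg (V.residueField (h (a u'))) (U.residueField (a u')) _ _ (h.residueFieldMap (a u')).hom.toAlgebra =
      @Algebra.trdeg (V'.residueField (h' u')) (U'.residueField u') _ _ (h'.residueFieldMap u').hom.toAlgebra := by
  have hA : @Algebra.IsAlgebraic (U.residueField (a u')) (U'.residueField u') _ _
      (a.residueFieldMap u').hom.toAlgebra := by
    let _ : Algebra (U.residueField (a u')) (U'.residueField u') := (a.residueFieldMap u').hom.toAlgebra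
    have : Algebra.IsSeparable (U.residueField (a u')) (U'.residueField u') := inferInstance
    infer_instance
  have hB : @Algebra.IsAlgebraic (V.residueField (b (h' u'))) (V'.residueField (h' u')) _ _
      (b.residueFieldMap (h' u')).hom.toAlgebra := by
    let _ : Algebra (V.residueField (b (h' u'))) (V'.residueField (h' u')) := (b.residueFieldMap (h' u')).hom.toAlgebra
    have : Algebra.IsSeparable (V.residueField (b (h' u'))) (V'.residueField (h' u')) := inferInstance
    infer_instance
  have e1 : (a.residueFieldMap u').hom.comp (h.residueFieldMap (a u')).hom =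
      ((a ≫ h).residueFieldMap u').hom := by
    rw [Scheme.residueFieldMap_comp]; rfl
  have e2 : (h'.residueFieldMap u').hom.comp (b.residueFieldMap (h' u')).hom =
      ((h' ≫ b).residueFieldMap u').hom := by
    rw [Scheme.residueFieldMap_comp]; rfl
  refine (trdeg_comp_of_isAlgebraic_top _ _ hA).trans ?_
  refine Eq.trans ?_ (trdeg_comp_of_isAlgebraic_bot _ _ hB).symm
  rw [e1, e2]
  exact (trdeg_congr comm u').symm

end Groth.Agent.S7407
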