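import Groth.Statements.S7413
import Groth.Agent.Lib.Helper79.QCohZarProj

set_option autoImplicit false
universe u
open CategoryTheory AlgebraicGeometry
open Opposite
open Mor

namespace Groth.Agent.S7413

/-- Let `f : X → Y` be a morphism of schemes and `G` a quasi-coherent, locally projective `O_Y`-module
(projective sections over every affine open). Then `f^* G` is locally projective on `X`. -/
theorem result {X Y : Scheme.{u}} (f : X ⟶ Y) (G : Y.Modules) [Coh.IsQCoh G]
    (hG : ∀ V : Y.Opens, IsAffineOpen V → Module.Projective (Y.ringCatSheaf.obj.obj (op V)) (G.val.obj (op V)))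
    (U : X.Opens) (hU : IsAffineOpen U) :
    Module.Projective (X.ringCatSheaf.obj.obj (op U)) (((Scheme.Modules.pullback f).obj G).val.obj (op U)) := by
  haveI : G.IsQuasicoherent := ‹Coh.IsQCoh G›
  haveI : ((Scheme.Modules.pullback f).obj G).IsQuasicoherent :=
    Groth.Agent.Lib.Lead.PullbackAff.isQuasicoherent_pullback f G
  apply Groth.Agent.Lib.Helper79.QCohZarProj.projective_of_basicOpen_cover _ hU
  intro x hx
  obtain ⟨_, ⟨V, hV, rfl⟩, hxV, -⟩ :=
    (Y.isBasis_affineOpens).exists_subset_of_mem_open (Set.mem_univ (f x)) isOpen_univ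
  obtain ⟨r, hrV, hxr⟩ := hU.exists_basicOpen_le (V := f ⁻¹ᵁ V) ⟨x, hxV⟩ hx
  refine ⟨r, hxr, ?_⟩
  have hD : IsAffineOpen (X.basicOpen r) := hU.basicOpen r
  letI := (f.appLE V (X.basicOpen r) hrV).hom.toAlgebra
  haveI : Module.Projective Γ(Y, V) Γ(G, V) := hG V hV
  exact Module.Projective.of_equiv'
    (Groth.Agent.Lib.Lead.PullbackAff.sectionsPullbackEquiv f G hD hV hrV).symm

end Groth.Agent.S7413
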