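import Groth.Statements.S7415
-- import your own Groth.Agent.* helpers here

set_option autoImplicit false
universe u
open CategoryTheory AlgebraicGeometry
open Mor

namespace Groth.Agent.S7415

/-- Let `X` be a reduced scheme with finitely many irreducible components and `x ∈ X`. Then `x` has an
affine open neighbourhood `U` such that `O_X(U) → O_{X,x}` is injective. -/
theorem result (X : Scheme.{u}) [AlgebraicGeometry.IsReduced X]
    (hirr : (irreducibleComponents (X : Type u)).Finite) (x : X) : X.IsGermInjectiveAt x := by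
  classical
  have hCfin : {Z ∈ irreducibleComponents (X : Type u) | x ∉ Z}.Finite := hirr.subset (fun Z hZ => hZ.1)
  have hclosed : IsClosed (⋃₀ {Z ∈ irreducibleComponents (X : Type u) | x ∉ Z}) := by
    rw [Set.sUnion_eq_biUnion]
    exact hCfin.isClosed_biUnion (fun Z hZ => isClosed_of_mem_irreducibleComponents Z hZ.1)
  have hxU' : x ∈ (⟨(⋃₀ {Z ∈ irreducibleComponents (X : Type u) | x ∉ Z})ᶜ, hclosed.isOpen_compl⟩ : X.Opens) := by
    show x ∈ (⋃₀ {Z ∈ irreducibleComponents (X : Type u) | x ∉ Z})ᶜ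
    rintro ⟨Z, hZ, hxZ⟩
    exact hZ.2 hxZ
  obtain ⟨U, hU, hxU, hUU'⟩ := exists_isAffineOpen_mem_and_subset hxU'
  refine ⟨⟨U, hxU, hU, ?_⟩⟩
  rw [injective_iff_map_eq_zero]
  intro s hs
  have hs0 : X.presheaf.germ U x hxU s = X.presheaf.germ U x hxU 0 := by rw [hs, map_zero]
  obtain ⟨V, hxV, iU, iV, hV⟩ := TopCat.Presheaf.germ_eq X.presheaf x hxU hxU s 0 hs0
  rw [map_zero] at hV
  rw [← basicOpen_eq_bot_iff]
  by_contra hne
  rw [← TopologicalSpace.Opens.not_nonempty_iff_eq_bot, not_not] at hne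
  obtain ⟨y, hy⟩ := hne
  have hyU : y ∈ U := X.basicOpen_le s hy
  have hZ : irreducibleComponent y ∈ irreducibleComponents (X : Type u) := irreducibleComponent_mem_irreducibleComponents y
  have hxZ : x ∈ irreducibleComponent y := by
    by_contra hxZ
    exact hUU' hyU ⟨irreducibleComponent y, ⟨hZ, hxZ⟩, mem_irreducibleComponent⟩
  have hirrZ : IsIrreducible (irreducibleComponent y) := isIrreducible_irreducibleComponent
  obtain ⟨z, hzZ, hzs, hzV⟩ := hirrZ.isPreirreducible (X.basicOpen s : Set X) (V : Set X)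
    (X.basicOpen s).isOpen V.isOpen ⟨y, mem_irreducibleComponent, hy⟩ ⟨x, hxZ, hxV⟩
  have h1 : z ∈ X.basicOpen (X.presheaf.map iU.op s) := by
    rw [Scheme.basicOpen_res]
    exact ⟨hzV, hzs⟩
  rw [hV, Scheme.basicOpen_zero] at h1
  exact h1

end Groth.Agent.S7415
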