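import Groth.Statements.S7416
-- import your own Groth.Agent.* helpers here

set_option autoImplicit false
universe u
open CategoryTheory AlgebraicGeometry
open Mor

namespace Groth.Agent.S7416

theorem image_basicOpen_eq_basicOpen {U W : Scheme.{u}} [IsAffine U] (i : W ⟶ U) [IsOpenImmersion i]
    (f₁ : Γ(U, ⊤)) (hf₁ : U.basicOpen f₁ ≤ i.opensRange) (a : Γ(W, i ⁻¹ᵁ U.basicOpen f₁)) :
    ∃ f' : Γ(U, ⊤), i ''ᵁ (W.basicOpen a) = U.basicOpen f' := by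
  have e : i ''ᵁ (i ⁻¹ᵁ U.basicOpen f₁) = U.basicOpen f₁ := by
    rw [i.image_preimage_eq_opensRange_inf, inf_eq_right.mpr hf₁]
  obtain ⟨f', hf'⟩ := (isAffineOpen_top U).basicOpen_basicOpen_is_basicOpen f₁
    (U.presheaf.map (eqToHom e.symm).op ((i.appIso (i ⁻¹ᵁ U.basicOpen f₁)).inv a))
  refine ⟨f', ?_⟩
  rw [hf', Scheme.basicOpen_res_eq, Scheme.image_basicOpen]

/-- Let `U`, `V` be affine schemes and `W → U`, `W → V` open immersions. Then every `w ∈ W` has an open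
neighbourhood `W' ⊆ W` whose images in `U` and in `V` are standard opens `D(f) ⊆ U`, `D(g) ⊆ V` (in
particular `W'` is affine). -/
theorem result {U V W : Scheme.{u}} [IsAffine U]
    [IsAffine V] (i : W ⟶ U) (j : W ⟶ V) [IsOpenImmersion i] [IsOpenImmersion j] (w : W) :
    ∃ (W' : W.Opens) (f : Γ(U, ⊤)) (g : Γ(V, ⊤)), w ∈ W' ∧ i ''ᵁ W' = U.basicOpen f ∧ j ''ᵁ W' = V.basicOpen g := by
  obtain ⟨f₁, hf₁le, hf₁mem⟩ := (isAffineOpen_top U).exists_basicOpen_le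
    (V := i.opensRange) ⟨i w, ⟨w, rfl⟩⟩ trivial
  obtain ⟨g₁, hg₁le, hg₁mem⟩ := (isAffineOpen_top V).exists_basicOpen_le
    (V := j.opensRange) ⟨j w, ⟨w, rfl⟩⟩ trivial
  have hW₁ : IsAffineOpen (i ⁻¹ᵁ U.basicOpen f₁) :=
    ((isAffineOpen_top U).basicOpen f₁).preimage_of_isOpenImmersion i hf₁le
  have hW₂ : IsAffineOpen (j ⁻¹ᵁ V.basicOpen g₁) :=
    ((isAffineOpen_top V).basicOpen g₁).preimage_of_isOpenImmersion j hg₁le
  obtain ⟨a, b, hab, hwa⟩ := exists_basicOpen_le_affine_inter hW₁ hW₂ w ⟨hf₁mem, hg₁mem⟩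
  obtain ⟨f', hf'⟩ := image_basicOpen_eq_basicOpen i f₁ hf₁le a
  obtain ⟨g', hg'⟩ := image_basicOpen_eq_basicOpen j g₁ hg₁le b
  exact ⟨W.basicOpen a, f', g', hwa, hf', hab ▸ hg'⟩

end Groth.Agent.S7416
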