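import Groth.Statements.S7420
import Groth.Agent.Lib.Helper23.Seminormal

set_option autoImplicit false
universe u
open CategoryTheory AlgebraicGeometry
open HTop

namespace Groth.Agent.S7420

/-- A ring property that passes to localizations away from an element, can be checked on a
standard cover and is invariant under isomorphism holds at every point on some affine
neighbourhood iff it holds on all affine opens. -/
theorem affine_local (X : Scheme.{u}) (Q : ∀ (A : Type u) [CommRing A], Prop)
    (hloc : ∀ {A : Type u} [CommRing A] (f : A) (B : Type u) [CommRing B] [Algebra A B]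
      [IsLocalization.Away f B], Q A → Q B)
    (hglue : ∀ {A : Type u} [CommRing A] (s : Set A), Ideal.span s = ⊤ →
      (∀ f ∈ s, Q (Localization.Away f)) → Q A)
    (hiso : ∀ {A B : Type u} [CommRing A] [CommRing B], (A ≃+* B) → Q A → Q B) :
    (∀ x : X, ∃ U : X.affineOpens, x ∈ (U : X.Opens) ∧ Q Γ(X, U)) ↔
      ∀ U : X.affineOpens, Q Γ(X, U) := by
  constructor
  · intro h V
    choose U hxU hU using h
    refine of_affine_open_cover (P := fun W => Q Γ(X, W)) U ?_ V ?_ ?_ hU
    · rw [eq_top_iff]
      intro x _
      exact TopologicalSpace.Opens.mem_iSup.mpr ⟨x, hxU x⟩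
    · intro W f hW
      have := W.2.isLocalization_basicOpen f
      change Q Γ(X, X.basicOpen f)
      exact hloc f _ hW
    · intro W s hs h
      refine hglue (s : Set Γ(X, W)) hs fun f hf => ?_
      have := W.2.isLocalization_basicOpen f
      exact hiso (IsLocalization.algEquiv (Submonoid.powers f) Γ(X, X.basicOpen f)
        (Localization.Away f)).toRingEquiv (h ⟨f, hf⟩)
  · intro h x
    obtain ⟨U, hU, hxU, -⟩ := TopologicalSpace.Opens.isBasis_iff_nbhd.mp X.isBasis_affineOpens
      (TopologicalSpace.Opens.mem_top x)
    exact ⟨⟨U, hU⟩, hxU, h ⟨U, hU⟩⟩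


/-- A scheme `X` is seminormal if and only if `O_X(U)` is seminormal for every affine open `U ⊆ X`; the
same holds with 'seminormal' replaced by 'absolutely weakly normal'. -/
theorem result (X : Scheme.{u}) :
    (HTop.IsSeminormal X ↔ ∀ U : X.affineOpens, HTop.IsSeminormalRing Γ(X, U)) ∧
    (HTop.IsAWN X ↔ ∀ U : X.affineOpens, HTop.IsAWNRing Γ(X, U)) := by
  constructor
  · exact affine_local X HTop.IsSeminormalRing
      (fun f B _ _ _ h => Lib.Helper23.isSeminormalRing_localization f B h)
      (fun s hs h => Lib.Helper23.isSeminormalRing_of_span_eq_top s hs h)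
      (fun e h => Lib.Helper23.isSeminormalRing_of_ringEquiv e h)
  · exact affine_local X HTop.IsAWNRing
      (fun f B _ _ _ h => Lib.Helper23.isAWNRing_localization f B h)
      (fun s hs h => Lib.Helper23.isAWNRing_of_span_eq_top s hs h)
      (fun e h => Lib.Helper23.isAWNRing_of_ringEquiv e h)

end Groth.Agent.S7420
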