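import Groth.Statements.S7431
import Mathlib

set_option autoImplicit false
universe u
open CategoryTheory AlgebraicGeometry
open Lim

namespace Groth.Agent.S7431

section helpers
open AlgebraicGeometry CategoryTheory CategoryTheory.Limits

section ring
variable {B B' R R' : Type u} [CommRing B] [CommRing B'] [CommRing R] [CommRing R']

theorem awayMap_bijective (s : B →+* R) (t : R' →+* R) (p : B' →+* B) (q : B' →+* R')
    (hcomm : ∀ x, s (p x) = t (q x))
    (hinj : ∀ x : B', p x = 0 → q x = 0 → x = 0)
    (hex : ∀ (b : B) (r' : R'), s b = t r' → ∃ x : B', p x = b ∧ q x = r')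
    (h : B') (hiso : Function.Bijective (Localization.awayMap s (p h))) :
    Function.Bijective (Localization.awayMap q h) := by
  constructor
  · rw [Localization.awayMap_injective_iff]
    intro a ha
    have h1 : s (p a) = 0 := by rw [hcomm, ha, map_zero]
    obtain ⟨n, hn⟩ := (Localization.awayMap_injective_iff.mp hiso.1) (p a) h1
    refine ⟨n, hinj _ ?_ ?_⟩
    · rw [map_mul, map_pow, hn]
    · rw [map_mul, ha, mul_zero]
  · rw [Localization.awayMap_surjective_iff]
    intro r'
    obtain ⟨b₀, m, hb⟩ := (Localization.awayMap_surjective_iff.mp hiso.2) (t r')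
    have h2 : s b₀ = t (q h ^ m * r') := by
      rw [hb, map_mul, map_pow, hcomm]
    obtain ⟨b, -, hb'⟩ := hex b₀ _ h2
    exact ⟨b, m, hb'⟩

end ring


section scheme
variable {B' R' : Type u} [CommRing B'] [CommRing R']

theorem isOpenImmersion_of_range (q : B' →+* R') (h : B')
    (hbij : Function.Bijective (Localization.awayMap q h))
    {T : Scheme.{u}} (j : T ⟶ Spec (CommRingCat.of R')) [IsOpenImmersion j]
    (hj : Set.range j = (PrimeSpectrum.basicOpen (q h) : Set (PrimeSpectrum R'))) :
    IsOpenImmersion (j ≫ Spec.map (CommRingCat.ofHom q)) := by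
  let a : Spec (CommRingCat.of (Localization.Away (q h))) ⟶ Spec (CommRingCat.of R') :=
    Spec.map (CommRingCat.ofHom (algebraMap R' (Localization.Away (q h))))
  have ha : Set.range a = (PrimeSpectrum.basicOpen (q h) : Set (PrimeSpectrum R')) :=
    PrimeSpectrum.localization_away_comap_range _ (q h)
  let e := IsOpenImmersion.isoOfRangeEq j a (hj.trans ha.symm)
  have hje : j = e.hom ≫ a := (IsOpenImmersion.isoOfRangeEq_hom_fac j a _).symm
  have hcomp : (algebraMap R' (Localization.Away (q h))).comp q =
      (Localization.awayMap q h).comp (algebraMap B' (Localization.Away h)) :=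
    (IsLocalization.map_comp _).symm
  have hiso : IsIso (CommRingCat.ofHom (Localization.awayMap q h)) :=
    ((RingEquiv.ofBijective _ hbij).toCommRingCatIso).isIso_hom
  have key : j ≫ Spec.map (CommRingCat.ofHom q) =
      e.hom ≫ Spec.map (CommRingCat.ofHom (Localization.awayMap q h)) ≫
        Spec.map (CommRingCat.ofHom (algebraMap B' (Localization.Away h))) := by
    rw [hje, Category.assoc, ← Spec.map_comp, ← Spec.map_comp, ← CommRingCat.ofHom_comp,
      ← CommRingCat.ofHom_comp, hcomp]
  rw [key]
  infer_instance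

end scheme



end helpers

/-- Let `B' = B ×_R R'` be a cartesian square of rings with maps `s : B → R`, `t : R' → R`, and let `W'
= D(f_1) ∪ … ∪ D(f_n) ⊆ Spec R'` with `t(f_i) = s(g_i)` for elements `g_i ∈ B` such that `B_{g_i} →
R_{s(g_i)}` is an isomorphism for each `i`. Then the composite `W' → Spec R' → Spec B'`, the second
map coming from `B' → R'`, is an open immersion. -/
theorem result {B B' R R' : Type u} [CommRing B] [CommRing B']
    [CommRing R] [CommRing R'] (s : B →+* R) (t : R' →+* R) (p : B' →+* B) (q : B' →+* R')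
    (hsq : IsPullback (CommRingCat.ofHom p) (CommRingCat.ofHom q) (CommRingCat.ofHom s) (CommRingCat.ofHom t))
    {n : ℕ} (f : Fin n → R') (g : Fin n → B) (hfg : ∀ i, t (f i) = s (g i))
    (hiso : ∀ i, Function.Bijective (Localization.awayMap s (g i))) :
    IsOpenImmersion (Scheme.Opens.ι (X := Spec (CommRingCat.of R')) (⨆ i, PrimeSpectrum.basicOpen (f i)) ≫
      Spec.map (CommRingCat.ofHom q)) := by
  have hT := hsq.map (forget CommRingCat)
  have hcomm : ∀ x, s (p x) = t (q x) := fun x =>
    congrArg (fun φ : CommRingCat.of B' ⟶ CommRingCat.of R => φ.hom x) hsq.w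
  have hinj : ∀ x : B', p x = 0 → q x = 0 → x = 0 := fun x h1 h2 =>
    CategoryTheory.Limits.Types.ext_of_isPullback hT (x₁ := x) (y₁ := 0) (h1.trans (map_zero p).symm)
      (h2.trans (map_zero q).symm)
  have hex : ∀ (b : B) (r' : R'), s b = t r' → ∃ x : B', p x = b ∧ q x = r' := fun b r' h =>
    CategoryTheory.Limits.Types.exists_of_isPullback hT b r' h
  choose h hp hq using fun i => hex (g i) (f i) (hfg i).symm
  obtain rfl : g = fun i => p (h i) := funext fun i => (hp i).symm
  obtain rfl : f = fun i => q (h i) := funext fun i => (hq i).symm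
  have hbij : ∀ i, Function.Bijective (Localization.awayMap q (h i)) := fun i =>
    awayMap_bijective s t p q hcomm hinj hex (h i) (hiso i)
  let W' : (Spec (CommRingCat.of R')).Opens := ⨆ i, PrimeSpectrum.basicOpen (q (h i))
  let F : Spec (CommRingCat.of R') ⟶ Spec (CommRingCat.of B') := Spec.map (CommRingCat.ofHom q)
  let U : Fin n → (Spec (CommRingCat.of B')).Opens := fun i => PrimeSpectrum.basicOpen (h i)
  have hFU : ∀ i (x : Spec (CommRingCat.of R')), F x ∈ U i ↔
      x ∈ (PrimeSpectrum.basicOpen (q (h i)) : (Spec (CommRingCat.of R')).Opens) :=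
    fun i x => Iff.rfl
  change IsOpenImmersion (W'.ι ≫ F)
  apply IsZariskiLocalAtTarget.of_range_subset_iSup (P := @IsOpenImmersion) U
  · rintro _ ⟨x, rfl⟩
    obtain ⟨i, hi⟩ := TopologicalSpace.Opens.mem_iSup.mp x.2
    exact TopologicalSpace.Opens.mem_iSup.mpr ⟨i, (hFU i x.1).mpr hi⟩
  · intro i
    have hoi : IsOpenImmersion (((W'.ι ≫ F) ∣_ U i) ≫ (U i).ι) := by
      rw [morphismRestrict_ι, ← Category.assoc]
      apply isOpenImmersion_of_range q (h i) (hbij i)
      ext x
      constructor
      · rintro ⟨y, rfl⟩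
        exact (hFU i _).mp y.2
      · intro hx
        have hxW : x ∈ W' := TopologicalSpace.Opens.mem_iSup.mpr ⟨i, hx⟩
        exact ⟨⟨⟨x, hxW⟩, (hFU i x).mpr hx⟩, rfl⟩
    exact IsOpenImmersion.of_comp _ (U i).ι

end Groth.Agent.S7431
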