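import Groth.Statements.S7435
import Groth.Agent.Lib.Helper58.BddFib

set_option autoImplicit false
universe u
open CategoryTheory AlgebraicGeometry
open BddFib

namespace Groth.Agent.S7435

/-- If `f` is finite locally free of degree `d`, then `d` bounds the degrees of the fibres of `f`. -/
theorem result {X Y : Scheme.{u}} (f : X ⟶ Y) (d : ℕ) (hf : Mor2.IsFinLocFreeOfDeg d f) :
    BddFib.FibreDegLE f d := by
  obtain ⟨⟨h1, h2, h3⟩, hd⟩ := hf
  intro y
  have : IsFinite (f.fiberToSpecResidueField y) := MorphismProperty.pullback_snd _ _ h1
  have : Flat (f.fiberToSpecResidueField y) := MorphismProperty.pullback_snd _ _ h2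
  have key := Groth.Agent.Lib.Helper58.BddFibLib.finiteOfDegLE_of_finrank
    (K := Y.residueField y) (f.fiberToSpecResidueField y) (IsLocalRing.closedPoint _)
  have hrank : (f.fiberToSpecResidueField y).finrank (IsLocalRing.closedPoint _) = d := by
    rw [Scheme.Hom.finrank_of_isPullback (f.fiberι y) (f.fiberToSpecResidueField y) f
      (Y.fromSpecResidueField y) (IsPullback.of_hasPullback _ _), hd]
  rw [hrank] at key
  exact key

end Groth.Agent.S7435
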