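import Groth.Statements.S7442
import Groth.Agent.Lib.Helper58.BddFib

set_option autoImplicit false
universe u
open CategoryTheory AlgebraicGeometry
open BddFib

namespace Groth.Agent.S7442

/-- Let `f : X → Y` and `h : Y → Z` with `g = h ∘ f`. If `f` is flat and surjective and `n` bounds the
degrees of the fibres of `g`, then `n` bounds the degrees of the fibres of `h`. -/
theorem result {X Y Z : Scheme.{u}} (f : X ⟶ Y) (h : Y ⟶ Z) [Flat f] [Surjective f]
    (n : ℕ) (hg : BddFib.FibreDegLE (f ≫ h) n) : BddFib.FibreDegLE h n := by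
  intro z
  -- the induced morphism of fibres
  let l : (f ≫ h).fiber z ⟶ h.fiber z :=
    Limits.pullback.lift ((f ≫ h).fiberι z ≫ f) ((f ≫ h).fiberToSpecResidueField z)
      (by rw [Category.assoc]; exact (f ≫ h).fiber_fac z)
  have hl1 : l ≫ h.fiberι z = (f ≫ h).fiberι z ≫ f := Limits.pullback.lift_fst _ _ _
  have hl2 : l ≫ h.fiberToSpecResidueField z = (f ≫ h).fiberToSpecResidueField z :=
    Limits.pullback.lift_snd _ _ _
  have hpb : IsPullback l ((f ≫ h).fiberι z) (h.fiberι z) f := by
    refine IsPullback.of_right (h₁₂ := h.fiberToSpecResidueField z) (h₂₂ := h)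
      (v₁₃ := Z.fromSpecResidueField z) ?_ hl1
      (IsPullback.of_hasPullback h (Z.fromSpecResidueField z)).flip
    rw [hl2]
    exact (IsPullback.of_hasPullback (f ≫ h) (Z.fromSpecResidueField z)).flip
  have h1 : Flat l := MorphismProperty.of_isPullback hpb.flip inferInstance
  have h2 : Surjective l := MorphismProperty.of_isPullback hpb.flip inferInstance
  have := hg z
  rw [← hl2] at this
  exact Groth.Agent.Lib.Helper58.BddFibLib.finiteOfDegLE_of_flat_surjective
    (K := Z.residueField z) l (h.fiberToSpecResidueField z) n this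

end Groth.Agent.S7442
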