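import Groth.Statements.S7444
import Groth.Agent.Lib.Helper20.FPApprox4

set_option autoImplicit false
universe u
open CategoryTheory AlgebraicGeometry
open Mor

namespace Groth.Agent.S7444

/-- Let `φ : A → B` be a ring map such that `Spec B → Spec A` is a universal homeomorphism and all
residue field extensions are trivial (every residue field map is surjective). Then `B`, as an
`A`-algebra, is the colimit of a filtered diagram of finitely presented `A`-algebras `B_i`, each of
which has the same two properties over `A`. (The colimit is taken in the category of rings under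
`A`, over a small filtered index category.) -/
theorem result {A B : Type u} [CommRing A] [CommRing B]
    (φ : A →+* B) (hφ : FlatMor.IsUnivHomeo (Spec.map (CommRingCat.ofHom φ)))
    (hres : ∀ x : Spec (CommRingCat.of B), Function.Surjective ((Spec.map (CommRingCat.ofHom φ)).residueFieldMap x)) :
    ∃ (J : Type u) (_ : SmallCategory J) (_ : IsFiltered J) (F : J ⥤ Under (CommRingCat.of A))
      (c : Limits.Cocone F) (_ : Limits.IsColimit c),
      (∀ j, (F.obj j).hom.hom.FinitePresentation ∧ FlatMor.IsUnivHomeo (Spec.map (F.obj j).hom) ∧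
        ∀ x : Spec (F.obj j).right, Function.Surjective ((Spec.map (F.obj j).hom).residueFieldMap x)) ∧
      Nonempty (c.pt ≅ Under.mk (CommRingCat.ofHom φ)) := by
  letI := φ.toAlgebra
  have hUH : Groth.Agent.Lib.Helper20.UnivHomeo.UH A B :=
    (Groth.Agent.Lib.Helper20.UnivHomeo.isUnivHomeo_iff A B).mp hφ
  have hRT : Groth.Agent.Lib.Helper20.UnivHomeo.ResTriv A B :=
    (Groth.Agent.Lib.Helper20.UnivHomeo.forall_surjective_residueFieldMap_iff).mp hres
  obtain ⟨J, i1, i2, F, c, hc, hF, hpt⟩ :=
    Groth.Agent.Lib.Helper20.FPApprox.exists_colimit_uh_resTriv hUH hRT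
  refine ⟨J, i1, i2, F, c, hc, ?_, ⟨eqToIso hpt⟩⟩
  intro j
  obtain ⟨p, hp, e⟩ := hF j
  rw [e]
  exact ⟨(RingHom.finitePresentation_algebraMap).mpr p.finitePresentation,
    (Groth.Agent.Lib.Helper20.UnivHomeo.isUnivHomeo_iff A p.Alg).mpr hp.1,
    (Groth.Agent.Lib.Helper20.UnivHomeo.forall_surjective_residueFieldMap_iff).mpr hp.2⟩

end Groth.Agent.S7444
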