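import Groth.Statements.S7454
import Groth.Agent.Lib.Helper19.Grpd.SmoothHomogeneity
import Groth.Agent.Lib.Helper19.Grpd.TangentDerivation

set_option autoImplicit false
universe u
open CategoryTheory CategoryTheory.Limits AlgebraicGeometry
open Grpd

namespace Groth.Agent.S7454

/-- Let (U, R, s, t, c) be a groupoid scheme over S with U the spectrum of a field of characteristic
zero and s, t locally of finite type. Then s and t are smooth. (A groupoid scheme carries U, R, s,
t, c, e, i over S with the groupoid axioms on T-points; c is defined on the fibre product of s and t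
and sends a pair (a, b) with s(a) = t(b) to a composed with b.) -/
theorem result (S : Scheme.{u}) (G : Grpd.GroupoidScheme S) (k : Type u) [Field k] [CharZero k] (eU : G.U ≅ Spec (CommRingCat.of k)) [LocallyOfFiniteType G.s] [LocallyOfFiniteType G.t] : Smooth G.s ∧ Smooth G.t := by
  haveI : Subsingleton G.U := (Scheme.homeoOfIso eU).injective.subsingleton
  haveI : Nonempty G.U := ⟨(Scheme.homeoOfIso eU).symm default⟩
  haveI : IsIntegral G.U := isIntegral_of_isOpenImmersion eU.hom
  haveI : IsLocallyNoetherian G.U := isLocallyNoetherian_of_isOpenImmersion eU.hom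
  haveI : LocallyOfFinitePresentation G.s := inferInstance
  have hs : Smooth G.s := by
    let s₀ : G.R ⟶ Spec (CommRingCat.of k) := G.s ≫ eU.hom
    haveI : LocallyOfFiniteType s₀ := inferInstanceAs (LocallyOfFiniteType (G.s ≫ eU.hom))
    haveI : IsLocallyNoetherian G.R := LocallyOfFiniteType.isLocallyNoetherian s₀
    haveI := Groth.Agent.Lib.Helper19.Grpd.isDomain_A G eU
    obtain ⟨V, hxV, hV⟩ := Groth.Agent.S2259.result G.R (Groth.Agent.Lib.Helper19.Grpd.unitPt G eU)
    have hd := (V.ι ≫ s₀).dense_smoothLocus_of_perfectField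
    haveI : Nonempty V := ⟨⟨_, hxV⟩⟩
    obtain ⟨v, hv⟩ := hd.nonempty
    rw [SetLike.mem_coe, ← Scheme.Hom.preimage_smoothLocus_eq] at hv
    have hr₀ : V.ι v ∈ s₀.smoothLocus := hv
    have sq : IsPullback (𝟙 G.R) s₀ G.s eU.inv :=
      IsPullback.of_horiz_isIso ⟨by simp [s₀]⟩
    have e := Groth.Agent.Lib.Helper19.smoothLocus_eq_preimage_of_isPullback G.s eU.inv s₀ (𝟙 G.R) sq
      (Or.inr inferInstance)
    rw [e] at hr₀
    exact Groth.Agent.Lib.Helper19.Grpd.smooth_s_of_mem_smoothLocus G _ hr₀
  refine ⟨hs, ?_⟩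
  rw [← G.i_s]
  infer_instance

end Groth.Agent.S7454
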