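import Groth.Statements.S7455
import Groth.Agent.Lib.Helper19.Grpd.SmoothHomogeneity

set_option autoImplicit false
universe u
open CategoryTheory CategoryTheory.Limits AlgebraicGeometry
open Grpd

namespace Groth.Agent.S7455

/-- Let (U, R, s, t, c) be a groupoid scheme over S with U the spectrum of a perfect field, s and t
locally of finite type, and R reduced. Then s and t are smooth. (A groupoid scheme carries U, R, s,
t, c, e, i over S with the groupoid axioms on T-points; c is defined on the fibre product of s and t
and sends a pair (a, b) with s(a) = t(b) to a composed with b.) -/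
theorem result (S : Scheme.{u}) (G : Grpd.GroupoidScheme S) (k : Type u) [Field k] [PerfectField k] (eU : G.U ≅ Spec (CommRingCat.of k)) [LocallyOfFiniteType G.s] [LocallyOfFiniteType G.t] [IsReduced G.R] : Smooth G.s ∧ Smooth G.t := by
  haveI : Subsingleton G.U := (Scheme.homeoOfIso eU).injective.subsingleton
  haveI : Nonempty G.U := ⟨(Scheme.homeoOfIso eU).symm default⟩
  haveI : IsIntegral G.U := isIntegral_of_isOpenImmersion eU.hom
  haveI : IsLocallyNoetherian G.U := isLocallyNoetherian_of_isOpenImmersion eU.hom
  haveI : LocallyOfFinitePresentation G.s := inferInstance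
  have hs : Smooth G.s := by
    by_cases hR : Nonempty G.R
    · let s₀ : G.R ⟶ Spec (CommRingCat.of k) := G.s ≫ eU.hom
      haveI : LocallyOfFiniteType s₀ := inferInstanceAs (LocallyOfFiniteType (G.s ≫ eU.hom))
      haveI : LocallyOfFinitePresentation s₀ := inferInstance
      obtain ⟨r₀, hr₀⟩ := s₀.dense_smoothLocus_of_perfectField.nonempty
      have sq : IsPullback (𝟙 G.R) s₀ G.s eU.inv :=
        IsPullback.of_horiz_isIso ⟨by simp [s₀]⟩
      have e := Groth.Agent.Lib.Helper19.smoothLocus_eq_preimage_of_isPullback G.s eU.inv s₀ (𝟙 G.R) sq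
        (Or.inr inferInstance)
      rw [SetLike.mem_coe, e] at hr₀
      exact Groth.Agent.Lib.Helper19.Grpd.smooth_s_of_mem_smoothLocus G r₀ hr₀
    · rw [← Scheme.Hom.smoothLocus_eq_top_iff]
      ext r
      exact (hR ⟨r⟩).elim
  refine ⟨hs, ?_⟩
  rw [← G.i_s]
  infer_instance

end Groth.Agent.S7455
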