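import Groth.Statements.S7460
import Mathlib.AlgebraicGeometry.Morphisms.SurjectiveOnStalks
import Mathlib.AlgebraicGeometry.PullbackCarrier
import Mathlib.RingTheory.SurjectiveOnStalks

set_option autoImplicit false
universe u
open CategoryTheory CategoryTheory.Limits AlgebraicGeometry
open GrpSch

namespace Groth.Agent.S7460

theorem surjectiveOnStalks_of_profinite (k : Type u) [Field k] (A : Type u) [CommRing A]
    [Algebra k A]
    (hA : ∀ s : Finset A, ∃ (B : Subalgebra k A) (n : ℕ), (↑s : Set A) ⊆ (B : Set A) ∧
      Nonempty (B ≃ₐ[k] (Fin n → k))) :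
    (algebraMap k A).SurjectiveOnStalks := by
  classical
  rw [RingHom.surjectiveOnStalks_iff_forall_ideal]
  intro I hI s
  obtain ⟨B, n, hsB, ⟨ε⟩⟩ := hA {s}
  have hs : s ∈ B := hsB (by simp)
  let v : Fin n → k := ε ⟨s, hs⟩
  let e : Fin n → A := fun i => (ε.symm (Pi.single i 1) : A)
  have hsum : ∑ i, e i = 1 := by
    have h1 : ∑ i, (Pi.single i 1 : Fin n → k) = 1 := by
      ext j
      simp [Finset.sum_apply, Pi.single_apply]
    have h2 : ε.symm (∑ i, (Pi.single i 1 : Fin n → k)) = 1 := by rw [h1, map_one]
    rw [map_sum] at h2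
    have h3 := congrArg (Subtype.val : B → A) h2
    simpa [e] using h3
  obtain ⟨i, hi⟩ : ∃ i, e i ∉ I := by
    by_contra hcon
    push Not at hcon
    apply hI
    rw [Ideal.eq_top_iff_one, ← hsum]
    exact I.sum_mem fun i _ => hcon i
  refine ⟨v i, 1, e i, hi, ?_, ?_⟩
  · rw [map_one]
    exact fun h => hI ((Ideal.eq_top_iff_one I).2 h)
  · rw [map_one, mul_one]
    have h4 : ε.symm (Pi.single i 1) * ⟨s, hs⟩ = ε.symm (Pi.single i 1) * algebraMap k B (v i) := by
      apply ε.injective
      rw [map_mul, map_mul, AlgEquiv.apply_symm_apply, AlgEquiv.commutes]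
      ext j
      by_cases hj : j = i
      · subst hj; simp [v]
      · simp [hj]
    have h5 := congrArg (Subtype.val : B → A) h4
    simpa [e] using h5

/-- Let k be a field and A a k-algebra such that every finite subset of A is contained in a k-subalgebra
isomorphic to a finite product of copies of k (that is, A is a directed colimit of finite products
of copies of k). Let X be a scheme over k. Then the map from the underlying space of Spec A x_k X to
the product of the underlying spaces of Spec A and X, given by the two projections, is a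
homeomorphism. -/
theorem result (k : Type u) [Field k] (A : Type u) [CommRing A] [Algebra k A] (hA : ∀ s : Finset A, ∃ (B : Subalgebra k A) (n : ℕ), (↑s : Set A) ⊆ (B : Set A) ∧ Nonempty (B ≃ₐ[k] (Fin n → k))) (X : Scheme.{u}) (f : X ⟶ Spec (CommRingCat.of k)) : IsHomeomorph (fun p : ↑(pullback (Spec.map (CommRingCat.ofHom (algebraMap k A))) f) => (pullback.fst (Spec.map (CommRingCat.ofHom (algebraMap k A))) f p, pullback.snd (Spec.map (CommRingCat.ofHom (algebraMap k A))) f p)) := by
  have hS : SurjectiveOnStalks (Spec.map (CommRingCat.ofHom (algebraMap k A))) := by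
    rw [SurjectiveOnStalks.Spec_iff]
    exact surjectiveOnStalks_of_profinite k A hA
  set g := Spec.map (CommRingCat.ofHom (algebraMap k A)) with hg
  have hemb := SurjectiveOnStalks.isEmbedding_pullback f g
  have hemb' : Topology.IsEmbedding
      (fun p : ↑(pullback g f) => (pullback.fst g f p, pullback.snd g f p)) := by
    have h1 := ((Homeomorph.prodComm _ _).isEmbedding.comp hemb).comp
      (Scheme.homeoOfIso (pullbackSymmetry g f)).isEmbedding
    convert h1 using 1
    ext p
    · change (pullback.fst g f) p = (pullback.snd f g) ((pullbackSymmetry g f).hom p)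
      rw [← Scheme.Hom.comp_apply, pullbackSymmetry_hom_comp_snd]
    · change (pullback.snd g f) p = (pullback.fst f g) ((pullbackSymmetry g f).hom p)
      rw [← Scheme.Hom.comp_apply, pullbackSymmetry_hom_comp_fst]
  have hsurj : Function.Surjective
      (fun p : ↑(pullback g f) => (pullback.fst g f p, pullback.snd g f p)) := by
    rintro ⟨a, x⟩
    have : g a = f x := Subsingleton.elim _ _
    obtain ⟨z, hz1, hz2⟩ := Scheme.Pullback.exists_preimage_pullback a x this
    exact ⟨z, by simp [hz1, hz2]⟩
  exact (hemb'.toHomeomorphOfSurjective hsurj).isHomeomorph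

end Groth.Agent.S7460
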