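import Groth.Statements.S7463
import Groth.Agent.Lib.Helper72.FieldBase
import Groth.Agent.Lib.Helper72.GrpdSet

set_option autoImplicit false
universe u
open CategoryTheory CategoryTheory.Limits AlgebraicGeometry
open Grpd

namespace Groth.Agent.S7463

/-- Consider a groupoid scheme (U, R, s, t, c) over S in which U is the spectrum of a field, and write Z
for the closure of the image of the morphism j = (t, s) : R -> U x_S U. Then, set-theoretically,
pr_02 carries Z x_(pr_1,U,pr_0) Z into Z: given the morphism pr_02 from (U x_S U) x_(pr_1,U,pr_0) (U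
x_S U) to U x_S U, whose components are pr_0 of the first factor and pr_1 of the second, any point
both of whose projections land in Z is mapped to a point of Z. (A groupoid scheme consists of U, R,
s, t, c, e, i over S satisfying the groupoid axioms on T-points; c is defined on the fibre product
of s and t and takes a pair (a, b) with s(a) = t(b) to the composite of a with b.) -/
theorem result (S : Scheme.{u}) (G : Grpd.GroupoidScheme S) (k : Type u) [Field k] (eU : G.U ≅ Spec (CommRingCat.of k)) (pr02 : pullback (pullback.snd G.pU G.pU) (pullback.fst G.pU G.pU) ⟶ pullback G.pU G.pU) (h0 : pr02 ≫ pullback.fst G.pU G.pU = pullback.fst (pullback.snd G.pU G.pU) (pullback.fst G.pU G.pU) ≫ pullback.fst G.pU G.pU) (h1 : pr02 ≫ pullback.snd G.pU G.pU = pullback.snd (pullback.snd G.pU G.pU) (pullback.fst G.pU G.pU) ≫ pullback.snd G.pU G.pU) (p : ↑(pullback (pullback.snd G.pU G.pU) (pullback.fst G.pU G.pU))) (h₁ : pullback.fst (pullback.snd G.pU G.pU) (pullback.fst G.pU G.pU) p ∈ closure (Set.range ⇑G.j)) (h₂ : pullback.snd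 (pullback.snd G.pU G.pU) (pullback.fst G.pU G.pU) p ∈ closure (Set.range ⇑G.j)) : pr02 p ∈ closure (Set.range ⇑G.j) := by
  haveI := Groth.Agent.Lib.Helper72.FieldBase.isIntegral_of_iso_spec_field k eU
  haveI := Groth.Agent.Lib.Helper72.FieldBase.subsingleton_of_iso_spec_field k eU
  have hjs : G.j ≫ pullback.snd G.pU G.pU = G.s := pullback.lift_snd _ _ _
  have hjt : G.j ≫ pullback.fst G.pU G.pU = G.t := pullback.lift_fst _ _ _
  refine Groth.Agent.Lib.Helper72.FieldBase.comp_mem_closure' (pullback.snd G.pU G.pU)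
    (pullback.fst G.pU G.pU) G.j pr02 G.s G.t (by rw [Category.comp_id, hjs])
    (by rw [Category.comp_id, hjt]) G.c ?_ p h₁ h₂
  apply pullback.hom_ext
  · calc (G.c ≫ G.j) ≫ pullback.fst G.pU G.pU = G.c ≫ G.j ≫ pullback.fst G.pU G.pU :=
          Category.assoc _ _ _
      _ = G.c ≫ G.t := congrArg (G.c ≫ ·) hjt
      _ = pullback.fst G.s G.t ≫ G.t := Groth.Agent.Lib.Helper72.GrpdPts.c_t G
      _ = pullback.fst G.s G.t ≫ G.j ≫ pullback.fst G.pU G.pU :=
          (congrArg (pullback.fst G.s G.t ≫ ·) hjt).symm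
      _ = _ := by simp only [Category.assoc, h0, pullback.lift_fst_assoc]
  · calc (G.c ≫ G.j) ≫ pullback.snd G.pU G.pU = G.c ≫ G.j ≫ pullback.snd G.pU G.pU :=
          Category.assoc _ _ _
      _ = G.c ≫ G.s := congrArg (G.c ≫ ·) hjs
      _ = pullback.snd G.s G.t ≫ G.s := Groth.Agent.Lib.Helper72.GrpdPts.c_s G
      _ = pullback.snd G.s G.t ≫ G.j ≫ pullback.snd G.pU G.pU :=
          (congrArg (pullback.snd G.s G.t ≫ ·) hjs).symm
      _ = _ := by simp only [Category.assoc, h1, pullback.lift_snd_assoc]

end Groth.Agent.S7463
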