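import Groth.Statements.S7464
import Groth.Agent.Lib.Helper72.GrpdSet
import Mathlib.AlgebraicGeometry.Morphisms.QuasiFinite
import Mathlib.AlgebraicGeometry.Morphisms.Proper

set_option autoImplicit false
universe u
open CategoryTheory CategoryTheory.Limits AlgebraicGeometry
open Grpd

namespace Groth.Agent.S7464

open Groth.Agent.Lib.Helper72.GrpdPts in
theorem eq_of_specializes_of_fibre {X Y : Scheme.{u}} (f : X ⟶ Y) [IsFinite f] {a b : X}
    (hab : a ⤳ b) (h : f a = f b) : a = b := by
  have hd := f.isDiscrete_preimage_singleton (f b)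
  rw [isDiscrete_iff_discreteTopology] at hd
  have h1 : (⟨a, h⟩ : ↥(⇑f ⁻¹' {f b})) ⤳ ⟨b, rfl⟩ := by
    rw [subtype_specializes_iff]; exact hab
  exact congrArg Subtype.val h1.eq

open Groth.Agent.Lib.Helper72.GrpdPts in
theorem aux (S : Scheme.{u}) (G : Grpd.GroupoidScheme S) [IsFinite G.s] [IsFinite G.t] (n : ℕ) :
    ∀ r : G.R, Set.ncard {y | Orb G (G.s r) y ∧ G.s r ⤳ y ∧ y ≠ G.s r} = n →
      G.s r ≠ G.t r → ¬ (G.s r ⤳ G.t r) := by
  induction n using Nat.strong_induction_on with
  | _ n ih =>
    intro r hn hne hsp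
    obtain ⟨r', hrr', hr'⟩ := G.s.isClosedMap.specializingMap hsp
    have hsp' : G.t r ⤳ G.t r' := hrr'.map G.t.continuous
    have hne' : G.s r' ≠ G.t r' := by
      rw [hr']
      intro heq
      have := eq_of_specializes_of_fibre G.t hrr' heq
      rw [← this] at hr'
      exact hne hr'
    have hfin : {y | Orb G (G.s r) y ∧ G.s r ⤳ y ∧ y ≠ G.s r}.Finite := by
      refine Set.Finite.subset ((G.s.finite_preimage_singleton (G.s r)).image G.t) ?_
      rintro y ⟨⟨ρ, hρ1, hρ2⟩, -, -⟩
      exact ⟨ρ, hρ1, hρ2⟩
    have hlt : Set.ncard {y | Orb G (G.s r') y ∧ G.s r' ⤳ y ∧ y ≠ G.s r'} < n := by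
      rw [← hn]
      apply Set.ncard_lt_ncard _ hfin
      rw [hr']
      refine ⟨?_, ?_⟩
      · rintro y ⟨h1, h2, h3⟩
        refine ⟨Orb.trans G ⟨r, rfl, rfl⟩ h1, hsp.trans h2, ?_⟩
        rintro rfl
        exact hne (hsp.antisymm h2).eq
      · intro hsub
        have := hsub ⟨⟨r, rfl, rfl⟩, hsp, fun h => hne h.symm⟩
        exact this.2.2 rfl
    exact ih _ hlt r' rfl hne' (by rw [hr']; exact hsp')

/-- Let (U, R, s, t, c) be a groupoid scheme over S with s and t finite, and let u, u' be distinct
points of U in the same orbit, say u = s(r) and u' = t(r). Then u' does not lie in the closure of u.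
(The published statement calls u, u' points of R; this row takes them to be points of U, as the
orbit condition and the proof require.) (A groupoid scheme carries U, R, s, t, c, e, i over S with
the groupoid axioms on T-points; c is defined on the fibre product of s and t and sends a pair (a,
b) with s(a) = t(b) to a composed with b.) -/
theorem result (S : Scheme.{u}) (G : Grpd.GroupoidScheme S) [IsFinite G.s] [IsFinite G.t] (r : G.R) (hne : G.s r ≠ G.t r) : ¬ (G.s r ⤳ G.t r) := by
  exact aux S G _ r rfl hne

end Groth.Agent.S7464
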