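import Groth.Statements.S7468
import Mathlib
import Groth.Agent.Lib.Helper12.Subtr

set_option autoImplicit false
universe w u
open HTop

namespace Groth.Agent.S7468

open CategoryTheory CategoryTheory.Limits AlgebraicGeometry in
/-- If T is affine and a finite family is obtained by restricting one proper surjective morphism U -> T
to the pieces of a finite affine open cover of U, then the family is a standard V covering. -/
theorem result {T : Scheme.{u}} (E : PreZeroHypercover.{w} T) (hE : HTop.IsStandardPh E) : HTop.IsStandardV E := by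
  obtain ⟨U, f, ι, hf1, hf2, hι, hιf, hcov⟩ := hE.exists_proper
  refine ⟨hE.isAffine, hE.finite_index, hE.isAffine_obj, ?_⟩
  intro V _ _ gV
  let η : PrimeSpectrum V := ⟨⊥, Ideal.isPrime_bot⟩
  obtain ⟨z', hz'η⟩ := (pullback.fst gV f).surjective η
  have hspec : SpecializingMap (pullback.fst gV f).base :=
    (pullback.fst gV f).isClosedMap.specializingMap
  have hη : (pullback.fst gV f).base z' ⤳ IsLocalRing.closedPoint V := by
    rw [hz'η]
    exact IsLocalRing.specializes_closedPoint η
  obtain ⟨z, hz'z, hz1⟩ := hspec hη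
  obtain ⟨A, hA1, hA2, hA3, g, hgc, hgg⟩ :=
    Groth.Agent.Lib.Helper12.exists_valuationRing_of_specializes hz'z
  obtain ⟨β, hβ⟩ := Spec.map_surjective (g ≫ pullback.fst gV f)
  have hc : (Spec.map β).base (IsLocalRing.closedPoint A) = IsLocalRing.closedPoint V := by
    rw [hβ]
    change (pullback.fst gV f).base (g.base (IsLocalRing.closedPoint A)) = _
    rw [hgc, hz1]
  have hg : (Spec.map β).base (⟨⊥, Ideal.isPrime_bot⟩ : PrimeSpectrum A) = η := by
    rw [hβ]
    change (pullback.fst gV f).base (g.base _) = _
    rw [hgg, hz'η]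
  have hloc : IsLocalHom β.hom := (IsLocalRing.isLocalHom_iff_comap_closedPoint β.hom).mpr hc
  have hinj : Function.Injective β.hom := by
    rw [RingHom.injective_iff_ker_eq_bot]
    have := congr_arg PrimeSpectrum.asIdeal hg
    exact this
  -- the map to U
  let gU : Spec (CommRingCat.of A) ⟶ U := g ≫ pullback.snd gV f
  obtain ⟨j, hj⟩ := hcov (gU.base (IsLocalRing.closedPoint A))
  haveI := hι j
  have hrange : Set.range gU.base ⊆ Set.range (ι j).base := by
    rintro _ ⟨y, rfl⟩
    have hy : (y : PrimeSpectrum A) ⤳ IsLocalRing.closedPoint A :=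
      IsLocalRing.specializes_closedPoint y
    have hy' : gU.base y ⤳ gU.base (IsLocalRing.closedPoint A) := hy.map gU.continuous
    exact hy'.mem_open (ι j).isOpenEmbedding.isOpen_range hj
  refine ⟨CommRingCat.of A, hA2, hA3, β, ⟨hinj, hloc⟩, j, IsOpenImmersion.lift (ι j) gU hrange, ?_⟩
  rw [← hιf j, ← Category.assoc, IsOpenImmersion.lift_fac]
  simp only [gU]
  rw [Category.assoc, ← pullback.condition, ← Category.assoc, ← hβ]

end Groth.Agent.S7468
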