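import Groth.Statements.S7472
import Mathlib
import Groth.Agent.Lib.Helper51.VCover

set_option autoImplicit false
universe w u
open HTop

namespace Groth.Agent.S7472

open CategoryTheory CategoryTheory.Limits AlgebraicGeometry in
/-- Let E be a V covering of a scheme T and, for every member T_i of E, let F_i be a V covering of T_i.
Then the composite family of all T_ij -> T is a V covering of T. -/
theorem result {T : Scheme.{u}} (E : PreZeroHypercover.{w} T) (hE : HTop.IsVCover E) (F : ∀ i, PreZeroHypercover.{w} (E.X i)) (hF : ∀ i, HTop.IsVCover (F i)) : HTop.IsVCover (E.bind F) := by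
  intro U
  obtain ⟨F₀, hF₀, hF₀ref⟩ := hE U
  choose idx h hh using hF₀ref
  haveI : ∀ j, IsAffine (F₀.X j) := hF₀.isAffine_obj
  have h3 : ∀ j, ∃ G : PreZeroHypercover.{0} (F₀.X j), HTop.IsStandardV G ∧
      HTop.RefinesOver (h j) G (F (idx j)) := fun j =>
    Groth.Agent.Lib.Helper51.VCover.exists_standardV_refinesOver (h j) (F (idx j)) (hF (idx j))
  choose G hG hGref using h3
  refine ⟨F₀.bind G, Groth.Agent.S7470.result F₀ hF₀ G hG, ?_⟩
  rintro ⟨j, k⟩
  obtain ⟨l, h', hh'⟩ := hGref j k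
  refine ⟨⟨idx j, l⟩, h', ?_⟩
  have e1 : h' ≫ ((F (idx j)).f l ≫ E.f (idx j)) = ((G j).f k ≫ h j) ≫ E.f (idx j) := by
    rw [← Category.assoc, hh']
  have e2 : ((G j).f k ≫ h j) ≫ E.f (idx j) = ((G j).f k ≫ F₀.f j) ≫ (U : T.Opens).ι := by
    rw [Category.assoc, hh j, Category.assoc]
  exact e1.trans e2

end Groth.Agent.S7472
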