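import Groth.Statements.S7475
import Mathlib
import Groth.Agent.Lib.Helper51.VSheaf

set_option autoImplicit false
universe w u
open HTop

namespace Groth.Agent.S7475

open CategoryTheory CategoryTheory.Limits AlgebraicGeometry in
theorem jointlySurjective_of_isStandardV {T : Scheme.{u}} (E : PreZeroHypercover.{w} T)
    (hE : HTop.IsStandardV E) (t : T) : ∃ i, t ∈ Set.range (E.f i).base := by
  obtain ⟨W, h1, h2, φ, hφ, j, g', hg'⟩ :=
    hE.lift (CommRingCat.of (T.residueField t)) (T.fromSpecResidueField t)
  obtain ⟨w⟩ : Nonempty (PrimeSpectrum W) := inferInstance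
  refine ⟨j, g'.base w, ?_⟩
  have h1 : (g' ≫ E.f j).base w = t := by
    rw [hg']
    exact Scheme.fromSpecResidueField_apply t ((Spec.map φ).base w)
  exact h1

open CategoryTheory CategoryTheory.Limits AlgebraicGeometry in
/-- Variant with a single arrow: a presheaf of sets on all schemes has the sheaf property for every V
covering family exactly when it is a Zariski sheaf and has the sheaf property for every morphism V
-> U of affine schemes that on its own forms a standard V covering. -/
theorem result (F : Scheme.{u}ᵒᵖ ⥤ Type w) : HTop.IsVSheaf F ↔ (Presieve.IsSheaf Scheme.zariskiTopology F ∧ ∀ (U V : Scheme.{u}) (f : V ⟶ U), HTop.IsStandardV (PreZeroHypercover.singleton f) → Presieve.IsSheafFor F (Presieve.singleton f)) := by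
  rw [Groth.Agent.Lib.Helper51.VSheaf.isVSheaf_iff]
  constructor
  · rintro ⟨hzar, hstd⟩
    refine ⟨hzar, fun U V f hf => ?_⟩
    have hV : HTop.IsVSheaf F := (Groth.Agent.Lib.Helper51.VSheaf.isVSheaf_iff F).2 ⟨hzar, hstd⟩
    have := hV _ ((HTop.presieve₀_mem_vPrecoverage_iff (PreZeroHypercover.singleton f)).2
      (Groth.Agent.Lib.Helper51.VSheaf.isVCover_of_isStandardV _ hf))
    rwa [PreZeroHypercover.presieve₀_singleton] at this
  · rintro ⟨hzar, hsing⟩
    refine ⟨hzar, fun T E hE => ?_⟩
    haveI := hE.finite_index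
    haveI := hE.isAffine
    haveI := hE.isAffine_obj
    have hmem : E.presieve₀ ∈ Scheme.precoverage ⊤ T := by
      rw [PreZeroHypercover.presieve₀, Scheme.ofArrows_mem_precoverage_iff]
      exact ⟨fun t => jointlySurjective_of_isStandardV E hE t, fun _ => trivial⟩
    let 𝒰 : T.Cover (Scheme.precoverage ⊤) := ⟨E, hmem⟩
    haveI : Finite 𝒰.I₀ := hE.finite_index
    have key : Presieve.IsSheafFor F (.ofArrows 𝒰.X 𝒰.f) := by
      rw [← Scheme.Cover.isSheafFor_sigma_iff hzar, Presieve.ofArrows_of_unique]
      apply hsing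
      refine ⟨inferInstance, inferInstanceAs (Finite PUnit), fun _ => ?_, ?_⟩
      · change IsAffine (∐ E.X)
        infer_instance
      · intro V _ _ gV
        obtain ⟨W, h1, h2, φ, hφ, j, g', hg'⟩ := hE.lift V gV
        refine ⟨W, h1, h2, φ, hφ, PUnit.unit, g' ≫ Sigma.ι E.X j, ?_⟩
        change (g' ≫ Sigma.ι E.X j) ≫ Sigma.desc E.f = _
        rw [Category.assoc, Sigma.ι_desc, hg']
    exact key

end Groth.Agent.S7475
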