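import Groth.Statements.S7478
import Mathlib

set_option autoImplicit false
universe w u
open HTop

namespace Groth.Agent.S7478

open CategoryTheory CategoryTheory.Limits AlgebraicGeometry in
/-- The base change of a standard ph covering along a morphism of affine schemes T' -> T is a standard
ph covering of T'. -/
theorem result {T T' : Scheme.{u}} [IsAffine T'] (g : T' ⟶ T) (E : PreZeroHypercover.{w} T) (hE : HTop.IsStandardPh E) : HTop.IsStandardPh (E.pullback₁ g) := by
  haveI := hE.isAffine
  haveI := hE.isAffine_obj
  obtain ⟨U, f, ι, hf1, hf2, hι, hιf, hcov⟩ := hE.exists_proper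
  refine ⟨inferInstance, hE.finite_index, ?_, ?_⟩
  · intro j
    change IsAffine (pullback g (E.f j))
    infer_instance
  · let ι' : ∀ j, pullback g (E.f j) ⟶ pullback g f := fun j =>
      pullback.lift (pullback.fst g (E.f j)) (pullback.snd g (E.f j) ≫ ι j)
        (by rw [Category.assoc, hιf j, pullback.condition])
    have hsq : ∀ j, IsPullback (ι' j) (pullback.snd g (E.f j)) (pullback.snd g f) (ι j) := by
      intro j
      have hbig : IsPullback (pullback.snd g (E.f j)) (pullback.fst g (E.f j)) (ι j ≫ f) g := by
        rw [hιf j]; exact (IsPullback.of_hasPullback _ _).flip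
      have hright : IsPullback (pullback.snd g f) (pullback.fst g f) f g :=
        (IsPullback.of_hasPullback _ _).flip
      have : IsPullback (pullback.snd g (E.f j)) (ι' j) (ι j) (pullback.snd g f) := by
        refine IsPullback.of_bot ?_ ?_ hright
        · have : ι' j ≫ pullback.fst g f = pullback.fst g (E.f j) := pullback.lift_fst _ _ _
          rw [this]; exact hbig
        · exact (pullback.lift_snd _ _ _).symm
      exact this.flip
    refine ⟨pullback g f, pullback.fst g f, ι', inferInstance, inferInstance, ?_, ?_, ?_⟩
    · intro j
      haveI := hι j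
      exact MorphismProperty.of_isPullback (P := @IsOpenImmersion) (hsq j).flip inferInstance
    · intro j
      exact pullback.lift_fst _ _ _
    · intro x
      obtain ⟨j, e, he⟩ := hcov (pullback.snd g f x)
      refine ⟨j, ?_⟩
      obtain ⟨z, hz1, hz2⟩ := Scheme.Pullback.exists_preimage_pullback (f := pullback.snd g f)
        (g := ι j) x e he.symm
      refine ⟨(hsq j).isoPullback.inv z, ?_⟩
      rw [← hz1]
      change ((hsq j).isoPullback.inv ≫ ι' j) z = _
      rw [IsPullback.isoPullback_inv_fst]

end Groth.Agent.S7478
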