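import Groth.Statements.S7484
import Groth.Agent.Lib.Helper5.DescFinOrbit

set_option autoImplicit false
open CategoryTheory CategoryTheory.Limits AlgebraicGeometry
universe u
open Desc

namespace Groth.Agent.S7484

/-- Let p : X -> Y be a surjective finite locally free morphism and d a positive integer such that for
every algebraically closed field k and every k-point of Y there are at most d k-points of X over it.
Let V be a scheme over X such that any d points of V (not necessarily distinct) lying over one point
of Y are contained in an affine open of V. Then every descent datum on V relative to p is effective.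
(Descent data are taken in functor-of-points form.) -/
theorem result {X Y : Scheme.{u}} (p : X ⟶ Y) [Surjective p] [IsFinite p] [Flat p] [LocallyOfFinitePresentation p] (d : ℕ) (hd : 0 < d) (hfib : ∀ (k : Type u) [Field k] [IsAlgClosed k] (y : Spec (CommRingCat.of k) ⟶ Y), Set.encard {x : Spec (CommRingCat.of k) ⟶ X | x ≫ p = y} ≤ d) (D : Desc.SchDD p) (hV : ∀ (y : Y) (v : Fin d → ↑(D.obj.left)), (∀ i, p (D.obj.hom (v i)) = y) → ∃ U : D.obj.left.Opens, IsAffineOpen U ∧ ∀ i, v i ∈ U) : ∃ W : Over Y, Nonempty ((Desc.toDD p).obj W ≅ D) := by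
  classical
  apply Groth.Agent.Lib.Helper5.DescFinOrbit.effective_of_orbit_affine D
  intro v
  have hfin : (Groth.Agent.Lib.Helper5.DescFinOrbit.orbit D v).Finite :=
    (Scheme.Hom.finite_preimage_singleton (pullback.snd p (D.obj.hom ≫ p)) v).image _
  have hcard : hfin.toFinset.card ≤ d := by
    have h1 := Groth.Agent.Lib.Helper5.DescFinOrbit.encard_orbit_le D d hfib v
    rw [hfin.encard_eq_coe_toFinset_card] at h1
    exact_mod_cast h1
  let e := hfin.toFinset.equivFin
  let w : Fin d → ↑(D.obj.left) := fun i =>
    if h : i.val < hfin.toFinset.card then (e.symm ⟨i.val, h⟩).1 else v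
  have hw : ∀ i, w i ∈ Groth.Agent.Lib.Helper5.DescFinOrbit.orbit D v := by
    intro i
    by_cases h : i.val < hfin.toFinset.card
    · simp only [w, dif_pos h]
      exact hfin.mem_toFinset.mp (e.symm ⟨i.val, h⟩).2
    · simp only [w, dif_neg h]
      exact Groth.Agent.Lib.Helper5.DescFinOrbit.mem_orbit_self D v
  obtain ⟨U, hU, hUs⟩ := hV (p (D.obj.hom v)) w (fun i =>
    Groth.Agent.Lib.Helper5.DescFinOrbit.orbit_base D v (w i) (hw i))
  refine ⟨U, hU, fun x hx => ?_⟩
  have hx' : x ∈ hfin.toFinset := hfin.mem_toFinset.mpr hx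
  have hlt : (e ⟨x, hx'⟩).val < d := lt_of_lt_of_le (e ⟨x, hx'⟩).isLt hcard
  have := hUs ⟨(e ⟨x, hx'⟩).val, hlt⟩
  simp only [w, dif_pos (e ⟨x, hx'⟩).isLt, Fin.eta, Equiv.symm_apply_apply] at this
  exact this

end Groth.Agent.S7484
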