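import Groth.Statements.S7487
import Groth.Agent.Lib.Helper95.Q13
import Groth.Agent.Lib.Helper95.Q15
import Mathlib.AlgebraicGeometry.Morphisms.Finite
import Mathlib.AlgebraicGeometry.Morphisms.Flat
import Mathlib.AlgebraicGeometry.Morphisms.FinitePresentation
-- import your own Groth.Agent.* helpers here

set_option autoImplicit false
universe u
open CategoryTheory CategoryTheory.Limits AlgebraicGeometry
open Grpd

namespace Groth.Agent.S7487

open Groth.Agent.Lib.Helper15.ProjCharpoly Groth.Agent.Lib.Helper95 TensorProduct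

/-- Let (U, R, s, t, c) be a groupoid scheme over S with U = Spec A and R = Spec B affine and s, t
finite locally free; let C be the subring of R-invariant functions of A and C -> C' a ring map. Put
A' = A (x)_C C' and B' = B (x)_C C' (B a C-algebra through s^#) and let C^1 be the subring of A'
where the two maps s^# (x) 1, t^# (x) 1 : A' -> B' agree; the structure map C' -> A' lands in C^1,
giving φ : C' -> C^1. Then: (a) for every f in C^1 there are n > 0 and a polynomial P over C' whose
image in A'[x] is (x - f)^n; (b) every element of the kernel of φ is nilpotent; (c) if C -> C' is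
flat then φ is bijective, that is C' -> A' is injective with image C^1. (The published statement
also asserts that the base change is again a groupoid scheme; this row omits that clause.) (A
groupoid scheme carries U, R, s, t, c, e, i over S with the groupoid axioms on T-points; c is
defined on the fibre product of s and t and sends a pair (a, b) with s(a) = t(b) to a composed with
b.) -/
theorem result (S : Scheme.{u}) (G : Grpd.GroupoidScheme S) [IsAffine G.U] [IsAffine G.R] [IsFinite G.s] [Flat G.s] [LocallyOfFinitePresentation G.s] [IsFinite G.t] [Flat G.t] [LocallyOfFinitePresentation G.t] (C' : Type u) [CommRing C'] [Algebra G.invariants C'] : letI : Algebra G.invariants Γ(G.R, ⊤) := (G.s.appTop.hom.comp G.invariants.subtype).toAlgebra; ∀ (sT tT : TensorProduct G.invariants Γ(G.U, ⊤) C' →ₐ[G.invariants] TensorProduct G.invariants Γ(G.R, ⊤) C'), (∀ (a : Γ(G.U, ⊤)) (c : C'), sT (a ⊗ₜ c) = G.s.appTop.hom a ⊗ₜ c) → (∀ (a : Γ(G.U, ⊤)) (c : C'), tT (a ⊗ₜ c) = G.t.appTop.hom a ⊗ₜ c) → (∀ f :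 TensorProduct G.invariants Γ(G.U, ⊤) C', sT f = tT f → ∃ (n : ℕ) (P : Polynomial C'), 0 < n ∧ Polynomial.map (Algebra.TensorProduct.includeRight : C' →ₐ[G.invariants] TensorProduct G.invariants Γ(G.U, ⊤) C').toRingHom P = (Polynomial.X - Polynomial.C f) ^ n) ∧ (∀ c : C', (Algebra.TensorProduct.includeRight : C' →ₐ[G.invariants] TensorProduct G.invariants Γ(G.U, ⊤) C') c = 0 → IsNilpotent c) ∧ (Module.Flat G.invariants C' → Function.Injective (Algebra.TensorProduct.includeRight : C' →ₐ[G.invariants] TensorProduct G.invariants Γ(G.U, ⊤) C') ∧ ∀ f : TensorProduct G.invariants Γ(G.U, ⊤) C', sT f = tT f → f ∈ Set.range (Algebra.TensorProduct.includeRight : C' →ₐ[G.invariants] TensorProduct G.invariants Γ(G.U, ⊤) C')) := by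
  letI algCB : Algebra G.invariants Γ(G.R, ⊤) :=
    (G.s.appTop.hom.comp G.invariants.subtype).toAlgebra
  have hfin : G.s.appTop.hom.Finite :=
    ((HasAffineProperty.iff_of_isAffine (P := @IsFinite)).mp (inferInstance : IsFinite G.s)).2
  have hflat : G.s.appTop.hom.Flat :=
    (HasRingHomProperty.iff_of_isAffine (P := @Flat)).mp (inferInstance : Flat G.s)
  have hfp : G.s.appTop.hom.FinitePresentation :=
    (HasRingHomProperty.iff_of_isAffine (P := @LocallyOfFinitePresentation)).mp
      (inferInstance : LocallyOfFinitePresentation G.s)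
  letI algAB : Algebra Γ(G.U, ⊤) Γ(G.R, ⊤) := G.s.appTop.hom.toAlgebra
  haveI : Module.Finite Γ(G.U, ⊤) Γ(G.R, ⊤) := hfin
  haveI : Module.Flat Γ(G.U, ⊤) Γ(G.R, ⊤) := hflat
  haveI : Algebra.FinitePresentation Γ(G.U, ⊤) Γ(G.R, ⊤) := hfp
  haveI : Module.FinitePresentation Γ(G.U, ⊤) Γ(G.R, ⊤) :=
    Module.FinitePresentation.of_finite_of_finitePresentation _ _
  haveI : Module.Projective Γ(G.U, ⊤) Γ(G.R, ⊤) := Module.Flat.projective_of_finitePresentation
  obtain ⟨π⟩ := Groth.Agent.Lib.Helper15.ProjCharpoly.exists_pres (R := Γ(G.U, ⊤)) (P := Γ(G.R, ⊤))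
  haveI hint : Algebra.IsIntegral G.invariants Γ(G.U, ⊤) := Groth.Agent.S1879.result S G
  haveI tower : IsScalarTower G.invariants Γ(G.U, ⊤) Γ(G.R, ⊤) :=
    IsScalarTower.of_algebraMap_eq' rfl
  have hes : ∀ a, G.e.appTop.hom (algebraMap Γ(G.U, ⊤) Γ(G.R, ⊤) a) = a := by
    intro a
    have h : G.s.appTop ≫ G.e.appTop = 𝟙 _ := by
      rw [← Scheme.Hom.comp_appTop, G.e_s]; rfl
    exact congrArg (fun f => f.hom a) h
  have hinj : Function.Injective (algebraMap G.invariants Γ(G.U, ⊤)) :=
    fun a b h => Subtype.ext h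
  let tC : Γ(G.U, ⊤) →ₐ[G.invariants] Γ(G.R, ⊤) :=
    { G.t.appTop.hom with commutes' := fun c => c.2.symm }
  have heq : ∀ a : Γ(G.U, ⊤), algebraMap Γ(G.U, ⊤) Γ(G.R, ⊤) a = tC a →
      a ∈ Set.range (algebraMap G.invariants Γ(G.U, ⊤)) := fun a h => ⟨⟨a, h⟩, rfl⟩
  letI algCY : Algebra G.invariants Γ(pullback G.s G.t, ⊤) :=
    ((pullback.snd G.s G.t).appTop.hom.comp
      (G.s.appTop.hom.comp G.invariants.subtype)).toAlgebra
  have P1 : IsPullback (pullback.fst G.s G.t) (pullback.snd G.s G.t) G.s G.t :=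
    IsPullback.of_hasPullback _ _
  have P2 := Groth.Agent.S1880.isPullback_c_snd G
  have Q1 := isPushout_appTop_of_isPullback P1
  have Q2 := isPushout_appTop_of_isPullback P2
  let ψ : Γ(G.R, ⊤) →ₐ[G.invariants] Γ(pullback G.s G.t, ⊤) :=
    { (pullback.snd G.s G.t).appTop.hom with commutes' := fun c => rfl }
  let φ₁ : Γ(G.R, ⊤) →ₐ[G.invariants] Γ(pullback G.s G.t, ⊤) :=
    { G.c.appTop.hom with
      commutes' := fun c => by
        have := congrArg (fun φ => φ.appTop.hom c.1) P2.w
        change G.c.appTop.hom (G.s.appTop.hom c.1) =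
          (pullback.snd G.s G.t).appTop.hom (G.s.appTop.hom c.1)
        simpa using this }
  let φ₂ : Γ(G.R, ⊤) →ₐ[G.invariants] Γ(pullback G.s G.t, ⊤) :=
    { (pullback.fst G.s G.t).appTop.hom with
      commutes' := fun c => by
        have h1 := congrArg (fun φ => φ.appTop.hom c.1) P1.w
        have h2 : G.t.appTop.hom c.1 = G.s.appTop.hom c.1 := c.2.symm
        simp only [Scheme.Hom.comp_appTop, CommRingCat.hom_comp, RingHom.comp_apply] at h1
        rw [h2] at h1
        change (pullback.fst G.s G.t).appTop.hom (G.s.appTop.hom c.1) =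
          (pullback.snd G.s G.t).appTop.hom (G.s.appTop.hom c.1)
        exact h1 }
  have H₁ : IsPushout (CommRingCat.ofHom (Q10.sA G.invariants Γ(G.U, ⊤) Γ(G.R, ⊤)).toRingHom)
      (CommRingCat.ofHom (Q10.sA G.invariants Γ(G.U, ⊤) Γ(G.R, ⊤)).toRingHom)
      (CommRingCat.ofHom ψ.toRingHom) (CommRingCat.ofHom φ₁.toRingHom) := Q2.flip
  have H₂ : IsPushout (CommRingCat.ofHom tC.toRingHom)
      (CommRingCat.ofHom (Q10.sA G.invariants Γ(G.U, ⊤) Γ(G.R, ⊤)).toRingHom)
      (CommRingCat.ofHom ψ.toRingHom) (CommRingCat.ofHom φ₂.toRingHom) := Q1.flip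
  have h12 : ∀ a, φ₁ (tC a) = φ₂ (tC a) := by
    intro x
    have hct : G.c ≫ G.t = pullback.fst G.s G.t ≫ G.t := by
      rw [Groth.Agent.S1880.c_eq]
      unfold Groth.Agent.S1886.comp
      rw [G.comp_t]
    have := congrArg (fun φ => φ.appTop.hom x) hct
    change G.c.appTop.hom (G.t.appTop.hom x) =
      (pullback.fst G.s G.t).appTop.hom (G.t.appTop.hom x)
    simpa using this
  have hUI := Q15.ui_of_pushouts tC ψ φ₁ φ₂ H₁ H₂ h12 π
  intro sT tT hsT htT
  have hs : ∀ f, sT f = Q10.s2 Γ(G.U, ⊤) Γ(G.R, ⊤) C' f := by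
    intro f
    induction f using TensorProduct.induction_on with
    | zero => simp
    | tmul a c =>
      rw [hsT]
      simp
      rfl
    | add x y hx hy => simp only [map_add, hx, hy]
  have ht : ∀ f, tT f = Q14.t2 tC C' f := by
    intro f
    induction f using TensorProduct.induction_on with
    | zero => simp
    | tmul a c =>
      rw [htT]
      simp
      rfl
    | add x y hx hy => simp only [map_add, hx, hy]
  refine ⟨fun f hf => ?_, fun c hc => Q13.partB hinj C' c hc, fun hfl => ?_⟩
  · rw [hs, ht] at hf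
    exact Q14.partA tC π G.e.appTop.hom hes hUI hinj heq C' f hf
  · haveI := hfl
    obtain ⟨h1, h2⟩ := Q12.partC (Q10.sA G.invariants Γ(G.U, ⊤) Γ(G.R, ⊤)) tC hinj heq C'
    refine ⟨h1, fun f hf => ?_⟩
    rw [hs, ht] at hf
    exact h2 f hf

end Groth.Agent.S7487
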