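import Groth.Statements.S7489
import Groth.Agent.Lib.Helper72.GrpProfinite

set_option autoImplicit false
universe u
open CategoryTheory MonoidalCategory CartesianMonoidalCategory MonObj GrpObj AlgebraicGeometry
open GrpSch

namespace Groth.Agent.S7489

/-- Let k be an algebraically closed field and G a group scheme over k such that the underlying space of
G is Jacobson and every closed point of G is k-rational (the image of a section of G -> Spec k). Let
A be a k-algebra such that every finite subset of A is contained in a k-subalgebra isomorphic to a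
finite product of copies of k (A is a directed colimit of such algebras), and f : Spec A -> G a
morphism over k. Then there is an affine open U of G containing the image of f. -/
theorem result (k : Type u) [Field k] [IsAlgClosed k] (G : Over (Spec (CommRingCat.of k))) [GrpObj G] [JacobsonSpace G.left] (hrat : ∀ g : G.left, IsClosed ({g} : Set G.left) → ∃ x : Spec (CommRingCat.of k) ⟶ G.left, x ≫ G.hom = 𝟙 _ ∧ x (IsLocalRing.closedPoint k) = g) (A : Type u) [CommRing A] [Algebra k A] (hA : ∀ s : Finset A, ∃ (B : Subalgebra k A) (n : ℕ), (↑s : Set A) ⊆ (B : Set A) ∧ Nonempty (B ≃ₐ[k] (Fin n → k))) (f : Spec (CommRingCat.of A) ⟶ G.left) (hf : f ≫ G.hom = Spec.map (CommRingCat.ofHom (algebraMap k A))) : ∃ U : G.left.Opens, IsAffineOpen U ∧ Set.range ⇑f ⊆ (U : Set G.left) := by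
  open Groth.Agent.Lib.Helper72.GrpConn Groth.Agent.Lib.Helper72.ProfiniteAlg in
  have hrat' : ∀ x : G.left, IsClosed ({x} : Set G.left) →
      ∃ z : 𝟙_ (Over (Spec (CommRingCat.of k))) ⟶ G, ptVal G z = x := by
    intro x hx
    obtain ⟨σ, hσ, hσx⟩ := hrat x hx
    exact ⟨ptMk G σ hσ, by rw [ptVal_ptMk]; exact hσx⟩
  have hint : Algebra.IsIntegral k A := isIntegral hA
  have : IsIntegralHom (Spec.map (CommRingCat.ofHom (algebraMap k A))) :=
    IsIntegralHom.SpecMap_iff.2 (algebraMap_isIntegral_iff.2 hint)
  exact exists_affine_of_sections G (Spec.map (CommRingCat.ofHom (algebraMap k A))) f hf hrat'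
    (fun t => exists_section hA t)

end Groth.Agent.S7489
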