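import Groth.Statements.S7490
import Groth.Agent.Lib.Helper57.SheafSets
import Mathlib.CategoryTheory.Limits.Constructions.Over.Connected
import Mathlib.CategoryTheory.Limits.Preserves.FunctorCategory
import Mathlib.CategoryTheory.Limits.Yoneda
import Mathlib.CategoryTheory.Sites.LeftExact

set_option autoImplicit false
open CategoryTheory CategoryTheory.Limits AlgebraicGeometry
universe u
open QuotSh

namespace Groth.Agent.S7490

/-- the functor `h_(-)`. -/
noncomputable def repF (K : Precoverage Scheme.{u}) (S : Scheme.{u}) : Over S ⥤ QuotSh.Sh K S :=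
  yoneda ⋙ (Functor.whiskeringRight _ _ _).obj uliftFunctor.{u + 1, u} ⋙
    presheafToSheaf (QuotSh.J K S) (Type (u + 1))

lemma repF_map (K : Precoverage Scheme.{u}) {S : Scheme.{u}} {V W : Over S} (g : V ⟶ W) :
    (repF K S).map g = QuotSh.repMap K g := rfl

instance (K : Precoverage Scheme.{u}) (S : Scheme.{u}) :
    PreservesLimitsOfShape WalkingCospan (repF K S) := by
  unfold repF
  infer_instance

/-- Let K be a precoverage on schemes (the topology τ), S a scheme, s, t : R -> U morphisms of schemes
over S (a pre-relation) and q : U -> M a morphism over S such that (1) q coequalizes s and t, (2)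
the induced map of τ-sheaves h_U -> h_M is an epimorphism, and (3) the map h_R -> h_(U x_M U)
induced by (t, s) is an epimorphism of τ-sheaves. Then M, through q, represents the quotient sheaf
U/R: the canonical map from the coequalizer of h_s, h_t to h_M is an isomorphism. (The published
statement takes τ to be the Zariski, étale, fppf, smooth or syntomic topology; this row allows the
topology generated by any precoverage K.) -/
theorem result (K : Precoverage Scheme.{u}) {S : Scheme.{u}} {R U M : Over S} (s t : R ⟶ U) (q : U ⟶ M) (w : s ≫ q = t ≫ q) (w' : t.left ≫ q.left = s.left ≫ q.left) (h₂ : Epi (QuotSh.repMap K q)) (h₃ : Epi (QuotSh.repMap K (Over.homMk (pullback.lift t.left s.left w') (((Category.assoc _ _ _).symm.trans (congrArg (fun k => k ≫ U.hom) (pullback.lift_fst t.left s.left w'))).trans (Over.w t)) : R ⟶ Over.mk (pullback.fst q.left q.left ≫ U.hom)))) : QuotSh.IsQuotient K s t q := by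
  refine ⟨w, ?_⟩
  have hp₂ : pullback.snd q.left q.left ≫ U.hom = pullback.fst q.left q.left ≫ U.hom := by
    rw [← Over.w q, ← Category.assoc, ← pullback.condition, Category.assoc]
  let P : Over S := Over.mk (pullback.fst q.left q.left ≫ U.hom)
  let p₁ : P ⟶ U := Over.homMk (pullback.fst q.left q.left) rfl
  let p₂ : P ⟶ U := Over.homMk (pullback.snd q.left q.left) hp₂
  let d : R ⟶ P := Over.homMk (pullback.lift t.left s.left w')
    (((Category.assoc _ _ _).symm.trans (congrArg (fun k => k ≫ U.hom)
      (pullback.lift_fst t.left s.left w'))).trans (Over.w t))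
  have hd₁ : d ≫ p₁ = t := by
    ext
    exact pullback.lift_fst _ _ _
  have hd₂ : d ≫ p₂ = s := by
    ext
    exact pullback.lift_snd _ _ _
  have hcomm : p₁ ≫ q = p₂ ≫ q := by
    ext
    exact pullback.condition
  have hpb : IsPullback p₁ p₂ q q :=
    IsPullback.of_map (Over.forget S) hcomm (IsPullback.of_hasPullback q.left q.left)
  have hpb' : IsPullback (QuotSh.repMap K p₁) (QuotSh.repMap K p₂) (QuotSh.repMap K q)
      (QuotSh.repMap K q) := hpb.map (repF K S)
  have hd₁' : QuotSh.repMap K d ≫ QuotSh.repMap K p₁ = QuotSh.repMap K t := by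
    have := congrArg (repF K S).map hd₁
    rw [Functor.map_comp] at this
    exact this
  have hd₂' : QuotSh.repMap K d ≫ QuotSh.repMap K p₂ = QuotSh.repMap K s := by
    have := congrArg (repF K S).map hd₂
    rw [Functor.map_comp] at this
    exact this
  have hepi : Epi (QuotSh.repMap K d) := h₃
  have hp : QuotSh.repMap K p₁ ≫ QuotSh.quotπ K s t = QuotSh.repMap K p₂ ≫ QuotSh.quotπ K s t := by
    rw [← cancel_epi (QuotSh.repMap K d), ← Category.assoc, ← Category.assoc, hd₁', hd₂']
    exact (QuotSh.quot_condition K s t).symm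
  have hfac : QuotSh.quotπ K s t ≫ QuotSh.quotDesc K q w = QuotSh.repMap K q :=
    coequalizer.π_desc _ _
  have hπepi : Epi (QuotSh.quotπ K s t) := coequalizer.π_epi
  have hE : Epi (QuotSh.quotDesc K q w) := by
    have : Epi (QuotSh.quotπ K s t ≫ QuotSh.quotDesc K q w) := by rw [hfac]; exact h₂
    exact epi_of_epi (QuotSh.quotπ K s t) _
  have hM : Mono (QuotSh.quotDesc K q w) := by
    refine Groth.Agent.Lib.Helper57.mono_of_forall_coequalized
      (Groth.Agent.Lib.Helper57.ue_of_epi_sheaf (QuotSh.J K S) (QuotSh.quotπ K s t)) _ ?_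
    intro W s₁ s₂ h
    rw [hfac] at h
    obtain ⟨z, hz1, hz2⟩ : ∃ z, z ≫ QuotSh.repMap K p₁ = s₁ ∧ z ≫ QuotSh.repMap K p₂ = s₂ :=
      ⟨hpb'.lift s₁ s₂ h, hpb'.lift_fst s₁ s₂ h, hpb'.lift_snd s₁ s₂ h⟩
    rw [← hz1, ← hz2, Category.assoc, Category.assoc, hp]
  exact isIso_of_mono_of_epi _

end Groth.Agent.S7490
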