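import Groth.Statements.S7492
import Groth.Agent.Lib.Helper72.FieldBase
import Groth.Agent.Lib.Helper72.SchDominant
import Groth.Agent.Lib.Helper72.GrpdRestrict

set_option autoImplicit false
universe u
open CategoryTheory CategoryTheory.Limits AlgebraicGeometry
open Grpd
open Groth.Agent.Lib.Helper72.GrpdPts Groth.Agent.Lib.Helper72.SchDominant

namespace Groth.Agent.S7492

set_option backward.isDefEq.respectTransparency false in
/-- Let (U, R_1, s_1, t_1, c_1) -> (U, R_2, s_2, t_2, c_2) be a morphism of groupoid schemes over S that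
is an isomorphism on object schemes, where U is the spectrum of a field, and assume a : R_1 -> R_2
is quasi-compact. Let Z be the scheme-theoretic image of a (the closed subscheme of R_2 cut out by
the kernel ideal sheaf of a). Then (U, Z, s_2|_Z, t_2|_Z, c_2|_Z) is a groupoid scheme over S;
stated as: there are a groupoid scheme G' over S and a morphism of groupoid schemes G' -> (U, R_2,
...) which is an isomorphism on object schemes and whose arrow component is a closed immersion with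
kernel ideal sheaf equal to that of a. (A groupoid scheme carries U, R, s, t, c, e, i over S with
the groupoid axioms on T-points; c is defined on the fibre product of s and t and sends a pair (a,
b) with s(a) = t(b) to a composed with b.) -/
theorem result (S : Scheme.{u}) (G₁ G₂ : Grpd.GroupoidScheme S) (f : Grpd.GroupoidScheme.Hom G₁ G₂) [IsIso f.fU] [QuasiCompact f.fR] (k : Type u) [Field k] (eU : G₂.U ≅ Spec (CommRingCat.of k)) : ∃ (G' : Grpd.GroupoidScheme S) (ψ : Grpd.GroupoidScheme.Hom G' G₂), IsIso ψ.fU ∧ IsClosedImmersion ψ.fR ∧ ψ.fR.ker = f.fR.ker := by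
  haveI := Groth.Agent.Lib.Helper72.FieldBase.isIntegral_of_iso_spec_field k eU
  haveI := Groth.Agent.Lib.Helper72.FieldBase.subsingleton_of_iso_spec_field k eU
  haveI := toImage_dominant f.fR
  have hfac : f.fR.toImage ≫ f.fR.imageι = f.fR := f.fR.toImage_imageι
  -- identity
  have he : (inv f.fU ≫ G₁.e ≫ f.fR.toImage) ≫ f.fR.imageι = G₂.e := by
    rw [Category.assoc, Category.assoc, hfac, Hom.e_comp_fR, IsIso.inv_hom_id_assoc]
  -- inverse
  obtain ⟨i', hi⟩ := exists_lift_of_dominant f.fR.toImage (f.fR.imageι ≫ G₂.i) f.fR.imageι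
    (G₁.i ≫ f.fR.toImage) (by
      rw [Category.assoc, hfac, Hom.i_comp_fR, ← Category.assoc, hfac])
  -- composition
  have e₁ : (f.fR ≫ G₂.s) ≫ 𝟙 G₂.U = f.fR.toImage ≫ f.fR.imageι ≫ G₂.s := by
    rw [Category.comp_id, reassoc_of% hfac]
  have e₂ : (f.fR ≫ G₂.t) ≫ 𝟙 G₂.U = f.fR.toImage ≫ f.fR.imageι ≫ G₂.t := by
    rw [Category.comp_id, reassoc_of% hfac]
  haveI := dominant_pullback_map f.fR.toImage f.fR.toImage (f.fR ≫ G₂.s) (f.fR ≫ G₂.t)
    (f.fR.imageι ≫ G₂.s) (f.fR.imageι ≫ G₂.t) e₁ e₂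
  have hcond : pullback.fst (f.fR ≫ G₂.s) (f.fR ≫ G₂.t) ≫ G₁.s =
      pullback.snd (f.fR ≫ G₂.s) (f.fR ≫ G₂.t) ≫ G₁.t := by
    rw [← cancel_mono f.fU, Category.assoc, Category.assoc, ← f.comm_s, ← f.comm_t]
    exact pullback.condition
  obtain ⟨c', hc⟩ := exists_lift_of_dominant
    (pullback.map (f.fR ≫ G₂.s) (f.fR ≫ G₂.t) (f.fR.imageι ≫ G₂.s) (f.fR.imageι ≫ G₂.t)
      f.fR.toImage f.fR.toImage (𝟙 G₂.U) e₁ e₂)
    (pullback.map (f.fR.imageι ≫ G₂.s) (f.fR.imageι ≫ G₂.t) G₂.s G₂.t f.fR.imageι f.fR.imageι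
      (𝟙 G₂.U) (by simp) (by simp) ≫ G₂.c) f.fR.imageι
    ((pullback.lift _ _ hcond ≫ G₁.c) ≫ f.fR.toImage) (by
      have h3 : pullback.map (f.fR ≫ G₂.s) (f.fR ≫ G₂.t) (f.fR.imageι ≫ G₂.s)
          (f.fR.imageι ≫ G₂.t) f.fR.toImage f.fR.toImage (𝟙 G₂.U) e₁ e₂ ≫
          pullback.map (f.fR.imageι ≫ G₂.s) (f.fR.imageι ≫ G₂.t) G₂.s G₂.t f.fR.imageι
            f.fR.imageι (𝟙 G₂.U) (by simp) (by simp) =
          pullback.map (f.fR ≫ G₂.s) (f.fR ≫ G₂.t) G₂.s G₂.t f.fR f.fR (𝟙 G₂.U)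
            (by simp) (by simp) := by
        apply pullback.hom_ext
        · simp [hfac]
        · simp [hfac]
      calc _ = (pullback.lift _ _ hcond ≫ G₁.c) ≫ f.fR.toImage ≫ f.fR.imageι :=
            Category.assoc _ _ _
        _ = (pullback.lift _ _ hcond ≫ G₁.c) ≫ f.fR := congrArg (_ ≫ ·) hfac
        _ = _ := f.comm_c _ _ hcond
        _ = _ := congrArg (· ≫ G₂.c) h3.symm
        _ = _ := Category.assoc _ _ _)
  refine ⟨restrict G₂ f.fR.imageι _ he i' hi c' hc, restrictHom G₂ f.fR.imageι _ he i' hi c' hc,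
    ?_, ?_, ?_⟩
  · show IsIso (𝟙 G₂.U)
    infer_instance
  · show IsClosedImmersion f.fR.imageι
    infer_instance
  · show f.fR.imageι.ker = f.fR.ker
    exact Scheme.IdealSheafData.ker_subschemeι _

end Groth.Agent.S7492
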