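import Groth.Statements.S7493
import Groth.Agent.Lib.Helper72.FieldAut
import Mathlib.AlgebraicGeometry.ResidueField

set_option autoImplicit false
universe u
open CategoryTheory CategoryTheory.Limits AlgebraicGeometry
open Grpd

namespace Groth.Agent.S7493

theorem isIso_residueFieldMap_of_isIso_comp {X Y Z : Scheme.{u}} (x : X ⟶ Y) (f : Y ⟶ Z)
    [IsIso (x ≫ f)] (p : X) : IsIso (f.residueFieldMap (x p)) := by
  have h1 : IsIso ((x ≫ f).residueFieldMap p) := inferInstance
  rw [Scheme.residueFieldMap_comp] at h1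
  have h2 : IsIso (x.residueFieldMap p) := by
    rw [ConcreteCategory.isIso_iff_bijective]
    refine ⟨(x.residueFieldMap p).hom.injective, fun b => ?_⟩
    obtain ⟨a, ha⟩ := ((ConcreteCategory.isIso_iff_bijective _).1 h1).2 b
    exact ⟨f.residueFieldMap (x p) a, ha⟩
  exact @IsIso.of_isIso_comp_right _ _ _ _ _ _ (x.residueFieldMap p) h2 h1

theorem aux {U R U' T : Scheme.{u}} (s t : R ⟶ U) (g : U' ⟶ U) (x1 x2 : T ⟶ U') (y : T ⟶ R)
    (h1 : x1 ≫ g = y ≫ t) (h2 : y ≫ s = x2 ≫ g) [IsIso x1] [IsIso x2] (p : T) :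
    ∃ r' : ↑(pullback (pullback.snd g t ≫ s) g),
      (pullback.fst (pullback.snd g t ≫ s) g ≫ pullback.snd g t) r' = y p ∧
      IsIso ((pullback.snd (pullback.snd g t ≫ s) g).residueFieldMap r') ∧
      IsIso ((pullback.fst (pullback.snd g t ≫ s) g ≫ pullback.fst g t).residueFieldMap r') := by
  have h3 : pullback.lift x1 y h1 ≫ pullback.snd g t ≫ s = x2 ≫ g := by
    rw [pullback.lift_snd_assoc, h2]
  let x : T ⟶ pullback (pullback.snd g t ≫ s) g := pullback.lift (pullback.lift x1 y h1) x2 h3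
  have e1 : x ≫ pullback.snd (pullback.snd g t ≫ s) g = x2 := pullback.lift_snd _ _ _
  have e2 : x ≫ pullback.fst (pullback.snd g t ≫ s) g ≫ pullback.fst g t = x1 := by
    rw [pullback.lift_fst_assoc, pullback.lift_fst]
  have e3 : x ≫ pullback.fst (pullback.snd g t ≫ s) g ≫ pullback.snd g t = y := by
    rw [pullback.lift_fst_assoc, pullback.lift_snd]
  have : IsIso (x ≫ pullback.snd (pullback.snd g t ≫ s) g) := by rw [e1]; infer_instance
  have : IsIso (x ≫ pullback.fst (pullback.snd g t ≫ s) g ≫ pullback.fst g t) := by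
    rw [e2]; infer_instance
  refine ⟨x p, ?_, isIso_residueFieldMap_of_isIso_comp x _ p,
    isIso_residueFieldMap_of_isIso_comp x _ p⟩
  rw [← Scheme.Hom.comp_apply, e3]

/-- Let (U, R, s, t, c) be a groupoid scheme over S with U = Spec k for a field k, and let r be a point
of R. Then there exist a field extension k -> k' with k' algebraically closed and a point r' of the
restriction R' of R along g : U' = Spec k' -> U, that is R' = (U' x_(g,U,t) R) x_(s pr, U, g) U'
with t' the projection to the first factor U' and s' the projection to the last factor U', such that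
r' maps to r under R' -> R and both s' and t' induce isomorphisms on residue fields at r' (k' ->
κ(r') bijective). (A groupoid scheme carries U, R, s, t, c, e, i over S with the groupoid axioms on
T-points; c is defined on the fibre product of s and t and sends a pair (a, b) with s(a) = t(b) to a
composed with b.) -/
theorem result (S : Scheme.{u}) (G : Grpd.GroupoidScheme S) (k : Type u) [Field k] (eU : G.U ≅ Spec (CommRingCat.of k)) (r : G.R) : ∃ (k' : Type u) (_ : Field k') (_ : IsAlgClosed k') (_ : Algebra k k'), ∃ r' : ↑(pullback (pullback.snd (Spec.map (CommRingCat.ofHom (algebraMap k k')) ≫ eU.inv) G.t ≫ G.s) (Spec.map (CommRingCat.ofHom (algebraMap k k')) ≫ eU.inv)), (pullback.fst (pullback.snd (Spec.map (CommRingCat.ofHom (algebraMap k k')) ≫ eU.inv) G.t ≫ G.s) (Spec.map (CommRingCat.ofHom (algebraMap k k')) ≫ eU.inv) ≫ pullback.snd (Spec.map (CommRingCat.ofHom (algebraMap k k')) ≫ eU.inv) G.t) r' = r ∧ IsIso ((pullback.snd (pullback.snd (Spec.map (CommRingCat.ofHom (algebraMap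 k k')) ≫ eU.inv) G.t ≫ G.s) (Spec.map (CommRingCat.ofHom (algebraMap k k')) ≫ eU.inv)).residueFieldMap r') ∧ IsIso ((pullback.fst (pullback.snd (Spec.map (CommRingCat.ofHom (algebraMap k k')) ≫ eU.inv) G.t ≫ G.s) (Spec.map (CommRingCat.ofHom (algebraMap k k')) ≫ eU.inv) ≫ pullback.fst (Spec.map (CommRingCat.ofHom (algebraMap k k')) ≫ eU.inv) G.t).residueFieldMap r') := by
  let K : Type u := ↑(G.R.residueField r)
  let τ : k →+* K := (Spec.preimage (G.R.fromSpecResidueField r ≫ G.t ≫ eU.hom)).hom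
  let σ : k →+* K := (Spec.preimage (G.R.fromSpecResidueField r ≫ G.s ≫ eU.hom)).hom
  have hτ : Spec.map (CommRingCat.ofHom τ) = G.R.fromSpecResidueField r ≫ G.t ≫ eU.hom :=
    Spec.map_preimage _
  have hσ : Spec.map (CommRingCat.ofHom σ) = G.R.fromSpecResidueField r ≫ G.s ≫ eU.hom :=
    Spec.map_preimage _
  obtain ⟨Ω, hF, hAC, ρ, β, hβ⟩ := Groth.Agent.Lib.Helper72.FieldAut.exists_algClosed_aut σ τ
  refine ⟨Ω, hF, hAC, (ρ.comp τ).toAlgebra, ?_⟩
  let _ : Algebra k Ω := (ρ.comp τ).toAlgebra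
  have hg : CommRingCat.ofHom (algebraMap k Ω) = CommRingCat.ofHom τ ≫ CommRingCat.ofHom ρ := rfl
  have hg2 : CommRingCat.ofHom (algebraMap k Ω) ≫ CommRingCat.ofHom β.toRingHom =
      CommRingCat.ofHom σ ≫ CommRingCat.ofHom ρ := by
    ext x
    exact hβ x
  have hiso : IsIso (Spec.map (CommRingCat.ofHom β.toRingHom)) := by
    have : IsIso (CommRingCat.ofHom β.toRingHom) := β.toCommRingCatIso.isIso_hom
    infer_instance
  obtain ⟨r', hr1, hr2, hr3⟩ := aux G.s G.t
    (Spec.map (CommRingCat.ofHom (algebraMap k Ω)) ≫ eU.inv) (𝟙 _)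
    (Spec.map (CommRingCat.ofHom β.toRingHom))
    (Spec.map (CommRingCat.ofHom ρ) ≫ G.R.fromSpecResidueField r)
    (by rw [Category.id_comp, hg, Spec.map_comp, Category.assoc, hτ]; simp)
    (by
      rw [← Category.assoc (Spec.map _) (Spec.map _), ← Spec.map_comp, hg2, Spec.map_comp,
        Category.assoc, hσ]; simp)
    (IsLocalRing.closedPoint Ω)
  refine ⟨r', ?_, hr2, hr3⟩
  rw [hr1, Scheme.Hom.comp_apply, Scheme.fromSpecResidueField_apply]

end Groth.Agent.S7493
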