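import Groth.Statements.S7494
-- import your own Groth.Agent.* helpers here

set_option autoImplicit false
universe u
open CategoryTheory MonoidalCategory CartesianMonoidalCategory MonObj GrpObj AlgebraicGeometry
open AlgGrp

namespace Groth.Agent.S7494

section aux
variable {S : Scheme.{u}} {G X : Over S} [GrpObj G] (a : AlgGrp.Action G X)

theorem act_mul {T : Over S} (g h : T ⟶ G) (x : T ⟶ X) :
    lift (g * h) x ≫ a.act = lift g (lift h x ≫ a.act) ≫ a.act := by
  have h1 : lift (lift g h) x ≫ (μ[G] ▷ X) ≫ a.act =
      lift (lift g h) x ≫ (α_ G G X).hom ≫ (G ◁ a.act) ≫ a.act := by rw [a.mul_act]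
  rw [← Category.assoc, lift_whiskerRight, ← Hom.mul_def] at h1
  rw [h1, lift_lift_associator_hom_assoc, lift_whiskerLeft_assoc]

theorem act_one {T : Over S} (x : T ⟶ X) :
    lift (1 : T ⟶ G) x ≫ a.act = x := by
  have h1 : lift (toUnit T) x ≫ (η[G] ▷ X) ≫ a.act = lift (toUnit T) x ≫ (λ_ X).hom := by
    rw [a.one_act]
  rw [← Category.assoc, lift_whiskerRight, ← Hom.one_def] at h1
  rw [h1, lift_leftUnitor_hom]

end aux

/-- Let G be a group scheme over S acting on a scheme X over S by a. The action is free, meaning that
for every scheme T over S and all T-points g of G and x of X with g · x = x one has g = 1, if and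
only if the morphism G x_S X -> X x_S X, (g, x) ↦ (a(g, x), x), is a monomorphism of schemes. -/
theorem result {S : Scheme.{u}} (G X : Over S) [GrpObj G] (a : AlgGrp.Action G X) : (∀ (T : Over S) (g : T ⟶ G) (x : T ⟶ X), lift g x ≫ a.act = x → g = toUnit T ≫ η[G]) ↔ Mono (lift a.act (snd G X)).left := by
  constructor
  · intro hfree
    have : Mono (lift a.act (snd G X)) := by
      constructor
      intro T u v huv
      have hsnd : u ≫ snd G X = v ≫ snd G X := by
        have := congrArg (fun m => m ≫ snd X X) huv
        simpa using this
      have hact : u ≫ a.act = v ≫ a.act := by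
        have := congrArg (fun m => m ≫ fst X X) huv
        simpa using this
      set g := u ≫ fst G X with hg
      set g' := v ≫ fst G X with hg'
      set x := u ≫ snd G X with hx
      have hu : u = lift g x := by
        apply CartesianMonoidalCategory.hom_ext <;> simp [hg, hx]
      have hv : v = lift g' x := by
        apply CartesianMonoidalCategory.hom_ext
        · simp [hg']
        · simp only [lift_snd]
          exact hsnd.symm
      rw [hu, hv] at hact
      have h1 : lift (g'⁻¹ * g) x ≫ a.act = x := by
        rw [act_mul, hact, ← act_mul, inv_mul_cancel, act_one]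
      have h2 := hfree T (g'⁻¹ * g) x h1
      rw [← Hom.one_def] at h2
      have h3 : g = g' := by
        have := congrArg (fun m => g' * m) h2
        simpa using this
      rw [hu, hv, h3]
    infer_instance
  · intro hmono
    have : Mono (lift a.act (snd G X)) := Over.mono_of_mono_left _
    intro T g x hgx
    rw [← Hom.one_def]
    have h1 : lift g x ≫ lift a.act (snd G X) = lift (1 : T ⟶ G) x ≫ lift a.act (snd G X) := by
      apply CartesianMonoidalCategory.hom_ext
      · simp [hgx, act_one]
      · simp
    have h2 := (cancel_mono _).mp h1
    have := congrArg (fun m => m ≫ fst G X) h2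
    simpa using this

end Groth.Agent.S7494
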