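import Groth.Statements.S7497
-- import your own Groth.Agent.* helpers here

set_option autoImplicit false
universe u
open CategoryTheory CategoryTheory.Limits AlgebraicGeometry
open HTop

namespace Groth.Agent.S7497

universe w in
theorem mem_fpqc_iff {S : Scheme.{u}} (F : PreZeroHypercover.{w} S) :
    F.presieve₀ ∈ Scheme.fpqcPrecoverage S ↔
      QuasiCompactCover F ∧ ((∀ x, ∃ i, x ∈ Set.range (F.f i)) ∧ ∀ i, Flat (F.f i)) := by
  show F.presieve₀ ∈ (Scheme.qcPrecoverage ⊓ Scheme.precoverage @Flat) S ↔ _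
  rw [← Scheme.presieve₀_mem_qcPrecoverage_iff, ← Scheme.presieve₀_mem_precoverage_iff]
  exact Iff.rfl

/-- Let {f_i : T_i -> T} be a family of flat morphisms of schemes and {g_j : S_j -> T} an fpqc covering
such that for every j the family of base changes {S_j x_T T_i -> S_j} is an fpqc covering. Then {f_i
: T_i -> T} is an fpqc covering. (fpqc coverings are Mathlib's: flat, jointly surjective, every
affine open of the target covered by images of finitely many quasi-compact opens.) -/
theorem result {T : Scheme.{u}} (E : PreZeroHypercover.{u} T) (hflat : ∀ i, Flat (E.f i)) (𝒱 : Scheme.Cover Scheme.fpqcPrecoverage T) (hloc : ∀ j, (E.pullback₁ (𝒱.f j)).presieve₀ ∈ Scheme.fpqcPrecoverage (𝒱.X j)) : E.presieve₀ ∈ Scheme.fpqcPrecoverage T := by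
  have h𝒱 := (mem_fpqc_iff 𝒱.toPreZeroHypercover).1 𝒱.mem₀
  have hloc' := fun j => (mem_fpqc_iff (E.pullback₁ (𝒱.f j))).1 (hloc j)
  rw [mem_fpqc_iff]
  refine ⟨?_, ?_, hflat⟩
  · haveI : QuasiCompactCover 𝒱.toPreZeroHypercover := h𝒱.1
    haveI : ∀ k, QuasiCompactCover (E.pullback₁ ((QuasiCompactCover.ulift 𝒱.toPreZeroHypercover).f k)) :=
      fun k => (hloc' _).1
    exact QuasiCompactCover.of_hom
      (𝒱 := (QuasiCompactCover.ulift 𝒱.toPreZeroHypercover).bind
        (fun k => E.pullback₁ ((QuasiCompactCover.ulift 𝒱.toPreZeroHypercover).f k)))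
      ⟨fun p => p.2, fun p => Limits.pullback.snd _ (E.f p.2),
        fun p => Limits.pullback.condition.symm⟩
  · intro t
    obtain ⟨j, v, rfl⟩ := h𝒱.2.1 t
    obtain ⟨i, w, rfl⟩ := (hloc' j).2.1 v
    refine ⟨i, Limits.pullback.snd (𝒱.f j) (E.f i) w, ?_⟩
    show (E.f i) (Limits.pullback.snd (𝒱.f j) (E.f i) w) =
      (𝒱.f j) (Limits.pullback.fst (𝒱.f j) (E.f i) w)
    rw [← Scheme.Hom.comp_apply, ← Scheme.Hom.comp_apply, Limits.pullback.condition]

end Groth.Agent.S7497
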