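import Groth.Statements.S7498
import Groth.Agent.Lib.Helper72.GrpdSet
import Mathlib.AlgebraicGeometry.ResidueField

set_option autoImplicit false
universe u
open CategoryTheory CategoryTheory.Limits AlgebraicGeometry
open Grpd

namespace Groth.Agent.S7498

open Groth.Agent.Lib.Helper72.GrpdPts in
theorem aux (S : Scheme.{u}) (G : Grpd.GroupoidScheme S) {T : Scheme.{u}} (α β : T ⟶ G.R)
    (h : α ≫ G.t = β ≫ G.t) :
    ∃ (a b : T ⟶ G.U) (φ : pullback G.s a ≅ pullback G.s b) (π : T ⟶ pullback G.s a),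
      a = β ≫ G.s ∧ b = α ≫ G.s ∧ φ.hom ≫ pullback.snd G.s b = pullback.snd G.s a ∧
      π ≫ pullback.fst G.s a = β ∧ π ≫ φ.hom ≫ pullback.fst G.s b = α := by
  obtain ⟨δ, hδs, hδt, hβδ⟩ : ∃ δ : T ⟶ G.R, ∃ (_ : δ ≫ G.s = α ≫ G.s)
      (ht : δ ≫ G.t = β ≫ G.s), mul G β δ ht.symm = α := by
    have hδ : (β ≫ G.i) ≫ G.s = α ≫ G.t := by rw [Category.assoc, G.i_s, h]
    exact ⟨mul G (β ≫ G.i) α hδ, mul_s G _ _ _, by rw [mul_t, Category.assoc, G.i_t],
      mul_i_mul G β α hδ _⟩
  have h1 : pullback.fst G.s (δ ≫ G.t) ≫ G.s = (pullback.snd G.s (δ ≫ G.t) ≫ δ) ≫ G.t := by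
    rw [pullback.condition, Category.assoc]
  have h2 : pullback.fst G.s (δ ≫ G.s) ≫ G.s =
      ((pullback.snd G.s (δ ≫ G.s) ≫ δ) ≫ G.i) ≫ G.t := by
    rw [pullback.condition, Category.assoc, Category.assoc, G.i_t]
  let hom : pullback G.s (δ ≫ G.t) ⟶ pullback G.s (δ ≫ G.s) :=
    pullback.lift (mul G (pullback.fst G.s (δ ≫ G.t)) (pullback.snd G.s (δ ≫ G.t) ≫ δ) h1)
      (pullback.snd G.s (δ ≫ G.t)) (by rw [mul_s, Category.assoc])
  let inv : pullback G.s (δ ≫ G.s) ⟶ pullback G.s (δ ≫ G.t) :=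
    pullback.lift (mul G (pullback.fst G.s (δ ≫ G.s))
        ((pullback.snd G.s (δ ≫ G.s) ≫ δ) ≫ G.i) h2)
      (pullback.snd G.s (δ ≫ G.s)) (by rw [mul_s, Category.assoc, G.i_s, Category.assoc])
  have hom_fst : hom ≫ pullback.fst G.s (δ ≫ G.s) =
      mul G (pullback.fst G.s (δ ≫ G.t)) (pullback.snd G.s (δ ≫ G.t) ≫ δ) h1 :=
    pullback.lift_fst _ _ _
  have hom_snd : hom ≫ pullback.snd G.s (δ ≫ G.s) = pullback.snd G.s (δ ≫ G.t) :=
    pullback.lift_snd _ _ _
  have inv_fst : inv ≫ pullback.fst G.s (δ ≫ G.t) =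
      mul G (pullback.fst G.s (δ ≫ G.s)) ((pullback.snd G.s (δ ≫ G.s) ≫ δ) ≫ G.i) h2 :=
    pullback.lift_fst _ _ _
  have inv_snd : inv ≫ pullback.snd G.s (δ ≫ G.t) = pullback.snd G.s (δ ≫ G.s) :=
    pullback.lift_snd _ _ _
  have hom_inv : hom ≫ inv = 𝟙 _ := by
    apply pullback.hom_ext
    · rw [Category.assoc, inv_fst, Category.id_comp,
        comp_mul G hom _ _ h2 (by
          rw [hom_fst, mul_s, ← Category.assoc, ← Category.assoc, hom_snd, Category.assoc,
            Category.assoc, G.i_t, Category.assoc])]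
      have e2 : hom ≫ (pullback.snd G.s (δ ≫ G.s) ≫ δ) ≫ G.i =
          (pullback.snd G.s (δ ≫ G.t) ≫ δ) ≫ G.i := by
        rw [← Category.assoc, ← Category.assoc, hom_snd]
      refine (mul_congr G hom_fst e2 _ ?_).trans (mul_mul_i G _ _ h1 _)
      rw [mul_s, Category.assoc, Category.assoc, Category.assoc, G.i_t]
    · rw [Category.assoc, inv_snd, hom_snd, Category.id_comp]
  have inv_hom : inv ≫ hom = 𝟙 _ := by
    apply pullback.hom_ext
    · rw [Category.assoc, hom_fst, Category.id_comp,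
        comp_mul G inv _ _ h1 (by
          rw [inv_fst, mul_s, ← Category.assoc, inv_snd, Category.assoc, G.i_s])]
      have e2 : inv ≫ pullback.snd G.s (δ ≫ G.t) ≫ δ = pullback.snd G.s (δ ≫ G.s) ≫ δ := by
        rw [← Category.assoc, inv_snd]
      refine (mul_congr G inv_fst e2 _ ?_).trans (mul_i_mul' G _ _ h2 _)
      rw [mul_s, Category.assoc, G.i_s]
    · rw [Category.assoc, hom_snd, inv_snd, Category.id_comp]
  have hπ : β ≫ G.s = 𝟙 T ≫ δ ≫ G.t := by rw [Category.id_comp, hδt]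
  refine ⟨δ ≫ G.t, δ ≫ G.s, ⟨hom, inv, hom_inv, inv_hom⟩, pullback.lift β (𝟙 T) hπ, hδt, hδs,
    hom_snd, pullback.lift_fst _ _ _, ?_⟩
  show pullback.lift β (𝟙 T) hπ ≫ hom ≫ pullback.fst G.s (δ ≫ G.s) = α
  rw [hom_fst, comp_mul G _ _ _ h1 (by
    rw [pullback.lift_fst, ← Category.assoc, pullback.lift_snd, Category.id_comp, hδt])]
  have e1 : pullback.lift β (𝟙 T) hπ ≫ pullback.fst G.s (δ ≫ G.t) = β := pullback.lift_fst _ _ _
  have e2 : pullback.lift β (𝟙 T) hπ ≫ pullback.snd G.s (δ ≫ G.t) ≫ δ = δ := by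
    rw [← Category.assoc, pullback.lift_snd, Category.id_comp]
  exact (mul_congr G e1 e2 _ _).trans hβδ

/-- Let (U, R, s, t, c) be a groupoid scheme over S and r, r' points of R with t(r) = t(r'); put u =
s(r), u' = s(r') and let F_u, F_u' be the scheme-theoretic fibres of s. Then there are a field k
which is a common extension of κ(u) and κ(u') (morphisms a, b : Spec k -> U with images u, u') and
an isomorphism of the base changes (F_u)_k and (F_u')_k over Spec k, which moreover can be chosen to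
send some point lying over r to a point lying over r'. (The published statement also compares the
germs of s at r and at r' when s and t are flat or flat of finite presentation; this row omits
that.) (A groupoid scheme carries U, R, s, t, c, e, i over S with the groupoid axioms on T-points; c
is defined on the fibre product of s and t and sends a pair (a, b) with s(a) = t(b) to a composed
with b.) -/
theorem result (S : Scheme.{u}) (G : Grpd.GroupoidScheme S) (r r' : G.R) (h : G.t r = G.t r') : ∃ (k : Type u) (_ : Field k) (a b : Spec (CommRingCat.of k) ⟶ G.U) (φ : pullback G.s a ≅ pullback G.s b) (p : ↑(pullback G.s a)), a (IsLocalRing.closedPoint k) = G.s r ∧ b (IsLocalRing.closedPoint k) = G.s r' ∧ φ.hom ≫ pullback.snd G.s b = pullback.snd G.s a ∧ pullback.fst G.s a p = r ∧ pullback.fst G.s b (φ.hom p) = r' := by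
  obtain ⟨z, hz1, hz2⟩ := Scheme.Pullback.exists_preimage_pullback (f := G.t) (g := G.t) r' r h.symm
  let P := pullback G.t G.t
  let k : Type u := ↑(P.residueField z)
  let ζ : Spec (CommRingCat.of k) ⟶ P := P.fromSpecResidueField z
  have hζ : ζ (IsLocalRing.closedPoint k) = z := Scheme.fromSpecResidueField_apply z _
  obtain ⟨a, b, φ, π, ha, hb, hφ, hπ1, hπ2⟩ := aux S G (ζ ≫ pullback.fst G.t G.t)
    (ζ ≫ pullback.snd G.t G.t) (by rw [Category.assoc, Category.assoc, pullback.condition])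
  refine ⟨k, inferInstance, a, b, φ, π (IsLocalRing.closedPoint k), ?_, ?_, hφ, ?_, ?_⟩
  · rw [ha, Scheme.Hom.comp_apply, Scheme.Hom.comp_apply, hζ, hz2]
  · rw [hb, Scheme.Hom.comp_apply, Scheme.Hom.comp_apply, hζ, hz1]
  · rw [← Scheme.Hom.comp_apply, hπ1, Scheme.Hom.comp_apply, hζ, hz2]
  · rw [← Scheme.Hom.comp_apply, ← Scheme.Hom.comp_apply, hπ2,
      Scheme.Hom.comp_apply, hζ, hz1]

end Groth.Agent.S7498
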