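import Groth.Statements.S7500
import Groth.Agent.Lib.Helper72.GrpdPts

set_option autoImplicit false
universe u
open CategoryTheory CategoryTheory.Limits AlgebraicGeometry
open Grpd

namespace Groth.Agent.S7500

open Groth.Agent.Lib.Helper72.GrpdPts in
theorem aux (S : Scheme.{u}) (G : Grpd.GroupoidScheme S) {Stab : Scheme.{u}} (p1 : Stab ⟶ G.R)
    (p2 : Stab ⟶ G.U) (hpb : IsPullback p1 p2 G.j G.diag)
    (α : pullback p2 G.t ⟶ pullback G.s G.t)
    (hα₁ : α ≫ pullback.fst G.s G.t = pullback.fst p2 G.t ≫ p1)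
    (hα₂ : α ≫ pullback.snd G.s G.t = pullback.snd p2 G.t)
    (β : pullback p2 G.t ⟶ pullback G.j G.j) (hβ₁ : β ≫ pullback.fst G.j G.j = α ≫ G.c)
    (hβ₂ : β ≫ pullback.snd G.j G.j = pullback.snd p2 G.t) : IsIso β := by
  have hjt : G.j ≫ pullback.fst G.pU G.pU = G.t := pullback.lift_fst _ _ _
  have hjs : G.j ≫ pullback.snd G.pU G.pU = G.s := pullback.lift_snd _ _ _
  have hd1 : G.diag ≫ pullback.fst G.pU G.pU = 𝟙 _ := pullback.lift_fst _ _ _
  have hd2 : G.diag ≫ pullback.snd G.pU G.pU = 𝟙 _ := pullback.lift_snd _ _ _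
  have hjjt : pullback.fst G.j G.j ≫ G.t = pullback.snd G.j G.j ≫ G.t := by
    rw [← hjt, ← Category.assoc, pullback.condition, Category.assoc]
  have hjjs : pullback.fst G.j G.j ≫ G.s = pullback.snd G.j G.j ≫ G.s := by
    rw [← hjs, ← Category.assoc, pullback.condition, Category.assoc]
  have hγ : pullback.fst G.j G.j ≫ G.s = (pullback.snd G.j G.j ≫ G.i) ≫ G.t := by
    rw [Category.assoc, G.i_t, hjjs]
  let γ' : pullback G.j G.j ⟶ G.R := mul G (pullback.fst G.j G.j) (pullback.snd G.j G.j ≫ G.i) hγ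
  have hγ's : γ' ≫ G.s = pullback.snd G.j G.j ≫ G.t := by
    rw [mul_s, Category.assoc, G.i_s]
  have hγ't : γ' ≫ G.t = pullback.snd G.j G.j ≫ G.t := by
    rw [mul_t, hjjt]
  have hσ : γ' ≫ G.j = (pullback.snd G.j G.j ≫ G.t) ≫ G.diag := by
    apply pullback.hom_ext
    · rw [Category.assoc, hjt, Category.assoc, hd1, Category.comp_id, hγ't]
    · rw [Category.assoc, hjs, Category.assoc, hd2, Category.comp_id, hγ's]
  let σ' : pullback G.j G.j ⟶ Stab := hpb.lift γ' (pullback.snd G.j G.j ≫ G.t) hσ
  have hσ'1 : σ' ≫ p1 = γ' := hpb.lift_fst _ _ _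
  have hσ'2 : σ' ≫ p2 = pullback.snd G.j G.j ≫ G.t := hpb.lift_snd _ _ _
  let β' : pullback G.j G.j ⟶ pullback p2 G.t :=
    pullback.lift σ' (pullback.snd G.j G.j) hσ'2
  have hp1s : p1 ≫ G.s = p2 := by
    rw [← hjs, ← Category.assoc, hpb.w, Category.assoc, hd2, Category.comp_id]
  have hst : (pullback.fst p2 G.t ≫ p1) ≫ G.s = pullback.snd p2 G.t ≫ G.t := by
    rw [Category.assoc, hp1s, pullback.condition]
  have hαc : α ≫ G.c = mul G (pullback.fst p2 G.t ≫ p1) (pullback.snd p2 G.t) hst := by
    rw [comp_c G α (by rw [Category.assoc, Category.assoc, pullback.condition])]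
    exact mul_congr G hα₁ hα₂ _ _
  refine ⟨β', ?_, ?_⟩
  · apply pullback.hom_ext
    · rw [Category.assoc, pullback.lift_fst, Category.id_comp]
      apply hpb.hom_ext
      · rw [Category.assoc, hσ'1]
        have h3 : β ≫ γ' = mul G (α ≫ G.c) (pullback.snd p2 G.t ≫ G.i) (by
            rw [hαc, mul_s, Category.assoc, G.i_t]) := by
          rw [comp_mul G β _ _ hγ (by
            rw [hβ₁, ← Category.assoc, hβ₂, hαc, mul_s, Category.assoc, G.i_t])]
          exact mul_congr G hβ₁ (by rw [← Category.assoc, hβ₂]) _ _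
        rw [h3]
        refine (mul_congr G hαc rfl _ ?_).trans (mul_mul_i G _ _ _ _)
        rw [mul_s, Category.assoc, G.i_t]
      · rw [Category.assoc, hσ'2, ← Category.assoc, hβ₂]
        exact pullback.condition.symm
    · rw [Category.assoc, pullback.lift_snd, hβ₂, Category.id_comp]
  · apply pullback.hom_ext
    · rw [Category.assoc, hβ₁, Category.id_comp, hαc,
        comp_mul G β' _ _ _ (by
          rw [← Category.assoc, pullback.lift_fst, hσ'1, hγ's, pullback.lift_snd])]
      have e1 : β' ≫ pullback.fst p2 G.t ≫ p1 = γ' := by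
        rw [← Category.assoc, pullback.lift_fst, hσ'1]
      have e2 : β' ≫ pullback.snd p2 G.t = pullback.snd G.j G.j :=
        pullback.lift_snd _ _ _
      refine (mul_congr G e1 e2 _ ?_).trans (mul_i_mul' G _ _ hγ _)
      rw [hγ's]
    · rw [Category.assoc, hβ₂, pullback.lift_snd, Category.id_comp]

/-- Let (U, R, s, t, c) be a groupoid scheme over S and G -> U its stabilizer group scheme (the base
change of j = (t, s) along the diagonal). The action of G on R by composition, base changed to G_0 =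
G x_(U, pr_0) (U x_S U), makes R a pseudo G_0-torsor over U x_S U. Concretely: let α : G x_(U, t) R
-> R x_(s, U, t) R be the morphism with components (γ viewed in R, r) and β : G x_(U, t) R -> R
x_(j, U x_S U, j) R the morphism with components (c ∘ α, r); then β is an isomorphism. (A groupoid
scheme carries U, R, s, t, c, e, i over S with the groupoid axioms on T-points; c is defined on the
fibre product of s and t and sends a pair (a, b) with s(a) = t(b) to a composed with b.) -/
theorem result (S : Scheme.{u}) (G : Grpd.GroupoidScheme S) (α : pullback G.stabilizerToU G.t ⟶ pullback G.s G.t) (hα₁ : α ≫ pullback.fst G.s G.t = pullback.fst G.stabilizerToU G.t ≫ pullback.fst G.j G.diag) (hα₂ : α ≫ pullback.snd G.s G.t = pullback.snd G.stabilizerToU G.t) (β : pullback G.stabilizerToU G.t ⟶ pullback G.j G.j) (hβ₁ : β ≫ pullback.fst G.j G.j = α ≫ G.c) (hβ₂ : β ≫ pullback.snd G.j G.j = pullback.snd G.stabilizerToU G.t) : IsIso β := by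
  exact aux S G (pullback.fst G.j G.diag) G.stabilizerToU (IsPullback.of_hasPullback G.j G.diag)
    α hα₁ hα₂ β hβ₁ hβ₂

end Groth.Agent.S7500
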