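import Groth.Statements.S7501
import Mathlib

set_option autoImplicit false
universe w u
open HTop

namespace Groth.Agent.S7501

open CategoryTheory CategoryTheory.Limits AlgebraicGeometry in
/-- Let F be a presheaf of sets on the category of schemes. If F is a sheaf for the Zariski topology
and, for every proper surjective morphism f : V -> U, F has the sheaf property for the one-arrow
family {f} (sections over V whose two pullbacks to V x_U V agree come from exactly one section over
U), then F has the sheaf property for every ph covering. (The published statement is an equivalence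
for presheaves on the big ph site of a base scheme and adds that, for a Zariski sheaf, the condition
on proper surjective morphisms may be asked only for affine targets; this row states, for presheaves
on all schemes, only that the two conditions imply the sheaf property for ph coverings.) -/
theorem result (F : Scheme.{u}ᵒᵖ ⥤ Type w) (h₁ : Presieve.IsSheaf Scheme.zariskiTopology F) (h₂ : ∀ (U V : Scheme.{u}) (f : V ⟶ U), IsProper f → Surjective f → Presieve.IsSheafFor F (Presieve.singleton f)) : HTop.IsPhSheaf F := by
  intro X R hR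
  obtain ⟨E, rfl⟩ := R.exists_eq_preZeroHypercover
  have hE : HTop.IsPhCover E := (HTop.presieve₀_mem_phPrecoverage_iff E).1 hR
  let J := Sheaf.finestTopologySingle F
  have hzar : ∀ {Y : Scheme.{u}} (S : Sieve Y), S ∈ Scheme.zariskiTopology Y → S ∈ J Y := by
    intro Y S hS Z f
    exact h₁ _ (Scheme.zariskiTopology.pullback_stable f hS)
  have hprop : ∀ {U V : Scheme.{u}} (f : V ⟶ U), IsProper f → Surjective f →
      Sieve.generate (Presieve.singleton f) ∈ J U := by
    intro U V f hf1 hf2 Z g
    rw [← Sieve.pullbackArrows_comm, ← Presieve.isSheafFor_iff_generate,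
      Presieve.pullback_singleton]
    exact h₂ _ _ _ inferInstance inferInstance
  have hopen : ∀ {P : Scheme.{u}} {ι : Type} (Y : ι → Scheme.{u}) (f : ∀ i, Y i ⟶ P),
      (∀ i, IsOpenImmersion (f i)) → (∀ x : P, ∃ i, x ∈ Set.range (f i).base) →
      Sieve.generate (Presieve.ofArrows Y f) ∈ J P := by
    intro P ι Y f hf hcov
    apply hzar
    apply Precoverage.generate_mem_toGrothendieck
    rw [Scheme.ofArrows_mem_precoverage_iff]
    exact ⟨hcov, hf⟩
  have hopen' : ∀ {P : Scheme.{u}} {ι : Type u} (Y : ι → Scheme.{u}) (f : ∀ i, Y i ⟶ P),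
      (∀ i, IsOpenImmersion (f i)) → (∀ x : P, ∃ i, x ∈ Set.range (f i).base) →
      Sieve.generate (Presieve.ofArrows Y f) ∈ J P := by
    intro P ι Y f hf hcov
    apply hzar
    apply Precoverage.generate_mem_toGrothendieck
    rw [Scheme.ofArrows_mem_precoverage_iff]
    exact ⟨hcov, hf⟩
  have key : Sieve.generate E.presieve₀ ∈ J X := by
    have hcovX : Sieve.generate (Presieve.ofArrows
        (fun U : X.affineOpens => ((U : X.Opens) : Scheme.{u}))
        (fun U => (U : X.Opens).ι)) ∈ J X := by
      apply hopen'
      · intro U; infer_instance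
      · intro x
        obtain ⟨U, hU, hx, -⟩ := exists_isAffineOpen_mem_and_subset (X := X) (x := x)
          (U := ⊤) trivial
        exact ⟨⟨U, hU⟩, by rw [Scheme.Opens.range_ι]; exact hx⟩
    apply J.transitive hcovX
    rintro Y₁ f ⟨Y₂, a, b, ⟨U⟩, rfl⟩
    rw [Sieve.pullback_comp]
    apply J.pullback_stable
    obtain ⟨G, hG, href⟩ := hE.2 U
    obtain ⟨P, p, ι, hp1, hp2, hι, hιp, hcov⟩ := hG.exists_proper
    have hG' : Sieve.generate G.presieve₀ ∈ J _ := by
      apply J.transitive (hprop p hp1 hp2)
      rintro Y₃ f' ⟨Y₄, a', b', ⟨⟩, rfl⟩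
      rw [Sieve.pullback_comp]
      apply J.pullback_stable
      apply J.superset_covering _ (hopen G.X ι hι hcov)
      rw [Sieve.generate_le_iff]
      rintro _ _ ⟨j⟩
      change Sieve.generate G.presieve₀ (ι j ≫ p)
      rw [hιp j]
      exact ⟨_, 𝟙 _, G.f j, Presieve.ofArrows.mk j, Category.id_comp _⟩
    apply J.superset_covering _ hG'
    rw [Sieve.generate_le_iff]
    rintro _ _ ⟨j⟩
    obtain ⟨i, k, hk⟩ := href j
    change Sieve.generate E.presieve₀ (G.f j ≫ (U : X.Opens).ι)
    rw [← hk]
    exact ⟨_, k, E.f i, ⟨i⟩, rfl⟩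
  have := key X (𝟙 X)
  rw [Sieve.pullback_id, ← Presieve.isSheafFor_iff_generate] at this
  exact this

end Groth.Agent.S7501
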