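import Groth.Statements.S7502
import Groth.Agent.Lib.Helper21.FinDescentSch
import Groth.Agent.Lib.Helper21.CohNoeth
import Groth.Agent.Lib.Helper2.QCohLim

set_option autoImplicit false
universe u
open CategoryTheory CategoryTheory.Limits AlgebraicGeometry
open Coh

namespace Groth.Agent.S7502

/-- Let f : Y -> X be a morphism of schemes which is quasi-compact, quasi-separated, flat and
surjective, with X and Y locally Noetherian. Let F be a quasi-coherent O_X-module, G a coherent
O_Y-module and φ : G -> f^*F an injective map of O_Y-modules. Then the O_X-module F ∩ f_*G, defined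
as the fibre product of the adjunction unit F -> f_*f^*F with f_*φ : f_*G -> f_*f^*F, is coherent.
('Coherent' is quasi-coherent of finite type, the usual notion on locally Noetherian schemes.) -/
theorem result {X Y : Scheme.{u}} (f : Y ⟶ X) [QuasiCompact f] [QuasiSeparated f] [Flat f] [Surjective f] [IsLocallyNoetherian X] [IsLocallyNoetherian Y] (F : X.Modules) (hF : Coh.IsQCoh F) (G : Y.Modules) (hG : Coh.IsCoh G) (φ : G ⟶ (Scheme.Modules.pullback f).obj F) [Mono φ] : Coh.IsCoh (Limits.pullback ((Scheme.Modules.pullbackPushforwardAdjunction f).unit.app F) ((Scheme.Modules.pushforward f).map φ)) := by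
  haveI : F.IsQuasicoherent := hF
  haveI : G.IsQuasicoherent := hG.1
  haveI : ((Scheme.Modules.pushforward f).obj G).IsQuasicoherent :=
    Groth.Agent.Lib.Helper2.KerSec.isQuasicoherent_pushforward_of_qcqs f G
  haveI : ((Scheme.Modules.pushforward f).obj ((Scheme.Modules.pullback f).obj F)).IsQuasicoherent :=
    Groth.Agent.Lib.Helper2.KerSec.isQuasicoherent_pushforward_of_qcqs f _
  haveI : ((𝟭 X.Modules).obj F).IsQuasicoherent := hF
  haveI : ((Scheme.Modules.pullback f ⋙ Scheme.Modules.pushforward f).obj F).IsQuasicoherent :=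
    Groth.Agent.Lib.Helper2.KerSec.isQuasicoherent_pushforward_of_qcqs f _
  haveI hPq : (Limits.pullback ((Scheme.Modules.pullbackPushforwardAdjunction f).unit.app F)
      ((Scheme.Modules.pushforward f).map φ)).IsQuasicoherent :=
    Groth.Agent.Lib.Helper2.KerSec.isQuasicoherent_pullback _ _
  refine ⟨hPq, ?_⟩
  haveI : Mono ((Scheme.Modules.pushforward f).map φ) := inferInstance
  let ι : Limits.pullback ((Scheme.Modules.pullbackPushforwardAdjunction f).unit.app F)
      ((Scheme.Modules.pushforward f).map φ) ⟶ F :=
    pullback.fst ((Scheme.Modules.pullbackPushforwardAdjunction f).unit.app F)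
      ((Scheme.Modules.pushforward f).map φ)
  haveI : Mono ι := inferInstance
  let ψ := ((Scheme.Modules.pullbackPushforwardAdjunction f).homEquiv _ G).symm
    (pullback.snd ((Scheme.Modules.pullbackPushforwardAdjunction f).unit.app F)
      ((Scheme.Modules.pushforward f).map φ))
  have hψ : ψ ≫ φ = (Scheme.Modules.pullback f).map ι := by
    rw [← Adjunction.homEquiv_naturality_right_symm, ← pullback.condition,
      Adjunction.homEquiv_naturality_left_symm]
    simp
    rfl
  haveI : Mono ((Scheme.Modules.pullback f).map ι) :=
    Groth.Agent.Lib.Helper21.FlatPullMono.mono_pullback_map_of_flat f ι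
  haveI : Mono (ψ ≫ φ) := hψ ▸ inferInstance
  haveI : Mono ψ := mono_of_mono ψ φ
  have h1 := Groth.Agent.Lib.Helper21.CohNoeth.isFiniteType_of_mono ψ hG.2
  exact Groth.Agent.Lib.Helper21.FinDescentSch.isFiniteType_of_pullback f _ h1

end Groth.Agent.S7502
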