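import Groth.Statements.S7503
import Groth.Agent.Lib.Helper72.GrpdReducedClosure
import Groth.Agent.Lib.Helper72.GrpdPair

set_option autoImplicit false
universe u
open CategoryTheory CategoryTheory.Limits AlgebraicGeometry
open Grpd

namespace Groth.Agent.S7503

open Groth.Agent.Lib.Helper72.GrpdPts

set_option backward.isDefEq.respectTransparency false in
/-- Let (U, R, s, t, c) be a groupoid scheme over S with U the spectrum of a perfect field and let Z be
the reduced closed subscheme of U x_S U whose underlying set is the closure of the image of j = (t,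
s). Then (U, Z, pr_0|_Z, pr_1|_Z, pr_02) is a groupoid scheme over S; stated as: there are a
groupoid scheme G' over S with G'.R reduced and an isomorphism of schemes over S from G'.U to U such
that j' = (t', s') : G'.R -> G'.U x_S G'.U is a closed immersion and the image of j' followed by the
induced isomorphism G'.U x_S G'.U -> U x_S U is the closure of the image of j. (No morphism from (U,
R, s, t, c) to G' is asserted: when R is not reduced, j need not factor through the reduced
subscheme Z.) (A groupoid scheme carries U, R, s, t, c, e, i over S with the groupoid axioms on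
T-points; c is defined on the fibre product of s and t and sends a pair (a, b) with s(a) = t(b) to a
composed with b.) -/
theorem result (S : Scheme.{u}) (G : Grpd.GroupoidScheme S) (k : Type u) [Field k] [PerfectField k] (eU : G.U ≅ Spec (CommRingCat.of k)) : ∃ (G' : Grpd.GroupoidScheme S) (ψ : G'.U ≅ G.U) (hψ : ψ.hom ≫ G.pU = G'.pU), IsReduced G'.R ∧ IsClosedImmersion G'.j ∧ Set.range ⇑(G'.j ≫ pullback.map G'.pU G'.pU G.pU G.pU ψ.hom ψ.hom (𝟙 S) ((Category.comp_id _).trans hψ.symm) ((Category.comp_id _).trans hψ.symm)) = closure (Set.range ⇑G.j) := by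
  haveI : IsIso (toPair G).fU := by
    show IsIso (𝟙 G.U)
    infer_instance
  have eU' : (pair G.pU).U ≅ Spec (CommRingCat.of k) := eU
  obtain ⟨e', he, i', hi, c', hc⟩ := exists_reducedClosure_data (toPair G) k eU'
  have hj : (restrict (pair G.pU) (clι (toPair G).fR) e' he i' hi c' hc).j =
      clι (toPair G).fR := by
    rw [restrict_j]
    exact (congrArg (clι (toPair G).fR ≫ ·) (pair_j G.pU)).trans (Category.comp_id _)
  have hmap : ∀ (h₁ : G.pU ≫ 𝟙 S = 𝟙 G.U ≫ G.pU) (h₂ : G.pU ≫ 𝟙 S = 𝟙 G.U ≫ G.pU),
      pullback.map G.pU G.pU G.pU G.pU (𝟙 G.U) (𝟙 G.U) (𝟙 S) h₁ h₂ = 𝟙 _ := by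
    intro h₁ h₂
    apply pullback.hom_ext <;> simp
  refine ⟨restrict (pair G.pU) (clι (toPair G).fR) e' he i' hi c' hc, Iso.refl G.U,
    Category.id_comp _, ?_, ?_, ?_⟩
  · show AlgebraicGeometry.IsReduced (clScheme (toPair G).fR)
    infer_instance
  · rw [hj]
    infer_instance
  · show Set.range ⇑((restrict (pair G.pU) (clι (toPair G).fR) e' he i' hi c' hc).j ≫
      pullback.map G.pU G.pU G.pU G.pU (𝟙 G.U) (𝟙 G.U) (𝟙 S) _ _) = closure (Set.range ⇑G.j)
    have key : ∀ (h₁ : G.pU ≫ 𝟙 S = 𝟙 G.U ≫ G.pU) (h₂ : G.pU ≫ 𝟙 S = 𝟙 G.U ≫ G.pU),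
        (restrict (pair G.pU) (clι (toPair G).fR) e' he i' hi c' hc).j ≫
          pullback.map G.pU G.pU G.pU G.pU (𝟙 G.U) (𝟙 G.U) (𝟙 S) h₁ h₂ = clι (toPair G).fR := by
      intro h₁ h₂
      rw [hmap]
      exact (Category.comp_id _).trans hj
    rw [key]
    exact range_clι (toPair G).fR

end Groth.Agent.S7503
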