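import Groth.Statements.S7504
import Groth.Agent.Lib.Helper95.Grpd
import Groth.Agent.Lib.Helper95.LocalInvariant
import Mathlib.AlgebraicGeometry.Morphisms.UniversallyOpen
import Mathlib.Tactic
-- import your own Groth.Agent.* helpers here

set_option autoImplicit false
universe u
open CategoryTheory CategoryTheory.Limits AlgebraicGeometry
open Grpd

namespace Groth.Agent.S7504

open Groth.Agent.Lib.Helper95 in
theorem aux (S : Scheme.{u}) (G : Grpd.GroupoidScheme S) (Qc : MorphismProperty Scheme.{u})
    [Qc.IsStableUnderBaseChange] [Qc.IsStableUnderComposition]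
    (hopen_imm : ∀ {X Y : Scheme.{u}} (f : X ⟶ Y), IsOpenImmersion f → Qc f)
    (hopen_map : ∀ {X Y : Scheme.{u}} (f : X ⟶ Y), Qc f → IsOpenMap f.base)
    (P : MorphismProperty Scheme.{u}) [P.IsLocalAtTarget (Scheme.precoverage Qc)]
    (hs : Presieve.singleton G.s ∈ Scheme.precoverage Qc G.U)
    (ht : Presieve.singleton G.t ∈ Scheme.precoverage Qc G.U) (W : G.U.Opens)
    (hW : P (G.s ∣_ W)) (hmax : ∀ W' : G.U.Opens, P (G.s ∣_ W') → W' ≤ W) :
    G.s ⁻¹ᵁ W = G.t ⁻¹ᵁ W := by
  rw [Scheme.singleton_mem_precoverage_iff] at hs ht
  refine preimage_eq_of_key (Qc := Qc) (P := P) hopen_imm hopen_map G.s G.s G.t hs.1 hs.2 ht.1 ht.2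
    ?_ W hW hmax
  intro T a
  rw [← prop_snd_of_isPullback (P := P) (isPullback_c_snd (G := G)) a,
    ← prop_snd_of_isPullback (P := P) (IsPullback.of_hasPullback G.s G.t) a]

/-- Let (U, R, s, t, c) be a groupoid scheme over S, let τ be the Zariski, étale, smooth or fppf
topology (given as the corresponding precoverage K on schemes), and let P be a property of scheme
morphisms that is τ-local on the target. (The published statement also allows the syntomic topology,
which has no precoverage here; this row omits it.) Assume the one-arrow families {s : R -> U} and {t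
: R -> U} are τ-coverings. If W is the largest open subscheme of U such that the restriction
s^{-1}(W) -> W of s has P (W has the property and contains every open with the property), then W is
R-invariant: s^{-1}(W) = t^{-1}(W). (A groupoid scheme carries U, R, s, t, c, e, i over S with the
groupoid axioms on T-points; c is defined on the fibre product of s and t and sends a pair (a, b)
with s(a) = t(b) to a composed with b.) -/
theorem result (S : Scheme.{u}) (G : Grpd.GroupoidScheme S) (K : Precoverage Scheme.{u}) (hK : K = Scheme.zariskiPrecoverage ∨ K = Scheme.etalePrecoverage ∨ K = Scheme.precoverage @Smooth ∨ K = Scheme.fppfPrecoverage) (P : MorphismProperty Scheme.{u}) [P.IsLocalAtTarget K] (hs : Presieve.singleton G.s ∈ K G.U) (ht : Presieve.singleton G.t ∈ K G.U) (W : G.U.Opens) (hW : P (G.s ∣_ W)) (hmax : ∀ W' : G.U.Opens, P (G.s ∣_ W') → W' ≤ W) : G.s ⁻¹ᵁ W = G.t ⁻¹ᵁ W := by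
  rcases hK with rfl | rfl | rfl | rfl
  · exact aux S G @IsOpenImmersion (fun _ h => h) (fun f h => f.isOpenEmbedding.isOpenMap) P hs ht W hW hmax
  · have : P.IsLocalAtTarget (Scheme.precoverage @Etale) := ‹_›
    have : MorphismProperty.IsStableUnderComposition (C := Scheme.{u}) @Etale :=
      @MorphismProperty.IsMultiplicative.toIsStableUnderComposition _ _ @Etale inferInstance
    exact aux S G @Etale (fun _ h => inferInstance) (fun f h => f.isOpenMap) P hs ht W hW hmax
  · exact aux S G @Smooth (fun _ h => inferInstance) (fun f h => f.isOpenMap) P hs ht W hW hmax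
  · have : P.IsLocalAtTarget (Scheme.precoverage (@Flat ⊓ @LocallyOfFinitePresentation)) := ‹_›
    have : MorphismProperty.IsStableUnderBaseChange (C := Scheme.{u})
        (@Flat ⊓ @LocallyOfFinitePresentation) :=
      @MorphismProperty.IsStableUnderBaseChange.inf _ _ @Flat @LocallyOfFinitePresentation
        inferInstance inferInstance
    have : MorphismProperty.IsStableUnderComposition (C := Scheme.{u})
        (@Flat ⊓ @LocallyOfFinitePresentation) :=
      @MorphismProperty.IsStableUnderComposition.inf _ _ @Flat @LocallyOfFinitePresentation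
        inferInstance inferInstance
    exact aux S G (@Flat ⊓ @LocallyOfFinitePresentation) (fun _ h => ⟨inferInstance, inferInstance⟩)
      (fun f h => by
        have h1 : Flat f := h.1
        have h2 : LocallyOfFinitePresentation f := h.2
        exact f.isOpenMap) P hs ht W hW hmax

end Groth.Agent.S7504
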