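import Groth.Statements.S7505
import Groth.Agent.Lib.Helper95.Grpd
import Groth.Agent.Lib.Helper95.LocalInvariant
import Mathlib.AlgebraicGeometry.Morphisms.UniversallyOpen
import Mathlib.Tactic
-- import your own Groth.Agent.* helpers here

set_option autoImplicit false
universe u
open CategoryTheory CategoryTheory.Limits AlgebraicGeometry
open Grpd

namespace Groth.Agent.S7505

section
open Groth.Agent.Lib.Helper95

variable {S : Scheme.{u}} (G : Grpd.GroupoidScheme S)

lemma stab_fst_t : pullback.fst G.j G.diag ≫ G.t = pullback.snd G.j G.diag := by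
  have h := congrArg (fun x => x ≫ pullback.fst G.pU G.pU) (pullback.condition (f := G.j) (g := G.diag))
  simp only [Category.assoc, GroupoidScheme.j, GroupoidScheme.diag, pullback.lift_fst,
    Category.comp_id] at h
  exact h

lemma stab_fst_s : pullback.fst G.j G.diag ≫ G.s = pullback.snd G.j G.diag := by
  have h := congrArg (fun x => x ≫ pullback.snd G.pU G.pU) (pullback.condition (f := G.j) (g := G.diag))
  simp only [Category.assoc, GroupoidScheme.j, GroupoidScheme.diag, pullback.lift_snd,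
    Category.comp_id] at h
  exact h

noncomputable def stabLift {T : Scheme.{u}} (γ : T ⟶ G.R) (h : γ ≫ G.s = γ ≫ G.t) :
    T ⟶ pullback G.j G.diag :=
  pullback.lift γ (γ ≫ G.s) (by
    apply pullback.hom_ext
    · simp only [Category.assoc, GroupoidScheme.j, GroupoidScheme.diag, pullback.lift_fst,
        Category.comp_id, h]
    · simp only [Category.assoc, GroupoidScheme.j, GroupoidScheme.diag, pullback.lift_snd,
        Category.comp_id])

lemma stabLift_fst {T : Scheme.{u}} (γ : T ⟶ G.R) (h : γ ≫ G.s = γ ≫ G.t) :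
    stabLift G γ h ≫ pullback.fst G.j G.diag = γ := pullback.lift_fst _ _ _

lemma stabLift_toU {T : Scheme.{u}} (γ : T ⟶ G.R) (h : γ ≫ G.s = γ ≫ G.t) :
    stabLift G γ h ≫ pullback.snd G.j G.diag = γ ≫ G.s := pullback.lift_snd _ _ _

lemma stab_hom_ext {T : Scheme.{u}} (x y : T ⟶ pullback G.j G.diag)
    (h : x ≫ pullback.fst G.j G.diag = y ≫ pullback.fst G.j G.diag) : x = y := by
  apply pullback.hom_ext h
  have h1 : pullback.snd G.j G.diag = pullback.fst G.j G.diag ≫ G.t := (stab_fst_t G).symm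
  rw [h1, reassoc_of% h]

lemma conj_calc1 {T : Scheme.{u}} (r γ : T ⟶ G.R) (h1 : r ≫ G.s = γ ≫ G.t) (h2 : γ ≫ G.s = γ ≫ G.t) :
    gm G (gm G (r ≫ G.i) (gm G (gm G r γ) (r ≫ G.i))) r = γ := by
  have hA_s : gm G r γ ≫ G.s = (r ≫ G.i) ≫ G.t := by
    rw [gm_s r γ h1, Category.assoc, G.i_t, h2, h1]
  have hi_s : (r ≫ G.i) ≫ G.s = r ≫ G.t := by rw [Category.assoc, G.i_s]
  have hi_A : (r ≫ G.i) ≫ G.s = gm G r γ ≫ G.t := by rw [hi_s, gm_t r γ h1]
  rw [← gm_assoc (r ≫ G.i) (gm G r γ) (r ≫ G.i) hi_A hA_s,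
    ← gm_assoc (r ≫ G.i) r γ hi_s h1, i_gm, e_gm γ _ (by rw [reassoc_of% h1])]
  have h3 : γ ≫ G.s = (r ≫ G.i) ≫ G.t := by rw [Category.assoc, G.i_t, h2, h1]
  rw [gm_assoc γ (r ≫ G.i) r h3 hi_s, i_gm, gm_e γ _ (by rw [reassoc_of% h2, reassoc_of% h1])]

lemma conj_calc2 {T : Scheme.{u}} (r γ : T ⟶ G.R) (h1 : r ≫ G.t = γ ≫ G.t) (h2 : γ ≫ G.s = γ ≫ G.t) :
    gm G (gm G r (gm G (gm G (r ≫ G.i) γ) r)) (r ≫ G.i) = γ := by
  have hi_s : (r ≫ G.i) ≫ G.s = γ ≫ G.t := by rw [Category.assoc, G.i_s, h1]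
  have hi_t : r ≫ G.s = (r ≫ G.i) ≫ G.t := by rw [Category.assoc, G.i_t]
  have hB_s : gm G (r ≫ G.i) γ ≫ G.s = r ≫ G.t := by rw [gm_s _ _ hi_s, h2, h1]
  have hB_t : r ≫ G.s = gm G (r ≫ G.i) γ ≫ G.t := by rw [gm_t _ _ hi_s, hi_t]
  rw [← gm_assoc r (gm G (r ≫ G.i) γ) r hB_t hB_s,
    ← gm_assoc r (r ≫ G.i) γ hi_t hi_s, gm_i, e_gm γ _ (by rw [reassoc_of% h1])]
  have h3 : γ ≫ G.s = r ≫ G.t := by rw [h2, h1]
  rw [gm_assoc γ r (r ≫ G.i) h3 hi_t, gm_i, gm_e γ _ (by rw [reassoc_of% h3])]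


lemma stab_key : ∃ κ : pullback (pullback.snd G.j G.diag) G.s ⟶ pullback G.j G.diag,
    IsPullback κ (pullback.snd (pullback.snd G.j G.diag) G.s) (pullback.snd G.j G.diag) G.t := by
  set σ := pullback.snd G.j G.diag with hσ
  set γ₀ := pullback.fst G.j G.diag with hγ₀
  have hγ₀t : γ₀ ≫ G.t = σ := stab_fst_t G
  have hγ₀s : γ₀ ≫ G.s = σ := stab_fst_s G
  let x₁ := pullback.fst σ G.s
  let r₁ := pullback.snd σ G.s
  let γ₁ := x₁ ≫ γ₀
  have c₁ : x₁ ≫ σ = r₁ ≫ G.s := pullback.condition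
  have h1 : r₁ ≫ G.s = γ₁ ≫ G.t := by rw [Category.assoc, hγ₀t, c₁]
  have h2 : γ₁ ≫ G.s = γ₁ ≫ G.t := by rw [Category.assoc, Category.assoc, hγ₀t, hγ₀s]
  have hA_s : gm G r₁ γ₁ ≫ G.s = (r₁ ≫ G.i) ≫ G.t := by
    have h3 : (r₁ ≫ G.i) ≫ G.t = r₁ ≫ G.s := by rw [Category.assoc, G.i_t]
    rw [gm_s r₁ γ₁ h1, h3, h2, h1]
  let δ₁ := gm G (gm G r₁ γ₁) (r₁ ≫ G.i)
  have hδ₁s : δ₁ ≫ G.s = r₁ ≫ G.t := by rw [gm_s _ _ hA_s, Category.assoc, G.i_s]
  have hδ₁t : δ₁ ≫ G.t = r₁ ≫ G.t := by rw [gm_t _ _ hA_s, gm_t _ _ h1]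
  let κ := stabLift G δ₁ (hδ₁s.trans hδ₁t.symm)
  have hκ : κ ≫ σ = r₁ ≫ G.t := by rw [stabLift_toU, hδ₁s]
  let x₂ := pullback.fst σ G.t
  let r₂ := pullback.snd σ G.t
  let γ₂ := x₂ ≫ γ₀
  have c₂ : x₂ ≫ σ = r₂ ≫ G.t := pullback.condition
  have h1' : r₂ ≫ G.t = γ₂ ≫ G.t := by rw [Category.assoc, hγ₀t, c₂]
  have h2' : γ₂ ≫ G.s = γ₂ ≫ G.t := by rw [Category.assoc, Category.assoc, hγ₀t, hγ₀s]
  have hi_s : (r₂ ≫ G.i) ≫ G.s = γ₂ ≫ G.t := by rw [Category.assoc, G.i_s, h1']
  have hB_s : gm G (r₂ ≫ G.i) γ₂ ≫ G.s = r₂ ≫ G.t := by rw [gm_s _ _ hi_s, h2', h1']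
  let δ₂ := gm G (gm G (r₂ ≫ G.i) γ₂) r₂
  have hδ₂s : δ₂ ≫ G.s = r₂ ≫ G.s := by rw [gm_s _ _ hB_s]
  have hδ₂t : δ₂ ≫ G.t = r₂ ≫ G.s := by
    rw [gm_t _ _ hB_s, gm_t _ _ hi_s, Category.assoc, G.i_t]
  let κ' := stabLift G δ₂ (hδ₂s.trans hδ₂t.symm)
  have hκ' : κ' ≫ σ = r₂ ≫ G.s := by rw [stabLift_toU, hδ₂s]
  let ψ : pullback σ G.s ≅ pullback σ G.t :=
    { hom := pullback.lift κ r₁ hκ
      inv := pullback.lift κ' r₂ hκ'
      hom_inv_id := by
        apply pullback.hom_ext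
        · rw [Category.assoc, pullback.lift_fst, Category.id_comp]
          apply stab_hom_ext
          rw [Category.assoc, stabLift_fst]
          show pullback.lift κ r₁ hκ ≫ gm G (gm G (r₂ ≫ G.i) γ₂) r₂ = _
          rw [comp_gm _ _ _ hB_s, comp_gm _ _ _ hi_s]
          have e1 : pullback.lift κ r₁ hκ ≫ r₂ = r₁ := pullback.lift_snd _ _ _
          have e1' : pullback.lift κ r₁ hκ ≫ r₂ ≫ G.i = r₁ ≫ G.i := by
            rw [← Category.assoc, e1]
          have e2 : pullback.lift κ r₁ hκ ≫ γ₂ = δ₁ := by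
            show pullback.lift κ r₁ hκ ≫ x₂ ≫ γ₀ = _
            rw [pullback.lift_fst_assoc, stabLift_fst]
          rw [e1', e1, e2]
          exact conj_calc1 G r₁ γ₁ h1 h2
        · rw [Category.assoc, pullback.lift_snd, pullback.lift_snd, Category.id_comp]
      inv_hom_id := by
        apply pullback.hom_ext
        · rw [Category.assoc, pullback.lift_fst, Category.id_comp]
          apply stab_hom_ext
          rw [Category.assoc, stabLift_fst]
          show pullback.lift κ' r₂ hκ' ≫ gm G (gm G r₁ γ₁) (r₁ ≫ G.i) = _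
          rw [comp_gm _ _ _ hA_s, comp_gm _ _ _ h1]
          have e1 : pullback.lift κ' r₂ hκ' ≫ r₁ = r₂ := pullback.lift_snd _ _ _
          have e1' : pullback.lift κ' r₂ hκ' ≫ r₁ ≫ G.i = r₂ ≫ G.i := by
            rw [← Category.assoc, e1]
          have e2 : pullback.lift κ' r₂ hκ' ≫ γ₁ = δ₂ := by
            show pullback.lift κ' r₂ hκ' ≫ x₁ ≫ γ₀ = _
            rw [pullback.lift_fst_assoc, stabLift_fst]
          rw [e1', e1, e2]
          exact conj_calc2 G r₂ γ₂ h1' h2'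
        · rw [Category.assoc, pullback.lift_snd, pullback.lift_snd, Category.id_comp] }
  exact ⟨κ, IsPullback.of_iso_pullback ⟨hκ⟩ ψ (pullback.lift_fst _ _ _) (pullback.lift_snd _ _ _)⟩

theorem aux (S : Scheme.{u}) (G : Grpd.GroupoidScheme S) (Qc : MorphismProperty Scheme.{u})
    [Qc.IsStableUnderBaseChange] [Qc.IsStableUnderComposition]
    (hopen_imm : ∀ {X Y : Scheme.{u}} (f : X ⟶ Y), IsOpenImmersion f → Qc f)
    (hopen_map : ∀ {X Y : Scheme.{u}} (f : X ⟶ Y), Qc f → IsOpenMap f.base)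
    (P : MorphismProperty Scheme.{u}) [P.IsLocalAtTarget (Scheme.precoverage Qc)]
    (hs : Presieve.singleton G.s ∈ Scheme.precoverage Qc G.U)
    (ht : Presieve.singleton G.t ∈ Scheme.precoverage Qc G.U) (W : G.U.Opens)
    (hW : P (G.stabilizerToU ∣_ W)) (hmax : ∀ W' : G.U.Opens, P (G.stabilizerToU ∣_ W') → W' ≤ W) :
    G.s ⁻¹ᵁ W = G.t ⁻¹ᵁ W := by
  rw [Scheme.singleton_mem_precoverage_iff] at hs ht
  obtain ⟨κ, hκ⟩ := stab_key G
  refine preimage_eq_of_key (Qc := Qc) (P := P) hopen_imm hopen_map (pullback.snd G.j G.diag)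
    G.s G.t hs.1 hs.2 ht.1 ht.2 ?_ W hW hmax
  intro T a
  rw [← prop_snd_of_isPullback (P := P) hκ a,
    ← prop_snd_of_isPullback (P := P) (IsPullback.of_hasPullback (pullback.snd G.j G.diag) G.s) a]

end

/-- Let (U, R, s, t, c) be a groupoid scheme over S with stabilizer group scheme G -> U, let τ be the
étale, smooth or fppf topology (given as the corresponding precoverage K), and let P be a property
of scheme morphisms that is τ-local on the target. (The published statement also allows the syntomic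
topology; this row omits it.) Assume {s : R -> U} and {t : R -> U} are τ-coverings. If W is the
largest open subscheme of U such that the restriction G_W -> W of the stabilizer has P, then W is
R-invariant: s^{-1}(W) = t^{-1}(W). (A groupoid scheme carries U, R, s, t, c, e, i over S with the
groupoid axioms on T-points; c is defined on the fibre product of s and t and sends a pair (a, b)
with s(a) = t(b) to a composed with b.) -/
theorem result (S : Scheme.{u}) (G : Grpd.GroupoidScheme S) (K : Precoverage Scheme.{u}) (hK : K = Scheme.etalePrecoverage ∨ K = Scheme.precoverage @Smooth ∨ K = Scheme.fppfPrecoverage) (P : MorphismProperty Scheme.{u}) [P.IsLocalAtTarget K] (hs : Presieve.singleton G.s ∈ K G.U) (ht : Presieve.singleton G.t ∈ K G.U) (W : G.U.Opens) (hW : P (G.stabilizerToU ∣_ W)) (hmax : ∀ W' : G.U.Opens, P (G.stabilizerToU ∣_ W') → W' ≤ W) : G.s ⁻¹ᵁ W = G.t ⁻¹ᵁ W := by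
  rcases hK with rfl | rfl | rfl
  · have : P.IsLocalAtTarget (Scheme.precoverage @Etale) := ‹_›
    have : MorphismProperty.IsStableUnderComposition (C := Scheme.{u}) @Etale :=
      @MorphismProperty.IsMultiplicative.toIsStableUnderComposition _ _ @Etale inferInstance
    exact aux S G @Etale (fun _ h => inferInstance) (fun f h => f.isOpenMap) P hs ht W hW hmax
  · exact aux S G @Smooth (fun _ h => inferInstance) (fun f h => f.isOpenMap) P hs ht W hW hmax
  · have : P.IsLocalAtTarget (Scheme.precoverage (@Flat ⊓ @LocallyOfFinitePresentation)) := ‹_›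
    have : MorphismProperty.IsStableUnderBaseChange (C := Scheme.{u})
        (@Flat ⊓ @LocallyOfFinitePresentation) :=
      @MorphismProperty.IsStableUnderBaseChange.inf _ _ @Flat @LocallyOfFinitePresentation
        inferInstance inferInstance
    have : MorphismProperty.IsStableUnderComposition (C := Scheme.{u})
        (@Flat ⊓ @LocallyOfFinitePresentation) :=
      @MorphismProperty.IsStableUnderComposition.inf _ _ @Flat @LocallyOfFinitePresentation
        inferInstance inferInstance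
    exact aux S G (@Flat ⊓ @LocallyOfFinitePresentation) (fun _ h => ⟨inferInstance, inferInstance⟩)
      (fun f h => by
        have h1 : Flat f := h.1
        have h2 : LocallyOfFinitePresentation f := h.2
        exact f.isOpenMap) P hs ht W hW hmax

end Groth.Agent.S7505
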