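import Groth.Statements.S7506
import Groth.Agent.Lib.Helper73.Grpd.SliceGrpd

set_option autoImplicit false
universe u
open CategoryTheory CategoryTheory.Limits AlgebraicGeometry
open Grpd

namespace Groth.Agent.S7506

/-- Let (U, R, s, t, c, e, i) be a groupoid scheme over S with s and t Cohen-Macaulay and locally of
finite presentation, G -> U the stabilizer group scheme and u a finite type point of U. Put d_1 =
dim(G_u) and d_2 = dim_(e(u))(F_u) with F_u = s^{-1}(u). If d_2 > d_1, there exist an affine scheme
U', an immersion g : U' -> U locally of finite presentation and a point u' of U' with g(u') = u such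
that, writing h = s ∘ pr_1 : U' x_(g,U,t) R -> U and p for the point of U' x_(g,U,t) R with
projections u' and e(u), the morphism h is Cohen-Macaulay at p and the local dimension at p of the
fibre of h is d_2 - 1 (this fibre is the fibre F'_(u') of the restricted groupoid). Here a morphism
is Cohen-Macaulay when it is Cohen-Macaulay at every point of its source (flat there with
Cohen-Macaulay fibre local ring, Grpd.IsCMAt), a finite type point u is one for which Spec κ(u) -> U
is locally of finite type, dim_x of a fibre is the local dimension FlatMor.fibreDimAt, and G_u is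
the scheme-theoretic fibre of the stabilizer G -> U over u. (A groupoid scheme carries U, R, s, t,
c, e, i over S with the groupoid axioms on T-points; c is defined on the fibre product of s and t
and sends a pair (a, b) with s(a) = t(b) to a composed with b.) -/
theorem result (S : Scheme.{u}) (G : Grpd.GroupoidScheme S) [LocallyOfFinitePresentation G.s] [LocallyOfFinitePresentation G.t] (hs : ∀ r : G.R, Grpd.IsCMAt G.s r) (ht : ∀ r : G.R, Grpd.IsCMAt G.t r) (u : G.U) (hu : LocallyOfFiniteType (G.U.fromSpecResidueField u)) (hd : topologicalKrullDim ↥(G.stabilizerToU.fiber u) < FlatMor.fibreDimAt G.s (G.e u)) : ∃ (U' : Scheme.{u}) (_ : IsAffine U') (g : U' ⟶ G.U) (u' : U') (p : ↑(pullback g G.t)), IsImmersion g ∧ LocallyOfFinitePresentation g ∧ g u' = u ∧ pullback.fst g G.t p = u' ∧ pullback.snd g G.t p = G.e u ∧ Grpd.IsCMAt (pullback.snd g G.t ≫ G.s) p ∧ FlatMor.fibreDimAt (pullback.snd g G.t ≫ G.s) p + 1 = FlatMor.fibreDimAt G.s (G.e u) := by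
  open Groth.Agent.Lib.Helper73 in
  have hs' : ∀ r : G.R, MoreMor.IsCMAt G.s r := fun r => (grpd_isCMAt_iff G.s r).mp (hs r)
  obtain ⟨m, hm⟩ := exists_fibreDimAt_eq_natCast G.s (G.e u)
  have hse : G.s (G.e u) = u := by rw [← Scheme.Hom.comp_apply, G.e_s]; rfl
  have hte : G.t (G.e u) = u := by rw [← Scheme.Hom.comp_apply, G.e_t]; rfl
  have h0 := GrpdRes.resTrdegNat_le_dim_stabilizer_fiber G u hu (G.e u) hse hte
  rw [resTrdegNat_s_e G u] at h0
  rw [hm] at hd
  have hm1 : 1 ≤ m := by
    have h1 := lt_of_le_of_lt h0 hd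
    have : (0 : ℕ) < m := by exact_mod_cast h1
    omega
  obtain ⟨n, rfl⟩ : ∃ n, m = n + 1 := ⟨m - 1, by omega⟩
  obtain ⟨U', hU', g, u', p, h1, h2, h3, h4, h5, h6, h7, -⟩ :=
    grpd_exists_slice G hs' u hu n hm hd
  refine ⟨U', hU', g, u', p, h1, h2, h3, h4, h5, (grpd_isCMAt_iff _ _).mpr h6, ?_⟩
  rw [h7, hm]
  push_cast
  rfl

end Groth.Agent.S7506
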