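import Groth.Statements.S7508
import Groth.Agent.Lib.Helper73.Grpd.MaxSlice

set_option autoImplicit false
universe u
open CategoryTheory CategoryTheory.Limits AlgebraicGeometry
open Grpd

namespace Groth.Agent.S7508

/-- Let (U, R, s, t, c, e, i) be a groupoid scheme over S with s and t Cohen-Macaulay and locally of
finite presentation, assume the stabilizer G -> U is locally quasi-finite (locally of finite type
with discrete fibres), and let u be a finite type point of U. Then there exist an affine scheme U',
an immersion g : U' -> U locally of finite presentation and a point u' with g(u') = u such that h =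
s ∘ pr_1 : U' x_(g,U,t) R -> U and the source and target s', t' : R' -> U' of the restriction R' =
(U' x_(g,U,t) R) x_(h,U,g) U' are flat, locally of finite presentation and locally quasi-finite.
Here a morphism is Cohen-Macaulay when it is Cohen-Macaulay at every point of its source (flat there
with Cohen-Macaulay fibre local ring, Grpd.IsCMAt), and a finite type point u is one for which Spec
κ(u) -> U is locally of finite type. (A groupoid scheme carries U, R, s, t, c, e, i over S with the
groupoid axioms on T-points; c is defined on the fibre product of s and t and sends a pair (a, b)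
with s(a) = t(b) to a composed with b.) -/
theorem result (S : Scheme.{u}) (G : Grpd.GroupoidScheme S) [LocallyOfFinitePresentation G.s] [LocallyOfFinitePresentation G.t] (hs : ∀ r : G.R, Grpd.IsCMAt G.s r) (ht : ∀ r : G.R, Grpd.IsCMAt G.t r) [LocallyOfFiniteType G.stabilizerToU] [LocallyQuasiFinite G.stabilizerToU] (u : G.U) (hu : LocallyOfFiniteType (G.U.fromSpecResidueField u)) : ∃ (U' : Scheme.{u}) (_ : IsAffine U') (g : U' ⟶ G.U) (u' : U'), IsImmersion g ∧ LocallyOfFinitePresentation g ∧ g u' = u ∧ (Flat (pullback.snd g G.t ≫ G.s) ∧ LocallyOfFinitePresentation (pullback.snd g G.t ≫ G.s) ∧ LocallyOfFiniteType (pullback.snd g G.t ≫ G.s) ∧ LocallyQuasiFinite (pullback.snd g G.t ≫ G.s)) ∧ (Flat (pullback.snd (pullback.snd g G.t ≫ G.s) g) ∧ LocallyOfFinitePresentation (pullback.snd (pullback.snd g G.t ≫ G.s) g) ∧ LocallyQuasiFinite (pullback.snd (pullback.snd g G.t ≫ G.s) g)) ∧ (Flat (pullback.fst (pullback.snd g G.t ≫ G.s) g ≫ pullback.fst g G.t) ∧ LocallyOfFinitePresentation (pullback.fst (pullback.snd g G.t ≫ G.s) g ≫ pullback.fst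 g G.t) ∧ LocallyQuasiFinite (pullback.fst (pullback.snd g G.t ≫ G.s) g ≫ pullback.fst g G.t)) := by
  open Groth.Agent.Lib.Helper73 in
  have hs' : ∀ r : G.R, MoreMor.IsCMAt G.s r := fun r => (grpd_isCMAt_iff G.s r).mp (hs r)
  have ht' : ∀ r : G.R, MoreMor.IsCMAt G.t r := fun r => (grpd_isCMAt_iff G.t r).mp (ht r)
  obtain ⟨U', hU', g, u', p, d, h1, h2, h3, h4, h5, h6, h7, h8, h9⟩ :=
    grpd_exists_max_slice G hs' ht' u hu
  haveI := h2
  -- `d = 0`
  have hd0 : d = 0 := by
    have h0 : topologicalKrullDim ↥(G.stabilizerToU.fiber u) ≤ 0 :=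
      topologicalKrullDim_zero_of_discreteTopology _
    rw [h9] at h0
    have : d ≤ 0 := by exact_mod_cast h0
    omega
  subst hd0
  haveI hflat : Flat (GrpdRes.hh G g) := Flat.of_stalkMap _ fun x => (h6 x).1
  haveI hqf : LocallyQuasiFinite (GrpdRes.hh G g) := by
    rw [← Scheme.Hom.quasiFiniteLocus_eq_top_iff]
    ext q
    simp only [Scheme.Hom.mem_quasiFiniteLocus, TopologicalSpace.Opens.coe_top, Set.mem_univ,
      iff_true, SetLike.mem_coe]
    rw [quasiFiniteAt_iff_fibreDimAt_le_zero]
    exact_mod_cast h7 q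
  have ht'eq : pullback.fst (GrpdRes.hh G g) g ≫ pullback.fst g G.t =
      GrpdRes.i' G g ≫ GrpdRes.s' G g := (GrpdRes.i'_s' G g).symm
  haveI : IsIso (GrpdRes.i' G g) :=
    inferInstanceAs (IsIso (GrpdRes.restrictAlong G g).i)
  haveI hfs : Flat (GrpdRes.s' G g) := by
    unfold GrpdRes.s'; infer_instance
  haveI hqs : LocallyQuasiFinite (GrpdRes.s' G g) := by
    unfold GrpdRes.s'; infer_instance
  refine ⟨U', hU', g, u', h1, h2, h3, ⟨hflat, inferInstance, inferInstance, hqf⟩,
    ⟨inferInstance, inferInstance, inferInstance⟩, ⟨?_, inferInstance, ?_⟩⟩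
  · rw [ht'eq]; infer_instance
  · rw [ht'eq]; infer_instance

end Groth.Agent.S7508
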