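import Groth.Statements.S7509
import Groth.Agent.Lib.Helper72.GrpdImage
import Groth.Agent.Lib.Helper72.GrpdPair

set_option autoImplicit false
universe u
open CategoryTheory CategoryTheory.Limits AlgebraicGeometry
open Grpd

namespace Groth.Agent.S7509

open Groth.Agent.Lib.Helper72.GrpdPts

set_option backward.isDefEq.respectTransparency false in
/-- Let (U, R, s, t, c) be a groupoid scheme over S with U the spectrum of a field and R quasi-compact
(equivalently s, t quasi-compact), and let Z be the scheme-theoretic image of j = (t, s) : R -> U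
x_S U. Then (U, Z, pr_0|_Z, pr_1|_Z, pr_02) is a groupoid scheme over S; stated as: there are a
groupoid scheme G' over S and a morphism of groupoid schemes φ : (U, R, s, t, c) -> G' which is an
isomorphism on object schemes, such that j' : G'.R -> G'.U x_S G'.U is a closed immersion whose
kernel ideal sheaf equals the kernel ideal sheaf of j followed by the induced isomorphism U x_S U ->
G'.U x_S G'.U (so G'.R is the scheme-theoretic image of j, transported). (A groupoid scheme carries
U, R, s, t, c, e, i over S with the groupoid axioms on T-points; c is defined on the fibre product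
of s and t and sends a pair (a, b) with s(a) = t(b) to a composed with b.) -/
theorem result (S : Scheme.{u}) (G : Grpd.GroupoidScheme S) (k : Type u) [Field k] (eU : G.U ≅ Spec (CommRingCat.of k)) [CompactSpace G.R] : ∃ (G' : Grpd.GroupoidScheme S) (φ : Grpd.GroupoidScheme.Hom G G'), IsIso φ.fU ∧ IsClosedImmersion G'.j ∧ G'.j.ker = (G.j ≫ pullback.map G.pU G.pU G'.pU G'.pU φ.fU φ.fU (𝟙 S) ((Category.comp_id _).trans φ.fU_over.symm) ((Category.comp_id _).trans φ.fU_over.symm)).ker := by
  haveI := Groth.Agent.Lib.Helper72.FieldBase.isIntegral_of_iso_spec_field k eU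
  haveI := Groth.Agent.Lib.Helper72.FieldBase.subsingleton_of_iso_spec_field k eU
  haveI : IsAffine G.U := IsAffine.of_isIso eU.hom
  haveI : QuasiSeparatedSpace ↥(pullback G.pU G.pU) :=
    quasiSeparatedSpace_of_quasiSeparated (pullback.snd G.pU G.pU)
  haveI : QuasiCompact G.j := inferInstance
  haveI : IsIso (toPair G).fU := by
    show IsIso (𝟙 G.U)
    infer_instance
  haveI : QuasiCompact (toPair G).fR := by
    show QuasiCompact G.j
    infer_instance
  haveI : IsIntegral (pair G.pU).U := by
    show IsIntegral G.U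
    infer_instance
  haveI : Subsingleton ↥(pair G.pU).U := by
    show Subsingleton ↥G.U
    infer_instance
  obtain ⟨e', he, i', hi, c', hc⟩ := exists_image_data (toPair G)
  refine ⟨restrict (pair G.pU) (toPair G).fR.imageι e' he i' hi c' hc,
    imageHom (toPair G) e' he i' hi c' hc, ?_, ?_, ?_⟩
  · show IsIso (𝟙 G.U)
    infer_instance
  · have hj : (restrict (pair G.pU) (toPair G).fR.imageι e' he i' hi c' hc).j =
        G.j.imageι := by
      rw [restrict_j]
      exact (congrArg (G.j.imageι ≫ ·) (pair_j G.pU)).trans (Category.comp_id _)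
    rw [hj]
    infer_instance
  · have hj : (restrict (pair G.pU) (toPair G).fR.imageι e' he i' hi c' hc).j =
        G.j.imageι := by
      rw [restrict_j]
      exact (congrArg (G.j.imageι ≫ ·) (pair_j G.pU)).trans (Category.comp_id _)
    have hmap : ∀ (h₁ : G.pU ≫ 𝟙 S = 𝟙 G.U ≫ G.pU) (h₂ : G.pU ≫ 𝟙 S = 𝟙 G.U ≫ G.pU),
        pullback.map G.pU G.pU G.pU G.pU (𝟙 G.U) (𝟙 G.U) (𝟙 S) h₁ h₂ = 𝟙 _ := by
      intro h₁ h₂
      apply pullback.hom_ext <;> simp
    show (restrict (pair G.pU) (toPair G).fR.imageι e' he i' hi c' hc).j.ker =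
      (G.j ≫ pullback.map G.pU G.pU G.pU G.pU (𝟙 G.U) (𝟙 G.U) (𝟙 S) _ _).ker
    rw [hj, hmap, Category.comp_id]
    exact Scheme.IdealSheafData.ker_subschemeι _

end Groth.Agent.S7509
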