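import Groth.Statements.S7510
import Groth.Agent.Lib.Helper95.Grpd
import Mathlib.Tactic
-- import your own Groth.Agent.* helpers here

set_option autoImplicit false
universe u
open CategoryTheory CategoryTheory.Limits AlgebraicGeometry
open Grpd
open Groth.Agent.Lib.Helper95

namespace Groth.Agent.S7510

/-- Let (U, R, s, t, c, e, i) be a groupoid scheme over S and g : U' -> U a morphism; write h = s ∘ pr_1
: U' x_(g,U,t) R -> U. Let P, Q, R be properties of morphisms of schemes, with P invariant under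
composition with isomorphisms, such that (1) R implies Q, (2) Q is stable under base change and
composition, (3) every morphism f : X -> Y with Q has a largest open W(P, f) of X on which the
restriction of f has P (given here as a function W with these two properties), and (4) for f with Q
and a base change along Y' -> Y with R, the preimage of W(P, f) in X x_Y Y' is W(P, f') for the base
change f'. If s, t have R and g has Q, then there is an open W of U' whose preimage in U' x_(g,U,t)
R equals W(P, h). (The published statement speaks of arbitrary properties of morphisms; this row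
asks P to be invariant under composition with isomorphisms, which the proof uses to identify the
largest opens on the two isomorphic fibre products of h with t and with s.) (A groupoid scheme
carries U, R, s, t, c, e, i over S with the groupoid axioms on T-points; c is defined on the fibre
product of s and t and sends a pair (a, b) with s(a) = t(b) to a composed with b.) -/
theorem result (S : Scheme.{u}) (G : Grpd.GroupoidScheme S) {U' : Scheme.{u}} (g : U' ⟶ G.U) (P Q R : MorphismProperty Scheme.{u}) [P.RespectsIso] (hRQ : R ≤ Q) [Q.IsStableUnderBaseChange] [Q.IsStableUnderComposition] (W : ∀ {X Y : Scheme.{u}} (f : X ⟶ Y), Q f → X.Opens) (hWP : ∀ {X Y : Scheme.{u}} (f : X ⟶ Y) (hf : Q f), P ((W f hf).ι ≫ f)) (hWmax : ∀ {X Y : Scheme.{u}} (f : X ⟶ Y) (hf : Q f) (V : X.Opens), P (V.ι ≫ f) → V ≤ W f hf) (hWbc : ∀ {X Y Y' : Scheme.{u}} (f : X ⟶ Y) (hf : Q f) (b : Y' ⟶ Y), R b → ∀ hf' : Q (pullback.snd f b), pullback.fst f b ⁻¹ᵁ W f hf = W (pullback.snd f b) hf') (hs : R G.s) (ht : R G.t)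 (hg : Q g) (hh : Q (pullback.snd g G.t ≫ G.s)) : ∃ V : U'.Opens, pullback.fst g G.t ⁻¹ᵁ V = W (pullback.snd g G.t ≫ G.s) hh := by
  have hWle : ∀ {X₁ X₂ Y : Scheme.{u}} (θ : X₁ ≅ X₂) (f₂ : X₂ ⟶ Y) (f₁ : X₁ ⟶ Y)
      (_ : θ.hom ≫ f₂ = f₁) (hf₁ : Q f₁) (hf₂ : Q f₂), θ.hom ⁻¹ᵁ W f₂ hf₂ ≤ W f₁ hf₁ := by
    intro X₁ X₂ Y θ f₂ f₁ hθ hf₁ hf₂
    apply hWmax
    have h1 : (θ.hom ⁻¹ᵁ W f₂ hf₂).ι ≫ f₁ = (θ.hom ∣_ W f₂ hf₂) ≫ (W f₂ hf₂).ι ≫ f₂ := by
      rw [← hθ, ← Category.assoc, ← Category.assoc, morphismRestrict_ι]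
    rw [h1, P.cancel_left_of_respectsIso]
    exact hWP f₂ hf₂
  have hWiso : ∀ {X₁ X₂ Y : Scheme.{u}} (θ : X₁ ≅ X₂) (f₂ : X₂ ⟶ Y) (f₁ : X₁ ⟶ Y)
      (_ : θ.hom ≫ f₂ = f₁) (hf₁ : Q f₁) (hf₂ : Q f₂), θ.hom ⁻¹ᵁ W f₂ hf₂ = W f₁ hf₁ := by
    intro X₁ X₂ Y θ f₂ f₁ hθ hf₁ hf₂
    apply le_antisymm (hWle θ f₂ f₁ hθ hf₁ hf₂)
    have h2 := hWle θ.symm f₁ f₂ (by rw [← hθ]; simp) hf₂ hf₁
    intro x hx
    have : θ.inv (θ.hom x) ∈ W f₁ hf₁ := by
      rw [← Scheme.Hom.comp_apply, θ.hom_inv_id]; exact hx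
    exact h2 this
  set h := pullback.snd g G.t ≫ G.s with hh_def
  let p₁ := pullback.fst h G.t
  let p₂ := pullback.snd h G.t
  have cond₁ : (p₁ ≫ pullback.snd g G.t) ≫ G.s = p₂ ≫ G.t := by
    rw [Category.assoc]; exact pullback.condition
  let m : pullback h G.t ⟶ pullback g G.t :=
    pullback.lift (p₁ ≫ pullback.fst g G.t) (gmul G (p₁ ≫ pullback.snd g G.t) p₂ cond₁)
      (by rw [gmul_t, Category.assoc, Category.assoc, pullback.condition])
  have hm : m ≫ h = p₂ ≫ G.s := by
    show m ≫ (pullback.snd g G.t ≫ G.s) = _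
    rw [← Category.assoc, pullback.lift_snd, gmul_s]
  let q₁ := pullback.fst h G.s
  let q₂ := pullback.snd h G.s
  have cond₂ : (q₁ ≫ pullback.snd g G.t) ≫ G.s = (q₂ ≫ G.i) ≫ G.t := by
    rw [Category.assoc, Category.assoc, G.i_t]; exact pullback.condition
  let m' : pullback h G.s ⟶ pullback g G.t :=
    pullback.lift (q₁ ≫ pullback.fst g G.t) (gmul G (q₁ ≫ pullback.snd g G.t) (q₂ ≫ G.i) cond₂)
      (by rw [gmul_t, Category.assoc, Category.assoc, pullback.condition])
  have hm' : m' ≫ h = q₂ ≫ G.t := by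
    show m' ≫ (pullback.snd g G.t ≫ G.s) = _
    rw [← Category.assoc, pullback.lift_snd, gmul_s, Category.assoc, G.i_s]
  let θ : pullback h G.t ≅ pullback h G.s :=
    { hom := pullback.lift m p₂ hm
      inv := pullback.lift m' q₂ hm'
      hom_inv_id := by
        apply pullback.hom_ext
        · rw [Category.assoc, pullback.lift_fst, Category.id_comp]
          apply pullback.hom_ext
          · rw [Category.assoc, pullback.lift_fst, pullback.lift_fst_assoc, pullback.lift_fst]
          · rw [Category.assoc, pullback.lift_snd, comp_gmul]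
            have e1 : pullback.lift m p₂ hm ≫ q₁ ≫ pullback.snd g G.t =
                gmul G (p₁ ≫ pullback.snd g G.t) p₂ cond₁ := by
              rw [pullback.lift_fst_assoc, pullback.lift_snd]
            have e2 : pullback.lift m p₂ hm ≫ q₂ ≫ G.i = p₂ ≫ G.i := by
              rw [pullback.lift_snd_assoc]
            rw [gmul_congr _ e1 e2]
            exact gmul_gmul_i _ _ _
        · rw [Category.assoc, pullback.lift_snd, pullback.lift_snd, Category.id_comp]
      inv_hom_id := by
        apply pullback.hom_ext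
        · rw [Category.assoc, pullback.lift_fst, Category.id_comp]
          apply pullback.hom_ext
          · rw [Category.assoc, pullback.lift_fst, pullback.lift_fst_assoc, pullback.lift_fst]
          · rw [Category.assoc, pullback.lift_snd, comp_gmul]
            have e1 : pullback.lift m' q₂ hm' ≫ p₁ ≫ pullback.snd g G.t =
                gmul G (q₁ ≫ pullback.snd g G.t) (q₂ ≫ G.i) cond₂ := by
              rw [pullback.lift_fst_assoc, pullback.lift_snd]
            have e2 : pullback.lift m' q₂ hm' ≫ p₂ = q₂ := by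
              rw [pullback.lift_snd]
            rw [gmul_congr _ e1 e2]
            exact gmul_i_gmul _ _ (by rw [Category.assoc]; exact pullback.condition)
        · rw [Category.assoc, pullback.lift_snd, pullback.lift_snd, Category.id_comp] }
  have hθ1 : θ.hom ≫ q₁ = m := pullback.lift_fst _ _ _
  have hθ2 : θ.hom ≫ pullback.snd h G.s = pullback.snd h G.t := pullback.lift_snd _ _ _
  have hQt : Q (pullback.snd h G.t) := Q.pullback_snd _ _ hh
  have hQs : Q (pullback.snd h G.s) := Q.pullback_snd _ _ hh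
  have hA := hWbc h hh G.t ht hQt
  have hB := hWbc h hh G.s hs hQs
  have hC := hWiso θ (pullback.snd h G.s) (pullback.snd h G.t) hθ2 hQt hQs
  have hD : m ⁻¹ᵁ W h hh = p₁ ⁻¹ᵁ W h hh := by
    rw [hA, ← hC, ← hB, ← hθ1]
    rfl
  let σ : pullback g G.t ⟶ pullback h G.t :=
    pullback.lift (𝟙 _) (pullback.snd g G.t ≫ G.i)
      (by rw [Category.id_comp, Category.assoc, G.i_t])
  let ε : U' ⟶ pullback g G.t :=
    pullback.lift (𝟙 U') (g ≫ G.e) (by rw [Category.id_comp, Category.assoc, G.e_t, Category.comp_id])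
  have hσ1 : σ ≫ p₁ = 𝟙 _ := pullback.lift_fst _ _ _
  have hσ2 : σ ≫ m = pullback.fst g G.t ≫ ε := by
    apply pullback.hom_ext
    · rw [Category.assoc, pullback.lift_fst, reassoc_of% hσ1, Category.assoc, pullback.lift_fst,
        Category.comp_id]
    · rw [Category.assoc, pullback.lift_snd, Category.assoc, pullback.lift_snd, comp_gmul]
      have e1 : σ ≫ p₁ ≫ pullback.snd g G.t = pullback.snd g G.t := by
        rw [reassoc_of% hσ1]
      have e2 : σ ≫ p₂ = pullback.snd g G.t ≫ G.i := pullback.lift_snd _ _ _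
      rw [gmul_congr _ e1 e2, gmul_i, ← Category.assoc, ← pullback.condition, Category.assoc]
  refine ⟨ε ⁻¹ᵁ W h hh, ?_⟩
  have h5 : pullback.fst g G.t ⁻¹ᵁ (ε ⁻¹ᵁ W h hh) = σ ⁻¹ᵁ (m ⁻¹ᵁ W h hh) := by
    rw [← Scheme.Hom.comp_preimage, ← Scheme.Hom.comp_preimage, hσ2]
  rw [h5, hD, ← Scheme.Hom.comp_preimage, hσ1]
  rfl

end Groth.Agent.S7510
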