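import Groth.Statements.S7511
-- import your own Groth.Agent.* helpers here

set_option autoImplicit false
universe u
open CategoryTheory CategoryTheory.Limits AlgebraicGeometry
open HTop

namespace Groth.Agent.S7511

open AlgebraicGeometry.Scheme in
theorem qc_iff {T : Scheme.{u}} (E : PreZeroHypercover.{u} T) :
    QuasiCompactCover E ↔ QuasiCompactCover (PreZeroHypercover.singleton.{u} (Sigma.desc E.f)) := by
  constructor
  · intro h
    exact QuasiCompactCover.of_hom (𝒱 := E)
      ⟨fun _ => PUnit.unit, fun i => Sigma.ι E.X i, fun i => Sigma.ι_desc E.f i⟩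
  · intro h
    refine ⟨fun {U} hU => ?_⟩
    have h1 := h.isCompactOpenCovered_of_isAffineOpen hU
    rw [IsCompactOpenCovered.iff_isCompactOpenCovered_sigmaMk]
    rw [IsCompactOpenCovered.iff_of_unique] at h1 ⊢
    obtain ⟨V, hV, hVU⟩ := h1
    change (∐ E.X).Opens at V
    change IsCompact (V : Set (∐ E.X : Scheme.{u})) at hV
    change (Sigma.desc E.f) '' (V : Set (∐ E.X : Scheme.{u})) = _ at hVU
    refine ⟨⟨(sigmaMk E.X) ⁻¹' (V : Set (∐ E.X : Scheme.{u})), V.isOpen.preimage (sigmaMk E.X).continuous⟩, ?_, ?_⟩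
    · exact (sigmaMk E.X).isCompact_preimage.2 hV
    · rw [← hVU]
      ext x
      constructor
      · rintro ⟨⟨i, y⟩, hy, rfl⟩
        refine ⟨sigmaMk E.X ⟨i, y⟩, hy, ?_⟩
        rw [sigmaMk_mk]
        simp [← Scheme.Hom.comp_apply]
      · rintro ⟨y, hy, rfl⟩
        obtain ⟨⟨i, z⟩, rfl⟩ := (sigmaMk E.X).surjective y
        refine ⟨⟨i, z⟩, hy, ?_⟩
        rw [sigmaMk_mk]
        simp [← Scheme.Hom.comp_apply]

theorem flat_iff {T : Scheme.{u}} (E : PreZeroHypercover.{u} T) :
    (∀ i, Flat (E.f i)) ↔ Flat (Sigma.desc E.f) := by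
  constructor
  · intro h
    infer_instance
  · intro h i
    rw [← Sigma.ι_desc E.f i]
    infer_instance

theorem surj_iff {T : Scheme.{u}} (E : PreZeroHypercover.{u} T) :
    (∀ x, ∃ i, x ∈ Set.range (E.f i)) ↔ Function.Surjective (Sigma.desc E.f).base := by
  constructor
  · intro h x
    obtain ⟨i, y, rfl⟩ := h x
    refine ⟨Sigma.ι E.X i y, ?_⟩
    simp [← Scheme.Hom.comp_apply]
  · intro h x
    obtain ⟨y, rfl⟩ := h x
    obtain ⟨⟨i, z⟩, rfl⟩ := (sigmaMk E.X).surjective y
    refine ⟨i, z, ?_⟩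
    rw [sigmaMk_mk]
    simp [← Scheme.Hom.comp_apply]

/-- Let {f_i : T_i -> T} be a family of morphisms of schemes (indexed by a type in the universe of T, so
that the coproduct exists). Then it is an fpqc covering if and only if the one-arrow family
consisting of the induced morphism from the coproduct of the T_i to T is an fpqc covering. -/
theorem result {T : Scheme.{u}} (E : PreZeroHypercover.{u} T) : E.presieve₀ ∈ Scheme.fpqcPrecoverage T ↔ Presieve.singleton (Sigma.desc E.f) ∈ Scheme.fpqcPrecoverage T := by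
  show E.presieve₀ ∈ (Scheme.qcPrecoverage ⊓ Scheme.precoverage @Flat) T ↔
    Presieve.singleton (Sigma.desc E.f) ∈ (Scheme.qcPrecoverage ⊓ Scheme.precoverage @Flat) T
  have h1 : E.presieve₀ ∈ Scheme.qcPrecoverage T ↔
      Presieve.singleton (Sigma.desc E.f) ∈ Scheme.qcPrecoverage T := by
    rw [← PreZeroHypercover.presieve₀_singleton.{u}, Scheme.presieve₀_mem_qcPrecoverage_iff,
      Scheme.presieve₀_mem_qcPrecoverage_iff]
    exact qc_iff E
  have h2 : E.presieve₀ ∈ Scheme.precoverage @Flat T ↔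
      Presieve.singleton (Sigma.desc E.f) ∈ Scheme.precoverage @Flat T := by
    rw [Scheme.presieve₀_mem_precoverage_iff, Scheme.singleton_mem_precoverage_iff,
      flat_iff E, surj_iff E]
  exact ⟨fun h => ⟨h1.1 h.1, h2.1 h.2⟩, fun h => ⟨h1.2 h.1, h2.2 h.2⟩⟩

end Groth.Agent.S7511
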