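import Groth.Statements.S7512
import Mathlib

set_option autoImplicit false
universe w u
open HTop

namespace Groth.Agent.S7512

open CategoryTheory CategoryTheory.Limits AlgebraicGeometry in
/-- Let {f_i : T_i -> T} be a family of flat morphisms of schemes. Assume that for every affine scheme Z
and every morphism h : Z -> T there is a standard fpqc covering of Z (a finite family of flat
morphisms Z_j -> Z with Z_j affine whose images cover Z) refining the family of base changes {T_i
x_T Z -> Z} (every Z_j -> Z factors through some T_i compatibly with h). Then {f_i : T_i -> T} is an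
fpqc covering (in Mathlib's sense). -/
theorem result {T : Scheme.{u}} (E : PreZeroHypercover.{w} T) (hflat : ∀ i, Flat (E.f i)) (href : ∀ (Z : Scheme.{u}) [IsAffine Z] (h : Z ⟶ T), ∃ F : PreZeroHypercover.{0} Z, Finite F.I₀ ∧ (∀ j, IsAffine (F.X j)) ∧ (∀ j, Flat (F.f j)) ∧ (∀ z : Z, ∃ (j : F.I₀) (x : F.X j), F.f j x = z) ∧ HTop.RefinesOver h F E) : E.presieve₀ ∈ Scheme.fpqcPrecoverage T := by
  have hU : ∀ U : T.affineOpens, ∃ F : PreZeroHypercover.{0} ((U : T.Opens) : Scheme.{u}),
      Finite F.I₀ ∧ (∀ j, IsAffine (F.X j)) ∧ (∀ j, Flat (F.f j)) ∧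
      (∀ z : ((U : T.Opens) : Scheme.{u}), ∃ (j : F.I₀) (x : F.X j), F.f j x = z) ∧
      HTop.RefinesOver (U : T.Opens).ι F E := by
    intro U
    haveI : IsAffine ((U : T.Opens) : Scheme.{u}) := U.2
    exact href _ (U : T.Opens).ι
  change E.presieve₀ ∈ (Scheme.qcPrecoverage ⊓ Scheme.precoverage @Flat) T
  refine ⟨?_, ?_⟩
  · rw [Scheme.presieve₀_mem_qcPrecoverage_iff]
    refine ⟨fun {U} hUaff => ?_⟩
    obtain ⟨F, hfin, haff, -, hsurj, href'⟩ := hU ⟨U, hUaff⟩
    choose idx k hk using href'
    have hV : ∀ j, ∃ W : Set (E.X (idx j)), IsCompact W ∧ IsOpen W ∧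
        Set.range (k j).base ⊆ W ∧ W ⊆ (E.f (idx j)).base ⁻¹' (U : Set T) := by
      intro j
      haveI := haff j
      apply PrespectralSpace.exists_isCompact_and_isOpen_between
      · exact isCompact_range (k j).continuous
      · exact (U.isOpen).preimage (E.f (idx j)).continuous
      · rintro _ ⟨x, rfl⟩
        have := congrArg (fun m => m.base x) (hk j)
        change (E.f (idx j)).base ((k j).base x) ∈ (U : Set T)
        rw [show (E.f (idx j)).base ((k j).base x) = U.ι.base ((F.f j).base x) from this]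
        exact ((F.f j).base x).2
    choose W hWc hWo hkW hWU using hV
    refine IsCompactOpenCovered.of_finite (κ := F.I₀) idx (fun j => ⟨W j, hWo j⟩)
      (fun j => hWc j) ?_
    apply Set.Subset.antisymm
    · intro t ht
      obtain ⟨j, x, hx, rfl⟩ := Set.mem_iUnion.1 ht
      exact hWU j hx
    · intro t ht
      obtain ⟨j, x, hx⟩ := hsurj ⟨t, ht⟩
      refine Set.mem_iUnion.2 ⟨j, (k j).base x, hkW j ⟨x, rfl⟩, ?_⟩
      have := congrArg (fun m => m.base x) (hk j)
      exact this.trans (by rw [Scheme.Hom.comp_apply, hx]; rfl)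
  · rw [PreZeroHypercover.presieve₀, Scheme.ofArrows_mem_precoverage_iff]
    refine ⟨fun t => ?_, hflat⟩
    obtain ⟨U, hUaff, ht, -⟩ := exists_isAffineOpen_mem_and_subset (X := T) (x := t)
      (U := ⊤) trivial
    obtain ⟨F, -, -, -, hsurj, href'⟩ := hU ⟨U, hUaff⟩
    obtain ⟨j, x, hx⟩ := hsurj ⟨t, ht⟩
    obtain ⟨i, k, hk⟩ := href' j
    refine ⟨i, (k.base x), ?_⟩
    have := congrArg (fun m => m.base x) hk
    exact this.trans (by rw [Scheme.Hom.comp_apply, hx]; rfl)

end Groth.Agent.S7512
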