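import Groth.Statements.S7519
import Groth.Agent.Lib.Helper78.ClosedCond
import Groth.Agent.S5331

set_option autoImplicit false
universe u
open CategoryTheory MonoidalCategory CartesianMonoidalCategory MonObj GrpObj AlgebraicGeometry
open GrpSch

namespace Groth.Agent.S7519

open CategoryTheory.Limits

set_option backward.isDefEq.respectTransparency.types false
set_option linter.style.haveILetI false

/-- Let G be a group scheme locally of finite type over a field k. Then the centre of G is
(representable by) a closed subgroup scheme of G: there are a scheme Z over k and a closed immersion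
Z -> G over k such that for every scheme T over k, a T-valued point g of G factors through Z if and
only if g is central, i.e. for every T' -> T over k and every T'-valued point g' of G, the
restriction of g to T' commutes with g' in the group G(T'). -/
theorem result (K : Type u) [Field K] (G : Over (Spec (CommRingCat.of K))) [GrpObj G] [LocallyOfFiniteType G.hom] : ∃ (Z : Over (Spec (CommRingCat.of K))) (incl : Z ⟶ G), IsClosedImmersion incl.left ∧ ∀ (T : Over (Spec (CommRingCat.of K))) (g : T ⟶ G), (∃ z : T ⟶ Z, z ≫ incl = g) ↔ ∀ (T' : Over (Spec (CommRingCat.of K))) (h : T' ⟶ T) (g' : T' ⟶ G), (h ≫ g) * g' = g' * (h ≫ g) := by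
  haveI : IsSeparated G.hom := Groth.Agent.S5331.result _ G
  obtain ⟨Z, j, hj, huniv⟩ := Groth.Agent.Lib.Helper78.ClosedCond.exists_closed_representing K G G
    (equalizer μ[G] ((β_ G G).hom ≫ μ[G])) (equalizer.ι μ[G] ((β_ G G).hom ≫ μ[G]))
  refine ⟨Z, j, hj, fun T g => ?_⟩
  rw [huniv T g]
  have e1 : (G ◁ g) ≫ μ[G] = fst G T * (snd G T ≫ g) := by
    rw [Hom.mul_def]
    congr 1
  have e2 : (G ◁ g) ≫ (β_ G G).hom ≫ μ[G] = (snd G T ≫ g) * fst G T := by
    rw [Hom.mul_def, ← Category.assoc]
    congr 1
    apply CartesianMonoidalCategory.hom_ext <;> simp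
  constructor
  · rintro ⟨e, he⟩ T' h g'
    have hc : fst G T * (snd G T ≫ g) = (snd G T ≫ g) * fst G T := by
      rw [← e1, ← e2, ← he, Category.assoc, equalizer.condition, Category.assoc]
    have := congr_arg (fun m => lift g' h ≫ m) hc
    simp only [MonObj.comp_mul, lift_fst, lift_snd_assoc] at this
    exact this.symm
  · intro hc
    refine ⟨equalizer.lift (G ◁ g) ?_, equalizer.lift_ι _ _⟩
    rw [e1, e2]
    exact (hc (G ⊗ T) (snd G T) (fst G T)).symm

end Groth.Agent.S7519
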