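import Groth.Statements.S7521
import Groth.Agent.Lib.Helper5.DescFinOrbit
import Groth.Agent.Lib.Lead.Avoid1

set_option autoImplicit false
open CategoryTheory CategoryTheory.Limits AlgebraicGeometry
universe u
open Desc

namespace Groth.Agent.S7521

/-- Let p : X -> Y be a surjective finite locally free morphism and V a scheme over X which has an
invertible module ample relative to V -> X. Then every descent datum on V relative to p is
effective. (A quasi-projective morphism V -> X, in particular a projective one, carries such a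
module.) (Descent data are taken in functor-of-points form.) -/
theorem result {X Y : Scheme.{u}} (p : X ⟶ Y) [Surjective p] [IsFinite p] [Flat p] [LocallyOfFinitePresentation p] (D : Desc.SchDD p) (L : D.obj.left.Modules) (hL : RelAmple.IsRelAmple D.obj.hom L) : ∃ W : Over Y, Nonempty ((Desc.toDD p).obj W ≅ D) := by
  classical
  apply Groth.Agent.Lib.Helper5.DescFinOrbit.effective_of_orbit_affine D
  intro v
  have hfin : (Groth.Agent.Lib.Helper5.DescFinOrbit.orbit D v).Finite :=
    (Scheme.Hom.finite_preimage_singleton (pullback.snd p (D.obj.hom ≫ p)) v).image _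
  -- an affine open of `Y` around the image of `v`
  obtain ⟨_, ⟨(Y₁ : Y.Opens), hY₁, rfl⟩, hy, -⟩ := Y.isBasis_affineOpens.exists_subset_of_mem_open
    (Set.mem_univ (p.base (D.obj.hom.base v))) isOpen_univ
  have hX₁ : IsAffineOpen (p ⁻¹ᵁ Y₁) := hY₁.preimage p
  let V₁ : D.obj.left.Opens := D.obj.hom ⁻¹ᵁ (p ⁻¹ᵁ Y₁)
  have hamp : CohB1.IsAmple (L.restrict V₁.ι) := hL.2 ⟨p ⁻¹ᵁ Y₁, hX₁⟩
  have hmem : ∀ w ∈ Groth.Agent.Lib.Helper5.DescFinOrbit.orbit D v, w ∈ V₁ := by
    intro w hw
    change p.base (D.obj.hom.base w) ∈ Y₁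
    rw [Groth.Agent.Lib.Helper5.DescFinOrbit.orbit_base D v w hw]
    exact hy
  -- the orbit as a finite set of points of `V₁`
  have hfin' : {z : (V₁ : Scheme.{u}) | V₁.ι.base z ∈
      Groth.Agent.Lib.Helper5.DescFinOrbit.orbit D v}.Finite :=
    hfin.preimage (V₁.ι.isOpenEmbedding.injective.injOn)
  obtain ⟨m, -, s, hs, -, haff⟩ := Groth.Agent.Lib.Lead.Inv.exists_section_avoid hamp ⊤
    hfin'.toFinset (fun z _ => trivial)
  refine ⟨V₁.ι ''ᵁ CohB1.genLocus _ s, haff.image_of_isOpenImmersion V₁.ι, fun w hw => ?_⟩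
  have hwZ : (⟨w, hmem w hw⟩ : V₁) ∈ hfin'.toFinset := hfin'.mem_toFinset.mpr hw
  exact ⟨⟨w, hmem w hw⟩, hs _ hwZ, rfl⟩

end Groth.Agent.S7521
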