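import Groth.Statements.S7522
import Mathlib.Tactic
-- import your own Groth.Agent.* helpers here

set_option autoImplicit false
universe u
open CategoryTheory CategoryTheory.Limits AlgebraicGeometry
open Grpd

namespace Groth.Agent.S7522

/-- Let S be a scheme, U a scheme over S and j : R -> U x_S U a pre-equivalence relation, that is a
morphism such that for every scheme T the image of the T-points of R in pairs of T-points of U is an
equivalence relation; write t = pr_0 ∘ j and s = pr_1 ∘ j. Then the relation on the points of U in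
which x ∼ y when some point r of R has t(r) = x and s(r) = y is an equivalence relation. -/
theorem result {S U R : Scheme.{u}} (pU : U ⟶ S) (j : R ⟶ pullback pU pU) (hj : ∀ T : Scheme.{u}, Equivalence (fun a b : T ⟶ U => ∃ r : T ⟶ R, r ≫ j ≫ pullback.fst pU pU = a ∧ r ≫ j ≫ pullback.snd pU pU = b)) : Equivalence (fun x y : ↥U => ∃ r : R, (j ≫ pullback.fst pU pU) r = x ∧ (j ≫ pullback.snd pU pU) r = y) := by
  set t := j ≫ pullback.fst pU pU with ht
  set s := j ≫ pullback.snd pU pU with hs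
  refine ⟨?_, ?_, ?_⟩
  · intro x
    obtain ⟨r, hr1, hr2⟩ := (hj U).refl (𝟙 U)
    refine ⟨r x, ?_, ?_⟩
    · rw [← Scheme.Hom.comp_apply, hr1]; rfl
    · rw [← Scheme.Hom.comp_apply, hr2]; rfl
  · rintro x y ⟨r, rfl, rfl⟩
    have h0 : ∃ r' : R ⟶ R, r' ≫ t = t ∧ r' ≫ s = s := ⟨𝟙 R, Category.id_comp _, Category.id_comp _⟩
    obtain ⟨r', hr1, hr2⟩ := (hj R).symm h0
    refine ⟨r' r, ?_, ?_⟩
    · rw [← Scheme.Hom.comp_apply, hr1]
    · rw [← Scheme.Hom.comp_apply, hr2]
  · rintro x y z ⟨r₁, rfl, rfl⟩ ⟨r₂, h1, rfl⟩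
    obtain ⟨p, hp1, hp2⟩ := Scheme.Pullback.exists_preimage_pullback (f := s) (g := t) r₁ r₂ h1.symm
    have h01 : ∃ r' : pullback s t ⟶ R, r' ≫ t = pullback.fst s t ≫ t ∧ r' ≫ s = pullback.fst s t ≫ s :=
      ⟨pullback.fst s t, rfl, rfl⟩
    have h12 : ∃ r' : pullback s t ⟶ R, r' ≫ t = pullback.fst s t ≫ s ∧ r' ≫ s = pullback.snd s t ≫ s :=
      ⟨pullback.snd s t, pullback.condition.symm, rfl⟩
    obtain ⟨ρ, hρ1, hρ2⟩ := (hj (pullback s t)).trans h01 h12
    refine ⟨ρ p, ?_, ?_⟩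
    · rw [← Scheme.Hom.comp_apply, hρ1, Scheme.Hom.comp_apply, hp1]
    · rw [← Scheme.Hom.comp_apply, hρ2, Scheme.Hom.comp_apply, hp2]

end Groth.Agent.S7522
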