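import Groth.Statements.S7525
import Groth.Agent.Lib.Helper89.Constructible
-- import your own Groth.Agent.* helpers here

set_option autoImplicit false
universe u
open SpecSp

namespace Groth.Agent.S7525

open Groth.Agent.Lib.Helper89 Topology TopologicalSpace in
theorem isSpectralMap_val {X : Type u} [TopologicalSpace X] [SpectralSpace X]
    (E : Set X) (hE : @IsClosed X (constructibleTopology X) E) :
    IsSpectralMap (Subtype.val : E → X) := by
  refine ⟨continuous_subtype_val, fun s ho hc => ?_⟩
  rw [Subtype.isCompact_iff, Subtype.image_preimage_coe]
  apply isCompact_of_isClosed_constructible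
  exact @IsClosed.inter X _ _ (constructibleTopology X) hE
    (isClosed_constructible_of_isCompact_isOpen hc ho)

open Groth.Agent.Lib.Helper89 Topology TopologicalSpace in
theorem quasiSober_of_isClosed_constructible {X : Type u} [TopologicalSpace X] [SpectralSpace X]
    (E : Set X) (hE : @IsClosed X (constructibleTopology X) E) : QuasiSober E where
  sober {S} hS hS' := by
    classical
    have hS'' : IsIrreducible (Subtype.val '' S) := hS.image _ continuous_subtype_val.continuousOn
    obtain ⟨ξ, hξ⟩ := QuasiSober.sober hS''.closure isClosed_closure
    have hξE : ξ ∈ E := by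
      by_contra hnot
      have hopen : IsOpen[constructibleTopology X] Eᶜ := by
        rwa [@isOpen_compl_iff _ _ (constructibleTopology X)]
      have hbasis := @isTopologicalBasis_of_subbasis X (constructibleTopology X)
        (constructibleTopologySubbasis X) rfl
      obtain ⟨B, hB, hξB, hBE⟩ :=
        @IsTopologicalBasis.exists_subset_of_mem_open X (constructibleTopology X) _ hbasis ξ Eᶜ hnot hopen
      obtain ⟨F, ⟨hFfin, hFsub⟩, rfl⟩ := hB
      have hclosed : ∀ t ∈ F, ¬ IsOpen t → Subtype.val '' S ⊆ t := by
        intro t ht hto
        have hcl : IsClosed t := by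
          rcases hFsub ht with h | h
          · exact (hto h.1).elim
          · exact h.1
        have h1 : closure (Subtype.val '' S) ⊆ t := by
          rw [← hξ.def]
          exact hcl.closure_subset_iff.2 (Set.singleton_subset_iff.2 (Set.mem_sInter.1 hξB t ht))
        exact subset_closure.trans h1
      have hopenmem : ∀ t ∈ F, IsOpen t → (Subtype.val '' S ∩ t).Nonempty := by
        intro t ht hto
        have hξcl : ξ ∈ closure (Subtype.val '' S) := hξ.mem
        have := mem_closure_iff.1 hξcl t hto (Set.mem_sInter.1 hξB t ht)
        rwa [Set.inter_comm]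
      obtain ⟨p, hpS, hp⟩ := isIrreducible_iff_sInter.1 hS'' (hFfin.toFinset.filter (fun t => IsOpen t))
        (fun u hu => (Finset.mem_filter.1 hu).2)
        (fun u hu => hopenmem u ((Set.Finite.mem_toFinset hFfin).1 (Finset.mem_filter.1 hu).1)
          (Finset.mem_filter.1 hu).2)
      have hpB : p ∈ ⋂₀ F := by
        rw [Set.mem_sInter]
        intro t ht
        by_cases hto : IsOpen t
        · exact Set.mem_sInter.1 hp t (by
            rw [Finset.mem_coe, Finset.mem_filter]
            exact ⟨(Set.Finite.mem_toFinset hFfin).2 ht, hto⟩)
        · exact hclosed t ht hto hpS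
      obtain ⟨q, _, rfl⟩ := hpS
      exact hBE hpB q.2
    refine ⟨⟨ξ, hξE⟩, ?_⟩
    rw [IsGenericPoint, IsInducing.subtypeVal.closure_eq_preimage_closure_image, Set.image_singleton,
      hξ.def, ← IsInducing.subtypeVal.closure_eq_preimage_closure_image, hS'.closure_eq]

open Groth.Agent.Lib.Helper89 Topology TopologicalSpace in
theorem quasiSeparatedSpace_of_isClosed_constructible {X : Type u} [TopologicalSpace X] [SpectralSpace X]
    (E : Set X) (hE : @IsClosed X (constructibleTopology X) E) : QuasiSeparatedSpace E := by
  have hsp := isSpectralMap_val E hE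
  have hbasis := (PrespectralSpace.isTopologicalBasis (X := X)).isInducing
    (IsInducing.subtypeVal (t := E))
  rw [Set.image_eq_range] at hbasis
  refine QuasiSeparatedSpace.of_isTopologicalBasis hbasis ?_
  rintro ⟨U, hUo, hUc⟩ ⟨V, hVo, hVc⟩
  rw [← Set.preimage_inter]
  exact hsp.isCompact_preimage_of_isOpen (hUo.inter hVo)
    (QuasiSeparatedSpace.inter_isCompact U V hUo hUc hVo hVc)

/-- Let X be a spectral space and let E ⊆ X be closed in the constructible topology (for instance a
constructible or a closed subset). Then E, with the topology induced from X, is a spectral space. -/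
theorem result {X : Type u} [TopologicalSpace X] [SpectralSpace X]
    (E : Set X) (hE : @IsClosed X (constructibleTopology X) E) :
    SpectralSpace E := by
  have hsp := isSpectralMap_val E hE
  have h1 : CompactSpace E :=
    isCompact_iff_compactSpace.1 (Groth.Agent.Lib.Helper89.isCompact_of_isClosed_constructible hE)
  have h2 : QuasiSober E := quasiSober_of_isClosed_constructible E hE
  have h3 : QuasiSeparatedSpace E := quasiSeparatedSpace_of_isClosed_constructible E hE
  have h4 : PrespectralSpace E := PrespectralSpace.of_isInducing _ Topology.IsInducing.subtypeVal hsp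
  exact { }

end Groth.Agent.S7525
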