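import Groth.Statements.S7528
import Groth.Agent.Lib.Helper74.Spectral

set_option autoImplicit false
universe u
open SpecSp

namespace Groth.Agent.S7528

/-- For a spectral space X the following are equivalent: (1) X is profinite, i.e. quasi-compact,
Hausdorff and totally disconnected (quasi-compactness being automatic); (2) X is Hausdorff; (3) X is
totally disconnected; (4) every quasi-compact open subset is closed; (5) there are no nontrivial
specializations between points; (6) every point is closed; (7) every point is the generic point of
an irreducible component; (8) the constructible topology coincides with the topology of X. -/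
theorem result (X : Type u) [tX : TopologicalSpace X] [SpectralSpace X] :
    List.TFAE [
      T2Space X ∧ TotallyDisconnectedSpace X,
      T2Space X,
      TotallyDisconnectedSpace X,
      ∀ U : Set X, IsOpen U → IsCompact U → IsClosed U,
      ∀ x y : X, x ⤳ y → x = y,
      ∀ x : X, IsClosed ({x} : Set X),
      ∀ x : X, closure ({x} : Set X) ∈ irreducibleComponents X,
      constructibleTopology X = tX] := by
  tfae_have 1 → 2 := fun h => h.1
  tfae_have 2 → 1 := by
    intro h
    exact ⟨h, inferInstance⟩
  tfae_have 1 → 3 := fun h => h.2
  tfae_have 3 → 5 := by
    intro h x y hxy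
    have h1 : IsPreconnected (closure ({x} : Set X)) := isPreconnected_singleton.closure
    exact h1.subsingleton (subset_closure (Set.mem_singleton x)) (specializes_iff_mem_closure.mp hxy)
  tfae_have 5 → 6 := by
    intro h x
    rw [← closure_subset_iff_isClosed]
    intro y hy
    have := h x y (specializes_iff_mem_closure.mpr hy)
    exact this ▸ Set.mem_singleton x
  tfae_have 6 → 5 := by
    intro h x y hxy
    have := specializes_iff_mem_closure.mp hxy
    rw [(h x).closure_eq] at this
    exact this.symm
  tfae_have 5 → 2 := by
    intro h
    rw [t2Space_iff]
    intro x y hxy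
    rcases Groth.Agent.Lib.Helper74.exists_common_generalization_or_disjoint_nhds x y with
      ⟨z, hzx, hzy⟩ | h'
    · exact absurd ((h z x hzx).symm.trans (h z y hzy)) hxy
    · exact h'
  tfae_have 2 → 4 := by
    intro h U _ hUc
    exact hUc.isClosed
  tfae_have 4 → 8 := by
    intro h
    apply le_antisymm
    · exact Groth.Agent.Lib.Helper74.constructibleTopology_le
    · apply le_generateFrom
      rintro s (⟨hs1, hs2⟩ | ⟨hs1, hs2⟩)
      · exact hs1
      · have := h sᶜ hs1.isOpen_compl hs2
        rw [← isOpen_compl_iff, compl_compl] at this
        exact this
  tfae_have 8 → 2 := by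
    intro h
    have := Groth.Agent.Lib.Helper74.t2Space_cons (X := X)
    rw [h] at this
    exact this
  tfae_have 5 → 7 := by
    intro h x
    refine ⟨isIrreducible_singleton.closure, ?_⟩
    intro Z hZ hxZ
    obtain ⟨η, hη⟩ := QuasiSober.sober hZ.closure isClosed_closure
    have hx : x ∈ closure Z := subset_closure (hxZ (subset_closure (Set.mem_singleton x)))
    rw [← hη.def] at hx
    have := h η x (specializes_iff_mem_closure.mpr hx)
    rw [← this, hη.def]
    exact subset_closure
  tfae_have 7 → 5 := by
    intro h x y hxy
    have h1 := specializes_iff_closure_subset.mp hxy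
    have h2 := (h y).2 (isIrreducible_singleton (x := x)).closure h1
    exact (inseparable_iff_closure_eq.mpr (le_antisymm h2 h1)).eq
  tfae_finish

end Groth.Agent.S7528
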