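import Groth.Statements.S7539
import Groth.Agent.Lib.Helper74.Spectral

set_option autoImplicit false
universe u
open SpecSp

namespace Groth.Agent.S7539

/-- For a subset W of a spectral space X, these five conditions coincide: (1) W can be written as an
intersection of constructible subsets and is stable under generalization; (2) W is quasi-compact and
stable under generalization; (3) for some quasi-compact E ⊆ X, W consists exactly of the points that
specialize to a point of E; (4) W is the intersection of some family of quasi-compact opens; (5)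
there are a nonempty index set I and quasi-compact opens U_i with W = ⋂ U_i such that for all i, j
some U_k is contained in U_i ∩ U_j. -/
theorem result {X : Type u} [TopologicalSpace X] [SpectralSpace X] (W : Set X) :
    List.TFAE [
      (∃ S : Set (Set X), (∀ s ∈ S, Topology.IsConstructible s) ∧ W = ⋂₀ S) ∧ StableUnderGeneralization W,
      IsCompact W ∧ StableUnderGeneralization W,
      ∃ E : Set X, IsCompact E ∧ W = {x | ∃ e ∈ E, x ⤳ e},
      ∃ S : Set (Set X), (∀ s ∈ S, IsOpen s ∧ IsCompact s) ∧ W = ⋂₀ S,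
      ∃ (I : Type u) (_ : Nonempty I) (U : I → Set X), (∀ i, IsOpen (U i) ∧ IsCompact (U i)) ∧
        W = ⋂ i, U i ∧ ∀ i j, ∃ k, U k ⊆ U i ∩ U j] := by
  tfae_have 1 → 2 := by
    rintro ⟨⟨S, hS, rfl⟩, hg⟩
    refine ⟨?_, hg⟩
    apply Groth.Agent.Lib.Helper74.isCompact_of_isClosed_cons
    apply @isClosed_sInter X (constructibleTopology X)
    intro s hs
    exact (Groth.Agent.Lib.Helper74.isClopen_cons_of_isConstructible (hS s hs)).1
  tfae_have 2 → 3 := by
    rintro ⟨hc, hg⟩
    refine ⟨W, hc, ?_⟩
    ext x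
    constructor
    · intro hx
      exact ⟨x, hx, specializes_rfl⟩
    · rintro ⟨e, he, hxe⟩
      exact hg hxe he
  tfae_have 3 → 4 := by
    rintro ⟨E, hE, rfl⟩
    refine ⟨{U : Set X | IsOpen U ∧ IsCompact U ∧ E ⊆ U}, fun s hs => ⟨hs.1, hs.2.1⟩, ?_⟩
    exact Groth.Agent.Lib.Helper74.generalizations_eq_sInter hE
  tfae_have 4 → 5 := by
    rintro ⟨S, hS, rfl⟩
    refine ⟨{U : Set X // IsOpen U ∧ IsCompact U ∧ ⋂₀ S ⊆ U},
      ⟨⟨Set.univ, isOpen_univ, isCompact_univ, Set.subset_univ _⟩⟩, fun U => U.1,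
      fun U => ⟨U.2.1, U.2.2.1⟩, ?_, ?_⟩
    · apply Set.Subset.antisymm
      · intro x hx
        rw [Set.mem_iInter]
        intro U
        exact U.2.2.2 hx
      · intro x hx s hs
        rw [Set.mem_iInter] at hx
        exact hx ⟨s, (hS s hs).1, (hS s hs).2, Set.sInter_subset_of_mem hs⟩
    · intro U V
      exact ⟨⟨U.1 ∩ V.1, U.2.1.inter V.2.1, U.2.2.1.inter_of_isOpen V.2.2.1 U.2.1 V.2.1,
        Set.subset_inter U.2.2.2 V.2.2.2⟩, subset_rfl⟩
  tfae_have 5 → 1 := by
    rintro ⟨I, _, U, hU, rfl, _⟩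
    refine ⟨⟨Set.range U, ?_, by rw [Set.sInter_range]⟩, ?_⟩
    · rintro s ⟨i, rfl⟩
      exact (hU i).2.isConstructible (hU i).1
    · rw [← Set.sInter_range]
      apply stableUnderGeneralization_sInter
      rintro s ⟨i, rfl⟩
      exact (hU i).1.stableUnderGeneralization
  tfae_finish

end Groth.Agent.S7539
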