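import Groth.Statements.S7547
-- import your own Groth.Agent.* helpers here

set_option autoImplicit false
universe u
open PtTop

namespace Groth.Agent.S7547

/-- Let X be a Kolmogorov topological space whose quasi-compact opens form a basis for the topology. If
X is not Jacobson, there is a point x ∈ X which is not closed but such that {x} is locally closed. -/
theorem result {X : Type u} [TopologicalSpace X]
    [T0Space X] [PrespectralSpace X] (hX : ¬ JacobsonSpace X) :
    ∃ x : X, ¬ IsClosed ({x} : Set X) ∧ IsLocallyClosed ({x} : Set X) := by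
  rw [jacobsonSpace_iff_locallyClosed] at hX
  simp only [not_forall] at hX
  obtain ⟨Z, hZne, hZlc, hZcp⟩ := hX
  obtain ⟨U, C, hU, hC, rfl⟩ := hZlc
  obtain ⟨z, hzU, hzC⟩ := hZne
  obtain ⟨V, ⟨hVo, hVc⟩, hzV, hVU⟩ :=
    (PrespectralSpace.isTopologicalBasis (X := X)).exists_subset_of_mem_open hzU hU
  have hWc : IsCompact (V ∩ C) := hVc.inter_right hC
  haveI : CompactSpace ↥(V ∩ C) := isCompact_iff_compactSpace.mp hWc
  obtain ⟨x, _, hx⟩ := IsClosed.exists_closed_singleton (X := ↥(V ∩ C)) isClosed_univ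
    ⟨⟨z, hzV, hzC⟩, trivial⟩
  obtain ⟨D, hD, hDx⟩ := isClosed_induced_iff.mp hx
  refine ⟨x.1, ?_, V, C ∩ D, hVo, hC.inter hD, ?_⟩
  · intro hcl
    exact hZcp ⟨x.1, ⟨hVU x.2.1, x.2.2⟩, hcl⟩
  · ext y
    constructor
    · intro hy
      rw [Set.mem_singleton_iff.mp hy]
      have : x ∈ Subtype.val ⁻¹' D := by
        rw [hDx]
        rfl
      exact ⟨x.2.1, x.2.2, this⟩
    · rintro ⟨hyV, hyC, hyD⟩
      have : (⟨y, hyV, hyC⟩ : ↥(V ∩ C)) ∈ Subtype.val ⁻¹' D := hyD
      rw [hDx] at this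
      exact congrArg Subtype.val (Set.mem_singleton_iff.mp this)

end Groth.Agent.S7547
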