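import Groth.Statements.S7548
-- import your own Groth.Agent.* helpers here

set_option autoImplicit false
universe u
open PtTop

namespace Groth.Agent.S7548

/-- Let X be a Jacobson space and let T = ⋃ T_i be a union of subsets T_i ⊆ X each locally closed in X
(open, closed, locally closed and constructible subsets are of this form). Then T is Jacobson and
every point of T closed in T is closed in X. -/
theorem result {X : Type u} [TopologicalSpace X] [JacobsonSpace X]
    {ι : Type u} (T : ι → Set X) (hT : ∀ i, IsLocallyClosed (T i)) :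
    JacobsonSpace ↥(⋃ i, T i) ∧
      closedPoints ↥(⋃ i, T i) ⊆ (Subtype.val : ↥(⋃ i, T i) → X) ⁻¹' closedPoints X := by
  constructor
  · rw [jacobsonSpace_iff_locallyClosed]
    rintro Z ⟨z, hz⟩ ⟨U, C, hU, hC, rfl⟩
    obtain ⟨U', hU', rfl⟩ := isOpen_induced_iff.mp hU
    obtain ⟨C', hC', rfl⟩ := isClosed_induced_iff.mp hC
    obtain ⟨i, hi⟩ := Set.mem_iUnion.mp z.2
    have hlc : IsLocallyClosed (U' ∩ C' ∩ T i) :=
      (hU'.isLocallyClosed.inter hC'.isLocallyClosed).inter (hT i)
    have hne : (U' ∩ C' ∩ T i).Nonempty := ⟨z.1, ⟨hz.1, hz.2⟩, hi⟩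
    obtain ⟨x, ⟨⟨hxU, hxC⟩, hxT⟩, hxcl⟩ := nonempty_inter_closedPoints hne hlc
    have hxT' : x ∈ ⋃ i, T i := Set.mem_iUnion.mpr ⟨i, hxT⟩
    refine ⟨⟨x, hxT'⟩, ⟨hxU, hxC⟩, ?_⟩
    have hxcl' : IsClosed ({x} : Set X) := hxcl
    have : ({⟨x, hxT'⟩} : Set ↥(⋃ i, T i)) = Subtype.val ⁻¹' ({x} : Set X) := by
      ext y
      simp only [Set.mem_singleton_iff, Set.mem_preimage]
      exact ⟨fun h => congrArg Subtype.val h, fun h => Subtype.ext h⟩
    change IsClosed ({⟨x, hxT'⟩} : Set ↥(⋃ i, T i))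
    rw [this]
    exact hxcl'.preimage continuous_subtype_val
  · intro t ht
    have ht' : IsClosed ({t} : Set ↥(⋃ i, T i)) := ht
    obtain ⟨D, hD, hDt⟩ := isClosed_induced_iff.mp ht'
    obtain ⟨i, hi⟩ := Set.mem_iUnion.mp t.2
    change IsClosed ({t.1} : Set X)
    apply isClosed_singleton_of_isLocallyClosed_singleton
    have : ({t.1} : Set X) = T i ∩ D := by
      ext y
      constructor
      · intro hy
        rw [Set.mem_singleton_iff.mp hy]
        refine ⟨hi, ?_⟩
        have : t ∈ Subtype.val ⁻¹' D := by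
          rw [hDt]
          rfl
        exact this
      · rintro ⟨hyT, hyD⟩
        have hyT' : y ∈ ⋃ i, T i := Set.mem_iUnion.mpr ⟨i, hyT⟩
        have : (⟨y, hyT'⟩ : ↥(⋃ i, T i)) ∈ Subtype.val ⁻¹' D := hyD
        rw [hDt] at this
        exact congrArg Subtype.val (Set.mem_singleton_iff.mp this)
    rw [this]
    exact (hT i).inter hD.isLocallyClosed

end Groth.Agent.S7548
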