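import Groth.Statements.S7549
import Groth.Agent.Lib.Helper68.Topo3

set_option autoImplicit false
universe u
open PtTop

namespace Groth.Agent.S7549

theorem subset_of_closedPoints {X : Type u} [TopologicalSpace X] [JacobsonSpace X]
    {U V : Set X} (hU : IsLocallyClosed U) (hV : IsOpen V)
    (h : U ∩ closedPoints X ⊆ V) : U ⊆ V := by
  intro x hxU
  by_contra hxV
  have hlc : IsLocallyClosed (U ∩ Vᶜ) := hU.inter hV.isClosed_compl.isLocallyClosed
  have hne : (U ∩ Vᶜ).Nonempty := ⟨x, hxU, hxV⟩
  obtain ⟨y, ⟨hyU, hyV⟩, hycl⟩ := nonempty_inter_closedPoints hne hlc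
  exact hyV (h ⟨hyU, hycl⟩)

theorem compact_iff {X : Type u} [TopologicalSpace X] [JacobsonSpace X]
    {U : Set X} (hU : IsOpen U) :
    IsCompact U ↔ IsCompact ((Subtype.val : closedPoints X → X) ⁻¹' U) := by
  rw [Subtype.isCompact_iff, Subtype.image_preimage_coe, Set.inter_comm]
  constructor
  · intro hc
    apply isCompact_of_finite_subcover
    intro ι V hV hcov
    have h1 : U ⊆ ⋃ i, V i :=
      subset_of_closedPoints hU.isLocallyClosed (isOpen_iUnion hV) hcov
    obtain ⟨t, ht⟩ := hc.elim_finite_subcover V hV h1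
    exact ⟨t, Set.inter_subset_left.trans ht⟩
  · intro hc
    apply isCompact_of_finite_subcover
    intro ι V hV hcov
    obtain ⟨t, ht⟩ := hc.elim_finite_subcover V hV (Set.inter_subset_left.trans hcov)
    exact ⟨t, subset_of_closedPoints hU.isLocallyClosed
      (isOpen_biUnion (fun i _ => hV i)) ht⟩

theorem retrocompact_iff {X : Type u} [TopologicalSpace X] [JacobsonSpace X]
    {U : Set X} (hU : IsOpen U) :
    IsRetrocompact U ↔ IsRetrocompact ((Subtype.val : closedPoints X → X) ⁻¹' U) := by
  constructor
  · intro hr W hWc hWo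
    obtain ⟨V, hV, rfl⟩ := isOpen_induced_iff.mp hWo
    have hVc : IsCompact V := (compact_iff hV).mpr hWc
    have := hr hVc hV
    rw [← Set.preimage_inter]
    exact (compact_iff (hU.inter hV)).mp this
  · intro hr V hVc hVo
    have h1 := hr ((compact_iff hVo).mp hVc) (hVo.preimage continuous_subtype_val)
    rw [← Set.preimage_inter] at h1
    exact (compact_iff (hU.inter hVo)).mpr h1

/-- Let X be a Jacobson space and X₀ ⊆ X the subspace of closed points. (a) For U ⊆ X open, U is
quasi-compact if and only if U ∩ X₀ is quasi-compact, and U is retrocompact in X if and only if U ∩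
X₀ is retrocompact in X₀. (b) The rule E ↦ E ∩ X₀ is an inclusion-preserving and
inclusion-reflecting bijection between the constructible subsets of X and the constructible subsets
of X₀. -/
theorem result {X : Type u} [TopologicalSpace X] [JacobsonSpace X] :
    (∀ U : Set X, IsOpen U →
      (IsCompact U ↔ IsCompact ((Subtype.val : closedPoints X → X) ⁻¹' U)) ∧
      (IsRetrocompact U ↔ IsRetrocompact ((Subtype.val : closedPoints X → X) ⁻¹' U))) ∧
    (∀ E : Set X, Topology.IsConstructible E →
      Topology.IsConstructible ((Subtype.val : closedPoints X → X) ⁻¹' E)) ∧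
    (∀ E E' : Set X, Topology.IsConstructible E → Topology.IsConstructible E' →
      ((Subtype.val : closedPoints X → X) ⁻¹' E ⊆ Subtype.val ⁻¹' E' ↔ E ⊆ E')) ∧
    (∀ F : Set (closedPoints X), Topology.IsConstructible F →
      ∃ E : Set X, Topology.IsConstructible E ∧ (Subtype.val : closedPoints X → X) ⁻¹' E = F) := by
  refine ⟨fun U hU => ⟨compact_iff hU, retrocompact_iff hU⟩, ?_, ?_, ?_⟩
  · intro E hE
    exact hE.preimage continuous_subtype_val
      (fun s hs hsr => (retrocompact_iff hs).mp hsr)
  · intro E E' hE hE'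
    constructor
    · intro h
      obtain ⟨ι, hι, L, hL, hEL⟩ :=
        Groth.Agent.Lib.Helper68.constructible_finite_locallyClosed (hE.sdiff hE')
      have hempty : ∀ i, L i = ∅ := by
        intro i
        have h1 : L i ⊆ (∅ : Set X) := by
          apply subset_of_closedPoints (hL i) isOpen_empty
          rintro y ⟨hyL, hycl⟩
          have hy : y ∈ E \ E' := by
            rw [hEL]
            exact Set.mem_iUnion.mpr ⟨i, hyL⟩
          have : (⟨y, hycl⟩ : closedPoints X) ∈ Subtype.val ⁻¹' E' := h hy.1
          exact hy.2 this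
        exact Set.subset_empty_iff.mp h1
      have : E \ E' = ∅ := by
        rw [hEL]
        simp [hempty]
      exact Set.diff_eq_empty.mp this
    · intro h
      exact Set.preimage_mono h
  · intro F hF
    induction hF using Topology.IsConstructible.empty_union_induction with
    | open_retrocompact W hWo hWr =>
      obtain ⟨V, hV, rfl⟩ := isOpen_induced_iff.mp hWo
      exact ⟨V, ((retrocompact_iff hV).mpr hWr).isConstructible hV, rfl⟩
    | union s hs t ht ihs iht =>
      obtain ⟨E1, hE1, rfl⟩ := ihs
      obtain ⟨E2, hE2, rfl⟩ := iht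
      exact ⟨E1 ∪ E2, hE1.union hE2, rfl⟩
    | compl s hs ih =>
      obtain ⟨E1, hE1, rfl⟩ := ih
      exact ⟨E1ᶜ, hE1.compl, rfl⟩

end Groth.Agent.S7549
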