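import Groth.Statements.S7550
import Groth.Agent.Lib.Helper68.Topo2

set_option autoImplicit false
universe u
open PtTop

namespace Groth.Agent.S7550

/-- Let f : X → Y be a continuous and open map of topological spaces, with X Noetherian, every
irreducible closed subset of X having a generic point, and Y Kolmogorov. Then generalizations lift
along f. (Part (1), closed maps are specializing, is a library fact.) -/
theorem result {X Y : Type u} [TopologicalSpace X] [TopologicalSpace Y]
    [TopologicalSpace.NoetherianSpace X] [QuasiSober X] [T0Space Y]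
    (f : X → Y) (hf : Continuous f) (hfo : IsOpenMap f) :
    GeneralizingMap f := by
  intro x y' hy'
  have hxF : x ∈ closure (f ⁻¹' {y'}) := by
    rw [mem_closure_iff]
    intro U hU hxU
    have h1 : y' ∈ f '' U :=
      (specializes_iff_forall_open.mp hy') (f '' U) (hfo U hU) ⟨x, hxU, rfl⟩
    obtain ⟨u, huU, hu⟩ := h1
    exact ⟨u, huU, hu⟩
  obtain ⟨T, hTc, hTi, hxT, hTd⟩ :=
    Groth.Agent.Lib.Helper68.exists_irreducible_closed_dense (f ⁻¹' {y'}) x hxF
  obtain ⟨η, hη⟩ := QuasiSober.sober hTi hTc
  have hη' : closure ({η} : Set X) = T := hη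
  refine ⟨η, ?_, ?_⟩
  · change η ⤳ x
    rw [specializes_iff_mem_closure, hη']
    exact hxT
  · have h1 : y' ⤳ f η := by
      rw [specializes_iff_mem_closure]
      have hηT : η ∈ T := by
        rw [← hη']
        exact subset_closure rfl
      rw [hTd] at hηT
      have h2 := image_closure_subset_closure_image hf ⟨η, hηT, rfl⟩
      refine closure_mono ?_ h2
      rintro _ ⟨z, ⟨hz, _⟩, rfl⟩
      exact hz
    have h2 : f η ⤳ y' := by
      have hne : (f ⁻¹' {y'} ∩ T).Nonempty := by
        rw [← closure_nonempty_iff, ← hTd]
        exact ⟨x, hxT⟩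
      obtain ⟨z, hz, hzT⟩ := hne
      have h3 : η ⤳ z := by
        rw [specializes_iff_mem_closure, hη']
        exact hzT
      have h4 := h3.map hf
      rwa [Set.mem_singleton_iff.mp hz] at h4
    exact (h2.antisymm h1).eq

end Groth.Agent.S7550
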