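import Groth.Statements.S7551
import Mathlib.Topology.Separation.Basic
import Mathlib.Order.Preorder.Finite

set_option autoImplicit false
universe u
open PtTop

namespace Groth.Agent.S7551

theorem exists_specializes_of_mem_closure {U X : Type u} [TopologicalSpace U]
    [TopologicalSpace X] (π : U → X) (hπ : Continuous π) (hπo : IsOpenMap π)
    (x x' : X) (hfin : (π ⁻¹' {x'}).Finite) (hx : x ∈ closure ({x'} : Set X))
    (w : U) (hw : π w = x) : ∃ y, π y = x' ∧ y ⤳ w := by
  have h1 : w ∈ π ⁻¹' closure ({x'} : Set X) := by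
    change π w ∈ closure ({x'} : Set X)
    rw [hw]
    exact hx
  rw [hπo.preimage_closure_eq_closure_preimage hπ, ← Set.biUnion_of_singleton (π ⁻¹' {x'}),
    hfin.closure_biUnion] at h1
  simp only [Set.mem_iUnion, exists_prop] at h1
  obtain ⟨y, hy, hwy⟩ := h1
  exact ⟨y, hy, specializes_iff_mem_closure.mpr hwy⟩

/-- Let s, t : R → U and π : U → X be continuous maps between topological spaces satisfying: (1) π is an
open map, (2) U is a sober space, (3) s and t have finite fibres, (4) generalizations lift along s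
and along t, and (5) the image of (t, s) : R → U × U is an equivalence relation on U and π
identifies X, as a set, with the quotient of U by it. Then X is Kolmogorov. -/
theorem result {R U X : Type u}
    [TopologicalSpace R] [TopologicalSpace U] [TopologicalSpace X] [QuasiSober U] [T0Space U]
    (s t : R → U) (π : U → X) (hs : Continuous s) (ht : Continuous t) (hπ : Continuous π)
    (hπo : IsOpenMap π) (hsf : ∀ u, (s ⁻¹' {u}).Finite) (htf : ∀ u, (t ⁻¹' {u}).Finite)
    (hsg : GeneralizingMap s) (htg : GeneralizingMap t)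
    (hE : Equivalence fun u u' : U => ∃ r, t r = u ∧ s r = u')
    (hπs : Function.Surjective π) (hπq : ∀ u u' : U, π u = π u' ↔ ∃ r, t r = u ∧ s r = u') :
    T0Space X := by
  have hfib : ∀ u : U, (π ⁻¹' {π u}).Finite := by
    intro u
    apply ((htf u).image s).subset
    intro w hw
    obtain ⟨r, hr1, hr2⟩ := (hπq u w).mp (Eq.symm hw)
    exact ⟨r, hr1, hr2⟩
  rw [t0Space_iff_inseparable]
  intro x x' hxx'
  obtain ⟨u, rfl⟩ := hπs x
  obtain ⟨u', rfl⟩ := hπs x'
  have hspec := inseparable_iff_specializes_and.mp hxx'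
  have hx1 : π u ∈ closure ({π u'} : Set X) := specializes_iff_mem_closure.mp hspec.2
  have hx2 : π u' ∈ closure ({π u} : Set X) := specializes_iff_mem_closure.mp hspec.1
  letI := specializationPreorder U
  have hFfin : (π ⁻¹' {π u} ∪ π ⁻¹' {π u'}).Finite := (hfib u).union (hfib u')
  obtain ⟨w, hwF, hwmax⟩ := hFfin.exists_maximal ⟨u, Or.inl rfl⟩
  rcases hwF with hw | hw
  · obtain ⟨y, hy, hyw⟩ := exists_specializes_of_mem_closure π hπ hπo (π u) (π u') (hfib u')
      hx1 w hw
    have hwy : w ⤳ y := hwmax (Or.inr hy) hyw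
    have : w = y := (inseparable_iff_specializes_and.mpr ⟨hwy, hyw⟩).eq
    rw [← hy, ← this]
    exact hw.symm
  · obtain ⟨y, hy, hyw⟩ := exists_specializes_of_mem_closure π hπ hπo (π u') (π u) (hfib u)
      hx2 w hw
    have hwy : w ⤳ y := hwmax (Or.inl hy) hyw
    have : w = y := (inseparable_iff_specializes_and.mpr ⟨hwy, hyw⟩).eq
    rw [← hy, ← this]
    exact hw

end Groth.Agent.S7551
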