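import Groth.Statements.S7552
-- import your own Groth.Agent.* helpers here

set_option autoImplicit false
universe u
open PtTop

namespace Groth.Agent.S7552

open TopologicalSpace in
/-- closure of a point as an irreducible closed set -/
def clPt {X : Type u} [TopologicalSpace X] (x : X) : IrreducibleCloseds X :=
  ⟨closure {x}, isIrreducible_singleton.closure, isClosed_closure⟩

open TopologicalSpace in
theorem clPt_le_iff {X : Type u} [TopologicalSpace X] (x x' : X) :
    clPt x ≤ clPt x' ↔ x' ⤳ x := by
  rw [specializes_iff_closure_subset]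
  rfl

open TopologicalSpace in
theorem height_le_spec {X Y : Type u} [TopologicalSpace X] [TopologicalSpace Y] [QuasiSober Y]
    (f : X → Y) (hf : Continuous f) (hsp : SpecializingMap f) :
    ∀ n : ℕ, ∀ (x : X) (Z : IrreducibleCloseds Y), closure {f x} = (Z : Set Y) →
      Order.height (clPt x) ≤ n → Order.height Z ≤ n := by
  intro n
  induction n with
  | zero =>
    intro x Z hxZ hx
    rw [Order.height_le_coe_iff] at hx ⊢
    intro Z' hZ'
    exfalso
    obtain ⟨η', hη'⟩ := QuasiSober.sober Z'.isIrreducible Z'.isClosed
    have hη'' : closure ({η'} : Set Y) = (Z' : Set Y) := hη'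
    have h1 : f x ⤳ η' := by
      rw [specializes_iff_mem_closure, hxZ]
      apply hZ'.le
      change η' ∈ (Z' : Set Y)
      rw [← hη'']
      exact subset_closure rfl
    obtain ⟨x', hx', hfx'⟩ := hsp h1
    have hx'' : x ⤳ x' := hx'
    have hlt : clPt x' < clPt x := by
      refine lt_of_le_of_ne ((clPt_le_iff x' x).mpr hx'') ?_
      intro heq
      have h2 : x' ⤳ x := (clPt_le_iff x x').mp heq.ge
      have h3 := h2.map hf
      rw [hfx', specializes_iff_closure_subset, hxZ, hη''] at h3
      exact absurd h3 (not_le_of_gt hZ')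
    have := hx _ hlt
    simp at this
  | succ m ih =>
    intro x Z hxZ hx
    rw [Order.height_le_coe_iff] at hx ⊢
    intro Z' hZ'
    obtain ⟨η', hη'⟩ := QuasiSober.sober Z'.isIrreducible Z'.isClosed
    have hη'' : closure ({η'} : Set Y) = (Z' : Set Y) := hη'
    have h1 : f x ⤳ η' := by
      rw [specializes_iff_mem_closure, hxZ]
      apply hZ'.le
      change η' ∈ (Z' : Set Y)
      rw [← hη'']
      exact subset_closure rfl
    obtain ⟨x', hx', hfx'⟩ := hsp h1
    have hx'' : x ⤳ x' := hx'
    have hlt : clPt x' < clPt x := by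
      refine lt_of_le_of_ne ((clPt_le_iff x' x).mpr hx'') ?_
      intro heq
      have h2 : x' ⤳ x := (clPt_le_iff x x').mp heq.ge
      have h3 := h2.map hf
      rw [hfx', specializes_iff_closure_subset, hxZ, hη''] at h3
      exact absurd h3 (not_le_of_gt hZ')
    have h4 := hx _ hlt
    rw [Nat.cast_succ, ENat.lt_add_one_iff (ENat.coe_ne_top m)] at h4 ⊢
    exact ih x' Z' (by rw [hfx', hη'']) h4

open TopologicalSpace in
theorem coheight_le_gen {X Y : Type u} [TopologicalSpace X] [TopologicalSpace Y] [QuasiSober Y]
    (f : X → Y) (hf : Continuous f) (hgen : GeneralizingMap f) :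
    ∀ n : ℕ, ∀ (x : X) (Z : IrreducibleCloseds Y), closure {f x} = (Z : Set Y) →
      Order.coheight (clPt x) ≤ n → Order.coheight Z ≤ n := by
  intro n
  induction n with
  | zero =>
    intro x Z hxZ hx
    rw [Order.coheight_le_coe_iff] at hx ⊢
    intro Z' hZ'
    exfalso
    obtain ⟨η', hη'⟩ := QuasiSober.sober Z'.isIrreducible Z'.isClosed
    have hη'' : closure ({η'} : Set Y) = (Z' : Set Y) := hη'
    have h1 : η' ⤳ f x := by
      rw [specializes_iff_mem_closure, hη'']
      apply hZ'.le
      change f x ∈ (Z : Set Y)
      rw [← hxZ]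
      exact subset_closure rfl
    obtain ⟨x', hx', hfx'⟩ := hgen h1
    have hx'' : x' ⤳ x := hx'
    have hlt : clPt x < clPt x' := by
      refine lt_of_le_of_ne ((clPt_le_iff x x').mpr hx'') ?_
      intro heq
      have h2 : x ⤳ x' := (clPt_le_iff x' x).mp heq.ge
      have h3 := h2.map hf
      rw [hfx', specializes_iff_closure_subset, hxZ, hη''] at h3
      exact absurd h3 (not_le_of_gt hZ')
    have := hx _ hlt
    simp at this
  | succ m ih =>
    intro x Z hxZ hx
    rw [Order.coheight_le_coe_iff] at hx ⊢
    intro Z' hZ'
    obtain ⟨η', hη'⟩ := QuasiSober.sober Z'.isIrreducible Z'.isClosed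
    have hη'' : closure ({η'} : Set Y) = (Z' : Set Y) := hη'
    have h1 : η' ⤳ f x := by
      rw [specializes_iff_mem_closure, hη'']
      apply hZ'.le
      change f x ∈ (Z : Set Y)
      rw [← hxZ]
      exact subset_closure rfl
    obtain ⟨x', hx', hfx'⟩ := hgen h1
    have hx'' : x' ⤳ x := hx'
    have hlt : clPt x < clPt x' := by
      refine lt_of_le_of_ne ((clPt_le_iff x x').mpr hx'') ?_
      intro heq
      have h2 : x ⤳ x' := (clPt_le_iff x' x).mp heq.ge
      have h3 := h2.map hf
      rw [hfx', specializes_iff_closure_subset, hxZ, hη''] at h3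
      exact absurd h3 (not_le_of_gt hZ')
    have h4 := hx _ hlt
    rw [Nat.cast_succ, ENat.lt_add_one_iff (ENat.coe_ne_top m)] at h4 ⊢
    exact ih x' Z' (by rw [hfx', hη'']) h4

/-- Let f : X → Y be a continuous surjective map of topological spaces with Y sober, and assume that
specializations lift along f or that generalizations lift along f. Then dim X ≥ dim Y (Krull
dimensions as suprema of lengths of chains of irreducible closed subsets). -/
theorem result {X Y : Type u}
    [TopologicalSpace X] [TopologicalSpace Y] [QuasiSober Y] [T0Space Y]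
    (f : X → Y) (hf : Continuous f) (hsurj : Function.Surjective f)
    (hlift : SpecializingMap f ∨ GeneralizingMap f) :
    topologicalKrullDim Y ≤ topologicalKrullDim X := by
  rcases hlift with hsp | hgen
  · rw [topologicalKrullDim, topologicalKrullDim, Order.krullDim_eq_iSup_height]
    apply iSup_le
    intro Z
    obtain ⟨η, hη⟩ := QuasiSober.sober Z.isIrreducible Z.isClosed
    have hη' : closure ({η} : Set Y) = (Z : Set Y) := hη
    obtain ⟨x, rfl⟩ := hsurj η
    have h1 : Order.height Z ≤ Order.height (clPt x) := by
      cases h : Order.height (clPt x) with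
      | top => exact le_top
      | coe n => exact height_le_spec f hf hsp n x Z hη' h.le
    exact (WithBot.coe_le_coe.mpr h1).trans (Order.height_le_krullDim _)
  · rw [topologicalKrullDim, topologicalKrullDim, Order.krullDim_eq_iSup_coheight]
    apply iSup_le
    intro Z
    obtain ⟨η, hη⟩ := QuasiSober.sober Z.isIrreducible Z.isClosed
    have hη' : closure ({η} : Set Y) = (Z : Set Y) := hη
    obtain ⟨x, rfl⟩ := hsurj η
    have h1 : Order.coheight Z ≤ Order.coheight (clPt x) := by
      cases h : Order.coheight (clPt x) with
      | top => exact le_top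
      | coe n => exact coheight_le_gen f hf hgen n x Z hη' h.le
    exact (WithBot.coe_le_coe.mpr h1).trans (Order.coheight_le_krullDim _)

end Groth.Agent.S7552
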