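import Groth.Statements.S7556
import Groth.Agent.S7555
import Mathlib.Topology.Compactification.StoneCech

set_option autoImplicit false
universe u
open PtTop

namespace Groth.Agent.S7556

/-- rigidity of irreducible covers -/
theorem rigid {E X : Type u} [TopologicalSpace E] [TopologicalSpace X] [CompactSpace E]
    [T2Space E] (ρ : E → X) (hρs : Function.Surjective ρ)
    (hirr : ∀ E₀ : Set E, IsClosed E₀ → E₀ ≠ Set.univ → ρ '' E₀ ≠ Set.univ)
    (h : E → E) (hh : Continuous h) (hρh : ρ ∘ h = ρ) : h = id := by
  have hsurj : Function.Surjective h := by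
    rw [← Set.range_eq_univ]
    by_contra hne
    apply hirr (Set.range h) (isCompact_range hh).isClosed hne
    rw [← Set.range_comp, hρh]
    exact Set.range_eq_univ.mpr hρs
  by_contra hne
  obtain ⟨E₀, hE₀c, hE₀ne, hE₀u⟩ := Groth.Agent.S7555.result h hh hsurj hne
  apply hirr E₀ hE₀c hE₀ne
  rw [Set.eq_univ_iff_forall]
  intro x
  obtain ⟨e, rfl⟩ := hρs x
  have he : e ∈ E₀ ∪ h '' E₀ := by
    rw [hE₀u]
    trivial
  rcases he with he | ⟨e₀, he₀, rfl⟩
  · exact ⟨e, he, rfl⟩
  · exact ⟨e₀, he₀, (congrFun hρh e₀).symm⟩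

/-- a copy of `X` with the discrete topology -/
structure Disc (X : Type u) where
  /-- the underlying point -/
  val : X

instance (X : Type u) : TopologicalSpace (Disc X) := ⊥

instance (X : Type u) : DiscreteTopology (Disc X) := ⟨rfl⟩

theorem exists_cover (X : Type u) [TopologicalSpace X] [CompactSpace X] [T2Space X] :
    ∃ (X' : Type u) (_ : TopologicalSpace X') (_ : CompactSpace X') (_ : T2Space X')
      (_ : ExtremallyDisconnected X') (p : X' → X), Continuous p ∧ Function.Surjective p ∧
      ∀ E : Set X', IsClosed E → E ≠ Set.univ → p '' E ≠ Set.univ := by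
  have hval : Continuous (fun d : Disc X => d.val) := continuous_of_discreteTopology
  have hπc : Continuous (stoneCechExtend hval) := continuous_stoneCechExtend hval
  have hπs : Function.Surjective (stoneCechExtend hval) := by
    intro x
    exact ⟨stoneCechUnit ⟨x⟩, stoneCechExtend_stoneCechUnit hval ⟨x⟩⟩
  obtain ⟨E, hEc, hEonto, hEmin⟩ := exists_compact_surjective_zorn_subset hπc hπs
  have hpc : Continuous (E.domRestrict (stoneCechExtend hval)) :=
    hπc.continuousOn.domRestrict
  have hps : Function.Surjective (E.domRestrict (stoneCechExtend hval)) := by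
    intro a
    have ha : a ∈ stoneCechExtend hval '' E := by
      rw [hEonto]
      trivial
    obtain ⟨d, hd, rfl⟩ := ha
    exact ⟨⟨d, hd⟩, rfl⟩
  have hirr : ∀ E₀ : Set ↥E, IsClosed E₀ → E₀ ≠ Set.univ →
      E.domRestrict (stoneCechExtend hval) '' E₀ ≠ Set.univ :=
    fun E₀ h1 h2 => hEmin E₀ h2 h1
  have hDproj : CompactT2.Projective (StoneCech (Disc X)) := StoneCech.projective
  obtain ⟨r, hrc, hr⟩ := hDproj hπc hpc hps
  have hrid : r ∘ (Subtype.val : ↥E → StoneCech (Disc X)) = id := by
    apply rigid (E.domRestrict (stoneCechExtend hval)) hps hirr _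
      (hrc.comp continuous_subtype_val)
    rw [← Function.comp_assoc, hr]
    rfl
  have hEproj : CompactT2.Projective ↥E := by
    intro Y Z _ _ _ _ _ _ f g hf hg hgs
    obtain ⟨h, hhc, hh⟩ := hDproj (hf.comp hrc) hg hgs
    refine ⟨h ∘ Subtype.val, hhc.comp continuous_subtype_val, ?_⟩
    rw [← Function.comp_assoc, hh, Function.comp_assoc, hrid]
    rfl
  exact ⟨↥E, inferInstance, hEc, inferInstance, hEproj.extremallyDisconnected,
    E.domRestrict (stoneCechExtend hval), hpc, hps, hirr⟩

/-- Let X be a quasi-compact Hausdorff space. There is a continuous surjection p : X' → X with X'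
quasi-compact, Hausdorff and extremally disconnected such that no proper closed subset of X' maps
onto X; and if q : X'' → X is a second cover with the same properties, there is a homeomorphism X' ≃
X'' compatible with p and q. -/
theorem result (X : Type u) [TopologicalSpace X] [CompactSpace X] [T2Space X] :
    (∃ (X' : Type u) (_ : TopologicalSpace X') (_ : CompactSpace X') (_ : T2Space X') (_ : ExtremallyDisconnected X')
        (p : X' → X), Continuous p ∧ Function.Surjective p ∧
        ∀ E : Set X', IsClosed E → E ≠ Set.univ → p '' E ≠ Set.univ) ∧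
    (∀ (X' X'' : Type u) [TopologicalSpace X'] [CompactSpace X'] [T2Space X'] [ExtremallyDisconnected X']
        [TopologicalSpace X''] [CompactSpace X''] [T2Space X''] [ExtremallyDisconnected X'']
        (p : X' → X) (q : X'' → X),
        Continuous p → Function.Surjective p → (∀ E : Set X', IsClosed E → E ≠ Set.univ → p '' E ≠ Set.univ) →
        Continuous q → Function.Surjective q → (∀ E : Set X'', IsClosed E → E ≠ Set.univ → q '' E ≠ Set.univ) →
        ∃ h : X' ≃ₜ X'', q ∘ h = p) := by
  refine ⟨exists_cover X, ?_⟩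
  intro X' X'' _ _ _ _ _ _ _ _ p q hpc hps hpirr hqc hqs hqirr
  have hP' : CompactT2.Projective X' := CompactT2.ExtremallyDisconnected.projective
  have hP'' : CompactT2.Projective X'' := CompactT2.ExtremallyDisconnected.projective
  obtain ⟨h, hhc, hh⟩ := hP' hpc hqc hqs
  obtain ⟨h', hh'c, hh'⟩ := hP'' hqc hpc hps
  have h1 : h' ∘ h = id := by
    apply rigid p hps hpirr _ (hh'c.comp hhc)
    rw [← Function.comp_assoc, hh', hh]
  have h2 : h ∘ h' = id := by
    apply rigid q hqs hqirr _ (hhc.comp hh'c)
    rw [← Function.comp_assoc, hh, hh']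
  refine ⟨⟨⟨h, h', fun x => congrFun h1 x, fun x => congrFun h2 x⟩, hhc, hh'c⟩, ?_⟩
  exact hh

end Groth.Agent.S7556
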