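import Groth.Statements.S7557
import Mathlib.Topology.Algebra.Ring.Basic
import Mathlib.Topology.Category.TopCat.Limits.Basic
import Mathlib.Algebra.Category.Ring.Limits

set_option autoImplicit false
universe u
open CategoryTheory CategoryTheory.Limits
open PtTop

namespace Groth.Agent.S7557

section

variable {J : Type u} [Category.{u} J] (F : J ⥤ TopCommRingCat.{u})

/-- The subring of compatible families in the product. -/
def sectionsSubring : Subring (∀ j, F.obj j) where
  carrier := {x | ∀ {j j' : J} (f : j ⟶ j'), (F.map f).val (x j) = x j'}
  mul_mem' := by
    intro a b ha hb j j' f
    simp only [Pi.mul_apply, map_mul]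
    rw [ha f, hb f]
  one_mem' := by
    intro j j' f
    simp
  add_mem' := by
    intro a b ha hb j j' f
    simp only [Pi.add_apply, map_add]
    rw [ha f, hb f]
  zero_mem' := by
    intro j j' f
    simp
  neg_mem' := by
    intro a ha j j' f
    simp only [Pi.neg_apply, map_neg]
    rw [ha f]

/-- The limit object. -/
def limitObj : TopCommRingCat.{u} := TopCommRingCat.of (sectionsSubring F)

/-- The limit cone. -/
def limitCone : Cone F where
  pt := limitObj F
  π :=
    { app := fun j => ⟨(Pi.evalRingHom (fun j => F.obj j) j).comp (sectionsSubring F).subtype,
        (continuous_apply j).comp continuous_subtype_val⟩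
      naturality := fun j j' f => by
        apply Subtype.ext
        ext x
        exact (x.2 f).symm }

/-- The limit cone is a limit. -/
def limitConeIsLimit : IsLimit (limitCone F) where
  lift s :=
    ⟨{ toFun := fun x => ⟨fun j => (s.π.app j).val x, fun {j j'} f => by
          have := congrArg (fun g => g.val x) (s.w f)
          exact this⟩
       map_one' := by
        apply Subtype.ext
        funext j
        exact map_one (s.π.app j).val
       map_mul' := fun a b => by
        apply Subtype.ext
        funext j
        exact map_mul (s.π.app j).val a b
       map_zero' := by
        apply Subtype.ext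
        funext j
        exact map_zero (s.π.app j).val
       map_add' := fun a b => by
        apply Subtype.ext
        funext j
        exact map_add (s.π.app j).val a b },
      Continuous.subtype_mk (continuous_pi (fun j => (s.π.app j).2)) _⟩
  fac s j := by
    apply Subtype.ext
    ext x
    rfl
  uniq s m hm := by
    apply Subtype.ext
    ext x
    apply Subtype.ext
    funext j
    have := congrArg (fun g => g.val x) (hm j)
    exact this

end

section

variable {J : Type u} [Category.{u} J] (F : J ⥤ TopCommRingCat.{u})

/-- The image of the limit cone in `TopCat` is a limit cone. -/
def isLimitTop : IsLimit ((forget₂ TopCommRingCat.{u} TopCat.{u}).mapCone (limitCone F)) where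
  lift s := TopCat.ofHom
    ⟨fun x => ⟨fun j => (s.π.app j) x, fun {j j'} f => by
        have := ConcreteCategory.congr_hom (s.w f) x
        exact this⟩,
      Continuous.subtype_mk (continuous_pi (fun j => (s.π.app j).hom.continuous)) _⟩
  fac s j := by
    ext x
    rfl
  uniq s m hm := by
    ext x
    apply Subtype.ext
    funext j
    have := ConcreteCategory.congr_hom (hm j) x
    exact this

/-- The image of the limit cone in `CommRingCat` is a limit cone. -/
def isLimitRing :
    IsLimit ((forget₂ TopCommRingCat.{u} CommRingCat.{u}).mapCone (limitCone F)) where
  lift s := CommRingCat.ofHom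
    { toFun := fun x => ⟨fun j => (s.π.app j) x, fun {j j'} f => by
          have := ConcreteCategory.congr_hom (s.w f) x
          exact this⟩
      map_one' := by
        apply Subtype.ext
        funext j
        exact map_one (s.π.app j).hom
      map_mul' := fun a b => by
        apply Subtype.ext
        funext j
        exact map_mul (s.π.app j).hom a b
      map_zero' := by
        apply Subtype.ext
        funext j
        exact map_zero (s.π.app j).hom
      map_add' := fun a b => by
        apply Subtype.ext
        funext j
        exact map_add (s.π.app j).hom a b }
  fac s j := by
    ext x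
    rfl
  uniq s m hm := by
    ext x
    apply Subtype.ext
    funext j
    have := ConcreteCategory.congr_hom (hm j) x
    exact this

end

/-- The category of topological rings (commutative, with continuous ring homomorphisms) has limits, and
limits commute with the forgetful functors to topological spaces and to rings. -/
theorem result :
    HasLimits TopCommRingCat.{u} ∧
    PreservesLimits (forget₂ TopCommRingCat.{u} TopCat.{u}) ∧
    PreservesLimits (forget₂ TopCommRingCat.{u} CommRingCat.{u}) := by
  refine ⟨⟨fun J _ => ⟨fun F => HasLimit.mk ⟨limitCone F, limitConeIsLimit F⟩⟩⟩, ?_, ?_⟩
  · exact ⟨fun {J} _ => ⟨fun {F} =>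
      preservesLimit_of_preserves_limit_cone (limitConeIsLimit F) (isLimitTop F)⟩⟩
  · exact ⟨fun {J} _ => ⟨fun {F} =>
      preservesLimit_of_preserves_limit_cone (limitConeIsLimit F) (isLimitRing F)⟩⟩

end Groth.Agent.S7557
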