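import Groth.Statements.S7558
import Mathlib.Topology.Algebra.Ring.Basic
import Mathlib.Algebra.Category.Ring.Colimits
import Mathlib.Topology.Algebra.Group.Basic

set_option autoImplicit false
universe u
open CategoryTheory CategoryTheory.Limits
open PtTop

namespace Groth.Agent.S7558

/-- The ring topology induced by a ring homomorphism into a topological ring. -/
def inducedRingTopology {R T : Type u} [Ring R] [Ring T] [τ : TopologicalSpace T]
    [IsTopologicalRing T] (g : R →+* T) : RingTopology R :=
  letI : TopologicalSpace R := TopologicalSpace.induced g τ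
  haveI h1 : ContinuousAdd R := continuousAdd_induced g
  haveI h2 : ContinuousMul R := continuousMul_induced g
  haveI h3 : ContinuousNeg R := ContinuousNeg.induced g
  { toTopologicalSpace := TopologicalSpace.induced g τ
    toIsTopologicalRing := { } }

noncomputable section

open Topology

variable {J : Type u} [Category.{u} J] (F : J ⥤ TopCommRingCat.{u})

/-- The set of ring topologies on the colimit ring making all coprojections continuous. -/
def topSet : Set (RingTopology
    ↑(colimit (F ⋙ forget₂ TopCommRingCat.{u} CommRingCat.{u}))) :=
  {b | ∀ j, Continuous[(F.obj j).isTopologicalSpace, b.toTopologicalSpace]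
    (colimit.ι (F ⋙ forget₂ TopCommRingCat.{u} CommRingCat.{u}) j).hom}

/-- The colimit object. -/
def colimObj : TopCommRingCat.{u} :=
  @TopCommRingCat.of ↑(colimit (F ⋙ forget₂ TopCommRingCat.{u} CommRingCat.{u})) _
    (sInf (topSet F)).toTopologicalSpace (sInf (topSet F)).toIsTopologicalRing

theorem continuous_ι (j : J) :
    Continuous[(F.obj j).isTopologicalSpace, (sInf (topSet F)).toTopologicalSpace]
      (colimit.ι (F ⋙ forget₂ TopCommRingCat.{u} CommRingCat.{u}) j).hom :=
  continuous_sInf_rng.2 (Set.forall_mem_image.2 (fun _ hb => hb j))

/-- The colimit cocone. -/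
def colimCocone : Cocone F where
  pt := colimObj F
  ι :=
    { app := fun j =>
        ⟨(colimit.ι (F ⋙ forget₂ TopCommRingCat.{u} CommRingCat.{u}) j).hom, continuous_ι F j⟩
      naturality := fun j j' f => by
        apply Subtype.ext
        have := congrArg CommRingCat.Hom.hom
          (colimit.w (F ⋙ forget₂ TopCommRingCat.{u} CommRingCat.{u}) f)
        exact this }

end

noncomputable section

open Topology

variable {J : Type u} [Category.{u} J] (F : J ⥤ TopCommRingCat.{u})

/-- The underlying ring homomorphism of the descent map. -/
def descHom (s : Cocone F) :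
    ↑(colimit (F ⋙ forget₂ TopCommRingCat.{u} CommRingCat.{u})) →+* s.pt :=
  (colimit.desc (F ⋙ forget₂ TopCommRingCat.{u} CommRingCat.{u})
    ((forget₂ TopCommRingCat.{u} CommRingCat.{u}).mapCocone s)).hom

theorem descHom_comp (s : Cocone F) (j : J) :
    (descHom F s).comp (colimit.ι (F ⋙ forget₂ TopCommRingCat.{u} CommRingCat.{u}) j).hom =
      (s.ι.app j).val :=
  congrArg CommRingCat.Hom.hom
    (colimit.ι_desc ((forget₂ TopCommRingCat.{u} CommRingCat.{u}).mapCocone s) j)

theorem continuous_desc (s : Cocone F) :
    Continuous[(sInf (topSet F)).toTopologicalSpace, s.pt.isTopologicalSpace]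
      (descHom F s) := by
  rw [continuous_iff_le_induced]
  have hmem : inducedRingTopology (T := s.pt) (descHom F s) ∈ topSet F := by
    intro j
    change Continuous[(F.obj j).isTopologicalSpace, TopologicalSpace.induced _ _] _
    rw [continuous_induced_rng]
    exact (s.ι.app j).2.congr
      (fun x => (congrArg (fun g => g x) (descHom_comp F s j)).symm)
  have h : sInf (topSet F) ≤ inducedRingTopology (T := s.pt) (descHom F s) := sInf_le hmem
  exact h

/-- The colimit cocone is a colimit. -/
def colimCoconeIsColimit : IsColimit (colimCocone F) where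
  desc s := ⟨descHom F s, continuous_desc F s⟩
  fac s j := by
    apply Subtype.ext
    exact descHom_comp F s j
  uniq s m hm := by
    apply Subtype.ext
    have h := (colimit.isColimit (F ⋙ forget₂ TopCommRingCat.{u} CommRingCat.{u})).uniq
      ((forget₂ TopCommRingCat.{u} CommRingCat.{u}).mapCocone s) (CommRingCat.ofHom m.val)
      (fun j => by
        ext x
        have := congrArg (fun g => g.val x) (hm j)
        exact this)
    exact congrArg CommRingCat.Hom.hom h

/-- The image of the colimit cocone in `CommRingCat` is a colimit cocone. -/
def isColimitRing :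
    IsColimit ((forget₂ TopCommRingCat.{u} CommRingCat.{u}).mapCocone (colimCocone F)) :=
  (colimit.isColimit (F ⋙ forget₂ TopCommRingCat.{u} CommRingCat.{u})).ofIsoColimit
    (Cocone.ext (Iso.refl _) (fun j => by
      ext x
      rfl))

end

/-- The category of topological rings (commutative, with continuous ring homomorphisms) has colimits,
and colimits commute with the forgetful functor to rings. -/
theorem result :
    HasColimits TopCommRingCat.{u} ∧
    PreservesColimits (forget₂ TopCommRingCat.{u} CommRingCat.{u}) := by
  refine ⟨⟨fun J _ => ⟨fun F => HasColimit.mk ⟨colimCocone F, colimCoconeIsColimit F⟩⟩⟩, ?_⟩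
  exact ⟨fun {J} _ => ⟨fun {F} =>
    preservesColimit_of_preserves_colimit_cocone (colimCoconeIsColimit F) (isColimitRing F)⟩⟩

end Groth.Agent.S7558
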