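import Groth.Statements.S7560
import Groth.Agent.Lib.Helper68.Strat

set_option autoImplicit false
universe u
open ConstrTop

namespace Groth.Agent.S7560

theorem exists_family_of_constructible {X : Type u} [TopologicalSpace X] {s : Set X}
    (hs : Topology.IsConstructible s) :
    ∃ (J : Type) (_ : Fintype J) (W : J → Set X), (∀ a, IsOpen (W a) ∧ IsRetrocompact (W a)) ∧
      ∀ x y, (∀ a, x ∈ W a ↔ y ∈ W a) → (x ∈ s ↔ y ∈ s) := by
  induction hs using Topology.IsConstructible.empty_union_induction with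
  | open_retrocompact U hUo hUr =>
    exact ⟨Unit, inferInstance, fun _ => U, fun _ => ⟨hUo, hUr⟩, fun x y h => h ()⟩
  | union s hs t ht ihs iht =>
    obtain ⟨J1, hJ1, W1, hW1, h1⟩ := ihs
    obtain ⟨J2, hJ2, W2, hW2, h2⟩ := iht
    refine ⟨J1 ⊕ J2, inferInstance, Sum.elim W1 W2, ?_, ?_⟩
    · rintro (a | a)
      · exact hW1 a
      · exact hW2 a
    · intro x y hxy
      have e1 := h1 x y (fun a => hxy (Sum.inl a))
      have e2 := h2 x y (fun a => hxy (Sum.inr a))
      simp only [Set.mem_union, e1, e2]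
  | compl s hs ih =>
    obtain ⟨J1, hJ1, W1, hW1, h1⟩ := ih
    refine ⟨J1, hJ1, W1, hW1, ?_⟩
    intro x y hxy
    simp only [Set.mem_compl_iff, h1 x y hxy]

/-- Let X be a topological space written as a finite union X = T_1 ∪ … ∪ T_n of constructible subsets.
Then there is a finite stratification X = ∐ S_i (pairwise disjoint locally closed strata indexed by
a finite partially ordered set, with closure(S_j) ⊆ ⋃_{i ≤ j} S_i) whose strata are constructible
and such that every T_k is a union of strata. -/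
theorem result {X : Type u} [TopologicalSpace X]
    {n : ℕ} (T : Fin n → Set X) (hT : ∀ k, Topology.IsConstructible (T k)) (hcov : ⋃ k, T k = Set.univ) :
    ∃ (I : Type) (_ : Fintype I) (_ : PartialOrder I) (S : I → Set X),
      (∀ i, IsLocallyClosed (S i) ∧ Topology.IsConstructible (S i)) ∧ (⋃ i, S i = Set.univ) ∧
      (∀ i j, i ≠ j → Disjoint (S i) (S j)) ∧
      (∀ j, closure (S j) ⊆ ⋃ i ∈ Set.Iic j, S i) ∧
      (∀ i k, (S i ∩ T k).Nonempty → S i ⊆ T k) := by
  classical
  choose J hJ W hW hdet using fun k => exists_family_of_constructible (hT k)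
  haveI : ∀ k, Fintype (J k) := hJ
  have hWo : ∀ a : (Σ k, J k), IsOpen (W a.1 a.2) := fun a => (hW a.1 a.2).1
  have hWc : ∀ a : (Σ k, J k), Topology.IsConstructible (W a.1 a.2) :=
    fun a => (hW a.1 a.2).2.isConstructible (hW a.1 a.2).1
  refine ⟨Finset (Σ k, J k), inferInstance, inferInstance,
    Groth.Agent.Lib.Helper68.atom (fun a : (Σ k, J k) => W a.1 a.2),
    fun A => ⟨Groth.Agent.Lib.Helper68.atom_isLocallyClosed _ hWo A,
      Groth.Agent.Lib.Helper68.atom_isConstructible _ hWc A⟩,
    Groth.Agent.Lib.Helper68.atom_cover _,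
    Groth.Agent.Lib.Helper68.atom_disjoint _,
    Groth.Agent.Lib.Helper68.atom_closure _ hWo, ?_⟩
  intro A k hne
  apply Groth.Agent.Lib.Helper68.atom_subset_of_determined _ (T k) _ A hne
  intro x y hxy hx
  exact (hdet k x y (fun a => hxy ⟨k, a⟩)).mp hx

end Groth.Agent.S7560
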