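import Groth.Statements.S7564
import Groth.Agent.Lib.Helper68.Topo

set_option autoImplicit false
universe u
open PtTop

namespace Groth.Agent.S7564

/-- For a continuous surjection f : X → Y, if X has finitely many irreducible components, say n of them,
then Y has at most n irreducible components. -/
theorem result {X Y : Type u} [TopologicalSpace X] [TopologicalSpace Y]
    (f : X → Y) (hf : Continuous f) (hs : Function.Surjective f) (hfin : (irreducibleComponents X).Finite) :
    (irreducibleComponents Y).Finite ∧ (irreducibleComponents Y).ncard ≤ (irreducibleComponents X).ncard := by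
  have hsub : irreducibleComponents Y ⊆
      (fun C : Set X => closure (f '' C)) '' irreducibleComponents X := by
    intro W hW
    haveI : Finite ↥(irreducibleComponents X) := hfin.to_subtype
    obtain ⟨i, hi⟩ := Groth.Agent.Lib.Helper68.irreducible_subset_of_finite_iUnion hW.1
      (fun i : ↥(irreducibleComponents X) => closure (f '' i.1)) (fun i => isClosed_closure)
      (by
        intro y _
        obtain ⟨x, rfl⟩ := hs y
        exact Set.mem_iUnion.mpr ⟨⟨irreducibleComponent x,
          irreducibleComponent_mem_irreducibleComponents x⟩,
          subset_closure ⟨x, mem_irreducibleComponent, rfl⟩⟩)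
    refine ⟨i.1, i.2, ?_⟩
    have hirr : IsIrreducible (closure (f '' i.1)) :=
      (i.2.1.image f hf.continuousOn).closure
    exact Set.Subset.antisymm (hW.2 hirr hi) hi
  refine ⟨(hfin.image _).subset hsub, ?_⟩
  exact (Set.ncard_le_ncard hsub (hfin.image _)).trans (Set.ncard_image_le hfin)

end Groth.Agent.S7564
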