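import Groth.Statements.S7566
-- import your own Groth.Agent.* helpers here

set_option autoImplicit false
universe u
open PtTop

namespace Groth.Agent.S7566

/-- Let X be a quasi-compact topological space whose quasi-compact opens form a basis, any two of them
meeting in a quasi-compact set. Then for every x ∈ X the connected component of x equals the
intersection of every clopen subset of X that contains x. -/
theorem result {X : Type u} [TopologicalSpace X]
    [CompactSpace X] [PrespectralSpace X] [QuasiSeparatedSpace X] (x : X) :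
    connectedComponent x = ⋂₀ {Z : Set X | IsClopen Z ∧ x ∈ Z} := by
  classical
  set S : Set X := ⋂₀ {Z : Set X | IsClopen Z ∧ x ∈ Z} with hS
  have hxS : x ∈ S := Set.mem_sInter.mpr fun Z hZ => hZ.2
  apply Set.Subset.antisymm
  · exact Set.subset_sInter fun Z hZ => hZ.1.connectedComponent_subset hZ.2
  refine IsPreconnected.subset_connectedComponent ?_ hxS
  have hSc : IsClosed S := isClosed_sInter fun Z hZ => hZ.1.1
  rw [isPreconnected_iff_subset_of_fully_disjoint_closed hSc]
  intro a b ha hb hab ab_disj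
  have hab' : a ∩ b = ∅ := Set.disjoint_iff_inter_eq_empty.mp ab_disj
  obtain ⟨U, hUc, hUo, haU, hUb⟩ := PrespectralSpace.exists_isCompact_and_isOpen_between
    ha.isCompact hb.isOpen_compl (fun y hy => Set.disjoint_left.mp ab_disj hy)
  obtain ⟨V, hVc, hVo, hbV, hVa⟩ := PrespectralSpace.exists_isCompact_and_isOpen_between
    hb.isCompact ha.isOpen_compl (fun y hy => Set.disjoint_right.mp ab_disj hy)
  have hUVc : IsCompact (U ∩ V) := QuasiSeparatedSpace.inter_isCompact U V hUo hUc hVo hVc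
  set K : Set X := (U ∩ V) ∪ (U ∪ V)ᶜ with hK
  have hKc : IsCompact K := hUVc.union (hUo.union hVo).isClosed_compl.isCompact
  have hKS : K ∩ ⋂ i : {Z : Set X // IsClopen Z ∧ x ∈ Z}, (i : Set X) = ∅ := by
    rw [Set.eq_empty_iff_forall_notMem]
    rintro y ⟨hyK, hyS⟩
    have hyS' : y ∈ S := by
      rw [hS, Set.mem_sInter]
      intro Z hZ
      exact Set.mem_iInter.mp hyS ⟨Z, hZ⟩
    rcases hab hyS' with hya | hyb
    · rcases hyK with ⟨-, hyV⟩ | hyn
      · exact hVa hyV hya
      · exact hyn (Or.inl (haU hya))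
    · rcases hyK with ⟨hyU, -⟩ | hyn
      · exact hUb hyU hyb
      · exact hyn (Or.inr (hbV hyb))
  obtain ⟨fin, hfin⟩ := hKc.elim_finite_subfamily_closed _
    (fun i : {Z : Set X // IsClopen Z ∧ x ∈ Z} => i.2.1.1) hKS
  set Z : Set X := ⋂ i ∈ fin, (i : Set X) with hZ
  have hZclopen : IsClopen Z := isClopen_biInter_finset fun i _ => i.2.1
  have hxZ : x ∈ Z := Set.mem_iInter₂.mpr fun i _ => i.2.2
  have hZK : ∀ y ∈ Z, y ∉ K := by
    intro y hyZ hyK
    have : y ∈ K ∩ Z := ⟨hyK, hyZ⟩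
    rw [hfin] at this
    exact this
  have hZUV : Z ⊆ U ∪ V := by
    intro y hyZ
    by_contra hcon
    exact hZK y hyZ (Or.inr hcon)
  have hZdisj : ∀ y ∈ Z, y ∈ U → y ∉ V := fun y hyZ hyU hyV => hZK y hyZ (Or.inl ⟨hyU, hyV⟩)
  have hZU : IsClopen (Z ∩ U) := by
    refine ⟨?_, hZclopen.2.inter hUo⟩
    have : Z ∩ U = Z ∩ Vᶜ := by
      ext y
      constructor
      · rintro ⟨hyZ, hyU⟩
        exact ⟨hyZ, hZdisj y hyZ hyU⟩
      · rintro ⟨hyZ, hyV⟩
        exact ⟨hyZ, (hZUV hyZ).resolve_right hyV⟩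
    rw [this]
    exact hZclopen.1.inter hVo.isClosed_compl
  have hZV : IsClopen (Z ∩ V) := by
    refine ⟨?_, hZclopen.2.inter hVo⟩
    have : Z ∩ V = Z ∩ Uᶜ := by
      ext y
      constructor
      · rintro ⟨hyZ, hyV⟩
        exact ⟨hyZ, fun hyU => hZdisj y hyZ hyU hyV⟩
      · rintro ⟨hyZ, hyU⟩
        exact ⟨hyZ, (hZUV hyZ).resolve_left hyU⟩
    rw [this]
    exact hZclopen.1.inter hUo.isClosed_compl
  rcases hZUV hxZ with hxU | hxV
  · left
    have h1 : S ⊆ Z ∩ U := Set.sInter_subset_of_mem ⟨hZU, hxZ, hxU⟩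
    intro y hy
    rcases hab hy with hya | hyb
    · exact hya
    · exact absurd hyb (hUb (h1 hy).2)
  · right
    have h1 : S ⊆ Z ∩ V := Set.sInter_subset_of_mem ⟨hZV, hxZ, hxV⟩
    intro y hy
    rcases hab hy with hya | hyb
    · exact absurd hya (hVa (h1 hy).2)
    · exact hyb

end Groth.Agent.S7566
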