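import Groth.Statements.S7567
import Groth.Agent.S7566
-- import your own Groth.Agent.* helpers here

set_option autoImplicit false
universe u
open PtTop

namespace Groth.Agent.S7567

/-- Let X be a quasi-compact topological space whose quasi-compact opens form a basis, any two of them
meeting in a quasi-compact set. For a subset T ⊆ X these two conditions are equivalent: (a) T can be
written as an intersection of clopen subsets of X; (b) T is closed and is a union of connected
components of X. -/
theorem result {X : Type u} [TopologicalSpace X]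
    [CompactSpace X] [PrespectralSpace X] [QuasiSeparatedSpace X] (T : Set X) :
    (∃ S : Set (Set X), (∀ Z ∈ S, IsClopen Z) ∧ T = ⋂₀ S) ↔
      (IsClosed T ∧ ∀ x ∈ T, connectedComponent x ⊆ T) := by
  classical
  constructor
  · rintro ⟨S, hS, rfl⟩
    refine ⟨isClosed_sInter fun Z hZ => (hS Z hZ).1, fun x hx => ?_⟩
    exact Set.subset_sInter fun Z hZ => (hS Z hZ).connectedComponent_subset (hx Z hZ)
  · rintro ⟨hT, hcomp⟩
    refine ⟨{Z | IsClopen Z ∧ T ⊆ Z}, fun Z hZ => hZ.1, ?_⟩
    apply Set.Subset.antisymm
    · exact Set.subset_sInter fun Z hZ => hZ.2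
    · intro y hy
      by_contra hyT
      have hdisj : T ∩ ⋂ i : {Z : Set X // IsClopen Z ∧ y ∈ Z}, (i : Set X) = ∅ := by
        rw [Set.eq_empty_iff_forall_notMem]
        rintro z ⟨hzT, hz⟩
        have hzc : z ∈ connectedComponent y := by
          rw [Groth.Agent.S7566.result y, Set.mem_sInter]
          intro Z hZ
          exact Set.mem_iInter.mp hz ⟨Z, hZ⟩
        have : y ∈ connectedComponent z := by
          rw [← connectedComponent_eq hzc]
          exact mem_connectedComponent
        exact hyT (hcomp z hzT this)
      obtain ⟨fin, hfin⟩ := hT.isCompact.elim_finite_subfamily_closed _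
        (fun i : {Z : Set X // IsClopen Z ∧ y ∈ Z} => i.2.1.1) hdisj
      set Z : Set X := ⋂ i ∈ fin, (i : Set X) with hZ
      have hZclopen : IsClopen Z := isClopen_biInter_finset fun i _ => i.2.1
      have hyZ : y ∈ Z := Set.mem_iInter₂.mpr fun i _ => i.2.2
      have hTZ : T ⊆ Zᶜ := by
        intro z hzT hzZ
        have : z ∈ T ∩ Z := ⟨hzT, hzZ⟩
        rw [hfin] at this
        exact this
      have := Set.mem_sInter.mp hy Zᶜ ⟨hZclopen.compl, hTZ⟩
      exact this hyZ

end Groth.Agent.S7567
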