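import Groth.Statements.S7568
-- import your own Groth.Agent.* helpers here
import Groth.Agent.Lib.Helper58.Shrink

set_option autoImplicit false
universe u
open PtTop

namespace Groth.Agent.S7568

/-- Let X be a Hausdorff quasi-compact space, X = ⋃ U_i an open covering, p ≥ 0 an integer, and for
every (p+1)-tuple (i_0, …, i_p) an open covering of U_{i_0} ∩ … ∩ U_{i_p} by opens W_{i_0…i_p,k}.
Then there are an open covering X = ⋃_{j ∈ J} V_j and a map α : J → I with closure(V_j) ⊆ U_{α(j)}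
such that each V_{j_0} ∩ … ∩ V_{j_p} is contained in W_{α(j_0)…α(j_p),k} for some k. The published
statement allows a covering of an empty intersection to have no members; this row requires every
covering W_{i_0…i_p} to have at least one member (possibly empty), without which the conclusion
fails. -/
theorem result {X : Type u} [TopologicalSpace X] [CompactSpace X] [T2Space X]
    {ι : Type u} (U : ι → Set X) (hU : ∀ i, IsOpen (U i)) (hcov : ⋃ i, U i = Set.univ) (p : ℕ)
    (W : (Fin (p + 1) → ι) → Set (Set X)) (hWo : ∀ t, ∀ w ∈ W t, IsOpen w)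
    (hWc : ∀ t, ⋃₀ W t = ⋂ l, U (t l)) (hWne : ∀ t, (W t).Nonempty) :
    ∃ (J : Type u) (V : J → Set X) (α : J → ι), (∀ j, IsOpen (V j)) ∧ (⋃ j, V j = Set.univ) ∧
      (∀ j, closure (V j) ⊆ U (α j)) ∧
      (∀ t : Fin (p + 1) → J, ∃ w ∈ W (α ∘ t), (⋂ l, V (t l)) ⊆ w) := by
  classical
  have h : Groth.Agent.Lib.Helper58.Shrink.SepOn (Set.univ : Set X) :=
    Groth.Agent.Lib.Helper58.Shrink.sepOn_of_t2 _
  have hZ : IsCompact (Set.univ : Set X) := isCompact_univ
  obtain ⟨s, hs⟩ := hZ.elim_finite_subcover U hU hcov.ge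
  obtain ⟨C, hCc, hCU, hCs, hCcov⟩ := h.exists_compact_shrink hZ s U hU hs
  -- `N' t` open with `⋂ C (t l) ⊆ N' t`, `closure (N' t) ⊆ ⋂ U (t l)`
  have hN : ∀ t : Fin (p + 1) → ι, ∃ N' : Set X, IsOpen N' ∧ (⋂ l, C (t l)) ⊆ N' ∧
      closure N' ⊆ ⋂ l, U (t l) := by
    intro t
    refine normal_exists_closure_subset (isClosed_iInter fun l => (hCc (t l)).isClosed)
      (isOpen_iInter_of_finite fun l => hU (t l)) ?_
    exact Set.iInter_mono fun l => (hCU (t l)).trans Set.inter_subset_left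
  choose N' hN'o hCN' hN'U using hN
  have hO : ∀ t : Fin (p + 1) → ι, ∃ O : Fin (p + 1) → Set X, (∀ l, IsOpen (O l)) ∧
      (∀ l, C (t l) ⊆ O l) ∧ (⋂ l, O l) ⊆ N' t := fun t =>
    h.exists_open_iInter_subset hZ (fun l => C (t l)) (fun l => hCc _)
      (fun l => Set.subset_univ _) (hN'o t) (hCN' t)
  choose O hOo hCO hON using hO
  let T : Finset (Fin (p + 1) → ι) := Fintype.piFinset (fun _ => s)
  let G : ι → Set X := fun i => ⋂ t ∈ T, ⋂ l : Fin (p + 1), {x | t l = i → x ∈ O t l}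
  have hGo : ∀ i, IsOpen (G i) := by
    intro i
    refine isOpen_biInter_finset (fun t _ => isOpen_iInter_of_finite (fun l => ?_))
    by_cases htl : t l = i
    · simpa [htl] using hOo t l
    · simp [htl]
  have hCG : ∀ i, C i ⊆ G i := by
    intro i x hx
    simp only [G, Set.mem_iInter, Set.mem_ofPred_eq]
    intro t _ l htl
    exact hCO t l (htl ▸ hx)
  -- choice of index
  have hα : ∀ x : X, ∃ i, i ∈ s ∧ x ∈ C i := by
    intro x
    obtain ⟨i, his, hx⟩ := Set.mem_iUnion₂.1 (hCcov (Set.mem_univ x))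
    exact ⟨i, his, hx⟩
  choose α hαs hαC using hα
  -- regular neighbourhoods
  have hR : ∀ x : X, ∃ R : Set X, IsOpen R ∧ {x} ⊆ R ∧ closure R ⊆ U (α x) := fun x =>
    normal_exists_closure_subset isClosed_singleton (hU (α x))
      (Set.singleton_subset_iff.2 ((hCU _) (hαC x)).1)
  choose R hRo hxR hRU using hR
  -- chosen members of `W t`
  have hw : ∀ (x : X) (t : Fin (p + 1) → ι), x ∈ closure (N' t) → ∃ w, w ∈ W t ∧ x ∈ w := by
    intro x t hx
    have : x ∈ ⋃₀ W t := by
      rw [hWc t]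
      exact hN'U t hx
    obtain ⟨w, hwW, hxw⟩ := this
    exact ⟨w, hwW, hxw⟩
  choose w hwW hxw using hw
  let Hx : X → (Fin (p + 1) → ι) → Set X := fun x t =>
    if hx : x ∈ closure (N' t) then w x t hx else (closure (N' t))ᶜ
  have hHxo : ∀ x t, IsOpen (Hx x t) := by
    intro x t
    by_cases hx : x ∈ closure (N' t)
    · simp only [Hx, hx, dif_pos]
      exact hWo t _ (hwW x t hx)
    · simp only [Hx, hx, dif_neg, not_false_eq_true]
      exact isClosed_closure.isOpen_compl
  have hxHx : ∀ x t, x ∈ Hx x t := by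
    intro x t
    by_cases hx : x ∈ closure (N' t)
    · simp only [Hx, hx, dif_pos]
      exact hxw x t hx
    · simp only [Hx, hx, dif_neg, not_false_eq_true]
      exact hx
  refine ⟨X, fun x => R x ∩ G (α x) ∩ ⋂ t ∈ T, Hx x t, α, ?_, ?_, ?_, ?_⟩
  · intro x
    exact ((hRo x).inter (hGo _)).inter (isOpen_biInter_finset fun t _ => hHxo x t)
  · refine Set.eq_univ_of_forall fun x => Set.mem_iUnion.2 ⟨x, ⟨⟨hxR x rfl, hCG _ (hαC x)⟩, ?_⟩⟩
    exact Set.mem_iInter₂.2 fun t _ => hxHx x t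
  · intro x
    exact (closure_mono (Set.inter_subset_left.trans Set.inter_subset_left)).trans (hRU x)
  · intro τ
    have htT : (α ∘ τ) ∈ T := Fintype.mem_piFinset.2 fun l => hαs (τ l)
    by_cases hne : (⋂ l, (fun x => R x ∩ G (α x) ∩ ⋂ t ∈ T, Hx x t) (τ l)).Nonempty
    · obtain ⟨z, hz⟩ := hne
      rw [Set.mem_iInter] at hz
      have hzN : z ∈ N' (α ∘ τ) := by
        apply hON (α ∘ τ)
        rw [Set.mem_iInter]
        intro l
        have hzG := (hz l).1.2
        simp only [G, Set.mem_iInter, Set.mem_ofPred_eq] at hzG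
        exact hzG (α ∘ τ) htT l rfl
      have hzH : z ∈ Hx (τ 0) (α ∘ τ) := Set.mem_iInter₂.1 (hz 0).2 (α ∘ τ) htT
      by_cases hx : τ 0 ∈ closure (N' (α ∘ τ))
      · refine ⟨w (τ 0) (α ∘ τ) hx, hwW _ _ hx, ?_⟩
        intro y hy
        rw [Set.mem_iInter] at hy
        have hyH : y ∈ Hx (τ 0) (α ∘ τ) := Set.mem_iInter₂.1 (hy 0).2 (α ∘ τ) htT
        simpa only [Hx, hx, dif_pos] using hyH
      · exfalso
        simp only [Hx, hx, dif_neg, not_false_eq_true] at hzH
        exact hzH (subset_closure hzN)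
    · obtain ⟨w₀, hw₀⟩ := hWne (α ∘ τ)
      refine ⟨w₀, hw₀, ?_⟩
      rw [Set.not_nonempty_iff_eq_empty] at hne
      rw [hne]
      exact Set.empty_subset _

end Groth.Agent.S7568
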