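import Groth.Statements.S7569
-- import your own Groth.Agent.* helpers here
import Groth.Agent.Lib.Helper58.Shrink

set_option autoImplicit false
universe u
open PtTop

namespace Groth.Agent.S7569

/-- Let X be a Hausdorff, locally quasi-compact space and Z ⊆ X a quasi-compact subset. Let p ≥ 0, let
U_i ⊆ X be opens with Z ⊆ ⋃ U_i, and for every (p+1)-tuple (i_0, …, i_p) let W_{i_0…i_p} ⊆ U_{i_0} ∩
… ∩ U_{i_p} be an open with W_{i_0…i_p} ∩ Z = U_{i_0} ∩ … ∩ U_{i_p} ∩ Z. Then there are opens V_i ⊆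
X with Z ⊆ ⋃ V_i, closure(V_i) ⊆ U_i for all i, and V_{i_0} ∩ … ∩ V_{i_p} ⊆ W_{i_0…i_p} for all
(p+1)-tuples. -/
theorem result {X : Type u} [TopologicalSpace X]
    [T2Space X] [LocallyCompactSpace X] (Z : Set X) (hZ : IsCompact Z)
    {ι : Type u} (U : ι → Set X) (hU : ∀ i, IsOpen (U i)) (hcov : Z ⊆ ⋃ i, U i) (p : ℕ)
    (W : (Fin (p + 1) → ι) → Set X) (hWo : ∀ t, IsOpen (W t)) (hWU : ∀ t, W t ⊆ ⋂ l, U (t l))
    (hWZ : ∀ t, W t ∩ Z = (⋂ l, U (t l)) ∩ Z) :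
    ∃ V : ι → Set X, (∀ i, IsOpen (V i)) ∧ (Z ⊆ ⋃ i, V i) ∧ (∀ i, closure (V i) ⊆ U i) ∧
      (∀ t : Fin (p + 1) → ι, (⋂ l, V (t l)) ⊆ W t) := by
  have h : Groth.Agent.Lib.Helper58.Shrink.SepOn Z :=
    Groth.Agent.Lib.Helper58.Shrink.sepOn_of_t2 Z
  obtain ⟨C, V, hCc, hcovC, hCV, hVo, hVU, _, hVW⟩ := h.core hZ U hU hcov p W hWo hWZ
  have key : ∀ i, ∃ V' : Set X, IsOpen V' ∧ C i ⊆ V' ∧ closure V' ⊆ V i ∧
      IsCompact (closure V') := fun i =>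
    exists_open_between_and_isCompact_closure (hCc i) (hVo i) (hCV i)
  choose V' hV'o hCV' hV'cl _ using key
  refine ⟨V', hV'o, hcovC.trans (Set.iUnion_mono hCV'), fun i => (hV'cl i).trans (hVU i), ?_⟩
  intro t
  refine Set.Subset.trans (Set.iInter_mono fun l => ?_) (hVW t)
  exact subset_closure.trans (hV'cl (t l))

end Groth.Agent.S7569
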