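import Groth.Statements.S7571
import Mathlib.Topology.Category.TopCat.Limits.Cofiltered
-- import your own Groth.Agent.* helpers here

set_option autoImplicit false
universe u
open CategoryTheory CategoryTheory.Limits
open PtTop

namespace Groth.Agent.S7571


open TopologicalSpace in
theorem part_one {J : Type u} [SmallCategory J] [IsCofiltered J]
    (F : J ⥤ TopCat.{u}) (c : Cone F) (hc : IsLimit c) (W : Set c.pt) (hW : IsOpen W) :
    W = ⋃ s ∈ {s : (Σ j, Set (F.obj j)) | IsOpen s.2 ∧ c.π.app s.1 ⁻¹' s.2 ⊆ W},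
      c.π.app s.1 ⁻¹' s.2 := by
  have hB := TopCat.isTopologicalBasis_cofiltered_limit F c hc (fun j => {U | IsOpen U})
    (fun j => isTopologicalBasis_opens) (fun i => isOpen_univ)
    (fun i U1 U2 h1 h2 => IsOpen.inter h1 h2)
    (fun i j f V hV => (F.map f).hom.continuous.isOpen_preimage V hV)
  apply Set.Subset.antisymm
  · intro w hw
    obtain ⟨B, ⟨j, V, hV, rfl⟩, hwB, hBW⟩ := hB.exists_subset_of_mem_open hw hW
    exact Set.mem_iUnion₂.mpr ⟨⟨j, V⟩, ⟨hV, hBW⟩, hwB⟩
  · intro w hw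
    obtain ⟨s, hs, hws⟩ := Set.mem_iUnion₂.mp hw
    exact hs.2 hws

/-- Let j ↦ X_j be a diagram of topological spaces over a cofiltered category with limit X and
projections f_j. (1) Every open of X is a union of subsets of the form f_j⁻¹(U_j) with U_j ⊆ X_j
open. (2) Every quasi-compact open of X equals f_i⁻¹(U_i) for some i and some open U_i ⊆ X_i. -/
theorem result {J : Type u} [SmallCategory J] [IsCofiltered J]
    (F : J ⥤ TopCat.{u}) (c : Cone F) (hc : IsLimit c) :
    (∀ W : Set c.pt, IsOpen W →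
      ∃ S : Set (Σ j, Set (F.obj j)), (∀ s ∈ S, IsOpen s.2) ∧ W = ⋃ s ∈ S, c.π.app s.1 ⁻¹' s.2) ∧
    (∀ W : Set c.pt, IsOpen W → IsCompact W →
      ∃ (i : J) (Ui : Set (F.obj i)), IsOpen Ui ∧ W = c.π.app i ⁻¹' Ui) := by
  classical
  refine ⟨fun W hW => ?_, fun W hW hWc => ?_⟩
  · exact ⟨_, fun s hs => hs.1, part_one F c hc W hW⟩
  · have h1 := part_one F c hc W hW
    set S := {s : (Σ j, Set (F.obj j)) | IsOpen s.2 ∧ c.π.app s.1 ⁻¹' s.2 ⊆ W} with hS
    obtain ⟨b', hb'S, hb'fin, hb'cov⟩ := hWc.elim_finite_subcover_image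
      (b := S) (c := fun s => c.π.app s.1 ⁻¹' s.2)
      (fun s hs => (c.π.app s.1).hom.continuous.isOpen_preimage _ hs.1) h1.le
    obtain ⟨i, hi⟩ := IsCofiltered.inf_objs_exists (hb'fin.toFinset.image Sigma.fst)
    have hne : ∀ s ∈ b', Nonempty (i ⟶ s.1) := fun s hs =>
      hi (Finset.mem_image.mpr ⟨s, hb'fin.mem_toFinset.mpr hs, rfl⟩)
    refine ⟨i, ⋃ s ∈ b', ⋃ g : i ⟶ s.1, (F.map g) ⁻¹' s.2, ?_, ?_⟩
    · refine isOpen_biUnion fun s hs => isOpen_iUnion fun g => ?_
      exact (F.map g).hom.continuous.isOpen_preimage _ (hb'S hs).1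
    · have hcomp : ∀ (s : Σ j, Set (F.obj j)) (g : i ⟶ s.1) (w : c.pt),
          (F.map g) (c.π.app i w) = c.π.app s.1 w := by
        intro s g w
        rw [← c.w g]
        rfl
      apply Set.Subset.antisymm
      · intro w hw
        obtain ⟨s, hs, hws⟩ := Set.mem_iUnion₂.mp (hb'cov hw)
        obtain ⟨g⟩ := hne s hs
        refine Set.mem_iUnion₂.mpr ⟨s, hs, Set.mem_iUnion.mpr ⟨g, ?_⟩⟩
        show (F.map g) (c.π.app i w) ∈ s.2
        rw [hcomp]
        exact hws
      · intro w hw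
        obtain ⟨s, hs, hws⟩ := Set.mem_iUnion₂.mp hw
        obtain ⟨g, hg⟩ := Set.mem_iUnion.mp hws
        have : (F.map g) (c.π.app i w) ∈ s.2 := hg
        rw [hcomp] at this
        exact (hb'S hs).2 this

end Groth.Agent.S7571
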