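import Groth.Statements.S7573
import Groth.Agent.Lib.Helper26.ClosedEmbSh

set_option autoImplicit false
universe u
open CategoryTheory TopologicalSpace
open ShSp

namespace Groth.Agent.S7573

open Groth.Agent.Lib.Helper26.ClosedEmbSh

open Classical in
lemma isIso_unit_of_stalks_type {Z X : TopCat.{u}} (i : Z ⟶ X) (hi : Topology.IsClosedEmbedding i)
    (F : TopCat.Sheaf (Type u) X)
    (hF : ∀ x : X, x ∉ Set.range i → Nonempty (Unique (F.presheaf.stalk x))) :
    IsIso ((TopCat.Sheaf.pullbackPushforwardAdjunction (Type u) i).unit.app F) := by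
  have := push_full (Type u) (i := i) hi.toIsInducing
  have := push_faithful (Type u) (i := i) hi.toIsInducing
  let adj := TopCat.Sheaf.pullbackPushforwardAdjunction (Type u) i
  have : ∀ x : X, IsIso ((TopCat.Presheaf.stalkFunctor (Type u) x).map
      (adj.unit.app F).hom) := by
    intro x
    by_cases hx : x ∈ Set.range i
    · obtain ⟨z, rfl⟩ := hx
      apply isIso_stalk_of_sky_bijective
      intro M
      exact unit_precomp_bijective' adj F (skyscraperSheaf z M) _ (skyIso i z M)
    · obtain ⟨h1⟩ := hF x hx
      obtain ⟨h2⟩ := unique_stalk_push i hi ((TopCat.Sheaf.pullback _ i).obj F) x hx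
      rw [isIso_iff_bijective]
      constructor
      · intro a b _
        exact h1.instSubsingleton.elim a b
      · intro b
        exact ⟨h1.default, h2.instSubsingleton.elim _ _⟩
  exact TopCat.Presheaf.isIso_of_stalkFunctor_map_iso (adj.unit.app F)



/-- Let i : Z → X be the inclusion of a closed subset (a closed embedding). Then i_* : Sh(Z) → Sh(X) on
sheaves of sets is fully faithful, and its essential image consists exactly of the sheaves G whose
stalk G_x is a one-point set for every x ∈ X not in Z. -/
theorem result {Z X : TopCat.{u}} (i : Z ⟶ X) (hi : Topology.IsClosedEmbedding i) :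
    (TopCat.Sheaf.pushforward (Type u) i).Full ∧ (TopCat.Sheaf.pushforward (Type u) i).Faithful ∧
    ∀ G : X.Sheaf (Type u), (TopCat.Sheaf.pushforward (Type u) i).essImage G ↔
      ∀ x : X, x ∉ Set.range i → Nonempty (Unique (G.presheaf.stalk x)) := by
  refine ⟨push_full (Type u) (i := i) hi.toIsInducing,
    push_faithful (Type u) (i := i) hi.toIsInducing, fun G => ⟨?_, fun hG => ?_⟩⟩
  · rintro ⟨F, ⟨e⟩⟩ x hx
    obtain ⟨h⟩ := unique_stalk_push i hi F x hx
    let e' := ((TopCat.Sheaf.forget _ X ⋙ TopCat.Presheaf.stalkFunctor (Type u) x).mapIso e)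
    exact ⟨(e'.toEquiv.symm.unique (β := (((TopCat.Sheaf.pushforward (Type u) i).obj F).presheaf.stalk x)))⟩
  · have := isIso_unit_of_stalks_type i hi G hG
    exact ⟨_, ⟨(asIso ((TopCat.Sheaf.pullbackPushforwardAdjunction (Type u) i).unit.app G)).symm⟩⟩

end Groth.Agent.S7573
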