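import Groth.Statements.S7578
import Groth.Agent.S7577

set_option autoImplicit false
universe u
open PtTop

namespace Groth.Agent.S7578

open TopologicalSpace

theorem isLocallyConstant_of_specializes {X : Type u} [TopologicalSpace X] [QuasiSober X]
    (hX : ∀ x : X, ∃ E ∈ nhds x, TopologicalSpace.NoetherianSpace E)
    (f : X → ℤ) (hf : ∀ x y : X, x ⤳ y → f x = f y) : IsLocallyConstant f := by
  rw [IsLocallyConstant.iff_exists_open]
  intro x
  obtain ⟨E, hE, hEN⟩ := hX x
  let U : Set X := interior E
  have hUo : IsOpen U := isOpen_interior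
  have hxU : x ∈ U := mem_interior_iff_mem_nhds.2 hE
  have hUE : U ⊆ E := interior_subset
  haveI : NoetherianSpace U := by
    rw [noetherianSpace_set_iff]
    intro t ht
    exact (noetherianSpace_set_iff E).1 hEN t (ht.trans hUE)
  let x' : U := ⟨x, hxU⟩
  have hfin : (irreducibleComponents U).Finite := NoetherianSpace.finite_irreducibleComponents
  let bad : Set (Set U) := {Z | Z ∈ irreducibleComponents U ∧ x' ∉ Z}
  have hbadfin : bad.Finite := hfin.subset (fun Z hZ => hZ.1)
  let W' : Set U := (⋃ Z ∈ bad, Z)ᶜ
  have hW'o : IsOpen W' := by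
    rw [isOpen_compl_iff]
    exact hbadfin.isClosed_biUnion (fun Z hZ => isClosed_of_mem_irreducibleComponents Z hZ.1)
  have hxW' : x' ∈ W' := by
    simp only [W', Set.mem_compl_iff, Set.mem_iUnion, not_exists]
    intro Z hZ hx
    exact hZ.2 hx
  refine ⟨Subtype.val '' W', hUo.isOpenMap_subtype_val W' hW'o, ⟨x', hxW', rfl⟩, ?_⟩
  rintro _ ⟨y', hy', rfl⟩
  let Z : Set U := irreducibleComponent y'
  have hZirr : IsIrreducible Z := isIrreducible_irreducibleComponent
  have hyZ : y' ∈ Z := mem_irreducibleComponent
  have hxZ : x' ∈ Z := by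
    by_contra hx
    apply hy'
    simp only [Set.mem_iUnion]
    exact ⟨Z, ⟨irreducibleComponent_mem_irreducibleComponents y', hx⟩, hyZ⟩
  have hS : IsIrreducible (Subtype.val '' Z) := hZirr.image _ continuous_subtype_val.continuousOn
  have hgen := hS.isGenericPoint_genericPoint_closure
  have h1 : hS.genericPoint ⤳ (y' : X) := hgen.specializes (subset_closure ⟨y', hyZ, rfl⟩)
  have h2 : hS.genericPoint ⤳ x := hgen.specializes (subset_closure ⟨x', hxZ, rfl⟩)
  rw [← hf _ _ h1, ← hf _ _ h2]


/-- Let X be a topological space which is locally Noetherian (every point has a Noetherian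
neighbourhood) and sober, and let δ, δ' be two dimension functions on X. Then δ − δ' is locally
constant. -/
theorem result {X : Type u} [TopologicalSpace X] [QuasiSober X] [T0Space X]
    (hX : ∀ x : X, ∃ E ∈ nhds x, TopologicalSpace.NoetherianSpace E)
    (δ δ' : X → ℤ) (hδ : PtTop.IsDimensionFunction δ) (hδ' : PtTop.IsDimensionFunction δ') :
    IsLocallyConstant (fun x => δ x - δ' x) := by
  apply isLocallyConstant_of_specializes hX
  intro x y hxy
  have h1 := (Groth.Agent.S7577.result δ hδ).2 x y hxy
  have h2 := (Groth.Agent.S7577.result δ' hδ').2 x y hxy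
  rw [h1] at h2
  have h3 : (δ x - δ y).toNat = (δ' x - δ' y).toNat := by exact_mod_cast h2
  have h4 : δ y ≤ δ x := by
    by_cases h : x = y
    · rw [h]
    · exact (hδ.1 x y hxy h).le
  have h5 : δ' y ≤ δ' x := by
    by_cases h : x = y
    · rw [h]
    · exact (hδ'.1 x y hxy h).le
  omega

end Groth.Agent.S7578
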