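import Groth.Statements.S7579
import Mathlib.Topology.Connected.Separation
-- import your own Groth.Agent.* helpers here

set_option autoImplicit false
universe u
open SpecSp

namespace Groth.Agent.S7579


theorem exists_clopen_sep (X : Type u) [TopologicalSpace X] [SpectralSpace X]
    (x y : WithConstructibleTopology X) (hxy : x ≠ y) :
    ∃ V : Set (WithConstructibleTopology X), IsClopen V ∧ x ∈ V ∧ y ∉ V := by
  let x' : X := WithTopology.ofTopology x
  let y' : X := WithTopology.ofTopology y
  have hxy' : x' ≠ y' := fun h => hxy ((WithTopology.ofTopology_injective _) h)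
  have key : ∀ (a b : X) (U : Set X), IsOpen U → a ∈ U → b ∉ U →
      ∃ V : Set X, IsOpen V ∧ IsCompact V ∧ a ∈ V ∧ b ∉ V := by
    intro a b U hU ha hb
    obtain ⟨V, ⟨hVo, hVc⟩, haV, hVU⟩ :=
      (PrespectralSpace.isTopologicalBasis (X := X)).exists_subset_of_mem_open ha hU
    exact ⟨V, hVo, hVc, haV, fun h => hb (hVU h)⟩
  have clopen_of : ∀ V : Set X, IsOpen V → IsCompact V →
      IsClopen ((WithTopology.ofTopology (t := constructibleTopology X)) ⁻¹' V) := by
    intro V hVo hVc
    constructor
    · rw [← isOpen_compl_iff, WithConstructibleTopology.isOpen_iff]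
      exact IsCompact.isOpen_constructibleTopology_of_isClosed (s := Vᶜ) (by simpa using hVc)
        hVo.isClosed_compl
    · rw [WithConstructibleTopology.isOpen_iff]
      exact hVc.isOpen_constructibleTopology_of_isOpen hVo
  obtain ⟨U, hU, hU'⟩ := exists_isOpen_xor_mem hxy'
  rcases hU' with ⟨hx, hy⟩ | ⟨hy, hx⟩
  · obtain ⟨V, hVo, hVc, hxV, hyV⟩ := key x' y' U hU hx hy
    exact ⟨_, clopen_of V hVo hVc, hxV, hyV⟩
  · obtain ⟨V, hVo, hVc, hyV, hxV⟩ := key y' x' U hU hy hx
    exact ⟨_, (clopen_of V hVo hVc).compl, hxV, fun h => h hyV⟩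

/-- Let X be a spectral space. Then X with its constructible topology is Hausdorff and totally
disconnected. The published statement also asserts that the constructible topology is quasi-compact;
this row states the Hausdorff and totally disconnected parts. -/
theorem result (X : Type u) [TopologicalSpace X] [SpectralSpace X] :
    T2Space (WithConstructibleTopology X) ∧ TotallyDisconnectedSpace (WithConstructibleTopology X) := by
  have hts : TotallySeparatedSpace (WithConstructibleTopology X) := by
    rw [totallySeparatedSpace_iff_exists_isClopen]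
    intro x y hxy
    obtain ⟨V, hV, hx, hy⟩ := exists_clopen_sep X x y hxy
    exact ⟨V, hV, hx, hy⟩
  exact ⟨inferInstance, inferInstance⟩

end Groth.Agent.S7579
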