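import Groth.Statements.S7585
import Groth.Agent.Lib.Helper10.ShBAux

set_option autoImplicit false
universe u
open ShSp

namespace Groth.Agent.S7585

/-- Let X be a topological space, ℬ a basis for its topology and F a presheaf of sets on ℬ. For each U ∈
ℬ let C(U) be a cofinal system of coverings of U by members of ℬ (every covering of U by members of
ℬ is refined by one in C(U)), each member of C(U) coming with chosen coverings of the pairwise
intersections U_i ∩ U_j by members of ℬ. Then F is a sheaf on ℬ if and only if the sheaf condition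
(**) holds for every U ∈ ℬ and every covering in C(U) with its chosen intersection coverings. -/
theorem result {X : Type u} [TopologicalSpace X] {B : Set (TopologicalSpace.Opens X)}
    (hB : TopologicalSpace.Opens.IsBasis B) (F : ShB.Pre B)
    (C : ∀ U : B, Set (ShB.Cover B)) (hCU : ∀ U, ∀ c ∈ C U, c.U = U)
    (hC : ∀ (U : B) (ι : Type u) (V : ι → B), (∀ i, (V i : TopologicalSpace.Opens X) ≤ (U : TopologicalSpace.Opens X)) →
      (U : TopologicalSpace.Opens X) ≤ ⨆ i, (V i : TopologicalSpace.Opens X) →
      ∃ c ∈ C U, ∀ i' : c.ι, ∃ i, (c.V i' : TopologicalSpace.Opens X) ≤ (V i : TopologicalSpace.Opens X)) :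
    ShB.IsSheaf F ↔ ∀ U, ∀ c ∈ C U, ShB.GluesUniquely F c := by
  constructor
  · intro h U c _
    exact h c
  · intro H
    have hsep : Lib.Helper10.Sep F := by
      intro U ι V hle hcov a b hab
      refine Lib.Helper10.sep_of_cofinal F C hCU hC ?_ U ι V hle hcov a b hab
      intro U c hc s t t' ht ht'
      have hcompat : ∀ i j k, F.res (c.W_le_left i j k) (s i) = F.res (c.W_le_right i j k) (s j) := by
        intro i j k
        rw [← ht i, ← ht j, F.res_comp, F.res_comp]
      obtain ⟨t₀, -, huniq⟩ := H U c hc s hcompat
      rw [huniq t ht, huniq t' ht']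
    refine Lib.Helper10.isSheaf_of_cofinal hB F C hCU hC hsep ?_
    intro U c hc s hs
    obtain ⟨t, ht, -⟩ := H U c hc s (fun i j k => hs i j (c.W i j k) _ _)
    exact ⟨t, ht⟩

end Groth.Agent.S7585
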