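import Groth.Statements.S7587
import Groth.Agent.Lib.Helper10.ShBGerm

set_option autoImplicit false
universe u
open ShSp

namespace Groth.Agent.S7587

/-- Let X be a topological space, ℬ a basis for its topology, U ∈ ℬ and F a sheaf of sets on ℬ. Sending
a section over U to its germs at the points of U, a map from F(U) into the product of the stalks F_x
over x ∈ U, puts F(U) in bijection with those germ families (s_x)_{x ∈ U} that satisfy (*): each x ∈
U lies in some V ∈ ℬ contained in U carrying a section σ ∈ F(V) whose germ at every y ∈ V equals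
s_y. That is, the map is injective and its image is exactly the set of such families. -/
theorem result {X : Type u} [TopologicalSpace X] {B : Set (TopologicalSpace.Opens X)}
    (hB : TopologicalSpace.Opens.IsBasis B) (F : ShB.Pre B) (hF : ShB.IsSheaf F) (U : B) :
    Function.Injective (fun (s : F.obj U) (x : (U : TopologicalSpace.Opens X)) => ShB.germ F x.1 x.2 s) ∧
    ∀ f : ∀ x : (U : TopologicalSpace.Opens X), ShB.Stalk F x.1,
      (∃ s : F.obj U, ∀ x, ShB.germ F x.1 x.2 s = f x) ↔
      ∀ x : (U : TopologicalSpace.Opens X), ∃ (V : B) (hxV : x.1 ∈ (V : TopologicalSpace.Opens X))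
        (hVU : (V : TopologicalSpace.Opens X) ≤ (U : TopologicalSpace.Opens X)) (σ : F.obj V),
        ∀ (y : X) (hy : y ∈ (V : TopologicalSpace.Opens X)), ShB.germ F y hy σ = f ⟨y, hVU hy⟩ := by
  have hnb : ∀ (U : TopologicalSpace.Opens X) (x : X), x ∈ U → ∃ U' ∈ B, x ∈ U' ∧ U' ≤ U :=
    fun U x hx => TopologicalSpace.Opens.isBasis_iff_nbhd.mp hB hx
  constructor
  · intro s s' h
    apply Lib.Helper10.germ_injective hB F hF U s s'
    intro x hx
    exact congrFun h ⟨x, hx⟩
  · intro f
    constructor
    · rintro ⟨s, hs⟩ x
      exact ⟨U, x.2, le_rfl, s, fun y hy => hs ⟨y, hy⟩⟩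
    · intro h
      choose V hxV hVU σ hσ using h
      let c : ShB.Cover B :=
        { U := U
          ι := (U : TopologicalSpace.Opens X)
          V := V
          V_le := hVU
          V_cover := by
            intro x hx
            rw [TopologicalSpace.Opens.mem_iSup]
            exact ⟨⟨x, hx⟩, hxV ⟨x, hx⟩⟩
          κ := fun i j => {N : B // (N : TopologicalSpace.Opens X) ≤
            (V i : TopologicalSpace.Opens X) ⊓ (V j : TopologicalSpace.Opens X)}
          W := fun i j N => N.1
          W_le_left := fun i j N => N.2.trans inf_le_left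
          W_le_right := fun i j N => N.2.trans inf_le_right
          W_cover := by
            intro i j x hx
            obtain ⟨N, hNB, hxN, hNle⟩ := hnb _ _ hx
            rw [TopologicalSpace.Opens.mem_iSup]
            exact ⟨⟨⟨N, hNB⟩, hNle⟩, hxN⟩ }
      have hcompat : ∀ i j k, F.res (c.W_le_left i j k) (σ i) = F.res (c.W_le_right i j k) (σ j) := by
        intro i j k
        apply Lib.Helper10.germ_injective hB F hF
        intro y hy
        rw [Lib.Helper10.germ_res, Lib.Helper10.germ_res, hσ i y _, hσ j y _]
      obtain ⟨t, ht, -⟩ := hF c σ hcompat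
      refine ⟨t, fun x => ?_⟩
      have h1 := Lib.Helper10.germ_res F (hVU x) x.1 (hxV x) t
      have h2 : F.res (hVU x) t = σ x := ht x
      rw [h2, hσ x x.1 (hxV x)] at h1
      exact h1.symm

end Groth.Agent.S7587
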