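import Groth.Statements.S7593
import Groth.Agent.Lib.Helper78.GalTrans

set_option autoImplicit false
universe u
open CategoryTheory CategoryTheory.Limits AlgebraicGeometry
open Variety

namespace Groth.Agent.S7593

open Groth.Agent.Lib.Helper78.GalTrans Groth.Agent.Lib.Helper51 in

/-- Let k̄ be a separable algebraic closure of a field k, X a scheme over k and t a point of X_{k̄} with
image x in X. The connected component of t is mapped onto itself by the action of every
k-automorphism of k̄ if and only if it equals the full inverse image of the connected component T of
x in X and T is geometrically connected over k (the inverse image of T in X_K is connected for every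
extension field K of k). -/
theorem result (k : Type u) [Field k] (X : Scheme.{u}) [X.Over (Spec (CommRingCat.of k))] (t : ↥(Curv2.bc k X (SeparableClosure k))) :
    (∀ σ : SeparableClosure k ≃ₐ[k] SeparableClosure k,
        (Curv2.galAct k X (SeparableClosure k) σ).base '' connectedComponent t = connectedComponent t) ↔
      ((Curv2.bcFst k X (SeparableClosure k)).base ⁻¹' connectedComponent (Curv2.bcFst k X (SeparableClosure k) t) = connectedComponent t ∧
        ∀ (K : Type u) [Field K] [Algebra k K],
          _root_.IsConnected ((Curv2.bcFst k X K).base ⁻¹' connectedComponent (Curv2.bcFst k X (SeparableClosure k) t))) := by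
  set f := X ↘ Spec (CommRingCat.of k) with hf
  set Ω := SeparableClosure k with hΩ
  set r := pullback.fst f (Spec.map (CommRingCat.ofHom (algebraMap k Ω))) with hr
  have hgal : ∀ σ : Ω ≃ₐ[k] Ω, Curv2.galAct k X Ω σ = gal f Ω σ := fun σ => rfl
  have hro : IsOpenMap r := isOpenMap_pullback_fst_field f Ω
  have hrc : IsClosedMap r := isClosedMap_pullback_fst_of_isIntegral f Ω
  have hrs : Function.Surjective r := (Curv2.bcFst k X Ω).surjective
  have hrcont : Continuous r := r.continuous
  constructor
  · intro hinv
    -- the image of the component lies in the component of the image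
    have himg : r '' connectedComponent t ⊆ connectedComponent (r t) :=
      (isConnected_connectedComponent.image r hrcont.continuousOn).subset_connectedComponent
        ⟨t, mem_connectedComponent, rfl⟩
    have hsat : r ⁻¹' (r '' connectedComponent t) = connectedComponent t := by
      apply Set.Subset.antisymm
      · rintro a ⟨b, hb, hba⟩
        obtain ⟨σ, hσ⟩ := exists_gal_eq f Ω b a hba
        rw [← hinv σ]
        exact ⟨b, hb, hσ⟩
      · exact Set.subset_preimage_image _ _
    have hconn : _root_.IsConnected (r ⁻¹' connectedComponent (r t)) :=
      isConnected_preimage_of_isOpenMap_of_isClosedMap hro hrc hrs isConnected_connectedComponent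
        himg ⟨r t, t, mem_connectedComponent, rfl⟩
        (by rw [hsat]; exact isPreconnected_connectedComponent)
    have heq : r ⁻¹' connectedComponent (r t) = connectedComponent t := by
      apply Set.Subset.antisymm
      · exact hconn.subset_connectedComponent mem_connectedComponent
      · intro a ha
        exact himg ⟨a, ha, rfl⟩
    refine ⟨heq, fun K _ _ => ?_⟩
    exact isConnected_preimage_of_isPreconnected_preimage f isConnected_connectedComponent
      subset_rfl ⟨r t, mem_connectedComponent⟩ (by rw [heq]; exact isPreconnected_connectedComponent) K
  · rintro ⟨heq, -⟩ σ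
    have hsub : ∀ τ : Ω ≃ₐ[k] Ω, ∀ a ∈ connectedComponent t, gal f Ω τ a ∈ connectedComponent t := by
      intro τ a ha
      rw [← heq] at ha ⊢
      change r (gal f Ω τ a) ∈ connectedComponent (r t)
      have ha' : r a ∈ connectedComponent (r t) := ha
      rw [hr, fst_gal_apply]
      exact ha'
    apply Set.Subset.antisymm
    · rintro _ ⟨a, ha, rfl⟩
      exact hsub σ a ha
    · intro a ha
      exact ⟨gal f Ω σ⁻¹ a, hsub σ⁻¹ a ha, gal_inv_apply f Ω σ a⟩

end Groth.Agent.S7593
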