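import Groth.Statements.S7594
import Mathlib
import Groth.Agent.Lib.Helper51.GenFibre

set_option autoImplicit false
universe u
open CategoryTheory CategoryTheory.Limits AlgebraicGeometry
open Variety

namespace Groth.Agent.S7594

/-- A scheme X over a field k is geometrically irreducible over k precisely when the fibre product X ×_k
X of X with itself is an irreducible scheme. -/
theorem result (k : Type u) [Field k] (X : Scheme.{u}) [X.Over (Spec (CommRingCat.of k))] :
    GeometricallyIrreducible (X ↘ (Spec (CommRingCat.of k))) ↔ IrreducibleSpace ↥(pullback (X ↘ (Spec (CommRingCat.of k))) (X ↘ (Spec (CommRingCat.of k)))) := by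
  set f := X ↘ Spec (CommRingCat.of k) with hf
  constructor
  · intro hG
    haveI : Subsingleton ↥(Spec (CommRingCat.of k)) :=
      inferInstanceAs (Subsingleton (PrimeSpectrum k))
    haveI : IrreducibleSpace X := GeometricallyIrreducible.irreducibleSpace_of_subsingleton f
    haveI : UniversallyOpen f := inferInstance
    infer_instance
  · intro hXX
    obtain ⟨z⟩ : Nonempty ↥(pullback f f) := inferInstance
    haveI : Nonempty X := ⟨pullback.fst f f z⟩
    haveI : Subsingleton ↥(Spec (CommRingCat.of k)) :=
      inferInstanceAs (Subsingleton (PrimeSpectrum k))
    haveI : Surjective f := ⟨fun y => ⟨pullback.fst f f z, Subsingleton.elim _ _⟩⟩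
    have hs : Surjective (pullback.fst f f) := inferInstance
    haveI : IrreducibleSpace X := hs.surj.irreducibleSpace (pullback.fst f f).continuous
    have hξ : IsGenericPoint (genericPoint X) Set.univ := genericPoint_spec X
    letI : Algebra k (X.residueField (genericPoint X)) := Curv2.resAlgebra k X (genericPoint X)
    have hφ : Spec.map (CommRingCat.ofHom (algebraMap k (X.residueField (genericPoint X)))) =
        X.fromSpecResidueField (genericPoint X) ≫ f :=
      Groth.Agent.Lib.Helper51.specMap_resMap k X (genericPoint X)
    haveI : IrreducibleSpace ↥((pullback.fst f f).fiber (genericPoint X)) :=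
      Groth.Agent.Lib.Helper51.irreducibleSpace_fiber_genericPoint _ _ hξ
    have e : (pullback.fst f f).fiber (genericPoint X) ≅
        pullback f (Spec.map (CommRingCat.ofHom (algebraMap k (X.residueField (genericPoint X))))) :=
      (pullbackSymmetry _ _) ≪≫ pullbackRightPullbackFstIso f f (X.fromSpecResidueField (genericPoint X)) ≪≫
        pullback.congrHom hφ.symm rfl ≪≫ pullbackSymmetry _ _
    haveI : IrreducibleSpace ↥(pullback f
        (Spec.map (CommRingCat.ofHom (algebraMap k (X.residueField (genericPoint X)))))) :=
      e.hom.homeomorph.irreducibleSpace_iff.mp inferInstance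
    exact Groth.Agent.Lib.Helper51.geometricallyIrreducible_of_pullback_residueField_genericPoint
      f (genericPoint X) hξ hφ

end Groth.Agent.S7594
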