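import Groth.Statements.S7600
import Mathlib
import Groth.Agent.Lib.Helper51.CommonPoint
import Groth.Agent.Lib.Helper56.NormalDescent

set_option autoImplicit false
universe u
open CategoryTheory CategoryTheory.Limits AlgebraicGeometry
open Variety

namespace Groth.Agent.S7600

/-- (2) ⇒ (1): let X be a scheme over a field k, k' an extension field of k and x' a point of X_{k'}
with image x in X. If X_{k'} is geometrically normal at x' over k' (for every extension field k'' of
k' and every point x'' of (X_{k'})_{k''} over x' the local ring at x'' is an integrally closed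
domain), then X is geometrically normal at x over k. -/
theorem result (k : Type u) [Field k] (X : Scheme.{u}) [X.Over (Spec (CommRingCat.of k))] (k' : Type u) [Field k'] [Algebra k k'] (x' : ↥(Curv2.bc k X k'))
    (h : letI : (Curv2.bc k X k').Over (Spec (CommRingCat.of k')) := ⟨Curv2.bcSnd k X k'⟩
      ∀ (k'' : Type u) [Field k''] [Algebra k' k''] (x'' : ↥(Curv2.bc k' (Curv2.bc k X k') k'')), Curv2.bcFst k' (Curv2.bc k X k') k'' x'' = x' →
          IsDomain ↥((Curv2.bc k' (Curv2.bc k X k') k'').presheaf.stalk x'') ∧ IsIntegrallyClosed ↥((Curv2.bc k' (Curv2.bc k X k') k'').presheaf.stalk x'')) :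
    ∀ (K : Type u) [Field K] [Algebra k K] (y : ↥(Curv2.bc k X K)), Curv2.bcFst k X K y = (Curv2.bcFst k X k' x') →
          IsDomain ↥((Curv2.bc k X K).presheaf.stalk y) ∧ IsIntegrallyClosed ↥((Curv2.bc k X K).presheaf.stalk y) := by
  classical
  intro K _ _ y hy
  set f := X ↘ (Spec (CommRingCat.of k)) with hf
  obtain ⟨E, _, _, a, t, hfa, rfl, ht⟩ := Groth.Agent.Lib.Helper51.exists_common_point_aux
    f (Spec.map (CommRingCat.ofHom (algebraMap k K)))
    (Spec.map (CommRingCat.ofHom (algebraMap k k'))) y x' hy
  obtain ⟨hd, hic⟩ := h E t ht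
  haveI hd' : IsDomain ((Limits.pullback (Limits.pullback.snd f (Spec.map (CommRingCat.ofHom (algebraMap k k'))))
        (Spec.map (CommRingCat.ofHom (algebraMap k' E)))).presheaf.stalk t) := hd
  haveI hic' : IsIntegrallyClosed ((Limits.pullback (Limits.pullback.snd f (Spec.map (CommRingCat.ofHom (algebraMap k k'))))
        (Spec.map (CommRingCat.ofHom (algebraMap k' E)))).presheaf.stalk t) := hic
  have hflat : (a.stalkMap t).hom.Flat := Flat.stalkMap a t
  algebraize [(a.stalkMap t).hom]
  haveI : IsLocalHom (algebraMap ((Limits.pullback f (Spec.map (CommRingCat.ofHom (algebraMap k K)))).presheaf.stalk (a t))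
      ((Limits.pullback (Limits.pullback.snd f (Spec.map (CommRingCat.ofHom (algebraMap k k'))))
        (Spec.map (CommRingCat.ofHom (algebraMap k' E)))).presheaf.stalk t)) :=
    inferInstanceAs (IsLocalHom (a.stalkMap t).hom)
  haveI : Module.FaithfullyFlat
      ((Limits.pullback f (Spec.map (CommRingCat.ofHom (algebraMap k K)))).presheaf.stalk (a t))
      ((Limits.pullback (Limits.pullback.snd f (Spec.map (CommRingCat.ofHom (algebraMap k k'))))
        (Spec.map (CommRingCat.ofHom (algebraMap k' E)))).presheaf.stalk t) :=
    Module.FaithfullyFlat.of_flat_of_isLocalHom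
  exact Groth.Agent.Lib.Helper56.isDomain_and_isIntegrallyClosed_of_faithfullyFlat _
    ((Limits.pullback (Limits.pullback.snd f (Spec.map (CommRingCat.ofHom (algebraMap k k'))))
      (Spec.map (CommRingCat.ofHom (algebraMap k' E)))).presheaf.stalk t)

end Groth.Agent.S7600
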