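import Groth.Statements.S7601
import Mathlib
import Groth.Agent.Lib.Helper51.ProdStalk
import Groth.Agent.Lib.Helper51.StalkBCProp
import Groth.Agent.Lib.Helper51.GeomNormal
import Groth.Agent.Lib.Helper56.TensorNormal2

set_option autoImplicit false
universe u
open CategoryTheory CategoryTheory.Limits AlgebraicGeometry
open Variety

namespace Groth.Agent.S7601

/-- Let X be a geometrically normal scheme over a field k (X_K is a normal scheme for every extension
field K of k) and Y a normal scheme over k. Then X ×_k Y is a normal scheme. -/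
theorem result (k : Type u) [Field k] (X : Scheme.{u}) [X.Over (Spec (CommRingCat.of k))] (Y : Scheme.{u}) [Y.Over (Spec (CommRingCat.of k))]
    (hX : ∀ (K : Type u) [Field K] [Algebra k K], Pi1.IsNormalScheme (Curv2.bc k X K)) (hY : Pi1.IsNormalScheme Y) :
    Pi1.IsNormalScheme (pullback (X ↘ (Spec (CommRingCat.of k))) (Y ↘ (Spec (CommRingCat.of k)))) := by
  classical
  intro z
  have hP : ∀ (R S : Type u) [CommRing R] [CommRing S], (R ≃+* S) →
      (IsDomain R ∧ IsIntegrallyClosed R) → (IsDomain S ∧ IsIntegrallyClosed S) :=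
    fun R S _ _ e h => ⟨e.toMulEquiv.isDomain_iff.mp h.1, by haveI := h.2; exact IsIntegrallyClosed.of_equiv e⟩
  letI : Algebra k ↥(X.presheaf.stalk (Limits.pullback.fst (X ↘ (Spec (CommRingCat.of k))) (Y ↘ (Spec (CommRingCat.of k))) z)) :=
    Curv2.stalkAlgebra k X _
  letI : Algebra k ↥(Y.presheaf.stalk (Limits.pullback.snd (X ↘ (Spec (CommRingCat.of k))) (Y ↘ (Spec (CommRingCat.of k))) z)) :=
    Curv2.stalkAlgebra k Y _
  have hψx := Groth.Agent.Lib.Helper51.specMap_stalkMapOf (X ↘ (Spec (CommRingCat.of k)))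
    (Limits.pullback.fst (X ↘ (Spec (CommRingCat.of k))) (Y ↘ (Spec (CommRingCat.of k))) z)
  have hψy := Groth.Agent.Lib.Helper51.specMap_stalkMapOf (Y ↘ (Spec (CommRingCat.of k)))
    (Limits.pullback.snd (X ↘ (Spec (CommRingCat.of k))) (Y ↘ (Spec (CommRingCat.of k))) z)
  -- the local ring of X is geometrically normal
  have hA : EGA4.IsGeomNormal k ↥(X.presheaf.stalk (Limits.pullback.fst (X ↘ (Spec (CommRingCat.of k))) (Y ↘ (Spec (CommRingCat.of k))) z)) := by
    intro k' _ _ hfin
    haveI := hfin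
    have hN : EGA4.IsNormalRing (TensorProduct k ↥(X.presheaf.stalk (Limits.pullback.fst (X ↘ (Spec (CommRingCat.of k))) (Y ↘ (Spec (CommRingCat.of k))) z)) k') := by
      apply Groth.Agent.Lib.Helper51.isNormalRing_of_forall_maximal
      intro 𝔐 h𝔐
      exact Groth.Agent.Lib.Helper51.atMaximal_of_forall_stalk (X ↘ (Spec (CommRingCat.of k))) _ hψx k'
        (fun R _ => IsDomain R ∧ IsIntegrallyClosed R) hP (fun y _ => hX k' y) 𝔐
    exact Groth.Agent.Lib.Helper57.isNormalRing_of_ringEquiv
      (Algebra.TensorProduct.comm k (X.presheaf.stalk _) k').toRingEquiv hN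
  -- the local ring of Y is normal
  have hB : EGA4.IsNormalRing ↥(Y.presheaf.stalk (Limits.pullback.snd (X ↘ (Spec (CommRingCat.of k))) (Y ↘ (Spec (CommRingCat.of k))) z)) := by
    obtain ⟨h1, h2⟩ := hY (Limits.pullback.snd (X ↘ (Spec (CommRingCat.of k))) (Y ↘ (Spec (CommRingCat.of k))) z)
    haveI := h1
    haveI := h2
    exact Groth.Agent.Lib.Helper57.isNormalRing_of_isIntegrallyClosed _
  have hAB := Groth.Agent.Lib.Helper56.isNormalRing_tensor_of_isGeomNormal_general k _ _ hA hB
  obtain ⟨q, hq, ⟨e⟩⟩ := Groth.Agent.Lib.Helper51.exists_prime_ringEquiv_prodStalk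
    (X ↘ (Spec (CommRingCat.of k))) (Y ↘ (Spec (CommRingCat.of k))) _ _ hψx hψy z
    (specializes_rfl) (specializes_rfl)
  exact hP _ _ e.symm (hAB q)

end Groth.Agent.S7601
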