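import Groth.Statements.S7602
import Mathlib
import Groth.Agent.Lib.Helper51.StalkBCProp
import Groth.Agent.Lib.Helper51.GenericRed
import Groth.Agent.Lib.Helper56.NormalLimit
import Groth.Agent.Lib.Helper57.NormalRing

set_option autoImplicit false
universe u
open CategoryTheory CategoryTheory.Limits AlgebraicGeometry
open Variety

namespace Groth.Agent.S7602

/-- Let X be a normal scheme over a field k and K an extension field of k which is separable over k in
the sense that Spec K → Spec k is geometrically reduced (K ⊗_k k' reduced for every field k' over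
k). Then X_K is a normal scheme. -/
theorem result (k : Type u) [Field k] (X : Scheme.{u}) [X.Over (Spec (CommRingCat.of k))] (hX : Pi1.IsNormalScheme X)
    (K : Type u) [Field K] [Algebra k K] [GeometricallyReduced (Spec.map (CommRingCat.ofHom (algebraMap k K)))] :
    Pi1.IsNormalScheme (Curv2.bc k X K) := by
  classical
  set f := X ↘ (Spec (CommRingCat.of k)) with hf
  -- `K` is a geometrically reduced `k`-algebra
  haveI hKgr : Algebra.IsGeometricallyReduced k K := by
    rw [Algebra.isGeometricallyReduced_field_iff]
    have h1 : AlgebraicGeometry.IsReduced (Limits.pullback (Spec.map (CommRingCat.ofHom (algebraMap k K)))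
        (Spec.map (CommRingCat.ofHom (algebraMap k (AlgebraicClosure k))))) :=
      GeometricallyReduced.geometrically_isReduced _ _ _ (.of_hasPullback _ _)
    have h2 : AlgebraicGeometry.IsReduced (Spec (CommRingCat.of (TensorProduct k K (AlgebraicClosure k)))) :=
      isReduced_of_isOpenImmersion (pullbackSpecIso k K (AlgebraicClosure k)).inv
    have h3 : _root_.IsReduced (TensorProduct k K (AlgebraicClosure k)) :=
      (affine_isReduced_iff _).mp h2
    exact isReduced_of_injective
      (Algebra.TensorProduct.comm k (AlgebraicClosure k) K).toRingEquiv.toRingHom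
      (Algebra.TensorProduct.comm k (AlgebraicClosure k) K).injective
  intro y
  set x := Curv2.bcFst k X K y with hx
  letI := Groth.Agent.Lib.Helper51.stalkAlg f x
  obtain ⟨hd, hic⟩ := hX x
  haveI := hd
  haveI := hic
  have hN : EGA4.IsNormalRing (X.presheaf.stalk x) :=
    Groth.Agent.Lib.Helper57.isNormalRing_of_isIntegrallyClosed _
  have hN2 : EGA4.IsNormalRing (TensorProduct k K (X.presheaf.stalk x)) :=
    Groth.Agent.Lib.Helper56.isNormalRing_tensor_of_isGeometricallyReduced_any k K _ hN
  have hN3 : EGA4.IsNormalRing (TensorProduct k (X.presheaf.stalk x) K) :=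
    Groth.Agent.Lib.Helper57.isNormalRing_of_ringEquiv
      (Algebra.TensorProduct.comm k K (X.presheaf.stalk x)).toRingEquiv hN2
  exact Groth.Agent.Lib.Helper51.stalk_of_forall_prime_of_specializes f x
    (Groth.Agent.Lib.Helper51.specMap_stalkMapOf f x) K
    (fun R _ => IsDomain R ∧ IsIntegrallyClosed R)
    (fun R S _ _ e h => ⟨e.toMulEquiv.isDomain_iff.mp h.1,
      by haveI := h.2; exact IsIntegrallyClosed.of_equiv e⟩)
    (fun q _ => hN3 q) y (by rw [hx])

end Groth.Agent.S7602
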