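import Groth.Statements.S7604
import Mathlib
import Groth.Agent.Lib.Helper51.ProdStalk
import Groth.Agent.Lib.Helper51.GeomRed
import Groth.Agent.S1541
import Groth.Agent.S4628

set_option autoImplicit false
universe u
open CategoryTheory CategoryTheory.Limits AlgebraicGeometry
open Variety

namespace Groth.Agent.S7604

/-- Let X and Y be schemes over a field k with Y reduced, and let x be a point of X at which X is
geometrically reduced. Then each point of X ×_k Y mapping to x has a reduced local ring. -/
theorem result (k : Type u) [Field k] (X : Scheme.{u}) [X.Over (Spec (CommRingCat.of k))] (Y : Scheme.{u}) [Y.Over (Spec (CommRingCat.of k))] [IsReduced Y]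
    (x : ↥X) (hx : Curv2.IsGeomReducedAt k X x) (z : ↥(pullback (X ↘ (Spec (CommRingCat.of k))) (Y ↘ (Spec (CommRingCat.of k)))))
    (hz : pullback.fst (X ↘ (Spec (CommRingCat.of k))) (Y ↘ (Spec (CommRingCat.of k))) z = x) :
    _root_.IsReduced ↥((pullback (X ↘ (Spec (CommRingCat.of k))) (Y ↘ (Spec (CommRingCat.of k)))).presheaf.stalk z) := by
  classical
  letI : Algebra k ↥(X.presheaf.stalk x) := Curv2.stalkAlgebra k X x
  letI : Algebra k ↥(Y.presheaf.stalk (Limits.pullback.snd (X ↘ (Spec (CommRingCat.of k))) (Y ↘ (Spec (CommRingCat.of k))) z)) :=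
    Curv2.stalkAlgebra k Y _
  have hψx := Groth.Agent.Lib.Helper51.specMap_stalkMapOf (X ↘ (Spec (CommRingCat.of k))) x
  have hψy := Groth.Agent.Lib.Helper51.specMap_stalkMapOf (Y ↘ (Spec (CommRingCat.of k)))
    (Limits.pullback.snd (X ↘ (Spec (CommRingCat.of k))) (Y ↘ (Spec (CommRingCat.of k))) z)
  haveI hgr : Algebra.IsGeometricallyReduced k ↥(X.presheaf.stalk x) :=
    (Groth.Agent.S1541.result k X x).mp hx
  have hGR : GeometricallyReduced (Spec.map (CommRingCat.ofHom (algebraMap k ↥(X.presheaf.stalk x)))) := by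
    refine ⟨?_⟩
    rw [geometrically_iff_of_commRing_of_isClosedUnderIsomorphisms]
    intro K' _ _
    have h1 : _root_.IsReduced (TensorProduct k K' ↥(X.presheaf.stalk x)) :=
      Groth.Agent.Lib.Helper51.isReduced_tensor_of_isGeometricallyReduced K'
    have h2 : _root_.IsReduced (TensorProduct k ↥(X.presheaf.stalk x) K') :=
      isReduced_of_injective (Algebra.TensorProduct.comm k (X.presheaf.stalk x) K').toRingEquiv.toRingHom
        (Algebra.TensorProduct.comm k (X.presheaf.stalk x) K').injective
    have h3 : AlgebraicGeometry.IsReduced (Spec (CommRingCat.of (TensorProduct k ↥(X.presheaf.stalk x) K'))) :=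
      (affine_isReduced_iff _).mpr h2
    exact isReduced_of_isOpenImmersion (pullbackSpecIso k (X.presheaf.stalk x) K').hom
  haveI hred : _root_.IsReduced (TensorProduct k ↥(X.presheaf.stalk x)
      ↥(Y.presheaf.stalk (Limits.pullback.snd (X ↘ (Spec (CommRingCat.of k))) (Y ↘ (Spec (CommRingCat.of k))) z))) :=
    Groth.Agent.S4628.isReduced_tensor hGR
  obtain ⟨q, hq, ⟨e⟩⟩ := Groth.Agent.Lib.Helper51.exists_prime_ringEquiv_prodStalk
    (X ↘ (Spec (CommRingCat.of k))) (Y ↘ (Spec (CommRingCat.of k))) x _ hψx hψy z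
    (by rw [hz]) (specializes_rfl)
  haveI : _root_.IsReduced (Localization.AtPrime q) := inferInstance
  exact isReduced_of_injective e.toRingHom e.injective

end Groth.Agent.S7604
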