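import Groth.Statements.S7606
import Mathlib
import Groth.Agent.Lib.Helper51.StalkBCProp
import Groth.Agent.Lib.Helper51.GenericRed
import Groth.Agent.Lib.Helper56.GeomRegExt
import Groth.Agent.Lib.Helper56.UnivReg
import Groth.Agent.Lib.Helper77.RegularLocalization

set_option autoImplicit false
universe u
open CategoryTheory CategoryTheory.Limits AlgebraicGeometry
attribute [local instance] Curv2.stalkAlgebra
open Variety

namespace Groth.Agent.S7606

/-- Let X be a locally Noetherian scheme over a field k and x a point of X. These conditions are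
equivalent: (1) the scheme X is geometrically regular at x; (2) whenever k'/k is finite and purely
inseparable, the local ring O_{X_{k'}, x'} is regular at each point x' of X_{k'} lying over x; (3)
the local ring O_{X, x} is geometrically regular over k (k' ⊗_k O_{X, x} is a regular ring for every
finite extension k' of k). Stated as (1) ↔ (2) together with (2) ↔ (3). -/
theorem result (k : Type u) [Field k] (X : Scheme.{u}) [X.Over (Spec (CommRingCat.of k))] [IsLocallyNoetherian X] (x : ↥X) :
    (Curv2.IsGeomRegularAt k X x ↔
      ∀ (k' : Type u) [Field k'] [Algebra k k'] [FiniteDimensional k k'] [IsPurelyInseparable k k'] (x' : ↥(Curv2.bc k X k')),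
        Curv2.bcFst k X k' x' = x → IsRegularLocalRing ↥((Curv2.bc k X k').presheaf.stalk x')) ∧
    ((∀ (k' : Type u) [Field k'] [Algebra k k'] [FiniteDimensional k k'] [IsPurelyInseparable k k'] (x' : ↥(Curv2.bc k X k')),
        Curv2.bcFst k X k' x' = x → IsRegularLocalRing ↥((Curv2.bc k X k').presheaf.stalk x')) ↔
      CAlg.IsGeometricallyRegular k ↥(X.presheaf.stalk x)) := by
  classical
  set f := X ↘ (Spec (CommRingCat.of k)) with hf
  have hψ := Groth.Agent.Lib.Helper51.specMap_stalkMapOf f x
  have hP : ∀ (R S : Type u) [CommRing R] [CommRing S], (R ≃+* S) →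
      IsRegularLocalRing R → IsRegularLocalRing S :=
    fun R S _ _ e h => by haveI := h; exact IsRegularLocalRing.of_ringEquiv e
  -- stalks regular from regularity of the tensor product
  have hstalk : ∀ (k' : Type u) [Field k'] [Algebra k k'], IsRegularRing (TensorProduct k k' ↥(X.presheaf.stalk x)) →
      ∀ (x' : ↥(Curv2.bc k X k')), Curv2.bcFst k X k' x' = x →
        IsRegularLocalRing ↥((Curv2.bc k X k').presheaf.stalk x') := by
    intro k' _ _ hreg x' hx'
    haveI := hreg
    haveI hN3 : IsRegularRing (TensorProduct k ↥(X.presheaf.stalk x) k') :=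
      IsRegularRing.of_ringEquiv (Algebra.TensorProduct.comm k k' (X.presheaf.stalk x)).toRingEquiv
    exact Groth.Agent.Lib.Helper51.stalk_of_forall_prime_of_specializes f x hψ k'
      (fun R _ => IsRegularLocalRing R) hP
      (fun q _ => IsRegularRing.isRegularLocalRing_localization q) x' (by rw [hx'])
  -- regularity of the tensor product from the stalks, for finite extensions
  have htensor : ∀ (k' : Type u) [Field k'] [Algebra k k'] [FiniteDimensional k k'],
      (∀ (x' : ↥(Curv2.bc k X k')), Curv2.bcFst k X k' x' = x →
        IsRegularLocalRing ↥((Curv2.bc k X k').presheaf.stalk x')) →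
      IsRegularRing (TensorProduct k k' ↥(X.presheaf.stalk x)) := by
    intro k' _ _ _ h
    haveI : IsNoetherianRing (TensorProduct k ↥(X.presheaf.stalk x) k') :=
      Groth.Agent.Lib.Helper56.isNoetherianRing_tensor_essFiniteType k k' (X.presheaf.stalk x)
    haveI h1 : IsRegularRing (TensorProduct k ↥(X.presheaf.stalk x) k') := by
      apply Groth.Agent.Lib.Helper77.RegularLocalization.isRegularRing_of_maximal
      intro 𝔐 h𝔐
      exact Groth.Agent.Lib.Helper51.atMaximal_of_forall_stalk f x hψ k'
        (fun R _ => IsRegularLocalRing R) hP h 𝔐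
    exact IsRegularRing.of_ringEquiv
      (Algebra.TensorProduct.comm k (X.presheaf.stalk x) k').toRingEquiv
  -- (2) ⇒ regular for all f.g. field extensions
  have h2fg : (∀ (k' : Type u) [Field k'] [Algebra k k'] [FiniteDimensional k k'] [IsPurelyInseparable k k']
        (x' : ↥(Curv2.bc k X k')),
        Curv2.bcFst k X k' x' = x → IsRegularLocalRing ↥((Curv2.bc k X k').presheaf.stalk x')) →
      ∀ (K : Type u) [Field K] [Algebra k K] [Algebra.EssFiniteType k K],
        IsRegularRing (TensorProduct k K ↥(X.presheaf.stalk x)) := by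
    intro h2 K _ _ _
    apply Groth.Agent.Lib.Helper56.isRegularRing_tensor_of_forall_purelyInseparable k
    intro k' _ _ hfin hpi
    haveI := hfin
    haveI := hpi
    exact htensor k' (fun x' hx' => h2 k' x' hx')
  refine ⟨⟨fun h1 k' _ _ _ _ x' hx' => h1 k' (IntermediateField.fg_of_noetherian ⊤) x' hx',
    fun h2 k' _ _ hfg x' hx' => ?_⟩, ⟨fun h2 k' _ _ hfin => ?_, fun h3 k' _ _ _ _ x' hx' => ?_⟩⟩
  · haveI : Algebra.EssFiniteType k (⊤ : IntermediateField k k') :=
      IntermediateField.essFiniteType_iff.mpr hfg
    haveI : Algebra.EssFiniteType k k' :=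
      Algebra.EssFiniteType.of_surjective (IntermediateField.topEquiv (F := k) (E := k')).toAlgHom
        IntermediateField.topEquiv.surjective
    exact hstalk k' (h2fg h2 k') x' hx'
  · haveI := hfin
    exact h2fg h2 k'
  · exact hstalk k' (h3 k' inferInstance) x' hx'

end Groth.Agent.S7606
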