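import Groth.Statements.S7607
import Mathlib
import Groth.Agent.Lib.Helper51.CommonPointFG
import Groth.Agent.Lib.Helper56.FibreDescent
import Groth.Agent.S0565

set_option autoImplicit false
universe u
open CategoryTheory CategoryTheory.Limits AlgebraicGeometry
open Variety

namespace Groth.Agent.S7607

/-- (2) ⇒ (1): let X be a scheme over a field k, k' a finitely generated field extension of k and x' a
point of X_{k'} with image x in X. If X_{k'} is geometrically regular at x' over k', then X is
geometrically regular at x over k. (The published setting defines geometric regularity only for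
locally Noetherian schemes; this row allows any scheme X over k.) -/
theorem result (k : Type u) [Field k] (X : Scheme.{u}) [X.Over (Spec (CommRingCat.of k))] (k' : Type u) [Field k'] [Algebra k k'] (hfg : (⊤ : IntermediateField k k').FG)
    (x' : ↥(Curv2.bc k X k'))
    (h : @Curv2.IsGeomRegularAt k' _ (Curv2.bc k X k') ⟨Curv2.bcSnd k X k'⟩ x') :
    Curv2.IsGeomRegularAt k X (Curv2.bcFst k X k' x') := by
  classical
  intro K _ _ hK y hy
  set f := X ↘ (Spec (CommRingCat.of k)) with hf
  obtain ⟨E, _, _, φ, a, t, hfa, rfl, ht, hcomp, hgen⟩ :=
    Groth.Agent.Lib.Helper51.exists_common_point_fg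
      f (Spec.map (CommRingCat.ofHom (algebraMap k K)))
      (Spec.map (CommRingCat.ofHom (algebraMap k k'))) y x' hy
  have hφ : φ.comp (algebraMap k K) = (algebraMap k' E).comp (algebraMap k k') := by
    rw [← Spec.map_comp, ← Spec.map_comp] at hcomp
    have := Spec.map_injective hcomp
    exact (congrArg CommRingCat.Hom.hom this).symm
  have hEfg : (⊤ : IntermediateField k' E).FG :=
    Groth.Agent.Lib.Helper51.fg_top_of_adjoin_range_eq_top φ hφ hgen hK
  haveI hreg : IsRegularLocalRing ((Limits.pullback (Limits.pullback.snd f (Spec.map (CommRingCat.ofHom (algebraMap k k'))))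
        (Spec.map (CommRingCat.ofHom (algebraMap k' E)))).presheaf.stalk t) := h E hEfg t ht
  have hflat : (a.stalkMap t).hom.Flat := Flat.stalkMap a t
  algebraize [(a.stalkMap t).hom]
  haveI : IsLocalHom (algebraMap ((Limits.pullback f (Spec.map (CommRingCat.ofHom (algebraMap k K)))).presheaf.stalk (a t))
      ((Limits.pullback (Limits.pullback.snd f (Spec.map (CommRingCat.ofHom (algebraMap k k'))))
        (Spec.map (CommRingCat.ofHom (algebraMap k' E)))).presheaf.stalk t)) :=
    inferInstanceAs (IsLocalHom (a.stalkMap t).hom)
  haveI : Module.FaithfullyFlat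
      ((Limits.pullback f (Spec.map (CommRingCat.ofHom (algebraMap k K)))).presheaf.stalk (a t))
      ((Limits.pullback (Limits.pullback.snd f (Spec.map (CommRingCat.ofHom (algebraMap k k'))))
        (Spec.map (CommRingCat.ofHom (algebraMap k' E)))).presheaf.stalk t) :=
    Module.FaithfullyFlat.of_flat_of_isLocalHom
  haveI : IsNoetherianRing
      ((Limits.pullback f (Spec.map (CommRingCat.ofHom (algebraMap k K)))).presheaf.stalk (a t)) :=
    Groth.Agent.Lib.Helper56.isNoetherianRing_of_faithfullyFlat _
      ((Limits.pullback (Limits.pullback.snd f (Spec.map (CommRingCat.ofHom (algebraMap k k'))))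
        (Spec.map (CommRingCat.ofHom (algebraMap k' E)))).presheaf.stalk t)
  exact Groth.Agent.S0565.result _
    ((Limits.pullback (Limits.pullback.snd f (Spec.map (CommRingCat.ofHom (algebraMap k k'))))
      (Spec.map (CommRingCat.ofHom (algebraMap k' E)))).presheaf.stalk t)

end Groth.Agent.S7607
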