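import Groth.Statements.S7608
import Mathlib
import Groth.Agent.Lib.Helper51.CMBaseChange
import Groth.Agent.Lib.Helper51.GenericRed

set_option autoImplicit false
universe u
open CategoryTheory CategoryTheory.Limits AlgebraicGeometry
open Variety

namespace Groth.Agent.S7608

/-- Let X be a locally Noetherian scheme over a field k, k' a finitely generated field extension of k
and x' a point of X_{k'} with image x in X. Then the local ring O_{X, x} is Cohen-Macaulay if and
only if O_{X_{k'}, x'} is Cohen-Macaulay. -/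
theorem result (k : Type u) [Field k] (X : Scheme.{u}) [X.Over (Spec (CommRingCat.of k))] [IsLocallyNoetherian X] (k' : Type u) [Field k'] [Algebra k k']
    (hfg : (⊤ : IntermediateField k k').FG) (x' : ↥(Curv2.bc k X k')) :
    LocCoh.IsCohenMacaulayLocalRing ↥(X.presheaf.stalk (Curv2.bcFst k X k' x')) ↔
      LocCoh.IsCohenMacaulayLocalRing ↥((Curv2.bc k X k').presheaf.stalk x') := by
  classical
  set f := X ↘ (Spec (CommRingCat.of k)) with hf
  set x := Curv2.bcFst k X k' x' with hx
  letI : Algebra k ↥(X.presheaf.stalk x) := Groth.Agent.Lib.Helper51.stalkAlg f x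
  have hψ := Groth.Agent.Lib.Helper51.specMap_stalkMapOf f x
  obtain ⟨q, hqp, hq, ⟨e⟩⟩ :=
    Groth.Agent.Lib.Helper51.exists_prime_ringEquiv_stalk f x hψ k' x' rfl
  haveI : Algebra.EssFiniteType k k' := IntermediateField.fg_top_iff.mp hfg
  haveI : IsNoetherianRing (TensorProduct k ↥(X.presheaf.stalk x) k') :=
    Algebra.EssFiniteType.isNoetherianRing (X.presheaf.stalk x) _
  have hfib : ∀ (L : Type u) [Field L] [Algebra k L] [Algebra ↥(X.presheaf.stalk x) L]
      [IsScalarTower k ↥(X.presheaf.stalk x) L],
      Algebra.EssFiniteType ↥(X.presheaf.stalk x) L →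
      LocCoh.IsCohenMacaulayRing (TensorProduct k L k') := by
    intro L _ _ _ _ _
    exact Groth.Agent.Lib.Helper56.isCohenMacaulayRing_of_ringEquiv
      (Algebra.TensorProduct.comm k k' L).toRingEquiv
      (Groth.Agent.Lib.Helper56.isCM_tensor_of_essFiniteType k k' L)
  have key := Groth.Agent.Lib.Helper51.isCM_atPrime_tensor_iff k ↥(X.presheaf.stalk x) k' hfib q hq
  rw [← key]
  exact ⟨fun h => Groth.Agent.Lib.Helper56.isCohenMacaulayLocalRing_of_ringEquiv e.symm h,
    fun h => Groth.Agent.Lib.Helper56.isCohenMacaulayLocalRing_of_ringEquiv e h⟩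

end Groth.Agent.S7608
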