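import Groth.Statements.S7612
import Mathlib

set_option autoImplicit false
universe u
open CategoryTheory CategoryTheory.Limits AlgebraicGeometry
open Variety

namespace Groth.Agent.S7612

private lemma isOpen_image_fst {k : Type u} [Field k] {X Y : Scheme.{u}}
    (p : X ⟶ Spec (CommRingCat.of k)) (q : Y ⟶ Spec (CommRingCat.of k))
    (W : Set ↥(pullback p q)) (hW : IsOpen W) (b : Y) :
    IsOpen ((pullback.fst p q).base '' (W ∩ (pullback.snd p q).base ⁻¹' {b})) := by
  set ι := Y.fromSpecResidueField b with hι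
  set j := pullback.fst (pullback.snd p q) ι with hj
  have H : IsPullback (j ≫ pullback.fst p q) (pullback.snd (pullback.snd p q) ι) p (ι ≫ q) :=
    (IsPullback.of_hasPullback (pullback.snd p q) ι).paste_horiz (IsPullback.of_hasPullback p q)
  have hopen : UniversallyOpen (j ≫ pullback.fst p q) :=
    MorphismProperty.of_isPullback (P := @UniversallyOpen) H.flip inferInstance
  have hrange : Set.range j.base = (pullback.snd p q).base ⁻¹' {b} := by
    rw [hj, Scheme.Pullback.range_fst, Scheme.range_fromSpecResidueField]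
  have heq : (pullback.fst p q).base '' (W ∩ (pullback.snd p q).base ⁻¹' {b}) =
      (j ≫ pullback.fst p q).base '' (j.base ⁻¹' W) := by
    ext x
    constructor
    · rintro ⟨z, ⟨hzW, hzb⟩, rfl⟩
      rw [← hrange] at hzb
      obtain ⟨w, rfl⟩ := hzb
      exact ⟨w, hzW, rfl⟩
    · rintro ⟨w, hw, rfl⟩
      refine ⟨j.base w, ⟨hw, ?_⟩, rfl⟩
      rw [← hrange]
      exact ⟨w, rfl⟩
  rw [heq]
  exact (j ≫ pullback.fst p q).isOpenMap _ (hW.preimage j.continuous)

private lemma isOpen_image_snd {k : Type u} [Field k] {X Y : Scheme.{u}}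
    (p : X ⟶ Spec (CommRingCat.of k)) (q : Y ⟶ Spec (CommRingCat.of k))
    (W : Set ↥(pullback p q)) (hW : IsOpen W) (a : X) :
    IsOpen ((pullback.snd p q).base '' (W ∩ (pullback.fst p q).base ⁻¹' {a})) := by
  set ι := X.fromSpecResidueField a with hι
  set j := pullback.snd ι (pullback.fst p q) with hj
  have H : IsPullback (pullback.fst ι (pullback.fst p q)) (j ≫ pullback.snd p q) (ι ≫ p) q :=
    (IsPullback.of_hasPullback ι (pullback.fst p q)).paste_vert (IsPullback.of_hasPullback p q)
  have hopen : UniversallyOpen (j ≫ pullback.snd p q) :=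
    MorphismProperty.of_isPullback (P := @UniversallyOpen) H inferInstance
  have hrange : Set.range j.base = (pullback.fst p q).base ⁻¹' {a} := by
    rw [hj, Scheme.Pullback.range_snd, Scheme.range_fromSpecResidueField]
  have heq : (pullback.snd p q).base '' (W ∩ (pullback.fst p q).base ⁻¹' {a}) =
      (j ≫ pullback.snd p q).base '' (j.base ⁻¹' W) := by
    ext x
    constructor
    · rintro ⟨z, ⟨hzW, hzb⟩, rfl⟩
      rw [← hrange] at hzb
      obtain ⟨w, rfl⟩ := hzb
      exact ⟨w, hzW, rfl⟩
    · rintro ⟨w, hw, rfl⟩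
      refine ⟨j.base w, ⟨hw, ?_⟩, rfl⟩
      rw [← hrange]
      exact ⟨w, rfl⟩
  rw [heq]
  exact (j ≫ pullback.snd p q).isOpenMap _ (hW.preimage j.continuous)

/-- Let X and Y be schemes over a field k and A ⊆ X, B ⊆ Y subsets. Inside X ×_k Y, the closure of the
set of points projecting into A and into B equals the set of points projecting into the closure of A
and into the closure of B. -/
theorem result (k : Type u) [Field k] (X : Scheme.{u}) [X.Over (Spec (CommRingCat.of k))] (Y : Scheme.{u}) [Y.Over (Spec (CommRingCat.of k))] (A : Set ↥X) (B : Set ↥Y) :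
    closure ((pullback.fst (X ↘ (Spec (CommRingCat.of k))) (Y ↘ (Spec (CommRingCat.of k)))).base ⁻¹' A ∩ (pullback.snd (X ↘ (Spec (CommRingCat.of k))) (Y ↘ (Spec (CommRingCat.of k)))).base ⁻¹' B) =
      (pullback.fst (X ↘ (Spec (CommRingCat.of k))) (Y ↘ (Spec (CommRingCat.of k)))).base ⁻¹' closure A ∩ (pullback.snd (X ↘ (Spec (CommRingCat.of k))) (Y ↘ (Spec (CommRingCat.of k)))).base ⁻¹' closure B := by
  set p := X ↘ (Spec (CommRingCat.of k)) with hp
  set q := Y ↘ (Spec (CommRingCat.of k)) with hq
  apply Set.Subset.antisymm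
  · refine closure_minimal ?_ ?_
    · exact Set.inter_subset_inter (Set.preimage_mono subset_closure)
        (Set.preimage_mono subset_closure)
    · exact (isClosed_closure.preimage (pullback.fst p q).continuous).inter
        (isClosed_closure.preimage (pullback.snd p q).continuous)
  · rintro z ⟨hzA, hzB⟩
    rw [mem_closure_iff]
    intro W hW hzW
    -- first step: move inside the fibre over `x = pr₁ z` to reach `B`
    have h1 := isOpen_image_snd p q W hW ((pullback.fst p q).base z)
    have hz1 : (pullback.snd p q).base z ∈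
        (pullback.snd p q).base '' (W ∩ (pullback.fst p q).base ⁻¹' {(pullback.fst p q).base z}) :=
      ⟨z, ⟨hzW, rfl⟩, rfl⟩
    obtain ⟨b, ⟨z₁, ⟨hz₁W, hz₁x⟩, hz₁b⟩, hbB⟩ := (mem_closure_iff.mp hzB) _ h1 hz1
    -- second step: move inside the fibre over `b` to reach `A`
    have h2 := isOpen_image_fst p q W hW b
    have hz2 : (pullback.fst p q).base z₁ ∈
        (pullback.fst p q).base '' (W ∩ (pullback.snd p q).base ⁻¹' {b}) :=
      ⟨z₁, ⟨hz₁W, hz₁b⟩, rfl⟩
    have hxA : (pullback.fst p q).base z₁ ∈ closure A := by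
      rw [show (pullback.fst p q).base z₁ = (pullback.fst p q).base z from hz₁x]
      exact hzA
    obtain ⟨a, ⟨z₂, ⟨hz₂W, hz₂b⟩, hz₂a⟩, haA⟩ := (mem_closure_iff.mp hxA) _ h2 hz2
    refine ⟨z₂, hz₂W, ?_, ?_⟩
    · change (pullback.fst p q).base z₂ ∈ A
      rw [hz₂a]; exact haA
    · change (pullback.snd p q).base z₂ ∈ B
      rw [show (pullback.snd p q).base z₂ = b from hz₂b]; exact hbB

end Groth.Agent.S7612
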