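import Groth.Statements.S7613
import Mathlib
import Groth.Agent.Lib.Helper51.SmoothPt
import Groth.Agent.Lib.Helper19.Sm.SmoothDescent
import Groth.Agent.S1549

set_option autoImplicit false
universe u
open CategoryTheory CategoryTheory.Limits AlgebraicGeometry
open Variety

namespace Groth.Agent.S7613

/-- Let X be a variety over a field k (integral, separated and of finite type over k) with a k-rational
point x (k → κ(x) onto) such that X → Spec k is smooth at x. Then every base change of X to an
extension field of k is an integral scheme (X is geometrically integral over k). -/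
theorem result (k : Type u) [Field k] (X : Scheme.{u}) [X.Over (Spec (CommRingCat.of k))] [IsIntegral X] [IsSeparated (X ↘ (Spec (CommRingCat.of k)))]
    [LocallyOfFiniteType (X ↘ (Spec (CommRingCat.of k)))] [QuasiCompact (X ↘ (Spec (CommRingCat.of k)))]
    (x : ↥X) (hx : Function.Surjective (Curv2.resMap k X x)) (hsm : x ∈ (X ↘ (Spec (CommRingCat.of k))).smoothLocus) :
    GeometricallyIntegral (X ↘ (Spec (CommRingCat.of k))) := by
  classical
  haveI : IsLocallyNoetherian X := LocallyOfFiniteType.isLocallyNoetherian (X ↘ (Spec (CommRingCat.of k)))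
  haveI : LocallyOfFinitePresentation (X ↘ (Spec (CommRingCat.of k))) :=
    LocallyOfFinitePresentation.iff_locallyOfFiniteType.mpr inferInstance
  have hUne : (((X ↘ (Spec (CommRingCat.of k))).smoothLocus : X.Opens) : Set X).Nonempty := ⟨x, hsm⟩
  have hsmU := Groth.Agent.Lib.Helper19.smooth_ι_smoothLocus (X ↘ (Spec (CommRingCat.of k)))
  -- geometrically reduced
  haveI hgr : GeometricallyReduced (X ↘ (Spec (CommRingCat.of k))) :=
    (Groth.Agent.S1549.result k X).mpr
      ⟨(X ↘ (Spec (CommRingCat.of k))).smoothLocus,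
        ((X ↘ (Spec (CommRingCat.of k))).smoothLocus).isOpen.dense hUne, hsmU⟩
  -- the rational point as a section
  have hbij : Function.Bijective (Curv2.resMap k X x) := ⟨(Curv2.resMap k X x).injective, hx⟩
  let e : k ≃+* X.residueField x := RingEquiv.ofBijective _ hbij
  let σ₀ : Spec (CommRingCat.of k) ⟶ X :=
    Spec.map (CommRingCat.ofHom e.symm.toRingHom) ≫ X.fromSpecResidueField x
  have hσ₀ : σ₀ ≫ (X ↘ (Spec (CommRingCat.of k))) = 𝟙 _ := by
    dsimp only [σ₀]
    rw [Category.assoc, ← Groth.Agent.Lib.Helper51.specMap_resMap k X x, ← Spec.map_comp,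
      ← CommRingCat.ofHom_comp]
    have : e.symm.toRingHom.comp (Curv2.resMap k X x) = RingHom.id k := by
      ext a
      exact e.symm_apply_apply a
    rw [this]
    exact Spec.map_id _
  have hrange : Set.range σ₀ ⊆ Set.range ((X ↘ (Spec (CommRingCat.of k))).smoothLocus.ι) := by
    rintro _ ⟨t, rfl⟩
    rw [Scheme.Opens.range_ι]
    dsimp only [σ₀]
    rw [Scheme.Hom.comp_apply, Scheme.fromSpecResidueField_apply]
    exact hsm
  let σ : Spec (CommRingCat.of k) ⟶ ((X ↘ (Spec (CommRingCat.of k))).smoothLocus : Scheme.{u}) :=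
    IsOpenImmersion.lift ((X ↘ (Spec (CommRingCat.of k))).smoothLocus.ι) σ₀ hrange
  have hσ : σ ≫ ((X ↘ (Spec (CommRingCat.of k))).smoothLocus.ι ≫ (X ↘ (Spec (CommRingCat.of k)))) = 𝟙 _ := by
    rw [← Category.assoc, IsOpenImmersion.lift_fac, hσ₀]
  haveI : Nonempty ↥((X ↘ (Spec (CommRingCat.of k))).smoothLocus : Scheme.{u}) := ⟨⟨x, hsm⟩⟩
  haveI : IsIntegral ((X ↘ (Spec (CommRingCat.of k))).smoothLocus : Scheme.{u}) := inferInstance
  haveI : ConnectedSpace ↥((X ↘ (Spec (CommRingCat.of k))).smoothLocus : Scheme.{u}) := inferInstance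
  haveI := hsmU
  haveI hirrU := Groth.Agent.Lib.Helper51.irreducibleSpace_pullback_of_smooth_of_section
    ((X ↘ (Spec (CommRingCat.of k))).smoothLocus.ι ≫ (X ↘ (Spec (CommRingCat.of k)))) σ hσ (SeparableClosure k)
  haveI := Groth.Agent.Lib.Helper51.irreducibleSpace_pullback_of_open (X ↘ (Spec (CommRingCat.of k)))
    ((X ↘ (Spec (CommRingCat.of k))).smoothLocus) hUne (SeparableClosure k)
  haveI hgi : GeometricallyIrreducible (X ↘ (Spec (CommRingCat.of k))) :=
    Groth.Agent.Lib.Helper51.geometricallyIrreducible_of_separableClosure _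
  exact GeometricallyIntegral.of_geometricallyReduced_of_geometricallyIrreducible _

end Groth.Agent.S7613
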