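import Groth.Statements.S7615
import Mathlib
import Groth.Agent.Lib.Helper51.ProperH0

set_option autoImplicit false
universe u
open CategoryTheory CategoryTheory.Limits AlgebraicGeometry
open Variety

namespace Groth.Agent.S7615

/-- Let X be a proper variety over a field k (integral, separated, of finite type and proper over k) and
K = H^0(X, O_X), a k-algebra via the structure morphism. Then K is a field, finite over k; K/k is
separable when X is geometrically reduced over k, and purely inseparable when X is geometrically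
irreducible over k. -/
theorem result (k : Type u) [Field k] (X : Scheme.{u}) [X.Over (Spec (CommRingCat.of k))] [IsIntegral X] [IsProper (X ↘ (Spec (CommRingCat.of k)))] :
    letI := ((X ↘ (Spec (CommRingCat.of k))).appTop.hom.comp (Scheme.ΓSpecIso (CommRingCat.of k)).inv.hom : k →+* Γ(X, ⊤)).toAlgebra
    IsField ↑Γ(X, ⊤) ∧ Module.Finite k ↑Γ(X, ⊤) ∧
      (GeometricallyReduced (X ↘ (Spec (CommRingCat.of k))) → Algebra.IsSeparable k ↑Γ(X, ⊤)) ∧
      (GeometricallyIrreducible (X ↘ (Spec (CommRingCat.of k))) → IsPurelyInseparable k ↑Γ(X, ⊤)) := by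
  letI alg : Algebra k Γ(X, ⊤) := ((X ↘ (Spec (CommRingCat.of k))).appTop.hom.comp
    (Scheme.ΓSpecIso (CommRingCat.of k)).inv.hom : k →+* Γ(X, ⊤)).toAlgebra
  have hfield : IsField ↑Γ(X, ⊤) := isField_of_universallyClosed k (X ↘ (Spec (CommRingCat.of k)))
  have hfin : Module.Finite k ↑Γ(X, ⊤) := by
    have h1 := finite_appTop_of_universallyClosed k (X ↘ (Spec (CommRingCat.of k)))
    have h2 : (Scheme.ΓSpecIso (CommRingCat.of k)).inv.hom.Finite :=
      RingHom.Finite.of_surjective _
        ((ConcreteCategory.bijective_of_isIso (Scheme.ΓSpecIso (CommRingCat.of k)).inv).2)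
    exact h1.comp h2
  haveI : CompactSpace X :=
    (quasiCompact_iff_compactSpace (X ↘ (Spec (CommRingCat.of k)))).mp inferInstance
  letI fld : Field ↑Γ(X, ⊤) := hfield.toField
  refine ⟨hfield, hfin, fun hred => ?_, fun hirr => ?_⟩
  · haveI := hred
    haveI hgr : Algebra.IsGeometricallyReduced k ↑Γ(X, ⊤) :=
      Groth.Agent.Lib.Helper51.isGeometricallyReduced_Γ (X ↘ (Spec (CommRingCat.of k)))
    exact @Groth.Agent.Lib.Helper51.isSeparable_of_isGeometricallyReduced_of_finite k ↑Γ(X, ⊤) _ fld
      alg hfin hgr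
  · haveI := hirr
    have hsurj : Function.Surjective X.toSpecΓ := by
      intro y
      obtain ⟨x⟩ : Nonempty X := inferInstance
      haveI : Subsingleton (PrimeSpectrum ↑Γ(X, ⊤)) := inferInstance
      exact ⟨x, Subsingleton.elim (α := PrimeSpectrum ↑Γ(X, ⊤)) _ _⟩
    haveI hI : IrreducibleSpace (PrimeSpectrum (TensorProduct k ↑Γ(X, ⊤) (SeparableClosure k))) :=
      Groth.Agent.Lib.Helper51.irreducibleSpace_primeSpectrum_tensor_Γ
        (X ↘ (Spec (CommRingCat.of k))) hsurj (SeparableClosure k)
    exact @Groth.Agent.Lib.Helper51.isPurelyInseparable_of_irreducibleSpace_tensor k ↑Γ(X, ⊤)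
      (SeparableClosure k) _ fld alg hfin _ _ _ _ hI

end Groth.Agent.S7615
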