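import Groth.Statements.S7618
-- import your own Groth.Agent.* helpers here

set_option autoImplicit false
universe u
open CategoryTheory CategoryTheory.Limits AlgebraicGeometry
open Variety

namespace Groth.Agent.S7618

/-- algebraic core -/
theorem isField_integralClosure_of_idempotents {k R : Type*} [Field k] [CommRing R] [Algebra k R]
    [IsReduced R] [Nontrivial R] (hid : ∀ e : R, IsIdempotentElem e → e = 0 ∨ e = 1) :
    IsField ↥(integralClosure k R) := by
  refine ⟨⟨0, 1, zero_ne_one⟩, mul_comm, ?_⟩
  intro a ha
  have ha0 : (a : R) ≠ 0 := fun h => ha (Subtype.ext h)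
  have hint : IsIntegral k (a : R) := a.2
  -- it suffices to find a polynomial `u` with `u(a) * a = 1`
  suffices h : ∃ u : Polynomial k, Polynomial.aeval (a : R) u * (a : R) = 1 by
    obtain ⟨u, hu⟩ := h
    refine ⟨Polynomial.aeval a u, ?_⟩
    apply Subtype.ext
    rw [mul_comm]
    change ((Polynomial.aeval a u : integralClosure k R) : R) * (a : R) = 1
    rw [← Subalgebra.aeval_coe]
    exact hu
  set p := minpoly k (a : R) with hp
  have hpa : Polynomial.aeval (a : R) p = 0 := minpoly.aeval k _
  have hp0 : p ≠ 0 := minpoly.ne_zero hint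
  by_cases h1 : (Polynomial.X : Polynomial k) ∣ p
  · obtain ⟨q, hq⟩ := h1
    by_cases h2 : (Polynomial.X : Polynomial k) ∣ q
    · exfalso
      obtain ⟨q', hq'⟩ := h2
      have hq'0 : q' ≠ 0 := by
        rintro rfl
        apply hp0
        rw [hq, hq']
        simp
      have h3 : Polynomial.aeval (a : R) (Polynomial.X * q') = 0 := by
        have h4 : (Polynomial.aeval (a : R) (Polynomial.X * q')) ^ 2 = 0 := by
          have : (Polynomial.X * q') ^ 2 = p * q' := by rw [hq, hq']; ring
          rw [← map_pow, this, map_mul, hpa, zero_mul]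
        exact pow_eq_zero_iff (two_ne_zero) |>.mp h4
      have h5 := minpoly.degree_le_of_ne_zero k (a : R) (mul_ne_zero Polynomial.X_ne_zero hq'0) h3
      rw [← hp, hq, hq', Polynomial.degree_mul, Polynomial.degree_mul,
        Polynomial.degree_X] at h5
      have h6 : Polynomial.degree q' ≠ ⊥ := by
        rw [Ne, Polynomial.degree_eq_bot]
        exact hq'0
      rw [Polynomial.degree_eq_natDegree hq'0] at h5
      have : ((1 : ℕ) : WithBot ℕ) + (((1 : ℕ) : WithBot ℕ) + (q'.natDegree : WithBot ℕ)) ≤
          ((1 : ℕ) : WithBot ℕ) + (q'.natDegree : WithBot ℕ) := by exact_mod_cast h5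
      norm_cast at this
      omega
    · have hcop : IsCoprime (Polynomial.X : Polynomial k) q :=
        (Polynomial.irreducible_X.coprime_iff_not_dvd).mpr h2
      obtain ⟨u, v, huv⟩ := hcop
      have h3 := congrArg (Polynomial.aeval (a : R)) huv
      simp only [map_add, map_mul, Polynomial.aeval_X, map_one] at h3
      set e := Polynomial.aeval (a : R) u * (a : R) with he
      have h4 : (a : R) * Polynomial.aeval (a : R) q = 0 := by
        rw [← hpa, hq, map_mul, Polynomial.aeval_X]
      have hide : IsIdempotentElem e := by
        have h5 : e * (Polynomial.aeval (a : R) v * Polynomial.aeval (a : R) q) = 0 := by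
          rw [he]
          calc Polynomial.aeval (a : R) u * (a : R) * (Polynomial.aeval (a : R) v * Polynomial.aeval (a : R) q)
              = Polynomial.aeval (a : R) u * Polynomial.aeval (a : R) v * ((a : R) * Polynomial.aeval (a : R) q) := by ring
            _ = 0 := by rw [h4, mul_zero]
        have h6 : e = e * e := by
          calc e = e * 1 := (mul_one e).symm
            _ = e * (e + Polynomial.aeval (a : R) v * Polynomial.aeval (a : R) q) := by rw [h3]
            _ = e * e := by rw [mul_add, h5, add_zero]
        exact h6.symm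
      rcases hid e hide with h0 | h1'
      · exfalso
        rw [h0, zero_add] at h3
        apply ha0
        calc (a : R) = (a : R) * 1 := (mul_one _).symm
          _ = (a : R) * (Polynomial.aeval (a : R) v * Polynomial.aeval (a : R) q) := by rw [h3]
          _ = Polynomial.aeval (a : R) v * ((a : R) * Polynomial.aeval (a : R) q) := by ring
          _ = 0 := by rw [h4, mul_zero]
      · exact ⟨u, h1'⟩
  · have hcop : IsCoprime (Polynomial.X : Polynomial k) p :=
      (Polynomial.irreducible_X.coprime_iff_not_dvd).mpr h1
    obtain ⟨u, v, huv⟩ := hcop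
    have h3 := congrArg (Polynomial.aeval (a : R)) huv
    simp only [map_add, map_mul, Polynomial.aeval_X, map_one, hpa, mul_zero, add_zero] at h3
    exact ⟨u, h3⟩

theorem idempotent_trivial_of_connected (X : Scheme.{u}) [ConnectedSpace ↥X] [IsReduced X]
    (e : Γ(X, ⊤)) (he : IsIdempotentElem e) : e = 0 ∨ e = 1 := by
  have h1 : X.basicOpen e ⊓ X.basicOpen (1 - e) = ⊥ := by
    rw [← Scheme.basicOpen_mul]
    have : e * (1 - e) = 0 := by rw [mul_sub, mul_one, he.eq, sub_self]
    rw [this, Scheme.basicOpen_zero]
  have h2 : X.basicOpen e ⊔ X.basicOpen (1 - e) = ⊤ := by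
    rw [eq_top_iff]
    have h3 := X.basicOpen_add_le e (1 - e)
    rw [add_sub_cancel, Scheme.basicOpen_one] at h3
    exact h3
  have hclopen : IsClopen (X.basicOpen e : Set X) := by
    refine ⟨?_, (X.basicOpen e).isOpen⟩
    have : (X.basicOpen e : Set X) = (X.basicOpen (1 - e) : Set X)ᶜ := by
      ext x
      constructor
      · intro hx hx'
        have : x ∈ X.basicOpen e ⊓ X.basicOpen (1 - e) := ⟨hx, hx'⟩
        rw [h1] at this
        exact this
      · intro hx
        have : x ∈ X.basicOpen e ⊔ X.basicOpen (1 - e) := by rw [h2]; trivial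
        rcases this with h | h
        · exact h
        · exact absurd h hx
    rw [this]
    exact (X.basicOpen (1 - e)).isOpen.isClosed_compl
  rcases isClopen_iff.mp hclopen with h | h
  · left
    have : X.basicOpen e = ⊥ := TopologicalSpace.Opens.ext h
    exact (basicOpen_eq_bot_iff e).mp this
  · right
    have h4 : X.basicOpen e = ⊤ := TopologicalSpace.Opens.ext h
    rw [h4, top_inf_eq] at h1
    have := (basicOpen_eq_bot_iff (1 - e)).mp h1
    exact (sub_eq_zero.mp this).symm

/-- Let X be a connected reduced scheme over a field k. Then the global functions on X that are integral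
over k form a field. -/
theorem result (k : Type u) [Field k] (X : Scheme.{u}) [X.Over (Spec (CommRingCat.of k))] [ConnectedSpace ↥X] [IsReduced X] :
    letI := ((X ↘ (Spec (CommRingCat.of k))).appTop.hom.comp (Scheme.ΓSpecIso (CommRingCat.of k)).inv.hom : k →+* Γ(X, ⊤)).toAlgebra
    IsField ↥(integralClosure k ↑Γ(X, ⊤)) := by
  letI := ((X ↘ (Spec (CommRingCat.of k))).appTop.hom.comp (Scheme.ΓSpecIso (CommRingCat.of k)).inv.hom : k →+* Γ(X, ⊤)).toAlgebra
  have : Nontrivial Γ(X, ⊤) := by
    have : Nonempty X := inferInstance
    have : Nonempty (⊤ : X.Opens) := ⟨⟨Classical.arbitrary X, trivial⟩⟩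
    exact Scheme.component_nontrivial X ⊤
  exact isField_integralClosure_of_idempotents (fun e he => idempotent_trivial_of_connected X e he)

end Groth.Agent.S7618
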