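import Groth.Statements.S7619
-- import your own Groth.Agent.* helpers here

set_option autoImplicit false
universe u
open CategoryTheory CategoryTheory.Limits AlgebraicGeometry
open scoped TensorProduct
open Variety

namespace Groth.Agent.S7619

theorem span_one_tmul_D (A B : Type u) [CommRing A] [CommRing B] [Algebra A B]
    (K : Type u) [Field K] [Algebra B K] :
    Submodule.span K (Set.range (fun b : B => (1 : K) ⊗ₜ[B] KaehlerDifferential.D A B b)) = ⊤ := by
  rw [eq_top_iff]
  rintro x -
  induction x using TensorProduct.induction_on with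
  | zero => exact Submodule.zero_mem _
  | add x y hx hy => exact Submodule.add_mem _ hx hy
  | tmul k m =>
    have hm : m ∈ Submodule.span B (Set.range (KaehlerDifferential.D A B)) := by
      rw [KaehlerDifferential.span_range_derivation]; trivial
    induction hm using Submodule.span_induction with
    | mem m hm =>
      obtain ⟨b, rfl⟩ := hm
      have : k ⊗ₜ[B] KaehlerDifferential.D A B b = k • ((1 : K) ⊗ₜ[B] KaehlerDifferential.D A B b) := by
        rw [TensorProduct.smul_tmul', smul_eq_mul, mul_one]
      rw [this]
      exact Submodule.smul_mem _ _ (Submodule.subset_span ⟨b, rfl⟩)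
    | zero => rw [TensorProduct.tmul_zero]; exact Submodule.zero_mem _
    | add m₁ m₂ _ _ h₁ h₂ => rw [TensorProduct.tmul_add]; exact Submodule.add_mem _ h₁ h₂
    | smul b m _ h =>
      have : k ⊗ₜ[B] (b • m) = (algebraMap B K b) • (k ⊗ₜ[B] m) := by
        rw [TensorProduct.smul_tmul', smul_eq_mul, ← TensorProduct.smul_tmul, Algebra.smul_def]
      rw [this]
      exact Submodule.smul_mem _ _ h

/-- Let A → B be a finite type ring map (a finite type morphism of affine schemes), q a prime of B and r
= dim_{κ(q)} Ω_{B/A} ⊗_B κ(q). Then there is an A-algebra homomorphism A[x_1, …, x_r] → B for which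
B is unramified over A[x_1, …, x_r] at q. -/
theorem result (A B : Type u) [CommRing A] [CommRing B] [Algebra A B] [Algebra.FiniteType A B]
    (q : Ideal B) [q.IsPrime] (r : ℕ) (hr : Module.finrank q.ResidueField (q.ResidueField ⊗[B] Ω[B⁄A]) = r) :
    ∃ φ : MvPolynomial (Fin r) A →ₐ[A] B,
      letI := φ.toRingHom.toAlgebra
      Algebra.IsUnramifiedAt (MvPolynomial (Fin r) A) q := by
  let K := q.ResidueField
  let V := K ⊗[B] Ω[B⁄A]
  let s : Set V := Set.range (fun b : B => (1 : K) ⊗ₜ[B] KaehlerDifferential.D A B b)
  have hs : Submodule.span K s = ⊤ := span_one_tmul_D A B K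
  have hfin : Module.Finite B Ω[B⁄A] := inferInstance
  have hfinV : Module.Finite K V := inferInstance
  have hfins : Module.Finite K (Submodule.span K s) := by rw [hs]; infer_instance
  obtain ⟨f, hfs, hfspan, -⟩ := Submodule.exists_fun_fin_finrank_span_eq K s
  have hcard : Module.finrank K (Submodule.span K s) = r := by
    rw [hs, finrank_top]; exact hr
  choose c hc using hfs
  -- reindex
  let c' : Fin r → B := fun i => c (Fin.cast hcard.symm i)
  let φ : MvPolynomial (Fin r) A →ₐ[A] B := MvPolynomial.aeval c'
  refine ⟨φ, ?_⟩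
  letI := φ.toRingHom.toAlgebra
  have htower : IsScalarTower A (MvPolynomial (Fin r) A) B :=
    IsScalarTower.of_algebraMap_eq (fun a => (φ.commutes a).symm)
  have hft : Algebra.FiniteType (MvPolynomial (Fin r) A) B :=
    Algebra.FiniteType.of_restrictScalars_finiteType A _ B
  have hfin' : Module.Finite B Ω[B⁄MvPolynomial (Fin r) A] := inferInstance
  have hsub : Subsingleton (K ⊗[B] Ω[B⁄MvPolynomial (Fin r) A]) := by
    -- the surjection K ⊗ Ω[B/A] → K ⊗ Ω[B/P] kills a spanning set
    let g : Ω[B⁄A] →ₗ[B] Ω[B⁄MvPolynomial (Fin r) A] :=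
      KaehlerDifferential.map A (MvPolynomial (Fin r) A) B B
    have hg : Function.Surjective g := KaehlerDifferential.map_surjective A (MvPolynomial (Fin r) A) B
    let G : V →ₗ[K] K ⊗[B] Ω[B⁄MvPolynomial (Fin r) A] := g.baseChange K
    have hG : Function.Surjective G := LinearMap.lTensor_surjective K hg
    have hG0 : G = 0 := by
      apply LinearMap.ext_on_range (v := f)
      · rw [hfspan, hs]
      · intro i
        rw [← hc i]
        change g.baseChange K ((1 : K) ⊗ₜ[B] KaehlerDifferential.D A B (c i)) = 0
        rw [LinearMap.baseChange_tmul]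
        have h1 : g (KaehlerDifferential.D A B (c i)) =
            KaehlerDifferential.D (MvPolynomial (Fin r) A) B (c i) := by
          change KaehlerDifferential.map A (MvPolynomial (Fin r) A) B B (KaehlerDifferential.D A B (c i)) = _
          rw [KaehlerDifferential.map_D]
          rfl
        have h2 : c i = algebraMap (MvPolynomial (Fin r) A) B (MvPolynomial.X (Fin.cast hcard i)) := by
          change c i = φ (MvPolynomial.X (Fin.cast hcard i))
          rw [MvPolynomial.aeval_X]
          simp [c']
        rw [h1, h2, Derivation.map_algebraMap, TensorProduct.tmul_zero]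
    refine ⟨fun x y => ?_⟩
    obtain ⟨x', rfl⟩ := hG x
    obtain ⟨y', rfl⟩ := hG y
    rw [hG0]; rfl
  have hnot : (⟨q, inferInstance⟩ : PrimeSpectrum B) ∉ Module.support B Ω[B⁄MvPolynomial (Fin r) A] := by
    rw [Module.mem_support_iff_nontrivial_residueField_tensorProduct]
    exact not_nontrivial _
  have hmem : (⟨q, inferInstance⟩ : PrimeSpectrum B) ∈ Algebra.unramifiedLocus (MvPolynomial (Fin r) A) B := by
    rw [Algebra.unramifiedLocus_eq_compl_support]
    exact hnot
  exact hmem

end Groth.Agent.S7619
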