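import Groth.Statements.S7620
import Groth.Agent.Lib.Helper73.DimFT.Basic

set_option autoImplicit false
universe u
open CategoryTheory CategoryTheory.Limits AlgebraicGeometry
open scoped TensorProduct
open Variety

namespace Groth.Agent.S7620

theorem exists_smul_eq_one_tmul (A B : Type u) [CommRing A] [CommRing B] [Algebra A B]
    (p : Ideal A) [p.IsPrime] (z : p.ResidueField ⊗[A] B) :
    ∃ a : A, a ∉ p ∧ ∃ b : B, algebraMap A p.ResidueField a • z = (1 : p.ResidueField) ⊗ₜ[A] b := by
  induction z using TensorProduct.induction_on with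
  | zero => exact ⟨1, fun h => (Ideal.IsPrime.ne_top inferInstance) ((Ideal.eq_top_iff_one p).mpr h), 0, by simp⟩
  | tmul x b' =>
    obtain ⟨y, rfl⟩ := IsLocalRing.residue_surjective (R := Localization.AtPrime p) x
    obtain ⟨⟨a', s⟩, hs⟩ := IsLocalization.surj p.primeCompl y
    refine ⟨s.1, s.2, a' • b', ?_⟩
    have h1 : algebraMap A p.ResidueField s.1 * IsLocalRing.residue (Localization.AtPrime p) y =
        algebraMap A p.ResidueField a' := by
      have h2 := congrArg (IsLocalRing.residue (Localization.AtPrime p)) hs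
      rw [map_mul] at h2
      rw [mul_comm]
      exact h2
    rw [TensorProduct.smul_tmul', smul_eq_mul, h1, Algebra.algebraMap_eq_smul_one, TensorProduct.smul_tmul]
  | add z₁ z₂ h₁ h₂ =>
    obtain ⟨a₁, ha₁, b₁, e₁⟩ := h₁
    obtain ⟨a₂, ha₂, b₂, e₂⟩ := h₂
    refine ⟨a₁ * a₂, fun h => (Ideal.IsPrime.mem_or_mem inferInstance h).elim ha₁ ha₂, a₂ • b₁ + a₁ • b₂, ?_⟩
    rw [smul_add, map_mul]
    have h3 : (algebraMap A p.ResidueField a₁ * algebraMap A p.ResidueField a₂) • z₁ =
        algebraMap A p.ResidueField a₂ • (algebraMap A p.ResidueField a₁ • z₁) := by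
      rw [smul_smul, mul_comm]
    have h4 : (algebraMap A p.ResidueField a₁ * algebraMap A p.ResidueField a₂) • z₂ =
        algebraMap A p.ResidueField a₁ • (algebraMap A p.ResidueField a₂ • z₂) := by
      rw [smul_smul]
    rw [h3, h4, e₁, e₂, TensorProduct.tmul_add]
    congr 1
    · rw [TensorProduct.smul_tmul', smul_eq_mul, mul_one, Algebra.algebraMap_eq_smul_one, TensorProduct.smul_tmul]
    · rw [TensorProduct.smul_tmul', smul_eq_mul, mul_one, Algebra.algebraMap_eq_smul_one, TensorProduct.smul_tmul]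

/-- Let A → B be a finite type ring map (a finite type morphism of affine schemes X → S), p a prime of A
and suppose the fibre ring κ(p) ⊗_A B has Krull dimension d. Then there is an A-algebra homomorphism
π : A[t_1, …, t_d] → B such that the induced map of fibres κ(p) ⊗_A A[t_1, …, t_d] → κ(p) ⊗_A B is
finite. -/
theorem result (A B : Type u) [CommRing A] [CommRing B] [Algebra A B] [Algebra.FiniteType A B]
    (p : Ideal A) [p.IsPrime] (d : ℕ) (hd : ringKrullDim (p.ResidueField ⊗[A] B) = d) :
    ∃ π : MvPolynomial (Fin d) A →ₐ[A] B,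
      (Algebra.TensorProduct.map (AlgHom.id p.ResidueField p.ResidueField) π).toRingHom.Finite := by
  let k := p.ResidueField
  let C := k ⊗[A] B
  have hnt : Nontrivial C := by
    by_contra hC
    rw [not_nontrivial_iff_subsingleton] at hC
    have : ringKrullDim C = ⊥ := ringKrullDim_eq_bot_of_subsingleton
    rw [hd] at this
    exact WithBot.coe_ne_bot this
  have hft : Algebra.FiniteType k C := inferInstance
  obtain ⟨s, g, hginj, hgfin⟩ := exists_finite_inj_algHom_of_fg k C
  have hsd : s = d := by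
    have h1 := Groth.Agent.Lib.Helper73.ringKrullDim_eq_of_finite_injective g hginj hgfin
    rw [hd] at h1
    exact_mod_cast h1.symm
  subst hsd
  -- lift the images of the variables
  have hl : ∀ i : Fin s, ∃ a : A, a ∉ p ∧ ∃ b : B,
      algebraMap A k a • g (MvPolynomial.X i) = (1 : k) ⊗ₜ[A] b :=
    fun i => exists_smul_eq_one_tmul A B p (g (MvPolynomial.X i))
  choose a ha b hb using hl
  let u : Fin s → k := fun i => algebraMap A k (a i)
  have hu : ∀ i, u i ≠ 0 := by
    intro i h
    apply ha i
    have : algebraMap A k (a i) = 0 := h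
    rwa [Ideal.algebraMap_residueField_eq_zero] at this
  let π : MvPolynomial (Fin s) A →ₐ[A] B := MvPolynomial.aeval b
  refine ⟨π, ?_⟩
  let e : k ⊗[A] MvPolynomial (Fin s) A ≃ₐ[k] MvPolynomial (Fin s) k :=
    MvPolynomial.algebraTensorAlgEquiv A k
  let σ : MvPolynomial (Fin s) k →ₐ[k] MvPolynomial (Fin s) k :=
    MvPolynomial.aeval (fun i => MvPolynomial.C (u i) * MvPolynomial.X i)
  have hσsurj : Function.Surjective σ := by
    rw [← AlgHom.range_eq_top, eq_top_iff, ← MvPolynomial.adjoin_range_X, Algebra.adjoin_le_iff]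
    rintro _ ⟨i, rfl⟩
    refine ⟨MvPolynomial.C (u i)⁻¹ * MvPolynomial.X i, ?_⟩
    change σ (MvPolynomial.C (u i)⁻¹ * MvPolynomial.X i) = MvPolynomial.X i
    rw [map_mul, MvPolynomial.aeval_X, MvPolynomial.aeval_C, ← mul_assoc]
    change (MvPolynomial.C (u i)⁻¹ * MvPolynomial.C (u i)) * MvPolynomial.X i = MvPolynomial.X i
    rw [← MvPolynomial.C_mul, inv_mul_cancel₀ (hu i), MvPolynomial.C_1, one_mul]
  have hF : Algebra.TensorProduct.map (AlgHom.id k k) π = (g.comp σ).comp e.toAlgHom := by
    apply Algebra.TensorProduct.ext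
    · exact Subsingleton.elim _ _
    · apply MvPolynomial.algHom_ext
      intro i
      change (Algebra.TensorProduct.map (AlgHom.id k k) π) ((1 : k) ⊗ₜ[A] MvPolynomial.X i) =
        g (σ (e ((1 : k) ⊗ₜ[A] MvPolynomial.X i)))
      rw [Algebra.TensorProduct.map_tmul]
      have h1 : e ((1 : k) ⊗ₜ[A] MvPolynomial.X i) = MvPolynomial.X i := by
        change MvPolynomial.algebraTensorAlgEquiv A k ((1 : k) ⊗ₜ[A] MvPolynomial.X i) = _
        rw [MvPolynomial.algebraTensorAlgEquiv_tmul, one_smul, MvPolynomial.map_X]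
      have h2 : σ (MvPolynomial.X i) = u i • MvPolynomial.X i := by
        change MvPolynomial.aeval _ (MvPolynomial.X i) = _
        rw [MvPolynomial.aeval_X, MvPolynomial.C_mul']
      rw [h1, h2, map_smul]
      change (1 : k) ⊗ₜ[A] (MvPolynomial.aeval b (MvPolynomial.X i)) = u i • g (MvPolynomial.X i)
      rw [MvPolynomial.aeval_X]
      exact (hb i).symm
  rw [hF]
  change ((g.toRingHom.comp σ.toRingHom).comp e.toAlgHom.toRingHom).Finite
  refine RingHom.Finite.comp (RingHom.Finite.comp hgfin ?_) ?_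
  · exact RingHom.Finite.of_surjective _ hσsurj
  · exact RingHom.Finite.of_surjective _ e.surjective

end Groth.Agent.S7620
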