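import Groth.Statements.S7621
-- import your own Groth.Agent.* helpers here
import Groth.Agent.Lib.Helper36.GalCont

set_option autoImplicit false
universe u
open CategoryTheory CategoryTheory.Limits AlgebraicGeometry
open Variety

namespace Groth.Agent.S7621

open Groth.Agent.Lib.Helper36.GalCont Groth.Agent.Lib.Helper78.GalTrans

/-- Let K be a (possibly infinite) Galois extension of a field k, X a scheme over k and V a
quasi-compact open subset of X_K. Then there is a subextension k'/k of K, finite over k, such that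
every k-automorphism of K fixing k' pointwise maps V onto itself under its action on X_K (an open
subgroup of the Galois group stabilises V). -/
theorem result (k : Type u) [Field k] (K : Type u) [Field K] [Algebra k K] [IsGalois k K]
    (X : Scheme.{u}) [X.Over (Spec (CommRingCat.of k))] (V : Set ↥(Curv2.bc k X K)) (hV : IsOpen V) (hVc : IsCompact V) :
    ∃ E : IntermediateField k K, FiniteDimensional k ↥E ∧
      ∀ σ : K ≃ₐ[k] K, (∀ a : K, a ∈ E → σ a = a) → (Curv2.galAct k X K σ).base '' V = V := by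
  have key : ∀ v ∈ V, ∃ (W : Set ↥(pullback (X ↘ Spec (CommRingCat.of k))
      (Spec.map (CommRingCat.ofHom (algebraMap k K))))) (H : Subgroup (K ≃ₐ[k] K)),
      IsOpen W ∧ v ∈ W ∧ IsOpen (H : Set (K ≃ₐ[k] K)) ∧
        ∀ σ ∈ H, ∀ w ∈ W, gal (X ↘ Spec (CommRingCat.of k)) K σ w ∈ V :=
    fun v hv => scheme_cont K (X ↘ Spec (CommRingCat.of k)) v V hV hv
  choose! W H hW hvW hH hact using key
  obtain ⟨t, htV, htfin, hcov⟩ := hVc.elim_finite_subcover_image (b := V) (c := W)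
    (fun v hv => hW v hv) (fun v hv => Set.mem_biUnion hv (hvW v hv))
  have hsub : ∀ σ ∈ (⨅ i ∈ t, H i : Subgroup (K ≃ₐ[k] K)),
      ∀ v ∈ V, gal (X ↘ Spec (CommRingCat.of k)) K σ v ∈ V := by
    intro σ hσ v hv
    obtain ⟨i, hi, hvi⟩ := Set.mem_iUnion₂.1 (hcov hv)
    have hσi : σ ∈ H i := Subgroup.mem_iInf.1 (Subgroup.mem_iInf.1 hσ i) hi
    exact hact i (htV hi) σ hσi v hvi
  have hopen : IsOpen ((⨅ i ∈ t, H i : Subgroup (K ≃ₐ[k] K)) : Set (K ≃ₐ[k] K)) := by
    have : ((⨅ i ∈ t, H i : Subgroup (K ≃ₐ[k] K)) : Set (K ≃ₐ[k] K)) =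
        ⋂ i ∈ t, (H i : Set (K ≃ₐ[k] K)) := by
      simp [Subgroup.coe_iInf]
    rw [this]
    exact htfin.isOpen_biInter fun i hi => hH i (htV hi)
  obtain ⟨E, hE, hEH⟩ := (krullTopology_mem_nhds_one_iff k K _).1
    (hopen.mem_nhds (⨅ i ∈ t, H i : Subgroup (K ≃ₐ[k] K)).one_mem)
  refine ⟨E, hE, fun σ hσE => ?_⟩
  have hσ : σ ∈ (⨅ i ∈ t, H i : Subgroup (K ≃ₐ[k] K)) := hEH (fun x => hσE x x.2)
  apply Set.Subset.antisymm
  · rintro _ ⟨v, hv, rfl⟩
    exact hsub σ hσ v hv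
  · intro v hv
    refine ⟨gal (X ↘ Spec (CommRingCat.of k)) K σ⁻¹ v, hsub σ⁻¹ (inv_mem hσ) v hv, ?_⟩
    exact gal_inv_apply (X ↘ Spec (CommRingCat.of k)) K σ v

end Groth.Agent.S7621
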