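import Groth.Statements.S7624
import Groth.Agent.Lib.Helper22.ValTrdegSch
import Groth.Agent.Lib.Helper22.GenericFibreDim

set_option autoImplicit false
universe u
open CategoryTheory CategoryTheory.Limits AlgebraicGeometry
open Variety

namespace Groth.Agent.S7624

/-- Let R be a valuation ring, X an irreducible scheme and f : X → Spec R a surjective morphism locally
of finite type. Then each irreducible component of the fibre of f over the closed point of Spec R
has Krull dimension equal to that of the fibre of f over the generic point. -/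
theorem result (R : Type u) [CommRing R] [IsDomain R] [ValuationRing R]
    (X : Scheme.{u}) [IrreducibleSpace ↥X] (f : X ⟶ Spec (CommRingCat.of R)) [LocallyOfFiniteType f] [Surjective f]
    (Z : Set ↥(f.fiber (IsLocalRing.closedPoint R))) (hZ : Z ∈ irreducibleComponents ↥(f.fiber (IsLocalRing.closedPoint R))) :
    topologicalKrullDim ↥Z = topologicalKrullDim ↥(f.fiber (⟨⊥, Ideal.bot_prime⟩ : PrimeSpectrum R)) := by
  open Groth.Agent.Lib.Helper73 Groth.Agent.Lib.Helper72.FibDimIrr Groth.Agent.Lib.Helper22.ValTrdeg Groth.Agent.Lib.Helper22.GenStr in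
  set ξ := genericPoint ↥X with hξdef
  set gp : ↥(Spec (CommRingCat.of R)) := ⟨⊥, Ideal.bot_prime⟩ with hgp
  have hξ : f ξ = gp := by
    obtain ⟨w, hw⟩ := Surjective.surj (f := f) gp
    have h1 : f ξ ⤳ f w := (genericPoint_specializes w).map f.continuous
    rw [hw] at h1
    have h2 : gp ⤳ f ξ := (PrimeSpectrum.le_iff_specializes gp (f ξ)).1 bot_le
    exact (h1.antisymm h2).eq
  have hle : ∀ y (x : X), f x = y → resTrdegNat f x ≤ resTrdegNat f ξ := fun y x _ =>
    resTrdegNat_le_of_specializes f (genericPoint_specializes x)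
  have hgen : topologicalKrullDim ↥(f.fiber gp) = ((resTrdegNat f ξ : ℕ) : WithBot ℕ∞) :=
    le_antisymm ((topologicalKrullDim_fiber_le_iff_resTrdegNat f _ _).2 (hle _))
      (le_topologicalKrullDim_fiber f _ _ ξ hξ le_rfl)
  rw [hgen]
  refine le_antisymm ?_ (Groth.Agent.Lib.Helper22.GenericFibreDim.le_dim_irreducibleComponent_fiber f _ Z hZ)
  refine le_trans ?_ ((topologicalKrullDim_fiber_le_iff_resTrdegNat f (IsLocalRing.closedPoint R) _).2 (hle _))
  exact Topology.IsInducing.subtypeVal.topologicalKrullDim_le


end Groth.Agent.S7624
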