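import Groth.Statements.S7625
import Groth.Agent.Lib.Helper73.DimFormula.AffineSpaceQF

set_option autoImplicit false
universe u
open CategoryTheory CategoryTheory.Limits AlgebraicGeometry
open Variety

namespace Groth.Agent.S7625

/-- Let f : X → S be locally of finite type, x a point of X with image s, V an affine open neighbourhood
of s in S, and suppose dim_x(X_s) = d. Then there is an affine open neighbourhood U of x with f(U) ⊆
V and a factorisation of f|_U as U → 𝔸^d_V → V with U → 𝔸^d_V locally quasi-finite and locally of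
finite type (hence quasi-finite, U being affine). -/
theorem result {X S : Scheme.{u}} (f : X ⟶ S) [LocallyOfFiniteType f] (x : ↥X)
    (V : S.Opens) (hV : IsAffineOpen V) (hxV : f x ∈ V) (d : ℕ) (hd : FlatMor.fibreDimAt f x = d) :
    ∃ (U : X.Opens), IsAffineOpen U ∧ x ∈ U ∧
      ∃ (g : (U : Scheme.{u}) ⟶ (V : Scheme.{u})) (π : (U : Scheme.{u}) ⟶ 𝔸(ULift.{u} (Fin d); (V : Scheme.{u}))),
        g ≫ V.ι = U.ι ≫ f ∧ π ≫ (𝔸(ULift.{u} (Fin d); (V : Scheme.{u})) ↘ (V : Scheme.{u})) = g ∧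
          LocallyQuasiFinite π ∧ LocallyOfFiniteType π := by
  open Groth.Agent.Lib.Helper73 AlgebraicGeometry CategoryTheory in
  let x' : ↥(f ⁻¹ᵁ V : Scheme.{u}) := ⟨x, hxV⟩
  have h1 : FlatMor.fibreDimAt (f ∣_ V) x' = FlatMor.fibreDimAt f x :=
    fibreDimAt_eq_of_isOpenImmersion_square (f ⁻¹ᵁ V).ι V.ι (f ∣_ V) f (morphismRestrict_ι f V) x'
  obtain ⟨U', g', hxU', -, hg'over, hg'QF⟩ :=
    exists_locallyQuasiFinite_toAffineSpace (f ∣_ V) x' d (by rw [h1, hd]) ⊤ trivial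
  have hg'lft : LocallyOfFiniteType g' := by
    have : LocallyOfFiniteType (g' ≫ (𝔸(ULift.{u} (Fin d); (V : Scheme.{u})) ↘ (V : Scheme.{u}))) := by
      rw [hg'over]; infer_instance
    exact locallyOfFiniteType_of_comp g' (𝔸(ULift.{u} (Fin d); (V : Scheme.{u})) ↘ (V : Scheme.{u}))
  obtain ⟨U'', hU'', hxU'', hU''le⟩ :=
    exists_isAffineOpen_mem_and_subset (X := (f ⁻¹ᵁ V : Scheme.{u})) (x := x') (U := U') hxU'
  have hle : U'' ≤ U' := hU''le
  let U : X.Opens := (f ⁻¹ᵁ V).ι ''ᵁ U''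
  have hU : IsAffineOpen U := hU''.image_of_isOpenImmersion (f ⁻¹ᵁ V).ι
  have hxU : x ∈ U := ⟨x', hxU'', rfl⟩
  let e : (U : Scheme.{u}) ≅ (U'' : Scheme.{u}) := ((f ⁻¹ᵁ V).ι.isoImage U'').symm
  let π : (U : Scheme.{u}) ⟶ 𝔸(ULift.{u} (Fin d); (V : Scheme.{u})) :=
    e.hom ≫ (f ⁻¹ᵁ V : Scheme.{u}).homOfLE hle ≫ g'
  have hπ1 : LocallyQuasiFinite π :=
    inferInstanceAs (LocallyQuasiFinite (e.hom ≫ (f ⁻¹ᵁ V : Scheme.{u}).homOfLE hle ≫ g'))
  have hπ2 : LocallyOfFiniteType π :=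
    inferInstanceAs (LocallyOfFiniteType (e.hom ≫ (f ⁻¹ᵁ V : Scheme.{u}).homOfLE hle ≫ g'))
  refine ⟨U, hU, hxU, π ≫ (𝔸(ULift.{u} (Fin d); (V : Scheme.{u})) ↘ (V : Scheme.{u})), π, ?_, rfl,
    hπ1, hπ2⟩
  simp only [π, Category.assoc, hg'over]
  rw [Scheme.homOfLE_ι_assoc, morphismRestrict_ι]
  exact (f ⁻¹ᵁ V).ι.isoImage_inv_ι_assoc U'' f

end Groth.Agent.S7625
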