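import Groth.Statements.S7627
import Mathlib
import Groth.Agent.Lib.Helper67.FiberStalk
import Groth.Agent.Lib.Helper90.FlatDim1
import Groth.Agent.Lib.Helper51.StalkBC

set_option autoImplicit false
universe u
open CategoryTheory CategoryTheory.Limits AlgebraicGeometry
attribute [local instance] Curv2.resAlgebra
open scoped TensorProduct
open Variety

namespace Groth.Agent.S7627

open IsLocalRing

theorem eq_zero_of_add {a d : WithBot ℕ∞} (ha : a ≠ ⊤) (ha' : a ≠ ⊥) (hd : 0 ≤ d) (h : a = a + d) :
    d = 0 := by
  induction d using WithBot.recBotCoe with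
  | bot => exact absurd hd (by simp)
  | coe d =>
    induction a using WithBot.recBotCoe with
    | bot => exact absurd rfl ha'
    | coe a =>
      have h2 : (a : ℕ∞) = a + d := by
        have : ((a : ℕ∞) : WithBot ℕ∞) = ((a + d : ℕ∞) : WithBot ℕ∞) := by
          rw [WithBot.coe_add]; exact h
        exact WithBot.coe_injective this
      have ha2 : a ≠ ⊤ := fun h => ha (by rw [h]; rfl)
      have : d = 0 := by
        have h3 : a + 0 = a + d := by simpa using h2
        exact ((ENat.add_right_injective_of_ne_top ha2) h3).symm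
      rw [this]; rfl

theorem ring_key {A B : Type u} [CommRing A] [CommRing B] [IsLocalRing A] [IsLocalRing B]
    [IsNoetherianRing A] [IsNoetherianRing B] (φ : A →+* B) [IsLocalHom φ] (hflat : φ.Flat)
    (hdim : ringKrullDim A = ringKrullDim B)
    (hred : IsReduced (B ⧸ (maximalIdeal A).map φ)) :
    (maximalIdeal A).map φ = maximalIdeal B := by
  let _ := φ.toAlgebra
  have : IsLocalHom (algebraMap A B) := ‹IsLocalHom φ›
  have : Module.Flat A B := hflat
  set J := (maximalIdeal A).map (algebraMap A B) with hJ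
  have hJne : J ≠ ⊤ := Groth.Agent.Lib.Helper90.FlatDim.map_ne_top _
    (maximalIdeal.isMaximal A).ne_top
  have : Nontrivial (B ⧸ J) := Ideal.Quotient.nontrivial_iff.mpr hJne
  have : IsLocalRing (B ⧸ J) :=
    IsLocalRing.of_surjective' (Ideal.Quotient.mk _) Ideal.Quotient.mk_surjective
  have hd := Groth.Agent.Lib.Helper90.FlatDim.ringKrullDim_eq_add_of_flat (R := A) (S := B)
  rw [← hdim, ← hJ] at hd
  have hd0 : ringKrullDim (B ⧸ J) = 0 :=
    eq_zero_of_add ringKrullDim_ne_top ringKrullDim_ne_bot ringKrullDim_nonneg_of_nontrivial hd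
  have : Ring.KrullDimLE 0 (B ⧸ J) := by
    rw [Ring.krullDimLE_iff, hd0]
    rfl
  have : IsReduced (B ⧸ J) := hred
  have hfield : IsField (B ⧸ J) := Ring.KrullDimLE.isField_of_isReduced (R := B ⧸ J)
  have hmax : J.IsMaximal := Ideal.Quotient.maximal_of_isField J hfield
  exact IsLocalRing.eq_maximalIdeal hmax

section Sch

variable (k : Type u) [Field k] (X : Scheme.{u}) [X.Over (Spec (CommRingCat.of k))]
  (K : Type u) [Field K] [Algebra k K]

theorem specMap_resMap (x : X) :
    Spec.map (CommRingCat.ofHom (algebraMap k (X.residueField x))) =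
      X.fromSpecResidueField x ≫ (X ↘ Spec (CommRingCat.of k)) := by
  have h1 := Groth.Agent.Lib.Helper51.specMap_stalkMapOf (X ↘ Spec (CommRingCat.of k)) x
  have h2 : (algebraMap k (X.residueField x)) =
      (X.residue x).hom.comp ((X.presheaf.germ ⊤ x trivial).hom.comp
        (Coh.toGlobal (X ↘ Spec (CommRingCat.of k)))) := rfl
  rw [h2, CommRingCat.ofHom_comp, Spec.map_comp, CommRingCat.ofHom_hom, h1]
  rfl

/-- the fibre of `X_K → X` over `x` is `Spec (κ(x) ⊗ K)`. -/
noncomputable def fibreIso (x : X) :
    (Curv2.bcFst k X K).fiber x ≅ Spec (CommRingCat.of (X.residueField x ⊗[k] K)) :=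
  pullbackSymmetry _ _ ≪≫ pullbackRightPullbackFstIso _ _ _ ≪≫
    pullback.congrHom (specMap_resMap k X x).symm rfl ≪≫ pullbackSpecIso k (X.residueField x) K

theorem isReduced_fiber (x : X) (hred : _root_.IsReduced (X.residueField x ⊗[k] K)) :
    IsReduced ((Curv2.bcFst k X K).fiber x) := by
  have : IsReduced (Spec (CommRingCat.of (X.residueField x ⊗[k] K))) :=
    (affine_isReduced_iff _).mpr hred
  exact isReduced_of_isOpenImmersion (fibreIso k X K x).hom

end Sch

open Groth.Agent.Lib.Helper67.FiberStalk in

/-- Let X be locally of finite type over a field k, K an extension field of k, y a point of X_K with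
image x in X. Assume dim O_{X, x} = dim O_{X_K, y} and that κ(x) ⊗_k K is reduced (for instance
κ(x)/k separable or K/k separable). Then m_x O_{X_K, y} = m_y. -/
theorem result (k : Type u) [Field k] (X : Scheme.{u}) [X.Over (Spec (CommRingCat.of k))] [LocallyOfFiniteType (X ↘ (Spec (CommRingCat.of k)))]
    (K : Type u) [Field K] [Algebra k K] (y : ↥(Curv2.bc k X K))
    (hdim : ringKrullDim ↥(X.presheaf.stalk (Curv2.bcFst k X K y)) = ringKrullDim ↥((Curv2.bc k X K).presheaf.stalk y))
    (hred : _root_.IsReduced (X.residueField (Curv2.bcFst k X K y) ⊗[k] K)) :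
    Ideal.map ((Curv2.bcFst k X K).stalkMap y).hom (IsLocalRing.maximalIdeal ↥(X.presheaf.stalk (Curv2.bcFst k X K y))) =
      IsLocalRing.maximalIdeal ↥((Curv2.bc k X K).presheaf.stalk y) := by
  have hN : IsLocallyNoetherian X :=
    LocallyOfFiniteType.isLocallyNoetherian (X ↘ (Spec (CommRingCat.of k)))
  have hft : LocallyOfFiniteType (pullback.snd (X ↘ (Spec (CommRingCat.of k)))
      (Spec.map (CommRingCat.ofHom (algebraMap k K)))) :=
    MorphismProperty.pullback_snd (P := @LocallyOfFiniteType) _ _ inferInstance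
  have hNK : IsLocallyNoetherian (Curv2.bc k X K) :=
    LocallyOfFiniteType.isLocallyNoetherian (pullback.snd (X ↘ (Spec (CommRingCat.of k)))
      (Spec.map (CommRingCat.ofHom (algebraMap k K))))
  have hflat0 : Flat (Spec.map (CommRingCat.ofHom (algebraMap k K))) := by
    rw [HasRingHomProperty.Spec_iff (P := @Flat)]
    change (algebraMap k K).Flat
    rw [RingHom.flat_algebraMap_iff]
    infer_instance
  have hflat : Flat (Curv2.bcFst k X K) :=
    MorphismProperty.pullback_fst (P := @Flat) _ _ hflat0
  have hF := isReduced_fiber k X K (Curv2.bcFst k X K y) hred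
  have hst : _root_.IsReduced (((Curv2.bcFst k X K).fiber (Curv2.bcFst k X K y)).presheaf.stalk
      ((Curv2.bcFst k X K).asFiber y)) := inferInstance
  have hQ : _root_.IsReduced (Q (Curv2.bcFst k X K) y) :=
    isReduced_of_injective (fiberStalkEquiv (Curv2.bcFst k X K) y).symm.toRingHom
      (fiberStalkEquiv (Curv2.bcFst k X K) y).symm.injective
  exact ring_key ((Curv2.bcFst k X K).stalkMap y).hom (Flat.stalkMap _ y) hdim hQ

end Groth.Agent.S7627
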