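import Groth.Statements.S7628
-- import your own Groth.Agent.* helpers here
import Groth.Agent.Lib.Helper36.GeomRedGerm

set_option autoImplicit false
universe u
open CategoryTheory CategoryTheory.Limits AlgebraicGeometry
open Variety

namespace Groth.Agent.S7628

open TensorProduct Groth.Agent.Lib.Helper36.GeomRedGerm

section Chart

variable {k : Type u} [Field k] {X : Scheme.{u}} (g : X ⟶ Spec (CommRingCat.of k))
  (R : Type u) [CommRing R] [Algebra k R] (ι : Spec (CommRingCat.of R) ⟶ X)
  (hφ : ι ≫ g = Spec.map (CommRingCat.ofHom (algebraMap k R)))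
  (B : Type u) [CommRing B] [Algebra k B]

/-- the chart `Spec (R ⊗ B) ⟶ X_B` attached to an affine chart `Spec R ⟶ X` -/
noncomputable def chart :
    Spec (CommRingCat.of (R ⊗[k] B)) ⟶ pullback g (Spec.map (CommRingCat.ofHom (algebraMap k B))) :=
  (pullbackSpecIso k R B).inv ≫
    pullback.map (Spec.map (CommRingCat.ofHom (algebraMap k R)))
      (Spec.map (CommRingCat.ofHom (algebraMap k B))) g
      (Spec.map (CommRingCat.ofHom (algebraMap k B))) ι (𝟙 _) (𝟙 _)
      (by rw [Category.comp_id, hφ]) (by rw [Category.comp_id, Category.id_comp])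

theorem chart_fst : chart g R ι hφ B ≫ pullback.fst _ _ =
    Spec.map (CommRingCat.ofHom (Algebra.TensorProduct.includeLeftRingHom : R →+* R ⊗[k] B)) ≫ ι := by
  unfold chart
  rw [Category.assoc, pullback.lift_fst, ← Category.assoc, pullbackSpecIso_inv_fst]

theorem chart_snd : chart g R ι hφ B ≫ pullback.snd _ _ =
    Spec.map (CommRingCat.ofHom
      (Algebra.TensorProduct.includeRight : B →ₐ[k] R ⊗[k] B).toRingHom) := by
  unfold chart
  rw [Category.assoc, pullback.lift_snd, Category.comp_id, pullbackSpecIso_inv_snd]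
  rfl

theorem isPullback_chart :
    IsPullback (chart g R ι hφ B) (Spec.map (CommRingCat.ofHom
      (Algebra.TensorProduct.includeLeftRingHom : R →+* R ⊗[k] B)))
      (pullback.fst g (Spec.map (CommRingCat.ofHom (algebraMap k B)))) ι := by
  have sq1 : IsPullback (pullback.map (Spec.map (CommRingCat.ofHom (algebraMap k R)))
      (Spec.map (CommRingCat.ofHom (algebraMap k B))) g
      (Spec.map (CommRingCat.ofHom (algebraMap k B))) ι (𝟙 _) (𝟙 _)
      (by rw [Category.comp_id, hφ]) (by rw [Category.comp_id, Category.id_comp]))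
      (pullback.fst _ _) (pullback.fst _ _) ι := by
    refine IsPullback.of_right ?_ (pullback.lift_fst _ _ _)
      (IsPullback.of_hasPullback g (Spec.map (CommRingCat.ofHom (algebraMap k B)))).flip
    rw [pullback.lift_snd, Category.comp_id, hφ]
    exact (IsPullback.of_hasPullback _ _).flip
  refine IsPullback.of_iso sq1 (pullbackSpecIso k R B) (Iso.refl _) (Iso.refl _) (Iso.refl _)
    ?_ ?_ ?_ ?_
  · unfold chart
    simp
  · simp [pullbackSpecIso_hom_fst]
  · simp
  · simp

instance isOpenImmersion_chart [IsOpenImmersion ι] : IsOpenImmersion (chart g R ι hφ B) :=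
  MorphismProperty.of_isPullback (isPullback_chart g R ι hφ B).flip
    (inferInstance : IsOpenImmersion ι)

theorem range_chart : Set.range (chart g R ι hφ B) =
    (pullback.fst g (Spec.map (CommRingCat.ofHom (algebraMap k B)))) ⁻¹' Set.range ι := by
  ext x
  constructor
  · rintro ⟨z, rfl⟩
    refine ⟨Spec.map (CommRingCat.ofHom
      (Algebra.TensorProduct.includeLeftRingHom : R →+* R ⊗[k] B)) z, ?_⟩
    rw [← Scheme.Hom.comp_apply, ← chart_fst g R ι hφ B, Scheme.Hom.comp_apply]
  · rintro ⟨r, hr⟩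
    obtain ⟨z, hz, -⟩ := exists_preimage_of_isPullback (isPullback_chart g R ι hφ B) x r hr.symm
    exact ⟨z, hz⟩

variable {B} in
/-- transition between charts along a homomorphism of coefficient algebras -/
theorem chart_comp {B' : Type u} [CommRing B'] [Algebra k B'] (ψ : B' →ₐ[k] B)
    (π : pullback g (Spec.map (CommRingCat.ofHom (algebraMap k B))) ⟶
      pullback g (Spec.map (CommRingCat.ofHom (algebraMap k B'))))
    (h1 : π ≫ pullback.fst _ _ = pullback.fst _ _)
    (h2 : π ≫ pullback.snd _ _ = pullback.snd _ _ ≫ Spec.map (CommRingCat.ofHom ψ.toRingHom)) :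
    chart g R ι hφ B ≫ π =
      Spec.map (CommRingCat.ofHom
        (Algebra.TensorProduct.map (AlgHom.id k R) ψ).toRingHom) ≫ chart g R ι hφ B' := by
  apply pullback.hom_ext
  · rw [Category.assoc, h1, chart_fst, Category.assoc, chart_fst, ← Category.assoc,
      ← Spec.map_comp, ← CommRingCat.ofHom_comp]
    congr 3
    ext x
    simp
  · rw [Category.assoc, h2, ← Category.assoc, chart_snd, Category.assoc, chart_snd,
      ← Spec.map_comp, ← Spec.map_comp, ← CommRingCat.ofHom_comp, ← CommRingCat.ofHom_comp]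
    congr 2

variable {B} in
theorem preimage_chart_basicOpen [IsOpenImmersion ι] {B' : Type u} [CommRing B'] [Algebra k B']
    (ψ : B' →ₐ[k] B)
    (π : pullback g (Spec.map (CommRingCat.ofHom (algebraMap k B))) ⟶
      pullback g (Spec.map (CommRingCat.ofHom (algebraMap k B'))))
    (h1 : π ≫ pullback.fst _ _ = pullback.fst _ _)
    (h2 : π ≫ pullback.snd _ _ = pullback.snd _ _ ≫ Spec.map (CommRingCat.ofHom ψ.toRingHom))
    (f' : R ⊗[k] B') :
    π ⁻¹' (chart g R ι hφ B' '' (PrimeSpectrum.basicOpen f' : Set (PrimeSpectrum (R ⊗[k] B')))) =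
      chart g R ι hφ B '' (PrimeSpectrum.basicOpen
        (Algebra.TensorProduct.map (AlgHom.id k R) ψ f') : Set (PrimeSpectrum (R ⊗[k] B))) := by
  have hc := chart_comp g R ι hφ ψ π h1 h2
  have hcz : ∀ z, π (chart g R ι hφ B z) = chart g R ι hφ B'
      (Spec.map (CommRingCat.ofHom
        (Algebra.TensorProduct.map (AlgHom.id k R) ψ).toRingHom) z) := by
    intro z
    have := congr_arg (fun φ => φ z) hc
    simpa only [Scheme.Hom.comp_apply] using this
  have hmem : ∀ z : PrimeSpectrum (R ⊗[k] B),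
      Spec.map (CommRingCat.ofHom (Algebra.TensorProduct.map (AlgHom.id k R) ψ).toRingHom) z ∈
        (PrimeSpectrum.basicOpen f' : Set (PrimeSpectrum (R ⊗[k] B'))) ↔
      z ∈ (PrimeSpectrum.basicOpen
        (Algebra.TensorProduct.map (AlgHom.id k R) ψ f') : Set (PrimeSpectrum (R ⊗[k] B))) := by
    intro z
    rfl
  ext x
  constructor
  · rintro ⟨z', hz', hx⟩
    have hxr : x ∈ Set.range (chart g R ι hφ B) := by
      rw [range_chart]
      have : pullback.fst g (Spec.map (CommRingCat.ofHom (algebraMap k B))) x =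
          pullback.fst g (Spec.map (CommRingCat.ofHom (algebraMap k B'))) (π x) := by
        rw [← Scheme.Hom.comp_apply, h1]
      rw [Set.mem_preimage, this, ← hx]
      have h3 : chart g R ι hφ B' z' ∈ Set.range (chart g R ι hφ B') := ⟨z', rfl⟩
      rw [range_chart] at h3
      exact h3
    obtain ⟨z, rfl⟩ := hxr
    refine ⟨z, ?_, rfl⟩
    rw [hcz] at hx
    have hinj := (chart g R ι hφ B').isOpenEmbedding.injective hx
    exact (hmem z).1 (hinj ▸ hz')
  · rintro ⟨z, hz, rfl⟩
    rw [Set.mem_preimage, hcz]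
    exact ⟨_, (hmem z).2 hz, rfl⟩

end Chart

/-- an affine chart of a `k`-scheme -/
structure AffChart {k : Type u} [Field k] {X : Scheme.{u}} (g : X ⟶ Spec (CommRingCat.of k)) where
  R : Type u
  [cr : CommRing R]
  [alg : Algebra k R]
  ι : Spec (CommRingCat.of R) ⟶ X
  [oi : IsOpenImmersion ι]
  hφ : ι ≫ g = Spec.map (CommRingCat.ofHom (algebraMap k R))

attribute [instance] AffChart.cr AffChart.alg AffChart.oi

section Local

variable {k : Type u} [Field k] {X : Scheme.{u}} (g : X ⟶ Spec (CommRingCat.of k))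
  (B : Type u) [CommRing B] [Algebra k B]

/-- every point of an open subset of `X_B` lies in the image of a basic open of a chart contained
in the open subset -/
theorem exists_chart (v : ↥(pullback g (Spec.map (CommRingCat.ofHom (algebraMap k B)))))
    (O : Set ↥(pullback g (Spec.map (CommRingCat.ofHom (algebraMap k B))))) (hO : IsOpen O)
    (hv : v ∈ O) :
    ∃ (C : AffChart g) (f : C.R ⊗[k] B),
      v ∈ chart g C.R C.ι C.hφ B ''
        (PrimeSpectrum.basicOpen f : Set (PrimeSpectrum (C.R ⊗[k] B))) ∧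
      chart g C.R C.ι C.hφ B ''
        (PrimeSpectrum.basicOpen f : Set (PrimeSpectrum (C.R ⊗[k] B))) ⊆ O := by
  obtain ⟨V, hV, hvV, -⟩ := exists_isAffineOpen_mem_and_subset
    (x := pullback.fst g (Spec.map (CommRingCat.ofHom (algebraMap k B))) v)
    (U := (⊤ : X.Opens)) trivial
  let ι : Spec Γ(X, V) ⟶ X := hV.fromSpec
  let φ : k →+* Γ(X, V) := (Spec.preimage (ι ≫ g)).hom
  let _ : Algebra k Γ(X, V) := φ.toAlgebra
  have hφ : ι ≫ g = Spec.map (CommRingCat.ofHom (algebraMap k Γ(X, V))) :=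
    (Spec.map_preimage (ι ≫ g)).symm
  let C : AffChart g := { R := Γ(X, V), ι := ι, hφ := hφ }
  have hvr : v ∈ Set.range (chart g C.R C.ι C.hφ B) := by
    rw [range_chart]
    change pullback.fst g (Spec.map (CommRingCat.ofHom (algebraMap k B))) v ∈ Set.range hV.fromSpec
    rw [hV.range_fromSpec]
    exact hvV
  obtain ⟨z, rfl⟩ := hvr
  have hO' : IsOpen (chart g C.R C.ι C.hφ B ⁻¹' O) :=
    hO.preimage (chart g C.R C.ι C.hφ B).continuous
  obtain ⟨_, ⟨f, rfl⟩, hzf, hsub⟩ :=
    PrimeSpectrum.isTopologicalBasis_basic_opens.exists_subset_of_mem_open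
      (show z ∈ chart g C.R C.ι C.hφ B ⁻¹' O from hv) hO'
  refine ⟨C, f, ⟨z, hzf, rfl⟩, ?_⟩
  rintro _ ⟨w, hw, rfl⟩
  exact hsub hw

end Local

section Alg

variable {k : Type u} [Field k] (R : Type u) [CommRing R] [Algebra k R]
  (A : Type u) [CommRing A] [Algebra k A]

/-- every tensor is defined over any subalgebra containing a suitable finite set -/
theorem exists_finite_lift (f : R ⊗[k] A) :
    ∃ s : Set A, s.Finite ∧ ∀ A' : Subalgebra k A, s ⊆ A' →
      ∃ f' : R ⊗[k] A', Algebra.TensorProduct.map (AlgHom.id k R) A'.val f' = f := by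
  induction f using TensorProduct.induction_on with
  | zero => exact ⟨∅, Set.finite_empty, fun A' _ => ⟨0, map_zero _⟩⟩
  | tmul r a =>
    refine ⟨{a}, Set.finite_singleton a, fun A' hA' => ⟨r ⊗ₜ ⟨a, hA' rfl⟩, ?_⟩⟩
    simp
  | add x y hx hy =>
    obtain ⟨s₁, hs₁, h₁⟩ := hx
    obtain ⟨s₂, hs₂, h₂⟩ := hy
    refine ⟨s₁ ∪ s₂, hs₁.union hs₂, fun A' hA' => ?_⟩
    obtain ⟨x', hx'⟩ := h₁ A' (Set.subset_union_left.trans hA')
    obtain ⟨y', hy'⟩ := h₂ A' (Set.subset_union_right.trans hA')
    exact ⟨x' + y', by rw [map_add, hx', hy']⟩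

end Alg

/-- Let X be a scheme over a field k, A a k-algebra and V ⊆ X_A = X ×_k Spec A a quasi-compact open
subset. Then there are a finitely generated k-subalgebra A' ⊆ A and a quasi-compact open subset V' ⊆
X_{A'} such that V is the inverse image of V' under the transition morphism X_A → X_{A'} (any
morphism compatible with the projections to X and with Spec A → Spec A'; it is unique). -/
theorem result (k : Type u) [Field k] (X : Scheme.{u}) [X.Over (Spec (CommRingCat.of k))] (A : Type u) [CommRing A] [Algebra k A]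
    (V : Set ↥(pullback (X ↘ (Spec (CommRingCat.of k))) (Spec.map (CommRingCat.ofHom (algebraMap k A))))) (hV : IsOpen V) (hVc : IsCompact V) :
    ∃ (A' : Subalgebra k A), A'.FG ∧
      ∃ (V' : Set ↥(pullback (X ↘ (Spec (CommRingCat.of k))) (Spec.map (CommRingCat.ofHom (algebraMap k ↥A'))))), IsOpen V' ∧ IsCompact V' ∧
        ∀ π : pullback (X ↘ (Spec (CommRingCat.of k))) (Spec.map (CommRingCat.ofHom (algebraMap k A))) ⟶
            pullback (X ↘ (Spec (CommRingCat.of k))) (Spec.map (CommRingCat.ofHom (algebraMap k ↥A'))),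
          π ≫ pullback.fst _ _ = pullback.fst _ _ →
          π ≫ pullback.snd _ _ = pullback.snd _ _ ≫ Spec.map (CommRingCat.ofHom A'.val.toRingHom) →
            π.base ⁻¹' V' = V := by
  have key : ∀ v, ∃ (C : AffChart (X ↘ (Spec (CommRingCat.of k)))) (f : C.R ⊗[k] A),
      v ∈ chart (X ↘ (Spec (CommRingCat.of k))) C.R C.ι C.hφ A ''
        (PrimeSpectrum.basicOpen f : Set (PrimeSpectrum (C.R ⊗[k] A))) ∧
      (v ∈ V → chart (X ↘ (Spec (CommRingCat.of k))) C.R C.ι C.hφ A ''
        (PrimeSpectrum.basicOpen f : Set (PrimeSpectrum (C.R ⊗[k] A))) ⊆ V) := by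
    intro v
    by_cases hv : v ∈ V
    · obtain ⟨C, f, h1, h2⟩ := exists_chart (X ↘ (Spec (CommRingCat.of k))) A v V hV hv
      exact ⟨C, f, h1, fun _ => h2⟩
    · obtain ⟨C, f, h1, -⟩ := exists_chart (X ↘ (Spec (CommRingCat.of k))) A v Set.univ
        isOpen_univ trivial
      exact ⟨C, f, h1, fun h => absurd h hv⟩
  choose C f hvf hfV using key
  obtain ⟨t, htV, htfin, hcov⟩ := hVc.elim_finite_subcover_image (b := V)
    (c := fun v => chart (X ↘ (Spec (CommRingCat.of k))) (C v).R (C v).ι (C v).hφ A ''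
      (PrimeSpectrum.basicOpen (f v) : Set (PrimeSpectrum ((C v).R ⊗[k] A))))
    (fun v _ => (chart (X ↘ (Spec (CommRingCat.of k))) (C v).R (C v).ι
      (C v).hφ A).isOpenEmbedding.isOpenMap _ (PrimeSpectrum.basicOpen (f v)).isOpen)
    (fun v hv => Set.mem_biUnion hv (hvf v))
  have key2 : ∀ v, ∃ s : Set A, s.Finite ∧ ∀ A' : Subalgebra k A, s ⊆ A' →
      ∃ f' : (C v).R ⊗[k] A', Algebra.TensorProduct.map (AlgHom.id k (C v).R) A'.val f' = f v :=
    fun v => exists_finite_lift (C v).R A (f v)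
  choose s hsfin hs using key2
  have hsT : (⋃ v ∈ t, s v).Finite := htfin.biUnion (fun v _ => hsfin v)
  have key3 : ∀ v ∈ t, ∃ f' : (C v).R ⊗[k] (Algebra.adjoin k (⋃ v ∈ t, s v)),
      Algebra.TensorProduct.map (AlgHom.id k (C v).R) (Algebra.adjoin k (⋃ v ∈ t, s v)).val f' =
        f v :=
    fun v hv => hs v _ (fun a ha => Algebra.subset_adjoin (Set.mem_biUnion hv ha))
  choose! f' hf' using key3
  refine ⟨Algebra.adjoin k (⋃ v ∈ t, s v), Subalgebra.fg_def.2 ⟨_, hsT, rfl⟩,
    ⋃ v ∈ t, chart (X ↘ (Spec (CommRingCat.of k))) (C v).R (C v).ι (C v).hφ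
      (Algebra.adjoin k (⋃ v ∈ t, s v)) ''
      (PrimeSpectrum.basicOpen (f' v) :
        Set (PrimeSpectrum ((C v).R ⊗[k] (Algebra.adjoin k (⋃ v ∈ t, s v))))), ?_, ?_, ?_⟩
  · exact isOpen_biUnion fun v _ => (chart (X ↘ (Spec (CommRingCat.of k))) (C v).R (C v).ι
      (C v).hφ _).isOpenEmbedding.isOpenMap _ (PrimeSpectrum.basicOpen (f' v)).isOpen
  · exact htfin.isCompact_biUnion fun v _ =>
      (PrimeSpectrum.isCompact_basicOpen (f' v)).image
        (chart (X ↘ (Spec (CommRingCat.of k))) (C v).R (C v).ι (C v).hφ _).continuous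
  · intro π h1 h2
    have hpre : ∀ v ∈ t, π ⁻¹' (chart (X ↘ (Spec (CommRingCat.of k))) (C v).R (C v).ι (C v).hφ
        (Algebra.adjoin k (⋃ v ∈ t, s v)) ''
        (PrimeSpectrum.basicOpen (f' v) :
          Set (PrimeSpectrum ((C v).R ⊗[k] (Algebra.adjoin k (⋃ v ∈ t, s v)))))) =
        chart (X ↘ (Spec (CommRingCat.of k))) (C v).R (C v).ι (C v).hφ A ''
          (PrimeSpectrum.basicOpen (f v) : Set (PrimeSpectrum ((C v).R ⊗[k] A))) := by
      intro v hv
      rw [preimage_chart_basicOpen (X ↘ (Spec (CommRingCat.of k))) (C v).R (C v).ι (C v).hφ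
        (Algebra.adjoin k (⋃ v ∈ t, s v)).val π h1 h2 (f' v), hf' v hv]
    change π ⁻¹' _ = V
    rw [Set.preimage_iUnion₂]
    apply Set.Subset.antisymm
    · refine Set.iUnion₂_subset fun v hv => ?_
      rw [hpre v hv]
      exact hfV v (htV hv)
    · intro x hx
      obtain ⟨v, hvt, hxv⟩ := Set.mem_iUnion₂.1 (hcov hx)
      refine Set.mem_iUnion₂.2 ⟨v, hvt, ?_⟩
      rw [hpre v hvt]
      exact hxv

end Groth.Agent.S7628
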