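import Groth.Statements.S7629
import Mathlib.AlgebraicGeometry.SpreadingOut

set_option autoImplicit false
set_option linter.style.haveILetI false
universe u
open CategoryTheory CategoryTheory.Limits AlgebraicGeometry
open Variety

namespace Groth.Agent.S7629


open AlgebraicGeometry CategoryTheory CategoryTheory.Limits TopologicalSpace Opposite

lemma fromSpecStalk_over (k : Type u) [Field k] (X : Scheme.{u}) [X.Over (Spec (CommRingCat.of k))]
    (x : X) :
    X.fromSpecStalk x ≫ (X ↘ Spec (CommRingCat.of k)) =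
      Spec.map (CommRingCat.ofHom (Curv2.stalkMap k X x)) := by
  apply ext_of_isAffine
  have h1 : (Spec.map (CommRingCat.ofHom (Curv2.stalkMap k X x))).appTop =
      (Scheme.ΓSpecIso _).hom ≫ CommRingCat.ofHom (Curv2.stalkMap k X x) ≫
        (Scheme.ΓSpecIso _).inv := by
    rw [← Category.assoc, ← Scheme.ΓSpecIso_naturality, Category.assoc, Iso.hom_inv_id,
      Category.comp_id]
  have h2 : CommRingCat.ofHom (Curv2.stalkMap k X x) =
      (Scheme.ΓSpecIso (CommRingCat.of k)).inv ≫ (X ↘ Spec (CommRingCat.of k)).appTop ≫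
        X.presheaf.germ ⊤ x trivial := rfl
  rw [h1, h2, Scheme.Hom.comp_appTop, Scheme.fromSpecStalk_appTop]
  simp only [Category.assoc, Iso.hom_inv_id_assoc]
  congr 2

lemma exists_spread (k : Type u) [Field k] (X Y : Scheme.{u})
    [X.Over (Spec (CommRingCat.of k))] [Y.Over (Spec (CommRingCat.of k))]
    [IsIntegral X] [IsIntegral Y] [LocallyOfFiniteType (Y ↘ (Spec (CommRingCat.of k)))]
    (ψ : Y.functionField ⟶ X.functionField)
    (hψ : ψ.hom.comp (Curv2.stalkMap k Y (genericPoint Y)) =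
      Curv2.stalkMap k X (genericPoint X)) :
    ∃ (U : X.Opens) (hξ : genericPoint X ∈ U) (f : U.toScheme ⟶ Y),
      Spec.map ψ ≫ Y.fromSpecStalk (genericPoint Y) =
        U.fromSpecStalkOfMem (genericPoint X) hξ ≫ f ∧
      f ≫ (Y ↘ (Spec (CommRingCat.of k))) = U.ι ≫ (X ↘ (Spec (CommRingCat.of k))) := by
  apply spread_out_of_isGermInjective' (X ↘ (Spec (CommRingCat.of k)))
    (Y ↘ (Spec (CommRingCat.of k)))
  rw [Category.assoc, fromSpecStalk_over, fromSpecStalk_over, ← Spec.map_comp]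
  congr 1
  ext a
  exact congrArg (fun φ : k →+* _ => φ a) hψ

lemma isDominant_fromSpecStalk_generic (X : Scheme.{u}) [IsIntegral X] :
    IsDominant (X.fromSpecStalk (genericPoint X)) := by
  rw [isDominant_iff, DenseRange, Scheme.range_fromSpecStalk]
  have h0 : closure {genericPoint X} = Set.univ := genericPoint_spec X
  refine dense_iff_closure_eq.mpr (Set.eq_univ_of_univ_subset ?_)
  rw [← h0]
  refine closure_mono ?_
  intro y hy
  rw [Set.mem_singleton_iff] at hy
  subst hy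
  exact specializes_rfl

lemma key (k : Type u) [Field k] (X Y : Scheme.{u})
    [X.Over (Spec (CommRingCat.of k))] [Y.Over (Spec (CommRingCat.of k))]
    [IsIntegral X] [IsIntegral Y] [IsSeparated (X ↘ (Spec (CommRingCat.of k)))]
    (U : X.Opens) (hξ : genericPoint X ∈ U) (V : Y.Opens) (hη : genericPoint Y ∈ V)
    (f : U.toScheme ⟶ Y) (g : V.toScheme ⟶ X)
    (a : X.functionField ⟶ Y.functionField) (b : Y.functionField ⟶ X.functionField)
    (hab : a ≫ b = 𝟙 _)
    (hf1 : Spec.map b ≫ Y.fromSpecStalk (genericPoint Y) =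
      U.fromSpecStalkOfMem (genericPoint X) hξ ≫ f)
    (hf2 : f ≫ (Y ↘ (Spec (CommRingCat.of k))) = U.ι ≫ (X ↘ (Spec (CommRingCat.of k))))
    (hg1 : Spec.map a ≫ X.fromSpecStalk (genericPoint X) =
      V.fromSpecStalkOfMem (genericPoint Y) hη ≫ g)
    (hg2 : g ≫ (X ↘ (Spec (CommRingCat.of k))) = V.ι ≫ (Y ↘ (Spec (CommRingCat.of k)))) :
    pullback.fst f V.ι ≫ U.ι = pullback.snd f V.ι ≫ g ∧ Nonempty ↥(pullback f V.ι) := by
  have hcond : U.fromSpecStalkOfMem (genericPoint X) hξ ≫ f =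
      (Spec.map b ≫ V.fromSpecStalkOfMem (genericPoint Y) hη) ≫ V.ι := by
    rw [Category.assoc, Scheme.Opens.fromSpecStalkOfMem_ι, hf1]
  let ι : Spec X.functionField ⟶ pullback f V.ι :=
    pullback.lift (U.fromSpecStalkOfMem (genericPoint X) hξ)
      (Spec.map b ≫ V.fromSpecStalkOfMem (genericPoint Y) hη) hcond
  have hι1 : ι ≫ pullback.fst f V.ι ≫ U.ι = X.fromSpecStalk (genericPoint X) := by
    rw [pullback.lift_fst_assoc, Scheme.Opens.fromSpecStalkOfMem_ι]
  haveI : IsDominant (ι ≫ pullback.fst f V.ι ≫ U.ι) := by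
    rw [hι1]; exact isDominant_fromSpecStalk_generic X
  haveI : IsDominant ι := IsDominant.of_comp_of_isOpenImmersion ι (pullback.fst f V.ι ≫ U.ι)
  haveI : IsReduced (pullback f V.ι) := isReduced_of_isOpenImmersion (pullback.fst f V.ι)
  refine ⟨?_, ⟨ι (Classical.arbitrary _)⟩⟩
  apply ext_of_isDominant_of_isSeparated (X ↘ (Spec (CommRingCat.of k))) _ ι
  · rw [hι1, pullback.lift_snd_assoc, Category.assoc, ← hg1, ← Category.assoc, ← Spec.map_comp,
      hab, Spec.map_id, Category.id_comp]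
  · rw [Category.assoc, Category.assoc, hg2, ← hf2, pullback.condition_assoc]

theorem result' (k : Type u) [Field k] (X : Scheme.{u}) [X.Over (Spec (CommRingCat.of k))] [IsIntegral X] [IsSeparated (X ↘ (Spec (CommRingCat.of k)))] [LocallyOfFiniteType (X ↘ (Spec (CommRingCat.of k)))] [QuasiCompact (X ↘ (Spec (CommRingCat.of k)))]
    (Y : Scheme.{u}) [Y.Over (Spec (CommRingCat.of k))] [IsIntegral Y] [IsSeparated (Y ↘ (Spec (CommRingCat.of k)))] [LocallyOfFiniteType (Y ↘ (Spec (CommRingCat.of k)))] [QuasiCompact (Y ↘ (Spec (CommRingCat.of k)))]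
    (e : X.functionField ≅ Y.functionField)
    (he : e.hom.hom.comp (Curv2.stalkMap k X (genericPoint X)) = Curv2.stalkMap k Y (genericPoint Y)) :
    ∃ (U : X.Opens) (V : Y.Opens), (U : Set ↥X).Nonempty ∧
      ∃ φ : (U : Scheme.{u}) ≅ (V : Scheme.{u}), φ.hom ≫ V.ι ≫ (Y ↘ (Spec (CommRingCat.of k))) = U.ι ≫ (X ↘ (Spec (CommRingCat.of k))) := by
  have he' : e.inv.hom.comp (Curv2.stalkMap k Y (genericPoint Y)) =
      Curv2.stalkMap k X (genericPoint X) := by
    rw [← he, ← RingHom.comp_assoc, ← CommRingCat.hom_comp, e.hom_inv_id]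
    rfl
  obtain ⟨U, hξ, f, hf1, hf2⟩ := exists_spread k X Y e.inv he'
  obtain ⟨V, hη, g, hg1, hg2⟩ := exists_spread k Y X e.hom he
  obtain ⟨h1, ⟨p0⟩⟩ := key k X Y U hξ V hη f g e.hom e.inv e.hom_inv_id hf1 hf2 hg1 hg2
  obtain ⟨h2, -⟩ := key k Y X V hη U hξ g f e.inv e.hom e.inv_hom_id hg1 hg2 hf1 hf2
  let a : pullback f V.ι ⟶ pullback g U.ι :=
    pullback.lift (pullback.snd f V.ι) (pullback.fst f V.ι) h1.symm
  let b : pullback g U.ι ⟶ pullback f V.ι :=
    pullback.lift (pullback.snd g U.ι) (pullback.fst g U.ι) h2.symm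
  have hab : a ≫ b = 𝟙 _ := by
    apply pullback.hom_ext
    · rw [Category.assoc, pullback.lift_fst, pullback.lift_snd, Category.id_comp]
    · rw [Category.assoc, pullback.lift_snd, pullback.lift_fst, Category.id_comp]
  have hba : b ≫ a = 𝟙 _ := by
    apply pullback.hom_ext
    · rw [Category.assoc, pullback.lift_fst, pullback.lift_snd, Category.id_comp]
    · rw [Category.assoc, pullback.lift_snd, pullback.lift_fst, Category.id_comp]
  let i1 := pullback.fst f V.ι ≫ U.ι
  let i2 := pullback.fst g U.ι ≫ V.ι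
  refine ⟨i1.opensRange, i2.opensRange, ⟨i1 p0, ⟨p0, rfl⟩⟩,
    i1.isoOpensRange.symm ≪≫ ⟨a, b, hab, hba⟩ ≪≫ i2.isoOpensRange, ?_⟩
  simp only [Iso.trans_hom, Iso.symm_hom, Category.assoc]
  rw [Scheme.Hom.isoOpensRange_hom_ι_assoc]
  rw [← Scheme.Hom.isoOpensRange_inv_comp i1]
  simp only [Category.assoc]
  congr 1
  show a ≫ (pullback.fst g U.ι ≫ V.ι) ≫ (Y ↘ (Spec (CommRingCat.of k))) =
    (pullback.fst f V.ι ≫ U.ι) ≫ (X ↘ (Spec (CommRingCat.of k)))
  rw [Category.assoc, pullback.lift_fst_assoc, Category.assoc, ← hf2,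
    pullback.condition_assoc]



/-- (2) ⇒ (3): let X and Y be varieties over a field k (integral, separated, of finite type) and suppose
the function fields k(X) and k(Y) are isomorphic as k-algebras. Then there are nonempty open
subschemes U ⊆ X and V ⊆ Y which are isomorphic as schemes over k. -/
theorem result (k : Type u) [Field k] (X : Scheme.{u}) [X.Over (Spec (CommRingCat.of k))] [IsIntegral X] [IsSeparated (X ↘ (Spec (CommRingCat.of k)))] [LocallyOfFiniteType (X ↘ (Spec (CommRingCat.of k)))] [QuasiCompact (X ↘ (Spec (CommRingCat.of k)))]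
    (Y : Scheme.{u}) [Y.Over (Spec (CommRingCat.of k))] [IsIntegral Y] [IsSeparated (Y ↘ (Spec (CommRingCat.of k)))] [LocallyOfFiniteType (Y ↘ (Spec (CommRingCat.of k)))] [QuasiCompact (Y ↘ (Spec (CommRingCat.of k)))]
    (e : X.functionField ≅ Y.functionField)
    (he : e.hom.hom.comp (Curv2.stalkMap k X (genericPoint X)) = Curv2.stalkMap k Y (genericPoint Y)) :
    ∃ (U : X.Opens) (V : Y.Opens), (U : Set ↥X).Nonempty ∧
      ∃ φ : (U : Scheme.{u}) ≅ (V : Scheme.{u}), φ.hom ≫ V.ι ≫ (Y ↘ (Spec (CommRingCat.of k))) = U.ι ≫ (X ↘ (Spec (CommRingCat.of k))) := by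
  exact result' k X Y e he

end Groth.Agent.S7629
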