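import Groth.Statements.S7631
import Mathlib
import Groth.Agent.S18206

set_option autoImplicit false
universe u
open CategoryTheory CategoryTheory.Limits AlgebraicGeometry
open Variety

namespace Groth.Agent.S7631

section helpers
open CategoryTheory CategoryTheory.Limits AlgebraicGeometry


open Groth.Agent.S18206 in
/-- Product of two scheme-theoretically dominant quasi-compact morphisms over a base, when the
relevant projections are flat. -/
lemma dominant_map {S A B Z Z' : Scheme.{u}} (sA : A ⟶ S) (sB : B ⟶ S) (sZ : Z ⟶ S) (sZ' : Z' ⟶ S)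
    (t : A ⟶ Z) (t' : B ⟶ Z') (ht : t ≫ sZ = sA) (ht' : t' ≫ sZ' = sB)
    [IsSchemeTheoreticallyDominant t] [QuasiCompact t]
    [IsSchemeTheoreticallyDominant t'] [QuasiCompact t']
    [Flat sB] [Flat sZ] :
    IsSchemeTheoreticallyDominant
      (pullback.map sA sB sZ sZ' t t' (𝟙 S) (by rw [Category.comp_id, ht])
        (by rw [Category.comp_id, ht'])) := by
  -- first factor A ×_S B ⟶ Z ×_S B
  let F₁ : pullback sA sB ⟶ pullback sZ sB :=
    pullback.map sA sB sZ sB t (𝟙 B) (𝟙 S) (by rw [Category.comp_id, ht]) (by simp)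
  let F₂ : pullback sZ sB ⟶ pullback sZ sZ' :=
    pullback.map sZ sB sZ sZ' (𝟙 Z) t' (𝟙 S) (by simp) (by rw [Category.comp_id, ht'])
  have hF : pullback.map sA sB sZ sZ' t t' (𝟙 S) (by rw [Category.comp_id, ht])
        (by rw [Category.comp_id, ht']) = F₁ ≫ F₂ := by
    apply pullback.hom_ext <;> simp only [F₁, F₂, pullback.map, Category.assoc, pullback.lift_fst, pullback.lift_snd, pullback.lift_fst_assoc, pullback.lift_snd_assoc, Category.comp_id, Category.id_comp]
  have h1 : IsPullback F₁ (pullback.fst sA sB) (pullback.fst sZ sB) t := by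
    apply IsPullback.of_right (h₁₂ := pullback.snd sZ sB) (v₁₃ := sB) (h₂₂ := sZ)
    · have e1 : F₁ ≫ pullback.snd sZ sB = pullback.snd sA sB := by simp only [F₁, F₂, pullback.map, Category.assoc, pullback.lift_fst, pullback.lift_snd, pullback.lift_fst_assoc, pullback.lift_snd_assoc, Category.comp_id, Category.id_comp]
      rw [e1, ht]
      exact (IsPullback.of_hasPullback sA sB).flip
    · simp only [F₁, F₂, pullback.map, Category.assoc, pullback.lift_fst, pullback.lift_snd, pullback.lift_fst_assoc, pullback.lift_snd_assoc, Category.comp_id, Category.id_comp]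
    · exact (IsPullback.of_hasPullback sZ sB).flip
  haveI : IsSchemeTheoreticallyDominant F₁ := .of_isPullback h1.flip
  have h2 : IsPullback F₂ (pullback.snd sZ sB) (pullback.snd sZ sZ') t' := by
    apply IsPullback.of_right (h₁₂ := pullback.fst sZ sZ') (v₁₃ := sZ) (h₂₂ := sZ')
    · have e1 : F₂ ≫ pullback.fst sZ sZ' = pullback.fst sZ sB := by simp only [F₁, F₂, pullback.map, Category.assoc, pullback.lift_fst, pullback.lift_snd, pullback.lift_fst_assoc, pullback.lift_snd_assoc, Category.comp_id, Category.id_comp]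
      rw [e1, ht']
      exact IsPullback.of_hasPullback sZ sB
    · simp only [F₁, F₂, pullback.map, Category.assoc, pullback.lift_fst, pullback.lift_snd, pullback.lift_fst_assoc, pullback.lift_snd_assoc, Category.comp_id, Category.id_comp]
    · exact IsPullback.of_hasPullback sZ sZ'
  haveI : IsSchemeTheoreticallyDominant F₂ := .of_isPullback h2.flip
  rw [hF]
  infer_instance

open Groth.Agent.S18206 in
lemma ker_prod {S X Y A B : Scheme.{u}} (sX : X ⟶ S) (sY : Y ⟶ S) (sA : A ⟶ S) (sB : B ⟶ S)
    (f : A ⟶ X) (g : B ⟶ Y) (hf : f ≫ sX = sA) (hg : g ≫ sY = sB) [QuasiCompact f] [QuasiCompact g]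
    [Flat sB] [Flat (f.imageι ≫ sX)]
    (F : pullback sA sB ⟶ pullback sX sY)
    (hF₁ : F ≫ pullback.fst sX sY = pullback.fst sA sB ≫ f)
    (hF₂ : F ≫ pullback.snd sX sY = pullback.snd sA sB ≫ g) :
    F.ker = f.ker.comap (pullback.fst sX sY) ⊔ g.ker.comap (pullback.snd sX sY) := by
  let c : pullback (f.imageι ≫ sX) (g.imageι ≫ sY) ⟶ pullback sX sY :=
    pullback.map _ _ _ _ f.imageι g.imageι (𝟙 S) (by simp) (by simp)
  have hf' : f.toImage ≫ f.imageι ≫ sX = sA := by rw [Scheme.Hom.toImage_imageι_assoc, hf]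
  have hg' : g.toImage ≫ g.imageι ≫ sY = sB := by rw [Scheme.Hom.toImage_imageι_assoc, hg]
  let F' : pullback sA sB ⟶ pullback (f.imageι ≫ sX) (g.imageι ≫ sY) :=
    pullback.map sA sB _ _ f.toImage g.toImage (𝟙 S) (by rw [Category.comp_id, hf'])
      (by rw [Category.comp_id, hg'])
  have hFc : F = F' ≫ c := by
    apply pullback.hom_ext
    · rw [hF₁]
      simp only [F', c, pullback.map, Category.assoc, pullback.lift_fst, pullback.lift_fst_assoc,
        Scheme.Hom.toImage_imageι]
    · rw [hF₂]
      simp only [F', c, pullback.map, Category.assoc, pullback.lift_snd, pullback.lift_snd_assoc,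
        Scheme.Hom.toImage_imageι]
  haveI : IsSchemeTheoreticallyDominant f.toImage := isSchemeTheoreticallyDominant_toImage f
  haveI : IsSchemeTheoreticallyDominant g.toImage := isSchemeTheoreticallyDominant_toImage g
  haveI : IsSchemeTheoreticallyDominant F' :=
    dominant_map sA sB (f.imageι ≫ sX) (g.imageι ≫ sY) f.toImage g.toImage hf' hg'
  have hker : F.ker = c.ker := by
    rw [hFc, Scheme.Hom.ker_comp, Scheme.Hom.ker_eq_bot F', Scheme.IdealSheafData.map_bot]
  apply le_antisymm
  · rw [hker]
    generalize hI : f.ker.comap (pullback.fst sX sY) ⊔ g.ker.comap (pullback.snd sX sY) = I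
    have h1 : f.ker.comap (pullback.fst sX sY) ≤ I := hI ▸ le_sup_left
    have h2 : g.ker.comap (pullback.snd sX sY) ≤ I := hI ▸ le_sup_right
    let a : I.subscheme ⟶ f.image :=
      Scheme.IdealSheafData.inclusion h1 ≫ (f.ker.comapIso (pullback.fst sX sY)).hom ≫ pullback.snd _ _
    have ha : a ≫ f.imageι = I.subschemeι ≫ pullback.fst sX sY := by
      simp only [a, Category.assoc, ← pullback.condition]
      rw [Scheme.IdealSheafData.comapIso_hom_fst_assoc,
        Scheme.IdealSheafData.inclusion_subschemeι_assoc]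
    let b : I.subscheme ⟶ g.image :=
      Scheme.IdealSheafData.inclusion h2 ≫ (g.ker.comapIso (pullback.snd sX sY)).hom ≫ pullback.snd _ _
    have hb : b ≫ g.imageι = I.subschemeι ≫ pullback.snd sX sY := by
      simp only [b, Category.assoc, ← pullback.condition]
      rw [Scheme.IdealSheafData.comapIso_hom_fst_assoc,
        Scheme.IdealSheafData.inclusion_subschemeι_assoc]
    let l : I.subscheme ⟶ pullback (f.imageι ≫ sX) (g.imageι ≫ sY) :=
      pullback.lift a b (by rw [reassoc_of% ha, reassoc_of% hb, pullback.condition])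
    have hl : l ≫ c = I.subschemeι := by
      apply pullback.hom_ext
      · simp only [l, c, pullback.map, Category.assoc, pullback.lift_fst, pullback.lift_fst_assoc, ha]
      · simp only [l, c, pullback.map, Category.assoc, pullback.lift_snd, pullback.lift_snd_assoc, hb]
    calc c.ker ≤ (l ≫ c).ker := Scheme.Hom.le_ker_comp _ _
      _ = I := by rw [hl, Scheme.IdealSheafData.ker_subschemeι]
  · apply sup_le
    · have h : pullback.lift F (pullback.fst sA sB ≫ f.toImage)
          (by rw [hF₁, Category.assoc, f.toImage_imageι]) ≫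
          pullback.fst (pullback.fst sX sY) f.imageι = F := pullback.lift_fst _ _ _
      calc f.ker.comap (pullback.fst sX sY)
          = (pullback.fst (pullback.fst sX sY) f.imageι).ker := rfl
        _ ≤ _ := Scheme.Hom.le_ker_comp _ _
        _ = F.ker := by rw [h]
    · have h : pullback.lift F (pullback.snd sA sB ≫ g.toImage)
          (by rw [hF₂, Category.assoc, g.toImage_imageι]) ≫
          pullback.fst (pullback.snd sX sY) g.imageι = F := pullback.lift_fst _ _ _
      calc g.ker.comap (pullback.snd sX sY)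
          = (pullback.fst (pullback.snd sX sY) g.imageι).ker := rfl
        _ ≤ _ := Scheme.Hom.le_ker_comp _ _
        _ = F.ker := by rw [h]

end helpers

/-- Let f : A → X and g : B → Y be quasi-compact morphisms of schemes over a field k and F = f × g : A
×_k B → X ×_k Y. Then the scheme-theoretic image of F is Z ×_k Z', where Z ⊆ X and Z' ⊆ Y are the
scheme-theoretic images of f and g: in terms of kernel ideal sheaves, ker F is the sum of the
pullback of ker f along the first projection and of ker g along the second. -/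
theorem result (k : Type u) [Field k] (X : Scheme.{u}) [X.Over (Spec (CommRingCat.of k))] (Y : Scheme.{u}) [Y.Over (Spec (CommRingCat.of k))]
    (A B : Scheme.{u}) [A.Over (Spec (CommRingCat.of k))] [B.Over (Spec (CommRingCat.of k))]
    (f : A ⟶ X) [f.IsOver (Spec (CommRingCat.of k))] [QuasiCompact f] (g : B ⟶ Y) [g.IsOver (Spec (CommRingCat.of k))] [QuasiCompact g]
    (F : pullback (A ↘ (Spec (CommRingCat.of k))) (B ↘ (Spec (CommRingCat.of k))) ⟶ pullback (X ↘ (Spec (CommRingCat.of k))) (Y ↘ (Spec (CommRingCat.of k))))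
    (hF₁ : F ≫ pullback.fst (X ↘ (Spec (CommRingCat.of k))) (Y ↘ (Spec (CommRingCat.of k))) = pullback.fst (A ↘ (Spec (CommRingCat.of k))) (B ↘ (Spec (CommRingCat.of k))) ≫ f)
    (hF₂ : F ≫ pullback.snd (X ↘ (Spec (CommRingCat.of k))) (Y ↘ (Spec (CommRingCat.of k))) = pullback.snd (A ↘ (Spec (CommRingCat.of k))) (B ↘ (Spec (CommRingCat.of k))) ≫ g) :
    F.ker = f.ker.comap (pullback.fst (X ↘ (Spec (CommRingCat.of k))) (Y ↘ (Spec (CommRingCat.of k)))) ⊔ g.ker.comap (pullback.snd (X ↘ (Spec (CommRingCat.of k))) (Y ↘ (Spec (CommRingCat.of k)))) := by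
  exact ker_prod _ _ _ _ f g (comp_over f _) (comp_over g _) F hF₁ hF₂

end Groth.Agent.S7631
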