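import Groth.Statements.S7651
import Mathlib.RingTheory.Ideal.AssociatedPrime.Finiteness
import Mathlib.RingTheory.KrullDimension.Field
import Mathlib.RingTheory.Spectrum.Prime.Topology
import Mathlib.RingTheory.Localization.LocalizationLocalization
import Mathlib.RingTheory.LocalRing.ResidueField.Ideal
import Mathlib.Algebra.Group.Pi.Units

set_option autoImplicit false
universe u
open CategoryTheory CategoryTheory.Limits AlgebraicGeometry
open Variety

namespace Groth.Agent.S7651

section basics
variable {A : Type u} [CommRing A] [IsLocalRing A]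

lemma prime_min_or_max (hdim : ringKrullDim A = 1) (p : Ideal A) (hp : p.IsPrime) :
    p ∈ minimalPrimes A ∨ p = IsLocalRing.maximalIdeal A := by
  have hle : Ring.KrullDimLE 1 A := Ring.krullDimLE_iff.mpr (by rw [hdim]; rfl)
  rcases Ring.krullDimLE_one_iff.mp hle p hp with h | h
  · exact Or.inl h
  · exact Or.inr (IsLocalRing.eq_maximalIdeal h)

lemma max_not_min (hdim : ringKrullDim A = 1) :
    IsLocalRing.maximalIdeal A ∉ minimalPrimes A := by
  intro hm
  have h0 : Ring.KrullDimLE 0 A := by
    rw [Ring.krullDimLE_zero_iff_forall_minimalPrimes_isMaximal]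
    intro p hp
    have hple : p ≤ IsLocalRing.maximalIdeal A := IsLocalRing.le_maximalIdeal hp.1.1.ne_top
    have : IsLocalRing.maximalIdeal A ≤ p := hm.2 ⟨hp.1.1, bot_le⟩ hple
    rw [le_antisymm hple this]
    infer_instance
  have := Ring.krullDimLE_iff.mp h0
  rw [hdim] at this
  exact absurd this (by decide)

lemma exists_f [IsNoetherianRing A] (hdim : ringKrullDim A = 1) :
    ∃ f ∈ IsLocalRing.maximalIdeal A, ∀ p ∈ minimalPrimes A, f ∉ p := by
  by_contra hcon
  push Not at hcon
  have hsub : ((IsLocalRing.maximalIdeal A : Ideal A) : Set A) ⊆ ⋃ p ∈ minimalPrimes A, (p : Set A) := by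
    intro f hf
    obtain ⟨p, hp, hfp⟩ := hcon f hf
    exact Set.mem_biUnion hp hfp
  obtain ⟨p, hp, hle⟩ := ((IsLocalRing.maximalIdeal A).subset_union_prime_finite
    (minimalPrimes.finite_of_isNoetherianRing A) (f := id) 0 0 fun _ h _ _ ↦ h.1.1).1 hsub
  have hple : p ≤ IsLocalRing.maximalIdeal A := IsLocalRing.le_maximalIdeal hp.1.1.ne_top
  have : p = IsLocalRing.maximalIdeal A := le_antisymm hple hle
  exact max_not_min hdim (this ▸ hp)

lemma rad_iff (hdim : ringKrullDim A = 1) (f : A) (hf : f ∈ IsLocalRing.maximalIdeal A) :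
    (IsLocalRing.maximalIdeal A = (Ideal.span {f}).radical) ↔ (∀ p ∈ minimalPrimes A, f ∉ p) := by
  constructor
  · intro h p hp hfp
    have h1 : (Ideal.span {f}).radical ≤ p := by
      rw [hp.1.1.radical_le_iff, Ideal.span_singleton_le_iff_mem]; exact hfp
    rw [← h] at h1
    have hple : p ≤ IsLocalRing.maximalIdeal A := IsLocalRing.le_maximalIdeal hp.1.1.ne_top
    exact max_not_min hdim ((le_antisymm hple h1) ▸ hp)
  · intro h
    apply le_antisymm
    · rw [Ideal.radical_eq_sInf]
      apply le_sInf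
      rintro q ⟨hfq, hq⟩
      rcases prime_min_or_max hdim q hq with hmin | hmax
      · exact absurd (hfq (Ideal.mem_span_singleton_self f)) (h q hmin)
      · rw [hmax]
    · rw [(IsLocalRing.maximalIdeal.isMaximal A).isPrime.radical_le_iff,
        Ideal.span_singleton_le_iff_mem]
      exact hf

end basics



section nzd
variable {A : Type u} [CommRing A] [IsLocalRing A]


lemma exists_reg_of_depth (h : LocCoh.depth A A = 1) :
    ∃ r ∈ IsLocalRing.maximalIdeal A, r ∈ nonZeroDivisors A := by
  unfold LocCoh.depth LocCoh.idealDepth at h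
  split_ifs at h with htop
  · exact absurd h (by simp)
  · by_contra hcon
    push Not at hcon
    have : (⨆ (rs : List A) (_ : RingTheory.Sequence.IsWeaklyRegular A rs ∧
        ∀ r ∈ rs, r ∈ IsLocalRing.maximalIdeal A), (rs.length : ℕ∞)) ≤ 0 := by
      apply iSup₂_le
      rintro rs ⟨hreg, hmem⟩
      cases rs with
      | nil => simp
      | cons r rs' =>
        exfalso
        have hr : IsSMulRegular A r := ((RingTheory.Sequence.isWeaklyRegular_cons_iff A r rs').mp hreg).1
        apply hcon r (hmem r (by simp))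
        rw [mem_nonZeroDivisors_iff_right]
        intro x hx
        apply hr
        simpa [mul_comm] using hx
    rw [h] at this
    exact absurd this (by simp)

lemma nzd_of_depth (hdim : ringKrullDim A = 1) (h : LocCoh.depth A A = 1) (f : A)
    (hf : f ∈ IsLocalRing.maximalIdeal A) (hmin : ∀ p ∈ minimalPrimes A, f ∉ p) :
    f ∈ nonZeroDivisors A := by
  obtain ⟨r, hr, hrn⟩ := exists_reg_of_depth h
  have hrad := (rad_iff hdim f hf).mpr hmin
  rw [hrad] at hr
  obtain ⟨n, hn⟩ := hr
  obtain ⟨t, ht⟩ := Ideal.mem_span_singleton'.mp hn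
  have : t * f ∈ nonZeroDivisors A := by rw [ht]; exact pow_mem hrn n
  exact (mul_mem_nonZeroDivisors.mp this).2

omit [IsLocalRing A] in
lemma nzd_of_reduced [IsReduced A] (f : A) (hmin : ∀ p ∈ minimalPrimes A, f ∉ p) :
    f ∈ nonZeroDivisors A := by
  rw [mem_nonZeroDivisors_iff_right]
  intro y hy
  by_contra hy0
  have hmem : f ∈ ⋃ p ∈ (⊥ : Ideal A).minimalPrimes, (p : Set A) := by
    rw [Ideal.iUnion_minimalPrimes]
    refine ⟨y, ?_, ?_⟩
    · rw [Ideal.radical_bot_of_isReduced]; exact hy0
    · rw [Ideal.radical_bot_of_isReduced, mul_comm, hy]; exact Ideal.zero_mem _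
  simp only [Set.mem_iUnion] at hmem
  obtain ⟨p, hp, hfp⟩ := hmem
  exact hmin p hp hfp

lemma nzd_iff (hdim : ringKrullDim A = 1) (h : LocCoh.depth A A = 1 ∨ IsReduced A) (f : A)
    (hf : f ∈ IsLocalRing.maximalIdeal A) :
    (∀ p ∈ minimalPrimes A, f ∉ p) ↔ f ∈ nonZeroDivisors A := by
  constructor
  · intro hmin
    rcases h with h | h
    · exact nzd_of_depth hdim h f hf hmin
    · exact nzd_of_reduced f hmin
  · intro hn p hp hfp
    exact notMem_nonZeroDivisors_of_mem_mem_minimalPrimes hfp hp hn

lemma loc_iff (hdim : ringKrullDim A = 1) (h : LocCoh.depth A A = 1 ∨ IsReduced A) (f : A)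
    (hf : f ∈ IsLocalRing.maximalIdeal A) :
    (∀ p ∈ minimalPrimes A, f ∉ p) ↔ IsLocalization (nonZeroDivisors A) (Localization.Away f) := by
  constructor
  · intro hmin
    have hfn := (nzd_iff hdim h f hf).mp hmin
    refine IsLocalization.of_le_of_exists_dvd (Submonoid.powers f) (nonZeroDivisors A)
      (Submonoid.powers_le.mpr hfn) ?_
    intro s hs
    by_cases hsu : IsUnit s
    · exact ⟨1, Submonoid.one_mem _, hsu.dvd⟩
    · have hsm : s ∈ IsLocalRing.maximalIdeal A := (IsLocalRing.mem_maximalIdeal s).mpr hsu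
      have hsmin := (nzd_iff hdim h s hsm).mpr hs
      have hrad := (rad_iff hdim s hsm).mpr hsmin
      rw [hrad] at hf
      obtain ⟨n, hn⟩ := hf
      exact ⟨f ^ n, ⟨n, rfl⟩, Ideal.mem_span_singleton.mp hn⟩
  · intro hloc
    apply (nzd_iff hdim h f hf).mpr
    have hinj : Function.Injective (algebraMap A (Localization.Away f)) :=
      IsLocalization.injective (Localization.Away f) (le_refl (nonZeroDivisors A))
    rw [mem_nonZeroDivisors_iff_right]
    intro x hx
    apply hinj
    rw [map_zero]
    have hu : IsUnit (algebraMap A (Localization.Away f) f) :=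
      IsLocalization.Away.algebraMap_isUnit f
    apply hu.mul_left_injective
    show algebraMap A (Localization.Away f) x * algebraMap A (Localization.Away f) f =
      0 * algebraMap A (Localization.Away f) f
    rw [← map_mul, hx, map_zero, zero_mul]

end nzd



section pi
variable {A : Type u} [CommRing A] [IsLocalRing A]


omit [IsLocalRing A] in
lemma disj_of_notMem (f : A) (p : Ideal A) (hp : p.IsPrime) (hfp : f ∉ p) :
    Disjoint ((Submonoid.powers f : Submonoid A) : Set A) (p : Set A) := by
  rw [Set.disjoint_left]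
  rintro x ⟨n, rfl⟩ hx
  exact hfp (hp.mem_of_pow_mem n hx)

lemma comap_min (hdim : ringKrullDim A = 1) (f : A) (hf : f ∈ IsLocalRing.maximalIdeal A)
    (q : Ideal (Localization.Away f)) (hq : q.IsPrime) :
    Ideal.comap (algebraMap A (Localization.Away f)) q ∈ minimalPrimes A := by
  have hpr : (Ideal.comap (algebraMap A (Localization.Away f)) q).IsPrime := Ideal.comap_isPrime _ q
  rcases prime_min_or_max hdim _ hpr with h | h
  · exact h
  · exfalso
    have hfq : algebraMap A (Localization.Away f) f ∈ q := by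
      have : f ∈ Ideal.comap (algebraMap A (Localization.Away f)) q := by rw [h]; exact hf
      exact this
    exact hq.ne_top (Ideal.eq_top_of_isUnit_mem _ hfq (IsLocalization.Away.algebraMap_isUnit f))

noncomputable def specEquiv (hdim : ringKrullDim A = 1) (f : A) (hf : f ∈ IsLocalRing.maximalIdeal A)
    (hmin : ∀ p ∈ minimalPrimes A, f ∉ p) :
    {p : PrimeSpectrum A // p.asIdeal ∈ minimalPrimes A} ≃ PrimeSpectrum (Localization.Away f) where
  toFun i := ⟨Ideal.map (algebraMap A (Localization.Away f)) i.1.asIdeal,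
    IsLocalization.isPrime_of_isPrime_disjoint (Submonoid.powers f) _ _ i.1.isPrime
      (disj_of_notMem f _ i.1.isPrime (hmin _ i.2))⟩
  invFun q := ⟨⟨Ideal.comap (algebraMap A (Localization.Away f)) q.asIdeal, Ideal.comap_isPrime _ _⟩,
    comap_min hdim f hf q.asIdeal q.isPrime⟩
  left_inv i := by
    apply Subtype.ext
    apply PrimeSpectrum.ext
    exact IsLocalization.under_map_of_isPrime_disjoint (Submonoid.powers f) _ i.1.isPrime
      (disj_of_notMem f _ i.1.isPrime (hmin _ i.2))
  right_inv q := by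
    apply PrimeSpectrum.ext
    exact IsLocalization.map_under (Submonoid.powers f) _ q.asIdeal

lemma specEquiv_comap (hdim : ringKrullDim A = 1) (f : A) (hf : f ∈ IsLocalRing.maximalIdeal A)
    (hmin : ∀ p ∈ minimalPrimes A, f ∉ p) (i : {p : PrimeSpectrum A // p.asIdeal ∈ minimalPrimes A}) :
    Ideal.comap (algebraMap A (Localization.Away f)) (specEquiv hdim f hf hmin i).asIdeal =
      i.1.asIdeal :=
  IsLocalization.under_map_of_isPrime_disjoint (Submonoid.powers f) _ i.1.isPrime
      (disj_of_notMem f _ i.1.isPrime (hmin _ i.2))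

lemma dim0 (hdim : ringKrullDim A = 1) (f : A) (hf : f ∈ IsLocalRing.maximalIdeal A) :
    Ring.KrullDimLE 0 (Localization.Away f) := by
  apply Ring.KrullDimLE.mk₀
  intro I hI
  obtain ⟨M, hM, hIM⟩ := Ideal.exists_le_maximal I hI.ne_top
  have h1 := comap_min hdim f hf I hI
  have h2 := comap_min hdim f hf M hM.isPrime
  have hle : Ideal.comap (algebraMap A (Localization.Away f)) I ≤
      Ideal.comap (algebraMap A (Localization.Away f)) M := Ideal.comap_mono hIM
  have hge := h2.2 ⟨h1.1.1, bot_le⟩ hle
  have heq : Ideal.comap (algebraMap A (Localization.Away f)) I =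
      Ideal.comap (algebraMap A (Localization.Away f)) M := le_antisymm hle hge
  have : I = M := by
    rw [← IsLocalization.map_under (Submonoid.powers f) _ I,
      ← IsLocalization.map_under (Submonoid.powers f) _ M]
    exact congrArg _ heq
  rw [this]; exact hM

lemma discrete [IsNoetherianRing A] (hdim : ringKrullDim A = 1) (f : A)
    (hf : f ∈ IsLocalRing.maximalIdeal A) (hmin : ∀ p ∈ minimalPrimes A, f ∉ p) :
    DiscreteTopology (PrimeSpectrum (Localization.Away f)) := by
  rw [PrimeSpectrum.discreteTopology_iff_finite_and_krullDimLE_zero]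
  refine ⟨?_, dim0 hdim f hf⟩
  have hfin : Finite {p : PrimeSpectrum A // p.asIdeal ∈ minimalPrimes A} := by
    have : Finite (minimalPrimes A) := (minimalPrimes.finite_of_isNoetherianRing A).to_subtype
    refine Finite.of_injective
      (fun i : {p : PrimeSpectrum A // p.asIdeal ∈ minimalPrimes A} =>
        (⟨i.1.asIdeal, i.2⟩ : minimalPrimes A)) ?_
    intro i j hij
    apply Subtype.ext
    apply PrimeSpectrum.ext
    exact congrArg Subtype.val hij
  exact Finite.of_equiv _ (specEquiv hdim f hf hmin)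

end pi



section pi2
variable {A : Type u} [CommRing A] [IsLocalRing A]




lemma compIso (hdim : ringKrullDim A = 1) (f : A) (hf : f ∈ IsLocalRing.maximalIdeal A)
    (hmin : ∀ p ∈ minimalPrimes A, f ∉ p) (i : {p : PrimeSpectrum A // p.asIdeal ∈ minimalPrimes A}) :
    Nonempty (Localization.AtPrime (specEquiv hdim f hf hmin i).asIdeal ≃ₐ[A]
      Localization.AtPrime i.1.asIdeal) := by
  have h := IsLocalization.isLocalization_isLocalization_atPrime_isLocalization (Submonoid.powers f)
    (Localization.AtPrime (specEquiv hdim f hf hmin i).asIdeal) (specEquiv hdim f hf hmin i).asIdeal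
  have hc := specEquiv_comap hdim f hf hmin i
  have hpc : (Ideal.comap (algebraMap A (Localization.Away f))
      (specEquiv hdim f hf hmin i).asIdeal).primeCompl = i.1.asIdeal.primeCompl := by
    ext x
    rw [Ideal.mem_primeCompl_iff, Ideal.mem_primeCompl_iff, hc]
  have h' : IsLocalization i.1.asIdeal.primeCompl
      (Localization.AtPrime (specEquiv hdim f hf hmin i).asIdeal) := by
    rw [← hpc]; exact h
  exact ⟨IsLocalization.algEquiv i.1.asIdeal.primeCompl _ _⟩

lemma away_pi [IsNoetherianRing A] (hdim : ringKrullDim A = 1) (f : A)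
    (hf : f ∈ IsLocalRing.maximalIdeal A) (hmin : ∀ p ∈ minimalPrimes A, f ∉ p) :
    Nonempty (Localization.Away f ≃ₐ[A]
      (∀ p : {p : PrimeSpectrum A // p.asIdeal ∈ minimalPrimes A},
        Localization.AtPrime p.1.asIdeal)) := by
  have := discrete hdim f hf hmin
  have e1 : Localization.Away f ≃ₐ[A] PrimeSpectrum.PiLocalization (Localization.Away f) :=
    (PrimeSpectrum.toPiLocalizationEquiv (Localization.Away f)).restrictScalars A
  have e2 : (∀ q : PrimeSpectrum (Localization.Away f), Localization.AtPrime q.asIdeal) ≃ₐ[A]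
      (∀ i, Localization.AtPrime (specEquiv hdim f hf hmin i).asIdeal) :=
    (AlgEquiv.piCongrLeft A (fun q : PrimeSpectrum (Localization.Away f) =>
      Localization.AtPrime q.asIdeal) (specEquiv hdim f hf hmin)).symm
  have e3 : (∀ i, Localization.AtPrime (specEquiv hdim f hf hmin i).asIdeal) ≃ₐ[A]
      (∀ i : {p : PrimeSpectrum A // p.asIdeal ∈ minimalPrimes A},
        Localization.AtPrime i.1.asIdeal) :=
    AlgEquiv.piCongrRight (fun i => (compIso hdim f hf hmin i).some)
  exact ⟨e1.trans (e2.trans e3)⟩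

end pi2



section conv
variable {A : Type u} [CommRing A]

lemma notMem_of_pi (f : A)
    (φ : Localization.Away f ≃ₐ[A]
      (∀ p : {p : PrimeSpectrum A // p.asIdeal ∈ minimalPrimes A}, Localization.AtPrime p.1.asIdeal)) :
    ∀ p ∈ minimalPrimes A, f ∉ p := by
  intro p hp hfp
  obtain ⟨P, rfl⟩ : ∃ P : PrimeSpectrum A, P.asIdeal = p := ⟨⟨p, hp.1.1⟩, rfl⟩
  have hu : IsUnit (algebraMap A (Localization.Away f) f) := IsLocalization.Away.algebraMap_isUnit f
  have hu2 := hu.map φ
  rw [AlgEquiv.commutes] at hu2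
  rw [Pi.isUnit_iff] at hu2
  have := hu2 ⟨P, hp⟩
  rw [Pi.algebraMap_apply] at this
  have h3 := (IsLocalization.AtPrime.isUnit_to_map_iff
    (Localization.AtPrime P.asIdeal) P.asIdeal f).mp this
  exact h3 hfp

lemma notMem_of_pi_res (f : A)
    (φ : Localization.Away f ≃ₐ[A]
      (∀ p : {p : PrimeSpectrum A // p.asIdeal ∈ minimalPrimes A}, p.1.asIdeal.ResidueField)) :
    ∀ p ∈ minimalPrimes A, f ∉ p := by
  intro p hp hfp
  obtain ⟨P, rfl⟩ : ∃ P : PrimeSpectrum A, P.asIdeal = p := ⟨⟨p, hp.1.1⟩, rfl⟩
  have hu : IsUnit (algebraMap A (Localization.Away f) f) := IsLocalization.Away.algebraMap_isUnit f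
  have hu2 := hu.map φ
  rw [AlgEquiv.commutes] at hu2
  rw [Pi.isUnit_iff] at hu2
  have := hu2 ⟨P, hp⟩
  rw [Pi.algebraMap_apply] at this
  have h0 : algebraMap A P.asIdeal.ResidueField f = 0 :=
    Ideal.algebraMap_residueField_eq_zero.mpr hfp
  rw [h0] at this
  exact not_isUnit_zero this

lemma atPrime_res_bij [IsReduced A] (p : Ideal A) [p.IsPrime] (hp : p ∈ minimalPrimes A) :
    Function.Bijective (algebraMap (Localization.AtPrime p) p.ResidueField) := by
  constructor
  · rw [injective_iff_map_eq_zero]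
    intro x hx
    have hx' : x ∈ IsLocalRing.maximalIdeal (Localization.AtPrime p) := by
      rw [← IsLocalRing.residue_eq_zero_iff]; exact hx
    have h1 := IsLocalization.AtPrime.radical_map_of_mem_minimalPrimes (A := Localization.AtPrime p)
      p ⊥ hp
    rw [Ideal.map_bot, Ideal.radical_bot_of_isReduced,
      IsLocalization.AtPrime.map_eq_maximalIdeal p (Localization.AtPrime p)] at h1
    rw [← h1] at hx'
    exact hx'
  · exact IsLocalRing.residue_surjective

lemma resIso [IsReduced A] (p : Ideal A) [p.IsPrime] (hp : p ∈ minimalPrimes A) :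
    Nonempty (Localization.AtPrime p ≃ₐ[A] p.ResidueField) :=
  ⟨AlgEquiv.ofBijective (IsScalarTower.toAlgHom A (Localization.AtPrime p) p.ResidueField)
    (atPrime_res_bij p hp)⟩

lemma pi_res_iff [IsReduced A] :
    Nonempty ((∀ p : {p : PrimeSpectrum A // p.asIdeal ∈ minimalPrimes A},
        Localization.AtPrime p.1.asIdeal) ≃ₐ[A]
      (∀ p : {p : PrimeSpectrum A // p.asIdeal ∈ minimalPrimes A}, p.1.asIdeal.ResidueField)) :=
  ⟨AlgEquiv.piCongrRight (fun i => (resIso i.1.asIdeal i.2).some)⟩

end conv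

/-- Let (A, m) be a Noetherian local ring of dimension one and f ∈ m. Then (1) m = √(f), (2) f lies in
no minimal prime of A, and (3) A_f ≅ ∏_{p minimal} A_p as A-algebras, are equivalent; such an f
exists; if A has depth one, for instance if A is reduced, they are also equivalent to (4) f is a
nonzerodivisor and to (5) A → A_f is the localization of A at all its nonzerodivisors; and if A is
reduced they are also equivalent to (6) A_f ≅ ∏_{p minimal} κ(p) as A-algebras. -/
theorem result (A : Type u) [CommRing A] [IsLocalRing A]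
    [IsNoetherianRing A] (hdim : ringKrullDim A = 1) :
    (∃ f ∈ IsLocalRing.maximalIdeal A, ∀ p ∈ minimalPrimes A, f ∉ p) ∧
    ∀ f ∈ IsLocalRing.maximalIdeal A,
      ((IsLocalRing.maximalIdeal A = (Ideal.span {f}).radical) ↔ (∀ p ∈ minimalPrimes A, f ∉ p)) ∧
      ((∀ p ∈ minimalPrimes A, f ∉ p) ↔
        Nonempty (Localization.Away f ≃ₐ[A] (∀ p : {p : PrimeSpectrum A // p.asIdeal ∈ minimalPrimes A}, Localization.AtPrime p.1.asIdeal))) ∧
      ((LocCoh.depth A A = 1 ∨ IsReduced A) →
        ((∀ p ∈ minimalPrimes A, f ∉ p) ↔ f ∈ nonZeroDivisors A) ∧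
        ((∀ p ∈ minimalPrimes A, f ∉ p) ↔ IsLocalization (nonZeroDivisors A) (Localization.Away f))) ∧
      (IsReduced A →
        ((∀ p ∈ minimalPrimes A, f ∉ p) ↔
          Nonempty (Localization.Away f ≃ₐ[A] (∀ p : {p : PrimeSpectrum A // p.asIdeal ∈ minimalPrimes A}, p.1.asIdeal.ResidueField)))) := by
  refine ⟨exists_f hdim, fun f hf => ⟨rad_iff hdim f hf, ⟨fun hmin => away_pi hdim f hf hmin,
    fun ⟨φ⟩ => notMem_of_pi f φ⟩, fun h => ⟨nzd_iff hdim h f hf, loc_iff hdim h f hf⟩, fun hred => ?_⟩⟩
  constructor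
  · intro hmin
    obtain ⟨φ⟩ := away_pi hdim f hf hmin
    obtain ⟨ψ⟩ := pi_res_iff (A := A)
    exact ⟨φ.trans ψ⟩
  · rintro ⟨φ⟩
    exact notMem_of_pi_res f φ

end Groth.Agent.S7651
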