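import Groth.Statements.S7652
import Mathlib
import Groth.Agent.Lib.Helper38.TotalFrac
import Groth.Agent.Lib.Helper57.NormalRing
import Groth.Agent.S6476

set_option autoImplicit false
universe u
open CategoryTheory CategoryTheory.Limits AlgebraicGeometry
open Variety

namespace Groth.Agent.S7652

open Groth.Agent.Lib.Helper38.TotalFrac

/-- N-2 implies N-1. -/
theorem isN1_of_isN2 (D : Type u) [CommRing D] [IsDomain D] (h : CAlg.IsN2 D) :
    Module.Finite D (integralClosure D (FractionRing D)) :=
  h (FractionRing D) inferInstance

theorem finite_integralClosure (A : Type u) [CommRing A] [IsReduced A] (hN : CAlg.IsNagata A) :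
    Module.Finite A (integralClosure A (FractionRing A)) := by
  have hNoeth : IsNoetherianRing A := hN.1
  have hfin : Finite (MinP A) := (minimalPrimes.finite_of_isNoetherianRing A).to_subtype
  have hfac : ∀ p : MinP A, Module.Finite A (integralClosure (A ⧸ p.1) (Kp p)) := by
    intro p
    have h1 : Module.Finite (A ⧸ p.1) (integralClosure (A ⧸ p.1) (Kp p)) :=
      isN1_of_isN2 (A ⧸ p.1) (hN.2 p.1)
    exact Module.Finite.trans (A ⧸ p.1) _
  have : Module.Finite A (∀ p : MinP A, integralClosure (A ⧸ p.1) (Kp p)) := Module.Finite.pi
  exact Module.Finite.equiv (integralClosureEquiv (A := A)).symm.toLinearEquiv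

theorem isNormalRing_integralClosure (A : Type u) [CommRing A] [IsReduced A]
    [IsNoetherianRing A] : EGA4.IsNormalRing (integralClosure A (FractionRing A)) := by
  have hfin : Finite (MinP A) := (minimalPrimes.finite_of_isNoetherianRing A).to_subtype
  have h1 : EGA4.IsNormalRing (∀ p : MinP A, integralClosure (A ⧸ p.1) (Kp p)) := by
    apply Groth.Agent.Lib.Helper57.isNormalRing_pi
    intro p
    have : IsIntegrallyClosed (integralClosure (A ⧸ p.1) (Kp p)) :=
      integralClosure.isIntegrallyClosedOfFiniteExtension (FractionRing (A ⧸ p.1))
    exact Groth.Agent.Lib.Helper57.isNormalRing_of_isIntegrallyClosed _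
  exact Groth.Agent.Lib.Helper57.isNormalRing_of_ringEquiv
    (integralClosureEquiv (A := A)).symm.toRingEquiv h1

theorem deltaInv_lt_top (A : Type u) [CommRing A] [IsLocalRing A] [IsNoetherianRing A]
    (hfin : Module.Finite A (integralClosure A (FractionRing A))) (hdim : ringKrullDim A = 1) :
    Curv2.deltaInv A < ⊤ := by
  classical
  unfold Curv2.deltaInv
  obtain ⟨G, hG⟩ := (Module.Finite.fg_top :
    (⊤ : Submodule A (integralClosure A (FractionRing A))).FG)
  obtain ⟨s, hs⟩ := IsLocalization.exist_integer_multiples_of_finset (nonZeroDivisors A)
    (G.image (Subtype.val : integralClosure A (FractionRing A) → FractionRing A))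
  have hsM : ∀ x : integralClosure A (FractionRing A), (s : A) • x ∈
      LinearMap.range (Algebra.linearMap A (integralClosure A (FractionRing A))) := by
    intro x
    have hx : x ∈ Submodule.span A (G : Set (integralClosure A (FractionRing A))) := by
      rw [hG]; trivial
    induction hx using Submodule.span_induction with
    | mem x hx =>
      obtain ⟨a, ha⟩ := hs x.1 (Finset.mem_image_of_mem _ hx)
      exact ⟨a, Subtype.ext ha⟩
    | zero => rw [smul_zero]; exact zero_mem _
    | add x y _ _ hx hy => rw [smul_add]; exact add_mem hx hy
    | smul r x _ hx => rw [smul_comm]; exact Submodule.smul_mem _ _ hx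
  have hann : (s : A) ∈ Module.annihilator A (integralClosure A (FractionRing A) ⧸
      LinearMap.range (Algebra.linearMap A (integralClosure A (FractionRing A)))) := by
    rw [Module.mem_annihilator]
    intro n
    obtain ⟨x, rfl⟩ := Submodule.Quotient.mk_surjective _ n
    rw [← Submodule.Quotient.mk_smul, Submodule.Quotient.mk_eq_zero]
    exact hsM x
  have hart : IsArtinian A (integralClosure A (FractionRing A) ⧸
      LinearMap.range (Algebra.linearMap A (integralClosure A (FractionRing A)))) := by
    apply Groth.Agent.S6476.isArtinian_of_primes_maximal
    intro p hp hle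
    have hdim1 : Ring.KrullDimLE 1 A := Ring.krullDimLE_iff.mpr (by rw [hdim]; rfl)
    rcases Ring.krullDimLE_one_iff.mp hdim1 p hp with hmin | hmax
    · exfalso
      exact Set.disjoint_left.mp (Ideal.disjoint_nonZeroDivisors_of_mem_minimalPrimes hmin)
        (hle hann) s.2
    · exact hmax
  exact Module.length_ne_top.lt_top

/-- For a reduced local Nagata ring (A, m) of Krull dimension one, write A' for the integral closure of
A in its total fraction ring. Then A' is a finite A-module, every localization of A' at a prime is
an integrally closed domain, and the quotient A'/A is an A-module of finite length. (The published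
statement also says that A' is Nagata, which follows from the finiteness of A' over A; this row does
not restate it.) -/
theorem result (A : Type u) [CommRing A] [IsLocalRing A]
    [IsReduced A] (hN : CAlg.IsNagata A) (hdim : ringKrullDim A = 1) :
    Module.Finite A (integralClosure A (FractionRing A)) ∧
      (∀ p : PrimeSpectrum (integralClosure A (FractionRing A)),
        IsDomain (Localization.AtPrime p.asIdeal) ∧ IsIntegrallyClosed (Localization.AtPrime p.asIdeal)) ∧
      Curv2.deltaInv A < ⊤ := by
  have hNoeth : IsNoetherianRing A := hN.1
  have hfin := finite_integralClosure A hN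
  refine ⟨hfin, ?_, deltaInv_lt_top A hfin hdim⟩
  intro p
  exact isNormalRing_integralClosure A p.asIdeal

end Groth.Agent.S7652
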