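import Groth.Statements.S7653
import Mathlib.RingTheory.Ideal.AssociatedPrime.Finiteness
import Mathlib.RingTheory.DiscreteValuationRing.TFAE
import Mathlib.RingTheory.KrullDimension.Field

set_option autoImplicit false
universe u
open CategoryTheory CategoryTheory.Limits AlgebraicGeometry
open Variety

namespace Groth.Agent.S7653

lemma idem_local {A : Type*} [CommRing A] [IsLocalRing A] (a : A) (h : a * a = a) :
    a = 0 ∨ a = 1 := by
  have h0 : a * (1 - a) = 0 := by rw [mul_sub, mul_one, h, sub_self]
  rcases IsLocalRing.isUnit_or_isUnit_one_sub_self a with hu | hu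
  · right
    have := hu.mul_right_eq_zero.mp h0
    exact (sub_eq_zero.mp this).symm
  · left
    exact hu.mul_left_eq_zero.mp h0

lemma surj_of_delta_zero (A : Type u) [CommRing A] (h : Curv2.deltaInv A = 0) :
    ∀ x : FractionRing A, IsIntegral A x → ∃ y, algebraMap A (FractionRing A) y = x := by
  intro x hx
  unfold Curv2.deltaInv at h
  rw [Module.length_eq_zero_iff] at h
  have h2 := Submodule.Quotient.subsingleton_iff.mp h
  have hm : (⟨x, hx⟩ : ↥(integralClosure A (FractionRing A))) ∈
      LinearMap.range (Algebra.linearMap A ↥(integralClosure A (FractionRing A))) := by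
    rw [h2]; trivial
  obtain ⟨y, hy⟩ := hm
  refine ⟨y, ?_⟩
  have := congrArg Subtype.val hy
  simpa using this

lemma isIntegral_of_idem {A K : Type*} [CommRing A] [CommRing K] [Algebra A K] (e : K)
    (h : e * e = e) : IsIntegral A e := by
  rcases subsingleton_or_nontrivial A with hA | hA
  · refine ⟨1, Polynomial.monic_one, ?_⟩
    have : (1 : A) = 0 := Subsingleton.elim _ _
    have h1 : (1 : K) = 0 := by rw [← map_one (algebraMap A K), this, map_zero]
    have : e = 0 := by rw [← mul_one e, h1, mul_zero]
    simp [this, h1]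
  refine ⟨Polynomial.X ^ 2 - Polynomial.X, ?_, ?_⟩
  · apply Polynomial.monic_X_pow_sub
    rw [Polynomial.degree_X]
    norm_num
  · simp [pow_two, h]

lemma exists_nzd (A : Type u) [CommRing A] [IsReduced A] [IsNoetherianRing A] (a : A) :
    ∃ x y : A, x * a = 0 ∧ (∀ z, z * a = 0 → y * z = 0) ∧ x + y ∈ nonZeroDivisors A := by
  set I : Ideal A := (Submodule.span A ({a} : Set A)).annihilator with hI
  set J : Ideal A := Submodule.annihilator I with hJ
  have hIm : ∀ x, x ∈ I ↔ x * a = 0 := fun x => by
    rw [hI, Submodule.mem_annihilator_span_singleton, smul_eq_mul]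
  have hJm : ∀ y, y ∈ J ↔ ∀ z ∈ I, y * z = 0 := fun y => by
    rw [hJ, Submodule.mem_annihilator]; simp only [smul_eq_mul]
  have hnd : ¬ Disjoint ((I ⊔ J : Ideal A) : Set A) (nonZeroDivisors A) := by
    intro hd
    have hlt := Ideal.bot_lt_annihilator_of_disjoint_nonZeroDivisors hd
    obtain ⟨w, hw, hw0⟩ := SetLike.exists_of_lt hlt
    apply hw0
    rw [Module.mem_annihilator] at hw
    have hwJ : w ∈ J := by
      rw [hJm]; intro z hz
      have := hw ⟨z, Ideal.mem_sup_left hz⟩
      simpa [Subtype.ext_iff] using this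
    have hww : w * w = 0 := by
      have := hw ⟨w, Ideal.mem_sup_right hwJ⟩
      simpa [Subtype.ext_iff] using this
    have : IsNilpotent w := ⟨2, by rw [pow_two, hww]⟩
    simpa using this.eq_zero
  rw [Set.not_disjoint_iff] at hnd
  obtain ⟨s, hs, hsn⟩ := hnd
  obtain ⟨x, hx, y, hy, rfl⟩ := Submodule.mem_sup.mp hs
  exact ⟨x, y, (hIm x).mp hx, fun z hz => (hJm y).mp hy z ((hIm z).mpr hz), hsn⟩

lemma noZeroDiv (A : Type u) [CommRing A] [IsLocalRing A] [IsReduced A] [IsNoetherianRing A]
    (hs : ∀ x : FractionRing A, IsIntegral A x → ∃ y, algebraMap A (FractionRing A) y = x) :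
    NoZeroDivisors A := by
  refine ⟨fun {a b} hab => ?_⟩
  by_contra hcon
  push Not at hcon
  obtain ⟨ha, hb⟩ := hcon
  obtain ⟨x, y, hx, hy, hsn⟩ := exists_nzd A a
  have hxy : x * y = 0 := by rw [mul_comm]; exact hy x hx
  set K := FractionRing A
  have hinj : Function.Injective (algebraMap A K) := IsFractionRing.injective A K
  have hu : IsUnit (algebraMap A K (x + y)) :=
    IsLocalization.map_units K (⟨x + y, hsn⟩ : nonZeroDivisors A)
  set e : K := IsLocalization.mk' K x (⟨x + y, hsn⟩ : nonZeroDivisors A) with he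
  have hes : e * algebraMap A K (x + y) = algebraMap A K x := IsLocalization.mk'_spec K x _
  have hee : e * e = e := by
    apply hu.mul_left_injective
    apply hu.mul_left_injective
    show e * e * algebraMap A K (x + y) * algebraMap A K (x + y) =
      e * algebraMap A K (x + y) * algebraMap A K (x + y)
    have : e * e * algebraMap A K (x + y) * algebraMap A K (x + y) =
        (e * algebraMap A K (x + y)) * (e * algebraMap A K (x + y)) := by ring
    rw [this, hes, ← map_mul, ← map_mul]
    congr 1
    rw [mul_add, hxy, add_zero]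
  obtain ⟨c, hc⟩ := hs e (isIntegral_of_idem e hee)
  have hcc : c * c = c := by
    apply hinj; rw [map_mul, hc, hee]
  have hcs : c * (x + y) = x := by
    apply hinj; rw [map_mul, hc, hes]
  rcases idem_local c hcc with h0 | h1
  · rw [h0, zero_mul] at hcs
    rw [← hcs, zero_add] at hsn
    have hb' := hy b (by rw [mul_comm]; exact hab)
    exact hb ((mem_nonZeroDivisors_iff.mp hsn).1 b hb')
  · rw [h1, one_mul] at hcs
    have hy0 : y = 0 := by
      have := hcs; rw [add_eq_left] at this; exact this
    rw [hy0, add_zero] at hsn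
    exact ha ((mem_nonZeroDivisors_iff.mp hsn).1 a hx)

/-- For a reduced local Nagata ring A of Krull dimension one, the δ-invariant of A is zero exactly when
A is a DVR (in particular a domain). -/
theorem result (A : Type u) [CommRing A] [IsLocalRing A]
    [IsReduced A] (hN : CAlg.IsNagata A) (hdim : ringKrullDim A = 1) :
    Curv2.deltaInv A = 0 ↔ ∃ _ : IsDomain A, IsDiscreteValuationRing A := by
  have : IsNoetherianRing A := hN.1
  constructor
  · intro h
    have hs := surj_of_delta_zero A h
    have : NoZeroDivisors A := noZeroDiv A hs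
    have hdom : IsDomain A := NoZeroDivisors.to_isDomain A
    refine ⟨hdom, ?_⟩
    have hnf : ¬ IsField A := by
      intro hf
      have := ringKrullDim_eq_zero_of_isField hf
      rw [hdim] at this
      exact one_ne_zero this
    have hle : Ring.KrullDimLE 1 A := Ring.krullDimLE_iff.mpr (by rw [hdim]; rfl)
    have hd1 : Ring.DimensionLEOne A :=
      ⟨fun {p} hp hpp => Ring.krullDimLE_one_iff_of_noZeroDivisors.mp hle p hp hpp⟩
    have hded : IsDedekindDomain A :=
      (isDedekindDomain_iff A (FractionRing A)).mpr ⟨hdom, inferInstance, hd1, fun {x} hx => hs x hx⟩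
    exact ((IsDiscreteValuationRing.TFAE A hnf).out 0 2).mpr hded
  · rintro ⟨hdom, hdvr⟩
    unfold Curv2.deltaInv
    rw [Module.length_eq_zero_iff, Submodule.Quotient.subsingleton_iff, eq_top_iff]
    rintro ⟨z, hz⟩ -
    obtain ⟨y, hy⟩ := (isIntegrallyClosed_iff (FractionRing A)).mp inferInstance hz
    exact ⟨y, Subtype.ext (by simpa using hy)⟩

end Groth.Agent.S7653
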