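import Groth.Statements.S7658
import Mathlib.AlgebraicGeometry.Morphisms.Separated
import Mathlib.AlgebraicGeometry.Restrict
import Mathlib.AlgebraicGeometry.OpenImmersion
import Mathlib.Topology.Sober

set_option autoImplicit false
universe u
open CategoryTheory CategoryTheory.Limits AlgebraicGeometry
open Variety

namespace Groth.Agent.S7658

theorem closure_image_mem_irreducibleComponents {W X : Type*} [TopologicalSpace W]
    [TopologicalSpace X] {j : W → X} (hj : Topology.IsOpenEmbedding j) {η : W}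
    (hη : closure {η} ∈ irreducibleComponents W) : closure {j η} ∈ irreducibleComponents X := by
  refine ⟨isIrreducible_singleton.closure, fun Z' hZ' hle => ?_⟩
  have hZ'' : IsIrreducible (closure Z') := hZ'.closure
  have hηmem : j η ∈ closure Z' := subset_closure (hle (subset_closure rfl))
  have hpre : IsIrreducible (j ⁻¹' closure Z') := ⟨⟨η, hηmem⟩, hZ''.2.preimage hj⟩
  have hcl : IsClosed (j ⁻¹' closure Z') := isClosed_closure.preimage hj.continuous
  have h1 : closure {η} ≤ j ⁻¹' closure Z' :=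
    hcl.closure_subset_iff.mpr (Set.singleton_subset_iff.mpr hηmem)
  have h2 : j ⁻¹' closure Z' ≤ closure {η} := hη.2 hpre h1
  have h3 : closure Z' ∩ Set.range j ⊆ closure {j η} := by
    rintro _ ⟨hz, w, rfl⟩
    have hw : w ∈ closure {η} := h2 hz
    have h5 := image_closure_subset_closure_image hj.continuous (Set.mem_image_of_mem j hw)
    rwa [Set.image_singleton] at h5
  have h4 : closure Z' ⊆ closure (closure Z' ∩ Set.range j) :=
    subset_closure_inter_of_isPreirreducible_of_isOpen hZ''.2 hj.isOpen_range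
      ⟨j η, hηmem, η, rfl⟩
  exact fun z hz => closure_minimal h3 isClosed_closure (h4 (subset_closure hz))

theorem agree_on_closure {X Y W : Scheme.{u}} (f : X ⟶ Y) [IsSeparated f] (σ σ' : W ⟶ X)
    (h : σ ≫ f = σ' ≫ f) (D : W.Opens) (hD : D.ι ≫ σ = D.ι ≫ σ') (w : W)
    (hw : w ∈ closure (D : Set W)) : σ w = σ' w := by
  let W' : Over Y := Over.mk (σ ≫ f)
  let X' : Over Y := Over.mk f
  let s : W' ⟶ X' := Over.homMk σ
  let s' : W' ⟶ X' := Over.homMk σ' h.symm
  have : IsSeparated X'.hom := ‹_›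
  let D' : Over Y := Over.mk (D.ι ≫ σ ≫ f)
  let ι' : D' ⟶ W' := Over.homMk D.ι
  have hι : ι' ≫ s = ι' ≫ s' := by
    ext1
    exact hD
  have hcl : IsClosed (Set.range (equalizer.ι s s').left) :=
    (Scheme.Hom.isClosedEmbedding _).isClosed_range
  have hfac : (equalizer.lift ι' hι).left ≫ (equalizer.ι s s').left = D.ι := by
    rw [← Over.comp_left, equalizer.lift_ι]
    rfl
  have hsub : (D : Set W) ⊆ Set.range (equalizer.ι s s').left := by
    intro d hd
    refine ⟨(equalizer.lift ι' hι).left ⟨d, hd⟩, ?_⟩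
    rw [← Scheme.Hom.comp_apply, hfac]
    rfl
  obtain ⟨z, rfl⟩ := hcl.closure_subset_iff.mpr hsub hw
  have hcond : (equalizer.ι s s').left ≫ σ = (equalizer.ι s s').left ≫ σ' :=
    congr($(equalizer.condition s s').left)
  rw [← Scheme.Hom.comp_apply, ← Scheme.Hom.comp_apply, hcond]

/-- A separated morphism of schemes f : X → Y such that X has an open covering on whose members f
restricts to open immersions, and such that no two distinct generic points of irreducible components
of X have the same image under f, is an open immersion. -/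
theorem result {X Y : Scheme.{u}}
    (f : X ⟶ Y) [IsSeparated f]
    (hloc : ∀ x : X, ∃ U : X.Opens, x ∈ U ∧ IsOpenImmersion (U.ι ≫ f))
    (hinj : ∀ ξ ξ' : X, closure ({ξ} : Set X) ∈ irreducibleComponents (X : Type u) → closure ({ξ'} : Set X) ∈ irreducibleComponents (X : Type u) →
      f.base ξ = f.base ξ' → ξ = ξ') :
    IsOpenImmersion f := by
  have hstalk : ∀ x, IsIso (f.stalkMap x) := by
    intro x
    obtain ⟨U, hxU, hU⟩ := hloc x
    have h0 : IsIso ((U.ι ≫ f).stalkMap (⟨x, hxU⟩ : (↑U : Scheme.{u}))) := inferInstance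
    have h1 : IsIso (f.stalkMap (U.ι ⟨x, hxU⟩) ≫ U.ι.stalkMap ⟨x, hxU⟩) := by
      rw [← Scheme.Hom.stalkMap_comp]
      exact h0
    exact IsIso.of_isIso_comp_right (f.stalkMap (U.ι ⟨x, hxU⟩)) (U.ι.stalkMap ⟨x, hxU⟩)
  have hopen : IsOpenMap f := by
    intro S hS
    rw [isOpen_iff_forall_mem_open]
    rintro _ ⟨x, hxS, rfl⟩
    obtain ⟨U, hxU, hU⟩ := hloc x
    refine ⟨(U.ι ≫ f) '' (U.ι ⁻¹' S), ?_, ?_, ?_⟩
    · rintro _ ⟨u, hu, rfl⟩
      exact ⟨U.ι u, hu, rfl⟩
    · exact (U.ι ≫ f).isOpenEmbedding.isOpenMap _ (hS.preimage U.ι.continuous)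
    · exact ⟨⟨x, hxU⟩, hxS, rfl⟩
  have hinj' : Function.Injective f := by
    intro x x' hxx'
    obtain ⟨U, hxU, hU⟩ := hloc x
    obtain ⟨U', hxU', hU'⟩ := hloc x'
    let W : Y.Opens := (U.ι ≫ f).opensRange ⊓ (U'.ι ≫ f).opensRange
    have hWg : Set.range W.ι ⊆ Set.range (U.ι ≫ f) := by
      rw [Scheme.Opens.range_ι]
      exact fun y hy => hy.1
    have hWg' : Set.range W.ι ⊆ Set.range (U'.ι ≫ f) := by
      rw [Scheme.Opens.range_ι]
      exact fun y hy => hy.2
    let l : (↑W : Scheme.{u}) ⟶ ↑U := IsOpenImmersion.lift (U.ι ≫ f) W.ι hWg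
    let l' : (↑W : Scheme.{u}) ⟶ ↑U' := IsOpenImmersion.lift (U'.ι ≫ f) W.ι hWg'
    have hl : l ≫ U.ι ≫ f = W.ι := IsOpenImmersion.lift_fac _ _ _
    have hl' : l' ≫ U'.ι ≫ f = W.ι := IsOpenImmersion.lift_fac _ _ _
    have hσf : (l ≫ U.ι) ≫ f = (l' ≫ U'.ι) ≫ f := by
      rw [Category.assoc, Category.assoc, hl, hl']
    let O : X.Opens := U ⊓ U'
    have hOι : X.homOfLE (inf_le_left : O ≤ U) ≫ U.ι = O.ι := X.homOfLE_ι _
    have hOι' : X.homOfLE (inf_le_right : O ≤ U') ≫ U'.ι = O.ι := X.homOfLE_ι _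
    have hO : IsOpenImmersion (O.ι ≫ f) := by
      rw [← hOι, Category.assoc]
      infer_instance
    let D : (↑W : Scheme.{u}).Opens := W.ι ⁻¹ᵁ (O.ι ≫ f).opensRange
    have hDh : Set.range (D.ι ≫ W.ι) ⊆ Set.range (O.ι ≫ f) := by
      rintro _ ⟨d, rfl⟩
      exact d.2
    let k : (↑D : Scheme.{u}) ⟶ ↑O := IsOpenImmersion.lift (O.ι ≫ f) (D.ι ≫ W.ι) hDh
    have hk : k ≫ O.ι ≫ f = D.ι ≫ W.ι := IsOpenImmersion.lift_fac _ _ _
    have e1 : D.ι ≫ l = k ≫ X.homOfLE (inf_le_left : O ≤ U) := by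
      rw [← cancel_mono (U.ι ≫ f), Category.assoc, hl, Category.assoc, ← Category.assoc
        (X.homOfLE _), hOι, hk]
    have e2 : D.ι ≫ l' = k ≫ X.homOfLE (inf_le_right : O ≤ U') := by
      rw [← cancel_mono (U'.ι ≫ f), Category.assoc, hl', Category.assoc, ← Category.assoc
        (X.homOfLE _), hOι', hk]
    have hD : D.ι ≫ (l ≫ U.ι) = D.ι ≫ (l' ≫ U'.ι) := by
      rw [← Category.assoc, e1, Category.assoc, hOι, ← Category.assoc, e2, Category.assoc, hOι']
    have hσopen : Topology.IsOpenEmbedding (l ≫ U.ι) := by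
      have : IsOpenImmersion l := IsOpenImmersion.of_comp l (U.ι ≫ f)
      exact (l ≫ U.ι).isOpenEmbedding
    have hσ'open : Topology.IsOpenEmbedding (l' ≫ U'.ι) := by
      have : IsOpenImmersion l' := IsOpenImmersion.of_comp l' (U'.ι ≫ f)
      exact (l' ≫ U'.ι).isOpenEmbedding
    have hfσ : ∀ w : (↑W : Scheme.{u}), f ((l ≫ U.ι) w) = W.ι w := by
      intro w
      rw [← Scheme.Hom.comp_apply, Category.assoc, hl]
    have hfσ' : ∀ w : (↑W : Scheme.{u}), f ((l' ≫ U'.ι) w) = W.ι w := by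
      intro w
      rw [← Scheme.Hom.comp_apply, Category.assoc, hl']
    have hdense : ∀ w : (↑W : Scheme.{u}), w ∈ closure (D : Set (↑W : Scheme.{u})) := by
      intro w
      have hirr : IsIrreducible (irreducibleComponent w) := isIrreducible_irreducibleComponent
      have hclosed : IsClosed (irreducibleComponent w) := isClosed_irreducibleComponent
      obtain ⟨η, hη⟩ := QuasiSober.sober hirr hclosed
      have hηcomp : closure {η} ∈ irreducibleComponents (↑W : Scheme.{u}) := by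
        rw [hη.def]
        exact irreducibleComponent_mem_irreducibleComponents w
      have h1 := closure_image_mem_irreducibleComponents hσopen hηcomp
      have h2 := closure_image_mem_irreducibleComponents hσ'open hηcomp
      have h3 : (l ≫ U.ι) η = (l' ≫ U'.ι) η :=
        hinj _ _ h1 h2 (by rw [hfσ, hfσ'])
      have hηD : η ∈ (D : Set (↑W : Scheme.{u})) := by
        have hU1 : (l ≫ U.ι) η ∈ U := by
          rw [Scheme.Hom.comp_apply]
          exact (l η).2
        have hU2 : (l ≫ U.ι) η ∈ U' := by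
          rw [h3, Scheme.Hom.comp_apply]
          exact (l' η).2
        refine ⟨⟨(l ≫ U.ι) η, ⟨hU1, hU2⟩⟩, ?_⟩
        rw [Scheme.Hom.comp_apply]
        exact hfσ η
      have hw : w ∈ closure {η} := by
        rw [hη.def]
        exact mem_irreducibleComponent
      exact closure_mono (Set.singleton_subset_iff.mpr hηD) hw
    have hy : f x ∈ W := by
      refine ⟨⟨⟨x, hxU⟩, rfl⟩, ⟨⟨x', hxU'⟩, ?_⟩⟩
      exact hxx'.symm
    have hagree := agree_on_closure f (l ≫ U.ι) (l' ≫ U'.ι) hσf D hD ⟨f x, hy⟩ (hdense _)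
    have hx1 : (l ≫ U.ι) ⟨f x, hy⟩ = x := by
      have h5 : (U.ι ≫ f) (l ⟨f x, hy⟩) = (U.ι ≫ f) ⟨x, hxU⟩ := by
        rw [← Scheme.Hom.comp_apply, hl]
        rfl
      have h6 := (U.ι ≫ f).isOpenEmbedding.injective h5
      rw [Scheme.Hom.comp_apply, h6]
      rfl
    have hx2 : (l' ≫ U'.ι) ⟨f x, hy⟩ = x' := by
      have h5 : (U'.ι ≫ f) (l' ⟨f x, hy⟩) = (U'.ι ≫ f) ⟨x', hxU'⟩ := by
        rw [← Scheme.Hom.comp_apply, hl']
        exact hxx'
      have h6 := (U'.ι ≫ f).isOpenEmbedding.injective h5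
      rw [Scheme.Hom.comp_apply, h6]
      rfl
    rw [← hx1, ← hx2]
    exact hagree
  exact IsOpenImmersion.of_isIso_stalkMap f
    (Topology.IsOpenEmbedding.of_continuous_injective_isOpenMap f.continuous hinj' hopen)

end Groth.Agent.S7658
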