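import Groth.Statements.S7663
import Groth.Agent.Lib.Helper14.KrullAkizukiThm

set_option autoImplicit false
universe u
open CategoryTheory CategoryTheory.Limits AlgebraicGeometry
open Variety

namespace Groth.Agent.S7663

theorem dvr_of_le (K : Type u) [Field K] (A : Subring K) [IsFractionRing A K] [IsNoetherianRing A]
    (hdim : ringKrullDim A = 1) (O : ValuationSubring K) (hAO : A ≤ O.toSubring)
    (hO : ¬ IsField O) : IsDiscreteValuationRing O := by
  have hK1 : Ring.KrullDimLE 1 A := Ring.krullDimLE_iff.mpr hdim.le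
  let _ : Algebra A O := (Subring.inclusion hAO).toAlgebra
  have hT : IsScalarTower A O K := IsScalarTower.of_algebraMap_eq (fun x => rfl)
  have hinj : Function.Injective (algebraMap O K) := Subtype.val_injective
  have hN : IsNoetherianRing O :=
    Groth.Agent.Lib.Helper14.KrullAkizuki.isNoetherianRing_of_injective A K K hinj
  exact ((IsDiscreteValuationRing.TFAE O hO).out 0 1).mpr (inferInstance : ValuationRing O)

/-- Let K be a field and A, B ⊆ K subrings with fraction field K, with A Noetherian of dimension one.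
Then A ⊗ B → K is not surjective (equivalently, the subring generated by A and B is not K) if and
only if some discrete valuation ring O ⊆ K with fraction field K contains both A and B. -/
theorem result (K : Type u) [Field K]
    (A : Subring K) [IsFractionRing A K] (B : Subring K) [IsFractionRing B K] [IsNoetherianRing A] (hdim : ringKrullDim A = 1) :
    A ⊔ B ≠ ⊤ ↔ ∃ O : ValuationSubring K, IsDiscreteValuationRing O ∧ A ≤ O.toSubring ∧ B ≤ O.toSubring := by
  constructor
  · intro hne
    obtain ⟨x, hx⟩ : ∃ x : K, x ∉ A ⊔ B := by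
      by_contra hcon
      push Not at hcon
      exact hne (eq_top_iff.mpr fun x _ => hcon x)
    obtain ⟨a, b, hb, rfl⟩ := IsFractionRing.div_surjective (A := A) x
    have hb0 : (b : K) ≠ 0 := by
      intro h0
      exact (nonZeroDivisors.ne_zero hb) (Subtype.ext h0)
    have hbC : (b : K) ∈ A ⊔ B := (le_sup_left : A ≤ A ⊔ B) b.2
    have haC : (a : K) ∈ A ⊔ B := (le_sup_left : A ≤ A ⊔ B) a.2
    have hbinv : (b : K)⁻¹ ∉ A ⊔ B := by
      intro hmem
      apply hx
      have : algebraMap A K a / algebraMap A K b = (a : K) * (b : K)⁻¹ := by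
        rw [div_eq_mul_inv]; rfl
      rw [this]
      exact Subring.mul_mem _ haC hmem
    set C : Subring K := A ⊔ B with hC
    have hI : Ideal.span {(⟨(b : K), hbC⟩ : C)} ≠ ⊤ := by
      intro htop
      rw [Ideal.span_singleton_eq_top] at htop
      obtain ⟨⟨c, hc⟩, e⟩ := isUnit_iff_exists_inv.mp htop
      have e' : (b : K) * c = 1 := congrArg Subtype.val e
      apply hbinv
      have : (b : K)⁻¹ = c := by
        rw [inv_eq_iff_eq_inv, eq_comm, inv_eq_iff_eq_inv]
        exact (eq_inv_of_mul_eq_one_right e')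
      rw [this]
      exact hc
    obtain ⟨O, hCO, hsub⟩ := Ideal.image_subset_nonunits_valuationSubring _ hI
    have hbn : (b : K) ∈ O.nonunits :=
      hsub ⟨⟨(b : K), hbC⟩, Ideal.mem_span_singleton_self _, rfl⟩
    have hAO : A ≤ O.toSubring := le_trans le_sup_left hCO
    have hBO : B ≤ O.toSubring := le_trans le_sup_right hCO
    have hO : ¬ IsField O := by
      intro hF
      have hbO : (b : K) ∈ O := hAO b.2
      have hne0 : (⟨(b : K), hbO⟩ : O) ≠ 0 := fun h => hb0 (congrArg Subtype.val h)
      obtain ⟨c, hc⟩ := hF.mul_inv_cancel hne0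
      have hu : IsUnit (⟨(b : K), hbO⟩ : O) := isUnit_iff_exists_inv.mpr ⟨c, hc⟩
      have := (ValuationSubring.mem_nonunits_iff_exists_mem_maximalIdeal (A := O)).mp hbn
      obtain ⟨hb', hmax⟩ := this
      exact (IsLocalRing.mem_maximalIdeal _).mp hmax hu
    exact ⟨O, dvr_of_le K A hdim O hAO hO, hAO, hBO⟩
  · rintro ⟨O, hdvr, hAO, hBO⟩ htop
    have hle : A ⊔ B ≤ O.toSubring := sup_le hAO hBO
    rw [htop] at hle
    obtain ⟨ϖ, hϖ⟩ := IsDiscreteValuationRing.exists_irreducible O
    have hϖ0 : (ϖ : K) ≠ 0 := fun h => hϖ.ne_zero (Subtype.ext h)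
    have hmem : (ϖ : K)⁻¹ ∈ O := hle (Subring.mem_top _)
    apply hϖ.not_isUnit
    exact isUnit_iff_exists_inv.mpr ⟨⟨(ϖ : K)⁻¹, hmem⟩, Subtype.ext (mul_inv_cancel₀ hϖ0)⟩

end Groth.Agent.S7663
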