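import Groth.Statements.S7664
import Groth.Agent.Lib.Helper63.SemilocalGlue
import Mathlib.AlgebraicGeometry.OpenImmersion
import Mathlib.Algebra.Category.Ring.Constructions

set_option autoImplicit false
universe u
open CategoryTheory CategoryTheory.Limits AlgebraicGeometry
open Variety

namespace Groth.Agent.S7664

open Groth.Agent.Lib.Helper63.SemilocalGlue

theorem glue_data (K : Type u) [Field K]
    (A : Subring K) [IsFractionRing A K] [Ring.KrullDimLE 1 A]
    (B : ValuationSubring K) [IsDiscreteValuationRing B]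
    (s : A) (hs0 : s ≠ 0) (hs : s ∈ Ideal.jacobson (⊥ : Ideal A))
    (u : A) (hu : IsUnit u) (huB : (u : K) ∉ B) :
    ∃ (x y : ↥(A ⊓ B.toSubring)),
      @IsLocalization.Away _ _ x A _ (Subring.inclusion (inf_le_left : A ⊓ B.toSubring ≤ A)).toAlgebra ∧
      @IsLocalization.Away _ _ y B.toSubring _
        (Subring.inclusion (inf_le_right : A ⊓ B.toSubring ≤ B.toSubring)).toAlgebra ∧
      IsUnit (x + y) ∧
      IsLocalization.Away (Subring.inclusion (inf_le_left : A ⊓ B.toSubring ≤ A) y) K := by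
  obtain ⟨u', hu'⟩ := isUnit_iff_exists_inv.mp hu
  have hmul : (u : K) * (u' : K) = 1 := congrArg (Subtype.val : A → K) hu'
  have hxinv : (u' : K)⁻¹ = (u : K) := inv_eq_of_mul_eq_one_left hmul
  have hx0 : (u' : K) ≠ 0 := by
    intro h
    rw [h, mul_zero] at hmul
    exact zero_ne_one hmul
  have hxA : (u' : K) ∈ A := u'.2
  have hxinvA : (u' : K)⁻¹ ∈ A := hxinv ▸ u.2
  have hxinvB : (u' : K)⁻¹ ∉ B := hxinv ▸ huB
  have hxB : (u' : K) ∈ B := (B.mem_or_inv_mem _).resolve_right hxinvB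
  have hsK : (s : K) ≠ 0 := fun h => hs0 (Subtype.ext h)
  obtain ⟨J, i, hJ, hU⟩ := exists_unit_combination B hx0 hxinvB hsK
  have hzA : (u' : K) ^ (-i) ∈ A := zpow_mem_of_mem A hxA hxinvA (-i)
  have hyA : (s : K) ^ J * (u' : K) ^ (-i) ∈ A := A.mul_mem (A.pow_mem s.2 J) hzA
  have hy0 : (s : K) ^ J * (u' : K) ^ (-i) ≠ 0 := mul_ne_zero (pow_ne_zero _ hsK) (zpow_ne_zero _ hx0)
  have hyjac : (⟨(s : K) ^ J * (u' : K) ^ (-i), hyA⟩ : A) ∈ Ideal.jacobson (⊥ : Ideal A) := by
    have h1 : (⟨(s : K) ^ J * (u' : K) ^ (-i), hyA⟩ : A) = s ^ J * ⟨(u' : K) ^ (-i), hzA⟩ :=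
      Subtype.ext rfl
    rw [h1]
    exact Ideal.mul_mem_right _ _ (Ideal.pow_mem_of_mem _ hs J hJ)
  have hyA0 : (⟨(s : K) ^ J * (u' : K) ^ (-i), hyA⟩ : A) ≠ 0 :=
    fun h => hy0 (congrArg (Subtype.val : A → K) h)
  refine ⟨⟨(u' : K), Subring.mem_inf.mpr ⟨hxA, hxB⟩⟩,
    ⟨(s : K) ^ J * (u' : K) ^ (-i), Subring.mem_inf.mpr ⟨hyA, hU.1⟩⟩, ?_, ?_, ?_, ?_⟩
  · refine away_of (inf_le_left : A ⊓ B.toSubring ≤ A) _ hxinvA hx0 ?_
    intro c hc
    obtain ⟨n, hn⟩ := exists_pow_mul_mem B hx0 hxinvB c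
    exact ⟨n, Subring.mem_inf.mpr ⟨A.mul_mem (A.pow_mem hxA n) hc, hn⟩⟩
  · refine away_of (inf_le_right : A ⊓ B.toSubring ≤ B.toSubring) _ hU.2 hy0 ?_
    intro c hc
    obtain ⟨n, a, hn⟩ := exists_pow_mul_eq_algebraMap (K := K) hyjac c
    refine ⟨n, Subring.mem_inf.mpr ⟨?_, B.toSubring.mul_mem (B.toSubring.pow_mem hU.1 n) hc⟩⟩
    have hn' : ((s : K) ^ J * (u' : K) ^ (-i)) ^ n * c = (a : K) := hn
    rw [hn']
    exact a.2
  · have hA : IsUnit (u' + (⟨(s : K) ^ J * (u' : K) ^ (-i), hyA⟩ : A)) := by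
      refine isUnit_add_of_mem_jacobson ?_ hyjac
      exact isUnit_iff_exists_inv.mpr ⟨u, by rw [mul_comm]; exact hu'⟩
    obtain ⟨w, hw⟩ := isUnit_iff_exists_inv.mp hA
    have hwK : ((u' : K) + (s : K) ^ J * (u' : K) ^ (-i)) * (w : K) = 1 :=
      congrArg (Subtype.val : A → K) hw
    have hB : IsUnit ((⟨(u' : K), hxB⟩ : B) + ⟨(s : K) ^ J * (u' : K) ^ (-i), hU.1⟩) := by
      by_contra hnu
      have h1 : (⟨(u' : K), hxB⟩ : B) + ⟨(s : K) ^ J * (u' : K) ^ (-i), hU.1⟩ ∈
          IsLocalRing.maximalIdeal B := (IsLocalRing.mem_maximalIdeal _).mpr hnu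
      have h2 : (⟨(u' : K), hxB⟩ : B) ∈ IsLocalRing.maximalIdeal B := by
        rw [IsLocalRing.mem_maximalIdeal, mem_nonunits_iff]
        intro hux
        obtain ⟨d, hd⟩ := isUnit_iff_exists_inv.mp hux
        have hdK : (u' : K) * (d : K) = 1 := congrArg (Subtype.val : B → K) hd
        apply hxinvB
        rw [inv_eq_of_mul_eq_one_right hdK]
        exact d.2
      have h3 := Ideal.sub_mem _ h1 h2
      rw [add_sub_cancel_left] at h3
      have h4 : IsUnit (⟨(s : K) ^ J * (u' : K) ^ (-i), hU.1⟩ : B) :=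
        isUnit_iff_exists_inv.mpr ⟨⟨_, hU.2⟩, Subtype.ext (mul_inv_cancel₀ hy0)⟩
      exact (IsLocalRing.mem_maximalIdeal _).mp h3 h4
    obtain ⟨w', hw'⟩ := isUnit_iff_exists_inv.mp hB
    have hw'K : ((u' : K) + (s : K) ^ J * (u' : K) ^ (-i)) * (w' : K) = 1 :=
      congrArg (Subtype.val : B → K) hw'
    have hww : (w : K) = (w' : K) := by
      rw [← inv_eq_of_mul_eq_one_right hwK, ← inv_eq_of_mul_eq_one_right hw'K]
    refine isUnit_iff_exists_inv.mpr ⟨⟨(w : K), Subring.mem_inf.mpr ⟨w.2, hww ▸ w'.2⟩⟩, ?_⟩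
    exact Subtype.ext hwK
  · exact away_fractionField (K := K) hyjac hyA0

/-- Let K be a field, A ⊆ K a Noetherian semi-local domain of dimension one and B ⊆ K a discrete
valuation ring, both with fraction field K, and R = A ∩ B. (a) If some unit of A does not lie in R,
then Spec A and Spec B each map to Spec R by an open immersion, Spec R is the union of the two
images, and the natural map A ⊗_R B → K is an isomorphism. (b) If every unit of A lies in R, then B
dominates the local ring of A at one of its maximal ideals (A ⊆ B and the maximal ideal of B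
contracts to a maximal ideal of A) and A ⊗ B → K is not surjective. -/
theorem result (K : Type u) [Field K]
    (A : Subring K) [IsFractionRing A K] [IsNoetherianRing A] (hdim : ringKrullDim A = 1) (hsl : Finite (MaximalSpectrum A))
    (B : ValuationSubring K) [IsDiscreteValuationRing B] :
    ((∃ u : A, IsUnit u ∧ (u : K) ∉ B) →
      IsOpenImmersion (Spec.map (CommRingCat.ofHom (Subring.inclusion (inf_le_left : A ⊓ B.toSubring ≤ A)))) ∧
      IsOpenImmersion (Spec.map (CommRingCat.ofHom (Subring.inclusion (inf_le_right : A ⊓ B.toSubring ≤ B.toSubring)))) ∧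
      Set.range (Spec.map (CommRingCat.ofHom (Subring.inclusion (inf_le_left : A ⊓ B.toSubring ≤ A)))).base ∪
        Set.range (Spec.map (CommRingCat.ofHom (Subring.inclusion (inf_le_right : A ⊓ B.toSubring ≤ B.toSubring)))).base = Set.univ ∧
      IsPushout (CommRingCat.ofHom (Subring.inclusion (inf_le_left : A ⊓ B.toSubring ≤ A)))
        (CommRingCat.ofHom (Subring.inclusion (inf_le_right : A ⊓ B.toSubring ≤ B.toSubring)))
        (CommRingCat.ofHom A.subtype) (CommRingCat.ofHom B.toSubring.subtype)) ∧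
    ((∀ u : A, IsUnit u → (u : K) ∈ B) →
      (∃ h : A ≤ B.toSubring,
        (Ideal.comap (Subring.inclusion h) (IsLocalRing.maximalIdeal B)).IsMaximal) ∧ A ⊔ B.toSubring ≠ ⊤) := by
  have hK1 : Ring.KrullDimLE 1 A := Ring.krullDimLE_iff.mpr hdim.le
  have hnf : ¬ IsField A := fun h => by
    have h0 := ringKrullDim_eq_zero_of_isField h
    rw [hdim] at h0
    exact one_ne_zero h0
  obtain ⟨s, hs0, hs⟩ := exists_ne_zero_mem_jacobson hsl hnf
  refine ⟨?_, ?_⟩
  · rintro ⟨u, hu, huB⟩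
    obtain ⟨x, y, locA, locB, hxy, locK⟩ := glue_data K A B s hs0 hs u hu huB
    let algA : Algebra ↥(A ⊓ B.toSubring) A :=
      (Subring.inclusion (inf_le_left : A ⊓ B.toSubring ≤ A)).toAlgebra
    let algB : Algebra ↥(A ⊓ B.toSubring) B.toSubring :=
      (Subring.inclusion (inf_le_right : A ⊓ B.toSubring ≤ B.toSubring)).toAlgebra
    have hrA : Set.range (Spec.map (CommRingCat.ofHom
        (Subring.inclusion (inf_le_left : A ⊓ B.toSubring ≤ A)))).base =
        (PrimeSpectrum.basicOpen x : Set (PrimeSpectrum ↥(A ⊓ B.toSubring))) :=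
      PrimeSpectrum.localization_away_comap_range A x
    have hrB : Set.range (Spec.map (CommRingCat.ofHom
        (Subring.inclusion (inf_le_right : A ⊓ B.toSubring ≤ B.toSubring)))).base =
        (PrimeSpectrum.basicOpen y : Set (PrimeSpectrum ↥(A ⊓ B.toSubring))) :=
      PrimeSpectrum.localization_away_comap_range B.toSubring y
    refine ⟨IsOpenImmersion.of_isLocalization (R := ↥(A ⊓ B.toSubring)) (S := A) x,
      IsOpenImmersion.of_isLocalization (R := ↥(A ⊓ B.toSubring)) (S := B.toSubring) y, ?_, ?_⟩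
    · rw [hrA, hrB]
      ext p
      simp only [Set.mem_union, Set.mem_univ, iff_true]
      by_contra hcon
      push Not at hcon
      have h1 : x ∈ p.asIdeal := by
        by_contra h
        exact hcon.1 ((PrimeSpectrum.mem_basicOpen x p).mpr h)
      have h2 : y ∈ p.asIdeal := by
        by_contra h
        exact hcon.2 ((PrimeSpectrum.mem_basicOpen y p).mpr h)
      have hmem : x + y ∈ p.asIdeal := Ideal.add_mem _ h1 h2
      exact p.2.ne_top (Ideal.eq_top_of_isUnit_mem _ hmem hxy)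
    · have hloc : IsLocalization ((Submonoid.powers y).map
          (Subring.inclusion (inf_le_left : A ⊓ B.toSubring ≤ A))) K := by
        rw [Submonoid.map_powers]
        exact locK
      exact CommRingCat.isPushout_of_isLocalization
        (Subring.inclusion (inf_le_left : A ⊓ B.toSubring ≤ A)) B.toSubring.subtype rfl
        (Submonoid.powers y)
  · intro hunits
    have hle := le_of_units_mem A B hs0 hs hunits
    refine ⟨⟨hle, comap_maximalIdeal_isMaximal A B hle⟩, ?_⟩
    rw [sup_eq_right.mpr hle]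
    exact dvr_ne_top B

end Groth.Agent.S7664
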