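import Groth.Statements.S7666
import Mathlib.RingTheory.KrullDimension.Basic
import Mathlib.RingTheory.Localization.AtPrime.Basic
import Mathlib.RingTheory.Noetherian.Basic
import Mathlib.RingTheory.Ideal.MinimalPrime.Basic
import Mathlib.Algebra.Ring.GeomSum
import Mathlib.RingTheory.Nilpotent.Lemmas

set_option autoImplicit false
universe u
open CategoryTheory CategoryTheory.Limits AlgebraicGeometry
open Variety

namespace Groth.Agent.S7666

theorem exists_pow_le_ker {A : Type u} [CommRing A]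
    [IsLocalRing A] [IsNoetherianRing A] (hdim : ringKrullDim A = 1) (x : A)
    (heq : ∀ p : {p : PrimeSpectrum A // p.asIdeal ∈ minimalPrimes A},
      algebraMap A (Localization.AtPrime p.1.asIdeal) x = 0) :
    ∃ k : ℕ, ∀ y ∈ IsLocalRing.maximalIdeal A ^ k, y * x = 0 := by
  have hK : Ring.KrullDimLE 1 A := Ring.krullDimLE_iff.mpr hdim.le
  let J : Ideal A := LinearMap.ker (LinearMap.toSpanSingleton A A x)
  have hJ : ∀ y, y ∈ J ↔ y * x = 0 := fun y => by
    change LinearMap.toSpanSingleton A A x y = 0 ↔ _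
    rw [LinearMap.toSpanSingleton_apply, smul_eq_mul]
  have hle : IsLocalRing.maximalIdeal A ≤ J.radical := by
    rw [Ideal.radical_eq_sInf]
    refine le_sInf ?_
    rintro q ⟨hJq, hq⟩
    rcases Ring.krullDimLE_one_iff.mp hK q hq with hmin | hmax
    · exfalso
      have h1 := heq ⟨⟨q, hq⟩, hmin⟩
      rw [← map_zero (algebraMap A (Localization.AtPrime q)),
        IsLocalization.eq_iff_exists q.primeCompl] at h1
      obtain ⟨c, hc⟩ := h1
      have : (c : A) ∈ J := by rw [hJ]; simpa using hc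
      exact c.2 (hJq this)
    · rw [IsLocalRing.eq_maximalIdeal hmax]
  obtain ⟨k, hk⟩ := Ideal.exists_pow_le_of_le_radical_of_fg hle (IsNoetherian.noetherian _)
  exact ⟨k, fun y hy => (hJ y).mp (hk hy)⟩

/-- Let A be a one-dimensional Noetherian local ring and L = ∏ A_p, the product over the minimal primes
of A. If a_1, a_2 ∈ m_A have the same image in L, then a_1 and a_2 have equal n-th powers for some
positive integer n. -/
theorem result (A : Type u) [CommRing A]
    [IsLocalRing A] [IsNoetherianRing A] (hdim : ringKrullDim A = 1)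
    (a₁ a₂ : A) (h₁ : a₁ ∈ IsLocalRing.maximalIdeal A) (h₂ : a₂ ∈ IsLocalRing.maximalIdeal A)
    (heq : ∀ p : {p : PrimeSpectrum A // p.asIdeal ∈ minimalPrimes A},
      algebraMap A (Localization.AtPrime p.1.asIdeal) a₁ = algebraMap A (Localization.AtPrime p.1.asIdeal) a₂) :
    ∃ n : ℕ, 0 < n ∧ a₁ ^ n = a₂ ^ n := by
  obtain ⟨k, hk⟩ := exists_pow_le_ker hdim (a₁ - a₂) (fun p => by
    rw [map_sub, heq p, sub_self])
  refine ⟨k + 1, Nat.succ_pos k, ?_⟩
  have h1 : (∑ i ∈ Finset.range (k + 1), a₁ ^ i * a₂ ^ (k + 1 - 1 - i)) * (a₁ - a₂) =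
      a₁ ^ (k + 1) - a₂ ^ (k + 1) := (Commute.all a₁ a₂).geom_sum₂_mul (k + 1)
  have h2 : (∑ i ∈ Finset.range (k + 1), a₁ ^ i * a₂ ^ (k + 1 - 1 - i)) ∈
      IsLocalRing.maximalIdeal A ^ k := by
    refine Ideal.sum_mem _ fun i hi => ?_
    have hik : i ≤ k := Nat.lt_succ_iff.mp (Finset.mem_range.mp hi)
    have h3 : a₁ ^ i * a₂ ^ (k + 1 - 1 - i) ∈
        IsLocalRing.maximalIdeal A ^ i * IsLocalRing.maximalIdeal A ^ (k + 1 - 1 - i) :=
      Ideal.mul_mem_mul (Ideal.pow_mem_pow h₁ i) (Ideal.pow_mem_pow h₂ _)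
    rw [← pow_add, show i + (k + 1 - 1 - i) = k by omega] at h3
    exact h3
  rw [hk _ h2] at h1
  exact sub_eq_zero.mp h1.symm

end Groth.Agent.S7666
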