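import Groth.Statements.S7667
import Mathlib.RingTheory.Ideal.MinimalPrime.Localization
import Mathlib.RingTheory.Noetherian.Nilpotent
import Mathlib.RingTheory.Ideal.MinimalPrime.Noetherian
import Mathlib.RingTheory.Ideal.KrullsHeightTheorem

set_option autoImplicit false
universe u
open CategoryTheory CategoryTheory.Limits AlgebraicGeometry
open Variety

namespace Groth.Agent.S7667

abbrev MinP (A : Type u) [CommRing A] := {p : PrimeSpectrum A // p.asIdeal ∈ minimalPrimes A}

abbrev LL (A : Type u) [CommRing A] := ∀ p : MinP A, Localization.AtPrime p.1.asIdeal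

theorem exists_pow_map_eq_zero {A : Type u} [CommRing A] (p : MinP A) (y : A) (hy : y ∈ p.1.asIdeal) :
    ∃ n : ℕ, algebraMap A (Localization.AtPrime p.1.asIdeal) (y ^ n) = 0 := by
  have h1 := IsLocalization.AtPrime.radical_map_of_mem_minimalPrimes
    (A := Localization.AtPrime p.1.asIdeal) p.1.asIdeal ⊥ p.2
  have h2 : algebraMap A (Localization.AtPrime p.1.asIdeal) y ∈
      p.1.asIdeal.map (algebraMap A (Localization.AtPrime p.1.asIdeal)) :=
    Ideal.mem_map_of_mem _ hy
  rw [← h1, Ideal.map_bot] at h2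
  obtain ⟨n, hn⟩ := h2
  exact ⟨n, by rw [map_pow]; exact hn⟩

theorem exists_sep {A : Type u} [CommRing A] [IsNoetherianRing A] (q : MinP A) :
    ∃ e : A, e ∉ q.1.asIdeal ∧ ∀ p : MinP A, p ≠ q →
      algebraMap A (Localization.AtPrime p.1.asIdeal) e = 0 := by
  classical
  have hfin : Finite (MinP A) := by
    have h1 : (minimalPrimes A).Finite := minimalPrimes.finite_of_isNoetherianRing A
    have h2 : Finite {I : Ideal A // I ∈ minimalPrimes A} := h1
    exact Finite.of_injective (fun p : MinP A => (⟨p.1.asIdeal, p.2⟩ : {I : Ideal A // I ∈ minimalPrimes A}))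
      (fun p p' h => Subtype.ext (PrimeSpectrum.ext (congrArg Subtype.val h)))
  have := Fintype.ofFinite (MinP A)
  have hch : ∀ p : MinP A, p ≠ q → ∃ z : A, z ∉ q.1.asIdeal ∧
      algebraMap A (Localization.AtPrime p.1.asIdeal) z = 0 := by
    intro p hpq
    have hnle : ¬ p.1.asIdeal ≤ q.1.asIdeal := by
      intro hle
      apply hpq
      have h3 : q.1.asIdeal ≤ p.1.asIdeal := q.2.2 ⟨p.1.2, bot_le⟩ hle
      exact Subtype.ext (PrimeSpectrum.ext (le_antisymm hle h3))
    obtain ⟨y, hyp, hyq⟩ := Set.not_subset.mp hnle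
    obtain ⟨n, hn⟩ := exists_pow_map_eq_zero p y hyp
    exact ⟨y ^ n, fun h => hyq (q.1.2.mem_of_pow_mem n h), hn⟩
  choose! z hz1 hz2 using hch
  refine ⟨∏ p ∈ Finset.univ.filter (fun p => p ≠ q), z p, ?_, ?_⟩
  · intro hmem
    rw [Ideal.IsPrime.prod_mem_iff] at hmem
    obtain ⟨p, hp, hzp⟩ := hmem
    exact hz1 p (Finset.mem_filter.mp hp).2 hzp
  · intro p hpq
    rw [map_prod]
    exact Finset.prod_eq_zero (Finset.mem_filter.mpr ⟨Finset.mem_univ p, hpq⟩) (hz2 p hpq)

def JJ {A : Type u} [CommRing A] (l : LL A) : Ideal A where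
  carrier := {b | algebraMap A (LL A) b * l ∈ (algebraMap A (LL A)).range}
  zero_mem' := ⟨0, by simp⟩
  add_mem' := by
    rintro b b' ⟨x, hx⟩ ⟨x', hx'⟩
    exact ⟨x + x', by rw [map_add, map_add, add_mul, hx, hx']⟩
  smul_mem' := by
    rintro c b ⟨x, hx⟩
    exact ⟨c * x, by rw [smul_eq_mul, map_mul, map_mul, mul_assoc, hx]⟩

theorem mem_JJ {A : Type u} [CommRing A] (l : LL A) (b : A) :
    b ∈ JJ l ↔ algebraMap A (LL A) b * l ∈ (algebraMap A (LL A)).range := Iff.rfl

theorem JJ_not_le {A : Type u} [CommRing A] [IsNoetherianRing A] (l : LL A) (q : MinP A) :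
    ¬ JJ l ≤ q.1.asIdeal := by
  intro hle
  obtain ⟨e, heq, he⟩ := exists_sep q
  obtain ⟨x, s, hxs⟩ := IsLocalization.exists_mk'_eq q.1.asIdeal.primeCompl (l q)
  have hmem : e * (s : A) ∈ JJ l := by
    rw [mem_JJ]
    refine ⟨e * x, ?_⟩
    funext p
    rw [Pi.mul_apply, Pi.algebraMap_apply, Pi.algebraMap_apply]
    by_cases hpq : p = q
    · subst hpq
      rw [← hxs, map_mul, map_mul, mul_assoc, mul_comm (algebraMap A _ (s : A)),
        IsLocalization.mk'_spec]
    · rw [map_mul, map_mul, he p hpq, zero_mul, zero_mul, zero_mul]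
  rcases q.1.2.mem_or_mem (hle hmem) with h | h
  · exact heq h
  · exact s.2 h

theorem exists_pow_mem_JJ {A : Type u} [CommRing A] [IsLocalRing A] [IsNoetherianRing A]
    (hdim : ringKrullDim A = 1) (a : A) (ha : a ∈ IsLocalRing.maximalIdeal A) (l : LL A) :
    ∃ M : ℕ, a ^ M ∈ JJ l := by
  have hK : Ring.KrullDimLE 1 A := Ring.krullDimLE_iff.mpr hdim.le
  have hle : IsLocalRing.maximalIdeal A ≤ (JJ l).radical := by
    rw [Ideal.radical_eq_sInf]
    refine le_sInf ?_
    rintro q ⟨hJq, hq⟩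
    rcases Ring.krullDimLE_one_iff.mp hK q hq with hmin | hmax
    · exact absurd hJq (JJ_not_le l ⟨⟨q, hq⟩, hmin⟩)
    · rw [IsLocalRing.eq_maximalIdeal hmax]
  exact hle ha

/-- Let A be a one-dimensional Noetherian local ring, L the product of the localizations A_p over its
minimal primes p, and I the intersection of those primes (the nilradical of A). If f ∈ L equals i +
a with a in the maximal ideal of A and i ∈ I·L, then for some positive integer n, f^n belongs to the
subring of L obtained as the image of the structure map from A. -/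
theorem result (A : Type u) [CommRing A]
    [IsLocalRing A] [IsNoetherianRing A] (hdim : ringKrullDim A = 1)
    (a : A) (ha : a ∈ IsLocalRing.maximalIdeal A)
    (i : ∀ p : {p : PrimeSpectrum A // p.asIdeal ∈ minimalPrimes A}, Localization.AtPrime p.1.asIdeal)
    (hi : i ∈ (nilradical A).map (algebraMap A (∀ p : {p : PrimeSpectrum A // p.asIdeal ∈ minimalPrimes A}, Localization.AtPrime p.1.asIdeal))) :
    ∃ n : ℕ, 0 < n ∧ (i + algebraMap A (∀ p : {p : PrimeSpectrum A // p.asIdeal ∈ minimalPrimes A}, Localization.AtPrime p.1.asIdeal) a) ^ n ∈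
      (algebraMap A (∀ p : {p : PrimeSpectrum A // p.asIdeal ∈ minimalPrimes A}, Localization.AtPrime p.1.asIdeal)).range := by
  classical
  obtain ⟨N, hN⟩ := IsNoetherianRing.isNilpotent_nilradical A
  have hiN : i ^ N = 0 := by
    have h1 : i ^ N ∈ ((nilradical A).map (algebraMap A (LL A))) ^ N := Ideal.pow_mem_pow hi N
    rw [← Ideal.map_pow, hN] at h1
    have h0 : ((0 : Ideal A)).map (algebraMap A (LL A)) = ⊥ := Ideal.map_bot
    rw [h0] at h1
    exact h1
  have hM : ∀ k : ℕ, ∃ M : ℕ, a ^ M ∈ JJ (i ^ k) := fun k => exists_pow_mem_JJ hdim a ha (i ^ k)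
  choose Mk hMk using hM
  set M := ∑ k ∈ Finset.range N, Mk k with hMdef
  have hMle : ∀ k ∈ Finset.range N, Mk k ≤ M := fun k hk =>
    Finset.single_le_sum (f := Mk) (fun _ _ => Nat.zero_le _) hk
  have hMall : ∀ k ∈ Finset.range N, a ^ M ∈ JJ (i ^ k) := by
    intro k hk
    have : a ^ M = a ^ (M - Mk k) * a ^ (Mk k) := by
      rw [← pow_add, Nat.sub_add_cancel (hMle k hk)]
    rw [this]
    exact Ideal.mul_mem_left _ _ (hMk k)
  refine ⟨N + M + 1, Nat.succ_pos _, ?_⟩
  rw [add_pow]
  refine Subring.sum_mem _ fun k hk => ?_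
  by_cases hkN : k < N
  · obtain ⟨x, hx⟩ := (mem_JJ _ _).mp (hMall k (Finset.mem_range.mpr hkN))
    have hexp : N + M + 1 - k = (N + M + 1 - k - M) + M := by omega
    refine ⟨((N + M + 1).choose k : A) * (a ^ (N + M + 1 - k - M) * x), ?_⟩
    rw [map_mul, map_mul, hx, map_natCast, map_pow, map_pow]
    conv_rhs => rw [hexp, pow_add]
    ring
  · have hk0 : i ^ k = 0 := by
      have : k = N + (k - N) := by omega
      rw [this, pow_add, hiN, zero_mul]
    rw [hk0, zero_mul, zero_mul]
    exact Subring.zero_mem _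

end Groth.Agent.S7667
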