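import Groth.Statements.S7668
import Mathlib.RingTheory.Localization.Ideal
import Mathlib.RingTheory.Spectrum.Maximal.Basic
import Mathlib.RingTheory.Spectrum.Prime.Basic
import Mathlib.RingTheory.Ideal.Operations

set_option autoImplicit false
universe u
open CategoryTheory CategoryTheory.Limits AlgebraicGeometry
open Variety

namespace Groth.Agent.S7668

section

variable {A : Type u} [CommRing A] {r : ℕ} (p : Fin r → PrimeSpectrum A)

theorem disjoint_iff (q : Ideal A) (hq : q.IsPrime) :
    Disjoint ((⨅ i, (p i).asIdeal.primeCompl : Submonoid A) : Set A) (q : Set A) ↔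
      ∃ i, q ≤ (p i).asIdeal := by
  constructor
  · intro hd
    rcases Nat.eq_zero_or_pos r with h0 | hpos
    · subst h0
      exfalso
      have h1 : (0 : A) ∈ (⨅ i, (p i).asIdeal.primeCompl : Submonoid A) := by
        rw [Submonoid.mem_iInf]
        intro i
        exact i.elim0
      exact Set.disjoint_left.mp hd h1 q.zero_mem
    · have hsub : (q : Set A) ⊆ ⋃ i ∈ ((Finset.univ : Finset (Fin r)) : Set (Fin r)),
          ((p i).asIdeal : Set A) := by
        intro x hx
        have h1 : x ∉ (⨅ i, (p i).asIdeal.primeCompl : Submonoid A) :=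
          fun h => Set.disjoint_left.mp hd h hx
        rw [Submonoid.mem_iInf, not_forall] at h1
        obtain ⟨i, hi⟩ := h1
        have h2 : x ∈ (p i).asIdeal := by
          by_contra h3
          exact hi h3
        exact Set.mem_biUnion (Finset.mem_coe.mpr (Finset.mem_univ i)) h2
      obtain ⟨i, -, hi⟩ := (Ideal.subset_union_prime (⟨0, hpos⟩ : Fin r) ⟨0, hpos⟩
        (fun i _ _ _ => (p i).isPrime)).mp hsub
      exact ⟨i, hi⟩
  · rintro ⟨i, hi⟩
    rw [Set.disjoint_left]
    intro x hxS hxq
    rw [SetLike.mem_coe, Submonoid.mem_iInf] at hxS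
    exact hxS i (hi hxq)

end

/-- Let A be a ring, p_1, …, p_r primes of A and S = A ∖ ⋃ p_i. Then S is a multiplicative subset, S⁻¹A
is semi-local, and contraction to A is a bijection from the maximal ideals of S⁻¹A onto the maximal
elements of {p_1, …, p_r}. -/
theorem result (A : Type u) [CommRing A]
    (r : ℕ) (p : Fin r → PrimeSpectrum A) :
    Finite (MaximalSpectrum (Localization (⨅ i, (p i).asIdeal.primeCompl))) ∧
      Set.BijOn (fun m : Ideal (Localization (⨅ i, (p i).asIdeal.primeCompl)) =>
          m.comap (algebraMap A (Localization (⨅ i, (p i).asIdeal.primeCompl))))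
        {m | m.IsMaximal}
        {q | q ∈ Set.range (fun i => (p i).asIdeal) ∧
          ∀ j, q ≤ (p j).asIdeal → q = (p j).asIdeal} := by
  have hmc : ∀ J : Ideal (Localization (⨅ i, (p i).asIdeal.primeCompl)),
      (J.comap (algebraMap A (Localization (⨅ i, (p i).asIdeal.primeCompl)))).map
        (algebraMap A (Localization (⨅ i, (p i).asIdeal.primeCompl))) = J :=
    fun J => IsLocalization.map_comap (⨅ i, (p i).asIdeal.primeCompl) _ J
  have hprime : ∀ i, ((p i).asIdeal.map
      (algebraMap A (Localization (⨅ i, (p i).asIdeal.primeCompl)))).IsPrime ∧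
      ((p i).asIdeal.map (algebraMap A (Localization (⨅ i, (p i).asIdeal.primeCompl)))).comap
        (algebraMap A (Localization (⨅ i, (p i).asIdeal.primeCompl))) = (p i).asIdeal := by
    intro i
    have hd := (disjoint_iff p (p i).asIdeal (p i).isPrime).mpr ⟨i, le_rfl⟩
    exact ⟨IsLocalization.isPrime_of_isPrime_disjoint _ _ _ (p i).isPrime hd,
      IsLocalization.comap_map_of_isPrime_disjoint _ _ (p i).isPrime hd⟩
  have hmaps : ∀ m : Ideal (Localization (⨅ i, (p i).asIdeal.primeCompl)), m.IsMaximal →
      ∀ j, m.comap (algebraMap A (Localization (⨅ i, (p i).asIdeal.primeCompl))) ≤ (p j).asIdeal →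
        m.comap (algebraMap A (Localization (⨅ i, (p i).asIdeal.primeCompl))) = (p j).asIdeal := by
    intro m hm j hj
    have h1 : m ≤ (p j).asIdeal.map
        (algebraMap A (Localization (⨅ i, (p i).asIdeal.primeCompl))) := by
      rw [← hmc m]
      exact Ideal.map_mono hj
    have h2 := hm.eq_of_le (hprime j).1.ne_top h1
    rw [h2, (hprime j).2]
  have hex : ∀ m : Ideal (Localization (⨅ i, (p i).asIdeal.primeCompl)), m.IsMaximal →
      ∃ i, m.comap (algebraMap A (Localization (⨅ i, (p i).asIdeal.primeCompl))) =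
        (p i).asIdeal := by
    intro m hm
    have hmp : m.IsPrime := hm.isPrime
    have h1 := (IsLocalization.isPrime_iff_isPrime_disjoint (⨅ i, (p i).asIdeal.primeCompl)
      _ m).mp hmp
    obtain ⟨i, hi⟩ := (disjoint_iff p _ h1.1).mp h1.2
    exact ⟨i, hmaps m hm i hi⟩
  have hinj : ∀ m₁ m₂ : Ideal (Localization (⨅ i, (p i).asIdeal.primeCompl)),
      m₁.comap (algebraMap A (Localization (⨅ i, (p i).asIdeal.primeCompl))) =
      m₂.comap (algebraMap A (Localization (⨅ i, (p i).asIdeal.primeCompl))) → m₁ = m₂ := by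
    intro m₁ m₂ h
    rw [← hmc m₁, ← hmc m₂, h]
  refine ⟨?_, ?_, ?_, ?_⟩
  · choose idx hidx using fun m : MaximalSpectrum (Localization (⨅ i, (p i).asIdeal.primeCompl)) =>
      hex m.asIdeal m.isMaximal
    refine Finite.of_injective idx ?_
    intro m₁ m₂ h
    apply MaximalSpectrum.ext
    apply hinj
    rw [hidx m₁, hidx m₂, h]
  · intro m hm
    obtain ⟨i, hi⟩ := hex m hm
    exact ⟨⟨i, hi.symm⟩, fun j hj => hmaps m hm j hj⟩
  · intro m₁ _ m₂ _ h
    exact hinj m₁ m₂ h
  · rintro q ⟨⟨i, rfl⟩, hmaxq⟩
    refine ⟨(p i).asIdeal.map (algebraMap A (Localization (⨅ i, (p i).asIdeal.primeCompl))),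
      ?_, (hprime i).2⟩
    obtain ⟨m', hm', hle⟩ := Ideal.exists_le_maximal _ (hprime i).1.ne_top
    obtain ⟨j, hj⟩ := hex m' hm'
    have h1 : (p i).asIdeal ≤ (p j).asIdeal := by
      rw [← hj, ← (hprime i).2]
      exact Ideal.comap_mono hle
    have h2 := hmaxq j h1
    have h3 : m' = (p i).asIdeal.map
        (algebraMap A (Localization (⨅ i, (p i).asIdeal.primeCompl))) := by
      apply hinj
      rw [hj, (hprime i).2]
      exact h2.symm
    rw [← h3]
    exact hm'

end Groth.Agent.S7668
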