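import Groth.Statements.S7684
import Groth.Agent.Lib.Helper41.NormDimOne

set_option autoImplicit false
universe u
open CategoryTheory CategoryTheory.Limits AlgebraicGeometry
open Variety

namespace Groth.Agent.S7684

/-- For an integral scheme: let X be an integral locally Noetherian scheme of dimension one and ν : X^ν
→ X its normalization. Then ν has finite fibres and finite residue field extensions, and X^ν is a
locally Noetherian scheme whose nonempty affine opens are spectra of Dedekind domains. (The
published statement is for any locally Noetherian X of dimension one, with X^ν → X_red, and also
says that ν is integral, surjective and birational, that X^ν is normal and that its stalks are the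
integral closures of those of X; here X is integral, and those clauses, which hold for the
normalization of every integral scheme, are not restated.) -/
theorem result (X : Scheme.{u}) [IsIntegral X] [IsLocallyNoetherian X]
    [QuasiCompact (X.fromSpecStalk (genericPoint X))] [QuasiSeparated (X.fromSpecStalk (genericPoint X))]
    (hdim : topologicalKrullDim X = 1) :
    (∀ x : X, Finite {x' : ↥(Curv2.normalization X) // (Curv2.normalizationι X).base x' = x}) ∧
      (∀ x' : ↥(Curv2.normalization X),
        letI := ((Curv2.normalizationι X).residueFieldMap x').hom.toAlgebra
        Module.Finite (X.residueField ((Curv2.normalizationι X).base x')) ((Curv2.normalization X).residueField x')) ∧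
      IsLocallyNoetherian (Curv2.normalization X) ∧
      (∀ U : (Curv2.normalization X).affineOpens, ((U : (Curv2.normalization X).Opens) : Set ↥(Curv2.normalization X)).Nonempty →
        IsDedekindDomain Γ(Curv2.normalization X, (U : (Curv2.normalization X).Opens))) := by
  have hg : (X.fromSpecStalk (genericPoint X) : Spec (CommRingCat.of X.functionField) ⟶ X) =
      Groth.Agent.Lib.Helper41.NormDimOne.g₀ X := by
    unfold Groth.Agent.Lib.Helper41.NormDimOne.g₀ Groth.Agent.Lib.Helper69.NormField.gen
    rw [show CommRingCat.ofHom (RingHom.id X.functionField) = 𝟙 (CommRingCat.of X.functionField)
      from rfl, Spec.map_id, Category.id_comp]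
  exact Groth.Agent.Lib.Helper41.NormDimOne.normalization_dim_one X
    (X.fromSpecStalk (genericPoint X)) hg hdim

end Groth.Agent.S7684
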