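import Groth.Statements.S7687
import Groth.Agent.Lib.Helper63.SemilocalGlue2

set_option autoImplicit false
universe u
open CategoryTheory CategoryTheory.Limits AlgebraicGeometry
open Variety

namespace Groth.Agent.S7687

open Groth.Agent.Lib.Helper63.SemilocalGlue2

/-- Let K be a field and A, B ⊆ K Noetherian semi-local domains of dimension one with fraction field K
such that A ⊗ B → K is surjective, and R = A ∩ B. Then Spec A and Spec B each map to Spec R by an
open immersion, Spec R is the union of the two images, and the natural map A ⊗_R B → K is an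
isomorphism. -/
theorem result (K : Type u) [Field K]
    (A : Subring K) [IsFractionRing A K] (B : Subring K) [IsFractionRing B K] [IsNoetherianRing A] [IsNoetherianRing B]
    (hdimA : ringKrullDim A = 1) (hdimB : ringKrullDim B = 1)
    (hslA : Finite (MaximalSpectrum A)) (hslB : Finite (MaximalSpectrum B)) (hgen : A ⊔ B = ⊤) :
    IsOpenImmersion (Spec.map (CommRingCat.ofHom (Subring.inclusion (inf_le_left : A ⊓ B ≤ A)))) ∧
      IsOpenImmersion (Spec.map (CommRingCat.ofHom (Subring.inclusion (inf_le_right : A ⊓ B ≤ B)))) ∧
      Set.range (Spec.map (CommRingCat.ofHom (Subring.inclusion (inf_le_left : A ⊓ B ≤ A)))).base ∪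
        Set.range (Spec.map (CommRingCat.ofHom (Subring.inclusion (inf_le_right : A ⊓ B ≤ B)))).base = Set.univ ∧
      IsPushout (CommRingCat.ofHom (Subring.inclusion (inf_le_left : A ⊓ B ≤ A)))
        (CommRingCat.ofHom (Subring.inclusion (inf_le_right : A ⊓ B ≤ B)))
        (CommRingCat.ofHom A.subtype) (CommRingCat.ofHom B.subtype) := by
  have hKA : Ring.KrullDimLE 1 A := Ring.krullDimLE_iff.mpr hdimA.le
  have hKB : Ring.KrullDimLE 1 B := Ring.krullDimLE_iff.mpr hdimB.le
  have hnfA : ¬ IsField A := fun h => by
    have h0 := ringKrullDim_eq_zero_of_isField h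
    rw [hdimA] at h0
    exact one_ne_zero h0
  have hnfB : ¬ IsField B := fun h => by
    have h0 := ringKrullDim_eq_zero_of_isField h
    rw [hdimB] at h0
    exact one_ne_zero h0
  let F : Bool → Subring K := fun b => cond b A B
  have hN : ∀ b, IsNoetherianRing (F b) := fun b => by
    cases b
    · exact (inferInstance : IsNoetherianRing B)
    · exact (inferInstance : IsNoetherianRing A)
  have hFr : ∀ b, IsFractionRing (F b) K := fun b => by
    cases b
    · exact (inferInstance : IsFractionRing B K)
    · exact (inferInstance : IsFractionRing A K)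
  have hdim : ∀ b, Ring.KrullDimLE 1 (F b) := fun b => by cases b <;> assumption
  have hnf : ∀ b, ¬ IsField (F b) := fun b => by cases b <;> assumption
  have hsl : ∀ b, Finite (MaximalSpectrum (F b)) := fun b => by cases b <;> assumption
  have hg : ∀ i j : Bool, i ≠ j → F i ⊔ F j = ⊤ := by
    intro i j hij
    cases i <;> cases j
    · exact absurd rfl hij
    · change B ⊔ A = ⊤
      rw [sup_comm]
      exact hgen
    · exact hgen
    · exact absurd rfl hij
  obtain ⟨e, he1, he0, herad, hsum⟩ := exists_partition_of_unity F hdim hnf hsl hg
  have hsum' : e true + e false = 1 := by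
    rw [← hsum, Fintype.sum_bool]
  exact glue_two A B (e true) (e false) (he1 true).1 (he1 true).2 (he0 true)
    (herad true false (by decide)) (he1 false).1 (he1 false).2 (he0 false)
    (herad false true (by decide)) hsum'

end Groth.Agent.S7687
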