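import Groth.Statements.S8263
import Groth.Agent.Lib.Helper74.RelProjMap
import Groth.Agent.Lib.Helper5.ProjClosed

set_option autoImplicit false
universe u
open CategoryTheory CategoryTheory.Limits AlgebraicGeometry Opposite TopologicalSpace
open scoped HomogeneousIdeal
open EGA2

namespace Groth.Agent.S8263

/-- Let φ : 𝒜 → ℬ be a graded homomorphism of quasi-coherent positively graded O_Y-algebras that is
surjective over every affine open of Y, and let h : Proj(ℬ) → Proj(𝒜) be the morphism it induces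
(chartwise the morphism of Proj's induced by φ(U)). Then h is a closed immersion. (The published
statement allows φ to be only eventually surjective in high degrees; this row is the surjective
case, to which the general one reduces.) -/
theorem result {Y PA PB : Scheme.{u}} {𝒜 ℬ : RelProj.QCGrAlg Y}
    (φ : 𝒜.toQCAlg ⟶ ℬ.toQCAlg) (hφ : RelProj.IsGradedHom φ)
    (hsurj : ∀ (U : Y.Opens) (hU : IsAffineOpen U), Function.Surjective (φ.hom.app (op U)).hom)
    (hirr : ∀ (U : Y.Opens) (hU : IsAffineOpen U),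
      (ℬ.deg U hU)₊ ≤ ((𝒜.deg U hU)₊).map (RelProj.gradedHomAt φ hφ U hU))
    (pA : PA ⟶ Y) (pB : PB ⟶ Y)
    (chartA : ∀ (U : Y.Opens) (hU : IsAffineOpen U), (((pA ⁻¹ᵁ U : PA.Opens) : Scheme.{u}) ≅ Proj (𝒜.deg U hU)))
    (chartB : ∀ (U : Y.Opens) (hU : IsAffineOpen U), (((pB ⁻¹ᵁ U : PB.Opens) : Scheme.{u}) ≅ Proj (ℬ.deg U hU)))
    (hA : RelProj.IsRelProj 𝒜 pA chartA) (hB : RelProj.IsRelProj ℬ pB chartB)
    (h : PB ⟶ PA) (hh : RelProj.IsRelProjMap φ hφ hirr chartA chartB h) : IsClosedImmersion h := by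
  have hcomp : h ≫ pA = pB :=
    Groth.Agent.Lib.Helper74.RelProjLib.relProjMap_comp φ hφ hirr hA hB h hh
  refine IsZariskiLocalAtTarget.of_iSup_eq_top (P := @IsClosedImmersion)
    (fun U : Y.affineOpens => pA ⁻¹ᵁ U.1)
    (Groth.Agent.Lib.Helper74.RelProjLib.iSup_preimage_eq_top pA) ?_
  intro U
  have heq : h ⁻¹ᵁ (pA ⁻¹ᵁ U.1) = pB ⁻¹ᵁ U.1 := by rw [← hcomp]; rfl
  let e : Arrow.mk (h ∣_ (pA ⁻¹ᵁ U.1)) ≅ Arrow.mk ((chartB U.1 U.2).hom ≫
      Proj.map (RelProj.gradedHomAt φ hφ U.1 U.2) (hirr U.1 U.2) ≫ (chartA U.1 U.2).inv) :=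
    Arrow.isoMk (PB.isoOfEq heq) (Iso.refl _) (by
      rw [← cancel_mono (pA ⁻¹ᵁ U.1).ι]
      simp only [Arrow.mk_left, Arrow.mk_right, Arrow.mk_hom, Iso.refl_hom, Category.assoc,
        Category.id_comp, morphismRestrict_ι]
      rw [← hh U.1 U.2, Scheme.isoOfEq_hom_ι_assoc])
  rw [MorphismProperty.arrow_mk_iso_iff @IsClosedImmersion e]
  have := Groth.Agent.Lib.Helper5.isClosedImmersion_map (RelProj.gradedHomAt φ hφ U.1 U.2)
    (hsurj U.1 U.2) (hirr U.1 U.2)
  infer_instance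

end Groth.Agent.S8263
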