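import Groth.Statements.S8268
import Groth.Agent.Lib.Helper74.SymQCAlgProps
import Groth.Agent.Lib.Helper21.QCohSections

set_option autoImplicit false
universe u
open CategoryTheory CategoryTheory.Limits AlgebraicGeometry Opposite TopologicalSpace
open EGA2

namespace Groth.Agent.S8268

/-- A surjective homomorphism E → F of quasi-coherent O_S-modules induces a closed immersion V(F) → V(E)
of the associated vector bundles (relative spectra of the symmetric algebras; the algebra map A → B
is the one extending E → F). -/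
theorem result {S : Scheme.{u}} (E F : S.Modules) (hE : Coh.IsQCoh E)
    (hF : Coh.IsQCoh F) (u : E ⟶ F) [Epi u]
    (A B : RelSpec.QCAlg S) (j : E ⟶ A.toModule) (k : F ⟶ B.toModule)
    (hA : RelSpec.IsSymAlg E A j) (hB : RelSpec.IsSymAlg F B k)
    (ψ : A ⟶ B) (hψ : j ≫ RelSpec.QCAlg.Hom.toModuleMap ψ = u ≫ k) :
    IsClosedImmersion (RelSpec.QCAlg.specMap ψ) := by
  haveI : E.IsQuasicoherent := hE
  haveI : F.IsQuasicoherent := hF
  refine Groth.Agent.Lib.Helper74.SymQ.specMap_of_forall @IsClosedImmersion ψ fun U hU => ?_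
  apply IsClosedImmersion.spec_of_surjective
  open scoped Groth.Agent.Lib.Helper74.SymQ in
  refine Groth.Agent.Lib.Helper74.SymQ.surjective_of_isSymmetricAlgebra
    (Groth.Agent.Lib.Helper74.SymQ.isSymmetricAlgebra_of_isSymAlg hB U hU)
    (Groth.Agent.Lib.Helper74.SymQ.jLin j U) (u.app U)
    (Groth.Agent.Lib.Helper21.QCohSections.app_surjective_of_epi u hU) (ψ.hom.app (op U)).hom
    (Groth.Agent.Lib.Helper74.SymQ.hom_algebraMap ψ U) (fun m => ?_)
  exact congr(Groth.Agent.Lib.Helper74.SymQ.jLin $hψ U m)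

end Groth.Agent.S8268
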