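import Groth.Statements.S8269
import Groth.Agent.Lib.Helper40.QCAlgGen
import Groth.Agent.Lib.Helper74.SymQCAlgProps
import Groth.Agent.Lib.Helper50.AffSpecIso

set_option autoImplicit false
universe u
open CategoryTheory CategoryTheory.Limits AlgebraicGeometry Opposite TopologicalSpace
open EGA2

namespace Groth.Agent.S8269

/-- Let Y be either a quasi-compact separated scheme or a scheme with Noetherian underlying space, and X
affine and of finite type over Y. Then X is Y-isomorphic to a closed subscheme of a vector bundle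
V(E) with E a quasi-coherent O_Y-module of finite type: there are such an E, its symmetric algebra
A, and a closed immersion X → Spec(A) over Y. -/
theorem result {X Y : Scheme.{u}}
    (hY : (CompactSpace Y ∧ Y.IsSeparated) ∨ NoetherianSpace Y) (f : X ⟶ Y) [IsAffineHom f]
    [LocallyOfFiniteType f] :
    ∃ (E : Y.Modules) (_ : Coh.IsCoh E) (A : RelSpec.QCAlg Y) (j : E ⟶ A.toModule)
      (_ : RelSpec.IsSymAlg E A j) (i : X ⟶ A.spec), IsClosedImmersion i ∧ i ≫ A.π = f := by
  classical
  have hqc : CompactSpace Y ∧ QuasiSeparatedSpace Y := by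
    rcases hY with ⟨h1, h2⟩ | h
    · exact ⟨h1, inferInstance⟩
    · exact ⟨inferInstance, ⟨fun U V _ _ _ _ => NoetherianSpace.isCompact _⟩⟩
  obtain ⟨hc, hqs⟩ := hqc
  set B := RelSpec.QCAlg.directImage f with hB
  have hBft : ∀ U : Y.affineOpens, (B.str.app (op (U : Y.Opens))).hom.FiniteType := by
    intro U
    have h1 := HasRingHomProperty.appLE (P := @LocallyOfFiniteType) f inferInstance U
      ⟨f ⁻¹ᵁ U.1, U.2.preimage f⟩ le_rfl
    rw [← Scheme.Hom.app_eq_appLE] at h1
    exact h1
  obtain ⟨E, j, hmono, hqE, hftE, hgen⟩ :=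
    Groth.Agent.Lib.Helper40.QCAlgGen.exists_generating_sub B hBft
  haveI := hqE
  obtain ⟨ψ, hψ, -⟩ := Groth.Agent.Lib.Helper74.SymQ.isSymAlg_symAlg E B j
  have hsurj : ∀ (U : Y.Opens) (_ : IsAffineOpen U),
      Function.Surjective (ψ.hom.app (op U)).hom := by
    intro U hU
    have h1 : Groth.Agent.Lib.Helper40.QCAlgGen.genRing B j U ≤ (ψ.hom.app (op U)).hom.range := by
      refine Subring.closure_le.mpr ?_
      rintro b (⟨r, rfl⟩ | ⟨e, rfl⟩)
      · refine ⟨((Groth.Agent.Lib.Helper74.SymQ.symAlg E).str.app (op U)).hom r, ?_⟩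
        exact congr($(NatTrans.congr_app ψ.comm (op U)).hom r)
      · refine ⟨(((Groth.Agent.Lib.Helper74.SymQ.symJ E).app U).hom e), ?_⟩
        rw [← hψ]
        rfl
    rw [hgen ⟨U, hU⟩] at h1
    intro b
    exact h1 (Subring.mem_top b)
  have hcl : IsClosedImmersion (RelSpec.QCAlg.specMap ψ) :=
    Groth.Agent.Lib.Helper74.SymQ.specMap_of_forall @IsClosedImmersion ψ fun U hU =>
      IsClosedImmersion.spec_of_surjective _ (hsurj U hU)
  obtain ⟨c, hc1, hc2⟩ := Groth.Agent.Lib.Helper50.AffSpecIso.exists_iso_spec_directImage f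
  haveI := hc2
  haveI := hcl
  refine ⟨E, ⟨hqE, hftE⟩, Groth.Agent.Lib.Helper74.SymQ.symAlg E,
    Groth.Agent.Lib.Helper74.SymQ.symJ E, Groth.Agent.Lib.Helper74.SymQ.isSymAlg_symAlg E,
    c ≫ RelSpec.QCAlg.specMap ψ, inferInstance, ?_⟩
  rw [Category.assoc, RelSpec.QCAlg.specMap_π, hc1]

end Groth.Agent.S8269
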