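import Groth.Statements.S8272
import Mathlib.Tactic
-- import your own Groth.Agent.* helpers here

set_option autoImplicit false
universe u
open CategoryTheory CategoryTheory.Limits AlgebraicGeometry Opposite TopologicalSpace
open EGA2

namespace Groth.Agent.S8272


section helpers

open HomogeneousLocalization

theorem awayMap_injective {R A : Type*} [CommRing R] [CommRing A] [Algebra R A]
    (𝒜 : ℕ → Submodule R A) [GradedAlgebra 𝒜] {d e : ℕ} {f g : A} (hf : f ∈ 𝒜 d) (hg : g ∈ 𝒜 e)
    (hnz : g ∈ nonZeroDivisors A) {x : A} (hx : x = f * g) :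
    Function.Injective (awayMap 𝒜 hg hx) := by
  rw [injective_iff_map_eq_zero]
  intro z hz
  obtain ⟨n, a, ha, rfl⟩ := Away.mk_surjective 𝒜 hf z
  rw [awayMap_mk 𝒜 hg hx n hf a ha] at hz
  have hz' := congrArg HomogeneousLocalization.val hz
  rw [Away.val_mk, HomogeneousLocalization.val_zero, Localization.mk_eq_mk',
    IsLocalization.mk'_eq_zero_iff] at hz'
  obtain ⟨⟨_, j, rfl⟩, hj⟩ := hz'
  have h0 : f ^ j * a = 0 := by
    have h1 : (f ^ j * a) * g ^ (j + n) = 0 := by
      have : x ^ j * (a * g ^ n) = 0 := hj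
      rw [← this, hx]
      ring
    exact (mul_right_mem_nonZeroDivisors_eq_zero_iff (pow_mem hnz _)).mp h1
  apply HomogeneousLocalization.val_injective
  rw [Away.val_mk, HomogeneousLocalization.val_zero, Localization.mk_eq_mk',
    IsLocalization.mk'_eq_zero_iff]
  exact ⟨⟨f ^ j, j, rfl⟩, h0⟩

end helpers

/-- Let T be a positively graded ring, Z = Proj T and g ∈ T_d (d > 0) a homogeneous element that is not
a zero divisor in T. Then Z is the smallest closed subscheme of Z containing the open D_+(g);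
equivalently the kernel (ideal sheaf) of the open immersion D_+(g) → Z vanishes. -/
theorem result {R A : Type u} [CommRing R] [CommRing A] [Algebra R A]
    (𝒜 : ℕ → Submodule R A) [GradedAlgebra 𝒜] {d : ℕ} (hd : 0 < d) (g : A) (hg : g ∈ 𝒜 d)
    (hnz : g ∈ nonZeroDivisors A) :
    (Proj.basicOpen 𝒜 g).ι.ker = ⊥ := by
  classical
  rw [← le_bot_iff]
  let U : (Σ i : PNat, 𝒜 i) → (Proj 𝒜).affineOpens := fun i =>
    ⟨Proj.basicOpen 𝒜 i.2.1, Proj.isAffineOpen_basicOpen 𝒜 i.2.1 i.2.2 i.1.2⟩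
  have hU : ⨆ i, (U i).1 = ⊤ := by
    have h := (Proj.affineOpenCover 𝒜).openCover.iSup_opensRange
    rw [← h]
    refine iSup_congr fun i => ?_
    exact (Proj.opensRange_awayι 𝒜 i.2.1 i.2.2 i.1.2).symm
  refine Scheme.IdealSheafData.le_of_iSup_eq_top U hU fun i => ?_
  refine (Scheme.Hom.ideal_ker_le _ _).trans ?_
  rw [Scheme.IdealSheafData.ideal_bot, Pi.bot_apply, le_bot_iff,
    ← RingHom.injective_iff_ker_eq_bot]
  obtain ⟨⟨m, hm⟩, ⟨f, hf⟩⟩ := i
  -- reduce to the restriction map to `D₊(f * g)`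
  have key : ∀ (W : (Proj 𝒜).Opens) (hW : W = Proj.basicOpen 𝒜 (f * g))
      (h : W ≤ Proj.basicOpen 𝒜 f),
      Function.Injective ((Proj 𝒜).presheaf.map (homOfLE h).op).hom := by
    rintro W rfl h
    have h1 := Proj.awayMap_awayToSection (𝒜 := 𝒜) (f := f) hg (x := f * g) rfl
    have hiso1 : IsIso (Proj.awayToSection 𝒜 f) := by
      rw [← Proj.basicOpenIsoAway_hom 𝒜 f hf hm]; infer_instance
    have hiso2 : IsIso (Proj.awayToSection 𝒜 (f * g)) := by
      rw [← Proj.basicOpenIsoAway_hom 𝒜 (f * g) (SetLike.mul_mem_graded hf hg)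
        (Nat.add_pos_left hm d)]
      infer_instance
    have h2 : (Proj 𝒜).presheaf.map (homOfLE h).op =
        inv (Proj.awayToSection 𝒜 f) ≫
          CommRingCat.ofHom (HomogeneousLocalization.awayMap 𝒜 hg rfl) ≫
          Proj.awayToSection 𝒜 (f * g) := by
      rw [IsIso.eq_inv_comp]
      exact h1.symm
    rw [h2]
    have hA : Function.Injective (Proj.awayToSection 𝒜 (f * g)).hom :=
      ((ConcreteCategory.isIso_iff_bijective _).mp hiso2).1
    have hB : Function.Injective (HomogeneousLocalization.awayMap 𝒜 hg (rfl : f * g = f * g)) :=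
      awayMap_injective 𝒜 hf hg hnz rfl
    have hC : Function.Injective (inv (Proj.awayToSection 𝒜 f)).hom :=
      ((ConcreteCategory.isIso_iff_bijective _).mp (inferInstance :
        IsIso (inv (Proj.awayToSection 𝒜 f)))).1
    exact hA.comp (hB.comp hC)
  rw [Scheme.Opens.ι_app]
  apply key
  change (Proj.basicOpen 𝒜 g).ι ''ᵁ (Proj.basicOpen 𝒜 g).ι ⁻¹ᵁ (Proj.basicOpen 𝒜 f) = _
  rw [Scheme.Hom.image_preimage_eq_opensRange_inf, Scheme.Opens.opensRange_ι, Proj.basicOpen_mul,
    inf_comm]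

end Groth.Agent.S8272
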