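import Groth.Statements.S8276
import Groth.Agent.Lib.Helper43.NaturalFG
-- import your own Groth.Agent.* helpers here

set_option autoImplicit false
universe u
open EGA2

namespace Groth.Agent.S8276

/-- For a positively graded ring S and the graded ring S♮ with S♮_n = S_{≥ n} = ⊕_{m ≥ n} S_m (presented
here as a graded ring S' with an injective algebra homomorphism φ : S' → S[X] carrying S'_n onto
S_{≥ n}·X^n for every n, so that S'_0 is identified with S): S♮ is Noetherian if and only if S is. -/
theorem result {R A B : Type u} [CommRing R] [CommRing A] [Algebra R A]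
    (𝒜 : ℕ → Submodule R A) [GradedAlgebra 𝒜] [CommRing B] [Algebra R B] (ℬ : ℕ → Submodule R B) [GradedAlgebra ℬ]
    (φ : B →ₐ[R] Polynomial A) (hφ : Function.Injective φ)
    (hdeg : ∀ n : ℕ, Submodule.map φ.toLinearMap (ℬ n) =
      Submodule.map ((Polynomial.monomial n : A →ₗ[A] Polynomial A).restrictScalars R) (⨆ (m : ℕ) (_ : n ≤ m), 𝒜 m)) :
    IsNoetherianRing B ↔ IsNoetherianRing A := by
  constructor
  · intro hB
    exact isNoetherianRing_of_surjective B A (Groth.Agent.Lib.Helper43.delta 𝒜 ℬ φ hdeg)
      (Groth.Agent.Lib.Helper43.delta_surjective 𝒜 ℬ φ hdeg)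
  · intro hA
    have hfA : Algebra.FiniteType (𝒜 0) A :=
      Groth.Agent.Lib.Helper43.finiteType_of_isNoetherianRing 𝒜
    have hfB : Algebra.FiniteType (ℬ 0) B :=
      Groth.Agent.Lib.Helper43.finiteType_B 𝒜 ℬ φ hdeg hφ hfA
    -- `ℬ 0` is isomorphic to `A`
    let ρ : ↥(ℬ 0) →+* A :=
      (Polynomial.constantCoeff.comp φ.toRingHom).comp (algebraMap (ℬ 0) B)
    have hρ : Function.Bijective ρ := by
      constructor
      · rw [injective_iff_map_eq_zero]
        intro b hb
        obtain ⟨a, _, hba⟩ := Groth.Agent.Lib.Helper43.exists_of_mem_B 𝒜 ℬ φ hdeg b.2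
        have h1 : ρ b = a := by
          change Polynomial.constantCoeff (φ (b : B)) = a
          rw [hba]
          simp
        rw [h1] at hb
        rw [hb, map_zero] at hba
        have : (b : B) = 0 := hφ (by rw [hba, map_zero])
        exact Subtype.ext this
      · intro a
        obtain ⟨b, hb, hbφ⟩ := Groth.Agent.Lib.Helper43.exists_of_mem_Age 𝒜 ℬ φ hdeg (n := 0)
          (a := a) (by rw [Groth.Agent.Lib.Helper43.Age_zero]; trivial)
        refine ⟨⟨b, hb⟩, ?_⟩
        change Polynomial.constantCoeff (φ b) = a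
        rw [hbφ]
        simp
    haveI : IsNoetherianRing ↥(ℬ 0) :=
      isNoetherianRing_of_ringEquiv A (RingEquiv.ofBijective ρ hρ).symm
    exact Algebra.FiniteType.isNoetherianRing (ℬ 0) B

end Groth.Agent.S8276
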