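import Groth.Statements.S8277
import Groth.Agent.Lib.Helper43.Natural

set_option autoImplicit false
universe u
open EGA2

namespace Groth.Agent.S8277

/-- For a positively graded ring S, the graded ring S♮ with S♮_n = S_{≥ n} = ⊕_{m ≥ n} S_m (presented
here as a graded ring S' with an injective algebra homomorphism φ : S' → S[X] carrying S'_n onto
S_{≥ n}·X^n for every n, so that S'_0 is identified with S), and n₀ ≥ 0: S♮_{n+1} = S♮_1 S♮_n for n
≥ n₀ if and only if S_{n+1} = S_1 S_n for n ≥ n₀. -/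
theorem result {R A B : Type u} [CommRing R] [CommRing A] [Algebra R A]
    (𝒜 : ℕ → Submodule R A) [GradedAlgebra 𝒜] [CommRing B] [Algebra R B] (ℬ : ℕ → Submodule R B) [GradedAlgebra ℬ]
    (φ : B →ₐ[R] Polynomial A) (hφ : Function.Injective φ)
    (hdeg : ∀ n : ℕ, Submodule.map φ.toLinearMap (ℬ n) =
      Submodule.map ((Polynomial.monomial n : A →ₗ[A] Polynomial A).restrictScalars R) (⨆ (m : ℕ) (_ : n ≤ m), 𝒜 m)) (n₀ : ℕ) :
    (∀ n : ℕ, n₀ ≤ n → ℬ (n + 1) = ℬ 1 * ℬ n) ↔ (∀ n : ℕ, n₀ ≤ n → 𝒜 (n + 1) = 𝒜 1 * 𝒜 n) := by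
  open Groth.Agent.Lib.Helper43 in
  have htr : ∀ n : ℕ, ℬ (n + 1) = ℬ 1 * ℬ n ↔ Age 𝒜 (n + 1) = Age 𝒜 1 * Age 𝒜 n := fun n =>
    transfer_mul 𝒜 ℬ φ hφ hdeg 1 n (n + 1) (by omega)
  simp only [htr]
  constructor
  · intro h n hn
    apply le_antisymm
    · have h1 : 𝒜 (n + 1) = (𝒜 (n + 1)).map (GradedAlgebra.proj 𝒜 (n + 1)) :=
        (map_proj_eq_of_le 𝒜 _ le_rfl).symm
      rw [h1]
      refine (Submodule.map_mono (le_Age 𝒜 le_rfl)).trans ?_
      rw [h n hn, Age_mul_eq]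
      simp only [Submodule.map_iSup]
      refine iSup₂_le fun j hj => iSup₂_le fun i hi => ?_
      by_cases hij : i + j = n + 1
      · have hi1 : i = 1 := by omega
        have hjn : j = n := by omega
        subst hi1 hjn
        rw [map_proj_eq_of_le 𝒜 _ (by rw [add_comm]; exact graded_mul_le 𝒜 1 j)]
      · rw [map_proj_le_of_ne 𝒜 hij _ (graded_mul_le 𝒜 i j)]
        exact bot_le
    · rw [add_comm]; exact graded_mul_le 𝒜 1 n
  · intro h n hn
    apply le_antisymm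
    · refine iSup₂_le fun m hm => ?_
      obtain ⟨k, rfl⟩ : ∃ k, m = k + 1 := ⟨m - 1, by omega⟩
      rw [h k (by omega)]
      exact mul_le_mul' (le_Age 𝒜 le_rfl) (le_Age 𝒜 (by omega))
    · rw [add_comm]; exact Age_mul_le 𝒜 1 n

end Groth.Agent.S8277
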