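import Groth.Statements.S8278
import Groth.Agent.Lib.Helper43.Natural

set_option autoImplicit false
universe u
open EGA2

namespace Groth.Agent.S8278

open Groth.Agent.Lib.Helper43 in
theorem Age_pow_le {R A : Type u} [CommRing R] [CommRing A] [Algebra R A]
    (𝒜 : ℕ → Submodule R A) [GradedAlgebra 𝒜] (a n : ℕ) : Age 𝒜 a ^ n ≤ Age 𝒜 (n * a) := by
  induction n with
  | zero =>
    rw [pow_zero, zero_mul, Submodule.one_le]
    exact le_Age 𝒜 le_rfl (SetLike.one_mem_graded 𝒜)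
  | succ n ih =>
    rw [pow_succ, show (n + 1) * a = n * a + a by ring]
    exact (mul_le_mul' ih le_rfl).trans (Age_mul_le 𝒜 _ _)

open Groth.Agent.Lib.Helper43 in
theorem Age_one_le {R A : Type u} [CommRing R] [CommRing A] [Algebra R A]
    (𝒜 : ℕ → Submodule R A) : Age 𝒜 1 ≤ 𝒜 1 ⊔ Age 𝒜 2 := by
  refine iSup₂_le fun m hm => ?_
  rcases Nat.eq_or_lt_of_le hm with h | h
  · rw [← h]; exact le_sup_left
  · exact (le_Age 𝒜 h).trans le_sup_right

open Groth.Agent.Lib.Helper43 in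
theorem Age_one_pow_le {R A : Type u} [CommRing R] [CommRing A] [Algebra R A]
    (𝒜 : ℕ → Submodule R A) [GradedAlgebra 𝒜] (n : ℕ) :
    Age 𝒜 1 ^ n ≤ 𝒜 1 ^ n ⊔ Age 𝒜 (n + 1) := by
  induction n with
  | zero => rw [pow_zero, pow_zero]; exact le_sup_left
  | succ n ih =>
    rw [pow_succ, pow_succ]
    refine (mul_le_mul' ih (Age_one_le 𝒜)).trans ?_
    rw [Submodule.sup_mul, Submodule.mul_sup, Submodule.mul_sup]
    have h1 : 𝒜 1 ^ n ≤ Age 𝒜 n := by
      have := graded_pow_le 𝒜 1 n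
      rw [mul_one] at this
      exact this.trans (le_Age 𝒜 le_rfl)
    refine sup_le (sup_le le_sup_left ?_) (sup_le ?_ ?_)
    · refine le_trans ?_ le_sup_right
      exact (mul_le_mul' h1 le_rfl).trans ((Age_mul_le 𝒜 n 2).trans (Age_anti 𝒜 (by omega)))
    · refine le_trans ?_ le_sup_right
      exact (mul_le_mul' le_rfl (le_Age 𝒜 le_rfl)).trans (Age_mul_le 𝒜 (n + 1) 1)
    · refine le_trans ?_ le_sup_right
      exact (Age_mul_le 𝒜 (n + 1) 2).trans (Age_anti 𝒜 (by omega))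

/-- For a positively graded ring S, the graded ring S♮ with S♮_n = S_{≥ n} = ⊕_{m ≥ n} S_m (presented
here as a graded ring S' with an injective algebra homomorphism φ : S' → S[X] carrying S'_n onto
S_{≥ n}·X^n for every n, so that S'_0 is identified with S), and n₀ ≥ 1: S♮_n = (S♮_1)^n for n ≥ n₀
if and only if S_n = (S_1)^n for n ≥ n₀. (n₀ ≥ 1 because the zeroth power of a submodule is the span
of 1, not the degree-zero part.) -/
theorem result {R A B : Type u} [CommRing R] [CommRing A] [Algebra R A]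
    (𝒜 : ℕ → Submodule R A) [GradedAlgebra 𝒜] [CommRing B] [Algebra R B] (ℬ : ℕ → Submodule R B) [GradedAlgebra ℬ]
    (φ : B →ₐ[R] Polynomial A) (hφ : Function.Injective φ)
    (hdeg : ∀ n : ℕ, Submodule.map φ.toLinearMap (ℬ n) =
      Submodule.map ((Polynomial.monomial n : A →ₗ[A] Polynomial A).restrictScalars R) (⨆ (m : ℕ) (_ : n ≤ m), 𝒜 m)) (n₀ : ℕ) (hn₀ : 1 ≤ n₀) :
    (∀ n : ℕ, n₀ ≤ n → ℬ n = ℬ 1 ^ n) ↔ (∀ n : ℕ, n₀ ≤ n → 𝒜 n = 𝒜 1 ^ n) := by
  open Groth.Agent.Lib.Helper43 in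
  have htr : ∀ n : ℕ, ℬ n = ℬ 1 ^ n ↔ Age 𝒜 n = Age 𝒜 1 ^ n := fun n =>
    transfer_pow 𝒜 ℬ φ hφ hdeg n
  simp only [htr]
  constructor
  · intro h n hn
    apply le_antisymm
    · have h1 : 𝒜 n = (𝒜 n).map (GradedAlgebra.proj 𝒜 n) :=
        (map_proj_eq_of_le 𝒜 _ le_rfl).symm
      rw [h1]
      refine (Submodule.map_mono (le_Age 𝒜 le_rfl)).trans ?_
      rw [h n hn]
      refine (Submodule.map_mono (Age_one_pow_le 𝒜 n)).trans ?_
      rw [Submodule.map_sup]
      have h2 : 𝒜 1 ^ n ≤ 𝒜 n := by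
        have := graded_pow_le 𝒜 1 n
        rwa [mul_one] at this
      refine sup_le ?_ ?_
      · rw [map_proj_eq_of_le 𝒜 _ h2]
      · simp only [Submodule.map_iSup]
        refine iSup₂_le fun m hm => ?_
        rw [map_proj_le_of_ne 𝒜 (by omega) _ le_rfl]
        exact bot_le
    · have := graded_pow_le 𝒜 1 n
      rwa [mul_one] at this
  · intro h n hn
    apply le_antisymm
    · refine iSup₂_le fun m hm => ?_
      rw [h m (by omega)]
      obtain ⟨k, rfl⟩ : ∃ k, n = k + 1 := ⟨n - 1, by omega⟩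
      obtain ⟨l, rfl⟩ : ∃ l, m = k + (l + 1) := ⟨m - k - 1, by omega⟩
      rw [pow_add, pow_succ (Age 𝒜 1)]
      refine mul_le_mul' (pow_le_pow_left' (le_Age 𝒜 le_rfl) k) ?_
      have := graded_pow_le 𝒜 1 (l + 1)
      rw [mul_one] at this
      exact this.trans (le_Age 𝒜 (by omega))
    · have := Age_pow_le 𝒜 1 n
      rwa [mul_one] at this

end Groth.Agent.S8278
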