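import Groth.Statements.S8282
import Groth.Agent.Lib.Helper81.GradedGen

set_option autoImplicit false
universe u
open CategoryTheory CategoryTheory.Limits AlgebraicGeometry
open EGA2

namespace Groth.Agent.S8282

open HomogeneousLocalization TopologicalSpace
open Groth.Agent.Lib.Helper81.GradedGen

section Aux

variable {R A B : Type u} [CommRing R] [CommRing A] [Algebra R A]
    (𝒜 : ℕ → Submodule R A) [GradedAlgebra 𝒜] [CommRing B] [Algebra R B]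
    (ℬ : ℕ → Submodule R B) [GradedAlgebra ℬ] (φ : 𝒜 →+*ᵍ ℬ)

theorem phi_pow_mem_T' (k : ℕ) (x : A) (hx : x ∈ 𝒜 1 ^ k) : φ x ∈ T' ℬ k := by
  induction k generalizing x with
  | zero =>
    rw [pow_zero] at hx
    have h0 : x ∈ 𝒜 0 := by
      have : (1 : Submodule R A) ≤ 𝒜 0 := by
        rw [Submodule.one_le]; exact SetLike.GradedOne.one_mem
      exact this hx
    rw [T'_zero]
    exact φ.2 h0
  | succ k ih =>
    rw [pow_succ] at hx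
    refine Submodule.mul_induction_on hx ?_ ?_
    · intro u hu v hv
      rw [map_mul]
      have h1 : φ v ∈ T' ℬ 1 := by
        rw [T'_pos ℬ 1 le_rfl, pow_one]; exact φ.2 hv
      exact T'_mul_le ℬ k 1 (Submodule.mul_mem_mul (ih u hu) h1)
    · intro u v hu hv
      rw [map_add]
      exact Submodule.add_mem _ hu hv

theorem phi_mem_T' (hgen : ∀ n : ℕ, 1 ≤ n → 𝒜 n = 𝒜 1 ^ n) (k : ℕ) (x : A) (hx : x ∈ 𝒜 k) :
    φ x ∈ T' ℬ k := by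
  rcases Nat.eq_zero_or_pos k with rfl | hk
  · rw [T'_zero]; exact φ.2 hx
  · rw [hgen k hk] at hx
    exact phi_pow_mem_T' 𝒜 ℬ φ k x hx

omit [GradedAlgebra ℬ] in
theorem pow_le_span (k : ℕ) (hk : 1 ≤ k) (y : B) (hy : y ∈ ℬ 1 ^ k) :
    y ∈ Ideal.span (ℬ 1 : Set B) := by
  obtain ⟨m, rfl⟩ : ∃ m, k = m + 1 := ⟨k - 1, by omega⟩
  rw [pow_succ] at hy
  refine Submodule.mul_induction_on hy ?_ ?_
  · intro u _ v hv
    exact Ideal.mul_mem_left _ _ (Ideal.subset_span hv)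
  · intro u v hu hv
    exact Ideal.add_mem _ hu hv

theorem hrad_of_dom (hgen : ∀ n : ℕ, 1 ≤ n → 𝒜 n = 𝒜 1 ^ n) (hdom : PCone.dom φ = ⊤) :
    ∀ d, 0 < d → ∀ g ∈ ℬ d, g ∈ (Ideal.span (ℬ 1 : Set B)).radical := by
  intro d hd g hg
  have hI : (Ideal.span (ℬ 1 : Set B)).IsHomogeneous ℬ :=
    Ideal.homogeneous_span ℬ _ (fun x hx => ⟨1, hx⟩)
  rw [hI.radical_eq, Ideal.mem_sInf]
  rintro 𝔮 ⟨hq_hom, hq_le, hq_prime⟩
  by_cases hirr : HomogeneousIdeal.irrelevant ℬ ≤ ⟨𝔮, hq_hom⟩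
  · apply hirr
    rw [HomogeneousIdeal.mem_irrelevant_iff, GradedRing.proj_apply,
      DirectSum.decompose_of_mem_ne ℬ hg (by omega)]
  · exfalso
    let x : Proj ℬ := (⟨⟨𝔮, hq_hom⟩, hq_prime, hirr⟩ : ProjectiveSpectrum ℬ)
    have hx : x ∈ PCone.dom φ := by rw [hdom]; trivial
    obtain ⟨⟨f, e, he, hf⟩, hxf⟩ := Opens.mem_iSup.mp hx
    rw [Proj.mem_basicOpen] at hxf
    apply hxf
    have h1 := phi_mem_T' 𝒜 ℬ φ hgen e f hf
    rw [T'_pos ℬ e he] at h1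
    exact hq_le (pow_le_span ℬ e he _ h1)

theorem hloc_of_surj (hgen : ∀ n : ℕ, 1 ≤ n → 𝒜 n = 𝒜 1 ^ n) (f : A) (hf : f ∈ 𝒜 1)
    (hsurj : Function.Surjective (Away.map φ f)) (d : ℕ) (g : B) (hg : g ∈ ℬ d) :
    ∃ N, (φ f) ^ N * g ∈ ℬ 1 ^ (N + d) := by
  have hg' : g ∈ ℬ (d • 1) := by simpa using hg
  obtain ⟨a, ha⟩ := hsurj (Away.mk ℬ (φ.2 hf) d g hg')
  obtain ⟨k, a₀, ha₀, rfl⟩ := Away.mk_surjective 𝒜 hf a
  rw [Away.map_mk] at ha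
  have hv := congrArg HomogeneousLocalization.val ha
  rw [Away.val_mk, Away.val_mk, Localization.mk_eq_mk_iff, Localization.r_iff_exists] at hv
  obtain ⟨⟨c, N, rfl⟩, hc⟩ := hv
  simp only at hc
  refine ⟨N + 1 + k, ?_⟩
  have heq : φ f ^ (N + 1 + k) * g = φ f ^ (N + 1 + d) * φ a₀ := by
    have : φ f ^ (N + 1 + k) * g = φ f * (φ f ^ N * (φ f ^ k * g)) := by ring
    rw [this, ← hc]; ring
  rw [heq]
  have h1 : φ f ^ (N + 1 + d) ∈ T' ℬ (N + 1 + d) := by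
    rw [T'_pos ℬ _ (by omega)]
    exact Submodule.pow_mem_pow _ (φ.2 hf) _
  have ha₀' : a₀ ∈ 𝒜 k := by simpa using ha₀
  have h2 : φ a₀ ∈ T' ℬ k := phi_mem_T' 𝒜 ℬ φ hgen k a₀ ha₀'
  have h3 := T'_mul_le ℬ _ _ (Submodule.mul_mem_mul h1 h2)
  rw [T'_pos ℬ _ (by omega)] at h3
  have : N + 1 + d + k = N + 1 + k + d := by omega
  rwa [this] at h3


variable {𝒜 ℬ φ}

omit [GradedAlgebra 𝒜] in
theorem chart_ι {d : ℕ} {f : A} (hf : f ∈ 𝒜 d) (hd : 0 < d) :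
    PCone.chart φ hf hd ≫ (PCone.dom φ).ι = Proj.awayι ℬ (φ f) (φ.2 hf) hd :=
  IsOpenImmersion.lift_fac _ _ _

instance chart_isOpenImmersion {d : ℕ} {f : A} (hf : f ∈ 𝒜 d) (hd : 0 < d) :
    IsOpenImmersion (PCone.chart φ hf hd) := by
  have : IsOpenImmersion (PCone.chart φ hf hd ≫ (PCone.dom φ).ι) := by
    rw [chart_ι]; infer_instance
  exact IsOpenImmersion.of_comp _ (PCone.dom φ).ι

theorem map_isLocalizationElem {d e : ℕ} {f g : A} (hg : g ∈ 𝒜 e) (hf : f ∈ 𝒜 d) :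
    Away.map φ g (Away.isLocalizationElem hg hf) =
      Away.isLocalizationElem (GradedFunLike.map_mem φ hg) (GradedFunLike.map_mem φ hf) := by
  rw [Away.isLocalizationElem, Away.map_mk]
  simp only [map_pow]

theorem mem_basicOpen_of_p (p : (PCone.dom φ : Scheme.{u}) ⟶ Proj 𝒜)
    (hp : ∀ (d : ℕ) (f : A) (hd : 0 < d) (hf : f ∈ 𝒜 d),
      PCone.chart φ hf hd ≫ p =
        Spec.map (CommRingCat.ofHom (HomogeneousLocalization.Away.map φ f)) ≫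
          Proj.awayι 𝒜 f hf hd)
    {d : ℕ} {f : A} (hf : f ∈ 𝒜 d) (hd : 0 < d) (y : (PCone.dom φ : Scheme.{u}))
    (hy : p.base y ∈ Proj.basicOpen 𝒜 f) :
    (PCone.dom φ).ι.base y ∈ Proj.basicOpen ℬ (φ f) := by
  have hy1 : (PCone.dom φ).ι.base y ∈ PCone.dom φ := y.2
  obtain ⟨⟨g, e, he, hg⟩, hyg⟩ := Opens.mem_iSup.mp hy1
  rw [← Proj.opensRange_awayι ℬ (φ g) (φ.2 hg) he] at hyg
  obtain ⟨y', hy'⟩ := hyg
  have hy'' : (PCone.chart φ hg he).base y' = y := by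
    apply (PCone.dom φ).ι.isOpenEmbedding.injective
    rw [← Scheme.Hom.comp_apply, chart_ι]
    exact hy'
  have h1 : (PCone.chart φ hg he ≫ p) ⁻¹ᵁ Proj.basicOpen 𝒜 f =
      Proj.awayι ℬ (φ g) (φ.2 hg) he ⁻¹ᵁ Proj.basicOpen ℬ (φ f) := by
    rw [hp e g he hg, Scheme.Hom.comp_preimage,
      Proj.awayι_preimage_basicOpen 𝒜 hg he hf hd,
      Proj.awayι_preimage_basicOpen ℬ (GradedFunLike.map_mem φ hg) he (GradedFunLike.map_mem φ hf) hd,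
      ← map_isLocalizationElem hg hf]
    rfl
  have h2 : y' ∈ (PCone.chart φ hg he ≫ p) ⁻¹ᵁ Proj.basicOpen 𝒜 f := by
    show (PCone.chart φ hg he ≫ p).base y' ∈ Proj.basicOpen 𝒜 f
    rw [Scheme.Hom.comp_apply, hy'']
    exact hy
  rw [h1] at h2
  have h3 : (Proj.awayι ℬ (φ g) (φ.2 hg) he).base y' ∈ Proj.basicOpen ℬ (φ f) := h2
  rwa [hy'] at h3


theorem bijective_awayMap (p : (PCone.dom φ : Scheme.{u}) ⟶ Proj 𝒜)
    (hp : ∀ (d : ℕ) (f : A) (hd : 0 < d) (hf : f ∈ 𝒜 d),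
      PCone.chart φ hf hd ≫ p =
        Spec.map (CommRingCat.ofHom (HomogeneousLocalization.Away.map φ f)) ≫
          Proj.awayι 𝒜 f hf hd)
    [IsIso p] {d : ℕ} {f : A} (hf : f ∈ 𝒜 d) (hd : 0 < d) :
    Function.Bijective (Away.map φ f) := by
  obtain ⟨ψ, hψdef⟩ : ∃ ψ, ψ = Spec.map (CommRingCat.ofHom (Away.map φ f)) := ⟨_, rfl⟩
  have e1 : PCone.chart φ hf hd ≫ p = ψ ≫ Proj.awayι 𝒜 f hf hd := by
    rw [hψdef]; exact hp d f hd hf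
  have h1 : IsOpenImmersion (ψ ≫ Proj.awayι 𝒜 f hf hd) := by
    rw [← e1]; infer_instance
  have hψ : IsOpenImmersion ψ := IsOpenImmersion.of_comp ψ (Proj.awayι 𝒜 f hf hd)
  have hsurj : Function.Surjective ψ.base := by
    intro z
    obtain ⟨y, hy⟩ : ∃ y, p.base y = (Proj.awayι 𝒜 f hf hd).base z := by
      refine ⟨(inv p).base ((Proj.awayι 𝒜 f hf hd).base z), ?_⟩
      rw [← Scheme.Hom.comp_apply, IsIso.inv_hom_id]
      rfl
    have hyf : p.base y ∈ Proj.basicOpen 𝒜 f := by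
      rw [hy, ← Proj.opensRange_awayι 𝒜 f hf hd]
      exact ⟨z, rfl⟩
    have h2 := mem_basicOpen_of_p p hp hf hd y hyf
    rw [← Proj.opensRange_awayι ℬ (φ f) (φ.2 hf) hd] at h2
    obtain ⟨y'', hy''⟩ := h2
    have hc : (PCone.chart φ hf hd).base y'' = y := by
      apply (PCone.dom φ).ι.isOpenEmbedding.injective
      rw [← Scheme.Hom.comp_apply, chart_ι]
      exact hy''
    refine ⟨y'', ?_⟩
    apply (Proj.awayι 𝒜 f hf hd).isOpenEmbedding.injective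
    rw [← Scheme.Hom.comp_apply, ← e1, Scheme.Hom.comp_apply, hc, hy]
  have hiso : IsIso ψ := by
    have : Epi ψ.base := (TopCat.epi_iff_surjective _).2 hsurj
    exact (isIso_iff_isOpenImmersion_and_epi_base ψ).2 ⟨hψ, this⟩
  rw [hψdef] at hiso
  exact isIso_SpecMap_iff.mp hiso

end Aux


theorem result {R A B : Type u} [CommRing R] [CommRing A] [Algebra R A]
    (𝒜 : ℕ → Submodule R A) [GradedAlgebra 𝒜] [CommRing B] [Algebra R B] (ℬ : ℕ → Submodule R B) [GradedAlgebra ℬ]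
    [Algebra.FiniteType (ℬ 0) B] (φ : 𝒜 →+*ᵍ ℬ) (hφ : Function.Injective φ)
    (h0 : Set.BijOn φ (𝒜 0) (ℬ 0)) (h1 : Set.BijOn φ (𝒜 1) (ℬ 1))
    (hgen : ∀ n : ℕ, 1 ≤ n → 𝒜 n = 𝒜 1 ^ n)
    (hdom : PCone.dom φ = ⊤)
    (p : (PCone.dom φ : Scheme.{u}) ⟶ Proj 𝒜)
    (hp : ∀ (d : ℕ) (f : A) (hd : 0 < d) (hf : f ∈ 𝒜 d),
      PCone.chart φ hf hd ≫ p =
        Spec.map (CommRingCat.ofHom (HomogeneousLocalization.Away.map φ f)) ≫ Proj.awayι 𝒜 f hf hd)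
    [IsIso p] :
    ∃ n₀ : ℕ, ∀ n : ℕ, n₀ ≤ n → ℬ n = ℬ 1 ^ n := by
  refine eventually_eq_pow ℬ (hrad_of_dom 𝒜 ℬ φ hgen hdom) ?_
  intro f' hf' d g hg
  obtain ⟨f, hf, rfl⟩ := h1.surjOn hf'
  exact hloc_of_surj 𝒜 ℬ φ hgen f hf (bijective_awayMap p hp hf one_pos).2 d g hg

end Groth.Agent.S8282
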