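import Groth.Statements.S8297
import Groth.Agent.Lib.Helper74.RelConeProj

set_option autoImplicit false
universe u
open CategoryTheory CategoryTheory.Limits AlgebraicGeometry Opposite TopologicalSpace
open scoped HomogeneousIdeal
noncomputable section
open EGA2

namespace Groth.Agent.S8297

/-- The relation i(C) = Ĉ − j(X): let 𝒮 be a quasi-coherent positively graded O_Y-algebra with 𝒮_0 =
O_Y, Ŝ = 𝒮[z] (given through a graded homomorphism ι : 𝒮 → Ŝ and a global section z of degree one,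
the map 𝒮(U)[X] → Ŝ(U), X ↦ z, being bijective over every affine open U), C = Spec(𝒮) the affine
cone, Ĉ = Proj(Ŝ) the projective cone and X = Proj(𝒮), each relative homogeneous spectrum given with
its charts; let i : C → Ĉ be the canonical open immersion (chartwise Spec of Ŝ(U)_(z) → 𝒮(U), z ↦ 1,
followed by the inclusion of D_+(z)), θ : Ŝ → 𝒮 the graded retraction of ι sending z to 0, and j : X
→ Ĉ the morphism chartwise induced by θ (the immersion of the locus at infinity). Then the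
underlying set of the image of i is the complement of the image of j. -/
theorem result {Y PC P : Scheme.{u}} (𝒮 𝒮h : RelProj.QCGrAlg Y) (h0 : RelCone.StrZeroBij 𝒮)
    (ι : 𝒮.toQCAlg ⟶ 𝒮h.toQCAlg) (z : 𝒮h.presheaf.obj (op ⊤)) (hz : RelCone.IsPolyOver 𝒮 𝒮h ι z)
    (pC : PC ⟶ Y)
    (chartC : ∀ (U : Y.Opens) (hU : IsAffineOpen U), (((pC ⁻¹ᵁ U : PC.Opens) : Scheme.{u}) ≅ Proj (𝒮h.deg U hU)))
    (hPC : RelProj.IsRelProj 𝒮h pC chartC)
    (i : 𝒮.toQCAlg.spec ⟶ PC) (hi : RelCone.IsConeImm 𝒮 hz pC chartC i)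
    (θ : 𝒮h.toQCAlg ⟶ 𝒮.toQCAlg) (hθ : RelProj.IsGradedHom θ) (hιθ : ι ≫ θ = 𝟙 _)
    (hθz : (θ.hom.app (op ⊤)).hom z = 0)
    (hirr : ∀ (U : Y.Opens) (hU : IsAffineOpen U),
      (𝒮.deg U hU)₊ ≤ ((𝒮h.deg U hU)₊).map (RelProj.gradedHomAt θ hθ U hU))
    (p : P ⟶ Y)
    (chart : ∀ (U : Y.Opens) (hU : IsAffineOpen U), (((p ⁻¹ᵁ U : P.Opens) : Scheme.{u}) ≅ Proj (𝒮.deg U hU)))
    (hP : RelProj.IsRelProj 𝒮 p chart) (j : P ⟶ PC) (hj : RelProj.IsRelProjMap θ hθ hirr chartC chart j) :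
    Set.range i.base = (Set.range j.base)ᶜ := by
  ext x
  obtain ⟨U, hxU⟩ := TopologicalSpace.Opens.mem_iSup.mp
    ((iSup_affineOpens_eq_top Y).ge (Set.mem_univ (pC x)))
  have hx : x ∈ pC ⁻¹ᵁ U.1 := hxU
  obtain ⟨x', rfl⟩ := Groth.Agent.Lib.Helper74.RelConeProj.exists_emb_eq (chartC := chartC)
    U.1 U.2 x hx
  rw [Set.mem_compl_iff,
    Groth.Agent.Lib.Helper74.RelConeProj.emb_mem_range_coneImm_iff hz hPC hi U.1 U.2 x',
    Groth.Agent.Lib.Helper74.RelConeProj.emb_mem_range_relProjMap_iff θ hθ hirr hPC hP j hj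
      U.1 U.2 x']
  have hψφ : ∀ a, RelProj.gradedHomAt θ hθ U.1 U.2
      (Groth.Agent.Lib.Helper74.RelConeProj.ιAt hz U.1 U.2 a) = a := by
    intro a
    have := congrArg (fun ψ => (ψ.hom.app (op U.1)).hom a) hιθ
    exact this
  have hψz : RelProj.gradedHomAt θ hθ U.1 U.2
      (Groth.Agent.Lib.Helper74.RelConeProj.zAt hz U.1) = 0 := by
    have h1 := congrArg (fun ψ => ψ.hom z) (θ.hom.naturality (homOfLE (le_top : U.1 ≤ ⊤)).op)
    have h2 : (θ.hom.app (op U.1)).hom ((𝒮h.presheaf.map (homOfLE (le_top : U.1 ≤ ⊤)).op).hom z) =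
        (𝒮.presheaf.map (homOfLE (le_top : U.1 ≤ ⊤)).op).hom ((θ.hom.app (op ⊤)).hom z) := h1
    change (θ.hom.app (op U.1)).hom ((𝒮h.presheaf.map (homOfLE (le_top : U.1 ≤ ⊤)).op).hom z) = 0
    rw [h2, hθz, map_zero]
  rw [Groth.Agent.Lib.Helper74.ConeAlg.range_projMap_eq
    (Groth.Agent.Lib.Helper74.RelConeProj.ιAt hz U.1 U.2) (hz.deg_z U.1 U.2)
    (RelProj.gradedHomAt θ hθ U.1 U.2) hψφ hψz
    (Groth.Agent.Lib.Helper74.ConeAlg.sub_map_mem_span _
      (Groth.Agent.Lib.Helper74.RelConeProj.surj hz U.1 U.2)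
      (RelProj.gradedHomAt θ hθ U.1 U.2).toRingHom hψφ hψz) (hirr U.1 U.2)]
  rw [Set.mem_compl_iff, not_not]
  rfl

end Groth.Agent.S8297
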