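import Groth.Statements.S8299
import Groth.Agent.Lib.Helper74.RelConeLib

set_option autoImplicit false
universe u
open CategoryTheory CategoryTheory.Limits AlgebraicGeometry Opposite TopologicalSpace
open scoped HomogeneousIdeal
noncomputable section
open EGA2

namespace Groth.Agent.S8299

/-- Let q : Y' → Y be a morphism of schemes, 𝒮 and 𝒮' quasi-coherent positively graded algebras over O_Y
and O_{Y'} with 𝒮_0 = O_Y and 𝒮'_0 = O_{Y'}, and φ : 𝒮 → q_*𝒮' a graded q-morphism (a map of sheaves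
of rings compatible with the structure maps through q^♯, whose components 𝒮(U) → 𝒮'(U') for affine
opens U' ⊆ q⁻¹(U) preserve degrees, recorded as graded ring homomorphisms); let C = Spec(𝒮), C' =
Spec(𝒮') be the affine cones and Φ : C' → C the morphism Spec(φ), i.e. the morphism which on the
charts over affine opens U' ⊆ q⁻¹(U) is Spec of 𝒮(U) → 𝒮'(U'); let E ⊆ C and E' ⊆ C' be the pointed
affine cones (defined chart by chart as the complements of V(𝒮(U)_+), resp. V(𝒮'(U')_+)). Then the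
inverse image of E under Φ is contained in E'. -/
theorem result {Y Y' : Scheme.{u}} (q : Y' ⟶ Y) (𝒮 : RelProj.QCGrAlg Y) (𝒮' : RelProj.QCGrAlg Y')
    (h0 : RelCone.StrZeroBij 𝒮) (h0' : RelCone.StrZeroBij 𝒮')
    (u : 𝒮.presheaf ⟶ q.base _* 𝒮'.presheaf)
    (hu : 𝒮.str ≫ u = q.c ≫ (TopCat.Presheaf.pushforward CommRingCat.{u} q.base).map 𝒮'.str)
    (φ : ∀ (U : Y.Opens) (hU : IsAffineOpen U) (U' : Y'.Opens) (hU' : IsAffineOpen U') (_ : U' ≤ q ⁻¹ᵁ U),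
      𝒮.deg U hU →+*ᵍ 𝒮'.deg U' hU')
    (hφ : ∀ (U : Y.Opens) (hU : IsAffineOpen U) (U' : Y'.Opens) (hU' : IsAffineOpen U') (hle : U' ≤ q ⁻¹ᵁ U),
      (φ U hU U' hU' hle).toRingHom =
        ((u.app (op U) : 𝒮.presheaf.obj (op U) ⟶ 𝒮'.presheaf.obj (op (q ⁻¹ᵁ U))) ≫
          𝒮'.presheaf.map (homOfLE hle).op).hom)
    (Φ : 𝒮'.toQCAlg.spec ⟶ 𝒮.toQCAlg.spec)
    (hΦ : ∀ (U : Y.Opens) (hU : IsAffineOpen U) (U' : Y'.Opens) (hU' : IsAffineOpen U') (hle : U' ≤ q ⁻¹ᵁ U),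
      𝒮'.toQCAlg.ι U' hU' ≫ Φ =
        Spec.map ((u.app (op U) : 𝒮.presheaf.obj (op U) ⟶ 𝒮'.presheaf.obj (op (q ⁻¹ᵁ U))) ≫
          𝒮'.presheaf.map (homOfLE hle).op) ≫ 𝒮.toQCAlg.ι U hU) :
    Φ ⁻¹ᵁ RelCone.pointedCone 𝒮 ≤ RelCone.pointedCone 𝒮' := by
  intro x' hx'
  obtain ⟨U, hU, hxU, -⟩ := Groth.Agent.Lib.Helper74.ChartOpens.exists_affine_le
    (y := q (𝒮'.toQCAlg.π x')) (O := ⊤) trivial
  obtain ⟨U', hU', hxU', hle⟩ := Groth.Agent.Lib.Helper74.ChartOpens.exists_affine_le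
    (y := 𝒮'.toQCAlg.π x') (O := q ⁻¹ᵁ U) hxU
  have hmem : x' ∈ 𝒮'.toQCAlg.π ⁻¹ᵁ U' := hxU'
  rw [𝒮'.toQCAlg.π_preimage U' hU'] at hmem
  obtain ⟨y', rfl⟩ := hmem
  have hΦy := congrArg (fun g => g.base y') (hΦ U hU U' hU' hle)
  simp only [Scheme.Hom.comp_base, TopCat.comp_app] at hΦy
  change Φ (𝒮'.toQCAlg.ι U' hU' y') ∈ RelCone.pointedCone 𝒮 at hx'
  rw [hΦy, Groth.Agent.Lib.Helper74.RelConeLib.ι_mem_pointedCone_iff,
    Groth.Agent.Lib.Helper74.RelConeLib.mem_vertexCompl_iff] at hx'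
  obtain ⟨f, hf, hfy⟩ := hx'
  change 𝒮'.toQCAlg.ι U' hU' y' ∈ RelCone.pointedCone 𝒮'
  rw [Groth.Agent.Lib.Helper74.RelConeLib.ι_mem_pointedCone_iff,
    Groth.Agent.Lib.Helper74.RelConeLib.mem_vertexCompl_iff]
  refine ⟨φ U hU U' hU' hle f,
    Groth.Agent.Lib.Helper5.map_mem_irrelevant (φ U hU U' hU' hle) hf, ?_⟩
  intro hmem
  apply hfy
  have e : (φ U hU U' hU' hle) f = ((u.app (op U) : 𝒮.presheaf.obj (op U) ⟶
      𝒮'.presheaf.obj (op (q ⁻¹ᵁ U))) ≫ 𝒮'.presheaf.map (homOfLE hle).op).hom f :=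
    congrArg (fun g : 𝒮.presheaf.obj (op U) →+* 𝒮'.presheaf.obj (op U') => g f) (hφ U hU U' hU' hle)
  rw [e] at hmem
  exact hmem

end Groth.Agent.S8299
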