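import Groth.Statements.S8300
import Groth.Agent.Lib.Helper74.RelConeLib2
import Groth.Agent.S8299

set_option autoImplicit false
universe u
open CategoryTheory CategoryTheory.Limits AlgebraicGeometry Opposite TopologicalSpace
open scoped HomogeneousIdeal
noncomputable section
open EGA2

namespace Groth.Agent.S8300

/-- Let q : Y' → Y be a morphism of schemes, 𝒮 and 𝒮' quasi-coherent positively graded algebras over O_Y
and O_{Y'} with 𝒮_0 = O_Y and 𝒮'_0 = O_{Y'}, and φ : 𝒮 → q_*𝒮' a graded q-morphism (a map of sheaves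
of rings compatible with the structure maps through q^♯, whose components 𝒮(U) → 𝒮'(U') for affine
opens U' ⊆ q⁻¹(U) preserve degrees, recorded as graded ring homomorphisms); let C = Spec(𝒮), C' =
Spec(𝒮') be the affine cones and Φ : C' → C the morphism Spec(φ), i.e. the morphism which on the
charts over affine opens U' ⊆ q⁻¹(U) is Spec of 𝒮(U) → 𝒮'(U'); let E ⊆ C and E' ⊆ C' be the pointed
affine cones (defined chart by chart as the complements of V(𝒮(U)_+), resp. V(𝒮'(U')_+)). Then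
Proj(φ) is everywhere defined, which here means that for all affine opens U' ⊆ q⁻¹(U) the open of
Proj 𝒮'(U') where the morphism induced by 𝒮(U) → 𝒮'(U') is defined (the complement of V_+ of the
ideal generated by the image of the irrelevant ideal of 𝒮(U)) is the whole of Proj 𝒮'(U'), if and
only if the inverse image of E under Φ equals E'. -/
theorem result {Y Y' : Scheme.{u}} (q : Y' ⟶ Y) (𝒮 : RelProj.QCGrAlg Y) (𝒮' : RelProj.QCGrAlg Y')
    (h0 : RelCone.StrZeroBij 𝒮) (h0' : RelCone.StrZeroBij 𝒮')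
    (u : 𝒮.presheaf ⟶ q.base _* 𝒮'.presheaf)
    (hu : 𝒮.str ≫ u = q.c ≫ (TopCat.Presheaf.pushforward CommRingCat.{u} q.base).map 𝒮'.str)
    (φ : ∀ (U : Y.Opens) (hU : IsAffineOpen U) (U' : Y'.Opens) (hU' : IsAffineOpen U') (_ : U' ≤ q ⁻¹ᵁ U),
      𝒮.deg U hU →+*ᵍ 𝒮'.deg U' hU')
    (hφ : ∀ (U : Y.Opens) (hU : IsAffineOpen U) (U' : Y'.Opens) (hU' : IsAffineOpen U') (hle : U' ≤ q ⁻¹ᵁ U),
      (φ U hU U' hU' hle).toRingHom =
        ((u.app (op U) : 𝒮.presheaf.obj (op U) ⟶ 𝒮'.presheaf.obj (op (q ⁻¹ᵁ U))) ≫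
          𝒮'.presheaf.map (homOfLE hle).op).hom)
    (Φ : 𝒮'.toQCAlg.spec ⟶ 𝒮.toQCAlg.spec)
    (hΦ : ∀ (U : Y.Opens) (hU : IsAffineOpen U) (U' : Y'.Opens) (hU' : IsAffineOpen U') (hle : U' ≤ q ⁻¹ᵁ U),
      𝒮'.toQCAlg.ι U' hU' ≫ Φ =
        Spec.map ((u.app (op U) : 𝒮.presheaf.obj (op U) ⟶ 𝒮'.presheaf.obj (op (q ⁻¹ᵁ U))) ≫
          𝒮'.presheaf.map (homOfLE hle).op) ≫ 𝒮.toQCAlg.ι U hU) :
    (∀ (U : Y.Opens) (hU : IsAffineOpen U) (U' : Y'.Opens) (hU' : IsAffineOpen U') (hle : U' ≤ q ⁻¹ᵁ U),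
        RelCone.domOpen (φ U hU U' hU' hle) = ⊤) ↔
      Φ ⁻¹ᵁ RelCone.pointedCone 𝒮 = RelCone.pointedCone 𝒮' := by
  have hφapp : ∀ (U : Y.Opens) (hU : IsAffineOpen U) (U' : Y'.Opens) (hU' : IsAffineOpen U')
      (hle : U' ≤ q ⁻¹ᵁ U) (f : 𝒮.presheaf.obj (op U)),
      (φ U hU U' hU' hle) f = ((u.app (op U) : 𝒮.presheaf.obj (op U) ⟶
        𝒮'.presheaf.obj (op (q ⁻¹ᵁ U))) ≫ 𝒮'.presheaf.map (homOfLE hle).op).hom f :=
    fun U hU U' hU' hle f =>
      congrArg (fun g : 𝒮.presheaf.obj (op U) →+* 𝒮'.presheaf.obj (op U') => g f)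
        (hφ U hU U' hU' hle)
  have hΦpt : ∀ (U : Y.Opens) (hU : IsAffineOpen U) (U' : Y'.Opens) (hU' : IsAffineOpen U')
      (hle : U' ≤ q ⁻¹ᵁ U) (y' : Spec (𝒮'.presheaf.obj (op U'))),
      Φ (𝒮'.toQCAlg.ι U' hU' y') = 𝒮.toQCAlg.ι U hU
        (Spec.map ((u.app (op U) : 𝒮.presheaf.obj (op U) ⟶ 𝒮'.presheaf.obj (op (q ⁻¹ᵁ U))) ≫
          𝒮'.presheaf.map (homOfLE hle).op) y') := by
    intro U hU U' hU' hle y'
    have := congrArg (fun g => g.base y') (hΦ U hU U' hU' hle)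
    simpa only [Scheme.Hom.comp_base, TopCat.comp_app] using this
  constructor
  · intro hdom
    apply le_antisymm
    · exact Groth.Agent.S8299.result q 𝒮 𝒮' h0 h0' u hu φ hφ Φ hΦ
    · intro x' hx'
      obtain ⟨U, hU, hxU, -⟩ := Groth.Agent.Lib.Helper74.ChartOpens.exists_affine_le
        (y := q (𝒮'.toQCAlg.π x')) (O := ⊤) trivial
      obtain ⟨U', hU', hxU', hle⟩ := Groth.Agent.Lib.Helper74.ChartOpens.exists_affine_le
        (y := 𝒮'.toQCAlg.π x') (O := q ⁻¹ᵁ U) hxU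
      have hmem : x' ∈ 𝒮'.toQCAlg.π ⁻¹ᵁ U' := hxU'
      rw [𝒮'.toQCAlg.π_preimage U' hU'] at hmem
      obtain ⟨y', rfl⟩ := hmem
      have hx'' : 𝒮'.toQCAlg.ι U' hU' y' ∈ RelCone.pointedCone 𝒮' := hx'
      rw [Groth.Agent.Lib.Helper74.RelConeLib.ι_mem_pointedCone_iff,
        Groth.Agent.Lib.Helper74.RelConeLib.mem_vertexCompl_iff] at hx''
      obtain ⟨g, hg, hgy⟩ := hx''
      have hnot : ¬ (((𝒮'.deg U' hU')₊).toIdeal ≤ y'.asIdeal) := fun hle' => hgy (hle' hg)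
      obtain ⟨f, hf, hfy⟩ := Groth.Agent.Lib.Helper74.RelConeLib.exists_irrelevant_map_not_mem
        (φ U hU U' hU' hle) (hdom U hU U' hU' hle) y'.asIdeal hnot
      change Φ (𝒮'.toQCAlg.ι U' hU' y') ∈ RelCone.pointedCone 𝒮
      rw [hΦpt U hU U' hU' hle, Groth.Agent.Lib.Helper74.RelConeLib.ι_mem_pointedCone_iff,
        Groth.Agent.Lib.Helper74.RelConeLib.mem_vertexCompl_iff]
      refine ⟨f, hf, ?_⟩
      intro hmem
      apply hfy
      rw [hφapp]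
      exact hmem
  · intro heq U hU U' hU' hle
    rw [eq_top_iff]
    intro x _
    rw [RelCone.mem_domOpen]
    let y' : Spec (𝒮'.presheaf.obj (op U')) :=
      (⟨x.asHomogeneousIdeal.toIdeal, x.isPrime⟩ : PrimeSpectrum (𝒮'.presheaf.obj (op U')))
    have hy' : y' ∈ RelCone.vertexCompl (𝒮'.deg U' hU') := by
      rw [Groth.Agent.Lib.Helper74.RelConeLib.mem_vertexCompl_iff]
      obtain ⟨g, hg, hgx⟩ := SetLike.not_le_iff_exists.mp x.not_irrelevant_le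
      exact ⟨g, hg, hgx⟩
    have h1 : 𝒮'.toQCAlg.ι U' hU' y' ∈ RelCone.pointedCone 𝒮' :=
      (Groth.Agent.Lib.Helper74.RelConeLib.ι_mem_pointedCone_iff 𝒮' U' hU' y').mpr hy'
    rw [← heq] at h1
    have h2 : Φ (𝒮'.toQCAlg.ι U' hU' y') ∈ RelCone.pointedCone 𝒮 := h1
    rw [hΦpt U hU U' hU' hle, Groth.Agent.Lib.Helper74.RelConeLib.ι_mem_pointedCone_iff,
      Groth.Agent.Lib.Helper74.RelConeLib.mem_vertexCompl_iff] at h2
    obtain ⟨f, hf, hfy⟩ := h2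
    refine ⟨f, hf, ?_⟩
    intro hmem
    apply hfy
    rw [hφapp] at hmem
    exact hmem

end Groth.Agent.S8300
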