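import Groth.Statements.S8302
import Groth.Agent.Lib.Helper2.HomGlue
import Groth.Agent.Lib.Helper2.KerSec

set_option autoImplicit false
universe u
open CategoryTheory CategoryTheory.Limits AlgebraicGeometry Opposite TopologicalSpace
noncomputable section
open EGA2

namespace Groth.Agent.S8302

open Groth.Agent.Lib.Lead.QCohAff Groth.Agent.Lib.Helper2.KerSec Groth.Agent.Lib.Helper2.HomGlue
  Groth.Agent.Lib.Lead.SheafGlue

section
variable {X S : Scheme.{u}} (f : X ⟶ S) [QuasiCompact f] [QuasiSeparated f] {F G : X.Modules}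
  (w : (AMod.dirImg f).obj F ⟶ (AMod.dirImg f).obj G)

/-- the map on sections over `f⁻¹V` -/
def wV (V : S.Opens) (m : Γ(F, f ⁻¹ᵁ V)) : Γ(G, f ⁻¹ᵁ V) := (w.val.app (op V)).hom m

theorem wV_add (V : S.Opens) (m m' : Γ(F, f ⁻¹ᵁ V)) : wV f w V (m + m') = wV f w V m + wV f w V m' :=
  map_add (w.val.app (op V)).hom m m'

theorem wV_smul (V : S.Opens) (r : Γ(X, f ⁻¹ᵁ V)) (m : Γ(F, f ⁻¹ᵁ V)) :
    wV f w V (r • m) = r • wV f w V m :=
  (w.val.app (op V)).hom.map_smul r m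

theorem wV_res {V V' : S.Opens} (h : V' ≤ V) (m : Γ(F, f ⁻¹ᵁ V)) :
    wV f w V' (F.presheaf.map (homOfLE ((Opens.map f.base).monotone h)).op m) =
      G.presheaf.map (homOfLE ((Opens.map f.base).monotone h)).op (wV f w V m) :=
  congr($(w.val.naturality (homOfLE h).op) m)

theorem wV_map (u : F ⟶ G) (V : S.Opens) (m : Γ(F, f ⁻¹ᵁ V)) :
    wV f ((AMod.dirImg f).map u) V m = u.app (f ⁻¹ᵁ V) m := rfl

end

section
variable {X : Scheme.{u}} {F G : X.Modules}

/-- affine-local transfer of a relation through a linear map on sections -/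
theorem lemmaA [F.IsQuasicoherent] {T : X.Opens} (hT : IsAffineOpen T)
    (φ : Γ(F, T) → Γ(G, T)) (φ_add : ∀ a b, φ (a + b) = φ a + φ b)
    (φ_smul : ∀ (c : Γ(X, T)) a, φ (c • a) = c • φ a)
    (b : Γ(X, T)) (m m' : Γ(F, T)) (r r' : Γ(X, X.basicOpen b))
    (h : r • F.presheaf.map (homOfLE (X.basicOpen_le b)).op m' =
      r' • F.presheaf.map (homOfLE (X.basicOpen_le b)).op m) :
    r • G.presheaf.map (homOfLE (X.basicOpen_le b)).op (φ m') =
      r' • G.presheaf.map (homOfLE (X.basicOpen_le b)).op (φ m) := by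
  haveI := hT.isLocalization_basicOpen b
  obtain ⟨⟨ρ, ⟨_, k, rfl⟩⟩, hρ⟩ := IsLocalization.surj (Submonoid.powers b) r
  obtain ⟨⟨ρ', ⟨_, k', rfl⟩⟩, hρ'⟩ := IsLocalization.surj (Submonoid.powers b) r'
  set bb : Γ(X, X.basicOpen b) := X.presheaf.map (homOfLE (X.basicOpen_le b)).op b with hbb
  have hub : IsUnit bb := RingedSpace.isUnit_res_basicOpen X.toRingedSpace b
  have hρ1 : r * bb ^ k = X.presheaf.map (homOfLE (X.basicOpen_le b)).op ρ := by
    rw [hbb, ← map_pow]; exact hρ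
  have hρ1' : r' * bb ^ k' = X.presheaf.map (homOfLE (X.basicOpen_le b)).op ρ' := by
    rw [hbb, ← map_pow]; exact hρ'
  have φ_sub : ∀ a c, φ (a - c) = φ a - φ c := by
    intro a c
    have := φ_add (a - c) c
    rw [sub_add_cancel] at this
    rw [this, add_sub_cancel_right]
  -- δ
  have hδ : F.presheaf.map (homOfLE (X.basicOpen_le b)).op
      ((ρ * b ^ k') • m' - (ρ' * b ^ k) • m) = 0 := by
    rw [map_sub, res_smul, res_smul, map_mul, map_mul, map_pow, map_pow, ← hbb, ← hρ1, ← hρ1',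
      sub_eq_zero]
    calc (r * bb ^ k * bb ^ k') • F.presheaf.map (homOfLE (X.basicOpen_le b)).op m'
        = (bb ^ k * bb ^ k') • (r • F.presheaf.map (homOfLE (X.basicOpen_le b)).op m') := by
          rw [smul_smul]; congr 1; ring
      _ = (bb ^ k * bb ^ k') • (r' • F.presheaf.map (homOfLE (X.basicOpen_le b)).op m) := by rw [h]
      _ = (r' * bb ^ k' * bb ^ k) • F.presheaf.map (homOfLE (X.basicOpen_le b)).op m := by
          rw [smul_smul]; congr 1; ring
  obtain ⟨j, hj⟩ := exists_pow_smul_eq_zero F hT b _ hδ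
  have h1 : b ^ j • ((ρ * b ^ k') • φ m' - (ρ' * b ^ k) • φ m) = 0 := by
    rw [← φ_smul, ← φ_smul, ← φ_sub, ← φ_smul, hj]
    have := φ_add 0 0
    rw [add_zero] at this
    exact (add_eq_left.mp this.symm)
  have h2 := congrArg (G.presheaf.map (homOfLE (X.basicOpen_le b)).op) h1
  rw [res_smul, map_sub, res_smul, res_smul, map_zero, map_pow, map_mul, map_mul, map_pow, map_pow,
    ← hbb, ← hρ1, ← hρ1'] at h2
  have h3 := (hub.pow j).smul_eq_zero.mp h2  -- IsUnit.smul_eq_zero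
  rw [sub_eq_zero] at h3
  have h4 : (bb ^ k * bb ^ k') • (r • G.presheaf.map (homOfLE (X.basicOpen_le b)).op (φ m')) =
      (bb ^ k * bb ^ k') • (r' • G.presheaf.map (homOfLE (X.basicOpen_le b)).op (φ m)) := by
    rw [smul_smul, smul_smul]
    convert h3 using 2 <;> ring
  exact ((hub.pow k).mul (hub.pow k')).smul_left_cancel.mp h4

end


section
variable {X S : Scheme.{u}} (f : X ⟶ S) [IsAffineHom f] {F G : X.Modules} [F.IsQuasicoherent]
  (w : (AMod.dirImg f).obj F ⟶ (AMod.dirImg f).obj G)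

/-- the key compatibility -/
theorem key (V V' : S.Opens) (m : Γ(F, f ⁻¹ᵁ V)) (m' : Γ(F, f ⁻¹ᵁ V'))
    (W : X.Opens) (hW : W ≤ f ⁻¹ᵁ V) (hW' : W ≤ f ⁻¹ᵁ V') (r r' : Γ(X, W))
    (h : r • F.presheaf.map (homOfLE hW').op m' = r' • F.presheaf.map (homOfLE hW).op m) :
    r • G.presheaf.map (homOfLE hW').op (wV f w V' m') =
      r' • G.presheaf.map (homOfLE hW).op (wV f w V m) := by
  apply eq_of_locally_eq_pts
  intro x hx
  have hy : f.base x ∈ V ⊓ V' := ⟨hW hx, hW' hx⟩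
  obtain ⟨V₁, hV₁, hyV₁, hV₁le⟩ := exists_isAffineOpen_mem_and_subset (x := f.base x) (U := V ⊓ V') hy
  have hT : IsAffineOpen (f ⁻¹ᵁ V₁) := hV₁.preimage f
  have hxT : x ∈ f ⁻¹ᵁ V₁ := hyV₁
  obtain ⟨b, hble, hxb⟩ := hT.exists_basicOpen_le (V := W ⊓ f ⁻¹ᵁ V₁) ⟨x, ⟨hx, hxT⟩⟩ hxT
  have hbW : X.basicOpen b ≤ W := hble.trans inf_le_left
  have hV₁V : V₁ ≤ V := hV₁le.trans inf_le_left
  have hV₁V' : V₁ ≤ V' := hV₁le.trans inf_le_right
  refine ⟨X.basicOpen b, hbW, hxb, ?_⟩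
  have hA := lemmaA (F := F) (G := G) hT (wV f w V₁) (wV_add f w V₁) (wV_smul f w V₁) b
    (F.presheaf.map (homOfLE ((Opens.map f.base).monotone hV₁V)).op m)
    (F.presheaf.map (homOfLE ((Opens.map f.base).monotone hV₁V')).op m')
    (X.presheaf.map (homOfLE hbW).op r) (X.presheaf.map (homOfLE hbW).op r') (by
      rw [res_res, res_res]
      have := congrArg (F.presheaf.map (homOfLE hbW).op) h
      rw [res_smul, res_smul, res_res, res_res] at this
      exact this)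
  rw [wV_res f w hV₁V' m', wV_res f w hV₁V m, res_res, res_res] at hA
  rw [res_smul, res_smul, res_res, res_res]
  exact hA

end

section
variable {X S : Scheme.{u}} (f : X ⟶ S) [IsAffineHom f] (F : X.Modules) [F.IsQuasicoherent]

/-- `W ⊆ f⁻¹V` and sections / functions over `W` are fractions of sections / functions over `f⁻¹V`
with denominators invertible on `W` -/
def GoodFor (V : S.Opens) (W : X.Opens) : Prop :=
  ∃ hWV : W ≤ f ⁻¹ᵁ V,
    (∀ s : Γ(F, W), ∃ (m : Γ(F, f ⁻¹ᵁ V)) (ρ : Γ(X, f ⁻¹ᵁ V)),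
      IsUnit (X.presheaf.map (homOfLE hWV).op ρ) ∧
      F.presheaf.map (homOfLE hWV).op m = X.presheaf.map (homOfLE hWV).op ρ • s) ∧
    (∀ c : Γ(X, W), ∃ (γ ρ : Γ(X, f ⁻¹ᵁ V)),
      IsUnit (X.presheaf.map (homOfLE hWV).op ρ) ∧
      X.presheaf.map (homOfLE hWV).op γ = X.presheaf.map (homOfLE hWV).op ρ * c)

theorem goodFor_basicOpen (V : S.Opens) (hV : IsAffineOpen V) (a : Γ(X, f ⁻¹ᵁ V)) :
    GoodFor f F V (X.basicOpen a) := by
  have hT : IsAffineOpen (f ⁻¹ᵁ V) := hV.preimage f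
  have hub : IsUnit (X.presheaf.map (homOfLE (X.basicOpen_le a)).op a) :=
    RingedSpace.isUnit_res_basicOpen X.toRingedSpace a
  refine ⟨X.basicOpen_le a, fun s => ?_, fun c => ?_⟩
  · obtain ⟨n, m, hm⟩ := exists_res_eq_pow_smul F hT a s
    refine ⟨m, a ^ n, ?_, ?_⟩
    · rw [map_pow]; exact hub.pow n
    · rw [hm, map_pow]
  · haveI := hT.isLocalization_basicOpen a
    obtain ⟨⟨γ, ⟨_, k, rfl⟩⟩, hγ⟩ := IsLocalization.surj (Submonoid.powers a) c
    refine ⟨γ, a ^ k, ?_, ?_⟩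
    · rw [map_pow]; exact hub.pow k
    · rw [mul_comm]; exact hγ.symm

theorem exists_goodFor (U : X.Opens) (x : X) (hx : x ∈ U) :
    ∃ W : X.Opens, (∃ V : S.Opens, IsAffineOpen V ∧ GoodFor f F V W) ∧ x ∈ W ∧ W ≤ U := by
  obtain ⟨V, hV, hxV, -⟩ := exists_isAffineOpen_mem_and_subset (x := f.base x) (U := ⊤) trivial
  have hT : IsAffineOpen (f ⁻¹ᵁ V) := hV.preimage f
  have hxT : x ∈ f ⁻¹ᵁ V := hxV
  obtain ⟨a, hale, hxa⟩ := hT.exists_basicOpen_le (V := U ⊓ f ⁻¹ᵁ V) ⟨x, ⟨hx, hxT⟩⟩ hxT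
  exact ⟨X.basicOpen a, ⟨V, hV, goodFor_basicOpen f F V hV a⟩, hxa, hale.trans inf_le_left⟩

end

section
variable {X S : Scheme.{u}} (f : X ⟶ S) [IsAffineHom f] {F G : X.Modules} [F.IsQuasicoherent]
  (w : (AMod.dirImg f).obj F ⟶ (AMod.dirImg f).obj G)

variable (F) in
/-- the basis of good opens -/
def good (W : X.Opens) : Prop := ∃ V : S.Opens, IsAffineOpen V ∧ GoodFor f F V W

/-- chosen affine open of the base -/
def cV {W : X.Opens} (hW : good f F W) : S.Opens := hW.choose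

theorem cV_goodFor {W : X.Opens} (hW : good f F W) : GoodFor f F (cV f hW) W := hW.choose_spec.2

theorem cV_le {W : X.Opens} (hW : good f F W) : W ≤ f ⁻¹ᵁ (cV f hW) := (cV_goodFor f hW).choose

theorem exists_pres {W : X.Opens} (hW : good f F W) (s : Γ(F, W)) :
    ∃ (m : Γ(F, f ⁻¹ᵁ (cV f hW))) (ρ : Γ(X, f ⁻¹ᵁ (cV f hW))),
      IsUnit (X.presheaf.map (homOfLE (cV_le f hW)).op ρ) ∧
      F.presheaf.map (homOfLE (cV_le f hW)).op m = X.presheaf.map (homOfLE (cV_le f hW)).op ρ • s :=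
  (cV_goodFor f hW).choose_spec.1 s

theorem exists_presX {W : X.Opens} (hW : good f F W) (c : Γ(X, W)) :
    ∃ (γ ρ : Γ(X, f ⁻¹ᵁ (cV f hW))),
      IsUnit (X.presheaf.map (homOfLE (cV_le f hW)).op ρ) ∧
      X.presheaf.map (homOfLE (cV_le f hW)).op γ = X.presheaf.map (homOfLE (cV_le f hW)).op ρ * c :=
  (cV_goodFor f hW).choose_spec.2 c

/-- the local maps -/
def tW (W : X.Opens) (hW : good f F W) (s : Γ(F, W)) : Γ(G, W) :=
  ((exists_pres f hW s).choose_spec.choose_spec.1.unit⁻¹ : (Γ(X, W))ˣ) •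
    G.presheaf.map (homOfLE (cV_le f hW)).op (wV f w (cV f hW) (exists_pres f hW s).choose)

theorem tW_spec (W : X.Opens) (hW : good f F W) (s : Γ(F, W)) (V' : S.Opens)
    (m' : Γ(F, f ⁻¹ᵁ V')) (W₂ : X.Opens) (h₂ : W₂ ≤ W) (h₂' : W₂ ≤ f ⁻¹ᵁ V') (r' : Γ(X, W₂))
    (hm' : F.presheaf.map (homOfLE h₂').op m' = r' • F.presheaf.map (homOfLE h₂).op s) :
    G.presheaf.map (homOfLE h₂').op (wV f w V' m') =
      r' • G.presheaf.map (homOfLE h₂).op (tW f w W hW s) := by
  obtain ⟨hu, hm⟩ := (exists_pres f hW s).choose_spec.choose_spec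
  set m := (exists_pres f hW s).choose with hmdef
  set ρ := (exists_pres f hW s).choose_spec.choose with hρdef
  have htW : X.presheaf.map (homOfLE (cV_le f hW)).op ρ • tW f w W hW s =
      G.presheaf.map (homOfLE (cV_le f hW)).op (wV f w (cV f hW) m) := by
    unfold tW
    rw [Units.smul_def, smul_smul]
    have : (X.presheaf.map (homOfLE (cV_le f hW)).op ρ) * ((hu.unit⁻¹ : (Γ(X, W))ˣ) : Γ(X, W)) = 1 :=
      hu.mul_val_inv
    rw [this, one_smul]
  have hu₂ : IsUnit (X.presheaf.map (homOfLE (h₂.trans (cV_le f hW))).op ρ) := by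
    have := hu.map (X.presheaf.map (homOfLE h₂).op).hom
    rwa [res_resX] at this
  have hk := key f w (cV f hW) V' m m' W₂ (h₂.trans (cV_le f hW)) h₂'
    (X.presheaf.map (homOfLE (h₂.trans (cV_le f hW))).op ρ) r' (by
      rw [hm', ← res_res F (cV_le f hW) h₂, hm, res_smul, res_resX, smul_smul, smul_smul, mul_comm])
  rw [← res_res G (cV_le f hW) h₂, ← htW, res_smul, res_resX, smul_smul, mul_comm, ← smul_smul] at hk
  exact hu₂.smul_left_cancel.mp hk

theorem tW_unique (W : X.Opens) (hW : good f F W) (s : Γ(F, W)) (s' : Γ(G, W)) (V' : S.Opens)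
    (m' : Γ(F, f ⁻¹ᵁ V')) (h' : W ≤ f ⁻¹ᵁ V') (r' : Γ(X, W)) (hr' : IsUnit r')
    (hm' : F.presheaf.map (homOfLE h').op m' = r' • s)
    (hs' : G.presheaf.map (homOfLE h').op (wV f w V' m') = r' • s') : s' = tW f w W hW s := by
  have h := tW_spec f w W hW s V' m' W le_rfl h' r' (by rw [res_self]; exact hm')
  rw [res_self, hs'] at h
  exact hr'.smul_left_cancel.mp h

theorem tW_pres (W : X.Opens) (hW : good f F W) (s : Γ(F, W))
    (m : Γ(F, f ⁻¹ᵁ (cV f hW))) (ρ : Γ(X, f ⁻¹ᵁ (cV f hW)))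
    (hm : F.presheaf.map (homOfLE (cV_le f hW)).op m =
      X.presheaf.map (homOfLE (cV_le f hW)).op ρ • s) :
    G.presheaf.map (homOfLE (cV_le f hW)).op (wV f w (cV f hW) m) =
      X.presheaf.map (homOfLE (cV_le f hW)).op ρ • tW f w W hW s := by
  have h := tW_spec f w W hW s (cV f hW) m W le_rfl (cV_le f hW)
    (X.presheaf.map (homOfLE (cV_le f hW)).op ρ) (by rw [res_self]; exact hm)
  rw [res_self] at h
  exact h

theorem tW_add (W : X.Opens) (hW : good f F W) (s₁ s₂ : Γ(F, W)) :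
    tW f w W hW (s₁ + s₂) = tW f w W hW s₁ + tW f w W hW s₂ := by
  obtain ⟨m₁, ρ₁, hu₁, hm₁⟩ := exists_pres f hW s₁
  obtain ⟨m₂, ρ₂, hu₂, hm₂⟩ := exists_pres f hW s₂
  symm
  refine tW_unique f w W hW (s₁ + s₂) _ (cV f hW) (ρ₂ • m₁ + ρ₁ • m₂) (cV_le f hW)
    (X.presheaf.map (homOfLE (cV_le f hW)).op (ρ₁ * ρ₂)) ?_ ?_ ?_
  · rw [map_mul]; exact hu₁.mul hu₂
  · rw [map_add, res_smul, res_smul, hm₁, hm₂, smul_smul, smul_smul, map_mul, smul_add,
      mul_comm]
  · rw [wV_add, wV_smul, wV_smul, map_add, res_smul, res_smul, tW_pres f w W hW s₁ m₁ ρ₁ hm₁,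
      tW_pres f w W hW s₂ m₂ ρ₂ hm₂, smul_smul, smul_smul, map_mul, smul_add, mul_comm]

theorem tW_smul (W : X.Opens) (hW : good f F W) (c : Γ(X, W)) (s : Γ(F, W)) :
    tW f w W hW (c • s) = c • tW f w W hW s := by
  obtain ⟨m, ρ, hu, hm⟩ := exists_pres f hW s
  obtain ⟨γ, ρc, huc, hγ⟩ := exists_presX f hW c
  symm
  refine tW_unique f w W hW (c • s) _ (cV f hW) (γ • m) (cV_le f hW)
    (X.presheaf.map (homOfLE (cV_le f hW)).op (ρc * ρ)) ?_ ?_ ?_
  · rw [map_mul]; exact huc.mul hu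
  · rw [res_smul, hm, hγ, smul_smul, smul_smul, map_mul]
    congr 1; ring
  · rw [wV_smul, res_smul, tW_pres f w W hW s m ρ hm, hγ, smul_smul, smul_smul, map_mul]
    congr 1; ring

theorem tW_compat (W W' : X.Opens) (hW : good f F W) (hW' : good f F W') (h : W' ≤ W)
    (s : Γ(F, W)) :
    G.presheaf.map (homOfLE h).op (tW f w W hW s) =
      tW f w W' hW' (F.presheaf.map (homOfLE h).op s) := by
  obtain ⟨m', ρ', hu', hm'⟩ := exists_pres f hW' (F.presheaf.map (homOfLE h).op s)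
  refine tW_unique f w W' hW' _ _ (cV f hW') m' (cV_le f hW')
    (X.presheaf.map (homOfLE (cV_le f hW')).op ρ') hu' hm' ?_
  exact tW_spec f w W hW s (cV f hW') m' W' h (cV_le f hW') _ hm'

/-- existence of a preimage -/
theorem exists_hom_of_dirImg [G.IsQuasicoherent] :
    ∃ u : F ⟶ G, (AMod.dirImg f).map u = w := by
  obtain ⟨u, hu⟩ := exists_hom (M := F) (N := G) (good := good f F) (t := tW f w)
    (fun U x hx => exists_goodFor f F U x hx) (tW_add f w) (tW_smul f w) (tW_compat f w)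
  refine ⟨u, ?_⟩
  apply SheafOfModules.hom_ext
  apply PresheafOfModules.hom_ext
  intro V
  apply ModuleCat.hom_ext
  apply LinearMap.ext
  intro m
  change u.app (f ⁻¹ᵁ V.unop) m = wV f w V.unop m
  apply eq_of_locally_eq_pts
  intro x hx
  obtain ⟨W, hW, hxW, hWle⟩ := exists_goodFor f F (f ⁻¹ᵁ V.unop) x hx
  refine ⟨W, hWle, hxW, ?_⟩
  rw [← naturality_apply, hu W hW]
  have h := tW_spec f w W hW (F.presheaf.map (homOfLE hWle).op m) V.unop m W le_rfl hWle 1
    (by rw [res_self, one_smul])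
  rw [res_self, one_smul] at h
  exact h.symm

theorem dirImg_map_injective (u u' : F ⟶ G) (h : (AMod.dirImg f).map u = (AMod.dirImg f).map u') :
    u = u' := by
  have hV : ∀ (V : S.Opens) (m : Γ(F, f ⁻¹ᵁ V)), u.app (f ⁻¹ᵁ V) m = u'.app (f ⁻¹ᵁ V) m := by
    intro V m
    have := congrArg (fun z => wV f z V m) h
    exact this
  ext U s
  apply eq_of_locally_eq_pts
  intro x hx
  obtain ⟨W, hW, hxW, hWle⟩ := exists_goodFor f F U x hx
  refine ⟨W, hWle, hxW, ?_⟩
  obtain ⟨m, ρ, hu, hm⟩ := exists_pres f hW (F.presheaf.map (homOfLE hWle).op s)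
  rw [← naturality_apply, ← naturality_apply]
  apply hu.smul_left_cancel.mp
  rw [← Scheme.Modules.Hom.app_smul, ← Scheme.Modules.Hom.app_smul, ← hm, naturality_apply,
    naturality_apply, hV]

end


/-- The case of a single scheme X affine over S and the identity morphism of X: let f : X → S be an
affine morphism and F, G quasi-coherent O_X-modules. Then the direct image u ↦ f_*(u) is a bijection
from the set of O_X-module homomorphisms F → G onto the set of homomorphisms f_*F → f_*G of modules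
over the direct-image algebra f_*O_X. -/
theorem result {X S : Scheme.{u}} (f : X ⟶ S) [IsAffineHom f]
    (F G : X.Modules) (hF : Coh.IsQCoh F) (hG : Coh.IsQCoh G) :
    Function.Bijective
      ((AMod.dirImg f).map : (F ⟶ G) → ((AMod.dirImg f).obj F ⟶ (AMod.dirImg f).obj G)) := by
  haveI : F.IsQuasicoherent := hF
  haveI : G.IsQuasicoherent := hG
  exact ⟨fun u u' h => dirImg_map_injective f u u' h, fun w => exists_hom_of_dirImg f w⟩

end Groth.Agent.S8302
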