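import Groth.Statements.S8303
import Groth.Agent.Lib.Lead.FinTypeTop
import Groth.Agent.Lib.Lead.SpanLoc
import Groth.Agent.Lib.Lead.CohAff3

set_option autoImplicit false
universe u
open CategoryTheory CategoryTheory.Limits AlgebraicGeometry Opposite TopologicalSpace
noncomputable section
open EGA2

namespace Groth.Agent.S8303

open Groth.Agent.Lib.Lead.FinTypeTop Groth.Agent.Lib.Lead.QCohAff Groth.Agent.Lib.Lead.SpanLoc
  Groth.Agent.Lib.Lead.CohAff

section X
variable {X : Scheme.{u}} (F : X.Modules) [F.IsQuasicoherent] {U : X.Opens}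
  (hU : IsAffineOpen U) (a : Γ(X, U)) {ι : Type*} (t : ι → Γ(F, U))

include hU in
theorem span_res_eq_top' (D : X.Opens) (hD : D = X.basicOpen a) (hDU : D ≤ U)
    (ht : Submodule.span Γ(X, U) (Set.range t) = ⊤) :
    Submodule.span Γ(X, D) (Set.range fun i => F.presheaf.map (homOfLE hDU).op (t i)) = ⊤ := by
  subst hD
  exact span_res_eq_top F hU a t ht

include hU in
theorem exists_pow_smul_mem_span' (D : X.Opens) (hD : D = X.basicOpen a) (hDU : D ≤ U)
    (m : Γ(F, U))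
    (hm : F.presheaf.map (homOfLE hDU).op m ∈
      Submodule.span Γ(X, D) (Set.range fun i => F.presheaf.map (homOfLE hDU).op (t i))) :
    ∃ k : ℕ, a ^ k • m ∈ Submodule.span Γ(X, U) (Set.range t) := by
  subst hD
  exact exists_pow_smul_mem_span F hU a t m hm

end X

variable {X S : Scheme.{u}} (f : X ⟶ S) [IsAffineHom f] (F : X.Modules)

theorem pre_le {V W : S.Opens} (h : W ≤ V) : f ⁻¹ᵁ W ≤ f ⁻¹ᵁ V := fun _ hx => h hx

theorem rs_eq {V W : S.Opens} (h : W ≤ V) (m : Γ(F, f ⁻¹ᵁ V)) :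
    rs ((AMod.dirImg f).obj F) h m = F.presheaf.map (homOfLE (pre_le f h)).op m := rfl

theorem forward [F.IsQuasicoherent]
    (hF : SheafOfModules.IsFiniteType.{u} (R := X.ringCatSheaf) F) :
    SheafOfModules.IsFiniteType.{u} (R := AMod.ringSheaf (RelSpec.QCAlg.directImage f))
      ((AMod.dirImg f).obj F) := by
  apply isFiniteType_of_locSpan
  intro s₀
  obtain ⟨_, ⟨V, hV : IsAffineOpen V, rfl⟩, hsV, -⟩ :=
    (S.isBasis_affineOpens).exists_subset_of_mem_open (Set.mem_univ s₀) isOpen_univ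
  have hU : IsAffineOpen (f ⁻¹ᵁ V) := hV.preimage f
  haveI hfin : Module.Finite Γ(X, f ⁻¹ᵁ V) Γ(F, f ⁻¹ᵁ V) := finite_sections_of_isFiniteType F hF hU
  obtain ⟨n, t, ht⟩ := Module.Finite.exists_fin (R := Γ(X, f ⁻¹ᵁ V)) (M := Γ(F, f ⁻¹ᵁ V))
  refine ⟨V, hsV, n, t, ?_⟩
  intro W hW m y hy
  obtain ⟨g, hgW, hyg⟩ := hV.exists_basicOpen_le (V := W) ⟨y, hy⟩ (hW hy)
  refine ⟨S.basicOpen g, hgW, hyg, ?_⟩
  have ht' : Submodule.span Γ(X, f ⁻¹ᵁ V) (Set.range fun i : ULift.{u} (Fin n) => t i.down) = ⊤ := by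
    rw [← ht]
    congr 1
    ext z
    constructor
    · rintro ⟨i, rfl⟩; exact ⟨i.down, rfl⟩
    · rintro ⟨i, rfl⟩; exact ⟨⟨i⟩, rfl⟩
  have h1 := span_res_eq_top' F hU (f.app V g) (fun i : ULift.{u} (Fin n) => t i.down)
    (f ⁻¹ᵁ (S.basicOpen g)) (Scheme.preimage_basicOpen f g) (pre_le f (hgW.trans hW)) ht'
  have h2 : (rs ((AMod.dirImg f).obj F) hgW m : Γ(F, f ⁻¹ᵁ (S.basicOpen g))) ∈
      Submodule.span Γ(X, f ⁻¹ᵁ (S.basicOpen g)) (Set.range fun i : ULift.{u} (Fin n) =>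
        F.presheaf.map (homOfLE (pre_le f (hgW.trans hW))).op (t i.down)) := by
    rw [h1]; trivial
  exact h2


theorem backward [F.IsQuasicoherent]
    (hN : SheafOfModules.IsFiniteType.{u} (R := AMod.ringSheaf (RelSpec.QCAlg.directImage f))
      ((AMod.dirImg f).obj F)) :
    SheafOfModules.IsFiniteType.{u} (R := X.ringCatSheaf) F := by
  apply isFiniteType_of_finite_sections F
  intro x
  obtain ⟨V, hs₀V, n, s, hLS⟩ := exists_locSpan_of_isFiniteType _ hN (f x)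
  obtain ⟨_, ⟨V', hV' : IsAffineOpen V', rfl⟩, hxV', hV'V⟩ :=
    (S.isBasis_affineOpens).exists_subset_of_mem_open hs₀V V.2
  have hV'V' : V' ≤ V := hV'V
  have hU : IsAffineOpen (f ⁻¹ᵁ V') := hV'.preimage f
  refine ⟨f ⁻¹ᵁ V', hU, hxV', ?_⟩
  let t : ULift.{u} (Fin n) → Γ(F, f ⁻¹ᵁ V') := fun i =>
    F.presheaf.map (homOfLE (pre_le f hV'V')).op (s i.down)
  suffices h : Submodule.span Γ(X, f ⁻¹ᵁ V') (Set.range t) = ⊤ by
    rw [Module.finite_def, ← h]
    exact Submodule.fg_span (Set.finite_range t)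
  rw [eq_top_iff]
  intro m _
  let A : Set Γ(X, f ⁻¹ᵁ V') :=
    {a | ∃ k : ℕ, a ^ k • m ∈ Submodule.span Γ(X, f ⁻¹ᵁ V') (Set.range t)}
  refine Submodule.mem_of_span_eq_top_of_smul_pow_mem _ A ?_ m (fun a => a.2)
  -- the good functions on `V'`
  let G : Set Γ(S, V') := {g | (f.app V') g ∈ A}
  have hG : Ideal.span G = ⊤ := by
    rw [← hV'.self_le_iSup_basicOpen_iff]
    intro y hy
    obtain ⟨W', hW', hyW', hmem⟩ := hLS V' hV'V' m y hy
    obtain ⟨g, hgW', hyg⟩ := hV'.exists_basicOpen_le (V := W') ⟨y, hyW'⟩ hy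
    have hmem2 := rs_mem_span ((AMod.dirImg f).obj F) hgW' _ _ hmem
    refine Opens.mem_iSup.2 ⟨⟨g, ?_⟩, hyg⟩
    -- g ∈ G
    have h3 : F.presheaf.map (homOfLE (pre_le f (hgW'.trans hW'))).op m ∈
        Submodule.span Γ(X, f ⁻¹ᵁ (S.basicOpen g)) (Set.range fun i =>
          F.presheaf.map (homOfLE (pre_le f (hgW'.trans hW'))).op (t i)) := by
      have e1 : rs ((AMod.dirImg f).obj F) hgW' (rs ((AMod.dirImg f).obj F) hW' m) =
          F.presheaf.map (homOfLE (pre_le f (hgW'.trans hW'))).op m :=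
        rs_rs _ _ _ _
      have e2 : (fun i : ULift.{u} (Fin n) => rs ((AMod.dirImg f).obj F) hgW'
            (rs ((AMod.dirImg f).obj F) (hW'.trans hV'V') (s i.down))) =
          (fun i => F.presheaf.map (homOfLE (pre_le f (hgW'.trans hW'))).op (t i)) := by
        funext i
        have := rs_rs ((AMod.dirImg f).obj F) (hW'.trans hV'V') hgW' (s i.down)
        refine this.trans ?_
        have h4 := rs_rs ((AMod.dirImg f).obj F) hV'V' (hgW'.trans hW') (s i.down)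
        exact h4.symm
      rw [e1, e2] at hmem2
      exact hmem2
    exact exists_pow_smul_mem_span' F hU (f.app V' g) t (f ⁻¹ᵁ (S.basicOpen g))
      (Scheme.preimage_basicOpen f g) (pre_le f (hgW'.trans hW')) m h3
  have hsub : (f.app V').hom '' G ⊆ A := by
    rintro _ ⟨g, hg, rfl⟩
    exact hg
  have h5 : Ideal.span ((f.app V').hom '' G) = ⊤ := by
    rw [← Ideal.map_span, hG, Ideal.map_top]
  exact top_le_iff.mp (h5 ▸ Ideal.span_mono hsub)

theorem result {X S : Scheme.{u}} (f : X ⟶ S) [IsAffineHom f]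
    (F : X.Modules) (hF : Coh.IsQCoh F) :
    SheafOfModules.IsFiniteType.{u} (R := X.ringCatSheaf) F ↔
      SheafOfModules.IsFiniteType.{u} (R := AMod.ringSheaf (RelSpec.QCAlg.directImage f)) ((AMod.dirImg f).obj F) := by
  haveI : F.IsQuasicoherent := hF
  exact ⟨forward f F, backward f F⟩

end Groth.Agent.S8303
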