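import Groth.Statements.S8305
import Groth.Agent.S8302
import Mathlib.AlgebraicGeometry.Morphisms.Separated

set_option autoImplicit false
universe u
open CategoryTheory CategoryTheory.Limits AlgebraicGeometry Opposite TopologicalSpace
noncomputable section
open EGA2

namespace Groth.Agent.S8305

open Groth.Agent.Lib.Helper2.KerSec

section
variable {X Y S : Scheme.{u}}

theorem isIso_of_isIso_algHom (gX : X ⟶ S) [IsAffineHom gX] (h : Y ⟶ X) [IsAffineHom (h ≫ gX)]
    (hiso : IsIso (AffAlg.algHom gX (h ≫ gX) h rfl)) : IsIso h := by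
  haveI : IsAffineHom h := IsAffineHom.of_comp h gX
  have happ : ∀ V : S.Opens, IsIso (h.app (gX ⁻¹ᵁ V)) := by
    intro V
    have h1 : IsIso ((AffAlg.algHom gX (h ≫ gX) h rfl).app (op V)) := inferInstance
    have e : (AffAlg.algHom gX (h ≫ gX) h rfl).app (op V) = h.app (gX ⁻¹ᵁ V) ≫ 𝟙 _ := rfl
    rw [e, Category.comp_id] at h1
    exact h1
  let 𝒰 : S.affineOpens → X.Opens := fun V => gX ⁻¹ᵁ V.1
  have h𝒰 : iSup 𝒰 = ⊤ := by
    rw [eq_top_iff]
    intro x _
    obtain ⟨V, hV, hxV, -⟩ := exists_isAffineOpen_mem_and_subset (x := gX.base x) (U := ⊤) trivial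
    exact Opens.mem_iSup.2 ⟨⟨V, hV⟩, hxV⟩
  rw [← MorphismProperty.isomorphisms.iff,
    IsZariskiLocalAtTarget.iff_of_iSup_eq_top (P := MorphismProperty.isomorphisms Scheme) _ h𝒰]
  intro V
  rw [MorphismProperty.isomorphisms.iff, isIso_morphismRestrict_iff_isIso_app _ (V.2.preimage gX)]
  exact happ V.1

end


/-- Let X and Y be schemes affine over S with structure morphisms gX and gY, h : Y → X a morphism over
S, F a quasi-coherent O_X-module, G a quasi-coherent O_Y-module and v : F → h_*G a homomorphism of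
O_X-modules, so that (h, v) is a morphism of pairs (Y, G) → (X, F). Then h and v are isomorphisms if
and only if the direct-image algebra homomorphism A(h) : gX_*O_X → gY_*O_Y and the direct image A(v)
= gX_*(v) : gX_*F → gX_*h_*G are isomorphisms (the pair (A(h), A(v)) is a di-isomorphism). -/
theorem result {X Y S : Scheme.{u}} (gX : X ⟶ S) [IsAffineHom gX]
    (gY : Y ⟶ S) [IsAffineHom gY] (h : Y ⟶ X) (hh : h ≫ gX = gY)
    (F : X.Modules) (G : Y.Modules) (hF : Coh.IsQCoh F) (hG : Coh.IsQCoh G)
    (v : F ⟶ (Scheme.Modules.pushforward h).obj G) :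
    (IsIso h ∧ IsIso v) ↔
      (IsIso (AffAlg.algHom gX gY h hh) ∧ IsIso ((Scheme.Modules.pushforward gX).map v)) := by
  subst hh
  haveI : F.IsQuasicoherent := hF
  haveI : G.IsQuasicoherent := hG
  constructor
  · rintro ⟨hiso, hv⟩
    haveI := hiso
    haveI := hv
    refine ⟨?_, inferInstance⟩
    haveI : ∀ U, IsIso ((AffAlg.algHom gX (h ≫ gX) h rfl).app U) := by
      intro U
      have e : (AffAlg.algHom gX (h ≫ gX) h rfl).app U = h.app (gX ⁻¹ᵁ U.unop) ≫ 𝟙 _ := rfl
      rw [e, Category.comp_id]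
      exact (inferInstance : IsIso (h.app (gX ⁻¹ᵁ U.unop)))
    exact NatIso.isIso_of_isIso_app _
  · rintro ⟨ha, hv⟩
    haveI := hv
    haveI : IsIso h := isIso_of_isIso_algHom gX h ha
    refine ⟨inferInstance, ?_⟩
    haveI : ((Scheme.Modules.pushforward h).obj G).IsQuasicoherent :=
      isQuasicoherent_pushforward_of_qcqs h G
    let R := AMod.ringSheaf (RelSpec.QCAlg.directImage gX)
    have h1 : IsIso ((AMod.dirImg gX).map v) := by
      haveI hv' : @IsIso (SheafOfModules.{u} S.ringCatSheaf) _ _ _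
          ((Scheme.Modules.pushforward gX).map v) := hv
      have h2 : IsIso ((SheafOfModules.toSheaf.{u} S.ringCatSheaf).map
          ((Scheme.Modules.pushforward gX).map v)) := Functor.map_isIso _ _
      have h3 : IsIso ((SheafOfModules.toSheaf.{u} R).map ((AMod.dirImg gX).map v)) := h2
      exact isIso_of_reflects_iso _ (SheafOfModules.toSheaf.{u} R)
    obtain ⟨v', hv'⟩ := (Groth.Agent.S8302.result gX _ F inferInstance hF).2 (inv ((AMod.dirImg gX).map v))
    refine ⟨v', ?_, ?_⟩
    · apply (Groth.Agent.S8302.result gX F F hF hF).1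
      rw [Functor.map_comp, hv', IsIso.hom_inv_id]
      exact ((AMod.dirImg gX).map_id _).symm
    · apply (Groth.Agent.S8302.result gX _ _ inferInstance inferInstance).1
      rw [Functor.map_comp, hv', IsIso.inv_hom_id]
      exact ((AMod.dirImg gX).map_id _).symm

end Groth.Agent.S8305
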