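import Groth.Statements.S8310
import Groth.Agent.Lib.Helper43.NaturalFG
import Mathlib.RingTheory.Nilpotent.Lemmas
-- import your own Groth.Agent.* helpers here

set_option autoImplicit false
universe u
open CategoryTheory AlgebraicGeometry
open scoped HomogeneousIdeal
open EGA2

namespace Groth.Agent.S8310


section helpers

open AlgebraicGeometry

variable {A C : Type*} [CommRing A] [CommRing C] {R : Type*} [CommRing R] [Algebra R A] [Algebra R C]
  {𝒜 : ℕ → Submodule R A} {𝒞 : ℕ → Submodule R C} [GradedAlgebra 𝒜] [GradedAlgebra 𝒞]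

theorem comapFun_bijective (ρ : 𝒞 →+*ᵍ 𝒜) (hsurj : Function.Surjective ρ)
    (hnil : RingHom.ker ρ.toRingHom ≤ nilradical C)
    (hirr : HomogeneousIdeal.irrelevant 𝒜 ≤ (HomogeneousIdeal.irrelevant 𝒞).map ρ) :
    Function.Bijective (ProjectiveSpectrum.comapFun ρ hirr) := by
  have hsurj' : Function.Surjective ρ.toRingHom := hsurj
  constructor
  · intro x y hxy
    have h1 : x.asHomogeneousIdeal.toIdeal.comap ρ.toRingHom =
        y.asHomogeneousIdeal.toIdeal.comap ρ.toRingHom := by
      have := congrArg (fun z => z.asHomogeneousIdeal.toIdeal) hxy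
      exact this
    have h2 : x.asHomogeneousIdeal.toIdeal = y.asHomogeneousIdeal.toIdeal := by
      rw [← Ideal.map_comap_of_surjective ρ.toRingHom hsurj' x.asHomogeneousIdeal.toIdeal, h1,
        Ideal.map_comap_of_surjective ρ.toRingHom hsurj']
    ext1
    exact HomogeneousIdeal.toIdeal_injective h2
  · intro q
    have hkq : RingHom.ker ρ.toRingHom ≤ q.asHomogeneousIdeal.toIdeal := by
      intro c hc
      obtain ⟨k, hk⟩ := hnil hc
      exact q.isPrime.mem_of_pow_mem k (by rw [hk]; exact Ideal.zero_mem _)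
    have hcm : (q.asHomogeneousIdeal.toIdeal.map ρ.toRingHom).comap ρ.toRingHom =
        q.asHomogeneousIdeal.toIdeal := by
      rw [Ideal.comap_map_of_surjective ρ.toRingHom hsurj']
      exact sup_eq_left.mpr (by rwa [← RingHom.ker_eq_comap_bot])
    refine ⟨⟨q.asHomogeneousIdeal.map ρ, ?_, ?_⟩, ?_⟩
    · exact Ideal.map_isPrime_of_surjective hsurj' hkq
    · intro hle
      apply q.not_irrelevant_le
      intro c hc
      have h1 : ρ c ∈ HomogeneousIdeal.irrelevant 𝒜 := by
        rw [HomogeneousIdeal.mem_irrelevant_iff, GradedRing.proj_apply,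
          ← GradedRingHom.map_directSumDecompose]
        have : (DirectSum.decompose 𝒞 c 0 : C) = 0 := hc
        rw [this, map_zero]
      have h2 : ρ c ∈ (q.asHomogeneousIdeal.map ρ) := hle h1
      have h3 : c ∈ (q.asHomogeneousIdeal.toIdeal.map ρ.toRingHom).comap ρ.toRingHom := h2
      rw [hcm] at h3
      exact h3
    · ext1
      apply HomogeneousIdeal.toIdeal_injective
      exact hcm

end helpers

/-- Let S be a positively graded ring (an ℕ-graded R-algebra), S♮ the graded ring with S♮_n = S_[n] =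
⊕_{m ≥ n} S_m (presented as a graded ring S' with an injective algebra homomorphism φ : S' → S[X]
carrying S'_n onto S_[n]·X^n), and T = S♮ ⊗_S S_0 = ⊕_n S_[n]/S_+S_[n] (presented as a graded ring
with a surjective graded homomorphism π : S' → T whose kernel is the ideal generated by the elements
of S' corresponding to the constants in S_+); let ρ : T → S be the surjective graded homomorphism
sending the class of a ∈ S_[n] (in degree n) to the degree-n component of a, and Proj S → Proj T the
morphism it induces (a closed immersion, ρ being surjective). Then this morphism Proj S → Proj T is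
bijective. -/
theorem result {R A B C : Type u} [CommRing R] [CommRing A] [Algebra R A]
    (𝒜 : ℕ → Submodule R A) [GradedAlgebra 𝒜] [CommRing B] [Algebra R B] (ℬ : ℕ → Submodule R B) [GradedAlgebra ℬ]
    (φ : B →ₐ[R] Polynomial A) (hφ : Function.Injective φ)
    (hdeg : ∀ n : ℕ, Submodule.map φ.toLinearMap (ℬ n) =
      Submodule.map ((Polynomial.monomial n : A →ₗ[A] Polynomial A).restrictScalars R) (⨆ (m : ℕ) (_ : n ≤ m), 𝒜 m))
    [CommRing C] [Algebra R C] (𝒞 : ℕ → Submodule R C) [GradedAlgebra 𝒞]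
    (π : ℬ →+*ᵍ 𝒞) (hπ : Function.Surjective π)
    (hker : RingHom.ker π.toRingHom =
      Ideal.span (⇑φ ⁻¹' (⇑(Polynomial.C : A →+* Polynomial A) '' ((HomogeneousIdeal.irrelevant 𝒜).toIdeal : Set A))))
    (ρ : 𝒞 →+*ᵍ 𝒜) (hρ : ∀ (n : ℕ) (b : B), b ∈ ℬ n → ρ (π b) = GradedRing.proj 𝒜 n ((φ b).coeff n))
    (hirr : HomogeneousIdeal.irrelevant 𝒜 ≤ (HomogeneousIdeal.irrelevant 𝒞).map ρ) :
    Function.Bijective (Proj.map ρ hirr).base := by
  classical
  have hρπ : ∀ b : B, ρ (π b) = Groth.Agent.Lib.Helper43.delta 𝒜 ℬ φ hdeg b := by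
    intro b
    refine DirectSum.Decomposition.inductionOn ℬ (by simp) ?_ ?_ b
    · intro n b
      obtain ⟨a, ha, hba⟩ := Groth.Agent.Lib.Helper43.exists_of_mem_B 𝒜 ℬ φ hdeg b.2
      rw [hρ n b b.2, Groth.Agent.Lib.Helper43.delta_of_mem 𝒜 ℬ φ hdeg hba, hba,
        Polynomial.coeff_monomial, if_pos rfl]
      rfl
    · intro x y hx hy
      rw [map_add, map_add, hx, hy, map_add]
  have hsurj : Function.Surjective ρ := by
    intro a
    obtain ⟨b, hb⟩ := Groth.Agent.Lib.Helper43.delta_surjective 𝒜 ℬ φ hdeg a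
    exact ⟨π b, by rw [hρπ, hb]⟩
  -- vanishing of low components characterises `Age`
  have hAge_proj : ∀ (n : ℕ) (a : A), a ∈ Groth.Agent.Lib.Helper43.Age 𝒜 n →
      ∀ m < n, GradedAlgebra.proj 𝒜 m a = 0 := by
    intro n a ha
    refine Groth.Agent.Lib.Helper43.Age_induction 𝒜
      (motive := fun a => ∀ m < n, GradedAlgebra.proj 𝒜 m a = 0) ?_ ?_ ?_ ha
    · intro k hk a ha m hm
      rw [Groth.Agent.Lib.Helper43.proj_of_mem 𝒜 ha, if_neg (by omega)]
    · intro m _
      rw [map_zero]
    · intro a a' h h' m hm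
      rw [map_add, h m hm, h' m hm, add_zero]
  have hAge_of_proj : ∀ (n : ℕ) (a : A), (∀ m < n, GradedAlgebra.proj 𝒜 m a = 0) →
      a ∈ Groth.Agent.Lib.Helper43.Age 𝒜 n := by
    intro n a ha
    rw [← DirectSum.sum_support_decompose 𝒜 a]
    refine Submodule.sum_mem _ fun m hm => ?_
    by_cases hmn : n ≤ m
    · exact Groth.Agent.Lib.Helper43.le_Age 𝒜 hmn (SetLike.coe_mem _)
    · have := ha m (by omega)
      rw [GradedAlgebra.proj_apply] at this
      rw [this]
      exact Submodule.zero_mem _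
  have hhom : ∀ n, ∀ c ∈ 𝒞 n, ρ c = 0 → IsNilpotent c := by
    intro n c hc hρc
    obtain ⟨b', hb'⟩ := hπ c
    set b : B := (DirectSum.decompose ℬ b' n : B) with hbdef
    have hbn : b ∈ ℬ n := SetLike.coe_mem _
    have hπb : π b = c := by
      rw [hbdef, GradedRingHom.map_directSumDecompose, hb', DirectSum.decompose_of_mem_same 𝒞 hc]
    obtain ⟨a, ha, hba⟩ := Groth.Agent.Lib.Helper43.exists_of_mem_B 𝒜 ℬ φ hdeg hbn
    have hpa : GradedAlgebra.proj 𝒜 n a = 0 := by
      rw [← Groth.Agent.Lib.Helper43.delta_of_mem 𝒜 ℬ φ hdeg hba, ← hρπ, hπb, hρc]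
    have ha1 : a ∈ Groth.Agent.Lib.Helper43.Age 𝒜 (n + 1) := by
      apply hAge_of_proj
      intro m hm
      rcases Nat.lt_succ_iff_lt_or_eq.mp hm with h | h
      · exact hAge_proj n a ha m h
      · rw [h]; exact hpa
    have key : a ∈ Groth.Agent.Lib.Helper43.Age 𝒜 n ∧
        ∀ b ∈ ℬ n, φ b = Polynomial.monomial n a → IsNilpotent (π b) := by
      refine Groth.Agent.Lib.Helper43.Age_induction 𝒜
        (motive := fun a => a ∈ Groth.Agent.Lib.Helper43.Age 𝒜 n ∧
          ∀ b ∈ ℬ n, φ b = Polynomial.monomial n a → IsNilpotent (π b)) ?_ ?_ ?_ ha1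
      · intro m hm a ha
        refine ⟨Groth.Agent.Lib.Helper43.le_Age 𝒜 (by omega) ha, fun b hb hba => ?_⟩
        obtain ⟨b₀, _, hb₀⟩ := Groth.Agent.Lib.Helper43.exists_of_mem_Age 𝒜 ℬ φ hdeg (n := 0)
          (a := a) (by rw [Groth.Agent.Lib.Helper43.Age_zero]; trivial)
        have hb₀ker : π b₀ = 0 := by
          have : b₀ ∈ RingHom.ker π.toRingHom := by
            rw [hker]
            refine Ideal.subset_span ⟨a, ?_, ?_⟩
            · exact HomogeneousIdeal.mem_irrelevant_of_mem 𝒜 (by omega : 0 < m) ha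
            · rw [hb₀, Polynomial.monomial_zero_left]
          exact this
        have ham : a ^ (m - 1) ∈ Groth.Agent.Lib.Helper43.Age 𝒜 (n * m) := by
          have h1 := SetLike.pow_mem_graded (m - 1) ha
          rw [smul_eq_mul] at h1
          refine Groth.Agent.Lib.Helper43.le_Age 𝒜 ?_ h1
          have : n ≤ m - 1 := by omega
          exact Nat.mul_le_mul_right _ this
        obtain ⟨b₂, _, hb₂⟩ := Groth.Agent.Lib.Helper43.exists_of_mem_Age 𝒜 ℬ φ hdeg ham
        have hbm : b ^ m = b₀ * b₂ := by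
          apply hφ
          rw [map_pow, hba, Polynomial.monomial_pow, map_mul, hb₀, hb₂,
            Polynomial.monomial_mul_monomial, zero_add, ← pow_succ']
          congr 2
          omega
        refine ⟨m, ?_⟩
        rw [← map_pow, hbm, map_mul, hb₀ker, zero_mul]
      · refine ⟨Submodule.zero_mem _, fun b _ hb => ?_⟩
        have : b = 0 := hφ (by rw [hb, map_zero, map_zero])
        rw [this, map_zero]
        exact IsNilpotent.zero
      · rintro a a' ⟨ha, har⟩ ⟨ha', har'⟩
        refine ⟨Submodule.add_mem _ ha ha', fun b hb hba => ?_⟩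
        obtain ⟨b₁, hb₁n, hb₁⟩ := Groth.Agent.Lib.Helper43.exists_of_mem_Age 𝒜 ℬ φ hdeg ha
        have h2 : φ (b - b₁) = Polynomial.monomial n a' := by
          rw [map_sub, hba, hb₁, map_add, add_sub_cancel_left]
        have : b = b₁ + (b - b₁) := by ring
        rw [this, map_add]
        exact Commute.isNilpotent_add (Commute.all _ _) (har b₁ hb₁n hb₁)
          (har' _ (Submodule.sub_mem _ hb hb₁n) h2)
    rw [← hπb]
    exact key.2 b hbn hba
  have hnil : RingHom.ker ρ.toRingHom ≤ nilradical C := by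
    intro c hc
    rw [← DirectSum.sum_support_decompose 𝒞 c]
    refine Ideal.sum_mem _ fun n _ => ?_
    apply hhom n _ (SetLike.coe_mem _)
    rw [GradedRingHom.map_directSumDecompose]
    have : ρ c = 0 := hc
    rw [this]
    simp
  exact comapFun_bijective ρ hsurj hnil hirr

end Groth.Agent.S8310
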