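import Groth.Statements.S8311
import Groth.Agent.Lib.Helper43.NaturalFG
import Groth.Agent.Lib.Helper43.ProjIso
-- import your own Groth.Agent.* helpers here

set_option autoImplicit false
universe u
open CategoryTheory AlgebraicGeometry
open scoped HomogeneousIdeal
open EGA2

namespace Groth.Agent.S8311

/-- Let S be a positively graded ring (an ℕ-graded R-algebra), S♮ the graded ring with S♮_n = S_[n] =
⊕_{m ≥ n} S_m (presented as a graded ring S' with an injective algebra homomorphism φ : S' → S[X]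
carrying S'_n onto S_[n]·X^n), and T = S♮ ⊗_S S_0 = ⊕_n S_[n]/S_+S_[n] (presented as a graded ring
with a surjective graded homomorphism π : S' → T whose kernel is the ideal generated by the elements
of S' corresponding to the constants in S_+); let ρ : T → S be the surjective graded homomorphism
sending the class of a ∈ S_[n] (in degree n) to the degree-n component of a, and Proj S → Proj T the
morphism it induces (a closed immersion, ρ being surjective). If there is n₀ such that S_{n+1} = S_1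
S_n for every n ≥ n₀ (products of graded pieces as submodules), then the morphism Proj S → Proj T is
an isomorphism. (The published statement also asserts the converse when S is Noetherian; that
converse is not correct as published: for S = k[y] with y of degree 2 the morphism is an isomorphism
of one-point schemes Spec k while S_{2m} ≠ S_1 S_{2m−1} = 0 for all m, so only the direct
implication is stated here.) -/
theorem result {R A B C : Type u} [CommRing R] [CommRing A] [Algebra R A]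
    (𝒜 : ℕ → Submodule R A) [GradedAlgebra 𝒜] [CommRing B] [Algebra R B] (ℬ : ℕ → Submodule R B) [GradedAlgebra ℬ]
    (φ : B →ₐ[R] Polynomial A) (hφ : Function.Injective φ)
    (hdeg : ∀ n : ℕ, Submodule.map φ.toLinearMap (ℬ n) =
      Submodule.map ((Polynomial.monomial n : A →ₗ[A] Polynomial A).restrictScalars R) (⨆ (m : ℕ) (_ : n ≤ m), 𝒜 m))
    [CommRing C] [Algebra R C] (𝒞 : ℕ → Submodule R C) [GradedAlgebra 𝒞]
    (π : ℬ →+*ᵍ 𝒞) (hπ : Function.Surjective π)
    (hker : RingHom.ker π.toRingHom =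
      Ideal.span (⇑φ ⁻¹' (⇑(Polynomial.C : A →+* Polynomial A) '' ((HomogeneousIdeal.irrelevant 𝒜).toIdeal : Set A))))
    (ρ : 𝒞 →+*ᵍ 𝒜) (hρ : ∀ (n : ℕ) (b : B), b ∈ ℬ n → ρ (π b) = GradedRing.proj 𝒜 n ((φ b).coeff n))
    (hirr : HomogeneousIdeal.irrelevant 𝒜 ≤ (HomogeneousIdeal.irrelevant 𝒞).map ρ)
    (hgen : ∃ n₀ : ℕ, ∀ n : ℕ, n₀ ≤ n → 𝒜 (n + 1) = 𝒜 1 * 𝒜 n) :
    IsIso (Proj.map ρ hirr) := by
  classical
  obtain ⟨n₀, hn₀⟩ := hgen
  have hρπ : ∀ b : B, ρ (π b) = Groth.Agent.Lib.Helper43.delta 𝒜 ℬ φ hdeg b := by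
    intro b
    refine DirectSum.Decomposition.inductionOn ℬ (by simp) ?_ ?_ b
    · intro n b
      obtain ⟨a, ha, hba⟩ := Groth.Agent.Lib.Helper43.exists_of_mem_B 𝒜 ℬ φ hdeg b.2
      rw [hρ n b b.2, Groth.Agent.Lib.Helper43.delta_of_mem 𝒜 ℬ φ hdeg hba, hba,
        Polynomial.coeff_monomial, if_pos rfl]
      rfl
    · intro x y hx hy
      rw [map_add, map_add, hx, hy, map_add]
  have hsurj : Function.Surjective ρ := by
    intro a
    obtain ⟨b, hb⟩ := Groth.Agent.Lib.Helper43.delta_surjective 𝒜 ℬ φ hdeg a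
    exact ⟨π b, by rw [hρπ, hb]⟩
  have hAge_proj : ∀ (n : ℕ) (a : A), a ∈ Groth.Agent.Lib.Helper43.Age 𝒜 n →
      ∀ m < n, GradedAlgebra.proj 𝒜 m a = 0 := by
    intro n a ha
    refine Groth.Agent.Lib.Helper43.Age_induction 𝒜
      (motive := fun a => ∀ m < n, GradedAlgebra.proj 𝒜 m a = 0) ?_ ?_ ?_ ha
    · intro k hk a ha m hm
      rw [Groth.Agent.Lib.Helper43.proj_of_mem 𝒜 ha, if_neg (by omega)]
    · intro m _
      rw [map_zero]
    · intro a a' h h' m hm
      rw [map_add, h m hm, h' m hm, add_zero]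
  have hAge_of_proj : ∀ (n : ℕ) (a : A), (∀ m < n, GradedAlgebra.proj 𝒜 m a = 0) →
      a ∈ Groth.Agent.Lib.Helper43.Age 𝒜 n := by
    intro n a ha
    rw [← DirectSum.sum_support_decompose 𝒜 a]
    refine Submodule.sum_mem _ fun m hm => ?_
    by_cases hmn : n ≤ m
    · exact Groth.Agent.Lib.Helper43.le_Age 𝒜 hmn (SetLike.coe_mem _)
    · have := ha m (by omega)
      rw [GradedAlgebra.proj_apply] at this
      rw [this]
      exact Submodule.zero_mem _
  -- the kernel of `ρ` vanishes in degrees `≥ n₀`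
  have hK : ∀ n, n₀ ≤ n → ∀ a ∈ Groth.Agent.Lib.Helper43.Age 𝒜 (n + 1),
      ∃ b ∈ ℬ n, φ b = Polynomial.monomial n a ∧ π b = 0 := by
    intro n hn a ha
    refine Groth.Agent.Lib.Helper43.Age_induction 𝒜
      (motive := fun a => ∃ b ∈ ℬ n, φ b = Polynomial.monomial n a ∧ π b = 0) ?_ ?_ ?_ ha
    · intro m hm a ha
      obtain ⟨k, rfl⟩ : ∃ k, m = k + 1 := ⟨m - 1, by omega⟩
      rw [hn₀ k (by omega)] at ha
      refine Submodule.mul_induction_on ha ?_ ?_
      · intro u hu v hv
        obtain ⟨b₀, hb₀0, hb₀⟩ := Groth.Agent.Lib.Helper43.exists_of_mem_Age 𝒜 ℬ φ hdeg (n := 0)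
          (a := u) (by rw [Groth.Agent.Lib.Helper43.Age_zero]; trivial)
        have hb₀ker : π b₀ = 0 := by
          have : b₀ ∈ RingHom.ker π.toRingHom := by
            rw [hker]
            refine Ideal.subset_span ⟨u, ?_, ?_⟩
            · exact HomogeneousIdeal.mem_irrelevant_of_mem 𝒜 (by omega : 0 < 1) hu
            · rw [hb₀, Polynomial.monomial_zero_left]
          exact this
        obtain ⟨b₁, hb₁n, hb₁⟩ := Groth.Agent.Lib.Helper43.exists_of_mem_Age 𝒜 ℬ φ hdeg
          (Groth.Agent.Lib.Helper43.le_Age 𝒜 (by omega : n ≤ k) hv)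
        refine ⟨b₀ * b₁, ?_, ?_, ?_⟩
        · have := SetLike.mul_mem_graded hb₀0 hb₁n
          rwa [zero_add] at this
        · rw [map_mul, hb₀, hb₁, Polynomial.monomial_mul_monomial, zero_add]
        · rw [map_mul, hb₀ker, zero_mul]
      · rintro x y ⟨b, hb, hbφ, hbπ⟩ ⟨b', hb', hbφ', hbπ'⟩
        exact ⟨b + b', Submodule.add_mem _ hb hb', by rw [map_add, hbφ, hbφ', map_add],
          by rw [map_add, hbπ, hbπ', add_zero]⟩
    · exact ⟨0, Submodule.zero_mem _, by simp, by simp⟩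
    · rintro x y ⟨b, hb, hbφ, hbπ⟩ ⟨b', hb', hbφ', hbπ'⟩
      exact ⟨b + b', Submodule.add_mem _ hb hb', by rw [map_add, hbφ, hbφ', map_add],
        by rw [map_add, hbπ, hbπ', add_zero]⟩
  have hinj : ∀ n, n₀ ≤ n → ∀ c ∈ 𝒞 n, ρ c = 0 → c = 0 := by
    intro n hn c hc hρc
    obtain ⟨b', hb'⟩ := hπ c
    set b : B := (DirectSum.decompose ℬ b' n : B) with hbdef
    have hbn : b ∈ ℬ n := SetLike.coe_mem _
    have hπb : π b = c := by
      rw [hbdef, GradedRingHom.map_directSumDecompose, hb', DirectSum.decompose_of_mem_same 𝒞 hc]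
    obtain ⟨a, ha, hba⟩ := Groth.Agent.Lib.Helper43.exists_of_mem_B 𝒜 ℬ φ hdeg hbn
    have hpa : GradedAlgebra.proj 𝒜 n a = 0 := by
      rw [← Groth.Agent.Lib.Helper43.delta_of_mem 𝒜 ℬ φ hdeg hba, ← hρπ, hπb, hρc]
    have ha1 : a ∈ Groth.Agent.Lib.Helper43.Age 𝒜 (n + 1) := by
      apply hAge_of_proj
      intro m hm
      rcases Nat.lt_succ_iff_lt_or_eq.mp hm with h | h
      · exact hAge_proj n a ha m h
      · rw [h]; exact hpa
    obtain ⟨b₂, _, hb₂φ, hb₂π⟩ := hK n hn a ha1
    have : b = b₂ := hφ (by rw [hba, hb₂φ])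
    rw [← hπb, this, hb₂π]
  exact Groth.Agent.Lib.Helper43.proj_map_isIso ρ hirr (fun i hi s hs =>
    Groth.Agent.Lib.Helper43.away_map_bijective ρ hsurj n₀ hinj i hi s hs)

end Groth.Agent.S8311
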