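import Groth.Statements.S8312
import Groth.Agent.Lib.Helper43.NaturalFG
-- import your own Groth.Agent.* helpers here

set_option autoImplicit false
universe u
open scoped HomogeneousIdeal
open EGA2

namespace Groth.Agent.S8312

/-- Let S be a positively graded ring (an ℕ-graded R-algebra) and S♮ the graded ring with S♮_n = S_[n] =
⊕_{m ≥ n} S_m, presented as a graded ring S' with an injective algebra homomorphism φ : S' → S[X]
carrying S'_n onto S_[n]·X^n; for a homogeneous f ∈ S_d write f♮ for the element of S' with φ(f♮) =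
f·X^d (f placed in degree d of S♮). If (f_α) is a family of homogeneous elements of S of positive
degrees such that every element of the irrelevant ideal S_+ has a positive power in the ideal
generated by the f_α (that is, S_+ is the radical in S_+ of that ideal), then every element of the
irrelevant ideal S'_+ has a positive power in the ideal of S' generated by the f_α♮. -/
theorem result {R A B : Type u} [CommRing R] [CommRing A] [Algebra R A]
    (𝒜 : ℕ → Submodule R A) [GradedAlgebra 𝒜] [CommRing B] [Algebra R B] (ℬ : ℕ → Submodule R B) [GradedAlgebra ℬ]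
    (φ : B →ₐ[R] Polynomial A) (hφ : Function.Injective φ)
    (hdeg : ∀ n : ℕ, Submodule.map φ.toLinearMap (ℬ n) =
      Submodule.map ((Polynomial.monomial n : A →ₗ[A] Polynomial A).restrictScalars R) (⨆ (m : ℕ) (_ : n ≤ m), 𝒜 m))
    {ι : Type u} (d : ι → ℕ) (hd : ∀ a, 0 < d a) (f : ι → A) (hf : ∀ a, f a ∈ 𝒜 (d a))
    (hrad : ∀ g ∈ (HomogeneousIdeal.irrelevant 𝒜).toIdeal, ∃ n : ℕ, 0 < n ∧ g ^ n ∈ Ideal.span (Set.range f))
    (fn : ι → B) (hfn : ∀ a, φ (fn a) = Polynomial.monomial (d a) (f a)) :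
    ∀ g ∈ (HomogeneousIdeal.irrelevant ℬ).toIdeal, ∃ n : ℕ, 0 < n ∧ g ^ n ∈ Ideal.span (Set.range fn) := by
  classical
  set J := Ideal.span (Set.range fn) with hJ
  -- core: bihomogeneous elements
  have hcore : ∀ n, 1 ≤ n → ∀ m, n ≤ m → ∀ s ∈ 𝒜 m, ∀ b : B, φ b = Polynomial.monomial n s →
      b ∈ J.radical := by
    intro n hn m hnm s hs b hb
    have hsirr : s ∈ (HomogeneousIdeal.irrelevant 𝒜).toIdeal :=
      HomogeneousIdeal.mem_irrelevant_of_mem 𝒜 (by omega : 0 < m) hs
    obtain ⟨N, hN0, hN⟩ := hrad s hsirr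
    obtain ⟨c, hc⟩ := Finsupp.mem_ideal_span_range_iff_exists_finsupp.mp hN
    set D := c.support.sup d with hD
    set N' := N + D with hN'
    have hdle : ∀ a ∈ c.support, d a ≤ n * N' := by
      intro a ha
      have h1 : d a ≤ D := Finset.le_sup ha
      have h2 : N' ≤ n * N' := Nat.le_mul_of_pos_left _ (by omega)
      omega
    have hsN' : s ^ N' = ∑ a ∈ c.support, (s ^ D * c a) * f a := by
      rw [hN', pow_add, ← hc, Finsupp.sum, Finset.sum_mul]
      refine Finset.sum_congr rfl fun a _ => ?_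
      ring
    have hsN'mem : s ^ N' ∈ 𝒜 (m * N') := by
      have := SetLike.pow_mem_graded N' hs
      rwa [smul_eq_mul, mul_comm] at this
    -- homogeneous coefficients
    set c' : ι → A := fun a =>
      (DirectSum.decompose 𝒜 (s ^ D * c a) (m * N' - d a) : A) with hc'
    have hsN'2 : s ^ N' = ∑ a ∈ c.support, c' a * f a := by
      conv_lhs => rw [← DirectSum.decompose_of_mem_same 𝒜 hsN'mem, hsN']
      rw [DirectSum.decompose_sum, DFinsupp.finset_sum_apply, AddSubmonoidClass.coe_finset_sum]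
      refine Finset.sum_congr rfl fun a ha => ?_
      have h1 : d a ≤ m * N' := (hdle a ha).trans (Nat.mul_le_mul_right _ hnm)
      rw [DirectSum.coe_decompose_mul_of_right_mem_of_le 𝒜 (hf a) h1]
    have hc'Age : ∀ a ∈ c.support, c' a ∈ Groth.Agent.Lib.Helper43.Age 𝒜 (n * N' - d a) := by
      intro a ha
      refine Groth.Agent.Lib.Helper43.le_Age 𝒜 ?_ (SetLike.coe_mem _)
      have : n * N' ≤ m * N' := Nat.mul_le_mul_right _ hnm
      omega
    have hex : ∀ a, ∃ e : B, a ∈ c.support → φ e = Polynomial.monomial (n * N' - d a) (c' a) := by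
      intro a
      by_cases ha : a ∈ c.support
      · obtain ⟨e, _, he⟩ := Groth.Agent.Lib.Helper43.exists_of_mem_Age 𝒜 ℬ φ hdeg (hc'Age a ha)
        exact ⟨e, fun _ => he⟩
      · exact ⟨0, fun h => absurd h ha⟩
    choose e he using hex
    have hbN' : b ^ N' = ∑ a ∈ c.support, e a * fn a := by
      apply hφ
      rw [map_pow, hb, Polynomial.monomial_pow, map_sum, hsN'2, map_sum]
      refine Finset.sum_congr rfl fun a ha => ?_
      rw [map_mul φ, he a ha, hfn, Polynomial.monomial_mul_monomial,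
        Nat.sub_add_cancel (hdle a ha)]
    refine ⟨N', ?_⟩
    rw [hbN']
    exact Ideal.sum_mem _ fun a _ => Ideal.mul_mem_left _ _ (Ideal.subset_span ⟨a, rfl⟩)
  -- homogeneous elements of positive degree
  have hhom : ∀ n, 1 ≤ n → ∀ b ∈ ℬ n, b ∈ J.radical := by
    intro n hn b hb
    obtain ⟨s, hs, hbs⟩ := Groth.Agent.Lib.Helper43.exists_of_mem_B 𝒜 ℬ φ hdeg hb
    have key : s ∈ Groth.Agent.Lib.Helper43.Age 𝒜 n ∧
        ∀ b : B, φ b = Polynomial.monomial n s → b ∈ J.radical := by
      refine Groth.Agent.Lib.Helper43.Age_induction 𝒜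
        (motive := fun s => s ∈ Groth.Agent.Lib.Helper43.Age 𝒜 n ∧
          ∀ b : B, φ b = Polynomial.monomial n s → b ∈ J.radical) ?_ ?_ ?_ hs
      · intro m hnm s hs
        exact ⟨Groth.Agent.Lib.Helper43.le_Age 𝒜 hnm hs, hcore n hn m hnm s hs⟩
      · refine ⟨Submodule.zero_mem _, fun b hb => ?_⟩
        have : b = 0 := hφ (by rw [hb, map_zero, map_zero])
        rw [this]
        exact Ideal.zero_mem _
      · rintro s s' ⟨hs, hsr⟩ ⟨hs', hsr'⟩
        refine ⟨Submodule.add_mem _ hs hs', fun b hb => ?_⟩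
        obtain ⟨b₁, _, hb₁⟩ := Groth.Agent.Lib.Helper43.exists_of_mem_Age 𝒜 ℬ φ hdeg hs
        have h2 : φ (b - b₁) = Polynomial.monomial n s' := by
          rw [map_sub, hb, hb₁, map_add, add_sub_cancel_left]
        have : b = b₁ + (b - b₁) := by ring
        rw [this]
        exact Ideal.add_mem _ (hsr b₁ hb₁) (hsr' _ h2)
    exact key.2 b hbs
  intro g hg
  have hgrad : g ∈ J.radical := by
    rw [← DirectSum.sum_support_decompose ℬ g]
    refine Ideal.sum_mem _ fun n _ => ?_
    rcases Nat.eq_zero_or_pos n with rfl | hn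
    · have : (DirectSum.decompose ℬ g 0 : B) = 0 := hg
      rw [this]
      exact Ideal.zero_mem _
    · exact hhom n hn _ (SetLike.coe_mem _)
  obtain ⟨n, hn⟩ := hgrad
  rcases Nat.eq_zero_or_pos n with rfl | hn0
  · refine ⟨1, Nat.one_pos, ?_⟩
    rw [pow_zero] at hn
    rw [(Ideal.eq_top_iff_one J).mpr hn]
    trivial
  · exact ⟨n, hn0, hn⟩

end Groth.Agent.S8312
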