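import Groth.Statements.S8322
import Groth.Agent.Lib.Helper74.RelTildeQC

set_option autoImplicit false
universe u
open CategoryTheory CategoryTheory.Limits AlgebraicGeometry Opposite TopologicalSpace
open scoped HomogeneousIdeal
noncomputable section
open EGA2

namespace Groth.Agent.S8322

/-- Quasi-coherence: for a general quasi-coherent graded 𝒮-module ℳ: the module (ℳ(n))~ on P = Proj(𝒮),
given through its chartwise identifications with the modules (ℳ(U)(n))~ on the Proj 𝒮(U), is a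
quasi-coherent O_P-module. -/
theorem result {Y P : Scheme.{u}} (𝒮 : RelProj.QCGrAlg Y) (p : P ⟶ Y)
    (chart : ∀ (U : Y.Opens) (hU : IsAffineOpen U), (((p ⁻¹ᵁ U : P.Opens) : Scheme.{u}) ≅ Proj (𝒮.deg U hU)))
    (hP : RelProj.IsRelProj 𝒮 p chart) (ℳ : RelProj.GrModule 𝒮)
    (hℳ : Coh.IsQCoh ((AMod.toOS 𝒮.toQCAlg).obj ℳ.mod)) (n : ℤ) (F : P.Modules)
    (lam : ∀ (U : Y.Opens) (hU : IsAffineOpen U),
      F ⟶ (Scheme.Modules.pushforward (RelProj.emb p chart U hU)).obj (GrMod.tilde (𝒮.deg U hU) (ℳ.deg U hU) n))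
    (hF : RelProj.IsRelTilde 𝒮 p chart ℳ n F lam) : Coh.IsQCoh F := by
  refine Groth.Agent.Lib.Helper74.RelTilde.isQuasicoherent_of_charts F fun x => ?_
  obtain ⟨U, hU, hxU⟩ := Groth.Agent.Lib.Helper74.RelTilde.exists_affine_mem p x
  refine ⟨_, RelProj.emb p chart U hU, inferInstance, _,
    Groth.Agent.Lib.Helper60.TildeSec.isQuasicoherent_tilde _ _ n, lam U hU, ?_,
    fun W hW => hF.bijective U hU W ?_⟩
  · rw [Groth.Agent.Lib.Helper74.RelTilde.opensRange_emb]
    exact hxU
  · rw [← Groth.Agent.Lib.Helper74.RelTilde.opensRange_emb (chart := chart)]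
    exact hW

end Groth.Agent.S8322
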