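import Groth.Statements.S8324
-- import your own Groth.Agent.* helpers here
import Mathlib.Tactic

set_option autoImplicit false
universe u
open CategoryTheory CategoryTheory.Limits AlgebraicGeometry Opposite TopologicalSpace
open scoped HomogeneousIdeal
noncomputable section
open EGA2

namespace Groth.Agent.S8324

section helpers

variable {A σ : Type u} [CommRing A] [SetLike σ A] [AddSubgroupClass σ A] (𝒜 : ℕ → σ) [GradedRing 𝒜]
variable {M τ : Type u} [AddCommGroup M] [Module A M] [SetLike τ M] [AddSubgroupClass τ M] (ℳ : ℕ → τ)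
  [SetLike.GradedSMul 𝒜 ℳ]

theorem exists_pos_not_mem (x : ProjectiveSpectrum 𝒜) :
    ∃ (d : ℕ) (_ : 0 < d) (g : A), g ∈ 𝒜 d ∧ g ∉ x.asHomogeneousIdeal := by
  by_contra hcon
  push Not at hcon
  apply x.not_irrelevant_le
  rw [HomogeneousIdeal.irrelevant_le]
  intro i hi g hg
  exact hcon i hi g hg

omit [AddSubgroupClass τ M] in
theorem tildeAt_eq_zero (N : ℕ) (hN : ∀ k, N ≤ k → ∀ m ∈ ℳ k, (m : M) = 0) (n : ℤ)
    (x : ProjectiveSpectrum 𝒜) (q : GrMod.LocMod 𝒜 (M := M) x) (hq : q ∈ GrMod.tildeAt 𝒜 ℳ n x) : q = 0 := by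
  induction hq using Submodule.span_induction with
  | mem q h =>
    obtain ⟨i, j, m, s, hs, hij, rfl⟩ := h
    obtain ⟨d, hd, g, hg, hgx⟩ := exists_pos_not_mem 𝒜 x
    have hgN : g ^ N ∉ x.asHomogeneousIdeal := fun h => hgx (x.isPrime.mem_of_pow_mem N h)
    have hmem : g ^ N • (m : M) ∈ ℳ (N • d + i) :=
      SetLike.GradedSMul.smul_mem (SetLike.pow_mem_graded N hg) m.2
    have h0 : g ^ N • (m : M) = 0 := hN _ (by
      have : N ≤ N * d := Nat.le_mul_of_pos_right N hd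
      simp only [smul_eq_mul]; omega) _ hmem
    rw [← LocalizedModule.zero_mk (1 : x.asHomogeneousIdeal.toIdeal.primeCompl), LocalizedModule.mk_eq]
    refine ⟨⟨g ^ N, hgN⟩, ?_⟩
    rw [smul_zero, smul_zero, one_smul]
    exact h0
  | zero => rfl
  | add q q' _ _ h h' => rw [h, h', add_zero]
  | smul c q _ h => rw [h, smul_zero]


theorem sect_eq_zero (N : ℕ) (hN : ∀ k, N ≤ k → ∀ m ∈ ℳ k, (m : M) = 0) (n : ℤ)
    (V : (Proj 𝒜).Opens) (t : Γ(GrMod.tilde 𝒜 ℳ n, V)) : t = 0 := by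
  have : ∀ t : GrMod.sect 𝒜 ℳ n (op V), t = 0 := fun t =>
    Subtype.ext (funext fun x => Subtype.ext (tildeAt_eq_zero 𝒜 ℳ N hN n x.1 _ (t.1 x).2))
  exact this t

theorem isZero_of_sections {P : Scheme.{u}} (F : P.Modules)
    (h : ∀ (W : P.Opens) (s : Γ(F, W)), s = 0) : IsZero F := by
  rw [IsZero.iff_id_eq_zero]
  apply Scheme.Modules.hom_ext
  intro W
  ext s
  rw [h W s]
  simp

end helpers

/-- If the quasi-coherent graded 𝒮-module ℳ satisfies (TN) — its pieces of all large degrees vanish —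
then the module (ℳ(n))~ on P = Proj(𝒮) (given through its chartwise identifications) is zero, for
every integer n. -/
theorem result {Y P : Scheme.{u}} (𝒮 : RelProj.QCGrAlg Y) (p : P ⟶ Y)
    (chart : ∀ (U : Y.Opens) (hU : IsAffineOpen U), (((p ⁻¹ᵁ U : P.Opens) : Scheme.{u}) ≅ Proj (𝒮.deg U hU)))
    (hP : RelProj.IsRelProj 𝒮 p chart) (ℳ : RelProj.GrModule 𝒮)
    (hℳ : Coh.IsQCoh ((AMod.toOS 𝒮.toQCAlg).obj ℳ.mod)) (hTN : ℳ.IsTN) (n : ℤ) (F : P.Modules)
    (lam : ∀ (U : Y.Opens) (hU : IsAffineOpen U),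
      F ⟶ (Scheme.Modules.pushforward (RelProj.emb p chart U hU)).obj (GrMod.tilde (𝒮.deg U hU) (ℳ.deg U hU) n))
    (hF : RelProj.IsRelTilde 𝒮 p chart ℳ n F lam) : IsZero F := by
  obtain ⟨N, hN⟩ := hTN
  have h1 : ∀ (U : Y.Opens) (hU : IsAffineOpen U) (W : P.Opens), W ≤ p ⁻¹ᵁ U → ∀ s : Γ(F, W), s = 0 := by
    intro U hU W hW s
    apply (hF.bijective U hU W hW).1
    rw [map_zero]
    exact sect_eq_zero (𝒮.deg U hU) (ℳ.deg U hU) N (fun k hk m hm => hN U hU k hk m hm) n _ _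
  apply isZero_of_sections
  intro W s
  let ι := {U : Y.Opens // IsAffineOpen U}
  let Ucov : ι → P.Opens := fun U => W ⊓ p ⁻¹ᵁ U.1
  refine TopCat.Sheaf.eq_of_locally_eq' (⟨F.presheaf, F.isSheaf⟩ : TopCat.Sheaf Ab P) Ucov W
    (fun U => homOfLE inf_le_left) ?_ s 0 ?_
  · intro x hx
    obtain ⟨_, ⟨U, hU, rfl⟩, hxU, -⟩ := Y.isBasis_affineOpens.exists_subset_of_mem_open
      (Set.mem_univ (p x)) isOpen_univ
    exact Opens.mem_iSup.mpr ⟨⟨U, hU⟩, hx, hxU⟩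
  · intro U
    rw [h1 U.1 U.2 (Ucov U) inf_le_right (F.presheaf.map (homOfLE inf_le_left).op s), map_zero]


end Groth.Agent.S8324
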