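import Groth.Statements.S8325
-- import your own Groth.Agent.* helpers here
import Groth.Agent.Lib.Helper33.GrModFT2
import Groth.Agent.Lib.Helper64.FinTypeConv

set_option autoImplicit false
universe u
open CategoryTheory CategoryTheory.Limits AlgebraicGeometry Opposite TopologicalSpace
open scoped HomogeneousIdeal
noncomputable section
open EGA2

namespace Groth.Agent.S8325
open Groth.Agent.Lib.Helper33.GrModLib Groth.Agent.Lib.Helper33.GrModEpi Groth.Agent.Lib.Helper33.GrModFT Groth.Agent.Lib.Helper64.FinTypeStalk Groth.Agent.Lib.Helper78.ModStalk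


/-- Let 𝒮 be a quasi-coherent positively graded O_Y-algebra generated by 𝒮_1, with 𝒮_1 of finite type,
and ℳ a quasi-coherent graded 𝒮-module satisfying (TF). Then the module ℳ~ on P = Proj(𝒮) (given
through its chartwise identifications) is of finite type. -/
theorem result {Y P : Scheme.{u}} (𝒮 : RelProj.QCGrAlg Y) (p : P ⟶ Y)
    (chart : ∀ (U : Y.Opens) (hU : IsAffineOpen U), (((p ⁻¹ᵁ U : P.Opens) : Scheme.{u}) ≅ Proj (𝒮.deg U hU)))
    (hP : RelProj.IsRelProj 𝒮 p chart) (hgen : 𝒮.IsGenDegOne) (hft : 𝒮.IsFTDeg 1)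
    (ℳ : RelProj.GrModule 𝒮) (hℳ : Coh.IsQCoh ((AMod.toOS 𝒮.toQCAlg).obj ℳ.mod)) (hTF : ℳ.IsTF) (F : P.Modules)
    (lam : ∀ (U : Y.Opens) (hU : IsAffineOpen U),
      F ⟶ (Scheme.Modules.pushforward (RelProj.emb p chart U hU)).obj (GrMod.tilde (𝒮.deg U hU) (ℳ.deg U hU) 0))
    (hF : RelProj.IsRelTilde 𝒮 p chart ℳ 0 F lam) : CohB1.IsFT F := by
  classical
  obtain ⟨n₁, hTF⟩ := hTF
  apply isFiniteType_of_local_generators
  intro x
  obtain ⟨U, hU, hxU⟩ := exists_affine_mem p x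
  have hR : (RelProj.emb p chart U hU).opensRange = p ⁻¹ᵁ U := opensRange_emb U hU
  obtain ⟨x₁, hx₁⟩ : ∃ x₁, (RelProj.emb p chart U hU).base x₁ = x := by
    have : x ∈ (RelProj.emb p chart U hU).opensRange := hR ▸ hxU
    exact this
  obtain ⟨f, hf, hfx⟩ := exists_degOne_not_mem (𝒮.deg U hU) (hgen U hU) x₁
  obtain ⟨r, xg, dg, hxg, hspan⟩ := exists_homog_generators (A := 𝒮.presheaf.obj (op U))
    (ℳ.deg U hU) n₁ (hTF U hU)
  obtain ⟨σ, hσ⟩ := chart_generators (𝒮.deg U hU) (ℳ.deg U hU) (RelProj.emb p chart U hU) (lam U hU)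
    (fun W hW => hF.bijective U hU W (hW.trans hR.le)) f hf n₁ xg dg hxg hspan
  exact ⟨(RelProj.emb p chart U hU) ''ᵁ (ProjectiveSpectrum.basicOpen (𝒮.deg U hU) f),
    ⟨x₁, hfx, hx₁⟩, r, σ, hσ⟩

end Groth.Agent.S8325
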