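import Groth.Statements.S8326
-- import your own Groth.Agent.* helpers here
import Groth.Agent.Lib.Helper33.RelTN

set_option autoImplicit false
universe u
open CategoryTheory CategoryTheory.Limits AlgebraicGeometry Opposite TopologicalSpace
open scoped HomogeneousIdeal
noncomputable section
open EGA2

namespace Groth.Agent.S8326
open Groth.Agent.Lib.Helper33.GrModLib Groth.Agent.Lib.Helper33.GrModEpi Groth.Agent.Lib.Helper33.GrModFT Groth.Agent.Lib.Helper33.GrModTN Groth.Agent.Lib.Helper33.RelTN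


/-- Let Y be a scheme with quasi-compact underlying space, 𝒮 a quasi-coherent positively graded
O_Y-algebra generated by 𝒮_1 with 𝒮_1 of finite type, and ℳ a quasi-coherent graded 𝒮-module
satisfying (TF). If ℳ~ = 0 on P = Proj(𝒮), then ℳ satisfies (TN). (With (TN) asking for one degree
bound over the whole base, the implication needs the base quasi-compact: over an infinite disjoint
union of points carrying the polynomial algebra in one variable, the module equal on the i-th point
to the residue field placed in degree i and killed by the variable satisfies (TF), has zero attached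
module, and fails (TN). The published statement has no quasi-compactness hypothesis; its proof gives
a bound on each affine open. The converse direction holds for any base and any graded module.) -/
theorem result {Y P : Scheme.{u}} (𝒮 : RelProj.QCGrAlg Y) (p : P ⟶ Y)
    (chart : ∀ (U : Y.Opens) (hU : IsAffineOpen U), (((p ⁻¹ᵁ U : P.Opens) : Scheme.{u}) ≅ Proj (𝒮.deg U hU)))
    (hP : RelProj.IsRelProj 𝒮 p chart) [CompactSpace Y] (hgen : 𝒮.IsGenDegOne)
    (hft : 𝒮.IsFTDeg 1) (ℳ : RelProj.GrModule 𝒮) (hℳ : Coh.IsQCoh ((AMod.toOS 𝒮.toQCAlg).obj ℳ.mod)) (hTF : ℳ.IsTF)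
    (F : P.Modules)
    (lam : ∀ (U : Y.Opens) (hU : IsAffineOpen U),
      F ⟶ (Scheme.Modules.pushforward (RelProj.emb p chart U hU)).obj (GrMod.tilde (𝒮.deg U hU) (ℳ.deg U hU) 0))
    (hF : RelProj.IsRelTilde 𝒮 p chart ℳ 0 F lam) (h0 : IsZero F) : ℳ.IsTN := by
  classical
  obtain ⟨n₁, hTF⟩ := hTF
  have hF0 : ∀ (W : P.Opens) (s : Γ(F, W)), s = 0 := fun W s => section_eq_zero_of_isZero h0 W s
  -- local bounds
  have hlocal : ∀ (U : Y.Opens) (hU : IsAffineOpen U), ∃ n : ℕ, ∀ k, n ≤ k → ∀ m ∈ ℳ.deg U hU k, m = 0 := by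
    intro U hU
    have hR : (RelProj.emb p chart U hU).opensRange = p ⁻¹ᵁ U := opensRange_emb U hU
    obtain ⟨T, hT1, hT⟩ := hft U hU
    refine exists_bound (𝒮.deg U hU) (ℳ.deg U hU) (hgen U hU) T (fun t ht => hT1 ht) ?_ n₁ (hTF U hU) ?_
    · intro x hx
      obtain ⟨c, hc⟩ := hT x hx
      rw [hc]
      exact Ideal.sum_mem _ fun t ht => Ideal.mul_mem_left _ _ (Ideal.subset_span ht)
    · intro f hf d x hx y hy
      exact chart_zero (𝒮.deg U hU) (ℳ.deg U hU) (RelProj.emb p chart U hU) (lam U hU)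
        (fun W hW => (hF.bijective U hU W (hW.trans hR.le)).2) hF0 f hf d x hx y hy
  choose nb hnb using hlocal
  -- finite affine cover
  have hcov : ∀ y : Y, ∃ (U : Y.Opens), IsAffineOpen U ∧ y ∈ U := by
    intro y
    obtain ⟨_, ⟨U, hU, rfl⟩, hyU, -⟩ := Y.isBasis_affineOpens.exists_subset_of_mem_open
      (Set.mem_univ y) isOpen_univ
    exact ⟨U, hU, hyU⟩
  choose Uy hUy hyUy using hcov
  obtain ⟨t, ht⟩ := CompactSpace.elim_nhds_subcover (fun y => (Uy y : Set Y))
    (fun y => (Uy y).isOpen.mem_nhds (hyUy y))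
  refine ⟨t.sup fun y => nb (Uy y) (hUy y), fun U hU k hk m hm => ?_⟩
  refine deg_zero_of_cover 𝒮 ℳ hℳ k (fun y : t => Uy y.1) (fun y => hUy y.1) ?_ ?_ U hU m hm
  · intro y
    have : y ∈ ⋃ x ∈ t, (Uy x : Set Y) := ht ▸ Set.mem_univ y
    simp only [Set.mem_iUnion] at this
    obtain ⟨x, hx, hyx⟩ := this
    exact ⟨⟨x, hx⟩, hyx⟩
  · intro y m' hm'
    refine hnb (Uy y.1) (hUy y.1) k (le_trans ?_ hk) m' hm'
    exact Finset.le_sup (f := fun y => nb (Uy y) (hUy y)) y.2

end Groth.Agent.S8326
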