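import Groth.Statements.S8330
-- import your own Groth.Agent.* helpers here
import Groth.Agent.Lib.Helper33.GrModEpi

set_option autoImplicit false
universe u
open CategoryTheory CategoryTheory.Limits AlgebraicGeometry Opposite TopologicalSpace
open scoped HomogeneousIdeal
noncomputable section
open EGA2

namespace Groth.Agent.S8330
open Groth.Agent.Lib.Helper33.GrModLib Groth.Agent.Lib.Helper33.GrModEpi


/-- Let u : ℳ₁ → ℳ₂ and v : ℳ₂ → ℳ₃ be degree-preserving homomorphisms of quasi-coherent graded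
𝒮-modules with ℳ₁ → ℳ₂ → ℳ₃ exact (exactness of the sections over every affine open of Y), and let
ũ, ṽ be the induced maps between the modules (ℳᵢ(n))~ on P = Proj(𝒮) (pinned through the chartwise
identifications). Then (ℳ₁(n))~ → (ℳ₂(n))~ → (ℳ₃(n))~ is exact. -/
theorem result {Y P : Scheme.{u}} (𝒮 : RelProj.QCGrAlg Y) (p : P ⟶ Y)
    (chart : ∀ (U : Y.Opens) (hU : IsAffineOpen U), (((p ⁻¹ᵁ U : P.Opens) : Scheme.{u}) ≅ Proj (𝒮.deg U hU)))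
    (hP : RelProj.IsRelProj 𝒮 p chart) (ℳ₁ ℳ₂ ℳ₃ : RelProj.GrModule 𝒮)
    (h₁ : Coh.IsQCoh ((AMod.toOS 𝒮.toQCAlg).obj ℳ₁.mod)) (h₂ : Coh.IsQCoh ((AMod.toOS 𝒮.toQCAlg).obj ℳ₂.mod))
    (h₃ : Coh.IsQCoh ((AMod.toOS 𝒮.toQCAlg).obj ℳ₃.mod))
    (u : ℳ₁.mod ⟶ ℳ₂.mod) (hu : RelProj.IsGrModHom u) (v : ℳ₂.mod ⟶ ℳ₃.mod) (hv : RelProj.IsGrModHom v)
    (hex : ∀ (U : Y.Opens) (hU : IsAffineOpen U), Function.Exact (u.val.app (op U)).hom (v.val.app (op U)).hom)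
    (n : ℤ) (F₁ F₂ F₃ : P.Modules)
    (lam₁ : ∀ (U : Y.Opens) (hU : IsAffineOpen U),
      F₁ ⟶ (Scheme.Modules.pushforward (RelProj.emb p chart U hU)).obj (GrMod.tilde (𝒮.deg U hU) (ℳ₁.deg U hU) n))
    (hF₁ : RelProj.IsRelTilde 𝒮 p chart ℳ₁ n F₁ lam₁)
    (lam₂ : ∀ (U : Y.Opens) (hU : IsAffineOpen U),
      F₂ ⟶ (Scheme.Modules.pushforward (RelProj.emb p chart U hU)).obj (GrMod.tilde (𝒮.deg U hU) (ℳ₂.deg U hU) n))
    (hF₂ : RelProj.IsRelTilde 𝒮 p chart ℳ₂ n F₂ lam₂)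
    (lam₃ : ∀ (U : Y.Opens) (hU : IsAffineOpen U),
      F₃ ⟶ (Scheme.Modules.pushforward (RelProj.emb p chart U hU)).obj (GrMod.tilde (𝒮.deg U hU) (ℳ₃.deg U hU) n))
    (hF₃ : RelProj.IsRelTilde 𝒮 p chart ℳ₃ n F₃ lam₃)
    (ut : F₁ ⟶ F₂)
    (hut : ∀ (U : Y.Opens) (hU : IsAffineOpen U),
      ut ≫ lam₂ U hU =
        lam₁ U hU ≫ (Scheme.Modules.pushforward (RelProj.emb p chart U hU)).map
          (GrMod.map (𝒮.deg U hU)
            (show ℳ₁.mod.val.obj (op U) →ₗ[𝒮.presheaf.obj (op U)] ℳ₂.mod.val.obj (op U) from (u.val.app (op U)).hom)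
            (hu U hU) n))
    (vt : F₂ ⟶ F₃)
    (hvt : ∀ (U : Y.Opens) (hU : IsAffineOpen U),
      vt ≫ lam₃ U hU =
        lam₂ U hU ≫ (Scheme.Modules.pushforward (RelProj.emb p chart U hU)).map
          (GrMod.map (𝒮.deg U hU)
            (show ℳ₂.mod.val.obj (op U) →ₗ[𝒮.presheaf.obj (op U)] ℳ₃.mod.val.obj (op U) from (v.val.app (op U)).hom)
            (hv U hU) n))
    (w : ut ≫ vt = 0) : (ShortComplex.mk ut vt w).Exact := by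
  apply exact_of_locally
  intro W s₂ hs₂ x hx
  replace hs₂ : vt.app W s₂ = 0 := hs₂
  obtain ⟨U, hU, hxU⟩ := exists_affine_mem p x
  have hR : (RelProj.emb p chart U hU).opensRange = p ⁻¹ᵁ U := opensRange_emb U hU
  obtain ⟨x₁, hx₁⟩ : ∃ x₁, (RelProj.emb p chart U hU).base x₁ = x := by
    have : x ∈ (RelProj.emb p chart U hU).opensRange := hR ▸ hxU
    exact this
  have hW₁ : W ⊓ p ⁻¹ᵁ U ≤ (RelProj.emb p chart U hU).opensRange := inf_le_right.trans hR.ge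
  have hx₁W : x₁ ∈ (RelProj.emb p chart U hU) ⁻¹ᵁ (W ⊓ p ⁻¹ᵁ U) := by
    show (RelProj.emb p chart U hU).base x₁ ∈ W ⊓ p ⁻¹ᵁ U
    rw [hx₁]; exact ⟨hx, hxU⟩
  set s₀ := F₂.presheaf.map (homOfLE (inf_le_left : W ⊓ p ⁻¹ᵁ U ≤ W)).op s₂ with hs₀
  have hvs₀ : vt.app (W ⊓ p ⁻¹ᵁ U) s₀ = 0 := by
    rw [hs₀, hom_app_map, hs₂, map_zero]
  have ht₁ : (GrMod.map (𝒮.deg U hU)
      (show ℳ₂.mod.val.obj (op U) →ₗ[𝒮.presheaf.obj (op U)] ℳ₃.mod.val.obj (op U) from (v.val.app (op U)).hom)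
      (hv U hU) n).app ((RelProj.emb p chart U hU) ⁻¹ᵁ (W ⊓ p ⁻¹ᵁ U))
        ((lam₂ U hU).app (W ⊓ p ⁻¹ᵁ U) s₀) = 0 := by
    have h2 := congrArg (fun ψ => (Scheme.Modules.Hom.app ψ (W ⊓ p ⁻¹ᵁ U)) s₀) (hvt U hU)
    simp only [Scheme.Modules.Hom.comp_app, ConcreteCategory.comp_apply] at h2
    rw [hvs₀, map_zero] at h2
    exact h2.symm
  obtain ⟨W₂, hW₂, hxW₂, a, ha⟩ := local_lift (RelProj.emb p chart U hU) (lam₁ U hU) (lam₂ U hU)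
    (fun W' hW' => (hF₁.bijective U hU W' (hW'.trans hR.le)).2)
    (fun W' hW' => (hF₂.bijective U hU W' (hW'.trans hR.le)).1)
    ut _ (hut U hU) (W ⊓ p ⁻¹ᵁ U) hW₁ s₀ x₁
    (exists_local_lift_exact (A := 𝒮.presheaf.obj (op U)) (𝒮.deg U hU) (ℳ₁.deg U hU) (ℳ₂.deg U hU) (ℳ₃.deg U hU)
      (show ℳ₁.mod.val.obj (op U) →ₗ[𝒮.presheaf.obj (op U)] ℳ₂.mod.val.obj (op U) from (u.val.app (op U)).hom)
      (hu U hU)
      (show ℳ₂.mod.val.obj (op U) →ₗ[𝒮.presheaf.obj (op U)] ℳ₃.mod.val.obj (op U) from (v.val.app (op U)).hom)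
      (hv U hU) (hex U hU) n _ _ ht₁ x₁ hx₁W)
  refine ⟨W₂, hW₂.trans inf_le_left, hx₁ ▸ hxW₂, a, ?_⟩
  exact ha.trans (res_res F₂ inf_le_left hW₂ s₂)

end Groth.Agent.S8330
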