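import Groth.Statements.S8332
-- import your own Groth.Agent.* helpers here
import Groth.Agent.Lib.Helper33.GrModEpi

set_option autoImplicit false
universe u
open CategoryTheory CategoryTheory.Limits AlgebraicGeometry Opposite TopologicalSpace
open scoped HomogeneousIdeal
noncomputable section
open EGA2

namespace Groth.Agent.S8332
open Groth.Agent.Lib.Helper33.GrModLib Groth.Agent.Lib.Helper33.GrModEpi


/-- A (TN)-surjective degree-preserving homomorphism u : ℳ → 𝒩 of quasi-coherent graded 𝒮-modules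
(surjective on the pieces of all large degrees, one bound for the whole base) induces an epimorphism
ũ : (ℳ(n))~ → (𝒩(n))~ of modules on P = Proj(𝒮) (ũ pinned through the chartwise identifications). -/
theorem result {Y P : Scheme.{u}} (𝒮 : RelProj.QCGrAlg Y) (p : P ⟶ Y)
    (chart : ∀ (U : Y.Opens) (hU : IsAffineOpen U), (((p ⁻¹ᵁ U : P.Opens) : Scheme.{u}) ≅ Proj (𝒮.deg U hU)))
    (hP : RelProj.IsRelProj 𝒮 p chart) (ℳ 𝒩 : RelProj.GrModule 𝒮)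
    (hℳ : Coh.IsQCoh ((AMod.toOS 𝒮.toQCAlg).obj ℳ.mod)) (h𝒩 : Coh.IsQCoh ((AMod.toOS 𝒮.toQCAlg).obj 𝒩.mod))
    (u : ℳ.mod ⟶ 𝒩.mod) (hu : RelProj.IsGrModHom u)
    (hsurj : ∃ n₀ : ℕ, ∀ (U : Y.Opens) (hU : IsAffineOpen U) (k : ℕ), n₀ ≤ k →
      ∀ m' ∈ 𝒩.deg U hU k, ∃ m ∈ ℳ.deg U hU k, (u.val.app (op U)).hom m = m')
    (n : ℤ) (F : P.Modules)
    (lam : ∀ (U : Y.Opens) (hU : IsAffineOpen U),
      F ⟶ (Scheme.Modules.pushforward (RelProj.emb p chart U hU)).obj (GrMod.tilde (𝒮.deg U hU) (ℳ.deg U hU) n))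
    (hF : RelProj.IsRelTilde 𝒮 p chart ℳ n F lam) (G : P.Modules)
    (lam' : ∀ (U : Y.Opens) (hU : IsAffineOpen U),
      G ⟶ (Scheme.Modules.pushforward (RelProj.emb p chart U hU)).obj (GrMod.tilde (𝒮.deg U hU) (𝒩.deg U hU) n))
    (hG : RelProj.IsRelTilde 𝒮 p chart 𝒩 n G lam') (ut : F ⟶ G)
    (hut : ∀ (U : Y.Opens) (hU : IsAffineOpen U),
      ut ≫ lam' U hU =
        lam U hU ≫ (Scheme.Modules.pushforward (RelProj.emb p chart U hU)).map
          (GrMod.map (𝒮.deg U hU)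
            (show ℳ.mod.val.obj (op U) →ₗ[𝒮.presheaf.obj (op U)] 𝒩.mod.val.obj (op U) from (u.val.app (op U)).hom)
            (hu U hU) n)) : Epi ut := by
  obtain ⟨n₀, hn₀⟩ := hsurj
  apply epi_of_locally_surjective
  intro W t x hx
  obtain ⟨U, hU, hxU⟩ := exists_affine_mem p x
  have hR : (RelProj.emb p chart U hU).opensRange = p ⁻¹ᵁ U := opensRange_emb U hU
  obtain ⟨x₁, hx₁⟩ : ∃ x₁, (RelProj.emb p chart U hU).base x₁ = x := by
    have : x ∈ (RelProj.emb p chart U hU).opensRange := hR ▸ hxU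
    exact this
  have hW₁ : W ⊓ p ⁻¹ᵁ U ≤ (RelProj.emb p chart U hU).opensRange := inf_le_right.trans hR.ge
  have hx₁W : x₁ ∈ (RelProj.emb p chart U hU) ⁻¹ᵁ (W ⊓ p ⁻¹ᵁ U) := by
    show (RelProj.emb p chart U hU).base x₁ ∈ W ⊓ p ⁻¹ᵁ U
    rw [hx₁]; exact ⟨hx, hxU⟩
  obtain ⟨W₂, hW₂, hxW₂, a, ha⟩ := local_lift (RelProj.emb p chart U hU) (lam U hU) (lam' U hU)
    (fun W' hW' => (hF.bijective U hU W' (hW'.trans hR.le)).2)
    (fun W' hW' => (hG.bijective U hU W' (hW'.trans hR.le)).1)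
    ut _ (hut U hU) (W ⊓ p ⁻¹ᵁ U) hW₁ (G.presheaf.map (homOfLE inf_le_left).op t) x₁
    (exists_local_lift (A := 𝒮.presheaf.obj (op U)) (𝒮.deg U hU) (ℳ.deg U hU) (𝒩.deg U hU)
      (show ℳ.mod.val.obj (op U) →ₗ[𝒮.presheaf.obj (op U)] 𝒩.mod.val.obj (op U) from (u.val.app (op U)).hom)
      (hu U hU) n₀ (hn₀ U hU) n _ _ x₁ hx₁W)
  refine ⟨W₂, hW₂.trans inf_le_left, hx₁ ▸ hxW₂, a, ?_⟩
  exact ha.trans (res_res G inf_le_left hW₂ t)

end Groth.Agent.S8332
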