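import Groth.Statements.S8338
import Groth.Agent.Lib.Helper60.TildeQCoh
-- import your own Groth.Agent.* helpers here

set_option autoImplicit false
universe u
open CategoryTheory CategoryTheory.Limits AlgebraicGeometry Opposite TopologicalSpace
noncomputable section
open EGA2

namespace Groth.Agent.S8338

open Groth.Agent.Lib.Helper60.TildeSec in
theorem decompose_map {A : Type u} [CommRing A]
    {M₁ τ₁ : Type u} [AddCommGroup M₁] [Module A M₁] [SetLike τ₁ M₁] [AddSubgroupClass τ₁ M₁]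
    (ℳ₁ : ℕ → τ₁) [DirectSum.Decomposition ℳ₁]
    {M₂ τ₂ : Type u} [AddCommGroup M₂] [Module A M₂] [SetLike τ₂ M₂] [AddSubgroupClass τ₂ M₂]
    (ℳ₂ : ℕ → τ₂) [DirectSum.Decomposition ℳ₂]
    (u : M₁ →ₗ[A] M₂) (hu : ∀ (i : ℕ) (m : M₁), m ∈ ℳ₁ i → u m ∈ ℳ₂ i) (x : M₁) (j : ℕ) :
    ((DirectSum.decompose ℳ₂ (u x) j : ℳ₂ j) : M₂) =
      u ((DirectSum.decompose ℳ₁ x j : ℳ₁ j) : M₁) := by
  classical
  induction x using DirectSum.Decomposition.inductionOn ℳ₁ with
  | zero => simp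
  | @homogeneous i m =>
    by_cases hij : i = j
    · subst hij
      rw [DirectSum.decompose_of_mem_same ℳ₂ (hu i m m.2),
        DirectSum.decompose_of_mem_same ℳ₁ m.2]
    · rw [DirectSum.decompose_of_mem_ne ℳ₂ (hu i m m.2) hij,
        DirectSum.decompose_of_mem_ne ℳ₁ m.2 hij, map_zero]
  | add m m' h h' =>
    rw [map_add, DirectSum.decompose_add, DirectSum.decompose_add, DirectSum.add_apply,
      DirectSum.add_apply, AddMemClass.coe_add, AddMemClass.coe_add, map_add, h, h']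

/-- For an exact sequence M₁ → M₂ → M₃ of graded S-modules with degree-preserving maps u, v and every
integer n, the induced morphisms M₁(n)~ → M₂(n)~ → M₃(n)~ of modules on X = Proj S give an exact
sequence of sections over every basic open D_+(f), f homogeneous of positive degree (these opens are
affine and cover X, so the sequence of modules is exact). Gradings by additive subgroups, modules
graded in non-negative degrees. -/
theorem result {A σ : Type u} [CommRing A] [SetLike σ A] [AddSubgroupClass σ A] (𝒜 : ℕ → σ)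
    [GradedRing 𝒜] {M₁ τ₁ : Type u} [AddCommGroup M₁] [Module A M₁] [SetLike τ₁ M₁] [AddSubgroupClass τ₁ M₁]
    (ℳ₁ : ℕ → τ₁) [SetLike.GradedSMul 𝒜 ℳ₁] [DirectSum.Decomposition ℳ₁]
    {M₂ τ₂ : Type u} [AddCommGroup M₂] [Module A M₂] [SetLike τ₂ M₂] [AddSubgroupClass τ₂ M₂]
    (ℳ₂ : ℕ → τ₂) [SetLike.GradedSMul 𝒜 ℳ₂] [DirectSum.Decomposition ℳ₂]
    {M₃ τ₃ : Type u} [AddCommGroup M₃] [Module A M₃] [SetLike τ₃ M₃] [AddSubgroupClass τ₃ M₃]
    (ℳ₃ : ℕ → τ₃) [SetLike.GradedSMul 𝒜 ℳ₃] [DirectSum.Decomposition ℳ₃]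
    (u : M₁ →ₗ[A] M₂) (hu : ∀ (i : ℕ) (m : M₁), m ∈ ℳ₁ i → u m ∈ ℳ₂ i)
    (v : M₂ →ₗ[A] M₃) (hv : ∀ (i : ℕ) (m : M₂), m ∈ ℳ₂ i → v m ∈ ℳ₃ i)
    (hex : Function.Exact u v) (n : ℤ) {d : ℕ} (hd : 0 < d) (f : A) (hf : f ∈ 𝒜 d) :
    Function.Exact ((GrMod.map 𝒜 u hu n).app (Proj.basicOpen 𝒜 f))
      ((GrMod.map 𝒜 v hv n).app (Proj.basicOpen 𝒜 f)) := by
  classical
  intro s
  constructor
  · intro hs
    -- write `s` as a global fraction
    obtain ⟨K, e, m, hm, he, hsm⟩ := Groth.Agent.Lib.Helper60.TildeSec.exists_eq_frac 𝒜 ℳ₂ hd hf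
      (Proj.basicOpen 𝒜 f) (fun y => Proj.mem_basicOpen 𝒜 f y)
      (show GrMod.sect 𝒜 ℳ₂ n (op (Proj.basicOpen 𝒜 f)) from s)
    -- `v m` dies on `D₊(f)`
    obtain ⟨N, hN⟩ := Groth.Agent.Lib.Helper60.TildeSec.exists_pow_smul_eq_zero 𝒜 ℳ₃
      (hv e m hm) hd hf (by
      intro y hy
      have hyU : y ∈ Proj.basicOpen 𝒜 f := (Proj.mem_basicOpen 𝒜 f y).2 hy
      have h1 : GrMod.val ((GrMod.map 𝒜 v hv n).app (Proj.basicOpen 𝒜 f) s) ⟨y, hyU⟩ = 0 := by
        rw [hs]; rfl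
      rw [GrMod.map_app_val] at h1
      have h2 := hsm ⟨y, hyU⟩
      change GrMod.val s ⟨y, hyU⟩ = _ at h2
      rw [h2, GrMod.locMap_mk] at h1
      rw [← LocalizedModule.zero_mk (⟨f ^ K, fun h => hy (y.isPrime.mem_of_pow_mem K h)⟩ :
          y.asHomogeneousIdeal.toIdeal.primeCompl), LocalizedModule.mk_eq] at h1
      obtain ⟨c, hc⟩ := h1
      refine ⟨c.1 * f ^ K, fun h' => ?_, ?_⟩
      · rcases y.isPrime.mem_or_mem h' with h4 | h4
        · exact c.2 h4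
        · exact hy (y.isPrime.mem_of_pow_mem K h4)
      · rw [smul_zero, smul_zero] at hc
        rw [mul_smul]
        exact hc)
    have hvN : v (f ^ N • m) = 0 := by rw [map_smul, hN]
    obtain ⟨m₁, hm₁⟩ := (hex (f ^ N • m)).1 hvN
    have hfN : f ^ N ∈ 𝒜 (N * d) := by
      have := SetLike.pow_mem_graded N hf
      rwa [smul_eq_mul] at this
    have hfNm : f ^ N • m ∈ ℳ₂ (N * d + e) := SetLike.GradedSMul.smul_mem hfN hm
    -- homogeneous preimage
    have hm₁' : u ((DirectSum.decompose ℳ₁ m₁ (N * d + e) : ℳ₁ (N * d + e)) : M₁) = f ^ N • m := by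
      rw [← decompose_map ℳ₁ ℳ₂ u hu m₁ (N * d + e), hm₁,
        DirectSum.decompose_of_mem_same ℳ₂ hfNm]
    have hpow : f ^ (K + N) ∈ 𝒜 ((K + N) * d) := by
      have := SetLike.pow_mem_graded (K + N) hf
      rwa [smul_eq_mul] at this
    have hij : ((N * d + e : ℕ) : ℤ) = (((K + N) * d : ℕ) : ℤ) + n := by
      push_cast; rw [he]; ring
    refine ⟨Groth.Agent.Lib.Helper60.TildeSec.fracSec 𝒜 ℳ₁
      ((DirectSum.decompose ℳ₁ m₁ (N * d + e) : ℳ₁ (N * d + e)) : M₁) (SetLike.coe_mem _)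
      (f ^ (K + N)) hpow hij (Proj.basicOpen 𝒜 f)
      (fun y hy h => (Proj.mem_basicOpen 𝒜 f y).1 hy (y.isPrime.mem_of_pow_mem _ h)), ?_⟩
    apply Groth.Agent.Lib.Helper60.TildeSec.sec_ext
    intro y
    rw [GrMod.map_app_val, Groth.Agent.Lib.Helper60.TildeSec.fracSec_val, GrMod.locMap_mk, hm₁']
    have h2 := hsm y
    change GrMod.val s y = _ at h2
    rw [h2, LocalizedModule.mk_eq]
    refine ⟨1, ?_⟩
    rw [one_smul, one_smul, Submonoid.smul_def, Submonoid.smul_def]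
    change f ^ K • f ^ N • m = f ^ (K + N) • m
    rw [← mul_smul, ← pow_add]
  · rintro ⟨s₁, rfl⟩
    apply Groth.Agent.Lib.Helper60.TildeSec.sec_ext
    intro y
    rw [GrMod.map_app_val, GrMod.map_app_val]
    induction GrMod.val s₁ y using LocalizedModule.induction_on with
    | h m t =>
      rw [GrMod.locMap_mk, GrMod.locMap_mk]
      have : v (u m) = 0 := (hex (u m)).2 ⟨m, rfl⟩
      rw [this, LocalizedModule.zero_mk]
      rfl

end Groth.Agent.S8338
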