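import Groth.Statements.S8339
-- import your own Groth.Agent.* helpers here
import Groth.Agent.Lib.Helper33.GrModEpi
import Groth.Agent.Lib.Helper60.TildeSec

set_option autoImplicit false
universe u
open CategoryTheory CategoryTheory.Limits AlgebraicGeometry Opposite TopologicalSpace
open scoped HomogeneousIdeal
noncomputable section
open EGA2

namespace Groth.Agent.S8339
open Groth.Agent.Lib.Helper33.GrModLib Groth.Agent.Lib.Helper33.GrModEpi Groth.Agent.Lib.Helper60.TildeSec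

open DirectSum in
theorem decompose_map_fun {M τ : Type u} [AddCommGroup M] [SetLike τ M] [AddSubgroupClass τ M] (ℳ : ℕ → τ)
    [DirectSum.Decomposition ℳ]
    {N τ' : Type u} [AddCommGroup N] [SetLike τ' N] [AddSubgroupClass τ' N] (𝒩 : ℕ → τ')
    [DirectSum.Decomposition 𝒩]
    (f : M → N) (hf0 : f 0 = 0) (hfadd : ∀ a b, f (a + b) = f a + f b)
    (hf : ∀ (i : ℕ) (m : M), m ∈ ℳ i → f m ∈ 𝒩 i) (z : M) (k : ℕ) :
    f ((decompose ℳ z k : ℳ k) : M) = ((decompose 𝒩 (f z) k : 𝒩 k) : N) := by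
  classical
  induction z using DirectSum.Decomposition.inductionOn ℳ with
  | zero => simp [hf0]
  | @homogeneous i m =>
    by_cases h : i = k
    · subst h
      rw [DirectSum.decompose_of_mem_same ℳ m.2, DirectSum.decompose_of_mem_same 𝒩 (hf _ _ m.2)]
    · rw [DirectSum.decompose_of_mem_ne ℳ m.2 h, DirectSum.decompose_of_mem_ne 𝒩 (hf _ _ m.2) h, hf0]
  | add a b ha hb =>
    rw [DirectSum.decompose_add, hfadd, DirectSum.decompose_add]
    simp only [DirectSum.add_apply, AddMemClass.coe_add, hfadd, ha, hb]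


/-- Let ψ : S' → S be a homomorphism of graded rings with S_+ contained in the ideal generated by
ψ(S'_+), so that Φ : Proj S → Proj S' is everywhere defined, and let N be a graded S-module. If M is
the graded S'-module obtained from N by restriction of scalars along ψ — given here as any graded
S'-module with a degree-preserving bijective ψ-semilinear map v : M → N — then the canonical
morphism M(n)~ → Φ_*(N(n)~), m/f ↦ v(m)/ψ(f), is an isomorphism for every integer n. (The published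
statement is over the open G(ψ) where Φ is defined; the hypothesis on irrelevant ideals used here
forces G(ψ) = Proj S. For v not bijective this morphism is not an isomorphism in general. Gradings
by additive subgroups; modules graded in non-negative degrees.) -/
theorem result {A σ : Type u} [CommRing A] [SetLike σ A] [AddSubgroupClass σ A] {𝒜 : ℕ → σ}
    [GradedRing 𝒜] {B σ' : Type u} [CommRing B] [SetLike σ' B] [AddSubgroupClass σ' B] {ℬ : ℕ → σ'} [GradedRing ℬ]
    (ψ : 𝒜 →+*ᵍ ℬ) (hψ : ℬ₊ ≤ (𝒜₊).map ψ)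
    {M τ : Type u} [AddCommGroup M] [Module A M] [SetLike τ M] [AddSubgroupClass τ M] (ℳ : ℕ → τ)
    [SetLike.GradedSMul 𝒜 ℳ] [DirectSum.Decomposition ℳ]
    {N τ' : Type u} [AddCommGroup N] [Module B N] [SetLike τ' N] [AddSubgroupClass τ' N] (𝒩 : ℕ → τ')
    [SetLike.GradedSMul ℬ 𝒩] [DirectSum.Decomposition 𝒩]
    (v : M →ₛₗ[ψ.toRingHom] N) (hv : ∀ (i : ℕ) (m : M), m ∈ ℳ i → v m ∈ 𝒩 i) (hbij : Function.Bijective v)
    (n : ℤ) : IsIso (GrMod.comap ψ hψ v hv n) := by
  classical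
  have hbasic : ∀ (x : ProjectiveSpectrum 𝒜) (V : Opens (ProjectiveSpectrum.top 𝒜)), x ∈ V →
      ∃ (d : ℕ) (_ : 0 < d) (g : A), g ∈ 𝒜 d ∧ g ∉ x.asHomogeneousIdeal ∧
        ∀ y : ProjectiveSpectrum 𝒜, g ∉ y.asHomogeneousIdeal → y ∈ V := by
    intro x V hx
    obtain ⟨l, g, hg, hgx, hgV⟩ := exists_homogeneous_basicOpen_le 𝒜 x V hx
    obtain ⟨d, hd, h, hh, hhx⟩ := exists_pos_not_mem 𝒜 x
    refine ⟨l + d, by omega, g * h, SetLike.mul_mem_graded hg hh, ?_, ?_⟩
    · intro hmem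
      exact (x.isPrime.mem_or_mem hmem).elim hgx hhx
    · intro y hy
      exact hgV y (fun hgy => hy (Ideal.mul_mem_right _ _ hgy))
  have hmono : Mono (GrMod.comap ψ hψ v hv n) := by
    apply mono_of_injective
    intro W
    rw [injective_iff_map_eq_zero]
    intro s hs
    have key : ∀ s : GrMod.sect 𝒜 ℳ n (op W),
        GrMod.comapApp ψ hψ v hv n W (Proj.map ψ hψ ⁻¹ᵁ W) Set.Subset.rfl s = 0 → s = 0 := by
      intro s hs
      refine Subtype.ext (funext fun x => Subtype.ext ?_)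
      obtain ⟨Va, mem, ia, i, j, m, s₀, nin, c, w⟩ := s.2 x
      have w1 : (s.1 x).1 = LocalizedModule.mk (m : M) ⟨(s₀ : A), nin ⟨x.1, mem⟩⟩ := w ⟨x.1, mem⟩
      show (s.1 x).1 = 0
      rw [w1]
      obtain ⟨d, hd, g, hg, hgx, hgV⟩ := hbasic x.1 Va mem
      have hkill : ∃ K : ℕ, (ψ g) ^ K • v (m : M) = 0 := by
        apply exists_pow_smul_eq_zero ℬ 𝒩 (hv i m m.2) hd (ψ.map_mem hg)
        intro y hy
        have hyVa : ProjectiveSpectrum.comap ψ hψ y ∈ Va := hgV _ hy
        have hyW : ProjectiveSpectrum.comap ψ hψ y ∈ W := ia.le hyVa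
        have h0 : GrMod.locModMap ψ hψ v y (s.1 ⟨ProjectiveSpectrum.comap ψ hψ y, hyW⟩).1 = 0 :=
          congrArg (fun z : GrMod.sect ℬ 𝒩 n (op (Proj.map ψ hψ ⁻¹ᵁ W)) => ((z.1 ⟨y, hyW⟩).1)) hs
        have w2 : (s.1 ⟨ProjectiveSpectrum.comap ψ hψ y, hyW⟩).1 =
            LocalizedModule.mk (m : M) ⟨(s₀ : A), nin ⟨_, hyVa⟩⟩ := w ⟨_, hyVa⟩
        rw [w2, GrMod.locModMap_mk] at h0
        rw [← LocalizedModule.zero_mk (1 : y.asHomogeneousIdeal.toIdeal.primeCompl),
          LocalizedModule.mk_eq] at h0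
        obtain ⟨⟨c, hc⟩, h0⟩ := h0
        rw [smul_zero, smul_zero, one_smul] at h0
        exact ⟨c, hc, h0⟩
      obtain ⟨K, hK⟩ := hkill
      have hK' : g ^ K • (m : M) = 0 := by
        apply hbij.1
        rw [map_zero, LinearMap.map_smulₛₗ]
        show ψ (g ^ K) • v (m : M) = 0
        rw [map_pow]
        exact hK
      rw [← LocalizedModule.zero_mk (1 : x.1.asHomogeneousIdeal.toIdeal.primeCompl),
        LocalizedModule.mk_eq]
      refine ⟨⟨g ^ K, fun h => hgx (x.1.isPrime.mem_of_pow_mem K h)⟩, ?_⟩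
      rw [smul_zero, smul_zero, one_smul]
      exact hK'
    exact key s hs
  have hepi : Epi (GrMod.comap ψ hψ v hv n) := by
    apply epi_of_locally_surjective
    intro W t x hx
    obtain ⟨d, hd, g, hg, hgx, hgV⟩ := hbasic x W hx
    have hW' : ProjectiveSpectrum.basicOpen 𝒜 g ≤ W := fun y hy => hgV y hy
    set t' : GrMod.sect ℬ 𝒩 n (op (Proj.map ψ hψ ⁻¹ᵁ (ProjectiveSpectrum.basicOpen 𝒜 g))) :=
      (((Scheme.Modules.pushforward (Proj.map ψ hψ)).obj (GrMod.tilde ℬ 𝒩 n)).presheaf.map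
        (homOfLE hW').op).hom t with ht'
    have hU' : ∀ y, y ∈ (Proj.map ψ hψ ⁻¹ᵁ (ProjectiveSpectrum.basicOpen 𝒜 g) : Opens (ProjectiveSpectrum.top ℬ)) ↔
        ψ g ∉ y.asHomogeneousIdeal := fun y => Iff.rfl
    obtain ⟨K, e, m', hm', he, hval⟩ := exists_eq_frac ℬ 𝒩 hd (ψ.map_mem hg) _ hU' t'
    obtain ⟨z, hz⟩ := hbij.2 m'
    have hvm₁ : v ((DirectSum.decompose ℳ z e : ℳ e) : M) = m' := by
      rw [decompose_map_fun ℳ 𝒩 v (map_zero v) (map_add v) hv z e, hz,
        DirectSum.decompose_of_mem_same 𝒩 hm']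
    have nin : ∀ y : (ProjectiveSpectrum.basicOpen 𝒜 g : Opens (ProjectiveSpectrum.top 𝒜)),
        g ^ K ∉ y.1.asHomogeneousIdeal := fun y h => y.2 (y.1.isPrime.mem_of_pow_mem K h)
    have hij : (e : ℤ) = ((K • d : ℕ) : ℤ) + n := by
      rw [he, smul_eq_mul]; push_cast; ring
    have key : GrMod.comapApp ψ hψ v hv n (ProjectiveSpectrum.basicOpen 𝒜 g)
        (Proj.map ψ hψ ⁻¹ᵁ (ProjectiveSpectrum.basicOpen 𝒜 g)) Set.Subset.rfl
        (fracSect 𝒜 ℳ n (ProjectiveSpectrum.basicOpen 𝒜 g) (DirectSum.decompose ℳ z e)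
          ⟨g ^ K, SetLike.pow_mem_graded K hg⟩ hij nin) = t' := by
      refine Subtype.ext (funext fun y => Subtype.ext ?_)
      refine (GrMod.locModMap_mk ψ hψ v y.1 _ _).trans ?_
      refine Eq.trans ?_ (hval y).symm
      rw [hvm₁]
      congr 1
      exact Subtype.ext (map_pow ψ g K)
    exact ⟨ProjectiveSpectrum.basicOpen 𝒜 g, hW', hgx, _, key⟩
  exact isIso_of_mono_of_epi _

end Groth.Agent.S8339
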