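import Groth.Statements.S8346
-- import your own Groth.Agent.* helpers here

set_option autoImplicit false
universe u
open ConstrTop

namespace Groth.Agent.S8346

open Topology in
theorem isRetrocompact_of_isConstructible {X : Type u} [TopologicalSpace X] {s : Set X}
    (hs : IsConstructible s) : IsRetrocompact s := by
  induction s, hs using BooleanSubalgebra.closure_sdiff_sup_induction with
  | isSublattice =>
    exact ⟨fun s hs t ht ↦ ⟨hs.1.union ht.1, hs.2.union ht.2⟩,
      fun s hs t ht ↦ ⟨hs.1.inter ht.1, hs.2.inter_isOpen ht.2 ht.1⟩⟩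
  | bot_mem => exact ⟨isOpen_empty, .empty⟩
  | top_mem => exact ⟨isOpen_univ, .univ⟩
  | sdiff U hU V hV =>
    intro W hWc hWo
    have h1 : IsCompact (U ∩ W) := hU.2 hWc hWo
    have h2 : (U \ V) ∩ W = (U ∩ W) ∩ Vᶜ := by
      ext x; simp only [Set.mem_inter_iff, Set.mem_sdiff, Set.mem_compl_iff]; tauto
    rw [h2]
    exact h1.inter_right hV.1.isClosed_compl
  | sup s _ t _ hs' ht' => exact hs'.union ht'

open TopologicalSpace in
/-- Let X be a topological space admitting a basis of open subsets which are retrocompact in X. Then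
every locally constructible subset T of X is retrocompact in X. -/
theorem result {X : Type u} [TopologicalSpace X]
    {B : Set (Set X)} (hB : IsTopologicalBasis B) (hBr : ∀ U ∈ B, IsRetrocompact U) {T : Set X}
    (hT : Topology.IsLocallyConstructible T) : IsRetrocompact T := by
  intro V hVc hVo
  have key : ∀ x : X, x ∈ V → ∃ W : Set X, IsOpen W ∧ x ∈ W ∧ W ⊆ V ∧
      Topology.IsConstructible (W ∩ T) := by
    intro x hxV
    obtain ⟨U, hxU, hU, hUs⟩ := hT x
    have hxUV : U ∩ V ∈ nhds x := Filter.inter_mem hxU (hVo.mem_nhds hxV)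
    obtain ⟨W, hWB, hxW, hWUV⟩ := hB.mem_nhds_iff.mp hxUV
    have hWo : IsOpen W := hB.isOpen hWB
    have hWU : W ⊆ U := hWUV.trans Set.inter_subset_left
    have h1 : Topology.IsConstructible (Subtype.val ⁻¹' T : Set W) :=
      (hUs.preimage_of_isOpenEmbedding (Topology.IsOpenEmbedding.id.restrict hWU hWo) :)
    have h2 := h1.image_of_isOpenEmbedding hWo.isOpenEmbedding_subtypeVal
        (by simpa using hBr W hWB)
    rw [Subtype.image_preimage_coe] at h2
    exact ⟨W, hWo, hxW, hWUV.trans Set.inter_subset_right, h2⟩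
  choose! W hWo hxW hWV hWT using key
  obtain ⟨σ, hσ⟩ := hVc.elim_nhds_subcover' (fun x hx => W x)
    (fun x hx => (hWo x hx).mem_nhds (hxW x hx))
  have hEq : T ∩ V = ⋃ x ∈ σ, (W (x : X) ∩ T) ∩ V := by
    apply Set.Subset.antisymm
    · rintro y ⟨hyT, hyV⟩
      obtain ⟨x, hxσ, hyx⟩ := Set.mem_iUnion₂.mp (hσ hyV)
      exact Set.mem_iUnion₂.mpr ⟨x, hxσ, ⟨hyx, hyT⟩, hyV⟩
    · exact Set.iUnion₂_subset fun x _ => fun y hy => ⟨hy.1.2, hy.2⟩
  rw [hEq]
  exact σ.isCompact_biUnion fun x hx =>
    isRetrocompact_of_isConstructible (hWT x.1 x.2) hVc hVo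

end Groth.Agent.S8346
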