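import Groth.Statements.S8347
import Mathlib

set_option autoImplicit false
universe v u
open CategoryTheory CategoryTheory.Limits
open SpSeq

namespace Groth.Agent.S8347

theorem lemA {C : Type u} [Category.{v} C] [Abelian C] {r₀ : ℤ}
    (E : CohomologicalSpectralSequence C r₀) (pq : ℤ × ℤ) (k k' : ℤ) (h : k + 1 = k') (hk : r₀ ≤ k)
    (hz : IsZero ((E.page k hk).X pq)) : IsZero ((E.page k' (by omega)).X pq) := by
  have h1 : IsZero ((E.page k hk).homology pq) :=
    ShortComplex.isZero_homology_of_isZero_X₂ _ hz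
  exact IsZero.of_iso h1 (E.iso k k' pq h hk).symm

/-- the iso between consecutive pages at a stationary position -/
noncomputable def isoB {C : Type u} [Category.{v} C] [Abelian C] {r₀ : ℤ}
    (E : CohomologicalSpectralSequence C r₀) (pq : ℤ × ℤ) (k k' : ℤ) (h : k + 1 = k') (hk : r₀ ≤ k)
    (hd1 : (E.page k hk).d (pq - (k, 1 - k)) pq = 0) (hd2 : (E.page k hk).d pq (pq + (k, 1 - k)) = 0) :
    (E.page k hk).X pq ≅ (E.page k' (by omega)).X pq :=
  ((E.page k hk).pOpcyclesIso (pq - (k, 1 - k)) pq
      (ComplexShape.prev_eq' _ (by simp [ComplexShape.up'])) hd1) ≪≫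
  ((E.page k hk).isoHomologyι pq (pq + (k, 1 - k))
      (ComplexShape.next_eq' _ (by simp [ComplexShape.up'])) hd2).symm ≪≫
  (E.iso k k' pq h hk)

/-- stationary from `s`: pages `k` and `k + n` iso -/
theorem iso_of_stationary {C : Type u} [Category.{v} C] [Abelian C] {r₀ : ℤ}
    (E : CohomologicalSpectralSequence C r₀) (pq : ℤ × ℤ) (s : ℤ) (hs : StationaryAt E pq s) :
    ∀ (n : ℕ) (k k' : ℤ) (hk : r₀ ≤ k) (hk' : r₀ ≤ k'), s ≤ k → k + n = k' →
      Nonempty ((E.page k hk).X pq ≅ (E.page k' hk').X pq) := by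
  intro n
  induction n with
  | zero =>
    intro k k' hk hk' _ h
    have : k = k' := by simpa using h
    subst this
    exact ⟨Iso.refl _⟩
  | succ n ih =>
    intro k k' hk hk' hsk h
    obtain ⟨hd1, hd2⟩ := hs.2 k hk hsk
    obtain ⟨e⟩ := ih (k + 1) k' (by omega) hk' (by omega) (by push_cast at h; omega)
    exact ⟨isoB E pq k (k + 1) rfl hk hd1 hd2 ≪≫ e⟩

theorem isZero_stat {C : Type u} [Category.{v} C] [Abelian C] {r₀ : ℤ}
    (E : CohomologicalSpectralSequence C r₀) (r : ℤ) (hr : r₀ ≤ r) (pq : ℤ × ℤ)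
    (h : IsZero ((E.page r hr).X pq)) (s : ℤ) (hs : StationaryAt E pq s) :
    IsZero ((E.page s hs.1).X pq) := by
  by_cases hle : r ≤ s
  · have part1 : ∀ (k : ℤ) (hk : r ≤ k), IsZero ((E.page k (hr.trans hk)).X pq) := by
      intro k hk
      induction k, hk using Int.leInduction with
      | base => exact h
      | succ n hmn ih => exact lemA E pq n (n + 1) rfl (hr.trans hmn) ih
    exact part1 s hle
  · obtain ⟨e⟩ := iso_of_stationary E pq s hs (r - s).toNat s r hs.1 hr le_rfl (by omega)
    exact IsZero.of_iso h e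

theorem fil_eq_of_isZero_gr {C : Type u} [Category.{v} C] [Abelian C] {X : C}
    (F : ℤ → Subobject X) (hF : Antitone F) (p : ℤ) (h : IsZero (grPiece F hF p)) :
    F p = F (p + 1) := by
  apply le_antisymm _ (hF (Int.le_add_one le_rfl))
  have hepi : Epi ((F (p + 1)).ofLE (F p) (hF (Int.le_add_one le_rfl))) :=
    Preadditive.epi_of_isZero_cokernel' _ (cokernelIsCokernel _) h
  have hiso : IsIso ((F (p + 1)).ofLE (F p) (hF (Int.le_add_one le_rfl))) :=
    isIso_of_mono_of_epi _
  refine Subobject.le_of_comm (inv ((F (p + 1)).ofLE (F p) (hF (Int.le_add_one le_rfl)))) ?_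
  rw [IsIso.inv_comp_eq, Subobject.ofLE_arrow]

theorem isIso_cokernel_π_of_eq_zero {C : Type u} [Category.{v} C] [Abelian C] {X Y : C}
    (f : X ⟶ Y) (h : f = 0) : IsIso (cokernel.π f) := by
  subst h; infer_instance

theorem iso_gr_of_top_bot {C : Type u} [Category.{v} C] [Abelian C] {X : C}
    (F : ℤ → Subobject X) (hF : Antitone F) (p : ℤ) (htop : F p = ⊤) (hbot : F (p + 1) = ⊥) :
    Nonempty (X ≅ grPiece F hF p) := by
  have h1 : IsIso (F p).arrow := (Subobject.isIso_arrow_iff_eq_top _).mpr htop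
  have hz : IsZero ((F (p + 1) : Subobject X) : C) := by
    rw [hbot]; exact (isZero_zero C).of_iso Subobject.botCoeIsoZero
  have h0 : (F (p + 1)).ofLE (F p) (hF (Int.le_add_one le_rfl)) = 0 := hz.eq_of_src _ _
  have h2 : IsIso (cokernel.π ((F (p + 1)).ofLE (F p) (hF (Int.le_add_one le_rfl)))) :=
    isIso_cokernel_π_of_eq_zero _ h0
  have e2 : ((F p : Subobject X) : C) ≅
      cokernel ((F (p + 1)).ofLE (F p) (hF (Int.le_add_one le_rfl))) :=
    asIso (cokernel.π ((F (p + 1)).ofLE (F p) (hF (Int.le_add_one le_rfl))))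
  exact ⟨(asIso (F p).arrow).symm ≪≫ e2⟩

theorem gr_congr {C : Type u} [Category.{v} C] [Abelian C] {r₀ : ℤ}
    {E : CohomologicalSpectralSequence C r₀} {H : ℤ → C} (a : SpSeq.Abutment E H) (m n p : ℤ)
    (h : m = n) : Nonempty (grPiece (a.fil m) (a.anti m) p ≅ grPiece (a.fil n) (a.anti n) p) := by
  subst h; exact ⟨Iso.refl _⟩

/-- Let E be a spectral sequence in an abelian category with abutment data (H^m), and suppose that for
some page r and every total degree m there is an integer q(m) such that E_r^{m-q,q} = 0 for every q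
other than q(m). Let n be a total degree such that the filtration of H^n is discrete (some step is
zero) and exhaustive (H^n is the supremum of the steps), and such that the position (n - q(n), q(n))
is stationary from page r on. Then H^n is isomorphic to E_r^{n-q(n), q(n)}. (The published statement
asserts this without any condition on the differentials at the surviving positions; that version
fails when a differential d_r links the surviving terms of two consecutive total degrees, for
instance a spectral sequence whose only nonzero page-2 terms are E_2^{0,1} and E_2^{2,0} with d_2 an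
isomorphism between them and zero abutment. The stationarity assumed here is automatic when q(m)
does not depend on m and r ≥ 2.) -/
theorem result {C : Type u} [Category.{v} C] [Abelian C] {r₀ : ℤ}
    (E : CohomologicalSpectralSequence C r₀) {H : ℤ → C} (a : SpSeq.Abutment E H)
    (r : ℤ) (hr : r₀ ≤ r) (q : ℤ → ℤ)
    (hdeg : ∀ m q' : ℤ, q' ≠ q m → IsZero ((E.page r hr).X (m - q', q')))
    (n : ℤ) (hdisc : (a.filObj n).IsDiscrete) (hexh : a.IsExhaustive n)
    (hst : SpSeq.StationaryAt E (n - q n, q n) r) :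
    Nonempty (H n ≅ (E.page r hr).X (n - q n, q n)) := by
  set p₀ := n - q n with hp₀
  -- graded pieces vanish away from p₀
  have hgr : ∀ p : ℤ, p ≠ p₀ → IsZero (grPiece (a.fil n) (a.anti n) p) := by
    intro p hp
    have hz : IsZero ((E.page r hr).X (p, n - p)) := by
      have := hdeg n (n - p) (by omega)
      simpa using this
    have hz2 := isZero_stat E r hr (p, n - p) hz (a.rk (p, n - p)) (a.stat (p, n - p))
    have hβ := a.β (p, n - p)
    have hz3 := IsZero.of_iso hz2 hβ.symm
    have hn : p + (n - p) = n := by omega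
    simp only at hz3
    rw [hn] at hz3
    exact hz3
  have hF := a.anti n
  have heq_up : ∀ k : ℕ, a.fil n (p₀ + 1 + k) = a.fil n (p₀ + 1) := by
    intro k
    induction k with
    | zero => simp
    | succ k ih =>
      rw [← ih]
      have := fil_eq_of_isZero_gr (a.fil n) hF (p₀ + 1 + k) (hgr _ (by omega))
      rw [this]
      congr 1
      push_cast; ring
  have heq_down : ∀ k : ℕ, a.fil n (p₀ - k) = a.fil n p₀ := by
    intro k
    induction k with
    | zero => simp
    | succ k ih =>
      rw [← ih]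
      have := fil_eq_of_isZero_gr (a.fil n) hF (p₀ - (k + 1 : ℕ)) (hgr _ (by push_cast; omega))
      rw [this]
      congr 1
      push_cast; ring
  obtain ⟨b, hb⟩ := hdisc
  have hb' : a.fil n b = ⊥ := hb
  have hbot : a.fil n (p₀ + 1) = ⊥ := by
    by_cases hle : b ≤ p₀ + 1
    · exact le_bot_iff.mp (hb' ▸ hF hle)
    · have := heq_up (b - (p₀ + 1)).toNat
      rw [← this]
      have e : p₀ + 1 + ((b - (p₀ + 1)).toNat : ℤ) = b := by omega
      rw [e, hb']
  have htop : a.fil n p₀ = ⊤ := by
    have hub : a.fil n p₀ ∈ upperBounds (Set.range (a.fil n)) := by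
      rintro _ ⟨p, rfl⟩
      by_cases hle : p₀ ≤ p
      · exact hF hle
      · have := heq_down (p₀ - p).toNat
        have e : p₀ - ((p₀ - p).toNat : ℤ) = p := by omega
        rw [e] at this
        rw [this]
    exact top_le_iff.mp (hexh.2 hub)
  obtain ⟨e1⟩ := iso_gr_of_top_bot (a.fil n) hF p₀ htop hbot
  obtain ⟨e2⟩ := gr_congr a (p₀ + q n) n p₀ (by omega)
  have e3 := a.β (p₀, q n)
  have e4 : Nonempty ((E.page (a.rk (p₀, q n)) (a.stat (p₀, q n)).1).X (p₀, q n) ≅
      (E.page r hr).X (p₀, q n)) := by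
    by_cases hle : r ≤ a.rk (p₀, q n)
    · obtain ⟨e⟩ := iso_of_stationary E (p₀, q n) r hst (a.rk (p₀, q n) - r).toNat r
        (a.rk (p₀, q n)) hr (a.stat (p₀, q n)).1 le_rfl (by omega)
      exact ⟨e.symm⟩
    · exact iso_of_stationary E (p₀, q n) (a.rk (p₀, q n)) (a.stat (p₀, q n))
        (r - a.rk (p₀, q n)).toNat (a.rk (p₀, q n)) r (a.stat (p₀, q n)).1 hr le_rfl (by omega)
  obtain ⟨e4⟩ := e4
  exact ⟨e1 ≪≫ e2.symm ≪≫ e3.symm ≪≫ e4⟩

end Groth.Agent.S8347
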