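import Groth.Statements.S8348
import Mathlib

set_option autoImplicit false
universe v u
open CategoryTheory CategoryTheory.Limits
open HomAlg3

namespace Groth.Agent.S8348

/-- Let C be an abelian category and Q a cochain complex of objects of C in degrees 0, 1, 2, ... such
that every Q^i is injective, every homology object H^i(Q) with i ≥ 1 is zero, and every inclusion of
the cycles Z^i(Q) into Q^i (i ≥ 0) is a split monomorphism. Then Q is an injective object of the
category of cochain complexes of C indexed by the natural numbers. (The published statement is for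
the narrower class of complexes with Z^i(Q) = B^i(Q) for every i ≥ 0, which in degree 0, where there
is no incoming differential, forces Z^0(Q) = 0; this row allows a nonzero Z^0(Q), so that it pairs
with the embedding of an arbitrary complex into such a Q. Such a Q is the direct sum of Z^0(Q)
placed in degree 0 and of the two-term complexes with Z^{i+1}(Q) in degrees i and i+1 and the
identity as differential, and the published argument carries over with Z^i(Q) in place of B^i(Q) as
the first summand of Q^i.) -/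
theorem result {C : Type u} [Category.{v} C] [Abelian C]
    (Q : CochainComplex C ℕ) (hinj : ∀ i : ℕ, Injective (Q.X i)) (hac : ∀ i : ℕ, IsZero (Q.homology (i + 1)))
    (hsplit : ∀ i : ℕ, IsSplitMono (Q.iCycles i)) : Injective Q := by
  classical
  -- exactness in positive degrees
  have hex : ∀ i, (Q.sc' i (i + 1) (i + 2)).Exact := by
    intro i
    rw [← HomologicalComplex.exactAt_iff' Q i (i + 1) (i + 2) (by simp) (by simp),
      HomologicalComplex.exactAt_iff_isZero_homology]
    exact hac i
  have hepi : ∀ i, Epi (Q.toCycles i (i + 1)) := by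
    intro i
    rw [epi_iff_surjective_up_to_refinements]
    intro W y
    have h0 : (y ≫ Q.iCycles (i + 1)) ≫ (Q.sc' i (i + 1) (i + 2)).g = 0 := by
      change (y ≫ Q.iCycles (i + 1)) ≫ Q.d (i + 1) (i + 2) = 0
      simp
    obtain ⟨W', π, hπ, x₁, hx₁⟩ := (hex i).exact_up_to_refinements (y ≫ Q.iCycles (i + 1)) h0
    refine ⟨W', π, hπ, x₁, ?_⟩
    rw [← cancel_mono (Q.iCycles (i + 1))]
    simp only [Category.assoc, HomologicalComplex.toCycles_i]
    exact hx₁
  -- the short complexes Z^i → Q^i → Z^{i+1}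
  let S : ℕ → ShortComplex C := fun i =>
    ShortComplex.mk (Q.iCycles i) (Q.toCycles i (i + 1)) (by
      rw [← cancel_mono (Q.iCycles (i + 1))]
      simp)
  have hSex : ∀ i, (S i).Exact := by
    intro i
    rw [ShortComplex.exact_iff_exact_up_to_refinements]
    intro W x₂ hx₂
    have hx₂' : x₂ ≫ Q.toCycles i (i + 1) = 0 := hx₂
    have h0 : x₂ ≫ Q.d i (i + 1) = 0 := by
      rw [← Q.toCycles_i i (i + 1), ← Category.assoc, hx₂', zero_comp]
    refine ⟨W, 𝟙 W, inferInstance, Q.liftCycles x₂ (i + 1) (by simp) h0, ?_⟩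
    change 𝟙 W ≫ x₂ = Q.liftCycles x₂ (i + 1) (by simp) h0 ≫ Q.iCycles i
    simp
  have σ : ∀ i, (S i).Splitting := fun i =>
    haveI := hsplit i
    ShortComplex.Splitting.ofExactOfRetraction (S i) (hSex i) (retraction (Q.iCycles i))
      (IsSplitMono.id (Q.iCycles i)) (hepi i)
  let r : ∀ i, Q.X i ⟶ Q.cycles i := fun i => (σ i).r
  let s : ∀ i, Q.cycles (i + 1) ⟶ Q.X i := fun i => (σ i).s
  have hfr : ∀ i, Q.iCycles i ≫ r i = 𝟙 _ := fun i => (σ i).f_r
  have hsg : ∀ i, s i ≫ Q.toCycles i (i + 1) = 𝟙 _ := fun i => (σ i).s_g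
  have hid : ∀ i, r i ≫ Q.iCycles i + Q.toCycles i (i + 1) ≫ s i = 𝟙 _ := fun i => (σ i).id
  have hsd : ∀ i, s i ≫ Q.d i (i + 1) = Q.iCycles (i + 1) := by
    intro i
    rw [← Q.toCycles_i i (i + 1), ← Category.assoc, hsg, Category.id_comp]
  constructor
  intro A B g m hm
  haveI := hinj
  -- extend u_i = g_i ≫ r_i along m_i
  have hext : ∀ i, ∃ ũ : B.X i ⟶ Q.cycles i, m.f i ≫ ũ = g.f i ≫ r i := by
    intro i
    refine ⟨Injective.factorThru (g.f i ≫ r i ≫ Q.iCycles i) (m.f i) ≫ r i, ?_⟩
    rw [← Category.assoc, Injective.comp_factorThru]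
    simp only [Category.assoc, hfr, Category.comp_id]
  choose ũ hũ using hext
  -- key relation for g
  have hg : ∀ i, g.f i ≫ Q.toCycles i (i + 1) = A.d i (i + 1) ≫ g.f (i + 1) ≫ r (i + 1) := by
    intro i
    have h1 : g.f i ≫ Q.toCycles i (i + 1) ≫ Q.iCycles (i + 1) = A.d i (i + 1) ≫ g.f (i + 1) := by
      rw [Q.toCycles_i, g.comm]
    have h1' := h1 =≫ r (i + 1)
    simp only [Category.assoc] at h1'
    rw [hfr, Category.comp_id] at h1'
    exact h1'
  let h : B ⟶ Q :=
    { f := fun i => ũ i ≫ Q.iCycles i + B.d i (i + 1) ≫ ũ (i + 1) ≫ s i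
      comm' := by
        intro i j hij
        have hij' : i + 1 = j := hij
        subst hij'
        simp only [Preadditive.add_comp, Preadditive.comp_add, Category.assoc,
          HomologicalComplex.iCycles_d, comp_zero, zero_add, hsd,
          HomologicalComplex.d_comp_d_assoc, zero_comp, add_zero] }
  refine ⟨h, ?_⟩
  ext i
  change m.f i ≫ (ũ i ≫ Q.iCycles i + B.d i (i + 1) ≫ ũ (i + 1) ≫ s i) = g.f i
  have e1 : m.f i ≫ ũ i ≫ Q.iCycles i = g.f i ≫ r i ≫ Q.iCycles i := by
    rw [← Category.assoc, hũ, Category.assoc]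
  have e2 : m.f i ≫ B.d i (i + 1) ≫ ũ (i + 1) ≫ s i =
      A.d i (i + 1) ≫ g.f (i + 1) ≫ r (i + 1) ≫ s i := by
    rw [← Category.assoc, m.comm, Category.assoc, ← Category.assoc (m.f (i + 1)), hũ,
      Category.assoc]
  have e3 : g.f i ≫ Q.toCycles i (i + 1) ≫ s i =
      A.d i (i + 1) ≫ g.f (i + 1) ≫ r (i + 1) ≫ s i := by
    rw [← Category.assoc, hg]
    simp only [Category.assoc]
  rw [Preadditive.comp_add, e1, e2, ← e3, ← Preadditive.comp_add, hid, Category.comp_id]

end Groth.Agent.S8348
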