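import Groth.Statements.S8349
import Mathlib

set_option autoImplicit false
universe v u
open CategoryTheory CategoryTheory.Limits
open HomAlg3

namespace Groth.Agent.S8349

/-- Let C be an abelian category in which every object embeds in an injective object, and let A be a
cochain complex of objects of C in degrees 0, 1, 2, .... Then there are a cochain complex Q, with
every Q^i injective, H^i(Q) = 0 for every i ≥ 1 and every cycle inclusion Z^i(Q) ⟶ Q^i (i ≥ 0) a
split monomorphism, and a monomorphism of complexes A ⟶ Q. (The published statement asks Z^i(Q) =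
B^i(Q) for every i ≥ 0; in degree 0, where there is no incoming differential, this makes Z^0(Q) = 0,
and then no complex with nonzero degree-0 cycles, for instance a nonzero object placed in degree 0,
embeds in such a Q, because the degree-0 component of a chain map into Q factors through Z^0(Q).
This row asks vanishing homology in positive degrees only; the published construction, which embeds
each A^i in an injective I^i and takes Q^i = I^i ⊕ I^{i+1}, proves that version once an injective
I^0 containing A^0 is used in degree 0 as well.) -/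
theorem result {C : Type u} [Category.{v} C] [Abelian C]
    [EnoughInjectives C] (A : CochainComplex C ℕ) :
    ∃ (Q : CochainComplex C ℕ) (f : A ⟶ Q), Mono f ∧ (∀ i : ℕ, Injective (Q.X i)) ∧
      (∀ i : ℕ, IsZero (Q.homology (i + 1))) ∧ ∀ i : ℕ, IsSplitMono (Q.iCycles i) := by
  classical
  let I : ℕ → C := fun i => Injective.under (A.X i)
  let e : ∀ i, A.X i ⟶ I i := fun i => Injective.ι (A.X i)
  let QX : ℕ → C := fun i => I i ⊞ I (i + 1)
  let Qd : ∀ i, QX i ⟶ QX (i + 1) := fun i => biprod.snd ≫ biprod.inl
  have hsq : ∀ i, Qd i ≫ Qd (i + 1) = 0 := by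
    intro i
    simp [Qd]
  let Q : CochainComplex C ℕ := CochainComplex.of QX Qd hsq
  have hQd : ∀ i, Q.d i (i + 1) = Qd i := fun i => CochainComplex.of_d QX Qd i
  let f : A ⟶ Q :=
    { f := fun i => biprod.lift (e i) (A.d i (i + 1) ≫ e (i + 1))
      comm' := by
        intro i j hij
        have hij' : i + 1 = j := hij
        subst hij'
        rw [hQd]
        apply biprod.hom_ext
        · simp [Qd, QX]
        · simp [Qd, QX] }
  refine ⟨Q, f, ?_, ?_, ?_, ?_⟩
  · haveI : ∀ i, Mono (f.f i) := by
      intro i
      have h1 : f.f i ≫ biprod.fst = e i := by simp [f]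
      haveI : Mono (f.f i ≫ biprod.fst) := by rw [h1]; infer_instance
      exact mono_of_mono (f.f i) biprod.fst
    exact HomologicalComplex.mono_of_mono_f f inferInstance
  · intro i
    change Injective (I i ⊞ I (i + 1))
    infer_instance
  · intro i
    rw [← HomologicalComplex.exactAt_iff_isZero_homology,
      HomologicalComplex.exactAt_iff' Q i (i + 1) (i + 2) (by simp) (by simp),
      ShortComplex.exact_iff_exact_up_to_refinements]
    intro W x₂ hx₂
    let x : W ⟶ QX (i + 1) := x₂
    refine ⟨W, 𝟙 W, inferInstance, x ≫ (biprod.fst ≫ biprod.inr : QX (i + 1) ⟶ QX i), ?_⟩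
    have hx : x ≫ Q.d (i + 1) (i + 2) = 0 := hx₂
    change 𝟙 W ≫ x = (x ≫ biprod.fst ≫ biprod.inr) ≫ Q.d i (i + 1)
    rw [hQd] at hx ⊢
    have h2 : x ≫ (biprod.snd : QX (i + 1) ⟶ I (i + 1 + 1)) = 0 := by
      have := hx =≫ (biprod.fst : QX (i + 2) ⟶ I (i + 1 + 1))
      simpa only [Qd, Category.assoc, biprod.inl_fst, Category.comp_id, zero_comp] using this
    rw [Category.id_comp]
    apply biprod.hom_ext
    · simp only [Qd, Category.assoc, biprod.inr_snd_assoc, biprod.inl_fst, Category.comp_id]
    · simp only [Qd, Category.assoc, biprod.inr_snd_assoc, biprod.inl_snd, comp_zero, h2]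
  · intro i
    have hz : Q.iCycles i ≫ (biprod.snd : QX i ⟶ _) = 0 := by
      have := Q.iCycles_d i (i + 1)
      rw [hQd] at this
      have := this =≫ (biprod.fst : QX (i + 1) ⟶ _)
      simpa [Qd, QX] using this
    refine ⟨⟨Q.liftCycles (biprod.fst ≫ biprod.inl : QX i ⟶ QX i) (i + 1) (by simp) ?_, ?_⟩⟩
    · rw [hQd]
      simp [Qd, QX]
    · rw [← cancel_mono (Q.iCycles i)]
      simp only [Category.assoc, HomologicalComplex.liftCycles_i, Category.id_comp]
      apply biprod.hom_ext
      · simp [QX]
      · simp [QX, hz]

end Groth.Agent.S8349
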