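import Groth.Statements.S8351
import Groth.Agent.Lib.Helper13.HDUPush
import Mathlib.Algebra.Homology.DerivedCategory.RightDerivedFunctorPlus

set_option autoImplicit false
universe u
open CategoryTheory CategoryTheory.Limits TopologicalSpace
open CohCx

namespace Groth.Agent.S8351

/-- For abelian sheaves on topological spaces and a complex bounded below. Let f : X ⟶ Y be a continuous
map and K a bounded below complex of abelian sheaves on X. For every p, the p-th cohomology sheaf of
the derived direct image R f_*(K) (bounded below right derived functor of f_*, computed with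
injective resolutions) is isomorphic to the sheaf associated with the presheaf U ↦ H^p(f⁻¹(U), K) on
Y, where H^p(V, K) denotes hypercohomology (morphisms from the free abelian sheaf on V to K[p] in
the derived category). (The published statement is for modules over arbitrary ringed spaces,
complexes unbounded via Cartan-Eilenberg resolutions, and a canonical isomorphism; here only the
existence of an isomorphism is asserted, and the derived categories are assumed to exist with
morphism types in the universe of X and Y.) -/
theorem result {X Y : TopCat.{u}} (f : X ⟶ Y)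
    [HasDerivedCategory.{u} (CohTop.Ab X)] [HasDerivedCategory.{u} (CohTop.Ab Y)]
    (K : CochainComplex.Plus (CohTop.Ab X)) (p : ℤ) :
    Nonempty ((DerivedCategory.Plus.homologyFunctor (CohTop.Ab Y) p).obj
        ((CohTop.push f).rightDerivedFunctorPlus.obj
          (DerivedCategory.Plus.Qh.obj ((HomotopyCategory.Plus.quotient (CohTop.Ab X)).obj K))) ≅
      (presheafToSheaf (Opens.grothendieckTopology Y) AddCommGrpCat.{u}).obj
        ((Opens.map f).op ⋙ CohCx.HDUPresheaf (DerivedCategory.Q.obj K.obj) p)) := by
  obtain ⟨n, hn⟩ := K.property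
  haveI : K.obj.IsStrictlyGE n := hn
  obtain ⟨L, _, i, hi⟩ := CochainComplex.Plus.exists_quasiIso_injective K n
  let KL := (InjectiveObject.ι (CohTop.Ab X)).mapCochainComplexPlus.obj L
  let I : CochainComplex (CohTop.Ab X) ℤ := KL.obj
  haveI : I.IsKInjective :=
    inferInstanceAs (CochainComplex.IsKInjective
      (((InjectiveObject.ι (CohTop.Ab X)).mapHomologicalComplex (.up ℤ)).obj L.obj))
  have hq : QuasiIso i.hom := hi
  haveI : IsIso (DerivedCategory.Q.map i.hom) := by
    rw [DerivedCategory.isIso_Q_map_iff_quasiIso]; exact hq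
  let eD : DerivedCategory.Q.obj K.obj ≅ DerivedCategory.Q.obj I := asIso (DerivedCategory.Q.map i.hom)
  -- right hand side
  let F := CohTop.push f
  let G := (F.mapHomologicalComplex (ComplexShape.up ℤ)).obj I
  obtain ⟨eR⟩ := Groth.Agent.Lib.Helper13.HDUSect.sheafify_push_iso_homology f I p
  let eR' : (presheafToSheaf (Opens.grothendieckTopology Y) AddCommGrpCat.{u}).obj
        ((Opens.map f).op ⋙ CohCx.HDUPresheaf (DerivedCategory.Q.obj K.obj) p) ≅ G.homology p :=
    (presheafToSheaf _ _).mapIso (Functor.isoWhiskerLeft (Opens.map f).op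
      (Functor.isoWhiskerLeft _ (preadditiveYoneda.mapIso ((shiftFunctor _ p).mapIso eD)))) ≪≫ eR
  -- left hand side
  have hi' : HomotopyCategory.Plus.quasiIso (CohTop.Ab X)
      ((HomotopyCategory.Plus.quotient (CohTop.Ab X)).map i) := by
    rw [HomotopyCategory.Plus.quasiIso_iff]
    exact (HomotopyCategory.quotient_map_mem_quasiIso_iff i.hom).2 hq
  haveI : IsIso (DerivedCategory.Plus.Qh.map ((HomotopyCategory.Plus.quotient (CohTop.Ab X)).map i)) :=
    Localization.inverts DerivedCategory.Plus.Qh (HomotopyCategory.Plus.quasiIso (CohTop.Ab X)) _ hi'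
  let RF := F.rightDerivedFunctorPlus
  let e1 : RF.obj (DerivedCategory.Plus.Qh.obj ((HomotopyCategory.Plus.quotient (CohTop.Ab X)).obj K)) ≅
      RF.obj (DerivedCategory.Plus.Qh.obj ((HomotopyCategory.Plus.quotient (CohTop.Ab X)).obj KL)) :=
    RF.mapIso (asIso (DerivedCategory.Plus.Qh.map ((HomotopyCategory.Plus.quotient (CohTop.Ab X)).map i)))
  haveI : IsIso (F.rightDerivedFunctorPlusUnit.app
      ((HomotopyCategory.Plus.quotient (CohTop.Ab X)).obj KL)) := inferInstance
  let e2 : (F.mapHomotopyCategoryPlus ⋙ DerivedCategory.Plus.Qh).obj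
        ((HomotopyCategory.Plus.quotient (CohTop.Ab X)).obj KL) ≅
      RF.obj (DerivedCategory.Plus.Qh.obj ((HomotopyCategory.Plus.quotient (CohTop.Ab X)).obj KL)) :=
    asIso (F.rightDerivedFunctorPlusUnit.app ((HomotopyCategory.Plus.quotient (CohTop.Ab X)).obj KL))
  let e3 : (DerivedCategory.Plus.homologyFunctor (CohTop.Ab Y) p).obj
        ((F.mapHomotopyCategoryPlus ⋙ DerivedCategory.Plus.Qh).obj
          ((HomotopyCategory.Plus.quotient (CohTop.Ab X)).obj KL)) ≅ G.homology p :=
    (DerivedCategory.homologyFunctor (CohTop.Ab Y) p).mapIso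
      (DerivedCategory.Qh.mapIso ((F.mapHomotopyCategoryFactors (ComplexShape.up ℤ)).app I)) ≪≫
      (DerivedCategory.homologyFunctorFactors (CohTop.Ab Y) p).app G
  exact ⟨(DerivedCategory.Plus.homologyFunctor (CohTop.Ab Y) p).mapIso (e1 ≪≫ e2.symm) ≪≫ e3 ≪≫ eR'.symm⟩

end Groth.Agent.S8351
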