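import Groth.Statements.S8352
import Mathlib.CategoryTheory.Limits.Types.Limits
import Mathlib.CategoryTheory.Limits.ConcreteCategory.Basic
-- import your own Groth.Agent.* helpers here

set_option autoImplicit false
universe u
open CategoryTheory CategoryTheory.Limits Opposite
open HomAlg3

namespace Groth.Agent.S8352


theorem map_congr_hom (G : ℕᵒᵖ ⥤ Type u) {a b : ℕᵒᵖ} (f g : a ⟶ b) : G.map f = G.map g := by
  rw [Subsingleton.elim f g]

theorem exists_section (G : ℕᵒᵖ ⥤ Type u) (hG : G.IsMittagLeffler) (p : ℕ) (x : G.obj (op p))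
    (hx : x ∈ G.eventualRange (op p)) : ∃ s : G.sections, s.val (op p) = x := by
  have step : ∀ n : ℕ, ∀ y : {y : G.obj (op n) // y ∈ G.eventualRange (op n)},
      ∃ y' : {y : G.obj (op (n + 1)) // y ∈ G.eventualRange (op (n + 1))},
        G.map (homOfLE (Nat.le_succ n)).op y'.1 = y.1 := by
    intro n y
    obtain ⟨y', hy', e⟩ := hG.subset_image_eventualRange G (homOfLE (Nat.le_succ n)).op y.2
    exact ⟨⟨y', hy'⟩, e⟩
  choose next hnext using step
  let Y : (n : ℕ) → {y : G.obj (op (p + n)) // y ∈ G.eventualRange (op (p + n))} :=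
    fun n => Nat.rec ⟨x, hx⟩ (fun n y => next (p + n) y) n
  have hY0 : (Y 0).1 = x := rfl
  have hYs : ∀ n, G.map (homOfLE (Nat.le_succ (p + n))).op (Y (n + 1)).1 = (Y n).1 :=
    fun n => hnext (p + n) (Y n)
  have compat : ∀ m n (h : m ≤ n),
      G.map (homOfLE (Nat.add_le_add_left h p)).op (Y n).1 = (Y m).1 := by
    intro m n h
    induction n, h using Nat.le_induction with
    | base =>
      rw [map_congr_hom G _ (𝟙 _), G.map_id]
      rfl
    | succ n h ih =>
      rw [map_congr_hom G _ ((homOfLE (Nat.le_succ (p + n))).op ≫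
        (homOfLE (Nat.add_le_add_left h p)).op), FunctorToTypes.map_comp_apply, hYs n, ih]
  refine ⟨⟨fun k => G.map (homOfLE (Nat.le_add_left k.unop p)).op (Y k.unop).1, ?_⟩, ?_⟩
  · intro j j' f
    have hle : j'.unop ≤ j.unop := leOfHom f.unop
    change G.map f (G.map (homOfLE (Nat.le_add_left j.unop p)).op (Y j.unop).1) =
      G.map (homOfLE (Nat.le_add_left j'.unop p)).op (Y j'.unop).1
    rw [← compat j'.unop j.unop hle, ← FunctorToTypes.map_comp_apply,
      ← FunctorToTypes.map_comp_apply]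
    rw [map_congr_hom G ((homOfLE (Nat.le_add_left j.unop p)).op ≫ f)
      ((homOfLE (Nat.add_le_add_left hle p)).op ≫ (homOfLE (Nat.le_add_left j'.unop p)).op)]
  · change G.map (homOfLE (Nat.le_add_left p p)).op (Y p).1 = x
    rw [← hY0, ← compat 0 p (Nat.zero_le p)]

theorem mem_range_limit_π (F : ℕᵒᵖ ⥤ AddCommGrpCat.{u})
    (hF : (F ⋙ forget AddCommGrpCat).IsMittagLeffler) (q : ℕ) (x : F.obj (op q))
    (hx : ∀ (k : ℕ) (hk : q ≤ k), x ∈ (F.map (homOfLE hk).op).hom.range) :
    x ∈ (limit.π F (op q)).hom.range := by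
  have hx' : x ∈ (F ⋙ forget AddCommGrpCat).eventualRange (op q) := by
    rw [Functor.mem_eventualRange_iff]
    intro i f
    have hle : q ≤ i.unop := leOfHom f.unop
    obtain ⟨y, hy⟩ := hx i.unop hle
    refine ⟨y, ?_⟩
    rw [← hy]
    have : f = (homOfLE hle).op := Subsingleton.elim _ _
    rw [this]
    rfl
  obtain ⟨s, hs⟩ := exists_section _ hF q x hx'
  have hlim := isLimitOfPreserves (forget AddCommGrpCat) (limit.isLimit F)
  refine ⟨(Types.isLimitEquivSections hlim).symm s, ?_⟩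
  have := Types.isLimitEquivSections_symm_apply hlim s (op q)
  rw [hs] at this
  exact this

/-- Category of abelian groups, system indexed by the natural numbers: Let (A_k) be an inverse system of
abelian groups satisfying the Mittag-Leffler condition, A = lim A_k with projections π_p : A ⟶ A_p.
Filter A and each A_k by the kernels of the maps to A_{p-1} (with A_{-1} = 0); the graded piece
gr^p(A) is identified with Im(π_p) ∩ Ker(A_p ⟶ A_{p-1}) and gr^p(A_k), k ≥ p, with Im(A_k ⟶ A_p) ∩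
Ker(A_p ⟶ A_{p-1}), a decreasing family of subgroups of A_p. The statement gr^p(A) ≅ lim_k gr^p(A_k)
then reads: Im(π_0) = ⋂_k Im(A_k ⟶ A_0), and for every p, Im(π_{p+1}) ∩ Ker(A_{p+1} ⟶ A_p) = ⋂_{k ≥
p+1} (Im(A_k ⟶ A_{p+1}) ∩ Ker(A_{p+1} ⟶ A_p)). -/
theorem result (F : ℕᵒᵖ ⥤ AddCommGrpCat.{u})
    (hF : (F ⋙ forget AddCommGrpCat).IsMittagLeffler) :
    (limit.π F (op 0)).hom.range = ⨅ k : ℕ, (F.map (homOfLE (Nat.zero_le k)).op).hom.range ∧
      ∀ p : ℕ, (limit.π F (op (p + 1))).hom.range ⊓ (F.map (homOfLE (Nat.le_succ p)).op).hom.ker =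
        ⨅ (k : ℕ) (hk : p + 1 ≤ k),
          (F.map (homOfLE hk).op).hom.range ⊓ (F.map (homOfLE (Nat.le_succ p)).op).hom.ker := by
  have hw : ∀ (q k : ℕ) (hk : q ≤ k) (z : ↑(limit F)),
      (F.map (homOfLE hk).op).hom ((limit.π F (op k)).hom z) = (limit.π F (op q)).hom z := by
    intro q k hk z
    have := limit.w F (homOfLE hk).op
    rw [← this]
    rfl
  refine ⟨?_, ?_⟩
  · apply le_antisymm
    · rintro _ ⟨z, rfl⟩
      rw [AddSubgroup.mem_iInf]
      intro k
      exact ⟨(limit.π F (op k)).hom z, hw 0 k (Nat.zero_le k) z⟩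
    · intro x hx
      rw [AddSubgroup.mem_iInf] at hx
      exact mem_range_limit_π F hF 0 x (fun k _ => hx k)
  · intro p
    apply le_antisymm
    · rintro x ⟨⟨z, rfl⟩, hker⟩
      simp only [AddSubgroup.mem_iInf]
      intro k hk
      exact ⟨⟨(limit.π F (op k)).hom z, hw (p + 1) k hk z⟩, hker⟩
    · intro x hx
      simp only [AddSubgroup.mem_iInf] at hx
      refine ⟨?_, (hx (p + 1) le_rfl).2⟩
      exact mem_range_limit_π F hF (p + 1) x (fun k hk => (hx k hk).1)

end Groth.Agent.S8352
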