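import Groth.Statements.S8353
import Groth.Agent.Lib.Helper63.FiltApprox
import Mathlib.RingTheory.Noetherian.Basic
import Mathlib.RingTheory.Finiteness.Basic

set_option autoImplicit false
universe u
open HomAlg3

namespace Groth.Agent.S8353

open Groth.Agent.Lib.Helper63.FiltApprox

theorem exists_fg_lift {S : Type u} [CommRing S] {M : Type u} [AddCommGroup M] [Module S M]
    (P Q : Submodule S M) (h : (Submodule.map Q.mkQ P).FG) :
    ∃ N : Submodule S M, N.FG ∧ N ≤ P ∧ P ≤ N ⊔ Q := by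
  classical
  obtain ⟨T, hT⟩ := h
  have hTm : ∀ t ∈ T, ∃ x ∈ P, Q.mkQ x = t := by
    intro t ht
    have : t ∈ Submodule.map Q.mkQ P := by rw [← hT]; exact Submodule.subset_span ht
    exact this
  choose! g hgP hgt using hTm
  refine ⟨Submodule.span S (g '' (T : Set (M ⧸ Q))), Submodule.fg_span (T.finite_toSet.image _),
    ?_, ?_⟩
  · rw [Submodule.span_le]
    rintro _ ⟨t, ht, rfl⟩
    exact hgP t ht
  · intro x hx
    have h1 : Q.mkQ x ∈ Submodule.map Q.mkQ (Submodule.span S (g '' (T : Set (M ⧸ Q)))) := by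
      rw [Submodule.map_span, ← Set.image_comp]
      have : (Q.mkQ ∘ g) '' (T : Set (M ⧸ Q)) = (T : Set (M ⧸ Q)) := by
        ext y
        constructor
        · rintro ⟨t, ht, rfl⟩
          simpa [hgt t ht] using ht
        · intro hy
          exact ⟨y, hy, hgt y hy⟩
      rw [this, hT]
      exact Submodule.mem_map_of_mem hx
    obtain ⟨y, hy, hyx⟩ := h1
    have h2 : x - y ∈ Q := by
      rw [← Submodule.Quotient.mk_eq_zero, Submodule.Quotient.mk_sub]
      exact sub_eq_zero.mpr hyx.symm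
    have : x = y + (x - y) := by abel
    rw [this]
    exact Submodule.add_mem_sup hy h2

theorem c_imp_a {S : Type u} [CommRing S] [IsNoetherianRing S]
    (J : Ideal S) [IsAdicComplete J S] {M : Type u} [AddCommGroup M] [Module S M]
    (F : ℤ → Submodule S M) (hF : Antitone F) (hcod : ∃ p₀ : ℤ, F p₀ = ⊤)
    (hJ : ∀ p : ℤ, J • F p ≤ F (p + 1)) (hsep : ⨅ p : ℤ, F p = ⊥)
    (hfg : ∀ p : ℤ, (Submodule.map (F (p + 1)).mkQ (F p)).FG)
    (p₁ : ℤ) (hp₁ : ∀ p : ℤ, p₁ ≤ p → F (p + 1) = J • F p ⊔ F (p + 2)) :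
    Module.Finite S M ∧ ∀ p : ℤ, p₁ ≤ p → J • F p = F (p + 1) := by
  let G : ℕ → Submodule S M := fun k => F (p₁ + k)
  have hG1 : ∀ k, G (k + 1) = F (p₁ + k + 1) := by
    intro k
    change F _ = F _
    congr 1
    push_cast
    ring
  have hG2 : ∀ k, G (k + 2) = F (p₁ + k + 2) := by
    intro k
    change F _ = F _
    congr 1
    push_cast
    ring
  have hanti : ∀ k, G (k + 1) ≤ G k := fun k => hF (by push_cast; omega)
  have hJG : ∀ k, J • G k ≤ G (k + 1) := fun k => by rw [hG1]; exact hJ _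
  have hJpow : ∀ k i, J ^ k • G i ≤ G (i + k) := by
    intro k
    induction k with
    | zero => intro i; simp
    | succ k ih =>
      intro i
      rw [pow_succ', mul_smul]
      calc J • J ^ k • G i ≤ J • G (i + k) := smul_mono_right _ (ih i)
        _ ≤ G (i + k + 1) := hJG _
  have hGstep : ∀ k, G (k + 1) = J • G k ⊔ G (k + 2) := by
    intro k
    rw [hG1, hG2]
    exact hp₁ (p₁ + k) (by omega)
  have hA : ∀ k, G k ≤ J ^ k • G 0 ⊔ G (k + 1) := by
    intro k
    induction k with
    | zero => simp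
    | succ k ih =>
      rw [hGstep k]
      refine sup_le ?_ le_sup_right
      calc J • G k ≤ J • (J ^ k • G 0 ⊔ G (k + 1)) := smul_mono_right _ ih
        _ = J ^ (k + 1) • G 0 ⊔ J • G (k + 1) := by rw [Submodule.smul_sup, ← mul_smul, ← pow_succ']
        _ ≤ J ^ (k + 1) • G 0 ⊔ G (k + 1 + 1) := sup_le_sup le_rfl (hJG _)
  have h0 : (Submodule.map (G (0 + 1)).mkQ (G 0)).FG := by
    rw [hG1 0]
    exact hfg (p₁ + ((0 : ℕ) : ℤ))
  obtain ⟨N, hNfg, hNle, hGN⟩ := exists_fg_lift (G 0) (G (0 + 1)) h0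
  have hstep : ∀ k, G k ≤ J ^ k • N ⊔ G (k + 1) := by
    intro k
    refine (hA k).trans (sup_le ?_ le_sup_right)
    calc J ^ k • G 0 ≤ J ^ k • (N ⊔ G (0 + 1)) := smul_mono_right _ hGN
      _ = J ^ k • N ⊔ J ^ k • G (0 + 1) := Submodule.smul_sup _ _ _
      _ ≤ J ^ k • N ⊔ G (k + 1) := by
        refine sup_le_sup le_rfl ?_
        have := hJpow k (0 + 1)
        rwa [show 0 + 1 + k = k + 1 by omega] at this
  have hJN : ∀ k, J ^ k • N ≤ G k := by
    intro k
    calc J ^ k • N ≤ J ^ k • G 0 := smul_mono_right _ hNle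
      _ ≤ G (0 + k) := hJpow k 0
      _ = G k := by rw [zero_add]
  have hsepG : ⨅ k, G k = ⊥ := by
    rw [eq_bot_iff, ← hsep]
    refine le_iInf fun p => ?_
    by_cases hp : p ≤ p₁
    · exact (iInf_le G 0).trans (hF (by simpa [G] using hp))
    · refine (iInf_le G (p - p₁).toNat).trans (le_of_eq ?_)
      change F _ = F _
      congr 1
      omega
  have hprec : SubPrec J N := subPrec_of_fg J N hNfg
  have hGk : ∀ k, G k = J ^ k • N := fun k =>
    le_antisymm (le_pow_smul J G N hprec hanti hstep hJN hsepG k) (hJN k)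
  have hfgdown : ∀ k : ℕ, (F (p₁ - k)).FG := by
    intro k
    induction k with
    | zero =>
      have : F (p₁ - (0 : ℕ)) = N := by
        have := hGk 0
        simp only [pow_zero, Ideal.one_eq_top, Submodule.top_smul] at this
        rw [← this]
        exact congrArg F (by simp)
      rw [this]
      exact hNfg
    | succ k ih =>
      have hidx : p₁ - ((k + 1 : ℕ) : ℤ) + 1 = p₁ - (k : ℤ) := by push_cast; ring
      refine Submodule.fg_of_fg_map_of_fg_inf_ker (F (p₁ - ((k + 1 : ℕ) : ℤ) + 1)).mkQ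
        (hfg _) ?_
      rw [Submodule.ker_mkQ, hidx]
      have : F (p₁ - ((k + 1 : ℕ) : ℤ)) ⊓ F (p₁ - (k : ℤ)) = F (p₁ - (k : ℤ)) :=
        inf_eq_right.mpr (hF (by push_cast; omega))
      rw [this]
      exact ih
  refine ⟨?_, ?_⟩
  · obtain ⟨p₀, hp₀⟩ := hcod
    by_cases hp : p₀ ≤ p₁
    · refine ⟨?_⟩
      rw [← hp₀]
      have := hfgdown (p₁ - p₀).toNat
      rwa [show p₁ - ((p₁ - p₀).toNat : ℤ) = p₀ by omega] at this
    · refine ⟨?_⟩
      have h1 : F p₁ = ⊤ := by
        rw [eq_top_iff, ← hp₀]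
        exact hF (by omega)
      rw [← h1]
      have := hfgdown 0
      simpa using this
  · intro p hp
    obtain ⟨k, rfl⟩ : ∃ k : ℕ, p = p₁ + k := ⟨(p - p₁).toNat, by omega⟩
    rw [← hG1 k]
    change J • G k = _
    rw [hGk k, hGk (k + 1), ← mul_smul, ← pow_succ']

/-- Let S be a Noetherian ring which is separated and complete for the adic topology of an ideal J, and
let M be an S-module with a decreasing filtration (F^p M)_{p ∈ ℤ} by submodules such that F^p M = M
for some p, J·F^p M ⊆ F^{p+1} M for all p, and ⋂_p F^p M = 0. Then the following are equivalent: (a)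
M is a finitely generated S-module and J·F^p M = F^{p+1} M for all large p; (c) every F^p M /
F^{p+1} M is a finitely generated S-module and, for all large p, the map J ⊗ (F^p M/F^{p+1} M) ⟶
F^{p+1} M/F^{p+2} M is surjective, that is F^{p+1} M = J·F^p M + F^{p+2} M. (The published statement
also lists a third equivalent condition, finite generation of the associated graded module over the
associated graded ring; this row states the equivalence of the other two.) -/
theorem result {S : Type u} [CommRing S] [IsNoetherianRing S]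
    (J : Ideal S) [IsAdicComplete J S] {M : Type u} [AddCommGroup M] [Module S M]
    (F : ℤ → Submodule S M) (hF : Antitone F) (hcod : ∃ p₀ : ℤ, F p₀ = ⊤)
    (hJ : ∀ p : ℤ, J • F p ≤ F (p + 1)) (hsep : ⨅ p : ℤ, F p = ⊥) :
    (Module.Finite S M ∧ ∃ p₁ : ℤ, ∀ p : ℤ, p₁ ≤ p → J • F p = F (p + 1)) ↔
      ((∀ p : ℤ, (Submodule.map (F (p + 1)).mkQ (F p)).FG) ∧
        ∃ p₁ : ℤ, ∀ p : ℤ, p₁ ≤ p → F (p + 1) = J • F p ⊔ F (p + 2)) := by
  constructor
  · rintro ⟨hfin, p₁, hp₁⟩
    refine ⟨fun p => ?_, p₁, fun p hp => ?_⟩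
    · have : IsNoetherian S M := isNoetherian_of_isNoetherianRing_of_finite S M
      exact Submodule.FG.map _ (IsNoetherian.noetherian _)
    · rw [hp₁ p hp]
      exact (sup_eq_left.mpr (hF (by omega))).symm
  · rintro ⟨hfg, p₁, hp₁⟩
    obtain ⟨h1, h2⟩ := c_imp_a J F hF hcod hJ hsep hfg p₁ hp₁
    exact ⟨h1, p₁, h2⟩

end Groth.Agent.S8353
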