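import Groth.Statements.S8355
import Mathlib

set_option autoImplicit false
universe v u
open CategoryTheory CategoryTheory.Limits
open SpSeq

namespace Groth.Agent.S8355

theorem lemA {C : Type u} [Category.{v} C] [Abelian C] {r₀ : ℤ}
    (E : CohomologicalSpectralSequence C r₀) (pq : ℤ × ℤ) (k k' : ℤ) (h : k + 1 = k') (hk : r₀ ≤ k)
    (hz : IsZero ((E.page k hk).X pq)) : IsZero ((E.page k' (by omega)).X pq) := by
  have h1 : IsZero ((E.page k hk).homology pq) :=
    ShortComplex.isZero_homology_of_isZero_X₂ _ hz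
  exact IsZero.of_iso h1 (E.iso k k' pq h hk).symm

theorem lemB {C : Type u} [Category.{v} C] [Abelian C] {r₀ : ℤ}
    (E : CohomologicalSpectralSequence C r₀) (pq : ℤ × ℤ) (k k' : ℤ) (h : k + 1 = k') (hk : r₀ ≤ k)
    (hd1 : (E.page k hk).d (pq - (k, 1 - k)) pq = 0) (hd2 : (E.page k hk).d pq (pq + (k, 1 - k)) = 0)
    (hz : IsZero ((E.page k' (by omega)).X pq)) : IsZero ((E.page k hk).X pq) := by
  have h1 : IsZero ((E.page k hk).homology pq) := IsZero.of_iso hz (E.iso k k' pq h hk)
  have e1 : (E.page k hk).X pq ≅ (E.page k hk).opcycles pq :=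
    (E.page k hk).pOpcyclesIso (pq - (k, 1 - k)) pq
      (ComplexShape.prev_eq' _ (by simp [ComplexShape.up'])) hd1
  have e2 : (E.page k hk).homology pq ≅ (E.page k hk).opcycles pq :=
    (E.page k hk).isoHomologyι pq (pq + (k, 1 - k))
      (ComplexShape.next_eq' _ (by simp [ComplexShape.up'])) hd2
  exact IsZero.of_iso h1 (e1 ≪≫ e2.symm)

/-- Let E be a spectral sequence in an abelian category and suppose E_r^{p,q} = 0. Then E_k^{p,q} = 0
for every k ≥ r, and E_∞^{p,q} = 0: for any abutment data (H^n) of E, the graded piece gr^p H^{p+q},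
identified by the abutment with the limit term at (p, q), is zero. -/
theorem result {C : Type u} [Category.{v} C] [Abelian C] {r₀ : ℤ}
    (E : CohomologicalSpectralSequence C r₀) (r : ℤ) (hr : r₀ ≤ r) (pq : ℤ × ℤ)
    (h : IsZero ((E.page r hr).X pq)) :
    (∀ (k : ℤ) (hk : r ≤ k), IsZero ((E.page k (hr.trans hk)).X pq)) ∧
      ∀ (H : ℤ → C) (a : SpSeq.Abutment E H),
        IsZero (SpSeq.grPiece (a.fil (pq.1 + pq.2)) (a.anti (pq.1 + pq.2)) pq.1) := by
  have part1 : ∀ (k : ℤ) (hk : r ≤ k), IsZero ((E.page k (hr.trans hk)).X pq) := by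
    intro k hk
    induction k, hk using Int.leInduction with
    | base => exact h
    | succ n hmn ih => exact lemA E pq n (n + 1) rfl (hr.trans hmn) ih
  refine ⟨part1, ?_⟩
  intro H a
  have hst := a.stat pq
  suffices hz : IsZero ((E.page (a.rk pq) hst.1).X pq) from IsZero.of_iso hz (a.β pq).symm
  by_cases hle : r ≤ a.rk pq
  · exact part1 _ hle
  · have down : ∀ n : ℕ, ∀ (k : ℤ) (hk : r₀ ≤ k), a.rk pq ≤ k → k + n = r →
        IsZero ((E.page k hk).X pq) := by
      intro n
      induction n with
      | zero =>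
        intro k hk _ hkr
        have : k = r := by simpa using hkr
        subst this
        exact h
      | succ n ih =>
        intro k hk hrk hkr
        have hz' := ih (k + 1) (by omega) (by omega) (by push_cast at hkr; omega)
        obtain ⟨hd1, hd2⟩ := hst.2 k hk hrk
        exact lemB E pq k (k + 1) rfl hk hd1 hd2 hz'
    exact down (r - a.rk pq).toNat (a.rk pq) hst.1 le_rfl (by omega)

end Groth.Agent.S8355
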