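import Groth.Statements.S8358
import Mathlib.Tactic

set_option autoImplicit false
universe u
open CategoryTheory MonObj AlgebraicGeometry
open LieS

namespace Groth.Agent.S8358

section Helpers


theorem convMul_single {R : Type u} [CommRing R] {X : Type} [Group X] {A : Type u} [CommRing A] [Algebra R A]
    (f g : WithConv (MonoidAlgebra R X →ₐ[R] A)) (x : X) :
    (f * g).ofConv (MonoidAlgebra.single x 1) =
      f.ofConv (MonoidAlgebra.single x 1) * g.ofConv (MonoidAlgebra.single x 1) := by
  have := AlgHom.convMul_apply f g (MonoidAlgebra.single x 1)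
  rw [MonoidAlgebra.comul_single] at this
  simpa using this

theorem convOne_single {R : Type u} [CommRing R] {X : Type} [Group X] {A : Type u} [CommRing A] [Algebra R A]
    (x : X) :
    (1 : WithConv (MonoidAlgebra R X →ₐ[R] A)).ofConv (MonoidAlgebra.single x 1) = 1 := by
  have := AlgHom.convOne_apply (R := R) (A := A) (C := MonoidAlgebra R X) (MonoidAlgebra.single x 1)
  simpa using this

theorem mapMulEquiv_left {R S T : Type u} [CommRing R] [CommRing S] [CommRing T] [Bialgebra R S]
    [Algebra R T] (x : WithConv (S →ₐ[R] T)) :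
    (Spec.mapMulEquiv x).left = Spec.map (CommRingCat.ofHom x.ofConv.toRingHom) := rfl

theorem specMap_ofHom_injective {A B : Type u} [CommRing A] [CommRing B] {a b : A →+* B}
    (h : Spec.map (CommRingCat.ofHom a) = Spec.map (CommRingCat.ofHom b)) : a = b := by
  have := Spec.map_injective h
  exact congrArg CommRingCat.Hom.hom this

variable (R : Type u) [CommRing R] (M : Type) [AddCommGroup M] (B : Type u) [CommRing B] [Algebra R B]

theorem dptIso_inv_left :
    ((LieS.dptIso (R := R) B).inv).left = 𝟙 (Spec (CommRingCat.of (DualNumber B))) := rfl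

theorem dptIso_hom_left :
    ((LieS.dptIso (R := R) B).hom).left = 𝟙 (Spec (CommRingCat.of (DualNumber B))) := rfl

/-- the algebra hom attached to a point over the dual numbers -/
noncomputable def Φ (v : LieS.dpt B (Spec.map (CommRingCat.ofHom (algebraMap R B))) ⟶ Red.diag R M) :
    MonoidAlgebra R (Multiplicative M) →ₐ[R] DualNumber B :=
  (Spec.mapMulEquiv.symm ((LieS.dptIso B).inv ≫ v)).ofConv

theorem Φ_left0 (v : LieS.dpt B (Spec.map (CommRingCat.ofHom (algebraMap R B))) ⟶ Red.diag R M) :
    ((LieS.dptIso B).inv ≫ v).left = Spec.map (CommRingCat.ofHom (Φ R M B v).toRingHom) := by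
  unfold Φ
  rw [← mapMulEquiv_left, MulEquiv.apply_symm_apply]

theorem Φ_left (v : LieS.dpt B (Spec.map (CommRingCat.ofHom (algebraMap R B))) ⟶ Red.diag R M) :
    v.left = Spec.map (CommRingCat.ofHom (Φ R M B v).toRingHom) := by
  rw [← Φ_left0, Over.comp_left, dptIso_inv_left]
  exact (Category.id_comp _).symm

/-- the algebra hom attached to a point over `B` -/
noncomputable def Ψ (w : LieS.pt B (Spec.map (CommRingCat.ofHom (algebraMap R B))) ⟶ Red.diag R M) :
    MonoidAlgebra R (Multiplicative M) →ₐ[R] B :=
  (Spec.mapMulEquiv.symm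
    (show (Spec (CommRingCat.of B)).asOver (Spec (CommRingCat.of R)) ⟶ Red.diag R M from w)).ofConv

theorem Ψ_left (w : LieS.pt B (Spec.map (CommRingCat.ofHom (algebraMap R B))) ⟶ Red.diag R M) :
    w.left = Spec.map (CommRingCat.ofHom (Ψ R M B w).toRingHom) := by
  unfold Ψ
  rw [← mapMulEquiv_left, MulEquiv.apply_symm_apply]

theorem Ψ_zeroSec (v : LieS.dpt B (Spec.map (CommRingCat.ofHom (algebraMap R B))) ⟶ Red.diag R M) :
    (Ψ R M B (LieS.zeroSec B _ ≫ v)).toRingHom =
      (TrivSqZeroExt.fstHom B B B).toRingHom.comp (Φ R M B v).toRingHom := by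
  apply specMap_ofHom_injective
  rw [← Ψ_left, Over.comp_left, Φ_left R M B v, ← specMap_comp]
  rfl

theorem Φ_scale (b : B) (v : LieS.dpt B (Spec.map (CommRingCat.ofHom (algebraMap R B))) ⟶ Red.diag R M) :
    (Φ R M B (LieS.scale B _ b ≫ v)).toRingHom =
      (LieS.scaleHom b).comp (Φ R M B v).toRingHom := by
  apply specMap_ofHom_injective
  rw [← Φ_left, Over.comp_left, Φ_left R M B v, ← specMap_comp]
  rfl

theorem Φ_mul (v w : LieS.dpt B (Spec.map (CommRingCat.ofHom (algebraMap R B))) ⟶ Red.diag R M) :
    Φ R M B (v * w) = (WithConv.toConv (Φ R M B v) * WithConv.toConv (Φ R M B w)).ofConv := by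
  unfold Φ
  rw [MonObj.comp_mul, map_mul]

theorem Φ_mul_single (v w : LieS.dpt B (Spec.map (CommRingCat.ofHom (algebraMap R B))) ⟶ Red.diag R M)
    (x : Multiplicative M) :
    Φ R M B (v * w) (MonoidAlgebra.single x 1) =
      Φ R M B v (MonoidAlgebra.single x 1) * Φ R M B w (MonoidAlgebra.single x 1) := by
  rw [Φ_mul, convMul_single]

theorem Ψ_one : Ψ R M B 1 = (1 : WithConv (MonoidAlgebra R (Multiplicative M) →ₐ[R] B)).ofConv := by
  unfold Ψ
  exact congrArg WithConv.ofConv (map_one Spec.mapMulEquiv.symm)

theorem fst_of_mem (v : LieS.dpt B (Spec.map (CommRingCat.ofHom (algebraMap R B))) ⟶ Red.diag R M)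
    (hv : v ∈ LieS.LieR (Red.diag R M) B) (x : Multiplicative M) :
    TrivSqZeroExt.fst (Φ R M B v (MonoidAlgebra.single x 1)) = 1 := by
  have h1 : LieS.zeroSec B _ ≫ v = 1 := hv
  have h2 := Ψ_zeroSec R M B v
  rw [h1, Ψ_one] at h2
  have h3 := DFunLike.congr_fun h2 (MonoidAlgebra.single x 1)
  have h4 := convOne_single (R := R) (A := B) x
  exact h3.symm.trans h4

theorem mem_of_fst (v : LieS.dpt B (Spec.map (CommRingCat.ofHom (algebraMap R B))) ⟶ Red.diag R M)
    (h : ∀ x : Multiplicative M, TrivSqZeroExt.fst (Φ R M B v (MonoidAlgebra.single x 1)) = 1) :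
    v ∈ LieS.LieR (Red.diag R M) B := by
  rw [LieS.mem_Lie_iff]
  have h2 := Ψ_zeroSec R M B v
  have h5 : Ψ R M B (LieS.zeroSec B _ ≫ v) = Ψ R M B 1 := by
    rw [Ψ_one]
    refine MonoidAlgebra.algHom_ext ?_ (Subsingleton.elim _ _)
    intro x
    have h3 := DFunLike.congr_fun h2 (MonoidAlgebra.single x 1)
    have h4 := convOne_single (R := R) (A := B) x
    exact (h3.trans (h x)).trans h4.symm
  unfold Ψ at h5
  exact Spec.mapMulEquiv.symm.injective (WithConv.ofConv_injective h5)

theorem Φ_injective : Function.Injective (Φ R M B) := by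
  intro v w h
  unfold Φ at h
  have h1 := Spec.mapMulEquiv.symm.injective (WithConv.ofConv_injective h)
  exact (cancel_epi _).1 h1

/-- the additive map attached to a Lie point -/
noncomputable def βf (v : LieS.LieR (Red.diag R M) B) : M →+ B where
  toFun m := TrivSqZeroExt.snd (Φ R M B v.1 (MonoidAlgebra.single (Multiplicative.ofAdd m) 1))
  map_zero' := by
    rw [ofAdd_zero, ← MonoidAlgebra.one_def, map_one]; rfl
  map_add' m n := by
    have h : (MonoidAlgebra.single (Multiplicative.ofAdd (m + n)) (1 : R)) =
        MonoidAlgebra.single (Multiplicative.ofAdd m) 1 * MonoidAlgebra.single (Multiplicative.ofAdd n) 1 := by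
      rw [MonoidAlgebra.single_mul_single, _root_.mul_one, ofAdd_add]
    change TrivSqZeroExt.snd (Φ R M B v.1 _) = _
    rw [h, map_mul, DualNumber.snd_mul, fst_of_mem R M B v.1 v.2, fst_of_mem R M B v.1 v.2,
      _root_.one_mul, _root_.mul_one, add_comm]

/-- the character attached to an additive map -/
noncomputable def χ (β : M →+ B) : Multiplicative M →* DualNumber B where
  toFun g := TrivSqZeroExt.inl 1 + TrivSqZeroExt.inr (β (Multiplicative.toAdd g))
  map_one' := by simp
  map_mul' g h := by
    ext <;> simp [add_comm]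

/-- the algebra map attached to an additive map -/
noncomputable def α (β : M →+ B) : MonoidAlgebra R (Multiplicative M) →ₐ[R] DualNumber B :=
  MonoidAlgebra.lift R (DualNumber B) (Multiplicative M) (χ M B β)

theorem α_single (β : M →+ B) (x : Multiplicative M) :
    α R M B β (MonoidAlgebra.single x 1) =
      TrivSqZeroExt.inl 1 + TrivSqZeroExt.inr (β (Multiplicative.toAdd x)) := by
  unfold α
  rw [MonoidAlgebra.lift_single, one_smul]
  rfl

/-- the point attached to an additive map -/
noncomputable def vβ (β : M →+ B) :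
    LieS.dpt B (Spec.map (CommRingCat.ofHom (algebraMap R B))) ⟶ Red.diag R M :=
  (LieS.dptIso B).hom ≫ Spec.mapMulEquiv (WithConv.toConv (α R M B β))

theorem Φ_vβ (β : M →+ B) : Φ R M B (vβ R M B β) = α R M B β := by
  unfold Φ vβ
  rw [Iso.inv_hom_id_assoc, MulEquiv.symm_apply_apply]

theorem snd_scaleHom (b : B) (x : DualNumber B) :
    TrivSqZeroExt.snd (LieS.scaleHom b x) = b * TrivSqZeroExt.snd x := by
  simp [LieS.scaleHom, TrivSqZeroExt.algebraMap_eq_inl', _root_.mul_comm]

theorem result0 :
    ∃ e : LieS.LieR (Red.diag R M) B ≃* Multiplicative (M →+ B),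
      (∀ (v : LieS.LieR (Red.diag R M) B) (m : M),
        Multiplicative.toAdd (e v) m =
          TrivSqZeroExt.snd (((Spec.mapMulEquiv.symm ((LieS.dptIso B).inv ≫ v.1)).ofConv :
            MonoidAlgebra R (Multiplicative M) →ₐ[R] DualNumber B)
            (MonoidAlgebra.single (Multiplicative.ofAdd m) 1))) ∧
      ∀ (b : B) (v : LieS.LieR (Red.diag R M) B),
        e (b • v) = Multiplicative.ofAdd (b • Multiplicative.toAdd (e v)) := by
  let F : LieS.LieR (Red.diag R M) B →* Multiplicative (M →+ B) :=
    MonoidHom.mk' (fun v => Multiplicative.ofAdd (βf R M B v)) (by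
      intro v w
      apply Multiplicative.toAdd.injective
      ext m
      change TrivSqZeroExt.snd (Φ R M B (v * w).1 _) =
        TrivSqZeroExt.snd (Φ R M B v.1 _) + TrivSqZeroExt.snd (Φ R M B w.1 _)
      rw [Subgroup.coe_mul, Φ_mul_single, DualNumber.snd_mul, fst_of_mem R M B v.1 v.2,
        fst_of_mem R M B w.1 w.2, _root_.one_mul, _root_.mul_one, add_comm])
  have hF : ∀ v m, Multiplicative.toAdd (F v) m =
      TrivSqZeroExt.snd (Φ R M B v.1 (MonoidAlgebra.single (Multiplicative.ofAdd m) 1)) :=
    fun v m => rfl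
  have hinj : Function.Injective F := by
    intro v w h
    apply Subtype.ext
    apply Φ_injective
    refine MonoidAlgebra.algHom_ext ?_ (Subsingleton.elim _ _)
    intro x
    apply TrivSqZeroExt.ext
    · rw [fst_of_mem R M B v.1 v.2, fst_of_mem R M B w.1 w.2]
    · have := congrArg (fun t : Multiplicative (M →+ B) =>
        (Multiplicative.toAdd t : M →+ B) (Multiplicative.toAdd x)) h
      exact this
  have hsurj : Function.Surjective F := by
    intro β'
    obtain ⟨β, rfl⟩ := Multiplicative.ofAdd.surjective β'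
    have hmem : vβ R M B β ∈ LieS.LieR (Red.diag R M) B := by
      apply mem_of_fst
      intro x
      rw [Φ_vβ, α_single]
      simp
    refine ⟨⟨vβ R M B β, hmem⟩, ?_⟩
    apply Multiplicative.toAdd.injective
    ext m
    rw [hF]
    change TrivSqZeroExt.snd (Φ R M B (vβ R M B β) _) = β m
    rw [Φ_vβ, α_single]
    simp
  refine ⟨MulEquiv.ofBijective F ⟨hinj, hsurj⟩, ?_, ?_⟩
  · intro v m
    exact hF v m
  · intro b v
    apply Multiplicative.toAdd.injective
    ext m
    change Multiplicative.toAdd (F (b • v)) m = b • (Multiplicative.toAdd (F v) m)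
    rw [hF, hF, LieS.smul_val]
    have h1 := DFunLike.congr_fun (Φ_scale R M B b v.1)
      (MonoidAlgebra.single (Multiplicative.ofAdd m) 1)
    have h2 : Φ R M B (LieS.scale B _ b ≫ v.1) (MonoidAlgebra.single (Multiplicative.ofAdd m) 1) =
        LieS.scaleHom b (Φ R M B v.1 (MonoidAlgebra.single (Multiplicative.ofAdd m) 1)) := h1
    rw [h2, snd_scaleHom]
    rfl


end Helpers


/-- First isomorphism: over an affine base: for a commutative ring R, a commutative group M, the
diagonalisable group D(M) = Spec R[M] over Spec R and a commutative R-algebra B, the group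
Lie(D(M))(Spec B) is identified with the additive group Hom(M, B) of group homomorphisms: there is a
multiplicative isomorphism which sends a point v of D(M) with values in B[ε], read as an R-algebra
homomorphism from R[M] to B[ε], to the homomorphism m ↦ (ε-coefficient of the image of m), and which
carries the rescaling action of b in B to multiplication of homomorphisms by b. -/
theorem result (R : Type u) [CommRing R] (M : Type) [AddCommGroup M]
    (B : Type u) [CommRing B] [Algebra R B] :
    ∃ e : LieS.LieR (Red.diag R M) B ≃* Multiplicative (M →+ B),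
      (∀ (v : LieS.LieR (Red.diag R M) B) (m : M),
        Multiplicative.toAdd (e v) m =
          TrivSqZeroExt.snd (((Spec.mapMulEquiv.symm ((LieS.dptIso B).inv ≫ v.1)).ofConv :
            MonoidAlgebra R (Multiplicative M) →ₐ[R] DualNumber B)
            (MonoidAlgebra.single (Multiplicative.ofAdd m) 1))) ∧
      ∀ (b : B) (v : LieS.LieR (Red.diag R M) B),
        e (b • v) = Multiplicative.ofAdd (b • Multiplicative.toAdd (e v)) := by
  exact result0 R M B

end Groth.Agent.S8358
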