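import Groth.Statements.S8361
import Mathlib.Tactic
import Groth.Agent.Lib.Helper47.SpecEpi

set_option autoImplicit false
universe u
open CategoryTheory MonObj AlgebraicGeometry
open LieS

namespace Groth.Agent.S8361

open Groth.Agent.Lib.Helper47.SpecEpi

theorem mulHom_fst_fst (B : Type u) [CommRing B] (x : DualNumber B) :
    (LieS.mulHom B x).fst.fst = x.fst := by
  simp [LieS.mulHom, LieS.dualHom_apply, TrivSqZeroExt.algebraMap_eq_inl']

theorem mulHom_snd_snd (B : Type u) [CommRing B] (x : DualNumber B) :
    (LieS.mulHom B x).snd.snd = x.snd := by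
  simp [LieS.mulHom, LieS.dualHom_apply, TrivSqZeroExt.algebraMap_eq_inl']

theorem sq_zero_of_fst (B : Type u) [CommRing B] (x : DualNumber B) (hx : x.fst = 0) : x * x = 0 := by
  ext <;> simp [hx]

theorem mulHom_surj (B : Type u) [CommRing B] :
    Function.Surjective (Spec.map (CommRingCat.ofHom (R := DualNumber B) (S := LieS.D2 B) (LieS.mulHom B))).base := by
  have h0 := @spec_surj_of_aug (DualNumber B) (LieS.D2 B) B _ _ _ (LieS.mulHom B) (TrivSqZeroExt.fstHom B B B).toRingHom
    ((TrivSqZeroExt.fstHom B B B).toRingHom.comp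
        (TrivSqZeroExt.fstHom (DualNumber B) (DualNumber B) (DualNumber B)).toRingHom)
  apply h0
  · refine RingHom.ext fun x => ?_
    exact mulHom_fst_fst B x
  · intro b
    exact ⟨TrivSqZeroExt.inl b, TrivSqZeroExt.fst_inl B b⟩
  · intro x hx
    exact ⟨2, by rw [pow_two]; exact sq_zero_of_fst B x hx⟩

theorem mulHom_inj (B : Type u) [CommRing B] (x : DualNumber B) (hx : LieS.mulHom B x = 0) : x = 0 := by
  have h1 := mulHom_fst_fst B x
  have h2 := mulHom_snd_snd B x
  rw [hx] at h1 h2
  ext
  · exact h1.symm
  · exact h2.symm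

theorem mulHom_hom_ext {X : Scheme.{u}} (B : Type u) [CommRing B]
    (u1 u2 : Spec (CommRingCat.of (DualNumber B)) ⟶ X)
    (h : Spec.map (CommRingCat.ofHom (R := DualNumber B) (S := LieS.D2 B) (LieS.mulHom B)) ≫ u1 =
      Spec.map (CommRingCat.ofHom (R := DualNumber B) (S := LieS.D2 B) (LieS.mulHom B)) ≫ u2) : u1 = u2 := by
  have key := @spec_hom_ext (DualNumber B) (LieS.D2 B) (LieS.D2 B) _ _ _ (LieS.mulHom B) (LieS.mulHom B)
  have hs := mulHom_surj B
  exact key hs (fun x hx _ => mulHom_inj B x hx) u1 u2 h h

/-- `mulMap` is an epimorphism: a point of `G` over the dual numbers is determined by its pull-back along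
`ε ↦ εε'`. -/
theorem mulMap_cancel {S : Scheme.{u}} {G : Over S} (B : Type u) [CommRing B]
    (f : Spec (CommRingCat.of B) ⟶ S) (z z' : LieS.dpt B f ⟶ G)
    (h : LieS.mulMap B f ≫ z = LieS.mulMap B f ≫ z') : z = z' := by
  apply Over.OverMorphism.ext
  have e : (LieS.mulMap B f).left = Spec.map (CommRingCat.ofHom (LieS.mulHom B)) := rfl
  have hl := congrArg Over.Hom.left h
  rw [Over.comp_left, Over.comp_left, e] at hl
  exact mulHom_hom_ext B z.left z'.left hl

/-- Uniqueness of the bracket: for a group scheme G over a scheme S and an affine S-scheme T = Spec B: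
an element of Lie(G/S)(T) is determined by its pull-back along the coordinate-multiplying map from
the iterated dual numbers over T to the dual numbers over T; in particular the bracket of x and y,
the element whose pull-back is the commutator of x read in the second dual coordinate with y read in
the first, is unique when it exists. -/
theorem result (S : Scheme.{u}) (G : Over S) [GrpObj G] (B : Type u) [CommRing B]
    (f : Spec (CommRingCat.of B) ⟶ S) (x y z z' : LieS.Lie G B f)
    (h : LieS.IsBracket G B f x y z) (h' : LieS.IsBracket G B f x y z') : z = z' := by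
  apply Subtype.ext
  apply mulMap_cancel B f
  rw [h, h']

end Groth.Agent.S8361
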