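import Groth.Statements.S8364
-- import your own Groth.Agent.* helpers here

set_option autoImplicit false
universe u
open SGA3

namespace Groth.Agent.S8364


theorem bijective_of_mk_comp_eq {R A : Type u} [CommRing R] [CommRing A] [Algebra R A]
    (J : Ideal R) (hJ : J * J = ⊥) (θ : A →ₐ[R] A)
    (hθ : (Ideal.Quotient.mkₐ R (Ideal.map (algebraMap R A) J)).comp θ =
      Ideal.Quotient.mkₐ R (Ideal.map (algebraMap R A) J)) :
    Function.Bijective θ := by
  set I := Ideal.map (algebraMap R A) J with hI
  have hI2 : I * I = ⊥ := by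
    rw [hI, ← Ideal.map_mul, hJ, Ideal.map_bot]
  have hmem : ∀ a : A, θ a - a ∈ I := by
    intro a
    have := AlgHom.congr_fun hθ a
    simp only [AlgHom.comp_apply, Ideal.Quotient.mkₐ_eq_mk] at this
    exact Ideal.Quotient.eq.mp this
  have hzero : ∀ x ∈ I, θ x - x = 0 := by
    intro x hx
    rw [hI, Ideal.map] at hx
    induction hx using Submodule.span_induction with
    | mem x hx =>
      obtain ⟨j, _, rfl⟩ := hx
      simp
    | zero => simp
    | add x y _ _ hx hy =>
      rw [map_add]
      linear_combination hx + hy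
    | smul a x hxI hx =>
      have hxI' : x ∈ I := hxI
      have h1 : (θ a - a) * x ∈ I * I := Ideal.mul_mem_mul (hmem a) hxI'
      rw [hI2] at h1
      have h2 : (θ a - a) * x = 0 := h1
      rw [smul_eq_mul, map_mul]
      have h3 : θ x = x := sub_eq_zero.mp hx
      rw [h3]
      linear_combination h2
  have hdd : ∀ a : A, θ (θ a - a) = θ a - a := fun a => sub_eq_zero.mp (hzero _ (hmem a))
  constructor
  · rw [injective_iff_map_eq_zero]
    intro a ha
    have h1 : θ a - a ∈ I := hmem a
    rw [ha, zero_sub] at h1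
    have h2 : a ∈ I := by simpa using I.neg_mem h1
    have h3 := hzero a h2
    rw [ha, zero_sub, neg_eq_zero] at h3
    exact h3
  · intro b
    refine ⟨b - (θ b - b), ?_⟩
    rw [map_sub, hdd]
    ring

/-- For a commutative ring R, an ideal J of R of square zero, a smooth R-algebra A and the extended
ideal I = J·A, every R-algebra automorphism of A/I lifts to an R-algebra automorphism of A. (The
published statement concerns the automorphism functor of a smooth affine S-scheme E and affine test
schemes Y; this row is the case Y = S = Spec R, E = Spec A, which gives the general one after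
replacing R by the ring of Y.) -/
theorem result (R A : Type u) [CommRing R] [CommRing A] [Algebra R A]
    [Algebra.Smooth R A] (J : Ideal R) (hJ : J * J = ⊥)
    (φ₀ : (A ⧸ Ideal.map (algebraMap R A) J) ≃ₐ[R] (A ⧸ Ideal.map (algebraMap R A) J)) :
    ∃ φ : A ≃ₐ[R] A,
      (Ideal.Quotient.mkₐ R (Ideal.map (algebraMap R A) J)).comp φ.toAlgHom =
        φ₀.toAlgHom.comp (Ideal.Quotient.mkₐ R (Ideal.map (algebraMap R A) J)) := by
  have hI2 : Ideal.map (algebraMap R A) J * Ideal.map (algebraMap R A) J = ⊥ := by
    rw [← Ideal.map_mul, hJ, Ideal.map_bot]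
  have hnil : IsNilpotent (Ideal.map (algebraMap R A) J) := ⟨2, by rw [pow_two]; exact hI2⟩
  let π := Ideal.Quotient.mkₐ R (Ideal.map (algebraMap R A) J)
  let φ : A →ₐ[R] A := Algebra.FormallySmooth.lift _ hnil (φ₀.toAlgHom.comp π)
  let ψ : A →ₐ[R] A := Algebra.FormallySmooth.lift _ hnil (φ₀.symm.toAlgHom.comp π)
  have hφ : π.comp φ = φ₀.toAlgHom.comp π := Algebra.FormallySmooth.comp_lift _ hnil _
  have hψ : π.comp ψ = φ₀.symm.toAlgHom.comp π := Algebra.FormallySmooth.comp_lift _ hnil _
  have h1 : π.comp (φ.comp ψ) = π := by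
    rw [← AlgHom.comp_assoc, hφ, AlgHom.comp_assoc, hψ, ← AlgHom.comp_assoc]
    ext x
    simp
  have h2 : π.comp (ψ.comp φ) = π := by
    rw [← AlgHom.comp_assoc, hψ, AlgHom.comp_assoc, hφ, ← AlgHom.comp_assoc]
    ext x
    simp
  have b1 := bijective_of_mk_comp_eq J hJ (φ.comp ψ) h1
  have b2 := bijective_of_mk_comp_eq J hJ (ψ.comp φ) h2
  have hinj : Function.Injective φ := by
    have : Function.Injective (ψ ∘ φ) := by simpa using b2.1
    exact this.of_comp
  have hsurj : Function.Surjective φ := by
    have : Function.Surjective (φ ∘ ψ) := by simpa using b1.2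
    exact this.of_comp
  refine ⟨AlgEquiv.ofBijective φ ⟨hinj, hsurj⟩, ?_⟩
  rw [← hφ]
  rfl

end Groth.Agent.S8364
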