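import Groth.Statements.S8362
import Groth.Agent.S8364
import Groth.Agent.Lib.Helper6.ThickIsAffine
import Groth.Agent.Lib.Helper6.Thickening

set_option autoImplicit false
universe u
open CategoryTheory AlgebraicGeometry
open SGA3

namespace Groth.Agent.S8362

/-- Over an affine base S = Spec R with S₀ = Spec (R/J) for an ideal J of square zero: for an arbitrary
S-scheme X, every S-endomorphism of X inducing the identity on X ×_S S₀ is an automorphism. (The
published statement is over an arbitrary base scheme with a quasi-coherent ideal of square zero;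
this row is its case of an affine base, to which it reduces since being an isomorphism is local on
the base.) -/
theorem result (R : Type u) [CommRing R] (J : Ideal R) (hJ : J * J = ⊥)
    (X : Over (Spec (CommRingCat.of R))) (u : X ⟶ X)
    (h : (Over.pullback (Spec.map (CommRingCat.ofHom (Ideal.Quotient.mk J)))).map u = 𝟙 _) :
    IsIso u := by
  open Groth.Agent.Lib.Helper6 CategoryTheory.Limits in
  set i₀ := Spec.map (CommRingCat.ofHom (Ideal.Quotient.mk J)) with hi₀
  have hci : IsClosedImmersion i₀ :=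
    IsClosedImmersion.spec_of_surjective _ Ideal.Quotient.mk_surjective
  have hsurj : Surjective i₀ := by
    constructor
    intro x
    let x' : PrimeSpectrum R := x
    have hx : x' ∈ Set.range (PrimeSpectrum.comap (Ideal.Quotient.mk J)) := by
      rw [_root_.range_comap_of_surjective _ _ Ideal.Quotient.mk_surjective,
        Ideal.mk_ker, PrimeSpectrum.mem_zeroLocus]
      intro j hj
      have : j * j ∈ J * J := Ideal.mul_mem_mul hj hj
      rw [hJ] at this
      have h0 : j * j = 0 := this
      have : j * j ∈ x'.asIdeal := by rw [h0]; exact zero_mem _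
      exact (x'.isPrime.mem_or_mem this).elim id id
    obtain ⟨y, hy⟩ := hx
    exact ⟨y, hy⟩
  let ι := pullback.fst X.hom i₀
  have hpb : IsPullback ι (pullback.snd X.hom i₀) X.hom i₀ := IsPullback.of_hasPullback _ _
  have hιu : ι ≫ u.left = ι := by
    have h1 := congrArg (fun k => k.left ≫ pullback.fst X.hom i₀) h
    simp only [Over.pullback, Over.homMk_left, Over.id_left, Category.id_comp] at h1
    rw [pullback.lift_fst] at h1
    exact h1
  have hι : MoreMor.IsThickening ι := Thick.baseChange ⟨hci, hsurj⟩ hpb.flip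
  have hιci := hι.1
  -- it suffices to treat the underlying morphism of schemes
  suffices hsuff : IsIso u.left by
    have : IsIso ((Over.forget _).map u) := hsuff
    exact isIso_of_reflects_iso u (Over.forget _)
  change MorphismProperty.isomorphisms Scheme.{u} u.left
  rw [@HasAffineProperty.eq_targetAffineLocally (MorphismProperty.isomorphisms Scheme.{u}) _
    instHasAffinePropertyIsomorphismsSchemeAndIsAffineIsIsoCommRingCatAppTop]
  intro U
  -- `u` is the identity on points
  have hU : u.left ⁻¹ᵁ U.1 = U.1 := by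
    apply ThickIsAffine.eq_of_preimage_eq ι hι.2.surj
    rw [← Scheme.Hom.comp_preimage, hιu]
  have hle : U.1 ≤ u.left ⁻¹ᵁ U.1 := hU.ge
  -- the ring endomorphism
  let A := Γ(X.left, U.1)
  have htop : U.1 ≤ X.hom ⁻¹ᵁ ⊤ := le_top
  let θ : A →+* A := (u.left.appLE U.1 U.1 hle).hom
  let ψ : R →+* A := (X.hom.appLE ⊤ U.1 htop).hom.comp (Scheme.ΓSpecIso (CommRingCat.of R)).inv.hom
  have hθψ : θ.comp ψ = ψ := by
    have h1 : X.hom.appLE ⊤ U.1 htop ≫ u.left.appLE U.1 U.1 hle = X.hom.appLE ⊤ U.1 htop := by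
      rw [Scheme.Hom.appLE_comp_appLE]
      simp only [Over.w]
    have h2 : θ.comp (X.hom.appLE ⊤ U.1 htop).hom = (X.hom.appLE ⊤ U.1 htop).hom := by
      rw [← CommRingCat.hom_comp, h1]
    rw [← RingHom.comp_assoc, h2]
  -- kernel of restriction to the thin scheme
  obtain ⟨-, hker⟩ := ThickAffine.ring_data hpb (isAffineOpen_top _) U.2 htop
  have hkerle : RingHom.ker (ι.app U.1).hom ≤ J.map ψ := by
    rw [hker, Ideal.map_le_iff_le_comap]
    intro x hx
    have hx0 : (i₀.app ⊤) x = 0 := hx
    have hnat := Scheme.ΓSpecIso_naturality (CommRingCat.ofHom (Ideal.Quotient.mk J))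
    have h3 := ConcreteCategory.congr_hom hnat x
    rw [ConcreteCategory.comp_apply, ConcreteCategory.comp_apply] at h3
    erw [hx0, map_zero] at h3
    have hr : (Scheme.ΓSpecIso (CommRingCat.of R)).hom x ∈ J := by
      rw [← Ideal.Quotient.eq_zero_iff_mem]
      exact h3.symm
    have hxr : x = (Scheme.ΓSpecIso (CommRingCat.of R)).inv
        ((Scheme.ΓSpecIso (CommRingCat.of R)).hom x) := by
      rw [← CommRingCat.comp_apply, Iso.hom_inv_id, CommRingCat.id_apply]
    rw [Ideal.mem_comap, hxr]
    exact Ideal.mem_map_of_mem ψ hr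
  have hθmem : ∀ a : A, θ a - a ∈ J.map ψ := by
    intro a
    apply hkerle
    rw [RingHom.mem_ker, map_sub, sub_eq_zero]
    have h1 : u.left.appLE U.1 U.1 hle ≫ ι.appLE U.1 (ι ⁻¹ᵁ U.1) le_rfl =
        ι.appLE U.1 (ι ⁻¹ᵁ U.1) le_rfl := by
      rw [Scheme.Hom.appLE_comp_appLE]
      simp only [hιu]
    rw [Scheme.Hom.appLE_eq_app] at h1
    exact ConcreteCategory.congr_hom h1 a
  -- apply the ring-level lemma
  let _ : Algebra R A := ψ.toAlgebra
  let θa : A →ₐ[R] A := { θ with commutes' := fun r => RingHom.congr_fun hθψ r }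
  have hbij : Function.Bijective θ := by
    refine Groth.Agent.S8364.bijective_of_mk_comp_eq J hJ θa ?_
    ext a
    simp only [AlgHom.comp_apply, Ideal.Quotient.mkₐ_eq_mk]
    exact Ideal.Quotient.eq.mpr (hθmem a)
  have hiso : IsIso (u.left.appLE U.1 U.1 hle) :=
    (ConcreteCategory.isIso_iff_bijective _).mpr hbij
  refine ⟨?_, ?_⟩
  · change IsAffineOpen (u.left ⁻¹ᵁ U.1)
    rw [hU]; exact U.2
  · rw [Scheme.Hom.appTop, morphismRestrict_app']
    have e₁ : U.1 = U.1.ι ''ᵁ ⊤ := (Scheme.Opens.ι_image_top U.1).symm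
    have e₂ : U.1 = (u.left ⁻¹ᵁ U.1).ι ''ᵁ (u.left ∣_ U.1) ⁻¹ᵁ ⊤ := by
      rw [Scheme.Hom.preimage_top, Scheme.Opens.ι_image_top, hU]
    exact (Scheme.Hom.appLE_congr u.left hle e₁ e₂ (fun φ => IsIso φ)).mp hiso


end Groth.Agent.S8362
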