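import Groth.Statements.S8365
import Mathlib.Tactic
import Groth.Agent.Lib.Helper47.LieTan

set_option autoImplicit false
universe u
open CategoryTheory MonObj AlgebraicGeometry
open LieS

namespace Groth.Agent.S8365

/-- For a monoid scheme X over a scheme S (an associative unital monoid object in S-schemes) and an
affine S-scheme T = Spec B, a point of X with values in the dual numbers over T is invertible if and
only if its restriction along the zero section ε = 0 is invertible in X(T); in particular every such
point restricting to the unit section is invertible. (The published statement is for monoid-valued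
functors satisfying a tangent-space exactness condition, which every representable functor
satisfies, and its special case where the restriction is the unit section allows unital composition
laws that need not be associative; this row treats monoid schemes only.) -/
theorem result (S : Scheme.{u}) (X : Over S) [MonObj X] (B : Type u) [CommRing B]
    (f : Spec (CommRingCat.of B) ⟶ S) (v : LieS.dpt B f ⟶ X) :
    IsUnit v ↔ IsUnit (LieS.zeroSec B f ≫ v) := by
  constructor
  · rintro ⟨⟨a, b, hab, hba⟩, rfl⟩
    refine ⟨⟨LieS.zeroSec B f ≫ a, LieS.zeroSec B f ≫ b, ?_, ?_⟩, rfl⟩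
    · rw [← MonObj.comp_mul, hab, MonObj.comp_one]
    · rw [← MonObj.comp_mul, hba, MonObj.comp_one]
  · rintro ⟨⟨v0, w0, h1, h2⟩, hv0⟩
    have hv0 : v0 = LieS.zeroSec B f ≫ v := hv0
    subst hv0
    -- right inverse
    have hu1 : LieS.zeroSec B f ≫ (v * (LieS.proj B f ≫ w0)) = 1 := by
      rw [MonObj.comp_mul, ← Category.assoc, LieS.zeroSec_proj, Category.id_comp, h1]
    have hu2 : LieS.zeroSec B f ≫ ((LieS.proj B f ≫ w0) * v) = 1 := by
      rw [MonObj.comp_mul, ← Category.assoc, LieS.zeroSec_proj, Category.id_comp, h2]
    have r1 := Groth.Agent.Lib.Helper47.LieTan.scale_mul_scale B f _ hu1 1 (-1)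
    rw [add_neg_cancel, Groth.Agent.Lib.Helper47.LieTan.scale_zero B f _ hu1,
      Groth.Agent.Lib.Helper47.LieTan.scale_one] at r1
    have r2 := Groth.Agent.Lib.Helper47.LieTan.scale_mul_scale B f _ hu2 (-1) 1
    rw [neg_add_cancel, Groth.Agent.Lib.Helper47.LieTan.scale_zero B f _ hu2,
      Groth.Agent.Lib.Helper47.LieTan.scale_one] at r2
    rw [isUnit_iff_exists_and_exists]
    refine ⟨⟨(LieS.proj B f ≫ w0) * (LieS.scale B f (-1) ≫ (v * (LieS.proj B f ≫ w0))), ?_⟩,
      ⟨(LieS.scale B f (-1) ≫ ((LieS.proj B f ≫ w0) * v)) * (LieS.proj B f ≫ w0), ?_⟩⟩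
    · rw [← _root_.mul_assoc]; exact r1
    · rw [_root_.mul_assoc]; exact r2

end Groth.Agent.S8365
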