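import Groth.Statements.S8366
import Groth.Agent.Lib.Helper54.ThickIso
import Groth.Agent.Lib.Helper54.GrpOfShear

set_option autoImplicit false
universe u
open CategoryTheory MonoidalCategory MonObj AlgebraicGeometry
open SGA3

namespace Groth.Agent.S8366

open Groth.Agent.Lib.Helper54 CartesianMonoidalCategory Limits in

/-- Over an affine base S = Spec R with S₀ = Spec (R/I) for a nilpotent ideal I: let X be an S-scheme
which is flat and either quasi-compact or locally of finite presentation over S, and P : X ×_S X → X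
a composition law. If P is associative and its base change to S₀ is the multiplication of some
group-scheme structure on X ×_S S₀, then P is the multiplication of a group-scheme structure on X.
(The published statement is over an arbitrary base scheme with S₀ defined by a nilpotent
quasi-coherent ideal; this row is its case of an affine base.) -/
theorem result (R : Type u) [CommRing R] (I : Ideal R)
    (hI : IsNilpotent I) (X : Over (Spec (CommRingCat.of R))) [Flat X.hom]
    (hX : QuasiCompact X.hom ∨ LocallyOfFinitePresentation X.hom) (P : X ⊗ X ⟶ X)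
    (hassoc : (P ▷ X) ≫ P = (α_ X X X).hom ≫ (X ◁ P) ≫ P)
    (h0 : ∃ _ : GrpObj ((Over.pullback (Spec.map (CommRingCat.ofHom (Ideal.Quotient.mk I)))).obj X),
      μ[(Over.pullback (Spec.map (CommRingCat.ofHom (Ideal.Quotient.mk I)))).obj X] =
        Functor.LaxMonoidal.μ (Over.pullback (Spec.map (CommRingCat.ofHom (Ideal.Quotient.mk I)))) X X ≫ (Over.pullback (Spec.map (CommRingCat.ofHom (Ideal.Quotient.mk I)))).map P) :
    ∃ _ : GrpObj X, μ[X] = P := by
  set i := Spec.map (CommRingCat.ofHom (Ideal.Quotient.mk I)) with hi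
  obtain ⟨hG, hμ⟩ := h0
  -- the shear maps are isomorphisms
  have hflXX : Flat (X ⊗ X).hom := by
    rw [Over.tensorObj_hom]
    infer_instance
  have h1 : IsIso ((Over.pullback i).map (lift (fst X X) P)) :=
    GrpOfShear.isIso_map_shearL P (Over.pullback i) hμ
  have h2 : IsIso ((Over.pullback i).map (lift P (snd X X))) :=
    GrpOfShear.isIso_map_shearR P (Over.pullback i) hμ
  have hL : IsIso (lift (fst X X) P) := ThickIso.isIso_of_isIso_overPullback I hI _
  have hR : IsIso (lift P (snd X X)) := ThickIso.isIso_of_isIso_overPullback I hI _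
  -- `X ⟶ S` is surjective
  have his : Surjective i := ThickIso.surjective_SpecMap_mk_of_isNilpotent I hI
  have hsurj : Surjective X.hom := by
    constructor
    intro s
    obtain ⟨s₀, rfl⟩ := his.surj s
    let η₀ : Spec (CommRingCat.of (R ⧸ I)) ⟶ pullback X.hom i :=
      (η[(Over.pullback i).obj X]).left
    have hη₀ : η₀ ≫ pullback.snd X.hom i = 𝟙 _ := Over.w (η[(Over.pullback i).obj X])
    refine ⟨(η₀ ≫ pullback.fst X.hom i) s₀, ?_⟩
    rw [← Scheme.Hom.comp_apply, Category.assoc, pullback.condition, ← Category.assoc, hη₀,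
      Category.id_comp]
  have hee : EffectiveEpi X.hom := by
    rcases hX with h | h
    · infer_instance
    · infer_instance
  -- the unit of `Hom(X, X)` descends to a section
  obtain ⟨eX, heX1, -, -, -⟩ := GrpOfShear.exists_unit P hassoc (𝟙 X)
  have hidem : GrpOfShear.mulHom P eX eX = eX := heX1 eX
  have hdesc : ∀ {Z : Scheme.{u}} (g₁ g₂ : Z ⟶ X.left), g₁ ≫ X.hom = g₂ ≫ X.hom →
      g₁ ≫ eX.left = g₂ ≫ eX.left := by
    intro Z g₁ g₂ hg
    let G₁ : Over.mk (g₁ ≫ X.hom) ⟶ X := Over.homMk g₁ rfl
    let G₂ : Over.mk (g₁ ≫ X.hom) ⟶ X := Over.homMk g₂ hg.symm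
    have hE : G₁ ≫ eX = G₂ ≫ eX := by
      apply GrpOfShear.eq_of_idem P hassoc
      · rw [← GrpOfShear.comp_mulHom, hidem]
      · rw [← GrpOfShear.comp_mulHom, hidem]
    exact congrArg (fun f => f.left) hE
  let ε₀ : Spec (CommRingCat.of R) ⟶ X.left := EffectiveEpi.desc X.hom eX.left hdesc
  have hε₀ : X.hom ≫ ε₀ = eX.left := EffectiveEpi.fac X.hom eX.left hdesc
  have hsec : ε₀ ≫ X.hom = 𝟙 _ := by
    rw [← cancel_epi X.hom, ← Category.assoc, hε₀, Over.w eX, Category.comp_id]
  let ε : 𝟙_ (Over (Spec (CommRingCat.of R))) ⟶ X := Over.homMk ε₀ hsec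
  exact GrpOfShear.exists_grpObj P hassoc ε

end Groth.Agent.S8366
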