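import Groth.Statements.S8369
import Mathlib.RingTheory.Smooth.Quotient
-- import your own Groth.Agent.* helpers here

set_option autoImplicit false
universe u v
open SGA3

namespace Groth.Agent.S8369

/-- Let A be a commutative ring, J a nilpotent ideal, N ⊆ M A-modules with M/N flat over A. If elements
of N have images generating the image of N in M/JM, then they generate N. (The published statement
takes finitely many elements; this row allows an arbitrary set, which the same argument permits.) -/
theorem result (A : Type u) [CommRing A] (J : Ideal A) (hJ : IsNilpotent J)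
    (M : Type v) [AddCommGroup M] [Module A M] (N : Submodule A M) [Module.Flat A (M ⧸ N)] (s : Set M)
    (hs : s ⊆ N)
    (hgen : (Submodule.span A s).map (J • (⊤ : Submodule A M)).mkQ = N.map (J • (⊤ : Submodule A M)).mkQ) :
    Submodule.span A s = N := by
  have hle : Submodule.span A s ≤ N := Submodule.span_le.mpr hs
  refine le_antisymm hle ?_
  have hflat : N ⊓ (J • (⊤ : Submodule A M)) = J • N := by
    have := LinearMap.ker_inf_smul_top_eq_smul_of_flat J N.mkQ (Submodule.mkQ_surjective N)
    simpa [Submodule.ker_mkQ] using this
  have h1 : N ≤ Submodule.span A s ⊔ J • N := by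
    intro n hn
    have hmem : (J • (⊤ : Submodule A M)).mkQ n ∈
        (Submodule.span A s).map (J • (⊤ : Submodule A M)).mkQ := by
      rw [hgen]; exact Submodule.mem_map_of_mem hn
    obtain ⟨n', hn', e⟩ := hmem
    have hd : n - n' ∈ J • (⊤ : Submodule A M) := by
      rw [← Submodule.ker_mkQ (J • (⊤ : Submodule A M)), LinearMap.mem_ker, map_sub, e, sub_self]
    have hd2 : n - n' ∈ N := sub_mem hn (hle hn')
    have hd3 : n - n' ∈ J • N := by rw [← hflat]; exact ⟨hd2, hd⟩
    have e2 : n = n' + (n - n') := by abel
    rw [e2]; exact Submodule.add_mem_sup hn' hd3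
  have h2 : ∀ k : ℕ, N ≤ Submodule.span A s ⊔ J ^ k • N := by
    intro k
    induction k with
    | zero => simp
    | succ k ih =>
      calc N ≤ Submodule.span A s ⊔ J ^ k • N := ih
        _ ≤ Submodule.span A s ⊔ J ^ k • (Submodule.span A s ⊔ J • N) :=
            sup_le_sup_left (Submodule.smul_mono le_rfl h1) _
        _ = Submodule.span A s ⊔ (J ^ k • Submodule.span A s ⊔ J ^ (k + 1) • N) := by
            rw [Submodule.smul_sup, pow_succ, Submodule.mul_smul]
        _ ≤ Submodule.span A s ⊔ J ^ (k + 1) • N := by
            refine sup_le le_sup_left (sup_le ?_ le_sup_right)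
            exact Submodule.smul_le_right.trans le_sup_left
  obtain ⟨k, hk⟩ := hJ
  have := h2 k
  rw [hk] at this
  simpa using this

end Groth.Agent.S8369
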