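import Groth.Statements.S8370
import Mathlib.Tactic

set_option autoImplicit false
universe u
open CategoryTheory MonObj AlgebraicGeometry
open LieS

namespace Groth.Agent.S8370


theorem hom_ext_affine {S : Scheme.{u}} {G : Over S} (X' : Over S) (a b : X' ⟶ G)
    (H : ∀ (C : Type u) [CommRing C] (j : Spec (CommRingCat.of C) ⟶ X'.left),
      (Over.homMk j rfl : Over.mk (j ≫ X'.hom) ⟶ X') ≫ a = (Over.homMk j rfl : Over.mk (j ≫ X'.hom) ⟶ X') ≫ b) :
    a = b := by
  apply Over.OverMorphism.ext
  apply Scheme.Cover.hom_ext X'.left.affineCover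
  intro j
  have := congrArg CommaMorphism.left (H _ (X'.left.affineCover.f j))
  exact this



theorem dualHom_eq {B C : Type u} [CommRing B] [CommRing C] (ψ : DualNumber B →+* C) :
    ψ = LieS.dualHom (ψ.comp (algebraMap B (DualNumber B))) (ψ DualNumber.eps)
      (by rw [← map_mul, LieS.eps_sq, map_zero]) := by
  refine RingHom.ext fun x => ?_
  rw [LieS.dualHom_apply]
  simp only [RingHom.comp_apply]
  rw [← map_mul, ← map_add]
  congr 1
  ext <;> simp [TrivSqZeroExt.algebraMap_eq_inl']

theorem affine_case {S : Scheme.{u}} (G K : Over S) [GrpObj G] [GrpObj K] (i : K ⟶ G)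
    (B : Type u) [CommRing B] (f : Spec (CommRingCat.of B) ⟶ S) (x : LieS.Lie G B f)
    (hR : ∀ (B' : Type u) [CommRing B'] (h : B →+* B')
      (k : LieS.pt B' (Spec.map (CommRingCat.ofHom h) ≫ f) ⟶ K),
      LieS.Ad G B' (Spec.map (CommRingCat.ofHom h) ≫ f) (k ≫ i) (LieS.pull G f h x) = LieS.pull G f h x)
    (C : Type u) [CommRing C] (g : Spec (CommRingCat.of C) ⟶ S)
    (y : Over.mk g ⟶ LieS.dpt B f) (hK : Over.mk g ⟶ K) :
    (y ≫ x.1) * (hK ≫ i) = (hK ≫ i) * (y ≫ x.1) := by
  obtain ⟨ψ', hψ'⟩ := Spec.map_surjective y.left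
  set ψ : DualNumber B →+* C := ψ'.hom with hψdef
  set h0 : B →+* C := ψ.comp (algebraMap B (DualNumber B)) with hh0
  set c : C := ψ DualNumber.eps with hcdef
  have hc : c * c = 0 := by rw [hcdef, ← map_mul, LieS.eps_sq, map_zero]
  have hg : g = Spec.map (CommRingCat.ofHom h0) ≫ f := by
    have hw := Over.w y
    change y.left ≫ Spec.map (CommRingCat.ofHom (algebraMap B (DualNumber B))) ≫ f = g at hw
    have e1 : Spec.map ψ' ≫ Spec.map (CommRingCat.ofHom (algebraMap B (DualNumber B))) =
        Spec.map (CommRingCat.ofHom h0) := by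
      rw [← Spec.map_comp]; rfl
    rw [← hw, ← hψ', ← e1, Category.assoc]
    rfl
  subst hg
  -- the section s_c
  have hsc : Spec.map (CommRingCat.ofHom (LieS.dualHom (RingHom.id C) c hc)) ≫
      (LieS.dpt C (Spec.map (CommRingCat.ofHom h0) ≫ f)).hom =
      (LieS.pt C (Spec.map (CommRingCat.ofHom h0) ≫ f)).hom := by
    change Spec.map _ ≫ Spec.map _ ≫ _ = Spec.map (CommRingCat.ofHom h0) ≫ f
    rw [← Category.assoc, LieS.specMap_comp, LieS.dualHom_comp_algebraMap, CommRingCat.ofHom_id]
    erw [Spec.map_id]; exact Category.id_comp _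
  let sc : LieS.pt C (Spec.map (CommRingCat.ofHom h0) ≫ f) ⟶
      LieS.dpt C (Spec.map (CommRingCat.ofHom h0) ≫ f) := Over.homMk _ hsc
  have hy : y = sc ≫ LieS.dptMap f h0 := by
    apply Over.OverMorphism.ext
    change y.left = Spec.map _ ≫ Spec.map _
    rw [LieS.specMap_comp, ← hψ']
    congr 2
    apply CommRingCat.hom_ext
    change ψ = _
    rw [dualHom_eq ψ]
    refine RingHom.ext fun z => ?_
    simp [LieS.bcHom, LieS.dualHom_apply, TrivSqZeroExt.algebraMap_eq_inl', hh0, hcdef]
  have hsp : sc ≫ LieS.proj C (Spec.map (CommRingCat.ofHom h0) ≫ f) = 𝟙 _ := by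
    apply Over.OverMorphism.ext
    change Spec.map _ ≫ Spec.map _ = 𝟙 _
    rw [LieS.specMap_comp, LieS.dualHom_comp_algebraMap, CommRingCat.ofHom_id]
    erw [Spec.map_id]
  have key := congrArg Subtype.val (hR C h0 hK)
  change (LieS.proj C _ ≫ hK ≫ i) * (LieS.dptMap f h0 ≫ x.1) * (LieS.proj C _ ≫ hK ≫ i)⁻¹ =
    LieS.dptMap f h0 ≫ x.1 at key
  have key2 := congrArg (fun t => sc ≫ t) key
  simp only [MonObj.comp_mul, GrpObj.comp_inv] at key2
  rw [← Category.assoc sc, hsp, Category.id_comp, ← Category.assoc sc, ← hy] at key2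
  calc (y ≫ x.1) * (hK ≫ i) = ((hK ≫ i) * (y ≫ x.1) * (hK ≫ i)⁻¹) * (hK ≫ i) := by rw [key2]
    _ = (hK ≫ i) * (y ≫ x.1) := by group



/-- For a group scheme G over a scheme S (the group law of the Lie algebra functor of a group scheme is
commutative, which the published statement assumes), a sub-group-scheme K of G given by a
monomorphic homomorphism i, and an affine S-scheme T = Spec B: an element x of Lie(G/S)(T) belongs
to the Lie algebra of the centraliser of K, i.e. the point x of G with values in the dual numbers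
I_T commutes with every point of K with values in any scheme over I_T, if and only if x is fixed by
the adjoint action of every point of K with values in an affine scheme T' = Spec B' over T (acting
on the restriction of x to T'). -/
theorem result (S : Scheme.{u}) (G K : Over S) [GrpObj G] [GrpObj K] (i : K ⟶ G)
    [IsMonHom i] [Mono i] (B : Type u) [CommRing B] (f : Spec (CommRingCat.of B) ⟶ S) (x : LieS.Lie G B f) :
    (∀ (X' : Over S) (y : X' ⟶ LieS.dpt B f) (h : X' ⟶ K), (y ≫ x.1) * (h ≫ i) = (h ≫ i) * (y ≫ x.1)) ↔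
    (∀ (B' : Type u) [CommRing B'] (h : B →+* B')
      (k : LieS.pt B' (Spec.map (CommRingCat.ofHom h) ≫ f) ⟶ K),
      LieS.Ad G B' (Spec.map (CommRingCat.ofHom h) ≫ f) (k ≫ i) (LieS.pull G f h x) = LieS.pull G f h x) := by
  constructor
  · intro hL B' _ h k
    apply Subtype.ext
    change (LieS.proj B' _ ≫ k ≫ i) * (LieS.dptMap f h ≫ x.1) * (LieS.proj B' _ ≫ k ≫ i)⁻¹ =
      LieS.dptMap f h ≫ x.1
    have h1 := hL (LieS.dpt B' (Spec.map (CommRingCat.ofHom h) ≫ f)) (LieS.dptMap f h)
      (LieS.proj B' _ ≫ k)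
    rw [Category.assoc] at h1
    rw [← h1]
    group
  · intro hR X' y hK
    apply hom_ext_affine
    intro C _ j
    rw [MonObj.comp_mul, MonObj.comp_mul]
    simp only [← Category.assoc]
    exact affine_case G K i B f x hR C (j ≫ X'.hom) (Over.homMk j rfl ≫ y) (Over.homMk j rfl ≫ hK)

end Groth.Agent.S8370
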