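import Groth.Statements.S8371
import Mathlib.Tactic

set_option autoImplicit false
universe u
open CategoryTheory MonObj AlgebraicGeometry
open LieS

namespace Groth.Agent.S8371

/-- The sequence of Lie algebras, with M = O_S: if 1 → G' → G → G'' → 1 is a sequence of homomorphisms
of group schemes over a scheme S which is exact on points with values in every S-scheme, then for
every affine S-scheme T = Spec B the derived morphisms give an exact sequence 1 → Lie(G'/S)(T) →
Lie(G/S)(T) → Lie(G''/S)(T) → 1: the first is injective, the second surjective, and the kernel of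
the second is the image of the first. -/
theorem result (S : Scheme.{u}) (G' G G'' : Over S) [GrpObj G'] [GrpObj G] [GrpObj G'']
    (i : G' ⟶ G) [IsMonHom i] (q : G ⟶ G'') [IsMonHom q]
    (hex : ∀ T : Over S, Function.Injective (fun a : T ⟶ G' => a ≫ i) ∧
      Function.Surjective (fun b : T ⟶ G => b ≫ q) ∧ ∀ b : T ⟶ G, b ≫ q = 1 ↔ ∃ a : T ⟶ G', a ≫ i = b)
    (B : Type u) [CommRing B] (f : Spec (CommRingCat.of B) ⟶ S) :
    Function.Injective (LieS.map B f i) ∧ Function.Surjective (LieS.map B f q) ∧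
      ∀ v : LieS.Lie G B f, LieS.map B f q v = 1 ↔ ∃ w : LieS.Lie G' B f, LieS.map B f i w = v := by
  refine ⟨?_, ?_, ?_⟩
  · intro a b hab
    apply Subtype.ext
    apply (hex (LieS.dpt B f)).1
    exact congrArg Subtype.val hab
  · intro w
    obtain ⟨b, hb⟩ := (hex (LieS.dpt B f)).2.1 w.1
    have hb : b ≫ q = w.1 := hb
    have hw : LieS.zeroSec B f ≫ w.1 = 1 := w.2
    have hmul : ∀ (X : Over S) (a c : X ⟶ G), (a * c) ≫ q = (a ≫ q) * (c ≫ q) :=
      fun X a c => (IsMonHom.monoidHom q X).map_mul a c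
    have hinv : ∀ (X : Over S) (a : X ⟶ G), a⁻¹ ≫ q = (a ≫ q)⁻¹ :=
      fun X a => map_inv (IsMonHom.monoidHom q X) a
    have hb0 : (LieS.zeroSec B f ≫ b) ≫ q = 1 := by
      rw [Category.assoc, hb]; exact hw
    have hb' : LieS.zeroSec B f ≫ (b * (LieS.proj B f ≫ LieS.zeroSec B f ≫ b)⁻¹) = 1 := by
      rw [MonObj.comp_mul, GrpObj.comp_inv, ← Category.assoc (LieS.zeroSec B f),
        LieS.zeroSec_proj, Category.id_comp]
      exact mul_inv_cancel _
    refine ⟨⟨b * (LieS.proj B f ≫ LieS.zeroSec B f ≫ b)⁻¹, hb'⟩, ?_⟩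
    apply Subtype.ext
    change (b * (LieS.proj B f ≫ LieS.zeroSec B f ≫ b)⁻¹) ≫ q = w.1
    rw [hmul, hinv, Category.assoc, hb0, hb]
    have : LieS.proj B f ≫ (1 : LieS.pt B f ⟶ G'') = 1 := MonObj.comp_one _
    rw [this, inv_one, _root_.mul_one]
  · intro v
    constructor
    · intro hv
      have hv' : v.1 ≫ q = 1 := congrArg Subtype.val hv
      obtain ⟨a, ha⟩ := ((hex (LieS.dpt B f)).2.2 v.1).mp hv'
      have ha0 : LieS.zeroSec B f ≫ a = 1 := by
        apply (hex (LieS.pt B f)).1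
        change (LieS.zeroSec B f ≫ a) ≫ i = 1 ≫ i
        rw [Category.assoc, ha]
        have h1 : (1 : LieS.pt B f ⟶ G') ≫ i = 1 := (IsMonHom.monoidHom i _).map_one
        rw [h1]
        exact v.2
      exact ⟨⟨a, ha0⟩, Subtype.ext ha⟩
    · rintro ⟨w, rfl⟩
      apply Subtype.ext
      change (w.1 ≫ i) ≫ q = 1
      exact ((hex (LieS.dpt B f)).2.2 (w.1 ≫ i)).mpr ⟨w.1, rfl⟩

end Groth.Agent.S8371
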