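import Groth.Statements.S8373
import Mathlib
import Groth.Agent.S2964

set_option autoImplicit false
universe u
open scoped TensorProduct
open SGA3t2b

namespace Groth.Agent.S8373
set_option maxHeartbeats 400000
open scoped TensorProduct
open SGA3t2b

section
variable {A : Type u} [CommRing A] {L : Type u} [LieRing L] [LieAlgebra A L]

lemma ad_pow_one_tmul (K : Type u) [CommRing K] [Algebra A K] (a x : L) (n : ℕ) :
    ((LieAlgebra.ad K (K ⊗[A] L) ((1 : K) ⊗ₜ[A] a)) ^ n) ((1 : K) ⊗ₜ[A] x)
      = (1 : K) ⊗ₜ[A] (((LieAlgebra.ad A L a) ^ n) x) := by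
  induction n with
  | zero => simp
  | succ n ih =>
    rw [pow_succ', Module.End.mul_apply, ih, pow_succ', Module.End.mul_apply,
      LieAlgebra.ad_apply, LieAlgebra.ExtendScalars.bracket_tmul, mul_one, LieAlgebra.ad_apply]

lemma finite_of_projective_quotient [Module.Finite A L] (N : Submodule A L)
    [Module.Projective A (L ⧸ N)] : Module.Finite A N := by
  obtain ⟨s, hs⟩ := Module.projective_lifting_property N.mkQ LinearMap.id (Submodule.mkQ_surjective N)
  let r : L →ₗ[A] N := (LinearMap.id - s ∘ₗ N.mkQ).codRestrict N (by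
    intro x
    rw [← Submodule.Quotient.mk_eq_zero, LinearMap.sub_apply, Submodule.Quotient.mk_sub]
    have := LinearMap.congr_fun hs (N.mkQ x)
    simp only [LinearMap.comp_apply, LinearMap.id_apply, Submodule.mkQ_apply] at this ⊢
    rw [this, sub_self])
  have hr : Function.Surjective r := by
    intro n
    refine ⟨n, ?_⟩
    apply Subtype.ext
    simp [r, (Submodule.Quotient.mk_eq_zero N).mpr n.2]
  exact Module.Finite.of_surjective r hr

lemma coe_ad_pow (H : LieSubalgebra A L) (a h : H) (n : ℕ) :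
    ((((LieAlgebra.ad A H a) ^ n) h : H) : L) = ((LieAlgebra.ad A L (a : L)) ^ n) (h : L) := by
  induction n with
  | zero => simp
  | succ n ih =>
    rw [pow_succ', Module.End.mul_apply, pow_succ', Module.End.mul_apply, ← ih]
    rfl

lemma le_engel [Module.Finite A L] (H : LieSubalgebra A L) (hH : IsCartanRel H) (a : L)
    (haH : a ∈ H) : H ≤ LieSubalgebra.engel A a := by
  haveI : Module.Projective A (L ⧸ H.toSubmodule) := hH.1
  haveI : Module.Finite A H.toSubmodule := finite_of_projective_quotient H.toSubmodule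
  haveI : Module.Finite A H := ‹Module.Finite A H.toSubmodule›
  have hnil : LieRing.IsNilpotent H := Groth.Agent.S2964.part1 (A := A) (fun p => (hH.2 p).1)
  obtain ⟨k, hk⟩ := LieAlgebra.nilpotent_ad_of_nilpotent_algebra A H
  intro h hh
  rw [LieSubalgebra.mem_engel_iff]
  refine ⟨k, ?_⟩
  have := coe_ad_pow H ⟨a, haH⟩ ⟨h, hh⟩ k
  rw [hk] at this
  simpa using this.symm

lemma fibre_eq_engel [Module.Finite A L] (H : LieSubalgebra A L) (hH : IsCartanRel H) (a : L)
    (haH : a ∈ H) (ha : IsQuasiRegular A L a) (p : PrimeSpectrum A) :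
    fibreSubmodule p H = (LieSubalgebra.engel p.asIdeal.ResidueField
      ((1 : p.asIdeal.ResidueField) ⊗ₜ[A] a)).toSubmodule := by
  apply Submodule.eq_of_le_of_finrank_eq
  · unfold fibreSubmodule
    rw [Submodule.baseChange_eq_span, Submodule.span_le]
    rintro _ ⟨h, hh, rfl⟩
    have hh' := le_engel H hH a haH hh
    rw [LieSubalgebra.mem_engel_iff] at hh'
    obtain ⟨n, hn⟩ := hh'
    change _ ∈ LieSubalgebra.engel _ _
    rw [LieSubalgebra.mem_engel_iff]
    refine ⟨n, ?_⟩
    rw [TensorProduct.mk_apply, ad_pow_one_tmul, hn, TensorProduct.tmul_zero]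
  · rw [(hH.2 p).2.2]
    exact ((LieAlgebra.isRegular_iff_finrank_engel_eq_rank _ _).mp (ha p)).symm

/-- the endomorphism of `L / H` induced by `ad a`, for `a ∈ H` -/
noncomputable def phi (H : LieSubalgebra A L) (a : L) (haH : a ∈ H) :
    (L ⧸ H.toSubmodule) →ₗ[A] (L ⧸ H.toSubmodule) :=
  H.toSubmodule.mapQ H.toSubmodule (LieAlgebra.ad A L a) (fun h hh => H.lie_mem haH hh)

lemma phi_mk (H : LieSubalgebra A L) (a : L) (haH : a ∈ H) (x : L) :
    phi H a haH (Submodule.Quotient.mk x) = Submodule.Quotient.mk ⁅a, x⁆ := rfl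

lemma phi_pow_mk (H : LieSubalgebra A L) (a : L) (haH : a ∈ H) (x : L) (n : ℕ) :
    ((phi H a haH) ^ n) (Submodule.Quotient.mk x)
      = Submodule.Quotient.mk (((LieAlgebra.ad A L a) ^ n) x) := by
  induction n with
  | zero => simp
  | succ n ih =>
    rw [pow_succ', Module.End.mul_apply, ih, phi_mk, pow_succ', Module.End.mul_apply,
      LieAlgebra.ad_apply]

lemma phi_surjective [Module.Finite A L] (H : LieSubalgebra A L) (hH : IsCartanRel H) (a : L)
    (haH : a ∈ H) (ha : IsQuasiRegular A L a) : Function.Surjective (phi H a haH) := by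
  rw [← LinearMap.range_eq_top, ← Submodule.Quotient.subsingleton_iff,
    ← Module.support_eq_empty_iff (R := A), Set.eq_empty_iff_forall_notMem]
  intro p
  rw [Module.mem_support_iff_nontrivial_residueField_tensorProduct, not_nontrivial_iff_subsingleton]
  set K := p.asIdeal.ResidueField with hK
  set R := LinearMap.range (phi H a haH) with hR
  let π : L →ₗ[A] (L ⧸ H.toSubmodule) := H.toSubmodule.mkQ
  let τ := π.baseChange K
  let σ := R.mkQ.baseChange K
  let Φ := (phi H a haH).baseChange K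
  let α := LieAlgebra.ad K (K ⊗[A] L) ((1 : K) ⊗ₜ[A] a)
  have hτ : Function.Surjective τ :=
    LinearMap.lTensor_surjective K (Submodule.mkQ_surjective _)
  have hσ : Function.Surjective σ :=
    LinearMap.lTensor_surjective K (Submodule.mkQ_surjective _)
  have hσΦ : σ ∘ₗ Φ = 0 := by
    rw [← LinearMap.baseChange_comp]
    have : R.mkQ ∘ₗ phi H a haH = 0 := by
      ext x
      simp [R]
    rw [this, LinearMap.baseChange_zero]
  have hτα : τ ∘ₗ α = Φ ∘ₗ τ := by
    ext x
    simp [τ, α, Φ, π, LieAlgebra.ExtendScalars.bracket_tmul, phi_mk]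
  have hτH : ∀ e ∈ fibreSubmodule p H, τ e = 0 := by
    intro e he
    unfold fibreSubmodule at he
    rw [Submodule.baseChange_eq_span] at he
    refine Submodule.span_induction (p := fun e _ => τ e = 0) ?_ ?_ ?_ ?_ he
    · rintro _ ⟨h, hh, rfl⟩
      simp [τ, π, (Submodule.Quotient.mk_eq_zero _).mpr hh]
    · simp
    · intro x y _ _ hx hy; rw [map_add, hx, hy, add_zero]
    · intro c x _ hx; rw [map_smul, hx, smul_zero]
  -- Fitting decomposition
  obtain ⟨n, hn⟩ := ((LinearMap.eventually_isCompl_ker_pow_range_pow α).and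
    (Filter.eventually_ge_atTop 1)).exists
  obtain ⟨hcompl, hn1⟩ := hn
  refine ⟨fun t₁ t₂ => ?_⟩
  suffices h0 : ∀ t : K ⊗[A] ((L ⧸ H.toSubmodule) ⧸ R), t = 0 by rw [h0 t₁, h0 t₂]
  intro t
  obtain ⟨t', rfl⟩ := hσ t
  obtain ⟨z, rfl⟩ := hτ t'
  have hz : z ∈ (LinearMap.ker (α ^ n)) ⊔ (LinearMap.range (α ^ n)) := by
    rw [hcompl.sup_eq_top]; exact Submodule.mem_top
  obtain ⟨e, he, w', ⟨w, rfl⟩, rfl⟩ := Submodule.mem_sup.mp hz
  have he' : e ∈ fibreSubmodule p H := by
    rw [fibre_eq_engel H hH a haH ha p]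
    change e ∈ LieSubalgebra.engel _ _
    rw [LieSubalgebra.mem_engel_iff]
    exact ⟨n, he⟩
  obtain ⟨m, rfl⟩ : ∃ m, n = m + 1 := ⟨n - 1, by omega⟩
  rw [map_add, hτH e he', zero_add, pow_succ', Module.End.mul_apply]
  have := LinearMap.congr_fun hτα ((α ^ m) w)
  simp only [LinearMap.comp_apply] at this
  rw [this]
  exact LinearMap.congr_fun hσΦ _

theorem cartan_eq_engel [Module.Finite A L] (H : LieSubalgebra A L) (hH : IsCartanRel H) (a : L)
    (haH : a ∈ H) (ha : IsQuasiRegular A L a) : H = LieSubalgebra.engel A a := by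
  apply le_antisymm (le_engel H hH a haH)
  intro x hx
  rw [LieSubalgebra.mem_engel_iff] at hx
  obtain ⟨n, hn⟩ := hx
  have hinj : Function.Injective (phi H a haH) :=
    OrzechProperty.injective_of_surjective_endomorphism _ (phi_surjective H hH a haH ha)
  have hinjn : Function.Injective ((phi H a haH) ^ n) := by
    rw [Module.End.coe_pow]; exact hinj.iterate n
  have h0 : ((phi H a haH) ^ n) (Submodule.Quotient.mk x) = 0 := by
    rw [phi_pow_mk, hn, Submodule.Quotient.mk_zero]
  have := hinjn (h0.trans (map_zero _).symm)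
  exact (Submodule.Quotient.mk_eq_zero _).mp this


section auto
variable (K : Type u) [Field K] [Algebra A K] (u : L ≃ₗ⁅A⁆ L)

/-- base change of a Lie automorphism, as a linear equivalence -/
noncomputable def U : (K ⊗[A] L) ≃ₗ[K] (K ⊗[A] L) :=
  (u.toLinearEquiv).baseChange A K L L

lemma U_tmul (c : K) (x : L) : U K u (c ⊗ₜ[A] x) = c ⊗ₜ[A] u x := rfl

lemma U_lie (s t : K ⊗[A] L) : U K u ⁅s, t⁆ = ⁅U K u s, U K u t⁆ := by
  induction s using TensorProduct.induction_on with
  | zero => simp
  | tmul c x =>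
    induction t using TensorProduct.induction_on with
    | zero => simp
    | tmul d y =>
      rw [LieAlgebra.ExtendScalars.bracket_tmul, U_tmul, U_tmul, U_tmul,
        LieAlgebra.ExtendScalars.bracket_tmul, LieEquiv.map_lie]
    | add t₁ t₂ h₁ h₂ => rw [lie_add, map_add, h₁, h₂, map_add, lie_add]
  | add s₁ s₂ h₁ h₂ => rw [add_lie, map_add, h₁, h₂, map_add, add_lie]

lemma U_ad_pow (z w : K ⊗[A] L) (n : ℕ) :
    ((LieAlgebra.ad K (K ⊗[A] L) (U K u z)) ^ n) (U K u w)
      = U K u (((LieAlgebra.ad K (K ⊗[A] L) z) ^ n) w) := by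
  induction n with
  | zero => simp
  | succ n ih =>
    rw [pow_succ', Module.End.mul_apply, ih, pow_succ', Module.End.mul_apply,
      LieAlgebra.ad_apply, LieAlgebra.ad_apply, U_lie]

lemma engel_U (z : K ⊗[A] L) :
    (LieSubalgebra.engel K (U K u z)).toSubmodule
      = (LieSubalgebra.engel K z).toSubmodule.map (U K u).toLinearMap := by
  ext y
  constructor
  · intro hy
    change y ∈ LieSubalgebra.engel K _ at hy
    rw [LieSubalgebra.mem_engel_iff] at hy
    obtain ⟨n, hn⟩ := hy
    refine ⟨(U K u).symm y, ?_, by simp⟩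
    change _ ∈ LieSubalgebra.engel K _
    rw [LieSubalgebra.mem_engel_iff]
    refine ⟨n, ?_⟩
    apply (U K u).injective
    rw [← U_ad_pow, LinearEquiv.apply_symm_apply, hn, map_zero]
  · rintro ⟨w, hw, rfl⟩
    change w ∈ LieSubalgebra.engel K _ at hw
    rw [LieSubalgebra.mem_engel_iff] at hw
    obtain ⟨n, hn⟩ := hw
    change _ ∈ LieSubalgebra.engel K _
    rw [LieSubalgebra.mem_engel_iff]
    refine ⟨n, ?_⟩
    change ((LieAlgebra.ad K (K ⊗[A] L) (U K u z)) ^ n) (U K u w) = 0
    rw [U_ad_pow, hn, map_zero]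

end auto

lemma quasiRegular_map [Module.Finite A L] (a : L) (ha : IsQuasiRegular A L a) (u : L ≃ₗ⁅A⁆ L) :
    IsQuasiRegular A L (u a) := by
  intro p
  have h := ha p
  rw [LieAlgebra.isRegular_iff_finrank_engel_eq_rank] at h ⊢
  rw [← h]
  have e := engel_U p.asIdeal.ResidueField u ((1 : p.asIdeal.ResidueField) ⊗ₜ[A] a)
  rw [U_tmul] at e
  have e2 := LinearEquiv.finrank_map_eq (U p.asIdeal.ResidueField u)
    (LieSubalgebra.engel p.asIdeal.ResidueField ((1 : p.asIdeal.ResidueField) ⊗ₜ[A] a)).toSubmodule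
  refine Eq.trans ?_ e2
  exact congrArg (fun S : Submodule p.asIdeal.ResidueField (p.asIdeal.ResidueField ⊗[A] L) =>
    Module.finrank p.asIdeal.ResidueField S) e

lemma engel_map (a : L) (u : L ≃ₗ⁅A⁆ L) :
    (LieSubalgebra.engel A a).map u.toLieHom = LieSubalgebra.engel A (u a) := by
  have key : ∀ (x : L) (n : ℕ), ((LieAlgebra.ad A L (u a)) ^ n) (u x)
      = u (((LieAlgebra.ad A L a) ^ n) x) := by
    intro x n
    induction n with
    | zero => simp
    | succ n ih =>
      rw [pow_succ', Module.End.mul_apply, ih, pow_succ', Module.End.mul_apply,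
        LieAlgebra.ad_apply, LieAlgebra.ad_apply, LieEquiv.map_lie]
  ext x
  rw [LieSubalgebra.mem_map, LieSubalgebra.mem_engel_iff]
  constructor
  · rintro ⟨y, hy, rfl⟩
    rw [LieSubalgebra.mem_engel_iff] at hy
    obtain ⟨n, hn⟩ := hy
    refine ⟨n, ?_⟩
    change ((LieAlgebra.ad A L (u a)) ^ n) (u y) = 0
    rw [key, hn, map_zero]
  · rintro ⟨n, hn⟩
    refine ⟨u.symm x, ?_, by simp⟩
    rw [LieSubalgebra.mem_engel_iff]
    refine ⟨n, ?_⟩
    apply u.injective
    change u (((LieAlgebra.ad A L a) ^ n) (u.symm x)) = u 0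
    rw [← key, LieEquiv.apply_symm_apply, hn, map_zero]

theorem main [Module.Finite A L]
    (H : LieSubalgebra A L) (hH : IsCartanRel H) (a : L) (haH : a ∈ H)
    (ha : IsQuasiRegular A L a) (u : L ≃ₗ⁅A⁆ L) :
    H.map u.toLieHom = H ↔ u a ∈ H := by
  constructor
  · intro h
    rw [← h, LieSubalgebra.mem_map]
    exact ⟨a, haH, rfl⟩
  · intro hua
    have h1 := cartan_eq_engel H hH a haH ha
    have h2 := cartan_eq_engel H hH (u a) hua (quasiRegular_map a ha u)
    conv_lhs => rw [h1]
    rw [engel_map, ← h2]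

end
end Groth.Agent.S8373

namespace Groth.Agent.S8373

/-- Over an affine base Spec A: let L be a Lie algebra over A which is a finitely generated projective
A-module, H a Cartan subalgebra of L relative to A, a an element of H which is quasi-regular in L,
and u an automorphism of the Lie algebra L over A. Then u(H) = H if and only if u(a) ∈ H. -/
theorem result {A : Type u} [CommRing A] {L : Type u} [LieRing L]
    [LieAlgebra A L] [Module.Finite A L] [Module.Projective A L]
    (H : LieSubalgebra A L) (hH : SGA3t2b.IsCartanRel H) (a : L) (haH : a ∈ H)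
    (ha : SGA3t2b.IsQuasiRegular A L a) (u : L ≃ₗ⁅A⁆ L) :
    H.map u.toLieHom = H ↔ u a ∈ H := by
  exact main H hH a haH ha u

end Groth.Agent.S8373
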