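import Groth.Statements.S8372
import Mathlib
import Groth.Agent.S8373

set_option autoImplicit false
universe u
open scoped TensorProduct
open SGA3t2b

namespace Groth.Agent.S8372
set_option maxHeartbeats 400000
open scoped TensorProduct

section field
open LieAlgebra LieSubalgebra Module
attribute [local instance 100] LieRing.ofAssociativeRing

lemma natTrailingDegree_map_of_injective {R S : Type*} [Semiring R] [Semiring S] (f : R →+* S)
    (hf : Function.Injective f) (p : Polynomial R) :
    (p.map f).natTrailingDegree = p.natTrailingDegree := by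
  unfold Polynomial.natTrailingDegree Polynomial.trailingDegree
  rw [Polynomial.support_map_of_injective p hf]

variable (K : Type u) [Field K] {L : Type u} [LieRing L] [LieAlgebra K L] [Module.Finite K L]

/-- over an infinite field, the Engel subalgebra of a regular element is nilpotent -/
lemma engel_nilpotent_of_infinite [Infinite K] (x : L) (hx : IsRegular K x) :
    LieRing.IsNilpotent (engel K x) := by
  have h : (finrank K L : Cardinal) ≤ Cardinal.mk K :=
    Cardinal.natCast_le_aleph0.trans <| Cardinal.infinite_iff.mp ‹Infinite K›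
  apply isNilpotent_of_forall_le_engel
  intro y hy
  set Ex : {engel K z | z ∈ engel K x} := ⟨engel K x, x, self_mem_engel _ _, rfl⟩
  suffices IsBot Ex from @this ⟨engel K y, y, hy, rfl⟩
  apply engel_isBot_of_isMin h (engel K x) Ex le_rfl
  rintro ⟨_, y, hy, rfl⟩ hyx
  suffices finrank K (engel K x) ≤ finrank K (engel K y) by
    suffices engel K y = engel K x from this.ge
    apply LieSubalgebra.toSubmodule_injective
    exact Submodule.eq_of_le_of_finrank_le hyx this
  rw [(isRegular_iff_finrank_engel_eq_rank K x).mp hx]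
  apply rank_le_finrank_engel

variable (K' : Type u) [Field K'] [Algebra K K']

lemma ad_baseChange_eq :
    (ad K' (K' ⊗[K] L)).toLinearMap
      = LinearMap.tensorProduct K K' L L ∘ₗ ((ad K L).toLinearMap).baseChange K' := by
  ext x y
  simp [LieAlgebra.ExtendScalars.bracket_tmul, LinearMap.tensorProduct,
    TensorProduct.AlgebraTensorModule.lift_apply]

lemma rank_baseChange : LieAlgebra.rank K' (K' ⊗[K] L) = LieAlgebra.rank K L := by
  let b := Module.Free.chooseBasis K L
  rw [LieAlgebra.rank, LieModule.rank, LieAlgebra.rank, LieModule.rank,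
    LinearMap.nilRank_eq_polyCharpoly_natTrailingDegree _ (Algebra.TensorProduct.basis K' b),
    LinearMap.nilRank_eq_polyCharpoly_natTrailingDegree _ b]
  have := LinearMap.polyCharpoly_baseChange ((ad K L).toLinearMap) b K'
  rw [← ad_baseChange_eq] at this
  erw [this]
  exact natTrailingDegree_map_of_injective _
    (MvPolynomial.map_injective _ (algebraMap K K').injective) _

lemma isRegular_baseChange (x : L) (hx : IsRegular K x) :
    IsRegular K' ((1 : K') ⊗ₜ[K] x) := by
  rw [isRegular_iff_natTrailingDegree_charpoly_eq_rank] at hx ⊢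
  rw [rank_baseChange, ← hx]
  have : ad K' (K' ⊗[K] L) ((1 : K') ⊗ₜ[K] x) = (ad K L x).baseChange K' :=
    LieModule.toEnd_baseChange _ _ _ _ _
  rw [this, LinearMap.charpoly_baseChange]
  exact natTrailingDegree_map_of_injective _ (algebraMap K K').injective _


omit [Module.Finite K L] in
lemma one_tmul_mem_engel (x z : L) (hz : z ∈ engel K x) :
    (1 : K') ⊗ₜ[K] z ∈ engel K' ((1 : K') ⊗ₜ[K] x) := by
  rw [mem_engel_iff] at hz ⊢
  obtain ⟨n, hn⟩ := hz
  exact ⟨n, by rw [Groth.Agent.S8373.ad_pow_one_tmul, hn, TensorProduct.tmul_zero]⟩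

/-- the Engel subalgebra of a regular element is nilpotent, over any field -/
theorem engel_nilpotent_of_regular (x : L) (hx : IsRegular K x) :
    LieRing.IsNilpotent (engel K x) := by
  haveI : Infinite (RatFunc K) :=
    Infinite.of_injective (algebraMap (Polynomial K) (RatFunc K))
      (IsFractionRing.injective _ _)
  have hreg := isRegular_baseChange K (RatFunc K) x hx
  haveI hnil := engel_nilpotent_of_infinite (RatFunc K) ((1 : RatFunc K) ⊗ₜ[K] x) hreg
  let f : engel K x →ₗ⁅ℤ⁆ engel (RatFunc K) ((1 : RatFunc K) ⊗ₜ[K] x) :=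
    { toFun := fun z => ⟨(1 : RatFunc K) ⊗ₜ[K] (z : L), one_tmul_mem_engel K (RatFunc K) x z z.2⟩
      map_add' := fun z w => by
        apply Subtype.ext
        simp [TensorProduct.tmul_add]
      map_smul' := fun n z => by
        apply Subtype.ext
        simp
      map_lie' := fun {z w} => by
        apply Subtype.ext
        simp [LieAlgebra.ExtendScalars.bracket_tmul] }
  have hf : Function.Injective f := by
    intro z w hzw
    have h1 : (1 : RatFunc K) ⊗ₜ[K] (z : L) = (1 : RatFunc K) ⊗ₜ[K] (w : L) :=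
      congrArg Subtype.val hzw
    exact Subtype.ext (Module.Flat.tensorProduct_mk_injective K L (RatFunc K) h1)
  exact hf.lieAlgebra_isNilpotent

end field

section rel
open SGA3t2b Groth.Agent.S8373
variable {A : Type u} [CommRing A] {L : Type u} [LieRing L] [LieAlgebra A L]

lemma exists_retraction (N : Submodule A L) [Module.Projective A (L ⧸ N)] :
    ∃ r : L →ₗ[A] N, r ∘ₗ N.subtype = LinearMap.id := by
  obtain ⟨s, hs⟩ := Module.projective_lifting_property N.mkQ LinearMap.id (Submodule.mkQ_surjective N)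
  let r : L →ₗ[A] N := (LinearMap.id - s ∘ₗ N.mkQ).codRestrict N (by
    intro x
    rw [← Submodule.Quotient.mk_eq_zero, LinearMap.sub_apply, Submodule.Quotient.mk_sub]
    have := LinearMap.congr_fun hs (N.mkQ x)
    simp only [LinearMap.comp_apply, LinearMap.id_apply, Submodule.mkQ_apply] at this ⊢
    rw [this, sub_self])
  refine ⟨r, ?_⟩
  ext n
  simp [r, (Submodule.Quotient.mk_eq_zero N).mpr n.2]

lemma engel_lie_mem (a z : L) (h : ⁅a, z⁆ ∈ LieSubalgebra.engel A a) :
    z ∈ LieSubalgebra.engel A a := by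
  rw [LieSubalgebra.mem_engel_iff] at h ⊢
  obtain ⟨n, hn⟩ := h
  exact ⟨n + 1, by rw [pow_succ, Module.End.mul_apply]; exact hn⟩

variable [Module.Finite A L]

lemma fibre_le_engel (H : LieSubalgebra A L) (a : L) (hHa : H ≤ LieSubalgebra.engel A a)
    (p : PrimeSpectrum A) :
    fibreSubmodule p H ≤ (LieSubalgebra.engel p.asIdeal.ResidueField
      ((1 : p.asIdeal.ResidueField) ⊗ₜ[A] a)).toSubmodule := by
  unfold fibreSubmodule
  rw [Submodule.baseChange_eq_span, Submodule.span_le]
  rintro _ ⟨h, hh, rfl⟩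
  have hh' := hHa hh
  rw [LieSubalgebra.mem_engel_iff] at hh'
  obtain ⟨n, hn⟩ := hh'
  change _ ∈ LieSubalgebra.engel _ _
  rw [LieSubalgebra.mem_engel_iff]
  refine ⟨n, ?_⟩
  rw [TensorProduct.mk_apply, ad_pow_one_tmul, hn, TensorProduct.tmul_zero]

lemma tau_alpha (H : LieSubalgebra A L) (a : L) (haH : a ∈ H) (K : Type u) [CommRing K]
    [Algebra A K] :
    (H.toSubmodule.mkQ.baseChange K) ∘ₗ (LieAlgebra.ad K (K ⊗[A] L) ((1 : K) ⊗ₜ[A] a))
      = ((phi H a haH).baseChange K) ∘ₗ (H.toSubmodule.mkQ.baseChange K) := by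
  ext x
  simp [LieAlgebra.ExtendScalars.bracket_tmul, phi_mk]

lemma tau_alpha_pow (H : LieSubalgebra A L) (a : L) (haH : a ∈ H) (K : Type u) [CommRing K]
    [Algebra A K] (n : ℕ) (z : K ⊗[A] L) :
    (H.toSubmodule.mkQ.baseChange K)
        (((LieAlgebra.ad K (K ⊗[A] L) ((1 : K) ⊗ₜ[A] a)) ^ n) z)
      = (((phi H a haH).baseChange K) ^ n) ((H.toSubmodule.mkQ.baseChange K) z) := by
  induction n generalizing z with
  | zero => simp
  | succ n ih =>
    rw [pow_succ, Module.End.mul_apply, ih, pow_succ, Module.End.mul_apply]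
    congr 1
    exact LinearMap.congr_fun (tau_alpha H a haH K) z

/-- fibres of the Engel subalgebra, when `ad a` is surjective on `L / engel a` -/
lemma fibre_engel_eq (a : L)
    (hsurj : ∀ y : L, ∃ z : L, ⁅a, z⁆ - y ∈ LieSubalgebra.engel A a) (p : PrimeSpectrum A) :
    fibreSubmodule p (LieSubalgebra.engel A a) = (LieSubalgebra.engel p.asIdeal.ResidueField
      ((1 : p.asIdeal.ResidueField) ⊗ₜ[A] a)).toSubmodule := by
  apply le_antisymm (fibre_le_engel _ a le_rfl p)
  set E := LieSubalgebra.engel A a with hE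
  have haE : a ∈ E := LieSubalgebra.self_mem_engel A a
  set K := p.asIdeal.ResidueField with hK
  intro z hz
  change z ∈ LieSubalgebra.engel K _ at hz
  rw [LieSubalgebra.mem_engel_iff] at hz
  obtain ⟨n, hn⟩ := hz
  have hphi : Function.Surjective (phi E a haE) := by
    intro w
    obtain ⟨y, rfl⟩ := Submodule.Quotient.mk_surjective _ w
    obtain ⟨z, hz⟩ := hsurj y
    refine ⟨Submodule.Quotient.mk z, ?_⟩
    rw [phi_mk]
    exact (Submodule.Quotient.eq _).mpr hz
  have hΦs : Function.Surjective ((phi E a haE).baseChange K) :=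
    LinearMap.lTensor_surjective K hphi
  have hΦi : Function.Injective ((phi E a haE).baseChange K) :=
    LinearMap.injective_iff_surjective.mpr hΦs
  have hΦn : Function.Injective (((phi E a haE).baseChange K) ^ n) := by
    rw [Module.End.coe_pow]; exact hΦi.iterate n
  have h0 := tau_alpha_pow E a haE K n z
  rw [hn, map_zero] at h0
  have h1 : (E.toSubmodule.mkQ.baseChange K) z = 0 := hΦn (h0.symm.trans (map_zero _).symm)
  have h2 : z ∈ LinearMap.ker (LinearMap.lTensor K E.toSubmodule.mkQ) := h1
  rw [lTensor_mkQ] at h2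
  exact h2

omit [Module.Finite A L] in
lemma incl_baseChange_lie (H : LieSubalgebra A L) (K : Type u) [CommRing K] [Algebra A K]
    (s t : K ⊗[A] H) :
    (H.toSubmodule.subtype.baseChange K) ⁅s, t⁆
      = ⁅(H.toSubmodule.subtype.baseChange K) s, (H.toSubmodule.subtype.baseChange K) t⁆ := by
  induction s using TensorProduct.induction_on with
  | zero =>
    have e1 : ⁅(0 : K ⊗[A] H), t⁆ = 0 := zero_lie t
    rw [e1, map_zero, zero_lie]
  | tmul c x =>
    induction t using TensorProduct.induction_on with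
    | zero =>
      have e1 : ⁅c ⊗ₜ[A] x, (0 : K ⊗[A] H)⁆ = 0 := lie_zero (c ⊗ₜ[A] x : K ⊗[A] H)
      rw [e1, map_zero, lie_zero]
    | tmul d y =>
      rw [LieAlgebra.ExtendScalars.bracket_tmul]
      erw [LinearMap.baseChange_tmul, LinearMap.baseChange_tmul, LinearMap.baseChange_tmul]
      rw [LieAlgebra.ExtendScalars.bracket_tmul]
      rfl
    | add t₁ t₂ h₁ h₂ =>
      have e1 : ⁅c ⊗ₜ[A] x, t₁ + t₂⁆ = ⁅c ⊗ₜ[A] x, t₁⁆ + ⁅c ⊗ₜ[A] x, t₂⁆ :=
        lie_add (c ⊗ₜ[A] x : K ⊗[A] H) t₁ t₂
      rw [e1, map_add, h₁, h₂, map_add, lie_add]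
  | add s₁ s₂ h₁ h₂ =>
    have e1 : ⁅s₁ + s₂, t⁆ = ⁅s₁, t⁆ + ⁅s₂, t⁆ := add_lie s₁ s₂ t
    rw [e1, map_add, h₁, h₂, map_add, add_lie]

theorem isCartanRel_engel (a : L) (ha : IsQuasiRegular A L a)
    (hproj : Module.Projective A (L ⧸ (LieSubalgebra.engel A a).toSubmodule))
    (hsurj : ∀ y : L, ∃ z : L, ⁅a, z⁆ - y ∈ LieSubalgebra.engel A a) :
    IsCartanRel (LieSubalgebra.engel A a) := by
  refine ⟨hproj, fun p => ?_⟩
  have hfib := fibre_engel_eq a hsurj p
  set E := LieSubalgebra.engel A a with hE
  set K := p.asIdeal.ResidueField with hK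
  refine ⟨?_, ?_, ?_⟩
  · -- nilpotent
    haveI := engel_nilpotent_of_regular K ((1 : K) ⊗ₜ[A] a) (ha p)
    obtain ⟨r, hr⟩ := exists_retraction E.toSubmodule
    let ι := E.toSubmodule.subtype.baseChange K
    have hιmem : ∀ t, ι t ∈ LieSubalgebra.engel K ((1 : K) ⊗ₜ[A] a) := by
      intro t
      have : ι t ∈ fibreSubmodule p E := LinearMap.mem_range_self _ t
      rw [hfib] at this
      exact this
    have hιlie : ∀ s t : K ⊗[A] E, ι ⁅s, t⁆ = ⁅ι s, ι t⁆ := incl_baseChange_lie E K
    let f : (K ⊗[A] E) →ₗ⁅ℤ⁆ LieSubalgebra.engel K ((1 : K) ⊗ₜ[A] a) :=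
      { toFun := fun t => ⟨ι t, hιmem t⟩
        map_add' := fun s t => by apply Subtype.ext; simp
        map_smul' := fun n t => by apply Subtype.ext; simp
        map_lie' := fun {s t} => by apply Subtype.ext; exact hιlie s t }
    have hf : Function.Injective f := by
      intro s t hst
      have h1 : ι s = ι t := congrArg Subtype.val hst
      have h2 : (r.baseChange K) ∘ₗ ι = LinearMap.id := by
        rw [← LinearMap.baseChange_comp, hr, LinearMap.baseChange_id]
      have := congrArg (r.baseChange K) h1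
      rwa [← LinearMap.comp_apply, ← LinearMap.comp_apply, h2] at this
    exact hf.lieAlgebra_isNilpotent
  · -- self-normalizing
    intro x hx
    rw [hfib] at hx ⊢
    change x ∈ LieSubalgebra.engel K _
    rw [← LieSubalgebra.normalizer_engel, LieSubalgebra.mem_normalizer_iff]
    exact hx
  · -- dimension
    rw [hfib]
    exact (LieAlgebra.isRegular_iff_finrank_engel_eq_rank _ _).mp (ha p)

theorem main (a : L) (ha : IsQuasiRegular A L a) :
    (∀ H : LieSubalgebra A L, IsCartanRel H → a ∈ H → H = LieSubalgebra.engel A a) ∧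
    ((∃ H : LieSubalgebra A L, IsCartanRel H ∧ a ∈ H) ↔
      (Module.Projective A (L ⧸ (LieSubalgebra.engel A a).toSubmodule) ∧
        (∀ z : L, ⁅a, z⁆ ∈ LieSubalgebra.engel A a → z ∈ LieSubalgebra.engel A a) ∧
        (∀ y : L, ∃ z : L, ⁅a, z⁆ - y ∈ LieSubalgebra.engel A a))) := by
  refine ⟨fun H hH haH => cartan_eq_engel H hH a haH ha, ?_, ?_⟩
  · rintro ⟨H, hH, haH⟩
    have h1 := cartan_eq_engel H hH a haH ha
    refine ⟨h1 ▸ hH.1, fun z hz => engel_lie_mem a z hz, fun y => ?_⟩
    obtain ⟨w, hw⟩ := phi_surjective H hH a haH ha (Submodule.Quotient.mk y)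
    obtain ⟨z, rfl⟩ := Submodule.Quotient.mk_surjective _ w
    refine ⟨z, ?_⟩
    rw [phi_mk] at hw
    rw [← h1]
    exact (Submodule.Quotient.eq _).mp hw
  · rintro ⟨hproj, -, hsurj⟩
    exact ⟨_, isCartanRel_engel a ha hproj hsurj, LieSubalgebra.self_mem_engel A a⟩

end rel
end Groth.Agent.S8372

namespace Groth.Agent.S8372

/-- Over an affine base Spec A: let L be a Lie algebra over the commutative ring A which is a finitely
generated projective A-module, and a an element of L which is quasi-regular (its image in every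
fibre κ(p) ⊗ L is a regular element). Then every Cartan subalgebra of L relative to A (locally a
direct summand, with nilpotent self-normalizing fibres) which contains a is the Engel subalgebra
Nil(a, L) of elements killed by a power of ad(a); and a lies in some relative Cartan subalgebra (a
is regular) if and only if the quotient module of L by Nil(a, L) is projective and ad(a) induces a
bijection of that quotient (injective and surjective modulo Nil(a, L)). -/
theorem result {A : Type u} [CommRing A] {L : Type u} [LieRing L]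
    [LieAlgebra A L] [Module.Finite A L] [Module.Projective A L] (a : L) (ha : SGA3t2b.IsQuasiRegular A L a) :
    (∀ H : LieSubalgebra A L, SGA3t2b.IsCartanRel H → a ∈ H → H = LieSubalgebra.engel A a) ∧
    ((∃ H : LieSubalgebra A L, SGA3t2b.IsCartanRel H ∧ a ∈ H) ↔
      (Module.Projective A (L ⧸ (LieSubalgebra.engel A a).toSubmodule) ∧
        (∀ z : L, ⁅a, z⁆ ∈ LieSubalgebra.engel A a → z ∈ LieSubalgebra.engel A a) ∧
        (∀ y : L, ∃ z : L, ⁅a, z⁆ - y ∈ LieSubalgebra.engel A a))) := by
  exact main a ha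

end Groth.Agent.S8372
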