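import Groth.Statements.S8374
import Mathlib
import Groth.Agent.S8372

set_option autoImplicit false
universe u
open scoped TensorProduct
open SGA3t2b

namespace Groth.Agent.S8374
set_option maxHeartbeats 400000
open scoped TensorProduct
open SGA3t2b

section field
open LieAlgebra LieSubalgebra Module
variable (K : Type u) [Field K] {F : Type u} [LieRing F] [LieAlgebra K F] [Module.Finite K F]

/-- a nilpotent subalgebra is contained in the Engel subalgebra of each of its elements -/
lemma le_engel_of_nilpotent (C : LieSubalgebra K F) [LieRing.IsNilpotent C] (x : F) (hx : x ∈ C) :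
    C ≤ engel K x := by
  obtain ⟨k, hk⟩ := LieAlgebra.nilpotent_ad_of_nilpotent_algebra K C
  intro h hh
  rw [mem_engel_iff]
  refine ⟨k, ?_⟩
  have := Groth.Agent.S8373.coe_ad_pow C ⟨x, hx⟩ ⟨h, hh⟩ k
  rw [hk] at this
  simpa using this.symm

/-- a nilpotent self-normalizing subalgebra of a finite-dimensional Lie algebra over an infinite
field is the Engel subalgebra of one of its elements -/
theorem exists_engel_eq [Infinite K] (C : LieSubalgebra K F) [LieRing.IsNilpotent C]
    (hnorm : C.normalizer = C) : ∃ x ∈ C, C = engel K x := by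
  have hLK : (finrank K F : Cardinal) ≤ Cardinal.mk K :=
    Cardinal.natCast_le_aleph0.trans <| Cardinal.infinite_iff.mp ‹Infinite K›
  -- choose x ∈ C with engel x of minimal dimension
  classical
  have hex : ∃ n, ∃ y ∈ C, finrank K (engel K y) = n := ⟨_, 0, C.zero_mem, rfl⟩
  obtain ⟨x, hxC, hxn⟩ := Nat.find_spec hex
  have hmin : ∀ y ∈ C, finrank K (engel K x) ≤ finrank K (engel K y) := by
    intro y hy
    rw [hxn]
    exact Nat.find_min' hex ⟨y, hy, rfl⟩
  refine ⟨x, hxC, ?_⟩
  set Ex : {engel K z | z ∈ C} := ⟨engel K x, x, hxC, rfl⟩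
  have hbot : IsBot Ex := by
    apply engel_isBot_of_isMin hLK C Ex (le_engel_of_nilpotent K C x hxC)
    rintro ⟨_, y, hy, rfl⟩ hyx
    suffices engel K y = engel K x from this.ge
    apply LieSubalgebra.toSubmodule_injective
    exact Submodule.eq_of_le_of_finrank_le hyx (hmin y hy)
  have hall : ∀ y ∈ C, engel K x ≤ engel K y := fun y hy => @hbot ⟨engel K y, y, hy, rfl⟩
  apply le_antisymm (le_engel_of_nilpotent K C x hxC)
  -- E = engel x as a Lie submodule of F over C
  let E' : LieSubmodule K C F :=
    { (engel K x).toSubmodule with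
      lie_mem := by
        rintro ⟨u, hu⟩ y hy
        exact (engel K x).lie_mem (le_engel_of_nilpotent K C x hxC hu) hy }
  let C' : LieSubmodule K C F :=
    { C.toSubmodule with
      lie_mem := by
        rintro ⟨u, hu⟩ y hy
        exact C.lie_mem hu hy }
  have hE'nil : LieModule.IsNilpotent C E' := by
    rw [LieModule.isNilpotent_iff_forall' (R := K)]
    rintro ⟨y, hy⟩
    rw [Module.End.isNilpotent_iff_of_finite]
    rintro ⟨e, he⟩
    have he' : e ∈ engel K y := hall y hy he
    rw [mem_engel_iff] at he'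
    obtain ⟨n, hn⟩ := he'
    refine ⟨n, ?_⟩
    apply Subtype.ext
    rw [LieSubmodule.coe_toEnd_pow]
    exact hn
  obtain ⟨k, hk⟩ := (LieSubmodule.isNilpotent_iff_exists_lcs_eq_bot E').mp hE'nil
  have key : ∀ j, E'.lcs j ≤ C' → E' ≤ C' := by
    intro j
    induction j with
    | zero => intro h; simpa using h
    | succ j ih =>
      intro h
      apply ih
      intro v hv
      change v ∈ C
      rw [← hnorm, mem_normalizer_iff']
      intro y hy
      have : ⁅(⟨y, hy⟩ : C), v⁆ ∈ E'.lcs (j + 1) := by
        rw [LieSubmodule.lcs_succ]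
        exact LieSubmodule.lie_mem_lie (LieSubmodule.mem_top _) hv
      exact h this
  have := key k (by rw [hk]; exact bot_le)
  intro e he
  exact this he

omit [Module.Finite K F] in
lemma engel_smul (c : K) (hc : c ≠ 0) (z : F) : engel K (c • z) = engel K z := by
  ext y
  rw [mem_engel_iff, mem_engel_iff]
  refine exists_congr fun n => ?_
  rw [map_smul, smul_pow, LinearMap.smul_apply, smul_eq_zero]
  simp [hc]

end field

section rel
open Groth.Agent.S8373 Groth.Agent.S8372
variable {A : Type u} [CommRing A] {L : Type u} [LieRing L] [LieAlgebra A L]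

/-- the fibre of `H` as a Lie subalgebra of the fibre of `L` -/
noncomputable def fibreSub (p : PrimeSpectrum A) (H : LieSubalgebra A L) :
    LieSubalgebra p.asIdeal.ResidueField (p.asIdeal.ResidueField ⊗[A] L) :=
  { fibreSubmodule p H with
    lie_mem' := by
      intro x y hx hy
      obtain ⟨s, rfl⟩ := hx
      obtain ⟨t, rfl⟩ := hy
      have key : ∀ s' t' : p.asIdeal.ResidueField ⊗[A] H,
          ⁅(H.toSubmodule.subtype.baseChange p.asIdeal.ResidueField) s',
            (H.toSubmodule.subtype.baseChange p.asIdeal.ResidueField) t'⁆ ∈ fibreSubmodule p H :=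
        fun s' t' => ⟨⁅s', t'⁆, incl_baseChange_lie H _ s' t'⟩
      exact key s t }

lemma fibreSub_toSubmodule (p : PrimeSpectrum A) (H : LieSubalgebra A L) :
    (fibreSub p H).toSubmodule = fibreSubmodule p H := rfl

lemma mem_fibreSub (p : PrimeSpectrum A) (H : LieSubalgebra A L)
    (x : p.asIdeal.ResidueField ⊗[A] L) : x ∈ fibreSub p H ↔ x ∈ fibreSubmodule p H := Iff.rfl

variable [Module.Finite A L]

lemma fibreSub_nilpotent (p : PrimeSpectrum A) (H : LieSubalgebra A L) (hH : IsCartanRel H) :
    LieRing.IsNilpotent (fibreSub p H) := by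
  haveI := (hH.2 p).1
  let ι := H.toSubmodule.subtype.baseChange p.asIdeal.ResidueField
  let f : (p.asIdeal.ResidueField ⊗[A] H) →ₗ⁅ℤ⁆ fibreSub p H :=
    { toFun := fun t => ⟨ι t, LinearMap.mem_range_self _ t⟩
      map_add' := fun s t => by apply Subtype.ext; simp
      map_smul' := fun n t => by apply Subtype.ext; simp
      map_lie' := fun {s t} => by
        apply Subtype.ext
        exact incl_baseChange_lie H _ s t }
  have hf : Function.Surjective f := by
    rintro ⟨x, s, rfl⟩
    exact ⟨s, rfl⟩
  exact hf.lieAlgebra_isNilpotent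

lemma fibreSub_normalizer (p : PrimeSpectrum A) (H : LieSubalgebra A L) (hH : IsCartanRel H) :
    (fibreSub p H).normalizer = fibreSub p H := by
  apply le_antisymm _ (LieSubalgebra.le_normalizer _)
  intro x hx
  rw [LieSubalgebra.mem_normalizer_iff] at hx
  exact (hH.2 p).2.1 x hx

/-- at a prime with infinite residue field, the fibre of a relative Cartan subalgebra is the Engel
subalgebra of the image of an element of `H` -/
lemma exists_fibre_eq_engel (H : LieSubalgebra A L) (hH : IsCartanRel H) (p : PrimeSpectrum A)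
    (hp : Infinite p.asIdeal.ResidueField) :
    ∃ a ∈ H, fibreSubmodule p H = (LieSubalgebra.engel p.asIdeal.ResidueField
      ((1 : p.asIdeal.ResidueField) ⊗ₜ[A] a)).toSubmodule := by
  haveI := fibreSub_nilpotent p H hH
  obtain ⟨x, hx, hCx⟩ := exists_engel_eq p.asIdeal.ResidueField (fibreSub p H)
    (fibreSub_normalizer p H hH)
  obtain ⟨s, rfl⟩ := hx
  obtain ⟨c, h, rfl⟩ := Groth.Agent.S2964.fibre_surj p.asIdeal s
  by_cases hc : c = 0
  · refine ⟨0, H.zero_mem, ?_⟩
    rw [← fibreSub_toSubmodule, hCx, hc]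
    simp
  · refine ⟨h, h.2, ?_⟩
    rw [← fibreSub_toSubmodule, hCx, map_smul, engel_smul _ c hc]
    rfl


/-- fibrewise surjectivity of `phi` at a prime where the fibre of `H` is the Engel subalgebra -/
lemma phi_fibre_surjective (H : LieSubalgebra A L) (a : L) (haH : a ∈ H) (p : PrimeSpectrum A)
    (hfib : fibreSubmodule p H = (LieSubalgebra.engel p.asIdeal.ResidueField
      ((1 : p.asIdeal.ResidueField) ⊗ₜ[A] a)).toSubmodule) :
    Function.Surjective ((phi H a haH).baseChange p.asIdeal.ResidueField) := by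
  set K := p.asIdeal.ResidueField with hK
  let τ := H.toSubmodule.mkQ.baseChange K
  let α := LieAlgebra.ad K (K ⊗[A] L) ((1 : K) ⊗ₜ[A] a)
  have hτ : Function.Surjective τ :=
    LinearMap.lTensor_surjective K (Submodule.mkQ_surjective _)
  have hτH : ∀ e ∈ fibreSubmodule p H, τ e = 0 := by
    intro e he
    have h2 : e ∈ LinearMap.range (LinearMap.lTensor K H.toSubmodule.subtype) := he
    rw [← lTensor_mkQ] at h2
    exact h2
  obtain ⟨n, hn⟩ := ((LinearMap.eventually_isCompl_ker_pow_range_pow α).and
    (Filter.eventually_ge_atTop 1)).exists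
  obtain ⟨hcompl, hn1⟩ := hn
  intro t
  obtain ⟨z, rfl⟩ := hτ t
  have hz : z ∈ (LinearMap.ker (α ^ n)) ⊔ (LinearMap.range (α ^ n)) := by
    rw [hcompl.sup_eq_top]; exact Submodule.mem_top
  obtain ⟨e, he, w', ⟨w, rfl⟩, rfl⟩ := Submodule.mem_sup.mp hz
  have he' : e ∈ fibreSubmodule p H := by
    rw [hfib]
    change e ∈ LieSubalgebra.engel _ _
    rw [LieSubalgebra.mem_engel_iff]
    exact ⟨n, he⟩
  obtain ⟨m, rfl⟩ : ∃ m, n = m + 1 := ⟨n - 1, by omega⟩
  refine ⟨τ ((α ^ m) w), ?_⟩
  rw [map_add, hτH e he', zero_add, pow_succ', Module.End.mul_apply]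
  exact (LinearMap.congr_fun (tau_alpha H a haH K) ((α ^ m) w)).symm

lemma exists_smul_mem_range (H : LieSubalgebra A L) (a : L) (haH : a ∈ H) (p : PrimeSpectrum A)
    (hΦ : Function.Surjective ((phi H a haH).baseChange p.asIdeal.ResidueField)) :
    ∃ f : A, f ∉ p.asIdeal ∧ ∀ m : L ⧸ H.toSubmodule, f • m ∈ LinearMap.range (phi H a haH) := by
  set R := LinearMap.range (phi H a haH) with hR
  have hp : p ∉ Module.support A ((L ⧸ H.toSubmodule) ⧸ R) := by
    rw [Module.mem_support_iff_nontrivial_residueField_tensorProduct,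
      not_nontrivial_iff_subsingleton]
    let σ := R.mkQ.baseChange p.asIdeal.ResidueField
    have hσ : Function.Surjective σ :=
      LinearMap.lTensor_surjective _ (Submodule.mkQ_surjective _)
    have hσΦ : σ ∘ₗ ((phi H a haH).baseChange p.asIdeal.ResidueField) = 0 := by
      rw [← LinearMap.baseChange_comp]
      have : R.mkQ ∘ₗ phi H a haH = 0 := by
        ext x
        simp [R]
      rw [this, LinearMap.baseChange_zero]
    refine ⟨fun t₁ t₂ => ?_⟩
    suffices h0 : ∀ t : p.asIdeal.ResidueField ⊗[A] ((L ⧸ H.toSubmodule) ⧸ R), t = 0 by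
      rw [h0 t₁, h0 t₂]
    intro t
    obtain ⟨t', rfl⟩ := hσ t
    obtain ⟨t'', rfl⟩ := hΦ t'
    exact LinearMap.congr_fun hσΦ t''
  rw [Module.support_eq_zeroLocus, PrimeSpectrum.mem_zeroLocus, Set.not_subset] at hp
  obtain ⟨f, hfann, hfp⟩ := hp
  refine ⟨f, hfp, fun m => ?_⟩
  have := (Module.mem_annihilator.mp hfann) (R.mkQ m)
  rw [← map_smul, Submodule.mkQ_apply, Submodule.Quotient.mk_eq_zero] at this
  exact this

lemma phi_fibre_surjective_of_smul (H : LieSubalgebra A L) (a : L) (haH : a ∈ H) (f : A)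
    (hf : ∀ m : L ⧸ H.toSubmodule, f • m ∈ LinearMap.range (phi H a haH))
    (q : PrimeSpectrum A) (hq : f ∉ q.asIdeal) :
    Function.Surjective ((phi H a haH).baseChange q.asIdeal.ResidueField) := by
  have hfq : algebraMap A q.asIdeal.ResidueField f ≠ 0 := by
    rw [Ne, Ideal.algebraMap_residueField_eq_zero]; exact hq
  intro t
  induction t using TensorProduct.induction_on with
  | zero => exact ⟨0, map_zero _⟩
  | tmul c m =>
    obtain ⟨m', hm'⟩ := hf m
    refine ⟨(c * (algebraMap A q.asIdeal.ResidueField f)⁻¹) ⊗ₜ[A] m', ?_⟩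
    rw [LinearMap.baseChange_tmul, hm', ← TensorProduct.smul_tmul, Algebra.smul_def,
      mul_comm (algebraMap A _ f), mul_assoc, inv_mul_cancel₀ hfq, mul_one]
  | add t₁ t₂ h₁ h₂ =>
    obtain ⟨s₁, rfl⟩ := h₁
    obtain ⟨s₂, rfl⟩ := h₂
    exact ⟨s₁ + s₂, map_add _ _ _⟩

lemma fibre_eq_of_surj (H : LieSubalgebra A L) (a : L) (haH : a ∈ H)
    (hHa : H ≤ LieSubalgebra.engel A a) (q : PrimeSpectrum A)
    (hΦs : Function.Surjective ((phi H a haH).baseChange q.asIdeal.ResidueField)) :
    fibreSubmodule q H = (LieSubalgebra.engel q.asIdeal.ResidueField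
      ((1 : q.asIdeal.ResidueField) ⊗ₜ[A] a)).toSubmodule := by
  apply le_antisymm (fibre_le_engel H a hHa q)
  set K := q.asIdeal.ResidueField with hK
  intro z hz
  change z ∈ LieSubalgebra.engel K _ at hz
  rw [LieSubalgebra.mem_engel_iff] at hz
  obtain ⟨n, hn⟩ := hz
  have hΦi : Function.Injective ((phi H a haH).baseChange K) :=
    LinearMap.injective_iff_surjective.mpr hΦs
  have hΦn : Function.Injective (((phi H a haH).baseChange K) ^ n) := by
    rw [Module.End.coe_pow]; exact hΦi.iterate n
  have h0 := tau_alpha_pow H a haH K n z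
  rw [hn, map_zero] at h0
  have h1 : (H.toSubmodule.mkQ.baseChange K) z = 0 := hΦn (h0.symm.trans (map_zero _).symm)
  have h2 : z ∈ LinearMap.ker (LinearMap.lTensor K H.toSubmodule.mkQ) := h1
  rw [lTensor_mkQ] at h2
  exact h2

lemma exists_pow_smul_mem (H : LieSubalgebra A L) (a : L) (haH : a ∈ H) (f : A)
    (hf : ∀ m : L ⧸ H.toSubmodule, f • m ∈ LinearMap.range (phi H a haH))
    (y : L) (hy : y ∈ LieSubalgebra.engel A a) : ∃ n : ℕ, f ^ n • y ∈ H := by
  rw [LieSubalgebra.mem_engel_iff] at hy
  obtain ⟨k, hk⟩ := hy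
  let S := Submonoid.powers f
  let φf := LocalizedModule.map S (phi H a haH)
  have hsurj : Function.Surjective φf := by
    intro x
    induction x using LocalizedModule.induction_on with
    | h m s =>
      obtain ⟨m', hm'⟩ := hf m
      refine ⟨LocalizedModule.mk m' (⟨f, Submonoid.mem_powers f⟩ * s), ?_⟩
      rw [LocalizedModule.map_mk, hm']
      exact LocalizedModule.mk_cancel_common_left (⟨f, Submonoid.mem_powers f⟩ : S) s m
  have hinj : Function.Injective φf :=
    OrzechProperty.injective_of_surjective_endomorphism _ hsurj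
  have hinjk : Function.Injective (φf ^ k) := by
    rw [Module.End.coe_pow]; exact hinj.iterate k
  have hpow : ∀ (j : ℕ) (m : L ⧸ H.toSubmodule),
      (φf ^ j) (LocalizedModule.mk m 1) = LocalizedModule.mk (((phi H a haH) ^ j) m) 1 := by
    intro j
    induction j with
    | zero => intro m; simp
    | succ j ih =>
      intro m
      rw [pow_succ, Module.End.mul_apply, LocalizedModule.map_mk, ih, pow_succ,
        Module.End.mul_apply]
  have h0 : (φf ^ k) (LocalizedModule.mk (Submodule.Quotient.mk y) 1) = 0 := by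
    rw [hpow, phi_pow_mk, hk, Submodule.Quotient.mk_zero, LocalizedModule.zero_mk]
  have h1 : LocalizedModule.mk (Submodule.Quotient.mk y : L ⧸ H.toSubmodule) (1 : S) = 0 :=
    hinjk (h0.trans (map_zero _).symm)
  have h2 : (LocalizedModule.mkLinearMap S (L ⧸ H.toSubmodule)) (Submodule.Quotient.mk y) = 0 := h1
  rw [IsLocalizedModule.eq_zero_iff S] at h2
  obtain ⟨⟨_, n, rfl⟩, hs⟩ := h2
  refine ⟨n, ?_⟩
  have : (f ^ n) • (Submodule.Quotient.mk y : L ⧸ H.toSubmodule) = 0 := hs
  rw [← Submodule.Quotient.mk_smul, Submodule.Quotient.mk_eq_zero] at this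
  exact this

theorem main (H : LieSubalgebra A L) (hH : IsCartanRel H) (p : PrimeSpectrum A)
    (hp : Infinite p.asIdeal.ResidueField) :
    ∃ f : A, f ∉ p.asIdeal ∧ ∃ a : L, a ∈ H ∧
      (∀ q : PrimeSpectrum A, f ∉ q.asIdeal →
        LieAlgebra.IsRegular q.asIdeal.ResidueField ((1 : q.asIdeal.ResidueField) ⊗ₜ[A] a)) ∧
      H ≤ LieSubalgebra.engel A a ∧
      ∀ y : L, y ∈ LieSubalgebra.engel A a → ∃ n : ℕ, f ^ n • y ∈ H := by
  obtain ⟨a, haH, hfib⟩ := exists_fibre_eq_engel H hH p hp
  have hΦp := phi_fibre_surjective H a haH p hfib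
  obtain ⟨f, hfp, hf⟩ := exists_smul_mem_range H a haH p hΦp
  have hHa := le_engel H hH a haH
  refine ⟨f, hfp, a, haH, ?_, hHa, fun y hy => exists_pow_smul_mem H a haH f hf y hy⟩
  intro q hq
  have hfibq := fibre_eq_of_surj H a haH hHa q (phi_fibre_surjective_of_smul H a haH f hf q hq)
  rw [LieAlgebra.isRegular_iff_finrank_engel_eq_rank, ← (hH.2 q).2.2]
  exact congrArg (fun S : Submodule q.asIdeal.ResidueField (q.asIdeal.ResidueField ⊗[A] L) =>
    Module.finrank q.asIdeal.ResidueField S) hfibq.symm

end rel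
end Groth.Agent.S8374

namespace Groth.Agent.S8374

/-- Over an affine base Spec A: let L be a Lie algebra over A which is a finitely generated projective
A-module, H a Cartan subalgebra of L relative to A, and p a prime of A whose residue field is
infinite. Then there are f ∈ A with f ∉ p and an element a ∈ H such that a is a regular element of
every fibre κ(q) ⊗ L with f ∉ q, H is contained in the Engel subalgebra Nil(a, L), and every element
of Nil(a, L) is carried into H by some power of f; that is, over the basic open set D(f) the section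
a is regular and H coincides with Nil(a, L). (The published statement gives a regular section of H
over some open neighbourhood of p; this row takes a global element of H and a basic open
neighbourhood D(f), which is equivalent over an affine base because multiplying by a function
invertible on D(f) does not change regularity.) -/
theorem result {A : Type u} [CommRing A] {L : Type u} [LieRing L]
    [LieAlgebra A L] [Module.Finite A L] [Module.Projective A L]
    (H : LieSubalgebra A L) (hH : SGA3t2b.IsCartanRel H) (p : PrimeSpectrum A)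
    (hp : Infinite p.asIdeal.ResidueField) :
    ∃ f : A, f ∉ p.asIdeal ∧ ∃ a : L, a ∈ H ∧
      (∀ q : PrimeSpectrum A, f ∉ q.asIdeal →
        LieAlgebra.IsRegular q.asIdeal.ResidueField ((1 : q.asIdeal.ResidueField) ⊗ₜ[A] a)) ∧
      H ≤ LieSubalgebra.engel A a ∧
      ∀ y : L, y ∈ LieSubalgebra.engel A a → ∃ n : ℕ, f ^ n • y ∈ H := by
  exact main H hH p hp

end Groth.Agent.S8374
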