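import Groth.Statements.S8375
import Mathlib
import Groth.Agent.S8374

set_option autoImplicit false
universe u
open scoped TensorProduct
open SGA3t2b

namespace Groth.Agent.S8375
set_option maxHeartbeats 400000
open scoped TensorProduct
open SGA3t2b

section semicont
variable {A : Type u} [CommRing A] {Q : Type u} [AddCommGroup Q] [Module A Q]

/-- if `x i` span `Q` up to multiplication by `f`, then `1 ⊗ x i` span the fibre at `q ∌ f` -/
lemma finrank_fibre_le_of_smul_mem {n : ℕ} (x : Fin n → Q) (f : A)
    (hf : ∀ y : Q, f • y ∈ Submodule.span A (Set.range x)) (q : PrimeSpectrum A)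
    (hq : f ∉ q.asIdeal) :
    Module.finrank q.asIdeal.ResidueField (q.asIdeal.ResidueField ⊗[A] Q) ≤ n := by
  have hfq : algebraMap A q.asIdeal.ResidueField f ≠ 0 := by
    rw [Ne, Ideal.algebraMap_residueField_eq_zero]; exact hq
  have hspan : Submodule.span q.asIdeal.ResidueField
      (Set.range fun i => (1 : q.asIdeal.ResidueField) ⊗ₜ[A] x i) = ⊤ := by
    rw [eq_top_iff]
    intro t _
    induction t using TensorProduct.induction_on with
    | zero => exact zero_mem _
    | tmul c y =>
      have h1 : c ⊗ₜ[A] y = (c * (algebraMap A q.asIdeal.ResidueField f)⁻¹) •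
          ((1 : q.asIdeal.ResidueField) ⊗ₜ[A] (f • y)) := by
        rw [TensorProduct.smul_tmul', smul_eq_mul, mul_one, ← TensorProduct.smul_tmul,
          Algebra.smul_def, mul_comm (algebraMap A _ f), mul_assoc, inv_mul_cancel₀ hfq, mul_one]
      rw [h1]
      apply Submodule.smul_mem
      have h2 := hf y
      refine Submodule.span_induction (p := fun z _ => (1 : q.asIdeal.ResidueField) ⊗ₜ[A] z ∈
        Submodule.span q.asIdeal.ResidueField
          (Set.range fun i => (1 : q.asIdeal.ResidueField) ⊗ₜ[A] x i)) ?_ ?_ ?_ ?_ h2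
      · rintro _ ⟨i, rfl⟩
        exact Submodule.subset_span ⟨i, rfl⟩
      · rw [TensorProduct.tmul_zero]; exact zero_mem _
      · intro z w _ _ hz hw; rw [TensorProduct.tmul_add]; exact add_mem hz hw
      · intro a z _ hz
        rw [← TensorProduct.smul_tmul, Algebra.smul_def, mul_one,
          ← mul_one (algebraMap A q.asIdeal.ResidueField a), ← smul_eq_mul,
          ← TensorProduct.smul_tmul']
        exact Submodule.smul_mem _ _ hz
    | add t₁ t₂ h₁ h₂ => exact add_mem (h₁ Submodule.mem_top) (h₂ Submodule.mem_top)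
  simpa using finrank_le_of_span_eq_top hspan

/-- upper semicontinuity of the fibre dimension of a finite module -/
lemma exists_finrank_fibre_le [Module.Finite A Q] (p : PrimeSpectrum A) :
    ∃ f : A, f ∉ p.asIdeal ∧ ∀ q : PrimeSpectrum A, f ∉ q.asIdeal →
      Module.finrank q.asIdeal.ResidueField (q.asIdeal.ResidueField ⊗[A] Q)
        ≤ Module.finrank p.asIdeal.ResidueField (p.asIdeal.ResidueField ⊗[A] Q) := by
  set K := p.asIdeal.ResidueField with hK
  set d := Module.finrank K (K ⊗[A] Q) with hd
  let b := Module.finBasis K (K ⊗[A] Q)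
  have hb : ∀ i, ∃ (c : K) (x : Q), b i = c • ((1 : K) ⊗ₜ[A] x) := fun i =>
    Groth.Agent.S2964.fibre_surj p.asIdeal (b i)
  choose c x hcx using hb
  let N : Submodule A Q := Submodule.span A (Set.range x)
  have hspanK : Submodule.span K (Set.range fun i => (1 : K) ⊗ₜ[A] x i) = ⊤ := by
    rw [eq_top_iff, ← b.span_eq, Submodule.span_le]
    rintro _ ⟨i, rfl⟩
    rw [hcx i]
    exact Submodule.smul_mem _ _ (Submodule.subset_span ⟨i, rfl⟩)
  have hp : p ∉ Module.support A (Q ⧸ N) := by
    rw [Module.mem_support_iff_nontrivial_residueField_tensorProduct,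
      not_nontrivial_iff_subsingleton]
    refine ⟨fun t₁ t₂ => ?_⟩
    suffices h0 : ∀ t : K ⊗[A] (Q ⧸ N), t = 0 by rw [h0 t₁, h0 t₂]
    intro t
    obtain ⟨t', rfl⟩ := LinearMap.lTensor_surjective K (Submodule.mkQ_surjective N) t
    have hker : ∀ t' ∈ Submodule.span K (Set.range fun i => (1 : K) ⊗ₜ[A] x i),
        (N.mkQ.baseChange K) t' = 0 := by
      intro t' ht'
      refine Submodule.span_induction (p := fun z _ => (N.mkQ.baseChange K) z = 0) ?_ ?_ ?_ ?_ ht'
      · rintro _ ⟨i, rfl⟩
        rw [LinearMap.baseChange_tmul, Submodule.mkQ_apply,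
          (Submodule.Quotient.mk_eq_zero N).mpr (Submodule.subset_span ⟨i, rfl⟩),
          TensorProduct.tmul_zero]
      · exact map_zero _
      · intro z w _ _ hz hw; rw [map_add, hz, hw, add_zero]
      · intro a z _ hz; rw [map_smul, hz, smul_zero]
    exact hker t' (hspanK ▸ Submodule.mem_top)
  rw [Module.support_eq_zeroLocus, PrimeSpectrum.mem_zeroLocus, Set.not_subset] at hp
  obtain ⟨f, hfann, hfp⟩ := hp
  refine ⟨f, hfp, fun q hq => ?_⟩
  have hf : ∀ y : Q, f • y ∈ Submodule.span A (Set.range x) := by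
    intro y
    have := (Module.mem_annihilator.mp hfann) (N.mkQ y)
    rw [← map_smul, Submodule.mkQ_apply, Submodule.Quotient.mk_eq_zero] at this
    exact this
  exact finrank_fibre_le_of_smul_mem x f hf q hq

end semicont

section main
variable {A : Type u} [CommRing A] {L : Type u} [LieRing L] [LieAlgebra A L] [Module.Finite A L]

lemma engel_fibre_eq_ker (a : L) (n : ℕ) (q : PrimeSpectrum A)
    (hn : Module.finrank q.asIdeal.ResidueField (q.asIdeal.ResidueField ⊗[A] L) ≤ n) :
    (LieSubalgebra.engel q.asIdeal.ResidueField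
      ((1 : q.asIdeal.ResidueField) ⊗ₜ[A] a)).toSubmodule
      = LinearMap.ker (((LieAlgebra.ad A L a) ^ n).baseChange q.asIdeal.ResidueField) := by
  set K := q.asIdeal.ResidueField with hK
  have hα : LieAlgebra.ad K (K ⊗[A] L) ((1 : K) ⊗ₜ[A] a) = (LieAlgebra.ad A L a).baseChange K :=
    LieModule.toEnd_baseChange _ _ _ _ _
  rw [LinearMap.baseChange_pow, ← hα]
  ext y
  change y ∈ LieSubalgebra.engel K _ ↔ _
  rw [LieSubalgebra.mem_engel_iff]
  constructor
  · rintro ⟨j, hj⟩
    rw [Module.End.ker_pow_eq_ker_pow_finrank_of_le hn]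
    exact Module.End.ker_pow_le_ker_pow_finrank _ j hj
  · intro hy
    exact ⟨n, hy⟩

omit [Module.Finite A L] in
lemma finrank_ker_eq_finrank_coker' [Module.Finite A L] (K : Type u) [Field K] [Algebra A K]
    (ψ : L →ₗ[A] L) :
    Module.finrank K (LinearMap.ker (ψ.baseChange K))
      = Module.finrank K (K ⊗[A] (L ⧸ LinearMap.range ψ)) := by
  let τ := (LinearMap.range ψ).mkQ.baseChange K
  have hτs : Function.Surjective τ :=
    LinearMap.lTensor_surjective K (Submodule.mkQ_surjective _)
  have hker : LinearMap.ker τ = LinearMap.range (ψ.baseChange K) := by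
    ext z
    have h1 : z ∈ LinearMap.ker τ ↔ z ∈ LinearMap.ker (LinearMap.lTensor K (LinearMap.range ψ).mkQ) :=
      Iff.rfl
    rw [h1, lTensor_mkQ]
    have h2 : ψ = (LinearMap.range ψ).subtype ∘ₗ ψ.rangeRestrict := by
      ext x; rfl
    have h3 : (ψ.baseChange K : K ⊗[A] L → K ⊗[A] L) = (LinearMap.lTensor K ψ) := rfl
    have h4 : LinearMap.lTensor K ψ = LinearMap.lTensor K (LinearMap.range ψ).subtype ∘ₗ
        LinearMap.lTensor K ψ.rangeRestrict := by
      conv_lhs => rw [h2]
      rw [LinearMap.lTensor_comp]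
    have h5 : Function.Surjective (LinearMap.lTensor K ψ.rangeRestrict) :=
      LinearMap.lTensor_surjective K ψ.surjective_rangeRestrict
    constructor
    · rintro ⟨w, rfl⟩
      obtain ⟨v, rfl⟩ := h5 w
      refine ⟨v, ?_⟩
      change (LinearMap.lTensor K ψ) v = _
      rw [h4]; rfl
    · rintro ⟨v, rfl⟩
      refine ⟨(LinearMap.lTensor K ψ.rangeRestrict) v, ?_⟩
      change _ = (LinearMap.lTensor K ψ) v
      rw [h4]; rfl
  have e1 := LinearMap.finrank_range_add_finrank_ker τ
  have e2 := LinearMap.finrank_range_add_finrank_ker (ψ.baseChange K)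
  have e3 : Module.finrank K (LinearMap.range τ) = Module.finrank K (K ⊗[A] (L ⧸ LinearMap.range ψ)) := by
    rw [LinearMap.range_eq_top.mpr hτs, finrank_top]
  rw [hker] at e1
  omega

lemma finrank_ker_eq_finrank_coker (ψ : L →ₗ[A] L) (q : PrimeSpectrum A) :
    Module.finrank q.asIdeal.ResidueField (LinearMap.ker (ψ.baseChange q.asIdeal.ResidueField))
      = Module.finrank q.asIdeal.ResidueField
          (q.asIdeal.ResidueField ⊗[A] (L ⧸ LinearMap.range ψ)) :=
  finrank_ker_eq_finrank_coker' q.asIdeal.ResidueField ψ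

theorem main
    (hC0 : ∀ p : PrimeSpectrum A, ∃ f : A, f ∉ p.asIdeal ∧ ∀ q : PrimeSpectrum A, f ∉ q.asIdeal →
        LieAlgebra.rank q.asIdeal.ResidueField (q.asIdeal.ResidueField ⊗[A] L) =
          LieAlgebra.rank p.asIdeal.ResidueField (p.asIdeal.ResidueField ⊗[A] L)) (a : L) :
    IsOpen {p : PrimeSpectrum A |
      LieAlgebra.IsRegular p.asIdeal.ResidueField ((1 : p.asIdeal.ResidueField) ⊗ₜ[A] a)} := by
  obtain ⟨n, s, hs⟩ := Module.Finite.exists_fin (R := A) (M := L)
  have hn : ∀ q : PrimeSpectrum A,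
      Module.finrank q.asIdeal.ResidueField (q.asIdeal.ResidueField ⊗[A] L) ≤ n := by
    intro q
    apply finrank_fibre_le_of_smul_mem s 1 (fun y => by rw [one_smul, hs]; exact Submodule.mem_top)
    exact q.isPrime.one_notMem
  set ψ := (LieAlgebra.ad A L a) ^ n with hψ
  have hg : ∀ q : PrimeSpectrum A,
      Module.finrank q.asIdeal.ResidueField
        (LieSubalgebra.engel q.asIdeal.ResidueField ((1 : q.asIdeal.ResidueField) ⊗ₜ[A] a))
      = Module.finrank q.asIdeal.ResidueField
          (q.asIdeal.ResidueField ⊗[A] (L ⧸ LinearMap.range ψ)) := by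
    intro q
    rw [← finrank_ker_eq_finrank_coker ψ q]
    exact congrArg (fun S : Submodule q.asIdeal.ResidueField (q.asIdeal.ResidueField ⊗[A] L) =>
      Module.finrank q.asIdeal.ResidueField S) (engel_fibre_eq_ker a n q (hn q))
  rw [isOpen_iff_forall_mem_open]
  intro p hp
  obtain ⟨f₁, hf₁p, hf₁⟩ := hC0 p
  obtain ⟨f₂, hf₂p, hf₂⟩ := exists_finrank_fibre_le (Q := L ⧸ LinearMap.range ψ) p
  refine ⟨PrimeSpectrum.basicOpen (f₁ * f₂), ?_, (PrimeSpectrum.basicOpen (f₁ * f₂)).isOpen, ?_⟩
  · intro q hq
    have hq' : f₁ * f₂ ∉ q.asIdeal := hq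
    have hq1 : f₁ ∉ q.asIdeal := fun h => hq' (Ideal.mul_mem_right _ _ h)
    have hq2 : f₂ ∉ q.asIdeal := fun h => hq' (Ideal.mul_mem_left _ _ h)
    change LieAlgebra.IsRegular _ _
    rw [LieAlgebra.isRegular_iff_finrank_engel_eq_rank]
    apply le_antisymm _ (LieAlgebra.rank_le_finrank_engel _ _)
    rw [hg q, hf₁ q hq1]
    have hp' := (LieAlgebra.isRegular_iff_finrank_engel_eq_rank _ _).mp hp
    rw [← hp', hg p]
    exact hf₂ q hq2
  · change f₁ * f₂ ∉ p.asIdeal
    intro h
    rcases p.isPrime.mem_or_mem h with h | h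
    · exact hf₁p h
    · exact hf₂p h

end main
end Groth.Agent.S8375

namespace Groth.Agent.S8375

/-- Over an affine base Spec A: let L be a Lie algebra over A which is a finitely generated projective
A-module, such that the nilpotent rank of the fibre Lie algebras κ(p) ⊗ L is a locally constant
function of p ∈ Spec A. Then for every a ∈ L the set of primes p at which 1 ⊗ a is a regular element
of κ(p) ⊗ L is open in Spec A. (The published statement is over an arbitrary base and first asserts
that the locus of regular elements in the vector bundle of L is open; this row states its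
consequence for a given section a, over an affine base.) -/
theorem result {A : Type u} [CommRing A] {L : Type u} [LieRing L]
    [LieAlgebra A L] [Module.Finite A L] [Module.Projective A L]
    (hC0 : ∀ p : PrimeSpectrum A, ∃ f : A, f ∉ p.asIdeal ∧ ∀ q : PrimeSpectrum A, f ∉ q.asIdeal →
        LieAlgebra.rank q.asIdeal.ResidueField (q.asIdeal.ResidueField ⊗[A] L) =
          LieAlgebra.rank p.asIdeal.ResidueField (p.asIdeal.ResidueField ⊗[A] L)) (a : L) :
    IsOpen {p : PrimeSpectrum A |
      LieAlgebra.IsRegular p.asIdeal.ResidueField ((1 : p.asIdeal.ResidueField) ⊗ₜ[A] a)} := by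
  exact main hC0 a

end Groth.Agent.S8375
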