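import Groth.Statements.S8378
import Mathlib
import Groth.Agent.S8375

set_option autoImplicit false
universe u
open scoped TensorProduct
open SGA3t2b

namespace Groth.Agent.S8378
set_option maxHeartbeats 400000
open scoped TensorProduct
open SGA3t2b

section field
open LieAlgebra LieSubalgebra Module
variable {K : Type u} [Field K] {L₁ L₂ : Type u} [LieRing L₁] [LieAlgebra K L₁]
  [LieRing L₂] [LieAlgebra K L₂]

lemma equiv_ad_pow (e : L₁ ≃ₗ[K] L₂) (he : ∀ x y, e ⁅x, y⁆ = ⁅e x, e y⁆) (z w : L₁) (n : ℕ) :
    ((ad K L₂ (e z)) ^ n) (e w) = e (((ad K L₁ z) ^ n) w) := by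
  induction n with
  | zero => simp
  | succ n ih =>
    rw [pow_succ', Module.End.mul_apply, ih, pow_succ', Module.End.mul_apply,
      LieAlgebra.ad_apply, LieAlgebra.ad_apply, he]

lemma engel_equiv (e : L₁ ≃ₗ[K] L₂) (he : ∀ x y, e ⁅x, y⁆ = ⁅e x, e y⁆) (z : L₁) :
    (engel K (e z)).toSubmodule = (engel K z).toSubmodule.map e.toLinearMap := by
  ext y
  constructor
  · intro hy
    change y ∈ engel K _ at hy
    rw [mem_engel_iff] at hy
    obtain ⟨n, hn⟩ := hy
    refine ⟨e.symm y, ?_, by simp⟩
    change _ ∈ engel K _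
    rw [mem_engel_iff]
    refine ⟨n, ?_⟩
    apply e.injective
    rw [← equiv_ad_pow e he, LinearEquiv.apply_symm_apply, hn, map_zero]
  · rintro ⟨w, hw, rfl⟩
    change w ∈ engel K _ at hw
    rw [mem_engel_iff] at hw
    obtain ⟨n, hn⟩ := hw
    change _ ∈ engel K _
    rw [mem_engel_iff]
    refine ⟨n, ?_⟩
    change ((ad K L₂ (e z)) ^ n) (e w) = 0
    rw [equiv_ad_pow e he, hn, map_zero]

lemma finrank_engel_equiv (e : L₁ ≃ₗ[K] L₂) (he : ∀ x y, e ⁅x, y⁆ = ⁅e x, e y⁆) (z : L₁) :
    finrank K (engel K (e z)) = finrank K (engel K z) := by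
  have e2 := LinearEquiv.finrank_map_eq e (engel K z).toSubmodule
  refine Eq.trans ?_ e2
  exact congrArg (fun S : Submodule K L₂ => finrank K S) (engel_equiv e he z)

variable [Module.Finite K L₁] [Module.Finite K L₂]

lemma rank_le_of_equiv_of_infinite [Infinite K] (e : L₁ ≃ₗ[K] L₂)
    (he : ∀ x y, e ⁅x, y⁆ = ⁅e x, e y⁆) : rank K L₂ ≤ rank K L₁ := by
  obtain ⟨x, hx⟩ := exists_isRegular K L₁
  rw [← (isRegular_iff_finrank_engel_eq_rank K x).mp hx, ← finrank_engel_equiv e he x]
  exact rank_le_finrank_engel K (e x)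

lemma rank_eq_of_equiv_of_infinite [Infinite K] (e : L₁ ≃ₗ[K] L₂)
    (he : ∀ x y, e ⁅x, y⁆ = ⁅e x, e y⁆) : rank K L₁ = rank K L₂ := by
  apply le_antisymm _ (rank_le_of_equiv_of_infinite e he)
  apply rank_le_of_equiv_of_infinite e.symm
  intro x y
  apply e.injective
  rw [he]; simp

/-- the rank is invariant under (bracket preserving) linear equivalences -/
theorem rank_eq_of_equiv (e : L₁ ≃ₗ[K] L₂) (he : ∀ x y, e ⁅x, y⁆ = ⁅e x, e y⁆) :
    rank K L₁ = rank K L₂ := by
  haveI : Infinite (RatFunc K) :=
    Infinite.of_injective (algebraMap (Polynomial K) (RatFunc K))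
      (IsFractionRing.injective _ _)
  rw [← Groth.Agent.S8372.rank_baseChange K (RatFunc K) (L := L₁),
    ← Groth.Agent.S8372.rank_baseChange K (RatFunc K) (L := L₂)]
  apply rank_eq_of_equiv_of_infinite (e.baseChange K (RatFunc K) L₁ L₂)
  intro s t
  induction s using TensorProduct.induction_on with
  | zero => simp
  | tmul c x =>
    induction t using TensorProduct.induction_on with
    | zero => simp
    | tmul d y =>
      rw [LieAlgebra.ExtendScalars.bracket_tmul, LinearEquiv.baseChange_tmul,
        LinearEquiv.baseChange_tmul, LinearEquiv.baseChange_tmul,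
        LieAlgebra.ExtendScalars.bracket_tmul, he]
    | add t₁ t₂ h₁ h₂ => rw [lie_add, map_add, h₁, h₂, map_add, lie_add]
  | add s₁ s₂ h₁ h₂ => rw [add_lie, map_add, h₁, h₂, map_add, add_lie]

lemma isRegular_equiv (e : L₁ ≃ₗ[K] L₂) (he : ∀ x y, e ⁅x, y⁆ = ⁅e x, e y⁆) (z : L₁) :
    IsRegular K (e z) ↔ IsRegular K z := by
  rw [isRegular_iff_finrank_engel_eq_rank, isRegular_iff_finrank_engel_eq_rank,
    finrank_engel_equiv e he, rank_eq_of_equiv e he]

end field

section cancel
open TensorProduct
variable (A : Type u) [CommRing A] (B : Type u) [CommRing B] [Algebra A B]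
  (C : Type u) [CommRing C] [Algebra A C] [Algebra B C] [IsScalarTower A B C]
  (L : Type u) [LieRing L] [LieAlgebra A L]

/-- the bracket as a bilinear map -/
noncomputable def brk (R : Type u) [CommRing R] (M : Type u) [LieRing M] [LieAlgebra R M] :
    M →ₗ[R] M →ₗ[R] M := (LieModule.toEnd R M M : M →ₗ[R] Module.End R M)

lemma cancelBaseChange_brk :
    (brk C (C ⊗[B] (B ⊗[A] L))).compr₂
        (AlgebraTensorModule.cancelBaseChange A B C C L).toLinearMap
      = (brk C (C ⊗[A] L)).compl₁₂
          (AlgebraTensorModule.cancelBaseChange A B C C L).toLinearMap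
          (AlgebraTensorModule.cancelBaseChange A B C C L).toLinearMap := by
  ext x y
  simp [brk, LieAlgebra.ExtendScalars.bracket_tmul]

/-- `C ⊗[B] (B ⊗[A] L) ≃ C ⊗[A] L` preserves brackets -/
lemma cancelBaseChange_lie (s t : C ⊗[B] (B ⊗[A] L)) :
    AlgebraTensorModule.cancelBaseChange A B C C L ⁅s, t⁆
      = ⁅AlgebraTensorModule.cancelBaseChange A B C C L s,
          AlgebraTensorModule.cancelBaseChange A B C C L t⁆ :=
  LinearMap.congr_fun (LinearMap.congr_fun (cancelBaseChange_brk A B C L) s) t

end cancel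

section compare
open TensorProduct LieAlgebra
variable {A : Type u} [CommRing A] (A' : Type u) [CommRing A'] [Algebra A A']
  (K : Type u) [Field K] [Algebra A K] (K' : Type u) [Field K'] [Algebra A' K'] [Algebra A K']
  [IsScalarTower A A' K'] [Algebra K K'] [IsScalarTower A K K']
  (L : Type u) [LieRing L] [LieAlgebra A L]

/-- the comparison isomorphism between the fibre of the base change and the base change of the
fibre -/
noncomputable def fibreEquiv : K' ⊗[A'] (A' ⊗[A] L) ≃ₗ[K'] K' ⊗[K] (K ⊗[A] L) :=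
  (AlgebraTensorModule.cancelBaseChange A A' K' K' L).trans
    (AlgebraTensorModule.cancelBaseChange A K K' K' L).symm

lemma fibreEquiv_lie (s t : K' ⊗[A'] (A' ⊗[A] L)) :
    fibreEquiv A' K K' L ⁅s, t⁆ = ⁅fibreEquiv A' K K' L s, fibreEquiv A' K K' L t⁆ := by
  unfold fibreEquiv
  simp only [LinearEquiv.trans_apply]
  rw [cancelBaseChange_lie]
  apply (AlgebraTensorModule.cancelBaseChange A K K' K' L).injective
  rw [LinearEquiv.apply_symm_apply, cancelBaseChange_lie, LinearEquiv.apply_symm_apply,
    LinearEquiv.apply_symm_apply]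

lemma fibreEquiv_one_tmul (x : L) :
    fibreEquiv A' K K' L ((1 : K') ⊗ₜ[A'] ((1 : A') ⊗ₜ[A] x))
      = (1 : K') ⊗ₜ[K] ((1 : K) ⊗ₜ[A] x) := by
  unfold fibreEquiv
  rw [LinearEquiv.trans_apply, LinearEquiv.symm_apply_eq]
  simp

variable [Module.Finite A L]

theorem rank_fibre_baseChange :
    LieAlgebra.rank K' (K' ⊗[A'] (A' ⊗[A] L)) = LieAlgebra.rank K (K ⊗[A] L) :=
  (rank_eq_of_equiv (fibreEquiv A' K K' L) (fibreEquiv_lie A' K K' L)).trans
    (Groth.Agent.S8372.rank_baseChange K K')

omit [Module.Finite A L] in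
lemma isRegular_baseChange_iff {M : Type u} [LieRing M] [LieAlgebra K M] [Module.Finite K M]
    (x : M) : IsRegular K' ((1 : K') ⊗ₜ[K] x) ↔ IsRegular K x := by
  rw [isRegular_iff_natTrailingDegree_charpoly_eq_rank,
    isRegular_iff_natTrailingDegree_charpoly_eq_rank, Groth.Agent.S8372.rank_baseChange]
  have : ad K' (K' ⊗[K] M) ((1 : K') ⊗ₜ[K] x) = (ad K M x).baseChange K' :=
    LieModule.toEnd_baseChange _ _ _ _ _
  rw [this, LinearMap.charpoly_baseChange,
    Groth.Agent.S8372.natTrailingDegree_map_of_injective _ (algebraMap K K').injective]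

theorem isRegular_fibre_baseChange (x : L) :
    IsRegular K' ((1 : K') ⊗ₜ[A'] ((1 : A') ⊗ₜ[A] x)) ↔ IsRegular K ((1 : K) ⊗ₜ[A] x) := by
  rw [← isRegular_equiv (fibreEquiv A' K K' L) (fibreEquiv_lie A' K K' L), fibreEquiv_one_tmul,
    isRegular_baseChange_iff]

end compare

section spec
variable {A : Type u} [CommRing A] (A' : Type u) [CommRing A'] [Algebra A A']
  (L : Type u) [LieRing L] [LieAlgebra A L] [Module.Finite A L]

/-- rank of the fibre of `A' ⊗ L` at `q'` equals the rank of the fibre of `L` at the image of `q'` -/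
theorem rank_fibre_comap (q' : PrimeSpectrum A') :
    LieAlgebra.rank q'.asIdeal.ResidueField (q'.asIdeal.ResidueField ⊗[A'] (A' ⊗[A] L))
      = LieAlgebra.rank (PrimeSpectrum.comap (algebraMap A A') q').asIdeal.ResidueField
          ((PrimeSpectrum.comap (algebraMap A A') q').asIdeal.ResidueField ⊗[A] L) := by
  letI : Algebra (PrimeSpectrum.comap (algebraMap A A') q').asIdeal.ResidueField
      q'.asIdeal.ResidueField :=
    (Ideal.ResidueField.map (PrimeSpectrum.comap (algebraMap A A') q').asIdeal q'.asIdeal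
      (algebraMap A A') rfl).toAlgebra
  haveI : IsScalarTower A (PrimeSpectrum.comap (algebraMap A A') q').asIdeal.ResidueField
      q'.asIdeal.ResidueField := by
    apply IsScalarTower.of_algebraMap_eq
    intro r
    change _ = Ideal.ResidueField.map _ _ _ _ (algebraMap A _ r)
    rw [Ideal.ResidueField.map_algebraMap]
    exact IsScalarTower.algebraMap_apply A A' q'.asIdeal.ResidueField r
  exact rank_fibre_baseChange A' _ _ L

theorem isRegular_fibre_comap (q' : PrimeSpectrum A') (x : L) :
    LieAlgebra.IsRegular q'.asIdeal.ResidueField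
        ((1 : q'.asIdeal.ResidueField) ⊗ₜ[A'] ((1 : A') ⊗ₜ[A] x))
      ↔ LieAlgebra.IsRegular (PrimeSpectrum.comap (algebraMap A A') q').asIdeal.ResidueField
          ((1 : (PrimeSpectrum.comap (algebraMap A A') q').asIdeal.ResidueField) ⊗ₜ[A] x) := by
  letI : Algebra (PrimeSpectrum.comap (algebraMap A A') q').asIdeal.ResidueField
      q'.asIdeal.ResidueField :=
    (Ideal.ResidueField.map (PrimeSpectrum.comap (algebraMap A A') q').asIdeal q'.asIdeal
      (algebraMap A A') rfl).toAlgebra
  haveI : IsScalarTower A (PrimeSpectrum.comap (algebraMap A A') q').asIdeal.ResidueField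
      q'.asIdeal.ResidueField := by
    apply IsScalarTower.of_algebraMap_eq
    intro r
    change _ = Ideal.ResidueField.map _ _ _ _ (algebraMap A _ r)
    rw [Ideal.ResidueField.map_algebraMap]
    exact IsScalarTower.algebraMap_apply A A' q'.asIdeal.ResidueField r
  exact isRegular_fibre_baseChange A' _ _ L x

end spec

section main
open Groth.Agent.S8373 Groth.Agent.S8372
variable {A : Type u} [CommRing A] {L : Type u} [LieRing L] [LieAlgebra A L] [Module.Finite A L]

/-- the rank of the fibres of a Lie algebra with a relative Cartan subalgebra is locally constant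
(assuming `L` projective) -/
lemma isLocallyConstant_rank_of_cartan [Module.Projective A L] (H : LieSubalgebra A L)
    (hH : IsCartanRel H) :
    IsLocallyConstant (fun q : PrimeSpectrum A =>
      LieAlgebra.rank q.asIdeal.ResidueField (q.asIdeal.ResidueField ⊗[A] L)) := by
  haveI : Module.Projective A (L ⧸ H.toSubmodule) := hH.1
  haveI : Module.Finite A H.toSubmodule := finite_of_projective_quotient H.toSubmodule
  obtain ⟨r, hr⟩ := exists_retraction H.toSubmodule
  haveI : Module.Projective A H.toSubmodule := Module.Projective.of_split H.toSubmodule.subtype r hr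
  haveI : Module.FinitePresentation A H.toSubmodule := Module.finitePresentation_of_projective _ _
  have h2 : ∀ q : PrimeSpectrum A,
      LieAlgebra.rank q.asIdeal.ResidueField (q.asIdeal.ResidueField ⊗[A] L)
        = Module.rankAtStalk (R := A) H.toSubmodule q := by
    intro q
    rw [← (hH.2 q).2.2, Module.rankAtStalk_eq]
    have hinj : Function.Injective (H.toSubmodule.subtype.baseChange q.asIdeal.ResidueField) := by
      intro s t hst
      have h2 : (r.baseChange q.asIdeal.ResidueField) ∘ₗ
          (H.toSubmodule.subtype.baseChange q.asIdeal.ResidueField) = LinearMap.id := by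
        rw [← LinearMap.baseChange_comp, hr, LinearMap.baseChange_id]
      have := congrArg (r.baseChange q.asIdeal.ResidueField) hst
      rwa [← LinearMap.comp_apply, ← LinearMap.comp_apply, h2] at this
    exact LinearMap.finrank_range_of_inj hinj
  have h3 : IsLocallyConstant (Module.rankAtStalk (R := A) H.toSubmodule) :=
    Module.isLocallyConstant_rankAtStalk
  have : (fun q : PrimeSpectrum A =>
      LieAlgebra.rank q.asIdeal.ResidueField (q.asIdeal.ResidueField ⊗[A] L))
      = Module.rankAtStalk (R := A) H.toSubmodule := funext h2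
  rw [this]; exact h3

theorem main [Module.Projective A L]
    (hC1 : ∃ (A' : Type u) (_ : CommRing A') (_ : Algebra A A'), Module.FaithfullyFlat A A' ∧
        ∃ H : LieSubalgebra A' (A' ⊗[A] L), SGA3t2b.IsCartanRel H) :
    ∀ p : PrimeSpectrum A, ∃ f : A, f ∉ p.asIdeal ∧ ∀ q : PrimeSpectrum A, f ∉ q.asIdeal →
        LieAlgebra.rank q.asIdeal.ResidueField (q.asIdeal.ResidueField ⊗[A] L) =
          LieAlgebra.rank p.asIdeal.ResidueField (p.asIdeal.ResidueField ⊗[A] L) := by
  obtain ⟨A', _, _, hff, H, hH⟩ := hC1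
  have hloc' := isLocallyConstant_rank_of_cartan H hH
  have hcomp : (fun q' : PrimeSpectrum A' =>
      LieAlgebra.rank q'.asIdeal.ResidueField (q'.asIdeal.ResidueField ⊗[A'] (A' ⊗[A] L)))
      = (fun q : PrimeSpectrum A =>
          LieAlgebra.rank q.asIdeal.ResidueField (q.asIdeal.ResidueField ⊗[A] L))
        ∘ PrimeSpectrum.comap (algebraMap A A') := funext fun q' => rank_fibre_comap A' L q'
  rw [hcomp] at hloc'
  have hquot : Topology.IsQuotientMap (PrimeSpectrum.comap (algebraMap A A')) := by
    apply PrimeSpectrum.isQuotientMap_of_generalizingMap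
    · exact PrimeSpectrum.comap_surjective_of_faithfullyFlat
    · rw [← Algebra.HasGoingDown.iff_generalizingMap_primeSpectrumComap]
      infer_instance
  have hloc : IsLocallyConstant (fun q : PrimeSpectrum A =>
      LieAlgebra.rank q.asIdeal.ResidueField (q.asIdeal.ResidueField ⊗[A] L)) := by
    intro s
    rw [← hquot.isOpen_preimage, ← Set.preimage_comp]
    exact hloc' s
  intro p
  have hopen := hloc {LieAlgebra.rank p.asIdeal.ResidueField (p.asIdeal.ResidueField ⊗[A] L)}
  have hp : p ∈ (fun q : PrimeSpectrum A =>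
      LieAlgebra.rank q.asIdeal.ResidueField (q.asIdeal.ResidueField ⊗[A] L)) ⁻¹'
      {LieAlgebra.rank p.asIdeal.ResidueField (p.asIdeal.ResidueField ⊗[A] L)} :=
    Set.mem_preimage.mpr rfl
  obtain ⟨_, ⟨f, rfl⟩, hpf, hsub⟩ :=
    PrimeSpectrum.isTopologicalBasis_basic_opens.exists_subset_of_mem_open hp hopen
  refine ⟨f, hpf, fun q hq => ?_⟩
  have := hsub (show q ∈ (PrimeSpectrum.basicOpen f : Set (PrimeSpectrum A)) from hq)
  exact this

end main
end Groth.Agent.S8378

namespace Groth.Agent.S8378

/-- Over an affine base Spec A: let L be a Lie algebra over A which is a finitely generated projective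
A-module. If for some faithfully flat A-algebra A' the Lie algebra A' ⊗ L has a Cartan subalgebra
relative to A' (condition (C₁)), then the nilpotent rank of the fibres κ(p) ⊗ L is a locally
constant function of p ∈ Spec A (condition (C₀)). -/
theorem result {A : Type u} [CommRing A] {L : Type u} [LieRing L]
    [LieAlgebra A L] [Module.Finite A L] [Module.Projective A L]
    (hC1 : ∃ (A' : Type u) (_ : CommRing A') (_ : Algebra A A'), Module.FaithfullyFlat A A' ∧
        ∃ H : LieSubalgebra A' (A' ⊗[A] L), SGA3t2b.IsCartanRel H) :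
    ∀ p : PrimeSpectrum A, ∃ f : A, f ∉ p.asIdeal ∧ ∀ q : PrimeSpectrum A, f ∉ q.asIdeal →
        LieAlgebra.rank q.asIdeal.ResidueField (q.asIdeal.ResidueField ⊗[A] L) =
          LieAlgebra.rank p.asIdeal.ResidueField (p.asIdeal.ResidueField ⊗[A] L) := by
  exact main hC1

end Groth.Agent.S8378
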