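import Groth.Statements.S8376
import Mathlib
import Groth.Agent.S8378

set_option autoImplicit false
universe u
open scoped TensorProduct
open SGA3t2b

namespace Groth.Agent.S8376
set_option maxHeartbeats 400000
open scoped TensorProduct
open SGA3t2b

section field
open LieAlgebra
variable {K : Type u} [Field K] {F : Type u} [LieRing F] [LieAlgebra K F] [Module.Finite K F]

lemma isRegular_smul (c : K) (hc : c ≠ 0) (z : F) : IsRegular K (c • z) ↔ IsRegular K z := by
  rw [isRegular_iff_finrank_engel_eq_rank, isRegular_iff_finrank_engel_eq_rank,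
    Groth.Agent.S8374.engel_smul (K := K) c hc z]

end field

section main
variable {A : Type u} [CommRing A] {L : Type u} [LieRing L] [LieAlgebra A L] [Module.Finite A L]

/-- a regular element of the fibre at `p` can be taken of the form `1 ⊗ a` -/
lemma exists_regular_one_tmul (p : PrimeSpectrum A)
    (hp : ∃ x : p.asIdeal.ResidueField ⊗[A] L, LieAlgebra.IsRegular p.asIdeal.ResidueField x) :
    ∃ a : L, LieAlgebra.IsRegular p.asIdeal.ResidueField
      ((1 : p.asIdeal.ResidueField) ⊗ₜ[A] a) := by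
  obtain ⟨x, hx⟩ := hp
  obtain ⟨c, a, rfl⟩ := Groth.Agent.S2964.fibre_surj p.asIdeal x
  by_cases hc : c = 0
  · subst hc
    rw [zero_smul] at hx
    refine ⟨0, ?_⟩
    rwa [TensorProduct.tmul_zero]
  · exact ⟨a, (isRegular_smul c hc _).mp hx⟩

/-- spreading out a regular element: if `1 ⊗ a` is regular at `p` and the rank is locally constant,
then `1 ⊗ a` is quasi-regular over some `A_f`, `f ∉ p`. -/
lemma exists_quasiRegular_away
    (hC0 : ∀ p : PrimeSpectrum A, ∃ f : A, f ∉ p.asIdeal ∧ ∀ q : PrimeSpectrum A, f ∉ q.asIdeal →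
        LieAlgebra.rank q.asIdeal.ResidueField (q.asIdeal.ResidueField ⊗[A] L) =
          LieAlgebra.rank p.asIdeal.ResidueField (p.asIdeal.ResidueField ⊗[A] L))
    (p : PrimeSpectrum A) (a : L)
    (ha : LieAlgebra.IsRegular p.asIdeal.ResidueField ((1 : p.asIdeal.ResidueField) ⊗ₜ[A] a)) :
    ∃ f : A, f ∉ p.asIdeal ∧ SGA3t2b.IsQuasiRegular (Localization.Away f)
      (Localization.Away f ⊗[A] L) ((1 : Localization.Away f) ⊗ₜ[A] a) := by
  have hopen := Groth.Agent.S8375.main hC0 a
  have hpa : p ∈ {q : PrimeSpectrum A |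
      LieAlgebra.IsRegular q.asIdeal.ResidueField ((1 : q.asIdeal.ResidueField) ⊗ₜ[A] a)} := ha
  obtain ⟨_, ⟨f, rfl⟩, hpf, hsub⟩ :=
    PrimeSpectrum.isTopologicalBasis_basic_opens.exists_subset_of_mem_open hpa hopen
  refine ⟨f, hpf, ?_⟩
  intro q'
  rw [Groth.Agent.S8378.isRegular_fibre_comap]
  apply hsub
  change f ∉ (PrimeSpectrum.comap (algebraMap A (Localization.Away f)) q').asIdeal
  intro hf
  have hmem : algebraMap A (Localization.Away f) f ∈ q'.asIdeal := hf
  exact q'.isPrime.ne_top
    (Ideal.eq_top_of_isUnit_mem _ hmem (IsLocalization.Away.algebraMap_isUnit f))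

theorem main
    (hC2 : ((∀ p : PrimeSpectrum A, ∃ f : A, f ∉ p.asIdeal ∧ ∀ q : PrimeSpectrum A, f ∉ q.asIdeal →
        LieAlgebra.rank q.asIdeal.ResidueField (q.asIdeal.ResidueField ⊗[A] L) =
          LieAlgebra.rank p.asIdeal.ResidueField (p.asIdeal.ResidueField ⊗[A] L)) ∧
      ∀ (A' : Type u) [CommRing A'] [Algebra A A'] (a' : A' ⊗[A] L),
        SGA3t2b.IsQuasiRegular A' (A' ⊗[A] L) a' → SGA3t2b.IsRegularRel A' (A' ⊗[A] L) a'))
    (p : PrimeSpectrum A)
    (hp : ∃ x : p.asIdeal.ResidueField ⊗[A] L, LieAlgebra.IsRegular p.asIdeal.ResidueField x) :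
    ∃ f : A, f ∉ p.asIdeal ∧
      ∃ H : LieSubalgebra (Localization.Away f) (Localization.Away f ⊗[A] L),
        SGA3t2b.IsCartanRel H := by
  obtain ⟨hC0, hreg⟩ := hC2
  obtain ⟨a, ha⟩ := exists_regular_one_tmul p hp
  obtain ⟨f, hf, hq⟩ := exists_quasiRegular_away hC0 p a ha
  obtain ⟨_, H, hH, _⟩ := hreg (Localization.Away f) _ hq
  exact ⟨f, hf, H, hH⟩

end main
end Groth.Agent.S8376

namespace Groth.Agent.S8376

/-- Over an affine base Spec A: let L be a Lie algebra over A which is a finitely generated projective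
A-module satisfying condition (C₂): the nilpotent rank of the fibres κ(p) ⊗ L is locally constant on
Spec A and, for every A-algebra A', every quasi-regular element of A' ⊗ L is regular (lies in a
relative Cartan subalgebra). Then for every prime p such that κ(p) ⊗ L has a regular element
(automatic when κ(p) is infinite) there is f ∉ p such that the Lie algebra A_f ⊗ L over the
localisation A_f has a Cartan subalgebra relative to A_f. -/
theorem result {A : Type u} [CommRing A] {L : Type u} [LieRing L]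
    [LieAlgebra A L] [Module.Finite A L] [Module.Projective A L]
    (hC2 : ((∀ p : PrimeSpectrum A, ∃ f : A, f ∉ p.asIdeal ∧ ∀ q : PrimeSpectrum A, f ∉ q.asIdeal →
        LieAlgebra.rank q.asIdeal.ResidueField (q.asIdeal.ResidueField ⊗[A] L) =
          LieAlgebra.rank p.asIdeal.ResidueField (p.asIdeal.ResidueField ⊗[A] L)) ∧
      ∀ (A' : Type u) [CommRing A'] [Algebra A A'] (a' : A' ⊗[A] L),
        SGA3t2b.IsQuasiRegular A' (A' ⊗[A] L) a' → SGA3t2b.IsRegularRel A' (A' ⊗[A] L) a'))
    (p : PrimeSpectrum A)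
    (hp : ∃ x : p.asIdeal.ResidueField ⊗[A] L, LieAlgebra.IsRegular p.asIdeal.ResidueField x) :
    ∃ f : A, f ∉ p.asIdeal ∧
      ∃ H : LieSubalgebra (Localization.Away f) (Localization.Away f ⊗[A] L), SGA3t2b.IsCartanRel H := by
  exact main hC2 p hp

end Groth.Agent.S8376
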