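import Groth.Statements.S8377
import Mathlib
import Groth.Agent.S8376

set_option autoImplicit false
universe u
open scoped TensorProduct
open SGA3t2b

namespace Groth.Agent.S8377
set_option maxHeartbeats 400000
open scoped TensorProduct
open SGA3t2b

section cover
variable {A : Type u} [CommRing A] {ι : Type u} [Finite ι] (f : ι → A)

/-- the product of the localisations at a finite family generating the unit ideal is faithfully
flat -/
lemma faithfullyFlat_pi_away (hf : Ideal.span (Set.range f) = ⊤) :
    Module.FaithfullyFlat A (Π i : ι, Localization.Away (f i)) := by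
  apply Module.FaithfullyFlat.of_comap_surjective
  intro p
  have : ∃ i, f i ∉ p.asIdeal := by
    by_contra hcon
    push Not at hcon
    have hle : Ideal.span (Set.range f) ≤ p.asIdeal := by
      rw [Ideal.span_le]
      rintro _ ⟨i, rfl⟩
      exact hcon i
    rw [hf] at hle
    exact p.isPrime.ne_top (top_le_iff.mp hle)
  obtain ⟨i, hi⟩ := this
  have hmem : p ∈ Set.range (PrimeSpectrum.comap (algebraMap A (Localization.Away (f i)))) := by
    rw [PrimeSpectrum.localization_away_comap_range (Localization.Away (f i)) (f i)]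
    exact hi
  obtain ⟨q, hq⟩ := hmem
  refine ⟨PrimeSpectrum.comap (Pi.evalRingHom (fun i => Localization.Away (f i)) i) q, ?_⟩
  rw [← hq]
  rfl

end cover

section main
variable {A : Type u} [CommRing A] {L : Type u} [LieRing L] [LieAlgebra A L] [Module.Finite A L]

/-- glueing locally given quasi-regular elements using a complete family of orthogonal
idempotents -/
lemma quasiRegular_of_idempotents {ι : Type u} [Fintype ι] (f : ι → A) (a : ι → L)
    (ha : ∀ i (q : PrimeSpectrum A), f i ∉ q.asIdeal →
      LieAlgebra.IsRegular q.asIdeal.ResidueField ((1 : q.asIdeal.ResidueField) ⊗ₜ[A] a i))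
    (A' : Type u) [CommRing A'] [Algebra A A'] (e : ι → A') (hsum : ∑ i, e i = 1)
    (hmul : ∀ i j, i ≠ j → e i * e j = 0)
    (hunit : ∀ i, ∃ u : A', e i = u * algebraMap A A' (f i)) :
    SGA3t2b.IsQuasiRegular A' (A' ⊗[A] L) (∑ i, (e i) ⊗ₜ[A] a i) := by
  classical
  intro q'
  have hex : ∃ i, e i ∉ q'.asIdeal := by
    by_contra hcon
    push Not at hcon
    have : (1 : A') ∈ q'.asIdeal := by
      rw [← hsum]
      exact Ideal.sum_mem _ fun i _ => hcon i
    exact q'.isPrime.ne_top ((Ideal.eq_top_iff_one _).mpr this)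
  obtain ⟨i, hi⟩ := hex
  have hj : ∀ j, j ≠ i → algebraMap A' q'.asIdeal.ResidueField (e j) = 0 := by
    intro j hji
    rw [Ideal.algebraMap_residueField_eq_zero]
    have : e i * e j ∈ q'.asIdeal := by rw [hmul i j (Ne.symm hji)]; exact zero_mem _
    exact (q'.isPrime.mem_or_mem this).resolve_left hi
  have hi1 : algebraMap A' q'.asIdeal.ResidueField (e i) = 1 := by
    have h1 := congrArg (algebraMap A' q'.asIdeal.ResidueField) hsum
    rw [map_sum, map_one, Finset.sum_eq_single i (fun j _ hji => hj j hji)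
      (fun h => absurd (Finset.mem_univ i) h)] at h1
    exact h1
  have hfi : f i ∉ (PrimeSpectrum.comap (algebraMap A A') q').asIdeal := by
    intro hmem
    have hmem' : algebraMap A A' (f i) ∈ q'.asIdeal := hmem
    obtain ⟨u, hu⟩ := hunit i
    apply hi
    rw [hu]
    exact Ideal.mul_mem_left _ _ hmem'
  have key : (1 : q'.asIdeal.ResidueField) ⊗ₜ[A'] (∑ j, (e j) ⊗ₜ[A] a j)
      = (1 : q'.asIdeal.ResidueField) ⊗ₜ[A'] ((1 : A') ⊗ₜ[A] a i) := by
    rw [TensorProduct.tmul_sum]
    have hterm : ∀ j, (1 : q'.asIdeal.ResidueField) ⊗ₜ[A'] ((e j) ⊗ₜ[A] a j)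
        = (algebraMap A' q'.asIdeal.ResidueField (e j)) ⊗ₜ[A'] ((1 : A') ⊗ₜ[A] a j) := by
      intro j
      have h1 : (e j) ⊗ₜ[A] a j = (e j) • ((1 : A') ⊗ₜ[A] a j) := by
        rw [TensorProduct.smul_tmul', smul_eq_mul, mul_one]
      rw [h1, ← TensorProduct.smul_tmul, Algebra.smul_def, mul_one]
    rw [Finset.sum_congr rfl fun j _ => hterm j, Finset.sum_eq_single i]
    · rw [hi1]
    · intro j _ hji
      rw [hj j hji, TensorProduct.zero_tmul]
    · intro h; exact absurd (Finset.mem_univ i) h
  change LieAlgebra.IsRegular q'.asIdeal.ResidueField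
    ((1 : q'.asIdeal.ResidueField) ⊗ₜ[A'] (∑ j, (e j) ⊗ₜ[A] a j))
  rw [key, Groth.Agent.S8378.isRegular_fibre_comap]
  exact ha i _ hfi

/-- glueing locally given quasi-regular elements over the product of localisations -/
lemma quasiRegular_pi {ι : Type u} [Fintype ι] [DecidableEq ι] (f : ι → A) (a : ι → L)
    (ha : ∀ i (q : PrimeSpectrum A), f i ∉ q.asIdeal →
      LieAlgebra.IsRegular q.asIdeal.ResidueField ((1 : q.asIdeal.ResidueField) ⊗ₜ[A] a i)) :
    SGA3t2b.IsQuasiRegular (Π i : ι, Localization.Away (f i))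
      ((Π i : ι, Localization.Away (f i)) ⊗[A] L)
      (∑ i, (Pi.single i 1 : Π i : ι, Localization.Away (f i)) ⊗ₜ[A] a i) := by
  apply quasiRegular_of_idempotents f a ha (Π i : ι, Localization.Away (f i))
    (fun i => Pi.single i 1)
  · exact Finset.univ_sum_single (1 : Π i : ι, Localization.Away (f i))
  · intro i j hij
    funext k
    by_cases h1 : k = i
    · have h2 : k ≠ j := fun h => hij (h1.symm.trans h)
      simp [Pi.single_eq_of_ne h2]
    · simp [Pi.single_eq_of_ne h1]
  · intro i
    obtain ⟨u, hu⟩ := (IsLocalization.Away.algebraMap_isUnit (S := Localization.Away (f i))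
      (f i)).exists_left_inv
    refine ⟨Pi.single i u, ?_⟩
    funext k
    by_cases h : k = i
    · subst h
      simp only [Pi.mul_apply, Pi.single_eq_same, Pi.algebraMap_apply]
      exact hu.symm
    · simp [Pi.single_eq_of_ne h]

theorem main
    (hC2 : ((∀ p : PrimeSpectrum A, ∃ f : A, f ∉ p.asIdeal ∧ ∀ q : PrimeSpectrum A, f ∉ q.asIdeal →
        LieAlgebra.rank q.asIdeal.ResidueField (q.asIdeal.ResidueField ⊗[A] L) =
          LieAlgebra.rank p.asIdeal.ResidueField (p.asIdeal.ResidueField ⊗[A] L)) ∧
      ∀ (A' : Type u) [CommRing A'] [Algebra A A'] (a' : A' ⊗[A] L),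
        SGA3t2b.IsQuasiRegular A' (A' ⊗[A] L) a' → SGA3t2b.IsRegularRel A' (A' ⊗[A] L) a'))
    (hreg : ∀ p : PrimeSpectrum A, ∃ x : p.asIdeal.ResidueField ⊗[A] L,
      LieAlgebra.IsRegular p.asIdeal.ResidueField x) :
    ∃ (A' : Type u) (_ : CommRing A') (_ : Algebra A A'), Algebra.Etale A A' ∧
      Module.FaithfullyFlat A A' ∧
        ∃ H : LieSubalgebra A' (A' ⊗[A] L), SGA3t2b.IsCartanRel H := by
  classical
  obtain ⟨hC0, hC2'⟩ := hC2
  -- local data
  have hloc : ∀ p : PrimeSpectrum A, ∃ (g : A) (b : L), g ∉ p.asIdeal ∧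
      ∀ q : PrimeSpectrum A, g ∉ q.asIdeal →
        LieAlgebra.IsRegular q.asIdeal.ResidueField ((1 : q.asIdeal.ResidueField) ⊗ₜ[A] b) := by
    intro p
    obtain ⟨b, hb⟩ := Groth.Agent.S8376.exists_regular_one_tmul p (hreg p)
    have hopen := Groth.Agent.S8375.main hC0 b
    have hpb : p ∈ {q : PrimeSpectrum A |
        LieAlgebra.IsRegular q.asIdeal.ResidueField ((1 : q.asIdeal.ResidueField) ⊗ₜ[A] b)} := hb
    obtain ⟨_, ⟨g, rfl⟩, hpg, hsub⟩ :=
      PrimeSpectrum.isTopologicalBasis_basic_opens.exists_subset_of_mem_open hpb hopen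
    exact ⟨g, b, hpg, fun q hq => hsub hq⟩
  choose g b hg hgb using hloc
  have hspan : Ideal.span (Set.range g) = ⊤ := by
    by_contra hne
    obtain ⟨m, hm, hle⟩ := Ideal.exists_le_maximal _ hne
    exact hg ⟨m, hm.isPrime⟩ (hle (Ideal.subset_span ⟨_, rfl⟩))
  obtain ⟨s, hs, hs'⟩ := (Ideal.span_eq_top_iff_finite _).mp hspan
  have hchoice : ∀ x : s, ∃ p : PrimeSpectrum A, g p = x.1 := fun x => hs x.2
  choose P hP using hchoice
  let f : s → A := fun x => x.1
  let a : s → L := fun x => b (P x)
  have hfspan : Ideal.span (Set.range f) = ⊤ := by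
    have : Set.range f = (s : Set A) := Subtype.range_coe
    rw [this]; exact hs'
  have hfa : ∀ (i : s) (q : PrimeSpectrum A), f i ∉ q.asIdeal →
      LieAlgebra.IsRegular q.asIdeal.ResidueField ((1 : q.asIdeal.ResidueField) ⊗ₜ[A] a i) := by
    intro i q hq
    apply hgb (P i) q
    rw [hP i]; exact hq
  refine ⟨Π i : s, Localization.Away (f i), inferInstance, inferInstance, inferInstance,
    faithfullyFlat_pi_away f hfspan, ?_⟩
  obtain ⟨_, H, hH, _⟩ := hC2' (Π i : s, Localization.Away (f i)) _ (quasiRegular_pi f a hfa)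
  exact ⟨H, hH⟩

end main
end Groth.Agent.S8377

namespace Groth.Agent.S8377

/-- Let L be a Lie algebra over the commutative ring A which is a finitely generated projective
A-module. Suppose that the nilpotent rank of the fibres κ(p) ⊗ L is locally constant on Spec A, that
for every A-algebra A' every quasi-regular element of A' ⊗ L is regular (condition (C₂)), and that
every fibre κ(p) ⊗ L has a regular element (automatic when every residue field of A is infinite).
Then L acquires a relative Cartan subalgebra after a faithfully flat etale base change A → A'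
(condition (C′₁)). (The published implication (C₂) ⇒ (C′₁) is over an arbitrary base and has no
hypothesis on regular elements of the fibres; this row is over an affine base and assumes every
fibre has a regular element, the case in which the published argument, through the existence of a
Cartan subalgebra Zariski-locally near each such point, is complete.) -/
theorem result {A : Type u} [CommRing A] {L : Type u} [LieRing L]
    [LieAlgebra A L] [Module.Finite A L] [Module.Projective A L]
    (hC2 : ((∀ p : PrimeSpectrum A, ∃ f : A, f ∉ p.asIdeal ∧ ∀ q : PrimeSpectrum A, f ∉ q.asIdeal →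
        LieAlgebra.rank q.asIdeal.ResidueField (q.asIdeal.ResidueField ⊗[A] L) =
          LieAlgebra.rank p.asIdeal.ResidueField (p.asIdeal.ResidueField ⊗[A] L)) ∧
      ∀ (A' : Type u) [CommRing A'] [Algebra A A'] (a' : A' ⊗[A] L),
        SGA3t2b.IsQuasiRegular A' (A' ⊗[A] L) a' → SGA3t2b.IsRegularRel A' (A' ⊗[A] L) a'))
    (hreg : ∀ p : PrimeSpectrum A, ∃ x : p.asIdeal.ResidueField ⊗[A] L, LieAlgebra.IsRegular p.asIdeal.ResidueField x) :
    ∃ (A' : Type u) (_ : CommRing A') (_ : Algebra A A'), Algebra.Etale A A' ∧ Module.FaithfullyFlat A A' ∧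
        ∃ H : LieSubalgebra A' (A' ⊗[A] L), SGA3t2b.IsCartanRel H := by
  exact main hC2 hreg

end Groth.Agent.S8377
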