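import Groth.Statements.S8379
import Mathlib
import Groth.Agent.S8378
import Groth.Agent.Lib.Helper52.FibreRank

set_option autoImplicit false
universe u
open scoped TensorProduct
open SGA3t2b

namespace Groth.Agent.S8379
set_option maxHeartbeats 400000
open scoped TensorProduct
open SGA3t2b

section ring
open LieAlgebra LieSubalgebra Module
variable {R : Type u} [CommRing R] {M₁ M₂ : Type u} [LieRing M₁] [LieAlgebra R M₁]
  [LieRing M₂] [LieAlgebra R M₂]

lemma equiv_ad_pow (e : M₁ ≃ₗ[R] M₂) (he : ∀ x y, e ⁅x, y⁆ = ⁅e x, e y⁆) (z w : M₁) (n : ℕ) :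
    ((ad R M₂ (e z)) ^ n) (e w) = e (((ad R M₁ z) ^ n) w) := by
  induction n with
  | zero => simp
  | succ n ih =>
    rw [pow_succ', Module.End.mul_apply, ih, pow_succ', Module.End.mul_apply,
      LieAlgebra.ad_apply, LieAlgebra.ad_apply, he]

lemma range_ad_pow_equiv (e : M₁ ≃ₗ[R] M₂) (he : ∀ x y, e ⁅x, y⁆ = ⁅e x, e y⁆) (z : M₁) (n : ℕ) :
    LinearMap.range ((ad R M₂ (e z)) ^ n)
      = (LinearMap.range ((ad R M₁ z) ^ n)).map e.toLinearMap := by
  ext y
  constructor
  · rintro ⟨w, rfl⟩
    refine ⟨((ad R M₁ z) ^ n) (e.symm w), ⟨_, rfl⟩, ?_⟩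
    change e _ = _
    rw [← equiv_ad_pow e he, LinearEquiv.apply_symm_apply]
  · rintro ⟨_, ⟨w, rfl⟩, rfl⟩
    refine ⟨e w, ?_⟩
    rw [equiv_ad_pow e he]; rfl

/-- transport of projectivity of the cokernel of `(ad z)^n` along a Lie equivalence -/
lemma projective_coker_equiv (e : M₁ ≃ₗ[R] M₂) (he : ∀ x y, e ⁅x, y⁆ = ⁅e x, e y⁆) (z : M₁)
    (n : ℕ) (h : Module.Projective R (M₁ ⧸ LinearMap.range ((ad R M₁ z) ^ n))) :
    Module.Projective R (M₂ ⧸ LinearMap.range ((ad R M₂ (e z)) ^ n)) := by
  have e' : (M₁ ⧸ LinearMap.range ((ad R M₁ z) ^ n)) ≃ₗ[R]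
      (M₂ ⧸ LinearMap.range ((ad R M₂ (e z)) ^ n)) :=
    Submodule.Quotient.equiv _ _ e (range_ad_pow_equiv e he z n).symm
  exact Module.Projective.of_equiv e'

/-- base change of a Lie equivalence preserves brackets -/
lemma baseChange_lie (K : Type u) [CommRing K] [Algebra R K] (e : M₁ ≃ₗ[R] M₂)
    (he : ∀ x y, e ⁅x, y⁆ = ⁅e x, e y⁆) (s t : K ⊗[R] M₁) :
    e.baseChange R K M₁ M₂ ⁅s, t⁆ = ⁅e.baseChange R K M₁ M₂ s, e.baseChange R K M₁ M₂ t⁆ := by
  induction s using TensorProduct.induction_on with
  | zero => simp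
  | tmul c x =>
    induction t using TensorProduct.induction_on with
    | zero => simp
    | tmul d y =>
      rw [LieAlgebra.ExtendScalars.bracket_tmul, LinearEquiv.baseChange_tmul,
        LinearEquiv.baseChange_tmul, LinearEquiv.baseChange_tmul,
        LieAlgebra.ExtendScalars.bracket_tmul, he]
    | add t₁ t₂ h₁ h₂ => rw [lie_add, map_add, h₁, h₂, map_add, lie_add]
  | add s₁ s₂ h₁ h₂ => rw [add_lie, map_add, h₁, h₂, map_add, add_lie]

variable [Module.Finite R M₁] [Module.Finite R M₂]

lemma isRegular_fibre_equiv (e : M₁ ≃ₗ[R] M₂) (he : ∀ x y, e ⁅x, y⁆ = ⁅e x, e y⁆)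
    (q : PrimeSpectrum R) (z : M₁) :
    IsRegular q.asIdeal.ResidueField ((1 : q.asIdeal.ResidueField) ⊗ₜ[R] (e z))
      ↔ IsRegular q.asIdeal.ResidueField ((1 : q.asIdeal.ResidueField) ⊗ₜ[R] z) := by
  have := Groth.Agent.S8378.isRegular_equiv (e.baseChange R q.asIdeal.ResidueField M₁ M₂)
    (baseChange_lie q.asIdeal.ResidueField e he) ((1 : q.asIdeal.ResidueField) ⊗ₜ[R] z)
  rwa [LinearEquiv.baseChange_tmul] at this

lemma isQuasiRegular_equiv (e : M₁ ≃ₗ[R] M₂) (he : ∀ x y, e ⁅x, y⁆ = ⁅e x, e y⁆) (z : M₁) :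
    IsQuasiRegular R M₂ (e z) ↔ IsQuasiRegular R M₁ z :=
  forall_congr' fun q => isRegular_fibre_equiv e he q z

end ring

section coker
variable {R : Type u} [CommRing R] (R' : Type u) [CommRing R'] [Algebra R R']
  {M : Type u} [AddCommGroup M] [Module R M] (ψ : M →ₗ[R] M)

lemma ker_mkQ_baseChange :
    LinearMap.ker ((LinearMap.range ψ).mkQ.baseChange R') = LinearMap.range (ψ.baseChange R') := by
  have hex : Function.Exact (ψ.baseChange R') ((LinearMap.range ψ).mkQ.baseChange R') :=
    lTensor_exact R' (LinearMap.exact_map_mkQ_range ψ) (Submodule.mkQ_surjective _)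
  exact (LinearMap.exact_iff.mp hex)

/-- cokernels commute with base change -/
noncomputable def cokerBaseChangeEquiv :
    ((R' ⊗[R] M) ⧸ LinearMap.range (ψ.baseChange R')) ≃ₗ[R'] R' ⊗[R] (M ⧸ LinearMap.range ψ) :=
  (Submodule.quotEquivOfEq _ _ (ker_mkQ_baseChange R' ψ).symm).trans
    (LinearMap.quotKerEquivOfSurjective ((LinearMap.range ψ).mkQ.baseChange R')
      (LinearMap.lTensor_surjective R' (Submodule.mkQ_surjective _)))

lemma projective_coker_baseChange (h : Module.Projective R (M ⧸ LinearMap.range ψ)) :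
    Module.Projective R' ((R' ⊗[R] M) ⧸ LinearMap.range (ψ.baseChange R')) :=
  Module.Projective.of_equiv (cokerBaseChangeEquiv R' ψ).symm

lemma projective_coker_of_baseChange
    (h : Module.Projective R' (R' ⊗[R] (M ⧸ LinearMap.range ψ))) :
    Module.Projective R' ((R' ⊗[R] M) ⧸ LinearMap.range (ψ.baseChange R')) :=
  Module.Projective.of_equiv (cokerBaseChangeEquiv R' ψ).symm

end coker

section reducedcase
open Groth.Agent.Lib.Helper52.FibreRank
variable {R : Type u} [CommRing R] {M : Type u} [LieRing M] [LieAlgebra R M] [Module.Finite R M]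

/-- number-of-generators bound on the fibre dimensions -/
lemma finrank_fibre_le_of_span {n : ℕ} (s : Fin n → M) (hs : Submodule.span R (Set.range s) = ⊤)
    (q : PrimeSpectrum R) :
    Module.finrank q.asIdeal.ResidueField (q.asIdeal.ResidueField ⊗[R] M) ≤ n := by
  apply Groth.Agent.S8375.finrank_fibre_le_of_smul_mem s 1
    (fun y => by rw [one_smul, hs]; exact Submodule.mem_top)
  exact q.isPrime.one_notMem

/-- over a reduced ring, for a quasi-regular element `x` and `n` at least the number of generators,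
the cokernel of `(ad x)^n` is projective, provided the rank of the fibres is locally constant. -/
theorem projective_coker_of_reduced [IsReduced R]
    (hloc : IsLocallyConstant (fun q : PrimeSpectrum R =>
      LieAlgebra.rank q.asIdeal.ResidueField (q.asIdeal.ResidueField ⊗[R] M)))
    (x : M) (hx : IsQuasiRegular R M x) (n : ℕ)
    (hn : ∀ q : PrimeSpectrum R,
      Module.finrank q.asIdeal.ResidueField (q.asIdeal.ResidueField ⊗[R] M) ≤ n) :
    Module.Projective R (M ⧸ LinearMap.range ((LieAlgebra.ad R M x) ^ n)) := by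
  apply projective_of_isLocallyConstant_fr
  have : fr (R := R) (M ⧸ LinearMap.range ((LieAlgebra.ad R M x) ^ n))
      = fun q : PrimeSpectrum R =>
        LieAlgebra.rank q.asIdeal.ResidueField (q.asIdeal.ResidueField ⊗[R] M) := by
    funext q
    change Module.finrank q.asIdeal.ResidueField
      (q.asIdeal.ResidueField ⊗[R] (M ⧸ LinearMap.range ((LieAlgebra.ad R M x) ^ n))) = _
    rw [← Groth.Agent.S8375.finrank_ker_eq_finrank_coker,
      ← (LieAlgebra.isRegular_iff_finrank_engel_eq_rank _ _).mp (hx q)]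
    exact (congrArg (fun S : Submodule q.asIdeal.ResidueField (q.asIdeal.ResidueField ⊗[R] M) =>
      Module.finrank q.asIdeal.ResidueField S)
        (Groth.Agent.S8375.engel_fibre_eq_ker x n q (hn q))).symm
  rw [this]
  exact hloc

end reducedcase

section loc
variable {A : Type u} [CommRing A] {L : Type u} [LieRing L] [LieAlgebra A L] [Module.Finite A L]

lemma isLocallyConstant_of_hC0
    (hC0 : ∀ p : PrimeSpectrum A, ∃ f : A, f ∉ p.asIdeal ∧ ∀ q : PrimeSpectrum A, f ∉ q.asIdeal →
        LieAlgebra.rank q.asIdeal.ResidueField (q.asIdeal.ResidueField ⊗[A] L) =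
          LieAlgebra.rank p.asIdeal.ResidueField (p.asIdeal.ResidueField ⊗[A] L)) :
    IsLocallyConstant (fun q : PrimeSpectrum A =>
      LieAlgebra.rank q.asIdeal.ResidueField (q.asIdeal.ResidueField ⊗[A] L)) := by
  rw [IsLocallyConstant.iff_eventually_eq]
  intro p
  obtain ⟨f, hf, h⟩ := hC0 p
  filter_upwards [(PrimeSpectrum.basicOpen f).isOpen.mem_nhds hf] with q hq
  exact h q hq

lemma hC0_of_isLocallyConstant
    (hloc : IsLocallyConstant (fun q : PrimeSpectrum A =>
      LieAlgebra.rank q.asIdeal.ResidueField (q.asIdeal.ResidueField ⊗[A] L))) :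
    ∀ p : PrimeSpectrum A, ∃ f : A, f ∉ p.asIdeal ∧ ∀ q : PrimeSpectrum A, f ∉ q.asIdeal →
        LieAlgebra.rank q.asIdeal.ResidueField (q.asIdeal.ResidueField ⊗[A] L) =
          LieAlgebra.rank p.asIdeal.ResidueField (p.asIdeal.ResidueField ⊗[A] L) := by
  intro p
  have hopen := hloc {LieAlgebra.rank p.asIdeal.ResidueField (p.asIdeal.ResidueField ⊗[A] L)}
  have hp : p ∈ (fun q : PrimeSpectrum A =>
      LieAlgebra.rank q.asIdeal.ResidueField (q.asIdeal.ResidueField ⊗[A] L)) ⁻¹'
      {LieAlgebra.rank p.asIdeal.ResidueField (p.asIdeal.ResidueField ⊗[A] L)} :=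
    Set.mem_preimage.mpr rfl
  obtain ⟨_, ⟨f, rfl⟩, hpf, hsub⟩ :=
    PrimeSpectrum.isTopologicalBasis_basic_opens.exists_subset_of_mem_open hp hopen
  refine ⟨f, hpf, fun q hq => ?_⟩
  have := hsub (show q ∈ (PrimeSpectrum.basicOpen f : Set (PrimeSpectrum A)) from hq)
  exact this

lemma isLocallyConstant_rank_baseChange (A' : Type u) [CommRing A'] [Algebra A A']
    (hloc : IsLocallyConstant (fun q : PrimeSpectrum A =>
      LieAlgebra.rank q.asIdeal.ResidueField (q.asIdeal.ResidueField ⊗[A] L))) :
    IsLocallyConstant (fun q' : PrimeSpectrum A' =>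
      LieAlgebra.rank q'.asIdeal.ResidueField (q'.asIdeal.ResidueField ⊗[A'] (A' ⊗[A] L))) := by
  have : (fun q' : PrimeSpectrum A' =>
      LieAlgebra.rank q'.asIdeal.ResidueField (q'.asIdeal.ResidueField ⊗[A'] (A' ⊗[A] L)))
      = (fun q : PrimeSpectrum A =>
          LieAlgebra.rank q.asIdeal.ResidueField (q.asIdeal.ResidueField ⊗[A] L))
        ∘ PrimeSpectrum.comap (algebraMap A A') :=
    funext fun q' => Groth.Agent.S8378.rank_fibre_comap A' L q'
  rw [this]
  exact hloc.comp_continuous (PrimeSpectrum.continuous_comap (algebraMap A A'))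

lemma span_one_tmul_eq_top (A' : Type u) [CommRing A'] [Algebra A A'] {n : ℕ} (s : Fin n → L)
    (hs : Submodule.span A (Set.range s) = ⊤) :
    Submodule.span A' (Set.range fun i => (1 : A') ⊗ₜ[A] s i) = ⊤ := by
  have h1 := Submodule.baseChange_span (R := A) A' (Set.range s)
  rw [hs, Submodule.baseChange_top, ← Set.range_comp] at h1
  exact h1.symm

end loc

section locus
open LieAlgebra
variable {S : Type u} [CommRing S] {M : Type u} [LieRing M] [LieAlgebra S M] [Module.Finite S M]

lemma ad_pow_baseChange (S' : Type u) [CommRing S'] [Algebra S S'] (x : M) (n : ℕ) :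
    (ad S' (S' ⊗[S] M) ((1 : S') ⊗ₜ[S] x)) ^ n = ((ad S M x) ^ n).baseChange S' := by
  rw [LinearMap.baseChange_pow]
  congr 1
  exact LieModule.toEnd_baseChange _ _ _ _ _

/-- over a reduced ring with locally constant rank, the cokernel of `(ad x)^n` is locally free at
every prime where `x` is regular -/
theorem regular_locus_subset_freeLocus [IsReduced S] [Module.Projective S M]
    (hloc : IsLocallyConstant (fun q : PrimeSpectrum S =>
      LieAlgebra.rank q.asIdeal.ResidueField (q.asIdeal.ResidueField ⊗[S] M)))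
    (x : M) {n : ℕ} (s : Fin n → M) (hs : Submodule.span S (Set.range s) = ⊤) :
    {𝔰 : PrimeSpectrum S | IsRegular 𝔰.asIdeal.ResidueField
        ((1 : 𝔰.asIdeal.ResidueField) ⊗ₜ[S] x)}
      ⊆ Module.freeLocus S (M ⧸ LinearMap.range ((ad S M x) ^ n)) := by
  intro 𝔰 h𝔰
  haveI : Module.FinitePresentation S M := Module.finitePresentation_of_projective _ _
  haveI : Module.FinitePresentation S (M ⧸ LinearMap.range ((ad S M x) ^ n)) :=
    Module.finitePresentation_of_surjective _ (Submodule.mkQ_surjective _)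
      (by rw [Submodule.ker_mkQ, LinearMap.range_eq_map]; exact Submodule.FG.map _ Module.Finite.fg_top)
  have hopen := Groth.Agent.S8375.main (hC0_of_isLocallyConstant hloc) x
  obtain ⟨_, ⟨g, rfl⟩, h𝔰g, hsub⟩ :=
    PrimeSpectrum.isTopologicalBasis_basic_opens.exists_subset_of_mem_open h𝔰 hopen
  suffices h : (PrimeSpectrum.basicOpen g : Set (PrimeSpectrum S)) ⊆
      Module.freeLocus S (M ⧸ LinearMap.range ((ad S M x) ^ n)) from h h𝔰g
  rw [Module.basicOpen_subset_freeLocus_iff]
  have hqr : IsQuasiRegular (Localization.Away g) (Localization.Away g ⊗[S] M)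
      ((1 : Localization.Away g) ⊗ₜ[S] x) := by
    intro q'
    rw [Groth.Agent.S8378.isRegular_fibre_comap]
    apply hsub
    change g ∉ (PrimeSpectrum.comap (algebraMap S (Localization.Away g)) q').asIdeal
    intro hf
    have hmem : algebraMap S (Localization.Away g) g ∈ q'.asIdeal := hf
    exact q'.isPrime.ne_top
      (Ideal.eq_top_of_isUnit_mem _ hmem (IsLocalization.Away.algebraMap_isUnit g))
  have h1 := projective_coker_of_reduced
    (isLocallyConstant_rank_baseChange (Localization.Away g) hloc)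
    ((1 : Localization.Away g) ⊗ₜ[S] x) hqr n
    (fun q' => finrank_fibre_le_of_span _ (span_one_tmul_eq_top (Localization.Away g) s hs) q')
  rw [ad_pow_baseChange] at h1
  have h2 : Module.Projective (Localization.Away g)
      (Localization.Away g ⊗[S] (M ⧸ LinearMap.range ((ad S M x) ^ n))) :=
    Module.Projective.of_equiv (cokerBaseChangeEquiv (Localization.Away g) ((ad S M x) ^ n))
  exact Module.Projective.of_equiv (IsLocalizedModule.isBaseChange (Submonoid.powers g)
    (Localization.Away g) (LocalizedModule.mkLinearMap (Submonoid.powers g)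
      (M ⧸ LinearMap.range ((ad S M x) ^ n)))).equiv

end locus

section fitting
variable {R : Type u} [CommRing R] {M : Type u} [AddCommGroup M] [Module R M]

lemma exists_retraction' (P : Submodule R M) [Module.Projective R (M ⧸ P)] :
    ∃ r : M →ₗ[R] P, r ∘ₗ P.subtype = LinearMap.id := by
  obtain ⟨s, hs⟩ := Module.projective_lifting_property P.mkQ LinearMap.id (Submodule.mkQ_surjective P)
  let r : M →ₗ[R] P := (LinearMap.id - s ∘ₗ P.mkQ).codRestrict P (by
    intro x
    rw [← Submodule.Quotient.mk_eq_zero, LinearMap.sub_apply, Submodule.Quotient.mk_sub]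
    have := LinearMap.congr_fun hs (P.mkQ x)
    simp only [LinearMap.comp_apply, LinearMap.id_apply, Submodule.mkQ_apply] at this ⊢
    rw [this, sub_self])
  refine ⟨r, ?_⟩
  ext n
  simp [r, (Submodule.Quotient.mk_eq_zero P).mpr n.2]

/-- Fitting over a field for an explicit exponent -/
lemma ker_sup_range_pow_eq_top {K : Type u} [Field K] {V : Type u} [AddCommGroup V] [Module K V]
    [Module.Finite K V] (f : V →ₗ[K] V) {n : ℕ} (hn : Module.finrank K V ≤ n) :
    LinearMap.ker (f ^ n) ⊔ LinearMap.range (f ^ n) = ⊤ := by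
  obtain ⟨k, hk⟩ := (LinearMap.eventually_isCompl_ker_pow_range_pow f).exists_forall_of_atTop
  have hc := hk (max k n) (le_max_left _ _)
  have h1 : LinearMap.ker (f ^ (max k n)) = LinearMap.ker (f ^ n) := by
    rw [Module.End.ker_pow_eq_ker_pow_finrank_of_le (hn.trans (le_max_right k n)),
      Module.End.ker_pow_eq_ker_pow_finrank_of_le hn]
  have h2 : LinearMap.range (f ^ (max k n)) ≤ LinearMap.range (f ^ n) := by
    have : f ^ (max k n) = f ^ n * f ^ (max k n - n) := by
      rw [← pow_add, Nat.add_sub_cancel' (le_max_right k n)]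
    rw [this]
    exact LinearMap.range_comp_le_range _ _
  rw [eq_top_iff, ← hc.sup_eq_top, h1]
  exact sup_le_sup_left h2 _

variable [Module.Finite R M] (N : M →ₗ[R] M)

/-- the kernel of `N ⊗ κ` is the image of `κ ⊗ ker N` when `coker N` is projective -/
lemma ker_baseChange_le (hproj : Module.Projective R (M ⧸ LinearMap.range N))
    (K : Type u) [Field K] [Algebra R K] :
    LinearMap.ker (N.baseChange K) ≤ LinearMap.range ((LinearMap.ker N).subtype.baseChange K) := by
  obtain ⟨r, hr⟩ := exists_retraction' (LinearMap.range N)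
  have hN : N = (LinearMap.range N).subtype ∘ₗ N.rangeRestrict := by ext; rfl
  have hex : Function.Exact ((LinearMap.ker N).subtype.baseChange K)
      (N.rangeRestrict.baseChange K) := by
    apply lTensor_exact K _ N.surjective_rangeRestrict
    rw [LinearMap.exact_iff, LinearMap.ker_rangeRestrict, Submodule.range_subtype]
  intro t ht
  rw [LinearMap.mem_ker] at ht
  have h1 : (N.rangeRestrict.baseChange K) t = 0 := by
    have h2 : (r.baseChange K) ∘ₗ ((LinearMap.range N).subtype.baseChange K) = LinearMap.id := by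
      rw [← LinearMap.baseChange_comp, hr, LinearMap.baseChange_id]
    have h3 : N.baseChange K = ((LinearMap.range N).subtype.baseChange K) ∘ₗ
        (N.rangeRestrict.baseChange K) := by
      rw [← LinearMap.baseChange_comp, ← hN]
    rw [h3, LinearMap.comp_apply] at ht
    have := congrArg (r.baseChange K) ht
    rwa [← LinearMap.comp_apply, h2, map_zero] at this
  exact (hex t).mp h1

/-- global Fitting decomposition (sum) from the fibrewise one -/
lemma ker_sup_range_eq_top (hproj : Module.Projective R (M ⧸ LinearMap.range N))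
    (hfib : ∀ q : PrimeSpectrum R,
      LinearMap.ker (N.baseChange q.asIdeal.ResidueField) ⊔
        LinearMap.range (N.baseChange q.asIdeal.ResidueField) = ⊤) :
    LinearMap.ker N ⊔ LinearMap.range N = ⊤ := by
  set Z := LinearMap.ker N ⊔ LinearMap.range N with hZ
  have hsub : Subsingleton (M ⧸ Z) := by
    rw [← Module.support_eq_empty_iff (R := R)]
    rw [Set.eq_empty_iff_forall_notMem]
    intro q hq
    rw [Module.mem_support_iff_nontrivial_residueField_tensorProduct] at hq
    have hzero : Z.mkQ.baseChange q.asIdeal.ResidueField = 0 := by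
      apply LinearMap.ext
      intro t
      have ht : t ∈ LinearMap.ker (N.baseChange q.asIdeal.ResidueField) ⊔
          LinearMap.range (N.baseChange q.asIdeal.ResidueField) := by
        rw [hfib q]; exact Submodule.mem_top
      obtain ⟨u, hu, v, hv, rfl⟩ := Submodule.mem_sup.mp ht
      have hu' := ker_baseChange_le N hproj q.asIdeal.ResidueField hu
      obtain ⟨u', rfl⟩ := hu'
      obtain ⟨v', rfl⟩ := hv
      rw [map_add, ← LinearMap.comp_apply, ← LinearMap.comp_apply, ← LinearMap.baseChange_comp,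
        ← LinearMap.baseChange_comp]
      have e1 : Z.mkQ ∘ₗ (LinearMap.ker N).subtype = 0 := by
        ext y
        simp only [LinearMap.comp_apply, Submodule.subtype_apply, Submodule.mkQ_apply,
          LinearMap.zero_apply]
        rw [Submodule.Quotient.mk_eq_zero]
        exact Submodule.mem_sup_left y.2
      have e2 : Z.mkQ ∘ₗ N = 0 := by
        ext y
        simp only [LinearMap.comp_apply, Submodule.mkQ_apply, LinearMap.zero_apply]
        rw [Submodule.Quotient.mk_eq_zero]
        exact Submodule.mem_sup_right ⟨y, rfl⟩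
      rw [e1, e2, LinearMap.baseChange_zero]
      simp
    have hsurj : Function.Surjective (Z.mkQ.baseChange q.asIdeal.ResidueField) :=
      LinearMap.lTensor_surjective _ (Submodule.mkQ_surjective _)
    obtain ⟨a, b, hab⟩ := hq
    apply hab
    obtain ⟨a', rfl⟩ := hsurj a
    obtain ⟨b', rfl⟩ := hsurj b
    rw [hzero]; rfl
  rw [eq_top_iff]
  intro y _
  have := Subsingleton.elim (Z.mkQ y) 0
  rwa [Submodule.mkQ_apply, Submodule.Quotient.mk_eq_zero] at this

lemma ker_inf_range_eq_bot (h : LinearMap.ker N ⊔ LinearMap.range N = ⊤) :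
    LinearMap.ker N ⊓ LinearMap.range N = ⊥ := by
  have hmaps : ∀ y ∈ LinearMap.range N, N y ∈ LinearMap.range N := fun y _ => ⟨y, rfl⟩
  let N' : LinearMap.range N →ₗ[R] LinearMap.range N := N.restrict hmaps
  have hsurj : Function.Surjective N' := by
    rintro ⟨_, ⟨y, rfl⟩⟩
    have hy : y ∈ LinearMap.ker N ⊔ LinearMap.range N := by rw [h]; exact Submodule.mem_top
    obtain ⟨k, hk, _, ⟨w, rfl⟩, rfl⟩ := Submodule.mem_sup.mp hy
    refine ⟨⟨N w, ⟨w, rfl⟩⟩, ?_⟩
    apply Subtype.ext
    change N (N w) = N (k + N w)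
    rw [map_add, LinearMap.mem_ker.mp hk, zero_add]
  have hinj : Function.Injective N' :=
    OrzechProperty.injective_of_surjective_endomorphism N' hsurj
  rw [eq_bot_iff]
  rintro y ⟨hy1, hy2⟩
  have : N' ⟨y, hy2⟩ = 0 := by
    apply Subtype.ext
    exact LinearMap.mem_ker.mp hy1
  have := hinj (this.trans (map_zero N').symm)
  exact congrArg Subtype.val this

lemma ker_pow_le_ker (h : LinearMap.ker N ⊓ LinearMap.range N = ⊥) (j : ℕ) :
    LinearMap.ker (N ^ (j + 1)) ≤ LinearMap.ker N := by
  induction j with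
  | zero => simp
  | succ j ih =>
    intro y hy
    rw [LinearMap.mem_ker, pow_succ, Module.End.mul_apply] at hy
    have h1 : N y ∈ LinearMap.ker N := ih (LinearMap.mem_ker.mpr hy)
    have h2 : N y ∈ LinearMap.ker N ⊓ LinearMap.range N := ⟨h1, ⟨y, rfl⟩⟩
    rw [h] at h2
    exact LinearMap.mem_ker.mpr ((Submodule.mem_bot R).mp h2)

lemma projective_quot_ker [Module.Projective R M]
    (hproj : Module.Projective R (M ⧸ LinearMap.range N)) :
    Module.Projective R (M ⧸ LinearMap.ker N) := by
  obtain ⟨r, hr⟩ := exists_retraction' (LinearMap.range N)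
  haveI : Module.Projective R (LinearMap.range N) :=
    Module.Projective.of_split (LinearMap.range N).subtype r hr
  exact Module.Projective.of_equiv N.quotKerEquivRange.symm

end fitting

section cartan
open LieAlgebra
variable {R : Type u} [CommRing R] {M : Type u} [LieRing M] [LieAlgebra R M] [Module.Finite R M]
  [Module.Projective R M]

theorem isCartanRel_engel_of_projective_coker (x : M) (hx : IsQuasiRegular R M x) (n : ℕ)
    (hn : ∀ q : PrimeSpectrum R,
      Module.finrank q.asIdeal.ResidueField (q.asIdeal.ResidueField ⊗[R] M) ≤ n + 1)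
    (hproj : Module.Projective R (M ⧸ LinearMap.range ((ad R M x) ^ (n + 1)))) :
    IsCartanRel (LieSubalgebra.engel R x) := by
  set φ : Module.End R M := ad R M x with hφ
  set N : Module.End R M := φ ^ (n + 1) with hN
  have hfib : ∀ q : PrimeSpectrum R,
      LinearMap.ker (N.baseChange q.asIdeal.ResidueField) ⊔
        LinearMap.range (N.baseChange q.asIdeal.ResidueField) = ⊤ := by
    intro q
    rw [hN, LinearMap.baseChange_pow]
    exact ker_sup_range_pow_eq_top _ (hn q)
  have h1 := ker_sup_range_eq_top N hproj hfib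
  have h2 := ker_inf_range_eq_bot N h1
  have hengel : (LieSubalgebra.engel R x).toSubmodule = LinearMap.ker N := by
    ext y
    change y ∈ LieSubalgebra.engel R x ↔ _
    rw [LieSubalgebra.mem_engel_iff]
    constructor
    · rintro ⟨k, hk⟩
      apply ker_pow_le_ker N h2 k
      rw [LinearMap.mem_ker, hN, ← pow_mul]
      have hle : k ≤ (n + 1) * (k + 1) := by nlinarith
      rw [← Nat.sub_add_cancel hle, pow_add, Module.End.mul_apply]
      change (φ ^ ((n + 1) * (k + 1) - k)) (((ad R M x) ^ k) y) = 0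
      rw [hk, map_zero]
    · intro hy
      exact ⟨n + 1, hy⟩
  have hproj' : Module.Projective R (M ⧸ (LieSubalgebra.engel R x).toSubmodule) := by
    rw [hengel]
    exact projective_quot_ker N hproj
  apply Groth.Agent.S8372.isCartanRel_engel x hx hproj'
  intro y
  have hy : y ∈ LinearMap.ker N ⊔ LinearMap.range N := by rw [h1]; exact Submodule.mem_top
  obtain ⟨k, hk, _, ⟨w, rfl⟩, rfl⟩ := Submodule.mem_sup.mp hy
  refine ⟨(φ ^ n) w, ?_⟩
  have e1 : ⁅x, (φ ^ n) w⁆ = N w := by
    rw [hN, pow_succ', Module.End.mul_apply]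
    rfl
  rw [e1]
  have e2 : N w - (k + N w) = -k := by abel
  rw [e2]
  apply neg_mem
  change k ∈ (LieSubalgebra.engel R x).toSubmodule
  rw [hengel]
  exact hk

end cartan

section universal
open LieAlgebra
variable {A : Type u} [CommRing A] {L : Type u} [LieRing L] [LieAlgebra A L] [Module.Finite A L]

lemma finitePresentation_coker {S : Type u} [CommRing S] {M : Type u} [AddCommGroup M] [Module S M]
    [Module.Finite S M] [Module.Projective S M] (ψ : M →ₗ[S] M) :
    Module.FinitePresentation S (M ⧸ LinearMap.range ψ) := by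
  haveI : Module.FinitePresentation S M := Module.finitePresentation_of_projective _ _
  exact Module.finitePresentation_of_surjective _ (Submodule.mkQ_surjective _)
      (by rw [Submodule.ker_mkQ, LinearMap.range_eq_map]
          exact Submodule.FG.map _ Module.Finite.fg_top)

theorem main [Module.Projective A L] [IsReduced A]
    (hC0 : ∀ p : PrimeSpectrum A, ∃ f : A, f ∉ p.asIdeal ∧ ∀ q : PrimeSpectrum A, f ∉ q.asIdeal →
        LieAlgebra.rank q.asIdeal.ResidueField (q.asIdeal.ResidueField ⊗[A] L) =
          LieAlgebra.rank p.asIdeal.ResidueField (p.asIdeal.ResidueField ⊗[A] L))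
    (A' : Type u) [CommRing A'] [Algebra A A'] (a' : A' ⊗[A] L)
    (ha' : SGA3t2b.IsQuasiRegular A' (A' ⊗[A] L) a') :
    SGA3t2b.IsRegularRel A' (A' ⊗[A] L) a' := by
  classical
  obtain ⟨n, s₀, hs₀⟩ := Module.Finite.exists_fin (R := A) (M := L)
  -- a spanning family of positive length
  let s : Fin (n + 1) → L := Fin.cons 0 s₀
  have hs : Submodule.span A (Set.range s) = ⊤ := by
    rw [eq_top_iff, ← hs₀]
    apply Submodule.span_mono
    rintro _ ⟨i, rfl⟩
    exact ⟨i.succ, by simp [s]⟩
  -- coordinates of a'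
  have hspan' := span_one_tmul_eq_top A' s hs
  have ha'mem : a' ∈ Submodule.span A' (Set.range fun i => (1 : A') ⊗ₜ[A] s i) := by
    rw [hspan']; exact Submodule.mem_top
  obtain ⟨c, hc⟩ := (Submodule.mem_span_range_iff_exists_fun A').mp ha'mem
  have hc' : a' = ∑ i, (c i) ⊗ₜ[A] s i := by
    rw [← hc]
    refine Finset.sum_congr rfl fun i _ => ?_
    rw [TensorProduct.smul_tmul', smul_eq_mul, mul_one]
  -- the universal ring
  let S := MvPolynomial (Fin (n + 1)) A
  let ψ : S →ₐ[A] A' := MvPolynomial.aeval c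
  letI : Algebra S A' := ψ.toRingHom.toAlgebra
  haveI : IsScalarTower A S A' := IsScalarTower.of_algebraMap_eq fun r => (ψ.commutes r).symm
  let xu : S ⊗[A] L := ∑ i, (MvPolynomial.X i : S) ⊗ₜ[A] s i
  let ε := TensorProduct.AlgebraTensorModule.cancelBaseChange A S A' A' L
  have hε : ∀ t₁ t₂, ε ⁅t₁, t₂⁆ = ⁅ε t₁, ε t₂⁆ := Groth.Agent.S8378.cancelBaseChange_lie A S A' L
  have hεx : ε ((1 : A') ⊗ₜ[S] xu) = a' := by
    rw [hc', TensorProduct.tmul_sum, map_sum]
    refine Finset.sum_congr rfl fun i _ => ?_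
    rw [TensorProduct.AlgebraTensorModule.cancelBaseChange_tmul, Algebra.smul_def, mul_one]
    congr 1
    change ψ (MvPolynomial.X i) = c i
    exact MvPolynomial.aeval_X c i
  -- the regular locus over S is contained in the free locus
  have hlocS := isLocallyConstant_rank_baseChange (L := L) S (isLocallyConstant_of_hC0 hC0)
  have hU := regular_locus_subset_freeLocus hlocS xu (fun i => (1 : S) ⊗ₜ[A] s i)
    (span_one_tmul_eq_top S s hs)
  -- Spec A' lands in the regular locus
  have hmem : ∀ q' : PrimeSpectrum A', PrimeSpectrum.comap (algebraMap S A') q' ∈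
      Module.freeLocus S ((S ⊗[A] L) ⧸ LinearMap.range ((ad S (S ⊗[A] L) xu) ^ (n + 1))) := by
    intro q'
    apply hU
    change IsRegular _ _
    rw [← Groth.Agent.S8378.isRegular_fibre_comap A' (S ⊗[A] L) q' xu,
      ← isRegular_fibre_equiv ε hε q', hεx]
    exact ha' q'
  haveI := finitePresentation_coker ((ad S (S ⊗[A] L) xu) ^ (n + 1))
  have hfree : Module.freeLocus A'
      (A' ⊗[S] ((S ⊗[A] L) ⧸ LinearMap.range ((ad S (S ⊗[A] L) xu) ^ (n + 1)))) = Set.univ := by
    rw [Set.eq_univ_iff_forall]
    intro q'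
    exact Module.comap_freeLocus_le (hmem q')
  have hproj1 := Module.freeLocus_eq_univ_iff.mp hfree
  have hproj2 := projective_coker_of_baseChange A' ((ad S (S ⊗[A] L) xu) ^ (n + 1)) hproj1
  rw [← ad_pow_baseChange] at hproj2
  have hproj3 := projective_coker_equiv ε hε ((1 : A') ⊗ₜ[S] xu) (n + 1) hproj2
  rw [hεx] at hproj3
  have hcartan := isCartanRel_engel_of_projective_coker a' ha' n
    (fun q' => finrank_fibre_le_of_span _ hspan' q') hproj3
  exact ⟨ha', LieSubalgebra.engel A' a', hcartan, LieSubalgebra.self_mem_engel A' a'⟩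

end universal

end Groth.Agent.S8379

namespace Groth.Agent.S8379

/-- Over an affine base Spec A with A reduced: let L be a Lie algebra over A which is a finitely
generated projective A-module whose fibres κ(p) ⊗ L have locally constant nilpotent rank on Spec A.
Then for every A-algebra A', every quasi-regular element of A' ⊗ L (regular in every fibre) is
regular: it lies in a Cartan subalgebra of A' ⊗ L relative to A' (over a reduced base, condition
(C₀) implies condition (C₂)). -/
theorem result {A : Type u} [CommRing A] {L : Type u} [LieRing L]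
    [LieAlgebra A L] [Module.Finite A L] [Module.Projective A L] [IsReduced A]
    (hC0 : ∀ p : PrimeSpectrum A, ∃ f : A, f ∉ p.asIdeal ∧ ∀ q : PrimeSpectrum A, f ∉ q.asIdeal →
        LieAlgebra.rank q.asIdeal.ResidueField (q.asIdeal.ResidueField ⊗[A] L) =
          LieAlgebra.rank p.asIdeal.ResidueField (p.asIdeal.ResidueField ⊗[A] L))
    (A' : Type u) [CommRing A'] [Algebra A A'] (a' : A' ⊗[A] L)
    (ha' : SGA3t2b.IsQuasiRegular A' (A' ⊗[A] L) a') :
    SGA3t2b.IsRegularRel A' (A' ⊗[A] L) a' := by
  exact main hC0 A' a' ha'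

end Groth.Agent.S8379
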