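import Groth.Statements.S8383
import Mathlib.LinearAlgebra.LinearIndependent.Lemmas
import Mathlib.LinearAlgebra.Basis.VectorSpace
import Mathlib.LinearAlgebra.FiniteDimensional.Lemmas
-- import your own Groth.Agent.* helpers here

set_option autoImplicit false
universe u
open scoped TensorProduct
open SGA3t2b

namespace Groth.Agent.S8383


section General

variable {k K V : Type*} [Field k] [Field K] [Algebra k K] [AddCommGroup V] [Module k V]

noncomputable def extK (ℓ : V →ₗ[k] k) : (K ⊗[k] V) →ₗ[K] K :=
  (TensorProduct.AlgebraTensorModule.rid k K K).toLinearMap ∘ₗ (ℓ.baseChange K)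

theorem extK_tmul (ℓ : V →ₗ[k] k) (c : K) (v : V) :
    extK (K := K) ℓ (c ⊗ₜ[k] v) = ℓ v • c := by
  simp [extK]

theorem exists_transversal {W ι : Type*} [AddCommGroup W] [Module K W] [Fintype ι]
    (θ : ι → W) (hθ : LinearIndependent K θ) (T : ι → Set W)
    (hT : ∀ i, θ i ∈ Submodule.span K (T i)) :
    ∃ t : ι → W, (∀ i, t i ∈ T i) ∧ LinearIndependent K t := by
  classical
  have key : ∀ S : Finset ι, ∃ t : ι → W, (∀ i ∈ S, t i ∈ T i) ∧ (∀ i, i ∉ S → t i = θ i) ∧
      LinearIndependent K t := by
    intro S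
    induction S using Finset.induction_on with
    | empty => exact ⟨θ, by simp, by simp, hθ⟩
    | insert j S hj ih =>
      obtain ⟨t, ht1, ht2, ht3⟩ := ih
      have htj : t j = θ j := ht2 j hj
      have hnot : t j ∉ Submodule.span K (t '' {i | i ≠ j}) :=
        ht3.notMem_span_image (by simp)
      have hex : ∃ w ∈ T j, w ∉ Submodule.span K (t '' {i | i ≠ j}) := by
        by_contra hcon
        push_neg at hcon
        have hle : Submodule.span K (T j) ≤ Submodule.span K (t '' {i | i ≠ j}) :=
          Submodule.span_le.mpr hcon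
        exact hnot (htj ▸ hle (hT j))
      obtain ⟨w, hwT, hw⟩ := hex
      refine ⟨Function.update t j w, ?_, ?_, ?_⟩
      · intro i hi
        rcases Finset.mem_insert.mp hi with rfl | hi
        · simpa using hwT
        · have hij : i ≠ j := fun h => hj (h ▸ hi)
          rw [Function.update_of_ne hij]; exact ht1 i hi
      · intro i hi
        have hij : i ≠ j := fun h => hi (h ▸ Finset.mem_insert_self _ _)
        rw [Function.update_of_ne hij]
        exact ht2 i (fun h => hi (Finset.mem_insert_of_mem h))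
      · have hEq : Set.EqOn t (Function.update t j w) {i | i ≠ j} := by
          intro i hi
          exact (Function.update_of_ne hi _ _).symm
        have h1 : LinearIndepOn K (Function.update t j w) {i | i ≠ j} :=
          (ht3.linearIndepOn _).congr hEq
        have h2 : (Function.update t j w) j ∉
            Submodule.span K ((Function.update t j w) '' {i | i ≠ j}) := by
          rw [Function.update_self, ← hEq.image_eq]
          exact hw
        have h3 := h1.insert h2
        have h4 : insert j {i | i ≠ j} = (Set.univ : Set ι) := by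
          ext i
          by_cases h : i = j <;> simp [h]
        rw [h4, linearIndepOn_univ_iff] at h3
        exact h3
  obtain ⟨t, ht1, _, ht3⟩ := key Finset.univ
  exact ⟨t, fun i => ht1 i (Finset.mem_univ i), ht3⟩

theorem exists_apply_ne_zero {ι : Type*} [Fintype ι] (ℓ : ι → (V →ₗ[k] k))
    (h : LinearIndependent K (fun i => extK (K := K) (ℓ i))) : ∃ x : V, ∀ i, ℓ i x ≠ 0 := by
  classical
  let L : V →ₗ[k] (ι → k) := LinearMap.pi ℓ
  have hsurj : Function.Surjective L := by
    by_contra hns
    rw [← LinearMap.range_eq_top, ← Ne, ← lt_top_iff_ne_top] at hns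
    obtain ⟨φ, φ0, hφ⟩ := (LinearMap.range L).exists_le_ker_of_lt_top hns
    have h1 : ∀ x, ∑ i, ℓ i x * φ (Pi.single i 1) = 0 := by
      intro x
      have hx : L x ∈ LinearMap.ker φ := hφ ⟨x, rfl⟩
      rw [LinearMap.mem_ker, LinearMap.pi_apply_eq_sum_univ φ (L x)] at hx
      rw [← hx]
      refine Finset.sum_congr rfl fun i _ => ?_
      have : (fun j => if i = j then (1 : k) else 0) = Pi.single i 1 := by
        ext j
        by_cases hij : i = j
        · subst hij; simp
        · simp [hij, Ne.symm hij]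
      rw [this]
      simp [L, smul_eq_mul]
    have h2 : ∑ i, (algebraMap k K (φ (Pi.single i 1))) • extK (K := K) (ℓ i) = 0 := by
      apply TensorProduct.AlgebraTensorModule.ext
      intro c v
      simp only [LinearMap.sum_apply, LinearMap.smul_apply, extK_tmul,
        LinearMap.zero_apply]
      have e : ∀ i, algebraMap k K (φ (Pi.single i 1)) • (ℓ i v • c) =
          (ℓ i v * φ (Pi.single i 1)) • c := by
        intro i
        rw [mul_smul, algebraMap_smul, smul_comm]
      simp_rw [e]
      rw [← Finset.sum_smul, h1 v, zero_smul]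
    have h3 := (Fintype.linearIndependent_iff.mp h) _ h2
    apply φ0
    apply LinearMap.pi_ext
    intro i x
    have h4 : φ (Pi.single i 1) = 0 := by
      have := h3 i
      exact (map_eq_zero_iff _ (algebraMap k K).injective).mp this
    have : (Pi.single i x : ι → k) = x • Pi.single i 1 := by
      ext j
      by_cases hij : j = i
      · subst hij; simp
      · simp [hij]
    rw [this, map_smul, h4, smul_zero, LinearMap.zero_apply]
  obtain ⟨x, hx⟩ := hsurj (fun _ => 1)
  refine ⟨x, fun i => ?_⟩
  have := congrFun hx i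
  simp only [L, LinearMap.pi_apply] at this
  rw [this]
  exact one_ne_zero

theorem mem_span_ext [Module.Finite k V] (g : (K ⊗[k] V) →ₗ[K] K) :
    g ∈ Submodule.span K
      {f | ∃ ℓ : V →ₗ[k] k, (∀ x, g ((1 : K) ⊗ₜ[k] x) = 0 → ℓ x = 0) ∧ f = extK (K := K) ℓ} := by
  classical
  let ψ : V →ₗ[k] K :=
    { toFun := fun x => g ((1 : K) ⊗ₜ[k] x)
      map_add' := fun x y => by rw [TensorProduct.tmul_add, map_add]
      map_smul' := fun a x => by
        rw [TensorProduct.tmul_smul, RingHom.id_apply]
        rw [← algebraMap_smul K a ((1 : K) ⊗ₜ[k] x), map_smul, algebraMap_smul] }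
  have hψ : ∀ x, ψ x = g ((1 : K) ⊗ₜ[k] x) := fun x => rfl
  let C := LinearMap.range ψ
  let bC := Module.finBasis k C
  let lam : Fin (Module.finrank k C) → (V →ₗ[k] k) := fun α => (bC.coord α) ∘ₗ ψ.rangeRestrict
  have hlam : ∀ x, ψ x = ∑ α, lam α x • (bC α : K) := by
    intro x
    have h1 := bC.sum_repr (ψ.rangeRestrict x)
    have h2 := congrArg (Subtype.val) h1
    simp only [Submodule.coe_sum, Submodule.coe_smul] at h2
    rw [LinearMap.codRestrict_apply] at h2
    rw [← h2]
    rfl
  have hg : g = ∑ α, (bC α : K) • extK (K := K) (lam α) := by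
    apply TensorProduct.AlgebraTensorModule.ext
    intro c v
    simp only [LinearMap.sum_apply, LinearMap.smul_apply, extK_tmul]
    have e1 : c ⊗ₜ[k] v = c • ((1 : K) ⊗ₜ[k] v) := by
      rw [TensorProduct.smul_tmul', smul_eq_mul, mul_one]
    rw [e1, map_smul, ← hψ, hlam v, Finset.smul_sum]
    refine Finset.sum_congr rfl fun α _ => ?_
    simp only [smul_eq_mul, Algebra.smul_def]
    ring
  suffices hsuff : (∑ α, (bC α : K) • extK (K := K) (lam α)) ∈ Submodule.span K
      {f | ∃ ℓ : V →ₗ[k] k, (∀ x, g ((1 : K) ⊗ₜ[k] x) = 0 → ℓ x = 0) ∧ f = extK (K := K) ℓ} by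
    rw [← hg] at hsuff
    exact hsuff
  refine Submodule.sum_mem _ fun α _ => Submodule.smul_mem _ _ (Submodule.subset_span ?_)
  refine ⟨lam α, ?_, rfl⟩
  intro x hx
  have : ψ.rangeRestrict x = 0 := by
    apply Subtype.ext
    rw [LinearMap.codRestrict_apply]
    exact hx
  simp [lam, this]

theorem main [Module.Finite k V] {ι : Type*} [Fintype ι]
    (θ : ι → ((K ⊗[k] V) →ₗ[K] K)) (hθ : LinearIndependent K θ) :
    ∃ x : V, ∀ i : ι, θ i ((1 : K) ⊗ₜ[k] x) ≠ 0 := by
  obtain ⟨t, ht1, ht2⟩ := exists_transversal θ hθ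
    (fun i => {f | ∃ ℓ : V →ₗ[k] k, (∀ x, θ i ((1 : K) ⊗ₜ[k] x) = 0 → ℓ x = 0) ∧
      f = extK (K := K) ℓ}) (fun i => mem_span_ext (θ i))
  choose ℓ hℓ1 hℓ2 using ht1
  have ht : t = fun i => extK (K := K) (ℓ i) := funext hℓ2
  rw [ht] at ht2
  obtain ⟨x, hx⟩ := exists_apply_ne_zero ℓ ht2
  exact ⟨x, fun i h0 => hx i (hℓ1 i x h0)⟩

end General

/-- Let k be a finite field with algebraic closure K, V a finite-dimensional vector space over k, and
θ₁, …, θₙ a basis of the dual of the K-vector space K ⊗ V. Then there is x ∈ V with θᵢ(1 ⊗ x) ≠ 0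
for every i. -/
theorem result (k : Type u) [Field k] [Finite k]
    (V : Type u) [AddCommGroup V] [Module k V] [Module.Finite k V] {ι : Type} [Fintype ι]
    (θ : Module.Basis ι (AlgebraicClosure k) (Module.Dual (AlgebraicClosure k) (AlgebraicClosure k ⊗[k] V))) :
    ∃ x : V, ∀ i : ι, θ i ((1 : AlgebraicClosure k) ⊗ₜ[k] x) ≠ 0 := by
  exact main (fun i => θ i) θ.linearIndependent

end Groth.Agent.S8383
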