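import Groth.Statements.S8384
import Groth.Agent.Lib.Helper62.SpecLocalLim

set_option autoImplicit false
universe u
open CategoryTheory MonoidalCategory CartesianMonoidalCategory MonObj GrpObj AlgebraicGeometry
open SGA3x

namespace Groth.Agent.S8384

/-- Let A be a local ring, separated and complete for the topology defined by its maximal ideal m, S =
Spec A and Sₙ = Spec(A/mⁿ). Then for every scheme X the canonical map Hom(S, X) → lim Hom(Sₙ, X) is
bijective: two morphisms S → X that agree on every Sₙ are equal, and every family of morphisms Sₙ →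
X compatible with the closed immersions Sₙ → Sₙ₊₁ is induced by a morphism S → X. -/
theorem result (A : Type u) [CommRing A] [IsLocalRing A]
    [IsAdicComplete (IsLocalRing.maximalIdeal A) A] (X : Scheme.{u}) :
    (∀ f g : (Spec (CommRingCat.of A)) ⟶ X,
      (∀ n : ℕ, (Spec.map (CommRingCat.ofHom (Ideal.Quotient.mk ((IsLocalRing.maximalIdeal A) ^ n)))) ≫ f = (Spec.map (CommRingCat.ofHom (Ideal.Quotient.mk ((IsLocalRing.maximalIdeal A) ^ n)))) ≫ g) → f = g) ∧
    (∀ u : (n : ℕ) → (Spec (CommRingCat.of (A ⧸ (IsLocalRing.maximalIdeal A) ^ n)) ⟶ X),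
      (∀ n : ℕ, (Spec.map (CommRingCat.ofHom (Ideal.Quotient.factor
          (Ideal.pow_le_pow_right (I := (IsLocalRing.maximalIdeal A)) (Nat.le_succ n))))) ≫ u (n + 1) = u n) →
      ∃ f : (Spec (CommRingCat.of A)) ⟶ X, ∀ n : ℕ, (Spec.map (CommRingCat.ofHom (Ideal.Quotient.mk ((IsLocalRing.maximalIdeal A) ^ n)))) ≫ f = u n) := by
  classical
  set 𝔪 := IsLocalRing.maximalIdeal A with h𝔪
  have hnt : Nontrivial (A ⧸ 𝔪 ^ 1) := by
    rw [pow_one]
    exact Ideal.Quotient.nontrivial_iff.mpr (IsLocalRing.maximalIdeal.isMaximal A).ne_top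
  obtain ⟨y₁⟩ : Nonempty (Spec (CommRingCat.of (A ⧸ 𝔪 ^ 1))) :=
    inferInstanceAs (Nonempty (PrimeSpectrum (A ⧸ 𝔪 ^ 1)))
  have hy₁ := Groth.Agent.Lib.Helper62.SpecMap_mk_pow_apply A 1 y₁
  refine ⟨?_, ?_⟩
  · intro f g h
    obtain ⟨_, ⟨U, hU : IsAffineOpen U, rfl⟩, hxU, -⟩ :=
      X.isBasis_affineOpens.exists_subset_of_mem_open
        (Set.mem_univ (f (IsLocalRing.closedPoint A))) isOpen_univ
    have hgU : g (IsLocalRing.closedPoint A) ∈ U := by
      have h1 := congrArg (fun t : Spec (CommRingCat.of (A ⧸ 𝔪 ^ 1)) ⟶ X => t y₁) (h 1)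
      simp only [Scheme.Hom.comp_apply] at h1
      rw [hy₁] at h1
      rw [← h1]
      exact hxU
    obtain ⟨φf, hφf⟩ := Groth.Agent.Lib.Helper62.exists_SpecMap_fromSpec hU f
      (Groth.Agent.Lib.Helper62.range_subset_of_closedPoint_mem f U hxU)
    obtain ⟨φg, hφg⟩ := Groth.Agent.Lib.Helper62.exists_SpecMap_fromSpec hU g
      (Groth.Agent.Lib.Helper62.range_subset_of_closedPoint_mem g U hgU)
    have hn : ∀ n : ℕ, φf ≫ CommRingCat.ofHom (Ideal.Quotient.mk (𝔪 ^ n)) =
        φg ≫ CommRingCat.ofHom (Ideal.Quotient.mk (𝔪 ^ n)) := by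
      intro n
      apply Groth.Agent.Lib.Helper62.SpecMap_fromSpec_injective hU
      rw [Spec.map_comp, Spec.map_comp, Category.assoc, Category.assoc, hφf, hφg]
      exact h n
    have hcompat : ∀ {m n : ℕ} (hle : m ≤ n), (Ideal.Quotient.factorPow 𝔪 hle).comp
        ((Ideal.Quotient.mk (𝔪 ^ n)).comp φf.hom) = (Ideal.Quotient.mk (𝔪 ^ m)).comp φf.hom := by
      intro m n hle
      ext b
      simp
    have e1 := IsAdicComplete.eq_liftRingHom 𝔪
      (fun n => (Ideal.Quotient.mk (𝔪 ^ n)).comp φf.hom) hcompat φf.hom (fun n => rfl)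
    have e2 := IsAdicComplete.eq_liftRingHom 𝔪
      (fun n => (Ideal.Quotient.mk (𝔪 ^ n)).comp φf.hom) hcompat φg.hom (fun n => by
        have := congrArg CommRingCat.Hom.hom (hn n)
        simpa using this.symm)
    have : φf = φg := by
      ext b
      rw [e1, e2]
    rw [← hφf, ← hφg, this]
  · intro u hu
    -- general compatibility
    have hu' : ∀ (m n : ℕ) (hle : m ≤ n), Spec.map (CommRingCat.ofHom
        (Ideal.Quotient.factorPow 𝔪 hle)) ≫ u n = u m := by
      intro m n hle
      induction n, hle using Nat.le_induction with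
      | base =>
        have : Ideal.Quotient.factorPow 𝔪 (le_refl m) = RingHom.id _ := by
          ext b; simp
        rw [this]
        simp
      | succ n hmn ih =>
        rw [← ih, ← hu n, ← Category.assoc, ← Spec.map_comp, ← CommRingCat.ofHom_comp]
        congr 3
        ext b
        simp
    obtain ⟨_, ⟨U, hU : IsAffineOpen U, rfl⟩, hxU, -⟩ :=
      X.isBasis_affineOpens.exists_subset_of_mem_open
        (Set.mem_univ (u 1 y₁)) isOpen_univ
    -- all `u n` land in `U`
    have hrange : ∀ n, Set.range (u n) ⊆ (U : Set X) := by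
      intro n
      rintro _ ⟨y, rfl⟩
      rcases Nat.eq_zero_or_pos n with rfl | hn
      · exfalso
        have : Subsingleton (A ⧸ 𝔪 ^ 0) := by
          rw [pow_zero, Ideal.one_eq_top]
          exact Ideal.Quotient.subsingleton_iff.mpr rfl
        have hE : IsEmpty (PrimeSpectrum (A ⧸ 𝔪 ^ 0)) := inferInstance
        exact hE.false y
      · have hy : y = Spec.map (CommRingCat.ofHom (Ideal.Quotient.factorPow 𝔪 hn)) y₁ := by
          have hinj : Function.Injective
              (Spec.map (CommRingCat.ofHom (Ideal.Quotient.mk (𝔪 ^ n)))) :=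
            PrimeSpectrum.comap_injective_of_surjective _ Ideal.Quotient.mk_surjective
          apply hinj
          rw [Groth.Agent.Lib.Helper62.SpecMap_mk_pow_apply A n y, ← hy₁,
            ← Scheme.Hom.comp_apply, ← Spec.map_comp, ← CommRingCat.ofHom_comp]
          congr 4
        rw [hy, ← Scheme.Hom.comp_apply, hu' 1 n hn]
        exact hxU
    choose ψ hψ using fun n => Groth.Agent.Lib.Helper62.exists_SpecMap_fromSpec hU (u n) (hrange n)
    have hψc : ∀ {m n : ℕ} (hle : m ≤ n), (Ideal.Quotient.factorPow 𝔪 hle).comp (ψ n).hom =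
        (ψ m).hom := by
      intro m n hle
      have : ψ n ≫ CommRingCat.ofHom (Ideal.Quotient.factorPow 𝔪 hle) = ψ m := by
        apply Groth.Agent.Lib.Helper62.SpecMap_fromSpec_injective hU
        rw [Spec.map_comp, Category.assoc, hψ, hψ, hu' m n hle]
      exact congrArg CommRingCat.Hom.hom this
    let Ψ : Γ(X, U) ⟶ CommRingCat.of A :=
      CommRingCat.ofHom (IsAdicComplete.liftRingHom 𝔪 (fun n => (ψ n).hom) hψc)
    refine ⟨Spec.map Ψ ≫ hU.fromSpec, fun n => ?_⟩
    rw [← Category.assoc, ← Spec.map_comp, ← hψ n]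
    congr 2
    ext b
    exact IsAdicComplete.mk_liftRingHom 𝔪 (fun n => (ψ n).hom) hψc n b

end Groth.Agent.S8384
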