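import Groth.Statements.S8441
import Mathlib.LinearAlgebra.Dimension.OrzechProperty
import Mathlib.LinearAlgebra.Dimension.Constructions
-- import your own Groth.Agent.* helpers here

set_option autoImplicit false
universe u v w
open SGA3t2b

namespace Groth.Agent.S8441


open Submodule in
theorem foldl_sub_mem {ι : Type u} {M : Type v} {N : Type w} [AddCommGroup M] [Module ℤ M]
    [AddCommGroup N] [Module ℤ N] (P : RootPairing ι ℤ M N) {n : ℕ} (f : Fin n → ι)
    (L : List (Fin n)) (x : M) :
    L.foldl (fun x j => P.reflection (f j) x) x - x ∈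
      span ℤ ((fun j => P.root (f j)) '' {j | j ∈ L}) := by
  induction L generalizing x with
  | nil => simp
  | cons j L ih =>
    rw [List.foldl_cons]
    have h1 := ih (P.reflection (f j) x)
    have hsub : span ℤ ((fun j => P.root (f j)) '' {k | k ∈ L}) ≤
        span ℤ ((fun j => P.root (f j)) '' {k | k ∈ j :: L}) := by
      apply span_mono
      apply Set.image_mono
      intro k hk
      exact List.mem_cons_of_mem _ hk
    have h2 : P.reflection (f j) x - x ∈ span ℤ ((fun j => P.root (f j)) '' {k | k ∈ j :: L}) := by
      rw [P.reflection_apply, sub_sub_cancel_left]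
      apply neg_mem
      apply smul_mem
      apply subset_span
      exact ⟨j, List.mem_cons_self, rfl⟩
    have e : List.foldl (fun x j => P.reflection (f j) x) (P.reflection (f j) x) L - x =
        (List.foldl (fun x j => P.reflection (f j) x) (P.reflection (f j) x) L -
          P.reflection (f j) x) + (P.reflection (f j) x - x) := by abel
    rw [e]
    exact add_mem (hsub h1) h2

open Submodule in
theorem span_eq_of_unitriangular {M : Type v} [AddCommGroup M] [Module ℤ M] {n : ℕ}
    (a θ : Fin n → M) (h : ∀ i, θ i - a i ∈ span ℤ (a '' {j | i < j})) :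
    span ℤ (Set.range θ) = span ℤ (Set.range a) := by
  apply le_antisymm
  · rw [span_le]
    rintro _ ⟨i, rfl⟩
    have h1 : θ i - a i ∈ span ℤ (Set.range a) :=
      span_mono (Set.image_subset_range _ _) (h i)
    have h2 : a i ∈ span ℤ (Set.range a) := subset_span ⟨i, rfl⟩
    have e : θ i = (θ i - a i) + a i := by abel
    rw [e]
    exact add_mem h1 h2
  · rw [span_le]
    rintro _ ⟨i, rfl⟩
    induction i using WellFoundedGT.induction with
    | ind i ih =>
      have h1 : span ℤ (a '' {j | i < j}) ≤ span ℤ (Set.range θ) := by
        rw [span_le]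
        rintro _ ⟨j, hj, rfl⟩
        exact ih j hj
      have h2 : θ i ∈ span ℤ (Set.range θ) := subset_span ⟨i, rfl⟩
      have e : a i = θ i - (θ i - a i) := by abel
      rw [e]
      exact sub_mem h2 (h1 (h i))

/-- Let R be a root system with a system of simple roots a₁, …, aₙ and simple reflections rᵢ, and put θᵢ
= rₙ ⋯ rᵢ₊₁(aᵢ). Then the θᵢ form a basis of the group generated by the roots. Stated for a root
pairing over ℤ (Mathlib) with a base whose support is enumerated by Fin n: the θᵢ are ℤ-linearly
independent and their ℤ-span is the ℤ-span of all roots. -/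
theorem result {ι : Type u} {M : Type v} {N : Type w} [AddCommGroup M] [Module ℤ M]
    [AddCommGroup N] [Module ℤ N] (P : RootPairing ι ℤ M N) (b : P.Base) (n : ℕ) (e : Fin n ≃ ↥b.support) :
    LinearIndependent ℤ (fun i : Fin n =>
      ((List.finRange n).filter (fun j => i < j)).foldl (fun x j => P.reflection (e j : ι) x) (P.root (e i : ι))) ∧
    Submodule.span ℤ (Set.range (fun i : Fin n =>
      ((List.finRange n).filter (fun j => i < j)).foldl (fun x j => P.reflection (e j : ι) x) (P.root (e i : ι)))) =
      Submodule.span ℤ (Set.range P.root) := by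
  classical
  have hθ : ∀ i : Fin n,
      ((List.finRange n).filter (fun j => i < j)).foldl (fun x j => P.reflection (e j : ι) x)
        (P.root (e i : ι)) - P.root (e i : ι) ∈
      Submodule.span ℤ ((fun j : Fin n => P.root (e j : ι)) '' {j | i < j}) := by
    intro i
    have := foldl_sub_mem P (fun j : Fin n => (e j : ι))
      ((List.finRange n).filter (fun j => i < j)) (P.root (e i : ι))
    refine Submodule.span_mono (Set.image_mono ?_) this
    intro j hj
    simpa using (List.mem_filter.mp hj).2
  have hspan := span_eq_of_unitriangular (fun j : Fin n => P.root (e j : ι)) _ hθ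
  have ha : LinearIndependent ℤ (fun j : Fin n => P.root (e j : ι)) := by
    have h0 : LinearIndependent ℤ (fun x : ↥b.support => P.root (x : ι)) := b.linearIndepOn_root
    exact h0.comp e e.injective
  have hrange : Set.range (fun j : Fin n => P.root (e j : ι)) = P.root '' (b.support : Set ι) := by
    ext x
    constructor
    · rintro ⟨j, rfl⟩
      exact ⟨(e j : ι), (e j).2, rfl⟩
    · rintro ⟨k, hk, rfl⟩
      exact ⟨e.symm ⟨k, hk⟩, by simp⟩
  refine ⟨?_, ?_⟩
  · rw [linearIndependent_iff_card_eq_finrank_span, Set.finrank, hspan, ← Set.finrank]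
    exact linearIndependent_iff_card_eq_finrank_span.mp ha
  · rw [hspan, hrange]
    refine le_antisymm (Submodule.span_mono (Set.image_subset_range _ _)) ?_
    rw [Submodule.span_le]
    rintro _ ⟨i, rfl⟩
    have hcl : AddSubmonoid.closure (P.root '' (b.support : Set ι)) ≤
        (Submodule.span ℤ (P.root '' (b.support : Set ι))).toAddSubmonoid :=
      AddSubmonoid.closure_le.mpr Submodule.subset_span
    rcases b.root_mem_or_neg_mem i with hi | hi
    · exact hcl hi
    · have := hcl hi
      exact (neg_mem_iff (S := Submodule ℤ M)).mp this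

end Groth.Agent.S8441
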