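import Groth.Statements.S8473
import Groth.Agent.Lib.Helper15.GaPts
import Groth.Agent.Lib.Helper19.Torus.Connected
import Groth.Agent.Lib.Helper19.Torus.EtaleNormal

set_option autoImplicit false
universe u
open CategoryTheory MonoidalCategory CartesianMonoidalCategory MonObj GrpObj AlgebraicGeometry CategoryTheory.Limits
open Red

namespace Groth.Agent.S8473

/-- Let k be an algebraically closed field, T a k-torus, α : T ⟶ 𝔾_m a non-trivial character and P the
semi-direct product T ⋉_α 𝔾_a, given as a k-group P with homomorphisms j_T : T ⟶ P and j_U : 𝔾_a ⟶ P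
such that (t, x) ↦ j_T(t) j_U(x) is an isomorphism of schemes T × 𝔾_a ≅ P and j_T(t) j_U(x) j_T(t)⁻¹
= j_U(α(t) x). Let n : N ⟶ P be a normal subgroup scheme which is étale over k and such that N ∩ T
is trivial (a point of N whose image is in j_T(T) is the unit). Then N is the trivial group. -/
theorem result (K : Type u) [Field K] [IsAlgClosed K]
    (T P N : Over (Spec (CommRingCat.of K))) [GrpObj T] [GrpObj P] [GrpObj N] (hT : Red.IsTorus T)
    (α : T ⟶ Red.Gm (Spec (CommRingCat.of K))) [IsMonHom α] (hα : α ≠ 1)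
    (jT : T ⟶ P) [IsMonHom jT] (jU : Red.Ga (Spec (CommRingCat.of K)) ⟶ P) [IsMonHom jU] (hiso : IsIso ((jT ⊗ₘ jU) ≫ μ[P]))
    (hconj : ∀ (X : Over (Spec (CommRingCat.of K))) (t : X ⟶ T) (x x' : X ⟶ Red.Ga (Spec (CommRingCat.of K))), Red.gaFn x' = Red.gmFn (t ≫ α) * Red.gaFn x →
      (t ≫ jT) * (x ≫ jU) * (t ≫ jT)⁻¹ = x' ≫ jU)
    (n : N ⟶ P) [IsMonHom n] [Mono n] (hn : AlgGrp.IsNormalHom n) (het : Etale N.hom)
    (hNT : ∀ (X : Over (Spec (CommRingCat.of K))) (t : X ⟶ T) (m : X ⟶ N), t ≫ jT = m ≫ n → m = 1) :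
    Red.IsTrivialGrp N := by
  have := hiso
  have := het
  have : Smooth N.hom := inferInstance
  have : IsSepClosed K := inferInstance
  apply Groth.Agent.Lib.Helper19.EtaleNormal.isTrivialGrp_of_forall_pt_eq_one
  intro x
  obtain ⟨t₀, u₀, hy⟩ := Groth.Agent.Lib.Helper19.EtaleNormal.exists_decomp jT jU (x ≫ n)
  obtain ⟨m', hm'⟩ := hn T jT (toUnit T ≫ x)
  -- rigidity
  have h0 : η[T] ≫ m' = η[T] ≫ toUnit T ≫ x := by
    rw [← cancel_mono n, Category.assoc, ← hm', comp_mul, comp_mul, GrpObj.comp_inv]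
    have h1 : (η[T] : 𝟙_ _ ⟶ T) ≫ jT = 1 := by
      rw [IsMonHom.one_hom, Hom.one_def]
      have : toUnit (𝟙_ (Over (Spec (CommRingCat.of K)))) = 𝟙 _ := toUnit_unique _ _
      rw [this, Category.id_comp]
    rw [h1, _root_.one_mul, _root_.inv_one, _root_.mul_one]
    simp only [Category.assoc]
  have : ConnectedSpace T.left :=
    Groth.Agent.Lib.Helper19.TorusConn.connectedSpace_of_isTorus T hT
  have : IsSeparated N.hom := Groth.Agent.Lib.Helper81.KPointsDense.isSeparated_grp K N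
  have : IsOpenImmersion (pullback.diagonal N.hom) := inferInstance
  have : Nonempty ↥(𝟙_ (Over (Spec (CommRingCat.of K)))).left :=
    inferInstanceAs (Nonempty (PrimeSpectrum K))
  have hrig : m' = toUnit T ≫ x := by
    apply Over.OverMorphism.ext
    refine Groth.Agent.Lib.Helper19.EtaleNormal.eq_of_eq_at_point
      (η[T] : 𝟙_ (Over (Spec (CommRingCat.of K))) ⟶ T).left m'.left (toUnit T ≫ x).left N.hom ?_ ?_
    · rw [Over.w, Over.w]
    · exact congrArg (fun φ => φ.left) h0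
  rw [hrig] at hm'
  have hcv : (toUnit T ≫ x) ≫ n = ((toUnit T ≫ t₀) ≫ jT) * ((toUnit T ≫ u₀) ≫ jU) := by
    rw [Category.assoc, hy, comp_mul, Category.assoc, Category.assoc]
  obtain ⟨c, hc⟩ : ∃ c, c = toUnit T ≫ t₀ := ⟨_, rfl⟩
  obtain ⟨v, hv⟩ : ∃ v, v = toUnit T ≫ u₀ := ⟨_, rfl⟩
  rw [← hc, ← hv] at hcv
  rw [hcv] at hm'
  have hx' := hconj T (𝟙 T) v (Groth.Agent.Lib.Helper15.GaPts.ptOfFn
    (Red.gmFn (𝟙 T ≫ α) * Red.gaFn v)) (Groth.Agent.Lib.Helper15.GaPts.gaFn_ptOfFn _)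
  rw [Category.id_comp] at hx'
  have hgrp : jT * ((c ≫ jT) * (v ≫ jU)) * jT⁻¹ =
      (((𝟙 T) * c * (𝟙 T)⁻¹) ≫ jT) * (jT * (v ≫ jU) * jT⁻¹) := by
    rw [mul_comp, mul_comp, GrpObj.inv_comp, Category.id_comp]
    group
  rw [hgrp, hx'] at hm'
  have hvv := Groth.Agent.Lib.Helper19.EtaleNormal.snd_eq_of_mul_eq jT jU hm'
  have hfn := congrArg Red.gaFn hvv
  rw [Groth.Agent.Lib.Helper15.GaPts.gaFn_ptOfFn, Category.id_comp] at hfn
  have hone : (1 : 𝟙_ (Over (Spec (CommRingCat.of K))) ⟶ N) = η[N] := by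
    rw [Hom.one_def]
    have : toUnit (𝟙_ (Over (Spec (CommRingCat.of K)))) = 𝟙 _ := toUnit_unique _ _
    rw [this, Category.id_comp]
  by_cases hu : Red.gaFn u₀ = 0
  · have hu1 : u₀ = 1 := by
      apply Groth.Agent.Lib.Helper15.GaPts.eq_of_gaFn_eq
      rw [hu, Groth.Agent.Lib.Helper15.GaPts.gaFn_one]
    rw [hu1, MonObj.one_comp, _root_.mul_one] at hy
    rw [← hone]
    exact hNT _ t₀ x hy.symm
  · exfalso
    apply hα
    apply GmPts.gmFn_injective
    change Red.gmFn α = Red.gmFn 1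
    rw [GmPts.gmFn_one]
    have hfield : IsField Γ((𝟙_ (Over (Spec (CommRingCat.of K)))).left, ⊤) :=
      MulEquiv.isField (Field.toIsField K)
        (Scheme.ΓSpecIso (CommRingCat.of K)).commRingCatIsoToRingEquiv.toMulEquiv
    obtain ⟨b, hb⟩ := hfield.mul_inv_cancel hu
    have hunit : IsUnit (Red.gaFn v) := by
      rw [hv, Groth.Agent.Lib.Helper15.GaPts.gaFn_comp]
      exact (IsUnit.of_mul_eq_one b hb).map _
    exact hunit.mul_left_injective (by
      change Red.gmFn α * Red.gaFn v = 1 * Red.gaFn v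
      rw [hfn, _root_.one_mul])

end Groth.Agent.S8473
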