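import Groth.Statements.S8509
import Groth.Agent.S14276
import Groth.Agent.Lib.Lead.HensEtaleSplit

set_option autoImplicit false
open CategoryTheory MonoidalCategory CartesianMonoidalCategory MonObj GrpObj AlgebraicGeometry
universe u
open RedSub

namespace Groth.Agent.S8509

/-- Let A be a henselian local ring, S = Spec A, and G an S-group scheme which is smooth and affine over
S. Then every torsor P under G (a representable principal homogeneous bundle) is isotrivial: there
is a finite etale surjective morphism S' ⟶ S such that P_{S'} has a section. (The published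
statement asks only that every finite set of points of G lie in an affine open; this row takes G
affine over S.) -/
theorem result (A : Type u) [CommRing A] [HenselianLocalRing A]
    {G P : Over (Spec (CommRingCat.of A))} [GrpObj G] [Smooth G.hom] [IsAffineHom G.hom] (a : AlgGrp.Action G P)
    (ha : RedSub.IsTorsor a) :
    ∃ (S' : Scheme.{u}) (f : S' ⟶ Spec (CommRingCat.of A)), IsFinite f ∧ Etale f ∧ Surjective f ∧
      RedSub.HasSection (Red.bc f P) := by
  obtain ⟨hsurj, hflat, hlfp, hps⟩ := ha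
  haveI := hsurj
  haveI := hflat
  haveI := hlfp
  -- an fppf torsor
  have hT : NonAbH1.IsTorsorFor Scheme.fppfPrecoverage a := by
    refine ⟨hps, Presieve.singleton P.hom, Scheme.Hom.singleton_mem_fppfPrecoverage P.hom, ?_⟩
    rintro _ _ ⟨⟩
    exact ⟨𝟙 _, Category.id_comp _⟩
  obtain ⟨Rét, hRét, hsec⟩ := Groth.Agent.S14276.result G P a hT
  obtain ⟨𝒰, rfl⟩ := Precoverage.mem_iff_exists_zeroHypercover.mp hRét
  have h2 := 𝒰.mem₀
  change _ ∈ Scheme.precoverage @Etale _ at h2
  rw [Scheme.presieve₀_mem_precoverage_iff] at h2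
  obtain ⟨i, y', hy'⟩ := h2.1 (IsLocalRing.closedPoint A)
  haveI : Etale (𝒰.f i) := h2.2 i
  obtain ⟨l, hl⟩ := hsec (𝒰.f i) (Presieve.ofArrows.mk i)
  -- an affine neighbourhood
  let 𝒲 := (𝒰.X i).affineOpenCover
  let j := 𝒲.idx y'
  obtain ⟨z, hz⟩ := 𝒲.covers y'
  let B : CommRingCat.{u} := 𝒲.X j
  let q : Spec B ⟶ Spec (CommRingCat.of A) := 𝒲.f j ≫ 𝒰.f i
  haveI : IsOpenImmersion (𝒲.f j) := 𝒲.map_prop j
  haveI hqet : Etale q := inferInstance
  have hqz : q z = IsLocalRing.closedPoint A := by
    change (𝒲.f j ≫ 𝒰.f i) z = _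
    rw [Scheme.Hom.comp_apply, hz, hy']
  let ψ : CommRingCat.of A ⟶ B := Spec.preimage q
  have hψ : Spec.map ψ = q := Spec.map_preimage _
  letI : Algebra A B := ψ.hom.toAlgebra
  haveI : Algebra.Etale A B := by
    have h1 : Etale (Spec.map ψ) := by rw [hψ]; exact hqet
    have h3 : ψ.hom.Etale := HasRingHomProperty.Spec_iff.mp h1
    exact RingHom.etale_algebraMap.mp h3
  let 𝔮 : Ideal B := z.asIdeal
  haveI : 𝔮.IsPrime := z.isPrime
  haveI : 𝔮.LiesOver (IsLocalRing.maximalIdeal A) := by
    constructor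
    rw [← hψ] at hqz
    have := congrArg PrimeSpectrum.asIdeal hqz
    exact this.symm
  obtain ⟨B', iB', iAB', φ, hfin, het, hsurj'⟩ :=
    Groth.Agent.Lib.Lead.HensEtaleSplit.exists_finite_etale_factor A B 𝔮
  refine ⟨Spec (CommRingCat.of B'), Spec.map (CommRingCat.ofHom (algebraMap A B')), ?_, ?_, ?_, ?_⟩
  · rw [IsFinite.SpecMap_iff]
    exact RingHom.finite_algebraMap.mpr hfin
  · exact HasRingHomProperty.Spec_iff.mpr (RingHom.etale_algebraMap.mpr het)
  · exact ⟨fun p => hsurj' p⟩
  · let s : Spec (CommRingCat.of B') ⟶ P.left :=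
      Spec.map (CommRingCat.ofHom φ.toRingHom) ≫ 𝒲.f j ≫ l
    have hs : s ≫ P.hom = Spec.map (CommRingCat.ofHom (algebraMap A B')) := by
      change (Spec.map (CommRingCat.ofHom φ.toRingHom) ≫ 𝒲.f j ≫ l) ≫ P.hom = _
      rw [Category.assoc, Category.assoc, hl]
      change Spec.map (CommRingCat.ofHom φ.toRingHom) ≫ q = _
      rw [← hψ, ← Spec.map_comp]
      congr 1
      ext x : 2
      exact φ.commutes x
    exact ⟨Over.homMk (Limits.pullback.lift s (𝟙 _) (by rw [hs, Category.id_comp]))
      (Limits.pullback.lift_snd _ _ _)⟩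

end Groth.Agent.S8509
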