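import Groth.Statements.S8517
import Mathlib
import Groth.Agent.Lib.Helper31.Parab1

set_option autoImplicit false
open CategoryTheory MonoidalCategory CartesianMonoidalCategory MonObj GrpObj AlgebraicGeometry
universe u
open RedSub

namespace Groth.Agent.S8517

/-- Let R be the set of roots of a root pairing over ℤ with finitely many roots, and R₁, R₂ two closed
subsets of R (if a, b ∈ Rᵢ and root a + root b is a root c then c ∈ Rᵢ), each containing a system of
positive roots (the positive roots of some base). If R₁ ∪ R₂ = R, then R₁ ∩ (−R₂) (the roots of R₁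
whose negative is a root in R₂) contains a system of positive roots. -/
theorem result {idx M N : Type} [Finite idx] [AddCommGroup M] [AddCommGroup N] (P : RootPairing idx ℤ M N) (R₁ R₂ : Set idx)
    (h₁ : ∀ a b c : idx, a ∈ R₁ → b ∈ R₁ → P.root a + P.root b = P.root c → c ∈ R₁)
    (h₂ : ∀ a b c : idx, a ∈ R₂ → b ∈ R₂ → P.root a + P.root b = P.root c → c ∈ R₂)
    (hb₁ : ∃ b : P.Base, RedSub.posRoots P b ⊆ R₁) (hb₂ : ∃ b : P.Base, RedSub.posRoots P b ⊆ R₂)
    (hunion : R₁ ∪ R₂ = Set.univ) :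
    ∃ b : P.Base, RedSub.posRoots P b ⊆ {a | a ∈ R₁ ∧ ∃ c ∈ R₂, P.root a = -P.root c} := by
  obtain ⟨b₁, hb₁⟩ := hb₁
  have h₁' : RootD.IsClosedSub P R₁ := fun i j k hi hj hk => h₁ i j k hi hj hk.symm
  have h₂' : RootD.IsClosedSub P R₂ := fun i j k hi hj hk => h₂ i j k hi hj hk.symm
  obtain ⟨b', hb'⟩ := Groth.Agent.Lib.Helper31.Parab1.main R₁ R₂ h₁' h₂' hb₂ hunion _ b₁ hb₁ rfl
  refine ⟨b', fun a ha => ?_⟩
  obtain ⟨ha1, ha2⟩ := hb' ha
  refine ⟨ha1, _, ha2, ?_⟩
  rw [Groth.Agent.Lib.Helper16.root_negIdx, neg_neg]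

end Groth.Agent.S8517
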