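import Groth.Statements.S8524
import Mathlib.Tactic
import Mathlib.AlgebraicGeometry.Morphisms.UniversallyOpen
import Mathlib.AlgebraicGeometry.Morphisms.Etale
import Mathlib.Algebra.Category.Grp.ForgetCorepresentable

set_option autoImplicit false
universe u
open CategoryTheory CategoryTheory.Limits AlgebraicGeometry Opposite
open EtAcyc

namespace Groth.Agent.S8524

/-- For the small etale site of a scheme and abelian sheaves: let L be a set of primes, F an abelian
L-torsion sheaf on the small etale site of a scheme X, and U an etale X-scheme with quasi-compact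
underlying space. Then every section of F over U is killed by some positive integer all of whose
prime factors lie in L. -/
theorem result {X : Scheme.{u}} (L : Set ℕ) (F : EtCoh.Ab X)
    (hF : EtAcyc.IsLTorsion L F) (U : X.Etale) [CompactSpace U.left] (s : EtCoh.sect F U) :
    ∃ m : ℕ, EtAcyc.PrimesIn L m ∧ m • s = 0 := by
  classical
  choose V g m hx hm hs using fun x => hF U s x
  have hopen : ∀ x, IsOpen (Set.range (g x).left.base) :=
    fun x => (g x).left.isOpenMap.isOpen_range
  have hcov : (Set.univ : Set U.left) ⊆ ⋃ x, Set.range (g x).left.base := by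
    intro x _
    obtain ⟨v, hv⟩ := hx x
    exact Set.mem_iUnion.2 ⟨x, v, hv⟩
  obtain ⟨t, ht⟩ := isCompact_univ.elim_finite_subcover _ hopen hcov
  have hsh : Presieve.IsSheaf X.smallEtaleTopology (F.obj ⋙ forget AddCommGrpCat.{u + 1}) :=
    Presieve.isSheaf_iso _
      (Functor.isoWhiskerLeft F.obj AddCommGrpCat.coyonedaObjIsoForget) (F.property _)
  refine ⟨∏ x ∈ t, m x, ⟨?_, ?_⟩, ?_⟩
  · exact Finset.prod_pos fun x _ => (hm x).1
  · intro p hp hdvd
    obtain ⟨x, hxt, hpx⟩ := (Prime.dvd_finsetProd_iff hp.prime (fun x => m x)).mp hdvd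
    exact (hm x).2 p hp hpx
  · have hcovS : Sieve.ofArrows (fun x : t => V x.1) (fun x : t => g x.1) ∈
        X.smallEtaleTopology U := by
      rw [Scheme.ofArrows_mem_smallEtaleTopology_iff]
      rw [Set.eq_univ_iff_forall]
      intro y
      obtain ⟨x, hxt, hy⟩ := Set.mem_iUnion₂.1 (ht (Set.mem_univ y))
      exact Set.mem_iUnion.2 ⟨⟨x, hxt⟩, hy⟩
    refine (hsh.isSheafFor (Presieve.ofArrows (fun x : t => V x.1) (fun x : t => g x.1))
      hcovS).isSeparatedFor.ext ?_
    rintro _ _ ⟨x⟩
    change F.obj.map (g x.1).op ((∏ x ∈ t, m x) • s) = F.obj.map (g x.1).op 0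
    rw [map_zero, map_nsmul]
    obtain ⟨c, hc⟩ := Finset.dvd_prod_of_mem (fun x => m x) x.2
    rw [hc, mul_nsmul]
    erw [hs x.1]
    exact nsmul_zero _

end Groth.Agent.S8524
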