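import Groth.Statements.S8525
import Mathlib.Tactic
import Mathlib.AlgebraicGeometry.Sites.EtalePoint
import Mathlib.FieldTheory.SeparableClosure

set_option autoImplicit false
universe u
open CategoryTheory CategoryTheory.Limits AlgebraicGeometry Opposite
open EtAcyc

namespace Groth.Agent.S8525

instance presFilt : PreservesFilteredColimitsOfSize.{u, u} (forget AddCommGrpCat.{u + 1}) :=
  preservesFilteredColimitsOfSize_shrink.{u, u + 1, u, u + 1} (forget AddCommGrpCat.{u + 1})

/-- Let L be a set of primes and F an abelian sheaf on the small etale site of a scheme X. Then F is an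
L-torsion sheaf if and only if for every geometric point ξ of X every element of the stalk F_ξ is
killed by a positive integer all of whose prime factors lie in L. -/
theorem result {X : Scheme.{u}} (L : Set ℕ) (F : EtCoh.Ab X) :
    EtAcyc.IsLTorsion L F ↔
      ∀ (Ω : Type u) [Field Ω] [IsSepClosed Ω] (ξ : Spec (CommRingCat.of Ω) ⟶ X)
        (t : (EtCoh.stalk ξ).obj F), ∃ m : ℕ, EtAcyc.PrimesIn L m ∧ m • t = 0 := by
  constructor
  · intro hF Ω _ _ ξ t
    set Φ := Scheme.pointSmallEtale ξ with hΦ
    obtain ⟨U, u, z, rfl⟩ := Φ.toPresheafFiber_jointly_surjective t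
    let uL : Spec (CommRingCat.of Ω) ⟶ U.left := u.left
    have hu : uL ≫ U.hom = ξ := Over.w u
    obtain ⟨V, g, m, ⟨v, hv⟩, hm, hs⟩ := hF U z (uL.base default)
    obtain ⟨l, hl1, hl2⟩ := Scheme.exists_fac_of_etale_of_isSepClosed g.left uL v hv
    have hgw : g.left ≫ U.hom = V.hom := MorphismProperty.Over.w g
    let l' : Φ.fiber.obj V := Over.homMk l (by
      change l ≫ V.hom = ξ
      rw [← hgw, ← Category.assoc, hl1, hu])
    have hl' : Φ.fiber.map g l' = u := by
      apply Over.OverMorphism.ext
      exact hl1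
    refine ⟨m, hm, ?_⟩
    have key : Φ.toPresheafFiber V l' F.obj (F.obj.map g.op z) = Φ.toPresheafFiber U u F.obj z :=
      (Φ.toPresheafFiber_w_apply g l' F.obj z).trans
        (congrArg (fun w => Φ.toPresheafFiber U w F.obj z) hl')
    refine (congrArg (fun w => m • w) key.symm).trans ?_
    refine (map_nsmul (ConcreteCategory.hom (Φ.toPresheafFiber V l' F.obj)) m _).symm.trans ?_
    refine (congrArg (fun w => Φ.toPresheafFiber V l' F.obj w) hs).trans ?_
    exact map_zero (ConcreteCategory.hom (Φ.toPresheafFiber V l' F.obj))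
  · intro h U s x
    let κ := U.left.residueField x
    let Ω := SeparableClosure κ
    let ξU : Spec (CommRingCat.of Ω) ⟶ U.left :=
      Spec.map (CommRingCat.ofHom (algebraMap κ Ω)) ≫ U.left.fromSpecResidueField x
    let ξ : Spec (CommRingCat.of Ω) ⟶ X := ξU ≫ U.hom
    set Φ := Scheme.pointSmallEtale ξ with hΦ
    let u : Φ.fiber.obj U := Over.homMk ξU rfl
    obtain ⟨m, hm, hmt⟩ := h Ω ξ (Φ.toPresheafFiber U u F.obj s)
    have h0 : Φ.toPresheafFiber U u F.obj (m • s) = Φ.toPresheafFiber U u F.obj 0 :=
      ((map_nsmul (ConcreteCategory.hom (Φ.toPresheafFiber U u F.obj)) m s).trans hmt).trans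
        (map_zero (ConcreteCategory.hom (Φ.toPresheafFiber U u F.obj))).symm
    rw [Φ.toPresheafFiber_eq_iff'] at h0
    obtain ⟨V, g, v, hv, hz⟩ := h0
    let vL : Spec (CommRingCat.of Ω) ⟶ V.left := v.left
    refine ⟨V, g, m, ⟨vL.base default, ?_⟩, hm, ?_⟩
    · have h1 : vL ≫ g.left = ξU := congrArg (fun w => w.left) hv
      have h2 : g.left.base (vL.base default) = ξU.base default := by
        rw [← h1]
        rfl
      refine h2.trans ?_
      change (U.left.fromSpecResidueField x).base
        ((Spec.map (CommRingCat.ofHom (algebraMap κ Ω))).base default) = x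
      exact Scheme.fromSpecResidueField_apply x _
    · refine (map_nsmul (ConcreteCategory.hom (F.obj.map g.op)) m s).symm.trans ?_
      refine hz.trans ?_
      exact map_zero (ConcreteCategory.hom (F.obj.map g.op))

end Groth.Agent.S8525
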