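import Groth.Statements.S8526
import Groth.Agent.Lib.Helper57.SurjLocus
import Groth.Agent.S0127

set_option autoImplicit false
universe u
open CategoryTheory CategoryTheory.Limits AlgebraicGeometry Opposite
open EtPBC

namespace Groth.Agent.S8526

open Groth.Agent.Lib.Helper57.SurjLocus

theorem supp_eq_compl {X : Scheme.{u}} (F : EtCoh.Ab X) : EtPBC.supp F = (zeroLocus F)ᶜ := by
  ext x
  constructor
  · rintro ⟨Ω, i1, i2, ξ, h1, h2⟩ hz
    exact h2 (@hz Ω i1 i2 ξ h1)
  · intro h
    by_contra hne
    apply h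
    intro Ω _ _ ξ hξ
    by_contra hz
    exact hne ⟨Ω, _, _, ξ, hξ, hz⟩

/-- Let F be a constructible abelian sheaf on the small etale site of a scheme X. Then the support of F,
the set of points of X over which some geometric stalk of F is nonzero, is a locally constructible
subset of X. -/
theorem result {X : Scheme.{u}} (F : EtCoh.Ab X) (hF : EtPBC.IsConstructible F) :
    Topology.IsLocallyConstructible (EtPBC.supp F) := by
  intro x
  obtain ⟨U, hU, hxU⟩ : ∃ U : X.Opens, IsAffineOpen U ∧ x ∈ U := by
    obtain ⟨U, hU, hxU, -⟩ := TopologicalSpace.Opens.isBasis_iff_nbhd.1 X.isBasis_affineOpens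
      (show x ∈ (⊤ : X.Opens) from trivial)
    exact ⟨U, hU, hxU⟩
  refine ⟨(U : Set X), U.isOpen.mem_nhds hxU, U.isOpen, ?_⟩
  haveI : IsAffine U.toScheme := hU
  have hG := Groth.Agent.S0127.result U.ι F hF
  have hZ := isConstructible_zeroLocus _ hG
  have heq : ((Subtype.val : ((U : Set X) : Type u) → X) ⁻¹' EtPBC.supp F) = (zeroLocus ((EtCoh.pull U.ι).obj F))ᶜ := by
    rw [supp_eq_compl]
    ext y
    have h1 := zeroLocus_inter_range U.ι F
    simp only [Set.mem_preimage, Set.mem_compl_iff]
    apply not_congr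
    constructor
    · intro hy
      have : U.ι.base y ∈ zeroLocus F ∩ Set.range U.ι.base := ⟨hy, ⟨y, rfl⟩⟩
      rw [h1] at this
      obtain ⟨y', hy', e⟩ := this
      rw [U.ι.isEmbedding.injective e] at hy'
      exact hy'
    · intro hy
      have : U.ι.base y ∈ U.ι.base '' zeroLocus ((EtCoh.pull U.ι).obj F) := ⟨y, hy, rfl⟩
      rw [← h1] at this
      exact this.1
  rw [heq]
  exact hZ.compl

end Groth.Agent.S8526
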