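import Groth.Statements.S8536
import Mathlib.Tactic
import Mathlib.CategoryTheory.Sites.EpiMono
import Groth.Agent.S8525
import Groth.Agent.Lib.Helper47.ExtChase

set_option autoImplicit false
universe u
open CategoryTheory CategoryTheory.Limits AlgebraicGeometry Opposite
open EtAcyc

namespace Groth.Agent.S8536

theorem isLTorsion_of_epi {X : Scheme.{u}} (L : Set ℕ) {G Q : EtCoh.Ab X} (π : G ⟶ Q) [Epi π]
    (hG : EtAcyc.IsLTorsion L G) : EtAcyc.IsLTorsion L Q := by
  rw [Groth.Agent.S8525.result] at hG ⊢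
  intro Ω _ _ ξ t
  have hls : Sheaf.IsLocallySurjective π := (Sheaf.isLocallySurjective_iff_epi' _ π).mpr inferInstance
  have hls' : Presheaf.IsLocallySurjective X.smallEtaleTopology π.hom := hls
  obtain ⟨t', rfl⟩ := (Scheme.pointSmallEtale ξ).toPresheafFiber_map_surjective π.hom t
  obtain ⟨m, hm, h0⟩ := hG Ω ξ t'
  refine ⟨m, hm, ?_⟩
  refine (map_nsmul (ConcreteCategory.hom ((Scheme.pointSmallEtale ξ).presheafFiber.map π.hom)) m t').symm.trans ?_
  refine (congrArg (fun w => (Scheme.pointSmallEtale ξ).presheafFiber.map π.hom w) h0).trans ?_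
  exact map_zero (ConcreteCategory.hom ((Scheme.pointSmallEtale ξ).presheafFiber.map π.hom))

/-- Let h : Y → X be a morphism of quasi-compact quasi-separated schemes, L a set of primes and n a
natural number, and suppose that for every abelian L-torsion sheaf on X the pullback map on etale
cohomology along h is bijective in degrees ≤ n and injective in degree n + 1. Let u : F → G be a
monomorphism of abelian L-torsion sheaves on X and ξ a class in H^{n+1}(Y, h⁻¹F) whose image in
H^{n+1}(Y, h⁻¹G) comes from H^{n+1}(X, G). Then ξ comes from H^{n+1}(X, F). -/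
theorem result {X Y : Scheme.{u}} [CompactSpace X] [QuasiSeparatedSpace X]
    [CompactSpace Y] [QuasiSeparatedSpace Y] (h : Y ⟶ X) (L : Set ℕ) (n : ℕ) (hc : EtAcyc.CompN h L n)
    [PreservesFiniteLimits (EtCoh.pull h)] {F G : EtCoh.Ab X} (u : F ⟶ G) [Mono u]
    (hF : EtAcyc.IsLTorsion L F) (hG : EtAcyc.IsLTorsion L G)
    (ξ : EtCoh.H Y ((EtCoh.pull h).obj F) (n + 1))
    (hξ : (EtCoh.HF Y (n + 1)).map ((EtCoh.pull h).map u) ξ ∈ Set.range (EtCore.Hpull h G (n + 1))) :
    ξ ∈ Set.range (EtCore.Hpull h F (n + 1)) := by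
  obtain ⟨γ, hγ⟩ := hξ
  let S : ShortComplex (EtCoh.Ab X) := ShortComplex.mk u (cokernel.π u) (cokernel.condition u)
  have hS : S.ShortExact := { exact := ShortComplex.exact_cokernel u }
  have hQ : EtAcyc.IsLTorsion L (cokernel u) := isLTorsion_of_epi L (cokernel.π u) hG
  obtain ⟨hbij, hinj⟩ := hc (cokernel u) hQ
  obtain ⟨φ, hφ⟩ := Groth.Agent.Lib.Helper47.ext_chase (EtCoh.pull h)
    (Abelian.Ext.mk₀ (EtCore.pullConst h ℤ).inv) hS n hinj (hbij n le_rfl).2 ξ γ hγ
  exact ⟨φ, hφ⟩

end Groth.Agent.S8536
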