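import Groth.Statements.S8538
import Groth.Agent.Lib.Helper73.LocalDim.ClosureDim

set_option autoImplicit false
universe u
open CategoryTheory CategoryTheory.Limits AlgebraicGeometry Opposite
open EtCd

namespace Groth.Agent.S8538

/-- Let A be a Noetherian universally catenary local ring, f : X → Spec A a morphism of finite type, x a
point of X with image y, and X₀ the closed fibre of f. Put δ(x) = dim closure(y) + trdeg(κ(x)/κ(y))
= dim(A/p_y) + trdeg(κ(x)/κ(y)) and d(x) = dim closure(x) (topological Krull dimension of the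
closure of x in X). Then d(x) = δ(x) when the closure of x meets X₀, and d(x) + 1 = δ(x) when it
does not. -/
theorem result (A : Type u) [CommRing A] [IsNoetherianRing A] [IsLocalRing A]
    (hA : CAlg.IsUniversallyCatenary A) {X : Scheme.{u}} (f : X ⟶ Spec (CommRingCat.of A)) [LocallyOfFiniteType f]
    [QuasiCompact f] (x : X) (a b d : ℕ) (ha : ringKrullDim (A ⧸ (f.base x).asIdeal) = a)
    (hb : letI := (f.residueFieldMap x).hom.toAlgebra;
      Algebra.trdeg ((Spec (CommRingCat.of A)).residueField (f.base x)) (X.residueField x) = b)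
    (hd : topologicalKrullDim ↥(closure ({x} : Set X)) = d) :
    ((closure ({x} : Set X) ∩ f.base ⁻¹' {((IsLocalRing.closedPoint A : PrimeSpectrum A) : ↥(Spec (CommRingCat.of A)))}).Nonempty →
        d = a + b) ∧
    (closure ({x} : Set X) ∩ f.base ⁻¹' {((IsLocalRing.closedPoint A : PrimeSpectrum A) : ↥(Spec (CommRingCat.of A)))} = ∅ →
        d + 1 = a + b) := by
  open Groth.Agent.Lib.Helper73 in
  have hδ := isDimFun_deltaLocal A hA f
  have hδx : deltaLocal A f x = (a : ℤ) + b := by
    unfold deltaLocal
    rw [cohtInt_eq_of_ringKrullDim A (f.base x) a ha]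
    have h1 : resTrdegNat f x = b := by
      unfold resTrdegNat
      have h2 : resTrdeg f x = b := hb
      rw [h2, Cardinal.toNat_natCast]
    rw [h1]
  haveI : CompactSpace X := QuasiCompact.compactSpace_of_compactSpace f
  have hle : ∀ z, x ⤳ z → deltaLocal A f z ≤ deltaLocal A f x := fun z hz =>
    cyc_le_of_specializes _ hδ hz
  have T1 : ∀ z, x ⤳ z → deltaLocal A f x - deltaLocal A f z ≤ d := by
    intro z hz
    have h1 := codim_le_topologicalKrullDim_closure x z
    rw [codim_eq_of_cycIsDimFun _ hδ x z hz, hd] at h1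
    have h2 : (deltaLocal A f x - deltaLocal A f z).toNat ≤ d := by exact_mod_cast h1
    have := hle z hz
    omega
  obtain ⟨z₀, hz₀, hz₀d⟩ := exists_le_codim x d hd
  rw [codim_eq_of_cycIsDimFun _ hδ x z₀ hz₀] at hz₀d
  have T2 : (d : ℤ) ≤ deltaLocal A f x - deltaLocal A f z₀ := by
    have h2 : d ≤ (deltaLocal A f x - deltaLocal A f z₀).toNat := by exact_mod_cast hz₀d
    have := hle z₀ hz₀
    omega
  have hnonneg : ∀ z, 0 ≤ deltaLocal A f z := fun z => by
    unfold deltaLocal
    have := cohtInt_nonneg A (f.base z)
    positivity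
  -- the closed point has coheight zero
  have hcl0 : Groth.Agent.Lib.Helper93.DeltaZ.cohtInt A (IsLocalRing.closedPoint A) = 0 := by
    unfold Groth.Agent.Lib.Helper93.DeltaZ.cohtInt
    have : Order.coheight (IsLocalRing.closedPoint A) = 0 := by
      rw [Order.coheight_eq_zero]
      intro q hq
      exact IsLocalRing.le_maximalIdeal q.2.ne_top
    rw [this]; rfl
  -- non-closed points have coheight at least one
  have hcl1 : ∀ y : PrimeSpectrum A, y ≠ IsLocalRing.closedPoint A →
      1 ≤ Groth.Agent.Lib.Helper93.DeltaZ.cohtInt A y := by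
    intro y hy
    unfold Groth.Agent.Lib.Helper93.DeltaZ.cohtInt
    have h0 : Order.coheight y ≠ 0 := by
      rw [Ne, Order.coheight_eq_zero]
      intro hmax
      apply hy
      have h1 : y ≤ IsLocalRing.closedPoint A := IsLocalRing.le_maximalIdeal y.2.ne_top
      exact le_antisymm h1 (hmax h1)
    have hfin : Order.coheight y ≠ ⊤ := by
      intro htop
      have h1 : (Order.coheight y : WithBot ℕ∞) ≤ Order.krullDim (PrimeSpectrum A) :=
        Order.coheight_le_krullDim y
      have h2 : ringKrullDim A < ⊤ := ringKrullDim_lt_top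
      rw [htop] at h1
      exact absurd (lt_of_le_of_lt h1 h2) (lt_irrefl _)
    obtain ⟨n, hn⟩ := ENat.ne_top_iff_exists.mp hfin
    rw [← hn] at h0 ⊢
    rw [ENat.toNat_coe]
    have : n ≠ 0 := by exact_mod_cast h0
    omega
  constructor
  · intro hne
    have hclosed : IsClosed (closure ({x} : Set X) ∩ f.base ⁻¹'
        {((IsLocalRing.closedPoint A : PrimeSpectrum A) : ↥(Spec (CommRingCat.of A)))}) :=
      isClosed_closure.inter ((IsLocalRing.isClosed_singleton_closedPoint A).preimage
        f.base.hom.continuous)
    obtain ⟨z, ⟨hz1, hz2⟩, hz3⟩ := hclosed.exists_closed_singleton hne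
    have hxz : x ⤳ z := specializes_iff_mem_closure.mpr hz1
    have hδz : deltaLocal A f z = 0 := by
      unfold deltaLocal
      rw [resTrdegNat_eq_zero_of_isClosed f z hz3]
      have : f.base z = IsLocalRing.closedPoint A := hz2
      rw [this, hcl0]; rfl
    have h1 := T1 z hxz
    have h2 := hnonneg z₀
    rw [hδz, hδx] at h1
    rw [hδx] at T2
    omega
  · intro hempty
    obtain ⟨z, hz1, hz3⟩ := (isClosed_closure (s := ({x} : Set X))).exists_closed_singleton
      ⟨x, subset_closure rfl⟩
    have hxz : x ⤳ z := specializes_iff_mem_closure.mpr hz1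
    have hne : ∀ t, t ∈ closure ({x} : Set X) → f.base t ≠ IsLocalRing.closedPoint A := by
      intro t ht hft
      have : t ∈ closure ({x} : Set X) ∩ f.base ⁻¹'
        {((IsLocalRing.closedPoint A : PrimeSpectrum A) : ↥(Spec (CommRingCat.of A)))} :=
        ⟨ht, hft⟩
      rw [hempty] at this
      exact this
    have hδz : deltaLocal A f z = 1 := by
      unfold deltaLocal
      rw [resTrdegNat_eq_zero_of_isClosed f z hz3]
      have h1 := hcl1 (f.base z) (hne z hz1)
      have h2 := ringKrullDim_quotient_le_one_of_isClosed f z hz3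
      have h2' := Groth.Agent.Lib.Helper93.DeltaZ.ringKrullDim_quotient_eq_coheight (R := A)
        (show PrimeSpectrum A from f.base z)
      have h2'' : (Order.coheight (show PrimeSpectrum A from f.base z) : WithBot ℕ∞) ≤ 1 :=
        h2'.symm.le.trans h2
      have h3 : Order.coheight (show PrimeSpectrum A from f.base z) ≤ 1 := by
        exact_mod_cast h2''
      have h4 : Groth.Agent.Lib.Helper93.DeltaZ.cohtInt A (f.base z) ≤ 1 := by
        unfold Groth.Agent.Lib.Helper93.DeltaZ.cohtInt
        have := ENat.toNat_le_toNat h3 (by simp)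
        simp only [ENat.toNat_one] at this
        exact_mod_cast this
      push_cast
      omega
    have hδz₀ : 1 ≤ deltaLocal A f z₀ := by
      unfold deltaLocal
      have h1 := hcl1 (f.base z₀) (hne z₀ (specializes_iff_mem_closure.mp hz₀))
      have : (0 : ℤ) ≤ (resTrdegNat f z₀ : ℤ) := Int.natCast_nonneg _
      omega
    have h1 := T1 z hxz
    rw [hδz, hδx] at h1
    rw [hδx] at T2
    omega

end Groth.Agent.S8538
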