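import Groth.Statements.S8542
import Groth.Agent.Lib.Helper57.PullSets

set_option autoImplicit false
universe u
open CategoryTheory CategoryTheory.Limits AlgebraicGeometry Opposite
open EtBC

namespace Groth.Agent.S8542

section Helpers
variable {X Y : Scheme.{u}}

lemma secPull_natural (h : Y ⟶ X) {A B : EtDesc.Sh X} (φ : A ⟶ B)
    (s : EtDesc.sect A (EtCoh.top X)) :
    EtDesc.secPull h B (φ.hom.app (op (EtCoh.top X)) s) =
      ((EtDesc.pullSh h).map φ).hom.app (op (EtCoh.top Y)) (EtDesc.secPull h A s) := by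
  unfold EtDesc.secPull
  have h1 := (EtDesc.adjSh h).unit.naturality φ
  have h2 := congrArg (fun ψ => ψ.hom.app (op (EtCoh.top X)) s) h1
  dsimp at h2
  rw [h2]
  exact (NatTrans.naturality_apply ((EtDesc.pullSh h).map φ).hom (EtCore.bcTopIso h).inv.op _).symm

/-- sections of a mono of sheaves of types are injective -/
lemma injective_app_of_mono {A B : EtDesc.Sh X} (φ : A ⟶ B) [Mono φ] (U : (X.Etale)ᵒᵖ) :
    Function.Injective (φ.hom.app U) := by
  have h1 : Mono ((sheafToPresheaf _ _).map φ) := inferInstance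
  have h2 : Mono (φ.hom.app U) := (NatTrans.mono_iff_mono_app (f := φ.hom)).1 h1 U
  exact (mono_iff_injective _).1 h2


lemma isClosed_imageSieve {F G : EtDesc.Sh X} (u : F ⟶ G) [Mono u] {U : X.Etale}
    (x : G.obj.obj (op U)) : X.smallEtaleTopology.IsClosed (Presheaf.imageSieve u.hom x) := by
  intro V f hf
  rw [GrothendieckTopology.Covers, Presheaf.pullback_imageSieve] at hf
  have hR : Presieve.IsSheaf X.smallEtaleTopology (Subfunctor.range u.hom).toFunctor :=
    Presieve.isSheaf_iso X.smallEtaleTopology (asIso (Subfunctor.toRange u.hom))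
      ((isSheaf_iff_isSheaf_of_type _ _).1 F.property)
  have hG : Presieve.IsSheaf X.smallEtaleTopology G.obj :=
    (isSheaf_iff_isSheaf_of_type _ _).1 G.property
  have e := Subfunctor.eq_sheafify _ hG hR
  have h1 : G.obj.map f.op x ∈ ((Subfunctor.range u.hom).sheafify X.smallEtaleTopology).obj (op V) := by
    show (Subfunctor.range u.hom).sieveOfSection _ ∈ X.smallEtaleTopology V
    convert hf using 1
    ext W g
    exact Iff.rfl
  rw [← e] at h1
  obtain ⟨t, ht⟩ := h1
  exact ⟨t, ht⟩

/-- the sheaf of closed sieves -/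
noncomputable def Om (X : Scheme.{u}) : EtDesc.Sh X :=
  ⟨(Functor.closedSieves X.smallEtaleTopology).toFunctor,
    (isSheaf_iff_isSheaf_of_type _ _).2 (classifier_isSheaf _)⟩

noncomputable def chi {F G : EtDesc.Sh X} (u : F ⟶ G) [Mono u] : G ⟶ Om X where
  hom :=
    { app := fun U => ↾fun x => ⟨Presheaf.imageSieve u.hom x, isClosed_imageSieve u x⟩
      naturality := by
        intro U V f
        refine ConcreteCategory.hom_ext _ _ fun x => ?_
        apply Subtype.ext
        exact (Presheaf.pullback_imageSieve u.hom x f.unop).symm }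

noncomputable def topMap (G : EtDesc.Sh X) : G ⟶ Om X where
  hom :=
    { app := fun U => ↾fun _ => ⟨(⊤ : Sieve U.unop), fun _ _ _ => trivial⟩
      naturality := by
        intro U V f
        refine ConcreteCategory.hom_ext _ _ fun x => ?_
        apply Subtype.ext
        exact (Sieve.pullback_top).symm }


theorem main {X Y : Scheme.{u}} (h : Y ⟶ X)
    (hinj : ∀ F : EtDesc.Sh X, Function.Injective (EtDesc.secPull h F))
    {F G : EtDesc.Sh X} (u : F ⟶ G) [Mono u] (ξ : EtDesc.sect ((EtDesc.pullSh h).obj F) (EtCoh.top Y))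
    (hξ : ((EtDesc.pullSh h).map u).hom.app (op (EtCoh.top Y)) ξ ∈ Set.range (EtDesc.secPull h G)) :
    ξ ∈ Set.range (EtDesc.secPull h F) := by
  obtain ⟨g, hg⟩ := hξ
  have hab : u ≫ chi u = u ≫ topMap G := by
    apply Sheaf.hom_ext
    ext U x
    apply Subtype.ext
    apply Sieve.ext
    intro V f
    refine ⟨fun _ => trivial, fun _ => ⟨F.obj.map f.op x, ?_⟩⟩
    exact NatTrans.naturality_apply u.hom f.op x
  have h12 : EtDesc.secPull h (Om X) ((chi u).hom.app _ g) =
      EtDesc.secPull h (Om X) ((topMap G).hom.app _ g) := by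
    rw [secPull_natural, secPull_natural, hg]
    have e1 := congrArg (fun ψ => ((EtDesc.pullSh h).map ψ).hom.app (op (EtCoh.top Y)) ξ) hab
    simpa using e1
  have h3 := hinj _ h12
  have h4 : (⊤ : Sieve (EtCoh.top X)) (𝟙 _) := trivial
  have h5 : (Presheaf.imageSieve u.hom g) (𝟙 _) := by
    have := congrArg Subtype.val h3
    change Presheaf.imageSieve u.hom g = ⊤ at this
    rw [this]; exact h4
  obtain ⟨t, ht⟩ := h5
  refine ⟨t, ?_⟩
  have : Mono ((EtDesc.pullSh h).map u) := inferInstance
  apply injective_app_of_mono ((EtDesc.pullSh h).map u) (op (EtCoh.top Y))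
  rw [← secPull_natural, ← hg]
  congr 1
  rw [ht]
  simp


end Helpers

/-- Let h : Y → X be a morphism of quasi-compact quasi-separated schemes such that for every sheaf of
sets F on the small etale site of X the pullback map Γ(X, F) → Γ(Y, h^*F) is injective. Let u : F →
G be a monomorphism of sheaves of sets on X and ξ ∈ Γ(Y, h^*F) a section whose image in Γ(Y, h^*G)
lies in the image of Γ(X, G). Then ξ lies in the image of Γ(X, F). -/
theorem result {X Y : Scheme.{u}} [CompactSpace X] [QuasiSeparatedSpace X]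
    [CompactSpace Y] [QuasiSeparatedSpace Y] (h : Y ⟶ X)
    (hinj : ∀ F : EtDesc.Sh X, Function.Injective (EtDesc.secPull h F))
    {F G : EtDesc.Sh X} (u : F ⟶ G) [Mono u] (ξ : EtDesc.sect ((EtDesc.pullSh h).obj F) (EtCoh.top Y))
    (hξ : ((EtDesc.pullSh h).map u).hom.app (op (EtCoh.top Y)) ξ ∈ Set.range (EtDesc.secPull h G)) :
    ξ ∈ Set.range (EtDesc.secPull h F) := by
  exact main h hinj u ξ hξ

end Groth.Agent.S8542
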