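import Groth.Statements.S8554
import Groth.Agent.Lib.Helper45.Godement3

set_option autoImplicit false
universe u
open CategoryTheory CategoryTheory.Limits AlgebraicGeometry Opposite
open NonAbH1

namespace Groth.Agent.S8554

/-- Every sheaf of groups F on the small etale site of a scheme X embeds into a sheaf of groups G with
vanishing first non-abelian cohomology on every etale X-scheme: there are G and a morphism u : F ⟶
G, injective on sections over every object of the site, such that for every etale X-scheme U every
torsor under the restriction of G to the induced site over U is trivial, i.e. H¹(U, G) is reduced to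
its base point. (The published statement adds that the first higher direct images of G along any
morphism of schemes then vanish as pointed sheaves; that clause follows from this one and is not
stated here.) -/
theorem result {X : Scheme.{u}}
    (F : Sheaf X.smallEtaleTopology GrpCat.{u + 1}) :
    ∃ (G : Sheaf X.smallEtaleTopology GrpCat.{u + 1}) (φ : F ⟶ G),
      (∀ U : X.Etaleᵒᵖ, Function.Injective (φ.hom.app U)) ∧
      ∀ (U : X.Etale) (P : NonAbH1.Torsor (G.over U)), P.IsTrivial := by
  classical
  let Φ : X → X.smallEtaleTopology.Point := Groth.Agent.Lib.Helper45.Godement.geomPt X
  refine ⟨Groth.Agent.Lib.Helper45.Godement.sheaf Φ (Groth.Agent.Lib.Helper45.Godement.St Φ F),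
    Groth.Agent.Lib.Helper45.Godement.toGodement Φ F, ?_, ?_⟩
  · intro U
    exact Groth.Agent.Lib.Helper45.Godement.toGodement_injective Φ F
      (fun W S hS => Groth.Agent.Lib.Helper45.Godement.geomPt_cov X S hS) U
  · intro U P
    exact Groth.Agent.Lib.Helper45.Godement.torsor_isTrivial Φ _ U P

end Groth.Agent.S8554
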