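import Groth.Statements.S8560
import Groth.Agent.Lib.Helper28.EtTorsPush

set_option autoImplicit false
universe u
open CategoryTheory CategoryTheory.Limits AlgebraicGeometry Opposite
open EtAcyc

namespace Groth.Agent.S8560

open Groth.Agent.Lib.Helper28

/-- The integers whose absolute value has all its prime factors in `L`. -/
def SL (L : Set ℕ) : Submonoid ℤ where
  carrier := {a | EtAcyc.PrimesIn L a.natAbs}
  one_mem' := by
    refine ⟨Nat.one_pos, fun p hp hd => ?_⟩
    exact absurd (Nat.dvd_one.1 hd) hp.ne_one
  mul_mem' := by
    intro a b ha hb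
    change EtAcyc.PrimesIn L (a * b).natAbs
    rw [Int.natAbs_mul]
    refine ⟨Nat.mul_pos ha.1 hb.1, fun p hp hd => ?_⟩
    rcases (Nat.Prime.dvd_mul hp).1 hd with h | h
    · exact ha.2 p hp h
    · exact hb.2 p hp h

lemma zero_notMem_SL (L : Set ℕ) : (0 : ℤ) ∉ SL L := fun h => lt_irrefl 0 h.1

lemma locKilled_of_isLTorsion {X : Scheme.{u}} {L : Set ℕ} {F : EtCoh.Ab X}
    (hF : EtAcyc.IsLTorsion L F) : EtTors.LocKilled (SL L) F := by
  intro U s x
  obtain ⟨V, g, m, hv, hm, h⟩ := hF U s x
  refine ⟨V, g, hv, (m : ℤ), ?_, ?_⟩
  · change EtAcyc.PrimesIn L (m : ℤ).natAbs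
    rw [Int.natAbs_natCast]
    exact hm
  · rw [natCast_zsmul]
    exact h

lemma isLTorsion_of_locKilled {X : Scheme.{u}} {L : Set ℕ} {F : EtCoh.Ab X}
    (hF : EtTors.LocKilled (SL L) F) : EtAcyc.IsLTorsion L F := by
  intro U s x
  obtain ⟨V, g, hv, a, ha, h⟩ := hF U s x
  refine ⟨V, g, a.natAbs, hv, ha, ?_⟩
  rcases Int.natAbs_eq a with e | e
  · rw [e, natCast_zsmul] at h
    exact h
  · rw [e, neg_smul, neg_eq_zero, natCast_zsmul] at h
    exact h

/-- For the etale sites of schemes and a set of primes L: if f : X ⟶ Y is a quasi-compact and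
quasi-separated morphism of schemes and F is an abelian L-torsion sheaf on the small etale site of X
(every section is, etale-locally around each point, killed by a positive integer all of whose prime
factors lie in L), then each higher direct image R^q f_* F is an L-torsion sheaf on Y. (The
published statement, for topoi, asks only that the morphism be quasi-compact; this row also assumes
f quasi-separated: for the spectrum of a polynomial ring in countably many variables over a
separably closed field glued to a copy of itself along the complement of the origin, and the direct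
sum of the skyscraper sheaves ℤ/pⁿ at the points where exactly the n-th variable is 1, the structure
morphism to the field is quasi-compact but H¹ contains a class of infinite order.) -/
theorem result {X Y : Scheme.{u}} (f : X ⟶ Y) [QuasiCompact f] [QuasiSeparated f]
    [EtCoh.BCCont f] (L : Set ℕ) (F : EtCoh.Ab X) (hF : EtAcyc.IsLTorsion L F) (q : ℕ) :
    EtAcyc.IsLTorsion L ((EtCoh.Rpush f q).obj F) := by
  exact isLTorsion_of_locKilled (Groth.Agent.Lib.Helper28.EtTorsPush.locKilled_Rpush f
    (zero_notMem_SL L) (locKilled_of_isLTorsion hF) q)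

end Groth.Agent.S8560
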