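import Groth.Statements.S8562
import Mathlib

set_option autoImplicit false
universe u
open CategoryTheory CategoryTheory.Limits AlgebraicGeometry Opposite
open NonAbH1

namespace Groth.Agent.S8562

section

variable {X Y : Scheme.{u}}

theorem exists_mem_of_covering {W : Y.Etale} (S : Sieve W) (hS : S ∈ Y.smallEtaleTopology W)
    (w : W.left) : ∃ (V : Y.Etale) (g : V ⟶ W), S g ∧ w ∈ Set.range g.left := by
  obtain ⟨I, Z, f, rfl⟩ := Sieve.exists_eq_ofArrows S
  rw [Scheme.ofArrows_mem_smallEtaleTopology_iff] at hS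
  have h1 : w ∈ ⋃ i, Set.range (f i).left := hS ▸ Set.mem_univ w
  obtain ⟨i, hi⟩ := Set.mem_iUnion.1 h1
  exact ⟨Z i, f i, Sieve.ofArrows_mk _ _ i, hi⟩

noncomputable def pushG (f : X ⟶ Y) [EtCoh.BCCont f] (F : Sheaf X.smallEtaleTopology GrpCat.{u + 1})
    (Q : NonAbH1.GSheaf F) :
    NonAbH1.GSheaf (((EtCoh.bc f).sheafPushforwardContinuous GrpCat.{u + 1}
        Y.smallEtaleTopology X.smallEtaleTopology).obj F) where
  P := ((EtCoh.bc f).sheafPushforwardContinuous (Type (u + 1))
        Y.smallEtaleTopology X.smallEtaleTopology).obj Q.P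
  smul {U} g p := Q.smul (U := (EtCoh.bc f).op.obj U) g p
  one_smul {U} p := Q.one_smul (U := (EtCoh.bc f).op.obj U) p
  mul_smul {U} g h p := Q.mul_smul (U := (EtCoh.bc f).op.obj U) g h p
  map_smul h g p := Q.map_smul ((EtCoh.bc f).op.map h) g p

theorem pushG_locallyNonempty (f : X ⟶ Y) [EtCoh.BCCont f]
    (F : Sheaf X.smallEtaleTopology GrpCat.{u + 1}) (Q : NonAbH1.GSheaf F)
    (ι : Type u) (V : ι → Y.Etale) (hV : EtCoh.Covers V)
    (hne : ∀ i, Nonempty (Q.P.obj.obj (op ((EtCoh.bc f).obj (V i))))) :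
    (pushG f F Q).LocallyNonempty := by
  intro U
  let S : Sieve U :=
    { arrows := fun W _ => Nonempty (Q.P.obj.obj (op ((EtCoh.bc f).obj W)))
      downward_closed := by
        rintro W W' g ⟨s⟩ h
        exact ⟨Q.P.obj.map ((EtCoh.bc f).map h).op s⟩ }
  refine ⟨S, ?_, fun W g hg => hg⟩
  let Wi : ι → Y.Etale := fun i =>
    Scheme.Etale.mk (pullback.fst U.hom (V i).hom ≫ U.hom)
  let pU : ∀ i, Wi i ⟶ U := fun i =>
    MorphismProperty.Over.homMk (pullback.fst U.hom (V i).hom) rfl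
  let pV : ∀ i, Wi i ⟶ V i := fun i =>
    MorphismProperty.Over.homMk (pullback.snd U.hom (V i).hom) pullback.condition.symm
  have hcov : Sieve.ofArrows Wi pU ∈ Y.smallEtaleTopology U := by
    rw [Scheme.ofArrows_mem_smallEtaleTopology_iff]
    ext u
    simp only [Set.mem_iUnion, Set.mem_range, Set.mem_univ, iff_true]
    obtain ⟨i, v, hv⟩ := hV (U.hom.base u)
    obtain ⟨z, hz, -⟩ := Scheme.Pullback.exists_preimage_pullback (f := U.hom) (g := (V i).hom)
      u v hv.symm
    exact ⟨i, z, hz⟩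
  refine Y.smallEtaleTopology.superset_covering ?_ hcov
  rw [Sieve.ofArrows, Sieve.generate_le_iff]
  rintro _ _ ⟨i⟩
  obtain ⟨s⟩ := hne i
  exact ⟨Q.P.obj.map ((EtCoh.bc f).map (pV i)).op s⟩

theorem main {X Y : Scheme.{u}} (f : X ⟶ Y)
    [EtCoh.BCCont f] (F : Sheaf X.smallEtaleTopology GrpCat.{u + 1}) (Q : NonAbH1.Torsor F) :
    (∃ (P : NonAbH1.Torsor (((EtCoh.bc f).sheafPushforwardContinuous GrpCat.{u + 1}
        Y.smallEtaleTopology X.smallEtaleTopology).obj F))
      (φ : P.P ⟶ ((EtCoh.bc f).sheafPushforwardContinuous (Type (u + 1))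
        Y.smallEtaleTopology X.smallEtaleTopology).obj Q.P),
      ∀ (V : Y.Etaleᵒᵖ) (g : F.obj.obj (op ((EtCoh.bc f).obj V.unop))) (s : P.P.obj.obj V),
        φ.hom.app V (P.smul g s) = Q.smul g (φ.hom.app V s)) ↔
    ∃ (ι : Type u) (V : ι → Y.Etale), EtCoh.Covers V ∧
      ∀ i, Nonempty (Q.P.obj.obj (op ((EtCoh.bc f).obj (V i)))) := by
  constructor
  · rintro ⟨P, φ, -⟩
    obtain ⟨S, hS, hne⟩ := P.isTorsor.2 (EtCoh.top Y)
    have hch : ∀ y : Y, ∃ (V : Y.Etale) (g : V ⟶ EtCoh.top Y), S g ∧ y ∈ Set.range g.left :=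
      fun y => exists_mem_of_covering S hS y
    choose V g hg hy using hch
    refine ⟨Y, V, ?_, ?_⟩
    · intro y
      obtain ⟨z, hz⟩ := hy y
      refine ⟨y, z, ?_⟩
      have hw := MorphismProperty.Over.w (g y)
      have h2 : (V y).hom.base z = ((g y).left ≫ (EtCoh.top Y).hom).base z := by rw [hw]
      rw [h2]
      exact hz
    · intro y
      obtain ⟨s⟩ := hne (g y) (hg y)
      exact ⟨φ.hom.app (op (V y)) s⟩
  · rintro ⟨ι, V, hV, hne⟩
    refine ⟨⟨pushG f F Q.toGSheaf, ?_, pushG_locallyNonempty f F Q.toGSheaf ι V hV hne⟩, 𝟙 _, ?_⟩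
    · intro U p q
      exact Q.isTorsor.1 ((EtCoh.bc f).op.obj U) p q
    · intro V g s
      rfl

end

/-- Exactness of the sequence 0 → H¹(Y, f_*F) → H¹(X, F) → H⁰(Y, R¹f_*F) at its middle term, in terms of
torsors: let f : X ⟶ Y be a morphism of schemes, F a sheaf of groups on the small etale site of X,
f_*F its direct image on Y (sections over an etale Y-scheme V are the sections of F over X ×_Y V),
and Q an F-torsor. Then Q is the image of a class in H¹(Y, f_*F), in the sense that there are an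
f_*F-torsor P on Y and a morphism of sheaves of sets from P to the direct image of the sheaf
underlying Q which is equivariant for the actions of f_*F, if and only if the class of Q is locally
trivial over Y: there is a jointly surjective family of etale Y-schemes Y_i such that Q has a
section over every X ×_Y Y_i. -/
theorem result {X Y : Scheme.{u}} (f : X ⟶ Y)
    [EtCoh.BCCont f] (F : Sheaf X.smallEtaleTopology GrpCat.{u + 1}) (Q : NonAbH1.Torsor F) :
    (∃ (P : NonAbH1.Torsor (((EtCoh.bc f).sheafPushforwardContinuous GrpCat.{u + 1}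
        Y.smallEtaleTopology X.smallEtaleTopology).obj F))
      (φ : P.P ⟶ ((EtCoh.bc f).sheafPushforwardContinuous (Type (u + 1))
        Y.smallEtaleTopology X.smallEtaleTopology).obj Q.P),
      ∀ (V : Y.Etaleᵒᵖ) (g : F.obj.obj (op ((EtCoh.bc f).obj V.unop))) (s : P.P.obj.obj V),
        φ.hom.app V (P.smul g s) = Q.smul g (φ.hom.app V s)) ↔
    ∃ (ι : Type u) (V : ι → Y.Etale), EtCoh.Covers V ∧
      ∀ i, Nonempty (Q.P.obj.obj (op ((EtCoh.bc f).obj (V i)))) := by
  exact Groth.Agent.S8562.main f F Q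

end Groth.Agent.S8562
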