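import Groth.Statements.S8564
import Groth.Agent.S12106
import Groth.Agent.S6151

set_option autoImplicit false
open CategoryTheory CategoryTheory.Limits
universe u
open CohCx

namespace Groth.Agent.S8564

open Groth.Agent.Lib.Helper28 CategoryTheory.Limits

lemma cechAcyclic_of_totallyAcyclic {C : Type u} [SmallCategory C] {J : GrothendieckTopology C}
    (F : Sheaf J AddCommGrpCat.{u}) (hF : CohCx.IsTotallyAcyclic F) : TotAcyc.CechAcyclic F := by
  intro K' K f hf q
  exact (CechR.isZero_homology_homCx_iff (Arrow.mk f).cechNerve (TotAcyc.G J) F q).1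
    (Groth.Agent.S6151.result F hF f q)

/-- Let (F_t) be a family of abelian sheaves on a small site, indexed by a small set, such that each F_t
is totally acyclic, i.e. H^p(K, F_t) = 0 for every sheaf of sets K and every p > 0. Then the product
sheaf of the family is totally acyclic. (The published statement is for modules over a ringed topos;
this row is the case of abelian sheaves.) -/
theorem result {C : Type u} [SmallCategory C] (J : GrothendieckTopology C)
    {T : Type u} (F : T → Sheaf J AddCommGrpCat.{u}) (hF : ∀ t, CohCx.IsTotallyAcyclic (F t)) :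
    CohCx.IsTotallyAcyclic (∏ᶜ F) := by
  have hP : TotAcyc.CechAcyclic (∏ᶜ F) := by
    intro K' K f hf q x hx
    have h : ∀ t, ∃ y : (TotAcyc.L f).X q ⟶ F t,
        (TotAcyc.L f).d (q + 1) q ≫ y = x ≫ Pi.π F t := by
      intro t
      apply cechAcyclic_of_totallyAcyclic (F t) (hF t) K' K f hf q
      rw [← Category.assoc, hx, zero_comp]
    choose y hy using h
    refine ⟨Pi.lift y, ?_⟩
    refine Pi.hom_ext _ _ fun t => ?_
    rw [Category.assoc, Pi.lift_π, hy]
  intro K p
  exact subsingleton_of_forall_eq 0 fun x => TotAcyc.ext_eq_zero_of_cechAcyclic p _ hP K x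

end Groth.Agent.S8564
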