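import Groth.Statements.S8565
import Mathlib
import Groth.Agent.Lib.Helper86.HomotopyFamily
import Groth.Agent.Lib.Helper86.TruncFin

set_option autoImplicit false
open CategoryTheory CategoryTheory.Limits Opposite
universe v u
open Hyper

namespace Groth.Agent.S8565

open Simplicial SimplexCategory CategoryTheory.Functor

section helpers
open Groth.Agent.Lib.Helper86.HomotopyFamily

section
variable {E : Type u} [Category.{v} E] {n : ℕ}
  {T T' : (SimplexCategory.Truncated n)ᵒᵖ ⥤ E} (f' g' : T ⟶ T')

/-- `f'` and `g'` agree after restriction along a non-surjective map. -/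
lemma comp_eq_of_not_surjective
    (hfg : ∀ a : SimplexCategory.Truncated n, a.obj.len < n → f'.app (op a) = g'.app (op a))
    {a b : SimplexCategory.Truncated n} (ψ : a ⟶ b)
    (hψ : ¬ Function.Surjective ψ.hom.toOrderHom) :
    T.map ψ.op ≫ f'.app (op a) = T.map ψ.op ≫ g'.app (op a) := by
  by_cases ha : a.obj.len < n
  · rw [hfg a ha]
  · have han : a.obj.len = n := le_antisymm a.property (not_lt.mp ha)
    have hbn : b.obj.len ≤ n := b.property
    -- ψ is not injective
    have hinj : ¬ Function.Injective ψ.hom.toOrderHom := by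
      intro hi
      apply hψ
      have hc : Fintype.card (Fin (a.obj.len + 1)) ≤ Fintype.card (Fin (b.obj.len + 1)) :=
        Fintype.card_le_of_injective _ hi
      simp only [Fintype.card_fin] at hc
      have hab : a.obj.len = b.obj.len := by omega
      exact ((Fintype.bijective_iff_injective_and_card _).mpr
        ⟨hi, by simp only [Fintype.card_fin]; omega⟩).2
    obtain ⟨a, ha'⟩ := a
    obtain ⟨b, hb'⟩ := b
    induction a using SimplexCategory.rec with | _ m
    induction b using SimplexCategory.rec with | _ m'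
    dsimp at han
    obtain _ | m := m
    · exfalso
      apply hinj
      intro x y _
      have hx : ∀ z : Fin (0 + 1), z = 0 := fun z => Fin.eq_zero z
      exact (hx x).trans (hx y).symm
    · obtain ⟨i, θ', hθ'⟩ := SimplexCategory.eq_σ_comp_of_not_injective ψ.hom hinj
      have han' : m + 1 = n := han
      have hm : (⦋m⦌ : SimplexCategory).len ≤ n := by
        show m ≤ n
        omega
      let I : SimplexCategory.Truncated n := ⟨⦋m⦌, hm⟩
      let e : (⟨⦋m + 1⦌, ha'⟩ : SimplexCategory.Truncated n) ⟶ I := ObjectProperty.homMk (SimplexCategory.σ i)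
      let μ : I ⟶ (⟨⦋m'⦌, hb'⟩ : SimplexCategory.Truncated n) := ObjectProperty.homMk θ'
      have hfac : ψ = e ≫ μ := ObjectProperty.hom_ext _ hθ'
      have hI : f'.app (op I) = g'.app (op I) := hfg I (by
        show m < n
        omega)
      rw [hfac, op_comp, T.map_comp, Category.assoc, Category.assoc, f'.naturality, g'.naturality, hI]

end

section
variable {E : Type u} [Category.{v} E] {n : ℕ}

/-- a map to `⦋1⦌` is identically zero -/
def IsZ {m : SimplexCategory} (α : m ⟶ ⦋1⦌) : Prop := ∀ k, α.toOrderHom k = 0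

lemma IsZ_comp {m m' : SimplexCategory} (β : m' ⟶ m) {α : m ⟶ ⦋1⦌} (h : IsZ α) : IsZ (β ≫ α) :=
  fun k => h (β.toOrderHom k)

abbrev L (n : ℕ) := (SimplexCategory.Truncated.inclusion n).op

variable {T T' : (SimplexCategory.Truncated n)ᵒᵖ ⥤ E} (f' g' : T ⟶ T')
  {A B : SimplicialObject E} (εA : L n ⋙ A ⟶ T) (εB : L n ⋙ B ⟶ T')

open Classical in
/-- the choice between `f'` and `g'` -/
noncomputable def c {p : ℕ} (θ : ⦋p⦌ ⟶ ⦋1⦌) (j : StructuredArrow (op ⦋p⦌) (L n)) :
    T.obj j.right ⟶ T'.obj j.right :=
  if IsZ (j.hom.unop ≫ θ) then f'.app j.right else g'.app j.right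

lemma c_of_isZ {p : ℕ} (θ : ⦋p⦌ ⟶ ⦋1⦌) (j : StructuredArrow (op ⦋p⦌) (L n))
    (h : IsZ (j.hom.unop ≫ θ)) : c f' g' θ j = f'.app j.right := by
  unfold c; exact if_pos h

lemma c_of_not_isZ {p : ℕ} (θ : ⦋p⦌ ⟶ ⦋1⦌) (j : StructuredArrow (op ⦋p⦌) (L n))
    (h : ¬ IsZ (j.hom.unop ≫ θ)) : c f' g' θ j = g'.app j.right := by
  unfold c; exact if_neg h

include εA in
lemma base_nat (t : T ⟶ T') {p : ℕ} {j j' : StructuredArrow (op ⦋p⦌) (L n)} (a : j ⟶ j') :
    A.map j.hom ≫ εA.app j.right ≫ t.app j.right ≫ T'.map a.right =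
      A.map j'.hom ≫ εA.app j'.right ≫ t.app j'.right := by
  have h1 := εA.naturality a.right
  have h2 := StructuredArrow.w a
  dsimp at h1
  rw [← t.naturality, ← Category.assoc (εA.app j.right), ← h1, ← h2, A.map_comp]
  simp only [Category.assoc]
  rfl

/-- the cone defining `H θ`. -/
noncomputable def cone
    (hfg : ∀ a : SimplexCategory.Truncated n, a.obj.len < n → f'.app (op a) = g'.app (op a))
    {p : ℕ} (θ : ⦋p⦌ ⟶ ⦋1⦌) : Cone (StructuredArrow.proj (op ⦋p⦌) (L n) ⋙ T') where
  pt := A.obj (op ⦋p⦌)
  π :=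
    { app := fun j => A.map j.hom ≫ εA.app j.right ≫ c f' g' θ j
      naturality := fun j j' a => by
        change 𝟙 _ ≫ (A.map j'.hom ≫ εA.app j'.right ≫ c f' g' θ j') =
          (A.map j.hom ≫ εA.app j.right ≫ c f' g' θ j) ≫ T'.map a.right
        rw [Category.id_comp, Category.assoc, Category.assoc]
        have hw : j'.hom.unop = a.right.unop.hom ≫ j.hom.unop := by
          have h2 := StructuredArrow.w a
          rw [← h2]
          rfl
        by_cases hZ : IsZ (j.hom.unop ≫ θ)
        · have hZ' : IsZ (j'.hom.unop ≫ θ) := by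
            rw [hw, Category.assoc]
            exact IsZ_comp _ hZ
          rw [c_of_isZ f' g' θ j hZ, c_of_isZ f' g' θ j' hZ']
          exact (base_nat εA f' a).symm
        · by_cases hZ' : IsZ (j'.hom.unop ≫ θ)
          · rw [c_of_not_isZ f' g' θ j hZ, c_of_isZ f' g' θ j' hZ']
            have hns : ¬ Function.Surjective a.right.unop.hom.toOrderHom := by
              intro hs
              apply hZ
              intro k
              obtain ⟨k', rfl⟩ := hs k
              have := hZ' k'
              rw [hw] at this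
              exact this
            have hstar := comp_eq_of_not_surjective f' g' hfg a.right.unop hns
            rw [← base_nat εA f' a]
            congr 2
            rw [← g'.naturality, ← f'.naturality]
            exact hstar
          · rw [c_of_not_isZ f' g' θ j hZ, c_of_not_isZ f' g' θ j' hZ']
            exact (base_nat εA g' a).symm }


variable (hB : (RightExtension.mk B εB).IsPointwiseRightKanExtension)

include hB in
lemma hom_ext_B {p : ℕ} {W : E} (u v : W ⟶ B.obj (op ⦋p⦌))
    (h : ∀ j : StructuredArrow (op ⦋p⦌) (L n),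
      u ≫ B.map j.hom ≫ εB.app j.right = v ≫ B.map j.hom ≫ εB.app j.right) : u = v :=
  IsLimit.hom_ext (show IsLimit ((RightExtension.mk B εB).coneAt (op ⦋p⦌)) from hB (op ⦋p⦌)) h

/-- the component `H θ` -/
noncomputable def Hθ
    (hfg : ∀ a : SimplexCategory.Truncated n, a.obj.len < n → f'.app (op a) = g'.app (op a))
    {p : ℕ} (θ : ⦋p⦌ ⟶ ⦋1⦌) : A.obj (op ⦋p⦌) ⟶ B.obj (op ⦋p⦌) :=
  IsLimit.lift (show IsLimit ((RightExtension.mk B εB).coneAt (op ⦋p⦌)) from hB (op ⦋p⦌))
    (cone f' g' εA hfg θ)

lemma Hθ_fac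
    (hfg : ∀ a : SimplexCategory.Truncated n, a.obj.len < n → f'.app (op a) = g'.app (op a))
    {p : ℕ} (θ : ⦋p⦌ ⟶ ⦋1⦌) (j : StructuredArrow (op ⦋p⦌) (L n)) :
    Hθ f' g' εA εB hB hfg θ ≫ B.map j.hom ≫ εB.app j.right =
      A.map j.hom ≫ εA.app j.right ≫ c f' g' θ j :=
  IsLimit.fac (show IsLimit ((RightExtension.mk B εB).coneAt (op ⦋p⦌)) from hB (op ⦋p⦌))
    (cone f' g' εA hfg θ) j

/-- the family -/
noncomputable def fam
    (hfg : ∀ a : SimplexCategory.Truncated n, a.obj.len < n → f'.app (op a) = g'.app (op a)) :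
    Family A B where
  H {p} θ := Hθ f' g' εA εB hB hfg θ
  nat {p q} ψ θ := by
    apply hom_ext_B εB hB
    intro j
    let j' : StructuredArrow (op ⦋p⦌) (L n) := StructuredArrow.mk (ψ.op ≫ j.hom)
    have hfac := Hθ_fac f' g' εA εB hB hfg θ j'
    have hfac2 := Hθ_fac f' g' εA εB hB hfg (ψ ≫ θ) j
    have hc : c f' g' θ j' = c f' g' (ψ ≫ θ) j := by
      unfold c
      have : (j'.hom.unop ≫ θ) = (j.hom.unop ≫ ψ ≫ θ) := by
        rw [← Category.assoc]
        rfl
      rw [this]
      rfl
    have e1 : B.map ψ.op ≫ B.map j.hom ≫ εB.app j.right = B.map j'.hom ≫ εB.app j'.right := by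
      rw [← Category.assoc, ← B.map_comp]
      rfl
    have e2 : A.map ψ.op ≫ A.map j.hom ≫ εA.app j.right ≫ c f' g' (ψ ≫ θ) j =
        A.map j'.hom ≫ εA.app j'.right ≫ c f' g' θ j' := by
      rw [hc, ← Category.assoc, ← A.map_comp]
      rfl
    rw [Category.assoc, Category.assoc, hfac2, e1, hfac, e2]


include hB in
theorem homotopy_of_agree
    (hfg : ∀ a : SimplexCategory.Truncated n, a.obj.len < n → f'.app (op a) = g'.app (op a))
    (F G : A ⟶ B) (hF : whiskerLeft (L n) F ≫ εB = εA ≫ f')
    (hG : whiskerLeft (L n) G ≫ εB = εA ≫ g') :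
    Nonempty (SimplicialObject.Homotopy F G) := by
  refine ⟨(fam f' g' εA εB hB hfg).homotopy F G ?_ ?_⟩
  · intro p
    apply hom_ext_B εB hB
    intro j
    change _ = Hθ f' g' εA εB hB hfg _ ≫ _
    rw [Hθ_fac, c_of_isZ]
    · have h1 := congr_app hF j.right
      simp only [NatTrans.comp_app, whiskerLeft_app] at h1
      rw [← Category.assoc, ← F.naturality, Category.assoc]
      congr 1
    · intro k
      exact toMk₁_of_castSucc_lt _ _ (Fin.castSucc_lt_last _)
  · intro p
    apply hom_ext_B εB hB
    intro j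
    change _ = Hθ f' g' εA εB hB hfg _ ≫ _
    rw [Hθ_fac, c_of_not_isZ]
    · have h1 := congr_app hG j.right
      simp only [NatTrans.comp_app, whiskerLeft_app] at h1
      rw [← Category.assoc, ← G.naturality, Category.assoc]
      congr 1
    · intro hZ
      have h0 := hZ 0
      have h1 : (j.hom.unop ≫ toMk₁ (0 : Fin (p + 2))).toOrderHom 0 = 1 :=
        toMk₁_of_le_castSucc _ _ (Fin.zero_le _)
      rw [h1] at h0
      exact absurd h0 (by decide)

end

end helpers

/-- Let E be a category with finite limits, n a natural number and f, g : X ⟶ X' two morphisms of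
simplicial objects of E whose components agree in every degree p < n. Then there is a simplicial
homotopy between the morphisms cosk_n(f) and cosk_n(g) of n-coskeleta (cosk_n = right Kan extension
of the n-truncation; Mathlib's combinatorial simplicial homotopies). For n = 0 the hypothesis is
empty. -/
theorem result {E : Type u} [Category.{v} E] [HasFiniteLimits E] (n : ℕ)
    [∀ (F : (SimplexCategory.Truncated n)ᵒᵖ ⥤ E), (SimplexCategory.Truncated.inclusion n).op.HasRightKanExtension F]
    {X X' : SimplicialObject E} (f g : X ⟶ X')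
    (hfg : ∀ p : ℕ, p < n → f.app (op (SimplexCategory.mk p)) = g.app (op (SimplexCategory.mk p))) :
    Nonempty (SimplicialObject.Homotopy ((SimplicialObject.cosk n).map f) ((SimplicialObject.cosk n).map g)) := by
  open Groth.Agent.Lib.Helper86.TruncFin in
  haveI hpw : ∀ (F : (SimplexCategory.Truncated n)ᵒᵖ ⥤ E),
      (SimplexCategory.Truncated.inclusion n).op.HasPointwiseRightKanExtension F := by
    intro F Y
    dsimp [Functor.HasPointwiseRightKanExtensionAt]
    infer_instance
  let T := (SimplicialObject.truncation n).obj X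
  let T' := (SimplicialObject.truncation n).obj X'
  let f' : T ⟶ T' := (SimplicialObject.truncation n).map f
  let g' : T ⟶ T' := (SimplicialObject.truncation n).map g
  refine homotopy_of_agree f' g' ((L n).ranCounit.app T) ((L n).ranCounit.app T')
    ((L n).isPointwiseRightKanExtensionRanCounit T') ?_ _ _ ?_ ?_
  · intro a ha
    obtain ⟨a, ha'⟩ := a
    induction a using SimplexCategory.rec with | _ m
    exact hfg m ha
  · exact (L n).ranCounit.naturality f'
  · exact (L n).ranCounit.naturality g'

end Groth.Agent.S8565
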