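import Groth.Statements.S8567
import Groth.Agent.Lib.Helper68.NhdSec
import Groth.Agent.Lib.Helper68.TopRetract

set_option autoImplicit false
open CategoryTheory TopologicalSpace Opposite
universe u
open CohTop

namespace Groth.Agent.S8567

open Groth.Agent.Lib.Helper68

/-- Let X be a topological space, K ⊆ X a compact subset such that any two distinct points of K have
disjoint neighbourhoods in X, and F a flasque abelian sheaf on X. Then the inverse image F|K of F on
the subspace K is a soft sheaf: for every closed subset A of K, every section of (F|K)|A over A is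
the restriction of a section of F|K over K (the restriction map is the unit of the inverse image /
direct image adjunction for the inclusion A → K, taken on global sections). -/
theorem result {X : TopCat.{u}} {K : Set X} (hK : IsCompact K)
    (hsep : ∀ x ∈ K, ∀ y ∈ K, x ≠ y → ∃ U V : Set X, IsOpen U ∧ IsOpen V ∧ x ∈ U ∧ y ∈ V ∧ Disjoint U V)
    (F : CohTop.Ab X) [TopCat.Sheaf.IsFlasque F] {A : Set K} (hA : IsClosed A) :
    Function.Surjective
      ((((TopCat.Sheaf.pullbackPushforwardAdjunction AddCommGrpCat.{u}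
        (TopCat.ofHom ⟨((↑) : A → K), continuous_subtype_val⟩ : TopCat.of A ⟶ TopCat.of K)).unit.app
        ((CohTop.pull (TopCat.ofHom ⟨((↑) : K → X), continuous_subtype_val⟩ : TopCat.of K ⟶ X)).obj F)).hom.app
        (op ⊤)).hom) := by
  intro t
  let a : TopCat.of A ⟶ TopCat.of K := TopCat.ofHom ⟨((↑) : A → K), continuous_subtype_val⟩
  let k : TopCat.of K ⟶ X := TopCat.ofHom ⟨((↑) : K → X), continuous_subtype_val⟩
  let c : TopCat.of A ⟶ X := a ≫ k
  have hc : Topology.IsInducing c :=
    (Topology.IsInducing.subtypeVal (t := K)).comp (Topology.IsInducing.subtypeVal (t := A))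
  have hrange : Set.range c = Subtype.val '' A := by
    ext x
    constructor
    · rintro ⟨z, rfl⟩
      exact ⟨z.1, z.2, rfl⟩
    · rintro ⟨y, hy, rfl⟩
      exact ⟨⟨y, hy⟩, rfl⟩
  have hrK : Set.range c ⊆ K := by
    rw [hrange]
    rintro _ ⟨y, -, rfl⟩
    exact y.2
  have hcK : IsCompact (Set.range c) := by
    rw [hrange]
    have : CompactSpace K := isCompact_iff_compactSpace.mp hK
    exact hA.isCompact.image continuous_subtype_val
  have hsep' : ∀ x ∈ Set.range c, ∀ y ∈ Set.range c, x ≠ y →
      ∃ U V : Set X, IsOpen U ∧ IsOpen V ∧ x ∈ U ∧ y ∈ V ∧ Disjoint U V :=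
    fun x hx y hy hxy => hsep x (hrK hx) y (hrK hy) hxy
  let φ : (CohTop.pull a).obj ((CohTop.pull k).obj F) ≅ (CohTop.pull c).obj F :=
    (TopRetract.pullCompIso a k).app F
  let s : ToType ((NhdSec.G c F).obj.obj (op ⊤)) := φ.hom.hom.app (op ((Opens.map a).obj ⊤)) t
  obtain ⟨U, g, hU, hrep⟩ := NhdSec.exists_nhd_section hc hcK hsep' s
  -- extend `g` to a global section by flasqueness
  obtain ⟨g', hg'⟩ : ∃ g' : ToType (F.obj.obj (op ⊤)),
      F.obj.map (homOfLE (le_top : U ≤ ⊤)).op g' = g := by
    have hepi : Epi (F.obj.map (homOfLE (le_top : U ≤ ⊤)).op) := TopCat.Presheaf.IsFlasque.epi _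
    exact (AddCommGrpCat.epi_iff_surjective _).1 hepi g
  -- compatibility of units
  have H : (TopRetract.adj k).unit.app F ≫
      (CohTop.push k).map ((TopRetract.adj a).unit.app ((CohTop.pull k).obj F)) ≫
      (CohTop.push c).map φ.hom = (TopRetract.adj c).unit.app F := by
    have h1 := Adjunction.unit_leftAdjointUniq_hom_app
      (((TopRetract.adj k).comp (TopRetract.adj a)).ofNatIsoRight (TopRetract.pushCompIso a k))
      (TopRetract.adj (a ≫ k)) F
    have h2 : (((TopRetract.adj k).comp (TopRetract.adj a)).ofNatIsoRight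
        (TopRetract.pushCompIso a k)).unit.app F =
        ((TopRetract.adj k).comp (TopRetract.adj a)).unit.app F ≫
          (TopRetract.pushCompIso a k).hom.app _ := by
      rw [← Adjunction.homEquiv_id, Adjunction.homEquiv_ofNatIsoRight_apply, Adjunction.homEquiv_id]
    rw [h2, Adjunction.comp_unit_app] at h1
    refine Eq.trans ?_ h1
    have h4 : ∀ {P Q R S : CohTop.Ab X} (f₁ : P ⟶ Q) (f₂ : Q ⟶ R) (f₃ : R ⟶ S),
        f₁ ≫ f₂ ≫ f₃ = ((f₁ ≫ f₂) ≫ 𝟙 R) ≫ f₃ := by
      intros; simp
    exact h4 _ _ _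
  -- restriction from `⊤` to `U` is injective on `c_* c⁻¹ F`
  have hinjU : Function.Injective ((NhdSec.G c F).obj.map (homOfLE (le_top : U ≤ ⊤)).op) := by
    have hle : (Opens.map c).obj ⊤ ≤ (Opens.map c).obj U := fun z _ => hU (Set.mem_range_self z)
    have i1 : IsIso ((Opens.map c).map (homOfLE (le_top : U ≤ ⊤))) :=
      ⟨⟨homOfLE hle, Subsingleton.elim _ _, Subsingleton.elim _ _⟩⟩
    have i2 : IsIso ((NhdSec.G c F).obj.map (homOfLE (le_top : U ≤ ⊤)).op) := by
      change IsIso (((CohTop.pull c).obj F).obj.map ((Opens.map c).map (homOfLE (le_top : U ≤ ⊤))).op)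
      infer_instance
    exact (ConcreteCategory.bijective_of_isIso _).1
  have Hs : ((TopRetract.adj c).unit.app F).hom.app (op ⊤) g' = s := by
    apply hinjU
    have nat := ConcreteCategory.congr_hom
      ((NhdSec.η c F).hom.naturality (homOfLE (le_top : U ≤ ⊤)).op) g'
    simp only [ConcreteCategory.comp_apply] at nat
    exact nat.symm.trans ((congrArg _ hg').trans hrep)
  have hinjφ : Function.Injective (φ.hom.hom.app (op ((Opens.map a).obj ⊤))) := by
    intro x y hxy
    have hid : ∀ z, φ.inv.hom.app (op ((Opens.map a).obj ⊤))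
        (φ.hom.hom.app (op ((Opens.map a).obj ⊤)) z) = z := by
      intro z
      have := congrArg (fun m => m.hom.app (op ((Opens.map a).obj ⊤)) z) φ.hom_inv_id
      exact this
    rw [← hid x, hxy, hid y]
  refine ⟨((TopRetract.adj k).unit.app F).hom.app (op ⊤) g', ?_⟩
  apply hinjφ
  refine Eq.trans ?_ Hs
  rw [← H]
  rfl

end Groth.Agent.S8567
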