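import Groth.Statements.S8570
import Groth.Agent.Lib.Helper4.CCFinal

set_option autoImplicit false
open CategoryTheory TopologicalSpace
universe u
open CohTop

namespace Groth.Agent.S8570

/-- Let (U_i), i in I, be a locally finite covering of a topological space X by closed subsets and F an
abelian sheaf on X. The disjoint union of the U_i is then of cohomological descent over X, and the
descent spectral sequence reads, in existence form: there is a bounded spectral sequence of abelian
groups starting at page one, with E_1^{p,q} isomorphic for p, q ≥ 0 to the product, over all ordered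
(p+1)-tuples of indices (i_0, ..., i_p), of the groups H^q(U_{i_0} ∩ ... ∩ U_{i_p}, F|(U_{i_0} ∩ ...
∩ U_{i_p})) (inverse image of F on the closed subspace) and zero otherwise, together with abutment
data whose filtrations are finite on H^n(X, F) for n ≥ 0 (zero for n < 0). (The E_1 identifications
and the abutment isomorphisms are asserted to exist only; the first differential, which is the
alternating sum of the restriction maps, is not part of this statement.) -/
theorem result {X : TopCat.{u}} {I : Type u} (U : I → Set X)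
    (hU : ∀ i, IsClosed (U i)) (hlf : LocallyFinite U) (hcov : ⋃ i, U i = Set.univ) (F : CohTop.Ab X) :
    ∃ (E : CohomologicalSpectralSequence AddCommGrpCat.{u} 1)
      (a : SpSeq.Abutment E (fun n : ℤ =>
        if 0 ≤ n then AddCommGrpCat.of (CohTop.H F n.toNat) else AddCommGrpCat.of PUnit.{u + 1})),
      (∀ n, a.IsFinite n) ∧ SpSeq.IsBounded E ∧
      ∀ p q : ℤ, Nonempty ((E.page 1 le_rfl).X (p, q) ≅
        (if 0 ≤ p ∧ 0 ≤ q then
          AddCommGrpCat.of (∀ σ : Fin (p.toNat + 1) → I,
            CohTop.H ((CohTop.pull (TopCat.ofHom ⟨((↑) : (⋂ k, U (σ k) : Set X) → X), continuous_subtype_val⟩ :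
              TopCat.of (⋂ k, U (σ k) : Set X) ⟶ X)).obj F) q.toNat)
         else AddCommGrpCat.of PUnit.{u + 1})) := by
  obtain ⟨E, a, h1, h2, h3⟩ := Groth.Agent.Lib.Helper4.ResSS.exists_resSS
    (Groth.Agent.Lib.Helper4.CCFinal.Γ X) (Groth.Agent.Lib.Helper4.CCRes.K U F)
    (Groth.Agent.Lib.Helper4.CCRes.res_K U F hU hlf hcov) F
    (Groth.Agent.Lib.Helper4.CCRes.nonempty_iso_Z0 U F hU hlf hcov).some
    (fun n : ℤ =>
      if 0 ≤ n then AddCommGrpCat.of (CohTop.H F n.toNat) else AddCommGrpCat.of PUnit.{u + 1})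
    (fun n => by
      obtain ⟨i⟩ := Groth.Agent.Lib.Helper4.CCFinal.nonempty_rd_iso F n
      exact ⟨i ≪≫ eqToIso (by
        rw [if_pos (Int.natCast_nonneg n)]
        rfl)⟩)
    (fun n hn => by
      rw [if_neg (by omega)]
      exact AddCommGrpCat.isZero_of_subsingleton _)
  refine ⟨E, a, h1, h2, fun p q => ?_⟩
  by_cases hpq : 0 ≤ p ∧ 0 ≤ q
  · rw [if_pos hpq]
    obtain ⟨m, rfl⟩ := Int.eq_ofNat_of_zero_le hpq.1
    obtain ⟨n, rfl⟩ := Int.eq_ofNat_of_zero_le hpq.2
    obtain ⟨i⟩ := (h3 _ _).1 m n rfl rfl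
    obtain ⟨j⟩ := Groth.Agent.Lib.Helper4.CCFinal.nonempty_e1 U hU hlf F m n
    exact ⟨i ≪≫ j⟩
  · rw [if_neg hpq]
    exact ⟨((h3 p q).2 (by omega)).iso (AddCommGrpCat.isZero_of_subsingleton _)⟩

end Groth.Agent.S8570
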