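import Groth.Statements.S8572
import Groth.Agent.Lib.Helper4.LHAbut

set_option autoImplicit false
open CategoryTheory CategoryTheory.Limits TopologicalSpace
universe u
open CohTop

namespace Groth.Agent.S8572

/-- Let f : X → S be a surjective local homeomorphism of topological spaces and F an abelian sheaf on S.
Then f is of universal cohomological descent, and the descent spectral sequence reads, in existence
form: there is a bounded spectral sequence of abelian groups starting at page one with E_1^{p,q}
isomorphic, for p, q ≥ 0, to H^q(X_p, F|X_p), where X_p is the (p+1)-fold fibre product of X over S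
and F|X_p the inverse image of F along its projection to S, and zero otherwise, together with
abutment data whose filtrations are finite on H^n(S, F) for n ≥ 0 (zero for n < 0). (The E_1
identifications and the abutment isomorphisms are asserted to exist only; the differentials are not
part of this statement.) -/
theorem result {X S : TopCat.{u}} (f : X ⟶ S)
    (hf : IsLocalHomeomorph f) (hsurj : Function.Surjective f) (F : CohTop.Ab S) :
    ∃ (E : CohomologicalSpectralSequence AddCommGrpCat.{u} 1)
      (a : SpSeq.Abutment E (fun n : ℤ =>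
        if 0 ≤ n then AddCommGrpCat.of (CohTop.H F n.toNat) else AddCommGrpCat.of PUnit.{u + 1})),
      (∀ n, a.IsFinite n) ∧ SpSeq.IsBounded E ∧
      ∀ p q : ℤ, Nonempty ((E.page 1 le_rfl).X (p, q) ≅
        (if 0 ≤ p ∧ 0 ≤ q then
          AddCommGrpCat.of (CohTop.H ((CohTop.pull
            (WidePullback.base (fun _ : Fin (p.toNat + 1) => f) :
              widePullback S (fun _ : Fin (p.toNat + 1) => X) (fun _ => f) ⟶ S)).obj F) q.toNat)
         else AddCommGrpCat.of PUnit.{u + 1})) := by
  have hfo : IsOpenMap f.hom := hf.isOpenMap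
  have hinj : ∀ x : X, ∃ W : Opens X, x ∈ W ∧ Set.InjOn f.hom (W : Set X) :=
    fun x => Groth.Agent.Lib.Helper4.LHWide.exists_injOn_of_isLocalHomeomorph f hf x
  have hcov := Groth.Agent.Lib.Helper4.LHAbut.hcov_of_surjective f hfo hinj hsurj
  obtain ⟨E, a, h1, h2, h3⟩ := Groth.Agent.Lib.Helper4.E1SS.exists_e1ss
    (Groth.Agent.Lib.Helper4.LHCech.TT f)
    (fun Q hQ p => Groth.Agent.Lib.Helper4.LHCech.hTT f Q p) F
    (fun n : ℤ =>
      if 0 ≤ n then AddCommGrpCat.of (CohTop.H F n.toNat) else AddCommGrpCat.of PUnit.{u + 1})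
    (fun n => by
      obtain ⟨i⟩ := Groth.Agent.Lib.Helper4.LHAbut.nonempty_abut f hcov F n
      exact ⟨i ≪≫ eqToIso (by
        rw [if_pos (Int.natCast_nonneg n)]
        rfl)⟩)
    (fun n hn => by
      rw [if_neg (by omega)]
      exact AddCommGrpCat.isZero_of_subsingleton _)
  refine ⟨E, a, h1, h2, fun p q => ?_⟩
  by_cases hpq : 0 ≤ p ∧ 0 ≤ q
  · rw [if_pos hpq]
    obtain ⟨m, rfl⟩ := Int.eq_ofNat_of_zero_le hpq.1
    obtain ⟨n, rfl⟩ := Int.eq_ofNat_of_zero_le hpq.2
    obtain ⟨i⟩ := (h3 _ _).1 m n rfl rfl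
    obtain ⟨j⟩ := Groth.Agent.Lib.Helper4.LHAbut.nonempty_e1 f m hfo hinj F n
    exact ⟨i ≪≫ j⟩
  · rw [if_neg hpq]
    exact ⟨((h3 p q).2 (by omega)).iso (AddCommGrpCat.isZero_of_subsingleton _)⟩

end Groth.Agent.S8572
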