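import Groth.Statements.S8586
import Mathlib
-- import your own Groth.Agent.* helpers here

set_option autoImplicit false
universe u
open CAlg

namespace Groth.Agent.S8586

section
variable {A : Type u} [CommRing A] [IsNoetherianRing A] [IsLocalRing A] {d : ℕ}

def IsSop (x : Fin d → A) : Prop :=
  (∀ i, x i ∈ IsLocalRing.maximalIdeal A) ∧
    IsLocalRing.maximalIdeal A ≤ (Ideal.span (Set.range x)).radical

def Step (x y : Fin d → A) : Prop :=
  IsSop x ∧ IsSop y ∧ ∃ i : Fin d, ∀ i' : Fin d, i' ≠ i → x i' = y i'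

theorem Step.symm {x y : Fin d → A} (h : Step x y) : Step y x := by
  obtain ⟨hx, hy, i, hi⟩ := h
  exact ⟨hy, hx, i, fun i' hi' => (hi i' hi').symm⟩

omit [IsNoetherianRing A] in
theorem span_range_eq (x : Fin d → A) (i : Fin d) :
    Ideal.span (Set.range x) = Ideal.span (x '' {j | j ≠ i}) ⊔ Ideal.span {x i} := by
  rw [← Ideal.span_union]
  congr 1
  ext a
  constructor
  · rintro ⟨j, rfl⟩
    by_cases h : j = i
    · right; rw [h]; exact Set.mem_singleton _
    · left; exact ⟨j, h, rfl⟩
  · rintro (⟨j, _, rfl⟩ | h)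
    · exact ⟨j, rfl⟩
    · rw [Set.mem_singleton_iff] at h
      exact ⟨i, h.symm⟩

theorem sop_update (x : Fin d → A) (hx : IsSop x) (i : Fin d) (t : A)
    (ht : t ∈ IsLocalRing.maximalIdeal A)
    (hav : ∀ p ∈ (Ideal.span (x '' {j | j ≠ i})).minimalPrimes, t ∉ p) :
    IsSop (Function.update x i t) := by
  classical
  refine ⟨fun j => ?_, ?_⟩
  · by_cases h : j = i
    · rw [h, Function.update_self]; exact ht
    · rw [Function.update_of_ne h]; exact hx.1 j
  · rw [Ideal.radical_eq_sInf]
    apply le_sInf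
    rintro P ⟨hP, hPprime⟩
    have hJ : Ideal.span (x '' {j | j ≠ i}) ≤ P := by
      rw [Ideal.span_le]
      rintro _ ⟨j, hj, rfl⟩
      apply hP
      apply Ideal.subset_span
      exact ⟨j, by rw [Function.update_of_ne hj]⟩
    have htP : t ∈ P := by
      apply hP
      apply Ideal.subset_span
      exact ⟨i, by rw [Function.update_self]⟩
    obtain ⟨p, hp, hpP⟩ := Ideal.exists_minimalPrimes_le hJ
    have htp : t ∉ p := hav p hp
    have hpprime : p.IsPrime := hp.1.1
    by_contra hmP
    have hPm : P ≤ IsLocalRing.maximalIdeal A := IsLocalRing.le_maximalIdeal hPprime.ne_top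
    have hmmin : IsLocalRing.maximalIdeal A ∈ (p ⊔ Ideal.span {x i}).minimalPrimes := by
      refine ⟨⟨inferInstance, sup_le (hpP.trans hPm) ?_⟩, ?_⟩
      · rw [Ideal.span_le, Set.singleton_subset_iff]; exact hx.1 i
      · rintro Q ⟨hQprime, hQ⟩ hQm
        have h1 : Ideal.span (Set.range x) ≤ Q := by
          rw [span_range_eq x i]
          exact sup_le ((hp.1.2).trans (le_sup_left.trans hQ)) (le_sup_right.trans hQ)
        exact hx.2.trans (hQprime.radical_le_iff.mpr h1)
    have hheight := Ideal.map_height_le_one_of_mem_minimalPrimes hmmin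
    have hP' : (P.map (Ideal.Quotient.mk p)).IsPrime :=
      Ideal.map_isPrime_of_surjective Ideal.Quotient.mk_surjective (by rw [Ideal.mk_ker]; exact hpP)
    have hm' : ((IsLocalRing.maximalIdeal A).map (Ideal.Quotient.mk p)).IsPrime :=
      Ideal.map_isPrime_of_surjective Ideal.Quotient.mk_surjective
        (by rw [Ideal.mk_ker]; exact hpP.trans hPm)
    have hbot : (⊥ : Ideal (A ⧸ p)).IsPrime := Ideal.isPrime_bot
    have hcomapP : Ideal.comap (Ideal.Quotient.mk p) (P.map (Ideal.Quotient.mk p)) = P := by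
      rw [Ideal.comap_map_of_surjective _ Ideal.Quotient.mk_surjective, ← RingHom.ker_eq_comap_bot,
        Ideal.mk_ker, sup_eq_left]
      exact hpP
    have h1 : (⊥ : Ideal (A ⧸ p)) < P.map (Ideal.Quotient.mk p) := by
      rw [bot_lt_iff_ne_bot]
      intro h
      have : Ideal.Quotient.mk p t ∈ P.map (Ideal.Quotient.mk p) := Ideal.mem_map_of_mem _ htP
      rw [h, Ideal.mem_bot, Ideal.Quotient.eq_zero_iff_mem] at this
      exact htp this
    have h2 : P.map (Ideal.Quotient.mk p) < (IsLocalRing.maximalIdeal A).map (Ideal.Quotient.mk p) := by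
      refine lt_of_le_of_ne (Ideal.map_mono hPm) ?_
      intro h
      apply hmP
      intro a ha
      have : Ideal.Quotient.mk p a ∈ P.map (Ideal.Quotient.mk p) := by
        rw [h]; exact Ideal.mem_map_of_mem _ ha
      rw [← Ideal.mem_comap, hcomapP] at this
      exact this
    have e1 := Ideal.height_add_one_le_of_lt_of_isPrime h1
    have e2 := Ideal.height_add_one_le_of_lt_of_isPrime h2
    have e3 : (1 : ℕ∞) ≤ (P.map (Ideal.Quotient.mk p)).height := le_trans (by simp) e1
    have e4 : (1 : ℕ∞) + 1 ≤ 1 := (add_le_add_left e3 1).trans (e2.trans hheight)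
    exact absurd e4 (by decide)

theorem not_le_minimalPrime (hd : ringKrullDim A = d) (x : Fin d → A) (i : Fin d)
    (p : Ideal A) (hp : p ∈ (Ideal.span (x '' {j | j ≠ i})).minimalPrimes) :
    ¬ IsLocalRing.maximalIdeal A ≤ p := by
  intro hle
  have hpprime : p.IsPrime := hp.1.1
  have hpm : IsLocalRing.maximalIdeal A = p :=
    (IsLocalRing.maximalIdeal.isMaximal A).eq_of_le hpprime.ne_top hle
  have hfin : (x '' {j | j ≠ i}).Finite := Set.toFinite _
  have h1 := Ideal.height_le_card_of_mem_minimalPrimes_span hfin hp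
  have h2 : (x '' {j | j ≠ i}).ncard < d := by
    calc (x '' {j | j ≠ i}).ncard ≤ ({j | j ≠ i} : Set (Fin d)).ncard := Set.ncard_image_le
      _ < (Set.univ : Set (Fin d)).ncard := by
          apply Set.ncard_lt_ncard _ (Set.toFinite _)
          rw [Set.ssubset_univ_iff]
          intro h
          have : i ∈ ({j | j ≠ i} : Set (Fin d)) := by rw [h]; trivial
          exact this rfl
      _ = d := by rw [Set.ncard_univ, Nat.card_fin]
  have h3 : ((IsLocalRing.maximalIdeal A).height : WithBot ℕ∞) = (d : WithBot ℕ∞) := by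
    rw [IsLocalRing.maximalIdeal_height_eq_ringKrullDim, hd]
  have h4 : (IsLocalRing.maximalIdeal A).height = (d : ℕ∞) := by
    exact_mod_cast h3
  rw [hpm] at h4
  rw [h4] at h1
  have h5 : (d : ℕ∞) ≤ ((x '' {j | j ≠ i}).ncard : ℕ∞) := h1
  have h6 : d ≤ (x '' {j | j ≠ i}).ncard := by exact_mod_cast h5
  omega

theorem exists_common (hd : ringKrullDim A = d) (x y : Fin d → A) (hx : IsSop x) (hy : IsSop y)
    (i : Fin d) : ∃ t : A, IsSop (Function.update x i t) ∧ IsSop (Function.update y i t) := by
  classical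
  have hfx := Ideal.finite_minimalPrimes_of_isNoetherianRing A (Ideal.span (x '' {j | j ≠ i}))
  have hfy := Ideal.finite_minimalPrimes_of_isNoetherianRing A (Ideal.span (y '' {j | j ≠ i}))
  let s : Finset (Ideal A) := hfx.toFinset ∪ hfy.toFinset
  have hs : ∀ p ∈ s, p.IsPrime ∧ ¬ IsLocalRing.maximalIdeal A ≤ p := by
    intro p hp
    rw [Finset.mem_union, Set.Finite.mem_toFinset, Set.Finite.mem_toFinset] at hp
    rcases hp with hp | hp
    · exact ⟨hp.1.1, not_le_minimalPrime hd x i p hp⟩
    · exact ⟨hp.1.1, not_le_minimalPrime hd y i p hp⟩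
  have hex : ∃ t ∈ IsLocalRing.maximalIdeal A, ∀ p ∈ s, t ∉ p := by
    by_contra hcon
    push Not at hcon
    have hsub : ((IsLocalRing.maximalIdeal A : Ideal A) : Set A) ⊆ ⋃ p ∈ (↑s : Set (Ideal A)), (id p : Ideal A) := by
      intro t ht
      obtain ⟨p, hp, htp⟩ := hcon t ht
      rw [Set.mem_iUnion₂]
      exact ⟨p, hp, htp⟩
    rw [Ideal.subset_union_prime (f := id) ⊥ ⊥ (fun p hp _ _ => (hs p hp).1)] at hsub
    obtain ⟨p, hp, hle⟩ := hsub
    exact (hs p hp).2 hle
  obtain ⟨t, htm, hav⟩ := hex
  refine ⟨t, sop_update x hx i t htm ?_, sop_update y hy i t htm ?_⟩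
  · intro p hp
    apply hav
    rw [Finset.mem_union, Set.Finite.mem_toFinset]
    exact Or.inl hp
  · intro p hp
    apply hav
    rw [Finset.mem_union, Set.Finite.mem_toFinset, Set.Finite.mem_toFinset]
    exact Or.inr hp

theorem step_update (x : Fin d → A) (hx : IsSop x) (i : Fin d) (t : A)
    (hx' : IsSop (Function.update x i t)) : Step x (Function.update x i t) := by
  classical
  refine ⟨hx, hx', i, fun i' hi' => ?_⟩
  rw [Function.update_of_ne hi']

theorem rtg (hd : ringKrullDim A = d) (k : ℕ) :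
    ∀ x y : Fin d → A, IsSop x → IsSop y → (∀ j : Fin d, k ≤ j.val → x j = y j) →
      Relation.ReflTransGen Step x y := by
  classical
  induction k with
  | zero =>
    intro x y hx hy h
    have : x = y := funext fun j => h j (Nat.zero_le _)
    rw [this]
  | succ k ih =>
    intro x y hx hy h
    by_cases hk : k < d
    · obtain ⟨t, hxt, hyt⟩ := exists_common hd x y hx hy ⟨k, hk⟩
      have h1 := ih (Function.update x ⟨k, hk⟩ t) (Function.update y ⟨k, hk⟩ t) hxt hyt (by
        intro j hj
        by_cases hjk : j = ⟨k, hk⟩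
        · rw [hjk, Function.update_self, Function.update_self]
        · rw [Function.update_of_ne hjk, Function.update_of_ne hjk]
          apply h
          have : j.val ≠ k := fun h' => hjk (Fin.ext h')
          omega)
      exact (Relation.ReflTransGen.single (step_update x hx _ t hxt)).trans
        (h1.trans (Relation.ReflTransGen.single (step_update y hy _ t hyt).symm))
    · exact ih x y hx hy (fun j hj => absurd j.isLt (by omega))

omit [IsNoetherianRing A] in
theorem chain_of_rtg {x y : Fin d → A} (h : Relation.ReflTransGen Step x y) (hx : IsSop x) :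
    ∃ (m : ℕ) (w : Fin (m + 1) → Fin d → A), w 0 = x ∧ w (Fin.last m) = y ∧
      (∀ k : Fin (m + 1), IsSop (w k)) ∧
      (∀ k : Fin m, ∃ i : Fin d, ∀ i' : Fin d, i' ≠ i → w k.castSucc i' = w k.succ i') := by
  induction h using Relation.ReflTransGen.head_induction_on with
  | refl => exact ⟨0, fun _ => y, rfl, rfl, fun _ => hx, fun k => k.elim0⟩
  | head hab hbc ih =>
    rename_i a b
    obtain ⟨m, w, hw0, hwl, hws, hwstep⟩ := ih hab.2.1
    refine ⟨m + 1, Fin.cons a w, ?_, ?_, ?_, ?_⟩
    · rfl
    · rw [← Fin.succ_last, Fin.cons_succ]; exact hwl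
    · intro k
      refine Fin.cases ?_ (fun j => ?_) k
      · rw [Fin.cons_zero]; exact hx
      · rw [Fin.cons_succ]; exact hws j
    · intro k
      refine Fin.cases ?_ (fun j => ?_) k
      · obtain ⟨i, hi⟩ := hab.2.2
        refine ⟨i, fun i' hi' => ?_⟩
        have e1 : (Fin.castSucc (0 : Fin (m + 1))) = (0 : Fin (m + 2)) := rfl
        rw [e1, Fin.cons_zero, Fin.cons_succ, hw0]
        exact hi i' hi'
      · obtain ⟨i, hi⟩ := hwstep j
        refine ⟨i, fun i' hi' => ?_⟩
        have e1 : (Fin.castSucc j.succ : Fin (m + 2)) = (Fin.castSucc j).succ := rfl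
        rw [e1, Fin.cons_succ, Fin.cons_succ]
        exact hi i' hi'

end

/-- Suppose A is a Cohen–Macaulay local ring whose Krull dimension is d, and consider two systems of
parameters u = (u_1, ..., u_d) and v = (v_1, ..., v_d) of A (that is, d-tuples of elements of the
maximal ideal m such that the ideal they generate has radical m). Then one can find a finite
sequence w_0 = u, w_1, ..., w_m = v, each term a system of parameters of A, where w_{k+1} arises
from w_k by altering just one coordinate. -/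
theorem result (A : Type u) [CommRing A] [LocCoh.IsCohenMacaulayLocalRing A]
    (d : ℕ) (hd : ringKrullDim A = d) (u v : Fin d → A)
    (hu : ∀ i, u i ∈ IsLocalRing.maximalIdeal A) (hu' : IsLocalRing.maximalIdeal A ≤ (Ideal.span (Set.range u)).radical)
    (hv : ∀ i, v i ∈ IsLocalRing.maximalIdeal A) (hv' : IsLocalRing.maximalIdeal A ≤ (Ideal.span (Set.range v)).radical) :
    ∃ (m : ℕ) (w : Fin (m + 1) → Fin d → A), w 0 = u ∧ w (Fin.last m) = v ∧
      (∀ k : Fin (m + 1), (∀ i, w k i ∈ IsLocalRing.maximalIdeal A) ∧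
        IsLocalRing.maximalIdeal A ≤ (Ideal.span (Set.range (w k))).radical) ∧
      (∀ k : Fin m, ∃ i : Fin d, ∀ i' : Fin d, i' ≠ i → w k.castSucc i' = w k.succ i') := by
  have hrtg := rtg (A := A) hd d u v ⟨hu, hu'⟩ ⟨hv, hv'⟩ (fun j hj => absurd j.isLt (by omega))
  obtain ⟨m, w, hw0, hwl, hws, hwstep⟩ := chain_of_rtg hrtg ⟨hu, hu'⟩
  exact ⟨m, w, hw0, hwl, fun k => ⟨(hws k).1, (hws k).2⟩, hwstep⟩

end Groth.Agent.S8586
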