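import Groth.Statements.S8591
import Groth.Agent.Lib.Helper64.NormDet

set_option autoImplicit false
universe u
open CAlg

namespace Groth.Agent.S8591


/-- Let k be a commutative ring, M a finite free k-module, u an endomorphism of M with characteristic
polynomial χ, and P a polynomial over k. Then the norm, from the k-algebra k[T]/(χ) (free of rank
the rank of M) down to k, of the class of P(T) equals det(P(u)). (The published statement writes the
quotient by det(u - T), which generates the same ideal as χ(T) = det(T - u).) -/
theorem result (k : Type u) [CommRing k] (M : Type u) [AddCommGroup M] [Module k M]
    [Module.Free k M] [Module.Finite k M] (u : M →ₗ[k] M) (P : Polynomial k) :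
    Algebra.norm k (AdjoinRoot.mk u.charpoly P) = LinearMap.det (Polynomial.aeval u P) := by
  exact Groth.Agent.Lib.Helper64.NormDet.norm_eq_det_linearMap k M u P

end Groth.Agent.S8591
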