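import Groth.Statements.S8611
import Mathlib
-- import your own Groth.Agent.* helpers here

set_option autoImplicit false
universe w v u
open CategoryTheory CategoryTheory.Limits
open SGA4h

namespace Groth.Agent.S8611

section
variable {C : Type u} [Category.{v} C] [Abelian C]

theorem shortExact_of_mono {X Y : C} (u : X ⟶ Y) [Mono u] :
    (ShortComplex.mk u (cokernel.π u) (cokernel.condition u)).ShortExact :=
  { exact := ShortComplex.exact_cokernel u
    mono_f := by dsimp; infer_instance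
    epi_g := by dsimp; infer_instance }

variable (T T' : DeltaF.CohDeltaFunctor C AddCommGrpCat.{w} ℕ) (φ : T ⟶ T')

theorem E1 (S : ShortComplex C) (hS : S.ShortExact) (n₀ n₁ : ℕ) (h : n₀ + 1 = n₁)
    (α : (T.F n₁).obj S.X₁) (hα : (T.F n₁).map S.f α = 0) :
    ∃ z : (T.F n₀).obj S.X₃, T.δ S hS n₀ n₁ h z = α :=
  (ShortComplex.ab_exact_iff _).mp (T.exact₁ S hS n₀ n₁ h) α hα

theorem E3 (S : ShortComplex C) (hS : S.ShortExact) (n₀ n₁ : ℕ) (h : n₀ + 1 = n₁)
    (z : (T.F n₀).obj S.X₃) (hz : T.δ S hS n₀ n₁ h z = 0) :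
    ∃ y : (T.F n₀).obj S.X₂, (T.F n₀).map S.g y = z :=
  (ShortComplex.ab_exact_iff _).mp (T.exact₃ S hS n₀ n₁ h) z hz

theorem E2 (S : ShortComplex C) (hS : S.ShortExact) (n : ℕ)
    (y : (T.F n).obj S.X₂) (hy : (T.F n).map S.g y = 0) :
    ∃ x : (T.F n).obj S.X₁, (T.F n).map S.f x = y :=
  (ShortComplex.ab_exact_iff _).mp (T.exact₂ S hS n) y hy

theorem comp_δ_apply (S : ShortComplex C) (hS : S.ShortExact) (n₀ n₁ : ℕ) (h : n₀ + 1 = n₁)
    (y : (T.F n₀).obj S.X₂) : T.δ S hS n₀ n₁ h ((T.F n₀).map S.g y) = 0 := by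
  rw [← ConcreteCategory.comp_apply, T.comp_δ]
  rfl

variable {T T'}

theorem comm_apply (S : ShortComplex C) (hS : S.ShortExact) (n₀ n₁ : ℕ) (h : n₀ + 1 = n₁)
    (z : (T.F n₀).obj S.X₃) :
    (φ.app n₁).app S.X₁ (T.δ S hS n₀ n₁ h z) = T'.δ S hS n₀ n₁ h ((φ.app n₀).app S.X₃ z) := by
  rw [← ConcreteCategory.comp_apply, ← ConcreteCategory.comp_apply, φ.comm S hS n₀ n₁ h]

theorem nat_apply (n : ℕ) {X Y : C} (u : X ⟶ Y) (a : (T.F n).obj X) :
    (φ.app n).app Y ((T.F n).map u a) = (T'.F n).map u ((φ.app n).app X a) := by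
  rw [← ConcreteCategory.comp_apply, ← ConcreteCategory.comp_apply, (φ.app n).naturality]

theorem inj_step (q : ℕ) (hbij : ∀ A : C, Function.Bijective ((φ.app q).app A))
    (hT : ∀ (A : C) (α : (T.F (q + 1)).obj A),
      ∃ (M : C) (u : A ⟶ M), Mono u ∧ (T.F (q + 1)).map u α = 0) (A : C) :
    Function.Injective ((φ.app (q + 1)).app A) := by
  rw [← AddCommGrpCat.mono_iff_injective]
  rw [AddCommGrpCat.mono_iff_injective]
  rw [injective_iff_map_eq_zero]
  intro α hα
  obtain ⟨M, u, hu, hzero⟩ := hT A α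
  have hS := shortExact_of_mono u
  obtain ⟨z, hz⟩ := E1 T _ hS q (q + 1) rfl α hzero
  have h1 : T'.δ _ hS q (q + 1) rfl ((φ.app q).app _ z) = 0 := by
    rw [← comm_apply φ _ hS q (q + 1) rfl z, hz]
    exact hα
  obtain ⟨y', hy'⟩ := E3 T' _ hS q (q + 1) rfl _ h1
  obtain ⟨y, rfl⟩ := (hbij M).2 y'
  have h2 : (φ.app q).app _ ((T.F q).map (cokernel.π u) y) = (φ.app q).app _ z := by
    rw [nat_apply]
    exact hy'
  have h3 := (hbij _).1 h2
  rw [← hz, ← h3]
  exact comp_δ_apply T _ hS q (q + 1) rfl y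

theorem surj_eff (q : ℕ) (hsurj : ∀ A : C, Function.Surjective ((φ.app q).app A)) (A : C)
    (α' : (T'.F (q + 1)).obj A)
    (heff : ∃ (M : C) (u : A ⟶ M), Mono u ∧ (T'.F (q + 1)).map u α' = 0) :
    ∃ α, (φ.app (q + 1)).app A α = α' := by
  obtain ⟨M, u, hu, hzero⟩ := heff
  have hS := shortExact_of_mono u
  obtain ⟨z', hz'⟩ := E1 T' _ hS q (q + 1) rfl α' hzero
  obtain ⟨z, rfl⟩ := hsurj _ z'
  exact ⟨T.δ _ hS q (q + 1) rfl z, by rw [comm_apply φ _ hS q (q + 1) rfl z]; exact hz'⟩

theorem surj_E (q : ℕ) (E : ObjectProperty C)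
    (hE : ∀ A : C, ∃ (M : C) (i : A ⟶ M), Mono i ∧ E M)
    (hinj : ∀ A : C, Function.Injective ((φ.app (q + 1)).app A))
    (hsurj : ∀ A : C, Function.Surjective ((φ.app q).app A))
    (hEsurj : ∀ M : C, E M → Function.Surjective ((φ.app (q + 1)).app M)) (A : C) :
    Function.Surjective ((φ.app (q + 1)).app A) := by
  intro α'
  obtain ⟨M, u, hu, hM⟩ := hE A
  have hS := shortExact_of_mono u
  obtain ⟨m, hm⟩ := hEsurj M hM ((T'.F (q + 1)).map u α')
  have h1 : (T.F (q + 1)).map (cokernel.π u) m = 0 := by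
    apply hinj
    rw [nat_apply, hm, map_zero, ← ConcreteCategory.comp_apply, ← Functor.map_comp,
      cokernel.condition, Functor.map_zero]
    rfl
  obtain ⟨a, ha⟩ := E2 T _ hS (q + 1) m h1
  have ha' : (T.F (q + 1)).map u a = m := ha
  have h2 : (T'.F (q + 1)).map u ((φ.app (q + 1)).app A a - α') = 0 := by
    rw [map_sub, ← nat_apply, ha', hm, sub_self]
  obtain ⟨z', hz'⟩ := E1 T' _ hS q (q + 1) rfl _ h2
  obtain ⟨z, rfl⟩ := hsurj _ z'
  refine ⟨a - T.δ _ hS q (q + 1) rfl z, ?_⟩
  rw [map_sub, comm_apply φ _ hS q (q + 1) rfl z]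
  have hz'' : T'.δ _ hS q (q + 1) rfl ((φ.app q).app _ z) = (φ.app (q + 1)).app A a - α' := hz'
  rw [hz'']
  abel

theorem zero_E (hT0 : T.ZeroMono) (hT'0 : T'.ZeroMono) (E : ObjectProperty C)
    (hE : ∀ A : C, ∃ (M : C) (i : A ⟶ M), Mono i ∧ E M)
    (hE0 : ∀ M : C, E M → Function.Bijective ((φ.app 0).app M)) (A : C) :
    Function.Bijective ((φ.app 0).app A) := by
  have hinj : ∀ A : C, Function.Injective ((φ.app 0).app A) := by
    intro A
    rw [injective_iff_map_eq_zero]
    intro α hα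
    obtain ⟨M, u, hu, hM⟩ := hE A
    have hS := shortExact_of_mono u
    have hm : Function.Injective ((T.F 0).map u) :=
      (AddCommGrpCat.mono_iff_injective _).mp (hT0 _ hS)
    apply hm
    apply (hE0 M hM).1
    rw [nat_apply, hα, map_zero, map_zero, map_zero]
  refine ⟨hinj A, ?_⟩
  intro α'
  obtain ⟨M, u, hu, hM⟩ := hE A
  have hS := shortExact_of_mono u
  obtain ⟨m, hm⟩ := (hE0 M hM).2 ((T'.F 0).map u α')
  have h1 : (T.F 0).map (cokernel.π u) m = 0 := by
    apply hinj
    rw [nat_apply, hm, map_zero, ← ConcreteCategory.comp_apply, ← Functor.map_comp,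
      cokernel.condition, Functor.map_zero]
    rfl
  obtain ⟨a, ha⟩ := E2 T _ hS 0 m h1
  have ha' : (T.F 0).map u a = m := ha
  refine ⟨a, ?_⟩
  have hm' : Function.Injective ((T'.F 0).map u) :=
    (AddCommGrpCat.mono_iff_injective _).mp (hT'0 _ hS)
  apply hm'
  rw [← nat_apply, ha', hm]

end

/-- Let C be an abelian category, T and T' cohomological delta-functors on C in degrees ≥ 0 with values
in abelian groups, both left exact in degree 0, with T effaceable in every degree q > 0 (every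
element of T^q(A) is killed by T^q(u) for some monomorphism u : A → M, depending on the element),
and φ : T → T' a morphism of delta-functors. Let E be a class of objects such that every object
admits a monomorphism into a member of E. Then the following are equivalent: (i) φ^q(A) is bijective
for all q and all A; (ii) φ^0(M) is bijective and φ^q(M) is surjective for q > 0, for all M in E;
(iii) φ^0(A) is bijective for all A and T' is effaceable in every degree > 0 (in the same
element-wise sense). Stated as (i) ⇔ (ii) together with (i) ⇔ (iii). -/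
theorem result {C : Type u} [Category.{v} C] [Abelian C]
    (T T' : DeltaF.CohDeltaFunctor C AddCommGrpCat.{w} ℕ) (hT0 : T.ZeroMono) (hT'0 : T'.ZeroMono)
    (hT : ∀ (q : ℕ) (A : C) (α : (T.F (q + 1)).obj A),
      ∃ (M : C) (u : A ⟶ M), Mono u ∧ (T.F (q + 1)).map u α = 0)
    (φ : T ⟶ T') (E : ObjectProperty C)
    (hE : ∀ A : C, ∃ (M : C) (i : A ⟶ M), Mono i ∧ E M) :
    ((∀ (q : ℕ) (A : C), IsIso ((φ.app q).app A)) ↔
      ((∀ M : C, E M → IsIso ((φ.app 0).app M)) ∧
        ∀ (q : ℕ) (M : C), E M → Epi ((φ.app (q + 1)).app M))) ∧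
    ((∀ (q : ℕ) (A : C), IsIso ((φ.app q).app A)) ↔
      ((∀ A : C, IsIso ((φ.app 0).app A)) ∧
        ∀ (q : ℕ) (A : C) (α : (T'.F (q + 1)).obj A),
          ∃ (M : C) (u : A ⟶ M), Mono u ∧ (T'.F (q + 1)).map u α = 0)) := by
  have iso_iff : ∀ (q : ℕ) (A : C), IsIso ((φ.app q).app A) ↔ Function.Bijective ((φ.app q).app A) :=
    fun q A => ConcreteCategory.isIso_iff_bijective _
  constructor
  · constructor
    · intro h
      exact ⟨fun M _ => h 0 M, fun q M _ => by have := h (q + 1) M; infer_instance⟩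
    · rintro ⟨h0, hq⟩
      have key : ∀ (q : ℕ) (A : C), Function.Bijective ((φ.app q).app A) := by
        intro q
        induction q with
        | zero =>
          exact zero_E φ hT0 hT'0 E hE (fun M hM => (iso_iff 0 M).mp (h0 M hM))
        | succ q ih =>
          have hinj := inj_step φ q ih (hT q)
          intro A
          exact ⟨hinj A, surj_E φ q E hE hinj (fun A => (ih A).2)
            (fun M hM => (AddCommGrpCat.epi_iff_surjective _).mp (hq q M hM)) A⟩
      exact fun q A => (iso_iff q A).mpr (key q A)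
  · constructor
    · intro h
      refine ⟨fun A => h 0 A, fun q A α' => ?_⟩
      obtain ⟨α, rfl⟩ := ((iso_iff (q + 1) A).mp (h (q + 1) A)).2 α'
      obtain ⟨M, u, hu, hzero⟩ := hT q A α
      refine ⟨M, u, hu, ?_⟩
      rw [← nat_apply, hzero, map_zero]
    · rintro ⟨h0, heff⟩
      have key : ∀ (q : ℕ) (A : C), Function.Bijective ((φ.app q).app A) := by
        intro q
        induction q with
        | zero => exact fun A => (iso_iff 0 A).mp (h0 A)
        | succ q ih =>
          intro A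
          exact ⟨inj_step φ q ih (hT q) A,
            fun α' => surj_eff φ q (fun A => (ih A).2) A α' (heff q A α')⟩
      exact fun q A => (iso_iff q A).mpr (key q A)

end Groth.Agent.S8611
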