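import Groth.Statements.S8612
import Mathlib
import Groth.Agent.S8611
import Groth.Agent.Lib.Helper93.AbFilteredColim

set_option autoImplicit false
universe w v u
open CategoryTheory CategoryTheory.Limits
open SGA4h

namespace Groth.Agent.S8612


section
open Groth.Agent.S8611 Groth.Agent.Lib.Helper93
variable {C : Type u} [Category.{v} C] [Abelian C]
variable {T T' : DeltaF.CohDeltaFunctor C AddCommGrpCat.{w} ℕ} (φ : T ⟶ T')

theorem inj_step' (q : ℕ) (hbij : ∀ A : C, Function.Bijective ((φ.app q).app A))
    (A : C) (α : (T.F (q + 1)).obj A) (hα : (φ.app (q + 1)).app A α = 0)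
    (M : C) (u : A ⟶ M) [Mono u] (hzero : (T.F (q + 1)).map u α = 0) : α = 0 := by
  have hS := shortExact_of_mono u
  obtain ⟨z, hz⟩ := E1 T _ hS q (q + 1) rfl α hzero
  have h1 : T'.δ _ hS q (q + 1) rfl ((φ.app q).app _ z) = 0 := by
    rw [← comm_apply φ _ hS q (q + 1) rfl z, hz]
    exact hα
  obtain ⟨y', hy'⟩ := E3 T' _ hS q (q + 1) rfl _ h1
  obtain ⟨y, rfl⟩ := (hbij M).2 y'
  have h2 : (φ.app q).app _ ((T.F q).map (cokernel.π u) y) = (φ.app q).app _ z := by
    rw [nat_apply]
    exact hy'
  have h3 := (hbij _).1 h2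
  rw [← hz, ← h3]
  exact comp_δ_apply T _ hS q (q + 1) rfl y

theorem surj_E' (q : ℕ)
    (hinj : ∀ A : C, Function.Injective ((φ.app (q + 1)).app A))
    (hsurj : ∀ A : C, Function.Surjective ((φ.app q).app A))
    (A M : C) (u : A ⟶ M) [Mono u]
    (hEsurj : Function.Surjective ((φ.app (q + 1)).app M)) :
    Function.Surjective ((φ.app (q + 1)).app A) := by
  intro α'
  have hS := shortExact_of_mono u
  obtain ⟨m, hm⟩ := hEsurj ((T'.F (q + 1)).map u α')
  have h1 : (T.F (q + 1)).map (cokernel.π u) m = 0 := by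
    apply hinj
    rw [nat_apply, hm, map_zero, ← ConcreteCategory.comp_apply, ← Functor.map_comp,
      cokernel.condition, Functor.map_zero]
    rfl
  obtain ⟨a, ha⟩ := E2 T _ hS (q + 1) m h1
  have ha' : (T.F (q + 1)).map u a = m := ha
  have h2 : (T'.F (q + 1)).map u ((φ.app (q + 1)).app A a - α') = 0 := by
    rw [map_sub, ← nat_apply, ha', hm, sub_self]
  obtain ⟨z', hz'⟩ := E1 T' _ hS q (q + 1) rfl _ h2
  obtain ⟨z, rfl⟩ := hsurj _ z'
  refine ⟨a - T.δ _ hS q (q + 1) rfl z, ?_⟩
  rw [map_sub, comm_apply φ _ hS q (q + 1) rfl z]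
  have hz'' : T'.δ _ hS q (q + 1) rfl ((φ.app q).app _ z) = (φ.app (q + 1)).app A a - α' := hz'
  rw [hz'']
  abel

theorem zero_surj' (hT'0 : T'.ZeroMono)
    (hinj : ∀ A : C, Function.Injective ((φ.app 0).app A))
    (A M : C) (u : A ⟶ M) [Mono u]
    (hEsurj : Function.Surjective ((φ.app 0).app M)) :
    Function.Surjective ((φ.app 0).app A) := by
  intro α'
  have hS := shortExact_of_mono u
  obtain ⟨m, hm⟩ := hEsurj ((T'.F 0).map u α')
  have h1 : (T.F 0).map (cokernel.π u) m = 0 := by
    apply hinj
    rw [nat_apply, hm, map_zero, ← ConcreteCategory.comp_apply, ← Functor.map_comp,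
      cokernel.condition, Functor.map_zero]
    rfl
  obtain ⟨a, ha⟩ := E2 T _ hS 0 m h1
  have ha' : (T.F 0).map u a = m := ha
  refine ⟨a, ?_⟩
  have hm' : Function.Injective ((T'.F 0).map u) :=
    (AddCommGrpCat.mono_iff_injective _).mp (hT'0 _ hS)
  apply hm'
  rw [← nat_apply, ha', hm]

theorem zero_inj' (hT0 : T.ZeroMono) (A M : C) (u : A ⟶ M) [Mono u]
    (hM : Function.Injective ((φ.app 0).app M)) :
    Function.Injective ((φ.app 0).app A) := by
  rw [injective_iff_map_eq_zero]
  intro α hα
  have hS := shortExact_of_mono u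
  have hm : Function.Injective ((T.F 0).map u) :=
    (AddCommGrpCat.mono_iff_injective _).mp (hT0 _ hS)
  apply hm
  apply hM
  rw [nat_apply, hα, map_zero, map_zero, map_zero]

theorem iso_transfer (q : ℕ) {X A : C} (e : X ≅ A) :
    (Function.Injective ((φ.app q).app X) → Function.Injective ((φ.app q).app A)) ∧
    (Function.Surjective ((φ.app q).app X) → Function.Surjective ((φ.app q).app A)) := by
  constructor
  · intro h a b hab
    have h1 : (T.F q).map e.inv a = (T.F q).map e.inv b := by
      apply h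
      rw [nat_apply, nat_apply, hab]
    have hid : (T.F q).map e.inv ≫ (T.F q).map e.hom = 𝟙 _ := by
      rw [← CategoryTheory.Functor.map_comp, e.inv_hom_id, CategoryTheory.Functor.map_id]
    have h2 := congrArg ((T.F q).map e.hom) h1
    rw [← ConcreteCategory.comp_apply, ← ConcreteCategory.comp_apply, hid] at h2
    exact h2
  · intro h a'
    obtain ⟨x, hx⟩ := h ((T'.F q).map e.inv a')
    refine ⟨(T.F q).map e.hom x, ?_⟩
    have hid : (T'.F q).map e.inv ≫ (T'.F q).map e.hom = 𝟙 _ := by
      rw [← CategoryTheory.Functor.map_comp, e.inv_hom_id, CategoryTheory.Functor.map_id]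
    rw [nat_apply, hx, ← ConcreteCategory.comp_apply, hid]
    rfl

variable [HasFilteredColimitsOfSize.{v, v} C]
  [∀ n, PreservesFilteredColimitsOfSize.{v, v} (T.F n)]
  [∀ n, PreservesFilteredColimitsOfSize.{v, v} (T'.F n)]

theorem colim_inj (q : ℕ) {J : Type v} [SmallCategory J] [IsFiltered J] (K : J ⥤ C)
    (c : Cocone K) (hc : IsColimit c)
    (hK : ∀ j, Function.Injective ((φ.app q).app (K.obj j))) :
    Function.Injective ((φ.app q).app c.pt) := by
  rw [injective_iff_map_eq_zero]
  intro x hx
  have hcT : IsColimit ((T.F q).mapCocone c) := isColimitOfPreserves (T.F q) hc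
  have hcT' : IsColimit ((T'.F q).mapCocone c) := isColimitOfPreserves (T'.F q) hc
  obtain ⟨j, y, hy⟩ := ab_exists_rep (K ⋙ T.F q) hcT x
  have hy' : (T.F q).map (c.ι.app j) y = x := hy
  have h1 : ((T'.F q).mapCocone c).ι.app j ((φ.app q).app (K.obj j) y) = 0 := by
    change (T'.F q).map (c.ι.app j) ((φ.app q).app (K.obj j) y) = 0
    have hn : (φ.app q).app c.pt ((T.F q).map (c.ι.app j) y) =
        (T'.F q).map (c.ι.app j) ((φ.app q).app (K.obj j) y) := nat_apply φ q (c.ι.app j) y
    rw [hy', hx] at hn
    exact hn.symm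
  obtain ⟨k, f, hf⟩ := ab_eq_zero (K ⋙ T'.F q) hcT' _ h1
  have hf' : (T'.F q).map (K.map f) ((φ.app q).app (K.obj j) y) = 0 := hf
  rw [← nat_apply] at hf'
  have h2 : (T.F q).map (K.map f) y = 0 := by
    apply hK k
    rw [hf', map_zero]
  rw [← hy', ← c.w f, Functor.map_comp, ConcreteCategory.comp_apply, h2, map_zero]

theorem colim_surj (q : ℕ) {J : Type v} [SmallCategory J] [IsFiltered J] (K : J ⥤ C)
    (c : Cocone K) (hc : IsColimit c)
    (hK : ∀ j, Function.Surjective ((φ.app q).app (K.obj j))) :
    Function.Surjective ((φ.app q).app c.pt) := by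
  intro x'
  have hcT' : IsColimit ((T'.F q).mapCocone c) := isColimitOfPreserves (T'.F q) hc
  obtain ⟨j, y', hy'⟩ := ab_exists_rep (K ⋙ T'.F q) hcT' x'
  have hy'' : (T'.F q).map (c.ι.app j) y' = x' := hy'
  obtain ⟨y, rfl⟩ := hK j y'
  have hn : (φ.app q).app c.pt ((T.F q).map (c.ι.app j) y) =
      (T'.F q).map (c.ι.app j) ((φ.app q).app (K.obj j) y) := nat_apply φ q (c.ι.app j) y
  exact ⟨(T.F q).map (c.ι.app j) y, by rw [hn, hy'']⟩

end

/-- Let C be an abelian category with filtered colimits, T and T' cohomological delta-functors on C in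
degrees ≥ 0 with values in abelian groups, both left exact in degree 0 and commuting with filtered
colimits in every degree, and φ : T → T' a morphism of delta-functors. Let D and E be classes of
objects such that (a) every object of C is a filtered colimit of objects of D and (b) every object
of D admits a monomorphism into a member of E. Then φ^q(A) is bijective for all q and all A if and
only if φ^q(M) is bijective for all q and all M in E. -/
theorem result {C : Type u} [Category.{v} C] [Abelian C]
    [HasFilteredColimitsOfSize.{v, v} C]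
    (T T' : DeltaF.CohDeltaFunctor C AddCommGrpCat.{w} ℕ) (hT0 : T.ZeroMono) (hT'0 : T'.ZeroMono)
    [∀ n, PreservesFilteredColimitsOfSize.{v, v} (T.F n)] [∀ n, PreservesFilteredColimitsOfSize.{v, v} (T'.F n)]
    (φ : T ⟶ T') (D E : ObjectProperty C)
    (hD : ∀ A : C, ∃ (J : Type v) (_ : SmallCategory J) (_ : IsFiltered J) (K : J ⥤ C) (c : Cocone K)
      (_ : IsColimit c), (∀ j, D (K.obj j)) ∧ Nonempty (c.pt ≅ A))
    (hE : ∀ A : C, D A → ∃ (M : C) (i : A ⟶ M), Mono i ∧ E M) :
    (∀ (q : ℕ) (A : C), IsIso ((φ.app q).app A)) ↔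
      ∀ (q : ℕ) (M : C), E M → IsIso ((φ.app q).app M) := by
  have iso_iff : ∀ (q : ℕ) (A : C), IsIso ((φ.app q).app A) ↔ Function.Bijective ((φ.app q).app A) :=
    fun q A => ConcreteCategory.isIso_iff_bijective _
  constructor
  · intro h q M _
    exact h q M
  · intro h
    have hEb : ∀ (q : ℕ) (M : C), E M → Function.Bijective ((φ.app q).app M) :=
      fun q M hM => (iso_iff q M).mp (h q M hM)
    have allInj : ∀ q : ℕ, (∀ A : C, D A → Function.Injective ((φ.app q).app A)) →
        ∀ A : C, Function.Injective ((φ.app q).app A) := by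
      intro q hq A
      obtain ⟨J, _, _, K, c, hc, hK, ⟨e⟩⟩ := hD A
      exact (iso_transfer φ q e).1 (colim_inj φ q K c hc (fun j => hq _ (hK j)))
    have allSurj : ∀ q : ℕ, (∀ A : C, D A → Function.Surjective ((φ.app q).app A)) →
        ∀ A : C, Function.Surjective ((φ.app q).app A) := by
      intro q hq A
      obtain ⟨J, _, _, K, c, hc, hK, ⟨e⟩⟩ := hD A
      exact (iso_transfer φ q e).2 (colim_surj φ q K c hc (fun j => hq _ (hK j)))
    have key : ∀ (q : ℕ) (A : C), Function.Bijective ((φ.app q).app A) := by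
      intro q
      induction q with
      | zero =>
        have hinj : ∀ A : C, Function.Injective ((φ.app 0).app A) := by
          apply allInj
          intro A hA
          obtain ⟨M, u, hu, hM⟩ := hE A hA
          exact zero_inj' φ hT0 A M u (hEb 0 M hM).1
        have hsurj : ∀ A : C, Function.Surjective ((φ.app 0).app A) := by
          apply allSurj
          intro A hA
          obtain ⟨M, u, hu, hM⟩ := hE A hA
          exact zero_surj' φ hT'0 hinj A M u (hEb 0 M hM).2
        exact fun A => ⟨hinj A, hsurj A⟩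
      | succ q ih =>
        have hinj : ∀ A : C, Function.Injective ((φ.app (q + 1)).app A) := by
          apply allInj
          intro A hA
          obtain ⟨M, u, hu, hM⟩ := hE A hA
          rw [injective_iff_map_eq_zero]
          intro α hα
          refine inj_step' φ q ih A α hα M u ?_
          apply (hEb (q + 1) M hM).1
          rw [Groth.Agent.S8611.nat_apply, hα, map_zero, map_zero]
        have hsurj : ∀ A : C, Function.Surjective ((φ.app (q + 1)).app A) := by
          apply allSurj
          intro A hA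
          obtain ⟨M, u, hu, hM⟩ := hE A hA
          exact surj_E' φ q hinj (fun A => (ih A).2) A M u (hEb (q + 1) M hM).2
        exact fun A => ⟨hinj A, hsurj A⟩
    exact fun q A => (iso_iff q A).mpr (key q A)

end Groth.Agent.S8612
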