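import Groth.Statements.S8616
import Mathlib.CategoryTheory.Abelian.Injective.Resolution
import Mathlib.CategoryTheory.Abelian.RightDerived

set_option autoImplicit false
universe u
open CategoryTheory CategoryTheory.Limits AlgebraicGeometry
open SGA4h

namespace Groth.Agent.S8616

section General

universe v₁ v₂ v₃ u₁ u₂ u₃

variable {A : Type u₁} [Category.{v₁} A] [Abelian A] [HasInjectiveResolutions A]
  {B : Type u₂} [Category.{v₂} B] [Abelian B] [HasInjectiveResolutions B]
  {C : Type u₃} [Category.{v₃} C] [Abelian C]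
  (Φ : A ⥤ B) [Φ.Additive] [Φ.PreservesInjectiveObjects] [PreservesFiniteLimits Φ]
  (Ψ : B ⥤ C) [Ψ.Additive]

theorem quasiIso_mapAug {X : A} (I : InjectiveResolution X)
    (h : ∀ q : ℕ, 0 < q → IsZero ((Φ.rightDerived q).obj X)) :
    QuasiIso (RDer.mapAug Φ I.ι) := by
  refine ⟨fun n => ?_⟩
  cases n with
  | zero =>
    rw [CochainComplex.quasiIsoAt₀_iff, ShortComplex.quasiIso_iff_of_zeros]
    · have hz : Φ.map (I.ι.f 0) ≫ Φ.map (I.cocomplex.d 0 1) = 0 := by
        rw [← Φ.map_comp, I.ι_f_zero_comp_complex_d, Φ.map_zero]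
      have hk : IsLimit (KernelFork.ofι (Φ.map (I.ι.f 0)) hz :
          KernelFork (Φ.map (I.cocomplex.d 0 1))) :=
        KernelFork.mapIsLimit _ (I.isLimitKernelFork) Φ
      have hex := (ShortComplex.exact_and_mono_f_iff_f_is_kernel
        (ShortComplex.mk (Φ.map (I.ι.f 0)) (Φ.map (I.cocomplex.d 0 1)) hz)).2 ⟨hk⟩
      refine (ShortComplex.exact_and_mono_f_iff_of_iso ?_).2 hex
      refine ShortComplex.isoMk
        ((HomologicalComplex.eval B (ComplexShape.up ℕ) 0).mapIso
          ((HomologicalComplex.singleMapHomologicalComplex Φ (ComplexShape.up ℕ) 0).app X))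
        (Iso.refl _) (Iso.refl _) ?_ ?_
      · dsimp [RDer.mapAug]
        simp
        erw [Category.comp_id]
        rfl
      · exact (Category.id_comp _).trans (Category.comp_id _).symm
    · rfl
    · rfl
    · first | rfl | (simp; rfl) | simp
  | succ n =>
    rw [quasiIsoAt_iff_exactAt]
    · rw [HomologicalComplex.exactAt_iff_isZero_homology]
      exact (h (n + 1) (Nat.succ_pos n)).of_iso (I.isoRightDerivedObj Φ (n + 1)).symm
    · apply CochainComplex.exactAt_succ_single_obj

noncomputable def mapRes {X : A} (I : InjectiveResolution X)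
    (h : ∀ q : ℕ, 0 < q → IsZero ((Φ.rightDerived q).obj X)) :
    InjectiveResolution (Φ.obj X) where
  cocomplex := (Φ.mapHomologicalComplex _).obj I.cocomplex
  injective n := Functor.PreservesInjectiveObjects.injective_obj (I.injective n)
  ι := RDer.mapAug Φ I.ι
  quasiIso := quasiIso_mapAug Φ I h

theorem isIso_homologyMap_of_comm {Y : B} (J J' : InjectiveResolution Y)
    (φ : J.cocomplex ⟶ J'.cocomplex) (hφ : J.ι ≫ φ = J'.ι) (q : ℕ) :
    IsIso ((HomologicalComplex.homologyFunctor C _ q).map
      ((Ψ.mapHomologicalComplex _).map φ)) := by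
  let ψ : J'.cocomplex ⟶ J.cocomplex := InjectiveResolution.desc (𝟙 Y) J J'
  have hψ : J'.ι ≫ ψ = J.ι := by
    have := InjectiveResolution.desc_commutes (𝟙 Y) J J'
    rw [this, CategoryTheory.Functor.map_id, Category.id_comp]
  have h1 : Homotopy (φ ≫ ψ) (𝟙 J.cocomplex) :=
    InjectiveResolution.descHomotopy (𝟙 Y) _ _
      (by rw [← Category.assoc, hφ, hψ, CategoryTheory.Functor.map_id, Category.id_comp])
      (by rw [Category.comp_id, CategoryTheory.Functor.map_id, Category.id_comp])
  have h2 : Homotopy (ψ ≫ φ) (𝟙 J'.cocomplex) :=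
    InjectiveResolution.descHomotopy (𝟙 Y) _ _
      (by rw [← Category.assoc, hψ, hφ, CategoryTheory.Functor.map_id, Category.id_comp])
      (by rw [Category.comp_id, CategoryTheory.Functor.map_id, Category.id_comp])
  have e1 := (Ψ.mapHomotopy h1).homologyMap_eq q
  have e2 := (Ψ.mapHomotopy h2).homologyMap_eq q
  rw [CategoryTheory.Functor.map_comp, HomologicalComplex.homologyMap_comp, CategoryTheory.Functor.map_id,
    HomologicalComplex.homologyMap_id] at e1 e2
  exact ⟨⟨HomologicalComplex.homologyMap ((Ψ.mapHomologicalComplex _).map ψ) q, e1, e2⟩⟩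

theorem isIso_edgeIn (X : A) (h : ∀ q : ℕ, 0 < q → IsZero ((Φ.rightDerived q).obj X)) (q : ℕ) :
    IsIso (RDer.edgeIn Φ Ψ q X) := by
  have hcomm : (injectiveResolution (Φ.obj X)).ι ≫
      RDer.descToInjectives (𝟙 (Φ.obj X)) (injectiveResolution (Φ.obj X)).cocomplex
        (injectiveResolution (Φ.obj X)).ι
        ((Φ.mapHomologicalComplex _).obj (injectiveResolution X).cocomplex)
        (RDer.mapAug Φ (injectiveResolution X).ι) =
      (mapRes Φ (injectiveResolution X) h).ι := by
    apply HomologicalComplex.from_single_hom_ext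
    have := RDer.ι_descToInjectives_f_zero (𝟙 (Φ.obj X)) (injectiveResolution (Φ.obj X)).cocomplex
        (injectiveResolution (Φ.obj X)).ι
        ((Φ.mapHomologicalComplex _).obj (injectiveResolution X).cocomplex)
        (RDer.mapAug Φ (injectiveResolution X).ι)
    rw [Category.id_comp] at this
    exact this
  have hiso := isIso_homologyMap_of_comm Ψ (injectiveResolution (Φ.obj X))
    (mapRes Φ (injectiveResolution X) h) _ hcomm q
  unfold RDer.edgeIn
  refine @IsIso.comp_isIso _ _ _ _ _ _ _ inferInstance ?_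
  exact @IsIso.comp_isIso _ _ _ _ _ _ _ hiso inferInstance

end General


/-- Let f : X → Y and g : Y → Z be morphisms of quasi-compact quasi-separated schemes and F an abelian
etale sheaf on X with R^q f_* F = 0 for all q > 0. Then for every p the Leray edge map R^p g_*(f_*
F) → R^p (g ∘ f)_* F is an isomorphism. -/
theorem result {X Y Z : Scheme.{u}}
    [CompactSpace ↥X] [QuasiSeparatedSpace ↥X] [CompactSpace ↥Y] [QuasiSeparatedSpace ↥Y]
    [CompactSpace ↥Z] [QuasiSeparatedSpace ↥Z]
    (f : X ⟶ Y) (g : Y ⟶ Z) [PreservesFiniteLimits (EtCoh.pull f)] (F : EtCoh.Ab X)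
    (h : ∀ q : ℕ, 0 < q → IsZero ((EtCoh.Rpush f q).obj F)) (p : ℕ) :
    IsIso (EtBC.lerayEdgeIn f g p F) := by
  have := isIso_edgeIn (EtCoh.push f) (EtCoh.push g) F h p
  unfold EtBC.lerayEdgeIn
  infer_instance

end Groth.Agent.S8616
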