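import Groth.Statements.S8618
import Groth.Agent.Lib.Helper44.FixTrace

set_option autoImplicit false
universe u
open SGA4h

namespace Groth.Agent.S8618

open TensorProduct in
/-- Let k be a finite field with q = p^f elements, F₀ ⊂ k its prime field, K an algebraically closed
extension of k, V a finite-dimensional k-vector space and φ a p-linear endomorphism of V (φ(λx) =
λ^p φ(x)); let F = φ^f, a k-linear endomorphism, F_K its K-linear extension to K ⊗_k V and φ_K the
p-linear extension of φ (φ_K(μ ⊗ v) = μ^p ⊗ φ(v)). Then F_K preserves the F₀-subspace W = Ker(φ_K -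
1) of K ⊗_k V, W is finite-dimensional over F₀, and the trace of F_K on W (an element of F₀) equals
the trace of F on V. -/
theorem result {p : ℕ} [Fact p.Prime] (k : Type u) [Field k] [Fintype k]
    [CharP k p] (f : ℕ) (hq : Fintype.card k = p ^ f) (K : Type u) [Field K] [Algebra k K] [IsAlgClosed K]
    (V : Type u) [AddCommGroup V] [Module k V] [FiniteDimensional k V]
    (φ : V →ₛₗ[frobenius k p] V) (F : V →ₗ[k] V) (hF : ∀ x, F x = (⇑φ)^[f] x)
    (φK : K ⊗[k] V →+ K ⊗[k] V) (hφK : ∀ (μ : K) (v : V), φK (μ ⊗ₜ[k] v) = (μ ^ p) ⊗ₜ[k] φ v)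
    (W : Submodule (↥(⊥ : Subfield k)) (K ⊗[k] V)) (hW : ∀ y, y ∈ W ↔ φK y = y) :
    (∀ y, φK y = y → φK (F.baseChange K y) = F.baseChange K y) ∧
    Module.Finite (↥(⊥ : Subfield k)) ↥W ∧
    ∀ (G : ↥W →ₗ[↥(⊥ : Subfield k)] ↥W), (∀ y : ↥W, (↑(G y) : K ⊗[k] V) = F.baseChange K ↑y) →
      algebraMap k K (algebraMap (↥(⊥ : Subfield k)) k (LinearMap.trace (↥(⊥ : Subfield k)) ↥W G)) =
        algebraMap k K (LinearMap.trace k V F) := by
  haveI : CharP K p := charP_of_injective_algebraMap (algebraMap k K).injective p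
  have hsm := Groth.Agent.Lib.Helper44.FixTrace.phiK_smul k K V φ φK hφK
  let Φ := Groth.Agent.Lib.Helper44.FixTrace.phiKs k K V φK hsm
  have hf : 0 < f := by
    rcases Nat.eq_zero_or_pos f with h | h
    · subst h
      rw [pow_zero] at hq
      exact absurd hq (ne_of_gt Fintype.one_lt_card)
    · exact h
  let j : ↥(⊥ : Subfield k) →+* K := (algebraMap k K).comp (⊥ : Subfield k).subtype
  have hj : ∀ (r : ↥(⊥ : Subfield k)) (y : K ⊗[k] V), r • y = j r • y := by
    intro r y
    show r • y = algebraMap k K (r : k) • y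
    rw [algebraMap_smul]
    rfl
  have hW' : ∀ y, y ∈ W ↔ Φ y = y := hW
  have hcomm := Groth.Agent.Lib.Helper44.FixTrace.phiK_comm k f K V φ F hF φK hφK
  refine ⟨?_, ?_, ?_⟩
  · intro y hy
    rw [hcomm, hy]
  · exact Groth.Agent.Lib.Helper44.FixTrace.finite_W K (K ⊗[k] V) _ j hj Φ W hW'
  · intro G hG
    have h := Groth.Agent.Lib.Helper44.FixTrace.trace_W K (K ⊗[k] V) _ j hj Φ W hW'
      (F.baseChange K) hcomm
      (fun m y hy => Groth.Agent.Lib.Helper44.FixTrace.iterate_FK_eq_zero k f hq K V φ F hF φK hφK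
        hf m y hy) G hG
    rw [LinearMap.trace_baseChange] at h
    exact h

end Groth.Agent.S8618
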