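import Groth.Statements.S8625
import Mathlib.Tactic.Group
-- import your own Groth.Agent.* helpers here

set_option autoImplicit false
universe u
open SGA4h

namespace Groth.Agent.S8625


variable {G : Type u} [Group G] (F : G →* G)

theorem fix_of_fix {g : G} (h : F (F g * g⁻¹) = F g * g⁻¹) : F (g⁻¹ * F g) = g⁻¹ * F g := by
  have e : F (F g) = F g * g⁻¹ * F g := by
    have : F (F g) * (F g)⁻¹ = F g * g⁻¹ := by simpa [map_mul, map_inv] using h
    calc F (F g) = F (F g) * (F g)⁻¹ * F g := by group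
      _ = F g * g⁻¹ * F g := by rw [this]
  rw [map_mul, map_inv, e]; group

theorem conj_of_eq {g g' h z : G} (hh : F h = h) (hz : F z = z) (e : g' = h * g * z) :
    F g' * g'⁻¹ = h * (F g * g⁻¹) * h⁻¹ ∧ g'⁻¹ * F g' = z⁻¹ * (g⁻¹ * F g) * z := by
  subst e
  simp only [map_mul, hh, hz]
  constructor <;> group

theorem exists_z {g g' h : G} (hh : F h = h)
    (hyp : F g' * g'⁻¹ = h * (F g * g⁻¹) * h⁻¹) :
    ∃ z : G, F z = z ∧ g' = h * g * z := by
  refine ⟨(h * g)⁻¹ * g', ?_, by group⟩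
  have e : F g' = h * (F g * g⁻¹) * h⁻¹ * g' := by rw [← hyp]; group
  simp only [map_mul, map_inv, hh, e]
  group

theorem exists_h {g g' z : G} (hz : F z = z)
    (hyp : g'⁻¹ * F g' = z⁻¹ * (g⁻¹ * F g) * z) :
    ∃ h : G, F h = h ∧ g' = h * g * z := by
  refine ⟨g' * (g * z)⁻¹, ?_, by group⟩
  have e : F g' = g' * (z⁻¹ * (g⁻¹ * F g) * z) := by rw [← hyp]; group
  simp only [map_mul, map_inv, hz, e]
  group

abbrev H : Subgroup G := F.eqLocus (MonoidHom.id G)

theorem mem_H {x : G} : x ∈ H F ↔ F x = x := Iff.rfl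

theorem key {g g' : G} (h1 : F (F g * g⁻¹) = F g * g⁻¹) (h1' : F (F g' * g'⁻¹) = F g' * g'⁻¹)
    (h2 : F (g⁻¹ * F g) = g⁻¹ * F g) (h2' : F (g'⁻¹ * F g') = g'⁻¹ * F g') :
    (ConjClasses.mk (⟨F g * g⁻¹, h1⟩ : H F) = ConjClasses.mk (⟨F g' * g'⁻¹, h1'⟩ : H F)) ↔
      (ConjClasses.mk (⟨g⁻¹ * F g, h2⟩ : H F) = ConjClasses.mk (⟨g'⁻¹ * F g', h2'⟩ : H F)) := by
  rw [ConjClasses.mk_eq_mk_iff_isConj, ConjClasses.mk_eq_mk_iff_isConj, isConj_iff, isConj_iff]
  constructor
  · rintro ⟨⟨c, hc⟩, hcc⟩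
    have hc' : F c = c := (mem_H F).mp hc
    have e1 : F g' * g'⁻¹ = c * (F g * g⁻¹) * c⁻¹ := by
      have := congrArg Subtype.val hcc
      simpa using this.symm
    obtain ⟨z, hz, e⟩ := exists_z F hc' e1
    have := (conj_of_eq F hc' hz e).2
    refine ⟨⟨z⁻¹, (mem_H F).mpr (by rw [map_inv, hz])⟩, ?_⟩
    apply Subtype.ext
    simp [this]
  · rintro ⟨⟨c, hc⟩, hcc⟩
    have hc' : F c = c := (mem_H F).mp hc
    have hci : F c⁻¹ = c⁻¹ := by rw [map_inv, hc']
    have e1 : g'⁻¹ * F g' = (c⁻¹)⁻¹ * (g⁻¹ * F g) * c⁻¹ := by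
      have := congrArg Subtype.val hcc
      simpa using this.symm
    obtain ⟨h, hh, e⟩ := exists_h F hci e1
    have := (conj_of_eq F hh hci e).1
    refine ⟨⟨h, (mem_H F).mpr hh⟩, ?_⟩
    apply Subtype.ext
    simp [this]

/-- Let G be a group with an endomorphism F, and assume the Lang map g ↦ F(g)g⁻¹ is surjective (for
instance the geometric points of a connected algebraic group over F_q with its Frobenius, where the
surjectivity is the classical result of Lang; the other Lang map g ↦ g⁻¹F(g) is then surjective too,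
by g ↦ g⁻¹). Let G^F be the subgroup of fixed points of F. (i) If F(g)g⁻¹ is fixed by F then so is
g⁻¹F(g). (ii), (iii) There is a bijection of the set of conjugacy classes of G^F with itself
sending, for every g with F(g)g⁻¹ ∈ G^F, the class of F(g)g⁻¹ to the class of g⁻¹F(g) (in particular
the latter class depends only on the former). -/
theorem result {G : Type u} [Group G] (F : G →* G)
    (hL : Function.Surjective fun g : G => F g * g⁻¹) :
    (∀ g : G, F (F g * g⁻¹) = F g * g⁻¹ → F (g⁻¹ * F g) = g⁻¹ * F g) ∧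
    ∃ φ : ConjClasses ↥(F.eqLocus (MonoidHom.id G)) → ConjClasses ↥(F.eqLocus (MonoidHom.id G)),
      Function.Bijective φ ∧
      ∀ (g : G) (h : F (F g * g⁻¹) = F g * g⁻¹) (h' : F (g⁻¹ * F g) = g⁻¹ * F g),
        φ (ConjClasses.mk (⟨F g * g⁻¹, h⟩ : ↥(F.eqLocus (MonoidHom.id G)))) =
          ConjClasses.mk (⟨g⁻¹ * F g, h'⟩ : ↥(F.eqLocus (MonoidHom.id G))) := by
  refine ⟨fun g h => fix_of_fix F h, ?_⟩
  classical
  choose γ hγ using hL
  have hγ' : ∀ a : G, F (γ a) * (γ a)⁻¹ = a := hγ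
  have fixa : ∀ a : H F, F (F (γ a) * (γ a)⁻¹) = F (γ a) * (γ a)⁻¹ := fun a => by
    rw [hγ']; exact (mem_H F).mp a.2
  let φ0 : H F → ConjClasses (H F) := fun a =>
    ConjClasses.mk ⟨(γ a)⁻¹ * F (γ a), fix_of_fix F (fixa a)⟩
  have hφ0 : ∀ a b : H F, IsConj a b → φ0 a = φ0 b := by
    intro a b hab
    refine (key F (fixa a) (fixa b) _ _).mp ?_
    rw [ConjClasses.mk_eq_mk_iff_isConj]
    convert hab using 1 <;> exact Subtype.ext (hγ' _)
  let φ : ConjClasses (H F) → ConjClasses (H F) := Quotient.lift φ0 hφ0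
  have hφ : ∀ (g : G) (h : F (F g * g⁻¹) = F g * g⁻¹) (h' : F (g⁻¹ * F g) = g⁻¹ * F g),
      φ (ConjClasses.mk (⟨F g * g⁻¹, h⟩ : H F)) = ConjClasses.mk (⟨g⁻¹ * F g, h'⟩ : H F) := by
    intro g h h'
    change φ0 ⟨F g * g⁻¹, h⟩ = _
    refine (key F (fixa _) h _ h').mp ?_
    congr 1
    exact Subtype.ext (hγ' _)
  refine ⟨φ, ⟨?_, ?_⟩, hφ⟩
  · intro x y
    induction x using Quotient.inductionOn with | _ a => ?_
    induction y using Quotient.inductionOn with | _ b => ?_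
    intro hxy
    change φ0 a = φ0 b at hxy
    have := (key F (fixa a) (fixa b) _ _).mpr hxy
    rw [ConjClasses.mk_eq_mk_iff_isConj] at this
    apply Quotient.sound
    change IsConj a b
    convert this using 1 <;> exact Subtype.ext (hγ' _).symm
  · intro y
    induction y using Quotient.inductionOn with | _ b => ?_
    obtain ⟨b, hb⟩ := b
    have hb' : F b = b := (mem_H F).mp hb
    let g : G := (γ b⁻¹)⁻¹
    have hg : g⁻¹ * F g = b := by
      have := hγ' b⁻¹
      have e : F (γ b⁻¹) = b⁻¹ * γ b⁻¹ := mul_inv_eq_iff_eq_mul.mp this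
      simp only [g, map_inv, inv_inv, e]
      group
    have hFg : F g = g * b := by rw [← hg]; group
    have h1 : F (F g * g⁻¹) = F g * g⁻¹ := by
      simp only [map_mul, map_inv, hFg, hb']
      group
    have h2 : F (g⁻¹ * F g) = g⁻¹ * F g := fix_of_fix F h1
    refine ⟨ConjClasses.mk ⟨F g * g⁻¹, h1⟩, ?_⟩
    rw [hφ g h1 h2]
    change ConjClasses.mk _ = ConjClasses.mk _
    congr 1
    exact Subtype.ext hg

end Groth.Agent.S8625
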