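import Groth.Statements.S8626
import Mathlib

set_option autoImplicit false
universe v v' u u'
open CategoryTheory CategoryTheory.Limits
open SGA4h

namespace Groth.Agent.S8626

section
open CategoryTheory CategoryTheory.Limits

variable {A : Type u} [Category.{v} A] [Abelian A]

lemma sc_congr {C : Type*} [Category C] [HasZeroMorphisms C] {X1 X2 X3 : C} {f f' : X1 ⟶ X2}
    {g g' : X2 ⟶ X3} (hf : f = f') (hg : g = g') (w : f ≫ g = 0) (w' : f' ≫ g' = 0) :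
    ShortComplex.mk f g w = ShortComplex.mk f' g' w' := by
  subst hf hg
  rfl

structure Lvl (T : A) where
  obj : A
  i : T ⟶ obj
  r : obj ⟶ T
  q : obj ⟶ obj
  ir : i ≫ r = 𝟙 T
  iq : i ≫ q = 0
  qr : q ≫ r = 0
  qq : q ≫ q = q

def Lvl.zero (T : A) : Lvl T where
  obj := T
  i := 𝟙 T
  r := 𝟙 T
  q := 0
  ir := by simp
  iq := by simp
  qr := by simp
  qq := by simp

section gen

variable {T T' T'' : A} (L : Lvl T) {O O' : A} (δ : T ⟶ T') (ι : T' ⟶ O) (ρ : O ⟶ T')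
  (h : ι ≫ ρ = 𝟙 T') (δ' : T' ⟶ T'') (ι' : T'' ⟶ O') (hδ : δ ≫ δ' = 0)

include h in
lemma e_idem : (𝟙 O - ρ ≫ ι) ≫ (𝟙 O - ρ ≫ ι) = 𝟙 O - ρ ≫ ι := by
  simp only [Preadditive.comp_sub, Preadditive.sub_comp, Category.comp_id, Category.id_comp,
    Category.assoc]
  rw [reassoc_of% h]
  abel

include h in
lemma ι_e : ι ≫ (𝟙 O - ρ ≫ ι) = 0 := by
  rw [Preadditive.comp_sub, Category.comp_id, reassoc_of% h, sub_self]

include h in
lemma e_ρ : (𝟙 O - ρ ≫ ι) ≫ ρ = 0 := by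
  rw [Preadditive.sub_comp, Category.id_comp, Category.assoc, h, Category.comp_id, sub_self]

lemma q_idem : (𝟙 L.obj - L.q) ≫ (𝟙 L.obj - L.q) = 𝟙 L.obj - L.q := by
  simp only [Preadditive.comp_sub, Preadditive.sub_comp, Category.comp_id, Category.id_comp,
    L.qq]
  abel

lemma q_compl : L.q ≫ (𝟙 L.obj - L.q) = 0 := by
  rw [Preadditive.comp_sub, Category.comp_id, L.qq, sub_self]

include h in
lemma g_ir : (ι ≫ (biprod.inl : O ⟶ O ⊞ L.obj)) ≫ ((biprod.fst : O ⊞ L.obj ⟶ O) ≫ ρ) = 𝟙 T' := by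
  simp [h]

include h in
lemma g_iq : (ι ≫ (biprod.inl : O ⟶ O ⊞ L.obj)) ≫
    biprod.map (𝟙 O - ρ ≫ ι) (𝟙 L.obj - L.q) = 0 := by
  rw [Category.assoc, biprod.inl_map, ← Category.assoc, ι_e ι ρ h, zero_comp]

include h in
lemma g_qr : biprod.map (𝟙 O - ρ ≫ ι) (𝟙 L.obj - L.q) ≫
    ((biprod.fst : O ⊞ L.obj ⟶ O) ≫ ρ) = 0 := by
  rw [← Category.assoc, biprod.map_fst, Category.assoc, e_ρ ι ρ h, comp_zero]

include h in
lemma g_qq : biprod.map (𝟙 O - ρ ≫ ι) (𝟙 L.obj - L.q) ≫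
    biprod.map (𝟙 O - ρ ≫ ι) (𝟙 L.obj - L.q) = biprod.map (𝟙 O - ρ ≫ ι) (𝟙 L.obj - L.q) := by
  apply biprod.hom_ext
  · simp only [Category.assoc, biprod.map_fst]
    rw [← Category.assoc, biprod.map_fst, Category.assoc, e_idem ι ρ h]
  · simp only [Category.assoc, biprod.map_snd]
    rw [← Category.assoc, biprod.map_snd, Category.assoc, q_idem]

include h in
lemma g1 : (biprod.lift (L.r ≫ δ ≫ ι) L.q : L.obj ⟶ O ⊞ L.obj) ≫
    ((biprod.fst : O ⊞ L.obj ⟶ O) ≫ ρ) = L.r ≫ δ := by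
  rw [← Category.assoc, biprod.lift_fst, Category.assoc, Category.assoc, h, Category.comp_id]

lemma g2 : L.i ≫ (biprod.lift (L.r ≫ δ ≫ ι) L.q : L.obj ⟶ O ⊞ L.obj) =
    δ ≫ (ι ≫ (biprod.inl : O ⟶ O ⊞ L.obj)) := by
  apply biprod.hom_ext
  · simp only [Category.assoc, biprod.lift_fst, biprod.inl_fst, Category.comp_id]
    rw [reassoc_of% L.ir]
  · simp only [Category.assoc, biprod.lift_snd, biprod.inl_snd, comp_zero]
    exact L.iq

include h in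
lemma g3 : (biprod.lift (L.r ≫ δ ≫ ι) L.q : L.obj ⟶ O ⊞ L.obj) ≫
    biprod.map (𝟙 O - ρ ≫ ι) (𝟙 L.obj - L.q) = 0 := by
  apply biprod.hom_ext
  · simp only [Category.assoc, biprod.map_fst, zero_comp]
    rw [← Category.assoc, biprod.lift_fst, Category.assoc, Category.assoc, ι_e ι ρ h, comp_zero,
      comp_zero]
  · simp only [Category.assoc, biprod.map_snd, zero_comp]
    rw [← Category.assoc, biprod.lift_snd, q_compl]

include h hδ in
lemma g4 : (biprod.lift (L.r ≫ δ ≫ ι) L.q : L.obj ⟶ O ⊞ L.obj) ≫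
    (biprod.lift (((biprod.fst : O ⊞ L.obj ⟶ O) ≫ ρ) ≫ δ' ≫ ι')
      (biprod.map (𝟙 O - ρ ≫ ι) (𝟙 L.obj - L.q)) : O ⊞ L.obj ⟶ O' ⊞ (O ⊞ L.obj)) = 0 := by
  apply biprod.hom_ext
  · rw [Category.assoc, biprod.lift_fst, ← Category.assoc, g1 L δ ι ρ h, Category.assoc,
      reassoc_of% hδ, zero_comp, comp_zero, zero_comp]
  · rw [Category.assoc, biprod.lift_snd, g3 L δ ι ρ h, zero_comp]

include h in
lemma g5 : 𝟙 (O ⊞ L.obj) =
    ((biprod.snd : O ⊞ L.obj ⟶ L.obj) ≫ L.q) ≫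
        (biprod.lift (L.r ≫ δ ≫ ι) L.q : L.obj ⟶ O ⊞ L.obj) +
      (biprod.lift (((biprod.fst : O ⊞ L.obj ⟶ O) ≫ ρ) ≫ δ' ≫ ι')
        (biprod.map (𝟙 O - ρ ≫ ι) (𝟙 L.obj - L.q)) : O ⊞ L.obj ⟶ O' ⊞ (O ⊞ L.obj)) ≫
        ((biprod.snd : O' ⊞ (O ⊞ L.obj) ⟶ O ⊞ L.obj) ≫
          biprod.map (𝟙 O - ρ ≫ ι) (𝟙 L.obj - L.q)) +
      ((biprod.fst : O ⊞ L.obj ⟶ O) ≫ ρ) ≫ (ι ≫ (biprod.inl : O ⟶ O ⊞ L.obj)) := by
  have e1 : ((biprod.snd : O ⊞ L.obj ⟶ L.obj) ≫ L.q) ≫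
        (biprod.lift (L.r ≫ δ ≫ ι) L.q : L.obj ⟶ O ⊞ L.obj) =
      ((biprod.snd : O ⊞ L.obj ⟶ L.obj) ≫ L.q ≫ (biprod.inr : L.obj ⟶ O ⊞ L.obj)) := by
    apply biprod.hom_ext
    · simp only [Category.assoc, biprod.lift_fst, biprod.inr_fst, comp_zero]
      rw [reassoc_of% L.qr, zero_comp, comp_zero]
    · simp only [Category.assoc, biprod.lift_snd, biprod.inr_snd, Category.comp_id]
      rw [L.qq]
  have e2 : (biprod.lift (((biprod.fst : O ⊞ L.obj ⟶ O) ≫ ρ) ≫ δ' ≫ ι')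
        (biprod.map (𝟙 O - ρ ≫ ι) (𝟙 L.obj - L.q)) : O ⊞ L.obj ⟶ O' ⊞ (O ⊞ L.obj)) ≫
        ((biprod.snd : O' ⊞ (O ⊞ L.obj) ⟶ O ⊞ L.obj) ≫
          biprod.map (𝟙 O - ρ ≫ ι) (𝟙 L.obj - L.q)) =
      biprod.map (𝟙 O - ρ ≫ ι) (𝟙 L.obj - L.q) := by
    rw [← Category.assoc, biprod.lift_snd, g_qq L ι ρ h]
  rw [e1, e2]
  apply biprod.hom_ext
  · simp only [Category.assoc, Preadditive.add_comp, biprod.map_fst, biprod.inr_fst, comp_zero,
      biprod.inl_fst, Category.comp_id, Category.id_comp, zero_add, Preadditive.comp_sub]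
    abel
  · simp only [Category.assoc, Preadditive.add_comp, biprod.map_snd, biprod.inr_snd, comp_zero,
      biprod.inl_snd, Category.comp_id, Category.id_comp, add_zero, Preadditive.comp_sub]
    abel

end gen

noncomputable def Lvl.succ {T T' : A} (L : Lvl T) (O : A) (ι : T' ⟶ O) (ρ : O ⟶ T')
    (h : ι ≫ ρ = 𝟙 T') : Lvl T' where
  obj := O ⊞ L.obj
  i := ι ≫ biprod.inl
  r := biprod.fst ≫ ρ
  q := biprod.map (𝟙 O - ρ ≫ ι) (𝟙 L.obj - L.q)
  ir := g_ir L ι ρ h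
  iq := g_iq L ι ρ h
  qr := g_qr L ι ρ h
  qq := g_qq L ι ρ h

structure Dat (A : Type u) [Category.{v} A] [Abelian A] where
  Y : ℕ → A
  δ : ∀ j, Y j ⟶ Y (j + 1)
  δδ : ∀ j, δ j ≫ δ (j + 1) = 0
  O : ℕ → A
  ι : ∀ j, Y (j + 1) ⟶ O j
  ρ : ∀ j, O j ⟶ Y (j + 1)
  ιρ : ∀ j, ι j ≫ ρ j = 𝟙 _

namespace Dat

variable (D : Dat A)

noncomputable def lvl : ∀ j, Lvl (D.Y j)
  | 0 => Lvl.zero (D.Y 0)
  | j + 1 => (lvl j).succ (D.O j) (D.ι j) (D.ρ j) (D.ιρ j)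

noncomputable def d (j : ℕ) : (D.lvl j).obj ⟶ (D.lvl (j + 1)).obj :=
  (biprod.lift ((D.lvl j).r ≫ D.δ j ≫ D.ι j) (D.lvl j).q : (D.lvl j).obj ⟶ D.O j ⊞ (D.lvl j).obj)

noncomputable def hh (j : ℕ) : (D.lvl (j + 1)).obj ⟶ (D.lvl j).obj :=
  ((biprod.snd : D.O j ⊞ (D.lvl j).obj ⟶ (D.lvl j).obj) ≫ (D.lvl j).q)

lemma d_r (j : ℕ) : D.d j ≫ (D.lvl (j + 1)).r = (D.lvl j).r ≫ D.δ j :=
  g1 (D.lvl j) (D.δ j) (D.ι j) (D.ρ j) (D.ιρ j)

lemma i_d (j : ℕ) : (D.lvl j).i ≫ D.d j = D.δ j ≫ (D.lvl (j + 1)).i :=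
  g2 (D.lvl j) (D.δ j) (D.ι j)

lemma d_d (j : ℕ) : D.d j ≫ D.d (j + 1) = 0 :=
  g4 (D.lvl j) (D.δ j) (D.ι j) (D.ρ j) (D.ιρ j) (D.δ (j + 1)) (D.ι (j + 1)) (D.δδ j)

lemma htpy_zero : 𝟙 (D.lvl 0).obj = (D.lvl 0).r ≫ (D.lvl 0).i := by
  change 𝟙 (D.Y 0) = 𝟙 (D.Y 0) ≫ 𝟙 (D.Y 0)
  simp

lemma htpy_succ (j : ℕ) :
    𝟙 (D.lvl (j + 1)).obj = D.hh j ≫ D.d j + D.d (j + 1) ≫ D.hh (j + 1) +
      (D.lvl (j + 1)).r ≫ (D.lvl (j + 1)).i :=
  g5 (D.lvl j) (D.δ j) (D.ι j) (D.ρ j) (D.ιρ j) (D.δ (j + 1)) (D.ι (j + 1))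

lemma mono_d0 (hm : Mono (D.δ 0)) : Mono (D.d 0) := by
  apply Preadditive.mono_of_cancel_zero
  intro P x hx
  have h1 : x ≫ (D.lvl 0).r = 0 := by
    have h2 : (x ≫ (D.lvl 0).r) ≫ D.δ 0 = 0 := by
      rw [Category.assoc, ← D.d_r 0, reassoc_of% hx, zero_comp]
    exact zero_of_comp_mono _ h2
  calc x = x ≫ 𝟙 _ := (Category.comp_id x).symm
    _ = x ≫ (D.lvl 0).r ≫ (D.lvl 0).i := by rw [← D.htpy_zero]
    _ = 0 := by rw [reassoc_of% h1, zero_comp]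

lemma exact_K (j : ℕ) (hex : (ShortComplex.mk (D.δ j) (D.δ (j + 1)) (D.δδ j)).Exact) :
    (ShortComplex.mk (D.d j) (D.d (j + 1)) (D.d_d j)).Exact := by
  rw [ShortComplex.exact_iff_exact_up_to_refinements] at hex ⊢
  intro P x hx
  dsimp at x hx ⊢
  have hx' : (x ≫ (D.lvl (j + 1)).r) ≫ D.δ (j + 1) = 0 := by
    rw [Category.assoc, ← D.d_r (j + 1), reassoc_of% hx, zero_comp]
  obtain ⟨P', π, hπ, y, hy⟩ := hex (x ≫ (D.lvl (j + 1)).r) hx'
  dsimp at y hy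
  refine ⟨P', π, hπ, π ≫ x ≫ D.hh j + y ≫ (D.lvl j).i, ?_⟩
  have e1 : x = x ≫ D.hh j ≫ D.d j + x ≫ (D.lvl (j + 1)).r ≫ (D.lvl (j + 1)).i := by
    conv_lhs => rw [← Category.comp_id x, D.htpy_succ j]
    rw [Preadditive.comp_add, Preadditive.comp_add, reassoc_of% hx, zero_comp, add_zero]
  conv_lhs => rw [e1]
  rw [Preadditive.comp_add, Preadditive.add_comp, Category.assoc, Category.assoc, Category.assoc,
    D.i_d j, reassoc_of% hy]

lemma exact_fY {B : Type u'} [Category.{v'} B] [Abelian B] (f : A ⥤ B) [f.Additive] (j : ℕ)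
    (hex : (ShortComplex.mk (f.map (D.d j)) (f.map (D.d (j + 1)))
      (by rw [← f.map_comp, D.d_d, f.map_zero])).Exact) :
    (ShortComplex.mk (f.map (D.δ j)) (f.map (D.δ (j + 1)))
      (by rw [← f.map_comp, D.δδ, f.map_zero])).Exact := by
  rw [ShortComplex.exact_iff_exact_up_to_refinements] at hex ⊢
  intro P x hx
  dsimp at x hx ⊢
  have hx' : (x ≫ f.map (D.lvl (j + 1)).i) ≫ f.map (D.d (j + 1)) = 0 := by
    rw [Category.assoc, ← f.map_comp, D.i_d, f.map_comp, reassoc_of% hx, zero_comp]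
  obtain ⟨P', π, hπ, y, hy⟩ := hex _ hx'
  dsimp at y hy
  refine ⟨P', π, hπ, y ≫ f.map (D.lvl j).r, ?_⟩
  calc π ≫ x = π ≫ x ≫ f.map ((D.lvl (j + 1)).i ≫ (D.lvl (j + 1)).r) := by
        rw [(D.lvl (j + 1)).ir, CategoryTheory.Functor.map_id, Category.comp_id]
    _ = (π ≫ x ≫ f.map (D.lvl (j + 1)).i) ≫ f.map (D.lvl (j + 1)).r := by
        rw [f.map_comp]; simp only [Category.assoc]
    _ = (y ≫ f.map (D.d j)) ≫ f.map (D.lvl (j + 1)).r := by rw [hy]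
    _ = y ≫ f.map (D.d j ≫ (D.lvl (j + 1)).r) := by rw [f.map_comp, Category.assoc]
    _ = y ≫ f.map ((D.lvl j).r ≫ D.δ j) := by rw [D.d_r]
    _ = (y ≫ f.map (D.lvl j).r) ≫ f.map (D.δ j) := by rw [f.map_comp, Category.assoc]

noncomputable def cx : CochainComplex A ℕ :=
  CochainComplex.of (fun j => (D.lvl j).obj) D.d D.d_d

lemma cx_d (j : ℕ) : D.cx.d j (j + 1) = D.d j :=
  CochainComplex.of_d (fun j => (D.lvl j).obj) D.d j

lemma cx_acyclic (hm : Mono (D.δ 0))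
    (hex : ∀ j, (ShortComplex.mk (D.δ j) (D.δ (j + 1)) (D.δδ j)).Exact) : D.cx.Acyclic := by
  intro i
  cases i with
  | zero =>
    rw [HomologicalComplex.exactAt_iff' D.cx 0 0 1 (by simp) (by simp)]
    have h0 : (D.cx.sc' 0 0 1).f = 0 := D.cx.shape 0 0 (by simp)
    rw [ShortComplex.exact_iff_mono _ h0]
    change Mono (D.cx.d 0 1)
    rw [cx_d]
    exact D.mono_d0 hm
  | succ j =>
    rw [HomologicalComplex.exactAt_iff' D.cx j (j + 1) (j + 2) (by simp) (by simp)]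
    have := D.exact_K j (hex j)
    have e : D.cx.sc' j (j + 1) (j + 2) = ShortComplex.mk (D.d j) (D.d (j + 1)) (D.d_d j) := by
      exact sc_congr (D.cx_d j) (D.cx_d (j + 1)) _ _
    rw [e]
    exact this

end Dat

def Yd (X : A) (C : CochainComplex A ℕ) : ℕ → A
  | 0 => X
  | j + 1 => C.X j

def δd (X : A) (C : CochainComplex A ℕ) (ε : X ⟶ C.X 0) : ∀ j, Yd X C j ⟶ Yd X C (j + 1)
  | 0 => ε
  | j + 1 => C.d j (j + 1)

theorem main [EnoughInjectives A]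
    {B : Type u'} [Category.{v'} B] [Abelian B] (f : A ⥤ B) [f.Additive] (𝒪 : ObjectProperty A)
    (h0 : ∀ X Y : A, 𝒪 X → 𝒪 Y → 𝒪 (X ⊞ Y))
    (h1 : ∀ K : CochainComplex A ℕ, (∀ i, 𝒪 (K.X i)) → K.Acyclic →
      ((f.mapHomologicalComplex (ComplexShape.up ℕ)).obj K).Acyclic)
    (h2 : ∀ X : A, ∃ (Y : A) (i : X ⟶ Y), 𝒪 Y ∧ Mono i)
    (X : A) (hX : 𝒪 X) (n : ℕ) (hn : 0 < n) :
    IsZero ((f.rightDerived n).obj X) := by
  obtain ⟨m, rfl⟩ : ∃ m, n = m + 1 := ⟨n - 1, by omega⟩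
  let I := InjectiveResolution.of X
  choose O ι hO hι using fun j => h2 (I.cocomplex.X j)
  let D : Dat A :=
    { Y := Yd X I.cocomplex
      δ := δd X I.cocomplex (I.ι.f 0)
      δδ := by
        intro j
        cases j with
        | zero => exact I.ι_f_zero_comp_complex_d
        | succ j => exact I.cocomplex.d_comp_d _ _ _
      O := O
      ι := fun j => ι j
      ρ := fun j => (Injective.factorThru (𝟙 (I.cocomplex.X j)) (ι j) : O j ⟶ I.cocomplex.X j)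
      ιρ := fun j => Injective.comp_factorThru (𝟙 (I.cocomplex.X j)) (ι j) }
  have hO' : ∀ j, 𝒪 (D.lvl j).obj := by
    intro j
    induction j with
    | zero => exact hX
    | succ j ih => exact h0 _ _ (hO j) ih
  have hm : Mono (D.δ 0) := inferInstanceAs (Mono (I.ι.f 0))
  have hex : ∀ j, (ShortComplex.mk (D.δ j) (D.δ (j + 1)) (D.δδ j)).Exact := by
    intro j
    cases j with
    | zero => exact I.exact₀
    | succ j => exact I.exact_succ j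
  have hac := h1 D.cx hO' (D.cx_acyclic hm hex)
  refine IsZero.of_iso ?_ (I.isoRightDerivedObj f (m + 1))
  have key : ((f.mapHomologicalComplex (ComplexShape.up ℕ)).obj I.cocomplex).ExactAt (m + 1) := by
    rw [HomologicalComplex.exactAt_iff' _ m (m + 1) (m + 2) (by simp) (by simp)]
    have h3 := hac (m + 2)
    rw [HomologicalComplex.exactAt_iff' _ (m + 1) (m + 2) (m + 3) (by simp) (by simp)] at h3
    have h4 : (ShortComplex.mk (f.map (D.d (m + 1))) (f.map (D.d (m + 1 + 1)))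
        (by rw [← f.map_comp, D.d_d, f.map_zero])).Exact := by
      have e : ((f.mapHomologicalComplex (ComplexShape.up ℕ)).obj D.cx).sc' (m + 1) (m + 2) (m + 3) =
          ShortComplex.mk (f.map (D.d (m + 1))) (f.map (D.d (m + 1 + 1)))
            (by rw [← f.map_comp, D.d_d, f.map_zero]) :=
        sc_congr (congrArg f.map (D.cx_d (m + 1))) (congrArg f.map (D.cx_d (m + 2))) _ _
      rw [← e]
      exact h3
    exact D.exact_fY f (m + 1) h4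
  exact (HomologicalComplex.exactAt_iff_isZero_homology _ _).1 key

end

open SGA4h in

/-- Acyclicity assertion; A with enough injectives so that R^n f is the usual right derived functor: let
f : A → B be an additive functor between abelian categories and 𝒪 a class of objects of A, stable
under binary direct sums, such that (1) f carries every acyclic bounded-below cochain complex of
objects of 𝒪 (indexed by ℕ, exact in every degree, in degree 0 meaning the first differential is a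
monomorphism) to an acyclic complex, and (2) every object of A admits a monomorphism into a member
of 𝒪. Then every member of 𝒪 is right f-acyclic: R^n f(X) = 0 for all n > 0. -/
theorem result {A : Type u} [Category.{v} A] [Abelian A] [EnoughInjectives A]
    {B : Type u'} [Category.{v'} B] [Abelian B] (f : A ⥤ B) [f.Additive] (𝒪 : ObjectProperty A)
    (h0 : ∀ X Y : A, 𝒪 X → 𝒪 Y → 𝒪 (X ⊞ Y))
    (h1 : ∀ K : CochainComplex A ℕ, (∀ i, 𝒪 (K.X i)) → K.Acyclic →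
      ((f.mapHomologicalComplex (ComplexShape.up ℕ)).obj K).Acyclic)
    (h2 : ∀ X : A, ∃ (Y : A) (i : X ⟶ Y), 𝒪 Y ∧ Mono i)
    (X : A) (hX : 𝒪 X) (n : ℕ) (hn : 0 < n) :
    IsZero ((f.rightDerived n).obj X) := by
  exact Groth.Agent.S8626.main f 𝒪 h0 h1 h2 X hX n hn

end Groth.Agent.S8626
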