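import Groth.Statements.S8630
import Mathlib.RingTheory.PowerSeries.Inverse
import Mathlib.Data.ZMod.Basic
import Mathlib.RingTheory.Polynomial.Basic
import Mathlib.Algebra.Polynomial.Lifts
import Mathlib.Tactic
-- import your own Groth.Agent.* helpers here

set_option autoImplicit false
open Zeta

namespace Groth.Agent.S8630


open Polynomial in
theorem clearDenoms (p : Polynomial ℚ) :
    ∃ (d : ℤ) (F : Polynomial ℤ), d ≠ 0 ∧
      F.map (Int.castRingHom ℚ) = Polynomial.C (d : ℚ) * p := by
  induction p using Polynomial.induction_on' with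
  | add p q hp hq =>
    obtain ⟨d₁, F₁, h₁, e₁⟩ := hp
    obtain ⟨d₂, F₂, h₂, e₂⟩ := hq
    refine ⟨d₁ * d₂, Polynomial.C d₂ * F₁ + Polynomial.C d₁ * F₂, mul_ne_zero h₁ h₂, ?_⟩
    simp only [Polynomial.map_add, Polynomial.map_mul, Polynomial.map_C, e₁, e₂]
    simp only [eq_intCast, Int.cast_mul, map_mul]
    ring
  | monomial n a =>
    refine ⟨a.den, Polynomial.monomial n a.num, by exact_mod_cast a.den_ne_zero, ?_⟩
    rw [Polynomial.map_monomial, Polynomial.C_mul_monomial]
    congr 1
    simp only [eq_intCast, Int.cast_natCast]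
    exact (Rat.den_mul_eq_num a).symm

theorem divLemma (ℓ : ℕ) (G : PowerSeries ℤ)
    (hG : PowerSeries.map (Int.castRingHom (ZMod ℓ)) G = 0) :
    ∃ G' : PowerSeries ℤ, G = PowerSeries.C (ℓ : ℤ) * G' := by
  refine ⟨PowerSeries.mk fun k => PowerSeries.coeff k G / (ℓ : ℤ), ?_⟩
  ext k
  rw [PowerSeries.coeff_C_mul, PowerSeries.coeff_mk]
  have h := congrArg (PowerSeries.coeff k) hG
  rw [PowerSeries.coeff_map, map_zero, eq_intCast, ZMod.intCast_zmod_eq_zero_iff_dvd] at h
  exact (Int.mul_ediv_cancel' h).symm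

theorem key : ∀ m : ℕ, ∀ (F W : PowerSeries ℤ) (n : ℤ), n.natAbs = m → n ≠ 0 →
    F * W = PowerSeries.C n → ∀ k, PowerSeries.coeff 0 F ∣ PowerSeries.coeff k F := by
  intro m
  induction m using Nat.strong_induction_on with
  | _ m ih =>
    intro F W n hm hn hFW k
    by_cases h1 : m = 1
    · have hu : IsUnit n := Int.isUnit_iff_natAbs_eq.mpr (hm.trans h1)
      have h0 := congrArg (PowerSeries.coeff 0) hFW
      rw [PowerSeries.coeff_zero_eq_constantCoeff_apply, map_mul, PowerSeries.coeff_zero_C] at h0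
      have : IsUnit (PowerSeries.constantCoeff F) := by
        apply isUnit_of_mul_isUnit_left (y := PowerSeries.constantCoeff W)
        rw [h0]; exact hu
      rw [PowerSeries.coeff_zero_eq_constantCoeff_apply]
      exact this.dvd
    · have hm0 : m ≠ 0 := by
        rw [← hm]; exact Int.natAbs_ne_zero.mpr hn
      obtain ⟨ℓ, hℓ, hdvd⟩ := Nat.exists_prime_and_dvd h1
      have : Fact ℓ.Prime := ⟨hℓ⟩
      have hdvd' : (ℓ : ℤ) ∣ n := by
        rw [← hm] at hdvd
        exact Int.natCast_dvd.mpr hdvd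
      obtain ⟨n', rfl⟩ := hdvd'
      have hn' : n' ≠ 0 := fun h => hn (by rw [h, mul_zero])
      have hlt : n'.natAbs < m := by
        rw [← hm, Int.natAbs_mul, Int.natAbs_natCast]
        have : 0 < n'.natAbs := Int.natAbs_pos.mpr hn'
        have h2 := hℓ.two_le
        nlinarith
      have hℓ0 : PowerSeries.C ((ℓ : ℤ)) ≠ (0 : PowerSeries ℤ) := by
        intro h
        have := congrArg (PowerSeries.coeff 0) h
        rw [PowerSeries.coeff_zero_C, map_zero] at this
        exact hℓ.ne_zero (by exact_mod_cast this)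
      have hπ : PowerSeries.map (Int.castRingHom (ZMod ℓ)) F *
          PowerSeries.map (Int.castRingHom (ZMod ℓ)) W = 0 := by
        rw [← map_mul, hFW, PowerSeries.map_C]
        simp
      rcases mul_eq_zero.mp hπ with hF0 | hW0
      · obtain ⟨F', rfl⟩ := divLemma ℓ F hF0
        have hF'W : F' * W = PowerSeries.C n' := by
          apply mul_left_cancel₀ hℓ0
          rw [← mul_assoc, hFW, map_mul]
        have := ih _ hlt F' W n' rfl hn' hF'W k
        rw [PowerSeries.coeff_C_mul, PowerSeries.coeff_C_mul]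
        exact mul_dvd_mul_left _ this
      · obtain ⟨W', rfl⟩ := divLemma ℓ W hW0
        have hFW' : F * W' = PowerSeries.C n' := by
          apply mul_left_cancel₀ hℓ0
          rw [mul_left_comm, hFW, map_mul]
        exact ih _ hlt F W' n' rfl hn' hFW' k

/-- Fatou's lemma: let P, Q ∈ ℚ[T] be coprime with constant coefficient 1, and suppose the power series
P/Q has integer coefficients, i.e. P = Q·Z in ℚ⟦T⟧ for a power series Z with coefficients in ℤ. Then
P and Q have integer coefficients. -/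
theorem result (P Q : Polynomial ℚ)
    (hPQ : IsCoprime P Q) (hP : P.coeff 0 = 1) (hQ : Q.coeff 0 = 1) (Z : PowerSeries ℤ)
    (hZ : (P : PowerSeries ℚ) = (Q : PowerSeries ℚ) * PowerSeries.map (Int.castRingHom ℚ) Z) :
    (∃ P₀ : Polynomial ℤ, P₀.map (Int.castRingHom ℚ) = P) ∧
      ∃ Q₀ : Polynomial ℤ, Q₀.map (Int.castRingHom ℚ) = Q := by
  obtain ⟨U, V, hUV⟩ := hPQ
  obtain ⟨d, F, hd, hF⟩ := clearDenoms Q
  obtain ⟨a, FU, ha, hFU⟩ := clearDenoms U
  obtain ⟨b, FV, hb, hFV⟩ := clearDenoms V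
  set f := Int.castRingHom ℚ with hf
  set Z' := PowerSeries.map f Z with hZ'
  have hinj : Function.Injective (PowerSeries.map f) :=
    PowerSeries.map_injective f (RingHom.injective_int f)
  have hUV' : (U : PowerSeries ℚ) * P + (V : PowerSeries ℚ) * Q = 1 := by
    rw [← Polynomial.coe_mul, ← Polynomial.coe_mul, ← Polynomial.coe_add, hUV, Polynomial.coe_one]
  have hQW : (Q : PowerSeries ℚ) * ((U : PowerSeries ℚ) * Z' + V) = 1 := by
    rw [← hUV', hZ]; ring
  have hmapF : PowerSeries.map f (F : PowerSeries ℤ) = PowerSeries.C (d : ℚ) * (Q : PowerSeries ℚ) := by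
    rw [← Polynomial.polynomial_map_coe, hF, Polynomial.coe_mul, Polynomial.coe_C]
  have hmapFU : PowerSeries.map f (FU : PowerSeries ℤ) = PowerSeries.C (a : ℚ) * (U : PowerSeries ℚ) := by
    rw [← Polynomial.polynomial_map_coe, hFU, Polynomial.coe_mul, Polynomial.coe_C]
  have hmapFV : PowerSeries.map f (FV : PowerSeries ℤ) = PowerSeries.C (b : ℚ) * (V : PowerSeries ℚ) := by
    rw [← Polynomial.polynomial_map_coe, hFV, Polynomial.coe_mul, Polynomial.coe_C]
  have hFW : (F : PowerSeries ℤ) * (PowerSeries.C b * FU * Z + PowerSeries.C a * FV) =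
      PowerSeries.C (d * a * b) := by
    apply hinj
    rw [map_mul, map_add, map_mul, map_mul, map_mul, hmapF, hmapFU, hmapFV, PowerSeries.map_C,
      PowerSeries.map_C, PowerSeries.map_C]
    simp only [hf, eq_intCast, Int.cast_mul, map_mul]
    calc PowerSeries.C (d : ℚ) * (Q : PowerSeries ℚ) *
          (PowerSeries.C (b : ℚ) * (PowerSeries.C (a : ℚ) * (U : PowerSeries ℚ)) * Z' +
            PowerSeries.C (a : ℚ) * (PowerSeries.C (b : ℚ) * (V : PowerSeries ℚ)))
        = PowerSeries.C (d : ℚ) * PowerSeries.C (a : ℚ) * PowerSeries.C (b : ℚ) *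
            ((Q : PowerSeries ℚ) * ((U : PowerSeries ℚ) * Z' + V)) := by ring
      _ = _ := by rw [hQW, mul_one]
  have hdiv := key _ _ _ (d * a * b) rfl (mul_ne_zero (mul_ne_zero hd ha) hb) hFW
  have hcoeff : ∀ k, (F.coeff k : ℚ) = d * Q.coeff k := by
    intro k
    have := congrArg (fun p => Polynomial.coeff p k) hF
    simpa [Polynomial.coeff_map] using this
  have hF0 : F.coeff 0 = d := by
    have := hcoeff 0
    rw [hQ, mul_one] at this
    exact_mod_cast this
  have hQlift : Q ∈ Polynomial.lifts f := by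
    rw [Polynomial.lifts_iff_coeff_lifts]
    intro k
    have hk := hdiv k
    rw [Polynomial.coeff_coe, Polynomial.coeff_coe, hF0] at hk
    obtain ⟨z, hz⟩ := hk
    refine ⟨z, ?_⟩
    have h2 := hcoeff k
    rw [hz] at h2
    have hd' : (d : ℚ) ≠ 0 := by exact_mod_cast hd
    have : (d : ℚ) * (z : ℚ) = d * Q.coeff k := by rw [← h2]; push_cast; ring
    simpa [hf] using mul_left_cancel₀ hd' this
  obtain ⟨Q₀, hQ₀⟩ := (Polynomial.mem_lifts _).1 hQlift
  refine ⟨?_, ⟨Q₀, hQ₀⟩⟩
  rw [← Polynomial.mem_lifts, Polynomial.lifts_iff_coeff_lifts]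
  intro k
  refine ⟨PowerSeries.coeff k ((Q₀ : PowerSeries ℤ) * Z), ?_⟩
  have : PowerSeries.map f ((Q₀ : PowerSeries ℤ) * Z) = (P : PowerSeries ℚ) := by
    rw [map_mul, ← Polynomial.polynomial_map_coe, hQ₀, hZ]
  have h2 := congrArg (PowerSeries.coeff k) this
  rw [PowerSeries.coeff_map, Polynomial.coeff_coe] at h2
  exact h2

end Groth.Agent.S8630
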