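import Groth.Statements.S8666
import Mathlib.RingTheory.Nakayama
import Mathlib.RingTheory.Ideal.Operations
import Mathlib.Order.Preorder.Finite
-- import your own Groth.Agent.* helpers here

set_option autoImplicit false
universe u
open CAlg

namespace Groth.Agent.S8666


variable {A : Type u} [CommRing A] {M : Type u} [AddCommGroup M] [Module A M]

theorem exists_equiv [Module.Invertible A M] (q : PrimeSpectrum A) :
    Nonempty (LocalizedModule q.asIdeal.primeCompl M ≃ₗ[Localization.AtPrime q.asIdeal]
      Localization.AtPrime q.asIdeal) := by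
  have : Module.Free (Localization.AtPrime q.asIdeal) (LocalizedModule q.asIdeal.primeCompl M) :=
    inferInstance
  exact Module.Invertible.free_iff_linearEquiv.mp this

theorem dichotomy [Module.Invertible A M] (q : PrimeSpectrum A)
    (x : LocalizedModule q.asIdeal.primeCompl M) :
    Submodule.span (Localization.AtPrime q.asIdeal) {x} = ⊤ ∨
      x ∈ (IsLocalRing.maximalIdeal (Localization.AtPrime q.asIdeal)) •
        (⊤ : Submodule (Localization.AtPrime q.asIdeal) (LocalizedModule q.asIdeal.primeCompl M)) := by
  obtain ⟨e⟩ := exists_equiv (M := M) q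
  by_cases hu : IsUnit (e x)
  · left
    rw [eq_top_iff]
    intro y _
    obtain ⟨u, hu'⟩ := hu
    rw [Submodule.mem_span_singleton]
    refine ⟨e y * ↑u⁻¹, ?_⟩
    apply e.injective
    rw [map_smul, ← hu', smul_eq_mul, mul_assoc, Units.inv_mul, mul_one]
  · right
    have hx : x = (e x) • e.symm 1 := by
      apply e.injective
      rw [map_smul, LinearEquiv.apply_symm_apply, smul_eq_mul, mul_one]
    rw [hx]
    exact Submodule.smul_mem_smul ((IsLocalRing.mem_maximalIdeal _).2 hu) Submodule.mem_top

theorem nak [Module.Invertible A M] (q : PrimeSpectrum A)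
    (x z : LocalizedModule q.asIdeal.primeCompl M) (u : Localization.AtPrime q.asIdeal)
    (hx : Submodule.span (Localization.AtPrime q.asIdeal) {x} = ⊤) (hu : IsUnit u)
    (hz : z ∈ (IsLocalRing.maximalIdeal (Localization.AtPrime q.asIdeal)) •
        (⊤ : Submodule (Localization.AtPrime q.asIdeal) (LocalizedModule q.asIdeal.primeCompl M))) :
    Submodule.span (Localization.AtPrime q.asIdeal) {u • x + z} = ⊤ := by
  rw [eq_top_iff]
  have hfg : (⊤ : Submodule (Localization.AtPrime q.asIdeal)
      (LocalizedModule q.asIdeal.primeCompl M)).FG := Module.Finite.fg_top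
  apply Submodule.le_of_le_smul_of_le_jacobson_bot hfg
    (I := IsLocalRing.maximalIdeal (Localization.AtPrime q.asIdeal))
  · rw [IsLocalRing.jacobson_eq_maximalIdeal _ bot_ne_top]
  · rw [← hx, Submodule.span_le, Set.singleton_subset_iff, hx]
    obtain ⟨u', rfl⟩ := hu
    have : x = (↑u'⁻¹ : Localization.AtPrime q.asIdeal) • ((u' : Localization.AtPrime q.asIdeal) • x + z)
        + (-(↑u'⁻¹ : Localization.AtPrime q.asIdeal)) • z := by
      rw [smul_add, smul_smul, Units.inv_mul, one_smul, neg_smul]
      abel
    generalize (u' : Localization.AtPrime q.asIdeal) • x + z = w at this ⊢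
    rw [this]
    apply Submodule.add_mem
    · exact Submodule.mem_sup_left
        (Submodule.smul_mem _ _ (Submodule.mem_span_singleton_self _))
    · exact Submodule.mem_sup_right (Submodule.smul_mem _ _ hz)

theorem exists_gen [Module.Invertible A M] (q : PrimeSpectrum A) :
    ∃ m : M, Submodule.span (Localization.AtPrime q.asIdeal)
      {LocalizedModule.mkLinearMap q.asIdeal.primeCompl M m} = ⊤ := by
  obtain ⟨e⟩ := exists_equiv (M := M) q
  obtain ⟨m, t, hmt⟩ : ∃ (m : M) (t : q.asIdeal.primeCompl), e.symm 1 = LocalizedModule.mk m t := by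
    induction e.symm 1 using LocalizedModule.induction_on with
    | h m t => exact ⟨m, t, rfl⟩
  refine ⟨m, ?_⟩
  have h1 : Submodule.span (Localization.AtPrime q.asIdeal) {e.symm 1} = ⊤ := by
    rw [eq_top_iff]
    intro y _
    rw [Submodule.mem_span_singleton]
    refine ⟨e y, ?_⟩
    apply e.injective
    rw [map_smul, LinearEquiv.apply_symm_apply, smul_eq_mul, mul_one]
  have h2 : LocalizedModule.mkLinearMap q.asIdeal.primeCompl M m =
      (algebraMap A (Localization.AtPrime q.asIdeal) (t : A)) • e.symm 1 + 0 := by
    rw [hmt, add_zero, LocalizedModule.mkLinearMap_apply, algebraMap_smul, LocalizedModule.smul'_mk]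
    rw [LocalizedModule.mk_eq]
    exact ⟨1, by simp [Submonoid.smul_def]⟩
  rw [h2]
  exact nak q _ _ _ h1 (IsLocalization.map_units _ t) (Submodule.zero_mem _)


theorem mk_smul_eq (q : PrimeSpectrum A) (b : A) (m : M) :
    LocalizedModule.mkLinearMap q.asIdeal.primeCompl M (b • m) =
      (algebraMap A (Localization.AtPrime q.asIdeal) b) •
        LocalizedModule.mkLinearMap q.asIdeal.primeCompl M m := by
  rw [map_smul, algebraMap_smul]

theorem exists_for_finset [Module.Invertible A M] :
    ∀ (n : ℕ) (T : Finset (PrimeSpectrum A)), T.card = n →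
      ∃ s : M, ∀ q ∈ T, Submodule.span (Localization.AtPrime q.asIdeal)
        {LocalizedModule.mkLinearMap q.asIdeal.primeCompl M s} = ⊤ := by
  classical
  intro n
  induction n with
  | zero =>
    intro T h
    rw [Finset.card_eq_zero] at h
    subst h
    exact ⟨0, fun q hq => absurd hq (Finset.notMem_empty q)⟩
  | succ n ih =>
    intro T h
    have hne : T.Nonempty := by
      rw [← Finset.card_pos]; omega
    obtain ⟨q, hqmem, hqmin⟩ := T.exists_minimal hne
    have hcard : (T.erase q).card = n := by
      rw [Finset.card_erase_of_mem hqmem]; omega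
    obtain ⟨s₀, hs₀⟩ := ih (T.erase q) hcard
    rcases dichotomy (M := M) q (LocalizedModule.mkLinearMap q.asIdeal.primeCompl M s₀) with hgen | hmax
    · refine ⟨s₀, fun p hp => ?_⟩
      by_cases hpq : p = q
      · subst hpq; exact hgen
      · exact hs₀ p (Finset.mem_erase.2 ⟨hpq, hp⟩)
    · obtain ⟨m, hm⟩ := exists_gen (M := M) q
      have hnot : ¬ ((T.erase q).inf PrimeSpectrum.asIdeal ≤ q.asIdeal) := by
        rw [Ideal.IsPrime.inf_le' q.isPrime]
        rintro ⟨p, hp, hle⟩
        have hp' := Finset.mem_erase.1 hp
        have hle' : p ≤ q := hle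
        have := hqmin hp'.2 hle'
        exact hp'.1 (le_antisymm hle' this)
      obtain ⟨b, hb, hbq⟩ := SetLike.not_le_iff_exists.1 hnot
      refine ⟨s₀ + b • m, fun p hp => ?_⟩
      by_cases hpq : p = q
      · subst hpq
        rw [map_add, mk_smul_eq, add_comm]
        refine nak p _ _ _ hm ?_ hmax
        exact IsLocalization.map_units _ (⟨b, hbq⟩ : p.asIdeal.primeCompl)
      · have hp' : p ∈ T.erase q := Finset.mem_erase.2 ⟨hpq, hp⟩
        have hbp : b ∈ p.asIdeal := (Finset.inf_le hp' : _ ≤ p.asIdeal) hb
        rw [map_add, mk_smul_eq]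
        have := nak p (LocalizedModule.mkLinearMap p.asIdeal.primeCompl M s₀)
          ((algebraMap A (Localization.AtPrime p.asIdeal) b) •
            LocalizedModule.mkLinearMap p.asIdeal.primeCompl M m) 1 (hs₀ p hp') isUnit_one ?_
        · rwa [one_smul] at this
        · apply Submodule.smul_mem_smul _ Submodule.mem_top
          exact (IsLocalization.AtPrime.to_map_mem_maximal_iff _ p.asIdeal b).2 hbp

/-- Let A be a Noetherian ring, M an invertible A-module and p_1, …, p_k finitely many primes of A
(points of Spec A). Then there is a single element s ∈ M whose image generates M_{p_i} as an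
A_{p_i}-module for every i, i.e. s is a basis of the stalk of M at each of the given points. -/
theorem result (A : Type u) [CommRing A] [IsNoetherianRing A]
    (M : Type u) [AddCommGroup M] [Module A M] [Module.Invertible A M] (ι : Type) [Finite ι] (p : ι → PrimeSpectrum A) :
    ∃ s : M, ∀ i : ι, Submodule.span (Localization.AtPrime (p i).asIdeal)
      {LocalizedModule.mkLinearMap (p i).asIdeal.primeCompl M s} = ⊤ := by
  classical
  have : Fintype ι := Fintype.ofFinite ι
  obtain ⟨s, hs⟩ := exists_for_finset (M := M) _ (Finset.univ.image p) rfl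
  exact ⟨s, fun i => hs (p i) (Finset.mem_image_of_mem p (Finset.mem_univ i))⟩

end Groth.Agent.S8666
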