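import Groth.Statements.S8678
import Mathlib
import Groth.Agent.S8649

set_option autoImplicit false
universe u
open Finset
open LambdaRing

namespace Groth.Agent.S8678

open PowerSeries in
theorem coeff_mul_mk_one {K : Type u} [CommRing K] (f : PowerSeries K) (n : ℕ) :
    PowerSeries.coeff n (f * PowerSeries.mk (1 : ℕ → K)) =
      ∑ i ∈ Finset.range (n + 1), PowerSeries.coeff i f := by
  rw [PowerSeries.coeff_mul, Finset.Nat.sum_antidiagonal_eq_sum_range_succ
    (fun i j => PowerSeries.coeff i f * PowerSeries.coeff j (PowerSeries.mk (1 : ℕ → K)))]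
  simp

open PowerSeries in
theorem lamSeries_line {K : Type u} [CommRing K] [LambdaRing.LambdaOps K] (L : K)
    (hL : ∀ j : ℕ, 2 ≤ j → LambdaRing.LambdaOps.lam j L = 0) :
    LambdaRing.lamSeries L = 1 + PowerSeries.C L * PowerSeries.X := by
  ext k
  simp only [LambdaRing.lamSeries, PowerSeries.coeff_mk, map_add, PowerSeries.coeff_one]
  rcases k with _ | _ | k
  · simp [LambdaRing.LambdaOps.lam_zero]
  · simp [LambdaRing.LambdaOps.lam_one]
  · rw [hL (k + 2) (by omega)]
    have : PowerSeries.coeff (k + 2) (PowerSeries.C L * PowerSeries.X) = 0 := by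
      rw [show k + 2 = (k + 1) + 1 by rfl, PowerSeries.coeff_succ_mul_X, PowerSeries.coeff_C]
      simp
    rw [this]
    simp


/-- As the identity it proves in the pre-λ-ring K(Y') of the exceptional divisor: let K be a pre-λ-ring
(λ^0 = 1, λ^1 = id, additive formula) with λ^k(1) = 0 for all k ≥ 2, let d ≥ 2, and let F, L, N' ∈ K
satisfy λ^j(L) = 0 for j ≥ 2 (L is the class of an invertible module), λ^i(N') = 0 for i ≥ d − 1 (N'
is the class of a bundle of rank d − 2) and F + L = N' + 2 (for the blowing up of a regular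
immersion of codimension d: on the exceptional divisor the pulled-back conormal class is F + L, and
N = N' + 2). Then 1 − L divides λ_{−1}(F) = Σ_{i<d} (−1)^i λ^i(F). (The published proof uses only
additivity of λ_t and λ_t(1) = 1 + t, the hypotheses taken here.) -/
theorem result (K : Type u) [CommRing K] [LambdaRing.LambdaOps K]
    (h1 : ∀ k : ℕ, 2 ≤ k → LambdaRing.LambdaOps.lam k (1 : K) = 0) (d : ℕ) (hd : 2 ≤ d) (F L N' : K)
    (hL : ∀ j : ℕ, 2 ≤ j → LambdaRing.LambdaOps.lam j L = 0) (hN' : ∀ i : ℕ, d - 1 ≤ i → LambdaRing.LambdaOps.lam i N' = 0)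
    (hrel : F + L = N' + 2) :
    (1 - L) ∣ ∑ i ∈ range d, (-1 : K) ^ i * LambdaRing.LambdaOps.lam i F := by
  have hser : LambdaRing.lamSeries F * LambdaRing.lamSeries L =
      LambdaRing.lamSeries N' * (1 + PowerSeries.X) ^ 2 := by
    rw [← Groth.Agent.S8649.lamSeries_add, hrel, Groth.Agent.S8649.lamSeries_add]
    have := Groth.Agent.S8649.lamSeries_natCast h1 2
    rw [Nat.cast_ofNat] at this
    rw [this]
  rw [lamSeries_line L hL] at hser
  set G := PowerSeries.rescale (-1 : K) (LambdaRing.lamSeries F) with hG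
  set Pm := PowerSeries.rescale (-1 : K) (LambdaRing.lamSeries N') with hPm
  set u : PowerSeries K := PowerSeries.mk (1 : ℕ → K) with hu
  have h2 := congrArg (PowerSeries.rescale (-1 : K)) hser
  simp only [map_mul, map_add, map_one, map_pow, PowerSeries.rescale_neg_one_X] at h2
  rw [← hG, ← hPm] at h2
  have hC : PowerSeries.rescale (-1 : K) (PowerSeries.C L) = PowerSeries.C L := by
    ext n
    rw [PowerSeries.coeff_rescale, PowerSeries.coeff_C]
    split_ifs with h
    · subst h; simp
    · simp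
  rw [hC] at h2
  have hu1 : u * (1 - PowerSeries.X) = 1 := PowerSeries.mk_one_mul_one_sub_eq_one K
  have h3 : G * u + PowerSeries.C (1 - L) * (PowerSeries.X * (G * u ^ 2)) = Pm := by
    have e1 : G * u + PowerSeries.C (1 - L) * (PowerSeries.X * (G * u ^ 2)) =
        (G * (1 + PowerSeries.C L * -PowerSeries.X)) * u ^ 2 +
          G * u * (1 - u * (1 - PowerSeries.X)) +
          PowerSeries.C L * PowerSeries.X * G * u * (u * (1 - PowerSeries.X) - 1) * 0 := by
      rw [map_sub, map_one]
      ring
    rw [e1, h2, hu1]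
    have e2 : Pm * (1 + -PowerSeries.X) ^ 2 * u ^ 2 = Pm * (u * (1 - PowerSeries.X)) ^ 2 := by ring
    rw [e2, hu1]
    ring
  have h4 := congrArg (PowerSeries.coeff (d - 1)) h3
  rw [map_add, coeff_mul_mk_one, PowerSeries.coeff_C_mul] at h4
  have h5 : PowerSeries.coeff (d - 1) Pm = 0 := by
    rw [hPm, PowerSeries.coeff_rescale]
    simp only [LambdaRing.lamSeries, PowerSeries.coeff_mk]
    rw [hN' (d - 1) le_rfl, mul_zero]
  rw [h5] at h4
  have h6 : ∑ i ∈ range d, (-1 : K) ^ i * LambdaRing.LambdaOps.lam i F =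
      ∑ i ∈ Finset.range (d - 1 + 1), PowerSeries.coeff i G := by
    have : d - 1 + 1 = d := by omega
    rw [this]
    refine Finset.sum_congr rfl fun i _ => ?_
    rw [hG, PowerSeries.coeff_rescale]
    simp only [LambdaRing.lamSeries, PowerSeries.coeff_mk]
  rw [h6]
  refine ⟨-PowerSeries.coeff (d - 1) (PowerSeries.X * (G * u ^ 2)), ?_⟩
  rw [mul_neg, ← sub_eq_zero, sub_neg_eq_add]
  exact h4

end Groth.Agent.S8678
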