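import Groth.Statements.S8690
import Groth.Agent.Lib.Helper95.Lead
-- import your own Groth.Agent.* helpers here

set_option autoImplicit false
universe u v
open LambdaRing

namespace Groth.Agent.S8690

open Groth.Agent.Lib.Helper95.GamFil Groth.Agent.Lib.Helper95.GammaClosure
  Groth.Agent.Lib.Helper95.Lead Groth.Agent.Lib.Helper26.LambdaGamma

/-- Let K be a binomial ring carrying its binomial λ-structure, and A a λ-ring in the strict sense which
is an augmented K-λ-algebra with augmentation ε : A → K. Let Fil^m A denote the γ-filtration of A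
with respect to ε (the ideal generated by the products γ^{i_1}(x_1) ⋯ γ^{i_r}(x_r) with i_1 + ⋯ +
i_r ≥ m and every ε(x_s) = 0). Then for every m ≥ 1 and every z ∈ Fil^m A, γ^m(z) ≡ (−1)^{m−1}
(m−1)! · z modulo Fil^{m+1} A; equivalently the m-th Chern class of z in Gr^m A is the class of
(−1)^{m−1} (m−1)! z. The hypotheses hP and hQ, that the universal polynomials exist for all indices,
are true statements carried so that the identities of A can be used at every index. -/
theorem result
    (K : Type u) [CommRing K] [LambdaRing.LambdaOps K] [BinomialRing K] (hKb : LambdaRing.IsBinomial K)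
    (hK : LambdaRing.IsSpecial K)
    (A : Type v) [CommRing A] [LambdaRing.LambdaOps A] [Algebra K A] (hA : LambdaRing.IsSpecial A)
    (hP : ∀ n : ℕ, ∃ P : MvPolynomial (Fin n ⊕ Fin n) ℤ, LambdaRing.IsMulPoly n P)
    (hQ : ∀ i j : ℕ, ∃ Q : MvPolynomial (Fin (i * j)) ℤ, LambdaRing.IsCompPoly i j Q)
    (ε : A →ₐ[K] K) (hε : LambdaRing.IsAugLambdaAlg K A ε)
    (m : ℕ) (hm : 1 ≤ m) (z : A) (hz : z ∈ LambdaRing.gammaFil (ε : A →+* K) m) :
    LambdaRing.gamma m z - (-1 : A) ^ (m - 1) * ((m - 1).factorial : A) * z ∈
      LambdaRing.gammaFil (ε : A →+* K) (m + 1) := by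
  have hFil := gammaFil_isFilt (ε : A →+* K)
  have hgen : ∀ l : List (ℕ × A), (∀ p ∈ l, (ε : A →+* K) p.2 = 0) → m ≤ (l.map Prod.fst).sum →
      ZP (gammaFil (ε : A →+* K)) m ((l.map fun p => gamma p.1 p.2).prod) := fun l hl hs =>
    ⟨sgood_listProd hA _ l hl m hs hm, lead_listProd hA _ l hl m hs hm⟩
  have key : ZP (gammaFil (ε : A →+* K)) m z := by
    unfold gammaFil at hz
    induction hz using Submodule.closure_induction with
    | zero => exact ZP.zero hFil hm
    | add x y _ _ hx hy => exact ZP.add hFil hm hx hy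
    | smul_mem a x hx =>
      obtain ⟨l, hl, hs, rfl⟩ := hx
      set g := (l.map fun p => gamma p.1 p.2).prod with hg
      set a0 := a - algebraMap K A (ε a) with ha0
      have hεa0 : (ε : A →+* K) a0 = 0 := by
        show ε a0 = 0
        rw [ha0, map_sub, AlgHom.commutes]
        simp
      have hsplit : a • g = algebraMap K A (ε a) * g + a0 * g := by
        rw [ha0, smul_eq_mul]; ring
      rw [hsplit]
      refine ZP.add hFil hm (ZP.smul hFil hA hKb hε.isLambdaAlg hm _ (hgen l hl hs)) ?_
      have hl' : ∀ p ∈ (1, a0) :: l, (ε : A →+* K) p.2 = 0 := by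
        intro p hp
        rcases List.mem_cons.mp hp with rfl | hp
        · exact hεa0
        · exact hl p hp
      have hs' : m + 1 ≤ (((1, a0) :: l).map Prod.fst).sum := by
        simp only [List.map_cons, List.sum_cons]; omega
      have hprod : (((1, a0) :: l).map fun p => gamma p.1 p.2).prod = a0 * g := by
        simp only [List.map_cons, List.prod_cons, gamma_one_left, hg]
      rw [← hprod]
      exact ZP.of_succ hFil hm (sgood_listProd hA _ _ hl' (m + 1) hs' (by omega))
        (Ideal.subset_span ⟨_, hl', hs', rfl⟩)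
  exact key.2

end Groth.Agent.S8690
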