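import Groth.Statements.S8691
import Groth.Agent.Lib.Helper95.UQ3
-- import your own Groth.Agent.* helpers here

set_option autoImplicit false
universe u
open Finset
open LambdaRing

namespace Groth.Agent.S8691

open Groth.Agent.Lib.Helper95.GamFil Groth.Agent.Lib.Helper95.UQ Groth.Agent.Lib.Helper95.Rep
  Groth.Agent.Lib.Helper26.LambdaGamma

lemma dvd_lam_of_dvd_gamma {K : Type u} [CommRing K] [LambdaRing.LambdaOps K] (Γ z : K)
    (h : ∀ a, 1 ≤ a → Γ ∣ gamma a z) (p : ℕ) : Γ ∣ LambdaOps.lam (p + 1) z := by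
  induction p using Nat.strong_induction_on with
  | _ p ih =>
    have h1 := h (p + 1) (by omega)
    rw [gamma_succ, Finset.sum_range_succ, Nat.choose_self, Nat.cast_one, one_mul] at h1
    have h2 : Γ ∣ ∑ j ∈ range p, (p.choose j : K) * LambdaOps.lam (j + 1) z :=
      Finset.dvd_sum fun j hj => Dvd.dvd.mul_left (ih j (Finset.mem_range.mp hj)) _
    exact (dvd_add_right h2).mp h1

/-- Let K be a λ-ring in the strict sense, d a natural number and N ∈ K with λ^i(N) = 0 for every i > d;
put λ_{−1}(N) = Σ_{i=0}^{d} (−1)^i λ^i(N). Then for every p ≥ 1 and every x ∈ K the element λ^p(x ·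
λ_{−1}(N)) is divisible by λ_{−1}(N). (The published statement is for the λ-ring generated over the
integers by N and x subject to λ^i(N) = 0 for i > d, a polynomial ring; the divisibility passes to
any λ-ring along the λ-homomorphism sending the generators to N and x, which is the substituted form
stated here.) The hypotheses hP and hQ, existence of the universal polynomials, are true statements
carried so that the identities of K can be used at every index. -/
theorem result (K : Type u) [CommRing K] [LambdaRing.LambdaOps K]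
    (hK : LambdaRing.IsSpecial K)
    (hP : ∀ n : ℕ, ∃ P : MvPolynomial (Fin n ⊕ Fin n) ℤ, LambdaRing.IsMulPoly n P)
    (hQ : ∀ i j : ℕ, ∃ Q : MvPolynomial (Fin (i * j)) ℤ, LambdaRing.IsCompPoly i j Q)
    (d : ℕ) (N : K) (hN : ∀ i : ℕ, d < i → LambdaRing.LambdaOps.lam i N = 0)
    (p : ℕ) (hp : 1 ≤ p) (x : K) :
    (∑ i ∈ range (d + 1), (-1 : K) ^ i * LambdaRing.LambdaOps.lam i N) ∣
      LambdaRing.LambdaOps.lam p (x * ∑ i ∈ range (d + 1), (-1 : K) ^ i * LambdaRing.LambdaOps.lam i N) := by
  rcases Nat.eq_zero_or_pos d with rfl | hd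
  · simp [LambdaOps.lam_zero]
  set L := ∑ i ∈ range (d + 1), (-1 : K) ^ i * LambdaRing.LambdaOps.lam i N with hL
  set n : K := N - (d : K) with hn
  set w : K := (-1 : K) ^ d with hw
  have hww : w * w = 1 := by
    rw [hw, ← pow_add, ← two_mul, pow_mul]; simp
  have hnr : ∀ k, d < k → gamma k n = 0 := gamma_rank_zero hK.lam_one_eq_zero d N hN
  have hΓ : gamma d n = w * L := gamma_rank_top hK.lam_one_eq_zero d N
  have hLΓ : L = w * gamma d n := by
    rw [hΓ, ← mul_assoc, hww, one_mul]
  obtain ⟨Rs, _, hRs, _, _, _⟩ := univ_quot.{u} d hd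
    (MvPolynomial.X ((0 : Fin 1), 0) : MvPolynomial (Fin 1 × ℕ) ℤ) 0 (fun _ _ => Nat.zero_le _)
  have hdiv : ∀ a, 1 ≤ a → gamma d n ∣ gamma a (x * L) := by
    intro a ha
    have := hRs a ha K hK n (fun _ : Fin 1 => w * x) hnr
    rw [evG_X, gamma_one_left] at this
    have e : x * L = w * x * gamma d n := by rw [hLΓ]; ring
    rw [e, this]
    exact Dvd.intro _ rfl
  obtain ⟨p', rfl⟩ : ∃ p', p = p' + 1 := ⟨p - 1, by omega⟩
  obtain ⟨c, hc⟩ := dvd_lam_of_dvd_gamma (gamma d n) (x * L) hdiv p'
  refine ⟨w * c, ?_⟩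
  rw [hc, hΓ]; ring

end Groth.Agent.S8691
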