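import Groth.Statements.S8695
import Groth.Agent.Lib.Helper95.UQ3
-- import your own Groth.Agent.* helpers here

set_option autoImplicit false
universe u v
open Finset nonZeroDivisors
open LambdaRing

namespace Groth.Agent.S8695

open Groth.Agent.Lib.Helper95.GamFil Groth.Agent.Lib.Helper95.UQ
  Groth.Agent.Lib.Helper26.LambdaGamma

/-- In the case where λ_{−1}(N) is a non-zero-divisor: let K be a binomial ring with its binomial
λ-structure, A a λ-ring in the strict sense which is an augmented K-λ-algebra with augmentation ε,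
and Fil^n A the γ-filtration (the ideal generated by products of γ^{i}(z) with ε(z) = 0 of total
weight ≥ n; all of A for n = 0). Let d ≥ 1 and N ∈ A be of rank d, that is λ^k(N) = 0 for all k > d
and ε(N) = d; put λ_{−1}(N) = Σ_{i ≤ d} (−1)^i λ^i(N), and suppose λ_{−1}(N) is a non-zero-divisor.
Then for p ≥ 1 and x ∈ A, the unique y with y · λ_{−1}(N) = γ^p(x · λ_{−1}(N)) — when it exists —
lies in Fil^{p−d} A. (The published statement is γ^p(N, x) ∈ Fil^{p−d} A for the element γ^p(N, x)
defined by substitution from the universal λ-ring, where it is characterised by γ^p(N, x) ·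
λ_{−1}(N) = γ^p(x · λ_{−1}(N)); this row covers the case in which that identity determines the
element, λ_{−1}(N) being a non-zero-divisor. The published statement also omits the condition ε(N) =
d, which its proof uses when it maps the universal generator to N − d compatibly with the
augmentations; without it N = 0, d = 1, x = 1, p = 2 in the integers gives γ^2(1) = 1 outside Fil^1
= 0, so ε(N) = d is assumed here, as is the standing assumption d ≥ 1.) The hypotheses hP and hQ,
existence of the universal polynomials, are true statements carried so that the identities of A can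
be used at every index. -/
theorem result
    (K : Type u) [CommRing K] [LambdaRing.LambdaOps K] [BinomialRing K] (hKb : LambdaRing.IsBinomial K)
    (hK : LambdaRing.IsSpecial K)
    (A : Type v) [CommRing A] [LambdaRing.LambdaOps A] [Algebra K A] (hA : LambdaRing.IsSpecial A)
    (hP : ∀ n : ℕ, ∃ P : MvPolynomial (Fin n ⊕ Fin n) ℤ, LambdaRing.IsMulPoly n P)
    (hQ : ∀ i j : ℕ, ∃ Q : MvPolynomial (Fin (i * j)) ℤ, LambdaRing.IsCompPoly i j Q)
    (ε : A →ₐ[K] K) (hε : LambdaRing.IsAugLambdaAlg K A ε)
    (d : ℕ) (hd : 1 ≤ d) (N : A) (hN : ∀ k : ℕ, d < k → LambdaRing.LambdaOps.lam k N = 0) (hNε : ε N = (d : K))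
    (hnzd : (∑ j ∈ range (d + 1), (-1 : A) ^ j * LambdaRing.LambdaOps.lam j N) ∈ A⁰)
    (p : ℕ) (hp : 1 ≤ p) (x y : A)
    (hy : y * (∑ j ∈ range (d + 1), (-1 : A) ^ j * LambdaRing.LambdaOps.lam j N) = LambdaRing.gamma p (x * (∑ j ∈ range (d + 1), (-1 : A) ^ j * LambdaRing.LambdaOps.lam j N))) :
    y ∈ LambdaRing.gammaFil (ε : A →+* K) (p - d) := by
  set L := ∑ j ∈ range (d + 1), (-1 : A) ^ j * LambdaRing.LambdaOps.lam j N with hL
  set n : A := N - (d : A) with hn
  set u : A := (-1 : A) ^ d with hu
  have huu : u * u = 1 := by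
    rw [hu, ← pow_add, ← two_mul, pow_mul]; simp
  have hn0 : ε n = 0 := by
    rw [hn, map_sub, hNε, map_natCast, sub_self]
  have hnr : ∀ k, d < k → gamma k n = 0 := gamma_rank_zero hA.lam_one_eq_zero d N hN
  have hΓ : gamma d n = u * L := gamma_rank_top hA.lam_one_eq_zero d N
  have hLΓ : L = u * gamma d n := by
    rw [hΓ, ← mul_assoc, huu, one_mul]
  have hFil := gammaFil_isFilt (ε : A →+* K)
  have hw : u * x ∈ gammaFil (ε : A →+* K) 0 := by rw [hFil.zero]; trivial
  obtain ⟨q, hq, _⟩ := dq_of_mem hKb hA ε hε hd n hn0 hnr 0 (u * x) hw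
  have h1 := (hq p hp).2
  have e1 : x * L = u * x * gamma d n := by rw [hLΓ]; ring
  rw [e1, h1] at hy
  have h2 : (y * u - q p) * L = 0 := by
    have e2 : (y * u - q p) * L = u * (y * L) - q p * L := by ring
    rw [e2, hy, hΓ]
    have e3 : u * (u * L * q p) - q p * L = (u * u) * (L * q p) - q p * L := by ring
    rw [e3, huu]; ring
  have h3 : y * u - q p = 0 := hnzd.2 _ h2
  have h4 : y = u * q p := by
    have : y = (u * u) * y := by rw [huu, one_mul]
    rw [this, mul_assoc, mul_comm u y, sub_eq_zero.mp h3]
  rw [h4]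
  refine Ideal.mul_mem_left _ _ (hFil.anti ?_ (hq p hp).1)
  omega

end Groth.Agent.S8695
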