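import Groth.Statements.S8696
import Groth.Agent.Lib.Helper95.UQ3
-- import your own Groth.Agent.* helpers here

set_option autoImplicit false
universe u v
open Finset nonZeroDivisors
open LambdaRing

namespace Groth.Agent.S8696

open Groth.Agent.Lib.Helper95.GamFil Groth.Agent.Lib.Helper95.UQ
  Groth.Agent.Lib.Helper26.LambdaGamma

/-- In the case where λ_{−1}(N) is a non-zero-divisor: let K be a binomial ring with its binomial
λ-structure, R a λ-ring in the strict sense which is an augmented K-λ-algebra with augmentation ε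
and γ-filtration Fil^n R, d ≥ 1, N ∈ R of rank d (λ^k(N) = 0 for all k > d and ε(N) = d), λ_{−1}(N)
= Σ_{i ≤ d} (−1)^i λ^i(N) a non-zero-divisor, i a natural number and x ∈ Fil^i R. If y ∈ R satisfies
y · λ_{−1}(N) = γ^{d+i}(x · λ_{−1}(N)), then y − (−1)^{d+i−1} (d+i−1)! · x ∈ Fil^{i+1} R. (The
published statement is about the element γ^{d+i}(N, x) defined by substitution from the universal
λ-ring, characterised there by γ^{q}(N, x) · λ_{−1}(N) = γ^{q}(x · λ_{−1}(N)); this row covers the
case in which that identity determines the element. The published statement also omits ε(N) = d,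
which its proof uses when it maps the universal generator to N − d compatibly with the
augmentations; it is assumed here, together with the standing assumption d ≥ 1.) The hypotheses hP
and hQ, existence of the universal polynomials, are true statements carried so that the identities
of R can be used at every index. -/
theorem result
    (K : Type u) [CommRing K] [LambdaRing.LambdaOps K] [BinomialRing K] (hKb : LambdaRing.IsBinomial K)
    (hK : LambdaRing.IsSpecial K)
    (A : Type v) [CommRing A] [LambdaRing.LambdaOps A] [Algebra K A] (hA : LambdaRing.IsSpecial A)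
    (hP : ∀ n : ℕ, ∃ P : MvPolynomial (Fin n ⊕ Fin n) ℤ, LambdaRing.IsMulPoly n P)
    (hQ : ∀ i j : ℕ, ∃ Q : MvPolynomial (Fin (i * j)) ℤ, LambdaRing.IsCompPoly i j Q)
    (ε : A →ₐ[K] K) (hε : LambdaRing.IsAugLambdaAlg K A ε)
    (d : ℕ) (hd : 1 ≤ d) (N : A) (hN : ∀ k : ℕ, d < k → LambdaRing.LambdaOps.lam k N = 0) (hNε : ε N = (d : K))
    (hnzd : (∑ j ∈ range (d + 1), (-1 : A) ^ j * LambdaRing.LambdaOps.lam j N) ∈ A⁰)
    (i : ℕ) (x : A) (hx : x ∈ LambdaRing.gammaFil (ε : A →+* K) i) (y : A)
    (hy : y * (∑ j ∈ range (d + 1), (-1 : A) ^ j * LambdaRing.LambdaOps.lam j N) = LambdaRing.gamma (d + i) (x * (∑ j ∈ range (d + 1), (-1 : A) ^ j * LambdaRing.LambdaOps.lam j N))) :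
    y - (-1 : A) ^ (d + i - 1) * ((d + i - 1).factorial : A) * x ∈ LambdaRing.gammaFil (ε : A →+* K) (i + 1) := by
  set L := ∑ j ∈ range (d + 1), (-1 : A) ^ j * LambdaRing.LambdaOps.lam j N with hL
  set n : A := N - (d : A) with hn
  set u : A := (-1 : A) ^ d with hu
  have huu : u * u = 1 := by
    rw [hu, ← pow_add, ← two_mul, pow_mul]; simp
  have hn0 : ε n = 0 := by
    rw [hn, map_sub, hNε, map_natCast, sub_self]
  have hnr : ∀ k, d < k → gamma k n = 0 := gamma_rank_zero hA.lam_one_eq_zero d N hN
  have hΓ : gamma d n = u * L := gamma_rank_top hA.lam_one_eq_zero d N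
  have hLΓ : L = u * gamma d n := by
    rw [hΓ, ← mul_assoc, huu, one_mul]
  have hw : u * x ∈ gammaFil (ε : A →+* K) i := Ideal.mul_mem_left _ _ hx
  obtain ⟨q, hq, hlead⟩ := dq_of_mem hKb hA ε hε hd n hn0 hnr i (u * x) hw
  have h1 := (hq (d + i) (by omega)).2
  have e1 : x * L = u * x * gamma d n := by rw [hLΓ]; ring
  rw [e1, h1] at hy
  have h2 : (y * u - q (d + i)) * L = 0 := by
    have e2 : (y * u - q (d + i)) * L = u * (y * L) - q (d + i) * L := by ring
    rw [e2, hy, hΓ]
    have e3 : u * (u * L * q (d + i)) - q (d + i) * L =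
        (u * u) * (L * q (d + i)) - q (d + i) * L := by ring
    rw [e3, huu]; ring
  have h3 : y * u - q (d + i) = 0 := hnzd.2 _ h2
  have h4 : y = u * q (d + i) := by
    have : y = (u * u) * y := by rw [huu, one_mul]
    rw [this, mul_assoc, mul_comm u y, sub_eq_zero.mp h3]
  have h5 : y - (-1 : A) ^ (d + i - 1) * ((d + i - 1).factorial : A) * x =
      u * (q (d + i) - (-1 : A) ^ (d + i - 1) * ((d + i - 1).factorial : A) * (u * x)) := by
    rw [h4]
    have : u * (q (d + i) - (-1 : A) ^ (d + i - 1) * ((d + i - 1).factorial : A) * (u * x)) =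
        u * q (d + i) - (-1 : A) ^ (d + i - 1) * ((d + i - 1).factorial : A) * ((u * u) * x) := by
      ring
    rw [this, huu, one_mul]
  rw [h5]
  exact Ideal.mul_mem_left _ _ hlead

end Groth.Agent.S8696
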