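import Groth.Statements.S8697
import Groth.Agent.Lib.Helper95.GammaClosure
-- import your own Groth.Agent.* helpers here

set_option autoImplicit false
universe u v
open Finset
open LambdaRing

namespace Groth.Agent.S8697

open Groth.Agent.Lib.Helper95.GamFil Groth.Agent.Lib.Helper95.GammaClosure
  Groth.Agent.Lib.Helper95.Rep Groth.Agent.Lib.Helper26.LambdaGamma

section

variable {B : Type v} [CommRing B] [LambdaRing.LambdaOps B]

lemma SGood.pow {I : ℕ → Ideal B} (hI : IsFilt I) (hB : IsSpecial B) {z : B} (hz : SGood I z)
    (b : ℕ) (hb : b ≠ 0) : SGood I (z ^ b) := by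
  induction b with
  | zero => exact absurd rfl hb
  | succ b ih =>
    rcases Nat.eq_zero_or_pos b with rfl | hpos
    · simpa using hz
    · rw [pow_succ]
      exact SGood.mul hI hB (ih (by omega)) hz

lemma SGood.gamma_succ {I : ℕ → Ideal B} (hI : IsFilt I) (hB : IsSpecial B) {z : B}
    (hz : SGood I z) (j : ℕ) : SGood I (gamma (j + 1) z) := by
  have := SGood.evG hI hB (MvPolynomial.X ((0 : Fin 2), j)) (by simp) ![z, 0] (by
    intro g; fin_cases g
    · simpa using hz
    · simpa using sgood_zero hI)
  simpa using this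

lemma SGood.finsupp_prod {I : ℕ → Ideal B} (hI : IsFilt I) (hB : IsSpecial B) {τ : Type*}
    (g : τ → B) (hg : ∀ t, SGood I (g t)) (d : τ →₀ ℕ) (hd : d ≠ 0) :
    SGood I (d.prod fun t n => g t ^ n) := by
  classical
  induction d using Finsupp.induction with
  | zero => exact absurd rfl hd
  | single_add a b f haf hb ih =>
    rw [Finsupp.prod_add_index' (by simp) (by intro t m m'; rw [pow_add]),
      Finsupp.prod_single_index (by simp)]
    by_cases hf : f = 0
    · subst hf
      simpa using SGood.pow hI hB (hg a) b hb
    · exact SGood.mul hI hB (SGood.pow hI hB (hg a) b hb) (ih hf)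

end

/-- Let K be a binomial ring with its binomial λ-structure and B a λ-ring in the strict sense which is
an augmented K-λ-algebra with augmentation ε. Let x ∈ B satisfy ε(x) = 0 and γ^k(x) = 0 for every k
> n, and assume that γ^1(x), …, γ^n(x) are algebraically independent over K and generate B as a
K-algebra — so B is the K-λ-algebra generated by one element subject to the relations γ^k = 0 for k
> n, a polynomial ring K[γ^1 x, …, γ^n x]. Then for every k, the k-th ideal Fil^k B of the
γ-filtration (generated by the products of γ^{i}(z), ε(z) = 0, of total weight ≥ k) is the ideal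
generated by the monomials ∏_j (γ^j x)^{e_j} with Σ_j j·e_j ≥ k: the λ-ring filtration is the
filtration by the weight in the γ^j x. (With λ in place of γ — relations λ^k x = 0 for k > n and
weights in the λ^j x — the assertion fails already for n = 1, where γ^i(x) = x for all i ≥ 1 puts x
in every Fil^k while x is not in the ideal (x²); the form with γ stated here is the one the proof
establishes.) The hypotheses hP and hQ, existence of the universal polynomials, are true statements
carried so that the identities of B can be used at every index. -/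
theorem result
    (K : Type u) [CommRing K] [LambdaRing.LambdaOps K] [BinomialRing K] (hKb : LambdaRing.IsBinomial K)
    (hK : LambdaRing.IsSpecial K)
    (B : Type v) [CommRing B] [LambdaRing.LambdaOps B] [Algebra K B] (hB : LambdaRing.IsSpecial B)
    (hP : ∀ n : ℕ, ∃ P : MvPolynomial (Fin n ⊕ Fin n) ℤ, LambdaRing.IsMulPoly n P)
    (hQ : ∀ i j : ℕ, ∃ Q : MvPolynomial (Fin (i * j)) ℤ, LambdaRing.IsCompPoly i j Q)
    (ε : B →ₐ[K] K) (hε : LambdaRing.IsAugLambdaAlg K B ε)
    (n : ℕ) (x : B) (hx : ε x = 0) (hγ : ∀ k : ℕ, n < k → LambdaRing.gamma k x = 0)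
    (hind : AlgebraicIndependent K (fun j : Fin n => LambdaRing.gamma ((j : ℕ) + 1) x))
    (hgen : Algebra.adjoin K (Set.range fun j : Fin n => LambdaRing.gamma ((j : ℕ) + 1) x) = ⊤)
    (k : ℕ) :
    LambdaRing.gammaFil (ε : B →+* K) k =
      Ideal.span {m : B | ∃ e : Fin n → ℕ, k ≤ ∑ j : Fin n, ((j : ℕ) + 1) * e j ∧
        m = ∏ j : Fin n, LambdaRing.gamma ((j : ℕ) + 1) x ^ e j} := by
  classical
  set g : Fin n → B := fun j => gamma ((j : ℕ) + 1) x with hg
  set I : ℕ → Ideal B := fun k => Ideal.span {m : B | ∃ e : Fin n → ℕ,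
    k ≤ ∑ j : Fin n, ((j : ℕ) + 1) * e j ∧ m = ∏ j : Fin n, g j ^ e j} with hIdef
  have hFil := gammaFil_isFilt (ε : B →+* K)
  have hI : IsFilt I := by
    refine ⟨?_, ?_, ?_⟩
    · intro a b hab
      apply Ideal.span_mono
      rintro m ⟨e, he, rfl⟩
      exact ⟨e, hab.trans he, rfl⟩
    · rw [Ideal.eq_top_iff_one]
      exact Ideal.subset_span ⟨fun _ => 0, by simp, by simp⟩
    · intro a b y z hy hz
      have h := Ideal.mul_mem_mul hy hz
      simp only [hIdef] at h ⊢
      rw [Ideal.span_mul_span'] at h
      refine Ideal.span_mono ?_ h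
      rintro _ ⟨p, ⟨e, he, rfl⟩, q, ⟨e', he', rfl⟩, rfl⟩
      refine ⟨e + e', ?_, ?_⟩
      · simp only [Pi.add_apply, mul_add, Finset.sum_add_distrib]
        omega
      · simp only [Pi.add_apply, pow_add, Finset.prod_mul_distrib]
  have h1 : ∀ k, I k ≤ gammaFil (ε : B →+* K) k := by
    intro k
    apply Ideal.span_le.mpr
    rintro m ⟨e, he, rfl⟩
    refine hFil.anti he ?_
    have : ∀ s : Finset (Fin n), ∏ j ∈ s, g j ^ e j ∈
        gammaFil (ε : B →+* K) (∑ j ∈ s, ((j : ℕ) + 1) * e j) := by
      intro s
      induction s using Finset.induction_on with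
      | empty => simp [hFil.zero]
      | insert a s ha ih =>
        rw [Finset.prod_insert ha, Finset.sum_insert ha]
        refine hFil.mul ?_ ih
        rw [Nat.mul_comm]
        exact hFil.pow_mem (gamma_mem_gammaFil _ hx _) _
    exact this Finset.univ
  have hxgood : SGood I x := by
    intro i
    rcases Nat.eq_zero_or_pos i with rfl | hi
    · rw [gamma_zero_left, hI.zero]; trivial
    · by_cases hin : i ≤ n
      · refine Ideal.subset_span ⟨Pi.single ⟨i - 1, by omega⟩ 1, ?_, ?_⟩
        · rw [Finset.sum_eq_single (⟨i - 1, by omega⟩ : Fin n)]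
          · simp; omega
          · intro b _ hb; simp [hb]
          · simp
        · rw [Finset.prod_eq_single (⟨i - 1, by omega⟩ : Fin n)]
          · simp only [Pi.single_eq_same, pow_one, hg]
            congr 1; omega
          · intro b _ hb; simp [Pi.single_apply, hb]
          · simp
      · rw [hγ i (by omega)]; exact zero_mem _
  have hggood : ∀ j, SGood I (g j) := fun j => SGood.gamma_succ hI hB hxgood _
  have hεg : ∀ j, ε (g j) = 0 := by
    intro j
    have := map_gamma_of_map_lam (ε : B →+* K) hε.map_lam ((j : ℕ) + 1) x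
    simp only [RingHom.coe_coe] at this
    rw [hg, this, hx, gamma_zero_right, if_neg (Nat.succ_ne_zero _)]
  have hmain : ∀ z : B, ε z = 0 → SGood I z := by
    intro z hz
    have hzr : z ∈ (MvPolynomial.aeval g : MvPolynomial (Fin n) K →ₐ[K] B).range := by
      rw [← Algebra.adjoin_range_eq_range_aeval, hgen]; trivial
    obtain ⟨f, hf⟩ := hzr
    replace hf : MvPolynomial.aeval g f = z := hf
    subst hf
    have hf0 : MvPolynomial.constantCoeff f = 0 := by
      have h2 : ε (MvPolynomial.aeval g f) = MvPolynomial.aeval (fun j => ε (g j)) f := by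
        rw [← AlgHom.comp_apply, MvPolynomial.comp_aeval]
      rw [h2] at hz
      have h3 : (fun j => ε (g j)) = (0 : Fin n → K) := funext hεg
      rw [h3, MvPolynomial.aeval_zero] at hz
      simpa using hz
    rw [f.as_sum, map_sum]
    refine SGood.sum hI _ _ fun d hd => ?_
    rw [MvPolynomial.aeval_monomial]
    have hd0 : d ≠ 0 := by
      rintro rfl
      rw [MvPolynomial.mem_support_iff, ← MvPolynomial.constantCoeff_eq] at hd
      exact hd hf0
    exact SGood.smul hI hB hKb hε.isLambdaAlg _ (SGood.finsupp_prod hI hB g hggood d hd0)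
  have h2 : ∀ k, gammaFil (ε : B →+* K) k ≤ I k := by
    intro k
    apply Ideal.span_le.mpr
    rintro y ⟨l, hl, hs, rfl⟩
    refine hI.anti hs ?_
    clear hs
    induction l with
    | nil => simp [hI.zero]
    | cons a l ih =>
      simp only [List.map_cons, List.sum_cons, List.prod_cons]
      refine hI.mul (hmain a.2 (hl a (List.mem_cons_self ..)) a.1) (ih fun p hp => hl p (List.mem_cons_of_mem _ hp))
  exact le_antisymm (h2 k) (h1 k)

end Groth.Agent.S8697
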