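import Groth.Statements.S8698
import Groth.Agent.Lib.Helper95.GammaClosure2
-- import your own Groth.Agent.* helpers here

set_option autoImplicit false
universe u v w
open Finset
open LambdaRing

namespace Groth.Agent.S8698

open Groth.Agent.Lib.Helper95.GamFil Groth.Agent.Lib.Helper95.GammaClosure
  Groth.Agent.Lib.Helper95.Rep Groth.Agent.Lib.Helper26.LambdaGamma

/-- Let K be a binomial ring with its binomial λ-structure, A a λ-ring in the strict sense which is an
augmented K-λ-algebra with augmentation ε_A, and B a λ-ring in the strict sense which is at once an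
augmented K-λ-algebra with augmentation ε_B and an A-algebra compatibly with the K-structures, the
structure map A → B commuting with the λ^n and ε_B restricting to ε_A on A. Let x ∈ B with ε_B(x) =
0, and assume that the family (γ^{j+1} x)_{j ∈ ℕ} is algebraically independent over A and generates
B as an A-algebra: B is the free λ-ring A[X, γ^2 X, γ^3 X, …] on one generator over A, augmented by
X ↦ 0. Then for every k the k-th ideal Fil^k B of the γ-filtration of B is the ideal generated by
the products a · m where m = ∏_j (γ^{j+1} x)^{e_j} is a monomial of weight i = Σ_j (j+1) e_j and a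
lies in (the image of) Fil^{k−i} A, with Fil^s A = A for s ≤ 0; that is, Fil^k B = Fil^k A +
Fil^{k−1} A·M_1 + ⋯ + Fil^0 A·M_k + (monomials of weight > k), M_i denoting the monomials of weight
i. The hypotheses hP and hQ, existence of the universal polynomials, are true statements carried so
that the identities of A and B can be used at every index. -/
theorem result
    (K : Type u) [CommRing K] [LambdaRing.LambdaOps K] [BinomialRing K] (hKb : LambdaRing.IsBinomial K)
    (hK : LambdaRing.IsSpecial K)
    (A : Type v) [CommRing A] [LambdaRing.LambdaOps A] [Algebra K A] (hA : LambdaRing.IsSpecial A)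
    (εA : A →ₐ[K] K) (hεA : LambdaRing.IsAugLambdaAlg K A εA)
    (B : Type w) [CommRing B] [LambdaRing.LambdaOps B] [Algebra K B] [Algebra A B] [IsScalarTower K A B]
    (hB : LambdaRing.IsSpecial B) (hAB : LambdaRing.IsLambdaAlg A B)
    (εB : B →ₐ[K] K) (hεB : LambdaRing.IsAugLambdaAlg K B εB) (hεAB : ∀ a : A, εB (algebraMap A B a) = εA a)
    (hP : ∀ n : ℕ, ∃ P : MvPolynomial (Fin n ⊕ Fin n) ℤ, LambdaRing.IsMulPoly n P)
    (hQ : ∀ i j : ℕ, ∃ Q : MvPolynomial (Fin (i * j)) ℤ, LambdaRing.IsCompPoly i j Q)
    (x : B) (hx : εB x = 0)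
    (hind : AlgebraicIndependent A (fun j : ℕ => LambdaRing.gamma (j + 1) x))
    (hgen : Algebra.adjoin A (Set.range fun j : ℕ => LambdaRing.gamma (j + 1) x) = ⊤)
    (k : ℕ) :
    LambdaRing.gammaFil (εB : B →+* K) k =
      Ideal.span {b : B | ∃ (e : ℕ →₀ ℕ) (a : A),
        a ∈ LambdaRing.gammaFil (εA : A →+* K) (k - e.sum fun j n => (j + 1) * n) ∧
        b = algebraMap A B a * e.prod fun j n => LambdaRing.gamma (j + 1) x ^ n} := by
  classical
  set g : ℕ → B := fun j => gamma (j + 1) x with hg
  set wtE : (ℕ →₀ ℕ) → ℕ := fun e => e.sum fun j n => (j + 1) * n with hwtE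
  set J : ℕ → Ideal B := fun k => Ideal.span {b : B | ∃ (e : ℕ →₀ ℕ) (a : A),
    a ∈ gammaFil (εA : A →+* K) (k - wtE e) ∧
    b = algebraMap A B a * e.prod fun j n => g j ^ n} with hJdef
  have hFA := gammaFil_isFilt (εA : A →+* K)
  have hFB := gammaFil_isFilt (εB : B →+* K)
  have hwt_add : ∀ e e' : ℕ →₀ ℕ, wtE (e + e') = wtE e + wtE e' := by
    intro e e'
    simp only [hwtE]
    rw [Finsupp.sum_add_index' (by simp) (by intro j m m'; rw [mul_add])]
  have hprod_add : ∀ e e' : ℕ →₀ ℕ, ((e + e').prod fun j n => g j ^ n) =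
      (e.prod fun j n => g j ^ n) * (e'.prod fun j n => g j ^ n) := by
    intro e e'
    rw [Finsupp.prod_add_index' (by simp) (by intro t m m'; rw [pow_add])]
  have hJ : IsFilt J := by
    refine ⟨?_, ?_, ?_⟩
    · intro a b hab
      apply Ideal.span_mono
      rintro m ⟨e, a', ha', rfl⟩
      exact ⟨e, a', hFA.anti (by omega) ha', rfl⟩
    · rw [Ideal.eq_top_iff_one]
      refine Ideal.subset_span ⟨0, 1, ?_, by simp⟩
      have : (0 : ℕ) - wtE 0 = 0 := Nat.zero_sub _
      rw [this, hFA.zero]; trivial
    · intro a b y z hy hz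
      have h := Ideal.mul_mem_mul hy hz
      simp only [hJdef] at h ⊢
      rw [Ideal.span_mul_span'] at h
      refine Ideal.span_mono ?_ h
      rintro _ ⟨p, ⟨e, a₁, ha₁, rfl⟩, q, ⟨e', a₂, ha₂, rfl⟩, rfl⟩
      refine ⟨e + e', a₁ * a₂, ?_, ?_⟩
      · rw [hwt_add]
        exact hFA.anti (by omega) (hFA.mul ha₁ ha₂)
      · rw [hprod_add, map_mul]; ring
  have hεg : ∀ j, εB (g j) = 0 := by
    intro j
    have := map_gamma_of_map_lam (εB : B →+* K) hεB.map_lam (j + 1) x
    simp only [RingHom.coe_coe] at this
    rw [hg, this, hx, gamma_zero_right, if_neg (Nat.succ_ne_zero _)]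
  have hgmem : ∀ j, g j ∈ gammaFil (εB : B →+* K) (j + 1) := fun j =>
    gamma_mem_gammaFil _ hx _
  have hprod_mem : ∀ e : ℕ →₀ ℕ, (e.prod fun j n => g j ^ n) ∈ gammaFil (εB : B →+* K) (wtE e) := by
    intro e
    have := hFB.finsupp_prod_mem (fun j : ℕ => j + 1) g hgmem e
    have e1 : Finsupp.weight (fun j : ℕ => j + 1) e = wtE e := by
      rw [Finsupp.weight_apply]
      simp only [hwtE, smul_eq_mul]
      exact Finsupp.sum_congr fun j _ => Nat.mul_comm _ _
    rwa [e1] at this
  have h1 : ∀ k, J k ≤ gammaFil (εB : B →+* K) k := by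
    intro k
    apply Ideal.span_le.mpr
    rintro m ⟨e, a, ha, rfl⟩
    have h2 : algebraMap A B a ∈ gammaFil (εB : B →+* K) (k - wtE e) :=
      map_mem_gammaFil (algebraMap A B) (fun n a => hAB n a) (εA : A →+* K) (εB : B →+* K)
        (fun a => hεAB a) ha
    exact hFB.anti (by omega) (hFB.mul h2 (hprod_mem e))
  have hxgood : SGood J x := by
    intro i
    rcases Nat.eq_zero_or_pos i with rfl | hi
    · rw [gamma_zero_left, hJ.zero]; trivial
    · refine Ideal.subset_span ⟨Finsupp.single (i - 1) 1, 1, ?_, ?_⟩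
      · have : wtE (Finsupp.single (i - 1) 1) = i := by
          simp only [hwtE]
          rw [Finsupp.sum_single_index (by simp)]
          omega
        rw [this, Nat.sub_self, hFA.zero]; trivial
      · rw [map_one, one_mul, Finsupp.prod_single_index (by simp), pow_one]
        simp only [hg]
        congr 1; omega
  have hggood : ∀ j, SGood J (g j) := fun j => sgood_gamma_succ hJ hB hxgood _
  have hAgood : ∀ a : A, εA a = 0 → SGood J (algebraMap A B a) := by
    intro a ha i
    have h2 := map_gamma_of_map_lam (algebraMap A B) (fun n a => hAB n a) i a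
    rw [← h2]
    refine Ideal.subset_span ⟨0, gamma i a, ?_, by simp⟩
    have : wtE 0 = 0 := by simp [hwtE]
    rw [this, Nat.sub_zero]
    exact gamma_mem_gammaFil _ ha i
  have hmain : ∀ z : B, εB z = 0 → SGood J z := by
    intro z hz
    have hzr : z ∈ (MvPolynomial.aeval g : MvPolynomial ℕ A →ₐ[A] B).range := by
      rw [← Algebra.adjoin_range_eq_range_aeval, hgen]; trivial
    obtain ⟨f, hf⟩ := hzr
    replace hf : MvPolynomial.aeval g f = z := hf
    subst hf
    have hexp : MvPolynomial.aeval g f = ∑ d ∈ f.support,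
        algebraMap A B (MvPolynomial.coeff d f) * d.prod fun j n => g j ^ n := by
      conv_lhs => rw [f.as_sum, map_sum]
      refine Finset.sum_congr rfl fun d _ => ?_
      rw [MvPolynomial.aeval_monomial]
    have hεprod : ∀ d : ℕ →₀ ℕ, d ≠ 0 → εB (d.prod fun j n => g j ^ n) = 0 := by
      intro d hd
      obtain ⟨t, ht⟩ : ∃ t, d t ≠ 0 := by
        by_contra h
        push Not at h
        exact hd (Finsupp.ext h)
      rw [Finsupp.prod, map_prod]
      apply Finset.prod_eq_zero (Finsupp.mem_support_iff.mpr ht)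
      rw [map_pow, hεg, zero_pow ht]
    have hf0 : εA (MvPolynomial.coeff 0 f) = 0 := by
      rw [hexp, map_sum] at hz
      rw [Finset.sum_eq_single (0 : ℕ →₀ ℕ)] at hz
      · simpa [hεAB] using hz
      · intro d _ hd
        rw [map_mul, hεprod d hd, mul_zero]
      · intro h0
        rw [MvPolynomial.notMem_support_iff.mp h0]
        simp
    rw [hexp]
    refine SGood.sum hJ _ _ fun d hd => ?_
    by_cases hd0 : d = 0
    · subst hd0
      simpa using hAgood _ hf0
    · set a := MvPolynomial.coeff d f with ha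
      set κ := εA a with hκ
      have hsplit : algebraMap A B a = algebraMap K B κ + algebraMap A B (a - algebraMap K A κ) := by
        rw [map_sub, ← IsScalarTower.algebraMap_apply]; ring
      have hmgood := sgood_finsupp_prod hJ hB g hggood d hd0
      rw [hsplit, add_mul]
      refine SGood.add hJ (SGood.smul hJ hB hKb hεB.isLambdaAlg κ hmgood) (SGood.mul hJ hB ?_ hmgood)
      apply hAgood
      rw [map_sub, AlgHom.commutes, hκ]
      simp
  have h2 : ∀ k, gammaFil (εB : B →+* K) k ≤ J k := by
    intro k
    apply Ideal.span_le.mpr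
    rintro y ⟨l, hl, hs, rfl⟩
    exact hJ.anti hs (list_prod_mem hJ l fun p hp => hmain p.2 (hl p hp))
  exact le_antisymm (h2 k) (h1 k)

end Groth.Agent.S8698
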