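import Groth.Statements.S8699
import Groth.Agent.Lib.Helper95.UnivPoly5
-- import your own Groth.Agent.* helpers here

set_option autoImplicit false
universe u
open LambdaRing

namespace Groth.Agent.S8699

open PowerSeries Groth.Agent.Lib.Helper26.LambdaAdams in
lemma adamsOp_binomial (K : Type u) [CommRing K] [LambdaRing.LambdaOps K] [BinomialRing K]
    (hKb : LambdaRing.IsBinomial K) (k : ℕ) (hk : 1 ≤ k) (x : K) :
    LambdaRing.adamsOp k x = x := by
  have hrec : ∀ n : ℕ, LambdaOps.lam (n + 1) x * ((n : K) + 1) = (x - n) * LambdaOps.lam n x := by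
    intro n
    rw [hKb, hKb]
    have h := Ring.choose_smul_choose x (Nat.le_succ n)
    rw [Nat.choose_succ_self_right, Nat.succ_sub (le_refl n), Nat.sub_self, Ring.choose_one_right,
      nsmul_eq_mul, Nat.cast_succ] at h
    rw [mul_comm, h, mul_comm]
  set G : PowerSeries K := PowerSeries.mk (fun n : ℕ => ((-1 : K)) ^ n) with hG
  have hG1 : (1 + PowerSeries.X) * G = 1 := by
    ext n
    rw [add_mul, one_mul, map_add]
    rcases n with _ | n
    · simp [hG]
    · rw [PowerSeries.coeff_succ_X_mul, hG, PowerSeries.coeff_mk, PowerSeries.coeff_mk]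
      simp [PowerSeries.coeff_one, pow_succ]
  have hD : PowerSeries.derivative K (lamSeries x) * (1 + PowerSeries.X) =
      PowerSeries.C x * lamSeries x := by
    ext n
    rw [mul_add, mul_one, map_add, PowerSeries.coeff_C_mul, coeff_lamSeries,
      PowerSeries.coeff_derivative, coeff_lamSeries]
    rcases n with _ | n
    · simp [LambdaOps.lam_zero, LambdaOps.lam_one]
    · rw [PowerSeries.coeff_succ_mul_X, PowerSeries.coeff_derivative, coeff_lamSeries, hrec (n + 1)]
      push_cast
      ring
  have hP : PowerSeries.C x * G = logDerivSeries x := by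
    apply logDeriv_unique
    calc PowerSeries.derivative K (lamSeries x)
        = PowerSeries.derivative K (lamSeries x) * ((1 + PowerSeries.X) * G) := by
          rw [hG1, mul_one]
      _ = (PowerSeries.derivative K (lamSeries x) * (1 + PowerSeries.X)) * G := by ring
      _ = PowerSeries.C x * G * lamSeries x := by rw [hD]; ring
  obtain ⟨k, rfl⟩ : ∃ j, k = j + 1 := ⟨k - 1, by omega⟩
  rw [adamsOp_succ, ← hP, PowerSeries.coeff_C_mul, hG, PowerSeries.coeff_mk, mul_left_comm, ← pow_add,
    Even.neg_one_pow ⟨k, rfl⟩, mul_one]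

/-- A binomial ring K (no additive torsion and all binomial coefficients C(x, n) defined) with its
binomial λ-structure λ^n(x) = C(x, n), i.e. λ_t(x) = (1 + t)^x, is a λ-ring in the strict sense:
λ_t(1) = 1 + t, λ^n(xy) = P_n(λ^1 x, …; λ^1 y, …) and λ^j(λ^i x) = Q_{i,j}(λ^1 x, …) for the
universal polynomials. In particular the integers with λ^n(m) = C(m, n) form a λ-ring. -/
theorem result (K : Type u) [CommRing K] [LambdaRing.LambdaOps K] [BinomialRing K]
    (hKb : LambdaRing.IsBinomial K) : LambdaRing.IsSpecial K := by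
  have hreg : ∀ m : ℕ, IsLeftRegular ((m : K) + 1) := by
    intro m a b hab
    have h1 : (m + 1) • a = (m + 1) • b := by
      simpa [nsmul_eq_mul] using hab
    let _ := BinomialRing.toIsAddTorsionFree (R := K)
    exact nsmul_right_injective (Nat.succ_ne_zero m) h1
  have hid : ∀ k : ℕ, 1 ≤ k → ∀ x : K, LambdaRing.adamsOp k x = x :=
    fun k hk x => adamsOp_binomial K hKb k hk x
  have h1 : ∀ k : ℕ, 1 ≤ k → LambdaRing.adamsOp k (1 : K) = 1 := fun k hk => hid k hk 1
  have hmul : ∀ k : ℕ, 1 ≤ k → ∀ x y : K,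
      LambdaRing.adamsOp k (x * y) = LambdaRing.adamsOp k x * LambdaRing.adamsOp k y := by
    intro k hk x y
    rw [hid k hk, hid k hk, hid k hk]
  have hcomp : ∀ k k' : ℕ, 1 ≤ k → 1 ≤ k' → ∀ x : K,
      LambdaRing.adamsOp k (LambdaRing.adamsOp k' x) = LambdaRing.adamsOp (k * k') x := by
    intro k k' hk hk' x
    rw [hid k' hk', hid k hk, hid (k * k') (Nat.one_le_iff_ne_zero.mpr (Nat.mul_ne_zero (by omega) (by omega)))]
  exact ⟨fun n hn => Groth.Agent.Lib.Helper95.UnivPoly.lam_one_eq_zero_of_adams hreg h1 n hn,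
    fun n P hP x y => Groth.Agent.Lib.Helper95.UnivPoly.lam_mul_of_adams hreg hmul n P hP x y,
    fun i j Q hQ x =>
      Groth.Agent.Lib.Helper95.UnivPoly.lam_lam_of_adams hreg h1 hmul hcomp i j Q hQ x⟩

end Groth.Agent.S8699
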