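import Groth.Statements.S8702
import Groth.Agent.Lib.Helper26.LambdaAdams

set_option autoImplicit false
universe u
open LambdaRing

namespace Groth.Agent.S8702

open Groth.Agent.Lib.Helper26.LambdaAdams PowerSeries Finset

noncomputable def sol {K : Type u} [CommRing K] [Algebra ℚ K] (P : ℕ → K) : ℕ → K
  | 0 => 1
  | n+1 => algebraMap ℚ K (1/((n:ℚ)+1)) * ∑ i : Fin (n+1), P (n - i) * sol P i
decreasing_by exact i.2

theorem sol_zero {K : Type u} [CommRing K] [Algebra ℚ K] (P : ℕ → K) : sol P 0 = 1 := by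
  rw [sol]

theorem sol_succ {K : Type u} [CommRing K] [Algebra ℚ K] (P : ℕ → K) (n : ℕ) :
    sol P (n + 1) * ((n : K) + 1) = ∑ p ∈ antidiagonal n, P p.1 * sol P p.2 := by
  rw [sol]
  have h : ((n : K) + 1) = algebraMap ℚ K ((n : ℚ) + 1) := by
    rw [map_add, map_natCast, map_one]
  rw [h, mul_comm, ← mul_assoc, ← map_mul]
  have h2 : ((n : ℚ) + 1) * (1 / ((n : ℚ) + 1)) = 1 := by
    field_simp
  rw [h2, map_one, one_mul]
  rw [Finset.Nat.sum_antidiagonal_eq_sum_range_succ_mk, Finset.sum_range]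
  rw [← Equiv.sum_comp Fin.revPerm]
  apply Finset.sum_congr rfl
  intro i _
  have h3 : ((Fin.revPerm i : Fin (n + 1)) : ℕ) = n - i := by
    rw [Fin.revPerm_apply, Fin.val_rev]
    omega
  have h4 : n - (n - (i : ℕ)) = i := by
    have := i.2
    omega
  rw [h3, h4]



variable {K : Type u} [CommRing K] [Algebra ℚ K]

def Pser (ψ : ℕ → K →+ K) (x : K) : ℕ → K := fun k => (-1) ^ k * ψ (k + 1) x

noncomputable def Lser (ψ : ℕ → K →+ K) (x : K) : K⟦X⟧ := PowerSeries.mk (sol (Pser ψ x))

theorem deriv_Lser (ψ : ℕ → K →+ K) (x : K) :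
    derivative K (Lser ψ x) = PowerSeries.mk (Pser ψ x) * Lser ψ x := by
  ext n
  rw [coeff_derivative, coeff_mul]
  unfold Lser
  rw [coeff_mk, sol_succ]
  apply Finset.sum_congr rfl
  intro p _
  rw [coeff_mk, coeff_mk]

theorem Pser_add (ψ : ℕ → K →+ K) (x y : K) :
    PowerSeries.mk (Pser ψ (x + y)) = PowerSeries.mk (Pser ψ x) + PowerSeries.mk (Pser ψ y) := by
  ext n
  rw [map_add, coeff_mk, coeff_mk, coeff_mk]
  unfold Pser
  rw [map_add, mul_add]

theorem constantCoeff_Lser (ψ : ℕ → K →+ K) (x : K) : constantCoeff (Lser ψ x) = 1 := by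
  rw [← coeff_zero_eq_constantCoeff_apply]
  unfold Lser
  rw [coeff_mk, sol_zero]

theorem Lser_add (ψ : ℕ → K →+ K) (x y : K) : Lser ψ (x + y) = Lser ψ x * Lser ψ y := by
  apply ode_unique (PowerSeries.mk (Pser ψ (x + y)))
  · exact deriv_Lser ψ (x + y)
  · rw [Derivation.leibniz, deriv_Lser, deriv_Lser, Pser_add, smul_eq_mul, smul_eq_mul]
    ring
  · rw [map_mul, constantCoeff_Lser, constantCoeff_Lser, constantCoeff_Lser, one_mul]

noncomputable def mkOps (ψ : ℕ → K →+ K) (hψ : ψ 1 = AddMonoidHom.id K) : LambdaOps K where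
  lam n x := sol (Pser ψ x) n
  lam_zero x := sol_zero _
  lam_one x := by
    have h := sol_succ (Pser ψ x) 0
    rw [Finset.Nat.antidiagonal_zero, Finset.sum_singleton, sol_zero, Nat.cast_zero,
      zero_add (1 : K), mul_one, mul_one] at h
    rw [h]
    show (-1) ^ 0 * ψ (0 + 1) x = x
    rw [pow_zero, one_mul, zero_add, hψ]
    rfl
  lam_add k x y := by
    have h := congrArg (coeff k) (Lser_add ψ x y)
    rw [coeff_mul, Finset.Nat.sum_antidiagonal_eq_sum_range_succ_mk] at h
    unfold Lser at h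
    rw [coeff_mk] at h
    rw [h]
    apply Finset.sum_congr rfl
    intro i _
    rw [coeff_mk, coeff_mk]

theorem lamSeries_mkOps (ψ : ℕ → K →+ K) (hψ : ψ 1 = AddMonoidHom.id K) (x : K) :
    @lamSeries K _ (mkOps ψ hψ) x = Lser ψ x := rfl

theorem ops_ext (L L' : LambdaOps K)
    (h : ∀ n x, @LambdaOps.lam K _ L n x = @LambdaOps.lam K _ L' n x) : L = L' := by
  cases L
  cases L'
  congr
  funext n x
  exact h n x



/-- Let K be a commutative ring which is an algebra over the rationals, and let ψ^k : K → K, k ≥ 1, be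
additive maps with ψ^1 the identity. Then there is one and only one pre-λ-structure on K whose Adams
operations (defined through the logarithmic derivative of λ_t) are the ψ^k for every k ≥ 1, namely
λ_t(x) = exp(Σ_{k ≥ 1} (−1)^{k−1} ψ^k(x) t^k / k): in characteristic zero, pre-λ-structures and
families of additive operations ψ^k with ψ^1 = id determine each other. (The value of the family at
k = 0 is ignored.) -/
theorem result (K : Type u) [CommRing K] [Algebra ℚ K]
    (ψ : ℕ → K →+ K) (hψ : ψ 1 = AddMonoidHom.id K) :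
    ∃! L : LambdaRing.LambdaOps K, ∀ k : ℕ, 1 ≤ k → ∀ x : K, @LambdaRing.adamsOp K _ L k x = ψ k x := by
  refine ⟨mkOps ψ hψ, ?_, ?_⟩
  · intro k hk x
    obtain ⟨j, rfl⟩ : ∃ j, k = j + 1 := ⟨k - 1, by omega⟩
    letI := mkOps ψ hψ
    have h1 : PowerSeries.mk (Pser ψ x) = logDerivSeries x := by
      apply logDeriv_unique
      rw [lamSeries_mkOps]
      exact deriv_Lser ψ x
    rw [adamsOp_succ, ← h1, coeff_mk]
    unfold Pser
    rw [← mul_assoc, ← pow_add, Even.neg_one_pow ⟨j, rfl⟩, one_mul]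
  · intro L' hL'
    apply ops_ext
    intro n x
    have h1 : @lamSeries K _ L' x = Lser ψ x := by
      apply ode_unique (PowerSeries.mk (Pser ψ x))
      · letI := L'
        rw [deriv_lamSeries]
        congr 1
        ext k
        rw [coeff_logDeriv, coeff_mk, hL' (k + 1) (by omega)]
        rfl
      · exact deriv_Lser ψ x
      · letI := L'
        rw [constantCoeff_lamSeries, constantCoeff_Lser, Units.val_one]
    have h2 := congrArg (coeff n) h1
    letI := L'
    rw [coeff_lamSeries] at h2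
    rw [h2]
    unfold Lser
    rw [coeff_mk]
    rfl

end Groth.Agent.S8702
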