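import Groth.Statements.S8704
import Groth.Agent.Lib.Helper26.LambdaGamma

set_option autoImplicit false
universe u v
open LambdaRing

namespace Groth.Agent.S8704

open Groth.Agent.Lib.Helper26.LambdaGamma Finset

section
variable {K : Type u} [CommRing K] {A : Type v} [CommRing A] [LambdaRing.LambdaOps A] [Algebra K A]
  (ε : A →ₐ[K] K) (S : Set A)

def Gset (n : ℕ) : Set A :=
  {y : A | ∃ l : List (ℕ × A), (∀ p ∈ l, p.2 ∈ S) ∧ n ≤ (l.map Prod.fst).sum ∧
        y = (l.map fun p => LambdaRing.gamma p.1 (p.2 - algebraMap K A (ε p.2))).prod}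

def W (n : ℕ) : Submodule K A := Submodule.span K (Gset ε S n)

theorem Gset_anti {n m : ℕ} (h : n ≤ m) : Gset ε S m ⊆ Gset ε S n := by
  rintro y ⟨l, h1, h2, h3⟩
  exact ⟨l, h1, h.trans h2, h3⟩

theorem W_anti {n m : ℕ} (h : n ≤ m) : W ε S m ≤ W ε S n :=
  Submodule.span_mono (Gset_anti ε S h)

theorem one_mem_W : (1 : A) ∈ W ε S 0 := by
  apply Submodule.subset_span
  exact ⟨[], by simp, by simp, by simp⟩

theorem Gset_mul {p q : ℕ} {a b : A} (ha : a ∈ Gset ε S p) (hb : b ∈ Gset ε S q) :
    a * b ∈ Gset ε S (p + q) := by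
  obtain ⟨l₁, h1, h2, rfl⟩ := ha
  obtain ⟨l₂, h1', h2', rfl⟩ := hb
  refine ⟨l₁ ++ l₂, ?_, ?_, ?_⟩
  · intro x hx
    rcases List.mem_append.1 hx with hx | hx
    · exact h1 x hx
    · exact h1' x hx
  · rw [List.map_append, List.sum_append]
    exact add_le_add h2 h2'
  · rw [List.map_append, List.prod_append]

theorem W_mul {p q : ℕ} {a b : A} (ha : a ∈ W ε S p) (hb : b ∈ W ε S q) :
    a * b ∈ W ε S (p + q) := by
  have key : ∀ g ∈ Gset ε S q, ∀ a ∈ W ε S p, a * g ∈ W ε S (p + q) := by
    intro g hg a ha
    induction ha using Submodule.span_induction with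
    | mem x hx => exact Submodule.subset_span (Gset_mul ε S hx hg)
    | zero => rw [zero_mul]; exact Submodule.zero_mem _
    | add x y _ _ hx hy => rw [add_mul]; exact Submodule.add_mem _ hx hy
    | smul k x _ hx => rw [smul_mul_assoc]; exact Submodule.smul_mem _ k hx
  induction hb using Submodule.span_induction with
  | mem x hx => exact key x hx a ha
  | zero => rw [mul_zero]; exact Submodule.zero_mem _
  | add x y _ _ hx hy => rw [mul_add]; exact Submodule.add_mem _ hx hy
  | smul k x _ hx => rw [mul_smul_comm]; exact Submodule.smul_mem _ k hx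

end



section
variable {K : Type u} [CommRing K] {A : Type v} [CommRing A] [LambdaRing.LambdaOps A] [Algebra K A]
  (ε : A →ₐ[K] K) (S : Set A)

def zz (x : A) : A := x - algebraMap K A (ε x)

theorem zz_add (x y : A) : zz ε (x + y) = zz ε x + zz ε y := by
  unfold zz
  rw [map_add, map_add]
  ring

theorem zz_neg (x : A) : zz ε (-x) = -zz ε x := by
  unfold zz
  rw [map_neg, map_neg]
  ring

theorem zz_zero : zz ε (0 : A) = 0 := by
  unfold zz
  rw [map_zero, map_zero, sub_zero]

theorem eps_zz (x : A) : ε (zz ε x) = 0 := by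
  unfold zz
  rw [map_sub, AlgHom.commutes, Algebra.algebraMap_self_apply, sub_self]

theorem zz_of_eps {x : A} (h : ε x = 0) : zz ε x = x := by
  unfold zz
  rw [h, map_zero, sub_zero]

theorem neg_step (z : A) (hz : ∀ i, gamma i z ∈ W ε S i) : ∀ i, gamma i (-z) ∈ W ε S i := by
  intro i
  induction i using Nat.strong_induction_on with
  | _ i ih =>
    cases i with
    | zero => rw [gamma_zero_left]; exact one_mem_W ε S
    | succ i =>
      have h := gamma_add (i + 1) (-z) z
      rw [neg_add_cancel, gamma_zero_right, if_neg (Nat.succ_ne_zero i),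
        Finset.Nat.antidiagonal_succ', Finset.sum_cons, gamma_zero_left, mul_one] at h
      have h2 : gamma (i + 1) (-z) =
          -∑ p ∈ Finset.map ((Function.Embedding.refl ℕ).prodMap ⟨Nat.succ, Nat.succ_injective⟩)
            (antidiagonal i), gamma p.1 (-z) * gamma p.2 z := by
        rw [eq_neg_iff_add_eq_zero]
        exact h.symm
      rw [h2]
      apply Submodule.neg_mem
      apply Submodule.sum_mem
      intro p hp
      rw [Finset.mem_map] at hp
      obtain ⟨q, hq, rfl⟩ := hp
      have hq' := Finset.mem_antidiagonal.1 hq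
      have hlt : q.1 < i + 1 := by omega
      have := W_mul ε S (ih q.1 hlt) (hz (q.2 + 1))
      have e : q.1 + (q.2 + 1) = i + 1 := by omega
      rw [e] at this
      exact this

theorem gamma_zz_mem (hS : AddSubgroup.closure S = ⊤) (x : A) :
    ∀ i, gamma i (zz ε x) ∈ W ε S i := by
  have hx : x ∈ AddSubgroup.closure S := by rw [hS]; trivial
  induction hx using AddSubgroup.closure_induction with
  | mem s hs =>
    intro i
    apply Submodule.subset_span
    refine ⟨[(i, s)], ?_, ?_, ?_⟩
    · intro p hp
      rw [List.mem_singleton] at hp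
      rw [hp]
      exact hs
    · simp
    · simp [zz]
  | zero =>
    intro i
    rw [zz_zero, gamma_zero_right]
    split_ifs with h
    · subst h
      exact one_mem_W ε S
    · exact Submodule.zero_mem _
  | add x y _ _ hx hy =>
    intro i
    rw [zz_add, gamma_add]
    apply Submodule.sum_mem
    intro p hp
    have := W_mul ε S (hx p.1) (hy p.2)
    rw [Finset.mem_antidiagonal.1 hp] at this
    exact this
  | neg x _ hx =>
    rw [zz_neg]
    exact neg_step ε S _ hx

theorem W_ideal (hS : AddSubgroup.closure S = ⊤) (n : ℕ) (a w : A) (hw : w ∈ W ε S n) :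
    a * w ∈ W ε S n := by
  have ha : a = algebraMap K A (ε a) + zz ε a := by
    unfold zz
    ring
  rw [ha, add_mul]
  apply Submodule.add_mem
  · rw [← Algebra.smul_def]
    exact Submodule.smul_mem _ _ hw
  · have h1 := gamma_zz_mem ε S hS a 1
    rw [gamma_one_left] at h1
    exact W_anti ε S (by omega) (W_mul ε S h1 hw)

theorem list_mem (hS : AddSubgroup.closure S = ⊤) (l : List (ℕ × A)) (hl : ∀ p ∈ l, ε p.2 = 0) :
    (l.map fun p => gamma p.1 p.2).prod ∈ W ε S (l.map Prod.fst).sum := by
  induction l with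
  | nil => simpa using one_mem_W ε S
  | cons p l ih =>
    simp only [List.map_cons, List.prod_cons, List.sum_cons]
    apply W_mul
    · have := gamma_zz_mem ε S hS p.2 p.1
      rw [zz_of_eps ε (hl p (List.mem_cons_self))] at this
      exact this
    · exact ih (fun q hq => hl q (List.mem_cons_of_mem _ hq))

end



/-- Let K and A be λ-rings in the strict sense, A an augmented K-λ-algebra with augmentation ε : A → K,
and Fil^n A its γ-filtration, the ideal generated by the products γ^{i_1}(x_1) ⋯ γ^{i_k}(x_k) with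
i_1 + ⋯ + i_k ≥ n and all ε(x_r) = 0. If a subset S generates A as an abelian group, then Fil^n A,
as a K-submodule of A, is generated over K by the products γ^{i_1}(s_1 − ε(s_1)) ⋯ γ^{i_k}(s_k −
ε(s_k)) with s_r ∈ S and i_1 + ⋯ + i_k ≥ n. -/
theorem result
    (K : Type u) [CommRing K] [LambdaRing.LambdaOps K] (hK : LambdaRing.IsSpecial K)
    (A : Type v) [CommRing A] [LambdaRing.LambdaOps A] [Algebra K A] (hA : LambdaRing.IsSpecial A)
    (ε : A →ₐ[K] K) (hε : LambdaRing.IsAugLambdaAlg K A ε)
    (S : Set A) (hS : AddSubgroup.closure S = ⊤) (n : ℕ) :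
    (LambdaRing.gammaFil (ε : A →+* K) n).restrictScalars K =
      Submodule.span K {y : A | ∃ l : List (ℕ × A), (∀ p ∈ l, p.2 ∈ S) ∧ n ≤ (l.map Prod.fst).sum ∧
        y = (l.map fun p => LambdaRing.gamma p.1 (p.2 - algebraMap K A (ε p.2))).prod} := by
  apply le_antisymm
  · intro x hx
    rw [Submodule.restrictScalars_mem] at hx
    show x ∈ W ε S n
    unfold gammaFil at hx
    induction hx using Submodule.span_induction with
    | mem y hy =>
      obtain ⟨l, h1, h2, rfl⟩ := hy
      exact W_anti ε S h2 (list_mem ε S hS l h1)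
    | zero => exact Submodule.zero_mem _
    | add a b _ _ ha hb => exact Submodule.add_mem _ ha hb
    | smul a w _ hw => exact W_ideal ε S hS n a w hw
  · rw [Submodule.span_le]
    rintro y ⟨l, h1, h2, rfl⟩
    rw [SetLike.mem_coe, Submodule.restrictScalars_mem]
    apply Ideal.subset_span
    refine ⟨l.map (fun p => (p.1, zz ε p.2)), ?_, ?_, ?_⟩
    · intro p hp
      rw [List.mem_map] at hp
      obtain ⟨q, _, rfl⟩ := hp
      exact eps_zz ε q.2
    · rw [List.map_map]
      exact h2
    · rw [List.map_map]
      rfl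

end Groth.Agent.S8704
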