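import Groth.Statements.S8705
import Mathlib.Algebra.Group.MinimalAxioms
import Mathlib.LinearAlgebra.Quotient.Basic
import Mathlib.LinearAlgebra.Finsupp.LinearCombination
import Mathlib.Tactic.Abel
import Mathlib.Tactic.Ring
import Mathlib.Tactic.Linarith
-- import your own Groth.Agent.* helpers here

set_option autoImplicit false
universe u
open SGA7

namespace Groth.Agent.S8705


structure Pair (Q P : Type u) where
  a : Q
  p : P

theorem Pair.ext' {Q P : Type u} {x y : Pair Q P} (h1 : x.a = y.a) (h2 : x.p = y.p) : x = y := by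
  cases x; cases y; cases h1; cases h2; rfl

set_option linter.style.haveILetI false in
theorem exists_ext {P Q : Type u} [AddCommGroup P] [AddCommGroup Q] (c : P → P → Q)
    (hc : ∀ p q r, c (p + q) r - c p (q + r) + c p q - c q r = 0)
    (hs : ∀ p q, c p q = c q p) :
    ∃ (E : Type u) (_ : AddCommGroup E) (ι : Q →+ E) (s : P → E),
      Function.Injective ι ∧ ∀ p q, s p + s q = ι (c p q) + s (p + q) := by
  have h0 : ∀ p, c p 0 = c 0 0 := by
    intro p
    have := hc p 0 0
    simp only [add_zero, sub_self, zero_add] at this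
    exact sub_eq_zero.mp this
  have h0' : ∀ p, c 0 p = c 0 0 := fun p => (hs 0 p).trans (h0 p)
  letI iadd : Add (Pair Q P) := ⟨fun x y => ⟨x.a + y.a + c x.p y.p, x.p + y.p⟩⟩
  letI izero : Zero (Pair Q P) := ⟨⟨-c 0 0, 0⟩⟩
  letI ineg : Neg (Pair Q P) := ⟨fun x => ⟨-x.a - c x.p (-x.p) - c 0 0, -x.p⟩⟩
  have add_a : ∀ x y : Pair Q P, (x + y).a = x.a + y.a + c x.p y.p := fun _ _ => rfl
  have add_p : ∀ x y : Pair Q P, (x + y).p = x.p + y.p := fun _ _ => rfl
  have zero_a : (0 : Pair Q P).a = -c 0 0 := rfl
  have zero_p : (0 : Pair Q P).p = 0 := rfl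
  have neg_a : ∀ x : Pair Q P, (-x).a = -x.a - c x.p (-x.p) - c 0 0 := fun _ => rfl
  have neg_p : ∀ x : Pair Q P, (-x).p = -x.p := fun _ => rfl
  letI grp : AddGroup (Pair Q P) := AddGroup.ofLeftAxioms
    (by
      intro x y z
      apply Pair.ext'
      · simp only [add_a, add_p]
        have := hc x.p y.p z.p
        have e : c (x.p + y.p) z.p = c x.p (y.p + z.p) - c x.p y.p + c y.p z.p := by
          rw [← sub_eq_zero, ← this]; abel
        rw [e]; abel
      · simp only [add_p]; exact add_assoc _ _ _)
    (by
      intro x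
      apply Pair.ext'
      · simp only [add_a, zero_a, zero_p, h0']; abel
      · simp only [add_p, zero_p, zero_add])
    (by
      intro x
      apply Pair.ext'
      · simp only [add_a, neg_a, neg_p, zero_a, hs (-x.p) x.p]; abel
      · simp only [add_p, neg_p, zero_p, neg_add_cancel])
  letI cgrp : AddCommGroup (Pair Q P) :=
    { grp with
      add_comm := by
        intro x y
        apply Pair.ext'
        · simp only [add_a, hs x.p y.p]; abel
        · simp only [add_p]; exact add_comm _ _ }
  refine ⟨Pair Q P, cgrp, ?_, fun p => ⟨0, p⟩, ?_, ?_⟩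
  · exact
      { toFun := fun a => ⟨a - c 0 0, 0⟩
        map_zero' := by
          apply Pair.ext'
          · simp only [zero_a]; abel
          · simp only [zero_p]
        map_add' := by
          intro a b
          apply Pair.ext'
          · simp only [add_a]; abel
          · simp only [add_p, add_zero] }
  · intro a b hab
    have := congrArg Pair.a hab
    simpa using this
  · intro p q
    apply Pair.ext'
    · simp only [add_a]
      show (0 : Q) + 0 + c p q = c p q - c 0 0 + 0 + c 0 (p + q)
      rw [h0' (p + q)]; abel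
    · simp only [add_p]
      show p + q = 0 + (p + q)
      rw [zero_add]

/-- In the case of the punctual topos (ordinary abelian groups): let P be an abelian group and consider
the complex of free abelian groups Z[P × P × P] ⊕ Z[P × P] → Z[P × P] → Z[P], augmented to P by [p]
↦ p, with d₀[p, q] = [p + q] − [p] − [q], with d₁ on the first summand given by [p, q, r] ↦ [p + q,
r] − [p, q + r] + [p, q] − [q, r] and on the second summand by [p, q] ↦ [p, q] − [q, p]. Then the
augmentation is surjective with kernel the image of d₀ (so H₀ is P), and the kernel of d₀ is the sum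
of the images of the two components of d₁ (so H₁ vanishes). (The published statement is for abelian
sheaves on an arbitrary topos; this row is its case of a one-point space.) -/
theorem result (P : Type u) [AddCommGroup P] :
    letI ε : (P →₀ ℤ) →ₗ[ℤ] P := Finsupp.linearCombination ℤ (fun p : P => p)
    letI d₀ : (P × P →₀ ℤ) →ₗ[ℤ] (P →₀ ℤ) := Finsupp.linearCombination ℤ
      (fun pq : P × P => Finsupp.single (pq.1 + pq.2) 1 - Finsupp.single pq.1 1 - Finsupp.single pq.2 1)
    letI d₁ : (P × P × P →₀ ℤ) →ₗ[ℤ] (P × P →₀ ℤ) := Finsupp.linearCombination ℤ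
      (fun t : P × P × P => Finsupp.single (t.1 + t.2.1, t.2.2) 1 - Finsupp.single (t.1, t.2.1 + t.2.2) 1
        + Finsupp.single (t.1, t.2.1) 1 - Finsupp.single (t.2.1, t.2.2) 1)
    letI d₁' : (P × P →₀ ℤ) →ₗ[ℤ] (P × P →₀ ℤ) := Finsupp.linearCombination ℤ
      (fun pq : P × P => Finsupp.single pq 1 - Finsupp.single (pq.2, pq.1) 1)
    Function.Surjective ε ∧ LinearMap.ker ε = LinearMap.range d₀ ∧
      LinearMap.ker d₀ = LinearMap.range d₁ ⊔ LinearMap.range d₁' := by
  set ε : (P →₀ ℤ) →ₗ[ℤ] P := Finsupp.linearCombination ℤ (fun p : P => p) with hεdef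
  set d₀ : (P × P →₀ ℤ) →ₗ[ℤ] (P →₀ ℤ) := Finsupp.linearCombination ℤ
      (fun pq : P × P => Finsupp.single (pq.1 + pq.2) 1 - Finsupp.single pq.1 1 - Finsupp.single pq.2 1)
    with hd₀def
  set d₁ : (P × P × P →₀ ℤ) →ₗ[ℤ] (P × P →₀ ℤ) := Finsupp.linearCombination ℤ
      (fun t : P × P × P => Finsupp.single (t.1 + t.2.1, t.2.2) 1 - Finsupp.single (t.1, t.2.1 + t.2.2) 1
        + Finsupp.single (t.1, t.2.1) 1 - Finsupp.single (t.2.1, t.2.2) 1) with hd₁def
  set d₁' : (P × P →₀ ℤ) →ₗ[ℤ] (P × P →₀ ℤ) := Finsupp.linearCombination ℤ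
      (fun pq : P × P => Finsupp.single pq 1 - Finsupp.single (pq.2, pq.1) 1) with hd₁'def
  have hε : ∀ p : P, ε (Finsupp.single p 1) = p := by
    intro p
    simp [ε, Finsupp.linearCombination_single]
  have hd₀ : ∀ p q : P, d₀ (Finsupp.single (p, q) 1) =
      Finsupp.single (p + q) 1 - Finsupp.single p 1 - Finsupp.single q 1 := by
    intro p q
    simp [d₀, Finsupp.linearCombination_single]
  have hd₁ : ∀ p q r : P, d₁ (Finsupp.single (p, q, r) 1) =
      Finsupp.single (p + q, r) 1 - Finsupp.single (p, q + r) 1
        + Finsupp.single (p, q) 1 - Finsupp.single (q, r) 1 := by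
    intro p q r
    simp [d₁, Finsupp.linearCombination_single]
  have hd₁' : ∀ p q : P, d₁' (Finsupp.single (p, q) 1) =
      Finsupp.single (p, q) 1 - Finsupp.single (q, p) 1 := by
    intro p q
    simp [d₁', Finsupp.linearCombination_single]
  refine ⟨fun p => ⟨Finsupp.single p 1, hε p⟩, ?_, ?_⟩
  · apply le_antisymm
    · intro x hx
      rw [LinearMap.mem_ker] at hx
      let φ : P →+ ((P →₀ ℤ) ⧸ LinearMap.range d₀) :=
        { toFun := fun p => (LinearMap.range d₀).mkQ (Finsupp.single p 1)
          map_zero' := by
            have h : d₀ (Finsupp.single (0, 0) 1) ∈ LinearMap.range d₀ := LinearMap.mem_range_self _ _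
            rw [hd₀, add_zero, sub_self, zero_sub, neg_mem_iff] at h
            exact (Submodule.Quotient.mk_eq_zero _).2 h
          map_add' := by
            intro p q
            have h : d₀ (Finsupp.single (p, q) 1) ∈ LinearMap.range d₀ := LinearMap.mem_range_self _ _
            rw [hd₀] at h
            have h2 := (Submodule.Quotient.mk_eq_zero _).2 h
            simp only [Submodule.mkQ_apply]
            rw [Submodule.Quotient.mk_sub, Submodule.Quotient.mk_sub, sub_sub, sub_eq_zero] at h2
            exact h2 }
      have key : (LinearMap.range d₀).mkQ = φ.toIntLinearMap ∘ₗ ε := by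
        apply Finsupp.lhom_ext'
        intro p
        apply LinearMap.ext_ring
        simp only [LinearMap.coe_comp, Function.comp_apply, Finsupp.lsingle_apply,
          AddMonoidHom.coe_toIntLinearMap]
        rw [hε]
        rfl
      have := LinearMap.congr_fun key x
      simp only [LinearMap.coe_comp, Function.comp_apply, hx, map_zero] at this
      exact (Submodule.Quotient.mk_eq_zero _).1 this
    · rw [LinearMap.range_le_ker_iff]
      apply Finsupp.lhom_ext'
      rintro ⟨p, q⟩
      apply LinearMap.ext_ring
      simp only [LinearMap.coe_comp, Function.comp_apply, Finsupp.lsingle_apply, LinearMap.zero_apply]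
      rw [hd₀, map_sub, map_sub, hε, hε, hε]
      abel
  · apply le_antisymm
    · intro x hx
      rw [LinearMap.mem_ker] at hx
      set N : Submodule ℤ (P × P →₀ ℤ) := LinearMap.range d₁ ⊔ LinearMap.range d₁' with hN
      let c : P → P → ((P × P →₀ ℤ) ⧸ N) := fun p q => N.mkQ (Finsupp.single (p, q) 1)
      have hc : ∀ p q r, c (p + q) r - c p (q + r) + c p q - c q r = 0 := by
        intro p q r
        have h : d₁ (Finsupp.single (p, q, r) 1) ∈ N :=
          (le_sup_left : LinearMap.range d₁ ≤ N) (LinearMap.mem_range_self _ _)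
        rw [hd₁] at h
        have h2 := (Submodule.Quotient.mk_eq_zero _).2 h
        simpa only [c, Submodule.mkQ_apply, Submodule.Quotient.mk_sub, Submodule.Quotient.mk_add]
          using h2
      have hsym : ∀ p q, c p q = c q p := by
        intro p q
        have h : d₁' (Finsupp.single (p, q) 1) ∈ N :=
          (le_sup_right : LinearMap.range d₁' ≤ N) (LinearMap.mem_range_self _ _)
        rw [hd₁'] at h
        have h2 := (Submodule.Quotient.mk_eq_zero _).2 h
        rw [Submodule.Quotient.mk_sub, sub_eq_zero] at h2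
        exact h2
      obtain ⟨E, iE, ι, s, hι, hs'⟩ := exists_ext c hc hsym
      let Φ : (P →₀ ℤ) →ₗ[ℤ] E := Finsupp.linearCombination ℤ s
      have hΦ : ∀ p : P, Φ (Finsupp.single p 1) = s p := by
        intro p
        simp [Φ, Finsupp.linearCombination_single]
      have key : Φ ∘ₗ d₀ = -(ι.toIntLinearMap ∘ₗ N.mkQ) := by
        apply Finsupp.lhom_ext'
        rintro ⟨p, q⟩
        apply LinearMap.ext_ring
        simp only [LinearMap.coe_comp, Function.comp_apply, Finsupp.lsingle_apply,
          LinearMap.neg_apply, AddMonoidHom.coe_toIntLinearMap]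
        rw [hd₀, map_sub, map_sub, hΦ, hΦ, hΦ]
        have := hs' p q
        have e : s (p + q) = s p + s q - ι (c p q) := by rw [this]; abel
        rw [e]
        show s p + s q - ι (c p q) - s p - s q = -ι (c p q)
        abel
      have h1 := LinearMap.congr_fun key x
      simp only [LinearMap.coe_comp, Function.comp_apply, hx, map_zero, LinearMap.neg_apply,
        AddMonoidHom.coe_toIntLinearMap] at h1
      have h2 : ι (N.mkQ x) = ι 0 := by
        rw [map_zero]
        exact neg_eq_zero.mp h1.symm
      exact (Submodule.Quotient.mk_eq_zero _).1 (hι h2)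
    · apply sup_le
      · rw [LinearMap.range_le_ker_iff]
        apply Finsupp.lhom_ext'
        rintro ⟨p, q, r⟩
        apply LinearMap.ext_ring
        simp only [LinearMap.coe_comp, Function.comp_apply, Finsupp.lsingle_apply,
          LinearMap.zero_apply]
        rw [hd₁, map_sub, map_add, map_sub, hd₀, hd₀, hd₀, hd₀, add_assoc]
        abel
      · rw [LinearMap.range_le_ker_iff]
        apply Finsupp.lhom_ext'
        rintro ⟨p, q⟩
        apply LinearMap.ext_ring
        simp only [LinearMap.coe_comp, Function.comp_apply, Finsupp.lsingle_apply,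
          LinearMap.zero_apply]
        rw [hd₁', map_sub, hd₀, hd₀, add_comm q p]
        abel

end Groth.Agent.S8705
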