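import Groth.Statements.S8709
import Groth.Agent.Lib.Helper32.Rosenlicht.BaseChange
import Groth.Prelude.Def_GmPts

set_option autoImplicit false
universe u
open CategoryTheory CategoryTheory.Limits MonoidalCategory CartesianMonoidalCategory MonObj AlgebraicGeometry
open SGA7

namespace Groth.Agent.S8709

/-- Let k be a field and X, Y two k-schemes of finite type which are geometrically reduced and
geometrically connected, with rational points e_X and e_Y. Then every k-morphism u from X ×_k Y to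
the multiplicative group whose restrictions to X × e_Y and to e_X × Y are trivial is trivial.
(Morphisms to the multiplicative group over k form a group; trivial means equal to its unit
element.) -/
theorem result (k : Type u) [Field k]
    (X Y : Over (Spec (CommRingCat.of k)))
    [LocallyOfFiniteType X.hom] [QuasiCompact X.hom] [GeometricallyReduced X.hom] [GeometricallyConnected X.hom]
    [LocallyOfFiniteType Y.hom] [QuasiCompact Y.hom] [GeometricallyReduced Y.hom] [GeometricallyConnected Y.hom]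
    (eX : 𝟙_ (Over (Spec (CommRingCat.of k))) ⟶ X) (eY : 𝟙_ (Over (Spec (CommRingCat.of k))) ⟶ Y)
    (u : X ⊗ Y ⟶ Red.Gm (Spec (CommRingCat.of k)))
    (huX : lift (𝟙 X) (toUnit X ≫ eY) ≫ u = 1) (huY : lift (toUnit Y ≫ eX) (𝟙 Y) ≫ u = 1) :
    u = 1 := by
  apply GmPts.gmFn_injective
  change Red.gmFn u = Red.gmFn 1
  rw [GmPts.gmFn_one]
  have h1 := congrArg Red.gmFn huX
  rw [GmPts.gmFn_comp, GmPts.gmFn_one] at h1
  have h2 := congrArg Red.gmFn huY
  rw [GmPts.gmFn_comp, GmPts.gmFn_one] at h2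
  have hσ1 : (lift (𝟙 X) (toUnit X ≫ eY)).left ≫ pullback.fst X.hom Y.hom = 𝟙 X.left :=
    congrArg CommaMorphism.left (lift_fst (𝟙 X) (toUnit X ≫ eY))
  have hσ2 : (lift (𝟙 X) (toUnit X ≫ eY)).left ≫ pullback.snd X.hom Y.hom = X.hom ≫ eY.left :=
    congrArg CommaMorphism.left (lift_snd (𝟙 X) (toUnit X ≫ eY))
  have hτ1 : (lift (toUnit Y ≫ eX) (𝟙 Y)).left ≫ pullback.fst X.hom Y.hom = Y.hom ≫ eX.left :=
    congrArg CommaMorphism.left (lift_fst (toUnit Y ≫ eX) (𝟙 Y))
  have hτ2 : (lift (toUnit Y ≫ eX) (𝟙 Y)).left ≫ pullback.snd X.hom Y.hom = 𝟙 Y.left :=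
    congrArg CommaMorphism.left (lift_snd (toUnit Y ≫ eX) (𝟙 Y))
  exact Groth.Agent.Lib.Helper32.Rosenlicht.eq_one_of_axes X.hom Y.hom
    ⟨eX.left, Over.w eX⟩ ⟨eY.left, Over.w eY⟩ (Red.gmFn u) (GmPts.isUnit_gmFn u)
    (lift (𝟙 X) (toUnit X ≫ eY)).left hσ1 hσ2 (lift (toUnit Y ≫ eX) (𝟙 Y)).left hτ1 hτ2 h1 h2

end Groth.Agent.S8709
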