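import Groth.Statements.S8720
import Mathlib
import Groth.Agent.Lib.Helper61.MvPSIdeal
import Groth.Agent.Lib.Helper61.MvPS

set_option autoImplicit false
universe u
open VanCyc

namespace Groth.Agent.S8720
open MvPowerSeries

variable (k : Type u) [Field k] (τ : Type)

/-- the maximal ideal -/
noncomputable abbrev Mx : Ideal (MvPowerSeries (Option τ) k) :=
  Ideal.span (Set.range (X : Option τ → MvPowerSeries (Option τ) k))

/-- the target ideal -/
noncomputable abbrev Nx : Ideal (MvPowerSeries (Option τ) k) :=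
  Ideal.span ({MvPowerSeries.X none ^ 2} ∪
        Set.range fun j : τ => (MvPowerSeries.X (some j) : MvPowerSeries (Option τ) k))

theorem X_mem_Mx (s : Option τ) : (X s : MvPowerSeries (Option τ) k) ∈ Mx k τ :=
  Ideal.subset_span ⟨s, rfl⟩

theorem Xsome_mem_Nx (j : τ) : (X (some j) : MvPowerSeries (Option τ) k) ∈ Nx k τ :=
  Ideal.subset_span (Or.inr ⟨j, rfl⟩)

theorem Xsq_mem_Nx : (X none ^ 2 : MvPowerSeries (Option τ) k) ∈ Nx k τ :=
  Ideal.subset_span (Or.inl rfl)

theorem Msq_le : (Mx k τ) ^ 2 ≤ Ideal.span {(X none ^ 2 : MvPowerSeries (Option τ) k)} ⊔ Mx k τ • Nx k τ := by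
  rw [pow_two, Mx, Ideal.span_mul_span', Ideal.span_le]
  rintro _ ⟨_, ⟨s, rfl⟩, _, ⟨t, rfl⟩, rfl⟩
  rcases s with _ | s
  · rcases t with _ | t
    · show X none * X none ∈ _
      rw [← pow_two]
      exact Ideal.mem_sup_left (Ideal.subset_span rfl)
    · exact Ideal.mem_sup_right (Submodule.smul_mem_smul (X_mem_Mx k τ none) (Xsome_mem_Nx k τ t))
  · show X (some s) * X t ∈ _
    rw [mul_comm]
    exact Ideal.mem_sup_right (Submodule.smul_mem_smul (X_mem_Mx k τ t) (Xsome_mem_Nx k τ s))

theorem Msq_le_N : (Mx k τ) ^ 2 ≤ Nx k τ := by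
  refine (Msq_le k τ).trans (sup_le ?_ ?_)
  · rw [Ideal.span_le]
    rintro _ rfl
    exact Xsq_mem_Nx k τ
  · exact Ideal.mul_le_right (I := Mx k τ) (J := Nx k τ)

theorem Mx_le_jac : Mx k τ ≤ Ideal.jacobson ⊥ := by
  intro x hx
  rw [Ideal.mem_jacobson_bot]
  intro y
  rw [MvPowerSeries.isUnit_iff_constantCoeff]
  have h0 : constantCoeff x = 0 := by
    have h1 : Mx k τ ≤ RingHom.ker (constantCoeff (σ := Option τ) (R := k)) := by
      rw [Ideal.span_le]
      rintro _ ⟨s, rfl⟩
      simp
    exact h1 hx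
  simp [h0]

theorem mem_Mpow [Finite τ] (n : ℕ) (g : MvPowerSeries (Option τ) k)
    (hg : ∀ e : Option τ →₀ ℕ, e.degree < n → coeff e g = 0) : g ∈ (Mx k τ) ^ n :=
  Groth.Agent.Lib.Helper61.MvPSIdeal.mem_pow_span_X_of_coeff_eq_zero n g hg

theorem pderiv_mem [Finite τ] (s : Option τ) (g : MvPowerSeries (Option τ) k)
    (hg : ∀ e : Option τ →₀ ℕ, e.degree < 3 → coeff e g = 0) : pderiv k s g ∈ (Mx k τ) ^ 2 := by
  apply mem_Mpow
  intro e he
  rw [coeff_pderiv, hg, zero_mul]
  rw [map_add, Finsupp.degree_single]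
  omega

/-- power series all of whose coefficients in degrees `≤ d` (product order) vanish -/
noncomputable def lowIdeal (d : Option τ →₀ ℕ) : Ideal (MvPowerSeries (Option τ) k) where
  carrier := {g | ∀ e ≤ d, coeff e g = 0}
  zero_mem' := by simp
  add_mem' := by
    intro a b ha hb e he
    rw [map_add, ha e he, hb e he, add_zero]
  smul_mem' := by
    classical
    intro a g hg e he
    rw [smul_eq_mul, coeff_mul]
    apply Finset.sum_eq_zero
    rintro ⟨p, q⟩ hpq
    rw [Finset.HasAntidiagonal.mem_antidiagonal] at hpq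
    have : q ≤ d := le_trans (by rw [← hpq]; exact le_add_left le_rfl) he
    rw [hg q this, mul_zero]

theorem le_single_iff (e : Option τ →₀ ℕ) :
    e ≤ Finsupp.single none 1 ↔ e = 0 ∨ e = Finsupp.single none 1 := by
  classical
  constructor
  · intro h
    have h1 : ∀ j : τ, e (some j) = 0 := by
      intro j
      have := h (some j)
      simpa using this
    have h2 : e none ≤ 1 := by simpa using h none
    rcases Nat.le_one_iff_eq_zero_or_eq_one.mp h2 with h3 | h3
    · left
      ext s
      rcases s with _ | j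
      · simpa using h3
      · simpa using h1 j
    · right
      ext s
      rcases s with _ | j
      · simpa using h3
      · simpa using h1 j
  · rintro (rfl | rfl)
    · exact zero_le
    · exact le_rfl


theorem Nx_le_low : Nx k τ ≤ lowIdeal k τ (Finsupp.single none 1) := by
  classical
  rw [Nx, Ideal.span_le]
  rintro x (hx | ⟨j, rfl⟩)
  · rw [Set.mem_singleton_iff] at hx
    subst hx
    intro e he
    rw [X_pow_eq, coeff_monomial, if_neg]
    rintro rfl
    have := he none
    simp at this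
  · intro e he
    rw [coeff_X, if_neg]
    rintro rfl
    have := he (some j)
    simp at this

theorem low_le_Nx [Fintype τ] : lowIdeal k τ (Finsupp.single none 1) ≤ Nx k τ := by
  classical
  intro g hg
  have hg0 : coeff 0 g = 0 := hg 0 zero_le
  have hg1 : coeff (Finsupp.single none 1) g = 0 := hg _ le_rfl
  obtain ⟨g', hg'⟩ : ∃ g', g' = g - ∑ j : τ, C (coeff (Finsupp.single (some j) 1) g) * X (some j) := ⟨_, rfl⟩
  have hsum : ∑ j : τ, C (coeff (Finsupp.single (some j) 1) g) * X (some j) ∈ Nx k τ :=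
    Ideal.sum_mem _ fun j _ => Ideal.mul_mem_left _ _ (Xsome_mem_Nx k τ j)
  have h2 : g' ∈ (Mx k τ) ^ 2 := by
    apply mem_Mpow
    intro e he
    have : e.degree = 0 ∨ e.degree = 1 := by omega
    rcases this with h | h
    · rw [Finsupp.degree_eq_zero_iff] at h
      subst h
      rw [hg', map_sub, hg0, map_sum, zero_sub, neg_eq_zero]
      apply Finset.sum_eq_zero
      intro j _
      rw [coeff_C_mul, coeff_X, if_neg, mul_zero]
      intro h0
      have := congrArg (fun z => z (some j)) h0
      simp at this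
    · obtain ⟨s, rfl⟩ := Groth.Agent.Lib.Helper61.exists_single_of_degree_eq_one e h
      rcases s with _ | j0
      · rw [hg', map_sub, hg1, map_sum, zero_sub, neg_eq_zero]
        apply Finset.sum_eq_zero
        intro j _
        rw [coeff_C_mul, coeff_X, if_neg, mul_zero]
        intro h0
        have := congrArg (fun z => z (some j)) h0
        simp at this
      · rw [hg', map_sub, map_sum, Finset.sum_eq_single j0, coeff_C_mul, coeff_X, if_pos rfl, mul_one,
          sub_self]
        · intro j _ hj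
          rw [coeff_C_mul, coeff_X, if_neg, mul_zero]
          intro h0
          have := congrArg (fun z => z (some j)) h0
          simp [Finsupp.single_apply, hj] at this
        · intro h; exact absurd (Finset.mem_univ _) h
  have : g = g' + ∑ j : τ, C (coeff (Finsupp.single (some j) 1) g) * X (some j) := by
    rw [hg']; ring
  rw [this]
  exact Ideal.add_mem _ (Msq_le_N k τ h2) hsum

/-- the coefficient map -/
noncomputable def Phi : MvPowerSeries (Option τ) k →ₗ[k] k × k :=
  LinearMap.prod (coeff (R := k) 0) (coeff (R := k) (Finsupp.single none 1))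

theorem Phi_apply (g : MvPowerSeries (Option τ) k) :
    Phi k τ g = (coeff 0 g, coeff (Finsupp.single none 1) g) := rfl

theorem Phi_surj : Function.Surjective (Phi k τ) := by
  classical
  rintro ⟨a, b⟩
  refine ⟨C a + C b * X none, ?_⟩
  rw [Phi_apply, map_add, map_add, coeff_C_mul, coeff_C_mul, coeff_X, coeff_X, coeff_C, coeff_C,
    if_pos rfl, if_pos rfl, if_neg, if_neg]
  · simp
  · intro h
    have := congrArg (fun z => z none) h
    simp at this
  · intro h
    have := congrArg (fun z => z none) h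
    simp at this

theorem Phi_eq_zero_iff [Fintype τ] (g : MvPowerSeries (Option τ) k) :
    Phi k τ g = 0 ↔ g ∈ Nx k τ := by
  rw [Phi_apply, Prod.mk_eq_zero]
  constructor
  · rintro ⟨h0, h1⟩
    apply low_le_Nx
    intro e he
    rcases (le_single_iff τ e).mp he with rfl | rfl
    · exact h0
    · exact h1
  · intro h
    have := Nx_le_low k τ h
    exact ⟨this 0 zero_le, this _ le_rfl⟩

theorem finrank_eq [Fintype τ] :
    Module.finrank k (MvPowerSeries (Option τ) k ⧸ Nx k τ) = 2 := by
  let q : MvPowerSeries (Option τ) k →ₗ[k] (MvPowerSeries (Option τ) k ⧸ Nx k τ) :=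
    (Ideal.Quotient.mkₐ k (Nx k τ)).toLinearMap
  have hq : Function.Surjective q := Ideal.Quotient.mk_surjective
  have hker : LinearMap.ker q = LinearMap.ker (Phi k τ) := by
    ext g
    rw [LinearMap.mem_ker, LinearMap.mem_ker, Phi_eq_zero_iff]
    exact Ideal.Quotient.eq_zero_iff_mem
  have e1 := LinearMap.quotKerEquivOfSurjective q hq
  have e2 := LinearMap.quotKerEquivOfSurjective (Phi k τ) (Phi_surj k τ)
  have e3 := Submodule.quotEquivOfEq _ _ hker
  rw [← e1.finrank_eq, e3.finrank_eq, e2.finrank_eq, Module.finrank_prod, Module.finrank_self]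

section main

variable [CharP k 2] (m : ℕ)

/-- the quadratic form -/
noncomputable def qf : MvPowerSeries (Option (Fin m ⊕ Fin m)) k :=
  MvPowerSeries.X none ^ 2 +
    ∑ i : Fin m, MvPowerSeries.X (some (Sum.inl i)) * MvPowerSeries.X (some (Sum.inr i))

theorem two_eq_zero : (2 : MvPowerSeries (Option (Fin m ⊕ Fin m)) k) = 0 := by
  have h : (2 : MvPowerSeries (Option (Fin m ⊕ Fin m)) k) = C (2 : k) := (map_ofNat C 2).symm
  rw [h, CharTwo.two_eq_zero, map_zero]

theorem pderiv_sq (s : Option (Fin m ⊕ Fin m)) :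
    pderiv k s (X none ^ 2 : MvPowerSeries (Option (Fin m ⊕ Fin m)) k) = 0 := by
  rw [pderiv_pow]
  push_cast
  rw [two_eq_zero, zero_mul, zero_mul]

theorem pderiv_none : pderiv k none (qf k m) = 0 := by
  rw [qf, map_add, pderiv_sq, zero_add, map_sum]
  apply Finset.sum_eq_zero
  intro i _
  rw [Derivation.leibniz, pderiv_X_of_ne (by simp), pderiv_X_of_ne (by simp), smul_zero, smul_zero,
    add_zero]

theorem pderiv_inl (i : Fin m) : pderiv k (some (Sum.inl i)) (qf k m) = X (some (Sum.inr i)) := by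
  rw [qf, map_add, pderiv_sq, zero_add, map_sum, Finset.sum_eq_single i]
  · rw [Derivation.leibniz, pderiv_X_self, pderiv_X_of_ne (by simp), smul_zero, zero_add, smul_eq_mul,
      mul_one]
  · intro j _ hj
    rw [Derivation.leibniz, pderiv_X_of_ne (by simp), pderiv_X_of_ne (by simpa using hj), smul_zero,
      smul_zero, add_zero]
  · intro h; exact absurd (Finset.mem_univ _) h

theorem pderiv_inr (i : Fin m) : pderiv k (some (Sum.inr i)) (qf k m) = X (some (Sum.inl i)) := by
  rw [qf, map_add, pderiv_sq, zero_add, map_sum, Finset.sum_eq_single i]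
  · rw [Derivation.leibniz, pderiv_X_self, pderiv_X_of_ne (by simp), smul_zero, add_zero, smul_eq_mul,
      mul_one]
  · intro j _ hj
    rw [Derivation.leibniz, pderiv_X_of_ne (by simpa using hj), pderiv_X_of_ne (by simp), smul_zero,
      smul_zero, add_zero]
  · intro h; exact absurd (Finset.mem_univ _) h

theorem pderiv_qf_mem (s : Option (Fin m ⊕ Fin m)) : pderiv k s (qf k m) ∈ Nx k (Fin m ⊕ Fin m) := by
  rcases s with _ | (i | i)
  · rw [pderiv_none]; exact zero_mem _
  · rw [pderiv_inl]; exact Xsome_mem_Nx k _ _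
  · rw [pderiv_inr]; exact Xsome_mem_Nx k _ _

theorem sum_mem_MN : ∑ i : Fin m, (X (some (Sum.inl i)) * X (some (Sum.inr i)) :
    MvPowerSeries (Option (Fin m ⊕ Fin m)) k) ∈ Mx k (Fin m ⊕ Fin m) • Nx k (Fin m ⊕ Fin m) :=
  Submodule.sum_mem _ fun i _ => Submodule.smul_mem_smul (X_mem_Mx k _ _) (Xsome_mem_Nx k _ _)

theorem Mcube_le : (Mx k (Fin m ⊕ Fin m)) ^ 3 ≤ Mx k (Fin m ⊕ Fin m) • Nx k (Fin m ⊕ Fin m) := by
  rw [pow_succ', smul_eq_mul]
  exact Ideal.mul_mono_right (Msq_le_N k _)

theorem main (f : MvPowerSeries (Option (Fin m ⊕ Fin m)) k)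
    (hf : ∀ d : Option (Fin m ⊕ Fin m) →₀ ℕ, d.degree < 3 →
      MvPowerSeries.coeff d f = MvPowerSeries.coeff d
        (MvPowerSeries.X none ^ 2 +
          ∑ i : Fin m, MvPowerSeries.X (some (Sum.inl i)) * MvPowerSeries.X (some (Sum.inr i)))) :
    Ideal.span ({f} ∪ Set.range fun i : Option (Fin m ⊕ Fin m) => MvPowerSeries.pderiv k i f) =
      Nx k (Fin m ⊕ Fin m) := by
  obtain ⟨g, hg⟩ : ∃ g, g = f - qf k m := ⟨_, rfl⟩
  have hfg : f = qf k m + g := by rw [hg]; ring
  have hg3 : ∀ e : Option (Fin m ⊕ Fin m) →₀ ℕ, e.degree < 3 → coeff e g = 0 := by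
    intro e he
    rw [hg, map_sub, hf e he, qf, sub_self]
  have hgM : g ∈ (Mx k (Fin m ⊕ Fin m)) ^ 3 := mem_Mpow k _ 3 g hg3
  have hpd : ∀ s, pderiv k s f = pderiv k s (qf k m) + pderiv k s g := by
    intro s; rw [hfg, map_add]
  have hpdg : ∀ s, pderiv k s g ∈ (Mx k (Fin m ⊕ Fin m)) ^ 2 := fun s => pderiv_mem k _ s g hg3
  apply le_antisymm
  · rw [Ideal.span_le]
    rintro x (hx | ⟨s, rfl⟩)
    · rw [Set.mem_singleton_iff] at hx
      subst hx
      rw [hfg]
      refine Ideal.add_mem _ (Ideal.add_mem _ (Xsq_mem_Nx k _) ?_) ?_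
      · exact Ideal.sum_mem _ fun i _ => Ideal.mul_mem_left _ _ (Xsome_mem_Nx k _ _)
      · exact Msq_le_N k _ (Ideal.pow_le_pow_right (by norm_num) hgM)
    · show pderiv k s f ∈ _
      rw [hpd]
      exact Ideal.add_mem _ (pderiv_qf_mem k m s) (Msq_le_N k _ (hpdg s))
  · obtain ⟨I, hI⟩ : ∃ I, I = Ideal.span ({f} ∪ Set.range fun i : Option (Fin m ⊕ Fin m) =>
      MvPowerSeries.pderiv k i f) := ⟨_, rfl⟩
    rw [← hI]
    have hfI : f ∈ I := by rw [hI]; exact Ideal.subset_span (Or.inl rfl)
    have hpI : ∀ s, pderiv k s f ∈ I := fun s => by rw [hI]; exact Ideal.subset_span (Or.inr ⟨s, rfl⟩)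
    have hfg' : Nx k (Fin m ⊕ Fin m) ≤ I ⊔ Mx k (Fin m ⊕ Fin m) • Nx k (Fin m ⊕ Fin m) := by
      have hx0 : (X none ^ 2 : MvPowerSeries (Option (Fin m ⊕ Fin m)) k) ∈
          I ⊔ Mx k (Fin m ⊕ Fin m) • Nx k (Fin m ⊕ Fin m) := by
        have : (X none ^ 2 : MvPowerSeries (Option (Fin m ⊕ Fin m)) k) =
            f - (∑ i : Fin m, X (some (Sum.inl i)) * X (some (Sum.inr i)) + g) := by
          rw [hfg, qf]; ring
        rw [this]
        refine Ideal.sub_mem _ (Ideal.mem_sup_left hfI) (Ideal.mem_sup_right ?_)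
        exact Submodule.add_mem _ (sum_mem_MN k m) (Mcube_le k m hgM)
      have hM2 : (Mx k (Fin m ⊕ Fin m)) ^ 2 ≤ I ⊔ Mx k (Fin m ⊕ Fin m) • Nx k (Fin m ⊕ Fin m) := by
        refine (Msq_le k _).trans (sup_le ?_ le_sup_right)
        rw [Ideal.span_le]
        rintro _ rfl
        exact hx0
      rw [Nx, Ideal.span_le]
      rintro x (hx | ⟨(i | i), rfl⟩)
      · rw [Set.mem_singleton_iff] at hx
        subst hx
        exact hx0
      · show X (some (Sum.inl i)) ∈ _
        have : (X (some (Sum.inl i)) : MvPowerSeries (Option (Fin m ⊕ Fin m)) k) =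
            pderiv k (some (Sum.inr i)) f - pderiv k (some (Sum.inr i)) g := by
          rw [hpd, pderiv_inr]; ring
        rw [this]
        exact Ideal.sub_mem _ (Ideal.mem_sup_left (hpI _)) (hM2 (hpdg _))
      · show X (some (Sum.inr i)) ∈ _
        have : (X (some (Sum.inr i)) : MvPowerSeries (Option (Fin m ⊕ Fin m)) k) =
            pderiv k (some (Sum.inl i)) f - pderiv k (some (Sum.inl i)) g := by
          rw [hpd, pderiv_inl]; ring
        rw [this]
        exact Ideal.sub_mem _ (Ideal.mem_sup_left (hpI _)) (hM2 (hpdg _))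
    have hfgN : (Nx k (Fin m ⊕ Fin m)).FG := by
      refine ⟨(Set.toFinite ({MvPowerSeries.X none ^ 2} ∪
        Set.range fun j : Fin m ⊕ Fin m => (MvPowerSeries.X (some j) :
          MvPowerSeries (Option (Fin m ⊕ Fin m)) k))).toFinset, ?_⟩
      rw [Set.Finite.coe_toFinset]
    exact Submodule.le_of_le_smul_of_le_jacobson_bot hfgN (Mx_le_jac k _) hfg'

end main

end Groth.Agent.S8720

namespace Groth.Agent.S8720

/-- The formal computation carried out in its proof: let k be a field of characteristic 2, m a natural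
number, and f a power series over k in the variables x_0 and x_i, x_i' (i = 1, ..., m) whose terms
of degree less than 3 are exactly those of x_0^2 + x_1 x_1' + ... + x_m x_m'. Then the ideal
generated by f and all its partial derivatives is the ideal generated by x_0^2 and the x_i, x_i',
and the quotient of the power series ring by this ideal is two-dimensional over k. (Characteristic 2
is what makes the derivative in x_0 lose its linear term.) -/
theorem result (k : Type u) [Field k] [CharP k 2] (m : ℕ)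
    (f : MvPowerSeries (Option (Fin m ⊕ Fin m)) k)
    (hf : ∀ d : Option (Fin m ⊕ Fin m) →₀ ℕ, d.degree < 3 →
      MvPowerSeries.coeff d f = MvPowerSeries.coeff d
        (MvPowerSeries.X none ^ 2 +
          ∑ i : Fin m, MvPowerSeries.X (some (Sum.inl i)) * MvPowerSeries.X (some (Sum.inr i)))) :
    Ideal.span ({f} ∪ Set.range fun i : Option (Fin m ⊕ Fin m) => MvPowerSeries.pderiv k i f) =
      Ideal.span ({MvPowerSeries.X none ^ 2} ∪
        Set.range fun j : Fin m ⊕ Fin m => (MvPowerSeries.X (some j) : MvPowerSeries (Option (Fin m ⊕ Fin m)) k)) ∧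
    Module.finrank k (MvPowerSeries (Option (Fin m ⊕ Fin m)) k ⧸
      Ideal.span ({MvPowerSeries.X none ^ 2} ∪
        Set.range fun j : Fin m ⊕ Fin m => (MvPowerSeries.X (some j) : MvPowerSeries (Option (Fin m ⊕ Fin m)) k))) = 2 := by
  exact ⟨main k m f hf, finrank_eq k (Fin m ⊕ Fin m)⟩

end Groth.Agent.S8720
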