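import Groth.Statements.S8721
-- import your own Groth.Agent.* helpers here
import Mathlib
import Groth.Agent.Lib.Helper90.SepLang

set_option autoImplicit false
universe u v
open SGA7II

namespace Groth.Agent.S8721

/-- Let k be a separably closed field of characteristic p > 0, q = p^r with r >= 1, V a
finite-dimensional k-vector space and phi : V -> V additive with phi(c v) = c^q phi(v). Let V_ss be
the intersection, over n >= 1, of the k-subspaces spanned by the images of the iterates phi^n (the
semisimple part of V). Then V_ss has a k-basis consisting of phi-fixed vectors, and every phi-fixed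
vector of V is a linear combination of this basis with coefficients c satisfying c^q = c; that is,
V_ss is obtained from the F_q-space of fixed vectors by extension of scalars. -/
theorem result (k : Type u) [Field k] [IsSepClosed k] (p : ℕ)
    [Fact p.Prime] [CharP k p] (r : ℕ) (hr : 0 < r) (V : Type v) [AddCommGroup V] [Module k V]
    [FiniteDimensional k V] (φ : V →+ V) (hφ : ∀ (c : k) (v : V), φ (c • v) = c ^ (p ^ r) • φ v) :
    let Vss : Submodule k V := ⨅ n : ℕ, Submodule.span k (Set.range (φ^[n + 1]))
    ∃ b : Module.Basis (Fin (Module.finrank k ↥Vss)) k ↥Vss, (∀ i, φ (b i : V) = (b i : V)) ∧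
      ∀ v : V, φ v = v → ∃ c : Fin (Module.finrank k ↥Vss) → k,
        (∀ i, c i ^ (p ^ r) = c i) ∧ v = ∑ i, c i • (b i : V) := by
  classical
  intro Vss
  let ψ : k →+* k := iterateFrobenius k p r
  have hψ : ∀ t : k, ψ t = t ^ (p ^ r) := fun t => iterateFrobenius_def p r t
  let φ' : V →ₛₗ[ψ] V :=
    { toFun := φ
      map_add' := map_add φ
      map_smul' := fun a v => by rw [hφ, hψ] }
  have hφ' : ∀ x, φ' x = φ x := fun _ => rfl
  let W : ℕ → Submodule k V := fun n => Submodule.span k (Set.range (φ^[n]))
  have hVss : Vss = ⨅ n : ℕ, W (n + 1) := rfl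
  have hWanti : ∀ n, W (n + 1) ≤ W n := by
    intro n
    apply Submodule.span_mono
    rintro _ ⟨x, rfl⟩
    exact ⟨φ x, (Function.iterate_succ_apply _ _ _).symm⟩
  have hWanti' : ∀ m n, m ≤ n → W n ≤ W m := by
    intro m n hmn
    induction n, hmn using Nat.le_induction with
    | base => exact le_rfl
    | succ n _ ih => exact (hWanti n).trans ih
  -- φ maps W n into W (n+1)
  have hWmap : ∀ n, ∀ x ∈ W n, φ x ∈ W (n + 1) := by
    intro n x hx
    induction hx using Submodule.span_induction with
    | mem x hx =>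
      obtain ⟨y, rfl⟩ := hx
      exact Submodule.subset_span ⟨y, Function.iterate_succ_apply' _ _ _⟩
    | zero => rw [map_zero]; exact Submodule.zero_mem _
    | add a b _ _ ha hb => rw [map_add]; exact Submodule.add_mem _ ha hb
    | smul t a _ ha => rw [hφ]; exact Submodule.smul_mem _ _ ha
  -- stabilisation
  obtain ⟨N, hN⟩ := IsArtinian.monotone_stabilizes
    (⟨fun n => OrderDual.toDual (W n), fun m n hmn => hWanti' m n hmn⟩ :
      ℕ →o (Submodule k V)ᵒᵈ)
  have hN' : ∀ m, N ≤ m → W m = W N := fun m hm => (congrArg OrderDual.ofDual (hN m hm)).symm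
  have hVW : Vss = W (N + 1) := by
    rw [hVss]
    apply le_antisymm
    · exact iInf_le _ N
    · refine le_iInf fun n => ?_
      rw [hN' (N + 1) (Nat.le_succ N), ← hN' (max (n + 1) N) (le_max_right _ _)]
      exact hWanti' _ _ (le_max_left _ _)
  have hst : ∀ x ∈ Vss, φ' x ∈ Vss := by
    intro x hx
    rw [hVW] at hx ⊢
    have h1 := hWmap _ x hx
    rw [hN' (N + 1 + 1) (by omega), ← hN' (N + 1) (by omega)] at h1
    exact h1
  let φss : Vss →ₛₗ[ψ] Vss := φ'.restrict hst
  have hφss : ∀ x : Vss, ((φss x : Vss) : V) = φ (x : V) := fun _ => rfl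
  have hspan : Submodule.span k (Set.range φss) = ⊤ := by
    rw [eq_top_iff]
    rintro ⟨x, hx⟩ -
    have hx' : x ∈ W (N + 1 + 1) := by
      rw [hN' (N + 1 + 1) (by omega), ← hN' (N + 1) (by omega), ← hVW]; exact hx
    -- generalize membership
    have key : ∀ y ∈ W (N + 1 + 1), ∀ hy : y ∈ Vss,
        (⟨y, hy⟩ : Vss) ∈ Submodule.span k (Set.range φss) := by
      intro y hy
      induction hy using Submodule.span_induction with
      | mem y hy =>
        intro hy'
        obtain ⟨z, rfl⟩ := hy
        have hz : φ^[N + 1] z ∈ Vss := by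
          rw [hVW]; exact Submodule.subset_span ⟨z, rfl⟩
        refine Submodule.subset_span ⟨⟨φ^[N + 1] z, hz⟩, ?_⟩
        apply Subtype.ext
        rw [hφss]
        exact (Function.iterate_succ_apply' _ _ _).symm
      | zero =>
        intro hy'
        have : (⟨0, hy'⟩ : Vss) = 0 := rfl
        rw [this]; exact Submodule.zero_mem _
      | add a b ha hb iha ihb =>
        intro hy'
        have ha' : a ∈ Vss := by
          rw [hVW, ← hN' (N + 1 + 1) (by omega) |>.trans (hN' (N + 1) (by omega)).symm]; exact ha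
        have hb' : b ∈ Vss := by
          rw [hVW, ← hN' (N + 1 + 1) (by omega) |>.trans (hN' (N + 1) (by omega)).symm]; exact hb
        have : (⟨a + b, hy'⟩ : Vss) = ⟨a, ha'⟩ + ⟨b, hb'⟩ := rfl
        rw [this]; exact Submodule.add_mem _ (iha ha') (ihb hb')
      | smul t a ha iha =>
        intro hy'
        have ha' : a ∈ Vss := by
          rw [hVW, ← hN' (N + 1 + 1) (by omega) |>.trans (hN' (N + 1) (by omega)).symm]; exact ha
        have : (⟨t • a, hy'⟩ : Vss) = t • ⟨a, ha'⟩ := rfl
        rw [this]; exact Submodule.smul_mem _ _ (iha ha')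
    exact key x hx' hx
  obtain ⟨b, hb⟩ := Groth.Agent.Lib.Helper90.IsocLib.sep_lang_basis p hr hψ φss hspan
  refine ⟨b, fun i => ?_, fun v hv => ?_⟩
  · have := congrArg Subtype.val (hb i)
    rw [hφss] at this
    exact this
  · have hvW : ∀ n, v ∈ W n := fun n =>
      Submodule.subset_span ⟨v, Function.iterate_fixed hv n⟩
    have hvV : v ∈ Vss := by rw [hVW]; exact hvW _
    have hfix : φss ⟨v, hvV⟩ = ⟨v, hvV⟩ := by
      apply Subtype.ext
      rw [hφss]; exact hv
    refine ⟨fun i => b.repr ⟨v, hvV⟩ i, fun i => ?_, ?_⟩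
    · have h1 := Groth.Agent.Lib.Helper90.IsocLib.fixed_coord φss b hb ⟨v, hvV⟩ i
      rw [hfix, hψ] at h1
      exact h1.symm
    · have h1 : ((∑ i, (b.repr ⟨v, hvV⟩) i • b i : Vss) : V) = v :=
        congrArg Subtype.val (b.sum_repr ⟨v, hvV⟩)
      rw [Submodule.coe_sum] at h1
      simp only [Submodule.coe_smul] at h1
      exact h1.symm

end Groth.Agent.S8721
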