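import Groth.Statements.S8722
-- import your own Groth.Agent.* helpers here
import Mathlib
import Groth.Agent.Lib.Helper90.SepLang

set_option autoImplicit false
universe u v
open SGA7II

namespace Groth.Agent.S8722

/-- Let k be a separably closed field of characteristic p > 0, q = p^r with r >= 1, V a
finite-dimensional k-vector space and phi : V -> V additive with phi(c v) = c^q phi(v), semisimple
in the sense that its image spans V. Then for n >= 1 the fixed vectors of the n-th iterate of phi
are exactly the finite linear combinations of phi-fixed vectors with coefficients c satisfying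
c^(q^n) = c; that is, the fixed space of phi^n is obtained from the F_q-space of phi-fixed vectors
by extending scalars to F_{q^n}. -/
theorem result (k : Type u) [Field k] [IsSepClosed k] (p : ℕ)
    [Fact p.Prime] [CharP k p] (r : ℕ) (hr : 0 < r) (V : Type v) [AddCommGroup V] [Module k V]
    [FiniteDimensional k V] (φ : V →+ V) (hφ : ∀ (c : k) (v : V), φ (c • v) = c ^ (p ^ r) • φ v)
    (hss : Submodule.span k (Set.range φ) = ⊤) (n : ℕ) (hn : 0 < n) (v : V) :
    φ^[n] v = v ↔ ∃ (s : Finset V) (c : V → k), (∀ w ∈ s, φ w = w) ∧
      (∀ w ∈ s, c w ^ ((p ^ r) ^ n) = c w) ∧ v = ∑ w ∈ s, c w • w := by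
  classical
  let ψ : k →+* k := iterateFrobenius k p r
  have hψ : ∀ t : k, ψ t = t ^ (p ^ r) := fun t => iterateFrobenius_def p r t
  let φ' : V →ₛₗ[ψ] V :=
    { toFun := φ
      map_add' := map_add φ
      map_smul' := fun a v => by rw [hφ, hψ] }
  have hss' : Submodule.span k (Set.range φ') = ⊤ := hss
  obtain ⟨b, hb⟩ := Groth.Agent.Lib.Helper90.IsocLib.sep_lang_basis p hr hψ φ' hss'
  -- iterates
  have hsmul : ∀ (m : ℕ) (c : k) (w : V), φ^[m] (c • w) = c ^ ((p ^ r) ^ m) • φ^[m] w := by
    intro m
    induction m with
    | zero => intro c w; simp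
    | succ m ih =>
      intro c w
      rw [Function.iterate_succ_apply', Function.iterate_succ_apply', ih, hφ, ← pow_mul, pow_succ]
  have hadd : ∀ (m : ℕ) (x y : V), φ^[m] (x + y) = φ^[m] x + φ^[m] y := by
    intro m
    induction m with
    | zero => intro x y; rfl
    | succ m ih =>
      intro x y
      rw [Function.iterate_succ_apply', Function.iterate_succ_apply',
        Function.iterate_succ_apply', ih, map_add]
  have hzero : ∀ m : ℕ, φ^[m] 0 = 0 := fun m => Function.iterate_fixed (map_zero φ) m
  have hsum : ∀ (m : ℕ) (s : Finset V) (f : V → V), φ^[m] (∑ w ∈ s, f w) = ∑ w ∈ s, φ^[m] (f w) := by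
    intro m s f
    induction s using Finset.induction_on with
    | empty => simp [hzero]
    | insert a s ha ih => rw [Finset.sum_insert ha, Finset.sum_insert ha, hadd, ih]
  have hfix : ∀ (m : ℕ) (w : V), φ w = w → φ^[m] w = w := fun m w hw => Function.iterate_fixed hw m
  constructor
  · intro hv
    have hcoord : ∀ (m : ℕ) (x : V) (i : Fin (Module.finrank k V)),
        b.repr (φ^[m] x) i = (b.repr x i) ^ ((p ^ r) ^ m) := by
      intro m
      induction m with
      | zero => intro x i; simp
      | succ m ih =>
        intro x i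
        rw [Function.iterate_succ_apply']
        have h1 := Groth.Agent.Lib.Helper90.IsocLib.fixed_coord φ' b hb (φ^[m] x) i
        have h2 : φ' (φ^[m] x) = φ (φ^[m] x) := rfl
        rw [h2] at h1
        rw [h1, hψ, ih, ← pow_mul, pow_succ]
    refine ⟨Finset.univ.image b, Function.extend b (fun i => b.repr v i) 0, ?_, ?_, ?_⟩
    · intro w hw
      obtain ⟨i, -, rfl⟩ := Finset.mem_image.mp hw
      exact hb i
    · intro w hw
      obtain ⟨i, -, rfl⟩ := Finset.mem_image.mp hw
      rw [b.injective.extend_apply]
      have h1 := hcoord n v i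
      rw [hv] at h1
      exact h1.symm
    · rw [Finset.sum_image (fun i _ j _ h => b.injective h)]
      conv_lhs => rw [← b.sum_repr v]
      refine Finset.sum_congr rfl fun i _ => ?_
      rw [b.injective.extend_apply]
  · rintro ⟨s, c, hs1, hs2, rfl⟩
    rw [hsum]
    refine Finset.sum_congr rfl fun w hw => ?_
    rw [hsmul, hfix n w (hs1 w hw), hs2 w hw]

end Groth.Agent.S8722
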