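import Groth.Statements.S8724
import Mathlib.Algebra.Ring.GeomSum
import Mathlib.Data.Nat.Choose.Sum
-- import your own Groth.Agent.* helpers here

set_option autoImplicit false
open LefPen

namespace Groth.Agent.S8724


theorem diag_sum {R : Type*} [CommRing R] (g : ℕ → ℕ → R) (M N : ℕ) (h : M < N) :
    (∑ i ∈ Finset.range N, ∑ j ∈ Finset.range N, if i + j = M then g i j else 0) =
      ∑ i ∈ Finset.range (M + 1), g i (M - i) := by
  have h1 : ∀ i ∈ Finset.range N,
      (∑ j ∈ Finset.range N, if i + j = M then g i j else 0) =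
        if i ≤ M then g i (M - i) else 0 := by
    intro i _
    by_cases hi : i ≤ M
    · rw [if_pos hi]
      rw [Finset.sum_eq_single (M - i)]
      · rw [if_pos (by omega)]
      · intro b _ hb
        rw [if_neg (by omega)]
      · intro hn
        exact absurd (Finset.mem_range.mpr (by omega)) hn
    · rw [if_neg hi]
      apply Finset.sum_eq_zero
      intro j _
      rw [if_neg (by omega)]
  rw [Finset.sum_congr rfl h1, ← Finset.sum_filter]
  apply Finset.sum_congr _ (fun _ _ => rfl)
  ext i
  simp only [Finset.mem_filter, Finset.mem_range]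
  omega

theorem lemmaA {R : Type*} [CommRing R] (y z : R) (c : ℕ → R) (N : ℕ) :
    ∀ M : ℕ, M ≤ N →
    (y - z) * (∑ i ∈ Finset.range N, ∑ j ∈ Finset.range N,
        if i + j + 1 ≤ M then c (i + j + 1) * y ^ i * z ^ j else 0) =
      ∑ k ∈ Finset.range (M + 1), c k * (y ^ k - z ^ k) := by
  intro M
  induction M with
  | zero =>
    intro _
    simp
  | succ M ih =>
    intro hM
    have ih' := ih (by omega)
    have hsplit : ∀ i j : ℕ,
        (if i + j + 1 ≤ M + 1 then c (i + j + 1) * y ^ i * z ^ j else 0) =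
          (if i + j + 1 ≤ M then c (i + j + 1) * y ^ i * z ^ j else 0) +
            (if i + j = M then c (M + 1) * y ^ i * z ^ j else 0) := by
      intro i j
      by_cases h1 : i + j + 1 ≤ M
      · rw [if_pos (by omega), if_pos h1, if_neg (by omega), add_zero]
      · by_cases h2 : i + j = M
        · rw [if_pos (by omega), if_neg h1, if_pos h2, zero_add, h2]
        · rw [if_neg (by omega), if_neg h1, if_neg h2, add_zero]
    simp_rw [hsplit, Finset.sum_add_distrib]
    rw [mul_add, ih', Finset.sum_range_succ _ (M + 1)]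
    congr 1
    rw [diag_sum (fun i j => c (M + 1) * y ^ i * z ^ j) M N (by omega)]
    have := (Commute.all y z).mul_geom_sum₂ (M + 1)
    rw [← this, Finset.mul_sum, Finset.mul_sum, Finset.mul_sum]
    apply Finset.sum_congr rfl
    intro i _
    simp only [Nat.add_sub_cancel]
    ring

/-- The algebraic identity established in its proof: let a >= 1 and work in Z[y, z]. Then (1+y)^(a-1) -
(1+z)^(a-1) = (y - z) * (sum over i, j >= 0 with i + j + 1 <= a - 1 of C(a-1, i+j+1) y^i z^j), and
(1+y)^a z - (1+z)^a y = (y - z) * (-1 + sum over i, j >= 1 with i + j <= a of C(a, i+j) y^i z^j).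
Consequently the rational function -((1+y)^(a-1) - (1+z)^(a-1)) / ((1+y)^a z - (1+z)^a y), the
generating series of the primitive middle Hodge numbers of smooth hypersurfaces of degree a, equals
(sum_{i,j >= 0} C(a-1, i+j+1) y^i z^j) / (1 - sum_{i,j >= 1} C(a, i+j) y^i z^j). -/
theorem result (a : ℕ) (ha : 1 ≤ a) :
    let y : MvPolynomial (Fin 2) ℤ := MvPolynomial.X 0
    let z : MvPolynomial (Fin 2) ℤ := MvPolynomial.X 1
    ((1 + y) ^ (a - 1) - (1 + z) ^ (a - 1) =
      (y - z) * ∑ i ∈ Finset.range a, ∑ j ∈ Finset.range a,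
        if i + j + 1 ≤ a - 1 then ((a - 1).choose (i + j + 1) : MvPolynomial (Fin 2) ℤ) * y ^ i * z ^ j else 0) ∧
    ((1 + y) ^ a * z - (1 + z) ^ a * y =
      (y - z) * (-1 + ∑ i ∈ Finset.range (a + 1), ∑ j ∈ Finset.range (a + 1),
        if 1 ≤ i ∧ 1 ≤ j ∧ i + j ≤ a then (a.choose (i + j) : MvPolynomial (Fin 2) ℤ) * y ^ i * z ^ j else 0)) := by
  intro y z
  constructor
  · have hA := lemmaA y z (fun k => ((a - 1).choose k : MvPolynomial (Fin 2) ℤ)) a (a - 1) (by omega)
    rw [hA]
    rw [add_comm 1 y, add_comm 1 z, add_pow, add_pow]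
    rw [← Finset.sum_sub_distrib]
    apply Finset.sum_congr rfl
    intro k _
    simp only [one_pow, mul_one]
    ring
  · have hA := lemmaA y z (fun k => (a.choose (k + 1) : MvPolynomial (Fin 2) ℤ)) a (a - 1) (by omega)
    have ha1 : a - 1 + 1 = a := by omega
    rw [ha1] at hA
    have hS : (∑ i ∈ Finset.range (a + 1), ∑ j ∈ Finset.range (a + 1),
        if 1 ≤ i ∧ 1 ≤ j ∧ i + j ≤ a then (a.choose (i + j) : MvPolynomial (Fin 2) ℤ) * y ^ i * z ^ j else 0) =
        y * z * ∑ i ∈ Finset.range a, ∑ j ∈ Finset.range a,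
          if i + j + 1 ≤ a - 1 then (a.choose (i + j + 1 + 1) : MvPolynomial (Fin 2) ℤ) * y ^ i * z ^ j else 0 := by
      rw [Finset.sum_range_succ']
      have h0 : (∑ j ∈ Finset.range (a + 1),
          if 1 ≤ 0 ∧ 1 ≤ j ∧ 0 + j ≤ a then (a.choose (0 + j) : MvPolynomial (Fin 2) ℤ) * y ^ 0 * z ^ j else 0) = 0 := by
        apply Finset.sum_eq_zero
        intro j _
        rw [if_neg (by omega)]
      rw [h0, add_zero, Finset.mul_sum]
      apply Finset.sum_congr rfl
      intro i _
      rw [Finset.sum_range_succ']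
      rw [if_neg (by omega), add_zero, Finset.mul_sum]
      apply Finset.sum_congr rfl
      intro j _
      by_cases h : i + j + 1 ≤ a - 1
      · rw [if_pos (by omega), if_pos h]
        have : i + 1 + (j + 1) = i + j + 1 + 1 := by ring
        rw [this]
        ring
      · rw [if_neg (by omega), if_neg h, mul_zero]
    rw [hS]
    have e1 : (y - z) * (-1 + y * z * ∑ i ∈ Finset.range a, ∑ j ∈ Finset.range a,
          if i + j + 1 ≤ a - 1 then (a.choose (i + j + 1 + 1) : MvPolynomial (Fin 2) ℤ) * y ^ i * z ^ j else 0) =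
        -(y - z) + y * z * ((y - z) * ∑ i ∈ Finset.range a, ∑ j ∈ Finset.range a,
          if i + j + 1 ≤ a - 1 then (a.choose (i + j + 1 + 1) : MvPolynomial (Fin 2) ℤ) * y ^ i * z ^ j else 0) := by
      ring
    rw [e1, hA]
    have hy : ∀ w : MvPolynomial (Fin 2) ℤ, (1 + w) ^ a =
        (∑ k ∈ Finset.range a, (a.choose (k + 1) : MvPolynomial (Fin 2) ℤ) * w ^ (k + 1)) + 1 := by
      intro w
      rw [add_comm 1 w, add_pow, Finset.sum_range_succ']
      simp only [one_pow, mul_one, pow_zero, Nat.choose_zero_right, Nat.cast_one]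
      congr 1
      apply Finset.sum_congr rfl
      intro k _
      ring
    rw [hy y, hy z]
    rw [add_mul, add_mul, Finset.sum_mul, Finset.sum_mul, Finset.mul_sum]
    have : ∀ A B C D : MvPolynomial (Fin 2) ℤ, A - B = C → A + 1 * z - (B + 1 * y) = -(y - z) + C := by
      intro A B C D h
      rw [← h]; ring
    apply this _ _ _ 0
    rw [← Finset.sum_sub_distrib]
    apply Finset.sum_congr rfl
    intro k _
    ring

end Groth.Agent.S8724
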