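import Groth.Statements.S8736
import Groth.Agent.Lib.Helper16.HodgeSer3

set_option autoImplicit false
open LefPen

namespace Groth.Agent.S8736

/-- For the generating series of a multidegree: let a_1, ..., a_d (d >= 1) be degrees, H_i and H = sum
h^{p,q} y^p z^q the series built from them as follows — H_i is determined by (1 - sum_{u, v >= 1, u
+ v <= a_i} C(a_i, u+v) y^u z^v) H_i = sum_{u, v >= 0, u + v + 1 <= a_i - 1} C(a_i - 1, u+v+1) y^u
z^v and H = sum over nonempty P ⊆ {1..d} of ((1+y)(1+z))^(|P|-1) prod_{i in P} H_i — let i₀ be an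
index with a_{i₀} = max_i a_i, and let 0 <= l < n be integers with l ≡ n mod 2. Then the Hodge level
of degree n is at most l, i.e. h^{p,q} = 0 for all p <= q with p + q = n and q - p > l, if and only
if 2 · sum_{i ≠ i₀} (a_i - 1) + (a_{i₀} - 2)(n - l) <= 2 (l + 1). -/
theorem result (d : ℕ) (hd : 1 ≤ d) (a : Fin d → ℕ) (ha : ∀ i, 1 ≤ a i)
    (i₀ : Fin d) (hi₀ : ∀ i, a i ≤ a i₀)
    (Hs : Fin d → MvPowerSeries (Fin 2) ℤ) (n l : ℕ) (hl : l < n) (hpar : l % 2 = n % 2) :
    let y : MvPowerSeries (Fin 2) ℤ := MvPowerSeries.X 0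
    let z : MvPowerSeries (Fin 2) ℤ := MvPowerSeries.X 1
    let Pser : ℕ → MvPowerSeries (Fin 2) ℤ := fun b => ∑ u ∈ Finset.range (b + 1), ∑ v ∈ Finset.range (b + 1),
      if 1 ≤ u ∧ 1 ≤ v ∧ u + v ≤ b then (b.choose (u + v) : MvPowerSeries (Fin 2) ℤ) * y ^ u * z ^ v else 0
    let Nser : ℕ → MvPowerSeries (Fin 2) ℤ := fun b => ∑ u ∈ Finset.range b, ∑ v ∈ Finset.range b,
      if u + v + 1 ≤ b - 1 then ((b - 1).choose (u + v + 1) : MvPowerSeries (Fin 2) ℤ) * y ^ u * z ^ v else 0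
    (∀ i, (1 - Pser (a i)) * Hs i = Nser (a i)) →
    let H : MvPowerSeries (Fin 2) ℤ := ∑ P ∈ (Finset.univ : Finset (Fin d)).powerset with P.Nonempty,
      ((1 + y) * (1 + z)) ^ (P.card - 1) * ∏ i ∈ P, Hs i
    (∀ p q : ℕ, p + q = n → p ≤ q → l < q - p →
        MvPowerSeries.coeff (Finsupp.single 0 p + Finsupp.single 1 q) H = 0) ↔
      2 * (∑ i ∈ Finset.univ.erase i₀, ((a i : ℤ) - 1)) + ((a i₀ : ℤ) - 2) * ((n : ℤ) - l) ≤ 2 * ((l : ℤ) + 1) := by
  intro y z Pser Nser hH H
  have hH' : ∀ i, (1 - Helper16.HodgeSer.Pser (a i)) * Hs i = Helper16.HodgeSer.Nser (a i) := hH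
  have hHeq : H = Helper16.HodgeSer.Hser d Hs := rfl
  rw [hHeq]
  have hsup : Finset.univ.sup a = a i₀ :=
    le_antisymm (Finset.sup_le (fun i _ => hi₀ i)) (Finset.le_sup (f := a) (Finset.mem_univ i₀))
  set B : ℤ := ∑ i ∈ Finset.univ.erase i₀, ((a i : ℤ) - 1) with hB
  have hB0 : 0 ≤ B := by
    apply Finset.sum_nonneg
    intro i _
    have : (1 : ℤ) ≤ (a i : ℤ) := by exact_mod_cast ha i
    linarith
  have hS : ((∑ i, a i : ℕ) : ℤ) - d = ((a i₀ : ℤ) - 1) + B := by
    rw [← Helper16.HodgeSer.sum_cast_sub_one ha, hB,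
      Finset.add_sum_erase Finset.univ (fun i => (a i : ℤ) - 1) (Finset.mem_univ i₀)]
  have hM1 : (1 : ℤ) ≤ (a i₀ : ℤ) := by exact_mod_cast ha i₀
  -- the criterion in integer form
  have crit : ∀ p q : ℕ, p ≤ q →
      (MvPowerSeries.coeff (Finsupp.single 0 p + Finsupp.single 1 q) (Helper16.HodgeSer.Hser d Hs) = 0 ↔
        ((p : ℤ) + 1) * ((a i₀ : ℤ) - 1) + B ≤ (q : ℤ)) := by
    intro p q hpq
    have h1 : MvPowerSeries.coeff (Finsupp.single 0 p + Finsupp.single 1 q)
        (Helper16.HodgeSer.Hser d Hs) ≠ 0 ↔ p + q + d < p * Finset.univ.sup a + ∑ i, a i :=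
      ⟨fun h => Helper16.HodgeSer.main_forward ha hH' p q h,
        fun h => Helper16.HodgeSer.main_backward ha hH' p q hpq h⟩
    rw [hsup] at h1
    have h2 : (p + q + d < p * a i₀ + ∑ i, a i) ↔
        ((p : ℤ) + q + d < (p : ℤ) * (a i₀ : ℤ) + ((∑ i, a i : ℕ) : ℤ)) := by
      constructor
      · intro h; exact_mod_cast h
      · intro h; exact_mod_cast h
    rw [h2] at h1
    constructor
    · intro h0
      have := (not_congr h1).mp (not_not.mpr h0)
      push Not at this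
      linarith
    · intro h0
      by_contra hne
      have := h1.mp hne
      linarith
  constructor
  · intro hall
    -- apply at `p = t - 1`
    obtain ⟨t, ht⟩ : ∃ t : ℕ, n = l + 2 * t := ⟨(n - l) / 2, by omega⟩
    have ht1 : 1 ≤ t := by omega
    have h0 := hall (t - 1) (n - (t - 1)) (by omega) (by omega) (by omega)
    have h1 := (crit (t - 1) (n - (t - 1)) (by omega)).mp h0
    have c1 : ((t - 1 : ℕ) : ℤ) = (t : ℤ) - 1 := by
      rw [Nat.cast_sub ht1]; simp
    have c2 : ((n - (t - 1) : ℕ) : ℤ) = (n : ℤ) - ((t : ℤ) - 1) := by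
      rw [Nat.cast_sub (by omega), c1]
    rw [c1, c2] at h1
    have hn : (n : ℤ) = (l : ℤ) + 2 * (t : ℤ) := by exact_mod_cast ht
    rw [hn] at h1 ⊢
    linarith
  · intro hR p q hpn hpq hlq
    rw [crit p q hpq]
    -- `n - l ≥ 2p + 2`
    have hs : 2 * p + 2 ≤ n - l := by omega
    have hsz : (2 : ℤ) * p + 2 ≤ (n : ℤ) - l := by
      have : ((2 * p + 2 : ℕ) : ℤ) ≤ ((n - l : ℕ) : ℤ) := by exact_mod_cast hs
      rw [Nat.cast_sub (le_of_lt hl)] at this
      push_cast at this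
      linarith
    have hq : (q : ℤ) = (n : ℤ) - p := by
      have : ((p + q : ℕ) : ℤ) = (n : ℤ) := by exact_mod_cast hpn
      push_cast at this
      linarith
    by_cases hM : a i₀ = 1
    · -- all degrees are one
      have hBz : B = 0 := by
        rw [hB]
        apply Finset.sum_eq_zero
        intro i _
        have h1 : a i ≤ 1 := hM ▸ hi₀ i
        have h2 := ha i
        have : a i = 1 := le_antisymm h1 h2
        rw [this]; simp
      rw [hM, hBz]
      simp
    · have hM2 : (2 : ℤ) ≤ (a i₀ : ℤ) := by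
        have : 2 ≤ a i₀ := by
          have := ha i₀
          omega
        exact_mod_cast this
      have hprod : ((a i₀ : ℤ) - 2) * ((2 : ℤ) * p + 2) ≤ ((a i₀ : ℤ) - 2) * ((n : ℤ) - l) :=
        mul_le_mul_of_nonneg_left hsz (by linarith)
      rw [hq]
      have hlq' : (l : ℤ) + p < (q : ℤ) := by
        have : l + p < q := by omega
        exact_mod_cast this
      nlinarith

end Groth.Agent.S8736
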