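import Groth.Statements.S8738
import Groth.Agent.Lib.Helper95.Seidenberg
-- import your own Groth.Agent.* helpers here

set_option autoImplicit false
universe u
open SGA7II

namespace Groth.Agent.S8738

open Groth.Agent.Lib.Helper95.Seidenberg
open scoped nonZeroDivisors

/-- Let k be a field of characteristic zero and A a reduced Noetherian local k-algebra of Krull
dimension one, essentially of finite type over k (the local ring of a reduced curve over k at one of
its points), and let A' be the integral closure of A in its total ring of fractions (the
normalization). Then every k-derivation D of A extends to a k-derivation D' of A', i.e. D' agrees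
with D on the image of A. -/
theorem result (k : Type u) [Field k] [CharZero k] (A : Type u) [CommRing A]
    [Algebra k A] [IsReduced A] [IsNoetherianRing A] [IsLocalRing A] [Algebra.EssFiniteType k A]
    (hdim : ringKrullDim A = 1) (D : Derivation k A A) :
    ∃ D' : Derivation k ↥(integralClosure A (FractionRing A)) ↥(integralClosure A (FractionRing A)),
      ∀ a : A, (D' (algebraMap A ↥(integralClosure A (FractionRing A)) a) : FractionRing A) =
        algebraMap A (FractionRing A) (D a) := by
  obtain ⟨DK, hDK⟩ := exists_derivation_localization (k := k) (K := FractionRing A) A⁰ D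
  have hint : ∀ x : FractionRing A, IsIntegral A x → IsIntegral A (DK x) := by
    intro x hx
    obtain ⟨r, hr, hr'⟩ := hx.isAlmostIntegral (R := A)
    have hc : ∀ n : ℕ, ∃ a : A, algebraMap A (FractionRing A) r * x ^ n =
        algebraMap A (FractionRing A) a := by
      intro n
      obtain ⟨a, ha⟩ := hr' n
      exact ⟨a, by rw [ha, Algebra.smul_def]⟩
    have H' : A⁰ ≤ (FractionRing A)⁰.comap (algebraMap A (FractionRing A)) := by
      intro a ha
      rw [Submonoid.mem_comap]
      exact (IsLocalization.map_units (FractionRing A) (⟨a, ha⟩ : A⁰)).mem_nonZeroDivisors
    refine IsAlmostIntegral.isIntegral_of_nonZeroDivisors_le_comap ⟨r * r, mul_mem hr hr, ?_⟩ H'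
    intro n
    obtain ⟨a, ha⟩ := almost D DK hDK x r hc n
    exact ⟨a, by rw [Algebra.smul_def, ha]⟩
  let D' : Derivation k ↥(integralClosure A (FractionRing A))
      ↥(integralClosure A (FractionRing A)) :=
    { toLinearMap :=
        { toFun := fun x => ⟨DK x.1, hint x.1 x.2⟩
          map_add' := fun x y => Subtype.ext (by simp)
          map_smul' := fun c x => Subtype.ext (by simp) }
      map_one_eq_zero' := Subtype.ext (by simp)
      leibniz' := fun a b => Subtype.ext (by simp [Derivation.leibniz]) }
  refine ⟨D', fun a => ?_⟩
  exact hDK a

end Groth.Agent.S8738
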