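import Groth.Statements.S8752
import Mathlib
import Groth.Agent.Lib.Helper86.AdeqAbelian

set_option autoImplicit false
universe u
open CategoryTheory Limits
open Adeq

namespace Groth.Agent.S8752

/-- For every module-valued functor `F` on `A`-algebras there is an adequate `Q(F) → F` through which
every morphism from an adequate functor factors uniquely; that is, the inclusion of adequate
functors into all module-valued functors has a right adjoint. -/
theorem result (A : Type u) [CommRing A] : (Adeq.adequate A).ι.IsLeftAdjoint := by
  exact Groth.Agent.Lib.Helper86.AdeqAbelian.isLeftAdjoint_ι

end Groth.Agent.S8752
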