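import Groth.Statements.S8766
import Mathlib
import Groth.Agent.Lib.Helper86.AdeqRpush

set_option autoImplicit false
universe u
open CategoryTheory Limits AlgebraicGeometry
open Adeq

namespace Groth.Agent.S8766

/-- For a quasi-compact and quasi-separated morphism `f : T → S` and an adequate `O`-module `M` on the
big fppf site of `T`, the higher direct images `Rⁱ f_* M` are adequate `O`-modules on the big fppf
site of `S`. -/
theorem result {S T : Scheme.{u}} (f : T ⟶ S) [QuasiCompact f] [QuasiSeparated f]
    [HasInjectiveResolutions (BigSite.Mod Scheme.fppfPrecoverage T)] (M : BigSite.Mod Scheme.fppfPrecoverage T)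
    (hM : Adeq.adequateMod Scheme.fppfPrecoverage T M) (i : ℕ) :
    Adeq.adequateMod Scheme.fppfPrecoverage S ((BigSite.RpushMod Scheme.fppfPrecoverage f i).obj M) := by
  refine Groth.Agent.S8758.result S _ S.affineCover.I₀ (fun k => S.affineCover.X k)
    (fun k => S.affineCover.f k) ?_ (fun k => ?_)
  · refine (Scheme.ofArrows_mem_precoverage_iff
      (P := @Flat ⊓ @LocallyOfFinitePresentation)).2 ⟨fun x => ?_, fun k => ⟨?_, ?_⟩⟩
    · exact S.affineCover.exists_eq x
    · exact inferInstanceAs (Flat (S.affineCover.f k))
    · exact inferInstanceAs (LocallyOfFinitePresentation (S.affineCover.f k))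
  · haveI : IsAffine (S.affineCover.X k) := inferInstanceAs (IsAffine (Spec _))
    exact Groth.Agent.Lib.Helper86.AdeqRpush.adequate_pull_Rpush f (S.affineCover.f k) M hM i

end Groth.Agent.S8766
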