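import Groth.Statements.S8780
import Groth.Agent.Lib.Helper26.AdeqTF

set_option autoImplicit false
universe u
open CategoryTheory Limits
open AdeqTF

namespace Groth.Agent.S8780

open Groth.Agent.Lib.Helper26.AdeqTF Opposite

variable {A : Type u} [CommRing A]

noncomputable def fmapF (C : Adeq.Alg A) {D D' : Adeq.Alg A} (f : D ⟶ D') :
    (ULift.{u + 1} (C ⟶ D) →₀ D) →+ (ULift.{u + 1} (C ⟶ D') →₀ D') :=
  (Finsupp.mapRange.addMonoidHom f.hom.toRingHom.toAddMonoidHom).comp
      (Finsupp.mapDomain.addMonoidHom (fun g => ULift.up (g.down ≫ f)))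

theorem fmapF_single (C : Adeq.Alg A) {D D' : Adeq.Alg A} (f : D ⟶ D') (g : ULift.{u + 1} (C ⟶ D))
    (d : D) : fmapF C f (Finsupp.single g d) = Finsupp.single (ULift.up (g.down ≫ f)) (f.hom d) := by
  unfold fmapF
  rw [AddMonoidHom.comp_apply, Finsupp.mapDomain.addMonoidHom_apply, Finsupp.mapDomain_single,
    Finsupp.mapRange.addMonoidHom_apply, Finsupp.mapRange_single]
  rfl

theorem fmapF_id (C : Adeq.Alg A) (D : Adeq.Alg A) : fmapF C (𝟙 D) = AddMonoidHom.id _ := by
  apply Finsupp.addHom_ext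
  intro g d
  rw [fmapF_single]
  simp

theorem fmapF_comp (C : Adeq.Alg A) {D D' D'' : Adeq.Alg A} (f : D ⟶ D') (f' : D' ⟶ D'') :
    fmapF C (f ≫ f') = (fmapF C f').comp (fmapF C f) := by
  apply Finsupp.addHom_ext
  intro g d
  rw [AddMonoidHom.comp_apply, fmapF_single, fmapF_single, fmapF_single]
  simp

noncomputable def freeAb (C : Adeq.Alg A) : (Adeq.Alg A)ᵒᵖᵒᵖ ⥤ Ab.{u + 1} where
  obj X := AddCommGrpCat.of (ULift.{u + 1} (C ⟶ X.unop.unop) →₀ X.unop.unop)
  map {X Y} f := AddCommGrpCat.ofHom (fmapF C f.unop.unop)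
  map_id X := by
    apply AddCommGrpCat.hom_ext
    exact fmapF_id C X.unop.unop
  map_comp f g := by
    apply AddCommGrpCat.hom_ext
    exact fmapF_comp C f.unop.unop g.unop.unop



noncomputable local instance freeAbModule (C : Adeq.Alg A) (X : (Adeq.Alg A)ᵒᵖᵒᵖ) :
    Module ((Adeq.ringOf A).obj X) ((freeAb C).obj X) :=
  inferInstanceAs (Module X.unop.unop (ULift.{u + 1} (C ⟶ X.unop.unop) →₀ X.unop.unop))

theorem fmapF_smul (C : Adeq.Alg A) {D D' : Adeq.Alg A} (f : D ⟶ D') (r : D)
    (m : ULift.{u + 1} (C ⟶ D) →₀ D) : fmapF C f (r • m) = f.hom r • fmapF C f m := by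
  induction m using Finsupp.induction_linear with
  | zero => simp
  | add x y hx hy => rw [smul_add, map_add, map_add, smul_add, hx, hy]
  | single g d =>
    rw [Finsupp.smul_single, fmapF_single, fmapF_single, Finsupp.smul_single, smul_eq_mul, smul_eq_mul,
      map_mul]

noncomputable def freeP (C : Adeq.Alg A) : Adeq.MVF A :=
  PresheafOfModules.ofPresheaf (freeAb C) (by
    intro X Y f r m
    exact fmapF_smul C f.unop.unop r m)



theorem fm_smul (I : Adeq.MVF A) {D D' : Adeq.Alg A} (f : D ⟶ D') (d : D) (y : I.obj (Adeq.pt D)) :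
    fm I f (d • y) = f.hom d • fm I f y :=
  I.map_smul (Adeq.ptHom f) d y

noncomputable def evalAt (I : Adeq.MVF A) {C : Adeq.Alg A} (x : I.obj (Adeq.pt C)) (D : Adeq.Alg A) :
    (ULift.{u + 1} (C ⟶ D) →₀ D) →+ I.obj (Adeq.pt D) :=
  Finsupp.liftAddHom fun g =>
    { toFun := fun d => d • fm I g.down x
      map_zero' := zero_smul _ _
      map_add' := fun a b => add_smul a b _ }

theorem evalAt_single (I : Adeq.MVF A) {C : Adeq.Alg A} (x : I.obj (Adeq.pt C)) (D : Adeq.Alg A)
    (g : ULift.{u + 1} (C ⟶ D)) (d : D) :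
    evalAt I x D (Finsupp.single g d) = d • fm I g.down x := by
  unfold evalAt
  rw [Finsupp.liftAddHom_apply_single]
  rfl

theorem evalAt_smul (I : Adeq.MVF A) {C : Adeq.Alg A} (x : I.obj (Adeq.pt C)) (D : Adeq.Alg A)
    (r : D) (m : ULift.{u + 1} (C ⟶ D) →₀ D) :
    evalAt I x D (r • m) = r • evalAt I x D m := by
  induction m using Finsupp.induction_linear with
  | zero => simp
  | add a b ha hb => rw [smul_add, map_add, map_add, smul_add, ha, hb]
  | single g d =>
    rw [Finsupp.smul_single, evalAt_single, evalAt_single, smul_eq_mul, mul_smul]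

theorem evalAt_nat (I : Adeq.MVF A) {C : Adeq.Alg A} (x : I.obj (Adeq.pt C)) {D D' : Adeq.Alg A}
    (f : D ⟶ D') (m : ULift.{u + 1} (C ⟶ D) →₀ D) :
    evalAt I x D' (fmapF C f m) = fm I f (evalAt I x D m) := by
  induction m using Finsupp.induction_linear with
  | zero => simp
  | add a b ha hb => rw [map_add, map_add, map_add, map_add, ha, hb]
  | single g d =>
    rw [fmapF_single, evalAt_single, evalAt_single, fm_smul, ← fm_comp]

noncomputable def theta (I : Adeq.MVF A) {C : Adeq.Alg A} (x : I.obj (Adeq.pt C)) : freeP C ⟶ I :=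
  PresheafOfModules.homMk
    { app := fun X => AddCommGrpCat.ofHom (evalAt I x X.unop.unop)
      naturality := by
        intro X Y f
        apply AddCommGrpCat.hom_ext
        apply AddMonoidHom.ext
        intro m
        exact evalAt_nat I x f.unop.unop m }
    (by
      intro X r m
      exact evalAt_smul I x X.unop.unop r m)



noncomputable def pre {C C' : Adeq.Alg A} (π : C ⟶ C') (D : Adeq.Alg A) :
    (ULift.{u + 1} (C' ⟶ D) →₀ D) →+ (ULift.{u + 1} (C ⟶ D) →₀ D) :=
  Finsupp.mapDomain.addMonoidHom (fun g => ULift.up (π ≫ g.down))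

theorem pre_single {C C' : Adeq.Alg A} (π : C ⟶ C') (D : Adeq.Alg A)
    (g : ULift.{u + 1} (C' ⟶ D)) (d : D) :
    pre π D (Finsupp.single g d) = Finsupp.single (ULift.up (π ≫ g.down)) d := by
  unfold pre
  rw [Finsupp.mapDomain.addMonoidHom_apply, Finsupp.mapDomain_single]

theorem pre_smul {C C' : Adeq.Alg A} (π : C ⟶ C') (D : Adeq.Alg A) (r : D)
    (m : ULift.{u + 1} (C' ⟶ D) →₀ D) : pre π D (r • m) = r • pre π D m := by
  unfold pre
  rw [Finsupp.mapDomain.addMonoidHom_apply, Finsupp.mapDomain.addMonoidHom_apply,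
    Finsupp.mapDomain_smul]

theorem pre_nat {C C' : Adeq.Alg A} (π : C ⟶ C') {D D' : Adeq.Alg A} (f : D ⟶ D')
    (m : ULift.{u + 1} (C' ⟶ D) →₀ D) :
    pre π D' (fmapF C' f m) = fmapF C f (pre π D m) := by
  induction m using Finsupp.induction_linear with
  | zero => simp
  | add a b ha hb => rw [map_add, map_add, map_add, map_add, ha, hb]
  | single g d =>
    rw [fmapF_single, pre_single, pre_single, fmapF_single, Category.assoc]

theorem pre_injective {C C' : Adeq.Alg A} (π : C ⟶ C') (hπ : Function.Surjective π.hom)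
    (D : Adeq.Alg A) : Function.Injective (pre π D) := by
  unfold pre
  apply Finsupp.mapDomain_injective
  intro g g' h
  have h1 : π ≫ g.down = π ≫ g'.down := congrArg ULift.down h
  apply ULift.ext
  apply CommAlgCat.hom_ext
  apply AlgHom.ext
  intro c'
  obtain ⟨c, rfl⟩ := hπ c'
  have := congrArg (fun k => k.hom c) h1
  exact this

noncomputable def iota {C C' : Adeq.Alg A} (π : C ⟶ C') : freeP C' ⟶ freeP C :=
  PresheafOfModules.homMk
    { app := fun X => AddCommGrpCat.ofHom (pre π X.unop.unop)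
      naturality := by
        intro X Y f
        apply AddCommGrpCat.hom_ext
        apply AddMonoidHom.ext
        intro m
        exact pre_nat π f.unop.unop m }
    (by
      intro X r m
      exact pre_smul π X.unop.unop r m)

theorem iota_mono {C C' : Adeq.Alg A} (π : C ⟶ C') (hπ : Function.Surjective π.hom) :
    Mono (iota π) := by
  apply PresheafOfModules.mono_of_injective
  intro X
  exact pre_injective π hπ X.unop.unop

theorem surj_of_injective (I : Adeq.MVF A) [Injective I] {C C' : Adeq.Alg A} (π : C ⟶ C')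
    (hπ : Function.Surjective π.hom) : Function.Surjective (fm I π) := by
  intro y
  haveI := iota_mono π hπ
  let Θ : freeP C ⟶ I := Injective.factorThru (theta I y) (iota π)
  have hΘ : iota π ≫ Θ = theta I y := Injective.comp_factorThru _ _
  let e : (freeP C).obj (Adeq.pt C) := Finsupp.single (ULift.up (𝟙 C)) (1 : C)
  refine ⟨ap Θ C e, ?_⟩
  rw [← ap_fm]
  have h1 : fm (freeP C) π e = Finsupp.single (ULift.up π) (1 : C') := by
    show fmapF C π (Finsupp.single (ULift.up (𝟙 C)) (1 : C)) = _
    rw [fmapF_single, map_one, Category.id_comp]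
  have h2 : ap (iota π) C' (Finsupp.single (ULift.up (𝟙 C')) (1 : C')) =
      Finsupp.single (ULift.up π) (1 : C') := by
    show pre π C' (Finsupp.single (ULift.up (𝟙 C')) (1 : C')) = _
    rw [pre_single, Category.comp_id]
  rw [h1, ← h2]
  have h3 : ap Θ C' (ap (iota π) C' (Finsupp.single (ULift.up (𝟙 C')) (1 : C'))) =
      ap (iota π ≫ Θ) C' (Finsupp.single (ULift.up (𝟙 C')) (1 : C')) := rfl
  rw [h3, hΘ]
  show evalAt I y C' (Finsupp.single (ULift.up (𝟙 C')) (1 : C')) = y
  rw [evalAt_single, one_smul, fm_id]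





/-- Take `I` injective in the category of module-valued functors on `A`-algebras. For every `A`-algebra
`B` and every short exact sequence `0 → N₁ → N → N₂ → 0` of `B`-modules, the induced map of tangent
modules `TI(B, N) → TI(B, N₂)` is surjective (`TI(B, N)` is the kernel of `I(B[N]) → I(B)`, `B[N]`
the trivial square-zero extension). (The published statement asserts that `TI(B, N₁) → TI(B, N) →
TI(B, N₂) → 0` is exact; exactness at the middle term is false: for `A = B = ℚ`, the split sequence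
`0 → ℚ → ℚ² → ℚ → 0` and the injective functor `D ↦ Map(Hom(D, ℚ[ε]/(ε²)), E)` with `E` an injective
hull of `ℚ[ε]/(ε²)`, the indicator function of the first coordinate form lies in the kernel of
`TI(B, ℚ²) → TI(B, ℚ)` and not in the image of `TI(B, ℚ) → TI(B, ℚ²)`. This row keeps the
surjectivity, which the published argument does establish.) -/
theorem result (A : Type u) [CommRing A] (I : Adeq.MVF A) [Injective I]
    (B : Adeq.Alg A) (S : ShortComplex (ModuleCat.{u} B)) (hS : S.ShortExact) :
    Function.Surjective (AdeqTF.tangentMap B I S.g) := by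
  intro y
  have hg : Function.Surjective S.g := by
    have := hS.epi_g
    exact (ModuleCat.epi_iff_surjective S.g).1 this
  have hπ : Function.Surjective (AdeqTF.map B S.g).hom := by
    intro z
    obtain ⟨n, hn⟩ := hg (TrivSqZeroExt.snd z)
    refine ⟨TrivSqZeroExt.inl (TrivSqZeroExt.fst z) + TrivSqZeroExt.inr n, ?_⟩
    show TrivSqZeroExt.map S.g.hom (TrivSqZeroExt.inl (TrivSqZeroExt.fst z) + TrivSqZeroExt.inr n) = z
    rw [map_add, TrivSqZeroExt.map_inl, TrivSqZeroExt.map_inr]
    have : S.g.hom n = TrivSqZeroExt.snd z := hn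
    rw [this, TrivSqZeroExt.inl_fst_add_inr_snd_eq]
  obtain ⟨x, hx⟩ := surj_of_injective I (AdeqTF.map B S.g) hπ y.1
  have hy : fm I (fst B S.X₃) y.1 = 0 := (mem_tangent B I S.X₃ y.1).1 y.2
  have hx0 : fm I (fst B S.X₂) x = 0 := by
    rw [← AdeqTF.map_fst B S.g, fm_comp, hx, hy]
  have hxT : x ∈ tangent B S.X₂ I := (mem_tangent B I S.X₂ x).2 hx0
  exact ⟨⟨x, hxT⟩, Subtype.ext hx⟩

end Groth.Agent.S8780
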