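import Groth.Statements.S8781
import Groth.Agent.Lib.Helper26.AdeqTF

set_option autoImplicit false
universe u
open CategoryTheory Limits
open AdeqTF

namespace Groth.Agent.S8781

open Groth.Agent.Lib.Helper26.AdeqTF


/-- Say a module-valued functor `F` on `A`-algebras has right exact tangent functors if for every
`A`-algebra `B` and every short exact sequence `0 → N₁ → N → N₂ → 0` of `B`-modules the sequence
`TF(B, N₁) → TF(B, N) → TF(B, N₂) → 0` is exact. If `0 → F → G → H → 0` is a short exact sequence of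
module-valued functors and `F`, `G` have right exact tangent functors, so does `H`. -/
theorem result (A : Type u) [CommRing A] (C : ShortComplex (Adeq.MVF A))
    (hC : C.ShortExact)
    (h₁ : (∀ (B : Adeq.Alg A) (S : ShortComplex (ModuleCat.{u} B)), S.ShortExact →
        Function.Surjective (AdeqTF.tangentMap B C.X₁ S.g) ∧
          (AdeqTF.tangentMap B C.X₁ S.g).ker = (AdeqTF.tangentMap B C.X₁ S.f).range))
    (h₂ : (∀ (B : Adeq.Alg A) (S : ShortComplex (ModuleCat.{u} B)), S.ShortExact →
        Function.Surjective (AdeqTF.tangentMap B C.X₂ S.g) ∧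
          (AdeqTF.tangentMap B C.X₂ S.g).ker = (AdeqTF.tangentMap B C.X₂ S.f).range)) :
    (∀ (B : Adeq.Alg A) (S : ShortComplex (ModuleCat.{u} B)), S.ShortExact →
        Function.Surjective (AdeqTF.tangentMap B C.X₃ S.g) ∧
          (AdeqTF.tangentMap B C.X₃ S.g).ker = (AdeqTF.tangentMap B C.X₃ S.f).range) := by
  intro B S hS
  obtain ⟨s1, k1⟩ := h₁ B S hS
  obtain ⟨s2, k2⟩ := h₂ B S hS
  constructor
  · intro z
    obtain ⟨y, rfl⟩ := tnat_surj B C hC S.X₃ z
    obtain ⟨y', rfl⟩ := s2 y
    exact ⟨tnat B C.g S.X₂ y', (tnat_tangentMap B C.g S.g y').symm⟩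
  · apply le_antisymm
    · intro h hh
      rw [AddMonoidHom.mem_ker] at hh
      obtain ⟨y, rfl⟩ := tnat_surj B C hC S.X₂ h
      rw [← tnat_tangentMap] at hh
      obtain ⟨w, hw⟩ := tnat_exact B C hC S.X₃ _ hh
      obtain ⟨w', rfl⟩ := s1 w
      have hy' : y - tnat B C.f S.X₂ w' ∈ (tangentMap B C.X₂ S.g).ker := by
        rw [AddMonoidHom.mem_ker, map_sub, ← hw, tnat_tangentMap, sub_self]
      rw [k2] at hy'
      obtain ⟨v, hv⟩ := hy'
      refine ⟨tnat B C.g S.X₁ v, ?_⟩
      rw [← tnat_tangentMap, hv, map_sub, tnat_zero, sub_zero]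
    · rintro _ ⟨x, rfl⟩
      rw [AddMonoidHom.mem_ker, ← tangentMap_comp, S.zero, tangentMap_zero]

end Groth.Agent.S8781
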