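import Groth.Statements.S8782
import Groth.Agent.Lib.Helper26.AdeqTF

set_option autoImplicit false
universe u
open CategoryTheory Limits
open AdeqTF

namespace Groth.Agent.S8782

open Groth.Agent.Lib.Helper26.AdeqTF


/-- If `0 → F → G → H → 0` is a short exact sequence of module-valued functors on `A`-algebras and `F`,
`H` have right exact tangent functors (for every `A`-algebra `B` and short exact `0 → N₁ → N → N₂ →
0` of `B`-modules, `T(B, N₁) → T(B, N) → T(B, N₂) → 0` is exact), so does `G`. -/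
theorem result (A : Type u) [CommRing A] (C : ShortComplex (Adeq.MVF A))
    (hC : C.ShortExact)
    (h₁ : (∀ (B : Adeq.Alg A) (S : ShortComplex (ModuleCat.{u} B)), S.ShortExact →
        Function.Surjective (AdeqTF.tangentMap B C.X₁ S.g) ∧
          (AdeqTF.tangentMap B C.X₁ S.g).ker = (AdeqTF.tangentMap B C.X₁ S.f).range))
    (h₃ : (∀ (B : Adeq.Alg A) (S : ShortComplex (ModuleCat.{u} B)), S.ShortExact →
        Function.Surjective (AdeqTF.tangentMap B C.X₃ S.g) ∧
          (AdeqTF.tangentMap B C.X₃ S.g).ker = (AdeqTF.tangentMap B C.X₃ S.f).range)) :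
    (∀ (B : Adeq.Alg A) (S : ShortComplex (ModuleCat.{u} B)), S.ShortExact →
        Function.Surjective (AdeqTF.tangentMap B C.X₂ S.g) ∧
          (AdeqTF.tangentMap B C.X₂ S.g).ker = (AdeqTF.tangentMap B C.X₂ S.f).range) := by
  intro B S hS
  obtain ⟨s1, k1⟩ := h₁ B S hS
  obtain ⟨s3, k3⟩ := h₃ B S hS
  constructor
  · intro y
    obtain ⟨h, hh⟩ := s3 (tnat B C.g S.X₃ y)
    obtain ⟨y', rfl⟩ := tnat_surj B C hC S.X₂ h
    have h0 : tnat B C.g S.X₃ (y - tangentMap B C.X₂ S.g y') = 0 := by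
      rw [map_sub, tnat_tangentMap, hh, sub_self]
    obtain ⟨w, hw⟩ := tnat_exact B C hC S.X₃ _ h0
    obtain ⟨w', rfl⟩ := s1 w
    refine ⟨y' + tnat B C.f S.X₂ w', ?_⟩
    rw [map_add, ← tnat_tangentMap, hw]
    abel
  · apply le_antisymm
    · intro y hy
      rw [AddMonoidHom.mem_ker] at hy
      have h1 : tnat B C.g S.X₂ y ∈ (tangentMap B C.X₃ S.g).ker := by
        rw [AddMonoidHom.mem_ker, ← tnat_tangentMap, hy, map_zero]
      rw [k3] at h1
      obtain ⟨hh, hhh⟩ := h1
      obtain ⟨y₁, rfl⟩ := tnat_surj B C hC S.X₁ hh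
      have h0 : tnat B C.g S.X₂ (y - tangentMap B C.X₂ S.f y₁) = 0 := by
        rw [map_sub, tnat_tangentMap, hhh, sub_self]
      obtain ⟨w, hw⟩ := tnat_exact B C hC S.X₂ _ h0
      have hw0 : tangentMap B C.X₁ S.g w = 0 := by
        apply tnat_inj B C hC S.X₃
        rw [tnat_tangentMap, hw, map_sub, hy, ← tangentMap_comp, S.zero, tangentMap_zero, map_zero,
          sub_zero]
      have hwk : w ∈ (tangentMap B C.X₁ S.g).ker := hw0
      rw [k1] at hwk
      obtain ⟨w₁, rfl⟩ := hwk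
      refine ⟨y₁ + tnat B C.f S.X₁ w₁, ?_⟩
      rw [map_add, ← tnat_tangentMap, hw]
      abel
    · rintro _ ⟨x, rfl⟩
      rw [AddMonoidHom.mem_ker, ← tangentMap_comp, S.zero, tangentMap_zero]

end Groth.Agent.S8782
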