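import Groth.Statements.S8783
import Groth.Agent.Lib.Helper26.AdeqTF

set_option autoImplicit false
universe u
open CategoryTheory Limits
open AdeqTF

namespace Groth.Agent.S8783

open Groth.Agent.Lib.Helper26.AdeqTF


/-- Let `F` be a module-valued functor on `A`-algebras with right exact tangent functors (for every
`A`-algebra `B` and short exact `0 → N₁ → N → N₂ → 0` of `B`-modules, `TF(B, N₁) → TF(B, N) → TF(B,
N₂) → 0` is exact). Then `TF(B, N₁ ⊕ N₂) = TF(B, N₁) ⊕ TF(B, N₂)`: the map from the product induced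
by the two inclusions is bijective. -/
theorem result (A : Type u) [CommRing A] (F : Adeq.MVF A)
    (hF : (∀ (B : Adeq.Alg A) (S : ShortComplex (ModuleCat.{u} B)), S.ShortExact →
        Function.Surjective (AdeqTF.tangentMap B F S.g) ∧
          (AdeqTF.tangentMap B F S.g).ker = (AdeqTF.tangentMap B F S.f).range))
    (B : Adeq.Alg A) (N₁ N₂ : ModuleCat.{u} B) :
    Function.Bijective ((AdeqTF.tangentMap B F (biprod.inl : N₁ ⟶ N₁ ⊞ N₂)).coprod
      (AdeqTF.tangentMap B F (biprod.inr : N₂ ⟶ N₁ ⊞ N₂))) := by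
  have hS := (ShortComplex.Splitting.ofHasBinaryBiproduct N₁ N₂).shortExact
  obtain ⟨-, hker⟩ := hF B _ hS
  have h_fst_inl : ∀ x, tangentMap B F (biprod.fst : N₁ ⊞ N₂ ⟶ N₁) (tangentMap B F biprod.inl x) = x := by
    intro x
    rw [← tangentMap_comp, biprod.inl_fst, tangentMap_id]
  have h_snd_inr : ∀ x, tangentMap B F (biprod.snd : N₁ ⊞ N₂ ⟶ N₂) (tangentMap B F biprod.inr x) = x := by
    intro x
    rw [← tangentMap_comp, biprod.inr_snd, tangentMap_id]
  have h_fst_inr : ∀ x, tangentMap B F (biprod.fst : N₁ ⊞ N₂ ⟶ N₁) (tangentMap B F biprod.inr x) = 0 := by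
    intro x
    rw [← tangentMap_comp, biprod.inr_fst, tangentMap_zero]
  have h_snd_inl : ∀ x, tangentMap B F (biprod.snd : N₁ ⊞ N₂ ⟶ N₂) (tangentMap B F biprod.inl x) = 0 := by
    intro x
    rw [← tangentMap_comp, biprod.inl_snd, tangentMap_zero]
  constructor
  · rw [injective_iff_map_eq_zero]
    rintro ⟨a, b⟩ hab
    rw [AddMonoidHom.coprod_apply] at hab
    have h1 := congrArg (tangentMap B F (biprod.fst : N₁ ⊞ N₂ ⟶ N₁)) hab
    have h2 := congrArg (tangentMap B F (biprod.snd : N₁ ⊞ N₂ ⟶ N₂)) hab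
    rw [map_add, h_fst_inl, h_fst_inr, map_zero, add_zero] at h1
    rw [map_add, h_snd_inl, h_snd_inr, map_zero, zero_add] at h2
    exact Prod.ext h1 h2
  · intro z
    have hz : z - tangentMap B F biprod.inr (tangentMap B F biprod.snd z) ∈
        (tangentMap B F (biprod.snd : N₁ ⊞ N₂ ⟶ N₂)).ker := by
      rw [AddMonoidHom.mem_ker, map_sub, h_snd_inr, sub_self]
    rw [hker] at hz
    obtain ⟨a, ha⟩ := hz
    refine ⟨(a, tangentMap B F biprod.snd z), ?_⟩
    rw [AddMonoidHom.coprod_apply]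
    show tangentMap B F biprod.inl a + _ = z
    rw [ha]
    abel

end Groth.Agent.S8783
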