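import Groth.Statements.S8794
import Groth.Agent.Lib.Helper39.GMD.ComplLD
import Groth.Agent.Lib.Helper39.GMD.ExtLoc
import Groth.Agent.Lib.Helper39.GMD.RepKill
import Groth.Agent.Lib.Helper39.LD.Unique
import Groth.Agent.Lib.Helper85.HullExist
-- import your own Groth.Agent.* helpers here

set_option autoImplicit false
universe u
open CategoryTheory
attribute [local instance] HasDerivedCategory.standard
open LocCoh

namespace Groth.Agent.S8794

/-- Let (A, m) be a Noetherian local ring with a dualizing complex, I an ideal and d a natural with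
cd(A, I) ≤ d, M a finite A-module, p a prime of A and s a natural with depth(M_p) + dim(A/p) > d +
s. Assume the total right derived functor RΓ_m and derived I-adic completion exist on D(A). Then
there is f ∈ A with f ∉ p annihilating the cohomology modules H^i of the derived I-adic completion
of RΓ_m(M) for all i ≤ s. -/
theorem result (A : Type u) [CommRing A] [IsNoetherianRing A] [IsLocalRing A] (hdc : ∃ ω : Dual.D A, Dual.IsDualizing A ω) (I : Ideal A) [DRing.HasRgammaI (IsLocalRing.maximalIdeal A)] [DRing.HasDerivedCompletion I] (M : Type u) [AddCommGroup M] [Module A M] [Module.Finite A M] (p : PrimeSpectrum A) (s d : ℕ) (h2 : LocCoh.CdLE A I d) (h3 : (((d + s : ℕ) : ℕ∞) : WithBot ℕ∞) < ((LocCoh.depth (Localization.AtPrime p.asIdeal) (LocalizedModule p.asIdeal.primeCompl M) : ℕ∞) : WithBot ℕ∞) + ringKrullDim (A ⧸ p.asIdeal)) : ∃ f : A, f ∉ p.asIdeal ∧ ∀ i : ℤ, i ≤ s → ∀ x : Dual.HD A ((DRing.derivedCompletion I).obj ((DRing.RgammaI (IsLocalRing.maximalIdeal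 A)).obj (Dual.inD A M))).obj i, f • x = 0 := by
  obtain ⟨ω₀, hω₀⟩ := hdc
  obtain ⟨n₀, hn⟩ := Groth.Agent.Lib.Helper39.LD.Unique.exists_normalized_shift ω₀ hω₀
  have hω : Dual.IsDualizing A (ω₀⟦n₀⟧) :=
    Groth.Agent.Lib.Helper39.Dual.isDualizing_shift ω₀ hω₀ n₀
  obtain ⟨E, _, _, f₀, hf₀⟩ :=
    Groth.Agent.Lib.Helper85.Hull.exists_injectiveHull (R := A) (IsLocalRing.ResidueField A)
  obtain ⟨K, hK1, hK2⟩ :=
    Groth.Agent.Lib.Helper39.GMD.ComplLD.exists_model (ω₀⟦n₀⟧) hω hn hf₀ I M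
  obtain ⟨f, hfp, hfkill⟩ :=
    Groth.Agent.Lib.Helper39.GMD.ExtLoc.exists_elt_of_depth (ω₀⟦n₀⟧) hω hn M p (d + s) h3
  obtain ⟨a', b', hab'⟩ := hω.finite_injective_dimension
  have hKz : ∀ i : ℤ, i < a' ∨ b' < i →
      Limits.IsZero ((DerivedCategory.homologyFunctor (ModuleCat.{u} A) i).obj K) := fun i hi => by
    obtain ⟨e⟩ := hK1 i
    haveI := hab' M i hi
    haveI : Subsingleton (Dual.HD A K i) := e.toEquiv.subsingleton
    exact ModuleCat.isZero_of_subsingleton _
  have hKf : ∀ i : ℤ, -((s : ℤ) + d) ≤ i →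
      ∀ x : ((DerivedCategory.homologyFunctor (ModuleCat.{u} A) i).obj K), f • x = 0 :=
    fun i hi x => by
    obtain ⟨e⟩ := hK1 i
    apply e.injective
    rw [map_smul, map_zero]
    exact hfkill i (by push_cast; omega) _
  obtain ⟨N, hN⟩ :=
    Groth.Agent.Lib.Helper39.GMD.RepKill.exists_pow_kill_hdi I h2 f s K a' b' hKz hKf
  refine ⟨f ^ N, fun h => hfp (p.isPrime.mem_of_pow_mem N h), fun i hi x => ?_⟩
  obtain ⟨e⟩ := hK2 i
  apply e.injective
  rw [map_smul, map_zero]
  ext y
  rw [LinearMap.smul_apply, ← map_smul, hN (-i) (by omega) y, map_zero, LinearMap.zero_apply]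

end Groth.Agent.S8794
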