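import Groth.Statements.S8800
import Groth.Agent.Lib.Helper15.CompleteNoeth
import Mathlib.RingTheory.Finiteness.Ideal

set_option autoImplicit false
universe u v
open AdicRing

namespace Groth.Agent.S8800

/-- Let A be a Noetherian ring and I an ideal of A. Let B be an A-algebra which is complete for the
IB-adic topology and such that B/IB is an A-algebra of finite type. Then B is a Noetherian ring. -/
theorem result (A : Type u) [CommRing A] [IsNoetherianRing A] (I : Ideal A) (B : Type v) [CommRing B] [Algebra A B] [IsAdicComplete (I.map (algebraMap A B)) B] (hB : Algebra.FiniteType A (B ⧸ I.map (algebraMap A B))) : IsNoetherianRing B := by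
  haveI : IsNoetherianRing (B ⧸ I.map (algebraMap A B)) := Algebra.FiniteType.isNoetherianRing A _
  have hfg : (I.map (algebraMap A B)).FG := Ideal.FG.map (I := I) (IsNoetherian.noetherian I) (algebraMap A B)
  exact Groth.Agent.Lib.Helper15.CompleteNoeth.isNoetherianRing_of_isAdicComplete
    (I.map (algebraMap A B)) hfg

end Groth.Agent.S8800
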