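import Groth.Statements.S8803
-- import your own Groth.Agent.* helpers here
import Groth.Agent.S0817
import Groth.Agent.Lib.Helper13.ARSysBasic

set_option autoImplicit false
universe u
open CategoryTheory
open LocCoh

namespace Groth.Agent.S8803

open Opposite Groth.Agent.Lib.Helper13.ARSysBasic

/-- containment of ranges gives `ImLE` -/
theorem imLE_of_range_le {A : Type u} [CommRing A] {P P' Q : ModuleCat.{u} A} (f : P ⟶ Q)
    (f' : P' ⟶ Q) (h : LinearMap.range f.hom ≤ LinearMap.range f'.hom) : ImLE f f' := by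
  intro T g hg
  apply ModuleCat.hom_ext
  apply LinearMap.ext
  intro x
  obtain ⟨y, hy⟩ := h ⟨x, rfl⟩
  change g.hom (f.hom x) = 0
  rw [← hy]
  exact LinearMap.congr_fun (congrArg ModuleCat.Hom.hom hg) y

/-- an inverse system of Artinian modules is Mittag-Leffler -/
theorem isML_of_isArtinian {A : Type u} [CommRing A] (X : ARSys.PS (ModuleCat.{u} A))
    (hX : ∀ n : ℕ, IsArtinian A (X.obj (op n))) : ARSys.IsML X := by
  intro n
  haveI := hX n
  have hmono : ∀ (m m' : ℕ) (h : n ≤ m) (h' : m ≤ m'),
      LinearMap.range (ARSys.tr X (h.trans h')).hom ≤ LinearMap.range (ARSys.tr X h).hom := by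
    intro m m' h h'
    have hcomp : ARSys.tr X (h.trans h') = ARSys.tr X h' ≫ ARSys.tr X h := by
      unfold ARSys.tr
      rw [← X.map_comp]
      congr 1
    rw [hcomp]
    rintro _ ⟨x, rfl⟩
    exact ⟨(ARSys.tr X h').hom x, rfl⟩
  let F : ℕ →o (Submodule A (X.obj (op n)))ᵒᵈ :=
    { toFun := fun s => OrderDual.toDual (LinearMap.range (ARSys.tr X (Nat.le_add_right n s)).hom)
      monotone' := by
        intro s s' hss
        change LinearMap.range (ARSys.tr X (Nat.le_add_right n s')).hom ≤
          LinearMap.range (ARSys.tr X (Nat.le_add_right n s)).hom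
        exact hmono (n + s) (n + s') (Nat.le_add_right n s) (Nat.add_le_add_left hss n) }
  obtain ⟨r, hr⟩ := IsArtinian.monotone_stabilizes F
  refine ⟨r, fun s hs => ?_⟩
  have h1 : LinearMap.range (ARSys.tr X (Nat.le_add_right n r)).hom =
      LinearMap.range (ARSys.tr X (Nat.le_add_right n s)).hom := congrArg OrderDual.ofDual (hr s hs)
  rw [imageSubobject_eq_iff]
  exact ⟨imLE_of_range_le _ _ h1.ge, imLE_of_range_le _ _ h1.le⟩

/-- Let (A, m) be a Noetherian local ring and (M_n) an inverse system of finite A-modules. Then for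
every i the inverse system H^i_m(M_n) of local cohomology modules satisfies the Mittag-Leffler
condition. -/
theorem result (A : Type u) [CommRing A] [IsNoetherianRing A] [IsLocalRing A] (Msys : ℕᵒᵖ ⥤ ModuleCat.{u} A) (hfin : ∀ n : ℕᵒᵖ, Module.Finite A (Msys.obj n)) (i : ℕ) : ARSys.IsML (Msys ⋙ localCohomology (IsLocalRing.maximalIdeal A) i) := by
  apply isML_of_isArtinian
  intro n
  exact Groth.Agent.S0817.result A (Msys.obj (op n)) i

end Groth.Agent.S8803
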