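import Groth.Statements.S8813
import Mathlib
import Groth.Agent.Lib.Helper93.DeltaZ

set_option autoImplicit false
universe u
open CategoryTheory AlgebraicGeometry
open Algz

namespace Groth.Agent.S8813

/-- Let Y be a Noetherian scheme, Z ⊆ Y a closed subset, y a point of Y and z a point of Z lying in the
closure of y. Then δ_Z(y) is at most the dimension of the local ring at z of the closure of y with
its reduced structure, that is, the Krull dimension of O_{Y,z}/𝔭 where 𝔭 is the prime ideal of the
local ring O_{Y,z} given by the point of Spec O_{Y,z} that maps to y. -/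
theorem result (Y : Scheme.{u}) [IsNoetherian Y] (Z : Set Y) (hZ : IsClosed Z) (y z : Y) (h : y ⤳ z) (hz : z ∈ Z) (P : PrimeSpectrum (Y.presheaf.stalk z)) (hP : (Y.fromSpecStalk z).base P = y) : ((Algz.deltaZ Z y : ℕ∞) : WithBot ℕ∞) ≤ ringKrullDim (↥(Y.presheaf.stalk z) ⧸ P.asIdeal) := by
  have hemb : Topology.IsEmbedding (Y.fromSpecStalk z).base := (Y.fromSpecStalk z).isEmbedding
  have hgen : StableUnderGeneralization (Set.range (Y.fromSpecStalk z).base) := by
    rw [Scheme.range_fromSpecStalk]
    intro a b hba ha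
    exact hba.trans ha
  have hm : (Y.fromSpecStalk z).base (IsLocalRing.closedPoint (Y.presheaf.stalk z)) = z :=
    Scheme.fromSpecStalk_closedPoint
  have hPm : (P : ↥(Spec (Y.presheaf.stalk z))) ⤳
      (IsLocalRing.closedPoint (Y.presheaf.stalk z) : ↥(Spec (Y.presheaf.stalk z))) := by
    refine hemb.specializes_iff.mp ?_
    have h' : (Y.fromSpecStalk z).base P ⤳
        (Y.fromSpecStalk z).base (IsLocalRing.closedPoint (Y.presheaf.stalk z)) := by
      rw [hP, hm]; exact h
    exact h'
  have h1 := Groth.Agent.Lib.Helper93.DeltaZ.codimPt_map (Y.fromSpecStalk z).base hemb hgen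
    (P : ↥(Spec (Y.presheaf.stalk z)))
    (IsLocalRing.closedPoint (Y.presheaf.stalk z) : ↥(Spec (Y.presheaf.stalk z))) hPm
  have h2 := Groth.Agent.Lib.Helper93.DeltaZ.codimPt_primeSpectrum_le P
    (IsLocalRing.closedPoint (Y.presheaf.stalk z)) hPm
  have h3 : Algz.deltaZ Z y ≤ Algz.codimPt y z h :=
    Groth.Agent.Lib.Helper93.DeltaZ.deltaZ_le_codimPt Z z y h hz
  have h4 : Algz.codimPt y z h = Algz.codimPt (P : ↥(Spec (Y.presheaf.stalk z)))
      (IsLocalRing.closedPoint (Y.presheaf.stalk z) : ↥(Spec (Y.presheaf.stalk z))) hPm :=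
    (Groth.Agent.Lib.Helper93.DeltaZ.codimPt_congr hP.symm hm.symm h _).trans h1
  rw [h4] at h3
  exact (WithBot.coe_le_coe.mpr h3).trans h2

end Groth.Agent.S8813
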