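import Groth.Statements.S8822
import Groth.Agent.S8800
import Groth.Agent.Lib.Helper25.CompleteFinite
import Mathlib.RingTheory.AdicCompletion.Noetherian

set_option autoImplicit false
universe u v
open AdicRing

namespace Groth.Agent.S8822

/-- Let A be a Noetherian ring and I an ideal. Let B be an A-algebra which is complete for the IB-adic
topology and such that B/IB is of finite type over A, and let J be an ideal of B. Then B/J is
complete for the I(B/J)-adic topology (so B/J is again an object of the same category, the finite
type condition on (B/J)/I(B/J) being immediate). -/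
theorem result (A : Type u) [CommRing A] [IsNoetherianRing A] (I : Ideal A) (B : Type v) [CommRing B] [Algebra A B] [IsAdicComplete (I.map (algebraMap A B)) B] (hB : Algebra.FiniteType A (B ⧸ I.map (algebraMap A B))) (J : Ideal B) : IsAdicComplete (I.map (algebraMap A (B ⧸ J))) (B ⧸ J) := by
  haveI : IsNoetherianRing B := Groth.Agent.S8800.result A I B hB
  set K := I.map (algebraMap A B) with hK
  haveI : IsHausdorff K (B ⧸ J) :=
    IsHausdorff.of_le_jacobson K (B ⧸ J) (IsAdicComplete.le_jacobson_bot K)
  haveI : IsPrecomplete K (B ⧸ J) :=
    Groth.Agent.Lib.Helper25.isPrecomplete_of_surjective K (Submodule.mkQ J)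
      (Submodule.mkQ_surjective J)
  have h1 : IsAdicComplete K (B ⧸ J) := {}
  have h2 : IsAdicComplete I (B ⧸ J) := (IsAdicComplete.map_algebraMap_iff (R := A) (S := B) I (B ⧸ J)).mp h1
  exact (IsAdicComplete.map_algebraMap_iff (R := A) (S := B ⧸ J) I (B ⧸ J)).mpr h2

end Groth.Agent.S8822
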