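import Groth.Statements.S8823
import Mathlib
import Groth.Agent.S0595
import Groth.Agent.S0599
import Groth.Agent.S0600
import Groth.Agent.S0543
import Groth.Agent.Lib.Helper27.SmoothSection
import Groth.Agent.Lib.Helper20.ApproxCpl

set_option autoImplicit false
universe u
open AdicRing

namespace Groth.Agent.S8823

/-- Let A be a Noetherian G-ring and I an ideal of A. Let B and C be A-algebras of finite type, φ an
A-algebra map from the IB-adic completion of B to the IC-adic completion of C, and N ≥ 1. Then one
can find an etale C-algebra C' for which the induced map C/IC → C'/IC' is a bijection, together with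
a homomorphism of A-algebras ψ : B → C' that approximates φ to order N: given any b ∈ B, some c ∈ C
satisfies ψ(b) − c ∈ I^N C', while the image of φ(b) in C/I^N C (the N-th truncation of the
completion) coincides with the class of c. -/
theorem result (A : Type u) [CommRing A] (hA : CAlg.IsGRing A) (I : Ideal A) (B C : Type u) [CommRing B] [Algebra A B] [Algebra.FiniteType A B] [CommRing C] [Algebra A C] [Algebra.FiniteType A C] (φ : (AdicCompletion (I.map (algebraMap A B)) B) →ₐ[A] (AdicCompletion (I.map (algebraMap A C)) C)) (N : ℕ) (hN : 1 ≤ N) : ∃ (C' : Type u) (_ : CommRing C') (_ : Algebra C C') (_ : Algebra A C') (_ : IsScalarTower A C C') (_ : Algebra.Etale C C') (ψ : B →ₐ[A] C'), ((∀ c' : C', ∃ c : C, algebraMap C C' c - c' ∈ I.map (algebraMap A C')) ∧ ∀ c : C, algebraMap C C' c ∈ I.map (algebraMap A C') → c ∈ I.map (algebraMap A C)) ∧ ∀ b : B, ∃ c : C, ψ b - algebraMap C C' c ∈ (I.map (algebraMap A C')) ^ N ∧ AdicCompletion.eval (I.map (algebraMap A C)) C N (φ (AdicCompletion.of (I.map (algebraMap A B)) B b)) = Submodule.Quotient.mk c := by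
  classical
  haveI hAN : IsNoetherianRing A := hA.1
  have hCG : CAlg.IsGRing C := Groth.Agent.S0599.result A hA C
  haveI hCN : IsNoetherianRing C := hCG.1
  haveI hChN : IsNoetherianRing (AdicCompletion (I.map (algebraMap A C)) C) :=
    Groth.Agent.S0543.result C _
  have hreg : CAlg.IsRegularHom C (AdicCompletion (I.map (algebraMap A C)) C) :=
    Groth.Agent.S0600.result C hCG _
  haveI hBfp : Algebra.FinitePresentation A B :=
    Algebra.FinitePresentation.of_finiteType.mp inferInstance
  haveI hDfp : Algebra.FinitePresentation C (TensorProduct A C B) := inferInstance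
  obtain ⟨E, _, _, hE, g, h, hgh⟩ := Groth.Agent.S0595.result C
    (AdicCompletion (I.map (algebraMap A C)) C) hreg (TensorProduct A C B)
    (Groth.Agent.Lib.Helper20.ApproxCpl.mu I φ)
  obtain ⟨C', _, _, hEt, ψ', τ, hker, hτ⟩ :=
    Groth.Agent.Lib.Helper27.SmoothSection.exists_etale_section
      ((I.map (algebraMap A C)) ^ N)
      ((AdicCompletion.evalₐ (I.map (algebraMap A C)) N).comp h)
  letI algAC' : Algebra A C' := ((algebraMap C C').comp (algebraMap A C)).toAlgebra
  haveI tow : IsScalarTower A C C' := IsScalarTower.of_algebraMap_eq (fun _ => rfl)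
  obtain ⟨ψ, h12, h3⟩ := Groth.Agent.Lib.Helper20.ApproxCpl.core I φ N hN E g h hgh C' ψ' τ hker hτ
  exact ⟨C', inferInstance, inferInstance, algAC', tow, hEt, ψ, h12, h3⟩

end Groth.Agent.S8823
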