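import Groth.Statements.S8825
-- import your own Groth.Agent.* helpers here
import Groth.Agent.Lib.Helper63.RigClosed
import Groth.Agent.Lib.Helper49.GRingFT
import Groth.Agent.S0598
import Groth.Agent.S0600
import Groth.Agent.S0543
import Groth.Agent.Lib.Helper30.SmoothRegularHom
import Groth.Agent.Lib.Helper56.HomComp
import Groth.Agent.Lib.Helper56.FibreCM

set_option autoImplicit false
universe u
open AdicRing

namespace Groth.Agent.S8825


/-- Let A be a Noetherian ring which is complete for the adic topology of an ideal I, let p be a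
rig-closed prime of A (I ⊄ p and p is maximal among the primes not containing I), and let n ≥ 1.
Then the ring map from A/p to the restricted power series ring (A/p){x_1, …, x_n}, i.e. the I-adic
completion of the polynomial ring (A/p)[x_1, …, x_n], is a regular ring map (flat, with Noetherian
and geometrically regular fibres). (The consequence for the fibre over the fraction field is not
stated.) -/
theorem result (A : Type u) [CommRing A] [IsNoetherianRing A] (I : Ideal A) [IsAdicComplete I A] (p : PrimeSpectrum A) (hp : ¬ I ≤ p.asIdeal ∧ ∀ q : PrimeSpectrum A, p ≤ q → ¬ I ≤ q.asIdeal → q = p) (n : ℕ) (hn : 1 ≤ n) : CAlg.IsRegularHom (A ⧸ p.asIdeal) (AdicCompletion (I.map (algebraMap A (MvPolynomial (Fin n) (A ⧸ p.asIdeal)))) (MvPolynomial (Fin n) (A ⧸ p.asIdeal))) := by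
  classical
  have h3 := ((Groth.Agent.Lib.Helper63.RigClosed.tfae_rig_closed_point A I p).out 0 2).mp hp
  obtain ⟨hdim, hmax, hcpl⟩ := h3
  have : p.asIdeal.IsPrime := p.isPrime
  obtain ⟨M, hM⟩ := Ideal.exists_maximal (A ⧸ p.asIdeal)
  have hloc : IsLocalRing (A ⧸ p.asIdeal) :=
    IsLocalRing.of_unique_max_ideal ⟨M, hM, fun m hm => (hmax m hm).trans (hmax M hM).symm⟩
  have hm : IsLocalRing.maximalIdeal (A ⧸ p.asIdeal) =
      (I.map (Ideal.Quotient.mk p.asIdeal)).radical :=
    hmax _ (IsLocalRing.maximalIdeal.isMaximal _)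
  have : IsAdicComplete (IsLocalRing.maximalIdeal (A ⧸ p.asIdeal)) (A ⧸ p.asIdeal) := by
    rw [hm]; exact hcpl
  have hG : CAlg.IsGRing (A ⧸ p.asIdeal) := Groth.Agent.S0598.result _
  have hGP := Groth.Agent.Lib.Helper49.GRingFT.isGRing_mvPolynomial _ hG n
  have : Algebra.Smooth (A ⧸ p.asIdeal) (MvPolynomial (Fin n) (A ⧸ p.asIdeal)) :=
    ⟨inferInstance, inferInstance⟩
  have h1 : CAlg.IsRegularHom (A ⧸ p.asIdeal) (MvPolynomial (Fin n) (A ⧸ p.asIdeal)) :=
    Groth.Agent.Lib.Helper30.SmoothRegular.isRegularHom_of_smooth _ _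
  have h2 := Groth.Agent.S0600.result _ hGP
    (I.map (algebraMap A (MvPolynomial (Fin n) (A ⧸ p.asIdeal))))
  have : IsNoetherianRing (MvPolynomial (Fin n) (A ⧸ p.asIdeal)) := hGP.1
  have : IsNoetherianRing (AdicCompletion (I.map (algebraMap A (MvPolynomial (Fin n) (A ⧸ p.asIdeal)))) (MvPolynomial (Fin n) (A ⧸ p.asIdeal))) :=
    Groth.Agent.S0543.result _ _
  exact Groth.Agent.Lib.Helper56.isRegularHom_comp _ _ _ h1 h2
    (fun q _ => Groth.Agent.Lib.Helper56.isNoetherianRing_fiber _ _ q)

end Groth.Agent.S8825
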