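import Groth.Statements.S8830
import Groth.Agent.S0852
import Groth.Agent.Lib.Helper93.SmulMod

set_option autoImplicit false
universe u
open CategoryTheory AlgebraicGeometry Opposite
open Formal2

namespace Groth.Agent.S8830

open CategoryTheory.Limits
open Groth.Agent.Lib.Helper93.SmulMod

variable {A : Type u} [CommRing A] {X : Scheme.{u}} [X.Over (Spec (CommRingCat.of A))]

/-- composite of the `i`'s -/
noncomputable def iota (G : ℕᵒᵖ ⥤ X.Modules) (i : ∀ n, G.obj (op n) ⟶ G.obj (op (n + 1))) :
    ∀ n, G.obj (op 0) ⟶ G.obj (op (n + 1))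
  | 0 => i 0
  | n + 1 => iota G i n ≫ i (n + 1)

theorem map_comp_le (G : ℕᵒᵖ ⥤ X.Modules) {a b c : ℕ} (h1 : a ≤ b) (h2 : b ≤ c) :
    G.map (homOfLE h2).op ≫ G.map (homOfLE h1).op = G.map (homOfLE (h1.trans h2)).op := by
  rw [← G.map_comp]; rfl

/-- the abstract part: the system is a quasi-coherent formal system for `(f)` -/
theorem key (f : A) (G : ℕᵒᵖ ⥤ X.Modules)
    (i : ∀ n, G.obj (op n) ⟶ G.obj (op (n + 1))) (hi_mono : ∀ n, Mono (i n))
    (hi_f : ∀ n, G.map (homOfLE (Nat.le_succ n)).op ≫ i n = Formal.smulMod A (G.obj (op (n + 1))) f)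
    (hw : ∀ n, i n ≫ G.map (homOfLE (Nat.zero_le (n + 1))).op = 0)
    (hse : ∀ n, (ShortComplex.mk (i n) (G.map (homOfLE (Nat.zero_le (n + 1))).op) (hw n)).ShortExact) :
    (∀ n, Formal.KilledBy ((Ideal.span ({f} : Set A)) ^ (n + 1)) (G.obj (op n))) ∧
    ∀ n, ∃ h : Formal.smulFamily ((Ideal.span ({f} : Set A)) ^ (n + 1)) (G.obj (op (n + 1))) ≫
        G.map (homOfLE (Nat.le_succ n)).op = 0, IsIso (cokernel.desc _ _ h) := by
  let t : ∀ n, G.obj (op (n + 1)) ⟶ G.obj (op n) := fun n => G.map (homOfLE (Nat.le_succ n)).op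
  let p : ∀ n, G.obj (op n) ⟶ G.obj (op 0) := fun n => G.map (homOfLE (Nat.zero_le n)).op
  have htp : ∀ n, t n ≫ p n = p (n + 1) := fun n => map_comp_le G _ _
  have hit : ∀ n, i n ≫ t n = Formal.smulMod A (G.obj (op n)) f := by
    intro n
    haveI := hi_mono n
    rw [← cancel_mono (i n), Category.assoc, hi_f n]
    exact (smulMod_naturality (i n) f).symm
  have hepi_p : ∀ n, Epi (p (n + 1)) := fun n => (hse n).epi_g
  -- transitions are epi
  have hepi : ∀ n, Epi (t n) := by
    intro n
    induction n with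
    | zero => exact (hse 0).epi_g
    | succ n ih =>
      haveI := hepi_p n
      haveI := hepi_p (n + 1)
      have hcok := (hse n).exact.gIsCokernel
      apply Abelian.epi_of_cokernel_π_eq_zero
      have h1 : i n ≫ cokernel.π (t (n + 1)) = 0 := by
        rw [← cancel_epi (t n), ← Category.assoc, hi_f n, ← hit (n + 1), Category.assoc,
          cokernel.condition, comp_zero, comp_zero]
      have hc' : p (n + 1) ≫ hcok.desc (CokernelCofork.ofπ _ h1) = cokernel.π (t (n + 1)) :=
        hcok.fac (CokernelCofork.ofπ _ h1) WalkingParallelPair.one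
      have h2 : hcok.desc (CokernelCofork.ofπ _ h1) = 0 := by
        rw [← cancel_epi (p (n + 2)), ← htp (n + 1), Category.assoc, hc', cokernel.condition,
          comp_zero]
      rw [← hc', h2, comp_zero]
  -- killed by powers of f
  have hk : ∀ n, Formal.smulMod A (G.obj (op n)) (f ^ (n + 1)) = 0 := by
    intro n
    induction n with
    | zero =>
      haveI := hepi 0
      rw [zero_add, pow_one, ← cancel_epi (t 0), comp_zero, ← smulMod_naturality, ← hi_f 0,
        Category.assoc]
      exact (congrArg (fun k => t 0 ≫ k) (hw 0)).trans comp_zero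
    | succ n ih =>
      rw [smulMod_pow_succ, ← hi_f n, Category.assoc, ← smulMod_naturality, ih, zero_comp, comp_zero]
  have hkill : ∀ n, Formal.KilledBy ((Ideal.span ({f} : Set A)) ^ (n + 1)) (G.obj (op n)) := by
    intro n a ha
    rw [Ideal.span_singleton_pow, Ideal.mem_span_singleton'] at ha
    obtain ⟨b, rfl⟩ := ha
    rw [smulMod_mul, hk n, zero_comp]
  refine ⟨hkill, ?_⟩
  -- kernel description
  have hB : ∀ n, Mono (iota G i n) ∧ ∃ w : iota G i n ≫ t n = 0,
      Nonempty (IsLimit (KernelFork.ofι (iota G i n) w)) := by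
    intro n
    induction n with
    | zero =>
      haveI := hi_mono 0
      exact ⟨hi_mono 0, hw 0, ⟨(hse 0).exact.fIsKernel⟩⟩
    | succ n ih =>
      obtain ⟨hm, w, ⟨hl⟩⟩ := ih
      haveI := hm
      haveI := hi_mono (n + 1)
      haveI := hi_mono n
      have hm' : Mono (iota G i (n + 1)) := mono_comp _ _
      have w' : iota G i (n + 1) ≫ t (n + 1) = 0 := by
        change (iota G i n ≫ i (n + 1)) ≫ t (n + 1) = 0
        rw [Category.assoc, hit (n + 1), ← hi_f n, ← Category.assoc, w, zero_comp]
      refine ⟨hm', w', ⟨KernelFork.IsLimit.ofι' _ _ (fun {K} k hk0 => ?_)⟩⟩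
      have hker := (hse (n + 1)).exact.fIsKernel
      have hk1 : k ≫ p (n + 2) = 0 := by
        rw [← htp (n + 1), ← Category.assoc, hk0, zero_comp]
      let k' : K ⟶ G.obj (op (n + 1)) := hker.lift (KernelFork.ofι k hk1)
      have hk' : k' ≫ i (n + 1) = k := hker.fac (KernelFork.ofι k hk1) WalkingParallelPair.zero
      have hk2 : k' ≫ t n = 0 := by
        rw [← cancel_mono (i n), Category.assoc, hi_f n, zero_comp, ← hit (n + 1), ← Category.assoc,
          hk', hk0]
      let k'' : K ⟶ G.obj (op 0) := hl.lift (KernelFork.ofι k' hk2)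
      have hk'' : k'' ≫ iota G i n = k' := hl.fac (KernelFork.ofι k' hk2) WalkingParallelPair.zero
      refine ⟨k'', ?_⟩
      change k'' ≫ (iota G i n ≫ i (n + 1)) = k
      rw [← Category.assoc, hk'', hk']
  have hA : ∀ n, Formal.smulMod A (G.obj (op (n + 1))) (f ^ (n + 1)) = p (n + 1) ≫ iota G i n := by
    intro n
    induction n with
    | zero =>
      change Formal.smulMod A (G.obj (op 1)) (f ^ 1) = _
      rw [pow_one]
      exact (hi_f 0).symm
    | succ n ih =>
      rw [smulMod_pow_succ, ← hi_f (n + 1), Category.assoc, ← smulMod_naturality, ih]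
      change t (n + 1) ≫ (p (n + 1) ≫ iota G i n) ≫ i (n + 1) = p (n + 2) ≫ (iota G i n ≫ i (n + 1))
      rw [← htp (n + 1)]
      simp only [Category.assoc]
  intro n
  have h : Formal.smulFamily ((Ideal.span ({f} : Set A)) ^ (n + 1)) (G.obj (op (n + 1))) ≫ t n = 0 :=
    Groth.Agent.Lib.Helper55.CohFormal.smulFamily_comp_eq_zero (hkill n) _
  refine ⟨h, ?_⟩
  obtain ⟨hm, w, ⟨hl⟩⟩ := hB n
  haveI := hepi n
  haveI := hepi_p n
  -- t n is a cokernel of iota n
  have hcok : IsColimit (CokernelCofork.ofπ (t n) w) :=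
    Abelian.epiIsCokernelOfKernel (KernelFork.ofι (iota G i n) w) hl
  -- inverse
  have h3 : iota G i n ≫ Formal.modPowπ (Ideal.span ({f} : Set A)) (n + 1) (G.obj (op (n + 1))) = 0 := by
    rw [← cancel_epi (p (n + 1)), ← Category.assoc, ← hA n, comp_zero]
    exact smulMod_pow_comp_modPowπ f (n + 1) _
  let e : G.obj (op n) ⟶ Formal.modPow (Ideal.span ({f} : Set A)) (n + 1) (G.obj (op (n + 1))) :=
    hcok.desc (CokernelCofork.ofπ _ h3)
  have he : t n ≫ e = Formal.modPowπ (Ideal.span ({f} : Set A)) (n + 1) (G.obj (op (n + 1))) :=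
    hcok.fac (CokernelCofork.ofπ _ h3) WalkingParallelPair.one
  refine ⟨e, ?_, ?_⟩
  · rw [← cancel_epi (cokernel.π (Formal.smulFamily ((Ideal.span ({f} : Set A)) ^ (n + 1))
      (G.obj (op (n + 1))))), ← Category.assoc, cokernel.π_desc, Category.comp_id]
    exact he
  · have : t n ≫ (e ≫ cokernel.desc _ _ h) = t n ≫ 𝟙 _ := by
      rw [← Category.assoc, he, Category.comp_id]
      exact cokernel.π_desc _ _ _
    exact (cancel_epi (t n)).mp this

/-- Implication (1) ⇒ (4) for quasi-coherent systems on a scheme, with f taken in a base ring A over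
which X lives. Let (F_n)_{n ≥ 1} be an inverse system of quasi-coherent O_X-modules, indexed here so
that position n holds F_{n+1}. Assume (1): for every n ≥ 1, multiplication by f on F_{n+1} factors
as the transition map F_{n+1} → F_n followed by a monomorphism i : F_n → F_{n+1}, and F_n → F_{n+1}
→ F_1 (second map the transition map to the first term) is short exact. Then (4): there is an
O_X-module F on which multiplication by f is a monomorphism and whose system of quotients
(F/f^nF)_{n ≥ 1} is isomorphic to (F_n) as an inverse system (existence of an isomorphism). -/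
theorem result (A : Type u) [CommRing A] (X : Scheme.{u}) [X.Over (Spec (CommRingCat.of A))] (f : A) (G : ℕᵒᵖ ⥤ X.Modules) (hqc : ∀ n : ℕᵒᵖ, Coh.IsQCoh (G.obj n)) (h1 : ∀ n : ℕ, ∃ i : G.obj (op n) ⟶ G.obj (op (n + 1)), Mono i ∧ G.map (homOfLE (Nat.le_succ n)).op ≫ i = Formal.smulMod A (G.obj (op (n + 1))) f ∧ ∃ w : i ≫ G.map (homOfLE (Nat.zero_le (n + 1))).op = 0, (ShortComplex.mk i (G.map (homOfLE (Nat.zero_le (n + 1))).op) w).ShortExact) : ∃ F : X.Modules, Mono (Formal.smulMod A F f) ∧ Nonempty (Formal.completion (Ideal.span ({f} : Set A)) F ≅ G) := by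
  choose i hi_mono hi_f hi using h1
  have hw : ∀ n, i n ≫ G.map (homOfLE (Nat.zero_le (n + 1))).op = 0 := fun n => (hi n).choose
  have hse : ∀ n, (ShortComplex.mk (i n) (G.map (homOfLE (Nat.zero_le (n + 1))).op)
      (hw n)).ShortExact := fun n => (hi n).choose_spec
  obtain ⟨hkill, hcok⟩ := key f G i hi_mono hi_f hw hse
  have hG : Formal2.IsQCohFormal (Ideal.span ({f} : Set A)) G :=
    ⟨fun n => hqc (op n), hkill, hcok⟩
  have hfg : (Ideal.span ({f} : Set A)).FG := ⟨{f}, by simp⟩
  refine ⟨limit G, ?_, ?_⟩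
  · apply Preadditive.mono_of_cancel_zero
    intro T g hg
    apply limit.hom_ext
    intro j
    obtain ⟨m⟩ := j
    rw [zero_comp]
    haveI := hi_mono m
    rw [← cancel_mono (i m), zero_comp, Category.assoc]
    have : limit.π G (op m) ≫ i m =
        Formal.smulMod A (limit G) f ≫ limit.π G (op (m + 1)) := by
      rw [smulMod_naturality, ← hi_f m, ← Category.assoc, limit.w]
    rw [this, ← Category.assoc, hg, zero_comp]
  · choose h hiso using fun n =>
      Groth.Agent.S0852.result A (Ideal.span ({f} : Set A)) hfg X G hG n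
    let app : ∀ n : ℕ, (Formal.completion (Ideal.span ({f} : Set A)) (limit G)).obj ⟨n⟩ ⟶
        G.obj ⟨n⟩ := fun n => cokernel.desc _ _ (h n)
    have happ : ∀ n, Formal.modPowπ (Ideal.span ({f} : Set A)) (n + 1) (limit G) ≫ app n =
        limit.π G (op n) := fun n => cokernel.π_desc _ _ _
    have nat : ∀ n : ℕ, (Formal.completion (Ideal.span ({f} : Set A)) (limit G)).map
        (homOfLE (n.le_add_right 1)).op ≫ app n =
          app (n + 1) ≫ G.map (homOfLE (n.le_add_right 1)).op := by
      intro n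
      have hmap : (Formal.completion (Ideal.span ({f} : Set A)) (limit G)).map
          (homOfLE (n.le_add_right 1)).op =
            Formal.modPowTrans (Ideal.span ({f} : Set A)) (n + 1) (limit G) :=
        Functor.ofOpSequence_map_homOfLE_succ _ n
      rw [hmap]
      refine (cancel_epi (Formal.modPowπ (Ideal.span ({f} : Set A)) (n + 1 + 1) (limit G))).mp ?_
      have e1 : Formal.modPowπ (Ideal.span ({f} : Set A)) (n + 1 + 1) (limit G) ≫
          Formal.modPowTrans (Ideal.span ({f} : Set A)) (n + 1) (limit G) ≫ app n =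
            limit.π G (op n) := by
        rw [← Category.assoc, Formal.modPowπ_trans]; exact happ n
      have e2 : Formal.modPowπ (Ideal.span ({f} : Set A)) (n + 1 + 1) (limit G) ≫
          app (n + 1) ≫ G.map (homOfLE (n.le_add_right 1)).op = limit.π G (op n) := by
        rw [← Category.assoc]
        exact (congrArg (fun k => k ≫ G.map (homOfLE (n.le_add_right 1)).op) (happ (n + 1))).trans
          (limit.w G _)
      exact e1.trans e2.symm
    let τ := NatTrans.ofOpSequence app nat
    haveI : ∀ j, IsIso (τ.app j) := fun j => by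
      change IsIso (app j.unop); exact hiso j.unop
    haveI : IsIso τ := NatIso.isIso_of_isIso_app τ
    exact ⟨asIso τ⟩

end Groth.Agent.S8830
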