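import Groth.Statements.S8831
import Groth.Prelude.Def_Canon
import Groth.Agent.S8832

set_option autoImplicit false
universe u
open CategoryTheory AlgebraicGeometry Opposite
open LocCoh

namespace Groth.Agent.S8831

section Helpers

variable {X : Scheme.{u}}

lemma HHlin_apply (A : Type u) [CommRing A] [X.Over (Spec (CommRingCat.of A))]
    {M M' : X.Modules} (φ : M ⟶ M') (i : ℕ) (x : Coh.HH X M i) :
    Canon.HHlin A φ i x = Sheaf.H.map ((SheafOfModules.toSheaf X.ringCatSheaf).map φ) i x := rfl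

lemma HHlin_comp (A : Type u) [CommRing A] [X.Over (Spec (CommRingCat.of A))]
    {M M' M'' : X.Modules} (φ : M ⟶ M') (ψ : M' ⟶ M'') (i : ℕ) :
    Canon.HHlin A (φ ≫ ψ) i = (Canon.HHlin A ψ i).comp (Canon.HHlin A φ i) := by
  ext x
  have h : (SheafOfModules.toSheaf X.ringCatSheaf).map (φ ≫ ψ) =
      (SheafOfModules.toSheaf X.ringCatSheaf).map φ ≫ (SheafOfModules.toSheaf X.ringCatSheaf).map ψ :=
    Functor.map_comp _ _ _
  exact (congrArg (fun f => Sheaf.H.map f i x) h).trans (Sheaf.H.map_comp_apply _ _ x)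

/-- the image of `H^i(G_s) → H^i(G_n)` -/
noncomputable def R (A : Type u) [CommRing A] [X.Over (Spec (CommRingCat.of A))] (G : ℕᵒᵖ ⥤ X.Modules)
    (i n s : ℕ) (h : n ≤ s) : Submodule A (Coh.HH X (G.obj (op n)) i) :=
  LinearMap.range (Canon.HHlin A (G.map (homOfLE h).op) i)

lemma R_anti (A : Type u) [CommRing A] [X.Over (Spec (CommRingCat.of A))] (G : ℕᵒᵖ ⥤ X.Modules)
    (i n s s' : ℕ) (hs : n ≤ s) (hss' : s ≤ s') : R A G i n s' (hs.trans hss') ≤ R A G i n s hs := by
  have h1 : G.map (homOfLE (hs.trans hss')).op =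
      G.map (homOfLE hss').op ≫ G.map (homOfLE hs).op := by
    rw [← G.map_comp]
    congr 1
  unfold R
  rw [h1, HHlin_comp]
  exact LinearMap.range_comp_le_range _ _

lemma R_congr (A : Type u) [CommRing A] [X.Over (Spec (CommRingCat.of A))] (G : ℕᵒᵖ ⥤ X.Modules)
    (i n s s' : ℕ) (e : s = s') (h : n ≤ s) (h' : n ≤ s') : R A G i n s h = R A G i n s' h' := by
  subst e
  rfl

lemma R_coe (A : Type u) [CommRing A] [X.Over (Spec (CommRingCat.of A))] (G : ℕᵒᵖ ⥤ X.Modules)
    (i n s : ℕ) (h : n ≤ s) : (R A G i n s h : Set (Coh.HH X (G.obj (op n)) i)) =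
      Set.range (Sheaf.H.map ((SheafOfModules.toSheaf X.ringCatSheaf).map
        (G.map (homOfLE h).op)) i) := rfl

attribute [irreducible] R

/-- Mittag-Leffler from the descending chain condition -/
lemma key (A : Type u) [CommRing A] [X.Over (Spec (CommRingCat.of A))] (G : ℕᵒᵖ ⥤ X.Modules)
    (i : ℕ) (n : ℕ) (hArt : IsArtinian A (Coh.HH X (G.obj (op n)) i)) :
    ∃ (r : ℕ) (hnr : n ≤ r), ∀ (s : ℕ) (hs : n ≤ s), r ≤ s → R A G i n s hs = R A G i n r hnr := by
  let f : ℕ →o (Submodule A (Coh.HH X (G.obj (op n)) i))ᵒᵈ :=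
    { toFun := fun k => OrderDual.toDual (R A G i n (n + k) (Nat.le_add_right n k))
      monotone' := fun k k' hkk' => OrderDual.toDual_le_toDual.mpr
        (R_anti A G i n (n + k) (n + k') (Nat.le_add_right n k) (by omega)) }
  obtain ⟨k₀, hk₀⟩ := IsArtinian.monotone_stabilizes f
  refine ⟨n + k₀, Nat.le_add_right n k₀, fun s hs hrs => ?_⟩
  have h := hk₀ (s - n) (by omega)
  have h2 : R A G i n (n + k₀) (Nat.le_add_right n k₀) =
      R A G i n (n + (s - n)) (Nat.le_add_right n (s - n)) := congrArg OrderDual.ofDual h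
  rw [h2]
  exact R_congr A G i n s (n + (s - n)) (by omega) _ _

end Helpers


/-- Let (A, m) be a Noetherian local ring and U = Spec A ∖ {m} the punctured spectrum. Suppose we are
given a system (F_n), indexed inversely by n, of coherent modules on U. In each positive degree i,
the cohomology groups H^i(U, F_n) then form a Mittag-Leffler system; concretely, given any n one can
find r ≥ n such that for all s ≥ r the image of H^i(U, F_s) → H^i(U, F_n) equals the image of H^i(U,
F_r) → H^i(U, F_n). -/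
theorem result (A : Type u) [CommRing A] [IsNoetherianRing A] [IsLocalRing A] (G : ℕᵒᵖ ⥤ (↑(LocCoh.puncturedOpen A (IsLocalRing.maximalIdeal A)) : Scheme.{u}).Modules) (hG : ∀ n : ℕᵒᵖ, Coh.IsCoh (G.obj n)) (i : ℕ) (hi : 0 < i) (n : ℕ) : ∃ (r : ℕ) (hnr : n ≤ r), ∀ (s : ℕ) (hrs : r ≤ s), Set.range (Sheaf.H.map ((SheafOfModules.toSheaf _).map (G.map (homOfLE (hnr.trans hrs : n ≤ s)).op)) i) = Set.range (Sheaf.H.map ((SheafOfModules.toSheaf _).map (G.map (homOfLE (hnr : n ≤ r)).op)) i) := by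
  have hArt : IsArtinian A (Coh.HH _ (G.obj (op n)) i) :=
    Groth.Agent.S8832.result A (G.obj (op n)) (hG (op n)) i hi
  obtain ⟨r, hnr, h⟩ := key A G i n hArt
  refine ⟨r, hnr, fun s hrs => ?_⟩
  have h' := congrArg (fun S : Submodule A (Coh.HH _ (G.obj (op n)) i) =>
    (S : Set (Coh.HH _ (G.obj (op n)) i))) (h s (hnr.trans hrs) hrs)
  simp only [R_coe] at h'
  exact h'

end Groth.Agent.S8831
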