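import Groth.Statements.S8834
import Mathlib.RingTheory.Finiteness.Ideal
import Mathlib.RingTheory.FiniteType
import Mathlib.RingTheory.Noetherian.Basic

set_option autoImplicit false
universe u
open AdicRing

namespace Groth.Agent.S8834

section
variable {A : Type u} [CommRing A] {B : Type u} [CommRing B] [Algebra A B]
  (R : Ideal B) (S : Subalgebra A B)

def T (m : ℕ) (u : B) : Prop := ∃ z ∈ S, z ∈ R ^ m ∧ u - z ∈ R ^ (m + 1)

theorem T_zero (m : ℕ) : T R S m 0 := ⟨0, S.zero_mem, (R ^ m).zero_mem, by simp⟩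

theorem T_add (m : ℕ) {u v : B} (hu : T R S m u) (hv : T R S m v) : T R S m (u + v) := by
  obtain ⟨z, hz, hzm, hzu⟩ := hu
  obtain ⟨w, hw, hwm, hwv⟩ := hv
  refine ⟨z + w, S.add_mem hz hw, (R ^ m).add_mem hzm hwm, ?_⟩
  have : u + v - (z + w) = (u - z) + (v - w) := by ring
  rw [this]
  exact (R ^ (m + 1)).add_mem hzu hwv

theorem T_mul (h1 : ∀ a : B, ∃ z ∈ S, a - z ∈ R) (m : ℕ) (a : B) {u : B}
    (hu : T R S m u) : T R S m (a * u) := by
  obtain ⟨z, hz, hzm, hzu⟩ := hu
  obtain ⟨za, hza, hra⟩ := h1 a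
  refine ⟨za * z, S.mul_mem hza hz, (R ^ m).mul_mem_left _ hzm, ?_⟩
  have : a * u - za * z = (a - za) * z + a * (u - z) := by ring
  rw [this]
  refine (R ^ (m + 1)).add_mem ?_ ((R ^ (m + 1)).mul_mem_left _ hzu)
  rw [pow_succ']
  exact Ideal.mul_mem_mul hra hzm

theorem T_gen (m : ℕ) {c u : B} (hc : c ∈ S) (hcR : c ∈ R) (hu : T R S m u) :
    T R S (m + 1) (c * u) := by
  obtain ⟨z, hz, hzm, hzu⟩ := hu
  refine ⟨c * z, S.mul_mem hc hz, ?_, ?_⟩
  · rw [pow_succ']
    exact Ideal.mul_mem_mul hcR hzm
  · have : c * u - c * z = c * (u - z) := by ring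
    rw [this, pow_succ' R (m + 1)]
    exact Ideal.mul_mem_mul hcR hzu

theorem T_of_mem_pow (h1 : ∀ a : B, ∃ z ∈ S, a - z ∈ R) (C : Set B) (hCS : C ⊆ S)
    (hC : Ideal.span C = R) (m : ℕ) : ∀ u ∈ R ^ m, T R S m u := by
  induction m with
  | zero =>
    intro u _
    obtain ⟨z, hz, hr⟩ := h1 u
    refine ⟨z, hz, by simp, ?_⟩
    simpa using hr
  | succ m ih =>
    intro u hu
    rw [pow_succ'] at hu
    refine Submodule.mul_induction_on hu ?_ ?_
    · intro r hr w hw
      have hTw := ih w hw
      rw [← hC] at hr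
      induction hr using Submodule.span_induction with
      | mem c hc =>
        refine T_gen R S m (hCS hc) ?_ hTw
        rw [← hC]
        exact Ideal.subset_span hc
      | zero =>
        rw [zero_mul]
        exact T_zero R S _
      | add x y _ _ hx hy =>
        rw [add_mul]
        exact T_add R S _ hx hy
      | smul a x _ hx =>
        rw [smul_eq_mul, mul_assoc]
        exact T_mul R S h1 _ a hx
    · intro x y hx hy
      exact T_add R S _ hx hy

theorem dense_of (h1 : ∀ a : B, ∃ z ∈ S, a - z ∈ R) (C : Set B) (hCS : C ⊆ S)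
    (hC : Ideal.span C = R) (n : ℕ) (y : B) : ∃ z ∈ S, y - z ∈ R ^ n := by
  induction n with
  | zero => exact ⟨0, S.zero_mem, by simp⟩
  | succ n ih =>
    obtain ⟨z, hz, hyz⟩ := ih
    obtain ⟨z', hz', -, h⟩ := T_of_mem_pow R S h1 C hCS hC n _ hyz
    refine ⟨z + z', S.add_mem hz hz', ?_⟩
    have : y - (z + z') = y - z - z' := by ring
    rw [this]
    exact h

end

theorem main (A : Type u) [CommRing A] (B : Type u) [CommRing B] [Algebra A B]
    [IsNoetherianRing B] (J : Ideal B)
    (hft : Algebra.FiniteType A (B ⧸ J.radical)) :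
    ∃ s : ℕ, ∃ b : Fin s → B, ∀ (y : B) (n : ℕ), ∃ p : MvPolynomial (Fin s) A,
      y - MvPolynomial.aeval b p ∈ J ^ n := by
  obtain ⟨k, hk⟩ := Ideal.exists_radical_pow_le_of_fg J (IsNoetherian.noetherian J.radical)
  obtain ⟨r, f, hf⟩ := Algebra.FiniteType.iff_quotient_mvPolynomial''.mp hft
  choose b hb using fun i : Fin r => Ideal.Quotient.mk_surjective (f (MvPolynomial.X i))
  obtain ⟨t, c, hc⟩ := Submodule.fg_iff_exists_fin_generating_family.mp
    (IsNoetherian.noetherian J.radical)
  let d : Fin (r + t) → B := Fin.append b c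
  let S : Subalgebra A B := Algebra.adjoin A (Set.range d)
  have hbS : ∀ i, b i ∈ S := fun i =>
    Algebra.subset_adjoin ⟨Fin.castAdd t i, by simp [d]⟩
  have hcS : Set.range c ⊆ S := by
    rintro _ ⟨i, rfl⟩
    exact Algebra.subset_adjoin ⟨Fin.natAdd r i, by simp [d]⟩
  have h1 : ∀ a : B, ∃ z ∈ S, a - z ∈ J.radical := by
    intro a
    obtain ⟨p, hp⟩ := hf (Ideal.Quotient.mk J.radical a)
    refine ⟨MvPolynomial.aeval b p, ?_, ?_⟩
    · have h2 : MvPolynomial.aeval b p ∈ Algebra.adjoin A (Set.range b) := by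
        rw [Algebra.adjoin_range_eq_range_aeval]
        exact ⟨p, rfl⟩
      refine Algebra.adjoin_le ?_ h2
      rintro _ ⟨i, rfl⟩
      exact hbS i
    · have hfe : f = (Ideal.Quotient.mkₐ A J.radical).comp (MvPolynomial.aeval b) := by
        refine MvPolynomial.algHom_ext fun i => ?_
        rw [AlgHom.comp_apply, MvPolynomial.aeval_X, ← hb i]
        rfl
      rw [← Ideal.Quotient.eq_zero_iff_mem, map_sub, sub_eq_zero, ← hp, hfe]
      rfl
  refine ⟨r + t, d, fun y n => ?_⟩
  obtain ⟨z, hz, hyz⟩ := dense_of J.radical S h1 (Set.range c) hcS hc (k * n) y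
  have hz' : z ∈ (MvPolynomial.aeval d : MvPolynomial (Fin (r + t)) A →ₐ[A] B).range := by
    rw [← Algebra.adjoin_range_eq_range_aeval]
    exact hz
  obtain ⟨p, rfl⟩ := hz'
  refine ⟨p, ?_⟩
  rw [pow_mul] at hyz
  exact Ideal.pow_right_mono hk n hyz

/-- Let A be a Noetherian ring complete for the adic topology of an ideal I and B a Noetherian ring
complete for the adic topology of an ideal J, with an algebra map A → B sending I into the radical
of J (a continuous homomorphism of adic Noetherian topological rings; the radicals of I and J are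
the ideals of topologically nilpotent elements). Assume B/√J is of finite type over A, equivalently
over A/√I. Then B is topologically of finite type over A: there are b_1, …, b_s ∈ B such that the
A-algebra map A[x_1, …, x_s] → B with x_i ↦ b_i has dense image for the J-adic topology, that is,
for every y ∈ B and every n there is a polynomial whose value at b differs from y by an element of
J^n. -/
theorem result (A : Type u) [CommRing A] [IsNoetherianRing A] (I : Ideal A) [IsAdicComplete I A] (B : Type u) [CommRing B] [Algebra A B] [IsNoetherianRing B] (J : Ideal B) [IsAdicComplete J B] (hIJ : I.map (algebraMap A B) ≤ J.radical) (hft : Algebra.FiniteType A (B ⧸ J.radical)) : ∃ s : ℕ, ∃ b : Fin s → B, ∀ (y : B) (n : ℕ), ∃ p : MvPolynomial (Fin s) A, y - MvPolynomial.aeval b p ∈ J ^ n := by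
  exact main A B J hft

end Groth.Agent.S8834
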