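import Groth.Statements.S8837
import Groth.Agent.Lib.Helper63.ComplRing
import Groth.Agent.Lib.Helper63.FiltApprox
import Mathlib.RingTheory.Localization.Ideal
import Mathlib.RingTheory.Localization.Away.Basic
import Mathlib.RingTheory.Localization.Submodule
import Mathlib.RingTheory.Ideal.Quotient.Operations

set_option autoImplicit false
universe u
open AdicRing

namespace Groth.Agent.S8837

open Groth.Agent.Lib.Helper63.ComplRing Groth.Agent.Lib.Helper63.FiltApprox

section

variable {A : Type u} [CommRing A] (p : Ideal A) (f : A)

theorem exists_inv_mod (hf : IsUnit (Ideal.Quotient.mk p f)) :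
    ∃ g : A, ∀ N : ℕ, 1 - (f * g) ^ N ∈ p := by
  obtain ⟨g', hg'⟩ := hf.exists_right_inv
  obtain ⟨g, rfl⟩ := Ideal.Quotient.mk_surjective g'
  refine ⟨g, fun N => ?_⟩
  rw [← Ideal.Quotient.eq_zero_iff_mem, map_sub, map_one, map_pow, map_mul, hg', one_pow, sub_self]

theorem exists_sub_mem_map (hf : IsUnit (Ideal.Quotient.mk p f)) (b : Localization.Away f) :
    ∃ a : A, b - algebraMap A (Localization.Away f) a ∈
      p.map (algebraMap A (Localization.Away f)) := by
  obtain ⟨g, hg⟩ := exists_inv_mod p f hf
  obtain ⟨⟨a₀, ⟨_, m, rfl⟩⟩, hb⟩ := IsLocalization.surj (Submonoid.powers f) b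
  refine ⟨a₀ * g ^ m, ?_⟩
  have h1 : b - algebraMap A (Localization.Away f) (a₀ * g ^ m) =
      b * algebraMap A (Localization.Away f) (1 - (f * g) ^ m) := by
    simp only at hb
    rw [map_mul, ← hb, map_sub, map_one, mul_pow, map_mul]
    ring
  rw [h1]
  exact Ideal.mul_mem_left _ _ (Ideal.mem_map_of_mem _ (hg m))

theorem mem_of_algebraMap_mem (hf : IsUnit (Ideal.Quotient.mk p f)) (K : Ideal A) (hpK : p ≤ K)
    (a : A) (h : algebraMap A (Localization.Away f) a ∈ K.map (algebraMap A (Localization.Away f))) :
    a ∈ K := by
  obtain ⟨g, hg⟩ := exists_inv_mod p f hf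
  rw [IsLocalization.mem_map_algebraMap_iff (Submonoid.powers f)] at h
  obtain ⟨⟨⟨c, hc⟩, ⟨_, m, rfl⟩⟩, hx⟩ := h
  simp only at hx
  rw [← map_mul, IsLocalization.eq_iff_exists (Submonoid.powers f)] at hx
  obtain ⟨⟨_, k, rfl⟩, hk⟩ := hx
  simp only at hk
  have h1 : f ^ (k + m) * a ∈ K := by
    have : f ^ (k + m) * a = f ^ k * c := by rw [← hk]; ring
    rw [this]
    exact Ideal.mul_mem_left _ _ hc
  have h2 : a = (1 - (f * g) ^ (k + m)) * a + g ^ (k + m) * (f ^ (k + m) * a) := by
    rw [mul_pow]; ring
  rw [h2]
  exact Ideal.add_mem _ (Ideal.mul_mem_right _ _ (hpK (hg _))) (Ideal.mul_mem_left _ _ h1)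

theorem mk_mem_smul_top_iff (I : Ideal A) (n : ℕ) (x : A) :
    Ideal.Quotient.mk p x ∈ (I ^ n • ⊤ : Submodule A (A ⧸ p)) ↔ x ∈ p ⊔ I ^ n := by
  have h0 : (I ^ n • ⊤ : Submodule A (A ⧸ p)) =
      Submodule.map p.mkQ (I ^ n • (⊤ : Submodule A A)) := by
    rw [Submodule.map_smul'', Submodule.map_top, Submodule.range_mkQ]
  rw [h0, smul_eq_mul, Ideal.mul_top]
  constructor
  · rintro ⟨z, hz, hzx⟩
    have h1 : x - z ∈ p := by
      rw [← Ideal.Quotient.eq_zero_iff_mem, map_sub]
      exact sub_eq_zero.mpr hzx.symm
    have : x = (x - z) + z := by ring
    rw [this]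
    exact Submodule.add_mem_sup h1 hz
  · intro hx
    obtain ⟨y, hy, z, hz, rfl⟩ := Submodule.mem_sup.mp hx
    refine ⟨z, hz, ?_⟩
    change Ideal.Quotient.mk p z = _
    rw [map_add, Ideal.Quotient.eq_zero_iff_mem.mpr hy, zero_add]

end

/-- Let A be a Noetherian ring complete for the adic topology of an ideal I (an adic Noetherian
topological ring), p a prime ideal of A, and f ∈ A an element mapping to a unit in A/p. Let A_{f}
denote the completed principal localization, i.e. the I-adic completion of A_f = A[1/f]. Then the
ideal p A_{f} generated by p is prime, and the canonical map A/p → A_{f}/p A_{f} is bijective (so p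
A_{f} = p ⊗_A A_{f} is the completion of p_f, with quotient A/p). -/
theorem result (A : Type u) [CommRing A] [IsNoetherianRing A] (I : Ideal A) [IsAdicComplete I A] (p : Ideal A) [p.IsPrime] (f : A) (hf : IsUnit (Ideal.Quotient.mk p f)) : (p.map (algebraMap A (AdicCompletion (I.map (algebraMap A (Localization.Away f))) (Localization.Away f)))).IsPrime ∧ Function.Bijective (Ideal.quotientMap (p.map (algebraMap A (AdicCompletion (I.map (algebraMap A (Localization.Away f))) (Localization.Away f)))) (algebraMap A (AdicCompletion (I.map (algebraMap A (Localization.Away f))) (Localization.Away f))) Ideal.le_comap_map) := by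
  have hIjac : I ≤ Ideal.jacobson ⊥ := IsAdicComplete.le_jacobson_bot I
  have hBn : IsNoetherianRing (Localization.Away f) :=
    IsLocalization.isNoetherianRing (Submonoid.powers f) _ inferInstance
  have hJ : (I.map (algebraMap A (Localization.Away f))).FG := IsNoetherian.noetherian _
  have hι : ∀ x : A, algebraMap A (AdicCompletion (I.map (algebraMap A (Localization.Away f)))
      (Localization.Away f)) x = algebraMap (Localization.Away f) (AdicCompletion
        (I.map (algebraMap A (Localization.Away f))) (Localization.Away f))
        (algebraMap A (Localization.Away f) x) := fun x => rfl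
  have hcomp : (algebraMap (Localization.Away f) (AdicCompletion
        (I.map (algebraMap A (Localization.Away f))) (Localization.Away f))).comp
        (algebraMap A (Localization.Away f)) = algebraMap A (AdicCompletion
        (I.map (algebraMap A (Localization.Away f))) (Localization.Away f)) := RingHom.ext hι
  have hP : p.map (algebraMap A (AdicCompletion (I.map (algebraMap A (Localization.Away f)))
      (Localization.Away f))) = (p.map (algebraMap A (Localization.Away f))).map
        (algebraMap (Localization.Away f) (AdicCompletion
        (I.map (algebraMap A (Localization.Away f))) (Localization.Away f))) := by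
    rw [Ideal.map_map, hcomp]
  have hIh : ∀ n : ℕ, ((I.map (algebraMap A (Localization.Away f))).map
      (algebraMap (Localization.Away f) (AdicCompletion
        (I.map (algebraMap A (Localization.Away f))) (Localization.Away f)))) ^ n =
      (I ^ n).map (algebraMap A (AdicCompletion (I.map (algebraMap A (Localization.Away f)))
      (Localization.Away f))) := by
    intro n
    rw [Ideal.map_map, hcomp, Ideal.map_pow]
  have key_mem : ∀ (x : A) (n : ℕ), algebraMap A (AdicCompletion
      (I.map (algebraMap A (Localization.Away f))) (Localization.Away f)) x ∈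
      p.map (algebraMap A (AdicCompletion (I.map (algebraMap A (Localization.Away f)))
      (Localization.Away f))) ⊔ ((I.map (algebraMap A (Localization.Away f))).map
      (algebraMap (Localization.Away f) (AdicCompletion
        (I.map (algebraMap A (Localization.Away f))) (Localization.Away f)))) ^ n →
      x ∈ p ⊔ I ^ n := by
    intro x n hx
    rw [hP, hι] at hx
    have h1 := mem_sup_of_map_mem_sup _ hJ _ n _ hx
    rw [← Ideal.map_pow, ← Ideal.map_sup] at h1
    exact mem_of_algebraMap_mem p f hf _ le_sup_left x h1
  have map_mem : ∀ (x : A) (n : ℕ), x ∈ p ⊔ I ^ n → algebraMap A (AdicCompletion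
      (I.map (algebraMap A (Localization.Away f))) (Localization.Away f)) x ∈
      p.map (algebraMap A (AdicCompletion (I.map (algebraMap A (Localization.Away f)))
      (Localization.Away f))) ⊔ ((I.map (algebraMap A (Localization.Away f))).map
      (algebraMap (Localization.Away f) (AdicCompletion
        (I.map (algebraMap A (Localization.Away f))) (Localization.Away f)))) ^ n := by
    intro x n hx
    rw [hIh, ← Ideal.map_sup]
    exact Ideal.mem_map_of_mem _ hx
  have hPre : IsPrecomplete I (A ⧸ p) :=
    isPrecomplete_of_surjective I p.mkQ p.mkQ_surjective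
  have hHaus : IsHausdorff I (A ⧸ p) := IsHausdorff.of_le_jacobson I _ hIjac
  have hbij : Function.Bijective (Ideal.quotientMap (p.map (algebraMap A (AdicCompletion
      (I.map (algebraMap A (Localization.Away f))) (Localization.Away f))))
      (algebraMap A (AdicCompletion (I.map (algebraMap A (Localization.Away f)))
      (Localization.Away f))) Ideal.le_comap_map) := by
    constructor
    · rw [injective_iff_map_eq_zero]
      intro x hx
      obtain ⟨a, rfl⟩ := Ideal.Quotient.mk_surjective x
      rw [Ideal.quotientMap_mk, Ideal.Quotient.eq_zero_iff_mem] at hx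
      apply hHaus.haus
      intro n
      rw [SModEq.zero, mk_mem_smul_top_iff]
      exact key_mem a n (Ideal.mem_sup_left hx)
    · intro y
      obtain ⟨bh, rfl⟩ := Ideal.Quotient.mk_surjective y
      choose bn hbn using fun n => exists_sub_mem _ hJ bh n
      choose an han using fun n => exists_sub_mem_map p f hf (bn n)
      have h1 : ∀ n, bh - algebraMap A (AdicCompletion
          (I.map (algebraMap A (Localization.Away f))) (Localization.Away f)) (an n) ∈
          p.map (algebraMap A (AdicCompletion (I.map (algebraMap A (Localization.Away f)))
          (Localization.Away f))) ⊔ ((I.map (algebraMap A (Localization.Away f))).map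
          (algebraMap (Localization.Away f) (AdicCompletion
          (I.map (algebraMap A (Localization.Away f))) (Localization.Away f)))) ^ n := by
        intro n
        have h2 : bh - algebraMap A (AdicCompletion
            (I.map (algebraMap A (Localization.Away f))) (Localization.Away f)) (an n) =
            algebraMap (Localization.Away f) (AdicCompletion
            (I.map (algebraMap A (Localization.Away f))) (Localization.Away f))
            (bn n - algebraMap A (Localization.Away f) (an n)) +
            (bh - algebraMap (Localization.Away f) (AdicCompletion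
            (I.map (algebraMap A (Localization.Away f))) (Localization.Away f)) (bn n)) := by
          rw [hι, map_sub]; ring
        rw [h2, hP]
        exact Submodule.add_mem_sup (Ideal.mem_map_of_mem _ (han n)) (hbn n)
      have hc : ∀ n, an (n + 1) - an n ∈ p ⊔ I ^ n := by
        intro n
        apply key_mem
        have h3 : algebraMap A (AdicCompletion
            (I.map (algebraMap A (Localization.Away f))) (Localization.Away f))
            (an (n + 1) - an n) = (bh - algebraMap A (AdicCompletion
            (I.map (algebraMap A (Localization.Away f))) (Localization.Away f)) (an n)) -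
            (bh - algebraMap A (AdicCompletion
            (I.map (algebraMap A (Localization.Away f))) (Localization.Away f)) (an (n + 1))) := by
          rw [map_sub]; ring
        rw [h3]
        refine Ideal.sub_mem _ (h1 n) ?_
        obtain ⟨y, hy, z, hz, hyz⟩ := Submodule.mem_sup.mp (h1 (n + 1))
        rw [← hyz]
        exact Submodule.add_mem_sup hy (Ideal.pow_le_pow_right (Nat.le_succ n) hz)
      obtain ⟨abar, ha⟩ := hPre.prec (f := fun n => Ideal.Quotient.mk p (an n)) (by
        apply (AdicCompletion.isAdicCauchy_iff I (A ⧸ p) _).mpr
        intro n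
        rw [SModEq.sub_mem, ← map_sub, mk_mem_smul_top_iff]
        have : an n - an (n + 1) = -(an (n + 1) - an n) := by ring
        rw [this]
        exact Ideal.neg_mem_iff _ |>.mpr (hc n))
      obtain ⟨a, rfl⟩ := Ideal.Quotient.mk_surjective abar
      refine ⟨Ideal.Quotient.mk p a, ?_⟩
      rw [Ideal.quotientMap_mk, Ideal.Quotient.eq]
      have h4 : bh - algebraMap A (AdicCompletion
          (I.map (algebraMap A (Localization.Away f))) (Localization.Away f)) a ∈
          p.map (algebraMap A (AdicCompletion (I.map (algebraMap A (Localization.Away f)))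
          (Localization.Away f))) := by
        apply mem_of_forall_mem_sup
        intro n
        have h5 := ha n
        rw [SModEq.sub_mem, ← map_sub, mk_mem_smul_top_iff] at h5
        have h6 : bh - algebraMap A (AdicCompletion
            (I.map (algebraMap A (Localization.Away f))) (Localization.Away f)) a =
            (bh - algebraMap A (AdicCompletion
            (I.map (algebraMap A (Localization.Away f))) (Localization.Away f)) (an n)) +
            algebraMap A (AdicCompletion
            (I.map (algebraMap A (Localization.Away f))) (Localization.Away f)) (an n - a) := by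
          rw [map_sub]; ring
        rw [h6]
        exact Ideal.add_mem _ (h1 n) (map_mem _ n h5)
      have h7 : algebraMap A (AdicCompletion
          (I.map (algebraMap A (Localization.Away f))) (Localization.Away f)) a - bh =
          -(bh - algebraMap A (AdicCompletion
          (I.map (algebraMap A (Localization.Away f))) (Localization.Away f)) a) := by ring
      rw [h7]
      exact Ideal.neg_mem_iff _ |>.mpr h4
  refine ⟨?_, hbij⟩
  rw [← Ideal.Quotient.isDomain_iff_prime]
  let e := RingEquiv.ofBijective _ hbij
  have hdom : IsDomain (A ⧸ p) := inferInstance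
  exact Function.Injective.isDomain e.symm.toRingHom e.symm.injective

end Groth.Agent.S8837
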