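import Groth.Statements.S8851
import Mathlib.Tactic
import Mathlib.AlgebraicGeometry.Properties

set_option autoImplicit false
universe u
open CategoryTheory CategoryTheory.Limits AlgebraicGeometry TopologicalSpace
open SDiv

namespace Groth.Agent.S8851

theorem effCartier_top (Y : Scheme.{u}) : BlowUp.IsEffCartierIdeal (⊤ : Y.IdealSheafData) := by
  intro y
  obtain ⟨_, ⟨U, hU, rfl⟩, hyU, -⟩ :=
    Y.isBasis_affineOpens.exists_subset_of_mem_open (Set.mem_univ y) isOpen_univ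
  refine ⟨⟨U, hU⟩, hyU, 1, one_mem _, ?_⟩
  rw [Scheme.IdealSheafData.ideal_top, Ideal.span_singleton_one]
  rfl

theorem effCartier_of_disjoint {Y X : Scheme.{u}} (g : Y ⟶ X) (𝓘 : X.IdealSheafData)
    (hg : ∀ y : Y, g y ∉ 𝓘.support) : BlowUp.IsEffCartierIdeal (𝓘.comap g) := by
  have h : 𝓘.comap g = ⊤ := by
    rw [← Scheme.IdealSheafData.support_eq_bot_iff, Scheme.IdealSheafData.support_comap]
    ext y
    simp only [Closeds.coe_preimage, Set.mem_preimage, SetLike.mem_coe, Closeds.coe_bot,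
      Set.mem_empty_iff_false, iff_false]
    exact hg y
  rw [h]
  exact effCartier_top Y



theorem reduced_preimage {X X' : Scheme.{u}} [IsReduced X] (𝓘 : X.IdealSheafData) (b : X' ⟶ X)
    (hb : BlowUp.IsBlowUp b 𝓘) (U₀ : X.Opens) (hU : ∀ x, x ∈ U₀ → x ∉ 𝓘.support) :
    IsReduced (b ⁻¹ᵁ U₀).toScheme := by
  obtain ⟨h, hh, -⟩ := hb.2 U₀ U₀.ι
    (effCartier_of_disjoint U₀.ι 𝓘 (fun y => hU _ y.2))
  have hrange : Set.range h ⊆ Set.range (b ⁻¹ᵁ U₀).ι := by
    rintro _ ⟨u, rfl⟩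
    rw [Scheme.Opens.range_ι]
    show b (h u) ∈ U₀
    rw [← Scheme.Hom.comp_apply, hh]
    exact u.2
  let h' : U₀.toScheme ⟶ (b ⁻¹ᵁ U₀).toScheme :=
    IsOpenImmersion.lift (b ⁻¹ᵁ U₀).ι h hrange
  have hh' : h' ≫ (b ⁻¹ᵁ U₀).ι = h := IsOpenImmersion.lift_fac _ _ _
  have e1 : h' ≫ (b ∣_ U₀) = 𝟙 _ := by
    rw [← cancel_mono U₀.ι, Category.assoc, morphismRestrict_ι, ← Category.assoc, hh',
      hh, Category.id_comp]
  have e2 : (b ∣_ U₀) ≫ h' = 𝟙 _ := by
    rw [← cancel_mono (b ⁻¹ᵁ U₀).ι, Category.assoc, hh', Category.id_comp]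
    obtain ⟨k, hk, huniq⟩ := hb.2 (b ⁻¹ᵁ U₀) ((b ⁻¹ᵁ U₀).ι ≫ b)
      (effCartier_of_disjoint _ 𝓘 (fun y => by
        rw [Scheme.Hom.comp_apply]
        exact hU _ y.2))
    have k1 : ((b ∣_ U₀) ≫ h) ≫ b = (b ⁻¹ᵁ U₀).ι ≫ b := by
      rw [Category.assoc, hh, morphismRestrict_ι]
    rw [huniq ((b ∣_ U₀) ≫ h) k1, huniq (b ⁻¹ᵁ U₀).ι rfl]
  haveI : IsIso (b ∣_ U₀) := ⟨h', e2, e1⟩
  exact isReduced_of_isOpenImmersion (b ∣_ U₀)



theorem reduced_sections {X X' : Scheme.{u}} [IsReduced X] (𝓘 : X.IdealSheafData) (b : X' ⟶ X)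
    (hb : BlowUp.IsBlowUp b 𝓘) (U : X'.affineOpens) (f : Γ(X', U.1))
    (hf : f ∈ nonZeroDivisors Γ(X', U.1))
    (hfI : (𝓘.comap b).ideal U = Ideal.span {f}) : _root_.IsReduced Γ(X', U.1) := by
  let U₀ : X.Opens := ⟨(𝓘.support : Set X)ᶜ, 𝓘.support.isClosed.isOpen_compl⟩
  haveI := reduced_preimage 𝓘 b hb U₀ (fun x hx => hx)
  have hle : X'.basicOpen f ≤ b ⁻¹ᵁ U₀ := by
    intro x hx
    show b x ∉ 𝓘.support
    have hxU : x ∈ U.1 := X'.basicOpen_le f hx
    have h1 : x ∉ (𝓘.comap b).support := by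
      rw [Scheme.IdealSheafData.mem_support_iff_of_mem hxU, hfI, Scheme.zeroLocus_span,
        Scheme.zeroLocus_singleton]
      simpa using hx
    rw [Scheme.IdealSheafData.support_comap] at h1
    exact h1
  haveI := U.2.isLocalization_basicOpen f
  have hinj : Function.Injective (algebraMap Γ(X', U.1) Γ(X', X'.basicOpen f)) :=
    IsLocalization.injective _ (Submonoid.powers_le.2 hf)
  haveI : IsIso ((b ⁻¹ᵁ U₀).ι.app (X'.basicOpen f)) := by
    apply Scheme.Hom.isIso_app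
    rw [Scheme.Opens.opensRange_ι]
    exact hle
  have hinj2 : Function.Injective ((b ⁻¹ᵁ U₀).ι.app (X'.basicOpen f)).hom :=
    (ConcreteCategory.bijective_of_isIso ((b ⁻¹ᵁ U₀).ι.app (X'.basicOpen f))).1
  exact isReduced_of_injective
    (((b ⁻¹ᵁ U₀).ι.app (X'.basicOpen f)).hom.comp (algebraMap Γ(X', U.1) Γ(X', X'.basicOpen f)))
    (hinj2.comp hinj)





/-- Let X be a reduced scheme, 𝓘 a quasi-coherent ideal sheaf on X and b : X' ⟶ X a blowing up of X in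
𝓘. Then X' is reduced. -/
theorem result {X X' : Scheme.{u}} [IsReduced X] (𝓘 : X.IdealSheafData) (b : X' ⟶ X)
    (hb : BlowUp.IsBlowUp b 𝓘) : IsReduced X' := by
  choose U hxU f hf hfI using hb.1
  have hcov : IsOpenCover (fun x : X' => (U x).1) := by
    apply IsOpenCover.mk
    rw [eq_top_iff]
    intro x _
    exact Opens.mem_iSup.2 ⟨x, hxU x⟩
  haveI : ∀ i, IsReduced ((X'.openCoverOfIsOpenCover _ hcov).X i) := fun x => by
    show IsReduced (U x).1.toScheme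
    haveI : IsAffine (U x).1.toScheme := (U x).2
    haveI : _root_.IsReduced Γ((U x).1.toScheme, ⊤) := by
      haveI := reduced_sections 𝓘 b hb (U x) (f x) (hf x) (hfI x)
      exact isReduced_of_injective (U x).1.topIso.hom.hom
        (ConcreteCategory.bijective_of_isIso (U x).1.topIso.hom).1
    exact isReduced_of_isAffine_isReduced _
  exact IsReduced.of_openCover _ (X'.openCoverOfIsOpenCover _ hcov)

end Groth.Agent.S8851
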