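import Groth.Statements.S8853
-- import your own Groth.Agent.* helpers here

set_option autoImplicit false
universe u
open CategoryTheory CategoryTheory.Limits AlgebraicGeometry TopologicalSpace
open SDiv

namespace Groth.Agent.S8853

/-- Let Z be a locally principal closed subscheme of a scheme S, with ideal sheaf 𝓘 generated by a
single section on some affine open neighbourhood of each point of its support, and let U be the open
complement of Z. Then the inclusion U ⟶ S is an affine morphism. -/
theorem result {S : Scheme.{u}} (𝓘 : S.IdealSheafData) (h : Curv2.IsLocPrincipal 𝓘) :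
    IsAffineHom (Scheme.Opens.ι 𝓘.support.compl) := by
  apply isAffineHom_of_forall_exists_isAffineOpen
  intro x
  by_cases hx : x ∈ 𝓘.support
  · obtain ⟨U, hxU, f, hf⟩ := h x hx
    refine ⟨U.1, hxU, U.2, ?_⟩
    rw [← Scheme.Hom.isAffineOpen_iff_of_isOpenImmersion (Scheme.Opens.ι 𝓘.support.compl)]
    have : (Scheme.Opens.ι 𝓘.support.compl) ''ᵁ ((Scheme.Opens.ι 𝓘.support.compl) ⁻¹ᵁ U.1) = S.basicOpen f := by
      rw [Scheme.Hom.image_preimage_eq_opensRange_inf, Scheme.Opens.opensRange_ι]
      ext y
      simp only [Opens.coe_inf, Set.mem_inter_iff, SetLike.mem_coe]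
      constructor
      · rintro ⟨hy1, hy2⟩
        have hy1' : y ∉ 𝓘.support := hy1
        rw [Scheme.IdealSheafData.mem_support_iff_of_mem hy2, hf, Scheme.zeroLocus_span,
          Scheme.mem_zeroLocus_iff] at hy1'
        simpa using hy1'
      · intro hy
        have hy2 : y ∈ U.1 := S.basicOpen_le f hy
        refine ⟨?_, hy2⟩
        change y ∉ 𝓘.support
        rw [Scheme.IdealSheafData.mem_support_iff_of_mem hy2, hf, Scheme.zeroLocus_span,
          Scheme.mem_zeroLocus_iff]
        simpa using hy
    rw [this]
    exact U.2.basicOpen f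
  · obtain ⟨V, hV, hxV, hVle⟩ := exists_isAffineOpen_mem_and_subset (x := x)
      (U := 𝓘.support.compl) hx
    refine ⟨V, hxV, hV, ?_⟩
    rw [← Scheme.Hom.isAffineOpen_iff_of_isOpenImmersion (Scheme.Opens.ι 𝓘.support.compl)]
    rw [Scheme.Hom.image_preimage_eq_opensRange_inf, Scheme.Opens.opensRange_ι]
    have hle : V ≤ 𝓘.support.compl := hVle
    rwa [inf_eq_right.mpr hle]

end Groth.Agent.S8853
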