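import Groth.Statements.S8854
import Mathlib.RingTheory.Ideal.UFD
import Mathlib.RingTheory.Ideal.MinimalPrime.Noetherian
import Mathlib.RingTheory.UniqueFactorizationDomain.Multiplicity
import Mathlib.RingTheory.Ideal.Colon
-- import your own Groth.Agent.* helpers here

set_option autoImplicit false
universe u
open SDiv

namespace Groth.Agent.S8854


theorem exists_prime_gen {R : Type u} [CommRing R] [IsDomain R]
    [UniqueFactorizationMonoid R] (p : Ideal R) [p.IsPrime] (hp : p.height = 1) :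
    ∃ π : R, Prime π ∧ p = Ideal.span {π} := by
  have hpn : p ≠ ⊥ := p.ne_bot_of_height_eq_one hp
  obtain ⟨x, hxmem, hxp⟩ := Ideal.IsPrime.exists_mem_prime_of_ne_bot ‹_› hpn
  exact ⟨x, hxp, p.eq_span_singleton_of_height_eq_one hp hxmem hxp⟩

theorem exists_max_pow {R : Type u} [CommRing R] [IsDomain R]
    [UniqueFactorizationMonoid R] (I : Ideal R) (hI : I ≠ ⊥) (π : R) (hπ : Prime π) :
    ∃ n : ℕ, (∀ x ∈ I, π ^ n ∣ x) ∧ ∃ x ∈ I, ¬ π ^ (n + 1) ∣ x := by
  classical
  obtain ⟨x, hxI, hx0⟩ := Submodule.exists_mem_ne_zero_of_ne_bot hI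
  have hfin : ∃ n : ℕ, ∃ y ∈ I, ¬ π ^ (n + 1) ∣ y := by
    obtain ⟨n, hn⟩ := FiniteMultiplicity.of_prime_left hπ hx0
    exact ⟨n, x, hxI, hn⟩
  refine ⟨Nat.find hfin, ?_, Nat.find_spec hfin⟩
  intro y hy
  rcases Nat.eq_zero_or_pos (Nat.find hfin) with h0 | hpos
  · rw [h0, pow_zero]; exact one_dvd y
  · by_contra hcon
    have hlt : Nat.find hfin - 1 < Nat.find hfin := Nat.sub_lt hpos Nat.one_pos
    apply Nat.find_min hfin hlt
    refine ⟨y, hy, ?_⟩
    rwa [Nat.sub_add_cancel hpos]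

/-- Let R be a Noetherian unique factorisation domain and I ⊆ R an ideal such that every associated
prime of R/I is minimal over I (R/I has no embedded primes) and every prime minimal over I has
height 1. Then I is principal: it is generated by one element. -/
theorem result (R : Type u) [CommRing R] [IsDomain R] [IsNoetherianRing R]
    [UniqueFactorizationMonoid R] (I : Ideal R)
    (h1 : ∀ p : Ideal R, p ∈ associatedPrimes R (R ⧸ I) → p ∈ I.minimalPrimes)
    (h2 : ∀ p : Ideal R, p ∈ I.minimalPrimes → p.height = 1) :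
    ∃ f : R, I = Ideal.span {f} := by
  classical
  by_cases hItop : I = ⊤
  · exact ⟨1, by rw [hItop, Ideal.span_singleton_one]⟩
  have hIbot : I ≠ ⊥ := by
    rintro rfl
    have hmem : (⊥ : Ideal R) ∈ (⊥ : Ideal R).minimalPrimes := by
      rw [Ideal.minimalPrimes]
      exact ⟨⟨Ideal.isPrime_bot, le_rfl⟩, fun q _ _ => bot_le⟩
    have := h2 ⊥ hmem
    rw [Ideal.height_bot] at this
    exact zero_ne_one this
  have hfin : I.minimalPrimes.Finite := Ideal.finite_minimalPrimes_of_isNoetherianRing R I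
  have hgen : ∀ p : Ideal R, p ∈ I.minimalPrimes → ∃ π : R, Prime π ∧ p = Ideal.span {π} := by
    intro p hp
    have : p.IsPrime := hp.1.1
    exact exists_prime_gen p (h2 p hp)
  choose! π hπ hπspan using hgen
  have hpow : ∀ p : Ideal R, p ∈ I.minimalPrimes →
      ∃ n : ℕ, (∀ x ∈ I, π p ^ n ∣ x) ∧ ∃ x ∈ I, ¬ π p ^ (n + 1) ∣ x :=
    fun p hp => exists_max_pow I hIbot (π p) (hπ p hp)
  choose! n hn hn' using hpow
  have hndvd : ∀ p ∈ I.minimalPrimes, ∀ p' ∈ I.minimalPrimes, p ≠ p' → ¬ π p ∣ π p' := by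
    intro p hp p' hp' hne hdvd
    apply hne
    have hle : p' ≤ p := by
      rw [hπspan p hp, hπspan p' hp', Ideal.span_singleton_le_span_singleton]
      exact hdvd
    exact le_antisymm (hp.2 hp'.1 hle) hle
  have hdiv : ∀ s : Finset (Ideal R), (∀ p ∈ s, p ∈ I.minimalPrimes) →
      ∀ x ∈ I, (∏ p ∈ s, π p ^ n p) ∣ x := by
    intro s
    induction s using Finset.induction_on with
    | empty => intro _ x _; simp
    | insert a s ha ih =>
      intro hs x hx
      have has : a ∈ I.minimalPrimes := hs a (Finset.mem_insert_self a s)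
      have hs' : ∀ p ∈ s, p ∈ I.minimalPrimes := fun p hp => hs p (Finset.mem_insert_of_mem hp)
      rw [Finset.prod_insert ha]
      obtain ⟨y, hy⟩ := ih hs' x hx
      have hnd : ¬ π a ∣ ∏ p ∈ s, π p ^ n p := by
        intro hd
        obtain ⟨p', hp's, hp'd⟩ := (Prime.dvd_finsetProd_iff (hπ a has) _).mp hd
        have := (hπ a has).dvd_of_dvd_pow hp'd
        exact hndvd a has p' (hs' p' hp's) (fun h => ha (h ▸ hp's)) this
      have h1 : π a ^ n a ∣ (∏ p ∈ s, π p ^ n p) * y := hy ▸ hn a has x hx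
      obtain ⟨z, hz⟩ := (hπ a has).pow_dvd_of_dvd_mul_left (n a) hnd h1
      refine ⟨z, ?_⟩
      rw [hy, hz]; ring
  set f := ∏ p ∈ hfin.toFinset, π p ^ n p with hf
  have hfdiv : ∀ x ∈ I, f ∣ x := hdiv hfin.toFinset (fun p hp => hfin.mem_toFinset.mp hp)
  refine ⟨f, le_antisymm ?_ ?_⟩
  · intro x hx
    exact Ideal.mem_span_singleton.mpr (hfdiv x hx)
  · rw [Ideal.span_singleton_le_iff_mem]
    by_contra hfI
    have hne : (Ideal.Quotient.mk I f : R ⧸ I) ≠ 0 := by
      rwa [Ne, Ideal.Quotient.eq_zero_iff_mem]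
    obtain ⟨Q, hQass, hQle⟩ := exists_le_isAssociatedPrime_of_isNoetherianRing R
      (Ideal.Quotient.mk I f : R ⧸ I) hne
    have hQmin : Q ∈ I.minimalPrimes := h1 Q hQass
    obtain ⟨x, hxI, hxnd⟩ := hn' Q hQmin
    obtain ⟨y, hy⟩ := hfdiv x hxI
    have hyQ : y ∈ Q := by
      apply hQle
      rw [Submodule.mem_colon_singleton, Submodule.mem_bot]
      change y • (Ideal.Quotient.mk I f : R ⧸ I) = 0
      rw [← Ideal.Quotient.mk_eq_mk, ← Submodule.Quotient.mk_smul, Ideal.Quotient.mk_eq_mk,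
        Ideal.Quotient.eq_zero_iff_mem, smul_eq_mul, mul_comm, ← hy]
      exact hxI
    rw [hπspan Q hQmin, Ideal.mem_span_singleton] at hyQ
    apply hxnd
    have hfQ : π Q ^ n Q ∣ f :=
      Finset.dvd_prod_of_mem (fun p => π p ^ n p) (hfin.mem_toFinset.mpr hQmin)
    rw [hy, pow_succ]
    exact mul_dvd_mul hfQ hyQ

end Groth.Agent.S8854
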