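import Groth.Statements.S8881
import Groth.Agent.Lib.Helper2.NormCore
import Groth.Agent.Lib.Helper2.NormGlue
import Mathlib.AlgebraicGeometry.FunctionField

set_option autoImplicit false
universe u
open CategoryTheory CategoryTheory.Limits AlgebraicGeometry TopologicalSpace
open SDiv

namespace Groth.Agent.S8881

open Groth.Agent.Lib.Helper2.NormCore Groth.Agent.Lib.Helper2.NormGlue

section
variable {X Y : Scheme.{u}} (π : X ⟶ Y) [IsIntegral X] [IsIntegral Y] [Surjective π]

theorem map_genericPoint : π.base (genericPoint X) = genericPoint Y := by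
  have h1 := (genericPoint_spec X).image π.continuous
  have h2 : closure (π.base '' (Set.univ : Set X)) = Set.univ := by
    rw [Set.image_univ, π.surjective.range_eq, closure_univ]
  rw [h2] at h1
  exact h1.eq (genericPoint_spec Y)

theorem specializes_aux : π.base (genericPoint X) ⤳ genericPoint Y := by
  rw [map_genericPoint π]

/-- the map on function fields -/
noncomputable def ffMap : Y.functionField ⟶ X.functionField :=
  Y.presheaf.stalkSpecializes (specializes_aux π) ≫ π.stalkMap (genericPoint X)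

theorem mem_of_nonempty (W : Y.Opens) [h : Nonempty W] : genericPoint Y ∈ W :=
  ((genericPoint_spec Y).mem_open_set_iff W.isOpen).mpr (by simpa using h)

theorem mem_preimage (W : Y.Opens) (h : genericPoint Y ∈ W) : genericPoint X ∈ π ⁻¹ᵁ W := by
  change π.base (genericPoint X) ∈ W
  rw [map_genericPoint π]
  exact h

theorem ffMap_germ (W : Y.Opens) (h : genericPoint Y ∈ W) (a : Γ(Y, W)) :
    (ffMap π).hom (Y.presheaf.germ W (genericPoint Y) h a) =
      X.presheaf.germ (π ⁻¹ᵁ W) (genericPoint X) (mem_preimage π W h) ((π.app W).hom a) := by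
  unfold ffMap
  rw [CommRingCat.comp_apply]
  have h1 := Y.presheaf.germ_stalkSpecializes_apply (U := W) h (specializes_aux π) a
  rw [h1]
  exact Scheme.Hom.germ_stalkMap_apply π W (genericPoint X) _ a

/-- the algebra structure of `K(X)` over `K(Y)` -/
noncomputable def algKL : Algebra Y.functionField X.functionField := (ffMap π).hom.toAlgebra

/-- the norm on function fields -/
noncomputable def nm : X.functionField →* Y.functionField :=
  @Algebra.norm Y.functionField X.functionField _ _ (algKL π)

theorem isIntegrallyClosed_sections (hY : Pi1.IsNormalScheme Y) (U : Y.Opens) [Nonempty U]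
    (hU : IsAffineOpen U) : IsIntegrallyClosed Γ(Y, U) := by
  refine IsIntegrallyClosed.of_localization_maximal fun p _ hp => ?_
  let y : PrimeSpectrum Γ(Y, U) := ⟨p, hp.isPrime⟩
  have hy : hU.fromSpec y ∈ U := by
    have : hU.fromSpec y ∈ Set.range hU.fromSpec := ⟨y, rfl⟩
    rw [hU.range_fromSpec] at this
    exact this
  letI := TopCat.Presheaf.algebra_section_stalk Y.presheaf ⟨hU.fromSpec y, hy⟩
  haveI : IsLocalization.AtPrime (Y.presheaf.stalk (hU.fromSpec y)) p :=
    hU.isLocalization_stalk' y hy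
  haveI := (hY (hU.fromSpec y)).2
  let e := IsLocalization.algEquiv p.primeCompl (Y.presheaf.stalk (hU.fromSpec y))
    (Localization.AtPrime p)
  exact IsIntegrallyClosed.of_equiv e.toRingEquiv

theorem local_all [IsFinite π] (hY : Pi1.IsNormalScheme Y) (W : Y.Opens) (hW : IsAffineOpen W)
    (hη : genericPoint Y ∈ W) :
    @FiniteDimensional Y.functionField X.functionField _ _ (algKL π).toModule ∧
    (∀ b : Γ(X, π ⁻¹ᵁ W), ∃ a : Γ(Y, W), Y.presheaf.germ W (genericPoint Y) hη a =
      nm π (X.presheaf.germ (π ⁻¹ᵁ W) (genericPoint X) (mem_preimage π W hη) b)) ∧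
    (∀ (b : Γ(X, π ⁻¹ᵁ W)) (a : Γ(Y, W)), Y.presheaf.germ W (genericPoint Y) hη a =
      nm π (X.presheaf.germ (π ⁻¹ᵁ W) (genericPoint X) (mem_preimage π W hη) b) →
      ∀ (x : X) (hx : π.base x ∈ W),
        X.presheaf.germ (π ⁻¹ᵁ W) x hx b ∈ IsLocalRing.maximalIdeal (X.presheaf.stalk x) →
        Y.presheaf.germ W (π.base x) hx a ∈
          IsLocalRing.maximalIdeal (Y.presheaf.stalk (π.base x))) := by
  haveI : Nonempty W := ⟨⟨_, hη⟩⟩
  haveI : Nonempty (π ⁻¹ᵁ W) := ⟨⟨_, mem_preimage π W hη⟩⟩
  have hW' : IsAffineOpen (π ⁻¹ᵁ W) := hW.preimage π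
  letI : Algebra Γ(Y, W) Γ(X, π ⁻¹ᵁ W) := (π.app W).hom.toAlgebra
  letI := algKL π
  letI : Algebra Γ(Y, W) X.functionField :=
    ((algebraMap Y.functionField X.functionField).comp
      (algebraMap Γ(Y, W) Y.functionField)).toAlgebra
  haveI : IsScalarTower Γ(Y, W) Y.functionField X.functionField :=
    IsScalarTower.of_algebraMap_eq fun _ => rfl
  haveI : IsScalarTower Γ(Y, W) Γ(X, π ⁻¹ᵁ W) X.functionField :=
    IsScalarTower.of_algebraMap_eq fun a => ffMap_germ π W hη a
  haveI : IsFractionRing Γ(Y, W) Y.functionField :=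
    functionField_isFractionRing_of_isAffineOpen Y W hW
  haveI : IsFractionRing Γ(X, π ⁻¹ᵁ W) X.functionField :=
    functionField_isFractionRing_of_isAffineOpen X _ hW'
  haveI : IsIntegrallyClosed Γ(Y, W) := isIntegrallyClosed_sections hY W hW
  haveI : Module.Finite Γ(Y, W) Γ(X, π ⁻¹ᵁ W) := IsFinite.finite_app π W hW
  haveI : FiniteDimensional Y.functionField X.functionField :=
    finiteDimensional_of_finite (A := Γ(Y, W)) (B := Γ(X, π ⁻¹ᵁ W))
  refine ⟨inferInstance, fun b => ?_, fun b a ha x hx hb => ?_⟩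
  · exact exists_algebraMap_eq_norm (A := Γ(Y, W)) (K := Y.functionField)
      (L := X.functionField) b
  · let q : Ideal Γ(X, π ⁻¹ᵁ W) := Ideal.comap (X.presheaf.germ (π ⁻¹ᵁ W) x hx).hom
      (IsLocalRing.maximalIdeal (X.presheaf.stalk x))
    haveI : q.IsPrime := Ideal.comap_isPrime _ _
    have hbq : b ∈ q := hb
    have hinj : Function.Injective (algebraMap Γ(X, π ⁻¹ᵁ W) X.functionField) :=
      IsFractionRing.injective _ _
    have h5 := algebraMap_mem_of_norm (A := Γ(Y, W)) (K := Y.functionField)
      (L := X.functionField) hinj q b hbq a ha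
    have h6 := Scheme.Hom.germ_stalkMap_apply π W x hx a
    rw [IsLocalRing.mem_maximalIdeal, ← map_mem_nonunits_iff (π.stalkMap x).hom,
      ← IsLocalRing.mem_maximalIdeal, h6]
    exact h5

end


/-- If π : X ⟶ Y is finite and surjective, X and Y are integral, and Y is normal, then π carries a norm
of some degree d ≥ 1. The published statement takes d to be the degree of the function field of X
over that of Y; this row asserts only that a norm of some degree exists. -/
theorem result {X Y : Scheme.{u}} (π : X ⟶ Y) [IsFinite π] [Surjective π]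
    [IsIntegral X] [IsIntegral Y] (hY : Pi1.IsNormalScheme Y) : ∃ d : ℕ, Nrm.HasNorm π d := by
  classical
  letI := algKL π
  obtain ⟨W₀, hW₀, hηW₀, -⟩ := exists_isAffineOpen_mem_and_subset (U := (⊤ : Y.Opens))
    (x := genericPoint Y) trivial
  haveI : FiniteDimensional Y.functionField X.functionField := (local_all π hY W₀ hW₀ hηW₀).1
  have hd : 1 ≤ Module.finrank Y.functionField X.functionField := Module.finrank_pos
  refine ⟨Module.finrank Y.functionField X.functionField, ?_⟩
  let good : Y.Opens → Prop := fun W => IsAffineOpen W ∧ genericPoint Y ∈ W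
  have hbasis : ∀ (U : Y.Opens) (y : Y), y ∈ U → ∃ W, good W ∧ y ∈ W ∧ W ≤ U := by
    intro U y hy
    obtain ⟨W, hW, hyW, hWU⟩ := exists_isAffineOpen_mem_and_subset (x := y) (U := U) hy
    haveI : Nonempty W := ⟨⟨y, hyW⟩⟩
    exact ⟨W, ⟨hW, mem_of_nonempty W⟩, hyW, hWU⟩
  let t : ∀ W : Y.Opens, good W → Γ(X, π ⁻¹ᵁ W) → Γ(Y, W) := fun W hW b =>
    ((local_all π hY W hW.1 hW.2).2.1 b).choose
  have ht : ∀ W (hW : good W) (b : Γ(X, π ⁻¹ᵁ W)),
      Y.presheaf.germ W (genericPoint Y) hW.2 (t W hW b) =
        nm π (X.presheaf.germ (π ⁻¹ᵁ W) (genericPoint X) (mem_preimage π W hW.2) b) :=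
    fun W hW b => ((local_all π hY W hW.1 hW.2).2.1 b).choose_spec
  have hinj : ∀ W (hW : good W),
      Function.Injective (Y.presheaf.germ W (genericPoint Y) hW.2).hom :=
    fun W hW => germ_injective_of_isIntegral Y _ hW.2
  have compat : ∀ (W W' : Y.Opens) (hW : good W) (hW' : good W') (h : W' ≤ W)
      (a : Γ(X, π ⁻¹ᵁ W)), (Y.presheaf.map (homOfLE h).op).hom (t W hW a) =
        t W' hW' ((X.presheaf.map ((Opens.map π.base).map (homOfLE h)).op).hom a) := by
    intro W W' hW hW' h a
    apply hinj W' hW'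
    have h1 := Y.presheaf.germ_res_apply (homOfLE h) (genericPoint Y) hW'.2 (t W hW a)
    have h2 := X.presheaf.germ_res_apply ((Opens.map π.base).map (homOfLE h)) (genericPoint X)
      (mem_preimage π W' hW'.2) a
    refine h1.trans ?_
    refine (ht W hW a).trans ?_
    refine Eq.trans ?_ (ht W' hW' _).symm
    exact congrArg (nm π) h2.symm
  have tone : ∀ W hW, t W hW 1 = 1 := by
    intro W hW
    apply hinj W hW
    refine (ht W hW 1).trans ?_
    rw [map_one, map_one, map_one]
  have tmul : ∀ W hW a b, t W hW (a * b) = t W hW a * t W hW b := by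
    intro W hW a b
    apply hinj W hW
    refine (ht W hW (a * b)).trans ?_
    rw [map_mul, map_mul, map_mul, ← ht W hW a, ← ht W hW b]
  have tapp : ∀ W hW (b : Γ(Y, W)), t W hW ((π.app W).hom b) =
      b ^ (Module.finrank Y.functionField X.functionField) := by
    intro W hW b
    apply hinj W hW
    refine (ht W hW _).trans ?_
    rw [← ffMap_germ π W hW.2 b, map_pow]
    exact Algebra.norm_algebraMap (S := X.functionField) _
  obtain ⟨g, hres, happ, hgt⟩ := exists_glued_norm π
    (Module.finrank Y.functionField X.functionField) good hbasis t compat tone tmul tapp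
  refine ⟨{ one_le := hd, norm := g, norm_res := hres, norm_app := happ, norm_mem := ?_ }⟩
  intro U s x hx hs
  obtain ⟨W, hW, hxW, hWU⟩ := hbasis U (π.base x) hx
  have h1 := hres (homOfLE hWU) s
  rw [hgt W hW] at h1
  have h2 := Y.presheaf.germ_res_apply (homOfLE hWU) (π.base x) hxW (g U s)
  rw [← h2]
  have h3 : (Y.presheaf.map (homOfLE hWU).op).hom (g U s) =
      t W hW ((X.presheaf.map ((Opens.map π.base).map (homOfLE hWU)).op).hom s) := h1
  rw [h3]
  refine (local_all π hY W hW.1 hW.2).2.2 _ _ (ht W hW _) x hxW ?_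
  have h4 := X.presheaf.germ_res_apply ((Opens.map π.base).map (homOfLE hWU)) x hxW s
  rw [h4]
  exact hs

end Groth.Agent.S8881
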