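import Groth.Statements.S8860
import Groth.Agent.Lib.Helper35.NS4
import Groth.Agent.S8881
import Groth.Agent.S8880
import Groth.Agent.Lib.Helper22.FibreComp
import Groth.Agent.Lib.Helper40.NisGen

set_option autoImplicit false
universe u
open CategoryTheory CategoryTheory.Limits AlgebraicGeometry TopologicalSpace
open SDiv

namespace Groth.Agent.S8860

/-- Let π : X ⟶ Y be a finite surjective morphism of schemes with X quasi-affine. If either π is finite
locally free (finite, flat and locally of finite presentation), or Y is integral with all local
rings integrally closed domains (normal), then Y is quasi-affine. -/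
theorem result {X Y : Scheme.{u}} (π : X ⟶ Y) [IsFinite π] [Surjective π]
    (hX : X.IsQuasiAffine) (h : Mor2.IsFinLocFree π ∨ (IsIntegral Y ∧ Pi1.IsNormalScheme Y)) :
    Y.IsQuasiAffine := by
  haveI := hX
  rcases h with ⟨hfin, hflat, hlfp⟩ | ⟨hint, hnorm⟩
  · haveI := hflat
    haveI := hlfp
    have h1 : CohB1.IsAmple (Coh.structureModule X) :=
      Groth.Agent.Lib.Helper35.Ample.isAmple_structureModule_of_isQuasiAffine
    have h2 : CohB1.IsAmple ((Scheme.Modules.pullback π).obj (Coh.structureModule Y)) :=
      Groth.Agent.Lib.Helper35.Ample.isAmple_of_iso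
        (Groth.Agent.Lib.Helper40.NisGen.pullbackUnitIso π).symm h1
    have h3 := Groth.Agent.Lib.Helper35.NS.isAmple_of_isAmple_pullback π (Coh.structureModule Y)
      (Groth.Agent.Lib.Helper35.InvPush.isInvertible_structureModule Y) h2
    exact Groth.Agent.Lib.Helper35.Ample.isQuasiAffine_of_isAmple_structureModule h3
  · haveI := hint
    obtain ⟨ξ, hξ⟩ := π.surjective (genericPoint Y)
    let Z : TopologicalSpace.Closeds X := ⟨closure {ξ}, isClosed_closure⟩
    let I := Scheme.IdealSheafData.vanishingIdeal Z
    have hrange : Set.range I.subschemeι = closure {ξ} := by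
      rw [I.range_subschemeι]
      exact Scheme.IdealSheafData.coe_support_vanishingIdeal Z
    haveI : IsReduced I.subscheme :=
      Groth.Agent.Lib.Helper22.FibreComp.isReduced_subscheme_vanishingIdeal Z
    haveI : IrreducibleSpace I.subscheme := by
      have hemb : Topology.IsEmbedding I.subschemeι := I.subschemeι.isEmbedding
      have hirr : IsIrreducible (Set.range I.subschemeι) := by
        rw [hrange]
        exact isIrreducible_singleton.closure
      haveI := Subtype.irreducibleSpace hirr
      exact (hemb.toHomeomorph.irreducibleSpace_iff).mpr inferInstance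
    haveI : IsIntegral I.subscheme := isIntegral_of_irreducibleSpace_of_isReduced _
    haveI : I.subscheme.IsQuasiAffine := Scheme.IsQuasiAffine.of_isAffineHom I.subschemeι
    haveI : Surjective (I.subschemeι ≫ π) := by
      constructor
      have hcl : IsClosed (Set.range (I.subschemeι ≫ π).base) :=
        (I.subschemeι ≫ π).isClosedMap.isClosed_range
      have hmem : genericPoint Y ∈ Set.range (I.subschemeι ≫ π).base := by
        have hξ' : ξ ∈ Set.range I.subschemeι := by
          rw [hrange]
          exact subset_closure rfl
        obtain ⟨t, ht⟩ := hξ'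
        refine ⟨t, ?_⟩
        rw [Scheme.Hom.comp_apply, ht, hξ]
      have h1 : closure {genericPoint Y} ⊆ Set.range (I.subschemeι ≫ π).base :=
        hcl.closure_subset_iff.mpr (Set.singleton_subset_iff.mpr hmem)
      rw [genericPoint_closure] at h1
      intro y
      exact h1 (Set.mem_univ y)
    obtain ⟨d, hN⟩ := Groth.Agent.S8881.result (I.subschemeι ≫ π) hnorm
    exact Groth.Agent.S8880.result (I.subschemeι ≫ π) d hN inferInstance

end Groth.Agent.S8860
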