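import Groth.Statements.S8861
import Groth.Agent.Lib.Helper29.WeakAssNZD
import Groth.Agent.Lib.Helper82.EffCartier

set_option autoImplicit false
universe u
open CategoryTheory CategoryTheory.Limits AlgebraicGeometry TopologicalSpace
open SDiv

namespace Groth.Agent.S8861

open Groth.Agent.Lib.Helper29.QCohLoc

/-- Let f : X ⟶ Y be a morphism of schemes and 𝓘 the ideal sheaf of an effective Cartier divisor D ⊆ Y.
If f x ∉ D for every weakly associated point x of X (weakly associated point of the structure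
sheaf), then the inverse image ideal sheaf of 𝓘 on X is the ideal of an effective Cartier divisor,
i.e. the pullback of D by f is defined. -/
theorem result {X Y : Scheme.{u}} (f : X ⟶ Y) (𝓘 : Y.IdealSheafData)
    (hD : BlowUp.IsEffCartierIdeal 𝓘)
    (h : ∀ x : ↥X, Curv2.IsWeakAssPoint (Coh.structureModule X) x → f x ∉ 𝓘.support) :
    BlowUp.IsEffCartierIdeal (𝓘.comap f) := by
  intro x
  obtain ⟨W, hxW, t, ht, hI⟩ := hD (f x)
  obtain ⟨U, hU, hxU, hUW⟩ := exists_isAffineOpen_mem_and_subset (x := x) (U := f ⁻¹ᵁ W.1) hxW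
  have hUW' : U ≤ f ⁻¹ᵁ W.1 := hUW
  refine ⟨⟨U, hU⟩, hxU, (f.appLE W.1 U hUW').hom t, ?_, ?_⟩
  · apply mem_nonZeroDivisors_of_forall_weakAss hU
    intro y hy hwa
    have h1 := h y hwa
    have hfy : f y ∈ W.1 := hUW hy
    rw [Scheme.IdealSheafData.mem_support_iff_of_mem hfy, hI, Scheme.zeroLocus_span,
      Scheme.mem_zeroLocus_iff] at h1
    have h2 : f y ∈ Y.basicOpen t := by simpa using h1
    rw [Scheme.basicOpen_appLE]
    exact ⟨hy, h2⟩
  · rw [Groth.Agent.Lib.Helper82.ideal_comap_of_le f 𝓘 U hU W.1 W.2 hUW', hI, Ideal.map_span,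
      Set.image_singleton]

end Groth.Agent.S8861
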