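import Groth.Statements.S8862
import Groth.Agent.Lib.Helper82.EffCartier
import Groth.Agent.S4603

set_option autoImplicit false
universe u
open CategoryTheory CategoryTheory.Limits AlgebraicGeometry TopologicalSpace
open SDiv

namespace Groth.Agent.S8862

open Scheme Groth.Agent.Lib.Helper82 in
lemma nzd_of_avoid {Z : Scheme.{u}} [IsAffine Z] [IsReduced Z] (J : Z.IdealSheafData) (t : Γ(Z, ⊤))
    (hJ : J.ideal ⟨⊤, isAffineOpen_top Z⟩ = Ideal.span {t})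
    (h : ∀ η : Z, (∀ z : Z, z ⤳ η → z = η) → η ∉ J.support) :
    t ∈ nonZeroDivisors Γ(Z, ⊤) := by
  rw [mem_nonZeroDivisors_iff_right]
  intro s hs
  by_contra hs0
  have h1 : Z.basicOpen s ≠ ⊥ := by
    rw [Ne, AlgebraicGeometry.basicOpen_eq_bot_iff]
    exact hs0
  rw [Ne, ← TopologicalSpace.Opens.not_nonempty_iff_eq_bot, not_not] at h1
  obtain ⟨u, hu⟩ := h1
  obtain ⟨η, hηu, hmax⟩ := Groth.Agent.S4603.exists_maximal_generization u
  have hηs : η ∈ Z.basicOpen s := hηu.mem_open (Z.basicOpen s).2 hu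
  have hηt : η ∈ Z.basicOpen t := by
    have h2 := h η hmax
    rw [IdealSheafData.mem_support_iff_of_mem (U := ⟨⊤, isAffineOpen_top Z⟩) (by trivial), hJ,
      Scheme.zeroLocus_span, Scheme.zeroLocus_singleton] at h2
    simpa using h2
  have h3 : η ∈ Z.basicOpen (s * t) := by
    rw [Scheme.basicOpen_mul]
    exact ⟨hηs, hηt⟩
  rw [hs, Scheme.basicOpen_zero] at h3
  exact h3

theorem result {X Y : Scheme.{u}} [IsReduced X] (f : X ⟶ Y) (𝓘 : Y.IdealSheafData)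
    (hD : BlowUp.IsEffCartierIdeal 𝓘)
    (h : ∀ ξ : ↥X, (∀ y : ↥X, y ⤳ ξ → y = ξ) → f ξ ∉ 𝓘.support) :
    BlowUp.IsEffCartierIdeal (𝓘.comap f) := by
  intro x
  obtain ⟨W, hxW, hW⟩ := hD (f x)
  have hxfW : x ∈ f ⁻¹ᵁ W.1 := hxW
  obtain ⟨U, hU, hxU, hUW⟩ := exists_isAffineOpen_mem_and_subset (U := f ⁻¹ᵁ W.1) hxfW
  replace hUW : U ≤ f ⁻¹ᵁ W.1 := hUW
  refine ⟨⟨U, hU⟩, hxU, ?_⟩
  change Groth.Agent.Lib.Helper82.IsPrincipalNZD ((𝓘.comap f).ideal ⟨U, hU⟩)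
  replace hW : Groth.Agent.Lib.Helper82.IsPrincipalNZD (𝓘.ideal W) := hW
  have : IsAffine U := hU
  obtain ⟨W, hWaff⟩ := W
  have : IsAffine W := hWaff
  replace hW := (Groth.Agent.Lib.Helper82.isPrincipalNZD_iff_comap_ι 𝓘 W hWaff).1 hW
  refine (Groth.Agent.Lib.Helper82.isPrincipalNZD_iff_comap_ι (𝓘.comap f) U hU).2 ?_
  have e : (𝓘.comap f).comap U.ι = (𝓘.comap W.ι).comap (f.resLE W U hUW) := by
    rw [← Scheme.IdealSheafData.comap_comp, ← Scheme.IdealSheafData.comap_comp,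
      Scheme.Hom.resLE_comp_ι]
  obtain ⟨d₀, -, hd₀⟩ := hW
  have hJ : ((𝓘.comap f).comap U.ι).ideal ⟨⊤, isAffineOpen_top U⟩ =
      Ideal.span {(f.resLE W U hUW).appTop d₀} := by
    rw [e, Groth.Agent.Lib.Helper82.ideal_comap_top_of_isAffine, hd₀, Ideal.map_span,
      Set.image_singleton]
  have : IsReduced U := inferInstance
  refine ⟨_, nzd_of_avoid _ _ hJ ?_, hJ⟩
  intro η hmax
  have hξ : ∀ y : X, y ⤳ U.ι η → y = U.ι η := by
    intro y hy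
    have hyU : y ∈ U := hy.mem_open U.2 η.2
    obtain ⟨y', rfl⟩ : ∃ y' : (U : Scheme), U.ι y' = y := ⟨⟨y, hyU⟩, rfl⟩
    have h1 : y' ⤳ η := U.ι.isEmbedding.isInducing.specializes_iff.mp hy
    rw [hmax _ h1]
  have h3 := h (U.ι η) hξ
  rw [← Scheme.IdealSheafData.comap_comp, Scheme.IdealSheafData.support_comap]
  exact h3

end Groth.Agent.S8862
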