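import Groth.Statements.S8865
import Groth.Agent.Lib.Helper29.QCohUnit

set_option autoImplicit false
universe u
open CategoryTheory CategoryTheory.Limits AlgebraicGeometry TopologicalSpace
open SDiv

namespace Groth.Agent.S8865

open Groth.Agent.Lib.Helper29.QCohLoc

theorem mk_eq_zero_imp {X : Scheme.{u}} (x : X) (a : X.presheaf.stalk x) (s : Mero.regStalk X x)
    (h : (LocalizedModule.mk a s : Mero.KStalk X x) = 0) : a = 0 := by
  rw [← LocalizedModule.zero_mk s, LocalizedModule.mk_eq] at h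
  obtain ⟨t, ht⟩ := h
  rw [smul_zero, smul_zero, Submonoid.smul_def, smul_eq_mul] at ht
  have hs : (s : X.presheaf.stalk x) ∈ nonZeroDivisors _ := Mero.regStalk_le_nonZeroDivisors x s.2
  have ht' : (t : X.presheaf.stalk x) ∈ nonZeroDivisors _ := Mero.regStalk_le_nonZeroDivisors x t.2
  have h1 : (s : X.presheaf.stalk x) • a = 0 := by
    rw [smul_eq_mul]
    exact (mem_nonZeroDivisors_iff.mp ht').1 _ ht
  rw [smul_eq_mul] at h1
  exact (mem_nonZeroDivisors_iff.mp hs).1 _ h1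

theorem local_kill (X : Scheme.{u}) (h : Γ(X, ⊤)) (f : Γ(Mero.kmod X, ⊤))
    (hf : ∀ (y : X), y ∈ X.basicOpen h → f.1 ⟨y, trivial⟩ = 0) (x : X) :
    ∃ (V : X.Opens) (_ : x ∈ V) (n : ℕ), ∀ y ∈ V,
      (Mero.toK X ⊤ (h ^ n) * f).1 ⟨y, trivial⟩ = 0 := by
  obtain ⟨V0, hxV0, i0, a0, b0, hab0⟩ := f.2 ⟨x, trivial⟩
  obtain ⟨V, hV, hxV, hle⟩ := exists_isAffineOpen_mem_and_subset (x := x) (U := V0) hxV0
  have hle' : V ≤ V0 := hle
  obtain ⟨a, b, hab⟩ : ∃ (a : Γ(X, V)) (b : Mero.regSub X V), ∀ y : V,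
      f.1 ⟨y.1, trivial⟩ = LocalizedModule.mk (X.presheaf.germ V y.1 y.2 a) (Mero.regGerm y b) :=
    (Mero.kFrac X).res (homOfLE hle') _ ⟨a0, b0, hab0⟩
  set hV' : Γ(X, V) := X.presheaf.map (homOfLE (le_top : V ≤ ⊤)).op h with hhV
  have hbo : X.basicOpen hV' = V ⊓ X.basicOpen h := Scheme.basicOpen_res _ _ _
  have hzero : X.presheaf.map (homOfLE (X.basicOpen_le hV')).op a = 0 := by
    refine TopCat.Presheaf.section_ext X.sheaf _ _ _ (fun y hy => ?_)
    change X.presheaf.germ _ y hy (X.presheaf.map _ a) = X.presheaf.germ _ y hy 0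
    have hy' : y ∈ V ⊓ X.basicOpen h := hbo ▸ hy
    rw [TopCat.Presheaf.germ_res_apply, map_zero]
    have h1 := hf y hy'.2
    rw [hab ⟨y, hy'.1⟩] at h1
    exact mk_eq_zero_imp y _ _ h1
  obtain ⟨n, hn⟩ := (locAt_structureModule X hV).kill hV' (ofSec X a) hzero
  refine ⟨V, hxV, n, fun y hy => ?_⟩
  rw [Mero.kmod_mul_apply, Mero.toK_apply]
  have hn' : hV' ^ n * a = 0 := hn
  have h2 : X.presheaf.germ V y hy (hV' ^ n) = X.presheaf.germ ⊤ y trivial (h ^ n) := by
    rw [hhV, ← map_pow]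
    exact TopCat.Presheaf.germ_res_apply _ _ _ _ _
  have h3 := hab ⟨y, hy⟩
  change f.1 ⟨y, trivial⟩ = _ at h3
  rw [h3]
  refine LocalizedModule.mk_mul_mk.trans ?_
  change (LocalizedModule.mk (X.presheaf.germ ⊤ y trivial (h ^ n) * X.presheaf.germ V y hy a) _ :
    Mero.KStalk X y) = 0
  rw [← h2, ← map_mul, hn', map_zero, LocalizedModule.zero_mk]

/-- Let X be a quasi-compact scheme, h a global section of O_X and f a global section of the sheaf of
meromorphic functions K_X whose restriction to the open X_h where h is invertible vanishes. Then h^n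
f = 0 in K_X(X) for some natural number n. -/
theorem result (X : Scheme.{u}) [CompactSpace ↥X] (h : Γ(X, ⊤))
    (f : Γ(Mero.kmod X, ⊤)) (hf : (Mero.kmod X).presheaf.map (homOfLE (le_top : X.basicOpen h ≤ ⊤)).op f = 0) :
    ∃ n : ℕ, Mero.toK X ⊤ h ^ n * f = 0 := by
  have hf' : ∀ (y : X), y ∈ X.basicOpen h → f.1 ⟨y, trivial⟩ = 0 := by
    intro y hy
    have := congrArg (fun g => g.1 ⟨y, hy⟩) hf
    exact this
  choose V hxV n hn using local_kill X h f hf'
  obtain ⟨t, ht⟩ := CompactSpace.elim_nhds_subcover (fun x => (V x : Set X))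
    (fun x => (V x).isOpen.mem_nhds (hxV x))
  refine ⟨t.sup n, ?_⟩
  apply Subtype.ext
  funext y
  have hy : y.1 ∈ ⋃ x ∈ t, (V x : Set X) := by rw [ht]; trivial
  simp only [Set.mem_iUnion] at hy
  obtain ⟨x, hxt, hyx⟩ := hy
  have hle : n x ≤ t.sup n := Finset.le_sup hxt
  have h1 := hn x y.1 hyx
  rw [← map_pow, ← Nat.sub_add_cancel hle, pow_add, map_mul, mul_assoc]
  rw [Mero.kmod_mul_apply]
  change _ * (Mero.toK X ⊤ (h ^ n x) * f).1 ⟨y.1, trivial⟩ = 0
  rw [h1, mul_zero]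

end Groth.Agent.S8865
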