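import Groth.Statements.S8864
import Groth.Agent.S8865
import Groth.Agent.S5086
import Groth.Agent.Lib.Helper29.QCohUnit
import Mathlib.RingTheory.Ideal.AssociatedPrime.Finiteness

set_option autoImplicit false
universe u
open CategoryTheory CategoryTheory.Limits AlgebraicGeometry TopologicalSpace
open SDiv

namespace Groth.Agent.S8864

open Groth.Agent.Lib.Helper29.QCohLoc

theorem local_kill (X : Scheme.{u}) (U : X.Opens) (h : Γ(X, U)) (f : Γ(Mero.kmod X, U))
    (hf : ∀ (y : X) (hy : y ∈ U), y ∈ X.basicOpen h → f.1 ⟨y, hy⟩ = 0) (x : X) (hx : x ∈ U) :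
    ∃ (V : X.Opens) (_ : x ∈ V) (n : ℕ), ∀ (y : X) (hy : y ∈ U), y ∈ V →
      (Mero.toK X U (h ^ n) * f).1 ⟨y, hy⟩ = 0 := by
  obtain ⟨V0, hxV0, i0, a0, b0, hab0⟩ := f.2 ⟨x, hx⟩
  obtain ⟨V, hV, hxV, hle⟩ := exists_isAffineOpen_mem_and_subset (x := x) (U := V0) hxV0
  have hle' : V ≤ V0 := hle
  have hVU : V ≤ U := hle'.trans i0.le
  obtain ⟨a, b, hab⟩ : ∃ (a : Γ(X, V)) (b : Mero.regSub X V), ∀ y : V,
      f.1 ⟨y.1, hVU y.2⟩ = LocalizedModule.mk (X.presheaf.germ V y.1 y.2 a) (Mero.regGerm y b) :=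
    (Mero.kFrac X).res (homOfLE hle') _ ⟨a0, b0, hab0⟩
  set hV' : Γ(X, V) := X.presheaf.map (homOfLE hVU).op h with hhV
  have hbo : X.basicOpen hV' = V ⊓ X.basicOpen h := Scheme.basicOpen_res _ _ _
  have hzero : X.presheaf.map (homOfLE (X.basicOpen_le hV')).op a = 0 := by
    refine TopCat.Presheaf.section_ext X.sheaf _ _ _ (fun y hy => ?_)
    change X.presheaf.germ _ y hy (X.presheaf.map _ a) = X.presheaf.germ _ y hy 0
    have hy' : y ∈ V ⊓ X.basicOpen h := hbo ▸ hy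
    rw [TopCat.Presheaf.germ_res_apply, map_zero]
    have h1 := hf y (hVU hy'.1) hy'.2
    rw [hab ⟨y, hy'.1⟩] at h1
    exact Groth.Agent.S8865.mk_eq_zero_imp y _ _ h1
  obtain ⟨n, hn⟩ := (locAt_structureModule X hV).kill hV' (ofSec X a) hzero
  refine ⟨V, hxV, n, fun y hyU hy => ?_⟩
  rw [Mero.kmod_mul_apply, Mero.toK_apply]
  have hn' : hV' ^ n * a = 0 := hn
  have h2 : X.presheaf.germ V y hy (hV' ^ n) = X.presheaf.germ U y hyU (h ^ n) := by
    rw [hhV, ← map_pow]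
    exact TopCat.Presheaf.germ_res_apply _ _ _ _ _
  have h3 := hab ⟨y, hy⟩
  change f.1 ⟨y, hyU⟩ = _ at h3
  rw [h3]
  refine LocalizedModule.mk_mul_mk.trans ?_
  change (LocalizedModule.mk (X.presheaf.germ U y hyU (h ^ n) * X.presheaf.germ V y hy a) _ :
    Mero.KStalk X y) = 0
  rw [← h2, ← map_mul, hn', map_zero, LocalizedModule.zero_mk]

theorem kill (X : Scheme.{u}) (U : X.Opens) (hUc : IsCompact (U : Set X)) (h : Γ(X, U))
    (f : Γ(Mero.kmod X, U))
    (hf : ∀ (y : X) (hy : y ∈ U), y ∈ X.basicOpen h → f.1 ⟨y, hy⟩ = 0) :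
    ∃ n : ℕ, Mero.toK X U (h ^ n) * f = 0 := by
  choose V hxV n hn using local_kill X U h f hf
  obtain ⟨t, ht⟩ := hUc.elim_nhds_subcover' (fun x hx => (V x hx : Set X))
    (fun x hx => (V x hx).isOpen.mem_nhds (hxV x hx))
  refine ⟨t.sup (fun x => n x.1 x.2), ?_⟩
  apply Subtype.ext
  funext y
  have hy := ht y.2
  simp only [Set.mem_iUnion] at hy
  obtain ⟨x, hxt, hyx⟩ := hy
  have hle : n x.1 x.2 ≤ t.sup (fun x => n x.1 x.2) := Finset.le_sup (f := fun x => n x.1 x.2) hxt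
  have h1 := hn x.1 x.2 y.1 y.2 hyx
  rw [← Nat.sub_add_cancel hle, pow_add, map_mul, mul_assoc]
  rw [Mero.kmod_mul_apply]
  change _ * (Mero.toK X U (h ^ n x.1 x.2) * f).1 ⟨y.1, y.2⟩ = 0
  rw [h1, mul_zero]

/-- the ideal of denominators of a meromorphic function over `U` -/
def denomIdeal (X : Scheme.{u}) (U : X.Opens) (F : Γ(Mero.kmod X, U)) : Ideal Γ(X, U) where
  carrier := {s | ∃ a, Mero.toK X U s * F = Mero.toK X U a}
  add_mem' := by
    rintro s1 s2 ⟨a1, h1⟩ ⟨a2, h2⟩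
    exact ⟨a1 + a2, by rw [map_add, add_mul, h1, h2, map_add]⟩
  zero_mem' := ⟨0, by rw [map_zero, zero_mul]⟩
  smul_mem' := by
    rintro c s ⟨a, h⟩
    exact ⟨c * a, by rw [smul_eq_mul, map_mul, mul_assoc, h, map_mul]⟩

theorem exists_denom_nzd_germ (X : Scheme.{u}) (U : X.Opens) (hU : IsAffineOpen U)
    (F : Γ(Mero.kmod X, U)) (x : X) (hx : x ∈ U) :
    ∃ s ∈ denomIdeal X U F, X.presheaf.germ U x hx s ∈ nonZeroDivisors (X.presheaf.stalk x) := by
  obtain ⟨V0, hxV0, i0, a0, b0, hab0⟩ := F.2 ⟨x, hx⟩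
  obtain ⟨g, hgV0, hxg⟩ := hU.exists_basicOpen_le (V := V0) ⟨x, hxV0⟩ hx
  set a1 : Γ(X, X.basicOpen g) := X.presheaf.map (homOfLE hgV0).op a0 with ha1
  set b1 : Γ(X, X.basicOpen g) := X.presheaf.map (homOfLE hgV0).op b0.1 with hb1
  obtain ⟨k, b', hb'⟩ := (locAt_structureModule X hU).ext g (ofSec X b1)
  obtain ⟨m, a', ha'⟩ := (locAt_structureModule X hU).ext g (ofSec X a1)
  have hb'' : X.presheaf.map (homOfLE (X.basicOpen_le g)).op (toSec X b') =
      (X.presheaf.map (homOfLE (X.basicOpen_le g)).op g) ^ k * b1 := hb'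
  have ha'' : X.presheaf.map (homOfLE (X.basicOpen_le g)).op (toSec X a') =
      (X.presheaf.map (homOfLE (X.basicOpen_le g)).op g) ^ m * a1 := ha'
  -- germ computations at points of `D(g)`
  have germb : ∀ (y : X) (hy : y ∈ X.basicOpen g),
      X.presheaf.germ U y (X.basicOpen_le g hy) (toSec X b') =
        X.presheaf.germ U y (X.basicOpen_le g hy) g ^ k *
          X.presheaf.germ V0 y (hgV0 hy) b0.1 := by
    intro y hy
    have := congrArg (X.presheaf.germ (X.basicOpen g) y hy) hb''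
    rw [TopCat.Presheaf.germ_res_apply, map_mul, map_pow, TopCat.Presheaf.germ_res_apply, hb1,
      TopCat.Presheaf.germ_res_apply] at this
    exact this
  have germa : ∀ (y : X) (hy : y ∈ X.basicOpen g),
      X.presheaf.germ U y (X.basicOpen_le g hy) (toSec X a') =
        X.presheaf.germ U y (X.basicOpen_le g hy) g ^ m *
          X.presheaf.germ V0 y (hgV0 hy) a0 := by
    intro y hy
    have := congrArg (X.presheaf.germ (X.basicOpen g) y hy) ha''
    rw [TopCat.Presheaf.germ_res_apply, map_mul, map_pow, TopCat.Presheaf.germ_res_apply, ha1,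
      TopCat.Presheaf.germ_res_apply] at this
    exact this
  set G : Γ(Mero.kmod X, U) :=
    Mero.toK X U (g ^ m * toSec X b') * F - Mero.toK X U (g ^ k * toSec X a') with hG
  have hGz : ∀ (y : X) (hy : y ∈ U), y ∈ X.basicOpen g → G.1 ⟨y, hy⟩ = 0 := by
    intro y hy hyg
    have hF : F.1 ⟨y, hy⟩ = LocalizedModule.mk (X.presheaf.germ V0 y (hgV0 hyg) a0)
        (Mero.regGerm ⟨y, hgV0 hyg⟩ b0) := hab0 ⟨y, hgV0 hyg⟩
    change (Mero.toK X U (g ^ m * toSec X b')).1 ⟨y, hy⟩ * F.1 ⟨y, hy⟩ -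
      (Mero.toK X U (g ^ k * toSec X a')).1 ⟨y, hy⟩ = 0
    rw [sub_eq_zero, hF, Mero.toK_apply, Mero.toK_apply]
    refine LocalizedModule.mk_mul_mk.trans ?_
    rw [LocalizedModule.mk_eq]
    refine ⟨1, ?_⟩
    simp only [one_smul, Submonoid.smul_def, smul_eq_mul,
      one_mul, map_mul, map_pow]
    rw [germb y hyg, germa y hyg]
    ring
  obtain ⟨n, hn⟩ := kill X U hU.isCompact g G hGz
  refine ⟨g ^ n * (g ^ m * toSec X b'), ⟨g ^ n * (g ^ k * toSec X a'), ?_⟩, ?_⟩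
  · rw [hG, mul_sub, sub_eq_zero, ← mul_assoc, ← map_mul, ← map_mul] at hn
    exact hn
  · have hu : IsUnit (X.presheaf.germ U x hx g) := (Scheme.mem_basicOpen X g x hx).mp hxg
    have hb0 : X.presheaf.germ V0 x hxV0 b0.1 ∈ nonZeroDivisors (X.presheaf.stalk x) :=
      b0.2 ⟨x, hxV0⟩
    rw [map_mul, map_mul, map_pow, map_pow, germb x hxg]
    exact Submonoid.mul_mem _ (pow_mem hu.mem_nonZeroDivisors _)
      (Submonoid.mul_mem _ (pow_mem hu.mem_nonZeroDivisors _)
        (Submonoid.mul_mem _ (pow_mem hu.mem_nonZeroDivisors _) hb0))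

theorem toK_injective (X : Scheme.{u}) (U : X.Opens) : Function.Injective (Mero.toK X U) := by
  intro a b hab
  refine TopCat.Presheaf.section_ext X.sheaf _ _ _ (fun y hy => ?_)
  change X.presheaf.germ U y hy a = X.presheaf.germ U y hy b
  have h1 := congrArg (fun g => g.1 ⟨y, hy⟩) hab
  simp only [Mero.toK_apply] at h1
  rw [← sub_eq_zero, ← map_sub]
  apply Groth.Agent.S8865.mk_eq_zero_imp y _ 1
  rw [map_sub]
  have h2 : (LocalizedModule.mk (X.presheaf.germ U y hy a - X.presheaf.germ U y hy b) 1 :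
      Mero.KStalk X y) = LocalizedModule.mk (X.presheaf.germ U y hy a) 1 -
        LocalizedModule.mk (X.presheaf.germ U y hy b) 1 := by
    rw [sub_eq_add_neg, sub_eq_add_neg, ← LocalizedModule.mk_neg, LocalizedModule.mk_add_mk]
    exact Mero.mk_congr (by simp only [one_smul]) (by rw [one_mul])
  rw [h2, h1, sub_self]

theorem exists_denom_nzd (X : Scheme.{u}) [IsLocallyNoetherian X] (U : X.Opens)
    (hU : IsAffineOpen U) (F : Γ(Mero.kmod X, U)) :
    ∃ s ∈ denomIdeal X U F, s ∈ nonZeroDivisors Γ(X, U) := by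
  have : IsNoetherianRing Γ(X, U) := IsLocallyNoetherian.component_noetherian ⟨U, hU⟩
  refine Groth.Agent.S5086.exists_mem_nzd_of_finite_primes (associatedPrimes Γ(X, U) Γ(X, U))
    (associatedPrimes.finite _ _) (fun P hP => IsAssociatedPrime.isPrime hP) ?_ _ ?_
  · intro b hb
    by_contra hcon
    have : b ∈ ((nonZeroDivisors Γ(X, U) : Set Γ(X, U)))ᶜ := hcon
    rw [← biUnion_associatedPrimes_eq_compl_nonZeroDivisors] at this
    obtain ⟨P, hP, hbP⟩ := Set.mem_iUnion₂.mp this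
    exact hb P hP hbP
  · intro P hP hle
    have hP' := hP
    rw [AssociatedPrimes.mem_iff, isAssociatedPrime_iff] at hP'
    obtain ⟨hPp, c, hc⟩ := hP'
    obtain ⟨x, hx, hxP⟩ := exists_point_of_prime hU P
    obtain ⟨s, hsI, hsnzd⟩ := exists_denom_nzd_germ X U hU F x hx
    have hsP : s ∈ P := hle hsI
    have hsc : s * c = 0 := by
      rw [hc, Submodule.mem_colon_singleton] at hsP
      simpa using hsP
    have h1 : X.presheaf.germ U x hx c * X.presheaf.germ U x hx s = 0 := by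
      rw [← map_mul, mul_comm, hsc, map_zero]
    have h2 := (mem_nonZeroDivisors_iff_right.mp hsnzd) _ h1
    let _ := X.presheaf.algebra_section_stalk ⟨x, hx⟩
    have hloc : IsLocalization.AtPrime (X.presheaf.stalk x) (hU.primeIdealOf ⟨x, hx⟩).asIdeal :=
      hU.isLocalization_stalk ⟨x, hx⟩
    have h3 : algebraMap Γ(X, U) (X.presheaf.stalk x) c = 0 := h2
    rw [IsLocalization.map_eq_zero_iff (hU.primeIdealOf ⟨x, hx⟩).asIdeal.primeCompl] at h3
    obtain ⟨t, ht⟩ := h3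
    have htP : (t : Γ(X, U)) ∈ P := by
      rw [hc, Submodule.mem_colon_singleton]
      simpa using ht
    exact t.2 (hxP ▸ htP)


/-- Let X be a locally Noetherian scheme and U an affine open of X. Then K_X(U), viewed as an
O_X(U)-algebra through the canonical map r ↦ r/1, is the total ring of fractions of O_X(U): it is a
localization of O_X(U) at the monoid of nonzerodivisors. -/
theorem result (X : Scheme.{u}) [IsLocallyNoetherian X] (U : X.affineOpens) :
    @IsLocalization Γ(X, U.1) _ (nonZeroDivisors Γ(X, U.1)) Γ(Mero.kmod X, U.1) _ (Mero.toK X U.1).toAlgebra := by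
  let _ := (Mero.toK X U.1).toAlgebra
  rw [isLocalization_iff]
  refine ⟨?_, ?_, ?_⟩
  · rintro ⟨s, hs⟩
    have hsreg : s ∈ Mero.regSub X U.1 := Groth.Agent.S5086.mem_regSub_of_nzd U.1 U.2 s hs
    change IsUnit (Mero.toK X U.1 s)
    let inv : Γ(Mero.kmod X, U.1) :=
      ⟨fun y => LocalizedModule.mk 1 (Mero.regGerm y ⟨s, hsreg⟩),
        fun y => ⟨U.1, y.2, 𝟙 _, 1, ⟨s, hsreg⟩, fun z => Mero.mk_congr (map_one _).symm rfl⟩⟩
    refine IsUnit.of_mul_eq_one inv ?_
    apply Subtype.ext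
    funext y
    rw [Mero.kmod_mul_apply, Mero.toK_apply]
    change (LocalizedModule.mk _ 1 * LocalizedModule.mk 1 (Mero.regGerm y ⟨s, hsreg⟩) :
      Mero.KStalk X y.1) = 1
    refine LocalizedModule.mk_mul_mk.trans ?_
    refine (Mero.mk_congr (mul_one _) (by rw [one_mul])).trans
      (Mero.mk_self_eq_one (Mero.regGerm y ⟨s, hsreg⟩))
  · intro F
    obtain ⟨s, ⟨a, ha⟩, hs⟩ := exists_denom_nzd X U.1 U.2 F
    refine ⟨(a, ⟨s, hs⟩), ?_⟩
    change F * Mero.toK X U.1 s = Mero.toK X U.1 a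
    rw [mul_comm]
    exact ha
  · intro a b hab
    exact ⟨1, by rw [toK_injective X U.1 hab]⟩

end Groth.Agent.S8864
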