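import Groth.Statements.S8869
import Groth.Agent.Lib.Helper29.QCohUnit
import Groth.Agent.Lib.Helper29.QCohPush
import Mathlib.AlgebraicGeometry.Properties

set_option autoImplicit false
universe u
open CategoryTheory CategoryTheory.Limits AlgebraicGeometry TopologicalSpace
open SDiv

namespace Groth.Agent.S8869

/-- Assume X is a reduced scheme and x is a point of X. Then x is weakly associated to the structure
sheaf O_X exactly when every generization of x equals x itself; equivalently, x is a generic point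
of some irreducible component of X. -/
theorem result (X : Scheme.{u}) [IsReduced X] (x : ↥X) :
    Curv2.IsWeakAssPoint (Coh.structureModule X) x ↔ ∀ y : ↥X, y ⤳ x → y = x := by
  let F := Coh.structureModule X
  obtain ⟨W, hW, hxW, -⟩ := exists_isAffineOpen_mem_and_subset (X := X) (x := x) (U := ⊤) trivial
  have hL := Groth.Agent.Lib.Helper29.QCohLoc.locAt_structureModule X hW
  have hred : _root_.IsReduced Γ(X, W) := inferInstance
  rw [Groth.Agent.Lib.Helper29.QCohLoc.isWeakAssPoint_iff F hW hL x hxW]
  constructor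
  · rintro ⟨s, hs⟩ y hyx
    have hyW : y ∈ W := hyx.mem_open W.isOpen hxW
    have hle := Groth.Agent.Lib.Helper29.QCohLoc.primeIdealOf_le_of_specializes hW hxW hyW hyx
    have hge := Groth.Agent.Lib.Helper29.QCohLoc.le_of_minimalPrimes_ann_of_isReduced
      (Groth.Agent.Lib.Helper29.QCohLoc.toSec X s)
      (Groth.Agent.Lib.Helper29.QCohLoc.ann F s)
      (fun a => Groth.Agent.Lib.Helper29.QCohLoc.mem_ann F s a)
      _ hs (hW.primeIdealOf ⟨y, hyW⟩).asIdeal hle
    exact Groth.Agent.Lib.Helper29.QCohLoc.primeIdealOf_injective hW hyW hxW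
      (PrimeSpectrum.ext (le_antisymm hle hge))
  · intro h
    refine ⟨Groth.Agent.Lib.Helper29.QCohLoc.ofSec X 1, ?_⟩
    have hbot : Groth.Agent.Lib.Helper29.QCohLoc.ann F
        (Groth.Agent.Lib.Helper29.QCohLoc.ofSec X (1 : Γ(X, W))) = ⊥ := by
      ext a
      rw [Groth.Agent.Lib.Helper29.QCohLoc.mem_ann,
        Groth.Agent.Lib.Helper29.QCohLoc.smul_ofSec, mul_one, Ideal.mem_bot]
      exact Iff.rfl
    rw [hbot]
    refine ⟨⟨inferInstance, bot_le⟩, ?_⟩
    rintro q ⟨hq, -⟩ hqp
    obtain ⟨y, hyW, hyq⟩ := Groth.Agent.Lib.Helper29.QCohLoc.exists_point_of_prime hW q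
    have hspec := Groth.Agent.Lib.Helper29.QCohLoc.specializes_of_primeIdealOf_le hW hxW hyW
      (hyq ▸ hqp)
    have := h y hspec
    subst this
    rw [← hyq]

end Groth.Agent.S8869
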