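import Groth.Statements.S8870
import Groth.Agent.Lib.Helper29.QCohStalkExact

set_option autoImplicit false
universe u
open CategoryTheory CategoryTheory.Limits AlgebraicGeometry TopologicalSpace
open SDiv

namespace Groth.Agent.S8870

section aux

open Groth.Agent.Lib.Helper29.QCohLoc

variable {X : Scheme.{u}}

theorem ker_eq_of_injective {M N : X.Modules} (φ : M ⟶ N) (x : X)
    (hinj : Function.Injective (Algz.stalkMapAb φ x)) (m : M.presheaf.stalk x) :
    LinearMap.ker (LinearMap.toSpanSingleton (X.presheaf.stalk x) (N.presheaf.stalk x)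
      (Algz.stalkMapAb φ x m)) =
    LinearMap.ker (LinearMap.toSpanSingleton (X.presheaf.stalk x) (M.presheaf.stalk x) m) := by
  ext r
  rw [LinearMap.mem_ker, LinearMap.toSpanSingleton_apply, LinearMap.mem_ker,
    LinearMap.toSpanSingleton_apply, ← Algz.stalkMapAb_smul]
  constructor
  · intro h
    apply hinj
    rw [h, map_zero]
  · intro h
    rw [h, map_zero]

end aux

/-- Let X be a scheme and 0 → F₁ → F₂ → F₃ → 0 a short exact sequence of quasi-coherent O_X-modules.
Then WeakAss(F₂) ⊆ WeakAss(F₁) ∪ WeakAss(F₃) and WeakAss(F₁) ⊆ WeakAss(F₂). -/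
theorem result (X : Scheme.{u}) (S : ShortComplex X.Modules) (hS : S.ShortExact)
    (h₁ : Coh.IsQCoh S.X₁) (h₂ : Coh.IsQCoh S.X₂) (h₃ : Coh.IsQCoh S.X₃) :
    (∀ x : ↥X, Curv2.IsWeakAssPoint S.X₂ x → Curv2.IsWeakAssPoint S.X₁ x ∨ Curv2.IsWeakAssPoint S.X₃ x) ∧
      (∀ x : ↥X, Curv2.IsWeakAssPoint S.X₁ x → Curv2.IsWeakAssPoint S.X₂ x) := by
  have hmono := hS.mono_f
  refine ⟨?_, ?_⟩
  · rintro x ⟨m, hm⟩
    by_cases h0 : Algz.stalkMapAb S.g x m = 0
    · left
      obtain ⟨m₁, rfl⟩ :=
        Groth.Agent.Lib.Helper29.QCohLoc.stalk_exact_of_shortExact S hS x m h0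
      refine ⟨m₁, ?_⟩
      rw [← ker_eq_of_injective S.f x
        (Groth.Agent.Lib.Helper29.QCohLoc.stalk_injective_of_mono S.f x) m₁]
      exact hm
    · right
      refine ⟨Algz.stalkMapAb S.g x m, ?_⟩
      have hle : LinearMap.ker (LinearMap.toSpanSingleton (X.presheaf.stalk x)
          (S.X₂.presheaf.stalk x) m) ≤
          LinearMap.ker (LinearMap.toSpanSingleton (X.presheaf.stalk x)
            (S.X₃.presheaf.stalk x) (Algz.stalkMapAb S.g x m)) := by
        intro r hr
        rw [LinearMap.mem_ker, LinearMap.toSpanSingleton_apply] at hr ⊢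
        rw [← Algz.stalkMapAb_smul, hr, map_zero]
      have hne : Ideal.radical (LinearMap.ker (LinearMap.toSpanSingleton (X.presheaf.stalk x)
            (S.X₃.presheaf.stalk x) (Algz.stalkMapAb S.g x m))) ≠ ⊤ := by
        rw [Ne, Ideal.radical_eq_top]
        intro htop
        have h1 : (1 : X.presheaf.stalk x) ∈ LinearMap.ker (LinearMap.toSpanSingleton
            (X.presheaf.stalk x) (S.X₃.presheaf.stalk x) (Algz.stalkMapAb S.g x m)) := by
          rw [htop]; trivial
        rw [LinearMap.mem_ker, LinearMap.toSpanSingleton_apply, one_smul] at h1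
        exact h0 h1
      have hle2 := Ideal.radical_mono hle
      rw [hm] at hle2
      exact ((IsLocalRing.maximalIdeal.isMaximal _).eq_of_le hne hle2).symm
  · rintro x ⟨m, hm⟩
    refine ⟨Algz.stalkMapAb S.f x m, ?_⟩
    rw [ker_eq_of_injective S.f x
      (Groth.Agent.Lib.Helper29.QCohLoc.stalk_injective_of_mono S.f x) m]
    exact hm

end Groth.Agent.S8870
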