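import Groth.Statements.S8871
import Groth.Agent.Lib.Helper67.Depth
import Groth.Agent.Lib.Helper64.FinTypeStalk
import Groth.Agent.Lib.Helper29.AssNoeth
import Groth.Agent.Lib.Helper29.QCohPush

set_option autoImplicit false
universe u
open CategoryTheory CategoryTheory.Limits AlgebraicGeometry TopologicalSpace
open SDiv

namespace Groth.Agent.S8871

open Groth.Agent.Lib.Helper67
open Groth.Agent.Lib.Helper29.QCohLoc

theorem s1_iff {R : Type u} [CommRing R] [IsNoetherianRing R] [IsLocalRing R] (N : Type u)
    [AddCommGroup N] [Module R N] [Module.Finite R N] :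
    min (1 : WithBot ℕ∞) (Module.supportDim R N) ≤ ((LocCoh.depth R N : ℕ∞) : WithBot ℕ∞) ↔
      (IsLocalRing.maximalIdeal R ∈ associatedPrimes R N →
        ∀ q ∈ Module.support R N, q = IsLocalRing.closedPoint R) := by
  by_cases h : IsLocalRing.maximalIdeal R ∈ associatedPrimes R N
  · have hd : LocCoh.depth R N = 0 := (depth_eq_zero_iff N).mpr h
    have hnt : Nontrivial N := by
      by_contra hcon
      rw [not_nontrivial_iff_subsingleton] at hcon
      rw [associatedPrimes.eq_empty_of_subsingleton] at h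
      exact h
    rw [hd]
    simp only [h, true_imp_iff]
    have h10 : ¬ (1 : WithBot ℕ∞) ≤ ((0 : ℕ∞) : WithBot ℕ∞) := by
      rw [WithBot.coe_zero]
      exact not_le_of_gt zero_lt_one
    rw [min_le_iff]
    constructor
    · rintro (h1 | h1)
      · exact absurd h1 h10
      · intro q hq
        by_contra hne
        have hcl : IsLocalRing.closedPoint R ∈ Module.support R N :=
          IsLocalRing.closedPoint_mem_support R N
        have hlt : (⟨q, hq⟩ : Module.support R N) < ⟨IsLocalRing.closedPoint R, hcl⟩ := by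
          refine lt_of_le_of_ne ?_ (fun e => hne (congrArg Subtype.val e))
          exact IsLocalRing.le_maximalIdeal q.2.ne_top
        have hpos : 0 < Module.supportDim R N := by
          unfold Module.supportDim
          rw [Order.krullDim_pos_iff]
          exact ⟨_, _, hlt⟩
        exact absurd h1 (not_le_of_gt hpos)
    · intro hall
      right
      by_contra hcon
      rw [not_le] at hcon
      unfold Module.supportDim at hcon
      obtain ⟨a, b, hab⟩ := Order.krullDim_pos_iff.mp hcon
      have ha := hall a.1 a.2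
      have hb := hall b.1 b.2
      have : a = b := Subtype.ext (ha.trans hb.symm)
      exact absurd hab (this ▸ lt_irrefl _)
  · have hd : LocCoh.depth R N ≠ 0 := fun e => h ((depth_eq_zero_iff N).mp e)
    simp only [h, false_imp_iff, iff_true]
    have h1 : (1 : ℕ∞) ≤ LocCoh.depth R N := Order.one_le_iff_ne_zero.mpr hd
    refine (min_le_left _ _).trans ?_
    exact_mod_cast h1

section geom

variable {X : Scheme.{u}} (F : X.Modules) {U : X.Opens} (hU : IsAffineOpen U) (hF : LocAt F U)

theorem germ_mem_maximalIdeal_iff (x : X) (hx : x ∈ U) (a : Γ(X, U)) :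
    X.presheaf.germ U x hx a ∈ IsLocalRing.maximalIdeal (X.presheaf.stalk x) ↔
      a ∈ (hU.primeIdealOf ⟨x, hx⟩).asIdeal := by
  rw [mem_primeIdealOf_iff, Scheme.mem_basicOpen X a x hx, IsLocalRing.mem_maximalIdeal,
    mem_nonunits_iff]

include hU hF in
/-- a proper generisation which is the point of the annihilator of a section gives a point of the
support of the stalk other than the closed point -/
theorem exists_support_ne_closedPoint (x y : X) (hx : x ∈ U) (hy : y ∈ U) (hyx : y ⤳ x)
    (hne : y ≠ x) (s : Γ(F, U)) (hs : ann F s = (hU.primeIdealOf ⟨y, hy⟩).asIdeal) :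
    ∃ q ∈ Module.support (X.presheaf.stalk x) (F.presheaf.stalk x),
      q ≠ IsLocalRing.closedPoint (X.presheaf.stalk x) := by
  let _ := X.presheaf.algebra_section_stalk ⟨x, hx⟩
  have hloc := hU.isLocalization_stalk ⟨x, hx⟩
  have hle := primeIdealOf_le_of_specializes hU hx hy hyx
  have hdisj : Disjoint ((hU.primeIdealOf ⟨x, hx⟩).asIdeal.primeCompl : Set Γ(X, U))
      ((hU.primeIdealOf ⟨y, hy⟩).asIdeal : Set Γ(X, U)) := by
    rw [Set.disjoint_left]
    intro a ha hay
    exact ha (hle hay)
  have hprime : (Ideal.map (algebraMap Γ(X, U) (X.presheaf.stalk x))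
      (hU.primeIdealOf ⟨y, hy⟩).asIdeal).IsPrime :=
    IsLocalization.isPrime_of_isPrime_disjoint (hU.primeIdealOf ⟨x, hx⟩).asIdeal.primeCompl
      (X.presheaf.stalk x) _ (hU.primeIdealOf ⟨y, hy⟩).isPrime hdisj
  have hcomap : Ideal.comap (algebraMap Γ(X, U) (X.presheaf.stalk x))
      (Ideal.map (algebraMap Γ(X, U) (X.presheaf.stalk x)) (hU.primeIdealOf ⟨y, hy⟩).asIdeal) =
        (hU.primeIdealOf ⟨y, hy⟩).asIdeal :=
    IsLocalization.under_map_of_isPrime_disjoint (hU.primeIdealOf ⟨x, hx⟩).asIdeal.primeCompl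
      (X.presheaf.stalk x) (hU.primeIdealOf ⟨y, hy⟩).isPrime hdisj
  refine ⟨⟨_, hprime⟩, ?_, ?_⟩
  · rw [Module.mem_support_iff_exists_annihilator]
    refine ⟨F.presheaf.germ U x hx s, ?_⟩
    intro r hr
    rw [Submodule.mem_annihilator_span_singleton] at hr
    have := (smul_germ_eq_zero_iff F hU hF x hx s r).mp hr
    rw [hs] at this
    exact this
  · intro e
    apply hne
    have e' : Ideal.map (algebraMap Γ(X, U) (X.presheaf.stalk x))
        (hU.primeIdealOf ⟨y, hy⟩).asIdeal = IsLocalRing.maximalIdeal (X.presheaf.stalk x) :=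
      congrArg PrimeSpectrum.asIdeal e
    have hle' : (hU.primeIdealOf ⟨x, hx⟩).asIdeal ≤ (hU.primeIdealOf ⟨y, hy⟩).asIdeal := by
      intro a ha
      rw [← hcomap, Ideal.mem_comap, e']
      exact (germ_mem_maximalIdeal_iff hU x hx a).mpr ha
    exact primeIdealOf_injective hU hy hx (PrimeSpectrum.ext (le_antisymm hle hle'))

include hU hF in
/-- a point of the support of the stalk other than the closed point gives an associated point
which is a proper generisation -/
theorem exists_isAssPoint_of_support_ne_closedPoint (x : X) (hx : x ∈ U)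
    (q : PrimeSpectrum (X.presheaf.stalk x))
    (hq : q ∈ Module.support (X.presheaf.stalk x) (F.presheaf.stalk x))
    (hne : q ≠ IsLocalRing.closedPoint (X.presheaf.stalk x)) :
    ∃ y : X, Curv2.IsAssPoint F y ∧ y ⤳ x ∧ y ≠ x := by
  let _ := X.presheaf.algebra_section_stalk ⟨x, hx⟩
  have hloc := hU.isLocalization_stalk ⟨x, hx⟩
  obtain ⟨z, hz⟩ := Module.mem_support_iff_exists_annihilator.mp hq
  obtain ⟨a, s, hxa, hs⟩ := exists_germ_eq_smul F hU hF x hx z
  have hau : IsUnit (X.presheaf.germ U x hx a) := (Scheme.mem_basicOpen X a x hx).mp hxa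
  have hqprime : q.asIdeal.IsPrime := q.2
  let q' : Ideal Γ(X, U) := Ideal.comap (X.presheaf.germ U x hx).hom q.asIdeal
  have hq'prime : q'.IsPrime := Ideal.comap_isPrime _ _
  have hannle : ann F s ≤ q' := by
    intro b hb
    rw [mem_ann] at hb
    have h1 : (X.presheaf.germ U x hx b * X.presheaf.germ U x hx a) • z = 0 := by
      rw [mul_smul, ← hs, ← germ_smul, hb, map_zero]
    have h2 : X.presheaf.germ U x hx b * X.presheaf.germ U x hx a ∈ q.asIdeal :=
      hz ((Submodule.mem_annihilator_span_singleton _ _).mpr h1)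
    rcases hqprime.mem_or_mem h2 with h3 | h3
    · exact h3
    · exact absurd (Ideal.eq_top_of_isUnit_mem _ h3 hau) hqprime.ne_top
  have hq'le : q' ≤ (hU.primeIdealOf ⟨x, hx⟩).asIdeal := by
    intro b hb
    exact (germ_mem_maximalIdeal_iff hU x hx b).mp (IsLocalRing.le_maximalIdeal hqprime.ne_top hb)
  obtain ⟨y, hy, hyAss, -, hyq'⟩ := exists_isAssPoint_le F hU hF s q' hannle
  refine ⟨y, hyAss, specializes_of_primeIdealOf_le hU hx hy (hyq'.trans hq'le), ?_⟩
  rintro rfl
  apply hne
  apply PrimeSpectrum.ext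
  refine le_antisymm (IsLocalRing.le_maximalIdeal hqprime.ne_top) ?_
  intro r hr
  obtain ⟨⟨b, c⟩, hbc⟩ := IsLocalization.surj (hU.primeIdealOf ⟨y, hx⟩).asIdeal.primeCompl r
  have hbc' : r * X.presheaf.germ U y hx c.1 = X.presheaf.germ U y hx b := hbc
  have hcu : IsUnit (X.presheaf.germ U y hx c.1) :=
    IsLocalization.map_units (X.presheaf.stalk y) c
  have hb1 : X.presheaf.germ U y hx b ∈ IsLocalRing.maximalIdeal (X.presheaf.stalk y) := by
    rw [← hbc']
    exact Ideal.mul_mem_right _ _ hr
  have hb2 : b ∈ q' := hyq' ((germ_mem_maximalIdeal_iff hU y hx b).mp hb1)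
  have hb3 : r * X.presheaf.germ U y hx c.1 ∈ q.asIdeal := by
    rw [hbc']
    exact hb2
  rcases hqprime.mem_or_mem hb3 with h3 | h3
  · exact h3
  · exact absurd (Ideal.eq_top_of_isUnit_mem _ h3 hcu) hqprime.ne_top

end geom


/-- Let X be a locally Noetherian scheme and F a coherent O_X-module. Then F has no embedded associated
points (every associated point of F is maximal among the associated points of F under
specialization) if and only if F has property (S_1): for every point x, depth F_x ≥ min(1, dim Supp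
F_x), where dim Supp F_x is the Krull dimension of the support of the O_{X,x}-module F_x (for F_x =
0 the depth is infinite and the support empty, so the condition holds). -/
theorem result (X : Scheme.{u}) [IsLocallyNoetherian X] (F : X.Modules) (hF : Coh.IsCoh F) :
    (∀ x : ↥X, Curv2.IsAssPoint F x → ∀ y : ↥X, Curv2.IsAssPoint F y → y ⤳ x → y = x) ↔
      ∀ x : ↥X, min (1 : WithBot ℕ∞) (Module.supportDim ↑(X.presheaf.stalk x) ↑(F.presheaf.stalk x)) ≤
        ((LocCoh.depth (X.presheaf.stalk x) (F.presheaf.stalk x) : ℕ∞) : WithBot ℕ∞) := by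
  have hqc : F.IsQuasicoherent := hF.1
  have hfin : ∀ x : X, Module.Finite (X.presheaf.stalk x) (F.presheaf.stalk x) :=
    fun x => Groth.Agent.Lib.Helper64.FinTypeStalk.finite_stalk F hF.2 x
  have haff : ∀ x : X, ∃ U : X.Opens, IsAffineOpen U ∧ x ∈ U := by
    intro x
    obtain ⟨U, hU, hxU, -⟩ := TopologicalSpace.Opens.isBasis_iff_nbhd.mp X.isBasis_affineOpens
      (show x ∈ (⊤ : X.Opens) from trivial)
    exact ⟨U, hU, hxU⟩
  constructor
  · intro hNE x
    have := hfin x
    rw [s1_iff]
    intro hxAss q hq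
    by_contra hne
    obtain ⟨U, hU, hxU⟩ := haff x
    obtain ⟨y, hyAss, hyx, hyne⟩ := exists_isAssPoint_of_support_ne_closedPoint F hU
      (LocAt.of_isQuasicoherent F hU) x hxU q hq hne
    exact hyne (hNE x hxAss y hyAss hyx)
  · intro hS1 x hxAss y hyAss hyx
    by_contra hne
    have := hfin x
    have h1 := (s1_iff (F.presheaf.stalk x)).mp (hS1 x) hxAss
    obtain ⟨U, hU, hxU⟩ := haff x
    have hyU : y ∈ U := hyx.mem_open U.isOpen hxU
    have hloc := LocAt.of_isQuasicoherent F hU
    obtain ⟨s, hs⟩ := exists_section_ann_eq F hU hloc y hyU hyAss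
    obtain ⟨q, hq, hqne⟩ := exists_support_ne_closedPoint F hU hloc x y hxU hyU hyx hne s hs
    exact hqne (h1 q hq)

end Groth.Agent.S8871
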