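import Groth.Statements.S8873
import Groth.Agent.Lib.Helper2.FinPresAff
import Groth.Agent.Lib.Helper2.FittPullback

set_option autoImplicit false
universe u
open CategoryTheory CategoryTheory.Limits AlgebraicGeometry TopologicalSpace
open SDiv

namespace Groth.Agent.S8873

/-- Let S be a scheme and F a finitely presented O_S-module. Then for every r the Fitting ideal sheaf
Fit_r(F) is of finite type: its ideal of sections over every affine open is finitely generated. -/
theorem result (S : Scheme.{u}) (F : S.Modules) (hF : CohB1.IsFP F) (r : ℕ) :
    BlowUp.IsFiniteTypeIdeal (Fitt.sheafIdeal F r) := by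
  have : SheafOfModules.IsFinitePresentation (R := S.ringCatSheaf) F := hF
  have hq : F.IsQuasicoherent :=
    SheafOfModules.QuasicoherentData.isQuasicoherent (R := S.ringCatSheaf) (M := F)
      (SheafOfModules.IsFinitePresentation.exists_quasicoherentData
        (R := S.ringCatSheaf) F).choose
  have hfp : ∀ U : S.affineOpens, Module.FinitePresentation Γ(S, U.1) Γ(F, U.1) :=
    fun U => Groth.Agent.Lib.Helper2.FinTypeAff.finitePresentation_sections F U.2
  intro U
  have := hfp U
  rw [Groth.Agent.Lib.Helper2.FittSheaf.sheafIdeal_ideal' F (fun V => by
    have := hfp V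
    infer_instance) r U]
  exact Groth.Agent.Lib.Helper75.Fitting.fitt_fg r

end Groth.Agent.S8873
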