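import Groth.Statements.S8874
import Groth.Agent.Lib.Helper2.FreeModAff
import Groth.Agent.Lib.Helper2.FittPullback
import Groth.Agent.Lib.Lead.QCohAff3

set_option autoImplicit false
universe u
open CategoryTheory CategoryTheory.Limits AlgebraicGeometry TopologicalSpace
open SDiv

namespace Groth.Agent.S8874

set_option linter.style.haveILetI false

open Groth.Agent.Lib.Helper2.FinTypeAff Groth.Agent.Lib.Helper2.FittSheaf
  Groth.Agent.Lib.Helper75.Fitting Groth.Agent.Lib.Lead.QCohAff
  Groth.Agent.Lib.Helper2.FreeModAff Groth.Agent.Lib.Helper21.RelFPSch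

section helpers

/-- membership in the zero locus of an ideal in terms of the prime ideal of the point -/
theorem mem_zeroLocus_iff_le {X : Scheme.{u}} {U : X.Opens} (hU : IsAffineOpen U) (x : X)
    (hx : x ∈ U) (I : Ideal Γ(X, U)) :
    x ∈ X.zeroLocus (U := U) (I : Set Γ(X, U)) ↔ I ≤ (hU.primeIdealOf ⟨x, hx⟩).asIdeal := by
  rw [Scheme.mem_zeroLocus_iff]
  constructor
  · intro h f hf
    by_contra hc
    exact h f hf ((mem_basicOpen_iff_notMem_primeIdealOf hU x hx f).2 hc)
  · intro h f hf hxf
    exact (mem_basicOpen_iff_notMem_primeIdealOf hU x hx f).1 hxf (h hf)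

/-- If some Fitting determinant `d` is given, then over `D(d)` the module is generated by `k`
sections. -/
theorem exists_generators_basicOpen {X : Scheme.{u}} (F : X.Modules) [F.IsQuasicoherent]
    {U : X.Opens} (hU : IsAffineOpen U) (k n : ℕ) (x : Fin n → Γ(F, U))
    (a : Matrix (Fin n) (Fin n) Γ(X, U))
    (hx : Submodule.span Γ(X, U) (Set.range x) = ⊤)
    (ha : ∀ i : Fin n, (i : ℕ) < n - k → ∑ j, a i j • x j = 0) :
    ∃ g : Fin k → Γ(F, X.basicOpen a.det),
      Submodule.span Γ(X, X.basicOpen a.det) (Set.range g) = ⊤ := by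
  set d := a.det with hd
  letI : Module Γ(X, U) Γ(F, X.basicOpen d) :=
    Module.compHom _ (resRing X (X.basicOpen_le d))
  haveI : IsScalarTower Γ(X, U) Γ(X, X.basicOpen d) Γ(F, X.basicOpen d) :=
    IsScalarTower.of_algebraMap_smul fun _ _ => rfl
  haveI := hU.isLocalization_basicOpen d
  haveI := isLocalizedModule_resL F hU d
  let ρ := resL F (X.basicOpen_le d)
  let φ : Γ(X, U) →+* Γ(X, X.basicOpen d) := algebraMap _ _
  have h1 : Submodule.span Γ(X, X.basicOpen d) (Set.range (ρ ∘ x)) = ⊤ := by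
    rw [Set.range_comp]
    exact span_eq_top_of_isLocalizedModule Γ(X, X.basicOpen d) (Submonoid.powers d) ρ hx
  have h2 : ∀ i : Fin n, (i : ℕ) < n - k → ∑ j, (φ.mapMatrix a) i j • (ρ ∘ x) j = 0 := by
    intro i hi
    have := congrArg ρ (ha i hi)
    rw [map_sum, map_zero] at this
    rw [← this]
    refine Finset.sum_congr rfl (fun j _ => ?_)
    rw [LinearMap.map_smul]
    rfl
  have h3 : IsUnit (φ.mapMatrix a).det := by
    rw [← RingHom.map_det]
    exact IsLocalization.Away.algebraMap_isUnit d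
  exact exists_fin_generating_of_isUnit_det (ρ ∘ x) h1 k (φ.mapMatrix a) h2 h3

end helpers


/-- Let S be a scheme, F a quasi-coherent O_S-module of finite type, s a point of S and r a natural
number. Then F can be generated by r sections over some open neighbourhood of s if and only if the
r-th Fitting ideal of F is the unit ideal at s, i.e. s does not lie in the closed subset cut out by
Fit_r(F). -/
theorem result (S : Scheme.{u}) (F : S.Modules) (hF : Coh.IsQCoh F) (hft : CohB1.IsFT F)
    (s : ↥S) (r : ℕ) :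
    (∃ U : S.Opens, s ∈ U ∧ ∃ π : FlatMod.freeMod (↑U) r ⟶ F.restrict U.ι, Epi π) ↔
      s ∉ (Fitt.sheafIdeal F r).support := by
  have : F.IsQuasicoherent := hF
  have : SheafOfModules.IsFiniteType (R := S.ringCatSheaf) F := hft
  constructor
  · rintro ⟨U, hsU, hπ⟩
    obtain ⟨_, ⟨W, hW, rfl⟩, hsW, hWU⟩ :=
      S.isBasis_affineOpens.exists_subset_of_mem_open hsU U.isOpen
    have hπ' := exists_epi_freeMod_of_le F (show W ≤ U from hWU) r hπ
    obtain ⟨g, hg⟩ := (exists_epi_freeMod_iff F hW r).1 hπ'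
    have := finite_sections F hW
    rw [Scheme.IdealSheafData.mem_support_iff_of_mem (U := ⟨W, hW⟩) hsW, sheafIdeal_ideal,
      fitt_eq_top g hg]
    simpa using hsW
  · intro hs
    obtain ⟨_, ⟨U, hU, rfl⟩, hsU, -⟩ :=
      S.isBasis_affineOpens.exists_subset_of_mem_open (Set.mem_univ s) isOpen_univ
    have := finite_sections F hU
    rw [Scheme.IdealSheafData.mem_support_iff_of_mem (U := ⟨U, hU⟩) hsU, sheafIdeal_ideal,
      mem_zeroLocus_iff_le hU s hsU] at hs
    -- some Fitting determinant is outside the prime of `s`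
    have : ∃ (n : ℕ) (x : Fin n → Γ(F, U)) (a : Matrix (Fin n) (Fin n) Γ(S, U)),
        Submodule.span Γ(S, U) (Set.range x) = ⊤ ∧
        (∀ i : Fin n, (i : ℕ) < n - r → ∑ j, a i j • x j = 0) ∧
        a.det ∉ (hU.primeIdealOf ⟨s, hsU⟩).asIdeal := by
      by_contra hcon
      push Not at hcon
      apply hs
      apply Ideal.span_le.mpr
      rintro d ⟨n, x, a, hx, ha, rfl⟩
      exact hcon n x a hx ha
    obtain ⟨n, x, a, hx, ha, hdet⟩ := this
    obtain ⟨g, hg⟩ := exists_generators_basicOpen F hU r n x a hx ha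
    refine ⟨S.basicOpen a.det, (mem_basicOpen_iff_notMem_primeIdealOf hU s hsU _).2 hdet, ?_⟩
    exact (exists_epi_freeMod_iff F (hU.basicOpen a.det) r).2 ⟨g, hg⟩

end Groth.Agent.S8874
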