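import Groth.Statements.S8876
import Groth.Agent.Lib.Helper2.FittSheaf
import Groth.Agent.Lib.Lead.QCohAff3

set_option autoImplicit false
universe u
open CategoryTheory CategoryTheory.Limits AlgebraicGeometry TopologicalSpace
open SDiv

namespace Groth.Agent.S8876

open Groth.Agent.Lib.Helper2.FinTypeAff Groth.Agent.Lib.Helper2.FittSheaf
  Groth.Agent.Lib.Helper75.Fitting Groth.Agent.Lib.Lead.QCohAff

section helpers

/-- membership in the zero locus of an ideal in terms of the prime ideal of the point -/
theorem mem_zeroLocus_iff_le {X : Scheme.{u}} {U : X.Opens} (hU : IsAffineOpen U) (x : X)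
    (hx : x ∈ U) (I : Ideal Γ(X, U)) :
    x ∈ X.zeroLocus (U := U) (I : Set Γ(X, U)) ↔
      hU.primeIdealOf ⟨x, hx⟩ ∈ PrimeSpectrum.zeroLocus (I : Set Γ(X, U)) := by
  rw [Scheme.mem_zeroLocus_iff, PrimeSpectrum.mem_zeroLocus]
  constructor
  · intro h f hf
    by_contra hc
    exact h f hf ((mem_basicOpen_iff_notMem_primeIdealOf hU x hx f).2 hc)
  · intro h f hf hxf
    exact (mem_basicOpen_iff_notMem_primeIdealOf hU x hx f).1 hxf (h hf)

end helpers


/-- Let S be a scheme and F a quasi-coherent O_S-module of finite type. Then the closed subset of S cut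
out by Fit_0(F) equals the support of F (the scheme-theoretic support and the Fit_0 subscheme have
the same underlying set). -/
theorem result (S : Scheme.{u}) (F : S.Modules) (hF : Coh.IsQCoh F) (hft : CohB1.IsFT F) :
    ((Fitt.sheafIdeal F 0).support : Set ↥S) = CohB1.support F := by
  have : F.IsQuasicoherent := hF
  have : SheafOfModules.IsFiniteType (R := S.ringCatSheaf) F := hft
  ext s
  obtain ⟨_, ⟨U, hU, rfl⟩, hsU, -⟩ :=
    S.isBasis_affineOpens.exists_subset_of_mem_open (Set.mem_univ s) isOpen_univ
  have := finite_sections F hU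
  change s ∈ (Fitt.sheafIdeal F 0).support ↔ ¬ Subsingleton (F.presheaf.stalk s)
  rw [Scheme.IdealSheafData.mem_support_iff_of_mem (U := ⟨U, hU⟩) hsU, sheafIdeal_ideal,
    mem_zeroLocus_iff_le hU s hsU, zeroLocus_fitt_zero, primeIdealOf_mem_support_iff F hU s hsU]

end Groth.Agent.S8876
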