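import Groth.Statements.S8877
import Groth.Agent.Lib.Helper2.FittSheaf

set_option autoImplicit false
universe u
open CategoryTheory CategoryTheory.Limits AlgebraicGeometry TopologicalSpace
open SDiv

namespace Groth.Agent.S8877

/-- Let S be a scheme and F a quasi-coherent O_S-module of finite type, and let Z_r ⊆ S be the closed
subset cut out by the r-th Fitting ideal of F. Then the intersection of all the Z_r is empty. -/
theorem result (S : Scheme.{u}) (F : S.Modules) (hF : Coh.IsQCoh F) (hft : CohB1.IsFT F)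
    (s : ↥S) : ∃ r : ℕ, s ∉ (Fitt.sheafIdeal F r).support := by
  have : F.IsQuasicoherent := hF
  have : SheafOfModules.IsFiniteType (R := S.ringCatSheaf) F := hft
  obtain ⟨_, ⟨U, hU, rfl⟩, hsU, -⟩ :=
    S.isBasis_affineOpens.exists_subset_of_mem_open (Set.mem_univ s) isOpen_univ
  have := Groth.Agent.Lib.Helper2.FinTypeAff.finite_sections F hU
  obtain ⟨n, x, hx⟩ := Module.Finite.exists_fin (R := Γ(S, U)) (M := Γ(F, U))
  refine ⟨n, ?_⟩
  rw [Scheme.IdealSheafData.mem_support_iff_of_mem (U := ⟨U, hU⟩) hsU,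
    Groth.Agent.Lib.Helper2.FittSheaf.sheafIdeal_ideal,
    Groth.Agent.Lib.Helper75.Fitting.fitt_eq_top x hx]
  simpa using hsU

end Groth.Agent.S8877
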