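import Groth.Statements.S8882
import Groth.Agent.Lib.Helper2.HomGlue
import Mathlib.Algebra.CharP.Lemmas

set_option autoImplicit false
universe u
open CategoryTheory CategoryTheory.Limits AlgebraicGeometry TopologicalSpace
open SDiv

namespace Groth.Agent.S8882

open Opposite Groth.Agent.Lib.Helper2.HomGlue Groth.Agent.Lib.Lead.SheafGlue

section Ring

variable {A B : Type*} [CommRing A] [CommRing B] (φ : A →+* B) (hφ : Function.Surjective φ)
  (p e : ℕ)

/-- the `p^e`-th power of a lift -/
noncomputable def frobLift (b : B) : A := (Function.surjInv hφ b) ^ (p ^ e)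

variable (hp : p.Prime) (hpA : (p : A) = 0) (hker : ∀ a ∈ RingHom.ker φ, a ^ (p ^ e) = 0)

include hp hpA hker in
theorem frobLift_apply (a : A) : frobLift φ hφ p e (φ a) = a ^ (p ^ e) := by
  unfold frobLift
  set a' := Function.surjInv hφ (φ a) with ha'
  have h1 : φ a' = φ a := Function.surjInv_eq hφ (φ a)
  have h2 : a' - a ∈ RingHom.ker φ := by
    rw [RingHom.mem_ker, map_sub, h1, sub_self]
  have h3 : a' = a + (a' - a) := by ring
  obtain ⟨r, hr⟩ := exists_add_pow_prime_pow_eq hp a (a' - a) e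
  rw [h3, hr, hker _ h2, hpA]
  ring

include hp hpA hker in
theorem frobLift_mul (b c : B) :
    frobLift φ hφ p e (b * c) = frobLift φ hφ p e b * frobLift φ hφ p e c := by
  obtain ⟨b', rfl⟩ := hφ b
  obtain ⟨c', rfl⟩ := hφ c
  rw [← map_mul, frobLift_apply φ hφ p e hp hpA hker, frobLift_apply φ hφ p e hp hpA hker,
    frobLift_apply φ hφ p e hp hpA hker, mul_pow]

include hp hpA hker in
theorem frobLift_one : frobLift φ hφ p e 1 = 1 := by
  rw [← map_one φ, frobLift_apply φ hφ p e hp hpA hker, one_pow]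

/-- a uniform nilpotency bound passes to localisations -/
theorem nil_bound_away {R S : Type*} [CommRing R] [CommRing S] [Algebra R S] (f : R)
    [IsLocalization.Away f S] (k : ℕ) (hR : ∀ n : R, IsNilpotent n → n ^ k = 0)
    (n : S) (hn : IsNilpotent n) : n ^ k = 0 := by
  obtain ⟨x, s, rfl⟩ := IsLocalization.exists_mk'_eq (Submonoid.powers f) n
  obtain ⟨N, hN⟩ := hn
  rw [← IsLocalization.mk'_pow, IsLocalization.mk'_eq_zero_iff] at hN
  obtain ⟨⟨_, b, rfl⟩, hb⟩ := hN
  have hfx : IsNilpotent (f * x) := by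
    refine ⟨b + N, ?_⟩
    have : (f * x) ^ (b + N) = f ^ N * x ^ b * (f ^ b * x ^ N) := by ring
    rw [this, hb, mul_zero]
  have h1 := hR _ hfx
  rw [← IsLocalization.mk'_pow, IsLocalization.mk'_eq_zero_iff]
  refine ⟨⟨f ^ k, k, rfl⟩, ?_⟩
  rw [← mul_pow]
  exact h1

end Ring

section Sch

variable (X : Scheme.{u})

theorem isNilpotent_of_mem_ker {W : X.Opens} (hW : IsAffineOpen W) (a : Γ(X, W))
    (ha : a ∈ RingHom.ker (X.nilradical.subschemeι.app W).hom) : IsNilpotent a := by
  have h1 := X.nilradical.ker_subschemeι_app ⟨W, hW⟩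
  change RingHom.ker (X.nilradical.subschemeι.app W).hom = _ at h1
  rw [h1] at ha
  have h2 : X.nilradical.ideal ⟨W, hW⟩ = nilradical Γ(X, W) := by
    change (Scheme.IdealSheafData.radical ⊥).ideal ⟨W, hW⟩ = _
    rw [Scheme.IdealSheafData.radical_ideal, Scheme.IdealSheafData.ideal_bot]
    rfl
  rw [h2] at ha
  exact mem_nilradical.1 ha

/-- uniform nilpotency exponent on a basis of affine opens of a Noetherian scheme -/
theorem exists_bound [IsNoetherian X] : ∃ k : ℕ, ∀ (U : X.Opens) (x : X), x ∈ U →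
    ∃ W : X.Opens, IsAffineOpen W ∧ (∀ n : Γ(X, W), IsNilpotent n → n ^ k = 0) ∧ x ∈ W ∧ W ≤ U := by
  classical
  have hk : ∀ V : X.affineOpens, ∃ k : ℕ, ∀ n : Γ(X, V.1), IsNilpotent n → n ^ k = 0 := by
    intro V
    haveI : IsNoetherianRing Γ(X, V.1) := IsLocallyNoetherian.component_noetherian V
    obtain ⟨k, hk⟩ := IsNoetherianRing.isNilpotent_nilradical Γ(X, V.1)
    refine ⟨k, fun n hn => ?_⟩
    have : n ^ k ∈ nilradical Γ(X, V.1) ^ k := Ideal.pow_mem_pow (mem_nilradical.2 hn) k
    rw [hk] at this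
    exact this
  choose kf hkf using hk
  obtain ⟨t, ht⟩ := isCompact_univ.elim_finite_subcover (fun V : X.affineOpens => (V.1 : Set X))
    (fun V => V.1.2) (by
      intro x _
      obtain ⟨_, ⟨V, hV : IsAffineOpen V, rfl⟩, hxV, -⟩ :=
        (X.isBasis_affineOpens).exists_subset_of_mem_open (Set.mem_univ x) isOpen_univ
      exact Set.mem_iUnion.2 ⟨⟨V, hV⟩, hxV⟩)
  refine ⟨t.sup kf, fun U x hxU => ?_⟩
  obtain ⟨V, hVt, hxV⟩ : ∃ V ∈ t, x ∈ V.1 := by
    have := ht (Set.mem_univ x)
    simp only [Set.mem_iUnion] at this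
    obtain ⟨V, hV, hx⟩ := this
    exact ⟨V, hV, hx⟩
  obtain ⟨f, hfU, hxf⟩ := V.2.exists_basicOpen_le (V := U) ⟨x, hxU⟩ hxV
  refine ⟨X.basicOpen f, V.2.basicOpen f, ?_, hxf, hfU⟩
  haveI := V.2.isLocalization_basicOpen f
  refine nil_bound_away f (t.sup kf) (fun n hn => ?_)
  have hle : kf V ≤ t.sup kf := Finset.le_sup hVt
  rw [← Nat.sub_add_cancel hle, pow_add, hkf V n hn, mul_zero]

end Sch

section Main

/-- the reduction -/
noncomputable abbrev Zr (X : Scheme.{u}) : Scheme.{u} := X.nilradical.subscheme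

/-- the closed immersion of the reduction -/
noncomputable abbrev ιr (X : Scheme.{u}) : Zr X ⟶ X := X.nilradical.subschemeι


/-- Let X be a Noetherian scheme on which a prime number p is zero (p·O_X = 0). Then the closed
immersion X_red ⟶ X cut out by the nilradical carries a norm whose degree is p^e for some e > 0. -/
theorem result (X : Scheme.{u}) [IsNoetherian X] (p : ℕ) (hp : p.Prime)
    (hpX : (p : Γ(X, ⊤)) = 0) : ∃ e : ℕ, 0 < e ∧ Nrm.HasNorm X.nilradical.subschemeι (p ^ e) := by
  classical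
  obtain ⟨k, hk⟩ := exists_bound X
  have hke : k ≤ p ^ (k + 1) := by
    have h1 : k < 2 ^ k := Nat.lt_two_pow_self
    have h2 : 2 ^ k ≤ p ^ k := Nat.pow_le_pow_left hp.two_le k
    have h3 : p ^ k ≤ p ^ (k + 1) := Nat.pow_le_pow_right hp.pos (Nat.le_succ k)
    omega
  refine ⟨k + 1, Nat.succ_pos k, ?_⟩
  generalize k + 1 = e at hke
  -- p = 0 on every open
  have hpU : ∀ U : X.Opens, (p : Γ(X, U)) = 0 := by
    intro U
    have := congrArg (X.presheaf.map (homOfLE (le_top : U ≤ ⊤)).op).hom hpX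
    rwa [map_natCast, map_zero] at this
  let good : X.Opens → Prop := fun W => IsAffineOpen W ∧ ∀ n : Γ(X, W), IsNilpotent n → n ^ (p ^ e) = 0
  have hbasis : ∀ (U : X.Opens) (x : X), x ∈ U → ∃ W, good W ∧ x ∈ W ∧ W ≤ U := by
    intro U x hx
    obtain ⟨W, hW, hWk, hxW, hWU⟩ := hk U x hx
    refine ⟨W, ⟨hW, fun n hn => ?_⟩, hxW, hWU⟩
    rw [← Nat.sub_add_cancel hke, pow_add, hWk n hn, mul_zero]
  have hsurj : ∀ W : X.Opens, good W → Function.Surjective ((ιr X).app W).hom := fun W hW =>
    X.nilradical.subschemeι_app_surjective ⟨W, hW.1⟩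
  have hker : ∀ (W : X.Opens) (hW : good W), ∀ a ∈ RingHom.ker ((ιr X).app W).hom, a ^ (p ^ e) = 0 :=
    fun W hW a ha => hW.2 a (isNilpotent_of_mem_ker X hW.1 a ha)
  let M : X.Modules := (Scheme.Modules.pushforward (ιr X)).obj (Coh.structureModule (Zr X))
  let t : ∀ W : X.Opens, good W → Γ(M, W) → Γ(Coh.structureModule X, W) := fun W hW a =>
    (show Γ(X, W) from frobLift ((ιr X).app W).hom (hsurj W hW) p e (show Γ((Zr X), (ιr X) ⁻¹ᵁ W) from a))
  have tapp : ∀ (W : X.Opens) (hW : good W) (a : Γ(X, W)),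
      t W hW (show Γ(M, W) from ((ιr X).app W).hom a) = (show Γ(X, W) from a ^ (p ^ e)) :=
    fun W hW a => frobLift_apply ((ιr X).app W).hom (hsurj W hW) p e hp (hpU W) (hker W hW) a
  have compat : ∀ (W W' : X.Opens) (hW : good W) (hW' : good W') (h : W' ≤ W) (a : Γ(M, W)),
      (Coh.structureModule X).presheaf.map (homOfLE h).op (t W hW a) =
        t W' hW' (M.presheaf.map (homOfLE h).op a) := by
    intro W W' hW hW' h a
    obtain ⟨a', rfl⟩ := hsurj W hW (show Γ(Zr X, ιr X ⁻¹ᵁ W) from a)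
    have h1 : M.presheaf.map (homOfLE h).op (show Γ(M, W) from ((ιr X).app W).hom a') =
        (show Γ(M, W') from ((ιr X).app W').hom ((X.presheaf.map (homOfLE h).op).hom a')) := by
      have := congr($((ιr X).naturality (homOfLE h).op) a')
      exact this.symm
    refine Eq.trans ?_ (congrArg (t W' hW') h1.symm)
    refine Eq.trans (congrArg ((Coh.structureModule X).presheaf.map (homOfLE h).op) (tapp W hW a')) ?_
    refine Eq.trans ?_ (tapp W' hW' _).symm
    change (X.presheaf.map (homOfLE h).op).hom (a' ^ (p ^ e)) = _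
    rw [map_pow]
  have tone : ∀ (W : X.Opens) (hW : good W), t W hW (show Γ(M, W) from (1 : Γ(Zr X, ιr X ⁻¹ᵁ W))) =
      (show Γ(X, W) from 1) :=
    fun W hW => frobLift_one ((ιr X).app W).hom (hsurj W hW) p e hp (hpU W) (hker W hW)
  have tmul : ∀ (W : X.Opens) (hW : good W) (a b : Γ(Zr X, ιr X ⁻¹ᵁ W)),
      t W hW (show Γ(M, W) from a * b) =
        (show Γ(X, W) from (show Γ(X, W) from t W hW (show Γ(M, W) from a)) *
          (show Γ(X, W) from t W hW (show Γ(M, W) from b))) :=
    fun W hW a b => frobLift_mul ((ιr X).app W).hom (hsurj W hW) p e hp (hpU W) (hker W hW) a b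
  let g : ∀ (U : X.Opens), Γ(Zr X, ιr X ⁻¹ᵁ U) → Γ(X, U) := fun U a =>
    (exists_isGlued (M := M) (N := Coh.structureModule X) (good := good) (t := t)
      hbasis compat U a).choose
  have hg : ∀ U a, IsGlued M (Coh.structureModule X) good t U a (g U a) := fun U a =>
    (exists_isGlued (M := M) (N := Coh.structureModule X) (good := good) (t := t)
      hbasis compat U a).choose_spec
  have hguniq : ∀ U a (s : Γ(X, U)),
      IsGlued M (Coh.structureModule X) good t U a s → s = g U a := fun U a s hs =>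
    IsGlued.unique hbasis hs (hg U a)
  have hgres : ∀ (U V : X.Opens) (h : V ≤ U) (a : Γ(Zr X, ιr X ⁻¹ᵁ U)),
      (X.presheaf.map (homOfLE h).op).hom (g U a) =
        g V (((Zr X).presheaf.map ((Opens.map (ιr X).base).map (homOfLE h)).op).hom a) := by
    intro U V h a
    refine hguniq V _ _ fun W hW hWV => ?_
    have h1 := hg U a W hW (hWV.trans h)
    have h2 : (X.presheaf.map (homOfLE hWV).op).hom ((X.presheaf.map (homOfLE h).op).hom (g U a)) =
        (X.presheaf.map (homOfLE (hWV.trans h)).op).hom (g U a) := by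
      rw [← CommRingCat.comp_apply, ← Functor.map_comp]
      rfl
    have h3 : M.presheaf.map (homOfLE hWV).op (show Γ(M, V) from
        ((Zr X).presheaf.map ((Opens.map (ιr X).base).map (homOfLE h)).op).hom a) =
        M.presheaf.map (homOfLE (hWV.trans h)).op (show Γ(M, U) from a) := by
      change ((Zr X).presheaf.map _).hom (((Zr X).presheaf.map _).hom a) = ((Zr X).presheaf.map _).hom a
      rw [← CommRingCat.comp_apply, ← Functor.map_comp]
      rfl
    refine h2.trans (h1.trans ?_)
    exact congrArg (t W hW) h3.symm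
  have hgone : ∀ U, g U 1 = 1 := by
    intro U
    refine (hguniq U _ _ fun W hW h => ?_).symm
    have h1 : (X.presheaf.map (homOfLE h).op).hom (1 : Γ(X, U)) = 1 := map_one _
    have h2 : M.presheaf.map (homOfLE h).op (show Γ(M, U) from (1 : Γ(Zr X, ιr X ⁻¹ᵁ U))) =
        (show Γ(M, W) from (1 : Γ(Zr X, ιr X ⁻¹ᵁ W))) :=
      map_one ((Zr X).presheaf.map ((Opens.map (ιr X).base).map (homOfLE h)).op).hom
    refine h1.trans ?_
    refine Eq.trans ?_ (congrArg (t W hW) h2.symm)
    exact (tone W hW).symm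
  have hgmul : ∀ U (a b : Γ(Zr X, ιr X ⁻¹ᵁ U)), g U (a * b) = g U a * g U b := by
    intro U a b
    refine (hguniq U _ _ fun W hW h => ?_).symm
    have h1 : (X.presheaf.map (homOfLE h).op).hom (g U a * g U b) =
        (X.presheaf.map (homOfLE h).op).hom (g U a) * (X.presheaf.map (homOfLE h).op).hom (g U b) :=
      map_mul _ _ _
    have h2 : M.presheaf.map (homOfLE h).op (show Γ(M, U) from a * b) =
        (show Γ(M, W) from
          ((Zr X).presheaf.map ((Opens.map (ιr X).base).map (homOfLE h)).op).hom a *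
          ((Zr X).presheaf.map ((Opens.map (ιr X).base).map (homOfLE h)).op).hom b) :=
      map_mul ((Zr X).presheaf.map ((Opens.map (ιr X).base).map (homOfLE h)).op).hom a b
    refine h1.trans ?_
    refine Eq.trans ?_ (congrArg (t W hW) h2.symm)
    have h3 := hg U a W hW h
    have h4 := hg U b W hW h
    refine Eq.trans (congrArg₂ (· * ·) h3 h4) ?_
    exact (tmul W hW _ _).symm
  have hgapp : ∀ (U : X.Opens) (b : Γ(X, U)), g U (((ιr X).app U).hom b) = b ^ (p ^ e) := by
    intro U b
    refine (hguniq U _ _ fun W hW h => ?_).symm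
    have h1 : M.presheaf.map (homOfLE h).op (show Γ(M, U) from ((ιr X).app U).hom b) =
        (show Γ(M, W) from ((ιr X).app W).hom ((X.presheaf.map (homOfLE h).op).hom b)) := by
      have := congr($((ιr X).naturality (homOfLE h).op) b)
      exact this.symm
    refine Eq.trans ?_ (congrArg (t W hW) h1.symm)
    refine Eq.trans ?_ (tapp W hW _).symm
    change (X.presheaf.map (homOfLE h).op).hom (b ^ (p ^ e)) = _
    rw [map_pow]
  refine ⟨{ one_le := Nat.one_le_pow _ _ hp.pos
            norm := fun U => ⟨⟨g U, hgone U⟩, hgmul U⟩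
            norm_res := ?_
            norm_app := ?_
            norm_mem := ?_ }⟩
  · intro U V i s
    have hi : i = homOfLE i.le := Subsingleton.elim _ _
    rw [hi]
    exact hgres U V i.le s
  · intro U b
    exact hgapp U b
  · intro U s x hx hs
    obtain ⟨W, hW, hxW, hWU⟩ := hbasis U ((ιr X) x) hx
    obtain ⟨a', ha'⟩ := hsurj W hW
      (((Zr X).presheaf.map ((Opens.map (ιr X).base).map (homOfLE hWU)).op).hom s)
    have h1 := hg U s W hW hWU
    have h2 : t W hW (M.presheaf.map (homOfLE hWU).op (show Γ(M, U) from s)) =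
        (show Γ(X, W) from a' ^ (p ^ e)) := by
      refine Eq.trans (congrArg (t W hW) ?_) (tapp W hW a')
      exact ha'.symm
    have h3 : (X.presheaf.map (homOfLE hWU).op).hom (g U s) = a' ^ (p ^ e) := h1.trans h2
    change X.presheaf.germ U ((ιr X) x) hx (g U s) ∈ _
    rw [← X.presheaf.germ_res_apply (homOfLE hWU) ((ιr X) x) hxW (g U s)]
    have h4 : X.presheaf.germ W ((ιr X) x) hxW ((X.presheaf.map (homOfLE hWU).op).hom (g U s)) =
        (X.presheaf.germ W ((ιr X) x) hxW a') ^ (p ^ e) := by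
      rw [h3, map_pow]
    refine h4 ▸ ?_
    have h5 : X.presheaf.germ W ((ιr X) x) hxW a' ∈
        IsLocalRing.maximalIdeal (X.presheaf.stalk ((ιr X) x)) := by
      rw [IsLocalRing.mem_maximalIdeal, ← map_mem_nonunits_iff ((ιr X).stalkMap x).hom,
        ← IsLocalRing.mem_maximalIdeal]
      have h6 := Scheme.Hom.germ_stalkMap_apply (ιr X) W x hxW a'
      rw [h6]
      have h7 : ((ιr X).app W).hom a' =
          ((Zr X).presheaf.map ((Opens.map (ιr X).base).map (homOfLE hWU)).op).hom s := ha'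
      rw [h7]
      have h8 := (Zr X).presheaf.germ_res_apply ((Opens.map (ιr X).base).map (homOfLE hWU)) x hxW s
      rw [h8]
      exact hs
    exact Ideal.pow_mem_of_mem _ h5 _ (Nat.pos_of_ne_zero (pow_ne_zero _ hp.ne_zero))

end Main

end Groth.Agent.S8882
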