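import Groth.Statements.S8889
import Groth.Agent.Lib.Helper29.QCohAssMore

set_option autoImplicit false
universe u
open CategoryTheory CategoryTheory.Limits AlgebraicGeometry TopologicalSpace
open SDiv

namespace Groth.Agent.S8889

open Groth.Agent.Lib.Helper29.QCohLoc

/-- Let X be a scheme and φ : F ⟶ G a morphism of quasi-coherent O_X-modules. Assume that for every
point x of X either the stalk map F_x → G_x is injective or x is not a weakly associated point of F.
Then φ is injective. -/
theorem result (X : Scheme.{u}) {F G : X.Modules} (φ : F ⟶ G) (hF : Coh.IsQCoh F)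
    (hG : Coh.IsQCoh G)
    (h : ∀ x : ↥X, Function.Injective ((TopCat.Presheaf.stalkFunctor AddCommGrpCat.{u} x).map (Scheme.Modules.Hom.mapPresheaf φ)) ∨ ¬ Curv2.IsWeakAssPoint F x) :
    Mono φ := by
  have : F.IsQuasicoherent := hF
  apply mono_of_app_injective
  intro U
  rw [injective_iff_map_eq_zero]
  intro s hs
  by_contra hs0
  obtain ⟨y, hy, hy1, hy2⟩ := exists_isWeakAssPoint_of_section_ne_zero F U s hs0
  rcases h y with hinj | hnot
  · apply hy2
    have hinj' : Function.Injective (Algz.stalkMapAb φ y) := hinj
    apply hinj'
    rw [stalkMapAb_germ, hs, map_zero, map_zero]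
  · exact hnot hy1

end Groth.Agent.S8889
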