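import Groth.Statements.S8893
import Mathlib.Tactic
import Groth.Agent.Lib.Helper43.QRFlat
import Groth.Agent.Lib.Helper43.SeqFlatBC
import Groth.Agent.Lib.Helper94.RegImmPt2
-- import your own Groth.Agent.* helpers here

set_option autoImplicit false
set_option linter.style.haveILetI false
universe u
open CategoryTheory CategoryTheory.Limits AlgebraicGeometry TopologicalSpace
open SDiv

namespace Groth.Agent.S8893

/-- Let f : X ⟶ S be a morphism of schemes and i : Z ⟶ X a relative quasi-regular immersion (a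
quasi-regular immersion with Z flat over S). If z is a point of Z such that O_{X, i z} is
Noetherian, then f is flat at i z. -/
theorem result {Z X S : Scheme.{u}} (f : X ⟶ S) (i : Z ⟶ X)
    (hi : RegImm.IsRelRegularImmersion RegImm.Kind.quasi f i) (z : ↥Z) [IsNoetherianRing ↑(X.presheaf.stalk (i z))] :
    (f.stalkMap (i z)).hom.Flat := by
  obtain ⟨⟨himm, hat⟩, hflat⟩ := hi
  haveI := himm
  haveI := hflat
  obtain ⟨⟨U, hU⟩, hzU, hcl, rs, hrs, hker⟩ := hat z
  change CAlgX.IsQuasiRegular rs.get at hrs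
  change i z ∈ U at hzU
  change RingHom.ker (i.app U).hom = Ideal.ofList rs at hker
  haveI : IsClosedImmersion (i ∣_ U) := hcl
  have hk := Groth.Agent.Lib.Helper94.RegImmPt2.ker_stalkMap_of_surjective i z U hU
    (Groth.Agent.Lib.Helper94.RegImmPt2.isAffineOpen_preimage_of_restrict i U hU) hzU
    (Groth.Agent.Lib.Helper94.RegImmPt2.app_surjective_of_restrict i U hU)
  rw [hker, Ideal.map_ofList] at hk
  have hgflat : (X.presheaf.germ U (i z) hzU).hom.Flat := by
    letI : Algebra Γ(X, U) (X.presheaf.stalk (i z)) :=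
      TopCat.Presheaf.algebra_section_stalk X.presheaf (⟨i z, hzU⟩ : U)
    haveI h1 : IsLocalization.AtPrime (X.presheaf.stalk (i z))
        (hU.primeIdealOf ⟨i z, hzU⟩).asIdeal := hU.isLocalization_stalk ⟨i z, hzU⟩
    change Module.Flat Γ(X, U) (X.presheaf.stalk (i z))
    exact IsLocalization.flat _ (hU.primeIdealOf ⟨i z, hzU⟩).asIdeal.primeCompl
  have hq : CAlgX.IsQuasiRegular (rs.map (X.presheaf.germ U (i z) hzU).hom).get := by
    rw [Groth.Agent.Lib.Helper43.SeqFlatBC.get_map_eq]
    exact Groth.Agent.Lib.Helper43.SeqFlatBC.quasi_cast _ _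
      (Groth.Agent.Lib.Helper43.SeqFlatBC.quasiRegular_of_flat _ hgflat rs.get hrs)
  have hJ : RingHom.ker (i.stalkMap z).hom =
      Ideal.span (Set.range (rs.map (X.presheaf.germ U (i z) hzU).hom).get) := by
    rw [hk, Set.range_list_get]
  have hne : Ideal.span (Set.range (rs.map (X.presheaf.germ U (i z) hzU).hom).get) ≠ ⊤ := by
    rw [← hJ]
    exact RingHom.ker_ne_top _
  have hsurj : Function.Surjective (i.stalkMap z).hom := i.stalkMap_surjective z
  have hcomp : ((i ≫ f).stalkMap z).hom.Flat := Flat.stalkMap (i ≫ f) z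
  rw [Scheme.Hom.stalkMap_comp] at hcomp
  -- algebra structures
  letI : Algebra (S.presheaf.stalk (f (i z))) (X.presheaf.stalk (i z)) :=
    (f.stalkMap (i z)).hom.toAlgebra
  letI : Algebra (X.presheaf.stalk (i z)) (Z.presheaf.stalk z) := (i.stalkMap z).hom.toAlgebra
  letI : Algebra (S.presheaf.stalk (f (i z))) (Z.presheaf.stalk z) :=
    ((i.stalkMap z).hom.comp (f.stalkMap (i z)).hom).toAlgebra
  haveI : IsScalarTower (S.presheaf.stalk (f (i z))) (X.presheaf.stalk (i z))
      (Z.presheaf.stalk z) := IsScalarTower.of_algebraMap_eq' rfl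
  haveI hZflat : Module.Flat (S.presheaf.stalk (f (i z))) (Z.presheaf.stalk z) := hcomp
  let e := Ideal.quotientKerAlgEquivOfSurjective
    (f := IsScalarTower.toAlgHom (S.presheaf.stalk (f (i z))) (X.presheaf.stalk (i z))
      (Z.presheaf.stalk z)) hsurj
  have hker2 : RingHom.ker (IsScalarTower.toAlgHom (S.presheaf.stalk (f (i z)))
      (X.presheaf.stalk (i z)) (Z.presheaf.stalk z)) =
      Ideal.span (Set.range (rs.map (X.presheaf.germ U (i z) hzU).hom).get) := hJ
  haveI hQ : Module.Flat (S.presheaf.stalk (f (i z)))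
      (X.presheaf.stalk (i z) ⧸ RingHom.ker (IsScalarTower.toAlgHom (S.presheaf.stalk (f (i z)))
      (X.presheaf.stalk (i z)) (Z.presheaf.stalk z))) :=
    Module.Flat.of_linearEquiv e.toLinearEquiv
  rw [hker2] at hQ
  exact Groth.Agent.Lib.Helper43.QRFlat.flat_of_quasiRegular _ hq hne

end Groth.Agent.S8893
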