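import Groth.Statements.S8901
import Groth.Agent.Lib.Helper29.QCohUnit

set_option autoImplicit false
universe u
open CategoryTheory CategoryTheory.Limits AlgebraicGeometry TopologicalSpace
open SDiv

namespace Groth.Agent.S8901

section helpers

open Groth.Agent.Lib.Helper29.QCohLoc

/-- In a local ring with a single prime ideal every nonzerodivisor is a unit. -/
theorem isUnit_of_mem_nonZeroDivisors_of_subsingleton {A : Type*} [CommRing A] [IsLocalRing A]
    (hA : ∀ p q : PrimeSpectrum A, p = q) {r : A} (hr : r ∈ nonZeroDivisors A) : IsUnit r := by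
  by_contra hu
  have hm : r ∈ IsLocalRing.maximalIdeal A := (IsLocalRing.mem_maximalIdeal r).mpr hu
  have hnil : r ∈ nilradical A := by
    rw [nilradical_eq_sInf, Ideal.mem_sInf]
    intro p hp
    have : (⟨p, hp⟩ : PrimeSpectrum A) = IsLocalRing.closedPoint A := hA _ _
    have h2 : p = IsLocalRing.maximalIdeal A := congrArg PrimeSpectrum.asIdeal this
    rw [h2]; exact hm
  obtain ⟨n, hn⟩ := hnil
  exact nonZeroDivisors.ne_zero (pow_mem hr n) hn

/-- A point without proper generizations has a local ring with a single prime. -/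
theorem primeSpectrum_stalk_subsingleton {Y : Scheme.{u}} (y : Y) (hy : ∀ z : Y, z ⤳ y → z = y)
    (p q : PrimeSpectrum (Y.presheaf.stalk y)) : p = q := by
  have hp : (Y.fromSpecStalk y).base p ⤳ y := by
    have : (Y.fromSpecStalk y).base p ∈ Set.range (Y.fromSpecStalk y).base := ⟨p, rfl⟩
    rwa [Scheme.range_fromSpecStalk] at this
  have hq : (Y.fromSpecStalk y).base q ⤳ y := by
    have : (Y.fromSpecStalk y).base q ∈ Set.range (Y.fromSpecStalk y).base := ⟨q, rfl⟩
    rwa [Scheme.range_fromSpecStalk] at this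
  apply (Y.fromSpecStalk y).isEmbedding.injective
  rw [hy _ hp, hy _ hq]

end helpers

/-- Let f : X ⟶ Y be a morphism of schemes under which each weakly associated point of X (of O_X) goes
to a point of Y with no proper generization (the generic point of some irreducible component of Y).
Then pullbacks of meromorphic functions are defined for f: for every open U ⊆ Y and every regular
section s of O_Y over U, the pulled-back section of O_X over f⁻¹U is regular. -/
theorem result {X Y : Scheme.{u}} (f : X ⟶ Y)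
    (h : ∀ x : ↥X, Curv2.IsWeakAssPoint (Coh.structureModule X) x → ∀ y : ↥Y, y ⤳ f x → y = f x)
    (U : Y.Opens) (s : Γ(Y, U)) (hs : s ∈ Mero.regSub Y U) : f.app U s ∈ Mero.regSub X (f ⁻¹ᵁ U) := by
  rintro ⟨x, hx⟩
  change X.presheaf.germ (f ⁻¹ᵁ U) x hx (f.app U s) ∈ nonZeroDivisors _
  rw [mem_nonZeroDivisors_iff_right]
  intro τ hτ
  by_contra hne
  -- represent τ by a section
  obtain ⟨W₀, hxW₀, t₀, rfl⟩ := TopCat.Presheaf.exists_germ_eq X.presheaf (x := x) τ
  -- shrink to W ≤ f⁻¹U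
  let W₁ : X.Opens := W₀ ⊓ f ⁻¹ᵁ U
  have hxW₁ : x ∈ W₁ := ⟨hxW₀, hx⟩
  let t₁ : Γ(X, W₁) := X.presheaf.map (homOfLE inf_le_left).op t₀
  let a₁ : Γ(X, W₁) := X.presheaf.map (homOfLE inf_le_right).op (f.app U s)
  have ht₁ : X.presheaf.germ W₁ x hxW₁ t₁ = X.presheaf.germ W₀ x hxW₀ t₀ :=
    TopCat.Presheaf.germ_res_apply X.presheaf (homOfLE inf_le_left) x hxW₁ t₀
  have ha₁ : X.presheaf.germ W₁ x hxW₁ a₁ = X.presheaf.germ (f ⁻¹ᵁ U) x hx (f.app U s) :=
    TopCat.Presheaf.germ_res_apply X.presheaf (homOfLE inf_le_right) x hxW₁ _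
  have h0 : X.presheaf.germ W₁ x hxW₁ (t₁ * a₁) = X.presheaf.germ W₁ x hxW₁ 0 := by
    rw [map_mul, ht₁, ha₁, hτ, map_zero]
  obtain ⟨W, hxW, iU, iV, hW⟩ := TopCat.Presheaf.germ_eq X.presheaf x hxW₁ hxW₁ _ _ h0
  rw [map_zero, map_mul] at hW
  set t : Γ(X, W) := X.presheaf.map iU.op t₁ with ht
  set a : Γ(X, W) := X.presheaf.map iU.op a₁ with ha
  have htne : t ≠ 0 := by
    intro h0
    apply hne
    rw [← ht₁, ← TopCat.Presheaf.germ_res_apply X.presheaf iU x hxW t₁, ← ht, h0, map_zero]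
  have htne' : Groth.Agent.Lib.Helper29.QCohLoc.ofSec X t ≠ 0 := fun h0 => htne (Groth.Agent.Lib.Helper29.QCohLoc.ofSec_injective X (h0.trans (Groth.Agent.Lib.Helper29.QCohLoc.ofSec_zero X).symm))
  obtain ⟨y, hyW, hyass, hygerm⟩ := Groth.Agent.Lib.Helper29.QCohLoc.exists_isWeakAssPoint_of_section_ne_zero'
    (Coh.structureModule X) (fun V hV => Groth.Agent.Lib.Helper29.QCohLoc.locAt_structureModule X hV) W (Groth.Agent.Lib.Helper29.QCohLoc.ofSec X t) htne'
  rw [Groth.Agent.Lib.Helper29.QCohLoc.germ_ofSec] at hygerm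
  have hyt : X.presheaf.germ W y hyW t ≠ 0 := by
    intro h0
    apply hygerm
    rw [h0, zero_smul]
  have hyU : y ∈ f ⁻¹ᵁ U := (iU.le hyW).2
  -- the germ of s at f y is a unit
  have hunit : IsUnit (Y.presheaf.germ U (f y) hyU s) :=
    isUnit_of_mem_nonZeroDivisors_of_subsingleton
      (primeSpectrum_stalk_subsingleton (f y) (h y hyass)) (hs ⟨f y, hyU⟩)
  have hunit' : IsUnit (X.presheaf.germ (f ⁻¹ᵁ U) y hyU (f.app U s)) := by
    rw [← Scheme.Hom.germ_stalkMap_apply]
    exact hunit.map _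
  have hya : X.presheaf.germ W y hyW a = X.presheaf.germ (f ⁻¹ᵁ U) y hyU (f.app U s) := by
    rw [ha, TopCat.Presheaf.germ_res_apply X.presheaf iU y hyW a₁]
    exact TopCat.Presheaf.germ_res_apply X.presheaf (homOfLE inf_le_right) y (iU.le hyW) _
  have hprod : X.presheaf.germ W y hyW t * X.presheaf.germ W y hyW a = 0 := by
    rw [← map_mul, hW, map_zero]
  rw [hya] at hprod
  exact hyt (hunit'.mul_left_eq_zero.mp hprod)

end Groth.Agent.S8901
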