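import Groth.Statements.S8902
import Mathlib.RingTheory.Flat.Basic
import Mathlib.AlgebraicGeometry.Morphisms.Flat

set_option autoImplicit false
universe u
open CategoryTheory CategoryTheory.Limits AlgebraicGeometry TopologicalSpace
open SDiv

namespace Groth.Agent.S8902

/-- Let f : X ⟶ Y be a flat morphism of schemes. Then pullbacks of meromorphic functions are defined for
f: for every open U ⊆ Y and every regular section s of O_Y over U, the pulled-back section of O_X
over f⁻¹U is regular. -/
theorem result {X Y : Scheme.{u}} (f : X ⟶ Y) [Flat f] (U : Y.Opens) (s : Γ(Y, U))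
    (hs : s ∈ Mero.regSub Y U) : f.app U s ∈ Mero.regSub X (f ⁻¹ᵁ U) := by
  intro x
  change X.presheaf.germ (f ⁻¹ᵁ U) x.1 x.2 (f.app U s) ∈ _
  have hflat : (f.stalkMap x.1).hom.Flat := Flat.stalkMap f x.1
  have hs' := hs ⟨f x.1, x.2⟩
  change Y.presheaf.germ U (f x.1) x.2 s ∈ nonZeroDivisors _ at hs'
  rw [← Scheme.Hom.germ_stalkMap_apply f U x.1 x.2 s]
  letI := (f.stalkMap x.1).hom.toAlgebra
  haveI : Module.Flat (Y.presheaf.stalk (f x.1)) (X.presheaf.stalk x.1) := hflat
  have hreg : IsSMulRegular (Y.presheaf.stalk (f x.1)) (Y.presheaf.germ U (f x.1) x.2 s) := by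
    rw [isSMulRegular_iff_right_eq_zero_of_smul]
    intro r hr
    rw [mem_nonZeroDivisors_iff] at hs'
    exact hs'.1 r (by simpa [smul_eq_mul] using hr)
  have := IsSMulRegular.of_flat (S := X.presheaf.stalk x.1) hreg
  rw [mem_nonZeroDivisors_iff_right]
  intro r hr
  rw [isSMulRegular_iff_right_eq_zero_of_smul] at this
  apply this r
  rw [smul_eq_mul, mul_comm]
  exact hr

end Groth.Agent.S8902
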