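import Groth.Statements.S8910
import Groth.Agent.Lib.Helper41.ReesProj

set_option autoImplicit false
universe u
open CategoryTheory CategoryTheory.Limits AlgebraicGeometry TopologicalSpace
open SDiv

namespace Groth.Agent.S8910

/-- Let X be a scheme, 𝓘 a quasi-coherent ideal sheaf of finite type on X and b : X' ⟶ X a blowing up of
X in 𝓘. Then b is projective: X' is isomorphic over X to the relative Proj of a quasi-coherent
graded O_X-algebra generated by its degree-one part, which is of finite type. This row does not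
assert that O_{X'}(1) is relatively ample over X. -/
theorem result {X X' : Scheme.{u}} (𝓘 : X.IdealSheafData) (h𝓘 : BlowUp.IsFiniteTypeIdeal 𝓘)
    (b : X' ⟶ X) (hb : BlowUp.IsBlowUp b 𝓘) : RelProj.IsProjective b := by
  have hP := Groth.Agent.Lib.Helper41.ReesProj.isBlowUp_relProjHom 𝓘
  obtain ⟨c, hc, -⟩ := hP.2 X' b hb.1
  haveI : IsIso c := Groth.Agent.Lib.Helper41.BlowUpExist.isIso_of_isBlowUp 𝓘 b
    (Groth.Agent.Lib.Helper74.RelProjLib.relProjHom (Groth.Agent.Lib.Helper41.ReesQC.reesGr 𝓘))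
    hb hP c hc
  exact ⟨Groth.Agent.Lib.Helper41.ReesQC.reesGr 𝓘,
    Groth.Agent.Lib.Helper74.RelProjLib.relProj (Groth.Agent.Lib.Helper41.ReesQC.reesGr 𝓘),
    Groth.Agent.Lib.Helper74.RelProjLib.relProjHom (Groth.Agent.Lib.Helper41.ReesQC.reesGr 𝓘),
    Groth.Agent.Lib.Helper74.RelProjLib.relProjChart (Groth.Agent.Lib.Helper41.ReesQC.reesGr 𝓘),
    asIso c,
    Groth.Agent.Lib.Helper41.ReesQC.isGenDegOne_reesGr 𝓘,
    Groth.Agent.Lib.Helper41.ReesQC.isFTDeg_one_reesGr 𝓘 h𝓘,
    Groth.Agent.Lib.Helper74.RelProjLib.isRelProj_relProj (Groth.Agent.Lib.Helper41.ReesQC.reesGr 𝓘),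
    hc⟩

end Groth.Agent.S8910
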