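import Groth.Statements.S8911
import Groth.Agent.S8874
import Groth.Agent.Lib.Helper2.FittPullback
import Groth.Agent.Lib.Helper75.Fitting22
import Groth.Agent.Lib.Helper21.StrictTransQCoh

set_option autoImplicit false
universe u
open CategoryTheory CategoryTheory.Limits AlgebraicGeometry TopologicalSpace
open SDiv

namespace Groth.Agent.S8911

/-- Let S be a scheme, F a quasi-coherent O_S-module of finite type, k ≥ 0, b : S' ⟶ S a blowing up of S
in the closed subscheme Z_k cut out by Fit_k(F), and π : b^*F ⟶ G the strict transform of F along b.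
Then G can locally be generated by at most k sections. -/
theorem result (S : Scheme.{u}) (F : S.Modules) (hF : Coh.IsQCoh F) (hft : CohB1.IsFT F)
    (k : ℕ) {S' : Scheme.{u}} (b : S' ⟶ S) (hb : BlowUp.IsBlowUp b (Fitt.sheafIdeal F k)) (G : S'.Modules)
    (π : (Scheme.Modules.pullback b).obj F ⟶ G) (hG : BlowUp.IsStrictTransform b (Fitt.sheafIdeal F k) F G π) (s' : ↥S') :
    ∃ U : S'.Opens, s' ∈ U ∧ ∃ q : FlatMod.freeMod (↑U) k ⟶ G.restrict U.ι, Epi q := by
  have hFq : F.IsQuasicoherent := hF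
  have hFt : SheafOfModules.IsFiniteType (R := S.ringCatSheaf) F := hft
  have hfinF : ∀ V : S.affineOpens, Module.Finite Γ(S, V.1) Γ(F, V.1) :=
    fun V => Groth.Agent.Lib.Helper2.FinTypeAff.finite_sections F V.2
  have hfinP := Groth.Agent.Lib.Helper2.FittSheaf.finite_sections_pullback b F hfinF
  have hcomap := Groth.Agent.Lib.Helper2.FittSheaf.sheafIdeal_comap b F hfinF k
  have hE := hb.1
  have hGq : G.IsQuasicoherent :=
    Groth.Agent.Lib.Helper21.StrictTransQCoh.isQuasicoherent b _ F G π hE hG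
  have hfinG : ∀ V : S'.affineOpens, Module.Finite Γ(S', V.1) Γ(G, V.1) := fun V => by
    haveI := hfinP V
    exact Groth.Agent.Lib.Helper21.StrictTransQCoh.finite_sections b _ F G π hE hG V.2
  have hGft : CohB1.IsFT G := by
    apply Groth.Agent.Lib.Lead.CohAff.isFiniteType_of_finite_sections
    intro x
    obtain ⟨_, ⟨V, hV, rfl⟩, hxV, -⟩ :=
      S'.isBasis_affineOpens.exists_subset_of_mem_open (Set.mem_univ x) isOpen_univ
    exact ⟨V, hV, hxV, hfinG ⟨V, hV⟩⟩
  apply (Groth.Agent.S8874.result S' G hGq hGft s' k).2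
  obtain ⟨W, hs'W, t, -, hWt⟩ := hE s'
  haveI := hfinP W
  have hFit : Fitt.ideal Γ(S', W.1) Γ((Scheme.Modules.pullback b).obj F, W.1) k = Ideal.span {t} := by
    rw [← Groth.Agent.Lib.Helper2.FittSheaf.sheafIdeal_ideal' _ hfinP k W, ← hcomap]
    exact hWt
  have hQ := Groth.Agent.Lib.Helper75.Fitting.fitt_quot_powTorsion_eq_top t k hFit
  rw [Groth.Agent.Lib.Helper75.Fitting.fitt_congr
    (Groth.Agent.Lib.Helper21.StrictTransQCoh.sectionsEquiv b _ F G π hE hG W t hWt) k] at hQ
  rw [Scheme.IdealSheafData.mem_support_iff_of_mem (U := W) hs'W,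
    Groth.Agent.Lib.Helper2.FittSheaf.sheafIdeal_ideal' G hfinG k W, hQ]
  simpa using hs'W

end Groth.Agent.S8911
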