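import Groth.Statements.S8912
import Groth.Agent.S8875
import Groth.Agent.Lib.Helper2.FittPullback
import Groth.Agent.Lib.Helper75.Fitting22
import Groth.Agent.Lib.Helper21.StrictTransQCoh
import Groth.Agent.Lib.Helper21.FittStrict

set_option autoImplicit false
universe u
open CategoryTheory CategoryTheory.Limits AlgebraicGeometry TopologicalSpace
open SDiv

namespace Groth.Agent.S8912

/-- Let S be a scheme, F a quasi-coherent O_S-module of finite type and k ≥ 0 such that F is locally
free of rank k on the complement of the closed subscheme Z_k cut out by Fit_k(F). Let b : S' ⟶ S be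
a blowing up of S in Z_k and π : b^*F ⟶ G the strict transform of F. Then G is finite locally free
of rank k. -/
theorem result (S : Scheme.{u}) (F : S.Modules) (hF : Coh.IsQCoh F) (hft : CohB1.IsFT F)
    (k : ℕ) (hfree : FlatMod.IsFinLocFreeOfRank k (F.restrict (Scheme.Opens.ι (Fitt.sheafIdeal F k).support.compl)))
    {S' : Scheme.{u}} (b : S' ⟶ S) (hb : BlowUp.IsBlowUp b (Fitt.sheafIdeal F k)) (G : S'.Modules)
    (π : (Scheme.Modules.pullback b).obj F ⟶ G) (hG : BlowUp.IsStrictTransform b (Fitt.sheafIdeal F k) F G π) :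
    FlatMod.IsFinLocFreeOfRank k G := by
  have hFq : F.IsQuasicoherent := hF
  have hFt : SheafOfModules.IsFiniteType (R := S.ringCatSheaf) F := hft
  have hfinF : ∀ V : S.affineOpens, Module.Finite Γ(S, V.1) Γ(F, V.1) :=
    fun V => Groth.Agent.Lib.Helper2.FinTypeAff.finite_sections F V.2
  have hfinP := Groth.Agent.Lib.Helper2.FittSheaf.finite_sections_pullback b F hfinF
  have hE := hb.1
  have hGq : G.IsQuasicoherent :=
    Groth.Agent.Lib.Helper21.StrictTransQCoh.isQuasicoherent b _ F G π hE hG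
  have hfinG : ∀ V : S'.affineOpens, Module.Finite Γ(S', V.1) Γ(G, V.1) := fun V => by
    haveI := hfinP V
    exact Groth.Agent.Lib.Helper21.StrictTransQCoh.finite_sections b _ F G π hE hG V.2
  have hGft : CohB1.IsFT G := by
    apply Groth.Agent.Lib.Lead.CohAff.isFiniteType_of_finite_sections
    intro x
    obtain ⟨_, ⟨V, hV, rfl⟩, hxV, -⟩ :=
      S'.isBasis_affineOpens.exists_subset_of_mem_open (Set.mem_univ x) isOpen_univ
    exact ⟨V, hV, hxV, hfinG ⟨V, hV⟩⟩
  apply (Groth.Agent.S8875.result S' G hGq hGft k).2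
  choose W hxW t htnzd hWt using hE
  have hcov : ⨆ x, (W x).1 = ⊤ := by
    rw [eq_top_iff]
    intro x _
    rw [TopologicalSpace.Opens.mem_iSup]
    exact ⟨x, hxW x⟩
  have hFit : ∀ x, Fitt.ideal Γ(S', (W x).1) Γ((Scheme.Modules.pullback b).obj F, (W x).1) k =
      Ideal.span {t x} := fun x => by
    rw [← Groth.Agent.Lib.Helper2.FittSheaf.sheafIdeal_ideal' _ hfinP k (W x),
      ← Groth.Agent.Lib.Helper2.FittSheaf.sheafIdeal_comap b F hfinF k]
    exact hWt x
  constructor
  · intro j hj
    refine Scheme.IdealSheafData.ext_of_iSup_eq_top W hcov (fun x => ?_)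
    haveI := hfinP (W x)
    rw [Groth.Agent.Lib.Helper2.FittSheaf.sheafIdeal_ideal' G hfinG j (W x),
      ← Groth.Agent.Lib.Helper75.Fitting.fitt_congr
        (Groth.Agent.Lib.Helper21.StrictTransQCoh.sectionsEquiv b _ F G π hb.1 hG (W x) (t x)
          (hWt x)) j]
    change _ = ⊥
    rw [eq_bot_iff]
    intro d hd
    rw [Ideal.mem_bot]
    obtain ⟨N, hN⟩ :=
      Groth.Agent.Lib.Helper75.Fitting.exists_pow_mul_mem_fitt_of_mem_fitt_quot (t x) j d hd
    rw [← Groth.Agent.Lib.Helper2.FittSheaf.sheafIdeal_ideal' _ hfinP j (W x),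
      ← Groth.Agent.Lib.Helper2.FittSheaf.sheafIdeal_comap b F hfinF j] at hN
    obtain ⟨N', hN'⟩ := Groth.Agent.Lib.Helper21.FittStrict.exists_pow_mul_eq_zero F hfinF k hfree
      b (W x) (t x) (hWt x) j hj _ hN
    rw [← mul_assoc, ← pow_add] at hN'
    exact (mul_left_mem_nonZeroDivisors_eq_zero_iff (pow_mem (htnzd x) (N' + N))).1
      hN'
  · intro j hj
    refine Scheme.IdealSheafData.ext_of_iSup_eq_top W hcov (fun x => ?_)
    haveI := hfinP (W x)
    haveI := hfinG (W x)
    have hQ := Groth.Agent.Lib.Helper75.Fitting.fitt_quot_powTorsion_eq_top (t x) k (hFit x)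
    rw [Groth.Agent.Lib.Helper75.Fitting.fitt_congr
      (Groth.Agent.Lib.Helper21.StrictTransQCoh.sectionsEquiv b _ F G π hb.1 hG (W x) (t x)
        (hWt x)) k] at hQ
    rw [Groth.Agent.Lib.Helper2.FittSheaf.sheafIdeal_ideal' G hfinG j (W x)]
    change _ = ⊤
    exact top_le_iff.1 (hQ ▸ Groth.Agent.Lib.Helper75.Fitting.fitt_mono hj)

end Groth.Agent.S8912
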